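import Mathlib
import Groth.Prelude.Def_LambdaSp

/-!
Over a `ℚ`-algebra the λ-operations are determined by the Adams operations through Newton's
identities; multiplicative Adams operations give a special λ-ring.
-/

namespace Groth.Agent.AdamsSp

open MvPolynomial Finset

universe u v

variable {R : Type u} [CommRing R] [Algebra ℚ R]

/-- The "elementary" sequence attached to a sequence of power sums. -/
noncomputable def E (p : ℕ → R) : ℕ → R
  | 0 => 1
  | m + 1 => algebraMap ℚ R (((m : ℚ) + 1)⁻¹) *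
      ∑ i : Fin (m + 1), (-1) ^ (i : ℕ) * p ((i : ℕ) + 1) * E p (m - i)
decreasing_by omega

/-- The power sums attached to an elementary sequence. -/
noncomputable def W (e : ℕ → R) : ℕ → R
  | 0 => 0
  | m + 1 => (-1) ^ m * (((m : R) + 1) * e (m + 1) -
      ∑ i : Fin m, (-1) ^ (i : ℕ) * W e ((i : ℕ) + 1) * e (m - i))
decreasing_by omega

lemma map_E {S : Type v} [CommRing S] [Algebra ℚ S] (g : R →+* S) (p : ℕ → R) (n : ℕ) :
    g (E p n) = E (fun k => g (p k)) n := by
  induction n using Nat.strong_induction_on with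
  | _ n ih =>
    rcases n with _ | m
    · rw [E, E, map_one]
    · rw [E, E, map_mul, RingHom.map_rat_algebraMap, map_sum]
      refine congrArg _ (Finset.sum_congr rfl fun i _ => ?_)
      rw [map_mul, map_mul, map_pow, map_neg, map_one, ih (m - i) (by omega)]

lemma E_congr (p q : ℕ → R) (n : ℕ) (h : ∀ k, 1 ≤ k → k ≤ n → p k = q k) : E p n = E q n := by
  induction n using Nat.strong_induction_on with
  | _ n ih =>
    rcases n with _ | m
    · rw [E, E]
    · rw [E, E]
      refine congrArg _ (Finset.sum_congr rfl fun i _ => ?_)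
      rw [h _ (by omega) (by omega), ih (m - i) (by omega) fun k hk hk' => h k hk (by omega)]

omit [Algebra ℚ R] in
lemma map_W {S : Type v} [CommRing S] (g : R →+* S) (e : ℕ → R) (n : ℕ) :
    g (W e n) = W (fun k => g (e k)) n := by
  induction n using Nat.strong_induction_on with
  | _ n ih =>
    rcases n with _ | m
    · rw [W, W, map_zero]
    · rw [W, W, map_mul, map_pow, map_neg, map_one, map_sub, map_mul, map_add, map_natCast, map_one,
        map_sum]
      refine congrArg _ (congrArg _ (Finset.sum_congr rfl fun i _ => ?_))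
      rw [map_mul, map_mul, map_pow, map_neg, map_one, ih ((i : ℕ) + 1) (by omega)]

omit [Algebra ℚ R] in
lemma W_congr (e f : ℕ → R) (n : ℕ) (h : ∀ k, k ≤ n → e k = f k) : W e n = W f n := by
  induction n using Nat.strong_induction_on with
  | _ n ih =>
    rcases n with _ | m
    · rw [W, W]
    · rw [W, W, h (m + 1) le_rfl]
      refine congrArg _ (congrArg _ (Finset.sum_congr rfl fun i _ => ?_))
      rw [h (m - i) (by omega), ih ((i : ℕ) + 1) (by omega) fun k hk => h k (by omega)]

/-- Newton's relation. -/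
def Rel (a q : ℕ → R) (m : ℕ) : Prop :=
  ((m : R) + 1) * a (m + 1) = ∑ i : Fin (m + 1), (-1) ^ (i : ℕ) * q ((i : ℕ) + 1) * a (m - i)

lemma E_eq_of_rel {a q : ℕ → R} (h0 : a 0 = 1) (n : ℕ) (h : ∀ m < n, Rel a q m) : E q n = a n := by
  induction n using Nat.strong_induction_on with
  | _ n ih =>
    rcases n with _ | m
    · rw [E, h0]
    · have hs : ∑ i : Fin (m + 1), (-1 : R) ^ (i : ℕ) * q ((i : ℕ) + 1) * E q (m - i) =
          ((m : R) + 1) * a (m + 1) := by
        rw [h m (by omega)]
        refine Finset.sum_congr rfl fun i _ => ?_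
        rw [ih (m - i) (by omega) fun k hk => h k (by omega)]
      rw [E, hs, show ((m : R) + 1) = algebraMap ℚ R ((m : ℚ) + 1) by simp, ← mul_assoc, ← map_mul,
        inv_mul_cancel₀ (by positivity), map_one, one_mul]

omit [Algebra ℚ R] in
lemma W_eq_of_rel {a q : ℕ → R} (h0 : a 0 = 1) (n : ℕ) (hn : 1 ≤ n) (h : ∀ m < n, Rel a q m) :
    W a n = q n := by
  induction n using Nat.strong_induction_on with
  | _ n ih =>
    obtain ⟨m, rfl⟩ : ∃ m, n = m + 1 := ⟨n - 1, by omega⟩
    have hr := h m (by omega)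
    rw [Rel, Fin.sum_univ_castSucc] at hr
    simp only [Fin.val_castSucc, Fin.val_last, Nat.sub_self, h0, mul_one] at hr
    rw [W, hr]
    have hs : ∑ i : Fin m, (-1 : R) ^ (i : ℕ) * W a ((i : ℕ) + 1) * a (m - i) =
        ∑ i : Fin m, (-1 : R) ^ (i : ℕ) * q ((i : ℕ) + 1) * a (m - i) :=
      Finset.sum_congr rfl fun i _ => by
        rw [ih ((i : ℕ) + 1) (by omega) (by omega) fun k hk => h k (by omega)]
    rw [hs, add_sub_cancel_left, ← mul_assoc, ← mul_pow, neg_mul_neg, one_mul, one_pow, one_mul]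

/-- Newton's identities for a finite family. -/
lemma rel_esymm {σ : Type*} (s : Finset σ) (f : σ → R) (m : ℕ) :
    Rel (fun n => (s.val.map f).esymm n) (fun k => ∑ x ∈ s, f x ^ k) m := by
  classical
  have h := congrArg (aeval (R := ℚ) fun x : s => f x) (mul_esymm_eq_sum s ℚ (m + 1))
  have he : ∀ n, aeval (R := ℚ) (fun x : s => f x) (esymm s ℚ n) = (s.val.map f).esymm n := fun n => by
    rw [aeval_esymm_eq_multiset_esymm]
    congr 1
    exact Multiset.attach_map_val' s.val f
  have hp : ∀ k, aeval (R := ℚ) (fun x : s => f x) (psum s ℚ k) = ∑ x ∈ s, f x ^ k := fun k => by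
    rw [psum, map_sum]
    simp only [map_pow, aeval_X]
    exact Finset.sum_coe_sort s (fun x => f x ^ k)
  simp only [map_mul, map_natCast, map_pow, map_neg, map_one, map_sum, he, hp] at h
  rw [Rel]
  push_cast at h
  rw [h, Fin.sum_univ_eq_sum_range
    (fun i => (-1 : R) ^ i * (∑ x ∈ s, f x ^ (i + 1)) * (s.val.map f).esymm (m - i))]
  rw [Finset.sum_filter, Finset.Nat.sum_antidiagonal_eq_sum_range_succ_mk, Finset.mul_sum,
    Finset.sum_range_succ, if_neg (lt_irrefl _), mul_zero, add_zero,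
    ← Finset.sum_range_reflect (fun i => (-1 : R) ^ i * (∑ x ∈ s, f x ^ (i + 1)) *
      (s.val.map f).esymm (m - i))]
  refine Finset.sum_congr rfl fun i hi => ?_
  have hi' : i < m + 1 := Finset.mem_range.1 hi
  rw [if_pos hi', show m + 1 - 1 - i + 1 = m + 1 - i by omega, show m + 1 - 1 - i = m - i by omega,
    show m - (m - i) = i by omega]
  have : (-1 : R) ^ (m + 1 + 1) * (-1) ^ i = (-1) ^ (m - i) := by
    rw [← pow_add, show m + 1 + 1 + i = (m - i) + 2 * (i + 1) by omega, pow_add, pow_mul]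
    simp
  rw [← this]
  ring

lemma esymm_eq_E {σ : Type*} (s : Finset σ) (f : σ → R) (n : ℕ) :
    (s.val.map f).esymm n = E (fun k => ∑ x ∈ s, f x ^ k) n :=
  (E_eq_of_rel (a := fun n => (s.val.map f).esymm n) (by simp [Multiset.esymm]) n
    fun m _ => rel_esymm s f m).symm

/-- Formal elementary sequence of variables. -/
noncomputable def eX {ι : Type*} (n : ℕ) (emb : Fin n → ι) (k : ℕ) : MvPolynomial ι ℚ :=
  if h : 1 ≤ k ∧ k ≤ n then X (emb ⟨k - 1, by omega⟩) else if k = 0 then 1 else 0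

lemma map_eX {ι : Type*} {S : Type v} [CommRing S] (n : ℕ) (emb : Fin n → ι)
    (g : MvPolynomial ι ℚ →+* S) (a : ℕ → S) (ha0 : a 0 = 1)
    (ha : ∀ i : Fin n, g (X (emb i)) = a ((i : ℕ) + 1)) (k : ℕ) (hk : k ≤ n) :
    g (eX n emb k) = a k := by
  rcases Nat.eq_zero_or_pos k with rfl | hpos
  · rw [eX, dif_neg (by omega), if_pos rfl, map_one, ha0]
  · rw [eX, dif_pos ⟨hpos, hk⟩, ha]
    congr 1
    simp only
    omega

omit [Algebra ℚ R] in
lemma esymm_injective (n : ℕ) (A : Type*) [CommRing A] : Function.Injective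
    (aeval (fun i : Fin n => esymm (Fin n) A ((i : ℕ) + 1)) :
      MvPolynomial (Fin n) A → MvPolynomial (Fin n) A) := by
  intro p q h
  apply esymmAlgHom_fin_injective A (n := n) (m := n) le_rfl
  apply Subtype.ext
  rw [esymmAlgHom_apply, esymmAlgHom_apply]
  exact h

omit [Algebra ℚ R] in
/-- Independence of the elementary symmetric polynomials in two families. -/
lemma esymm_two_injective (n : ℕ) : Function.Injective
    (aeval (Sum.elim (fun k : Fin n => rename Sum.inl (esymm (Fin n) ℚ ((k : ℕ) + 1)))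
      (fun k : Fin n => rename Sum.inr (esymm (Fin n) ℚ ((k : ℕ) + 1)))) :
      MvPolynomial (Fin n ⊕ Fin n) ℚ → MvPolynomial (Fin n ⊕ Fin n) ℚ) := by
  set Θ := aeval (R := ℚ) (Sum.elim (fun k : Fin n => rename Sum.inl (esymm (Fin n) ℚ ((k : ℕ) + 1)))
      (fun k : Fin n => rename Sum.inr (esymm (Fin n) ℚ ((k : ℕ) + 1))))
  set e := sumAlgEquiv ℚ (Fin n) (Fin n)
  set θ := aeval (R := ℚ) (fun i : Fin n => esymm (Fin n) ℚ ((i : ℕ) + 1))
  set Ψ := aeval (R := MvPolynomial (Fin n) ℚ)
    (fun i : Fin n => esymm (Fin n) (MvPolynomial (Fin n) ℚ) ((i : ℕ) + 1))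
  have hl : ∀ p : MvPolynomial (Fin n) ℚ, e (rename Sum.inl p) = map (C : ℚ →+* _) p := fun p => by
    induction p using MvPolynomial.induction_on with
    | C a => simp [e]
    | add p q hp hq => simp [hp, hq]
    | mul_X p l hp => simp [hp, e]
  have hr : ∀ p : MvPolynomial (Fin n) ℚ, e (rename Sum.inr p) = C p := fun p => by
    induction p using MvPolynomial.induction_on with
    | C a => simp [e]
    | add p q hp hq => simp [hp, hq]
    | mul_X p l hp => simp [hp, e]
  have hcomp : ∀ p, e (Θ p) = Ψ (map (θ : MvPolynomial (Fin n) ℚ →+* _) (e p)) := fun p => by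
    induction p using MvPolynomial.induction_on with
    | C a => simp [e, Θ, Ψ, θ]
    | add p q hp hq => simp [hp, hq]
    | mul_X p l hp =>
      rw [map_mul Θ, map_mul e, map_mul e p, map_mul (MvPolynomial.map _), map_mul Ψ, hp]
      congr 1
      rcases l with l | l
      · simp only [Θ, aeval_X, Sum.elim_inl, hl]
        simp [e, Ψ, map_esymm]
      · simp only [Θ, aeval_X, Sum.elim_inr, hr]
        simp [e, Ψ, θ]
  intro p q h
  have h' := congrArg e h
  rw [hcomp, hcomp] at h'
  exact e.injective (map_injective _ (esymm_injective n ℚ) (esymm_injective n _ h'))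

open LambdaRing in
omit [Algebra ℚ R] in
/-- The universal product polynomial over `ℚ` through power sums. -/
theorem mulPoly_eq (n : ℕ) (P : MvPolynomial (Fin n ⊕ Fin n) ℤ)
    (hP : aeval (Sum.elim (fun k : Fin n => rename Sum.inl (esymm (Fin n) ℤ ((k : ℕ) + 1)))
      (fun k : Fin n => rename Sum.inr (esymm (Fin n) ℤ ((k : ℕ) + 1)))) P = mulGen n n) :
    (aeval X P : MvPolynomial (Fin n ⊕ Fin n) ℚ) =
      E (fun k => W (eX n (Sum.inl : Fin n → Fin n ⊕ Fin n)) k *
        W (eX n (Sum.inr : Fin n → Fin n ⊕ Fin n)) k) n := by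
  let eT := eX n (Sum.inl : Fin n → Fin n ⊕ Fin n)
  let eU := eX n (Sum.inr : Fin n → Fin n ⊕ Fin n)
  let PQ : MvPolynomial (Fin n ⊕ Fin n) ℚ := aeval X P
  let Θ := aeval (R := ℚ) (Sum.elim (fun k : Fin n => rename Sum.inl (esymm (Fin n) ℚ ((k : ℕ) + 1)))
      (fun k : Fin n => rename Sum.inr (esymm (Fin n) ℚ ((k : ℕ) + 1))))
  apply esymm_two_injective n
  change Θ PQ = Θ _
  have hW : ∀ (emb : Fin n → Fin n ⊕ Fin n),
      (∀ i : Fin n, Θ (X (emb i)) = rename emb (esymm (Fin n) ℚ ((i : ℕ) + 1))) →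
      ∀ k, 1 ≤ k → k ≤ n → Θ (W (eX n emb) k) = ∑ a : Fin n, X (emb a) ^ k := by
    intro emb hemb k hk hk'
    have hren : ∀ i, rename emb (esymm (Fin n) ℚ i) =
        ((Finset.univ : Finset (Fin n)).val.map fun a => X (emb a)).esymm i := fun i => by
      rw [rename_eq, aeval_def] at *
      rw [← aeval_def, aeval_esymm_eq_multiset_esymm]
      rfl
    rw [← RingHom.coe_coe, map_W, W_congr _ (fun i => ((Finset.univ : Finset (Fin n)).val.map
      fun a => (X (emb a) : MvPolynomial (Fin n ⊕ Fin n) ℚ)).esymm i) k fun i hi =>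
        map_eX n emb _ _ (by simp [Multiset.esymm]) (fun j => by
          rw [RingHom.coe_coe, hemb, hren]) i (hi.trans hk')]
    exact W_eq_of_rel (by simp [Multiset.esymm]) k hk fun m _ =>
      rel_esymm (Finset.univ : Finset (Fin n)) (fun a => X (emb a)) m
  rw [show Θ (E (fun k => W eT k * W eU k) n) = E (fun k => Θ (W eT k * W eU k)) n from
      map_E Θ.toRingHom _ n,
    E_congr _ (fun k => ∑ p ∈ (Finset.univ : Finset (Fin n × Fin n)),
      (X (Sum.inl p.1) * X (Sum.inr p.2) : MvPolynomial (Fin n ⊕ Fin n) ℚ) ^ k) n fun k hk hk' => by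
        simp only [map_mul, mul_pow]
        rw [hW Sum.inl (fun i => by simp [Θ]) k hk hk', hW Sum.inr (fun i => by simp [Θ]) k hk hk',
          Finset.sum_mul_sum, Fintype.sum_prod_type],
    ← esymm_eq_E]
  have e1 : Θ PQ = map (Int.castRingHom ℚ) (aeval (Sum.elim
      (fun k : Fin n => rename Sum.inl (esymm (Fin n) ℤ ((k : ℕ) + 1)))
      (fun k : Fin n => rename Sum.inr (esymm (Fin n) ℤ ((k : ℕ) + 1)))) P) := by
    change (Θ.toRingHom) (aeval X P) = _
    rw [aeval_def, eval₂_comp_left, aeval_def, eval₂_comp_left (map (Int.castRingHom ℚ))]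
    congr 1
    · exact RingHom.ext_int _ _
    · funext i
      rcases i with i | i <;> simp [Θ, map_rename, map_esymm]
  rw [e1, hP, mulGen]
  rw [Finset.esymm_map_val, map_sum, Finset.esymm_map_val]
  simp only [map_prod, map_mul, map_X]

open LambdaRing in
omit [Algebra ℚ R] in
/-- The universal composition polynomial over `ℚ` through power sums. -/
theorem compPoly_eq (i j : ℕ) (Q : MvPolynomial (Fin (i * j)) ℤ)
    (hQ : aeval (fun k : Fin (i * j) => esymm (Fin (i * j)) ℤ ((k : ℕ) + 1)) Q = compGen (i * j) i j) :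
    (aeval X Q : MvPolynomial (Fin (i * j)) ℚ) =
      E (fun k => E (fun l => W (eX (i * j) (id : Fin (i * j) → Fin (i * j))) (l * k)) i) j := by
  classical
  let eT := eX (i * j) (id : Fin (i * j) → Fin (i * j))
  let QQ : MvPolynomial (Fin (i * j)) ℚ := aeval X Q
  let Θ := aeval (R := ℚ) (fun k : Fin (i * j) => esymm (Fin (i * j)) ℚ ((k : ℕ) + 1))
  have hle : ∀ k l, k ≤ j → l ≤ i → l * k ≤ i * j := fun k l hk hl => Nat.mul_le_mul hl hk
  apply esymm_injective (i * j) ℚ
  change Θ QQ = Θ _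
  have hW : ∀ k, 1 ≤ k → k ≤ i * j → Θ (W eT k) = ∑ a : Fin (i * j), X a ^ k := by
    intro k hk hk'
    rw [← RingHom.coe_coe, map_W, W_congr _ (fun i' => ((Finset.univ : Finset (Fin (i * j))).val.map
      fun a => (X a : MvPolynomial (Fin (i * j)) ℚ)).esymm i') k fun i' hi =>
        map_eX (i * j) id _ _ (by simp [Multiset.esymm]) (fun t => by
          rw [RingHom.coe_coe]
          simp [Θ, esymm_eq_multiset_esymm]) i' (hi.trans hk')]
    exact W_eq_of_rel (by simp [Multiset.esymm]) k hk fun m _ =>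
      rel_esymm (Finset.univ : Finset (Fin (i * j))) (fun a => X a) m
  rw [show Θ (E (fun k => E (fun l => W eT (l * k)) i) j) =
      E (fun k => Θ (E (fun l => W eT (l * k)) i)) j from map_E Θ.toRingHom _ j,
    E_congr _ (fun k => ∑ s ∈ (Finset.univ : Finset (Fin (i * j))).powersetCard i,
      (∏ a ∈ s, X a : MvPolynomial (Fin (i * j)) ℚ) ^ k) j fun k hk hk' => by
        rw [show Θ (E (fun l => W eT (l * k)) i) = E (fun l => Θ (W eT (l * k))) i from
            map_E Θ.toRingHom _ i,
          E_congr _ (fun l => ∑ a : Fin (i * j), (X a ^ k : MvPolynomial (Fin (i * j)) ℚ) ^ l) i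
            fun l hl hl' => by
              rw [hW (l * k) (Nat.mul_pos hl hk) (hle k l hk' hl')]
              exact Finset.sum_congr rfl fun a _ => by rw [← pow_mul, Nat.mul_comm k l],
          ← esymm_eq_E, Finset.esymm_map_val]
        exact Finset.sum_congr rfl fun s _ => Finset.prod_pow _ _ _,
    ← esymm_eq_E]
  have e1 : Θ QQ = map (Int.castRingHom ℚ)
      (aeval (fun k : Fin (i * j) => esymm (Fin (i * j)) ℤ ((k : ℕ) + 1)) Q) := by
    change (Θ.toRingHom) (aeval X Q) = _
    rw [aeval_def, eval₂_comp_left, aeval_def, eval₂_comp_left (map (Int.castRingHom ℚ))]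
    congr 1
    · exact RingHom.ext_int _ _
    · funext t
      simp [Θ, map_esymm]
  rw [e1, hQ, compGen]
  rw [Finset.esymm_map_val, map_sum, Finset.esymm_map_val]
  simp only [map_prod, map_X]

section Lambda

open LambdaRing

variable {K : Type u} [CommRing K] [LambdaOps K]

lemma constantCoeff_lamSeries (x : K) : PowerSeries.constantCoeff (lamSeries x) = 1 := by
  rw [lamSeries, PowerSeries.constantCoeff_mk, LambdaOps.lam_zero]

lemma lamSeries_mul_inv (x : K) : lamSeries x * (lamSeries x).invOfUnit 1 = 1 :=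
  PowerSeries.mul_invOfUnit _ _ (by rw [constantCoeff_lamSeries, Units.val_one])

lemma rel_adams (x : K) (m : ℕ) : Rel (fun n => LambdaOps.lam n x) (fun k => adamsOp k x) m := by
  have h : logDerivSeries x * lamSeries x = PowerSeries.derivative K (lamSeries x) := by
    rw [logDerivSeries, mul_assoc, mul_comm ((lamSeries x).invOfUnit 1), lamSeries_mul_inv, mul_one]
  have hm := congrArg (PowerSeries.coeff m) h
  rw [PowerSeries.coeff_derivative, PowerSeries.coeff_mul,
    Finset.Nat.sum_antidiagonal_eq_sum_range_succ_mk, lamSeries, PowerSeries.coeff_mk] at hm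
  rw [Rel, mul_comm, ← hm, Fin.sum_univ_eq_sum_range
    (fun i => (-1 : K) ^ i * adamsOp (i + 1) x * LambdaOps.lam (m - i) x)]
  refine Finset.sum_congr rfl fun i _ => ?_
  rw [adamsOp, ← mul_assoc, ← mul_pow, neg_mul_neg, one_mul, one_pow, one_mul]
  simp [lamSeries]

lemma lam_eq_E [Algebra ℚ K] (x : K) (n : ℕ) :
    LambdaOps.lam n x = E (fun k => adamsOp k x) n :=
  (E_eq_of_rel (a := fun n => LambdaOps.lam n x) (LambdaOps.lam_zero x) n
    fun m _ => rel_adams x m).symm

lemma adamsOp_add (k : ℕ) (x y : K) : adamsOp k (x + y) = adamsOp k x + adamsOp k y := by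
  rcases k with _ | k
  · simp [adamsOp]
  have hl : lamSeries (x + y) = lamSeries x * lamSeries y := by
    ext n
    rw [PowerSeries.coeff_mul, Finset.Nat.sum_antidiagonal_eq_sum_range_succ_mk, lamSeries,
      PowerSeries.coeff_mk, LambdaOps.lam_add]
    refine Finset.sum_congr rfl fun i _ => ?_
    simp [lamSeries]
  have hD : logDerivSeries (x + y) = logDerivSeries x + logDerivSeries y := by
    have hu : IsUnit (lamSeries (x + y)) := IsUnit.of_mul_eq_one _ (lamSeries_mul_inv (x + y))
    apply hu.mul_right_cancel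
    have e1 : ∀ z : K, logDerivSeries z * lamSeries z = PowerSeries.derivative K (lamSeries z) :=
      fun z => by
        rw [logDerivSeries, mul_assoc, mul_comm ((lamSeries z).invOfUnit 1), lamSeries_mul_inv, mul_one]
    rw [e1, hl, Derivation.leibniz, smul_eq_mul, smul_eq_mul, ← e1 x, ← e1 y]
    ring
  simp only [adamsOp, hD, map_add, mul_add]

variable [Algebra ℚ K]
  (h1 : ∀ k : ℕ, 1 ≤ k → adamsOp k (1 : K) = 1)
  (hmul : ∀ k : ℕ, 1 ≤ k → ∀ x y : K, adamsOp k (x * y) = adamsOp k x * adamsOp k y)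
  (hcomp : ∀ k k' : ℕ, 1 ≤ k → 1 ≤ k' → ∀ x : K, adamsOp k (adamsOp k' x) = adamsOp (k * k') x)

include h1 in
lemma lam_one_eq_zero (n : ℕ) (hn : 2 ≤ n) : LambdaOps.lam n (1 : K) = 0 := by
  rw [lam_eq_E, E_congr _ (fun _ => (1 : K)) n fun k hk _ => h1 k hk,
    E_eq_of_rel (a := fun m => if m ≤ 1 then 1 else 0) (by simp) n fun m _ => ?_, if_neg (by omega)]
  rw [Rel]
  rcases m with _ | m
  · simp
  · rw [if_neg (by omega), mul_zero, Fin.sum_univ_castSucc, Fin.sum_univ_castSucc]
    simp only [Fin.val_castSucc, Fin.val_last, mul_one]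
    rw [Finset.sum_eq_zero, zero_add]
    · simp only [show m + 1 - m = 1 by omega, Nat.sub_self]
      simp [pow_succ]
    · intro i _
      rw [if_neg (by omega), mul_zero]

include hmul in
theorem lam_mul (n : ℕ) (P : MvPolynomial (Fin n ⊕ Fin n) ℤ) (hP : IsMulPoly n P) (x y : K) :
    LambdaOps.lam n (x * y) =
      aeval (Sum.elim (fun k : Fin n => LambdaOps.lam ((k : ℕ) + 1) x)
        (fun k : Fin n => LambdaOps.lam ((k : ℕ) + 1) y)) P := by
  let eT := eX n (Sum.inl : Fin n → Fin n ⊕ Fin n)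
  let eU := eX n (Sum.inr : Fin n → Fin n ⊕ Fin n)
  let PQ : MvPolynomial (Fin n ⊕ Fin n) ℚ := aeval X P
  let Θ := aeval (R := ℚ) (Sum.elim (fun k : Fin n => rename Sum.inl (esymm (Fin n) ℚ ((k : ℕ) + 1)))
      (fun k : Fin n => rename Sum.inr (esymm (Fin n) ℚ ((k : ℕ) + 1))))
  have hkey : PQ = E (fun k => W eT k * W eU k) n := mulPoly_eq n P hP.1
  let Φ := aeval (R := ℚ) (Sum.elim (fun k : Fin n => LambdaOps.lam ((k : ℕ) + 1) x)
        (fun k : Fin n => LambdaOps.lam ((k : ℕ) + 1) y))
  have hlhs : Φ PQ = aeval (Sum.elim (fun k : Fin n => LambdaOps.lam ((k : ℕ) + 1) x)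
        (fun k : Fin n => LambdaOps.lam ((k : ℕ) + 1) y)) P := by
    change Φ.toRingHom (aeval X P) = _
    rw [aeval_def, eval₂_comp_left, aeval_def]
    congr 1
    · exact RingHom.ext_int _ _
    · funext i
      simp [Φ]
  have hWx : ∀ (z : K) (emb : Fin n → Fin n ⊕ Fin n),
      (∀ i : Fin n, Φ (X (emb i)) = LambdaOps.lam ((i : ℕ) + 1) z) →
      ∀ k, 1 ≤ k → k ≤ n → Φ (W (eX n emb) k) = adamsOp k z := by
    intro z emb hemb k hk hk'
    rw [← RingHom.coe_coe, map_W, W_congr _ (fun i => LambdaOps.lam i z) k fun i hi =>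
      map_eX n emb _ (fun i => LambdaOps.lam i z) (LambdaOps.lam_zero z)
        (fun t => by rw [RingHom.coe_coe]; exact hemb t) i (hi.trans hk')]
    exact W_eq_of_rel (LambdaOps.lam_zero z) k hk fun m _ => rel_adams z m
  rw [← hlhs, hkey, show Φ (E (fun k => W eT k * W eU k) n) = E (fun k => Φ (W eT k * W eU k)) n from
      map_E Φ.toRingHom _ n,
    lam_eq_E, E_congr _ (fun k => Φ (W eT k * W eU k)) n fun k hk hk' => by
      rw [map_mul, hWx x Sum.inl (fun i => by simp [Φ]) k hk hk',
        hWx y Sum.inr (fun i => by simp [Φ]) k hk hk', hmul k hk]]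

include h1 hmul hcomp in
theorem lam_lam (i j : ℕ) (Q : MvPolynomial (Fin (i * j)) ℤ) (hQ : IsCompPoly i j Q) (x : K) :
    LambdaOps.lam j (LambdaOps.lam i x) =
      aeval (fun k : Fin (i * j) => LambdaOps.lam ((k : ℕ) + 1) x) Q := by
  classical
  let eT := eX (i * j) (id : Fin (i * j) → Fin (i * j))
  let QQ : MvPolynomial (Fin (i * j)) ℚ := aeval X Q
  let Θ := aeval (R := ℚ) (fun k : Fin (i * j) => esymm (Fin (i * j)) ℚ ((k : ℕ) + 1))
  have hle : ∀ k l, k ≤ j → l ≤ i → l * k ≤ i * j := fun k l hk hl => Nat.mul_le_mul hl hk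
  have hkey : QQ = E (fun k => E (fun l => W eT (l * k)) i) j := compPoly_eq i j Q hQ.1
  let Φ := aeval (R := ℚ) (fun k : Fin (i * j) => LambdaOps.lam ((k : ℕ) + 1) x)
  have hlhs : Φ QQ = aeval (fun k : Fin (i * j) => LambdaOps.lam ((k : ℕ) + 1) x) Q := by
    change Φ.toRingHom (aeval X Q) = _
    rw [aeval_def, eval₂_comp_left, aeval_def]
    congr 1
    · exact RingHom.ext_int _ _
    · funext t
      simp [Φ]
  have hWx : ∀ k, 1 ≤ k → k ≤ i * j → Φ (W eT k) = adamsOp k x := by
    intro k hk hk'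
    rw [← RingHom.coe_coe, map_W, W_congr _ (fun i' => LambdaOps.lam i' x) k fun i' hi =>
      map_eX (i * j) id _ (fun i' => LambdaOps.lam i' x) (LambdaOps.lam_zero x)
        (fun t => by rw [RingHom.coe_coe]; simp [Φ]) i' (hi.trans hk')]
    exact W_eq_of_rel (LambdaOps.lam_zero x) k hk fun m _ => rel_adams x m
  have hψ : ∀ k, 1 ≤ k → adamsOp k (LambdaOps.lam i x) = E (fun l => adamsOp (k * l) x) i := by
    intro k hk
    let ψ : K →+* K :=
      { toFun := adamsOp k
        map_one' := h1 k hk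
        map_mul' := hmul k hk
        map_zero' := by
          have := adamsOp_add k (0 : K) 0
          rw [add_zero] at this
          simpa using this
        map_add' := adamsOp_add k }
    rw [lam_eq_E x i, show adamsOp k (E (fun l => adamsOp l x) i) =
      E (fun l => ψ (adamsOp l x)) i from map_E ψ _ i]
    exact E_congr _ _ i fun l hl _ => hcomp k l hk hl x
  rw [← hlhs, hkey, show Φ (E (fun k => E (fun l => W eT (l * k)) i) j) =
      E (fun k => Φ (E (fun l => W eT (l * k)) i)) j from map_E Φ.toRingHom _ j,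
    lam_eq_E (LambdaOps.lam i x) j]
  refine E_congr _ _ j fun k hk hk' => ?_
  rw [hψ k hk, show Φ (E (fun l => W eT (l * k)) i) = E (fun l => Φ (W eT (l * k))) i from
    map_E Φ.toRingHom _ i]
  refine E_congr _ _ i fun l hl hl' => ?_
  rw [hWx (l * k) (Nat.mul_pos hl hk) (hle k l hk' hl'), mul_comm k l]

include h1 hmul hcomp in
theorem isSpecial : IsSpecial K :=
  ⟨lam_one_eq_zero h1, lam_mul hmul, lam_lam h1 hmul hcomp⟩

end Lambda

end Groth.Agent.AdamsSp
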