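import Groth.Agent.Lib.AlgSpMono
import Mathlib.RingTheory.Flat.Equalizer
import Mathlib.AlgebraicGeometry.Sites.Fpqc

/-! Effective descent of affine schemes under a map to an affine scheme, along affine fpqc coverings. -/

set_option autoImplicit false
set_option backward.isDefEq.respectTransparency.types false

universe u v

open CategoryTheory CategoryTheory.Limits AlgebraicGeometry Opposite TensorProduct

noncomputable section

namespace Groth.Agent.ASp

open _root_.AlgSp

/-! ### The algebra -/

section Algebra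

variable {A A' B : Type u} [CommRing A] [CommRing A'] [CommRing B] [Algebra A A'] [Algebra A B]
  (g : A' →ₐ[A] B) (ψ : B →ₐ[A] B ⊗[A] A')

/-- The invariant subalgebra of a descent map. -/
def descInv : Subalgebra A B := AlgHom.equalizer ψ Algebra.TensorProduct.includeLeft

theorem mem_descInv {b : B} : b ∈ descInv ψ ↔ ψ b = b ⊗ₜ[A] 1 := Iff.rfl

/-- Faithfully flat descent for algebras, in the form of a split equalizer. -/
theorem descInv_bijective [Module.Flat A A']
    (hsnd : ∀ a, ψ (g a) = 1 ⊗ₜ[A] a)
    (hunit : ∀ b, Algebra.TensorProduct.lift (AlgHom.id A B) g (fun _ _ => Commute.all _ _) (ψ b) = b)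
    (hcoc : ∀ b, Algebra.TensorProduct.map ψ (AlgHom.id A A') (ψ b) =
      Algebra.TensorProduct.map (Algebra.TensorProduct.includeLeft : B →ₐ[A] B ⊗[A] A') (AlgHom.id A A') (ψ b)) :
    Function.Bijective (Algebra.TensorProduct.lift (descInv ψ).val g (fun _ _ => Commute.all _ _)) := by
  let ι : B →ₐ[A] B ⊗[A] A' := Algebra.TensorProduct.includeLeft
  let μ := Algebra.TensorProduct.lift (AlgHom.id A B) g (fun _ _ => Commute.all _ _)
  let j : descInv ψ ⊗[A] A' →ₗ[A] B ⊗[A] A' := (descInv ψ).val.toLinearMap.rTensor A'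
  let δ : B →ₗ[A] B ⊗[A] A' := ψ.toLinearMap - ι.toLinearMap
  have hj : Function.Injective j :=
    Module.Flat.rTensor_preserves_injective_linearMap _ Subtype.val_injective
  have hex : Function.Exact (descInv ψ).val.toLinearMap δ := fun b => by
    constructor
    · intro hb
      exact ⟨⟨b, sub_eq_zero.1 hb⟩, rfl⟩
    · rintro ⟨m, rfl⟩
      exact sub_eq_zero.2 m.2
  have hexT := Module.Flat.rTensor_exact A' hex
  -- every element in the image of `j` is `ψ` of its multiplication
  have hμj : ∀ x, Algebra.TensorProduct.lift (descInv ψ).val g (fun _ _ => Commute.all _ _) x = μ (j x) := by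
    intro x
    induction x using TensorProduct.induction_on with
    | zero => simp
    | tmul m a => simp [μ, j]
    | add x y hx hy => simp [map_add, hx, hy]
  have hψj : ∀ x, j x = ψ (μ (j x)) := by
    intro x
    induction x using TensorProduct.induction_on with
    | zero => simp
    | tmul m a =>
      have hm : ψ (m : B) = (m : B) ⊗ₜ[A] 1 := m.2
      simp [μ, j, hm, hsnd, Algebra.TensorProduct.tmul_mul_tmul]
    | add x y hx hy => simp only [map_add, ← hx, ← hy]
  refine ⟨fun x y h => hj ?_, fun b => ?_⟩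
  · rw [hψj x, hψj y, ← hμj, ← hμj, h]
  · obtain ⟨x, hx⟩ := (hexT (ψ b)).1 (by
      change LinearMap.rTensor A' (ψ.toLinearMap - ι.toLinearMap) (ψ b) = 0
      rw [LinearMap.rTensor_sub, LinearMap.sub_apply, sub_eq_zero]
      exact hcoc b)
    exact ⟨x, by rw [hμj]; exact (congrArg μ hx).trans (hunit b)⟩

end Algebra

/-! ### Affine schemes over `Spec A` as objects over `S` -/

section Spec

variable {S : Scheme.{u}} {A : Type u} [CommRing A] (z : Spec (.of A) ⟶ S)

/-- `Spec R` over `S` through `Spec A`. -/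
abbrev spA (R : Type u) [CommRing R] [Algebra A R] : Over S :=
  Over.mk (Spec.map (CommRingCat.ofHom (algebraMap A R)) ≫ z)

variable {z} {R R' R'' : Type u} [CommRing R] [CommRing R'] [CommRing R''] [Algebra A R] [Algebra A R']
  [Algebra A R'']

/-- The map on spectra of a map of `A`-algebras. -/
abbrev spMap (f : R →ₐ[A] R') : spA z R' ⟶ spA z R :=
  Over.homMk (Spec.map (CommRingCat.ofHom f.toRingHom)) (by
    change Spec.map _ ≫ Spec.map _ ≫ z = Spec.map _ ≫ z
    rw [← Spec.map_comp_assoc, ← CommRingCat.ofHom_comp]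
    congr 3
    exact f.comp_algebraMap)

theorem spMap_comp (f : R →ₐ[A] R') (g : R' →ₐ[A] R'') :
    spMap (z := z) (g.comp f) = spMap g ≫ spMap f := by
  apply Over.OverMorphism.ext
  change Spec.map _ = Spec.map _ ≫ Spec.map _
  rw [← Spec.map_comp]
  rfl

theorem spMap_inj {f g : R →ₐ[A] R'} (h : spMap (z := z) f = spMap g) : f = g := by
  have h' := Spec.map_injective (congrArg CommaMorphism.left h)
  exact AlgHom.coe_ringHom_injective (CommRingCat.hom_ext_iff.1 h')

theorem exists_spMap_eq (m : spA z R' ⟶ spA z R)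
    (h : m ≫ spMap (Algebra.ofId A R) = spMap (Algebra.ofId A R')) :
    ∃ f : R →ₐ[A] R', spMap f = m := by
  have h' : m.left ≫ Spec.map (CommRingCat.ofHom (algebraMap A R)) =
      Spec.map (CommRingCat.ofHom (algebraMap A R')) := congrArg CommaMorphism.left h
  obtain ⟨φ, hφ⟩ := Spec.map_surjective m.left
  rw [← hφ, ← Spec.map_comp] at h'
  have h'' := CommRingCat.hom_ext_iff.1 (Spec.map_injective h')
  exact ⟨⟨φ.hom, fun a => RingHom.congr_fun h'' a⟩, Over.OverMorphism.ext hφ⟩

theorem spMap_comp_ofId (f : R →ₐ[A] R') :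
    spMap (z := z) f ≫ spMap (Algebra.ofId A R) = spMap (Algebra.ofId A R') := by
  rw [← spMap_comp, Subsingleton.elim (f.comp (Algebra.ofId A R)) (Algebra.ofId A R')]

theorem isPullback_spMap :
    IsPullback (spMap (z := z) (Algebra.TensorProduct.includeLeft : R →ₐ[A] R ⊗[A] R'))
      (spMap (Algebra.TensorProduct.includeRight : R' →ₐ[A] R ⊗[A] R'))
      (spMap (Algebra.ofId A R)) (spMap (Algebra.ofId A R')) := by
  refine IsPullback.of_map (Over.forget S) ?_ ?_
  · rw [spMap_comp_ofId, spMap_comp_ofId]
  · exact isPullback_SpecMap_of_isPushout _ _ _ _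
      (CommRingCat.isPushout_tensorProduct A R R')

end Spec

/-! ### Descending maps to schemes -/

section Desc

variable {S : Scheme.{u}} {F : Sp S} {Z W P T : Over S} {π : F ⟶ (yon S).obj Z} {d : W ⟶ Z} {p : P ⟶ W}
  {q : (yon S).obj P ⟶ F}

theorem effectiveEpi_snd (d : W ⟶ Z) [Flat d.left] [Surjective d.left] [QuasiCompact d.left] {U : Over S}
    (a : U ⟶ Z) : EffectiveEpi (pullback.fst a d).left := by
  have sq := (IsPullback.of_hasPullback a d).map (Over.forget S)
  have : Flat (pullback.fst a d).left := MorphismProperty.of_isPullback sq.flip ‹Flat d.left›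
  have : Surjective (pullback.fst a d).left := MorphismProperty.of_isPullback sq.flip ‹Surjective d.left›
  have : QuasiCompact (pullback.fst a d).left := MorphismProperty.of_isPullback sq.flip ‹QuasiCompact d.left›
  infer_instance

/-- Two maps to a scheme agree if they agree after pulling back along an fpqc covering. -/
theorem hom_ext_of_fpqc [Flat d.left] [Surjective d.left] [QuasiCompact d.left]
    (sq : IsPullback q ((yon S).map p) π ((yon S).map d)) {a b : F ⟶ (yon S).obj T} (h : q ≫ a = q ≫ b) :
    a = b := by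
  refine Sheaf.hom_ext (NatTrans.ext (funext fun U => ?_))
  ext x
  obtain ⟨x, rfl⟩ := (sec (F := F) (T := U.unop)).surjective x
  refine (sec_comp x a).symm.trans (Eq.trans ?_ (sec_comp x b))
  congr 1
  obtain ⟨a', ha'⟩ := (yon S).map_surjective (x ≫ a)
  obtain ⟨b', hb'⟩ := (yon S).map_surjective (x ≫ b)
  obtain ⟨c, hc⟩ := (yon S).map_surjective (x ≫ π)
  rw [← ha', ← hb']
  congr 1
  have := effectiveEpi_snd d c
  have key : (yon S).map (pullback.fst c d) ≫ x ≫ π = (yon S).map (pullback.snd c d) ≫ (yon S).map d := by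
    rw [← hc, ← Functor.map_comp, ← Functor.map_comp, pullback.condition]
  have hfac : ∃ m, m ≫ q = (yon S).map (pullback.fst c d) ≫ x :=
    ⟨sq.lift _ _ (by simpa only [Category.assoc] using key), sq.lift_fst _ _ _⟩
  obtain ⟨m, hm⟩ := hfac
  have hab : pullback.fst c d ≫ a' = pullback.fst c d ≫ b' := (yon S).map_injective (by
    rw [Functor.map_comp, Functor.map_comp, ha', hb', ← reassoc_of% hm, ← reassoc_of% hm, h])
  exact Over.OverMorphism.ext ((cancel_epi (pullback.fst c d).left).1 (congrArg CommaMorphism.left hab))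

/-- An invariant map from a covering descends. -/
theorem exists_desc_hom [Flat d.left] [Surjective d.left] [QuasiCompact d.left]
    (sq : IsPullback q ((yon S).map p) π ((yon S).map d)) (φ : P ⟶ T)
    (hφ : ∀ (U : Over S) (a b : U ⟶ P), (yon S).map a ≫ q = (yon S).map b ≫ q → a ≫ φ = b ≫ φ) :
    ∃ Φ : F ⟶ (yon S).obj T, q ≫ Φ = (yon S).map φ := by
  have hex : ∀ (U : Over S) (x : (yon S).obj U ⟶ F), ∃! v : U ⟶ T, ∀ (V : Over S) (c : V ⟶ U) (m : V ⟶ P),
      (yon S).map m ≫ q = (yon S).map c ≫ x → c ≫ v = m ≫ φ := by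
    intro U x
    obtain ⟨c, hc⟩ := (yon S).map_surjective (x ≫ π)
    have := effectiveEpi_snd d c
    obtain ⟨m, hm⟩ := (yon S).map_surjective (sq.lift ((yon S).map (pullback.fst c d) ≫ x)
      ((yon S).map (pullback.snd c d)) (by
        rw [Category.assoc, ← hc, ← Functor.map_comp, ← Functor.map_comp, pullback.condition]))
    have hmq : (yon S).map m ≫ q = (yon S).map (pullback.fst c d) ≫ x := by rw [hm, sq.lift_fst]
    let e := (pullback.fst c d).left
    have hagree : ∀ {Y : Scheme.{u}} (g₁ g₂ : Y ⟶ (pullback c d).left), g₁ ≫ e = g₂ ≫ e →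
        g₁ ≫ (m ≫ φ).left = g₂ ≫ (m ≫ φ).left := by
      intro Y g₁ g₂ hg
      let Y' : Over S := Over.mk (g₁ ≫ (pullback c d).hom)
      have hw₂ : g₂ ≫ (pullback c d).hom = g₁ ≫ (pullback c d).hom := by
        rw [← Over.w (pullback.fst c d), ← Category.assoc, ← Category.assoc, hg]
      let i₁ : Y' ⟶ pullback c d := Over.homMk g₁
      let i₂ : Y' ⟶ pullback c d := Over.homMk g₂ hw₂
      have hi : i₁ ≫ pullback.fst c d = i₂ ≫ pullback.fst c d := Over.OverMorphism.ext hg
      have := hφ Y' (i₁ ≫ m) (i₂ ≫ m) (by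
        rw [Functor.map_comp, Functor.map_comp, Category.assoc, Category.assoc, hmq,
          ← Functor.map_comp_assoc, hi, Functor.map_comp_assoc])
      simpa [i₁, i₂] using congrArg CommaMorphism.left this
    let vl : U.left ⟶ T.left := EffectiveEpi.desc e (m ≫ φ).left hagree
    have hvl : e ≫ vl = (m ≫ φ).left := EffectiveEpi.fac e _ hagree
    have hvw : vl ≫ T.hom = U.hom := (cancel_epi e).1 (by
      rw [← Category.assoc, hvl, Over.w (m ≫ φ), Over.w (pullback.fst c d)])
    refine ⟨Over.homMk vl hvw, fun V k n hn => ?_, fun v hv => ?_⟩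
    · obtain ⟨c', hc'⟩ : ∃ c', c' = k ≫ c := ⟨_, rfl⟩
      have hnd : k ≫ c = n ≫ p ≫ d := (yon S).map_injective (by
        simp only [Functor.map_comp, hc, ← sq.w, reassoc_of% hn])
      let r : V ⟶ pullback c d := pullback.lift k (n ≫ p) (by rw [hnd, Category.assoc])
      have hr : (yon S).map (r ≫ m) ≫ q = (yon S).map n ≫ q := by
        rw [Functor.map_comp, Category.assoc, hmq, hn, ← Functor.map_comp_assoc, pullback.lift_fst]
      have h1 := hφ V _ _ hr
      rw [Category.assoc] at h1
      apply Over.OverMorphism.ext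
      have h2 : r ≫ pullback.fst c d = k := pullback.lift_fst _ _ _
      rw [← h1, ← h2, Over.comp_left, Over.comp_left, Over.comp_left]
      simp only [Over.homMk_left, Category.assoc]
      rw [hvl]
    · apply Over.OverMorphism.ext
      refine (cancel_epi e).1 ?_
      change e ≫ v.left = e ≫ vl
      rw [hvl]
      exact congrArg CommaMorphism.left (hv _ _ m hmq)
  choose v hv huniq using hex
  have nat : ∀ (U V : Over S) (k : V ⟶ U) (x : (yon S).obj U ⟶ F), v V ((yon S).map k ≫ x) = k ≫ v U x := by
    intro U V k x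
    refine (huniq V _ (k ≫ v U x) fun V' c m hm => ?_).symm
    rw [← Category.assoc]
    exact hv U x V' (c ≫ k) m (by rw [hm, Functor.map_comp, Category.assoc])
  let Φ : F ⟶ (yon S).obj T := ⟨{
    app U := TypeCat.ofHom fun x => ⟨v U.unop (sec.symm x)⟩
    naturality := fun U V k => by
      ext x
      exact congrArg ULift.up ((congrArg (v V.unop)
        ((J S).uliftYonedaEquiv_symm_naturality_left k.unop F x).symm).trans (nat _ _ _ _)) }⟩
  refine ⟨Φ, sec.injective ?_⟩
  rw [sec, GrothendieckTopology.uliftYonedaEquiv_comp, GrothendieckTopology.uliftYonedaEquiv_uliftYoneda_map]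
  refine congrArg ULift.up ?_
  have := hv P ((J S).uliftYonedaEquiv.symm ((J S).uliftYonedaEquiv q)) P (𝟙 P) (𝟙 P)
    (by rw [Equiv.symm_apply_apply])
  simpa using this

end Desc

/-! ### Effective descent -/

section Effective

variable {S : Scheme.{u}}

/-- An affine, flat, surjective morphism of schemes refines. -/
theorem refines_yon_of_affine_fpqc {P T : Over S} (φ : P ⟶ T) [Flat φ.left] [Surjective φ.left]
    [IsAffineHom φ.left] :
    Refines (fun _ : PUnit.{1} => (yon S).obj P) (fun _ => (yon S).map φ) := by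
  intro U hU h
  obtain ⟨k, rfl⟩ := (yon S).map_surjective h
  have sq := ((IsPullback.of_hasPullback k φ).map (Over.forget S)).flip
  have h1 : IsAffineHom (pullback.fst k φ).left := MorphismProperty.of_isPullback sq ‹IsAffineHom φ.left›
  have h2 : Flat (pullback.fst k φ).left := MorphismProperty.of_isPullback sq ‹Flat φ.left›
  have h3 : Surjective (pullback.fst k φ).left := MorphismProperty.of_isPullback sq ‹Surjective φ.left›
  exact ⟨1, fun _ => pullback k φ, fun _ => pullback.fst k φ,
    fun _ => isAffine_of_isAffineHom (pullback.fst k φ).left, fun _ => h2,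
    fun x => ⟨0, (pullback.fst k φ).left.surjective x⟩,
    fun _ => ⟨⟨⟩, (yon S).map (pullback.snd k φ),
      by rw [← Functor.map_comp, ← Functor.map_comp, pullback.condition]⟩⟩

variable {A A' B : Type u} [CommRing A] [CommRing A'] [CommRing B] [Algebra A A'] [Algebra A B]
  {z : Spec (.of A) ⟶ S} {F : Sp S}

/-- Effective descent of affine schemes, on spectra. -/
theorem exists_affine_descent_spec (hF : IsAlgSpace F) [Module.Flat A A']
    [Surjective (spMap (z := z) (Algebra.ofId A A')).left]
    (π : F ⟶ (yon S).obj (spA z A)) (g : A' →ₐ[A] B) (q : (yon S).obj (spA z B) ⟶ F)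
    (sq : IsPullback q ((yon S).map (spMap g)) π ((yon S).map (spMap (Algebra.ofId A A')))) :
    ∃ (T : Over S) (t : T ⟶ spA z A) (e : (yon S).obj T ≅ F),
      IsAffine T.left ∧ e.hom ≫ π = (yon S).map t := by
  let pr : spA z (B ⊗[A] A') ⟶ spA z B := spMap Algebra.TensorProduct.includeLeft
  let pw : spA z (B ⊗[A] A') ⟶ spA z A' := spMap Algebra.TensorProduct.includeRight
  obtain ⟨pr₂, hpr₂⟩ := (yon S).map_surjective (sq.lift ((yon S).map pr ≫ q) ((yon S).map pw) (by
    rw [Category.assoc, sq.w, ← Functor.map_comp, ← Functor.map_comp, ← Functor.map_comp]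
    simp only [pr, pw, ← spMap_comp]
    congr 2
    exact Subsingleton.elim _ _))
  have hq₂ : (yon S).map pr₂ ≫ q = (yon S).map pr ≫ q := by rw [hpr₂, sq.lift_fst]
  have hg₂ : pr₂ ≫ spMap g = pw := (yon S).map_injective (by rw [Functor.map_comp, hpr₂, sq.lift_snd])
  obtain ⟨ψ, hψ⟩ := exists_spMap_eq pr₂ (by
    rw [← spMap_comp_ofId g, reassoc_of% hg₂, spMap_comp_ofId])
  subst hψ
  -- separatedness of the covering
  have hext : ∀ {R : Type u} [CommRing R] [Algebra A R] (a b : B →ₐ[A] R), a.comp g = b.comp g →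
      (yon S).map (spMap (z := z) a) ≫ q = (yon S).map (spMap b) ≫ q → a = b := fun a b h₁ h₂ =>
    spMap_inj ((yon S).map_injective (sq.hom_ext h₂ (by
      rw [← Functor.map_comp, ← Functor.map_comp, ← spMap_comp, ← spMap_comp, h₁])))
  have hsnd : ψ.comp g = Algebra.TensorProduct.includeRight := spMap_inj (by rw [spMap_comp]; exact hg₂)
  -- cocycle and unit
  have hunit : (Algebra.TensorProduct.lift (AlgHom.id A B) g (fun _ _ => Commute.all _ _)).comp ψ =
      AlgHom.id A B := by
    refine hext _ _ ?_ ?_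
    · rw [AlgHom.comp_assoc, hsnd]
      ext a; simp
    · rw [spMap_comp, Functor.map_comp, Category.assoc, hq₂, ← Functor.map_comp_assoc, ← spMap_comp]
      congr 3
      ext b; simp
  let inl : B →ₐ[A] B ⊗[A] A' := Algebra.TensorProduct.includeLeft
  have hcoc : (Algebra.TensorProduct.map ψ (AlgHom.id A A')).comp ψ =
      (Algebra.TensorProduct.map inl (AlgHom.id A A')).comp ψ := by
    refine hext _ _ ?_ ?_
    · rw [AlgHom.comp_assoc, AlgHom.comp_assoc, hsnd]
      ext a; simp
    · rw [spMap_comp, spMap_comp, Functor.map_comp, Functor.map_comp, Category.assoc, Category.assoc, hq₂,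
        ← Functor.map_comp_assoc, ← Functor.map_comp_assoc, ← spMap_comp, ← spMap_comp,
        Algebra.TensorProduct.map_comp_includeLeft, Algebra.TensorProduct.map_comp_includeLeft,
        spMap_comp, spMap_comp, Functor.map_comp, Functor.map_comp, Category.assoc, Category.assoc, hq₂]
  let M := descInv ψ
  let θ : M ⊗[A] A' ≃ₐ[A] B := AlgEquiv.ofBijective _ (descInv_bijective g ψ
    (fun a => AlgHom.congr_fun hsnd a) (fun b => AlgHom.congr_fun hunit b)
    (fun b => AlgHom.congr_fun hcoc b))
  have hθl : θ.toAlgHom.comp Algebra.TensorProduct.includeLeft = M.val :=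
    Algebra.TensorProduct.lift_comp_includeLeft _ _ (fun _ _ => Commute.all _ _)
  have hθr : θ.toAlgHom.comp Algebra.TensorProduct.includeRight = g :=
    Algebra.TensorProduct.lift_comp_includeRight _ _ (fun _ _ => Commute.all _ _)
  let t : spA z M ⟶ spA z A := spMap (Algebra.ofId A M)
  let d : spA z A' ⟶ spA z A := spMap (Algebra.ofId A A')
  let φ : spA z B ⟶ spA z M := spMap M.val
  let eB : spA z (M ⊗[A] A') ≅ spA z B :=
    ⟨spMap θ.symm.toAlgHom, spMap θ.toAlgHom,
      (spMap_comp _ _).symm.trans (by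
        rw [show θ.symm.toAlgHom.comp θ.toAlgHom = AlgHom.id A _ from AlgHom.ext θ.symm_apply_apply]
        apply Over.OverMorphism.ext; simp),
      (spMap_comp _ _).symm.trans (by
        rw [show θ.toAlgHom.comp θ.symm.toAlgHom = AlgHom.id A _ from AlgHom.ext θ.apply_symm_apply]
        apply Over.OverMorphism.ext; simp)⟩
  have hM : IsPullback φ (spMap g) t d := (isPullback_spMap (R := M) (R' := A')).of_iso eB (Iso.refl _)
    (Iso.refl _) (Iso.refl _)
    (by
      simp only [eB, Iso.refl_hom, Category.comp_id, φ]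
      rw [← spMap_comp, ← hθl, ← AlgHom.comp_assoc,
        show θ.symm.toAlgHom.comp θ.toAlgHom = AlgHom.id A _ from AlgHom.ext θ.symm_apply_apply,
        AlgHom.id_comp])
    (by
      simp only [eB, Iso.refl_hom, Category.comp_id]
      rw [← spMap_comp, ← hθr, ← AlgHom.comp_assoc,
        show θ.symm.toAlgHom.comp θ.toAlgHom = AlgHom.id A _ from AlgHom.ext θ.symm_apply_apply,
        AlgHom.id_comp]) (by simp [t]) (by simp [d])
  have : Flat d.left := (HasRingHomProperty.Spec_iff (P := @Flat)).2 (by
    change (algebraMap A A').Flat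
    rwa [RingHom.flat_algebraMap_iff])
  have hMf := hM.map (Over.forget S)
  have : Flat φ.left := MorphismProperty.of_isPullback hMf.flip ‹Flat d.left›
  have : Surjective φ.left := MorphismProperty.of_isPullback hMf.flip ‹Surjective _›
  have : QuasiCompact (spMap (z := z) (Algebra.ofId A A')).left :=
    inferInstanceAs (QuasiCompact (Spec.map _))
  have : IsAffineHom φ.left := inferInstanceAs (IsAffineHom (Spec.map _))
  -- descend the map to the invariant spectrum
  obtain ⟨Φ, hΦ⟩ := exists_desc_hom sq φ (fun U a b hab => by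
    have hP := isPullback_spMap (z := z) (R := B) (R' := A')
    have hcond : a ≫ spMap (Algebra.ofId A B) = (b ≫ spMap g) ≫ d := (yon S).map_injective (by
      rw [← spMap_comp_ofId g]
      simp only [Functor.map_comp, Category.assoc]
      rw [← sq.w, reassoc_of% hab])
    let n := hP.lift a (b ≫ spMap g) hcond
    have hn₁ : n ≫ pr = a := hP.lift_fst _ _ _
    have hn₂ : n ≫ spMap ψ = b := (yon S).map_injective (sq.hom_ext
      (by rw [Functor.map_comp, Category.assoc, hq₂, ← Functor.map_comp_assoc, hn₁, hab])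
      (by rw [← Functor.map_comp, ← Functor.map_comp, Category.assoc, hg₂]
          exact congrArg _ (hP.lift_snd _ _ _)))
    rw [← hn₁, ← hn₂, Category.assoc, Category.assoc]
    congr 1
    simp only [pr, φ, ← spMap_comp]
    congr 1
    exact AlgHom.ext fun m => m.2.symm)
  have hπ : Φ ≫ (yon S).map t = π := hom_ext_of_fpqc sq (by
    rw [reassoc_of% hΦ, sq.w, ← Functor.map_comp, ← Functor.map_comp, hM.w])
  have hM' : IsPullback ((yon S).map φ) ((yon S).map (spMap g)) ((yon S).map t) ((yon S).map d) :=
    (yon S).map_isPullback hM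
  have top : IsPullback q (𝟙 ((yon S).obj (spA z B))) Φ ((yon S).map φ) :=
    IsPullback.of_bot (by rw [Category.id_comp, hπ]; exact sq) (by rw [hΦ, Category.id_comp]) hM'
  have := isIso_of_refines (Xi := fun _ : PUnit.{1} => (yon S).obj (spA z B)) (q := fun _ => q)
    (p := fun _ => 𝟙 _) hF (IsAlgSpace.yon_obj _) (refines_yon_of_affine_fpqc φ) (fun _ => top)
    (fun _ => inferInstance)
  exact ⟨spA z M, t, (asIso Φ).symm, inferInstanceAs (IsAffine (Spec _)),
    by rw [Iso.symm_hom, asIso_inv, IsIso.inv_comp_eq, hπ]⟩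

end Effective

end Groth.Agent.ASp
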