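import Groth.Agent.Lib.AlgSpAffineDescent
import Mathlib.AlgebraicGeometry.RelativeGluing

/-! Affine morphisms of algebraic spaces: fpqc descent, and representability by schemes. -/

set_option autoImplicit false
set_option backward.isDefEq.respectTransparency.types false

universe u v

open CategoryTheory CategoryTheory.Limits AlgebraicGeometry Opposite

noncomputable section

namespace Groth.Agent.ASp

open _root_.AlgSp

variable {S : Scheme.{u}}

/-! ### Gluing sections -/

theorem mem_of_openCover {T : Over S} {R : Sieve T} {ι : Type u} {W : ι → Over S} (c : ∀ k, W k ⟶ T)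
    (hc : ∀ k, IsOpenImmersion (c k).left) (hcov : ∀ t : ↥T.left, ∃ k, t ∈ Set.range (c k).left)
    (hR : ∀ k, R (c k)) : R ∈ J S T := by
  change Sieve.overEquiv T R ∈ Scheme.fppfTopology T.left
  refine GrothendieckTopology.superset_covering _ ?_
    (Precoverage.generate_mem_toGrothendieck
      (show Presieve.ofArrows (fun k => (W k).left) (fun k => (c k).left) ∈ Scheme.fppfPrecoverage T.left from
        (Scheme.ofArrows_mem_precoverage_iff _).2 ⟨hcov, fun k =>
          have := hc k
          ⟨inferInstance, inferInstance⟩⟩))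
  rw [Sieve.generate_le_iff]
  rintro Z f ⟨k⟩
  rw [Sieve.overEquiv_iff]
  have : (Over.homMk (c k).left : Over.mk ((c k).left ≫ T.hom) ⟶ T) =
      Over.homMk (U := Over.mk ((c k).left ≫ T.hom)) (V := W k) (𝟙 _) (by simp) ≫ c k := by ext; simp
  rw [this]
  exact R.downward_closed (hR k) _

/-- Sections of a sheaf glue along open covers. -/
theorem existsUnique_glue {F : Sp S} {T : Over S} {ι : Type u} {W : ι → Over S} (c : ∀ k, W k ⟶ T)
    (hc : ∀ k, IsOpenImmersion (c k).left) (hcov : ∀ t : ↥T.left, ∃ k, t ∈ Set.range (c k).left)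
    (q : ∀ k, (yon S).obj (W k) ⟶ F)
    (hq : ∀ (U : Over S) (i j : ι) (a : U ⟶ W i) (b : U ⟶ W j), a ≫ c i = b ≫ c j →
      (yon S).map a ≫ q i = (yon S).map b ≫ q j) :
    ∃! x : (yon S).obj T ⟶ F, ∀ k, (yon S).map (c k) ≫ x = q k := by
  have hS : Sieve.generate (Presieve.ofArrows W c) ∈ J S T :=
    mem_of_openCover c hc hcov fun k => ⟨_, 𝟙 _, c k, ⟨k⟩, Category.id_comp _⟩
  have h1 := ((isSheaf_iff_isSheaf_of_type _ _).1 F.property _ hS)
  rw [← Presieve.isSheafFor_iff_generate] at h1
  obtain ⟨t, ht, huniq⟩ := (Presieve.isSheafFor_arrows_iff _ _).1 h1 (fun k => sec (q k))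
    (fun i j Z a b hab => by
      rw [sec_map, sec_map]
      exact congrArg sec (hq Z i j a b hab))
  refine ⟨sec.symm t, fun k => sec.injective ?_, fun y hy => sec.injective ?_⟩
  · rw [← sec_map, Equiv.apply_symm_apply, ht]
  · rw [Equiv.apply_symm_apply]
    exact huniq _ fun k => by rw [sec_map, hy k]

/-- Maps out of an empty scheme are unique. -/
theorem hom_ext_of_isEmpty {F : Sp S} {U : Over S} (hU : IsEmpty ↥U.left) (a b : (yon S).obj U ⟶ F) :
    a = b :=
  (existsUnique_glue (W := fun k : PEmpty.{u + 1} => k.elim) (fun k => k.elim) (fun k => k.elim)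
    (fun t => hU.elim t) (fun k => k.elim) fun _ k => k.elim).unique (fun k => k.elim) fun k => k.elim

/-- A map to a sheaf is determined on an open cover. -/
theorem hom_ext_of_openCover {F : Sp S} {T : Over S} {a b : (yon S).obj T ⟶ F}
    (h : ∀ t : ↥T.left, ∃ (W : Over S) (c : W ⟶ T), IsOpenImmersion c.left ∧ t ∈ Set.range c.left ∧
      (yon S).map c ≫ a = (yon S).map c ≫ b) : a = b := by
  choose W c hc hmem hab using h
  refine (existsUnique_glue c hc (fun t => ⟨t, hmem t⟩) (fun t => (yon S).map (c t) ≫ b) ?_).unique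
    hab (fun t => rfl)
  intro U i j x y hxy
  rw [← Functor.map_comp_assoc, hxy, Functor.map_comp_assoc]

/-! ### Pullback squares are local for refining families -/

/-- A commutative square is a pullback if it is one over each member of a refining family. -/
theorem isPullback_of_refines {P X T Y : Sp S} (hP : IsAlgSpace P) (hX : IsAlgSpace X) (hT : IsAlgSpace T)
    (hY : IsAlgSpace Y) {q : P ⟶ X} {p : P ⟶ T} {f : X ⟶ Y} {b : T ⟶ Y} (w : q ≫ f = p ≫ b)
    {ι : Type v} {Ti Pi : ι → Sp S} {g : ∀ i, Ti i ⟶ T} (hg : Refines Ti g)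
    (r : ∀ i, Pi i ⟶ P) (s : ∀ i, Pi i ⟶ Ti i) (sqP : ∀ i, IsPullback (r i) (s i) p (g i))
    (sq : ∀ i, IsPullback (r i ≫ q) (s i) f (g i ≫ b)) : IsPullback q p f b := by
  let m : P ⟶ pullback f b := pullback.lift q p w
  have hQ := isAlgSpace_pullback f b hX hT hY
  let Qi : ι → Sp S := fun i => pullback (pullback.snd f b) (g i)
  have hbig : ∀ i, IsPullback (pullback.fst (pullback.snd f b) (g i) ≫ pullback.fst f b)
      (pullback.snd (pullback.snd f b) (g i)) f (g i ≫ b) := fun i =>
    (IsPullback.of_hasPullback _ _).paste_horiz (IsPullback.of_hasPullback f b)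
  let e : ∀ i, Pi i ⟶ Qi i := fun i => pullback.lift (r i ≫ m) (s i) (by rw [Category.assoc, pullback.lift_snd, (sqP i).w])
  have he₁ : ∀ i, e i ≫ pullback.fst (pullback.snd f b) (g i) = r i ≫ m := fun i => pullback.lift_fst _ _ _
  have he₂ : ∀ i, e i ≫ pullback.snd (pullback.snd f b) (g i) = s i := fun i => pullback.lift_snd _ _ _
  have hsq : ∀ i, IsPullback (r i) (e i) m (pullback.fst (pullback.snd f b) (g i)) := fun i =>
    IsPullback.of_bot (h₃₁ := g i) (v₂₁ := pullback.snd (pullback.snd f b) (g i)) (v₂₂ := pullback.snd f b)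
      (by rw [he₂, pullback.lift_snd]; exact sqP i) (he₁ i).symm (IsPullback.of_hasPullback _ _)
  have hiso : ∀ i, IsIso (e i) := fun i => by
    have : (e i) = ((sq i).isoIsPullback _ _ (hbig i)).hom := (hbig i).hom_ext
      (by rw [IsPullback.isoIsPullback_hom_fst, ← Category.assoc, he₁, Category.assoc, pullback.lift_fst])
      (by rw [IsPullback.isoIsPullback_hom_snd, he₂])
    rw [this]; infer_instance
  have := isIso_of_refines hP hQ (Refines.baseChange hg (pullback.snd f b)
    (fun i => pullback.fst (pullback.snd f b) (g i)) (fun i => pullback.snd (pullback.snd f b) (g i))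
    (fun i => IsPullback.of_hasPullback _ _)) hsq hiso
  exact IsPullback.of_iso_pullback ⟨w⟩ (asIso m) (pullback.lift_fst _ _ _) (pullback.lift_snd _ _ _)

theorem refines_yon_of_openCover {T : Over S} {ι : Type u} {W : ι → Over S} (c : ∀ k, W k ⟶ T)
    (hc : ∀ k, IsOpenImmersion (c k).left) (hcov : ∀ t : ↥T.left, ∃ k, t ∈ Set.range (c k).left) :
    Refines (fun k => (yon S).obj (W k)) fun k => (yon S).map (c k) :=
  refines_of_etale _ (fun k => (repWith_yon_map_iff _ _).2 (have := hc k; inferInstanceAs (Etale (c k).left)))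
    fun x => by
      obtain ⟨t, rfl⟩ := (Points.schemeHomeo T).surjective x
      obtain ⟨k, w, rfl⟩ := hcov t
      exact ⟨k, w, by rw [Points.ofPt_eq_map_ofScheme]; exact Points.map_yon_map_apply _ _⟩

/-! ### Affine descent over an affine scheme -/

variable {X Y : Sp S}

/-- Effective descent of affine schemes along an affine fpqc covering. -/
theorem exists_affine_descent {F : Sp S} (hF : IsAlgSpace F) {Z W P : Over S} [IsAffine Z.left]
    [IsAffine W.left] [IsAffine P.left] (π : F ⟶ (yon S).obj Z) (d : W ⟶ Z) [Flat d.left]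
    [Surjective d.left] (p : P ⟶ W) (q : (yon S).obj P ⟶ F)
    (sq : IsPullback q ((yon S).map p) π ((yon S).map d)) :
    ∃ (T : Over S) (t : T ⟶ Z) (e : (yon S).obj T ≅ F), IsAffine T.left ∧ e.hom ≫ π = (yon S).map t := by
  letI : Algebra Γ(Z.left, ⊤) Γ(W.left, ⊤) := d.left.appTop.hom.toAlgebra
  letI : Algebra Γ(Z.left, ⊤) Γ(P.left, ⊤) := (p ≫ d).left.appTop.hom.toAlgebra
  let g : Γ(W.left, ⊤) →ₐ[Γ(Z.left, ⊤)] Γ(P.left, ⊤) :=
    ⟨p.left.appTop.hom, fun r => by
      change _ = (p.left ≫ d.left).appTop.hom r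
      rw [Scheme.Hom.comp_appTop]; rfl⟩
  let z : Spec Γ(Z.left, ⊤) ⟶ S := Z.left.isoSpec.inv ≫ Z.hom
  let eZ : Z ≅ spA z Γ(Z.left, ⊤) := Over.isoMk Z.left.isoSpec (by
    change _ ≫ Spec.map (CommRingCat.ofHom (RingHom.id _)) ≫ z = _
    simp [z])
  let eW : W ≅ spA z Γ(W.left, ⊤) := Over.isoMk W.left.isoSpec (by
    change _ ≫ Spec.map d.left.appTop ≫ z = _
    simp [z, Scheme.isoSpec_hom_naturality_assoc])
  let eP : P ≅ spA z Γ(P.left, ⊤) := Over.isoMk P.left.isoSpec (by
    change _ ≫ Spec.map (p ≫ d).left.appTop ≫ z = _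
    simp [z, Scheme.isoSpec_hom_naturality_assoc])
  have hd : d ≫ eZ.hom = eW.hom ≫ spMap (Algebra.ofId _ _) := by
    apply Over.OverMorphism.ext
    exact (Scheme.isoSpec_hom_naturality d.left).symm
  have hp : p ≫ eW.hom = eP.hom ≫ spMap g := by
    apply Over.OverMorphism.ext
    exact (Scheme.isoSpec_hom_naturality p.left).symm
  have : Module.Flat Γ(Z.left, ⊤) Γ(W.left, ⊤) :=
    RingHom.flat_algebraMap_iff.1 ((HasRingHomProperty.iff_of_isAffine (P := @Flat)).1 ‹Flat d.left›)
  have : Surjective (spMap (z := z) (Algebra.ofId Γ(Z.left, ⊤) Γ(W.left, ⊤))).left :=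
    ⟨fun y => by
      obtain ⟨x, hx⟩ := d.left.surjective (Z.left.isoSpec.inv y)
      refine ⟨W.left.isoSpec.hom x, ?_⟩
      have h := congrArg (fun f => f.left x) hd
      simp only [Over.comp_left, Scheme.Hom.comp_apply] at h
      refine h.symm.trans ?_
      change Z.left.isoSpec.hom (d.left x) = y
      rw [hx, ← Scheme.Hom.comp_apply, Iso.inv_hom_id]
      rfl⟩
  obtain ⟨T, t, e, hT, he⟩ := exists_affine_descent_spec hF (π ≫ (yon S).map eZ.hom) g
    ((yon S).map eP.inv ≫ q)
    (sq.of_iso ((yon S).mapIso eP) (Iso.refl _) ((yon S).mapIso eW) ((yon S).mapIso eZ) (by simp)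
      (by simp only [Functor.mapIso_hom, ← Functor.map_comp]; rw [hp]) (by simp)
      (by simp only [Functor.mapIso_hom, ← Functor.map_comp]; rw [hd]))
  refine ⟨T, t ≫ eZ.inv, e, hT, ?_⟩
  rw [Functor.map_comp, ← he, Category.assoc, Category.assoc, ← Functor.map_comp, Iso.hom_inv_id]
  simp

/-- Descent of affineness along a refining family. -/
theorem exists_affine_of_refines (hX : IsAlgSpace X) (hY : IsAlgSpace Y) {ι : Type v} {Yi Xi : ι → Sp S}
    {g : ∀ i, Yi i ⟶ Y} (hg : Refines Yi g) {f : X ⟶ Y} (q : ∀ i, Xi i ⟶ X) (p : ∀ i, Xi i ⟶ Yi i)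
    (sq : ∀ i, IsPullback (q i) (p i) f (g i)) (h : ∀ i, IsAffineMor (p i)) :
    IsAffineMor f := by
  intro Z hZ b
  obtain ⟨m, W, c, hW, hflat, hcov, hl⟩ := hg Z hZ b
  choose i l hl using hl
  choose P a fst hsq hPa using fun j => h (i j) (hW j) (l j)
  let π := pullback.snd f b
  have hF := isAlgSpace_pullback f b hX (IsAlgSpace.yon_obj Z) hY
  have hbig : ∀ j, IsPullback (fst j ≫ q (i j)) ((yon S).map (a j)) f ((yon S).map (c j) ≫ b) := fun j => by
    rw [← hl j]; exact (hsq j).paste_horiz (sq (i j))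
  choose r hr₁ hr₂ using fun j =>
    (⟨pullback.lift (fst j ≫ q (i j)) ((yon S).map (a j ≫ c j)) (by rw [(hbig j).w, Functor.map_comp,
        Category.assoc]), pullback.lift_fst _ _ _, pullback.lift_snd _ _ _⟩ :
      ∃ r : (yon S).obj (P j) ⟶ pullback f b, r ≫ pullback.fst f b = fst j ≫ q (i j) ∧
        r ≫ pullback.snd f b = (yon S).map (a j ≫ c j))
  have hsm : ∀ j, IsPullback (r j) ((yon S).map (a j)) π ((yon S).map (c j)) := fun j =>
    IsPullback.of_right (by rw [hr₁]; exact hbig j)
      (by rw [hr₂, Functor.map_comp]) (IsPullback.of_hasPullback f b)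
  -- assemble the finitely many pieces
  let e : ULift.{u} (Fin m) → Fin m := ULift.down
  let PS : Scheme.{u} := ∐ fun j => (P (e j)).left
  let WS : Scheme.{u} := ∐ fun j => (W (e j)).left
  let PT : Over S := Over.mk (Y := PS) (Sigma.desc fun j => (P (e j)).hom)
  let WT : Over S := Over.mk (Y := WS) (Sigma.desc fun j => (W (e j)).hom)
  let ιP : ∀ j, P (e j) ⟶ PT := fun j =>
    Over.homMk (Sigma.ι (fun j => (P (e j)).left) j) (Sigma.ι_desc (fun j => (P (e j)).hom) j)
  let ιW : ∀ j, W (e j) ⟶ WT := fun j =>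
    Over.homMk (Sigma.ι (fun j => (W (e j)).left) j) (Sigma.ι_desc (fun j => (W (e j)).hom) j)
  let aT : PT ⟶ WT := Over.homMk (Limits.Sigma.map fun j => (a (e j)).left) (Sigma.hom_ext _ _ fun j => by
    simp [PT, WT])
  let d : WT ⟶ Z := Over.homMk (Sigma.desc fun j => (c (e j)).left) (Sigma.hom_ext _ _ fun j => by
    simp [WT])
  have hιd : ∀ j, ιW j ≫ d = c (e j) := fun j =>
    Over.OverMorphism.ext (Sigma.ι_desc (fun j => (c (e j)).left) j)
  have hιa : ∀ j, ιP j ≫ aT = a (e j) ≫ ιW j := fun j =>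
    Over.OverMorphism.ext (Limits.Sigma.ι_map (fun j => (a (e j)).left) j)
  have hoP : ∀ j, IsOpenImmersion (ιP j).left := fun j =>
    inferInstanceAs (IsOpenImmersion (Sigma.ι (fun j => (P (e j)).left) j))
  have hoW : ∀ j, IsOpenImmersion (ιW j).left := fun j =>
    inferInstanceAs (IsOpenImmersion (Sigma.ι (fun j => (W (e j)).left) j))
  have hcP : ∀ x : ↥PT.left, ∃ j, x ∈ Set.range (ιP j).left := fun x => by
    obtain ⟨j, y, hy⟩ := (sigmaOpenCover fun j => (P (e j)).left).exists_eq x
    exact ⟨j, y, hy⟩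
  have hcW : ∀ x : ↥WT.left, ∃ j, x ∈ Set.range (ιW j).left := fun x => by
    obtain ⟨j, y, hy⟩ := (sigmaOpenCover fun j => (W (e j)).left).exists_eq x
    exact ⟨j, y, hy⟩
  obtain ⟨qT, hqT, -⟩ := existsUnique_glue ιP hoP hcP (fun j => r (e j)) fun U i j x y hxy => by
    by_cases hij : i = j
    · subst hij
      have := hoP i
      have hm : x.left = y.left := (cancel_mono (ιP i).left).1 (congrArg CommaMorphism.left hxy)
      rw [Over.OverMorphism.ext hm]
    · refine hom_ext_of_isEmpty ⟨fun z => ?_⟩ _ _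
      exact (disjoint_opensRange_sigmaι (fun j => (P (e j)).left) i j hij).le_bot
        (show (ιP i).left (x.left z) ∈ _ from
          ⟨⟨x.left z, rfl⟩, y.left z, (congrArg (fun f => f.left z) hxy).symm⟩)
  have hpre : ∀ j, IsPullback (ιP j) (a (e j)) aT (ιW j) := fun j => by
    refine IsPullback.of_map (Over.forget S) (hιa j) ?_
    have := hoP j
    have := hoW j
    refine (IsOpenImmersion.isPullback (a (e j)).left (ιP j).left (ιW j).left aT.left
      (congrArg CommaMorphism.left (hιa j)) ?_).flip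
    ext x
    constructor
    · rintro ⟨w, hw⟩
      obtain ⟨k, y, rfl⟩ := hcP x
      by_cases hkj : k = j
      · subst hkj; exact ⟨y, rfl⟩
      · exfalso
        refine (disjoint_opensRange_sigmaι (fun j => (W (e j)).left) k j hkj).le_bot
          (show aT.left ((ιP k).left y) ∈ _ from ⟨⟨(a (e k)).left y, ?_⟩, w, hw⟩)
        exact (congrArg (fun f => f.left y) (hιa k)).symm
    · rintro ⟨y, rfl⟩
      exact ⟨(a (e j)).left y, (congrArg (fun f => f.left y) (hιa j)).symm⟩
  have hw : qT ≫ π = (yon S).map aT ≫ (yon S).map d := by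
    refine hom_ext_of_openCover fun x => ?_
    obtain ⟨j, hj⟩ := hcP x
    refine ⟨_, ιP j, hoP j, hj, ?_⟩
    rw [reassoc_of% hqT, (hsm (e j)).w]
    simp only [← Functor.map_comp]
    rw [← hιd j, reassoc_of% hιa]
  have sqT : IsPullback qT ((yon S).map aT) π ((yon S).map d) :=
    isPullback_of_refines (IsAlgSpace.yon_obj _) hF (IsAlgSpace.yon_obj _) (IsAlgSpace.yon_obj _) hw
      (refines_yon_of_openCover ιW hoW hcW) (fun j => (yon S).map (ιP j)) (fun j => (yon S).map (a (e j)))
      (fun j => (yon S).map_isPullback (hpre j))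
      (fun j => by rw [hqT, ← Functor.map_comp, hιd]; exact hsm (e j))
  have : IsAffine Z.left := hZ
  have : ∀ j, IsAffine ((W (e j)).left) := fun j => hW _
  have : ∀ j, IsAffine ((P (e j)).left) := fun j => hPa _
  have : IsAffine WT.left := inferInstanceAs (IsAffine (∐ fun j => (W (e j)).left))
  have : IsAffine PT.left := inferInstanceAs (IsAffine (∐ fun j => (P (e j)).left))
  have : Flat d.left := (IsZariskiLocalAtSource.iff_of_openCover (P := @Flat)
    (sigmaOpenCover fun j => (W (e j)).left)).2 fun j => by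
    have : (ιW j).left ≫ d.left = (c (e j)).left := congrArg CommaMorphism.left (hιd j)
    change Flat ((ιW j).left ≫ d.left)
    rw [this]; exact hflat _
  have : Surjective d.left := ⟨fun z => by
    obtain ⟨j, w, hw⟩ := hcov z
    exact ⟨(ιW ⟨j⟩).left w, (congrArg (fun f => f.left w) (hιd ⟨j⟩)).trans hw⟩⟩
  obtain ⟨T, t, eT, hT, ht⟩ := exists_affine_descent hF π d aT qT sqT
  refine ⟨T, t, eT.hom ≫ pullback.fst f b, ?_, hT⟩
  exact (IsPullback.of_hasPullback f b).of_iso eT.symm (Iso.refl _) (Iso.refl _) (Iso.refl _)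
    (by simp) (by simp [← ht, π]) (by simp) (by simp)

/-! ### Affine morphisms are representable by schemes -/

/-- Relative gluing over the affine opens of the base, as an existence statement. -/
theorem exists_relGlue (T : Scheme.{u}) (W : T.affineOpens → Scheme.{u}) (a : ∀ i, W i ⟶ (i.1 : Scheme))
    (n : ∀ {i j : T.affineOpens}, i ≤ j → (W i ⟶ W j)) (hid : ∀ i, n (le_refl i) = 𝟙 _)
    (hcomp : ∀ {i j k : T.affineOpens} (hij : i ≤ j) (hjk : j ≤ k), n (hij.trans hjk) = n hij ≫ n hjk)
    (hcart : ∀ {i j : T.affineOpens} (hij : i ≤ j), IsPullback (n hij) (a i) (a j) (T.homOfLE hij)) :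
    ∃ (G : Scheme.{u}) (aG : G ⟶ T) (ι : ∀ i, W i ⟶ G),
      (∀ i, IsOpenImmersion (ι i)) ∧ (∀ x : G, ∃ i, x ∈ Set.range (ι i)) ∧
      (∀ i, IsPullback (ι i) (a i) aG i.1.ι) ∧ (∀ {i j : T.affineOpens} (hij : i ≤ j), n hij ≫ ι j = ι i) ∧
      (∀ (i j : T.affineOpens) (x : W i) (y : W j), ι i x = ι j y →
        ∃ (k : T.affineOpens) (hki : k ≤ i) (hkj : k ≤ j) (w : W k), n hki w = x ∧ n hkj w = y) := by
  let d : T.directedAffineCover.RelativeGluingData :=
    { functor :=
        { obj := W
          map := fun {i j} hij => n (leOfHom hij)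
          map_id := fun i => hid i
          map_comp := fun {i j k} hij hjk => hcomp (leOfHom hij) (leOfHom hjk) }
      natTrans :=
        { app := fun i => a i
          naturality := fun {i j} hij => (hcart (leOfHom hij)).w }
      equifibered := fun {i j} hij => hcart (leOfHom hij) }
  have : Quiver.IsThin T.directedAffineCover.I₀ := inferInstance
  have : (d.functor ⋙ Scheme.forget).IsLocallyDirected :=
    Scheme.Cover.RelativeGluingData.instIsLocallyDirectedI₀CompFunctorForgetOfIsThin ..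
  refine ⟨d.glued, d.toBase, fun i => d.cover.f i, fun i => d.cover.map_prop i,
    fun x => ?_, fun i => (d.isPullback_natTrans_ι_toBase i).flip,
    fun {i j} hij => ?_, fun i j x y h => ?_⟩
  · obtain ⟨i, y, hy⟩ := d.cover.exists_eq x
    exact ⟨i, y, hy⟩
  · have h : d.functor.map (homOfLE hij : @Quiver.Hom T.directedAffineCover.I₀ _ i j) ≫ d.cover.f j = d.cover.f i :=
      d.cover.trans_map (i := i) (j := j) (homOfLE hij : @Quiver.Hom T.directedAffineCover.I₀ _ i j)
    exact h
  · obtain ⟨k, hki, hkj, w, h₁, h₂⟩ := d.cover.exists_of_f_eq_f (i := i) (j := j) x y h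
    exact ⟨k, leOfHom (X := T.directedAffineCover.I₀) hki, leOfHom (X := T.directedAffineCover.I₀) hkj,
      w, h₁, h₂⟩

/-- A morphism affine in the sense of affine test schemes is representable by schemes. -/
theorem representable_of_isAffineMor (hX : IsAlgSpace X) (hY : IsAlgSpace Y) {f : X ⟶ Y}
    (h : IsAffineMor f) : Representable f := by
  intro T b
  let π := pullback.snd f b
  have hF := isAlgSpace_pullback f b hX (IsAlgSpace.yon_obj T) hY
  let 𝒰 := T.left.directedAffineCover
  let V : T.left.affineOpens → Over S := fun k => Over.mk (k.1.ι ≫ T.hom)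
  let ιV : ∀ k, V k ⟶ T := fun k => Over.homMk k.1.ι
  have hV : ∀ k, IsAffine (V k).left := fun k => k.2
  choose W a fst hsq hWa using fun k => h (hV k) ((yon S).map (ιV k) ≫ b)
  choose r hr₁ hr₂ using fun k =>
    (⟨pullback.lift (fst k) ((yon S).map (a k ≫ ιV k)) (by rw [(hsq k).w, Functor.map_comp,
        Category.assoc]), pullback.lift_fst _ _ _, pullback.lift_snd _ _ _⟩ :
      ∃ r : (yon S).obj (W k) ⟶ pullback f b, r ≫ pullback.fst f b = fst k ∧
        r ≫ pullback.snd f b = (yon S).map (a k ≫ ιV k))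
  have hsm : ∀ k, IsPullback (r k) ((yon S).map (a k)) π ((yon S).map (ιV k)) := fun k =>
    IsPullback.of_right (by rw [hr₁]; exact hsq k) (by rw [hr₂, Functor.map_comp])
      (IsPullback.of_hasPullback f b)
  let hom : ∀ {i j : T.left.affineOpens}, i ≤ j → (V i ⟶ V j) := fun {i j} hij =>
    Over.homMk (T.left.homOfLE hij) (by simp [V])
  have hhom : ∀ {i j : T.left.affineOpens} (hij : i ≤ j), hom hij ≫ ιV j = ιV i := fun hij =>
    Over.OverMorphism.ext (T.left.homOfLE_ι hij)
  have hlift : ∀ {i j : T.left.affineOpens} (hij : i ≤ j), ∃ n : W i ⟶ W j,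
      (yon S).map n ≫ r j = r i ∧ n ≫ a j = a i ≫ hom hij := by
    intro i j hij
    obtain ⟨n, hn⟩ := (yon S).map_surjective ((hsm j).lift (r i) ((yon S).map (a i ≫ hom hij)) (by
      rw [(hsm i).w, ← hhom hij]; simp))
    exact ⟨n, by rw [hn, IsPullback.lift_fst],
      (yon S).map_injective (by rw [Functor.map_comp, hn, IsPullback.lift_snd])⟩
  choose n hn₁ hn₂ using @hlift
  have huniq : ∀ {U : Over S} {j : T.left.affineOpens} (x y : U ⟶ W j),
      (yon S).map x ≫ r j = (yon S).map y ≫ r j → x ≫ a j = y ≫ a j → x = y := fun x y h₁ h₂ =>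
    (yon S).map_injective ((hsm _).hom_ext h₁ (by rw [← Functor.map_comp, ← Functor.map_comp, h₂]))
  have hn_id : ∀ i, n (le_refl i) = 𝟙 (W i) := fun i => huniq _ _ (by simp [hn₁]) (by
    rw [hn₂, show hom (le_refl i) = 𝟙 (V i) from Over.OverMorphism.ext (T.left.homOfLE_rfl i.1),
      Category.comp_id, Category.id_comp])
  have hn_comp : ∀ {i j k : T.left.affineOpens} (hij : i ≤ j) (hjk : j ≤ k),
      n (hij.trans hjk) = n hij ≫ n hjk := fun {i j k} hij hjk => huniq _ _ (by simp [hn₁]) (by
    rw [hn₂, Category.assoc, hn₂, reassoc_of% hn₂]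
    congr 1
    exact Over.OverMorphism.ext (T.left.homOfLE_homOfLE hij hjk).symm)
  have hcart : ∀ {i j : T.left.affineOpens} (hij : i ≤ j),
      IsPullback (n hij).left (a i).left (a j).left (hom hij).left := fun {i j} hij => by
    refine IsPullback.map (Over.forget S) (f := n hij) (g := a i) (h := a j) (i := hom hij) ?_
    refine IsPullback.of_map_of_faithful (F := yon S) ?_
    refine IsPullback.of_right ?_ (by rw [← Functor.map_comp, ← Functor.map_comp, hn₂]) (hsm j)
    rw [hn₁, ← Functor.map_comp, hhom]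
    exact hsm i
  obtain ⟨G, tb, ι, hι, hcov, hιpb, hιw, hdir⟩ := exists_relGlue T.left (fun i => (W i).left)
    (fun i => (a i).left) (fun {i j} hij => (n hij).left) (fun i => congrArg CommaMorphism.left (hn_id i))
    (fun {i j k} hij hjk => congrArg CommaMorphism.left (hn_comp hij hjk)) (fun {i j} hij => hcart hij)
  let GT : Over S := Over.mk (tb ≫ T.hom)
  let aG : GT ⟶ T := Over.homMk tb
  let ιG : ∀ i, W i ⟶ GT := fun i => Over.homMk (ι i) (by
    change ι i ≫ tb ≫ T.hom = _
    rw [reassoc_of% (hιpb i).w]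
    exact Over.w (a i ≫ ιV i))
  have hιa : ∀ i, ιG i ≫ aG = a i ≫ ιV i := fun i => Over.OverMorphism.ext (hιpb i).w
  have hιn : ∀ {i j : T.left.affineOpens} (hij : i ≤ j), n hij ≫ ιG j = ιG i := fun {i j} hij =>
    Over.OverMorphism.ext (hιw hij)
  have hoG : ∀ i, IsOpenImmersion (ιG i).left := hι
  have hcG : ∀ x : ↥GT.left, ∃ i, x ∈ Set.range (ιG i).left := hcov
  obtain ⟨qT, hqT, -⟩ := existsUnique_glue ιG hoG hcG r fun U i j x y hxy => by
    refine hom_ext_of_openCover fun z => ?_
    have hz : (ιG i).left (x.left z) = (ιG j).left (y.left z) := congrArg (fun f => f.left z) hxy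
    obtain ⟨k, hki', hkj', w, hw₁, -⟩ := hdir i j (x.left z) (y.left z) hz
    let ρ := pullback.snd (ιG k) (x ≫ ιG i)
    have sqρ := (IsPullback.of_hasPullback (ιG k) (x ≫ ιG i)).map (Over.forget S)
    have hρ : IsOpenImmersion ρ.left := MorphismProperty.of_isPullback sqρ (hoG k)
    have hmem : z ∈ Set.range ρ.left := by
      have hwz : (ιG k).left w = (x ≫ ιG i).left z := by
        rw [← hιn hki']
        exact congrArg (ιG i).left hw₁
      obtain ⟨v, -, hv⟩ := Scheme.exists_preimage_of_isPullback sqρ w z hwz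
      exact ⟨v, hv⟩
    refine ⟨_, ρ, hρ, hmem, ?_⟩
    let σ := pullback.fst (ιG k) (x ≫ ιG i)
    have hσ : σ ≫ ιG k = ρ ≫ x ≫ ιG i := pullback.condition
    have hx : ρ ≫ x = σ ≫ n hki' := by
      have := hoG i
      apply Over.OverMorphism.ext
      refine (cancel_mono (ιG i).left).1 (congrArg CommaMorphism.left (?_ : (ρ ≫ x) ≫ ιG i = (σ ≫ n hki') ≫ ιG i))
      rw [Category.assoc, Category.assoc, hιn, hσ]
    have hy : ρ ≫ y = σ ≫ n hkj' := by
      have := hoG j
      apply Over.OverMorphism.ext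
      refine (cancel_mono (ιG j).left).1 (congrArg CommaMorphism.left (?_ : (ρ ≫ y) ≫ ιG j = (σ ≫ n hkj') ≫ ιG j))
      rw [Category.assoc, Category.assoc, hιn]
      exact (congrArg (ρ ≫ ·) hxy.symm).trans hσ.symm
    simp only [← Category.assoc, ← Functor.map_comp, hx, hy]
    simp only [Functor.map_comp, Category.assoc, hn₁]
  have hw : qT ≫ π = (yon S).map aG := by
    refine hom_ext_of_openCover fun x => ?_
    obtain ⟨i, hi⟩ := hcG x
    refine ⟨_, ιG i, hoG i, hi, ?_⟩
    rw [reassoc_of% hqT, ← Functor.map_comp, hιa, Functor.map_comp]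
    exact (hsm i).w
  have hcV : ∀ t : ↥T.left, ∃ k, t ∈ Set.range (ιV k).left := fun t => by
    obtain ⟨k, y, hy⟩ := 𝒰.exists_eq t
    exact ⟨k, y, hy⟩
  have hbig : IsPullback qT ((yon S).map aG) π (𝟙 _) :=
    isPullback_of_refines (IsAlgSpace.yon_obj _) hF (IsAlgSpace.yon_obj _) (IsAlgSpace.yon_obj _)
      (by rw [hw, Category.comp_id])
      (refines_yon_of_openCover ιV (fun k => inferInstanceAs (IsOpenImmersion k.1.ι)) hcV)
      (fun i => (yon S).map (ιG i)) (fun i => (yon S).map (a i))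
      (fun i => (yon S).map_isPullback (IsPullback.of_map (Over.forget S) (hιa i)
        (hιpb i)))
      (fun i => by rw [hqT, Category.comp_id]; exact hsm i)
  have := hbig.paste_horiz (IsPullback.of_hasPullback f b)
  rw [Category.id_comp] at this
  exact ⟨GT, aG, qT ≫ pullback.fst f b, this⟩

/-- A property local at the target may be checked over affine test schemes. -/
theorem repWith_of_affine {P : MorphismProperty Scheme.{u}} [P.IsStableUnderBaseChange]
    [IsZariskiLocalAtTarget P] {F G : Sp S} {f : F ⟶ G} (hf : Representable f)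
    (h : ∀ ⦃Z : Over S⦄, IsAffine Z.left → ∀ (g : (yon S).obj Z ⟶ G),
      ∃ (W : Over S) (i : W ⟶ Z) (fst : (yon S).obj W ⟶ F),
        IsPullback fst ((yon S).map i) f g ∧ P i.left) :
    RepWith P f := by
  refine repWith_of_forall hf fun U V g fst snd sq => ?_
  refine IsZariskiLocalAtTarget.of_openCover U.left.affineCover fun k => ?_
  let t : Over.mk (U.left.affineCover.f k ≫ U.hom) ⟶ U := Over.homMk (U.left.affineCover.f k)
  have ht : IsAffine (Over.mk (U.left.affineCover.f k ≫ U.hom)).left :=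
    inferInstanceAs (IsAffine (U.left.affineCover.X k))
  obtain ⟨W, i, fi, sqi, hi⟩ := h ht ((yon S).map t ≫ g)
  have big := ((yon S).map_isPullback (IsPullback.of_hasPullback snd t)).paste_horiz sq
  let e := big.isoIsPullback _ _ sqi
  obtain ⟨e', he'⟩ := (yon S).map_surjective e.hom
  have : IsIso e' := by
    have : IsIso ((yon S).map e') := by rw [he']; infer_instance
    exact isIso_of_fully_faithful (yon S) e'
  have he : e' ≫ i = pullback.snd snd t := (yon S).map_injective (by
    rw [Functor.map_comp, he', IsPullback.isoIsPullback_hom_snd])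
  have : IsIso e'.left := inferInstanceAs (IsIso ((Over.forget S).map e'))
  have hP : P (pullback.snd snd t).left := by
    rw [← he, Over.comp_left]
    exact (P.cancel_left_of_respectsIso _ _).2 hi
  have e2 := (IsPullback.of_hasPullback snd.left (U.left.affineCover.f k)).isoIsPullback_hom_snd _ _
    ((IsPullback.of_hasPullback snd t).map (Over.forget S))
  change P (pullback.snd snd.left (U.left.affineCover.f k))
  rw [← e2]
  exact (P.cancel_left_of_respectsIso _ _).2 hP

theorem repWith_isAffineHom_of_isAffineMor (hX : IsAlgSpace X) (hY : IsAlgSpace Y) {f : X ⟶ Y}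
    (h : IsAffineMor f) : RepWith @IsAffineHom f :=
  repWith_of_affine (representable_of_isAffineMor hX hY h) fun Z hZ g => by
    obtain ⟨W, i, fst, sq, hW⟩ := h hZ g
    exact ⟨W, i, fst, sq, inferInstance⟩

theorem isAffineMor_of_repWith {F G : Sp S} {f : F ⟶ G} (h : RepWith @IsAffineHom f) : IsAffineMor f :=
  fun Z hZ g => by
    obtain ⟨W, fst, snd, sq, hs⟩ := exists_sq_prop h g
    have : IsAffineHom snd.left := hs
    exact ⟨W, snd, fst, sq, isAffine_of_isAffineHom snd.left⟩

/-- Representable properties stronger than affineness descend along refining families. -/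
theorem repWith_of_refines_affine {P : MorphismProperty Scheme.{u}} [P.IsStableUnderBaseChange]
    [IsZariskiLocalAtTarget P] [P.DescendsAlong (@Surjective ⊓ @Flat ⊓ @QuasiCompact)]
    (hP : P ≤ @IsAffineHom) (hX : IsAlgSpace X) (hY : IsAlgSpace Y) {ι : Type v} {Yi Xi : ι → Sp S}
    {g : ∀ i, Yi i ⟶ Y} (hg : Refines Yi g) {f : X ⟶ Y} (q : ∀ i, Xi i ⟶ X) (p : ∀ i, Xi i ⟶ Yi i)
    (sq : ∀ i, IsPullback (q i) (p i) f (g i)) (h : ∀ i, RepWith P (p i)) : RepWith P f := by
  have hf := representable_of_isAffineMor hX hY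
    (exists_affine_of_refines hX hY hg q p sq fun i => isAffineMor_of_repWith (repWith_mono hP (h i)))
  exact repWith_of_refines hf hg sq h

end Groth.Agent.ASp

namespace Groth.Agent.ASp

open _root_.AlgSp

variable {S : Scheme.{u}} {X Y X' Y' : Sp S} {f : X ⟶ Y}

theorem isAffineMor_iff (hX : IsAlgSpace X) (hY : IsAlgSpace Y) : IsAffineMor f ↔ RepWith @IsAffineHom f :=
  ⟨repWith_isAffineHom_of_isAffineMor hX hY, isAffineMor_of_repWith⟩

theorem isAffineMor_baseChange {g : Y' ⟶ Y} {g' : X' ⟶ X} {f' : X' ⟶ Y'} (sq : IsPullback g' f' f g)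
    (h : IsAffineMor f) : IsAffineMor f' := by
  intro Z hZ b
  obtain ⟨W, i, fst, sqW, hW⟩ := h hZ (b ≫ g)
  let l := sq.lift fst ((yon S).map i ≫ b) (by rw [sqW.w, Category.assoc])
  exact ⟨W, i, l, IsPullback.of_right (by rw [sq.lift_fst]; exact sqW) (sq.lift_snd _ _ _) sq, hW⟩

theorem integralHom_le_affineHom : (@IsIntegralHom : MorphismProperty Scheme.{u}) ≤ @IsAffineHom :=
  fun _ _ g (_ : IsIntegralHom g) => show IsAffineHom g from inferInstance

theorem finite_le_affineHom : (@IsFinite : MorphismProperty Scheme.{u}) ≤ @IsAffineHom :=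
  fun _ _ g (_ : IsFinite g) => show IsAffineHom g from inferInstance

theorem closedImmersion_le_affineHom : (@IsClosedImmersion : MorphismProperty Scheme.{u}) ≤ @IsAffineHom :=
  fun _ _ g (_ : IsClosedImmersion g) => show IsAffineHom g from inferInstance

theorem isIntegralMor_iff (hX : IsAlgSpace X) (hY : IsAlgSpace Y) :
    IsIntegralMor f ↔ RepWith @IsIntegralHom f := by
  constructor
  · intro h
    have ha : IsAffineMor f := fun Z hZ g => by
      obtain ⟨W, i, fst, sq, hW, -⟩ := h hZ g; exact ⟨W, i, fst, sq, hW⟩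
    exact repWith_of_affine (representable_of_isAffineMor hX hY ha) fun Z hZ g => by
      obtain ⟨W, i, fst, sq, -, hi⟩ := h hZ g; exact ⟨W, i, fst, sq, hi⟩
  · intro h Z hZ g
    obtain ⟨W, fst, snd, sq, hs⟩ := exists_sq_prop h g
    have : IsIntegralHom snd.left := hs
    exact ⟨W, snd, fst, sq, isAffine_of_isAffineHom snd.left, hs⟩

theorem isFiniteMor_iff (hX : IsAlgSpace X) (hY : IsAlgSpace Y) :
    IsFiniteMor f ↔ RepWith @IsFinite f := by
  constructor
  · intro h
    have ha : IsAffineMor f := fun Z hZ g => by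
      obtain ⟨W, i, fst, sq, hW, -⟩ := h hZ g; exact ⟨W, i, fst, sq, hW⟩
    exact repWith_of_affine (representable_of_isAffineMor hX hY ha) fun Z hZ g => by
      obtain ⟨W, i, fst, sq, -, hi⟩ := h hZ g; exact ⟨W, i, fst, sq, hi⟩
  · intro h Z hZ g
    obtain ⟨W, fst, snd, sq, hs⟩ := exists_sq_prop h g
    have : IsFinite snd.left := hs
    exact ⟨W, snd, fst, sq, isAffine_of_isAffineHom snd.left, hs⟩

/-- Representable properties stronger than affineness are local on the base. -/
theorem isLocalOnBase_repWith_affine {τ : CovNotion S}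
    (hτ : ∀ ⦃ι : Type u⦄ ⦃Y : Sp S⦄ (Yi : ι → Sp S) (g : ∀ i, Yi i ⟶ Y), IsAlgSpace Y →
      (∀ i, IsAlgSpace (Yi i)) → τ Yi g → Refines Yi g)
    (P : MorphismProperty Scheme.{u}) [P.IsStableUnderBaseChange] [IsZariskiLocalAtTarget P]
    [P.DescendsAlong (@Surjective ⊓ @Flat ⊓ @QuasiCompact)] (hP : P ≤ @IsAffineHom) :
    IsLocalOnBase τ (RepWith P) := fun _ _ Yi g hY hYi hg _ f hX _ p q _ sq =>
  ⟨fun h i => repWith_baseChange (sq i) h,
    fun h => repWith_of_refines_affine hP hX hY (hτ Yi g hY hYi hg) q p sq h⟩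

end Groth.Agent.ASp
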