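import Groth.Prelude.Def_AlgSp4
import Mathlib.AlgebraicGeometry.Morphisms.UniversallyOpen
import Mathlib.AlgebraicGeometry.Morphisms.UniversallyInjective
import Mathlib.AlgebraicGeometry.Morphisms.Flat
import Mathlib.CategoryTheory.Sites.PrecoverageToGrothendieck

/-!
Basic API: representable morphisms of fppf sheaves, points of pullbacks, open maps on points.
-/

universe u

open CategoryTheory CategoryTheory.Limits AlgebraicGeometry Opposite

noncomputable section

namespace Groth.Agent.ASp

open AlgSp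

variable {S : Scheme.{u}} {F G H : Sp S}

instance instMonoRespectsIso : (MorphismProperty.monomorphisms Scheme.{u}).RespectsIso :=
  MorphismProperty.RespectsIso.monomorphisms _

/-- A representable morphism has a represented pullback along every map from a scheme. -/
theorem exists_sq {f : F ⟶ G} (hf : Representable f) {U : Over S} (g : (yon S).obj U ⟶ G) :
    ∃ (V : Over S) (fst : (yon S).obj V ⟶ F) (snd : V ⟶ U),
      IsPullback fst ((yon S).map snd) f g :=
  ⟨hf.pullback g, hf.fst g, hf.snd g, hf.isPullback g⟩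

theorem exists_sq_prop {P : MorphismProperty Scheme.{u}} {f : F ⟶ G} (hf : RepWith P f)
    {U : Over S} (g : (yon S).obj U ⟶ G) :
    ∃ (V : Over S) (fst : (yon S).obj V ⟶ F) (snd : V ⟶ U),
      IsPullback fst ((yon S).map snd) f g ∧ P snd.left := by
  obtain ⟨V, fst, snd, sq⟩ := exists_sq hf.rep g
  exact ⟨V, fst, snd, sq, hf.2 g fst snd sq⟩

theorem repWith_of_exists {P : MorphismProperty Scheme.{u}} [P.RespectsIso] {f : F ⟶ G}
    (h : ∀ ⦃U : Over S⦄ (g : (yon S).obj U ⟶ G), ∃ (V : Over S) (fst : (yon S).obj V ⟶ F)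
      (snd : V ⟶ U), IsPullback fst ((yon S).map snd) f g ∧ P snd.left) : RepWith P f :=
  MorphismProperty.relative.of_exists fun U g => by
    obtain ⟨V, fst, snd, sq, hsnd⟩ := h g
    exact ⟨V, fst, snd, sq, hsnd⟩

theorem repWith_of_forall {P : MorphismProperty Scheme.{u}} {f : F ⟶ G} (hf : Representable f)
    (h : ∀ ⦃U V : Over S⦄ (g : (yon S).obj U ⟶ G) (fst : (yon S).obj V ⟶ F) (snd : V ⟶ U),
      IsPullback fst ((yon S).map snd) f g → P snd.left) : RepWith P f :=
  ⟨hf, fun {_ _} g fst snd sq => h g fst snd sq⟩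

theorem repWith_mono {P Q : MorphismProperty Scheme.{u}} (h : P ≤ Q) {f : F ⟶ G}
    (hf : RepWith P f) : RepWith Q f :=
  repWith_of_forall hf.rep fun _ _ g fst snd sq => h _ (hf.2 g fst snd sq)

theorem repWith_inf_iff {P Q : MorphismProperty Scheme.{u}} {f : F ⟶ G} :
    RepWith (P ⊓ Q) f ↔ RepWith P f ∧ RepWith Q f :=
  ⟨fun h => ⟨repWith_mono inf_le_left h, repWith_mono inf_le_right h⟩,
    fun h => repWith_of_forall h.1.rep fun _ _ g fst snd sq => ⟨h.1.2 g fst snd sq, h.2.2 g fst snd sq⟩⟩

theorem repWith_comp {P : MorphismProperty Scheme.{u}} [P.IsStableUnderComposition]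
    {f : F ⟶ G} {g : G ⟶ H} (hf : RepWith P f) (hg : RepWith P g) : RepWith P (f ≫ g) :=
  MorphismProperty.comp_mem _ _ _ hf hg

theorem repWith_baseChange {P : MorphismProperty Scheme.{u}} {F' G' : Sp S} {f : F ⟶ G}
    {g : G' ⟶ G} {g' : F' ⟶ F} {f' : F' ⟶ G'} (sq : IsPullback g' f' f g) (hf : RepWith P f) :
    RepWith P f' :=
  MorphismProperty.of_isPullback (P := RepWith P) sq hf

theorem representable_baseChange {F' G' : Sp S} {f : F ⟶ G}
    {g : G' ⟶ G} {g' : F' ⟶ F} {f' : F' ⟶ G'} (sq : IsPullback g' f' f g) (hf : Representable f) :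
    Representable f' :=
  MorphismProperty.of_isPullback (P := Representable) sq hf

/-- Maps from schemes into a common sheaf equal after restriction. -/
theorem map_cancel {U V : Over S} {a b : U ⟶ V} (h : (yon S).map a = (yon S).map b) : a = b :=
  (yon S).map_injective h

/-- Sections are maps from representables. -/
abbrev sec {T : Over S} : ((yon S).obj T ⟶ F) ≃ F.obj.obj (op T) := (J S).uliftYonedaEquiv

theorem sec_map {T T' : Over S} (g : (yon S).obj T ⟶ F) (a : T' ⟶ T) :
    F.obj.map a.op (sec g) = sec ((yon S).map a ≫ g) :=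
  GrothendieckTopology.uliftYonedaEquiv_naturality _ g a

theorem sec_comp {T : Over S} (g : (yon S).obj T ⟶ F) (f : F ⟶ G) :
    sec (g ≫ f) = f.hom.app (op T) (sec g) := rfl

/-! ### Field-valued points as morphisms -/

/-- The morphism `h_{Spec K} ⟶ F` of a field-valued point. -/
def toHom (p : FieldPt F) : (yon S).obj p.pt ⟶ F := (J S).uliftYonedaEquiv.symm p.val

theorem toHom_app (p : FieldPt F) : (J S).uliftYonedaEquiv (toHom p) = p.val :=
  Equiv.apply_symm_apply _ _

theorem app_eq_uliftYonedaEquiv {T : Over S} (g : (yon S).obj T ⟶ F) :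
    g.hom.app (op T) ⟨𝟙 T⟩ = (J S).uliftYonedaEquiv g := rfl

theorem uliftYonedaEquiv_map {T T' : Over S} (g : (yon S).obj T ⟶ F) (a : T' ⟶ T) :
    F.obj.map a.op ((J S).uliftYonedaEquiv g) = (J S).uliftYonedaEquiv ((yon S).map a ≫ g) :=
  GrothendieckTopology.uliftYonedaEquiv_naturality _ g a

theorem map_toHom (p : FieldPt F) (f : F ⟶ G) : toHom (p.map f) = toHom p ≫ f := by
  apply (J S).uliftYonedaEquiv.injective
  rw [toHom_app]
  change f.hom.app _ p.val = _
  rw [← toHom_app p]
  rfl

theorem rel_iff_hom {p q : FieldPt F} : FieldPt.Rel p q ↔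
    ∃ (Ω : Type u) (_ : Field Ω) (w : Spec (CommRingCat.of Ω) ⟶ S) (a : Over.mk w ⟶ p.pt)
      (b : Over.mk w ⟶ q.pt), (yon S).map a ≫ toHom p = (yon S).map b ≫ toHom q := by
  constructor
  · rintro ⟨Ω, _, w, a, b, h⟩
    refine ⟨Ω, inferInstance, w, a, b, (J S).uliftYonedaEquiv.injective ?_⟩
    rw [← uliftYonedaEquiv_map, ← uliftYonedaEquiv_map, toHom_app, toHom_app]
    exact h
  · rintro ⟨Ω, _, w, a, b, h⟩
    refine ⟨Ω, inferInstance, w, a, b, ?_⟩
    rw [← toHom_app p, ← toHom_app q, uliftYonedaEquiv_map, uliftYonedaEquiv_map, h]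

/-- A point of `F` given by a map from the spectrum of a field. -/
def mkPt {K : Type u} [Field K] {w : Spec (CommRingCat.of K) ⟶ S}
    (g : (yon S).obj (Over.mk w) ⟶ F) : FieldPt F := ⟨K, w, (J S).uliftYonedaEquiv g⟩

theorem toHom_mkPt {K : Type u} [Field K] {w : Spec (CommRingCat.of K) ⟶ S}
    (g : (yon S).obj (Over.mk w) ⟶ F) : toHom (mkPt g) = g :=
  Equiv.symm_apply_apply _ _

theorem ofPt_yon_map_comp {T T' : Over S} (φ : T ⟶ T') (g : (yon S).obj T' ⟶ F) (t : ↥T.left) :
    Points.ofPt ((yon S).map φ ≫ g) t = Points.ofPt g (φ.left t) := by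
  rw [← Points.map_ofPt, Points.ofPt_eq_map_ofScheme g]
  congr 1
  rw [← Points.ofScheme_toScheme T' (Points.ofPt ((yon S).map φ) t), Points.toScheme_ofPt]

theorem mk_eq_ofPt (p : FieldPt F) (t : ↥p.pt.left) : Points.mk p = Points.ofPt (toHom p) t := by
  rw [Points.ofPt_eq_map_ofScheme]
  have h := Points.ofScheme_apply_eq_mk p.pt (K := p.K) (str := p.str) (𝟙 _) (Category.id_comp _)
  have ht : t = (𝟙 (Spec (CommRingCat.of p.K)) : _ ⟶ _) (IsLocalRing.closedPoint p.K) :=
    Subsingleton.elim (α := PrimeSpectrum p.K) _ _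
  rw [ht, h]
  change Points.mk p = Points.mk (FieldPt.map _ _)
  congr 1
  obtain ⟨K, str, v⟩ := p
  change (⟨K, str, v⟩ : FieldPt F) = ⟨K, str, _⟩
  congr 1
  exact (toHom_app (F := F) ⟨K, str, v⟩).symm

/-- Every point comes from a map from a one point scheme. -/
theorem exists_ofPt (x : Points F) :
    ∃ (T : Over S) (g : (yon S).obj T ⟶ F) (t : ↥T.left), Subsingleton ↥T.left ∧ Points.ofPt g t = x := by
  induction x using Points.ind with
  | h p =>
    have : Subsingleton ↥p.pt.left := inferInstanceAs (Subsingleton (PrimeSpectrum p.K))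
    exact ⟨p.pt, toHom p, IsLocalRing.closedPoint p.K, this, (mk_eq_ofPt p _).symm⟩

/-- Points of a fibre product of sheaves surject onto compatible pairs of points. -/
theorem exists_of_isPullback {P X Y Z : Sp S} {fst : P ⟶ Z} {snd : P ⟶ X} {g : Z ⟶ Y} {f : X ⟶ Y}
    (h : IsPullback fst snd g f) (z : Points Z) (x : Points X)
    (e : Points.map g z = Points.map f x) :
    ∃ p : Points P, Points.map fst p = z ∧ Points.map snd p = x := by
  induction z using Points.ind with
  | h p =>
    induction x using Points.ind with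
    | h q =>
      rw [Points.map, Points.map] at e
      change Points.mk (p.map g) = Points.mk (q.map f) at e
      rw [Points.mk_eq_mk_iff, rel_iff_hom] at e
      obtain ⟨Ω, _, w, a, b, hab⟩ := e
      let a' : Over.mk w ⟶ p.pt := a
      let b' : Over.mk w ⟶ q.pt := b
      have hab' : ((yon S).map a' ≫ toHom p) ≫ g = ((yon S).map b' ≫ toHom q) ≫ f := by
        rw [map_toHom, map_toHom] at hab
        exact (Category.assoc _ _ _).trans (hab.trans (Category.assoc _ _ _).symm)
      let l := h.lift ((yon S).map a' ≫ toHom p) ((yon S).map b' ≫ toHom q) hab'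
      let t : ↥(Over.mk w).left := IsLocalRing.closedPoint Ω
      refine ⟨Points.ofPt l t, ?_, ?_⟩
      · rw [Points.map_ofPt, h.lift_fst, ofPt_yon_map_comp, mk_eq_ofPt p (a'.left t)]
      · rw [Points.map_ofPt, h.lift_snd, ofPt_yon_map_comp, mk_eq_ofPt q (b'.left t)]

theorem ofPt_eq_ofPt_iff_of_sq {U V W : Over S} {a : (yon S).obj U ⟶ F} {b : (yon S).obj V ⟶ F}
    {fst : W ⟶ U} {snd : W ⟶ V} (sq : IsPullback ((yon S).map fst) ((yon S).map snd) a b)
    (u : ↥U.left) (v : ↥V.left) :
    Points.ofPt a u = Points.ofPt b v ↔ ∃ w : ↥W.left, fst.left w = u ∧ snd.left w = v := by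
  constructor
  · intro h
    obtain ⟨p, hp₁, hp₂⟩ := exists_of_isPullback sq (Points.ofScheme U u) (Points.ofScheme V v)
      (by rw [← Points.ofPt_eq_map_ofScheme, ← Points.ofPt_eq_map_ofScheme]; exact h)
    obtain ⟨w, rfl⟩ := (Points.schemeEquiv W).surjective p
    refine ⟨w, ?_, ?_⟩
    · apply (Points.schemeEquiv U).injective
      change Points.ofScheme U _ = Points.ofScheme U u
      rw [← hp₁]
      exact (Points.map_yon_map_apply fst w).symm
    · apply (Points.schemeEquiv V).injective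
      change Points.ofScheme V _ = Points.ofScheme V v
      rw [← hp₂]
      exact (Points.map_yon_map_apply snd w).symm
  · rintro ⟨w, rfl, rfl⟩
    rw [← ofPt_yon_map_comp, ← ofPt_yon_map_comp, sq.w]

/-- For a square over a morphism `f` and a chart of the target: points of `F` over a point of the chart. -/
theorem exists_pt_of_sq {f : F ⟶ G} {U V : Over S} {g : (yon S).obj U ⟶ G}
    {fst : (yon S).obj V ⟶ F} {snd : V ⟶ U} (sq : IsPullback fst ((yon S).map snd) f g)
    (x : Points F) (u : ↥U.left) (h : Points.map f x = Points.ofPt g u) :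
    ∃ v : ↥V.left, Points.ofPt fst v = x ∧ snd.left v = u := by
  obtain ⟨p, hp₁, hp₂⟩ := exists_of_isPullback sq x (Points.ofScheme U u)
    (by rw [h, Points.ofPt_eq_map_ofScheme])
  obtain ⟨v, rfl⟩ := (Points.schemeEquiv V).surjective p
  refine ⟨v, ?_, ?_⟩
  · rw [Points.ofPt_eq_map_ofScheme]; exact hp₁
  · apply (Points.schemeEquiv U).injective
    change Points.ofScheme U _ = Points.ofScheme U u
    rw [← hp₂]
    exact (Points.map_yon_map_apply snd v).symm

theorem preimage_image_of_sq {f : F ⟶ G} {U V : Over S} {g : (yon S).obj U ⟶ G}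
    {fst : (yon S).obj V ⟶ F} {snd : V ⟶ U} (sq : IsPullback fst ((yon S).map snd) f g)
    (W : Set (Points F)) :
    Points.ofPt g ⁻¹' (Points.map f '' W) = snd.left '' (Points.ofPt fst ⁻¹' W) := by
  ext u
  constructor
  · rintro ⟨x, hx, hfx⟩
    obtain ⟨v, hv, hv'⟩ := exists_pt_of_sq sq x u hfx
    exact ⟨v, show Points.ofPt fst v ∈ W by rwa [hv], hv'⟩
  · rintro ⟨v, hv, rfl⟩
    refine ⟨Points.ofPt fst v, hv, ?_⟩
    rw [Points.map_ofPt, sq.w, ofPt_yon_map_comp]

/-! ### Surjective, open, injective -/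

theorem surjective_map_of_repWith {f : F ⟶ G} (hf : RepWith @Surjective f) :
    Function.Surjective (Points.map f) := by
  intro y
  obtain ⟨T, g, t, -, rfl⟩ := exists_ofPt y
  obtain ⟨V, fst, snd, sq, hsurj⟩ := exists_sq_prop hf g
  have : Surjective snd.left := hsurj
  obtain ⟨v, hv⟩ := snd.left.surjective t
  exact ⟨Points.ofPt fst v, by rw [Points.map_ofPt, sq.w, ofPt_yon_map_comp, hv]⟩

theorem repWith_surjective_of_surjective_map {f : F ⟶ G} (hf : Representable f)
    (h : Function.Surjective (Points.map f)) : RepWith @Surjective f :=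
  repWith_of_forall hf fun U V g fst snd sq => ⟨fun u => by
    obtain ⟨x, hx⟩ := h (Points.ofPt g u)
    obtain ⟨v, -, hv⟩ := exists_pt_of_sq sq x u hx
    exact ⟨v, hv⟩⟩

theorem surjective_ofPt_of_repWith {U : Over S} {a : (yon S).obj U ⟶ F}
    (ha : RepWith @Surjective a) : Function.Surjective (Points.ofPt a) := by
  intro x
  obtain ⟨y, hy⟩ := surjective_map_of_repWith ha x
  obtain ⟨u, rfl⟩ := (Points.schemeEquiv U).surjective y
  exact ⟨u, by rw [Points.ofPt_eq_map_ofScheme]; exact hy⟩

theorem isOpenMap_map_of_repWith {f : F ⟶ G} (hf : RepWith @UniversallyOpen f) :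
    IsOpenMap (Points.map f) := by
  intro W hW
  rw [Points.isOpen_iff]
  intro T g
  obtain ⟨V, fst, snd, sq, hop⟩ := exists_sq_prop hf g
  have : UniversallyOpen snd.left := hop
  rw [preimage_image_of_sq sq]
  exact snd.left.isOpenMap _ (Points.isOpen_iff.1 hW _ _)

theorem etale_le_universallyOpen : (@Etale : MorphismProperty Scheme.{u}) ≤ @UniversallyOpen :=
  fun _ _ f hf => by
    have : Etale f := hf
    infer_instance

theorem isOpenMap_map_of_repWith_etale {f : F ⟶ G} (hf : RepWith @Etale f) :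
    IsOpenMap (Points.map f) :=
  isOpenMap_map_of_repWith (repWith_mono etale_le_universallyOpen hf)

theorem isOpenMap_ofPt_of_etale {U : Over S} {a : (yon S).obj U ⟶ F} (ha : RepWith @Etale a) :
    IsOpenMap (Points.ofPt a) := by
  have : Points.ofPt a = Points.map a ∘ Points.schemeHomeo U :=
    funext fun u => Points.ofPt_eq_map_ofScheme a u
  rw [this]
  exact (isOpenMap_map_of_repWith_etale ha).comp (Points.schemeHomeo U).isOpenMap

theorem isQuotientMap_ofPt {U : Over S} {a : (yon S).obj U ⟶ F} (ha : RepWith @Etale a)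
    (hs : RepWith @Surjective a) : Topology.IsQuotientMap (Points.ofPt a) :=
  (isOpenMap_ofPt_of_etale ha).isQuotientMap (Points.continuous_ofPt a) (surjective_ofPt_of_repWith hs)

theorem exists_isOpen_isCompact_nhd (hF : IsAlgSpace F) (x : Points F) :
    ∃ W : Set (Points F), IsOpen W ∧ IsCompact W ∧ x ∈ W := by
  obtain ⟨U, p, hpe, hps⟩ := hF.atlas
  obtain ⟨u, rfl⟩ := surjective_ofPt_of_repWith hps x
  obtain ⟨V, hV, huV, -⟩ := exists_isAffineOpen_mem_and_subset (X := U.left) (x := u) (U := ⊤) trivial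
  exact ⟨Points.ofPt p '' V, isOpenMap_ofPt_of_etale hpe _ V.2,
    hV.isCompact.image (Points.continuous_ofPt p), u, huV, rfl⟩

end Groth.Agent.ASp
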