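import Groth.Agent.Lib.AlgSpRefine

/-!
Topological properties of morphisms and their locality on the base.
-/

universe u v

open CategoryTheory CategoryTheory.Limits AlgebraicGeometry Opposite

noncomputable section

set_option backward.isDefEq.respectTransparency.types false

namespace Groth.Agent.ASp

open AlgSp

variable {S : Scheme.{u}} {F G H X Y : Sp S} {ι : Type v}

/-- The fibre product of algebraic spaces is an algebraic space. -/
theorem isAlgSpace_pullback {A B C : Sp S} (f : A ⟶ C) (g : B ⟶ C) (hA : IsAlgSpace A)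
    (hB : IsAlgSpace B) (hC : IsAlgSpace C) : IsAlgSpace (pullback f g) :=
  isAlgSpace_of_isPullback hC.diag (IsPullback.of_hasPullback f g) hA hB

theorem preimage_image_of_isPullback {P A B C : Sp S} {t : P ⟶ A} {s : P ⟶ B} {f : A ⟶ C}
    {c : B ⟶ C} (sq : IsPullback t s f c) (W : Set (Points A)) :
    Points.map c ⁻¹' (Points.map f '' W) = Points.map s '' (Points.map t ⁻¹' W) := by
  ext b
  constructor
  · rintro ⟨a, ha, hab⟩
    obtain ⟨p, hp₁, hp₂⟩ := exists_of_isPullback sq a b hab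
    exact ⟨p, show Points.map t p ∈ W by rwa [hp₁], hp₂⟩
  · rintro ⟨p, hp, rfl⟩
    exact ⟨Points.map t p, hp, by rw [← Points.map_comp, sq.w, Points.map_comp]⟩

/-- Descent of a property of morphisms along refining families. -/
def DescendsRefines (Q : MorphismProperty (Sp S)) : Prop :=
  ∀ ⦃Z Z' : Sp S⦄ (snd : Z' ⟶ Z) (κ : Type u) (Zi Zi' : κ → Sp S) (c : ∀ i, Zi i ⟶ Z)
    (t : ∀ i, Zi' i ⟶ Z') (s : ∀ i, Zi' i ⟶ Zi i),
    (∀ i, IsPullback (t i) (s i) snd (c i)) → Refines Zi c → (∀ i, Q (s i)) → Q snd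

theorem descendsRefines_open : DescendsRefines (S := S) IsOpenMor := by
  intro Z Z' snd κ Zi Zi' c t s sq hc h W hW
  refine hc.isOpen fun i => ?_
  rw [preimage_image_of_isPullback (sq i)]
  exact h i _ (hW.preimage (Points.continuous_map _))

theorem descendsRefines_closed : DescendsRefines (S := S) IsClosedMor := by
  intro Z Z' snd κ Zi Zi' c t s sq hc h W hW
  refine hc.isClosed fun i => ?_
  rw [preimage_image_of_isPullback (sq i)]
  exact h i _ (hW.preimage (Points.continuous_map _))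

theorem injective_of_jointlySurjective {Z Z' : Sp S} {snd : Z' ⟶ Z} {κ : Type v} {Zi Zi' : κ → Sp S}
    (c : ∀ i, Zi i ⟶ Z) (t : ∀ i, Zi' i ⟶ Z') (s : ∀ i, Zi' i ⟶ Zi i)
    (sq : ∀ i, IsPullback (t i) (s i) snd (c i))
    (hc : ∀ z : Points Z, ∃ i y, Points.map (c i) y = z)
    (h : ∀ i, Function.Injective (Points.map (s i))) : Function.Injective (Points.map snd) := by
  intro a b hab
  obtain ⟨i, z, hz⟩ := hc (Points.map snd a)
  obtain ⟨p, hp₁, hp₂⟩ := exists_of_isPullback (sq i) a z hz.symm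
  obtain ⟨p', hp₁', hp₂'⟩ := exists_of_isPullback (sq i) b z (hab.symm.trans hz.symm)
  rw [← hp₁, ← hp₁', h i (hp₂.trans hp₂'.symm)]

theorem descendsRefines_injective :
    DescendsRefines (S := S) (fun _ _ f => Function.Injective (Points.map f)) :=
  fun _ _ _ _ _ _ c t s sq hc h => injective_of_jointlySurjective c t s sq hc.exists_pt h

theorem descendsRefines_surjective : DescendsRefines (S := S) IsSurjectiveMor := by
  intro Z Z' snd κ Zi Zi' c t s sq hc h z
  obtain ⟨i, w, rfl⟩ := hc.exists_pt z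
  obtain ⟨p, hp⟩ := h i w
  exact ⟨Points.map (t i) p, by rw [← Points.map_comp, (sq i).w, Points.map_comp, hp]⟩

theorem descendsRefines_submersive : DescendsRefines (S := S) IsSubmersiveMor := by
  intro Z Z' snd κ Zi Zi' c t s sq hc h
  refine ⟨.of_isOpen_preimage_iff_isOpen fun A => ⟨fun hA => ?_, fun hA => hA.preimage (Points.continuous_map _)⟩,
    descendsRefines_surjective snd κ Zi Zi' c t s sq hc fun i => (h i).surjective⟩
  refine hc.isOpen fun i => ?_
  have h' := hA.preimage (Points.continuous_map (t i))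
  rw [← (h i).isOpen_preimage]
  convert h' using 1
  ext p
  simp only [Set.mem_preimage, ← Points.map_comp, (sq i).w]

theorem descendsRefines_homeo :
    DescendsRefines (S := S) (fun _ _ f => IsHomeomorph (Points.map f)) := by
  intro Z Z' snd κ Zi Zi' c t s sq hc h
  exact ⟨Points.continuous_map _,
    descendsRefines_open snd κ Zi Zi' c t s sq hc fun i => (h i).isOpenMap,
    descendsRefines_injective snd κ Zi Zi' c t s sq hc fun i => (h i).bijective.1,
    descendsRefines_surjective snd κ Zi Zi' c t s sq hc fun i => (h i).bijective.2⟩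

theorem univSp_baseChange {Q : MorphismProperty (Sp S)} {X' Y' : Sp S} {f : X ⟶ Y} {g : Y' ⟶ Y}
    {g' : X' ⟶ X} {f' : X' ⟶ Y'} (sq : IsPullback g' f' f g) (h : UnivSp Q f) : UnivSp Q f' :=
  fun _ _ hZ b fst snd sq' => h hZ (b ≫ g) (fst ≫ g') snd (sq'.paste_horiz sq)

/-- `UnivSp Q` descends along refining families when `Q` does. -/
theorem univSp_of_refines {Q : MorphismProperty (Sp S)} (hQ : DescendsRefines Q) {κ : Type u}
    {Yi Xi : κ → Sp S} {g : ∀ i, Yi i ⟶ Y} (hY : IsAlgSpace Y) (hYi : ∀ i, IsAlgSpace (Yi i))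
    (hg : Refines Yi g) {f : X ⟶ Y} {p : ∀ i, Xi i ⟶ Yi i} {q : ∀ i, Xi i ⟶ X}
    (sq : ∀ i, IsPullback (q i) (p i) f (g i)) (h : ∀ i, UnivSp Q (p i)) : UnivSp Q f := by
  intro Z Z' hZ b fst snd hsq
  have sqc : ∀ i, IsPullback (pullback.fst b (g i)) (pullback.snd b (g i)) b (g i) :=
    fun i => IsPullback.of_hasPullback _ _
  refine hQ snd κ (fun i => pullback b (g i)) (fun i => pullback snd (pullback.fst b (g i)))
    (fun i => pullback.fst b (g i)) (fun i => pullback.fst _ _) (fun i => pullback.snd _ _)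
    (fun i => IsPullback.of_hasPullback _ _) (hg.baseChange b _ _ sqc) fun i => ?_
  have big := (IsPullback.of_hasPullback snd (pullback.fst b (g i))).paste_horiz hsq
  rw [(sqc i).w] at big
  exact h i (isAlgSpace_pullback b (g i) hZ (hYi i) hY) (pullback.snd b (g i))
    ((sq i).lift (pullback.fst _ _ ≫ fst) (pullback.snd _ _ ≫ pullback.snd b (g i))
      (by rw [big.w, Category.assoc])) _
    (IsPullback.of_right (by rw [(sq i).lift_fst]; exact big) ((sq i).lift_snd _ _ _) (sq i))

/-- `UnivSp Q` may be tested on affine schemes. -/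
theorem univSp_of_affine {Q : MorphismProperty (Sp S)} (hQ : DescendsRefines Q) {f : X ⟶ Y}
    (h : ∀ (Z : Over S), IsAffine Z.left → ∀ (g : (yon S).obj Z ⟶ Y) (P : Sp S) (fst : P ⟶ X)
      (snd : P ⟶ (yon S).obj Z), IsPullback fst snd f g → Q snd) : UnivSp Q f := by
  intro Z Z' hZ b fst snd hsq
  obtain ⟨κ, U, a, hU, -, ha⟩ := exists_refines_affine hZ
  exact hQ snd κ _ (fun k => pullback snd (a k)) a (fun k => pullback.fst _ _) (fun k => pullback.snd _ _)
    (fun k => IsPullback.of_hasPullback _ _) ha fun k =>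
      h (U k) (hU k) (a k ≫ b) _ _ _ ((IsPullback.of_hasPullback snd (a k)).paste_horiz hsq)

/-- A surjective morphism stays surjective after base change. -/
theorem surjective_baseChange {X' Y' : Sp S} {f : X ⟶ Y} {g : Y' ⟶ Y} {g' : X' ⟶ X} {f' : X' ⟶ Y'}
    (sq : IsPullback g' f' f g) (hf : IsSurjectiveMor f) : IsSurjectiveMor f' := by
  intro y
  obtain ⟨x, hx⟩ := hf (Points.map g y)
  obtain ⟨p, -, hp⟩ := exists_of_isPullback sq x y hx
  exact ⟨p, hp⟩

/-! ### Quasi-compactness -/

theorem isQuasiCompactMor_baseChange {X' Y' : Sp S} {f : X ⟶ Y} {g : Y' ⟶ Y} {g' : X' ⟶ X}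
    {f' : X' ⟶ Y'} (sq : IsPullback g' f' f g) (h : IsQuasiCompactMor f) : IsQuasiCompactMor f' :=
  fun _ _ hZ hqc b fst snd sq' => h hZ hqc (b ≫ g) (fst ≫ g') snd (sq'.paste_horiz sq)

theorem isQuasiCompactSp_yon {U : Over S} (hU : CompactSpace U.left) : IsQuasiCompactSp ((yon S).obj U) :=
  ⟨U, 𝟙 _, repWith_id _ U, repWith_id _ U, hU⟩

/-- A space covered by finitely many quasi-compact spaces is quasi-compact. -/
theorem isQuasiCompactSp_of_cover (hF : IsAlgSpace F) {κ : Type v} [Finite κ] {P : κ → Sp S}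
    (t : ∀ k, P k ⟶ F) (hP : ∀ k, IsQuasiCompactSp (P k))
    (hcov : ∀ x : Points F, ∃ k y, Points.map (t k) y = x) : IsQuasiCompactSp F := by
  rw [isQuasiCompactSp_iff hF]
  constructor
  have : (Set.univ : Set (Points F)) = ⋃ k, Set.range (Points.map (t k)) := by
    refine (Set.eq_univ_of_forall fun x => ?_).symm
    obtain ⟨k, y, hy⟩ := hcov x
    exact Set.mem_iUnion.2 ⟨k, y, hy⟩
  rw [this]
  refine isCompact_iUnion fun k => ?_
  have := compactSpace_points (hP k)
  exact isCompact_range (Points.continuous_map _)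

theorem isQuasiCompactMor_of_affine {f : X ⟶ Y} (hX : IsAlgSpace X) (hY : IsAlgSpace Y)
    (h : ∀ (Z : Over S), IsAffine Z.left → ∀ (g : (yon S).obj Z ⟶ Y) (P : Sp S) (fst : P ⟶ X)
      (snd : P ⟶ (yon S).obj Z), IsPullback fst snd f g → IsQuasiCompactSp P) :
    IsQuasiCompactMor f := by
  intro Z Z' hZ hqc g fst snd sq
  have := compactSpace_points hqc
  obtain ⟨U, p, hU, hpe, hps⟩ := exists_affine_chart_of_compact hZ
  refine isQuasiCompactSp_of_cover (isAlgSpace_of_isPullback hY.diag sq hX hZ) (κ := PUnit.{1})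
    (fun _ => pullback.fst snd p)
    (fun _ => h U hU (p ≫ g) _ _ _ ((IsPullback.of_hasPullback snd p).paste_horiz sq)) fun x => ?_
  obtain ⟨u, hu⟩ := surjective_map_of_repWith hps (Points.map snd x)
  obtain ⟨q, hq, -⟩ := exists_of_isPullback (IsPullback.of_hasPullback snd p) x u hu.symm
  exact ⟨⟨⟩, q, hq⟩

theorem isQuasiCompactMor_of_refines {f : X ⟶ Y} (hX : IsAlgSpace X) (hY : IsAlgSpace Y) {κ : Type v}
    {Yi Xi : κ → Sp S} {g : ∀ i, Yi i ⟶ Y} (hg : Refines Yi g) {p : ∀ i, Xi i ⟶ Yi i}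
    {q : ∀ i, Xi i ⟶ X} (sq : ∀ i, IsPullback (q i) (p i) f (g i))
    (h : ∀ i, IsQuasiCompactMor (p i)) : IsQuasiCompactMor f := by
  refine isQuasiCompactMor_of_affine hX hY fun Z hZ b P fst snd hsq => ?_
  obtain ⟨m, W, c, hW, -, hcov, hl⟩ := hg Z hZ b
  choose i l hl using hl
  refine isQuasiCompactSp_of_cover (isAlgSpace_of_isPullback hY.diag hsq hX (IsAlgSpace.yon_obj Z))
    (fun j => pullback.fst snd ((yon S).map (c j))) (fun j => ?_) fun x => ?_
  · have big := (IsPullback.of_hasPullback snd ((yon S).map (c j))).paste_horiz hsq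
    rw [← hl j] at big
    have : IsAffine (W j).left := hW j
    exact h (i j) (IsAlgSpace.yon_obj (W j)) (isQuasiCompactSp_yon inferInstance) (l j)
      ((sq (i j)).lift (pullback.fst _ _ ≫ fst) (pullback.snd _ _ ≫ l j) (by rw [big.w, Category.assoc]))
      _ (IsPullback.of_right (by rw [(sq (i j)).lift_fst]; exact big) ((sq (i j)).lift_snd _ _ _) (sq (i j)))
  · obtain ⟨z, hz⟩ := (Points.schemeEquiv Z).surjective (Points.map snd x)
    obtain ⟨j, w, hw⟩ := hcov z
    obtain ⟨r, hr, -⟩ := exists_of_isPullback (IsPullback.of_hasPullback snd ((yon S).map (c j))) x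
      (Points.ofScheme _ w) (by
        rw [← Points.ofPt_eq_map_ofScheme, ← hz, ← hw]
        rw [← Category.comp_id ((yon S).map (c j))]
        exact (ofPt_yon_map_comp (c j) (𝟙 _) w).symm)
    exact ⟨j, r, hr⟩

end Groth.Agent.ASp
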