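import Mathlib
import Groth.Prelude.Def_BlowUp2

/-! Inverse image ideal sheaves, effective Cartier ideals, blow-ups via the universal property. -/

set_option autoImplicit false

universe u

open CategoryTheory CategoryTheory.Limits AlgebraicGeometry TopologicalSpace

namespace Groth.Agent.H7Cartier

variable {X Y Z : Scheme.{u}}

lemma ideal_comap_of_isAffine [IsAffine X] [IsAffine Y] (I : Y.IdealSheafData) (g : X ⟶ Y) :
    (I.comap g).ideal ⟨⊤, isAffineOpen_top X⟩ =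
      (I.ideal ⟨⊤, isAffineOpen_top Y⟩).map g.appTop.hom := by
  apply le_antisymm
  · let J := Scheme.IdealSheafData.ofIdealTop ((I.ideal ⟨⊤, isAffineOpen_top Y⟩).map g.appTop.hom)
    have hJ : J.ideal ⟨⊤, isAffineOpen_top X⟩ = (I.ideal ⟨⊤, isAffineOpen_top Y⟩).map g.appTop.hom := by
      simp [J]
    rw [← hJ]
    refine Scheme.IdealSheafData.ideal_mono ?_ _
    rw [← Scheme.IdealSheafData.le_map_iff_comap_le]
    refine Scheme.IdealSheafData.le_of_isAffine ?_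
    rw [Scheme.IdealSheafData.ideal_map J g ⟨⊤, isAffineOpen_top Y⟩ (isAffineOpen_top X)]
    exact Ideal.map_le_iff_le_comap.mp hJ.ge
  · rw [Ideal.map_le_iff_le_comap]
    have h := Scheme.IdealSheafData.le_def.mp (Scheme.IdealSheafData.le_map_comap I g)
      ⟨⊤, isAffineOpen_top Y⟩
    rwa [Scheme.IdealSheafData.ideal_map (I.comap g) g ⟨⊤, isAffineOpen_top Y⟩ (isAffineOpen_top X)] at h

lemma map_ringEquiv_comap {A B : CommRingCat.{u}} (e : A ≅ B) (K : Ideal A) :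
    (K.comap e.inv.hom).map e.inv.hom = K :=
  Ideal.map_comap_of_surjective _ (ConcreteCategory.bijective_of_isIso e.inv).2 K

lemma map_iso_square {A A' B B' : CommRingCat.{u}} (φ : A ≅ A') (ψ : B ≅ B') (e : A ⟶ B) (g : A' ⟶ B')
    (hc : φ.hom ≫ g = e ≫ ψ.hom) (K : Ideal A) (L : Ideal B)
    (h : L.comap ψ.inv.hom = (K.comap φ.inv.hom).map g.hom) : L = K.map e.hom := by
  have h2 := congrArg (Ideal.map ψ.inv.hom) h
  rw [map_ringEquiv_comap ψ] at h2
  rw [h2, Ideal.map_map]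
  conv_rhs => rw [← map_ringEquiv_comap φ K, Ideal.map_map]
  rw [← CommRingCat.hom_comp, ← CommRingCat.hom_comp]
  congr 2
  rw [← cancel_mono ψ.hom, Category.assoc, Iso.inv_hom_id, Category.comp_id,
    Category.assoc, ← hc, Iso.inv_hom_id_assoc]

lemma ideal_comap_image {X' Y' : Scheme.{u}} [IsAffine X'] [IsAffine Y'] (I : Y.IdealSheafData)
    (f : X ⟶ Y) (j : X' ⟶ X) [IsOpenImmersion j] (k : Y' ⟶ Y) [IsOpenImmersion k] (g : X' ⟶ Y')
    (h : g ≫ k = j ≫ f) (e : j ''ᵁ ⊤ ≤ f ⁻¹ᵁ (k ''ᵁ ⊤)) :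
    (I.comap f).ideal ⟨j ''ᵁ ⊤, (isAffineOpen_top X').image_of_isOpenImmersion j⟩ =
      (I.ideal ⟨k ''ᵁ ⊤, (isAffineOpen_top Y').image_of_isOpenImmersion k⟩).map (f.appLE _ _ e).hom := by
  have h1 : ((I.comap f).comap j).ideal ⟨⊤, isAffineOpen_top X'⟩ =
      ((I.comap k).ideal ⟨⊤, isAffineOpen_top Y'⟩).map g.appTop.hom := by
    rw [← ideal_comap_of_isAffine, ← Scheme.IdealSheafData.comap_comp, ← Scheme.IdealSheafData.comap_comp, h]
  rw [Scheme.IdealSheafData.ideal_comap_of_isOpenImmersion (I := I.comap f) (f := j)] at h1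
  rw [Scheme.IdealSheafData.ideal_comap_of_isOpenImmersion (I := I) (f := k)] at h1
  have hc : (k.appIso ⊤).hom ≫ g.appTop = f.appLE (k ''ᵁ ⊤) (j ''ᵁ ⊤) e ≫ (j.appIso ⊤).hom := by
    have aux : ∀ {m m' : X' ⟶ Y} (_ : m = m') (e₁ e₂),
        m.appLE (k ''ᵁ ⊤) ⊤ e₁ = m'.appLE (k ''ᵁ ⊤) ⊤ e₂ := by
      rintro m m' rfl e₁ e₂; rfl
    have e1 : g.appTop = g.appLE ⊤ ⊤ (by simp) := Scheme.Hom.app_eq_appLE g
    rw [Scheme.Hom.appIso_hom', Scheme.Hom.appIso_hom', e1]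
    refine (Scheme.Hom.appLE_comp_appLE g k _ _ _ _ _).trans ((aux h _ ?_).trans
      (Scheme.Hom.appLE_comp_appLE j f _ _ _ _ _).symm)
    exact le_trans (Scheme.Hom.preimage_image_eq j ⊤).ge (Scheme.Hom.preimage_mono j e)
  exact map_iso_square (k.appIso ⊤) (j.appIso ⊤) _ _ hc _ _ h1

/-- Sections of an inverse image ideal over an affine open. -/
theorem ideal_comap (I : Y.IdealSheafData) (f : X ⟶ Y) (U : X.affineOpens) (V : Y.affineOpens)
    (e : U.1 ≤ f ⁻¹ᵁ V.1) :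
    (I.comap f).ideal U = (I.ideal V).map (f.appLE V.1 U.1 e).hom := by
  have : IsAffine (U.1 : Scheme.{u}) := U.2
  have : IsAffine (V.1 : Scheme.{u}) := V.2
  have key := ideal_comap_image I f U.1.ι V.1.ι (f.resLE V.1 U.1 e) (Scheme.Hom.resLE_comp_ι _ _)
    (by rw [Scheme.Opens.ι_image_top, Scheme.Opens.ι_image_top]; exact e)
  have aux : ∀ (A : X.Opens) (hA : IsAffineOpen A) (B : Y.Opens) (hB : IsAffineOpen B) (e' : A ≤ f ⁻¹ᵁ B),
      A = U.1 → B = V.1 → (I.comap f).ideal ⟨A, hA⟩ = (I.ideal ⟨B, hB⟩).map (f.appLE B A e').hom →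
      (I.comap f).ideal U = (I.ideal V).map (f.appLE V.1 U.1 e).hom := by
    rintro A hA B hB e' rfl rfl h; exact h
  refine aux _ _ _ _ _ ?_ ?_ key
  · exact U.1.ι_image_top
  · exact V.1.ι_image_top

lemma exists_affine_mem_le (x : X) (W : X.Opens) (hx : x ∈ W) :
    ∃ U : X.affineOpens, x ∈ U.1 ∧ U.1 ≤ W := by
  obtain ⟨U, hU, hxU, hUW⟩ := exists_isAffineOpen_mem_and_subset hx
  exact ⟨⟨U, hU⟩, hxU, hUW⟩

/-- two ideal sheaves agree if they do so on affine opens mapping into affine opens. -/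
lemma ext_of_affine_le (f : X ⟶ Y) {I J : X.IdealSheafData}
    (h : ∀ (U : X.affineOpens) (V : Y.affineOpens), U.1 ≤ f ⁻¹ᵁ V.1 → I.ideal U = J.ideal U) : I = J := by
  have hx : ∀ x : X, ∃ U : X.affineOpens, x ∈ U.1 ∧ ∃ V : Y.affineOpens, U.1 ≤ f ⁻¹ᵁ V.1 := fun x => by
    obtain ⟨V, hV, -⟩ := exists_affine_mem_le (f.base x) ⊤ trivial
    obtain ⟨U, hU, hUV⟩ := exists_affine_mem_le x (f ⁻¹ᵁ V.1) hV
    exact ⟨U, hU, V, hUV⟩
  choose U hU V hV using hx
  refine Scheme.IdealSheafData.ext_of_iSup_eq_top U ?_ fun x => h _ _ (hV x)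
  rw [eq_top_iff]
  exact fun x _ => Opens.mem_iSup.mpr ⟨x, hU x⟩

lemma comap_mul (I J : Y.IdealSheafData) (f : X ⟶ Y) :
    (I * J).comap f = I.comap f * J.comap f :=
  ext_of_affine_le f fun U V e => by
    simp [ideal_comap _ f U V e, Ideal.map_mul]

lemma comap_pow (I : Y.IdealSheafData) (f : X ⟶ Y) (n : ℕ) :
    (I ^ n).comap f = I.comap f ^ n :=
  ext_of_affine_le f fun U V e => by
    simp [ideal_comap _ f U V e, Ideal.map_pow]

lemma comap_eq_top_of_support (I : Y.IdealSheafData) (f : X ⟶ Y)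
    (h : ∀ x : X, f.base x ∉ I.support) : I.comap f = ⊤ := by
  rw [← Scheme.IdealSheafData.support_eq_bot_iff, Scheme.IdealSheafData.support_comap]
  ext x
  simpa using h x

lemma ideal_eq_top_of_support {I : X.IdealSheafData} (U : X.affineOpens)
    (h : ∀ x ∈ U.1, x ∉ I.support) : I.ideal U = ⊤ := by
  by_contra hne
  obtain ⟨m, hm, hle⟩ := Ideal.exists_le_maximal _ hne
  have h1 : U.2.fromSpec ⟨m, hm.isPrime⟩ ∈ U.2.fromSpec '' PrimeSpectrum.zeroLocus (I.ideal U) :=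
    ⟨⟨m, hm.isPrime⟩, hle, rfl⟩
  rw [U.2.fromSpec_image_zeroLocus, ← I.coe_support_inter] at h1
  exact h _ h1.2 h1.1

/-! ### effective Cartier ideals -/

lemma nzd_map_of_flat {A B : Type u} [CommRing A] [CommRing B] (φ : A →+* B) (hφ : φ.Flat) {a : A}
    (ha : a ∈ nonZeroDivisors A) : φ a ∈ nonZeroDivisors B := by
  algebraize [φ]
  have hinj : Function.Injective ((LinearMap.mulLeft A a).lTensor B) :=
    Module.Flat.lTensor_preserves_injective_linearMap _ fun p q h =>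
      (isRegular_iff_mem_nonZeroDivisors.mpr ha).left h
  rw [mem_nonZeroDivisors_iff_right]
  intro b hb
  have h : (LinearMap.mulLeft A a).lTensor B (b ⊗ₜ[A] 1) = (LinearMap.mulLeft A a).lTensor B 0 := by
    rw [map_zero, LinearMap.lTensor_tmul, LinearMap.mulLeft_apply, mul_one]
    rw [show a = a • (1 : A) by simp, TensorProduct.tmul_smul, TensorProduct.smul_tmul', Algebra.smul_def,
      RingHom.algebraMap_toAlgebra, mul_comm, hb, TensorProduct.zero_tmul]
  simpa using congrArg (TensorProduct.rid A B) (hinj h)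

lemma exists_principal_le {I : X.IdealSheafData} (h : BlowUp.IsEffCartierIdeal I) (x : X) (W : X.Opens)
    (hx : x ∈ W) : ∃ U : X.affineOpens, x ∈ U.1 ∧ U.1 ≤ W ∧
      ∃ f : Γ(X, U.1), f ∈ nonZeroDivisors Γ(X, U.1) ∧ I.ideal U = Ideal.span {f} := by
  obtain ⟨U, hxU, f, hf, hI⟩ := h x
  obtain ⟨s, hs, hxs⟩ := U.2.exists_basicOpen_le ⟨x, hx⟩ hxU
  let D : X.affineOpens := ⟨X.basicOpen s, U.2.basicOpen s⟩
  have hle : D.1 ≤ U.1 := X.basicOpen_le s
  refine ⟨D, hxs, hs, X.presheaf.map (homOfLE hle).op f, ?_, ?_⟩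
  · have := U.2.isLocalization_basicOpen s
    refine nzd_map_of_flat _ ?_ hf
    have hfl : (algebraMap Γ(X, U.1) Γ(X, X.basicOpen s)).Flat :=
      RingHom.flat_algebraMap_iff.mpr (IsLocalization.flat _ (Submonoid.powers s))
    exact hfl
  · rw [← I.map_ideal (U := D) (V := U) hle, hI, Ideal.map_span, Set.image_singleton]
    rfl

lemma isEffCartierIdeal_top : BlowUp.IsEffCartierIdeal (⊤ : X.IdealSheafData) := fun x => by
  obtain ⟨U, hU, -⟩ := exists_affine_mem_le x ⊤ trivial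
  exact ⟨U, hU, 1, one_mem _, by simp [Scheme.IdealSheafData.ideal_top]⟩

lemma IsEffCartierIdeal.mul {I J : X.IdealSheafData} (hI : BlowUp.IsEffCartierIdeal I)
    (hJ : BlowUp.IsEffCartierIdeal J) : BlowUp.IsEffCartierIdeal (I * J) := fun x => by
  obtain ⟨U, hxU, f, hf, hIf⟩ := hI x
  obtain ⟨V, hxV, hVU, g, hg, hJg⟩ := exists_principal_le hJ x U.1 hxU
  obtain ⟨W, hxW, hWV, f', hf', hIf'⟩ := exists_principal_le hI x V.1 hxV
  obtain ⟨s, hs, hxs⟩ := V.2.exists_basicOpen_le ⟨x, hxW⟩ hxV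
  let D : X.affineOpens := ⟨X.basicOpen s, V.2.basicOpen s⟩
  have flat_res : ∀ (A : X.affineOpens) (h : D.1 ≤ A.1), (X.presheaf.map (homOfLE h).op).hom.Flat := by
    intro A h
    have hh : Flat (X.homOfLE h) := inferInstance
    have := HasRingHomProperty.appLE (P := @Flat) (𝟙 X) inferInstance A D (by simpa using h)
    rw [Scheme.Hom.appLE, Scheme.Hom.id_app] at this
    exact this
  refine ⟨D, hxs, _, mul_mem (nzd_map_of_flat _ (flat_res W hs) hf')
    (nzd_map_of_flat _ (flat_res V (X.basicOpen_le s)) hg), ?_⟩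
  rw [Scheme.IdealSheafData.ideal_mul, Pi.mul_apply, ← I.map_ideal (U := D) (V := W) hs, hIf',
    ← J.map_ideal (U := D) (V := V) (X.basicOpen_le s), hJg, Ideal.map_span, Ideal.map_span,
    Set.image_singleton, Set.image_singleton, Ideal.span_singleton_mul_span_singleton]
  rfl

lemma isEffCartierIdeal_left_of_mul {I J : X.IdealSheafData} (h : BlowUp.IsEffCartierIdeal (I * J)) :
    BlowUp.IsEffCartierIdeal I := fun x => by
  obtain ⟨U, hxU, f, hf, hIJ⟩ := h x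
  rw [Scheme.IdealSheafData.ideal_mul, Pi.mul_apply] at hIJ
  let A := Γ(X, U.1)
  obtain ⟨p, hp⟩ : ∃ p, p = U.2.primeIdealOf ⟨x, hxU⟩ := ⟨_, rfl⟩
  obtain ⟨a, ha, b, hb, c, hab, hc⟩ : ∃ a ∈ I.ideal U, ∃ b ∈ J.ideal U, ∃ c, a * b = f * c ∧ c ∉ p.asIdeal := by
    by_contra hcon
    push Not at hcon
    have hle : I.ideal U * J.ideal U ≤ p.asIdeal * Ideal.span {f} := Ideal.mul_le.mpr fun a ha b hb => by
      obtain ⟨c, hc⟩ := Ideal.mem_span_singleton.mp (hIJ ▸ Ideal.mul_mem_mul ha hb)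
      rw [hc, mul_comm f]
      exact Ideal.mul_mem_mul (hcon a ha b hb c hc) (Ideal.mem_span_singleton_self f)
    have hf1 : f ∈ p.asIdeal * Ideal.span {f} := hle (hIJ ▸ Ideal.mem_span_singleton_self f)
    obtain ⟨e, he, hef⟩ := Ideal.mem_mul_span_singleton.mp hf1
    have : (e - 1) * f = 0 := by rw [sub_mul, hef, one_mul, sub_self]
    have he1 := (mem_nonZeroDivisors_iff_right.mp hf) _ this
    rw [sub_eq_zero] at he1
    exact p.2.ne_top ((Ideal.eq_top_iff_one _).mpr (he1 ▸ he))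
  have hxc : x ∈ X.basicOpen c := by
    have h1 := U.2.fromSpec_primeIdealOf ⟨x, hxU⟩
    have h2 : U.2.primeIdealOf ⟨x, hxU⟩ ∈ PrimeSpectrum.basicOpen c := hp ▸ hc
    rw [← U.2.fromSpec_preimage_basicOpen] at h2
    have h3 : U.2.fromSpec (U.2.primeIdealOf ⟨x, hxU⟩) ∈ X.basicOpen c := h2
    rw [h1] at h3
    exact h3
  let D : X.affineOpens := ⟨X.basicOpen c, U.2.basicOpen c⟩
  have := U.2.isLocalization_basicOpen c
  let φ := algebraMap Γ(X, U.1) Γ(X, X.basicOpen c)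
  have hfl : φ.Flat := RingHom.flat_algebraMap_iff.mpr (IsLocalization.flat _ (Submonoid.powers c))
  have hu : IsUnit (φ c) := IsLocalization.Away.algebraMap_isUnit c
  have hab' : φ a * φ b ∈ nonZeroDivisors _ := by
    rw [← map_mul, hab, map_mul]
    exact mul_mem (nzd_map_of_flat _ hfl hf) hu.mem_nonZeroDivisors
  refine ⟨D, hxc, φ a, (mul_mem_nonZeroDivisors.mp hab').1, ?_⟩
  rw [← I.map_ideal (U := D) (V := U) (X.basicOpen_le c)]
  change (I.ideal U).map φ = _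
  refine le_antisymm (Ideal.map_le_iff_le_comap.mpr fun a' ha' => ?_) ?_
  · rw [Ideal.mem_comap, Ideal.mem_span_singleton]
    obtain ⟨d, hd⟩ := Ideal.mem_span_singleton.mp (hIJ ▸ Ideal.mul_mem_mul ha' hb)
    refine ⟨φ d * ↑hu.unit⁻¹, ?_⟩
    have hb' : φ b ∈ nonZeroDivisors _ := (mul_mem_nonZeroDivisors.mp hab').2
    refine (mul_cancel_right_mem_nonZeroDivisors hb').mp ?_
    have hu1 : φ c * ↑hu.unit⁻¹ = 1 := hu.mul_val_inv
    have e1 : φ a * φ b = φ f * φ c := by rw [← map_mul, hab, map_mul]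
    rw [← map_mul, hd, map_mul]
    linear_combination (-(φ f * φ d)) * hu1 - (φ d * ↑hu.unit⁻¹) * e1
  · rw [Ideal.span_le, Set.singleton_subset_iff]
    exact Ideal.mem_map_of_mem _ ha

lemma IsEffCartierIdeal.comap_of_flat {I : Y.IdealSheafData} (h : BlowUp.IsEffCartierIdeal I)
    (f : X ⟶ Y) [Flat f] : BlowUp.IsEffCartierIdeal (I.comap f) := fun x => by
  obtain ⟨V, hV, g, hg, hIg⟩ := h (f.base x)
  obtain ⟨U, hU, e⟩ := exists_affine_mem_le x (f ⁻¹ᵁ V.1) hV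
  refine ⟨U, hU, f.appLE V.1 U.1 e g, nzd_map_of_flat _ (HasRingHomProperty.appLE (P := @Flat) f inferInstance V U e) hg, ?_⟩
  rw [ideal_comap I f U V e, hIg, Ideal.map_span, Set.image_singleton]

/-! ### blow-ups -/

variable {X' : Scheme.{u}} {b : X' ⟶ X} {I : X.IdealSheafData}

lemma IsBlowUp.hom_ext (hb : BlowUp.IsBlowUp b I) {W : Scheme.{u}} {p q : W ⟶ X'}
    (h : p ≫ b = q ≫ b) (hp : BlowUp.IsEffCartierIdeal (I.comap (p ≫ b))) : p = q :=
  (hb.2 W (p ≫ b) hp).unique rfl h.symm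

lemma IsBlowUp.isIso_restrict (hb : BlowUp.IsBlowUp b I) (U : X.Opens)
    (hU : ∀ x ∈ U, x ∉ I.support) : IsIso (b ∣_ U) := by
  have h1 : I.comap U.ι = ⊤ := comap_eq_top_of_support I _ fun x => hU _ x.2
  obtain ⟨h, hh, -⟩ := hb.2 _ U.ι (h1 ▸ isEffCartierIdeal_top)
  have hr : Set.range h.base ⊆ Set.range (b ⁻¹ᵁ U).ι.base := by
    rintro _ ⟨x, rfl⟩
    rw [Scheme.Opens.range_ι]
    show b.base (h.base x) ∈ U
    rw [← Scheme.Hom.comp_apply, hh]
    exact x.2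
  let s := IsOpenImmersion.lift (b ⁻¹ᵁ U).ι h hr
  have hs : s ≫ (b ⁻¹ᵁ U).ι = h := IsOpenImmersion.lift_fac _ _ _
  refine ⟨s, ?_, ?_⟩
  · rw [← cancel_mono (b ⁻¹ᵁ U).ι, Category.assoc, hs, Category.id_comp]
    have h2 : ((b ∣_ U) ≫ h) ≫ b = (b ⁻¹ᵁ U).ι ≫ b := by
      rw [Category.assoc, hh, morphismRestrict_ι]
    refine IsBlowUp.hom_ext hb h2 ?_
    rw [h2, ← morphismRestrict_ι, Scheme.IdealSheafData.comap_comp, h1, Scheme.IdealSheafData.comap_top]
    exact isEffCartierIdeal_top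
  · rw [← cancel_mono U.ι, Category.assoc, morphismRestrict_ι, ← Category.assoc, hs, hh, Category.id_comp]

/-! ### away from an effective Cartier divisor -/

lemma basicOpen_disjoint_support {I : X.IdealSheafData} (U : X.affineOpens) {a : Γ(X, U.1)}
    (h : a ∈ I.ideal U) {x : X} (hx : x ∈ X.basicOpen a) : x ∉ I.support := by
  rw [Scheme.IdealSheafData.mem_support_iff_of_mem (U := U) (X.basicOpen_le a hx), Scheme.mem_zeroLocus_iff]
  exact fun hc => hc a h hx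

/-- a point outside the support of `I` lies in some basic open of a section of `I`. -/
lemma exists_mem_basicOpen_of_notMem_support {I : X.IdealSheafData} (U : X.affineOpens) {x : X}
    (hxU : x ∈ U.1) (hx : x ∉ I.support) : ∃ a ∈ I.ideal U, x ∈ X.basicOpen a := by
  rw [Scheme.IdealSheafData.mem_support_iff_of_mem (U := U) hxU, Scheme.mem_zeroLocus_iff] at hx
  push Not at hx
  exact hx

lemma flat_appLE_of_flat_ι_comp {X' : Scheme.{u}} (b : X' ⟶ X) (D : X'.affineOpens) (V : X.affineOpens)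
    (e : D.1 ≤ b ⁻¹ᵁ V.1) (h : Flat (D.1.ι ≫ b)) : (b.appLE V.1 D.1 e).hom.Flat := by
  have : IsAffine (D.1 : Scheme.{u}) := D.2
  have e' : (⊤ : (D.1 : Scheme.{u}).Opens) ≤ (D.1.ι ≫ b) ⁻¹ᵁ V.1 := fun x _ => e x.2
  have h1 := HasRingHomProperty.appLE (P := @Flat) (D.1.ι ≫ b) h V ⟨⊤, isAffineOpen_top _⟩ e'
  rw [← Scheme.Hom.appLE_comp_appLE D.1.ι b V.1 D.1 ⊤ e (fun x _ => x.2)] at h1
  have hiso : IsIso (D.1.ι.appLE D.1 ⊤ (fun x _ => x.2)) := inferInstanceAs (IsIso (D.1.ι.appLE D.1 ⊤ D.1.ι_preimage_self.ge))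
  have h2 := RingHom.Flat.comp h1
    (RingHom.Flat.of_bijective (ConcreteCategory.bijective_of_isIso (inv (D.1.ι.appLE D.1 ⊤ (fun x _ => x.2)))))
  rw [← CommRingCat.hom_comp, Category.assoc, IsIso.hom_inv_id, Category.comp_id] at h2
  exact h2

/-- a section of an affine open vanishing on the complement of an effective Cartier divisor is zero. -/
lemma eq_zero_of_restrict_eq_zero {U : X.affineOpens} {a : Γ(X, U.1)} (ha : a ∈ nonZeroDivisors Γ(X, U.1))
    {t : Γ(X, U.1)} (h : X.presheaf.map (homOfLE (X.basicOpen_le a)).op t = 0) : t = 0 := by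
  have := U.2.isLocalization_basicOpen a
  have h' : algebraMap Γ(X, U.1) Γ(X, X.basicOpen a) t = algebraMap Γ(X, U.1) Γ(X, X.basicOpen a) 0 := by
    rw [map_zero]; exact h
  obtain ⟨⟨_, n, rfl⟩, hn⟩ := IsLocalization.exists_of_eq (M := Submonoid.powers a) h'
  exact (mem_nonZeroDivisors_iff_left.mp (pow_mem ha n)) t (by simpa using hn)

theorem IsEffCartierIdeal.comap_of_flat_off {X' : Scheme.{u}} {E : X'.IdealSheafData}
    (hE : BlowUp.IsEffCartierIdeal E) (b : X' ⟶ X) (W : X'.Opens) (hW : ∀ x, x ∉ E.support → x ∈ W)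
    [Flat (W.ι ≫ b)] {D : X.IdealSheafData} (hD : BlowUp.IsEffCartierIdeal D) :
    BlowUp.IsEffCartierIdeal (D.comap b) := fun x => by
  obtain ⟨V, hV, g, hg, hDg⟩ := hD (b.base x)
  obtain ⟨U, hxU, e, a, ha, hEa⟩ := exists_principal_le hE x (b ⁻¹ᵁ V.1) hV
  refine ⟨U, hxU, b.appLE V.1 U.1 e g, mem_nonZeroDivisors_iff_right.mpr fun t ht => ?_, ?_⟩
  · refine eq_zero_of_restrict_eq_zero ha ?_
    let A : X'.affineOpens := ⟨X'.basicOpen a, U.2.basicOpen a⟩
    have hAW : A.1 ≤ W := fun y hy =>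
      hW y (basicOpen_disjoint_support U (hEa ▸ Ideal.mem_span_singleton_self a) hy)
    have hfl : Flat (A.1.ι ≫ b) := by
      rw [← X'.homOfLE_ι hAW, Category.assoc]
      infer_instance
    have hflat := flat_appLE_of_flat_ι_comp b A V ((X'.basicOpen_le a).trans e) hfl
    have hreg := nzd_map_of_flat _ hflat hg
    have heq : b.appLE V.1 A.1 ((X'.basicOpen_le a).trans e) g =
        X'.presheaf.map (homOfLE (X'.basicOpen_le a)).op (b.appLE V.1 U.1 e g) := by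
      rw [← CommRingCat.comp_apply, Scheme.Hom.appLE_map]
    refine (mem_nonZeroDivisors_iff_right.mp hreg) _ ?_
    change _ * (b.appLE V.1 A.1 ((X'.basicOpen_le a).trans e)) g = 0
    rw [heq, ← map_mul, ht, map_zero]
  · rw [ideal_comap D b U V e, hDg, Ideal.map_span, Set.image_singleton]

variable {X' : Scheme.{u}} {b : X' ⟶ X} {I : X.IdealSheafData}

lemma flat_ι_comp_of_isBlowUp (hb : BlowUp.IsBlowUp b I) :
    Flat ((b ⁻¹ᵁ I.support.compl).ι ≫ b) := by
  have := IsBlowUp.isIso_restrict hb I.support.compl fun x hx => hx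
  rw [← morphismRestrict_ι]
  infer_instance

theorem IsBlowUp.comap_effCartier (hb : BlowUp.IsBlowUp b I) {D : X.IdealSheafData}
    (hD : BlowUp.IsEffCartierIdeal D) : BlowUp.IsEffCartierIdeal (D.comap b) :=
  have := flat_ι_comp_of_isBlowUp hb
  IsEffCartierIdeal.comap_of_flat_off hb.1 b (b ⁻¹ᵁ I.support.compl) (fun x hx => by
    rw [Scheme.IdealSheafData.support_comap] at hx
    exact hx) hD

lemma not_mem_support_of_isMax {E : X.IdealSheafData} (hE : BlowUp.IsEffCartierIdeal E) {x : X}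
    (hx : ∀ y : X, y ⤳ x → y = x) : x ∉ E.support := by
  obtain ⟨U, hxU, f, hf, hEf⟩ := hE x
  intro hs
  rw [Scheme.IdealSheafData.mem_support_iff_of_mem (U := U) hxU, hEf, Scheme.zeroLocus_span,
    Scheme.mem_zeroLocus_iff] at hs
  have hnot : x ∉ X.basicOpen f := hs f rfl
  let p := U.2.primeIdealOf ⟨x, hxU⟩
  have hp : U.2.fromSpec p = x := U.2.fromSpec_primeIdealOf ⟨x, hxU⟩
  have hfp : f ∈ p.asIdeal := by
    by_contra hc
    apply hnot
    have h2 : p ∈ PrimeSpectrum.basicOpen f := hc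
    rw [← U.2.fromSpec_preimage_basicOpen] at h2
    have h3 : U.2.fromSpec p ∈ X.basicOpen f := h2
    rwa [hp] at h3
  have hmin : p.asIdeal ∈ minimalPrimes Γ(X, U.1) := by
    refine ⟨⟨p.2, bot_le⟩, fun q ⟨hq, _⟩ hqp => ?_⟩
    have hsp : (⟨q, hq⟩ : PrimeSpectrum Γ(X, U.1)) ⤳ p := (PrimeSpectrum.le_iff_specializes ⟨q, hq⟩ p).mp hqp
    have h4 := hsp.map U.2.fromSpec.continuous
    rw [hp] at h4
    have h5 : U.2.fromSpec ⟨q, hq⟩ = U.2.fromSpec p := (hx _ h4).trans hp.symm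
    exact (congrArg PrimeSpectrum.asIdeal ((U.2.isOpenImmersion_fromSpec).base_open.injective h5)).ge
  exact Set.disjoint_left.mp (Ideal.disjoint_nonZeroDivisors_of_mem_minimalPrimes hmin) hfp hf

end Groth.Agent.H7Cartier
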