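import Groth.Agent.Lib.AlgSpLocalRows
import Groth.Agent.Lib.AlgSpTop
import Groth.Agent.Lib.H7Cartier
import Groth.Prelude.Def_AlgSpSub
/-! Effective Cartier divisors pull back along flat morphisms. -/

set_option autoImplicit false
set_option linter.style.haveILetI false
set_option linter.unusedVariables false
set_option backward.isDefEq.respectTransparency.types false

universe u

open CategoryTheory CategoryTheory.Limits AlgebraicGeometry Opposite Topology

noncomputable section

namespace Groth.Agent.ASp

open _root_.AlgSp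

variable {S : Scheme.{u}} {X Y D P : Sp S}

theorem isEffCartierSub_baseChange_flat (hX : IsAlgSpace X) (hY : IsAlgSpace Y) {f : X ⟶ Y}
    (hf : LocP @Flat f) {i : D ⟶ Y} (hD : IsEffCartierSub i) {fst : P ⟶ D} {snd : P ⟶ X}
    (hP : IsPullback fst snd i f) : IsEffCartierSub snd := by
  obtain ⟨hi, V, φ, I, fI, hφe, hφs, sqI, hI⟩ := hD
  have hsnd := repWith_baseChange hP hi
  obtain ⟨U, a, α, hae, has, haf, -⟩ := exists_chart_lift (f := f) hX hY hφe hφs
  haveI : Flat α.left := hf a φ α hae hφe haf
  let J : U.left.IdealSheafData := I.comap α.left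
  let Z : Over S := Over.mk (J.subschemeι ≫ U.hom)
  let W : Over S := Over.mk (I.subschemeι ≫ V.hom)
  let jZ : Z ⟶ U := Over.homMk J.subschemeι rfl
  let jW : W ⟶ V := Over.homMk I.subschemeι rfl
  let k₀ : J.subscheme ⟶ I.subscheme := (I.comapIso α.left).hom ≫ pullback.snd _ _
  have hk₀ : k₀ ≫ I.subschemeι = J.subschemeι ≫ α.left := by
    rw [Category.assoc, ← pullback.condition, Scheme.IdealSheafData.comapIso_hom_fst_assoc]
  let k : Z ⟶ W := Over.homMk k₀ (by
    show k₀ ≫ I.subschemeι ≫ V.hom = J.subschemeι ≫ U.hom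
    rw [reassoc_of% hk₀, Over.w α])
  have sq₀ : IsPullback k₀ J.subschemeι I.subschemeι α.left :=
    IsPullback.of_iso (IsPullback.of_hasPullback α.left I.subschemeι).flip (I.comapIso α.left).symm (Iso.refl _)
      (Iso.refl _) (Iso.refl _) (by exact (Category.comp_id _).trans ((I.comapIso α.left).inv_hom_id_assoc _).symm) (by show _ = (I.comapIso α.left).inv ≫ (I.comap α.left).subschemeι; simp) (by simp) (by simp)
  have sqV : IsPullback ((yon S).map k) ((yon S).map jZ) ((yon S).map jW) ((yon S).map α) :=
    IsPullback.map (yon S) (IsPullback.of_map (Over.forget S) (Over.OverMorphism.ext hk₀) sq₀)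
  have big : IsPullback ((yon S).map k ≫ fI) ((yon S).map jZ) i (a ≫ f) := by
    rw [haf]
    exact sqV.paste_horiz sqI
  refine ⟨hsnd, U, a, J, hP.lift ((yon S).map k ≫ fI) ((yon S).map jZ ≫ a) (big.w.trans (Category.assoc _ _ _).symm),
    hae, has, ?_, H7Cartier.IsEffCartierIdeal.comap_of_flat hI α.left⟩
  refine IsPullback.of_right ?_ (hP.lift_snd _ _ _) hP
  rw [hP.lift_fst]
  exact big

end Groth.Agent.ASp
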