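import Groth.Agent.Lib.AlgSpFppf
import Mathlib.AlgebraicGeometry.Morphisms.Immersion

/-!
Consequences of representability: monomorphisms, isomorphisms, charts from finitely many affines.
-/

universe u

open CategoryTheory CategoryTheory.Limits AlgebraicGeometry Opposite

noncomputable section

set_option backward.isDefEq.respectTransparency.types false

namespace Groth.Agent.ASp

open AlgSp

variable {S : Scheme.{u}} {F G H : Sp S}

/-! ### Morphisms detected on sections -/

theorem mono_of_forall {f : F ⟶ G}
    (h : ∀ ⦃T : Over S⦄ (a b : (yon S).obj T ⟶ F), a ≫ f = b ≫ f → a = b) : Mono f where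
  right_cancellation {Z} a b hab := by
    apply Sheaf.hom_ext
    ext T s
    have h' := h (sec.symm s ≫ a) (sec.symm s ≫ b) (by rw [Category.assoc, hab, Category.assoc])
    have := congrArg sec h'
    simp only [sec_comp, Equiv.apply_symm_apply] at this
    exact this

theorem isIso_of_forall {f : F ⟶ G}
    (h : ∀ ⦃T : Over S⦄ (b : (yon S).obj T ⟶ G), ∃! a : (yon S).obj T ⟶ F, a ≫ f = b) : IsIso f := by
  have : IsIso f.hom := by
    refine (NatTrans.isIso_iff_isIso_app _).2 fun T => (isIso_iff_bijective _).2 ⟨?_, ?_⟩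
    · intro s t hst
      obtain ⟨T⟩ := T
      obtain ⟨a, -, ha⟩ := h (sec.symm s ≫ f)
      have h₁ := ha (sec.symm s) rfl
      have h₂ := ha (sec.symm t) (by
        apply sec.injective
        simp only [sec_comp, Equiv.apply_symm_apply]
        exact hst.symm)
      exact sec.symm.injective (h₁.trans h₂.symm)
    · intro s
      obtain ⟨T⟩ := T
      obtain ⟨a, ha, -⟩ := h (sec.symm s)
      exact ⟨sec a, by
        have := congrArg sec ha
        simpa only [sec_comp, Equiv.apply_symm_apply] using this⟩
  have : IsIso ((sheafToPresheaf _ _).map f) := this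
  exact isIso_of_reflects_iso f (sheafToPresheaf _ _)

theorem mono_of_repWith_mono {f : F ⟶ G} (hf : RepWith (MorphismProperty.monomorphisms Scheme.{u}) f) :
    Mono f := by
  refine mono_of_forall fun T a b hab => ?_
  obtain ⟨V, fst, snd, sq, hmono⟩ := exists_sq_prop hf (a ≫ f)
  have : Mono snd.left := hmono
  have : Mono snd := (Over.forget S).mono_of_mono_map (by exact this)
  obtain ⟨l₁, hl₁⟩ := (yon S).map_surjective (sq.lift a (𝟙 _) (by simp))
  obtain ⟨l₂, hl₂⟩ := (yon S).map_surjective (sq.lift b (𝟙 _) (by simp [hab]))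
  have e₁ : l₁ ≫ snd = 𝟙 T := (yon S).map_injective (by
    rw [Functor.map_comp, hl₁, sq.lift_snd, CategoryTheory.Functor.map_id])
  have e₂ : l₂ ≫ snd = 𝟙 T := (yon S).map_injective (by
    rw [Functor.map_comp, hl₂, sq.lift_snd, CategoryTheory.Functor.map_id])
  have : l₁ = l₂ := (cancel_mono snd).1 (e₁.trans e₂.symm)
  rw [← sq.lift_fst a (𝟙 _) (by simp), ← sq.lift_fst b (𝟙 _) (by simp [hab]), ← hl₁, ← hl₂, this]

theorem isIso_of_repWith_iso {f : F ⟶ G} (hf : RepWith (MorphismProperty.isomorphisms Scheme.{u}) f) :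
    IsIso f := by
  refine isIso_of_forall fun T b => ?_
  obtain ⟨V, fst, snd, sq, hiso⟩ := exists_sq_prop hf b
  have : IsIso ((Over.forget S).map snd) := hiso
  have : IsIso snd := isIso_of_reflects_iso snd (Over.forget S)
  refine ⟨inv ((yon S).map snd) ≫ fst, by simp [sq.w], fun a ha => ?_⟩
  have h₁ := sq.lift_fst a (𝟙 _) (by simpa using ha)
  have h₂ := sq.lift_snd a (𝟙 _) (by simpa using ha)
  rw [← h₁, (IsIso.eq_comp_inv _).2 h₂]
  simp

theorem repWith_of_isIso (P : MorphismProperty Scheme.{u}) [P.IsStableUnderBaseChange]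
    [P.ContainsIdentities] {f : F ⟶ G} [IsIso f] : RepWith P f := by
  have : P.RespectsIso := MorphismProperty.IsStableUnderBaseChange.respectsIso
  refine repWith_of_exists fun U g => ⟨U, g ≫ inv f, 𝟙 U, IsPullback.of_vert_isIso ⟨by simp⟩, ?_⟩
  exact P.id_mem U.left

theorem immersion_le_mono : (@IsImmersion : MorphismProperty Scheme.{u}) ≤
    MorphismProperty.monomorphisms Scheme.{u} := fun _ _ f hf => by
  have : IsImmersion f := hf
  exact MorphismProperty.monomorphisms.infer_property f

theorem closedImmersion_le_immersion :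
    (@IsClosedImmersion : MorphismProperty Scheme.{u}) ≤ @IsImmersion := fun _ _ f hf => by
  have : IsClosedImmersion f := hf
  infer_instance

theorem openImmersion_le_immersion :
    (@IsOpenImmersion : MorphismProperty Scheme.{u}) ≤ @IsImmersion := fun _ _ f hf => by
  have : IsOpenImmersion f := hf
  infer_instance

theorem mono_of_repWith_immersion {f : F ⟶ G} (hf : RepWith @IsImmersion f) : Mono f :=
  mono_of_repWith_mono (repWith_mono immersion_le_mono hf)

/-- A representable open immersion through which the points of `f` factor: `f` factors. -/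
theorem exists_factor_of_range {F' : Sp S} {j : F' ⟶ G} (hj : RepWith @IsOpenImmersion j) (f : F ⟶ G)
    (h : Set.range (Points.map f) ⊆ Set.range (Points.map j)) : ∃ g : F ⟶ F', g ≫ j = f := by
  have hp := repWith_baseChange (IsPullback.of_hasPullback j f) hj
  have hs : RepWith @Surjective (pullback.snd j f) := repWith_surjective_of_surjective_map hp.rep fun x => by
    obtain ⟨y, hy⟩ := h ⟨x, rfl⟩
    obtain ⟨p, -, hp⟩ := exists_of_isPullback (IsPullback.of_hasPullback j f) y x hy
    exact ⟨p, hp⟩
  have : IsIso (pullback.snd j f) := isIso_of_repWith_iso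
    (repWith_of_forall hp.rep fun U V g fst snd sq => by
      have : IsOpenImmersion snd.left := hp.2 g fst snd sq
      have : Surjective snd.left := hs.2 g fst snd sq
      change IsIso snd.left
      exact (isIso_iff_isOpenImmersion_and_surjective snd.left).2 ⟨inferInstance, inferInstance⟩)
  exact ⟨inv (pullback.snd j f) ≫ pullback.fst j f, by rw [Category.assoc, pullback.condition]; simp⟩

/-! ### Charts -/

theorem repWith_yon_comp {P : MorphismProperty Scheme.{u}} [P.IsStableUnderBaseChange]
    [P.IsStableUnderComposition] {U V : Over S} (c : V ⟶ U) (hc : P c.left) {p : (yon S).obj U ⟶ F}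
    (hp : RepWith P p) : RepWith P ((yon S).map c ≫ p) :=
  repWith_comp ((repWith_yon_map_iff P c).2 hc) hp

/-- An affine etale chart surjecting onto a quasi-compact space of points. -/
theorem exists_affine_chart_of_compact (hF : IsAlgSpace F) [CompactSpace (Points F)] :
    ∃ (U : Over S) (p : (yon S).obj U ⟶ F), IsAffine U.left ∧ RepWith @Etale p ∧ RepWith @Surjective p := by
  obtain ⟨U, p, hpe, hps⟩ := hF.atlas
  obtain ⟨t, ht⟩ := isCompact_univ.elim_finite_subcover
    (fun V : U.left.affineOpens => Points.ofPt p '' (V.1 : Set U.left))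
    (fun V => isOpenMap_ofPt_of_etale hpe _ V.1.2) (fun x _ => by
      obtain ⟨u, rfl⟩ := surjective_ofPt_of_repWith hps x
      obtain ⟨V, hV, huV, -⟩ := exists_isAffineOpen_mem_and_subset (X := U.left) (x := u) (U := ⊤) trivial
      exact Set.mem_iUnion.2 ⟨⟨V, hV⟩, u, huV, rfl⟩)
  have : ∀ V : (↑t : Set U.left.affineOpens), IsAffine (V.1.1 : Scheme.{u}) := fun V => V.1.2
  let c : (∐ fun V : (↑t : Set U.left.affineOpens) => (V.1.1 : Scheme.{u})) ⟶ U.left :=
    Sigma.desc fun V => V.1.1.ι
  have hc : Etale c :=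
    (IsZariskiLocalAtSource.iff_of_openCover (P := @Etale) (sigmaOpenCover _)).2 fun V => by
      change Etale (Sigma.ι _ V ≫ Sigma.desc fun V : (↑t : Set U.left.affineOpens) => V.1.1.ι)
      rw [Sigma.ι_desc]
      infer_instance
  let U' : Over S := Over.mk (c ≫ U.hom)
  let c' : U' ⟶ U := Over.homMk c
  have he : RepWith @Etale ((yon S).map c' ≫ p) := repWith_yon_comp c' hc hpe
  refine ⟨U', (yon S).map c' ≫ p, ?_, he, ?_⟩
  · change IsAffine (∐ fun V : (↑t : Set U.left.affineOpens) => (V.1.1 : Scheme.{u}))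
    infer_instance
  · refine repWith_surjective_of_surjective_map he.rep fun x => ?_
    obtain ⟨V, hV, u, hu, rfl⟩ := Set.mem_iUnion₂.1 (ht (Set.mem_univ x))
    refine ⟨Points.ofScheme U' ((Sigma.ι (fun V : (↑t : Set U.left.affineOpens) => (V.1.1 : Scheme.{u}))
      ⟨V, hV⟩) ⟨u, hu⟩), ?_⟩
    rw [← Points.ofPt_eq_map_ofScheme, ofPt_yon_map_comp]
    congr 1
    change (Sigma.ι _ _ ≫ c) _ = u
    simp [c]

theorem compactSpace_points (h : IsQuasiCompactSp F) : CompactSpace (Points F) := by
  obtain ⟨U, p, -, hps, hU⟩ := h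
  exact (surjective_ofPt_of_repWith hps).compactSpace (Points.continuous_ofPt p)

theorem isQuasiCompactSp_of_affine {U : Over S} {p : (yon S).obj U ⟶ F} (hU : IsAffine U.left)
    (hpe : RepWith @Etale p) (hps : RepWith @Surjective p) : IsQuasiCompactSp F :=
  ⟨U, p, hpe, hps, show CompactSpace U.left from inferInstance⟩

theorem isQuasiCompactSp_iff (hF : IsAlgSpace F) : IsQuasiCompactSp F ↔ CompactSpace (Points F) :=
  ⟨compactSpace_points, fun _ =>
    have ⟨_, _, hU, hpe, hps⟩ := exists_affine_chart_of_compact hF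
    isQuasiCompactSp_of_affine hU hpe hps⟩

theorem isQuasiCompactMor_of_repWith {f : F ⟶ G} (hf : RepWith @QuasiCompact f) :
    IsQuasiCompactMor f := by
  rintro Z Z' - ⟨U, p, hpe, hps, hU⟩ g fst snd sq
  obtain ⟨V, q, c, sq', hc⟩ := exists_sq_prop (repWith_baseChange sq hf) p
  have : CompactSpace U.left := hU
  have : QuasiCompact c.left := hc
  exact ⟨V, q, repWith_baseChange sq'.flip hpe, repWith_baseChange sq'.flip hps,
    QuasiCompact.compactSpace_of_compactSpace c.left⟩

end Groth.Agent.ASp
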