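import Groth.Agent.Lib.AlgSpCharts
import Mathlib.AlgebraicGeometry.Morphisms.Flat

/-!
Families of maps of sheaves refined by standard fpqc coverings of affines: surjectivity and final topology.
-/

universe u v

open CategoryTheory CategoryTheory.Limits AlgebraicGeometry Opposite

noncomputable section

set_option backward.isDefEq.respectTransparency.types false

namespace Groth.Agent.ASp

open AlgSp

variable {S : Scheme.{u}} {F G H X : Sp S} {ι : Type v}

/-- Every map from an affine scheme lifts, after a standard fpqc covering, through the family. -/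
def Refines (Y : ι → Sp S) (g : ∀ i, Y i ⟶ X) : Prop :=
  ∀ (Z : Over S), IsAffine Z.left → ∀ (h : (yon S).obj Z ⟶ X),
    ∃ (m : ℕ) (W : Fin m → Over S) (c : ∀ j, W j ⟶ Z),
      (∀ j, IsAffine (W j).left) ∧ (∀ j, Flat (c j).left) ∧
      (∀ z : ↥Z.left, ∃ j, z ∈ Set.range (c j).left) ∧
      ∀ j, ∃ (i : ι) (l : (yon S).obj (W j) ⟶ Y i), l ≫ g i = (yon S).map (c j) ≫ h

/-- Pulling back a refining family. -/
theorem Refines.baseChange {Y : ι → Sp S} {g : ∀ i, Y i ⟶ X} (hg : Refines Y g) {X' : Sp S}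
    (b : X' ⟶ X) {Y' : ι → Sp S} (g' : ∀ i, Y' i ⟶ X') (t : ∀ i, Y' i ⟶ Y i)
    (sq : ∀ i, IsPullback (g' i) (t i) b (g i)) : Refines Y' g' := by
  intro Z hZ h
  obtain ⟨m, W, c, hW, hflat, hcov, hl⟩ := hg Z hZ (h ≫ b)
  refine ⟨m, W, c, hW, hflat, hcov, fun j => ?_⟩
  obtain ⟨i, l, hl⟩ := hl j
  exact ⟨i, (sq i).lift ((yon S).map (c j) ≫ h) l (by rw [hl, Category.assoc]), (sq i).lift_fst _ _ _⟩

theorem Refines.exists_pt {Y : ι → Sp S} {g : ∀ i, Y i ⟶ X} (hg : Refines Y g) (x : Points X) :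
    ∃ (i : ι) (y : Points (Y i)), Points.map (g i) y = x := by
  induction x using Points.ind with
  | h p =>
    obtain ⟨m, W, c, -, -, hcov, hl⟩ := hg p.pt (inferInstanceAs (IsAffine (Spec (.of p.K)))) (toHom p)
    obtain ⟨j, w, hw⟩ := hcov (IsLocalRing.closedPoint p.K)
    obtain ⟨i, l, hl⟩ := hl j
    exact ⟨i, Points.ofPt l w, by
      rw [Points.map_ofPt, hl, ofPt_yon_map_comp, mk_eq_ofPt p ((c j).left w)]⟩

/-- A standard fpqc covering of an affine scheme carries the quotient topology. -/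
theorem isOpen_of_std {Z : Scheme.{u}} [IsAffine Z] {m : ℕ} {W : Fin m → Scheme.{u}}
    (c : ∀ j, W j ⟶ Z) [∀ j, IsAffine (W j)] (hflat : ∀ j, Flat (c j))
    (hcov : ∀ z : Z, ∃ j, z ∈ Set.range (c j)) {B : Set Z} (hB : ∀ j, IsOpen ((c j) ⁻¹' B)) :
    IsOpen B := by
  let d : (∐ W) ⟶ Z := Sigma.desc c
  have hd : Flat d := (IsZariskiLocalAtSource.iff_of_openCover (P := @Flat) (sigmaOpenCover _)).2 fun j => by
    change Flat (Sigma.ι W j ≫ d)
    rw [show Sigma.ι W j ≫ d = c j from Sigma.ι_desc c j]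
    exact hflat j
  have : Surjective d := ⟨fun z => by
    obtain ⟨j, w, rfl⟩ := hcov z
    exact ⟨(Sigma.ι W j) w, by rw [← Scheme.Hom.comp_apply, Sigma.ι_desc]⟩⟩
  rw [← (Flat.isQuotientMap_of_surjective d).isOpen_preimage]
  have : d ⁻¹' B = ⋃ j, (Sigma.ι W j) '' ((c j) ⁻¹' B) := by
    ext x
    constructor
    · intro hx
      obtain ⟨j, w, rfl⟩ := (sigmaOpenCover W).exists_eq x
      refine Set.mem_iUnion.2 ⟨j, w, ?_, rfl⟩
      have : (c j) w = d ((Sigma.ι W j) w) := by rw [← Scheme.Hom.comp_apply, Sigma.ι_desc]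
      show (c j) w ∈ B
      rw [this]
      exact hx
    · intro hx
      obtain ⟨j, w, hw, rfl⟩ := Set.mem_iUnion.1 hx
      show d ((Sigma.ι W j) w) ∈ B
      rw [← Scheme.Hom.comp_apply, Sigma.ι_desc]
      exact hw
  rw [this]
  exact isOpen_iUnion fun j => (Sigma.ι W j).isOpenEmbedding.isOpenMap _ (hB j)

theorem Refines.isOpen {Y : ι → Sp S} {g : ∀ i, Y i ⟶ X} (hg : Refines Y g) {A : Set (Points X)}
    (hA : ∀ i, IsOpen (Points.map (g i) ⁻¹' A)) : IsOpen A := by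
  have hmain : ∀ (Z : Over S), IsAffine Z.left → ∀ h : (yon S).obj Z ⟶ X,
      IsOpen (Points.ofPt h ⁻¹' A) := by
    intro Z hZ h
    obtain ⟨m, W, c, hW, hflat, hcov, hl⟩ := hg Z hZ h
    refine isOpen_of_std (fun j => (c j).left) hflat hcov fun j => ?_
    obtain ⟨i, l, hl⟩ := hl j
    have : (c j).left ⁻¹' (Points.ofPt h ⁻¹' A) = Points.ofPt l ⁻¹' (Points.map (g i) ⁻¹' A) := by
      ext w
      simp only [Set.mem_preimage, Points.map_ofPt, hl, ofPt_yon_map_comp]
    rw [this]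
    exact (hA i).preimage (Points.continuous_ofPt l)
  rw [Points.isOpen_iff]
  intro T h
  rw [isOpen_iff_mem_nhds]
  intro t ht
  obtain ⟨V, hV, htV, -⟩ := exists_isAffineOpen_mem_and_subset (X := T.left) (x := t) (U := ⊤) trivial
  let Z : Over S := Over.mk (V.ι ≫ T.hom)
  let j : Z ⟶ T := Over.homMk V.ι
  have hopen := V.ι.isOpenEmbedding.isOpenMap _ (hmain Z hV ((yon S).map j ≫ h))
  refine Filter.mem_of_superset (hopen.mem_nhds ⟨⟨t, htV⟩, ?_, rfl⟩) ?_
  · show Points.ofPt ((yon S).map j ≫ h) ⟨t, htV⟩ ∈ A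
    rw [ofPt_yon_map_comp]
    exact ht
  · rintro _ ⟨v, hv, rfl⟩
    have hv' : Points.ofPt ((yon S).map j ≫ h) v ∈ A := hv
    rwa [ofPt_yon_map_comp] at hv'

theorem Refines.isClosed {Y : ι → Sp S} {g : ∀ i, Y i ⟶ X} (hg : Refines Y g) {A : Set (Points X)}
    (hA : ∀ i, IsClosed (Points.map (g i) ⁻¹' A)) : IsClosed A :=
  ⟨hg.isOpen fun i => by rw [Set.preimage_compl]; exact (hA i).isOpen_compl⟩

/-- Finitely many affines inside jointly surjective open images. -/
theorem exists_std_of_open {Z : Over S} [IsAffine Z.left] {κ : Type v} (T : κ → Over S)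
    (c : ∀ k, T k ⟶ Z) (hflat : ∀ k, Flat (c k).left) (hop : ∀ k, IsOpenMap (c k).left)
    (hcov : ∀ z : ↥Z.left, ∃ k, z ∈ Set.range (c k).left) :
    ∃ (m : ℕ) (W : Fin m → Over S) (d : ∀ j, W j ⟶ Z),
      (∀ j, IsAffine (W j).left) ∧ (∀ j, Flat (d j).left) ∧
      (∀ z : ↥Z.left, ∃ j, z ∈ Set.range (d j).left) ∧
      ∀ j, ∃ (k : κ) (e : W j ⟶ T k), e ≫ c k = d j := by
  obtain ⟨t, ht⟩ := isCompact_univ.elim_finite_subcover
    (fun a : Σ k, (T k).left.affineOpens => (c a.1).left '' (a.2.1 : Set (T a.1).left))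
    (fun a => hop a.1 _ a.2.1.2) (fun z _ => by
      obtain ⟨k, x, rfl⟩ := hcov z
      obtain ⟨V, hV, hxV, -⟩ :=
        exists_isAffineOpen_mem_and_subset (X := (T k).left) (x := x) (U := ⊤) trivial
      exact Set.mem_iUnion.2 ⟨⟨k, V, hV⟩, x, hxV, rfl⟩)
  let σ := t.equivFin
  let W : Fin t.card → Over S := fun j => Over.mk ((σ.symm j).1.2.1.ι ≫ (T (σ.symm j).1.1).hom)
  let e : ∀ j, W j ⟶ T (σ.symm j).1.1 := fun j => Over.homMk (σ.symm j).1.2.1.ι
  refine ⟨t.card, W, fun j => e j ≫ c _, fun j => (σ.symm j).1.2.2, fun j => ?_, fun z => ?_,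
    fun j => ⟨_, e j, rfl⟩⟩
  · have := hflat (σ.symm j).1.1
    change Flat ((σ.symm j).1.2.1.ι ≫ (c (σ.symm j).1.1).left)
    infer_instance
  · obtain ⟨a, ha, x, hx, rfl⟩ := Set.mem_iUnion₂.1 (ht (Set.mem_univ z))
    obtain ⟨j, hj⟩ := σ.symm.surjective ⟨a, ha⟩
    have hj' : (σ.symm j).1 = a := congrArg Subtype.val hj
    subst hj'
    exact ⟨j, ⟨x, hx⟩, rfl⟩

/-- A jointly surjective family of representable etale charts refines. -/
theorem refines_of_etale {U : ι → Over S} (a : ∀ i, (yon S).obj (U i) ⟶ X)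
    (he : ∀ i, RepWith @Etale (a i)) (hsurj : ∀ x : Points X, ∃ i, x ∈ Set.range (Points.ofPt (a i))) :
    Refines (fun i => (yon S).obj (U i)) a := by
  intro Z hZ h
  choose T fst snd sq hsnd using fun i => exists_sq_prop (he i) h
  obtain ⟨m, W, d, hW, hflat, hcov, hl⟩ := exists_std_of_open T snd
    (fun i => by have : Etale (snd i).left := hsnd i; infer_instance)
    (fun i => by have : Etale (snd i).left := hsnd i; exact (snd i).left.isOpenMap)
    (fun z => by
      obtain ⟨i, u, hu⟩ := hsurj (Points.ofPt h z)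
      obtain ⟨v, -, hv⟩ := exists_pt_of_sq (sq i) (Points.ofScheme _ u) z
        (by rw [← Points.ofPt_eq_map_ofScheme]; exact hu)
      exact ⟨i, v, hv⟩)
  refine ⟨m, W, d, hW, hflat, hcov, fun j => ?_⟩
  obtain ⟨i, e, he⟩ := hl j
  exact ⟨i, (yon S).map e ≫ fst i, by rw [Category.assoc, (sq i).w, ← he, Functor.map_comp, Category.assoc]⟩

theorem refines_of_atlas {U : Over S} (p : (yon S).obj U ⟶ X) (he : RepWith @Etale p)
    (hs : RepWith @Surjective p) :
    Refines (fun _ : PUnit.{1} => (yon S).obj U) (fun _ => p) :=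
  refines_of_etale (fun _ => p) (fun _ => he) fun x =>
    ⟨⟨⟩, surjective_ofPt_of_repWith hs x⟩

/-- An algebraic space is refined by its affine etale neighbourhoods. -/
theorem exists_refines_affine (hX : IsAlgSpace X) :
    ∃ (κ : Type u) (U : κ → Over S) (a : ∀ k, (yon S).obj (U k) ⟶ X),
      (∀ k, IsAffine (U k).left) ∧ (∀ k, RepWith @Etale (a k)) ∧
      Refines (fun k => (yon S).obj (U k)) a := by
  obtain ⟨U, p, hpe, hps⟩ := hX.atlas
  let V : U.left.affineOpens → Over S := fun W => Over.mk (W.1.ι ≫ U.hom)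
  let e : ∀ W, V W ⟶ U := fun W => Over.homMk W.1.ι
  have he : ∀ W, RepWith @Etale ((yon S).map (e W) ≫ p) := fun W =>
    repWith_yon_comp (e W) (show Etale W.1.ι from inferInstance) hpe
  refine ⟨_, V, fun W => (yon S).map (e W) ≫ p, fun W => W.2, he, refines_of_etale _ he fun x => ?_⟩
  obtain ⟨u, rfl⟩ := surjective_ofPt_of_repWith hps x
  obtain ⟨W, hW, huW, -⟩ := exists_isAffineOpen_mem_and_subset (X := U.left) (x := u) (U := ⊤) trivial
  exact ⟨⟨W, hW⟩, ⟨u, huW⟩, by rw [ofPt_yon_map_comp]; rfl⟩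

end Groth.Agent.ASp
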