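import Groth.Agent.Lib.AlgSpAffineGlobal
import Groth.Agent.Lib.AlgSpRefine
import Mathlib.AlgebraicGeometry.Morphisms.ClosedImmersion
/-! Descent of closed subspaces along an etale atlas. -/

set_option autoImplicit false
set_option linter.style.haveILetI false
set_option linter.unusedVariables false
set_option backward.isDefEq.respectTransparency.types false

universe v u

open CategoryTheory CategoryTheory.Limits AlgebraicGeometry Opposite Topology

noncomputable section

namespace Groth.Agent.ASp

open _root_.AlgSp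

/-- A closed immersion through which a jointly surjective flat family factors is an isomorphism. -/
theorem isIso_of_flat_family {Z V : Scheme.{u}} (K : Z ⟶ V) [IsClosedImmersion K] {ι : Type v} {W : ι → Scheme.{u}}
    (f : ∀ i, W i ⟶ V) [∀ i, Flat (f i)] (hcov : ∀ x : V, ∃ i, x ∈ Set.range (f i))
    (hl : ∀ i, ∃ l : W i ⟶ Z, l ≫ K = f i) : IsIso K := by
  haveI : Surjective K := ⟨fun x => by
    obtain ⟨i, w, hw⟩ := hcov x
    obtain ⟨l, hl⟩ := hl i
    exact ⟨l w, by rw [← Scheme.Hom.comp_apply, hl, hw]⟩⟩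
  rw [isIso_iff_isIso_stalkMap]
  refine ⟨?_, fun z => ?_⟩
  · exact TopCat.isIso_of_bijective_of_isClosedMap K.base ⟨K.isClosedEmbedding.injective, K.surjective⟩
      K.isClosedEmbedding.isClosedMap
  · refine (ConcreteCategory.isIso_iff_bijective _).2 ⟨?_, K.stalkMap_surjective z⟩
    obtain ⟨i, w, hw⟩ := hcov (K z)
    obtain ⟨l, hl⟩ := hl i
    have hz : l w = z := K.isClosedEmbedding.injective (by rw [← Scheme.Hom.comp_apply, hl, hw])
    subst hz
    have hinj : Function.Injective ((l ≫ K).stalkMap w).hom := by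
      haveI : Flat (l ≫ K) := hl ▸ inferInstance
      have hfl := Flat.stalkMap (l ≫ K) w
      letI := ((l ≫ K).stalkMap w).hom.toAlgebra
      haveI : Module.Flat (V.presheaf.stalk ((l ≫ K) w)) ((W i).presheaf.stalk w) := hfl
      haveI : IsLocalHom (algebraMap (V.presheaf.stalk ((l ≫ K) w)) ((W i).presheaf.stalk w)) :=
        inferInstanceAs (IsLocalHom ((l ≫ K).stalkMap w).hom)
      haveI := Module.FaithfullyFlat.of_flat_of_isLocalHom
        (A := V.presheaf.stalk ((l ≫ K) w)) (B := (W i).presheaf.stalk w)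
      exact FaithfulSMul.algebraMap_injective _ _
    rw [Scheme.Hom.stalkMap_comp] at hinj
    exact Function.Injective.of_comp (f := (l.stalkMap w).hom) hinj

variable {S : Scheme.{u}} {X : Sp S} {U ZU : Over S} (p : (yon S).obj U ⟶ X) (ι : ZU ⟶ U)

/-- The sections of `X` all whose lifts to the atlas factor through `ι`. -/
def closedSubfunctor : Subfunctor X.obj where
  obj T := {s | ∀ (V : Over S) (c : V ⟶ T.unop) (u : V ⟶ U),
    sec ((yon S).map u ≫ p) = X.obj.map c.op s → ∃ l : V ⟶ ZU, l ≫ ι = u}
  map := fun {T T'} φ s hs V c u e => hs V (c ≫ φ.unop) u (by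
    rw [e, op_comp, Quiver.Hom.op_unop]
    exact (congrArg (fun g => g s) (X.obj.map_comp φ c.op)).symm)

variable [IsClosedImmersion ι.left]

theorem closedSubfunctor_isSheaf : Presieve.IsSheaf (J S) (closedSubfunctor p ι).toFunctor := by
  rw [Subfunctor.isSheaf_iff (h := (isSheaf_iff_isSheaf_of_type _ _).1 X.property)]
  intro T s hs V c u e
  obtain ⟨C, hC, hle⟩ := exists_cover_le ((J S).pullback_stable c hs)
  have sq := (IsPullback.of_hasPullback ι u).map (Over.forget S)
  haveI : IsClosedImmersion (pullback.snd ι u).left := MorphismProperty.of_isPullback sq ‹IsClosedImmersion ι.left›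
  obtain ⟨hcov, hfl⟩ : (∀ x : V.left, ∃ (W : Scheme.{u}) (f : W ⟶ V.left), C f ∧ x ∈ Set.range f) ∧
      ∀ ⦃W : Scheme.{u}⦄ (f : W ⟶ V.left), C f → Flat f := ⟨fun x =>
        (Presieve.mem_comap_jointlySurjectivePrecoverage_iff _).1 hC.1 x, fun W f hf => (hC.2 hf).1⟩
  let κ := Σ' (W : Scheme.{u}) (f : W ⟶ V.left), C f
  haveI : ∀ k : κ, Flat k.2.1 := fun k => hfl _ k.2.2
  haveI : IsIso ((Over.forget S).map (pullback.snd ι u)) := by
    refine isIso_of_flat_family (pullback.snd ι u).left (fun k : κ => k.2.1) (fun x => ?_) (fun k => ?_)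
    · obtain ⟨W, f, hf, hx⟩ := hcov x
      exact ⟨⟨W, f, hf⟩, hx⟩
    · let f' : Over.mk (k.2.1 ≫ V.hom) ⟶ V := Over.homMk k.2.1
      have hsv : X.obj.map (f' ≫ c).op s ∈ (closedSubfunctor p ι).obj _ := hle _ k.2.2
      obtain ⟨l, hl⟩ := hsv _ (𝟙 _) (f' ≫ u) (by
        rw [op_id, CategoryTheory.Functor.map_id, Functor.map_comp, Category.assoc, ← sec_map, e, op_comp]
        exact (congrArg (fun g => g s) (X.obj.map_comp c.op f'.op)).symm)
      exact ⟨(pullback.lift l f' hl).left, by rw [← Over.comp_left, pullback.lift_snd]; rfl⟩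
  haveI : IsIso (pullback.snd ι u) := isIso_of_reflects_iso _ (Over.forget S)
  exact ⟨inv (pullback.snd ι u) ≫ pullback.fst ι u, by
    rw [Category.assoc, pullback.condition, IsIso.inv_hom_id_assoc]⟩

/-- The closed subspace descended from `ι`. -/
def closedSubSp : Sp S :=
  ⟨(closedSubfunctor p ι).toFunctor, (isSheaf_iff_isSheaf_of_type _ _).2 (closedSubfunctor_isSheaf p ι)⟩

def closedSubι : closedSubSp p ι ⟶ X := ⟨(closedSubfunctor p ι).ι⟩

instance : Mono (closedSubι p ι) := by
  haveI : Mono ((sheafToPresheaf _ _).map (closedSubι p ι)) :=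
    inferInstanceAs (Mono (closedSubfunctor p ι).ι)
  exact (sheafToPresheaf _ _).mono_of_mono_map ‹_›

theorem exists_factor_iff {T : Over S} (g : (yon S).obj T ⟶ X) :
    (∃ h : (yon S).obj T ⟶ closedSubSp p ι, h ≫ closedSubι p ι = g) ↔
      sec g ∈ (closedSubfunctor p ι).obj (op T) := by
  constructor
  · rintro ⟨h, rfl⟩
    rw [sec_comp]
    exact (sec (F := closedSubSp p ι) h).2
  · intro hg
    refine ⟨(sec (F := closedSubSp p ι) (T := T)).symm (show (closedSubSp p ι).obj.obj (op T) from ⟨sec g, hg⟩),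
      sec.injective ?_⟩
    rw [sec_comp, Equiv.apply_symm_apply]
    rfl

theorem exists_lift_of_mem {T : Sp S} (a : T ⟶ closedSubSp p ι) (b : T ⟶ (yon S).obj U)
    (h : a ≫ closedSubι p ι = b ≫ p) : ∃ l : T ⟶ (yon S).obj ZU, l ≫ (yon S).map ι = b := by
  haveI : Mono ι := (Over.forget S).mono_of_mono_map (inferInstanceAs (Mono ι.left))
  haveI : IsIso (pullback.snd ((yon S).map ι) b) := isIso_of_forall fun V g => by
    obtain ⟨u, hu⟩ := (yon S).map_surjective (g ≫ b)
    obtain ⟨l, hl⟩ := (exists_factor_iff p ι (g ≫ a ≫ closedSubι p ι)).1 ⟨g ≫ a, Category.assoc _ _ _⟩ V (𝟙 V) u (by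
      rw [op_id, CategoryTheory.Functor.map_id, hu, Category.assoc, ← h]
      rfl)
    refine ⟨pullback.lift ((yon S).map l) g (by rw [← Functor.map_comp, hl, hu]), pullback.lift_snd _ _ _,
      fun a' ha' => ?_⟩
    apply (cancel_mono (pullback.snd ((yon S).map ι) b)).1
    rw [ha', pullback.lift_snd]
  exact ⟨inv (pullback.snd ((yon S).map ι) b) ≫ pullback.fst _ b, by
    rw [Category.assoc, pullback.condition, IsIso.inv_hom_id_assoc]⟩

theorem exists_closedSub (hX : IsAlgSpace X) (hpe : RepWith @Etale p) (hps : RepWith @Surjective p)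
    (inv' : ∀ (V : Over S) (u u' : V ⟶ U), (yon S).map u ≫ p = (yon S).map u' ≫ p →
      (∃ l : V ⟶ ZU, l ≫ ι = u) → ∃ l : V ⟶ ZU, l ≫ ι = u') :
    ∃ q : (yon S).obj ZU ⟶ closedSubSp p ι,
      IsPullback q ((yon S).map ι) (closedSubι p ι) p ∧ IsAlgSpace (closedSubSp p ι) ∧
        RepWith @IsClosedImmersion (closedSubι p ι) := by
  have hmem : sec ((yon S).map ι ≫ p) ∈ (closedSubfunctor p ι).obj (op ZU) := fun V c u e =>
    inv' V (c ≫ ι) u (by
      apply sec.injective
      rw [e, Functor.map_comp, Category.assoc, sec_map]) ⟨c, rfl⟩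
  obtain ⟨q, hq⟩ := (exists_factor_iff p ι _).2 hmem
  haveI : Mono ι := (Over.forget S).mono_of_mono_map (inferInstanceAs (Mono ι.left))
  have sq : IsPullback q ((yon S).map ι) (closedSubι p ι) p := by
    refine ⟨⟨hq⟩, ⟨PullbackCone.IsLimit.mk hq
      (fun s => Classical.choose (exists_lift_of_mem p ι s.fst s.snd s.condition)) (fun s => ?_)
      (fun s => Classical.choose_spec (exists_lift_of_mem p ι s.fst s.snd s.condition))
      (fun s m _ h₂ => (cancel_mono ((yon S).map ι)).1
        (h₂.trans (Classical.choose_spec (exists_lift_of_mem p ι s.fst s.snd s.condition)).symm))⟩⟩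
    apply (cancel_mono (closedSubι p ι)).1
    rw [Category.assoc, hq, ← Category.assoc,
      Classical.choose_spec (exists_lift_of_mem p ι s.fst s.snd s.condition)]
    exact s.condition.symm
  have hqe : RepWith @Etale q := repWith_baseChange sq.flip hpe
  have hqs : RepWith @Surjective q := repWith_baseChange sq.flip hps
  have hdiag : Representable (Limits.diag (closedSubSp p ι)) := by
    have hsq : IsPullback (closedSubι p ι) (Limits.diag (closedSubSp p ι)) (Limits.diag X)
        (prod.map (closedSubι p ι) (closedSubι p ι)) := by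
      have w : closedSubι p ι ≫ Limits.diag X = Limits.diag (closedSubSp p ι) ≫
          prod.map (closedSubι p ι) (closedSubι p ι) := (prod.diag_map _).symm
      refine ⟨⟨w⟩, ⟨PullbackCone.IsLimit.mk w (fun s => s.snd ≫ prod.fst) (fun s => ?_)
        (fun s => ?_) (fun s m _ h₂ => ?_)⟩⟩
      · have h := congrArg (· ≫ prod.fst) s.condition
        simp only [Category.assoc, prod.lift_fst, Category.comp_id, prod.map_fst] at h
        rw [Category.assoc]
        exact h.symm
      · apply prod.hom_ext
        · rw [Category.assoc, prod.lift_fst, Category.comp_id]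
        · have h₁ := congrArg (· ≫ prod.fst) s.condition
          have h₂ := congrArg (· ≫ prod.snd) s.condition
          simp only [Category.assoc, prod.lift_fst, prod.lift_snd, Category.comp_id, prod.map_fst,
            prod.map_snd] at h₁ h₂
          apply (cancel_mono (closedSubι p ι)).1
          simp only [Category.assoc, prod.lift_snd, Category.comp_id]
          rw [← h₁, ← h₂]
      · rw [← h₂, Category.assoc, prod.lift_fst, Category.comp_id]
    exact MorphismProperty.of_isPullback hsq hX.diag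
  have hZ : IsAlgSpace (closedSubSp p ι) := ⟨hdiag, ⟨ZU, q, hqe, hqs⟩⟩
  exact ⟨q, sq, hZ, repWith_of_refines_affine closedImmersion_le_affineHom hZ hX (refines_of_atlas p hpe hps)
    (fun _ => q) (fun _ => (yon S).map ι) (fun _ => sq) fun _ => (repWith_yon_map_iff _ _).2 ‹_›⟩
end Groth.Agent.ASp
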