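import Groth.Agent.Lib.AlgSpTop

/-!
Charts adapted to a morphism; openness of morphisms with flat finitely presented charts; fppf families refine.
-/

universe u v

open CategoryTheory CategoryTheory.Limits AlgebraicGeometry Opposite

noncomputable section

set_option backward.isDefEq.respectTransparency.types false

namespace Groth.Agent.ASp

open AlgSp

variable {S : Scheme.{u}} {F G H X Y : Sp S}

/-- Charts of `X` lying over a chart of `Y`. -/
theorem exists_chart_lift {f : X ⟶ Y} (hX : IsAlgSpace X) (hY : IsAlgSpace Y) {V : Over S}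
    {q : (yon S).obj V ⟶ Y} (hqe : RepWith @Etale q) (hqs : RepWith @Surjective q) :
    ∃ (U : Over S) (p : (yon S).obj U ⟶ X) (α : U ⟶ V), RepWith @Etale p ∧ RepWith @Surjective p ∧
      p ≫ f = (yon S).map α ≫ q ∧
      ∀ (x : Points X) (v : ↥V.left), Points.map f x = Points.ofPt q v →
        ∃ u : ↥U.left, Points.ofPt p u = x ∧ α.left u = v := by
  have sq := IsPullback.of_hasPullback f q
  obtain ⟨U, c, hce, hcs⟩ := (isAlgSpace_pullback f q hX (IsAlgSpace.yon_obj V) hY).atlas
  obtain ⟨α, hα⟩ := (yon S).map_surjective (c ≫ pullback.snd f q)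
  refine ⟨U, c ≫ pullback.fst f q, α, repWith_comp hce (repWith_baseChange sq.flip hqe),
    repWith_comp hcs (repWith_baseChange sq.flip hqs), ?_, fun x v hxv => ?_⟩
  · rw [hα, Category.assoc, Category.assoc, pullback.condition]
  · obtain ⟨r, hr₁, hr₂⟩ := exists_of_isPullback sq x (Points.ofScheme V v)
      (by rw [hxv, Points.ofPt_eq_map_ofScheme])
    obtain ⟨u, rfl⟩ := surjective_ofPt_of_repWith hcs r
    refine ⟨u, by rw [← Points.map_ofPt]; exact hr₁, ?_⟩
    apply (Points.schemeEquiv V).injective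
    change Points.ofScheme V _ = Points.ofScheme V v
    rw [← hr₂, Points.map_ofPt, ← hα, ← Category.comp_id ((yon S).map α), ofPt_yon_map_comp]

theorem isEtaleMor_isOpenMor (hX : IsAlgSpace X) {f : X ⟶ Y} (hf : IsEtaleMor f) : IsOpenMor f := by
  obtain ⟨U, p, hpe, hps⟩ := hX.atlas
  intro A hA
  have : Points.map f '' A = Points.ofPt (p ≫ f) '' (Points.ofPt p ⁻¹' A) := by
    ext y
    constructor
    · rintro ⟨x, hx, rfl⟩
      obtain ⟨u, rfl⟩ := surjective_ofPt_of_repWith hps x
      exact ⟨u, hx, (Points.map_ofPt _ _ _).symm⟩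
    · rintro ⟨u, hu, rfl⟩
      exact ⟨_, hu, Points.map_ofPt _ _ _⟩
  rw [this]
  exact isOpenMap_ofPt_of_etale (hf p hpe) _ (hA.preimage (Points.continuous_ofPt p))

/-- Charts with universally open maps make the morphism universally open. -/
theorem isUnivOpenMor_of_locP {P : MorphismProperty Scheme.{u}}
    (hP : ∀ {A B : Scheme.{u}} (g : A ⟶ B), P g → UniversallyOpen g) (hX : IsAlgSpace X)
    (hY : IsAlgSpace Y) {f : X ⟶ Y} (hf : LocP P f) : IsUnivOpenMor f := by
  refine univSp_of_affine descendsRefines_open fun Z _ g P' fst snd sq => ?_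
  obtain ⟨V, q, hqe, hqs⟩ := hY.atlas
  obtain ⟨U, pU, α, hpe, hps, hα, -⟩ := exists_chart_lift (f := f) hX hY hqe hqs
  have : UniversallyOpen α.left := hP _ (hf pU q α hpe hqe hα)
  obtain ⟨T, te, t₂, sqT, ht⟩ := exists_sq_prop hqe g
  obtain ⟨e, rfl⟩ := (yon S).map_surjective te
  have : Etale t₂.left := ht
  have sqW : IsPullback ((yon S).map (pullback.fst α e)) ((yon S).map (pullback.snd α e ≫ t₂))
      (pU ≫ f) g := by
    rw [hα, Functor.map_comp]
    exact (((yon S).map_isPullback (IsPullback.of_hasPullback α e)).flip.paste_horiz sqT.flip).flip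
  let m := sq.lift ((yon S).map (pullback.fst α e) ≫ pU) ((yon S).map (pullback.snd α e ≫ t₂))
    (by rw [Category.assoc]; exact sqW.w)
  have hm : IsPullback ((yon S).map (pullback.fst α e)) m pU fst :=
    IsPullback.of_bot (by rw [sq.lift_snd]; exact sqW) (sq.lift_fst _ _ _).symm sq
  have hsurj : Function.Surjective (Points.map m) :=
    surjective_map_of_repWith (repWith_baseChange hm hps)
  intro A hA
  have : Points.map snd '' A =
      Points.map ((yon S).map (pullback.snd α e ≫ t₂)) '' (Points.map m ⁻¹' A) := by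
    ext z
    constructor
    · rintro ⟨x, hx, rfl⟩
      obtain ⟨w, rfl⟩ := hsurj x
      exact ⟨w, hx, by rw [← Points.map_comp, sq.lift_snd]⟩
    · rintro ⟨w, hw, rfl⟩
      exact ⟨_, hw, by rw [← Points.map_comp, sq.lift_snd]⟩
  rw [this]
  have hu : UniversallyOpen (pullback.snd α e ≫ t₂).left := by
    rw [Over.comp_left]
    have : UniversallyOpen (pullback.snd α e).left :=
      MorphismProperty.of_isPullback (P := @UniversallyOpen)
        ((IsPullback.of_hasPullback α e).map (Over.forget S)) ‹UniversallyOpen α.left›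
    infer_instance
  exact isOpenMap_map_of_repWith ((repWith_yon_map_iff _ _).2 hu) _
    (hA.preimage (Points.continuous_map _))

theorem isUnivOpenMor_of_flat_lfp (hX : IsAlgSpace X) (hY : IsAlgSpace Y) {f : X ⟶ Y}
    (h₁ : LocP @Flat f) (h₂ : LocP @LocallyOfFinitePresentation f) : IsUnivOpenMor f :=
  isUnivOpenMor_of_locP (P := @Flat ⊓ @LocallyOfFinitePresentation)
    (fun g hg => by
      have : Flat g := hg.1
      have : LocallyOfFinitePresentation g := hg.2
      infer_instance)
    hX hY (fun _ _ a b h ha hb e => ⟨h₁ a b h ha hb e, h₂ a b h ha hb e⟩)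

theorem isOpenMor_of_isUnivOpenMor (hY : IsAlgSpace Y) {f : X ⟶ Y} (h : IsUnivOpenMor f) :
    IsOpenMor f := h hY (𝟙 Y) (𝟙 X) f (IsPullback.of_horiz_isIso ⟨by simp⟩)

/-- An fppf covering of an algebraic space refines. -/
theorem refines_of_fppfCover {ι : Type u} (hX : IsAlgSpace X) (Yi : ι → Sp S)
    (hYi : ∀ i, IsAlgSpace (Yi i)) (g : ∀ i, Yi i ⟶ X) (h₁ : ∀ i, LocP @Flat (g i))
    (h₂ : ∀ i, LocP @LocallyOfFinitePresentation (g i))
    (hcov : ∀ x : Points X, ∃ i, x ∈ Set.range (Points.map (g i))) : Refines Yi g := by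
  intro Z hZ h
  obtain ⟨V, q, hqe, hqs⟩ := hX.atlas
  choose U pU α hpe hps hα hlift using fun i => exists_chart_lift (f := g i) (hYi i) hX hqe hqs
  obtain ⟨T, te, t₂, sqT, ht⟩ := exists_sq_prop hqe h
  obtain ⟨e, rfl⟩ := (yon S).map_surjective te
  have : Etale t₂.left := ht
  have hfl : ∀ i, Flat (α i).left ∧ LocallyOfFinitePresentation (α i).left := fun i =>
    ⟨h₁ i (pU i) q (α i) (hpe i) hqe (hα i), h₂ i (pU i) q (α i) (hpe i) hqe (hα i)⟩
  have hsnd : ∀ i, Flat (pullback.snd (α i) e).left ∧
      LocallyOfFinitePresentation (pullback.snd (α i) e).left := fun i =>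
    ⟨MorphismProperty.of_isPullback (P := @Flat)
      ((IsPullback.of_hasPullback (α i) e).map (Over.forget S)) (hfl i).1,
     MorphismProperty.of_isPullback (P := @LocallyOfFinitePresentation)
      ((IsPullback.of_hasPullback (α i) e).map (Over.forget S)) (hfl i).2⟩
  obtain ⟨m, W, d, hW, hflat, hd, hl⟩ := exists_std_of_open (fun i => pullback (α i) e)
    (fun i => pullback.snd (α i) e ≫ t₂)
    (fun i => by have := (hsnd i).1; rw [Over.comp_left]; infer_instance)
    (fun i => by
      have := (hsnd i).1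
      have := (hsnd i).2
      rw [Over.comp_left]
      exact ((pullback.snd (α i) e).left ≫ t₂.left).isOpenMap)
    (fun z => by
      obtain ⟨x, hx⟩ := surjective_map_of_repWith (repWith_baseChange sqT hqs) (Points.ofScheme Z z)
      obtain ⟨t, rfl⟩ := (Points.schemeEquiv T).surjective x
      obtain ⟨i, y, hy⟩ := hcov (Points.ofPt q (e.left t))
      obtain ⟨u, -, hu⟩ := hlift i y (e.left t) hy
      have sqF : IsPullback (pullback.fst (α i) e).left (pullback.snd (α i) e).left (α i).left e.left :=
        (IsPullback.of_hasPullback (α i) e).map (Over.forget S)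
      obtain ⟨r, -, hr⟩ := Scheme.exists_preimage_of_isPullback sqF u t hu
      refine ⟨i, r, ?_⟩
      rw [Over.comp_left, Scheme.Hom.comp_apply, hr]
      apply (Points.schemeEquiv Z).injective
      exact (Points.map_yon_map_apply t₂ t).symm.trans hx)
  refine ⟨m, W, d, hW, hflat, hd, fun j => ?_⟩
  obtain ⟨i, k, hk⟩ := hl j
  refine ⟨i, (yon S).map (k ≫ pullback.fst (α i) e) ≫ pU i, ?_⟩
  rw [Category.assoc, hα i, ← hk, Functor.map_comp, Functor.map_comp, Functor.map_comp,
    Category.assoc, Category.assoc, Category.assoc, ← sqT.w]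
  congr 1
  rw [← Functor.map_comp_assoc, pullback.condition, Functor.map_comp_assoc]

end Groth.Agent.ASp
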