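import Groth.Agent.Lib.AlgSpTop
import Groth.Agent.Lib.AlgSpLocP
import Groth.Prelude.Def_Flat
import Groth.Prelude.Def_SGA1

/-! Representable morphisms of algebraic spaces: universal topological properties, immersions on points. -/

set_option backward.isDefEq.respectTransparency.types false

universe u

open CategoryTheory CategoryTheory.Limits AlgebraicGeometry Opposite Topology

noncomputable section

namespace Groth.Agent.ASp

open _root_.AlgSp

variable {S : Scheme.{u}} {F G H X Y : Sp S}

/-- The homeomorphism on points induced by an isomorphism. -/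
def pointsHomeo (e : F ≅ G) : Points F ≃ₜ Points G where
  toFun := Points.map e.hom
  invFun := Points.map e.inv
  left_inv x := by rw [← Points.map_comp, e.hom_inv_id, Points.map_id]
  right_inv x := by rw [← Points.map_comp, e.inv_hom_id, Points.map_id]
  continuous_toFun := Points.continuous_map _
  continuous_invFun := Points.continuous_map _

theorem map_iso_comp (e : F ≅ G) (g : G ⟶ H) :
    Points.map (e.hom ≫ g) = Points.map g ∘ pointsHomeo e :=
  funext fun x => Points.map_comp _ _ x

theorem map_yon_eq {U V : Over S} (c : U ⟶ V) :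
    Points.map ((yon S).map c) = Points.schemeHomeo V ∘ c.left ∘ (Points.schemeHomeo U).symm :=
  Points.map_yon_map_eq c

theorem left_eq_map_yon {U V : Over S} (c : U ⟶ V) :
    (c.left : U.left → V.left) =
      (Points.schemeHomeo V).symm ∘ Points.map ((yon S).map c) ∘ Points.schemeHomeo U := by
  funext u
  simp [map_yon_eq]

/-- For representable morphisms, "universally `P`" may be tested on schemes or on algebraic spaces. -/
theorem repWith_universally_iff {P : MorphismProperty Scheme.{u}} [P.RespectsIso]
    {Q : MorphismProperty (Sp S)} (hQ : DescendsRefines Q)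
    (hQi : ∀ {A B C : Sp S} (e : A ≅ B) (g : B ⟶ C), Q g → Q (e.hom ≫ g))
    (h : ∀ {U V : Over S} (c : U ⟶ V), Q ((yon S).map c) ↔ P c.left)
    {f : F ⟶ G} (hf : Representable f) : RepWith P.universally f ↔ UnivSp Q f := by
  constructor
  · intro hP
    refine univSp_of_affine hQ fun Z _ g P' fst snd sq => ?_
    obtain ⟨V, fst', c, sq', hc⟩ := exists_sq_prop hP g
    rw [← sq.isoIsPullback_hom_snd _ _ sq']
    exact hQi _ _ ((h c).2 (P.universally_le _ hc))
  · intro hu
    refine repWith_of_forall hf fun U V g fst snd sq => ?_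
    intro X' Y' i₁ i₂ f' hsq
    let t : Over.mk (i₂ ≫ U.hom) ⟶ U := Over.homMk i₂
    have hT : IsPullback ((yon S).map (pullback.fst snd t)) ((yon S).map (pullback.snd snd t))
        ((yon S).map snd) ((yon S).map t) := (yon S).map_isPullback (IsPullback.of_hasPullback _ _)
    have hP : P (pullback.snd snd t).left :=
      (h _).1 (hu (IsAlgSpace.yon_obj _) ((yon S).map t ≫ g) _ _ (hT.paste_horiz sq))
    have e := hsq.flip.isoIsPullback_hom_snd _ _
      ((IsPullback.of_hasPullback snd t).map (Over.forget S))
    rw [← e]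
    exact (P.cancel_left_of_respectsIso _ _).2 hP

theorem repWith_universallyOpen_iff {f : F ⟶ G} (hf : Representable f) :
    RepWith @UniversallyOpen f ↔ IsUnivOpenMor f := by
  rw [UniversallyOpen.eq]
  refine repWith_universally_iff (P := topologically @IsOpenMap) descendsRefines_open
    (fun e g hg => ?_) (fun c => ?_) hf
  · show IsOpenMap _
    rw [map_iso_comp]
    exact IsOpenMap.comp hg (pointsHomeo e).isOpenMap
  · constructor
    · intro hc
      show IsOpenMap c.left
      rw [left_eq_map_yon]
      exact (Points.schemeHomeo _).symm.isOpenMap.comp (IsOpenMap.comp hc (Points.schemeHomeo _).isOpenMap)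
    · intro hc
      show IsOpenMap _
      rw [map_yon_eq]
      exact (Points.schemeHomeo _).isOpenMap.comp
        (IsOpenMap.comp hc (Points.schemeHomeo _).symm.isOpenMap)

theorem repWith_universallyClosed_iff {f : F ⟶ G} (hf : Representable f) :
    RepWith @UniversallyClosed f ↔ IsUnivClosedMor f := by
  rw [universallyClosed_eq]
  refine repWith_universally_iff (P := topologically @IsClosedMap) descendsRefines_closed
    (fun e g hg => ?_) (fun c => ?_) hf
  · show IsClosedMap _
    rw [map_iso_comp]
    exact IsClosedMap.comp hg (pointsHomeo e).isClosedMap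
  · constructor
    · intro hc
      show IsClosedMap c.left
      rw [left_eq_map_yon]
      exact (Points.schemeHomeo _).symm.isClosedMap.comp
        (IsClosedMap.comp hc (Points.schemeHomeo _).isClosedMap)
    · intro hc
      show IsClosedMap _
      rw [map_yon_eq]
      exact (Points.schemeHomeo _).isClosedMap.comp
        (IsClosedMap.comp hc (Points.schemeHomeo _).symm.isClosedMap)

theorem repWith_univSubmersive_iff {f : F ⟶ G} (hf : Representable f) :
    RepWith SGA1.UnivSubmersive f ↔ IsUnivSubmersiveMor f := by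
  have : (topologically fun f => IsQuotientMap f : MorphismProperty Scheme.{u}).RespectsIso :=
    topologically_respectsIso _ (fun e => e.isQuotientMap) fun _ _ hfq hgq => hgq.comp hfq
  refine repWith_universally_iff (P := topologically fun f => IsQuotientMap f) descendsRefines_submersive
    (fun e g hg => ?_) (fun c => ?_) hf
  · show IsQuotientMap _
    rw [map_iso_comp]
    exact IsQuotientMap.comp hg (pointsHomeo e).isQuotientMap
  · constructor
    · intro hc
      show IsQuotientMap c.left
      rw [left_eq_map_yon]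
      exact (Points.schemeHomeo _).symm.isQuotientMap.comp
        (IsQuotientMap.comp hc (Points.schemeHomeo _).isQuotientMap)
    · intro hc
      show IsQuotientMap _
      rw [map_yon_eq]
      exact (Points.schemeHomeo _).isQuotientMap.comp
        (IsQuotientMap.comp hc (Points.schemeHomeo _).symm.isQuotientMap)

theorem repWith_isUnivHomeo_iff {f : F ⟶ G} (hf : Representable f) :
    RepWith FlatMor.IsUnivHomeo f ↔ IsUnivHomeoMor f := by
  have : (topologically fun f => IsHomeomorph f : MorphismProperty Scheme.{u}).RespectsIso :=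
    topologically_respectsIso _ (fun e => e.isHomeomorph) fun _ _ hfq hgq => hgq.comp hfq
  refine repWith_universally_iff (P := topologically fun f => IsHomeomorph f) descendsRefines_homeo
    (fun e g hg => ?_) (fun c => ?_) hf
  · show IsHomeomorph _
    rw [map_iso_comp]
    exact IsHomeomorph.comp hg (pointsHomeo e).isHomeomorph
  · constructor
    · intro hc
      show IsHomeomorph c.left
      rw [left_eq_map_yon]
      exact (Points.schemeHomeo _).symm.isHomeomorph.comp
        (IsHomeomorph.comp hc (Points.schemeHomeo _).isHomeomorph)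
    · intro hc
      show IsHomeomorph _
      rw [map_yon_eq]
      exact (Points.schemeHomeo _).isHomeomorph.comp
        (IsHomeomorph.comp hc (Points.schemeHomeo _).symm.isHomeomorph)

theorem compactSpace_left {U : Over S} (h : IsQuasiCompactSp ((yon S).obj U)) : CompactSpace U.left :=
  have := compactSpace_points h
  (Points.schemeHomeo U).symm.compactSpace

theorem repWith_quasiCompact_iff {f : F ⟶ G} (hf : Representable f) :
    RepWith @QuasiCompact f ↔ IsQuasiCompactMor f := by
  refine ⟨isQuasiCompactMor_of_repWith, fun h => repWith_of_forall hf fun U V g fst snd sq => ?_⟩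
  show QuasiCompact snd.left
  refine IsZariskiLocalAtTarget.of_openCover (P := @QuasiCompact) U.left.affineCover fun i => ?_
  let t : Over.mk (U.left.affineCover.f i ≫ U.hom) ⟶ U := Over.homMk (U.left.affineCover.f i)
  have hT : IsPullback ((yon S).map (pullback.fst snd t)) ((yon S).map (pullback.snd snd t))
      ((yon S).map snd) ((yon S).map t) := (yon S).map_isPullback (IsPullback.of_hasPullback _ _)
  have := compactSpace_left (h (IsAlgSpace.yon_obj _)
    (isQuasiCompactSp_yon (show CompactSpace (U.left.affineCover.X i) from inferInstance))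
    ((yon S).map t ≫ g) _ _ (hT.paste_horiz sq))
  have : IsAffine (Over.mk (U.left.affineCover.f i ≫ U.hom)).left :=
    inferInstanceAs (IsAffine (U.left.affineCover.X i))
  have hq : QuasiCompact (pullback.snd snd t).left :=
    (quasiCompact_iff_compactSpace _).2 inferInstance
  show QuasiCompact (pullback.snd snd.left (U.left.affineCover.f i))
  rw [← (IsPullback.of_hasPullback snd.left (U.left.affineCover.f i)).isoIsPullback_hom_snd _ _
    ((IsPullback.of_hasPullback snd t).map (Over.forget S))]
  exact (MorphismProperty.cancel_left_of_respectsIso @QuasiCompact _ _).2 hq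

/-- Universally injective representable morphisms are the ones injective on field-valued points. -/
theorem repWith_universallyInjective_iff {f : F ⟶ G} (hf : Representable f) :
    RepWith @UniversallyInjective f ↔ ∀ (K : Type u) [Field K] (str : Spec (CommRingCat.of K) ⟶ S),
      Function.Injective (fun a : (yon S).obj (Over.mk str) ⟶ F => a ≫ f) := by
  constructor
  · intro h K _ str a b hab
    obtain ⟨V, fst, snd, sq, hu⟩ := exists_sq_prop h (a ≫ f)
    obtain ⟨l₁, hl₁⟩ := (yon S).map_surjective (sq.lift a (𝟙 _) (by simp))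
    obtain ⟨l₂, hl₂⟩ := (yon S).map_surjective (sq.lift b (𝟙 _) (by simpa using hab.symm))
    have e₁ : l₁ ≫ snd = 𝟙 _ := map_cancel (by
      rw [Functor.map_comp, hl₁, sq.lift_snd, CategoryTheory.Functor.map_id])
    have e₂ : l₂ ≫ snd = 𝟙 _ := map_cancel (by
      rw [Functor.map_comp, hl₂, sq.lift_snd, CategoryTheory.Functor.map_id])
    have h2 : UniversallyInjective snd.left ↔ ∀ (K : Type u) [Field K],
        Function.Injective (fun g : Spec (CommRingCat.of K) ⟶ V.left => g ≫ snd.left) :=
      (tfae_universallyInjective (f := snd.left)).out 0 1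
    have : l₁ = l₂ := Over.OverMorphism.ext (h2.1 hu K (show l₁.left ≫ snd.left = l₂.left ≫ snd.left by
      rw [← Over.comp_left, ← Over.comp_left, e₁, e₂]))
    rw [← sq.lift_fst a (𝟙 _) (by simp), ← sq.lift_fst b (𝟙 _) (by simpa using hab.symm), ← hl₁, ← hl₂,
      this]
  · refine fun h => repWith_of_forall hf fun U V g fst snd sq => ?_
    have h2 : UniversallyInjective snd.left ↔ ∀ (K : Type u) [Field K],
        Function.Injective (fun g : Spec (CommRingCat.of K) ⟶ V.left => g ≫ snd.left) :=
      (tfae_universallyInjective (f := snd.left)).out 0 1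
    refine h2.2 fun K _ g₁ g₂ hg => ?_
    let a₁ : Over.mk (g₁ ≫ V.hom) ⟶ V := Over.homMk g₁
    let a₂ : Over.mk (g₁ ≫ V.hom) ⟶ V := Over.homMk g₂ (by
      change g₂ ≫ V.hom = g₁ ≫ V.hom
      rw [← Over.w snd, reassoc_of% hg])
    have ha : a₁ ≫ snd = a₂ ≫ snd := Over.OverMorphism.ext hg
    have hs : (yon S).map a₁ = (yon S).map a₂ := sq.hom_ext
      (h K _ (show ((yon S).map a₁ ≫ fst) ≫ f = ((yon S).map a₂ ≫ fst) ≫ f by
        simp only [Category.assoc, sq.w, ← Functor.map_comp_assoc, ha]))
      (by rw [← Functor.map_comp, ← Functor.map_comp, ha])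
    exact congrArg (·.left) (map_cancel hs)

/-! ### Immersions on points -/

theorem injective_map_of_mono (f : F ⟶ G) [Mono f] : Function.Injective (Points.map f) := by
  intro x y
  induction x using Points.ind with | h p =>
  induction y using Points.ind with | h q =>
  intro h
  obtain ⟨Ω, _, w, a, b, hab⟩ := Points.mk_eq_mk_iff.1 (show Points.mk (p.map f) = Points.mk (q.map f) from h)
  refine Points.sound ⟨Ω, inferInstance, w, a, b, ?_⟩
  apply sec.symm.injective
  rw [← cancel_mono f]
  apply sec.injective
  simp only [sec_comp, Equiv.apply_symm_apply]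
  exact (NatTrans.naturality_apply f.hom a.op p.val).trans
    (hab.trans (NatTrans.naturality_apply f.hom b.op q.val).symm)

theorem preimage_range_of_sq {f : F ⟶ G} {U V : Over S} {g : (yon S).obj U ⟶ G}
    {fst : (yon S).obj V ⟶ F} {snd : V ⟶ U} (sq : IsPullback fst ((yon S).map snd) f g) :
    Points.ofPt g ⁻¹' Set.range (Points.map f) = Set.range snd.left := by
  rw [← Set.image_univ, preimage_image_of_sq sq, Set.preimage_univ, Set.image_univ]

theorem isEmbedding_points_of_immersion (hG : IsAlgSpace G) {i : F ⟶ G} (hi : RepWith @IsImmersion i) :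
    IsEmbedding (Points.map i) := by
  have := mono_of_repWith_immersion hi
  obtain ⟨U, p, hpe, hps⟩ := hG.atlas
  obtain ⟨V, fst, snd, sq, hs⟩ := exists_sq_prop hi p
  have : IsImmersion snd.left := hs
  refine ⟨(isInducing_iff_nhds).2 fun x => le_antisymm
    ((Points.continuous_map i).tendsto x).le_comap fun A hA => ?_, injective_map_of_mono i⟩
  obtain ⟨W, hWA, hW, hxW⟩ := mem_nhds_iff.1 hA |>.imp fun _ => id
  obtain ⟨O, hO, hOeq⟩ := snd.left.isEmbedding.isInducing.isOpen_iff.1
    (hW.preimage (Points.continuous_ofPt fst))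
  obtain ⟨u, hu⟩ := surjective_ofPt_of_repWith hps (Points.map i x)
  obtain ⟨v, hv, hvu⟩ := exists_pt_of_sq sq x u hu.symm
  refine Filter.mem_comap.2 ⟨Points.ofPt p '' O, (isOpenMap_ofPt_of_etale hpe _ hO).mem_nhds
    ⟨u, ?_, hu⟩, fun y hy => hWA ?_⟩
  · rw [← hvu]
    have : v ∈ snd.left ⁻¹' O := by rw [hOeq]; show Points.ofPt fst v ∈ W; rwa [hv]
    exact this
  · obtain ⟨o, ho, hoy⟩ := hy
    obtain ⟨v', hv', hvo⟩ := exists_pt_of_sq sq y o hoy.symm
    have : v' ∈ snd.left ⁻¹' O := by show snd.left v' ∈ O; rwa [hvo]
    rw [hOeq] at this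
    rw [← hv']
    exact this

theorem isLocallyClosed_range_of_immersion (hG : IsAlgSpace G) {i : F ⟶ G} (hi : RepWith @IsImmersion i) :
    IsLocallyClosed (Set.range (Points.map i)) := by
  obtain ⟨U, p, hpe, hps⟩ := hG.atlas
  obtain ⟨V, fst, snd, sq, hs⟩ := exists_sq_prop hi p
  have : IsImmersion snd.left := hs
  rw [isLocallyClosed_iff_isOpen_coborder, ← (isQuotientMap_ofPt hpe hps).isOpen_preimage,
    ← coborder_preimage (isOpenMap_ofPt_of_etale hpe) (Points.continuous_ofPt p), preimage_range_of_sq sq]
  exact IsImmersion.isLocallyClosed_range.isOpen_coborder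

theorem repWith_isClosedImmersion_iff (hG : IsAlgSpace G) {i : F ⟶ G} (hi : RepWith @IsImmersion i) :
    RepWith @IsClosedImmersion i ↔ IsClosed (Set.range (Points.map i)) := by
  constructor
  · intro h
    obtain ⟨U, p, hpe, hps⟩ := hG.atlas
    obtain ⟨V, fst, snd, sq, hs⟩ := exists_sq_prop h p
    have : IsClosedImmersion snd.left := hs
    rw [← (isQuotientMap_ofPt hpe hps).isClosed_preimage, preimage_range_of_sq sq]
    exact snd.left.isClosedEmbedding.isClosed_range
  · refine fun h => repWith_of_forall hi.rep fun U V g fst snd sq => ?_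
    have : IsImmersion snd.left := hi.2 g fst snd sq
    exact .of_isPreimmersion _ (by rw [← preimage_range_of_sq sq]; exact h.preimage (Points.continuous_ofPt g))

/-- The preimage of a compact open under a quasi-compact morphism is compact. -/
theorem isCompact_preimage (hY : IsAlgSpace Y) {f : X ⟶ Y} (hf : IsQuasiCompactMor f)
    {V : Set (Points Y)} (hV : IsOpen V) (hVc : IsCompact V) : IsCompact (Points.map f ⁻¹' V) := by
  obtain ⟨U, p, hpe, hps⟩ := hY.atlas
  obtain ⟨t, ht⟩ := hVc.elim_finite_subcover
    (fun W : {W : U.left.affineOpens // (W.1 : Set U.left) ⊆ Points.ofPt p ⁻¹' V} =>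
      Points.ofPt p '' (W.1.1 : Set U.left))
    (fun W => isOpenMap_ofPt_of_etale hpe _ W.1.1.2) (fun y hy => by
      obtain ⟨u, rfl⟩ := surjective_ofPt_of_repWith hps y
      obtain ⟨W, hW, huW, hWV⟩ := exists_isAffineOpen_mem_and_subset (X := U.left) (x := u)
        (U := ⟨_, hV.preimage (Points.continuous_ofPt p)⟩) hy
      exact Set.mem_iUnion.2 ⟨⟨⟨W, hW⟩, hWV⟩, u, huW, rfl⟩)
  have hpre : Points.map f ⁻¹' V = ⋃ W ∈ t, Points.map f ⁻¹' (Points.ofPt p '' (W.1.1 : Set U.left)) := by
    refine Set.Subset.antisymm (fun x hx => ?_) (Set.iUnion₂_subset fun W _ => ?_)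
    · obtain ⟨W, hW, h⟩ := Set.mem_iUnion₂.1 (ht hx)
      exact Set.mem_iUnion₂.2 ⟨W, hW, h⟩
    · exact Set.preimage_mono (Set.image_subset_iff.2 W.2)
  rw [hpre]
  refine t.finite_toSet.isCompact_biUnion fun W _ => ?_
  let c : Over.mk (W.1.1.ι ≫ U.hom) ⟶ U := Over.homMk W.1.1.ι
  have : IsAffine (W.1.1 : Scheme.{u}) := W.1.2
  have sq := IsPullback.of_hasPullback f ((yon S).map c ≫ p)
  have := compactSpace_points (hf (IsAlgSpace.yon_obj _)
    (isQuasiCompactSp_yon (show CompactSpace (W.1.1 : Scheme.{u}) from inferInstance)) _ _ _ sq)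
  have hr : Points.map f ⁻¹' (Points.ofPt p '' (W.1.1 : Set U.left)) =
      Set.range (Points.map (pullback.fst f ((yon S).map c ≫ p))) := by
    have hmap : ∀ w, Points.map ((yon S).map c ≫ p) (Points.ofScheme _ w) = Points.ofPt p (W.1.1.ι w) :=
      fun w => by rw [← Points.ofPt_eq_map_ofScheme, ofPt_yon_map_comp]; rfl
    ext x
    constructor
    · rintro ⟨u, hu, hux⟩
      obtain ⟨q, hq, -⟩ := exists_of_isPullback sq x (Points.ofScheme _ (⟨u, hu⟩ : W.1.1))
        (by rw [hmap]; exact hux.symm)
      exact ⟨q, hq⟩
    · rintro ⟨q, rfl⟩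
      show Points.map f (Points.map _ q) ∈ Points.ofPt p '' (W.1.1 : Set U.left)
      rw [← Points.map_comp, sq.w, Points.map_comp]
      obtain ⟨w, hw⟩ := (Points.schemeEquiv _).surjective
        (Points.map (pullback.snd f ((yon S).map c ≫ p)) q)
      rw [← hw]
      change Points.map _ (Points.ofScheme _ w) ∈ Points.ofPt p '' (W.1.1 : Set U.left)
      rw [hmap]
      exact ⟨_, w.2, rfl⟩
  rw [hr]
  exact isCompact_range (Points.continuous_map _)

end Groth.Agent.ASp
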