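import Groth.Agent.Lib.AlgSpTop
import Groth.Agent.Lib.AlgSpRep
import Groth.Agent.Lib.AlgSpCharts
import Mathlib.AlgebraicGeometry.AffineSpace
import Mathlib.LinearAlgebra.TensorProduct.Finiteness
/-! Closedness of a quasi-compact morphism of algebraic spaces after base change is tested on affine spaces. -/

set_option autoImplicit false
set_option linter.style.haveILetI false
set_option linter.unusedVariables false
set_option backward.isDefEq.respectTransparency.types false

universe u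

open CategoryTheory CategoryTheory.Limits AlgebraicGeometry Opposite Topology TensorProduct

noncomputable section

namespace Groth.Agent.ASp

open _root_.AlgSp

variable {S : Scheme.{u}}

namespace PolyTest

variable {R : Type u} [CommRing R] (str : Spec (CommRingCat.of R) ⟶ S)

abbrev ov (C : Type u) [CommRing C] [Algebra R C] : Over S :=
  Over.mk (Spec.map (CommRingCat.ofHom (algebraMap R C)) ≫ str)

def bs (C : Type u) [CommRing C] [Algebra R C] : ov str C ⟶ Over.mk str :=
  Over.homMk (Spec.map (CommRingCat.ofHom (algebraMap R C))) rfl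

def ovMap {C D : Type u} [CommRing C] [Algebra R C] [CommRing D] [Algebra R D] (g : C →ₐ[R] D) :
    ov str D ⟶ ov str C :=
  Over.homMk (Spec.map (CommRingCat.ofHom g.toRingHom)) (by
    show Spec.map _ ≫ Spec.map _ ≫ str = Spec.map _ ≫ str
    rw [← Spec.map_comp_assoc, ← CommRingCat.ofHom_comp, g.toRingHom_eq_coe, g.comp_algebraMap])

theorem ovMap_bs {C D : Type u} [CommRing C] [Algebra R C] [CommRing D] [Algebra R D] (g : C →ₐ[R] D) :
    ovMap str g ≫ bs str C = bs str D :=
  Over.OverMorphism.ext (by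
    show Spec.map _ ≫ Spec.map _ = Spec.map _
    rw [← Spec.map_comp, ← CommRingCat.ofHom_comp, g.toRingHom_eq_coe, g.comp_algebraMap])

theorem ovMap_comp {C D E : Type u} [CommRing C] [Algebra R C] [CommRing D] [Algebra R D] [CommRing E]
    [Algebra R E] (g : C →ₐ[R] D) (h : D →ₐ[R] E) : ovMap str h ≫ ovMap str g = ovMap str (h.comp g) :=
  Over.OverMorphism.ext (Spec.map_comp _ _).symm

theorem sq_tensor (B C : Type u) [CommRing B] [Algebra R B] [CommRing C] [Algebra R C] :
    IsPullback ((yon S).map (ovMap str (Algebra.TensorProduct.includeLeft : B →ₐ[R] B ⊗[R] C)))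
      ((yon S).map (ovMap str (Algebra.TensorProduct.includeRight : C →ₐ[R] B ⊗[R] C)))
      ((yon S).map (bs str B)) ((yon S).map (bs str C)) := by
  refine IsPullback.map (yon S) (IsPullback.of_map (Over.forget S) ((ovMap_bs str _).trans (ovMap_bs str _).symm) ?_)
  exact isPullback_SpecMap_of_isPushout _ _ _ _ (CommRingCat.isPushout_tensorProduct R B C)

theorem exists_sum_of_mem_map {B A : Type u} [CommRing B] [Algebra R B] [CommRing A] [Algebra R A] (p : Ideal A)
    {y : B ⊗[R] A} (hy : y ∈ p.map (Algebra.TensorProduct.includeRight : A →ₐ[R] B ⊗[R] A)) :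
    ∃ (n : ℕ) (b : Fin n → B) (x : Fin n → A), (∀ i, x i ∈ p) ∧ y = ∑ i, b i ⊗ₜ[R] x i := by
  obtain ⟨z, rfl⟩ := (p.map_includeRight_eq (R := R) (A := B)).le hy
  obtain ⟨T, rfl⟩ := TensorProduct.exists_finset z
  refine ⟨T.card, fun i => (T.equivFin.symm i).1.1, fun i => ((T.equivFin.symm i).1.2 : A),
    fun i => (T.equivFin.symm i).1.2.2, ?_⟩
  rw [map_sum, ← Finset.sum_coe_sort]
  exact (Equiv.sum_comp T.equivFin.symm fun k : ↥T => k.1.1 ⊗ₜ[R] (k.1.2 : A)).symm

theorem closedMap_of_poly {P : Sp S} (π : P ⟶ (yon S).obj (Over.mk str)) {B : Type u} [CommRing B] [Algebra R B]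
    (a : (yon S).obj (ov str B) ⟶ P) (hae : RepWith @Etale a) (has : RepWith @Surjective a)
    (ha : a ≫ π = (yon S).map (bs str B))
    (H : ∀ (n : ℕ) (Pn : Sp S) (fn : Pn ⟶ P) (sn : Pn ⟶ (yon S).obj (ov str (MvPolynomial (ULift.{u} (Fin n)) R))),
      IsPullback fn sn π ((yon S).map (bs str (MvPolynomial (ULift.{u} (Fin n)) R))) → IsClosedMap (Points.map sn))
    (A : Type u) [CommRing A] [Algebra R A] {PA : Sp S} (fA : PA ⟶ P) (sA : PA ⟶ (yon S).obj (ov str A))
    (sqA : IsPullback fA sA π ((yon S).map (bs str A))) : IsClosedMap (Points.map sA) := by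
  intro C hC
  let inL := fun (D : Type u) [CommRing D] [Algebra R D] => (Algebra.TensorProduct.includeLeft : B →ₐ[R] B ⊗[R] D)
  let inR := fun (D : Type u) [CommRing D] [Algebra R D] => (Algebra.TensorProduct.includeRight : D →ₐ[R] B ⊗[R] D)
  obtain ⟨aA, haA₁, haA₂⟩ : ∃ aA, aA ≫ fA = (yon S).map (ovMap str (inL A)) ≫ a ∧
      aA ≫ sA = (yon S).map (ovMap str (inR A)) :=
    ⟨sqA.lift _ _ (by rw [Category.assoc, ha]; exact (sq_tensor str B A).w), sqA.lift_fst _ _ _, sqA.lift_snd _ _ _⟩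
  have sqaA : IsPullback ((yon S).map (ovMap str (inL A))) aA a fA := by
    refine IsPullback.of_bot ?_ haA₁.symm sqA
    rw [ha, haA₂]
    exact sq_tensor str B A
  have hsurjA := surjective_ofPt_of_repWith (repWith_baseChange sqaA has)
  let CW : Set (PrimeSpectrum (B ⊗[R] A)) := Points.ofPt aA ⁻¹' C
  have hCW : IsClosed CW := hC.preimage (Points.continuous_ofPt aA)
  have hproj : ∀ q : PrimeSpectrum (B ⊗[R] A), Points.map sA (Points.ofPt aA q) =
      Points.ofScheme (ov str A) (PrimeSpectrum.comap (inR A).toRingHom q) := by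
    intro q
    rw [Points.map_ofPt, haA₂, ← Category.comp_id ((yon S).map _), ofPt_yon_map_comp]
    rfl
  rw [← isOpen_compl_iff, ← (Points.schemeHomeo (ov str A)).isOpen_preimage]
  refine isOpen_iff_forall_mem_open.2 fun p hp => ?_
  let p' : PrimeSpectrum A := p
  have hp' : ∀ q ∈ CW, PrimeSpectrum.comap (inR A).toRingHom q ≠ p' := by
    intro q hq h
    refine hp ⟨Points.ofPt aA q, hq, ?_⟩
    rw [hproj q, h]
    rfl
  -- a function separating the closed set from the fibre
  let J : Ideal (B ⊗[R] A) := PrimeSpectrum.vanishingIdeal CW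
  let I : Ideal (B ⊗[R] A) := J ⊔ p'.asIdeal.map (inR A)
  obtain ⟨s, hsp, hs⟩ : ∃ s, s ∉ p'.asIdeal ∧ inR A s ∈ I := by
    by_contra hno
    push Not at hno
    obtain ⟨Q, hQp, hIQ, hQd⟩ := Ideal.exists_le_prime_disjoint I (p'.asIdeal.primeCompl.map (inR A).toRingHom) (by
      rw [Set.disjoint_left]
      rintro _ hx ⟨s, hs, rfl⟩
      exact hno s hs hx)
    let q : PrimeSpectrum (B ⊗[R] A) := ⟨Q, hQp⟩
    have hq : q ∈ CW := by
      rw [← hCW.closure_eq, ← PrimeSpectrum.zeroLocus_vanishingIdeal_eq_closure]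
      exact (le_sup_left : J ≤ I).trans hIQ
    refine hp' q hq (PrimeSpectrum.ext (le_antisymm (fun x hx => ?_) fun x hx => ?_))
    · by_contra hxp
      exact Set.disjoint_left.1 hQd hx ⟨x, hxp, rfl⟩
    · exact hIQ (Ideal.mem_sup_right (Ideal.mem_map_of_mem _ hx))
  obtain ⟨j, hj, y, hy, hjy⟩ := Submodule.mem_sup.1 hs
  obtain ⟨n, b, x, hx, rfl⟩ := exists_sum_of_mem_map p'.asIdeal hy
  -- the finitely many elements involved define a map to affine space
  let v : ULift.{u} (Fin (n + 1)) → A := fun i => Fin.cons (α := fun _ => A) s x i.down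
  let ev : MvPolynomial (ULift.{u} (Fin (n + 1))) R →ₐ[R] A := MvPolynomial.aeval v
  let Φ : B ⊗[R] MvPolynomial (ULift.{u} (Fin (n + 1))) R →ₐ[R] B ⊗[R] A :=
    Algebra.TensorProduct.map (AlgHom.id R B) ev
  let Rn := MvPolynomial (ULift.{u} (Fin (n + 1))) R
  let j' : B ⊗[R] Rn := (1 : B) ⊗ₜ[R] MvPolynomial.X (ULift.up (0 : Fin (n + 1))) -
    ∑ i, b i ⊗ₜ[R] MvPolynomial.X (ULift.up i.succ)
  have hj' : Φ j' = j := by
    simp only [Φ, j', map_sub, map_sum, Algebra.TensorProduct.map_tmul, AlgHom.coe_id, id_eq, ev,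
      MvPolynomial.aeval_X, v, Fin.cons_zero, Fin.cons_succ]
    exact (eq_sub_of_add_eq hjy).symm
  let sqn := IsPullback.of_hasPullback π ((yon S).map (bs str Rn))
  obtain ⟨an, han₁, han₂⟩ : ∃ an, an ≫ pullback.fst π ((yon S).map (bs str Rn)) = (yon S).map (ovMap str (inL Rn)) ≫ a ∧
      an ≫ pullback.snd π ((yon S).map (bs str Rn)) = (yon S).map (ovMap str (inR Rn)) :=
    ⟨sqn.lift _ _ (by rw [Category.assoc, ha]; exact (sq_tensor str B Rn).w), sqn.lift_fst _ _ _, sqn.lift_snd _ _ _⟩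
  have sqan : IsPullback ((yon S).map (ovMap str (inL Rn))) an a (pullback.fst π ((yon S).map (bs str Rn))) := by
    refine IsPullback.of_bot ?_ han₁.symm sqn
    rw [ha, han₂]
    exact sq_tensor str B Rn
  obtain ⟨φ, hφ₁, hφ₂⟩ : ∃ φ, φ ≫ pullback.fst π ((yon S).map (bs str Rn)) = fA ∧
      φ ≫ pullback.snd π ((yon S).map (bs str Rn)) = sA ≫ (yon S).map (ovMap str ev) :=
    ⟨sqn.lift _ _ (by rw [Category.assoc, ← Functor.map_comp, ovMap_bs]; exact sqA.w), sqn.lift_fst _ _ _,
      sqn.lift_snd _ _ _⟩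
  have hL : ovMap str Φ ≫ ovMap str (inL Rn) = ovMap str (inL A) := by
    rw [ovMap_comp]
    exact congrArg (ovMap str) (AlgHom.ext fun c => by simp [Φ, inL])
  have hR : ovMap str Φ ≫ ovMap str (inR Rn) = ovMap str (inR A) ≫ ovMap str ev := by
    rw [ovMap_comp, ovMap_comp]
    exact congrArg (ovMap str) (AlgHom.ext fun c => by simp [Φ, inR])
  have hw : aA ≫ φ = (yon S).map (ovMap str Φ) ≫ an := by
    refine sqn.hom_ext ?_ ?_
    · rw [Category.assoc, hφ₁, haA₁, Category.assoc, han₁, ← Category.assoc, ← Functor.map_comp, hL]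
    · rw [Category.assoc, hφ₂, ← Category.assoc, haA₂, Category.assoc, han₂, ← Functor.map_comp, ← Functor.map_comp, hR]
  have sqW : IsPullback aA ((yon S).map (ovMap str Φ)) φ an := by
    refine IsPullback.flip (IsPullback.of_right ?_ hw.symm sqan)
    rw [← Functor.map_comp, hL, hφ₁]
    exact sqaA
  let fW : PrimeSpectrum (B ⊗[R] A) → PrimeSpectrum (B ⊗[R] Rn) := PrimeSpectrum.comap Φ.toRingHom
  let D : Set (Points (pullback π ((yon S).map (bs str Rn)))) := closure (Points.map φ '' C)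
  have himg : (Points.ofPt an ⁻¹' (Points.map φ '' C) : Set (PrimeSpectrum (B ⊗[R] Rn))) ⊆ fW '' CW := by
    rintro w ⟨c, hc, hcw⟩
    obtain ⟨z, hz₁, hz₂⟩ := exists_of_isPullback sqW c (Points.ofScheme _ w)
      (by rw [hcw, Points.ofPt_eq_map_ofScheme])
    obtain ⟨q, rfl⟩ := (Points.schemeHomeo _).surjective z
    refine ⟨q, show Points.ofPt aA q ∈ C from ?_, ?_⟩
    · rw [Points.ofPt_eq_map_ofScheme]
      exact hz₁ ▸ hc
    · refine (Points.schemeHomeo (ov str (B ⊗[R] Rn))).injective (Eq.trans ?_ hz₂)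
      show Points.ofScheme _ ((ovMap str Φ).left q) = Points.map _ (Points.ofScheme _ q)
      rw [← Points.ofPt_eq_map_ofScheme, ← Category.comp_id ((yon S).map _), ofPt_yon_map_comp]
  have hD : ∀ w : PrimeSpectrum (B ⊗[R] Rn), Points.ofPt an w ∈ D → j' ∈ w.asIdeal := by
    intro w hw'
    have h1 : w ∈ closure (Points.ofPt an ⁻¹' (Points.map φ '' C)) := by
      rw [← (isOpenMap_ofPt_of_etale (repWith_baseChange sqan hae)).preimage_closure_eq_closure_preimage
        (Points.continuous_ofPt an)]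
      exact hw'
    have h2 : fW '' CW ⊆ PrimeSpectrum.zeroLocus {j'} := by
      rintro _ ⟨q, hq, rfl⟩
      refine Set.singleton_subset_iff.2 ?_
      show Φ j' ∈ q.asIdeal
      rw [hj']
      exact (PrimeSpectrum.mem_vanishingIdeal CW j).1 hj q hq
    exact Set.singleton_subset_iff.1 (closure_minimal (himg.trans h2) (PrimeSpectrum.isClosed_zeroLocus _) h1)
  have hcl := H _ _ _ _ sqn D isClosed_closure
  let g : ↥(ov str A).left → Points ((yon S).obj (ov str Rn)) := fun t => Points.ofScheme _ ((ovMap str ev).left t)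
  have hg : Continuous g := (Points.continuous_ofPt _).comp (ovMap str ev).left.continuous
  refine ⟨g ⁻¹' (Points.map (pullback.snd π ((yon S).map (bs str Rn))) '' D)ᶜ, ?_, hcl.isOpen_compl.preimage hg, ?_⟩
  · rintro t ht ⟨c, hc, hct⟩
    refine ht ⟨Points.map φ c, subset_closure ⟨c, hc, rfl⟩, ?_⟩
    rw [← Points.map_comp, hφ₂, Points.map_comp, hct]
    show Points.map _ (Points.ofScheme _ t) = _
    rw [← Points.ofPt_eq_map_ofScheme, ← Category.comp_id ((yon S).map _), ofPt_yon_map_comp]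
  · rintro ⟨d, hd, hdp⟩
    obtain ⟨w, rfl⟩ := surjective_ofPt_of_repWith (repWith_baseChange sqan has) d
    rw [Points.map_ofPt, han₂, ← Category.comp_id ((yon S).map _), ofPt_yon_map_comp] at hdp
    have hpn : PrimeSpectrum.comap (inR Rn).toRingHom w = PrimeSpectrum.comap ev.toRingHom p' :=
      (Points.schemeHomeo (ov str Rn)).injective hdp
    have hmem : ∀ f : Rn, inR Rn f ∈ (w : PrimeSpectrum (B ⊗[R] Rn)).asIdeal ↔ ev f ∈ p'.asIdeal := fun f =>
      Iff.of_eq (congrArg (fun P : PrimeSpectrum Rn => f ∈ P.asIdeal) hpn)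
    have h0 := hD w hd
    refine hsp ?_
    have hs0 : inR Rn (MvPolynomial.X (ULift.up (0 : Fin (n + 1)))) ∈ (w : PrimeSpectrum (B ⊗[R] Rn)).asIdeal := by
      have hsum : (∑ i, b i ⊗ₜ[R] MvPolynomial.X (ULift.up i.succ) : B ⊗[R] Rn) ∈ (w : PrimeSpectrum (B ⊗[R] Rn)).asIdeal := by
        refine Ideal.sum_mem _ fun i _ => ?_
        have h1 : inR Rn (MvPolynomial.X (ULift.up i.succ)) ∈ (w : PrimeSpectrum (B ⊗[R] Rn)).asIdeal :=
          (hmem _).2 (by simpa [ev, v] using hx i)
        rw [show b i ⊗ₜ[R] (MvPolynomial.X (ULift.up i.succ) : Rn) =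
          b i ⊗ₜ[R] (1 : Rn) * inR Rn (MvPolynomial.X (ULift.up i.succ)) by simp [inR]]
        exact Ideal.mul_mem_left _ _ h1
      have := Ideal.add_mem _ h0 hsum
      simpa [j', inR] using this
    simpa [ev, v] using (hmem _).1 hs0

end PolyTest

end Groth.Agent.ASp

namespace Groth.Agent.ASp

open _root_.AlgSp

variable {S : Scheme.{u}} {X Y : Sp S}

/-- Closedness of a base change passes to a further base change along an immersion. -/
theorem closedMap_baseChange_immersion {Z' Z P' P : Sp S} (hP : IsAlgSpace P) (hZ : IsAlgSpace Z) {e : Z' ⟶ Z}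
    (he : RepWith @IsImmersion e) {m : P' ⟶ P} {s' : P' ⟶ Z'} {s : P ⟶ Z} (sq : IsPullback m s' s e)
    (h : IsClosedMap (Points.map s)) : IsClosedMap (Points.map s') := by
  intro C hC
  obtain ⟨D, hD, rfl⟩ := (isEmbedding_points_of_immersion hP (repWith_baseChange sq.flip he)).isInducing.isClosed_iff.1 hC
  rw [← preimage_image_of_isPullback sq D]
  exact (h D hD).preimage (Points.continuous_map e)

/-- A quasi-compact morphism is universally closed when its base changes to affine spaces over an etale atlas of the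
target are closed. -/
theorem isUnivClosedMor_of_affineSpace (hX : IsAlgSpace X) (hY : IsAlgSpace Y) {f : X ⟶ Y}
    (hqc : IsQuasiCompactMor f) {V : Over S} (p : (yon S).obj V ⟶ Y) (hp : RepWith @Etale p)
    (hps : RepWith @Surjective p)
    (H : ∀ (n : ℕ) (P : Sp S) (fst : P ⟶ X)
      (snd : P ⟶ (yon S).obj (Over.mk ((𝔸(ULift.{u} (Fin n); V.left) ↘ V.left) ≫ V.hom))),
      IsPullback fst snd f ((yon S).map (Over.homMk (𝔸(ULift.{u} (Fin n); V.left) ↘ V.left)) ≫ p) →
        IsClosedMap (Points.map snd)) : IsUnivClosedMor f := by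
  let str : ∀ O : V.left.affineOpens, Spec Γ(V.left, O.1) ⟶ S := fun O => O.2.fromSpec ≫ V.hom
  let O : V.left.affineOpens → Over S := fun O => Over.mk (str O)
  let i : ∀ k, O k ⟶ V := fun k => Over.homMk k.2.fromSpec rfl
  let c : ∀ k, (yon S).obj (O k) ⟶ Y := fun k => (yon S).map (i k) ≫ p
  have hce : ∀ k, RepWith @Etale (c k) := fun k => by
    haveI : IsOpenImmersion (i k).left := inferInstanceAs (IsOpenImmersion k.2.fromSpec)
    exact repWith_comp ((repWith_yon_map_iff _ _).2 (inferInstance : Etale (i k).left)) hp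
  have hsurj : ∀ y : Points Y, ∃ k, y ∈ Set.range (Points.ofPt (c k)) := fun y => by
    obtain ⟨v, rfl⟩ := surjective_ofPt_of_repWith hps y
    obtain ⟨U, hU, hvU, -⟩ := exists_isAffineOpen_mem_and_subset (X := V.left) (x := v) (U := ⊤) trivial
    obtain ⟨t, ht⟩ := hU.range_fromSpec.ge hvU
    refine ⟨⟨U, hU⟩, t, ?_⟩
    rw [ofPt_yon_map_comp]
    exact congrArg _ ht
  refine univSp_of_refines (Q := IsClosedMor) descendsRefines_closed hY (fun k => IsAlgSpace.yon_obj (O k))
    (refines_of_etale c hce hsurj) (fun k => IsPullback.of_hasPullback f (c k)) fun k => ?_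
  let R := Γ(V.left, k.1)
  let π : pullback f (c k) ⟶ (yon S).obj (Over.mk (str k)) := pullback.snd f (c k)
  have hP : IsAlgSpace (pullback f (c k)) := isAlgSpace_pullback f (c k) hX (IsAlgSpace.yon_obj _) hY
  haveI : CompactSpace (Points (pullback f (c k))) := (isQuasiCompactSp_iff hP).1
    (hqc (IsAlgSpace.yon_obj (O k)) (isQuasiCompactSp_yon (inferInstanceAs (CompactSpace (Spec _)))) _ _ _
      (IsPullback.of_hasPullback f (c k)))
  obtain ⟨U, a₀, hU, hae, has⟩ := exists_affine_chart_of_compact hP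
  obtain ⟨c₀, hc₀⟩ := (yon S).map_surjective (a₀ ≫ π)
  haveI := hU
  let φ : R →+* Γ(U.left, ⊤) := (Spec.preimage (U.left.isoSpec.inv ≫ c₀.left)).hom
  letI : Algebra R Γ(U.left, ⊤) := φ.toAlgebra
  have hφ : Spec.map (CommRingCat.ofHom (algebraMap R Γ(U.left, ⊤))) = U.left.isoSpec.inv ≫ c₀.left :=
    Spec.map_preimage _
  let ι : PolyTest.ov (str k) Γ(U.left, ⊤) ⟶ U := Over.homMk U.left.isoSpec.inv (by
    show U.left.isoSpec.inv ≫ U.hom = Spec.map _ ≫ str k
    rw [hφ, Category.assoc, ← Over.w c₀]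
    rfl)
  haveI : IsIso ((Over.forget S).map ι) := inferInstanceAs (IsIso U.left.isoSpec.inv)
  haveI : IsIso ι := isIso_of_reflects_iso _ (Over.forget S)
  haveI : IsIso ι.left := ‹IsIso ((Over.forget S).map ι)›
  have hι : ι ≫ c₀ = PolyTest.bs (str k) Γ(U.left, ⊤) := Over.OverMorphism.ext hφ.symm
  refine univSp_of_affine descendsRefines_closed fun Z hZ g PA fA sA sqA => ?_
  obtain ⟨g₀, rfl⟩ := (yon S).map_surjective g
  haveI := hZ
  let ψ : R →+* Γ(Z.left, ⊤) := (Spec.preimage (Z.left.isoSpec.inv ≫ g₀.left)).hom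
  letI : Algebra R Γ(Z.left, ⊤) := ψ.toAlgebra
  have hψ : Spec.map (CommRingCat.ofHom (algebraMap R Γ(Z.left, ⊤))) = Z.left.isoSpec.inv ≫ g₀.left :=
    Spec.map_preimage _
  let ζ : Z ⟶ PolyTest.ov (str k) Γ(Z.left, ⊤) := Over.homMk Z.left.isoSpec.hom (by
    show Z.left.isoSpec.hom ≫ Spec.map _ ≫ str k = Z.hom
    rw [hψ, Category.assoc, Iso.hom_inv_id_assoc, ← Over.w g₀]
    rfl)
  haveI : IsIso ((Over.forget S).map ζ) := inferInstanceAs (IsIso Z.left.isoSpec.hom)
  haveI : IsIso ζ := isIso_of_reflects_iso _ (Over.forget S)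
  haveI : IsIso ζ.left := ‹IsIso ((Over.forget S).map ζ)›
  have hζ : ζ ≫ PolyTest.bs (str k) Γ(Z.left, ⊤) = g₀ := Over.OverMorphism.ext (by
    show Z.left.isoSpec.hom ≫ Spec.map _ = g₀.left
    rw [hψ, Iso.hom_inv_id_assoc])
  have hbs := IsPullback.of_hasPullback π ((yon S).map (PolyTest.bs (str k) Γ(Z.left, ⊤)))
  have sqζ : IsPullback (hbs.lift fA (sA ≫ (yon S).map ζ) (by rw [Category.assoc, ← Functor.map_comp, hζ]; exact sqA.w))
      sA (pullback.snd π ((yon S).map (PolyTest.bs (str k) Γ(Z.left, ⊤)))) ((yon S).map ζ) := by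
    refine IsPullback.of_right ?_ (hbs.lift_snd _ _ _) hbs
    rw [hbs.lift_fst, ← Functor.map_comp, hζ]
    exact sqA
  refine closedMap_baseChange_immersion
    (isAlgSpace_pullback _ _ hP (IsAlgSpace.yon_obj _) (IsAlgSpace.yon_obj _)) (IsAlgSpace.yon_obj _)
    ((repWith_yon_map_iff _ _).2 (inferInstance : IsImmersion ζ.left)) sqζ ?_
  refine PolyTest.closedMap_of_poly (str k) π ((yon S).map ι ≫ a₀)
    (repWith_comp ((repWith_yon_map_iff _ _).2 (inferInstance : Etale ι.left)) hae)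
    (repWith_comp ((repWith_yon_map_iff _ _).2 (inferInstance : Surjective ι.left)) has)
    (by rw [Category.assoc, ← hc₀, ← Functor.map_comp, hι]) ?_ Γ(Z.left, ⊤) _ _ hbs
  intro n Pn fn sn sqn
  let e₀ : Spec (CommRingCat.of (MvPolynomial (ULift.{u} (Fin n)) R)) ⟶ 𝔸(ULift.{u} (Fin n); V.left) :=
    (AffineSpace.SpecIso _ R).inv ≫ AffineSpace.map _ k.2.fromSpec
  have he₀ : e₀ ≫ (𝔸(ULift.{u} (Fin n); V.left) ↘ V.left) =
      Spec.map (CommRingCat.ofHom (algebraMap R (MvPolynomial (ULift.{u} (Fin n)) R))) ≫ k.2.fromSpec := by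
    simp only [e₀, Category.assoc, AffineSpace.map_over, AffineSpace.SpecIso_inv_over_assoc]
    rfl
  let q : Over.mk ((𝔸(ULift.{u} (Fin n); V.left) ↘ V.left) ≫ V.hom) ⟶ V :=
    Over.homMk (𝔸(ULift.{u} (Fin n); V.left) ↘ V.left)
  let e : PolyTest.ov (str k) (MvPolynomial (ULift.{u} (Fin n)) R) ⟶
      Over.mk ((𝔸(ULift.{u} (Fin n); V.left) ↘ V.left) ≫ V.hom) := Over.homMk e₀ (by
    show e₀ ≫ _ ≫ V.hom = Spec.map _ ≫ k.2.fromSpec ≫ V.hom
    rw [reassoc_of% he₀])
  haveI : IsImmersion e.left := by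
    show IsImmersion ((AffineSpace.SpecIso _ R).inv ≫ AffineSpace.map _ k.2.fromSpec)
    haveI : IsOpenImmersion (AffineSpace.map (ULift.{u} (Fin n)) k.2.fromSpec) :=
      MorphismProperty.of_isPullback (AffineSpace.isPullback_map k.2.fromSpec).flip inferInstance
    infer_instance
  have heq : (yon S).map e ≫ (yon S).map q ≫ p =
      (yon S).map (PolyTest.bs (str k) (MvPolynomial (ULift.{u} (Fin n)) R)) ≫ c k := by
    rw [← Category.assoc, ← Category.assoc, ← Functor.map_comp, ← Functor.map_comp]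
    exact congrArg (fun z => (yon S).map z ≫ p) (Over.OverMorphism.ext he₀)
  have big := sqn.paste_horiz (IsPullback.of_hasPullback f (c k))
  rw [← heq] at big
  have hq := IsPullback.of_hasPullback f ((yon S).map q ≫ p)
  have sqe : IsPullback (hq.lift (fn ≫ pullback.fst f (c k)) (sn ≫ (yon S).map e)
      (big.w.trans (Category.assoc _ _ _).symm)) sn (pullback.snd f ((yon S).map q ≫ p)) ((yon S).map e) := by
    refine IsPullback.of_right ?_ (hq.lift_snd _ _ _) hq
    rw [hq.lift_fst]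
    exact big
  exact closedMap_baseChange_immersion
    (isAlgSpace_pullback _ _ hX (IsAlgSpace.yon_obj _) hY) (IsAlgSpace.yon_obj _)
    ((repWith_yon_map_iff _ _).2 ‹IsImmersion e.left›) sqe (H n _ _ _ hq)

end Groth.Agent.ASp
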