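import Groth.Agent.Lib.AlgSpOnePoint
import Groth.Agent.Lib.H6.EtaleReduced
/-! Closed points of decent algebraic spaces. -/

set_option autoImplicit false
set_option linter.style.haveILetI false
set_option linter.unusedVariables false
set_option backward.isDefEq.respectTransparency.types false

universe u

open CategoryTheory CategoryTheory.Limits AlgebraicGeometry Opposite Topology

noncomputable section

namespace Groth.Agent.ASp

open _root_.AlgSp

variable {S : Scheme.{u}} {F : Sp S}

theorem isReduced_of_etale_field {V : Scheme.{u}} [IsAffine V] {k : Type u} [Field k]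
    (c : V ⟶ Spec (CommRingCat.of k)) [Etale c] : IsReduced V := by
  have h : c.appTop.hom.Etale := (HasRingHomProperty.iff_of_isAffine (P := @Etale)).1 ‹_›
  algebraize [c.appTop.hom]
  haveI : _root_.IsReduced Γ(Spec (CommRingCat.of k), ⊤) :=
    isReduced_of_injective (Scheme.ΓSpecIso (CommRingCat.of k)).commRingCatIsoToRingEquiv.toRingHom
      (Scheme.ΓSpecIso (CommRingCat.of k)).commRingCatIsoToRingEquiv.injective
  haveI : _root_.IsReduced Γ(V, ⊤) := H6.EtaleReduced.isReduced_of_smooth Γ(Spec (CommRingCat.of k), ⊤) Γ(V, ⊤)
  exact isReduced_of_isAffine_isReduced V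

/-- A monomorphism from a finite discrete reduced scheme is a closed immersion when its points have closed image. -/
theorem isClosedImmersion_of_mono {V U : Scheme.{u}} (f : V ⟶ U) [Mono f] [QuasiCompact f] [IsReduced V]
    [DiscreteTopology V] (hc : IsClosed (Set.range f)) (hd : DiscreteTopology (Set.range f)) : IsClosedImmersion f := by
  have hinj : Function.Injective f := f.injective
  haveI : SurjectiveOnStalks f := ⟨fun v => by
    let ι := U.fromSpecResidueField (f v)
    haveI : Subsingleton (Spec (U.residueField (f v))) := inferInstanceAs (Subsingleton (PrimeSpectrum _))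
    haveI : IsIntegral (Spec (U.residueField (f v))) := inferInstance
    haveI : Nonempty ↥(pullback ι f) := by
      obtain ⟨w, -, -⟩ := Scheme.Pullback.exists_preimage_pullback (f := ι) (g := f) (IsLocalRing.closedPoint _) v
        (U.fromSpecResidueField_apply _ _)
      exact ⟨w⟩
    haveI : Flat (pullback.fst ι f) := inferInstance
    haveI : Surjective (pullback.fst ι f) := surjective_of_subsingleton _
    haveI := isIso_of_flat_qc_surj_mono (pullback.fst ι f)
    let s := inv (pullback.fst ι f) ≫ pullback.snd ι f
    have hs : s ≫ f = ι := by simp [s, ← pullback.condition]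
    let x : Spec (U.residueField (f v)) := IsLocalRing.closedPoint _
    have hv : s x = v := hinj (by rw [← Scheme.Hom.comp_apply, hs]; exact U.fromSpecResidueField_apply _ _)
    have h1 := ι.stalkMap_surjective x
    rw [Scheme.Hom.stalkMap_congr_hom _ _ hs.symm, Scheme.Hom.stalkMap_comp] at h1
    have hF : IsField (V.presheaf.stalk (s x)) := isField_stalk_of_closure_mem_irreducibleComponents V _ (by
      rw [(isClosed_discrete _).closure_eq]
      exact ⟨isIrreducible_singleton, fun C hC hle z hz => hC.2.subsingleton hz (hle rfl)⟩)
    letI := hF.toField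
    have h2 : Function.Injective (s.stalkMap x).hom := (s.stalkMap x).hom.injective
    rw [← hv]
    intro a
    obtain ⟨b, hb⟩ := h1 ((s.stalkMap x).hom a)
    simp only [CommRingCat.hom_comp, RingHom.coe_comp, Function.comp_apply] at hb
    exact ⟨_, h2 hb⟩⟩
  refine @IsClosedImmersion.of_isPreimmersion _ _ f ⟨?_⟩ hc
  haveI := hd
  exact IsEmbedding.subtypeVal.comp (Equiv.ofInjective (f : V → U) hinj).toHomeomorphOfDiscrete.isEmbedding

/-- A closed point of a decent space is a closed immersion of a spectrum of a field. -/
theorem closedImmersion_of_closed_pt (hF : IsAlgSpace F) (hd : IsDecent F) {x : Points F}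
    (hx : IsClosed ({x} : Set (Points F))) :
    ∃ p : FieldPt F, Points.mk p = x ∧ RepWith @IsClosedImmersion p.toHom := by
  obtain ⟨P, hP, hm, hq⟩ := hd x
  haveI : Mono P.toHom := hm
  refine ⟨P, hP, ?_⟩
  obtain ⟨κ, U, a, hU, ha, href⟩ := exists_refines_affine hF
  choose V fst snd sq using fun i => exists_sq hq.rep (a i)
  refine repWith_of_refines (P := @IsClosedImmersion) hq.rep href sq fun i => (repWith_yon_map_iff _ _).2 ?_
  obtain ⟨c, hc'⟩ := (yon S).map_surjective (fst i)
  haveI : IsAffine (U i).left := hU i
  haveI : QuasiCompact (snd i).left := hq.2 _ _ (snd i) (sq i)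
  haveI : Etale c.left := (ha i).2 P.toHom ((yon S).map (snd i)) c (by rw [hc']; exact (sq i).flip)
  haveI : CompactSpace (V i).left := QuasiCompact.compactSpace_of_compactSpace (snd i).left
  haveI : Subsingleton P.pt.left := inferInstanceAs (Subsingleton (Spec (CommRingCat.of P.K)))
  haveI : LocallyQuasiFinite c.left := locallyQuasiFinite_of_etale c.left
  haveI : DiscreteTopology (V i).left := by
    have h1 := c.left.isDiscrete_preimage_singleton (IsLocalRing.closedPoint P.K)
    have h2 := h1.mono (show (Set.univ : Set (V i).left) ⊆ _ from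
      fun w _ => Subsingleton.elim (α := ↥P.pt.left) _ _)
    exact isDiscrete_univ_iff.1 h2
  haveI : Finite (V i).left := finite_of_compact_of_discrete
  haveI : IsReduced (V i).left := isReduced_of_etale_field (k := P.K) c.left
  haveI : Mono (snd i) := (yon S).mono_of_mono_map (sq i).mono_snd_of_mono
  haveI : Mono (snd i).left := inferInstanceAs (Mono ((Over.forget S).map (snd i)))
  have hr : Set.range (snd i).left = Points.ofPt (a i) ⁻¹' {x} := by
    ext v
    constructor
    · rintro ⟨w, rfl⟩
      obtain ⟨c', hc''⟩ := (yon S).map_surjective (fst i)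
      show Points.ofPt (a i) ((snd i).left w) = x
      rw [← ofPt_yon_map_comp, ← (sq i).w, ← hc', ofPt_yon_map_comp, Points.ofPt_toHom, hP]
    · intro hv
      obtain ⟨w, -, hw⟩ := exists_pt_of_sq (sq i) (Points.schemeHomeo _ (IsLocalRing.closedPoint P.K)) v (by
        rw [show Points.ofPt (a i) v = x from hv, ← hP, ← Points.ofPt_toHom P (IsLocalRing.closedPoint P.K),
          Points.ofPt_eq_map_ofScheme]; rfl)
      exact ⟨w, hw⟩
  have hcl : IsClosed (Set.range (snd i).left) := hr ▸ hx.preimage (Points.continuous_ofPt (a i))
  refine isClosedImmersion_of_mono (snd i).left hcl ?_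
  haveI : Finite (Set.range (snd i).left) := Set.finite_range _ |>.to_subtype
  haveI : T1Space (Set.range (snd i).left) := ⟨fun t => by
    have ht : IsClosed ({t.1} : Set (U i).left) := by
      rw [← closure_subset_iff_isClosed]
      intro z hz
      have hz' : z ∈ Set.range (snd i).left := hcl.closure_subset_iff.2 (by simp) hz
      have hs : t.1 ⤳ z := specializes_iff_mem_closure.2 hz
      rw [hr] at hz'
      have ht' : t.1 ∈ Set.range (snd i).left := t.2
      have ht'' : Points.ofPt (a i) t.1 = x := (Set.ext_iff.1 hr t.1).1 ht'
      exact (eq_of_specializes_of_decentAt (a i) (ha i) (hd _) (ht''.trans hz'.symm) hs).symm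
    convert ht.preimage continuous_subtype_val using 1
    ext z
    exact Subtype.ext_iff⟩
  infer_instance

end Groth.Agent.ASp
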