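import Groth.Agent.Lib.AlgSpFlatDesc
import Groth.Prelude.Def_AlgSpCov

/-! Locality of `LocP P` on base and source, cancellation lemmas. -/

set_option backward.isDefEq.respectTransparency.types false

universe u v

open CategoryTheory CategoryTheory.Limits AlgebraicGeometry Opposite Topology MorphismProperty

noncomputable section

namespace Groth.Agent.ASp

open _root_.AlgSp

variable {S : Scheme.{u}} {F G H X Y Z : Sp S} {P : MorphismProperty Scheme.{u}}

/-- If `g` is locally of finite type and `f ≫ g` is locally of finite presentation, so is `f`. -/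
theorem locallyOfFinitePresentation_of_comp {A B C : Scheme.{u}} (f : A ⟶ B) (g : B ⟶ C)
    [LocallyOfFiniteType g] [h : LocallyOfFinitePresentation (f ≫ g)] : LocallyOfFinitePresentation f := by
  rw [HasRingHomProperty.iff_exists_appLE (P := @LocallyOfFinitePresentation)
    (RingHom.finitePresentation_stableUnderComposition.stableUnderCompositionWithLocalizationAway
      RingHom.finitePresentation_holdsForLocalizationAway).left]
  intro x
  obtain ⟨_, ⟨W, hW, rfl⟩, hxW, -⟩ := C.isBasis_affineOpens.exists_subset_of_mem_open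
    (Set.mem_univ (g (f x))) isOpen_univ
  obtain ⟨_, ⟨U, hU, rfl⟩, hxU, hUW⟩ := B.isBasis_affineOpens.exists_subset_of_mem_open
    (show f x ∈ g ⁻¹ᵁ W from hxW) (g ⁻¹ᵁ W).2
  obtain ⟨_, ⟨V, hV, rfl⟩, hxV, hVU⟩ := A.isBasis_affineOpens.exists_subset_of_mem_open
    (show x ∈ f ⁻¹ᵁ U from hxU) (f ⁻¹ᵁ U).2
  refine ⟨⟨U, hU⟩, ⟨V, hV⟩, hxV, hVU, ?_⟩
  refine RingHom.FinitePresentation.of_comp_finiteType (g.appLE W U hUW).hom ?_
    (g.finiteType_appLE hW hU hUW)
  have := HasRingHomProperty.appLE @LocallyOfFinitePresentation (f ≫ g) h ⟨W, hW⟩ ⟨V, hV⟩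
    (fun y hy => hUW (hVU hy))
  rw [← CommRingCat.hom_comp, Scheme.Hom.appLE_comp_appLE]
  exact this

theorem lqf_lft_of_comp {A B C : Scheme.{u}} (f : A ⟶ B) (g : B ⟶ C)
    (h : (@LocallyQuasiFinite ⊓ @LocallyOfFiniteType : MorphismProperty Scheme.{u}) (f ≫ g)) :
    (@LocallyQuasiFinite ⊓ @LocallyOfFiniteType : MorphismProperty Scheme.{u}) f :=
  have : LocallyQuasiFinite (f ≫ g) := h.1
  have : LocallyOfFiniteType (f ≫ g) := h.2
  ⟨LocallyQuasiFinite.of_comp f g, locallyOfFiniteType_of_comp f g⟩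

theorem lft_fu_of_comp {A B C : Scheme.{u}} (f : A ⟶ B) (g : B ⟶ C)
    (h : (@LocallyOfFiniteType ⊓ @FormallyUnramified : MorphismProperty Scheme.{u}) (f ≫ g)) :
    (@LocallyOfFiniteType ⊓ @FormallyUnramified : MorphismProperty Scheme.{u}) f :=
  have : LocallyOfFiniteType (f ≫ g) := h.1
  have : FormallyUnramified (f ≫ g) := h.2
  ⟨locallyOfFiniteType_of_comp f g, FormallyUnramified.of_comp f g⟩

theorem isEtaleMor_iff_locP (hX : IsAlgSpace X) (hY : IsAlgSpace Y) {f : X ⟶ Y} :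
    IsEtaleMor f ↔ LocP @Etale f :=
  ⟨locP_etale_of_isEtaleMor, isEtaleMor_of_locP hX hY⟩

theorem isLocalOnBase_locP [EtaleLocal P] [IsZariskiLocalAtSource P] [IsZariskiLocalAtTarget P]
    [P.DescendsAlong (@Surjective ⊓ @Flat ⊓ @QuasiCompact)] :
    IsLocalOnBase (IsFpqcCover (S := S)) (LocP P) :=
  fun _ _ _ _ hY hYi hg _ _ hX _ _ _ hXi sq =>
    ⟨fun h i => locP_baseChange hX hY (hYi i) (sq i) h,
      fun h => locP_of_refines hX hY hYi hXi hg.2 sq h⟩

theorem isLocalOnSource_et_locP [EtaleLocal P] [IsZariskiLocalAtSource P] :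
    IsLocalOnSource (IsEtCover (S := S)) (LocP P) :=
  fun _ _ _ g hX hXi hg _ _ hY =>
    ⟨fun h i => locP_comp (hXi i) hX hY (locP_of_etale (locP_etale_of_isEtaleMor (hg.1 i))) h,
      fun h => locP_of_source hXi hY hg.1 hg.2 h⟩

/-- `P` may be checked on a chart lifting given charts. -/
theorem exists_chart₂ (hX : IsAlgSpace X) (hY : IsAlgSpace Y) (hZ : IsAlgSpace Z) (f : X ⟶ Y) (g : Y ⟶ Z) :
    ∃ (U V W : Over S) (a : (yon S).obj U ⟶ X) (b : (yon S).obj V ⟶ Y) (c : (yon S).obj W ⟶ Z)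
      (α : U ⟶ V) (β : V ⟶ W), RepWith @Etale a ∧ RepWith @Surjective a ∧ RepWith @Etale b ∧
      RepWith @Etale c ∧ a ≫ f = (yon S).map α ≫ b ∧ b ≫ g = (yon S).map β ≫ c ∧
      a ≫ f ≫ g = (yon S).map (α ≫ β) ≫ c := by
  obtain ⟨V, W, b, c, β, hbe, hbs, hce, -, hb⟩ := exists_chart hY hZ g
  obtain ⟨U, a, α, hae, has, ha, -⟩ := exists_chart_lift (f := f) hX hY hbe hbs
  exact ⟨U, V, W, a, b, c, α, β, hae, has, hbe, hce, ha, hb,
    by rw [reassoc_of% ha, hb, Functor.map_comp, Category.assoc]⟩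

theorem exists_chart_noeth (hX : IsAlgSpace X) (hY : IsAlgSpace Y) (f : X ⟶ Y) (h : IsLocNoethSp Y) :
    ∃ (U V : Over S) (a : (yon S).obj U ⟶ X) (b : (yon S).obj V ⟶ Y) (α : U ⟶ V),
      IsLocallyNoetherian V.left ∧ RepWith @Etale a ∧ RepWith @Surjective a ∧ RepWith @Etale b ∧
      a ≫ f = (yon S).map α ≫ b := by
  obtain ⟨V, b, hbe, hbs, hV⟩ := h
  obtain ⟨U, a, α, hae, has, hab, -⟩ := exists_chart_lift (f := f) hX hY hbe hbs
  exact ⟨U, V, a, b, α, hV, hae, has, hbe, hab⟩

theorem immersion_le_lft_fu : (@IsImmersion : MorphismProperty Scheme.{u}) ≤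
    (@LocallyOfFiniteType ⊓ @FormallyUnramified : MorphismProperty Scheme.{u}) := fun _ _ f (_ : IsImmersion f) =>
  ⟨inferInstanceAs (LocallyOfFiniteType f), inferInstanceAs (FormallyUnramified f)⟩

/-- Flatness is local on the source for fpqc coverings. -/
theorem locP_flat_of_fpqc {ι : Type u} {Xi : ι → Sp S} {g : ∀ i, Xi i ⟶ X} {f : X ⟶ Y}
    (hX : IsAlgSpace X) (hXi : ∀ i, IsAlgSpace (Xi i)) (hg : IsFpqcCover Xi g)
    (h : ∀ i, LocP @Flat (g i ≫ f)) : LocP @Flat f := by
  intro U V a b α ha hb hab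
  have hgU : Refines (fun i => pullback a (g i)) (fun i => pullback.fst a (g i)) :=
    Refines.baseChange hg.2 a _ (fun i => pullback.snd a (g i)) fun i => IsPullback.of_hasPullback a (g i)
  have key : ∀ u : ↥U.left, ∃ (W : Over S) (e : W ⟶ U), Flat e.left ∧ Flat (e ≫ α).left ∧
      u ∈ Set.range e.left := by
    intro u
    obtain ⟨i, y, hy⟩ := hgU.exists_pt (Points.schemeHomeo U u)
    have hP := isAlgSpace_pullback a (g i) (IsAlgSpace.yon_obj U) (hXi i) hX
    obtain ⟨W, c, hce, hcs⟩ := hP.atlas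
    obtain ⟨w, rfl⟩ := surjective_ofPt_of_repWith hcs y
    obtain ⟨e, he⟩ := (yon S).map_surjective (c ≫ pullback.fst a (g i))
    have sq := IsPullback.of_hasPullback a (g i)
    refine ⟨W, e, ?_, ?_, w, ?_⟩
    · exact locP_baseChange (hXi i) hX (IsAlgSpace.yon_obj U) sq.flip (hg.1 i) c (𝟙 _) e hce
        (repWith_id _ U) (by rw [he, Category.comp_id])
    · refine h i (c ≫ pullback.snd a (g i)) b _ (repWith_comp hce (repWith_baseChange sq ha)) hb ?_
      rw [Functor.map_comp, he, Category.assoc, Category.assoc, Category.assoc, ← hab,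
        pullback.condition_assoc]
    · apply (Points.schemeHomeo U).injective
      rw [← hy, ← Points.map_yon_map_apply, he, Points.map_comp]
      congr 1
  choose W e he hP hu using key
  let d : (∐ fun u => (W u).left) ⟶ U.left := Sigma.desc fun u => (e u).left
  have hd : ∀ u, Sigma.ι (fun u => (W u).left) u ≫ d = (e u).left := Sigma.ι_desc _
  have : Flat d := (IsZariskiLocalAtSource.iff_of_openCover (P := @Flat) (sigmaOpenCover _)).2 fun u => by
    change Flat (Sigma.ι (fun u => (W u).left) u ≫ d)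
    rw [hd]
    exact he u
  have : Surjective d := ⟨fun u => by
    obtain ⟨w, hw⟩ := hu u
    exact ⟨Sigma.ι (fun u => (W u).left) u w, by rw [← Scheme.Hom.comp_apply, hd, hw]⟩⟩
  have : Flat (d ≫ α.left) :=
    (IsZariskiLocalAtSource.iff_of_openCover (P := @Flat) (sigmaOpenCover _)).2 fun u => by
      change Flat (Sigma.ι (fun u => (W u).left) u ≫ d ≫ α.left)
      rw [← Category.assoc, hd, ← Over.comp_left]
      exact hP u
  exact H6.flat_cancel d α.left

end Groth.Agent.ASp
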