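import Groth.Agent.Lib.AlgSpImmersion
import Groth.Prelude.Def_AlgSpDec
import Mathlib.AlgebraicGeometry.Morphisms.LocalFlatDescent

/-! Decent algebraic spaces: calculus of monomorphic quasi-compact field points. -/

set_option autoImplicit false
set_option backward.isDefEq.respectTransparency.types false

universe u v

open CategoryTheory CategoryTheory.Limits AlgebraicGeometry Opposite Topology

noncomputable section

namespace Groth.Agent.ASp

open _root_.AlgSp

variable {S : Scheme.{u}} {F G H : Sp S}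

/-- A point is decent if it is given by a monomorphic quasi-compact field point. -/
def DecentAt (x : Points F) : Prop :=
  ∃ p : FieldPt F, Points.mk p = x ∧ Mono p.toHom ∧ RepWith @QuasiCompact p.toHom

theorem quasiCompact_of_subsingleton {A B : Scheme.{u}} [Subsingleton A] (f : A ⟶ B) : QuasiCompact f :=
  ⟨fun _ _ _ => (Set.Subsingleton.finite (Set.subsingleton_of_subsingleton)).isCompact⟩

/-- A field point with the same class as a monomorphic representable one factors through it. -/
theorem exists_factor_pt (p q : FieldPt F) (hp : Representable p.toHom) [Mono p.toHom]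
    (h : Points.mk p = Points.mk q) : ∃ c : q.pt ⟶ p.pt, (yon S).map c ≫ p.toHom = q.toHom := by
  obtain ⟨V, fst, snd, sq⟩ := exists_sq hp q.toHom
  have : Mono snd := (yon S).mono_of_mono_map sq.mono_snd_of_mono
  obtain ⟨Ω, _, w, a, b, hab⟩ := Points.mk_eq_mk_iff.1 h
  obtain ⟨σ, hσ⟩ := (yon S).map_surjective (sq.lift ((yon S).map a) ((yon S).map b) (by
    apply sec.injective
    rw [← sec_map, ← sec_map]
    show F.obj.map a.op (sec p.toHom) = F.obj.map b.op (sec q.toHom)
    rw [show sec p.toHom = p.val from FieldPt.uliftYonedaEquiv_toHom p,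
      show sec q.toHom = q.val from FieldPt.uliftYonedaEquiv_toHom q, hab]))
  have : Nonempty V.left := ⟨σ.left (IsLocalRing.closedPoint Ω)⟩
  have : Subsingleton q.pt.left := inferInstanceAs (Subsingleton (Spec (CommRingCat.of q.K)))
  have : IsIntegral q.pt.left := inferInstanceAs (IsIntegral (Spec (CommRingCat.of q.K)))
  have : IsAffine q.pt.left := inferInstanceAs (IsAffine (Spec (CommRingCat.of q.K)))
  have : Surjective snd.left := ⟨fun _ => ⟨Classical.arbitrary _, Subsingleton.elim _ _⟩⟩
  have : Flat snd.left := inferInstance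
  have : Subsingleton V.left := snd.left.injective.subsingleton
  have : QuasiCompact snd.left := (quasiCompact_iff_compactSpace _).2 inferInstance
  have : IsIso snd.left := MorphismProperty.of_pullback_snd_of_descendsAlong
    (P := MorphismProperty.isomorphisms Scheme.{u}) (Q := @Surjective ⊓ @Flat ⊓ @QuasiCompact)
    (g := snd.left) ⟨⟨inferInstance, inferInstance⟩, inferInstance⟩
    (show IsIso (pullback.snd snd.left snd.left) from inferInstance)
  have : IsIso ((Over.forget S).map snd) := this
  have : IsIso snd := isIso_of_reflects_iso snd (Over.forget S)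
  obtain ⟨c, hc⟩ := (yon S).map_surjective (inv ((yon S).map snd) ≫ fst)
  refine ⟨c, ?_⟩
  show (yon S).map c ≫ p.toHom = q.toHom
  rw [hc, Category.assoc, IsIso.inv_comp_eq, sq.w]

/-- Two monomorphic field points with the same class differ by an isomorphism. -/
theorem exists_iso_pt (p q : FieldPt F) (hp : Representable p.toHom) (hq : Representable q.toHom)
    [Mono p.toHom] [Mono q.toHom] (h : Points.mk p = Points.mk q) :
    ∃ e : (yon S).obj q.pt ≅ (yon S).obj p.pt, e.hom ≫ p.toHom = q.toHom := by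
  obtain ⟨c, hc⟩ := exists_factor_pt p q hp h
  obtain ⟨d, hd⟩ := exists_factor_pt q p hq h.symm
  exact ⟨⟨(yon S).map c, (yon S).map d, (cancel_mono q.toHom).1 (by simp [hd, hc]),
    (cancel_mono p.toHom).1 (by simp [hd, hc])⟩, hc⟩

/-- Points of schemes are decent. -/
theorem decentAt_yon {T : Over S} (x : Points ((yon S).obj T)) : DecentAt x := by
  obtain ⟨t, rfl⟩ := (Points.schemeHomeo T).surjective x
  refine ⟨FieldPt.ofPt (𝟙 _) t, rfl, ?_, ?_⟩
  · rw [FieldPt.toHom_ofPt, Category.comp_id]
    have : Mono (T.left.fromSpecResidueField t) := inferInstance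
    have : Mono (Over.homMk (U := Over.mk (T.left.fromSpecResidueField t ≫ T.hom))
        (V := T) (T.left.fromSpecResidueField t) rfl) := (Over.forget S).mono_of_mono_map this
    refine @Functor.map_mono _ _ _ _ (yon S) _ _ _ _ ((Over.forget S).mono_of_mono_map ?_)
    exact (inferInstance : Mono (T.left.fromSpecResidueField t))
  · rw [FieldPt.toHom_ofPt, Category.comp_id]
    refine (repWith_yon_map_iff _ _).2 ?_
    exact quasiCompact_of_subsingleton (A := Spec (T.left.residueField t)) _

/-- Decency passes along quasi-compact monomorphisms. -/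
theorem decentAt_map {m : F ⟶ G} [Mono m] (hm : RepWith @QuasiCompact m) {x : Points F} (h : DecentAt x) :
    DecentAt (Points.map m x) := by
  obtain ⟨p, rfl, hmp, hp⟩ := h
  have : Mono p.toHom := hmp
  exact ⟨p.map m, rfl, by rw [FieldPt.toHom_map]; exact @mono_comp _ _ _ _ _ p.toHom hmp m inferInstance,
    by rw [FieldPt.toHom_map]; exact repWith_comp hp hm⟩

/-- Decency is inherited along representable morphisms. -/
theorem decentAt_of_representable {f : F ⟶ G} (hf : Representable f) {x : Points F}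
    (h : DecentAt (Points.map f x)) : DecentAt x := by
  obtain ⟨p, hp, hm, hq⟩ := h
  have : Mono p.toHom := hm
  obtain ⟨V, fst, snd, sq⟩ := exists_sq hf p.toHom
  obtain ⟨v, hv, -⟩ := exists_pt_of_sq sq x (IsLocalRing.closedPoint p.K) (by rw [← hp]; exact (Points.ofPt_toHom p _).symm)
  have : Mono fst := sq.mono_fst_of_mono
  rw [← hv, Points.ofPt_eq_map_ofScheme]
  exact decentAt_map (repWith_baseChange sq.flip hq) (decentAt_yon _)

/-- Decency of a point follows from decency of the fibre. -/
theorem decentAt_of_fibre (f : F ⟶ G) {x : Points F} (h : DecentAt (Points.map f x))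
    (hfib : ∀ (p : FieldPt G) (P : Sp S) (fst : P ⟶ F) (snd : P ⟶ (yon S).obj p.pt),
      IsPullback fst snd f p.toHom → ∀ z : Points P, DecentAt z) : DecentAt x := by
  obtain ⟨p, hp, hm, hq⟩ := h
  have sq := IsPullback.of_hasPullback f p.toHom
  obtain ⟨z, hz, -⟩ := exists_of_isPullback sq x (Points.schemeHomeo _ (IsLocalRing.closedPoint p.K))
    (by rw [← hp, ← Points.ofPt_toHom p (IsLocalRing.closedPoint p.K), Points.ofPt_eq_map_ofScheme]; rfl)
  have : Mono (pullback.fst f p.toHom) := sq.mono_fst_of_mono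
  rw [← hz]
  exact decentAt_map (repWith_baseChange sq.flip hq) (hfib p _ _ _ sq z)

/-- A point of a fibre product is decent when its two images are. -/
theorem decentAt_of_isPullback {P X Z Y : Sp S} {fst : P ⟶ X} {snd : P ⟶ Z} {f : X ⟶ Y} {g : Z ⟶ Y}
    (sq : IsPullback fst snd f g) (hY : ∀ {T : Over S} (b : (yon S).obj T ⟶ Y), Representable b)
    {x : Points P} (h₁ : DecentAt (Points.map fst x)) (h₂ : DecentAt (Points.map snd x)) : DecentAt x := by
  obtain ⟨p, hp, hm, hq⟩ := h₁
  have : Mono p.toHom := hm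
  have sq₁ := IsPullback.of_hasPullback fst p.toHom
  obtain ⟨z, hz, -⟩ := exists_of_isPullback sq₁ x (Points.schemeHomeo _ (IsLocalRing.closedPoint p.K))
    (by rw [← hp, ← Points.ofPt_toHom p (IsLocalRing.closedPoint p.K), Points.ofPt_eq_map_ofScheme]; rfl)
  have : Mono (pullback.fst fst p.toHom) := sq₁.mono_fst_of_mono
  have big : IsPullback (pullback.snd fst p.toHom) (pullback.fst fst p.toHom ≫ snd) (p.toHom ≫ f) g :=
    sq₁.flip.paste_vert sq
  have hrep : Representable (pullback.fst fst p.toHom ≫ snd) :=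
    MorphismProperty.of_isPullback big (hY _)
  have hd : DecentAt z := decentAt_of_representable hrep (by rw [Points.map_comp, hz]; exact h₂)
  rw [← hz]
  exact decentAt_map (repWith_baseChange sq₁.flip hq) hd

/-- Decency may be checked on a family of open subspaces. -/
theorem decentAt_of_opens {ι : Type v} {Xi : ι → Sp S} (j : ∀ i, Xi i ⟶ F)
    (hj : ∀ i, RepWith @IsOpenImmersion (j i)) (hcov : ∀ y : Points F, ∃ i, y ∈ Set.range (Points.map (j i)))
    {x : Points F} (h : ∀ i (y : Points (Xi i)), Points.map (j i) y = x → DecentAt y) : DecentAt x := by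
  obtain ⟨i₀, y₀, hy₀⟩ := hcov x
  obtain ⟨p, hp, hm, hq⟩ := h i₀ y₀ hy₀
  have : Mono p.toHom := hm
  have hmono : ∀ i, Mono (j i) := fun i =>
    mono_of_repWith_immersion (repWith_mono openImmersion_le_immersion (hj i))
  have hxP : Points.mk (p.map (j i₀)) = x := by rw [← hy₀, ← hp]; rfl
  have hP : Mono (p.map (j i₀)).toHom := by rw [FieldPt.toHom_map]; exact @mono_comp _ _ _ _ _ p.toHom hm (j i₀) (hmono i₀)
  have hrepP : Representable (p.map (j i₀)).toHom := by
    rw [FieldPt.toHom_map]; exact MorphismProperty.comp_mem _ _ _ hq.rep (hj i₀).rep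
  refine ⟨p.map (j i₀), hxP, hP, repWith_of_forall hrepP fun U V g fst snd sq => ?_⟩
  choose Ui gi ui sqi hui using fun i => exists_sq_prop (hj i) g
  let W : Set U.left := Set.univ
  refine IsZariskiLocalAtTarget.of_iSup_eq_top (P := @QuasiCompact)
    (fun i => (⟨Set.range (ui i).left, (hui i).base_open.isOpen_range⟩ : U.left.Opens)) ?_ fun i => ?_
  · rw [eq_top_iff]
    intro u _
    obtain ⟨i, y, hy⟩ := hcov (Points.ofPt g u)
    obtain ⟨v, -, hv⟩ := exists_pt_of_sq (sqi i) y u hy
    exact TopologicalSpace.Opens.mem_iSup.2 ⟨i, v, hv⟩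
  · have : IsOpenImmersion (ui i).left := hui i
    change QuasiCompact (snd.left ∣_ (ui i).left.opensRange)
    rw [(MorphismProperty.arrow_mk_iso_iff @QuasiCompact (morphismRestrictOpensRange snd.left (ui i).left))]
    have sqV := (IsPullback.of_hasPullback snd (ui i)).map (Over.forget S)
    rw [← (IsPullback.of_hasPullback snd.left (ui i).left).isoIsPullback_hom_snd _ _ sqV]
    refine (MorphismProperty.cancel_left_of_respectsIso @QuasiCompact _ _).2 ?_
    change QuasiCompact (pullback.snd snd (ui i)).left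
    by_cases hx : x ∈ Set.range (Points.map (j i))
    · -- factor the point through `Xi i`
      obtain ⟨y, hy⟩ := hx
      obtain ⟨q, hqy, hmq, hqq⟩ := h i y hy
      have : Mono q.toHom := hmq
      have hQrep : Representable (q.map (j i)).toHom := by
        rw [FieldPt.toHom_map]; exact MorphismProperty.comp_mem _ _ _ hqq.rep (hj i).rep
      have : Mono (q.map (j i)).toHom := by rw [FieldPt.toHom_map]; exact @mono_comp _ _ _ _ _ q.toHom hmq (j i) (hmono i)
      obtain ⟨e, he⟩ := exists_iso_pt (q.map (j i)) (p.map (j i₀)) hQrep hrepP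
        (by rw [hxP, ← hy, ← hqy]; rfl)
      have hfac : (e.hom ≫ q.toHom) ≫ j i = (p.map (j i₀)).toHom := by
        rw [← he, FieldPt.toHom_map, Category.assoc]; rfl
      have hqc : RepWith @QuasiCompact (e.hom ≫ q.toHom) :=
        MorphismProperty.RespectsIso.precomp _ e.hom _ hqq
      have big := ((yon S).map_isPullback (IsPullback.of_hasPullback snd (ui i))).paste_horiz sq
      rw [← (sqi i).w] at big
      have hw : ((yon S).map (pullback.fst snd (ui i)) ≫ fst) ≫ (e.hom ≫ q.toHom) =
          (yon S).map (pullback.snd snd (ui i)) ≫ gi i := by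
        rw [← cancel_mono (j i), Category.assoc, hfac, big.w, Category.assoc]
      refine hqc.2 (gi i) ((yon S).map (pullback.fst snd (ui i)) ≫ fst) (pullback.snd snd (ui i)) ?_
      exact IsPullback.of_bot (h₂₁ := gi i) (v₂₁ := 𝟙 _) (v₂₂ := j i) (h₃₁ := gi i ≫ j i)
        (by simpa [hfac] using big) hw (IsPullback.of_vert_isIso_mono ⟨by simp⟩)
    · have : IsEmpty ↥(pullback snd (ui i)).left := ⟨fun v => hx ?_⟩
      · exact quasiCompact_of_subsingleton _
      · refine ⟨Points.map (gi i) (Points.schemeHomeo _ ((pullback.snd snd (ui i)).left v)), ?_⟩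
        obtain ⟨k, hk⟩ := (yon S).map_surjective fst
        rw [← Points.map_comp, (sqi i).w, Points.map_comp, Points.map_yon_map_apply]
        have hc : (ui i).left ((pullback.snd snd (ui i)).left v) = snd.left ((pullback.fst snd (ui i)).left v) :=
          congrArg (fun f => f.left v) (pullback.condition (f := snd) (g := ui i)).symm
        rw [hc, ← Points.map_yon_map_apply, ← Points.map_comp, ← sq.w, ← hk, Points.map_comp,
          Points.map_yon_map_apply, ← hxP, ← Points.ofPt_toHom (p.map (j i₀))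
            (k.left ((pullback.fst snd (ui i)).left v)), Points.ofPt_eq_map_ofScheme]
        rfl

end Groth.Agent.ASp

namespace Groth.Agent.ASp

open _root_.AlgSp

variable {S : Scheme.{u}} {F : Sp S}

theorem eq_of_specializes_of_lqf {A B : Scheme.{u}} (f : A ⟶ B) [LocallyQuasiFinite f] {a a' : A}
    (h : a' ⤳ a) (he : f a' = f a) : a' = a := by
  have := isDiscrete_iff_discreteTopology.1 (f.isDiscrete_preimage_singleton (f a))
  have hs : (⟨a', he⟩ : f ⁻¹' {f a}) ⤳ ⟨a, rfl⟩ := (subtype_specializes_iff _ _).2 h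
  exact congrArg Subtype.val hs.eq

/-- A decent point has finite fibres in affine etale charts. -/
theorem finite_fibre_of_decentAt {U : Over S} [IsAffine U.left] {a : (yon S).obj U ⟶ F}
    (ha : RepWith @Etale a) {x : Points F} (h : DecentAt x) : (Points.ofPt a ⁻¹' {x}).Finite := by
  obtain ⟨p, rfl, hm, hq⟩ := h
  obtain ⟨W, fst, snd, sq⟩ := exists_sq hq.rep a
  have hsq : QuasiCompact snd.left := hq.2 a fst snd sq
  obtain ⟨c, hc⟩ := (yon S).map_surjective fst
  have hce : Etale c.left := ha.2 p.toHom ((yon S).map snd) c (hc ▸ sq.flip)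
  have : CompactSpace W.left := QuasiCompact.compactSpace_of_compactSpace snd.left
  have : Subsingleton p.pt.left := inferInstanceAs (Subsingleton (Spec (CommRingCat.of p.K)))
  have hfin : Finite W.left := by
    have hd : DiscreteTopology W.left := by
      have := locallyQuasiFinite_of_etale c.left
      have h1 := c.left.isDiscrete_preimage_singleton (IsLocalRing.closedPoint p.K)
      have h2 := h1.mono (show (Set.univ : Set W.left) ⊆ _ from
        fun w _ => Subsingleton.elim (α := ↥p.pt.left) _ _)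
      exact isDiscrete_univ_iff.1 h2
    exact finite_of_compact_of_discrete
  refine (Set.finite_range snd.left).subset fun u hu => ?_
  obtain ⟨v, -, hv⟩ := exists_pt_of_sq sq (Points.schemeHomeo _ (IsLocalRing.closedPoint p.K)) u (by
    rw [hu, ← Points.ofPt_toHom p (IsLocalRing.closedPoint p.K), Points.ofPt_eq_map_ofScheme]; rfl)
  exact ⟨v, hv⟩

/-- No specializations inside the fibre of an etale chart over a decent point. -/
theorem eq_of_specializes_of_decentAt {U : Over S} (a : (yon S).obj U ⟶ F) (ha : RepWith @Etale a)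
    {u u' : ↥U.left} (hd : DecentAt (Points.ofPt a u)) (he : Points.ofPt a u' = Points.ofPt a u)
    (hs : u' ⤳ u) : u' = u := by
  by_contra hne
  obtain ⟨V, hV, huV, -⟩ := exists_isAffineOpen_mem_and_subset (X := U.left) (x := u) (U := ⊤) trivial
  have hu'V : u' ∈ V := hs.mem_open V.2 huV
  let U₀ : Over S := Over.mk (V.ι ≫ U.hom)
  let ι₀ : U₀ ⟶ U := Over.homMk V.ι
  let a₀ := (yon S).map ι₀ ≫ a
  have ha₀ : RepWith @Etale a₀ := repWith_yon_comp ι₀ (inferInstanceAs (Etale V.ι)) ha
  have : IsAffine U₀.left := hV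
  have hx : ∀ v : ↥U₀.left, Points.ofPt a₀ v = Points.ofPt a (V.ι v) := fun v => ofPt_yon_map_comp ι₀ a v
  have hfin := finite_fibre_of_decentAt ha₀ hd
  obtain ⟨R, t', s, sqR, hse⟩ := exists_sq_prop ha₀ a₀
  obtain ⟨t, rfl⟩ := (yon S).map_surjective t'
  have hte : Etale t.left := ha₀.2 a₀ ((yon S).map s) t sqR.flip
  have : Etale s.left := hse
  have : LocallyQuasiFinite t.left := locallyQuasiFinite_of_etale t.left
  let w₀ : ↥U₀.left := (⟨u, huV⟩ : V.toScheme)
  let w₁ : ↥U₀.left := (⟨u', hu'V⟩ : V.toScheme)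
  let B : Set ↥U₀.left := Points.ofPt a₀ ⁻¹' {Points.ofPt a u}
  have hw₀ : w₀ ∈ B := hx w₀
  have hw₁ : w₁ ∈ B := (hx w₁).trans he
  have hws : w₁ ⤳ w₀ := (subtype_specializes_iff _ _).2 hs
  have hwne : w₁ ≠ w₀ := fun h => hne (congrArg (V.ι : _ → _) h)
  have key : ∀ v ∈ B, ∃ v' ∈ B, v' ⤳ v ∧ v' ≠ v := by
    intro v hv
    obtain ⟨r, hrt, hrs⟩ := exists_pt_of_sq sqR (Points.schemeHomeo _ v) w₀
      (by
        have h1 : Points.ofPt a₀ v = Points.ofPt a₀ w₀ := hv.trans hw₀.symm
        rw [Points.ofPt_eq_map_ofScheme] at h1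
        exact h1)
    have hrt' : t.left r = v := (Points.schemeHomeo U₀).injective (by
      rw [← hrt, ← Points.map_yon_map_apply, Points.ofPt_eq_map_ofScheme]; rfl)
    obtain ⟨r', hr', hr's⟩ := (Flat.generalizingMap (f := s.left)) (show w₁ ⤳ s.left r by rw [hrs]; exact hws)
    refine ⟨t.left r', ?_, ?_, fun hh => hwne ?_⟩
    · have h1 : Points.ofPt a₀ (t.left r') = Points.ofPt a₀ (s.left r') := by
        rw [← ofPt_yon_map_comp, ← ofPt_yon_map_comp, sqR.w]
      exact h1.trans (by rw [hr's]; exact hw₁)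
    · exact hrt' ▸ hr'.map t.left.continuous
    · rw [← hr's, ← hrs, eq_of_specializes_of_lqf t.left hr' (hh.trans hrt'.symm)]
  -- a finite partial order has minimal elements
  obtain ⟨v, hv, hmin⟩ := hfin.toFinset.exists_min_image
    (fun v => {w ∈ B | w ⤳ v}.ncard) ⟨w₀, hfin.mem_toFinset.2 hw₀⟩
  rw [Set.Finite.mem_toFinset] at hv
  obtain ⟨v', hv', hsp, hne'⟩ := key v hv
  have hlt : {w ∈ B | w ⤳ v'}.ncard < {w ∈ B | w ⤳ v}.ncard :=
    Set.ncard_lt_ncard ⟨fun w hw => ⟨hw.1, hw.2.trans hsp⟩,
      fun hsub => hne' ((hsp.antisymm (hsub (show v ∈ {w ∈ B | w ⤳ v} from ⟨hv, specializes_rfl⟩)).2).eq)⟩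
      (hfin.subset fun w hw => hw.1)
  exact absurd (hmin v' (hfin.mem_toFinset.2 hv')) (not_le.2 hlt)

/-- The points of a decent algebraic space form a T0 space. -/
theorem t0Space_points (hF : IsAlgSpace F) (hd : ∀ x : Points F, DecentAt x) : T0Space (Points F) := by
  refine ⟨fun x y hxy => ?_⟩
  obtain ⟨κ, U, a, hU, ha, href⟩ := exists_refines_affine hF
  obtain ⟨k, z, hz⟩ := href.exists_pt y
  obtain ⟨u, rfl⟩ := (Points.schemeHomeo (U k)).surjective z
  have hu : Points.ofPt (a k) u = y := by rw [← hz, Points.ofPt_eq_map_ofScheme]; rfl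
  have : IsAffine (U k).left := hU k
  have hopen := isOpenMap_ofPt_of_etale (ha k)
  -- a generization of `u` over any generization of `y`
  have lift : ∀ (x' : Points F) (u₀ : ↥(U k).left), x' ⤳ Points.ofPt (a k) u₀ →
      ∃ u₁, Points.ofPt (a k) u₁ = x' ∧ u₁ ⤳ u₀ := by
    intro x' u₀ hx'
    by_contra hno
    push Not at hno
    have hfin := finite_fibre_of_decentAt (ha k) (hd x')
    have h1 : ∀ w ∈ Points.ofPt (a k) ⁻¹' {x'}, ∃ O : Set ↥(U k).left, IsOpen O ∧ u₀ ∈ O ∧ w ∉ O := fun w hw => by
      obtain ⟨O, hO, hu, hwO⟩ := not_specializes_iff_exists_open.1 (hno w hw)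
      exact ⟨O, hO, hu, hwO⟩
    choose O hO huO hwO using h1
    let V := ⋂ w ∈ hfin.toFinset.attach, O w.1 (hfin.mem_toFinset.1 w.2)
    have hV : IsOpen V := isOpen_biInter_finset fun w _ => hO _ _
    obtain ⟨w, hwV, hw⟩ := hx'.mem_open (hopen V hV) ⟨u₀, Set.mem_iInter₂.2 fun w _ => huO _ _, rfl⟩
    exact hwO w hw (Set.mem_iInter₂.1 hwV ⟨w, hfin.mem_toFinset.2 hw⟩ (Finset.mem_attach _ _))
  obtain ⟨u', hu', hs'⟩ := lift x u (hu ▸ hxy.specializes)
  obtain ⟨u'', hu'', hs''⟩ := lift y u' (hu' ▸ hxy.specializes')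
  have h1 : u'' = u := eq_of_specializes_of_decentAt (a k) (ha k) (hd _) (hu''.trans hu.symm) (hs''.trans hs')
  have h2 : u' = u := (hs'.antisymm (h1 ▸ hs'')).eq
  rw [← hu', h2, hu]

end Groth.Agent.ASp
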