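import Groth.Agent.Lib.AlgSpUnivClosedQC
import Groth.Agent.Lib.AlgSpDecent

/-! The existence part of the valuative criterion from universal closedness and decency. -/

set_option autoImplicit false
set_option backward.isDefEq.respectTransparency.types false

universe u v

open CategoryTheory CategoryTheory.Limits AlgebraicGeometry Opposite Topology IsLocalRing

noncomputable section

namespace Groth.Agent.ASp

open _root_.AlgSp

variable {S : Scheme.{u}} {X Y F : Sp S}

/-- Generizations lift to etale charts with finite fibres. -/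
theorem exists_generization {U : Over S} {a : (yon S).obj U ⟶ F} (ha : RepWith @Etale a) {x : Points F}
    (hfin : (Points.ofPt a ⁻¹' {x}).Finite) (u : ↥U.left) (h : x ⤳ Points.ofPt a u) :
    ∃ u', Points.ofPt a u' = x ∧ u' ⤳ u := by
  by_contra hno
  push Not at hno
  have h1 : ∀ w ∈ Points.ofPt a ⁻¹' {x}, ∃ O : Set ↥U.left, IsOpen O ∧ u ∈ O ∧ w ∉ O := fun w hw => by
    obtain ⟨O, hO, hu, hwO⟩ := not_specializes_iff_exists_open.1 (hno w hw)
    exact ⟨O, hO, hu, hwO⟩
  choose O hO huO hwO using h1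
  let V := ⋂ w ∈ hfin.toFinset.attach, O w.1 (hfin.mem_toFinset.1 w.2)
  have hV : IsOpen V := isOpen_biInter_finset fun w _ => hO _ _
  obtain ⟨w, hwV, hw⟩ := h.mem_open (isOpenMap_ofPt_of_etale ha V hV)
    ⟨u, Set.mem_iInter₂.2 fun w _ => huO _ _, rfl⟩
  exact hwO w hw (Set.mem_iInter₂.1 hwV ⟨w, hfin.mem_toFinset.2 hw⟩ (Finset.mem_attach _ _))

/-- Universally closed decent morphisms satisfy the existence part of the valuative criterion. -/
theorem existVC_of_univClosed_decentMor (hX : IsAlgSpace X) (hY : IsAlgSpace Y) {f : X ⟶ Y}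
    (hd : IsDecentMor f) (hc : IsUnivClosedMor f) : ExistVC f := by
  refine existVC_intro fun q => ?_
  let sq := IsPullback.of_hasPullback f q.bot
  let π := pullback.snd f q.bot
  have hP : IsAlgSpace (pullback f q.bot) := isAlgSpace_pullback f q.bot hX (IsAlgSpace.yon_obj _) hY
  have hPd : IsDecent (pullback f q.bot) := hd q.bot _ _ sq
  let k0 : (yon S).obj q.ptK ⟶ pullback f q.bot := pullback.lift q.top ((yon S).map q.j) q.comm
  have hk0π : k0 ≫ π = (yon S).map q.j := pullback.lift_snd _ _ _
  have hk0f : k0 ≫ pullback.fst f q.bot = q.top := pullback.lift_fst _ _ _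
  let ptk : ↥q.ptK.left := closedPoint q.K
  let ξ := Points.ofPt k0 ptk
  -- a specialization over the closed point
  have himg : Points.map π ξ = Points.schemeHomeo q.ptA (q.j.left ptk) := by
    rw [Points.map_ofPt, hk0π, Points.ofPt_eq_map_ofScheme]
    exact Points.map_yon_map_apply _ _
  have hcl : IsClosed (Points.map π '' closure {ξ}) := hc (IsAlgSpace.yon_obj _) q.bot _ _ sq _ isClosed_closure
  have hspA : q.j.left ptk ⤳ (closedPoint q.A : ↥q.ptA.left) :=
    IsLocalRing.specializes_closedPoint (q.j.left ptk : PrimeSpectrum q.A)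
  obtain ⟨x, hxξ, hx⟩ := (hspA.map (Points.schemeHomeo q.ptA).continuous).mem_closed hcl
    ⟨ξ, subset_closure rfl, himg⟩
  -- lift to an affine etale chart
  obtain ⟨κ, U, a, hU, hae, href⟩ := exists_refines_affine hP
  obtain ⟨i, y, hy⟩ := href.exists_pt x
  obtain ⟨v, rfl⟩ := (Points.schemeHomeo (U i)).surjective y
  have hv : Points.ofPt (a i) v = x := by rw [Points.ofPt_eq_map_ofScheme]; exact hy
  have := hU i
  obtain ⟨v', hv', hsp⟩ := exists_generization (hae i) (finite_fibre_of_decentAt (hae i) (hPd ξ)) v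
    (by rw [hv]; exact specializes_iff_mem_closure.2 hxξ)
  -- a common field extension
  obtain ⟨Ω, _, w, α, β, hαβ⟩ := rel_iff_hom.1 (Points.mk_eq_mk_iff.1
    (show Points.mk (FieldPt.ofPt (a i) v') = Points.mk (FieldPt.ofPt k0 ptk) from hv'))
  have hαβ' : (yon S).map α ≫ (FieldPt.ofPt (a i) v').toHom = (yon S).map β ≫ (FieldPt.ofPt k0 ptk).toHom := hαβ
  rw [FieldPt.toHom_ofPt, FieldPt.toHom_ofPt, ← Functor.map_comp_assoc, ← Functor.map_comp_assoc] at hαβ'
  let ιv : Over.mk ((U i).left.fromSpecResidueField v' ≫ (U i).hom) ⟶ U i :=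
    Over.homMk ((U i).left.fromSpecResidueField v') rfl
  let ιk : Over.mk (q.ptK.left.fromSpecResidueField ptk ≫ q.ptK.hom) ⟶ q.ptK :=
    Over.homMk (q.ptK.left.fromSpecResidueField ptk) rfl
  let n : Over.mk w ⟶ U i := α ≫ ιv
  let m : Over.mk w ⟶ q.ptK := β ≫ ιk
  have hnm : (yon S).map n ≫ a i = (yon S).map m ≫ k0 := hαβ'
  obtain ⟨c, hc'⟩ := (yon S).map_surjective (a i ≫ π)
  have hnc : n ≫ c = m ≫ q.j := (yon S).map_injective (by
    rw [(yon S).map_comp n c, (yon S).map_comp m q.j, hc', ← Category.assoc, hnm, Category.assoc, hk0π])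
  have hcv : c.left v = (closedPoint q.A : ↥q.ptA.left) := (Points.schemeHomeo q.ptA).injective (by
    rw [← hx, ← hv, Points.map_ofPt, ← hc', Points.ofPt_eq_map_ofScheme]
    exact (Points.map_yon_map_apply c v).symm)
  -- the valuation ring
  obtain ⟨αr, hαr⟩ := Spec.map_surjective (R := (U i).left.residueField v') (S := CommRingCat.of Ω) α.left
  let θ : (U i).left.presheaf.stalk v ⟶ CommRingCat.of Ω :=
    (U i).left.presheaf.stalkSpecializes hsp ≫ (U i).left.residue v' ≫ αr
  obtain ⟨R, hR, hRloc⟩ := exists_factor_valuationRing θ.hom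
  let ψR : (U i).left.presheaf.stalk v ⟶ CommRingCat.of R := CommRingCat.ofHom (θ.hom.codRestrict _ hR)
  have hnleft : n.left = Spec.map θ ≫ (U i).left.fromSpecStalk v := by
    simp only [n, ιv, Over.comp_left, Over.homMk_left, θ, Spec.map_comp, Category.assoc,
      Scheme.SpecMap_stalkSpecializes_fromSpecStalk, ← hαr, Scheme.fromSpecResidueField]
    rfl
  let lU : specOver (Spec.map ψR ≫ (U i).left.fromSpecStalk v ≫ (U i).hom) ⟶ U i :=
    Over.homMk (Spec.map ψR ≫ (U i).left.fromSpecStalk v) (Category.assoc _ _ _)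
  obtain ⟨φA, hφA⟩ := Spec.map_surjective (R := CommRingCat.of q.A) (S := CommRingCat.of R) (lU ≫ c).left
  obtain ⟨ψK, hψK⟩ := Spec.map_surjective (R := CommRingCat.of q.K) (S := CommRingCat.of Ω) m.left
  have hψR : Spec.map (CommRingCat.ofHom (algebraMap R Ω)) ≫ Spec.map ψR = Spec.map θ := by
    rw [← Spec.map_comp]; rfl
  have hloc : IsLocalHom φA.hom := by
    refine ((IsLocalRing.local_hom_TFAE φA.hom).out 0 4).2 ?_
    have e1 : Spec.map φA (closedPoint R) = (closedPoint q.A : PrimeSpectrum q.A) := by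
      rw [hφA, ← hcv]
      change c.left ((U i).left.fromSpecStalk v ((Spec.map ψR) (closedPoint R))) = c.left v
      rw [show (Spec.map ψR) (closedPoint R) = closedPoint ((U i).left.presheaf.stalk v) from
          comap_closedPoint (S := R) (θ.hom.codRestrict R.toSubring hR), Scheme.fromSpecStalk_closedPoint]
    exact congrArg PrimeSpectrum.asIdeal e1
  have hsA : Spec.map φA ≫ q.str = Spec.map ψR ≫ (U i).left.fromSpecStalk v ≫ (U i).hom := by
    rw [hφA]
    exact (Over.w (lU ≫ c))
  have hcompat : (algebraMap R Ω).comp φA.hom = ψK.hom.comp (algebraMap q.A q.K) := by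
    have e : Spec.map (φA ≫ CommRingCat.ofHom (algebraMap R Ω)) =
        Spec.map (CommRingCat.ofHom (algebraMap q.A q.K) ≫ ψK) := by
      rw [Spec.map_comp, Spec.map_comp, hφA, hψK]
      change _ = (m ≫ q.j).left
      rw [← hnc, Over.comp_left, Over.comp_left, hnleft, ← Category.assoc, ← hψR, Category.assoc]
      rfl
    exact CommRingCat.hom_ext_iff.1 (Spec.map_injective e)
  have hK' : Spec.map (CommRingCat.ofHom (algebraMap R Ω)) ≫
      Spec.map ψR ≫ (U i).left.fromSpecStalk v ≫ (U i).hom = w := by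
    rw [reassoc_of% hψR, ← Category.assoc, ← hnleft]
    exact Over.w n
  refine ⟨R, Ω, inferInstance, inferInstance, inferInstance, inferInstance, inferInstance, inferInstance,
    φA.hom, ψK.hom, hcompat, hloc, _, w, hsA, by rw [CommRingCat.ofHom_hom, hψK]; exact Over.w m, hK',
    (yon S).map lU ≫ a i ≫ pullback.fst f q.bot, ?_, ?_⟩
  · have e1 : specMap (algebraMap R Ω) _ w hK' ≫ lU = n := by
      apply Over.OverMorphism.ext
      rw [hnleft, ← hψR]
      exact (Category.assoc _ _ _).symm
    rw [← Functor.map_comp_assoc, e1, reassoc_of% hnm, hk0f]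
    congr 2
    exact Over.OverMorphism.ext hψK.symm
  · rw [Category.assoc, Category.assoc, pullback.condition, ← reassoc_of% hc', ← Functor.map_comp_assoc]
    congr 2
    exact Over.OverMorphism.ext hφA.symm

end Groth.Agent.ASp
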