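import Groth.Agent.Lib.AlgSpBasic
import Mathlib.CategoryTheory.Sites.LocallySurjective
import Mathlib.CategoryTheory.MorphismProperty.Local

/-!
fppf local surjectivity, descent of `RepWith` along locally surjective maps, fibre products of algebraic spaces.
-/

universe u

open CategoryTheory CategoryTheory.Limits AlgebraicGeometry Opposite

noncomputable section

set_option backward.isDefEq.respectTransparency.types false

namespace Groth.Agent.ASp

open AlgSp

variable {S : Scheme.{u}} {F G H : Sp S}

theorem fppf_hasIsos : Scheme.fppfPrecoverage.{u}.HasIsos := by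
  have : (@Flat ⊓ @LocallyOfFinitePresentation : MorphismProperty Scheme.{u}).ContainsIdentities :=
    ⟨fun X => ⟨inferInstance, inferInstance⟩⟩
  have : (@Flat ⊓ @LocallyOfFinitePresentation : MorphismProperty Scheme.{u}).RespectsIso :=
    @MorphismProperty.RespectsIso.inf _ _ _ _ MorphismProperty.IsStableUnderBaseChange.respectsIso
      MorphismProperty.IsStableUnderBaseChange.respectsIso
  exact inferInstanceAs ((Scheme.precoverage (@Flat ⊓ @LocallyOfFinitePresentation)).HasIsos)

attribute [local instance] fppf_hasIsos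

/-- A covering sieve for the fppf topology contains a covering family. -/
theorem exists_cover_le {T : Over S} {R : Sieve T} (hR : R ∈ J S T) :
    ∃ C ∈ Scheme.fppfPrecoverage T.left, ∀ ⦃Z : Scheme.{u}⦄ (f : Z ⟶ T.left),
      C f → R (Over.homMk f : Over.mk (f ≫ T.hom) ⟶ T) := by
  have h : Sieve.overEquiv T R ∈ Scheme.fppfTopology T.left := hR
  obtain ⟨C, hC, hle⟩ := Precoverage.mem_toGrothendieck_iff_of_isStableUnderComposition.1 h
  exact ⟨C, hC, fun Z f hf => (Sieve.overEquiv_iff R f).1 (hle _ _ hf)⟩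

theorem mem_of_single {T V : Over S} {R : Sieve T} (c : V ⟶ T) [Flat c.left]
    [LocallyOfFinitePresentation c.left] [Surjective c.left] (hc : R c) : R ∈ J S T := by
  change Sieve.overEquiv T R ∈ Scheme.fppfTopology T.left
  refine GrothendieckTopology.superset_covering _ ?_
    (Precoverage.generate_mem_toGrothendieck c.left.singleton_mem_fppfPrecoverage)
  rw [Sieve.generate_le_iff]
  rintro Z f ⟨⟩
  rw [Sieve.overEquiv_iff]
  have : (Over.homMk c.left : Over.mk (c.left ≫ T.hom) ⟶ T) =
      Over.homMk (U := Over.mk (c.left ≫ T.hom)) (V := V) (𝟙 _) (by simp) ≫ c := by ext; simp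
  rw [this]
  exact R.downward_closed hc _

theorem isLocallySurjective_of_sq (f : F ⟶ G)
    (h : ∀ ⦃T : Over S⦄ (g : (yon S).obj T ⟶ G), ∃ (V : Over S) (c : V ⟶ T) (l : (yon S).obj V ⟶ F),
      l ≫ f = (yon S).map c ≫ g ∧ Flat c.left ∧ LocallyOfFinitePresentation c.left ∧ Surjective c.left) :
    Sheaf.IsLocallySurjective f where
  imageSieve_mem {T} s := by
    obtain ⟨V, c, l, hl, _, _, _⟩ := h (sec.symm s)
    refine mem_of_single c ⟨sec l, ?_⟩
    rw [← sec_comp, hl, ← sec_map, Equiv.apply_symm_apply]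

theorem isLocallySurjective_of_repWith {f : F ⟶ G} (h₁ : RepWith @Flat f)
    (h₂ : RepWith @LocallyOfFinitePresentation f) (h₃ : RepWith @Surjective f) :
    Sheaf.IsLocallySurjective f :=
  isLocallySurjective_of_sq f fun T g => by
    obtain ⟨V, fst, snd, sq⟩ := exists_sq h₁.rep g
    exact ⟨V, snd, fst, sq.w, h₁.2 g fst snd sq, h₂.2 g fst snd sq, h₃.2 g fst snd sq⟩

theorem isLocallySurjective_of_etale {f : F ⟶ G} (h₁ : RepWith @Etale f)
    (h₃ : RepWith @Surjective f) : Sheaf.IsLocallySurjective f :=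
  isLocallySurjective_of_repWith
    (repWith_mono (fun _ _ g (_ : Etale g) => show Flat g from inferInstance) h₁)
    (repWith_mono (fun _ _ g (_ : Etale g) => show LocallyOfFinitePresentation g from inferInstance) h₁)
    h₃

/-- Descent of `RepWith P` along a locally surjective base change, for `P` fppf local on the target. -/
theorem repWith_of_locallySurjective {P : MorphismProperty Scheme.{u}}
    [P.IsStableUnderBaseChange] [P.IsLocalAtTarget Scheme.fppfPrecoverage]
    {a : F ⟶ G} (ha : Representable a) (b : H ⟶ G) [Sheaf.IsLocallySurjective b]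
    {Q : Sp S} {b' : Q ⟶ F} {a' : Q ⟶ H} (sq : IsPullback b' a' a b) (h : RepWith P a') :
    RepWith P a := by
  refine repWith_of_forall ha fun U V g fst snd sqU => ?_
  have hs := Presheaf.imageSieve_mem (J S) b.hom (sec g)
  obtain ⟨C, hC, hCR⟩ := exists_cover_le hs
  refine MorphismProperty.IsLocalAtTarget.of_forall_pullbackSnd hC fun {Z} c _ hc => ?_
  obtain ⟨t, ht⟩ := hCR c hc
  let cU : Over.mk (c ≫ U.hom) ⟶ U := Over.homMk c
  let l : (yon S).obj (Over.mk (c ≫ U.hom)) ⟶ H := sec.symm t
  have hl : l ≫ b = (yon S).map cU ≫ g := by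
    apply sec.injective
    rw [← sec_map, sec_comp, Equiv.apply_symm_apply]
    exact ht
  let W := pullback snd cU
  have sqW : IsPullback ((yon S).map (pullback.fst snd cU)) ((yon S).map (pullback.snd snd cU))
      ((yon S).map snd) ((yon S).map cU) := (yon S).map_isPullback (IsPullback.of_hasPullback _ _)
  have sqT := sqW.paste_horiz sqU
  rw [← hl] at sqT
  let m := sq.lift ((yon S).map (pullback.fst snd cU) ≫ fst) ((yon S).map (pullback.snd snd cU) ≫ l)
    (by rw [Category.assoc, Category.assoc, sqU.w, hl, reassoc_of% sqW.w])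
  have hmsq : IsPullback m ((yon S).map (pullback.snd snd cU)) a' l :=
    IsPullback.of_right (by rw [sq.lift_fst]; exact sqT) (sq.lift_snd _ _ _) sq
  have hP : P (pullback.snd snd cU).left := h.2 l m _ hmsq
  have e := (IsPullback.of_hasPullback snd.left c).isoIsPullback_hom_snd _ _
    ((IsPullback.of_hasPullback snd cU).map (Over.forget S))
  rw [← e]
  exact (P.cancel_left_of_respectsIso _ _).2 hP

/-! ### Fibre products -/

theorem yon_prod_hom_ext {Z : Sp S} {T T' : Over S} {a b : Z ⟶ (yon S).obj (T ⨯ T')}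
    (h₁ : a ≫ (yon S).map prod.fst = b ≫ (yon S).map prod.fst)
    (h₂ : a ≫ (yon S).map prod.snd = b ≫ (yon S).map prod.snd) : a = b := by
  rw [← cancel_mono (prodComparison (yon S) T T')]
  apply prod.hom_ext
  · simpa only [prodComparison, Category.assoc, prod.lift_fst] using h₁
  · simpa only [prodComparison, Category.assoc, prod.lift_snd] using h₂

/-- A sheaf with jointly monic representable-diagonal components receives only representable maps from schemes. -/
theorem representable_to_pullback {P X Y : Sp S} {fst : P ⟶ X} {snd : P ⟶ Y} {f : X ⟶ H}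
    {g : Y ⟶ H} (h : IsPullback fst snd f g) (hX : Representable (Limits.diag X))
    (hY : Representable (Limits.diag Y)) {T : Over S} (k : (yon S).obj T ⟶ P) : Representable k := by
  intro T' k'
  have hx : Representable (k ≫ fst) := Functor.relativelyRepresentable.of_diag hX _
  have hy : Representable (k ≫ snd) := Functor.relativelyRepresentable.of_diag hY _
  obtain ⟨A, a₁, a₂, sqA⟩ := exists_sq hx (k' ≫ fst)
  obtain ⟨B, b₁, b₂, sqB⟩ := exists_sq hy (k' ≫ snd)
  obtain ⟨a₁, rfl⟩ := (yon S).map_surjective a₁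
  obtain ⟨b₁, rfl⟩ := (yon S).map_surjective b₁
  let W := pullback (prod.lift a₁ a₂) (prod.lift b₁ b₂)
  have w₁ : pullback.fst _ _ ≫ a₁ = pullback.snd (prod.lift a₁ a₂) (prod.lift b₁ b₂) ≫ b₁ := by
    simpa only [Category.assoc, prod.lift_fst] using congrArg (· ≫ prod.fst) (pullback.condition (f := prod.lift a₁ a₂) (g := prod.lift b₁ b₂))
  have w₂ : pullback.fst _ _ ≫ a₂ = pullback.snd (prod.lift a₁ a₂) (prod.lift b₁ b₂) ≫ b₂ := by
    simpa only [Category.assoc, prod.lift_snd] using congrArg (· ≫ prod.snd) (pullback.condition (f := prod.lift a₁ a₂) (g := prod.lift b₁ b₂))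
  let c₁ : W ⟶ T := pullback.fst _ _ ≫ a₁
  let c₂ : W ⟶ T' := pullback.fst _ _ ≫ a₂
  have hw : (yon S).map c₁ ≫ k = (yon S).map c₂ ≫ k' := by
    apply h.hom_ext
    · simp only [c₁, c₂, Functor.map_comp, Category.assoc, sqA.w]
    · simp only [c₁, c₂, w₁, w₂, Functor.map_comp, Category.assoc, sqB.w]
  have hW := (yon S).map_isPullback (IsPullback.of_hasPullback (prod.lift a₁ a₂) (prod.lift b₁ b₂))
  refine ⟨W, c₂, (yon S).map c₁, ⟨⟨hw⟩, ⟨PullbackCone.IsLimit.mk _ (fun s => hW.lift
    (sqA.lift s.fst s.snd (by rw [reassoc_of% s.condition]))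
    (sqB.lift s.fst s.snd (by rw [reassoc_of% s.condition])) ?_) ?_ ?_ ?_⟩⟩⟩
  · apply yon_prod_hom_ext <;> simp only [Category.assoc, ← Functor.map_comp, prod.lift_fst, prod.lift_snd] <;> simp only [sqA.lift_fst, sqA.lift_snd, sqB.lift_fst, sqB.lift_snd]
  · intro s; simp [c₁]
  · intro s; simp [c₂]
  · intro s m h₁ h₂
    apply hW.hom_ext
    · apply sqA.hom_ext
      · simpa [c₁] using h₁
      · simpa [c₂] using h₂
    · apply sqB.hom_ext
      · simpa [c₁, w₁] using h₁
      · simpa [c₂, w₂] using h₂

/-- Fibre products of algebraic spaces over a sheaf with representable diagonal. -/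
theorem isAlgSpace_of_isPullback {P X Y : Sp S} {fst : P ⟶ X} {snd : P ⟶ Y} {f : X ⟶ H}
    {g : Y ⟶ H} (hH : Representable (Limits.diag H)) (h : IsPullback fst snd f g)
    (hX : IsAlgSpace X) (hY : IsAlgSpace Y) : IsAlgSpace P where
  diag := Functor.relativelyRepresentable.diag_of_map_from_obj fun _ k =>
    representable_to_pullback h hX.diag hY.diag k
  atlas := by
    obtain ⟨U, p, hp, hp'⟩ := hX.atlas
    obtain ⟨V, q, hq, hq'⟩ := hY.atlas
    have sq₁ : IsPullback (pullback.fst p fst) (pullback.snd p fst ≫ snd) (p ≫ f) g :=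
      (IsPullback.of_hasPullback p fst).flip.paste_horiz h.flip |>.flip
    obtain ⟨W, w₁, w₂, sqW⟩ := exists_sq (Functor.relativelyRepresentable.of_diag hH (p ≫ f)) (q ≫ g)
    let m : (yon S).obj W ⟶ pullback p fst := sq₁.lift w₁ ((yon S).map w₂ ≫ q)
      (by rw [sqW.w, Category.assoc])
    have hm : IsPullback m ((yon S).map w₂) (pullback.snd p fst ≫ snd) q :=
      IsPullback.of_right (by rw [sq₁.lift_fst]; exact sqW) (sq₁.lift_snd _ _ _) sq₁
    refine ⟨W, m ≫ pullback.snd p fst, repWith_comp ?_ ?_, repWith_comp ?_ ?_⟩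
    · exact repWith_baseChange hm.flip hq
    · exact repWith_baseChange (IsPullback.of_hasPullback p fst).flip.flip hp
    · exact repWith_baseChange hm.flip hq'
    · exact repWith_baseChange (IsPullback.of_hasPullback p fst).flip.flip hp'

theorem limitsOfShape_cospan_le :
    ObjectProperty.limitsOfShape (IsAlgSpace (S := S)) WalkingCospan ≤ IsAlgSpace (S := S) := by
  rintro P ⟨⟨pres, h⟩⟩
  have hl : IsLimit (PullbackCone.ofCone (Cone.mk P pres.π)) :=
    (IsLimit.postcomposeHomEquiv (diagramIsoCospan pres.diag) _).symm pres.isLimit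
  exact isAlgSpace_of_isPullback (h WalkingCospan.one).diag (IsPullback.of_isLimit hl)
    (h WalkingCospan.left) (h WalkingCospan.right)

instance : ObjectProperty.IsClosedUnderLimitsOfShape (IsAlgSpace (S := S)) WalkingCospan :=
  ⟨limitsOfShape_cospan_le⟩

end Groth.Agent.ASp
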