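import Groth.Agent.Lib.AlgSpSepLift
import Groth.Agent.Lib.AlgSpFppf
import Groth.Prelude.Def_AlgSpMor5
import Mathlib.RingTheory.Flat.TorsionFree
import Mathlib.RingTheory.Flat.FaithfullyFlat.Algebra
/-! The valuative square of a separated morphism has a lift when an extension has one. -/

set_option autoImplicit false
set_option linter.style.haveILetI false
set_option linter.unusedVariables false
set_option backward.isDefEq.respectTransparency.types false

universe u

open CategoryTheory CategoryTheory.Limits AlgebraicGeometry Opposite Topology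

noncomputable section

namespace Groth.Agent.ASp

open _root_.AlgSp

variable {S : Scheme.{u}}

theorem isSchemeTheoreticallyDominant_of_injective {A B : Scheme.{u}} (f : A ⟶ B) [QuasiCompact f] [IsAffine B]
    (h : Function.Injective f.appTop.hom) : IsSchemeTheoreticallyDominant f := by
  refine ⟨Scheme.IdealSheafData.ext_of_isAffine ?_⟩
  rw [Scheme.Hom.ker_apply, Scheme.IdealSheafData.ideal_bot]
  exact (RingHom.injective_iff_ker_eq_bot _).1 h

theorem injective_appTop_specMap {A B : CommRingCat.{u}} (φ : A ⟶ B) (h : Function.Injective φ.hom) :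
    Function.Injective (Spec.map φ).appTop.hom := by
  intro x y hxy
  refine (Scheme.ΓSpecIso A).commRingCatIsoToRingEquiv.injective (h ?_)
  have e := Scheme.ΓSpecIso_naturality φ
  have ex := congrArg (fun g => g.hom x) e
  have ey := congrArg (fun g => g.hom y) e
  simp only [CommRingCat.hom_comp, RingHom.coe_comp, Function.comp_apply] at ex ey
  exact ex.symm.trans ((congrArg _ hxy).trans ey)

theorem flat_specMap_of_injective {A B : Type u} [CommRing A] [IsDomain A] [ValuationRing A] [CommRing B]
    [IsDomain B] (φ : A →+* B) (h : Function.Injective φ) : φ.Flat := by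
  letI := φ.toAlgebra
  have : Module.Flat A B := by
    rw [Module.Flat.flat_iff_torsion_eq_bot_of_isBezout, eq_bot_iff]
    rintro b ⟨⟨a, ha⟩, hab⟩
    have : φ a * b = 0 := hab
    rcases mul_eq_zero.1 this with h0 | h0
    · exact absurd (h (h0.trans φ.map_zero.symm)) (nonZeroDivisors.ne_zero ha)
    · exact h0
  exact this

theorem flat_of_generic {A K : Type u} [CommRing A] [IsDomain A] [ValuationRing A] [Field K] [Algebra A K]
    [IsFractionRing A K] {W E : Scheme.{u}} [IsAffine W] [IsAffine E] (h : E ⟶ Spec (CommRingCat.of A))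
    (γ : W ⟶ E) [IsSchemeTheoreticallyDominant γ] (q : W ⟶ Spec (CommRingCat.of K))
    (e : γ ≫ h = q ≫ Spec.map (CommRingCat.ofHom (algebraMap A K))) : Flat h := by
  haveI : QuasiCompact γ := quasiCompact_of_compactSpace γ
  let θ : CommRingCat.of A ⟶ Γ(E, ⊤) := (Scheme.ΓSpecIso _).inv ≫ h.appTop
  let η : CommRingCat.of K ⟶ Γ(W, ⊤) := (Scheme.ΓSpecIso _).inv ≫ q.appTop
  have hc : θ ≫ γ.appTop = CommRingCat.ofHom (algebraMap A K) ≫ η := by
    simp only [θ, η, Category.assoc]
    rw [← Scheme.Hom.comp_appTop, e, Scheme.Hom.comp_appTop, ← Category.assoc, ← Category.assoc,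
      Scheme.ΓSpecIso_inv_naturality]
  refine (HasRingHomProperty.iff_of_isAffine (P := @Flat)).2 ?_
  have hθ : θ.hom.Flat := by
    letI := θ.hom.toAlgebra
    have : Module.Flat A Γ(E, ⊤) := by
      rw [Module.Flat.flat_iff_torsion_eq_bot_of_isBezout, eq_bot_iff]
      rintro x ⟨⟨a, ha⟩, hax⟩
      have hax' : θ.hom a * x = 0 := hax
      refine γ.app_injective ⊤ ?_
      have h1 := congrArg γ.appTop.hom hax'
      rw [map_mul, map_zero] at h1
      have h2 : γ.appTop.hom (θ.hom a) = η.hom (algebraMap A K a) := congrArg (fun g => g.hom a) hc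
      rw [h2] at h1
      have hu : IsUnit (η.hom (algebraMap A K a)) :=
        (isUnit_iff_ne_zero.2 (fun h0 => nonZeroDivisors.ne_zero ha
          ((IsFractionRing.injective A K) (h0.trans (map_zero _).symm)))).map η.hom
      exact ((hu.mul_right_eq_zero).1 h1).trans (map_zero _).symm
    exact this
  have : h.appTop = (Scheme.ΓSpecIso _).hom ≫ θ := by simp [θ]
  rw [this, CommRingCat.hom_comp, RingHom.Flat.respectsIso.cancel_left_isIso]
  exact hθ

/-- A separated morphism has the existence of lifts when a dominating extension has it. -/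
theorem hasLift_of_separated {X Y : Sp S} (hX : IsAlgSpace X) (hY : IsAlgSpace Y) {f : X ⟶ Y}
    (hf : IsSeparatedMor f) (sq : ValSq f) (e : sq.DomExt) (he : e.HasLift) : sq.HasLift := by
  obtain ⟨l, hl₁, hl₂⟩ := he
  have sqF := IsPullback.of_hasPullback f sq.bot
  have hF : IsAlgSpace (Limits.pullback f sq.bot) :=
    isAlgSpace_of_isPullback hY.diag sqF hX (IsAlgSpace.yon_obj _)
  haveI : (RepWith (S := S) @IsClosedImmersion).IsStableUnderBaseChange :=
    ⟨fun sq h => repWith_baseChange sq h⟩
  have hsep : RepWith @IsClosedImmersion (pullback.diagonal (pullback.snd f sq.bot)) :=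
    MorphismProperty.of_isPullback (P := (RepWith (S := S) @IsClosedImmersion).diagonal) sqF hf
  let d : e.ptA' ⟶ sq.ptA := Over.homMk (Spec.map (CommRingCat.ofHom e.φ)) rfl
  let j' : e.ptK' ⟶ e.ptA' := Over.homMk (Spec.map (CommRingCat.ofHom (algebraMap e.A' e.K'))) rfl
  let ψ : e.ptK' ⟶ sq.ptK := Over.homMk (Spec.map (CommRingCat.ofHom e.ψ)) (by
    change Spec.map _ ≫ Spec.map _ ≫ _ = Spec.map _ ≫ Spec.map _ ≫ _
    rw [← Spec.map_comp_assoc, ← Spec.map_comp_assoc, ← CommRingCat.ofHom_comp,
      ← CommRingCat.ofHom_comp, e.comm])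
  have comm : j' ≫ d = ψ ≫ sq.j := Over.OverMorphism.ext (by
    change Spec.map _ ≫ Spec.map _ = Spec.map _ ≫ Spec.map _
    rw [← Spec.map_comp, ← Spec.map_comp, ← CommRingCat.ofHom_comp, ← CommRingCat.ofHom_comp, e.comm])
  have hφ : Function.Injective e.φ := fun a b h => by
    have h' := congrArg (algebraMap e.A' e.K') h
    rw [← RingHom.comp_apply, ← RingHom.comp_apply, e.comm] at h'
    exact IsFractionRing.injective sq.A sq.K (e.ψ.injective h')
  haveI : IsAffine sq.ptA.left := inferInstanceAs (IsAffine (Spec _))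
  haveI : IsAffine e.ptA'.left := inferInstanceAs (IsAffine (Spec _))
  haveI : IsAffine sq.ptK.left := inferInstanceAs (IsAffine (Spec _))
  have hφf : e.φ.Flat := flat_specMap_of_injective e.φ hφ
  haveI : Flat d.left := show Flat (Spec.map _) from (HasRingHomProperty.Spec_iff (P := @Flat)).2 hφf
  haveI : Surjective d.left := ⟨by
    letI := e.φ.toAlgebra
    haveI : Module.Flat sq.A e.A' := hφf
    haveI : IsLocalHom (algebraMap sq.A e.A') := e.isLocalHom
    haveI := Module.FaithfullyFlat.of_flat_of_isLocalHom (A := sq.A) (B := e.A')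
    exact PrimeSpectrum.comap_surjective_of_faithfullyFlat⟩
  haveI : IsPreimmersion sq.j.left := IsPreimmersion.of_isLocalization (R := sq.A) (S := sq.K) (nonZeroDivisors sq.A)
  haveI : Mono sq.j := (Over.forget S).mono_of_mono_map (inferInstanceAs (Mono sq.j.left))
  haveI : Flat sq.j.left := show Flat (Spec.map _) from (HasRingHomProperty.Spec_iff (P := @Flat)).2
    (flat_specMap_of_injective _ (IsFractionRing.injective sq.A sq.K))
  haveI : QuasiCompact sq.j.left := inferInstanceAs (QuasiCompact (Spec.map _))
  haveI : QuasiCompact j'.left := inferInstanceAs (QuasiCompact (Spec.map _))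
  haveI : IsSchemeTheoreticallyDominant sq.j.left := by
    refine isSchemeTheoreticallyDominant_of_injective _ ?_
    exact injective_appTop_specMap (CommRingCat.ofHom (algebraMap sq.A sq.K)) (IsFractionRing.injective sq.A sq.K)
  haveI : IsSchemeTheoreticallyDominant j'.left := by
    refine isSchemeTheoreticallyDominant_of_injective _ ?_
    exact injective_appTop_specMap (CommRingCat.ofHom (algebraMap e.A' e.K')) (IsFractionRing.injective e.A' e.K')
  let top : (yon S).obj sq.ptK ⟶ Limits.pullback f sq.bot := pullback.lift sq.top ((yon S).map sq.j) sq.comm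
  let lF : (yon S).obj e.ptA' ⟶ Limits.pullback f sq.bot := pullback.lift l ((yon S).map d) hl₂
  obtain ⟨m, hm₁, hm₂⟩ := exists_lift_of_separated hF hsep d sq.j j' ψ comm
    (fun E W h γ q hE hW hγ eq => by
      haveI := hE; haveI := hW; haveI := hγ
      exact flat_of_generic (A := sq.A) (K := sq.K) h.left γ.left q.left (congrArg CommaMorphism.left eq))
    (IsLocalRing.closedPoint e.A') (fun O hO h => Set.eq_univ_of_forall fun x =>
      (IsLocalRing.specializes_closedPoint x).mem_open hO h)
    top (pullback.lift_snd _ _ _) lF (pullback.lift_snd _ _ _) (by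
      apply pullback.hom_ext
      · simp only [top, lF, Category.assoc, pullback.lift_fst]; exact hl₁
      · simp only [top, lF, Category.assoc, pullback.lift_snd, ← Functor.map_comp, comm])
  refine ⟨m ≫ pullback.fst f sq.bot, ?_, ?_⟩
  · rw [← Category.assoc, hm₂]; exact pullback.lift_fst _ _ _
  · rw [Category.assoc, pullback.condition, reassoc_of% hm₁]

end Groth.Agent.ASp
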