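import Groth.Agent.Lib.AlgSpDecentQS
import Groth.Agent.Lib.AlgSpExistVC
import Groth.Agent.Lib.AlgSpSepLift2
/-! Quasi-separated morphisms are decent; valuative criteria. -/

set_option autoImplicit false
set_option linter.style.haveILetI false
set_option linter.unusedVariables false
set_option backward.isDefEq.respectTransparency.types false

universe u

open CategoryTheory CategoryTheory.Limits AlgebraicGeometry Opposite Topology

noncomputable section

namespace Groth.Agent.ASp

open _root_.AlgSp

variable {S : Scheme.{u}} {X Y : Sp S}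

theorem isDecentMor_of_isQuasiSeparatedMor (hX : IsAlgSpace X) (hY : IsAlgSpace Y) {f : X ⟶ Y}
    (h : IsQuasiSeparatedMor f) : IsDecentMor f := by
  intro T F' g fst snd sq x
  have hF : IsAlgSpace F' := isAlgSpace_of_isPullback hY.diag sq hX (IsAlgSpace.yon_obj T)
  induction x using Points.ind with
  | h q => exact decentAt_of_qc hF q (qc_of_isQuasiSeparatedMor hF snd (repWith_qc_diagonal_baseChange sq h) q)

theorem existVCStrict_of_separated (hX : IsAlgSpace X) (hY : IsAlgSpace Y) {f : X ⟶ Y} (hf : IsSeparatedMor f)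
    (h : ExistVC f) : ExistVCStrict f := fun sq => by
  obtain ⟨e, he⟩ := h sq
  exact hasLift_of_separated hX hY hf sq e he

theorem existVC_of_existVCStrict {f : X ⟶ Y} (h : ExistVCStrict f) : ExistVC f := fun sq => by
  obtain ⟨l, h1, h2⟩ := h sq
  let e : sq.DomExt :=
    { A' := sq.A, K' := sq.K, φ := RingHom.id _, ψ := RingHom.id _, comm := rfl,
      isLocalHom := ⟨fun a ha => ha⟩ }
  refine ⟨e, (yon S).map (Over.homMk (U := e.ptA') (V := sq.ptA) (Spec.map (CommRingCat.ofHom e.φ)) rfl) ≫ l, ?_, ?_⟩
  · rw [← h1, ← Functor.map_comp_assoc, ← Functor.map_comp_assoc]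
    congr 2
    apply Over.OverMorphism.ext
    change Spec.map _ ≫ Spec.map _ = Spec.map _ ≫ Spec.map _
    rw [← Spec.map_comp, ← Spec.map_comp]
    rfl
  · rw [Category.assoc, h2]

end Groth.Agent.ASp
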