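import Mathlib

/-! fpqc descent of properties of morphisms of schemes missing from Mathlib. -/

set_option backward.isDefEq.respectTransparency.types false

universe u

open CategoryTheory CategoryTheory.Limits AlgebraicGeometry MorphismProperty

noncomputable section

namespace Groth.Agent.FpqcDescent

instance descends_quasiCompact :
    DescendsAlong @QuasiCompact (@Surjective ⊓ @Flat ⊓ @QuasiCompact : MorphismProperty Scheme.{u}) := by
  refine IsZariskiLocalAtTarget.descendsAlong _ _ fun {R X Y} f g hf h => ?_
  obtain ⟨⟨hs, -⟩, hqc⟩ := hf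
  have : CompactSpace X := (quasiCompact_iff_compactSpace f).1 hqc
  have : CompactSpace ↥(pullback f g) := QuasiCompact.compactSpace_of_compactSpace (pullback.fst f g)
  have : Surjective (pullback.snd f g) := inferInstance
  have : CompactSpace Y :=
    (pullback.snd f g).surjective.compactSpace (pullback.snd f g).continuous
  exact (quasiCompact_iff_compactSpace g).2 this

instance descends_quasiSeparated :
    DescendsAlong @QuasiSeparated (@Surjective ⊓ @Flat ⊓ @QuasiCompact : MorphismProperty Scheme.{u}) := by
  rw [quasiSeparated_eq_diagonal_is_quasiCompact]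
  infer_instance

theorem isAffine_of_homeo {X Y : Scheme.{u}} (g : Y ⟶ X) [IsAffine X] [UniversallyInjective g]
    [UniversallyClosed g] : IsAffine Y :=
  have hc := Topology.IsClosedEmbedding.of_continuous_injective_isClosedMap g.continuous g.injective
    g.isClosedMap
  have : IsAffineHom g := isAffineHom_of_isInducing g hc.isInducing hc.isClosed_range
  isAffine_of_isAffineHom g

instance descends_isClosedImmersion :
    DescendsAlong @IsClosedImmersion (@Surjective ⊓ @Flat ⊓ @QuasiCompact : MorphismProperty Scheme.{u}) := by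
  apply IsZariskiLocalAtTarget.descendsAlong_inf_quasiCompact
  · rw [inf_comm]
    exact inf_le_inf le_rfl (IsLocalIso.le_of_isZariskiLocalAtSource _)
  intro R S Y φ g h hfst
  have : IsClosedImmersion (pullback.fst (Spec.map φ) g) := hfst
  have : UniversallyInjective g := of_pullback_fst_of_descendsAlong (P := @UniversallyInjective)
    (f := Spec.map φ) (Q := @Surjective ⊓ @Flat ⊓ @QuasiCompact) ⟨h, inferInstance⟩ inferInstance
  have : UniversallyClosed g := of_pullback_fst_of_descendsAlong (P := @UniversallyClosed)
    (f := Spec.map φ) (Q := @Surjective ⊓ @Flat ⊓ @QuasiCompact) ⟨h, inferInstance⟩ inferInstance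
  have : IsAffine Y := isAffine_of_homeo g
  wlog hY : ∃ T, Y = Spec T generalizing Y
  · rw [← MorphismProperty.cancel_left_of_respectsIso @IsClosedImmersion Y.isoSpec.inv]
    have heq : pullback.fst (Spec.map φ) (Y.isoSpec.inv ≫ g) =
      pullback.map _ _ _ _ (𝟙 _) (Y.isoSpec.inv) (𝟙 _) (by simp) (by simp) ≫
        pullback.fst (Spec.map φ) g := (pullback.lift_fst _ _ _).symm
    have h₁ : IsClosedImmersion (pullback.fst (Spec.map φ) (Y.isoSpec.inv ≫ g)) := by
      rw [heq]; infer_instance
    have h₂ : UniversallyInjective (Y.isoSpec.inv ≫ g) :=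
      MorphismProperty.comp_mem _ _ _ inferInstance inferInstance
    have h₃ : UniversallyClosed (Y.isoSpec.inv ≫ g) := inferInstance
    refine this _ ?_ ?_ ?_ ?_ ?_ ⟨_, rfl⟩
    all_goals first | exact h₁ | exact h₂ | exact h₃ | infer_instance
  obtain ⟨T, rfl⟩ := hY
  refine of_pullback_fst_Spec_of_codescendsAlong (P := @IsClosedImmersion)
      (Q' := RingHom.FaithfullyFlat) (Q := fun f ↦ Function.Surjective f) (P' := @Surjective ⊓ @Flat)
      RingHom.FaithfullyFlat.codescendsAlong_surjective ?_ ?_ h hfst
  · intro _ _ f hf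
    rwa [← flat_and_surjective_SpecMap_iff, and_comm]
  · intro A B f
    refine ⟨fun hf => ?_, fun hf => IsClosedImmersion.spec_of_surjective f hf⟩
    have ha := (IsClosedImmersion.isAffine_surjective_of_isAffine (Spec.map f)).2
    have e : f = (Scheme.ΓSpecIso A).inv ≫ (Spec.map f).appTop ≫ (Scheme.ΓSpecIso B).hom := by
      rw [Scheme.ΓSpecIso_naturality, Iso.inv_hom_id_assoc]
    rw [e]
    exact (ConcreteCategory.bijective_of_isIso (Scheme.ΓSpecIso B).hom).2.comp
      (ha.comp (ConcreteCategory.bijective_of_isIso (Scheme.ΓSpecIso A).inv).2)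

instance descends_isSeparated :
    DescendsAlong @IsSeparated (@Surjective ⊓ @Flat ⊓ @QuasiCompact : MorphismProperty Scheme.{u}) := by
  rw [IsSeparated.isSeparated_eq_diagonal_isClosedImmersion]
  infer_instance

instance descends_isAffineHom :
    DescendsAlong @IsAffineHom (@Surjective ⊓ @Flat ⊓ @QuasiCompact : MorphismProperty Scheme.{u}) := by
  apply IsZariskiLocalAtTarget.descendsAlong_inf_quasiCompact
  · rw [inf_comm]
    exact inf_le_inf le_rfl (IsLocalIso.le_of_isZariskiLocalAtSource _)
  intro R S Y φ g h hfst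
  have hQ : (@Surjective ⊓ @Flat ⊓ @QuasiCompact : MorphismProperty Scheme.{u}) (Spec.map φ) :=
    ⟨h, inferInstance⟩
  have : IsAffineHom (pullback.fst (Spec.map φ) g) := hfst
  have : IsAffine (pullback (Spec.map φ) g) := isAffine_of_isAffineHom (pullback.fst (Spec.map φ) g)
  have : QuasiCompact g := of_pullback_fst_of_descendsAlong (P := @QuasiCompact) hQ inferInstance
  have : QuasiSeparated g := of_pullback_fst_of_descendsAlong (P := @QuasiSeparated) hQ inferInstance
  have : CompactSpace Y := (quasiCompact_iff_compactSpace g).1 inferInstance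
  have : QuasiSeparatedSpace Y := quasiSeparatedSpace_of_quasiSeparated g
  have : Flat (Spec.map φ) := h.2
  let Y' := pullback (Spec.map φ) g
  let pX : Y' ⟶ Spec S := pullback.fst _ _
  let pY : Y' ⟶ Y := pullback.snd _ _
  have H : IsPullback pY pX g (Spec.map φ) := (IsPullback.of_hasPullback _ _).flip
  have hiso := isIso_pushoutSection_of_isQuasiSeparated_of_flat_right H
    (US := ⊤) (UT := ⊤) (UX := ⊤) (UY := ⊤) (by simp) (by simp) (by simp)
    (isAffineOpen_top _) (isAffineOpen_top _) (by simpa using isCompact_univ)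
    (by simpa using isQuasiSeparated_univ)
  have hpo := (isIso_pushoutSection_iff _ _ _ _).1 hiso
  have hA : IsPullback (Spec.map pY.appTop) (Spec.map pX.appTop) (Spec.map g.appTop)
      (Spec.map (Spec.map φ).appTop) := by
    have := isPullback_SpecMap_of_isPushout _ _ _ _ hpo
    simpa only [Scheme.Hom.appTop, Scheme.Hom.app_eq_appLE, Scheme.Hom.preimage_top] using this
  have hB : IsPullback pY (Y'.toSpecΓ ≫ Spec.map pX.appTop) (Y.toSpecΓ ≫ Spec.map g.appTop)
      (Spec.map (Spec.map φ).appTop) := by
    refine H.of_iso (Iso.refl _) (Iso.refl _) (Spec S).isoSpec (Spec R).isoSpec (by simp) ?_ ?_ ?_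
    · simp [Y', Scheme.toSpecΓ_naturality]
    · simp [Scheme.toSpecΓ_naturality]
    · simp [Scheme.toSpecΓ_naturality]
  have hC : IsPullback pY Y'.toSpecΓ Y.toSpecΓ (Spec.map pY.appTop) :=
    IsPullback.of_bot hB (Scheme.toSpecΓ_naturality _) hA
  have hq' : (@Surjective ⊓ @Flat ⊓ @QuasiCompact : MorphismProperty Scheme.{u})
      (Spec.map (Spec.map φ).appTop) := by
    refine (MorphismProperty.arrow_mk_iso_iff _ ?_).1 hQ
    exact Arrow.isoMk (Spec S).isoSpec (Spec R).isoSpec (by simp [Scheme.toSpecΓ_naturality])
  have hq := MorphismProperty.of_isPullback (P := @Surjective ⊓ @Flat ⊓ @QuasiCompact) hA.flip hq'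
  have : IsIso Y.toSpecΓ := MorphismProperty.of_isPullback_of_descendsAlong
    (P := MorphismProperty.isomorphisms Scheme.{u}) hC.flip hq
    (show IsIso Y'.toSpecΓ from inferInstance)
  have : IsAffine Y := ⟨this⟩
  exact isAffineHom_of_isAffine g

instance descends_isIntegralHom :
    DescendsAlong @IsIntegralHom (@Surjective ⊓ @Flat ⊓ @QuasiCompact : MorphismProperty Scheme.{u}) := by
  rw [IsIntegralHom.eq_universallyClosed_inf_isAffineHom]
  infer_instance

instance descends_isFinite :
    DescendsAlong @IsFinite (@Surjective ⊓ @Flat ⊓ @QuasiCompact : MorphismProperty Scheme.{u}) := by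
  have : (@IsFinite : MorphismProperty Scheme.{u}) = (@IsIntegralHom ⊓ @LocallyOfFiniteType : MorphismProperty Scheme.{u}) := by
    ext X Y f
    exact IsFinite.iff_isIntegralHom_and_locallyOfFiniteType f
  rw [this]
  infer_instance

instance descends_isProper :
    DescendsAlong @IsProper (@Surjective ⊓ @Flat ⊓ @QuasiCompact : MorphismProperty Scheme.{u}) := by
  rw [isProper_eq]
  infer_instance

instance descends_locallyQuasiFinite :
    DescendsAlong (@LocallyQuasiFinite ⊓ @LocallyOfFiniteType : MorphismProperty Scheme.{u})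
      (@Surjective ⊓ @Flat ⊓ @QuasiCompact : MorphismProperty Scheme.{u}) := by
  refine IsZariskiLocalAtTarget.descendsAlong _ _ fun {R X Y} f g hf h => ?_
  have hft : LocallyOfFiniteType g :=
    of_pullback_fst_of_descendsAlong (P := @LocallyOfFiniteType) hf h.2
  have : LocallyQuasiFinite (pullback.fst f g) := h.1
  refine ⟨(IsZariskiLocalAtSource.iff_of_openCover (P := @LocallyQuasiFinite) Y.affineCover).2
    fun i => ?_, hft⟩
  let k := Y.affineCover.f i ≫ g
  have hk : LocallyQuasiFinite (pullback.fst f k) := by
    rw [show pullback.fst f k = pullback.map f k f g (𝟙 _) (Y.affineCover.f i) (𝟙 _) (by simp) (by simp [k]) ≫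
      pullback.fst f g by rw [pullback.lift_fst, Category.comp_id]]
    infer_instance
  have : QuasiCompact k := (quasiCompact_iff_compactSpace k).2 inferInstance
  change LocallyQuasiFinite k
  rw [locallyQuasiFinite_iff_finite_preimage_singleton]
  intro z
  have : Surjective f := hf.1.1
  obtain ⟨x, hx⟩ := f.surjective z
  refine (((pullback.fst f k).finite_preimage_singleton x).image (pullback.snd f k)).subset fun y hy => ?_
  obtain ⟨t, ht₁, ht₂⟩ := Scheme.Pullback.exists_preimage_pullback x y (hx.trans hy.symm)
  exact ⟨t, ht₁, ht₂⟩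

end Groth.Agent.FpqcDescent

namespace Groth.Agent.FpqcDescent

/-- fppf locality on the target from Zariski locality and descent. -/
theorem isLocalAtTarget_fppf (P : MorphismProperty Scheme.{u}) [P.IsStableUnderBaseChange]
    [IsZariskiLocalAtTarget P] [P.DescendsAlong (@Surjective ⊓ @Flat ⊓ @QuasiCompact)] :
    P.IsLocalAtTarget Scheme.fppfPrecoverage where
  __ := MorphismProperty.IsStableUnderBaseChange.respectsIso (P := P)
  pullbackSnd _ _ hf := MorphismProperty.pullback_snd _ _ hf
  of_forall_pullbackSnd {T X f R} hR h := by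
    obtain ⟨hs, hp⟩ := hR
    have hs' : ∀ t : T, ∃ (U : Scheme.{u}) (g : U ⟶ T), R g ∧ t ∈ Set.range g := by
      intro t
      obtain ⟨U, g, hg, ht⟩ := hs t
      obtain ⟨hg'⟩ := hg
      exact ⟨_, _, hg', ht⟩
    choose U g hg ht using hs'
    let d : (∐ U) ⟶ T := Sigma.desc g
    have hi : ∀ t, Sigma.ι U t ≫ d = g t := Sigma.ι_desc g
    have : Flat d := (IsZariskiLocalAtSource.iff_of_openCover (P := @Flat) (sigmaOpenCover _)).2 fun t => by
      change Flat (Sigma.ι U t ≫ d)
      rw [hi]
      exact (hp (hg t)).1
    have : LocallyOfFinitePresentation d :=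
      (IsZariskiLocalAtSource.iff_of_openCover (P := @LocallyOfFinitePresentation) (sigmaOpenCover _)).2
        fun t => by
          change LocallyOfFinitePresentation (Sigma.ι U t ≫ d)
          rw [hi]
          exact (hp (hg t)).2
    have : Surjective d := ⟨fun t => by
      obtain ⟨w, hw⟩ := ht t
      exact ⟨Sigma.ι U t w, by rw [← Scheme.Hom.comp_apply, hi, hw]⟩⟩
    refine MorphismProperty.of_pullback_snd_of_descendsAlong
      (Q := @Surjective ⊓ @Flat ⊓ @LocallyOfFinitePresentation) (g := d)
      ⟨⟨inferInstance, inferInstance⟩, inferInstance⟩ ?_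
    refine IsZariskiLocalAtTarget.of_openCover (sigmaOpenCover _) fun t => ?_
    have sq := (IsPullback.of_hasPullback (pullback.snd f d) (Sigma.ι U t)).paste_horiz
      (IsPullback.of_hasPullback f d)
    rw [hi] at sq
    change P (pullback.snd (pullback.snd f d) (Sigma.ι U t))
    rw [← sq.isoIsPullback_hom_snd _ _ (IsPullback.of_hasPullback f (g t))]
    exact (P.cancel_left_of_respectsIso _ _).2 (h (hg t))

instance local_isClosedImmersion :
    MorphismProperty.IsLocalAtTarget (@IsClosedImmersion : MorphismProperty Scheme.{u})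
      Scheme.fppfPrecoverage := isLocalAtTarget_fppf _

instance local_quasiCompact :
    MorphismProperty.IsLocalAtTarget (@QuasiCompact : MorphismProperty Scheme.{u})
      Scheme.fppfPrecoverage := isLocalAtTarget_fppf _

instance local_quasiSeparated :
    MorphismProperty.IsLocalAtTarget (@QuasiSeparated : MorphismProperty Scheme.{u})
      Scheme.fppfPrecoverage := isLocalAtTarget_fppf _

instance local_isSeparated :
    MorphismProperty.IsLocalAtTarget (@IsSeparated : MorphismProperty Scheme.{u})
      Scheme.fppfPrecoverage := isLocalAtTarget_fppf _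

instance local_lqf :
    MorphismProperty.IsLocalAtTarget (@LocallyQuasiFinite ⊓ @LocallyOfFiniteType : MorphismProperty Scheme.{u})
      Scheme.fppfPrecoverage := isLocalAtTarget_fppf _

instance local_lft :
    MorphismProperty.IsLocalAtTarget (@LocallyOfFiniteType : MorphismProperty Scheme.{u})
      Scheme.fppfPrecoverage := isLocalAtTarget_fppf _

end Groth.Agent.FpqcDescent
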