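import Groth.Agent.Lib.AlgSpFpqc
import Groth.Agent.Lib.FpqcDescent

/-! Diagonals of algebraic spaces and of their morphisms; descent of representable properties. -/

set_option backward.isDefEq.respectTransparency.types false

universe u v

open CategoryTheory CategoryTheory.Limits AlgebraicGeometry Opposite Topology

noncomputable section

namespace Groth.Agent.ASp

open _root_.AlgSp

variable {S : Scheme.{u}} {F G H X Y Z : Sp S}

/-- The fibre product of two maps is the pullback of the diagonal along their product. -/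
theorem isPullback_diag {U V W : Over S} {a : (yon S).obj U ⟶ F} {b : (yon S).obj V ⟶ F}
    {w₁ : W ⟶ U} {w₂ : W ⟶ V} (sq : IsPullback ((yon S).map w₁) ((yon S).map w₂) a b) :
    IsPullback ((yon S).map w₁ ≫ a) ((yon S).map (prod.lift w₁ w₂)) (Limits.diag F)
      (prod.lift ((yon S).map prod.fst ≫ a) ((yon S).map prod.snd ≫ b)) := by
  have hw : ((yon S).map w₁ ≫ a) ≫ Limits.diag F = (yon S).map (prod.lift w₁ w₂) ≫
      prod.lift ((yon S).map prod.fst ≫ a) ((yon S).map prod.snd ≫ b) := by
    apply prod.hom_ext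
    · simp only [Limits.diag, Category.assoc]
      rw [prod.lift_fst, prod.lift_fst, Category.comp_id, ← Functor.map_comp_assoc, prod.lift_fst]
    · simp only [Limits.diag, Category.assoc]
      rw [prod.lift_snd, prod.lift_snd, Category.comp_id, ← Functor.map_comp_assoc, prod.lift_snd, sq.w]
  have c₁ : ∀ s : PullbackCone (Limits.diag F)
      (prod.lift ((yon S).map prod.fst ≫ a) ((yon S).map prod.snd ≫ b)),
      (s.snd ≫ (yon S).map prod.fst) ≫ a = s.fst ∧ (s.snd ≫ (yon S).map prod.snd) ≫ b = s.fst := fun s => by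
    have h₁ := congrArg (fun k => k ≫ prod.fst) s.condition
    have h₂ := congrArg (fun k => k ≫ prod.snd) s.condition
    simp only [Limits.diag, Category.assoc] at h₁ h₂
    rw [prod.lift_fst, prod.lift_fst, Category.comp_id] at h₁
    rw [prod.lift_snd, prod.lift_snd, Category.comp_id] at h₂
    exact ⟨by rw [Category.assoc]; exact h₁.symm, by rw [Category.assoc]; exact h₂.symm⟩
  refine ⟨⟨hw⟩, ⟨PullbackCone.IsLimit.mk hw (fun s => sq.lift (s.snd ≫ (yon S).map prod.fst)
    (s.snd ≫ (yon S).map prod.snd) ((c₁ s).1.trans (c₁ s).2.symm))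
    (fun s => by rw [sq.lift_fst_assoc]; exact (c₁ s).1)
    (fun s => yon_prod_hom_ext
      (by rw [Category.assoc, ← Functor.map_comp, prod.lift_fst, sq.lift_fst])
      (by rw [Category.assoc, ← Functor.map_comp, prod.lift_snd, sq.lift_snd]))
    fun s m _ h₂ => sq.hom_ext ?_ ?_⟩⟩
  · rw [sq.lift_fst, ← h₂, Category.assoc, ← Functor.map_comp, prod.lift_fst]
  · rw [sq.lift_snd, ← h₂, Category.assoc, ← Functor.map_comp, prod.lift_snd]

/-- The square of an atlas is locally surjective onto `F ⨯ F`. -/
theorem isLocallySurjective_prod_atlas {U : Over S} {p : (yon S).obj U ⟶ F} (he : RepWith @Etale p)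
    (hs : RepWith @Surjective p) : Sheaf.IsLocallySurjective
      (prod.lift ((yon S).map (prod.fst (X := U) (Y := U)) ≫ p) ((yon S).map prod.snd ≫ p)) := by
  refine isLocallySurjective_of_sq _ fun T g => ?_
  obtain ⟨V, l₁, c₁, sq₁⟩ := exists_sq he.rep (g ≫ prod.fst)
  obtain ⟨W, l₂, c₂, sq₂⟩ := exists_sq he.rep ((yon S).map c₁ ≫ g ≫ prod.snd)
  have : Etale c₁.left := he.2 _ _ _ sq₁
  have : Surjective c₁.left := hs.2 _ _ _ sq₁
  have : Etale c₂.left := he.2 _ _ _ sq₂
  have : Surjective c₂.left := hs.2 _ _ _ sq₂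
  obtain ⟨m₁, hm₁⟩ := (yon S).map_surjective ((yon S).map c₂ ≫ l₁)
  obtain ⟨m₂, rfl⟩ := (yon S).map_surjective l₂
  refine ⟨W, c₂ ≫ c₁, (yon S).map (prod.lift m₁ m₂), ?_, ?_, ?_, ?_⟩
  · apply prod.hom_ext
    · simp only [Category.assoc]
      rw [prod.lift_fst, ← Functor.map_comp_assoc, prod.lift_fst, hm₁, Category.assoc, sq₁.w,
        Functor.map_comp, Category.assoc]
    · simp only [Category.assoc]
      rw [prod.lift_snd, ← Functor.map_comp_assoc, prod.lift_snd, sq₂.w, Functor.map_comp, Category.assoc]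
  all_goals
    rw [Over.comp_left]
    infer_instance

theorem repWith_diag_mono (hF : Representable (Limits.diag F)) :
    RepWith (MorphismProperty.monomorphisms Scheme.{u}) (Limits.diag F) := by
  refine repWith_of_forall hF fun U V g fst snd sq => ?_
  have : Mono snd := (yon S).mono_of_mono_map sq.mono_snd_of_mono
  change Mono ((Over.forget S).map snd)
  infer_instance

theorem repWith_diag_lft (hF : IsAlgSpace F) : RepWith @LocallyOfFiniteType (Limits.diag F) := by
  obtain ⟨U, p, hpe, hps⟩ := hF.atlas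
  obtain ⟨R, t', s, sq⟩ := exists_sq hpe.rep p
  obtain ⟨t, rfl⟩ := (yon S).map_surjective t'
  have := isLocallySurjective_prod_atlas hpe hps
  refine repWith_of_locallySurjective hF.diag
    (prod.lift ((yon S).map (prod.fst (X := U) (Y := U)) ≫ p) ((yon S).map prod.snd ≫ p))
    (isPullback_diag sq) ((repWith_yon_map_iff _ _).2 ?_)
  have : Etale s.left := hpe.2 _ _ _ sq
  have : LocallyOfFiniteType ((prod.lift t s).left ≫ (prod.snd : U ⨯ U ⟶ U).left) := by
    rw [← Over.comp_left, prod.lift_snd]; infer_instance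
  exact locallyOfFiniteType_of_comp (prod.lift t s).left (prod.snd : U ⨯ U ⟶ U).left

theorem lft_mono_le_lqf : (@LocallyOfFiniteType ⊓ MorphismProperty.monomorphisms Scheme.{u} :
    MorphismProperty Scheme.{u}) ≤ (@LocallyQuasiFinite ⊓ @LocallyOfFiniteType : MorphismProperty Scheme.{u}) := fun A B f ⟨h₁, h₂⟩ => by
  have : LocallyOfFiniteType f := h₁
  have : Mono f := h₂
  exact ⟨inferInstance, h₁⟩

theorem mono_le_isSeparated :
    (MorphismProperty.monomorphisms Scheme.{u}) ≤ @IsSeparated := fun A B f hf => by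
  have : Mono f := hf
  infer_instance

/-- The four standing properties of a monomorphism locally of finite type. -/
def MonoLFT (f : F ⟶ G) : Prop :=
  RepWith (@LocallyOfFiniteType ⊓ MorphismProperty.monomorphisms Scheme.{u}) f

theorem monoLFT_diag (hF : IsAlgSpace F) : MonoLFT (Limits.diag F) :=
  repWith_inf_iff.2 ⟨repWith_diag_lft hF, repWith_diag_mono hF.diag⟩

theorem MonoLFT.props {f : F ⟶ G} (h : MonoLFT f) :
    Representable f ∧ RepWith @LocallyOfFiniteType f ∧
      RepWith (MorphismProperty.monomorphisms Scheme.{u}) f ∧ RepWith @IsSeparated f ∧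
      RepWith (@LocallyQuasiFinite ⊓ @LocallyOfFiniteType) f :=
  ⟨h.rep, (repWith_inf_iff.1 h).1, (repWith_inf_iff.1 h).2,
    repWith_mono mono_le_isSeparated (repWith_inf_iff.1 h).2, repWith_mono lft_mono_le_lqf h⟩

/-- The diagonal of a morphism is a base change of the diagonal of its source. -/
theorem isPullback_diagonal (f : X ⟶ Y) :
    IsPullback (𝟙 X) (pullback.diagonal f) (Limits.diag X)
      (prod.lift (pullback.fst f f) (pullback.snd f f)) := by
  have hw : 𝟙 X ≫ Limits.diag X = pullback.diagonal f ≫ prod.lift (pullback.fst f f) (pullback.snd f f) := by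
    apply prod.hom_ext
    · simp only [Limits.diag, Category.assoc]
      rw [prod.lift_fst, prod.lift_fst, pullback.diagonal_fst, Category.id_comp]
    · simp only [Limits.diag, Category.assoc]
      rw [prod.lift_snd, prod.lift_snd, pullback.diagonal_snd, Category.id_comp]
  refine ⟨⟨hw⟩, ⟨PullbackCone.IsLimit.mk hw (fun s => s.fst) (fun s => Category.comp_id _) (fun s => ?_)
    fun s m h₁ _ => by simpa using h₁⟩⟩
  have h₁ := congrArg (fun k => k ≫ prod.fst) s.condition
  have h₂ := congrArg (fun k => k ≫ prod.snd) s.condition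
  simp only [Limits.diag, Category.assoc] at h₁ h₂
  rw [prod.lift_fst, prod.lift_fst, Category.comp_id] at h₁
  rw [prod.lift_snd, prod.lift_snd, Category.comp_id] at h₂
  apply pullback.hom_ext
  · rw [Category.assoc, pullback.diagonal_fst, Category.comp_id]; exact h₁
  · rw [Category.assoc, pullback.diagonal_snd, Category.comp_id]; exact h₂

theorem monoLFT_diagonal (hX : IsAlgSpace X) (f : X ⟶ Y) : MonoLFT (pullback.diagonal f) :=
  repWith_baseChange (isPullback_diagonal f) (monoLFT_diag hX)

theorem representable_diagonal (hX : IsAlgSpace X) (f : X ⟶ Y) : Representable (pullback.diagonal f) :=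
  (monoLFT_diagonal hX f).rep

@[reassoc]
theorem map_fst {X' Y' : Sp S} {q : X' ⟶ X} {p : X' ⟶ Y'} {f : X ⟶ Y} {g : Y' ⟶ Y}
    (e e' : p ≫ g = q ≫ f) :
    pullback.map p p f f q q g e e' ≫ pullback.fst f f = pullback.fst p p ≫ q :=
  pullback.lift_fst _ _ _

@[reassoc]
theorem map_snd {X' Y' : Sp S} {q : X' ⟶ X} {p : X' ⟶ Y'} {f : X ⟶ Y} {g : Y' ⟶ Y}
    (e e' : p ≫ g = q ≫ f) :
    pullback.map p p f f q q g e e' ≫ pullback.snd f f = pullback.snd p p ≫ q :=
  pullback.lift_snd _ _ _

/-- Base change squares of diagonals. -/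
theorem isPullback_diagonal_map {X' Y' : Sp S} {q : X' ⟶ X} {p : X' ⟶ Y'} {f : X ⟶ Y} {g : Y' ⟶ Y}
    (sq : IsPullback q p f g) :
    IsPullback q (pullback.diagonal p) (pullback.diagonal f) (pullback.map p p f f q q g sq.w.symm sq.w.symm) := by
  have hw : q ≫ pullback.diagonal f =
      pullback.diagonal p ≫ pullback.map p p f f q q g sq.w.symm sq.w.symm := by
    apply pullback.hom_ext <;> simp [map_fst, map_snd]
  have key : ∀ s : PullbackCone (pullback.diagonal f) (pullback.map p p f f q q g sq.w.symm sq.w.symm),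
      (s.snd ≫ pullback.fst p p) ≫ q = s.fst ∧ (s.snd ≫ pullback.snd p p) ≫ q = s.fst := fun s => by
    constructor
    · simpa [map_fst, map_snd] using (s.condition =≫ pullback.fst f f).symm
    · simpa [map_fst, map_snd] using (s.condition =≫ pullback.snd f f).symm
  have heq : ∀ s : PullbackCone (pullback.diagonal f) (pullback.map p p f f q q g sq.w.symm sq.w.symm),
      s.snd ≫ pullback.fst p p = s.snd ≫ pullback.snd p p := fun s =>
    sq.hom_ext ((key s).1.trans (key s).2.symm) (by simp [pullback.condition])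
  refine ⟨⟨hw⟩, ⟨PullbackCone.IsLimit.mk hw (fun s => s.snd ≫ pullback.fst p p) (fun s => (key s).1)
    (fun s => ?_) fun s m _ h₂ => ?_⟩⟩
  · apply pullback.hom_ext
    · simp
    · simp [heq s]
  · rw [← h₂]; simp

/-- A representable property descends along refining families. -/
theorem repWith_of_refines {P : MorphismProperty Scheme.{u}} [P.IsStableUnderBaseChange]
    [IsZariskiLocalAtTarget P] [P.DescendsAlong (@Surjective ⊓ @Flat ⊓ @QuasiCompact)]
    {ι : Type v} {Yi Xi : ι → Sp S} {g : ∀ i, Yi i ⟶ Y} {p : ∀ i, Xi i ⟶ Yi i}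
    {q : ∀ i, Xi i ⟶ X} {f : X ⟶ Y} (hf : Representable f) (hg : Refines Yi g)
    (sq : ∀ i, IsPullback (q i) (p i) f (g i)) (h : ∀ i, RepWith P (p i)) : RepWith P f := by
  refine repWith_of_forall hf fun T V b fst snd hsq => ?_
  refine descend_refines hg snd b fun W d i l _ hl => ?_
  have big := (((yon S).map_isPullback (IsPullback.of_hasPullback snd d))).paste_horiz hsq
  rw [← hl] at big
  exact (h i).2 l _ _ (IsPullback.of_right (by rw [(sq i).lift_fst]; exact big)
    ((sq i).lift_snd ((yon S).map (pullback.fst snd d) ≫ fst) ((yon S).map (pullback.snd snd d) ≫ l)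
      (by rw [big.w, Category.assoc])) (sq i))

/-- A property of the diagonal descends along refining families. -/
theorem repWith_diagonal_of_refines {P : MorphismProperty Scheme.{u}} [P.IsStableUnderBaseChange]
    [IsZariskiLocalAtTarget P] [P.DescendsAlong (@Surjective ⊓ @Flat ⊓ @QuasiCompact)]
    {ι : Type v} {Yi Xi : ι → Sp S} {g : ∀ i, Yi i ⟶ Y} {p : ∀ i, Xi i ⟶ Yi i}
    {q : ∀ i, Xi i ⟶ X} {f : X ⟶ Y} (hX : IsAlgSpace X) (hg : Refines Yi g)
    (sq : ∀ i, IsPullback (q i) (p i) f (g i)) (h : ∀ i, RepWith P (pullback.diagonal (p i))) :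
    RepWith P (pullback.diagonal f) := by
  let m := fun i => pullback.map (p i) (p i) f f (q i) (q i) (g i) (sq i).w.symm (sq i).w.symm
  have sqm : ∀ i, IsPullback (m i) (pullback.fst (p i) (p i) ≫ p i) (pullback.fst f f ≫ f) (g i) := fun i => by
    have hw : m i ≫ pullback.fst f f ≫ f = (pullback.fst (p i) (p i) ≫ p i) ≫ g i := by
      simp [m, map_fst_assoc, (sq i).w]
    refine ⟨⟨hw⟩, ⟨PullbackCone.IsLimit.mk hw (fun s => pullback.lift
      ((sq i).lift (s.fst ≫ pullback.fst f f) s.snd (by rw [Category.assoc]; exact s.condition))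
      ((sq i).lift (s.fst ≫ pullback.snd f f) s.snd
        (by rw [Category.assoc, ← pullback.condition]; exact s.condition))
      (by rw [IsPullback.lift_snd, IsPullback.lift_snd])) (fun s => ?_) (fun s => ?_) fun s k h₁ h₂ => ?_⟩⟩
    · apply pullback.hom_ext
      · simp only [m, Category.assoc, map_fst]
        rw [pullback.lift_fst_assoc, IsPullback.lift_fst]
      · simp only [m, Category.assoc, map_snd]
        rw [pullback.lift_snd_assoc, IsPullback.lift_fst]
    · rw [pullback.lift_fst_assoc, IsPullback.lift_snd]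
    · apply pullback.hom_ext
      · rw [pullback.lift_fst]
        apply (sq i).hom_ext
        · rw [IsPullback.lift_fst, ← h₁]
          simp only [m, Category.assoc, map_fst]
        · rw [IsPullback.lift_snd, ← h₂, Category.assoc]
      · rw [pullback.lift_snd]
        apply (sq i).hom_ext
        · rw [IsPullback.lift_fst, ← h₁]
          simp only [m, Category.assoc, map_snd]
        · rw [IsPullback.lift_snd, ← h₂, Category.assoc, ← pullback.condition]
  refine repWith_of_refines (representable_diagonal hX f)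
    (hg.baseChange (pullback.fst f f ≫ f) m _ sqm) (fun i => isPullback_diagonal_map (sq i)) h

end Groth.Agent.ASp
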