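import Groth.Agent.Lib.AlgSpAffineGlobal
import Groth.Agent.Lib.AlgSpLocalRows
import Groth.Agent.Lib.AlgSpRep
import Mathlib.Topology.LocallyClosed

/-! Immersions descend along universally open coverings. -/

set_option autoImplicit false
set_option backward.isDefEq.respectTransparency.types false

universe u v

open CategoryTheory CategoryTheory.Limits AlgebraicGeometry Opposite Topology

noncomputable section

namespace Groth.Agent.ASp

open _root_.AlgSp

variable {S : Scheme.{u}} {X Y F : Sp S}

theorem range_map_yon {U V : Over S} (c : U ⟶ V) :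
    Set.range (Points.map ((yon S).map c)) = Points.schemeHomeo V '' Set.range c.left := by
  ext y
  constructor
  · rintro ⟨x, rfl⟩
    obtain ⟨t, rfl⟩ := (Points.schemeHomeo U).surjective x
    exact ⟨c.left t, ⟨t, rfl⟩, (Points.map_yon_map_apply c t).symm⟩
  · rintro ⟨_, ⟨t, rfl⟩, rfl⟩
    exact ⟨Points.schemeHomeo U t, Points.map_yon_map_apply c t⟩

/-- Being an immersion into a scheme descends along open coverings. -/
theorem repWith_immersion_of_open_cover (hF : IsAlgSpace F) {T : Over S} (π : F ⟶ (yon S).obj T)
    {ι : Type v} {V : ι → Over S} (c : ∀ i, V i ⟶ T) (huo : ∀ i, UniversallyOpen (c i).left)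
    (hflat : ∀ i, Flat (c i).left) (hcov : ∀ t : ↥T.left, ∃ i, t ∈ Set.range (c i).left)
    (h : ∀ i, RepWith @IsImmersion (pullback.snd π ((yon S).map (c i)))) : RepWith @IsImmersion π := by
  have hopen : ∀ i, IsOpenMap (c i).left := fun i => have := huo i; (c i).left.isOpenMap
  let R : Set ↥T.left := Points.schemeHomeo T ⁻¹' Set.range (Points.map π)
  have hR : ∀ i, (c i).left ⁻¹' R =
      Points.schemeHomeo (V i) ⁻¹' Set.range (Points.map (pullback.snd π ((yon S).map (c i)))) := by
    intro i
    ext v
    constructor
    · rintro ⟨x, hx⟩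
      obtain ⟨y, hy, -⟩ := exists_of_isPullback (IsPullback.of_hasPullback π ((yon S).map (c i))).flip
        (Points.schemeHomeo _ v) x (by rw [hx, Points.map_yon_map_apply])
      exact ⟨y, hy⟩
    · rintro ⟨y, hy⟩
      refine ⟨Points.map (pullback.fst π ((yon S).map (c i))) y, ?_⟩
      rw [← Points.map_comp, pullback.condition, Points.map_comp, hy, Points.map_yon_map_apply]
  have hlc : ∀ i, IsLocallyClosed ((c i).left ⁻¹' R) := fun i => by
    rw [hR i]
    exact (isLocallyClosed_range_of_immersion (IsAlgSpace.yon_obj _) (h i)).preimage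
      (Points.schemeHomeo (V i)).continuous
  have hO : IsOpen (coborder R) := by
    rw [isOpen_iff_mem_nhds]
    intro t ht
    obtain ⟨i, v, rfl⟩ := hcov t
    have hi : IsOpen ((c i).left ⁻¹' coborder R) := by
      rw [← coborder_preimage (hopen i) (c i).left.continuous]
      exact (hlc i).isOpen_coborder
    exact Filter.mem_of_superset ((hopen i _ hi).mem_nhds ⟨v, ht, rfl⟩) (Set.image_preimage_subset _ _)
  let O : T.left.Opens := ⟨coborder R, hO⟩
  let o : Over.mk (O.ι ≫ T.hom) ⟶ T := Over.homMk O.ι
  have ho : RepWith @IsOpenImmersion ((yon S).map o) :=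
    (repWith_yon_map_iff _ _).2 (inferInstanceAs (IsOpenImmersion O.ι))
  have : Mono o := (Over.forget S).mono_of_mono_map (inferInstanceAs (Mono O.ι))
  have : Mono ((yon S).map o) := inferInstance
  obtain ⟨π', hπ'⟩ := exists_factor_of_range ho π (by
    rw [range_map_yon]
    rintro _ ⟨x, rfl⟩
    obtain ⟨t, ht⟩ := (Points.schemeHomeo T).surjective (Points.map π x)
    refine ⟨t, ?_, ht⟩
    change t ∈ Set.range O.ι
    rw [Scheme.Opens.range_ι]
    exact subset_coborder (show t ∈ R from ⟨x, ht.symm⟩))
  let W : ι → Over S := fun i => pullback o (c i)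
  let d : ∀ i, W i ⟶ Over.mk (O.ι ≫ T.hom) := fun i => pullback.fst o (c i)
  have hcl : ∀ i, RepWith @IsClosedImmersion (pullback.snd π' ((yon S).map (d i))) := fun i => by
    have sqd : IsPullback ((yon S).map (pullback.snd o (c i))) ((yon S).map (d i))
        ((yon S).map (c i)) ((yon S).map o) :=
      ((yon S).map_isPullback (IsPullback.of_hasPullback o (c i))).flip
    have big : IsPullback (pullback.fst π' ((yon S).map (d i))) (pullback.snd π' ((yon S).map (d i)))
        π ((yon S).map (d i) ≫ (yon S).map o) := by
      have h2 : IsPullback ((yon S).map (d i)) (𝟙 _) ((yon S).map o) ((yon S).map (d i) ≫ (yon S).map o) :=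
        IsPullback.of_vert_isIso_mono ⟨by simp⟩
      have h1 := (IsPullback.of_hasPullback π' ((yon S).map (d i))).paste_vert h2
      rwa [Category.comp_id, hπ'] at h1
    rw [← sqd.w] at big
    let P := pullback π ((yon S).map (c i))
    let l : pullback π' ((yon S).map (d i)) ⟶ P := pullback.lift _
      (pullback.snd π' ((yon S).map (d i)) ≫ (yon S).map (pullback.snd o (c i)))
      (by rw [big.w, Category.assoc])
    have hsm : IsPullback l (pullback.snd π' ((yon S).map (d i))) (pullback.snd π ((yon S).map (c i)))
        ((yon S).map (pullback.snd o (c i))) :=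
      IsPullback.of_right (by rw [pullback.lift_fst]; exact big) (pullback.lift_snd _ _ _)
        (IsPullback.of_hasPullback _ _)
    have him := repWith_baseChange hsm (h i)
    refine (repWith_isClosedImmersion_iff (IsAlgSpace.yon_obj _) him).2 ?_
    have : Set.range (Points.map (pullback.snd π' ((yon S).map (d i)))) =
        (Points.schemeHomeo (W i)).symm ⁻¹' ((d i).left ⁻¹' (O.ι ⁻¹' R)) := by
      ext y
      obtain ⟨w, rfl⟩ := (Points.schemeHomeo (W i)).surjective y
      simp only [Set.mem_preimage, Homeomorph.symm_apply_apply]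
      constructor
      · rintro ⟨p, hp⟩
        refine ⟨Points.map (pullback.fst π' ((yon S).map (d i))) p, ?_⟩
        rw [← Points.map_comp, ← hπ', pullback.condition_assoc, Points.map_comp, hp,
          ← Functor.map_comp, Points.map_yon_map_apply]
        rfl
      · rintro ⟨x, hx⟩
        obtain ⟨p, hp, -⟩ := exists_of_isPullback big.flip (Points.schemeHomeo (W i) w) x (by
          rw [hx, sqd.w, ← Functor.map_comp, Points.map_yon_map_apply]; rfl)
        exact ⟨p, hp⟩
    rw [this]
    exact ((isClosed_preimage_val_coborder (s := R)).preimage (d i).left.continuous).preimage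
      (Points.schemeHomeo (W i)).symm.continuous
  have hπ'c : RepWith @IsClosedImmersion π' := by
    refine repWith_of_refines_affine closedImmersion_le_affineHom hF (IsAlgSpace.yon_obj _) ?_ _ _
      (fun i => IsPullback.of_hasPullback π' ((yon S).map (d i))) hcl
    intro Z hZ b
    obtain ⟨k, rfl⟩ := (yon S).map_surjective b
    have hsq : ∀ i, IsPullback (pullback.snd k (d i) ≫ pullback.snd o (c i)).left (pullback.fst k (d i)).left
        (c i).left (k ≫ o).left := fun i =>
      (((IsPullback.of_hasPullback k (d i)).paste_vert (IsPullback.of_hasPullback o (c i))).flip.map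
        (Over.forget S))
    obtain ⟨m, W', e, hW', hfl, hcv, hl⟩ := exists_std_of_open (fun i => pullback k (d i))
      (fun i => pullback.fst k (d i))
      (fun i => MorphismProperty.of_isPullback (P := @Flat) (hsq i) (hflat i))
      (fun i => by
        have : UniversallyOpen (pullback.fst k (d i)).left :=
          MorphismProperty.of_isPullback (P := @UniversallyOpen) (hsq i) (huo i)
        exact (pullback.fst k (d i)).left.isOpenMap)
      (fun z => by
        obtain ⟨i, v, hv⟩ := hcov ((k ≫ o).left z)
        obtain ⟨p, -, hp⟩ := Scheme.exists_preimage_of_isPullback (hsq i) v z hv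
        exact ⟨i, p, hp⟩)
    refine ⟨m, W', e, hW', hfl, hcv, fun j => ?_⟩
    obtain ⟨i, n, hn⟩ := hl j
    exact ⟨i, (yon S).map (n ≫ pullback.snd k (d i)), by
      rw [← Functor.map_comp, ← Functor.map_comp, Category.assoc, ← pullback.condition, reassoc_of% hn]⟩
  rw [← hπ']
  exact repWith_comp (repWith_mono closedImmersion_le_immersion hπ'c) (repWith_mono openImmersion_le_immersion ho)

end Groth.Agent.ASp

namespace Groth.Agent.ASp

open _root_.AlgSp

variable {S : Scheme.{u}} {X Y : Sp S}

/-- Immersions descend along universally open flat charts covering the target. -/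
theorem repWith_immersion_of_charts (hX : IsAlgSpace X) (hY : IsAlgSpace Y) (f : X ⟶ Y) {ι : Type v}
    {U : ι → Over S} (g : ∀ i, (yon S).obj (U i) ⟶ Y) (hfl : ∀ i, RepWith @Flat (g i))
    (huo : ∀ i, RepWith @UniversallyOpen (g i)) (hcov : ∀ y : Points Y, ∃ i, y ∈ Set.range (Points.ofPt (g i)))
    {Xi : ι → Sp S} (q : ∀ i, Xi i ⟶ X) (p : ∀ i, Xi i ⟶ (yon S).obj (U i))
    (sq : ∀ i, IsPullback (q i) (p i) f (g i)) (h : ∀ i, RepWith @IsImmersion (p i)) :
    RepWith @IsImmersion f := by
  refine repWith_of_exists fun T b => ?_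
  choose V fst c sqV using fun i => exists_sq (hfl i).rep b
  have him : RepWith @IsImmersion (pullback.snd f b) := by
    refine repWith_immersion_of_open_cover (isAlgSpace_pullback f b hX (IsAlgSpace.yon_obj T) hY) _ c
      (fun i => (huo i).2 b (fst i) (c i) (sqV i)) (fun i => (hfl i).2 b (fst i) (c i) (sqV i)) (fun t => ?_)
      fun i => ?_
    · obtain ⟨i, u, hu⟩ := hcov (Points.ofPt b t)
      obtain ⟨v, -, hv⟩ := exists_pt_of_sq (sqV i) (Points.ofScheme _ u) t
        (by rw [← Points.ofPt_eq_map_ofScheme]; exact hu)
      exact ⟨i, v, hv⟩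
    · have big := (IsPullback.of_hasPullback (pullback.snd f b) ((yon S).map (c i))).paste_horiz
        (IsPullback.of_hasPullback f b)
      rw [← (sqV i).w] at big
      exact repWith_baseChange (IsPullback.of_right
        (by rw [(sq i).lift_fst]; exact big)
        ((sq i).lift_snd (pullback.fst (pullback.snd f b) ((yon S).map (c i)) ≫ pullback.fst f b)
          (pullback.snd (pullback.snd f b) ((yon S).map (c i)) ≫ fst i) (by rw [big.w, Category.assoc]))
        (sq i)) (h i)
  obtain ⟨W, fstW, sndW, sqW, hs⟩ := exists_sq_prop him (𝟙 _)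
  refine ⟨W, fstW ≫ pullback.fst f b, sndW, ?_, hs⟩
  simpa only [Category.id_comp] using sqW.paste_horiz (IsPullback.of_hasPullback f b)

end Groth.Agent.ASp
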