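import Groth.Agent.Lib.AlgSpVal
import Groth.Agent.Lib.AlgSpImmersion
import Groth.Agent.Lib.AlgSpRep
import Groth.Agent.Lib.AlgSpDiag
import Mathlib.AlgebraicGeometry.ValuativeCriterion
import Mathlib.AlgebraicGeometry.ZariskisMainTheorem

/-! Valuative criteria for universal closedness and separatedness of morphisms of algebraic spaces. -/

set_option autoImplicit false
set_option backward.isDefEq.respectTransparency.types false

universe u v

open CategoryTheory CategoryTheory.Limits AlgebraicGeometry Opposite Topology IsLocalRing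

noncomputable section

namespace Groth.Agent.ASp

open _root_.AlgSp

variable {S : Scheme.{u}} {X Y : Sp S}

theorem isClosed_image_of_stable {A B : Scheme.{u}} [IsAffine A] [IsAffine B] (f : A ⟶ B) {C : Set A}
    (hC : IsClosed C) (h : StableUnderSpecialization (f '' C)) : IsClosed (f '' C) := by
  let eA := TopCat.homeoOfIso (Scheme.forgetToTop.mapIso A.isoSpec)
  let eB := TopCat.homeoOfIso (Scheme.forgetToTop.mapIso B.isoSpec)
  have hcomm : ∀ a, eB (f a) = Spec.map f.appTop (eA a) := fun a =>
    (congrArg (fun g => g a) (Scheme.isoSpec_hom_naturality f)).symm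
  have himg : Spec.map f.appTop '' (eA '' C) = eB '' (f '' C) := by
    rw [Set.image_image, Set.image_image]; exact Set.image_congr' fun a => (hcomm a).symm
  have h1 : StableUnderSpecialization (Spec.map f.appTop '' (eA '' C)) := by
    rw [himg]
    intro x y hxy hx
    obtain ⟨b, hb, rfl⟩ := hx
    refine ⟨eB.symm y, h ?_ hb, eB.apply_symm_apply y⟩
    simpa using hxy.map eB.symm.continuous
  have h2 := PrimeSpectrum.isClosed_image_of_stableUnderSpecialization f.appTop.hom (eA '' C)
    (eA.isClosedMap _ hC) h1
  rw [show PrimeSpectrum.comap f.appTop.hom '' (eA '' C) = eB '' (f '' C) from himg] at h2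
  exact eB.isClosed_image.1 h2

/-- Quasi-compact morphisms satisfying the existence criterion are universally closed. -/
theorem isUnivClosedMor_of_existVC (hX : IsAlgSpace X) (hY : IsAlgSpace Y) {f : X ⟶ Y}
    (hq : IsQuasiCompactMor f) (he : ExistVC f) : IsUnivClosedMor f := by
  refine univSp_of_affine descendsRefines_closed fun Z hZ g P fst snd sq => ?_
  have hP : IsAlgSpace P := isAlgSpace_of_isPullback hY.diag sq hX (IsAlgSpace.yon_obj Z)
  have hqP : IsQuasiCompactSp P :=
    hq (IsAlgSpace.yon_obj Z) (isQuasiCompactSp_yon (show CompactSpace Z.left from inferInstance)) g fst snd sq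
  have := compactSpace_points hqP
  obtain ⟨W, p, hW, hpe, hps⟩ := exists_affine_chart_of_compact hP
  obtain ⟨ε, hε⟩ := (yon S).map_surjective (p ≫ snd)
  have hv := existVC_baseChange sq he
  intro A hA
  let C : Set ↥W.left := Points.ofPt p ⁻¹' A
  have hC : IsClosed C := hA.preimage (Points.continuous_ofPt p)
  have himg : Points.map snd '' A = Points.schemeHomeo Z '' (ε.left '' C) := by
    ext y
    constructor
    · rintro ⟨a, ha, rfl⟩
      obtain ⟨w, rfl⟩ := surjective_ofPt_of_repWith hps a
      refine ⟨ε.left w, ⟨w, ha, rfl⟩, ?_⟩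
      rw [← Points.map_yon_map_apply, hε, Points.map_comp, Points.ofPt_eq_map_ofScheme]; rfl
    · rintro ⟨_, ⟨w, hw, rfl⟩, rfl⟩
      refine ⟨Points.ofPt p w, hw, ?_⟩
      rw [← Points.map_yon_map_apply, hε, Points.map_comp, Points.ofPt_eq_map_ofScheme]; rfl
  rw [himg]
  refine (Points.schemeHomeo Z).isClosedMap _ (isClosed_image_of_stable ε.left hC ?_)
  rintro _ z' h ⟨w, hw, rfl⟩
  let φ : Z.left.presheaf.stalk z' ⟶ W.left.residueField w :=
    Z.left.presheaf.stalkSpecializes h ≫ ε.left.stalkMap w ≫ W.left.residue w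
  obtain ⟨R, hR, hRloc⟩ := exists_factor_valuationRing φ.hom
  let ψ : Z.left.presheaf.stalk z' ⟶ CommRingCat.of R := CommRingCat.ofHom (φ.hom.codRestrict _ hR)
  let sA : Spec (CommRingCat.of R) ⟶ S := Spec.map ψ ≫ Z.left.fromSpecStalk z' ≫ Z.hom
  let sK : Spec (CommRingCat.of (W.left.residueField w)) ⟶ S := W.left.fromSpecResidueField w ≫ W.hom
  have hcomm : W.left.fromSpecResidueField w ≫ ε.left =
      Spec.map (CommRingCat.ofHom (algebraMap R (W.left.residueField w))) ≫ Spec.map ψ ≫ Z.left.fromSpecStalk z' := by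
    rw [Scheme.fromSpecResidueField, Category.assoc, ← Scheme.SpecMap_stalkMap_fromSpecStalk,
      ← Scheme.SpecMap_stalkSpecializes_fromSpecStalk h]
    simp_rw [← Spec.map_comp_assoc]
    rfl
  have hK : Spec.map (CommRingCat.ofHom (algebraMap R (W.left.residueField w))) ≫ sA = sK := by
    simp only [sA, sK]
    rw [← Over.w ε, ← Category.assoc (W.left.fromSpecResidueField w), hcomm]
    simp
  let tW : specOver sK ⟶ W := Over.homMk (W.left.fromSpecResidueField w)
  let bZ : specOver sA ⟶ Z := Over.homMk (Spec.map ψ ≫ Z.left.fromSpecStalk z') (by simp [sA])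
  obtain ⟨A', K', _, _, _, _, _, _, φ', ψ', hc', hl', sA', sK', hφ, hψ, hK', l, h₁, h₂⟩ :=
    existVC_apply hv sA sK hK ((yon S).map tW ≫ p) ((yon S).map bZ) (by
      rw [Category.assoc, ← hε, ← Functor.map_comp, ← Functor.map_comp]
      congr 1
      exact Over.OverMorphism.ext hcomm)
  let η : ↥(specOver sA').left := (specMap (algebraMap A' K') sA' sK' hK').left (IsLocalRing.closedPoint K')
  let c : ↥(specOver sA').left := IsLocalRing.closedPoint A'
  have hspec : Points.ofPt l η ⤳ Points.ofPt l c :=
    (IsLocalRing.specializes_closedPoint (η : PrimeSpectrum A')).map (Points.continuous_ofPt l)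
  have hη : Points.ofPt l η = Points.ofPt p w := by
    rw [← ofPt_yon_map_comp, h₁, ofPt_yon_map_comp, ofPt_yon_map_comp]
    congr 1
    exact Scheme.fromSpecResidueField_apply _ _
  have hcA : Points.ofPt l c ∈ A := hspec.mem_closed hA (by rw [hη]; exact hw)
  obtain ⟨w', hw'⟩ := surjective_ofPt_of_repWith hps (Points.ofPt l c)
  refine ⟨w', show Points.ofPt p w' ∈ A by rw [hw']; exact hcA, ?_⟩
  have e1 : Points.map snd (Points.ofPt l c) = Points.schemeHomeo Z z' := by
    rw [Points.map_ofPt, h₂, ← Functor.map_comp]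
    have e2 : (specMap φ' sA sA' hφ ≫ bZ).left c = z' := by
      change Z.left.fromSpecStalk z' ((Spec.map ψ) ((Spec.map (CommRingCat.ofHom φ')) (closedPoint A'))) = z'
      rw [show (Spec.map (CommRingCat.ofHom φ')) (closedPoint A') = closedPoint R from comap_closedPoint (S := A') φ',
        show (Spec.map ψ) (closedPoint R) = closedPoint (Z.left.presheaf.stalk z') from
          comap_closedPoint (S := R) (φ.hom.codRestrict R.toSubring hR)]
      exact Scheme.fromSpecStalk_closedPoint
    rw [Points.ofPt_eq_map_ofScheme]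
    exact (Points.map_yon_map_apply _ c).trans (congrArg _ e2)
  apply (Points.schemeHomeo Z).injective
  rw [← e1, ← hw', ← Points.map_yon_map_apply, hε, Points.map_comp, Points.ofPt_eq_map_ofScheme]
  rfl

/-- Quasi-separated morphisms satisfying the uniqueness criterion are separated. -/
theorem isSeparatedMor_of_uniqVC (hX : IsAlgSpace X) {f : X ⟶ Y}
    (hqs : IsQuasiSeparatedMor f) (hu : UniqVC f) : IsSeparatedMor f := by
  obtain ⟨-, hlft, hmono, hsep, -⟩ := (monoLFT_diagonal hX f).props
  refine repWith_of_forall hmono.rep fun T W b fst snd sq => ?_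
  have : Mono snd.left := hmono.2 b fst snd sq
  have : LocallyOfFiniteType snd.left := hlft.2 b fst snd sq
  have : QuasiCompact snd.left := hqs.2 b fst snd sq
  have : IsSeparated snd.left := hsep.2 b fst snd sq
  have hev : ValuativeCriterion.Existence snd.left := by
    intro q
    let sA : Spec (CommRingCat.of q.R) ⟶ S := q.i₂ ≫ T.hom
    let sK : Spec (CommRingCat.of q.K) ⟶ S := q.i₁ ≫ W.hom
    have hK : Spec.map (CommRingCat.ofHom (algebraMap q.R q.K)) ≫ sA = sK := by
      simp only [sA, sK, ← Over.w snd]
      rw [← Category.assoc, ← q.commSq.w, Category.assoc]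
    let a₁ : specOver sK ⟶ W := Over.homMk q.i₁
    let a₂ : specOver sA ⟶ T := Over.homMk q.i₂
    let e : specOver sK ⟶ specOver sA := specMap (algebraMap q.R q.K) sA sK hK
    have he : e ≫ a₂ = a₁ ≫ snd := Over.OverMorphism.ext q.commSq.w.symm
    let m := (yon S).map a₂ ≫ b
    have hm : (yon S).map e ≫ m = ((yon S).map a₁ ≫ fst) ≫ pullback.diagonal f := by
      rw [Category.assoc, sq.w, ← Functor.map_comp_assoc, ← Functor.map_comp_assoc, he]
    have hlift : m ≫ pullback.fst f f = m ≫ pullback.snd f f := by
      refine uniqVC_apply (K := q.K) hu sA sK hK _ _ ?_ ?_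
      · rw [← Category.assoc, hm, ← Category.assoc, hm]; simp
      · simp [m, pullback.condition]
    obtain ⟨n, hn⟩ := (yon S).map_surjective (sq.lift (m ≫ pullback.fst f f) ((yon S).map a₂) (by
      apply pullback.hom_ext <;> simp [m, hlift]))
    have hn₂ : n ≫ snd = a₂ := (yon S).map_injective (by rw [Functor.map_comp, hn, sq.lift_snd])
    refine ⟨⟨⟨n.left, ?_, congrArg CommaMorphism.left hn₂⟩⟩⟩
    refine congrArg CommaMorphism.left (show e ≫ n = a₁ from (yon S).map_injective (sq.hom_ext ?_ ?_))
    · rw [Functor.map_comp, Category.assoc, hn, sq.lift_fst, ← Category.assoc, hm]; simp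
    · rw [← Functor.map_comp, ← Functor.map_comp, Category.assoc, hn₂, he]
  have : UniversallyClosed snd.left := UniversallyClosed.of_valuativeCriterion _ hev
  exact (IsClosedImmersion.iff_isProper_and_mono _).2 ⟨{ }, ‹_›⟩

end Groth.Agent.ASp

namespace Groth.Agent.ASp

open _root_.AlgSp

variable {S : Scheme.{u}} {X Y : Sp S} {f : X ⟶ Y}

/-- A universally closed diagonal is a closed immersion. -/
theorem isSeparatedMor_of_univClosed_diagonal (hX : IsAlgSpace X)
    (h : IsUnivClosedMor (pullback.diagonal f)) : IsSeparatedMor f := by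
  obtain ⟨hrep, hlft, hmono, hsep, -⟩ := (monoLFT_diagonal hX f).props
  have hc := (repWith_universallyClosed_iff hrep).2 h
  refine repWith_of_forall hrep fun T W b fst snd sq => ?_
  have : Mono snd.left := hmono.2 b fst snd sq
  have : LocallyOfFiniteType snd.left := hlft.2 b fst snd sq
  have : UniversallyClosed snd.left := hc.2 b fst snd sq
  have : IsSeparated snd.left := hsep.2 b fst snd sq
  exact (IsClosedImmersion.iff_isProper_and_mono _).2 ⟨{ }, ‹_›⟩

end Groth.Agent.ASp
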