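import Groth.Agent.Lib.AlgSpClosedPoly
import Groth.Agent.Lib.AlgSpVCQS
import Groth.Agent.Lib.AlgSpValCrit
import Groth.Agent.Lib.AlgSpLocalRows
import Groth.Agent.Lib.H6.DVRVal2
import Groth.Agent.Lib.H6.DVRDom3
/-! Valuative criteria tested on discrete valuation rings, for finite type morphisms over locally Noetherian spaces. -/

set_option autoImplicit false
set_option linter.style.haveILetI false
set_option linter.unusedVariables false
set_option backward.isDefEq.respectTransparency.types false

universe u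

open CategoryTheory CategoryTheory.Limits AlgebraicGeometry Opposite Topology IsLocalRing

noncomputable section

namespace Groth.Agent.ASp

open _root_.AlgSp

variable {S : Scheme.{u}} {X Y : Sp S}

/-- The existence hypothesis on discrete valuation rings, unpacked. -/
theorem dvr_apply {f : X ⟶ Y} (h : ∀ sq : ValSq f, IsDiscreteValuationRing sq.A → sq.HasLiftExt)
    {A K : Type u} [CommRing A] [IsDomain A] [ValuationRing A] (hA : IsDiscreteValuationRing A)
    [Field K] [Algebra A K] [IsFractionRing A K] (sA : Spec (.of A) ⟶ S)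
    (sK : Spec (.of K) ⟶ S) (hK : Spec.map (CommRingCat.ofHom (algebraMap A K)) ≫ sA = sK)
    (top : (yon S).obj (specOver sK) ⟶ X) (bot : (yon S).obj (specOver sA) ⟶ Y)
    (comm : top ≫ f = (yon S).map (specMap (algebraMap A K) sA sK hK) ≫ bot) :
    LiftExt f top bot := by
  subst hK
  obtain ⟨e, l, h₁, h₂⟩ := h ⟨A, K, sA, top, bot, comm⟩ hA
  exact ⟨e.A', e.K', e.commRing, e.isDomain, e.valuationRing, e.field, e.algebra, e.isFractionRing,
    e.φ, e.ψ, e.comm, e.isLocalHom, _, _, rfl, _, rfl, l, h₁, h₂⟩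

theorem hasLiftExt_of_hasLift {f : X ⟶ Y} (sq : ValSq f) (h : sq.HasLift) : sq.HasLiftExt := by
  obtain ⟨l, h1, h2⟩ := h
  let e : sq.DomExt :=
    { A' := sq.A, K' := sq.K, φ := RingHom.id _, ψ := RingHom.id _, comm := rfl,
      isLocalHom := ⟨fun a ha => ha⟩ }
  refine ⟨e, (yon S).map (Over.homMk (U := e.ptA') (V := sq.ptA) (Spec.map (CommRingCat.ofHom e.φ)) rfl) ≫ l, ?_, ?_⟩
  · rw [← h1, ← Functor.map_comp_assoc, ← Functor.map_comp_assoc]
    congr 2
    apply Over.OverMorphism.ext
    change Spec.map _ ≫ Spec.map _ = Spec.map _ ≫ Spec.map _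
    rw [← Spec.map_comp, ← Spec.map_comp]
    rfl
  · rw [Category.assoc, h2]

/-- A specialization under a morphism of finite type is realized by a discrete valuation ring. -/
theorem exists_dvr_of_specializes {W Z : Scheme.{u}} [IsLocallyNoetherian Z] (ε : W ⟶ Z) [LocallyOfFiniteType ε]
    (w : W) {z : Z} (h : ε w ⤳ z) (hne : ε w ≠ z) :
    ∃ (A : ValuationSubring (W.residueField w)) (_ : IsDiscreteValuationRing A) (g : Spec (CommRingCat.of A) ⟶ Z),
      g (IsLocalRing.closedPoint A) = z ∧
        Spec.map (CommRingCat.ofHom A.subtype) ≫ g = W.fromSpecResidueField w ≫ ε := by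
  obtain ⟨A, hA, g, hg₁, hg₂⟩ := H6.DVRDom.exists_dvr_pair h hne (W.residueField w) (ε.residueFieldMap w)
    (H6.DVRVal.residueFieldMap_essFiniteType ε w)
  exact ⟨A, hA, g, hg₁, hg₂.trans (Scheme.Hom.SpecMap_residueFieldMap_fromSpecResidueField ε w)⟩

theorem closedMap_of_dvr (hX : IsAlgSpace X) (hY : IsAlgSpace Y) {f : X ⟶ Y} (hft : IsFiniteTypeMor f)
    (H : ∀ sq : ValSq f, IsDiscreteValuationRing sq.A → sq.HasLiftExt) {Z : Over S} [IsAffine Z.left]
    [IsLocallyNoetherian Z.left] (g : (yon S).obj Z ⟶ Y) {P : Sp S} (fst : P ⟶ X) (snd : P ⟶ (yon S).obj Z)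
    (sq : IsPullback fst snd f g) : IsClosedMap (Points.map snd) := by
  have hP : IsAlgSpace P := isAlgSpace_of_isPullback hY.diag sq hX (IsAlgSpace.yon_obj Z)
  have hqP : IsQuasiCompactSp P :=
    hft.2 (IsAlgSpace.yon_obj Z) (isQuasiCompactSp_yon (show CompactSpace Z.left from inferInstance)) g fst snd sq
  have := compactSpace_points hqP
  obtain ⟨W, p, hW, hpe, hps⟩ := exists_affine_chart_of_compact hP
  obtain ⟨ε, hε⟩ := (yon S).map_surjective (p ≫ snd)
  haveI := hW
  haveI : LocallyOfFiniteType ε.left :=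
    (locP_baseChange (P := @LocallyOfFiniteType) hX hY (IsAlgSpace.yon_obj Z) sq hft.1) p (𝟙 _) ε hpe
      (repWith_id _ Z) (by rw [Category.comp_id]; exact hε.symm)
  intro A hA
  let C : Set ↥W.left := Points.ofPt p ⁻¹' A
  have hC : IsClosed C := hA.preimage (Points.continuous_ofPt p)
  have himg : Points.map snd '' A = Points.schemeHomeo Z '' (ε.left '' C) := by
    ext y
    constructor
    · rintro ⟨a, ha, rfl⟩
      obtain ⟨w, rfl⟩ := surjective_ofPt_of_repWith hps a
      refine ⟨ε.left w, ⟨w, ha, rfl⟩, ?_⟩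
      rw [← Points.map_yon_map_apply, hε, Points.map_comp, Points.ofPt_eq_map_ofScheme]; rfl
    · rintro ⟨_, ⟨w, hw, rfl⟩, rfl⟩
      refine ⟨Points.ofPt p w, hw, ?_⟩
      rw [← Points.map_yon_map_apply, hε, Points.map_comp, Points.ofPt_eq_map_ofScheme]; rfl
  rw [himg]
  refine (Points.schemeHomeo Z).isClosedMap _ (isClosed_image_of_stable ε.left hC ?_)
  rintro _ z' h ⟨w, hw, rfl⟩
  by_cases hne : ε.left w = z'
  · exact ⟨w, hw, hne⟩
  obtain ⟨R, hR, b, hb₁, hb₂⟩ := exists_dvr_of_specializes ε.left w h hne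
  let sA : Spec (CommRingCat.of R) ⟶ S := b ≫ Z.hom
  let sK : Spec (CommRingCat.of (W.left.residueField w)) ⟶ S := W.left.fromSpecResidueField w ≫ W.hom
  have hcomm : W.left.fromSpecResidueField w ≫ ε.left =
      Spec.map (CommRingCat.ofHom (algebraMap R (W.left.residueField w))) ≫ b := hb₂.symm
  have hK : Spec.map (CommRingCat.ofHom (algebraMap R (W.left.residueField w))) ≫ sA = sK := by
    simp only [sA, sK]
    rw [← Over.w ε, ← Category.assoc (W.left.fromSpecResidueField w), hcomm, Category.assoc]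
  let tW : specOver sK ⟶ W := Over.homMk (W.left.fromSpecResidueField w)
  let bZ : specOver sA ⟶ Z := Over.homMk b rfl
  have hsqK : ((yon S).map tW ≫ p) ≫ snd = (yon S).map (specMap (algebraMap R (W.left.residueField w)) sA sK hK) ≫
      (yon S).map bZ := by
    rw [Category.assoc, ← hε, ← Functor.map_comp, ← Functor.map_comp]
    congr 1
    exact Over.OverMorphism.ext hcomm
  obtain ⟨A', K', _, _, _, _, _, _, φ', ψ', hc', hl', sA', sK', hφ, hψ, hK', l₀, h₁₀, h₂₀⟩ :=
    dvr_apply H (K := W.left.residueField w) hR sA sK hK (((yon S).map tW ≫ p) ≫ fst) ((yon S).map bZ ≫ g) (by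
      rw [Category.assoc _ fst f, sq.w, ← Category.assoc, hsqK, Category.assoc])
  let l := sq.lift l₀ ((yon S).map (specMap φ' sA sA' hφ) ≫ (yon S).map bZ) (h₂₀.trans (Category.assoc _ _ _).symm)
  have hl₁ : l ≫ fst = l₀ := sq.lift_fst _ _ _
  have h₂ : l ≫ snd = (yon S).map (specMap φ' sA sA' hφ) ≫ (yon S).map bZ := sq.lift_snd _ _ _
  have h₁ : (yon S).map (specMap (algebraMap A' K') sA' sK' hK') ≫ l =
      (yon S).map (specMap ψ' sK sK' hψ) ≫ (yon S).map tW ≫ p := by
    refine sq.hom_ext ?_ ?_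
    · rw [Category.assoc, hl₁, h₁₀]
      simp only [Category.assoc]
    · rw [Category.assoc, h₂, Category.assoc, hsqK, ← Functor.map_comp_assoc, ← Functor.map_comp_assoc,
        specMap_comp φ' (algebraMap A' K') _ _ _ hφ hK', specMap_comp _ ψ' _ _ _ hK hψ]
      congr 2
      exact specMap_congr hc' _ _ _ _
  let η : ↥(specOver sA').left := (specMap (algebraMap A' K') sA' sK' hK').left (IsLocalRing.closedPoint K')
  let c : ↥(specOver sA').left := IsLocalRing.closedPoint A'
  have hspec : Points.ofPt l η ⤳ Points.ofPt l c :=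
    (IsLocalRing.specializes_closedPoint (η : PrimeSpectrum A')).map (Points.continuous_ofPt l)
  have hη : Points.ofPt l η = Points.ofPt p w := by
    rw [← ofPt_yon_map_comp, h₁, ofPt_yon_map_comp, ofPt_yon_map_comp]
    congr 1
    exact Scheme.fromSpecResidueField_apply _ _
  have hcA : Points.ofPt l c ∈ A := hspec.mem_closed hA (by rw [hη]; exact hw)
  obtain ⟨w', hw'⟩ := surjective_ofPt_of_repWith hps (Points.ofPt l c)
  refine ⟨w', show Points.ofPt p w' ∈ A by rw [hw']; exact hcA, ?_⟩
  have e1 : Points.map snd (Points.ofPt l c) = Points.schemeHomeo Z z' := by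
    rw [Points.map_ofPt, h₂, ← Functor.map_comp]
    have e2 : (specMap φ' sA sA' hφ ≫ bZ).left c = z' := by
      change b ((Spec.map (CommRingCat.ofHom φ')) (closedPoint A')) = z'
      rw [show (Spec.map (CommRingCat.ofHom φ')) (closedPoint A') = closedPoint R from comap_closedPoint (S := A') φ']
      exact hb₁
    rw [Points.ofPt_eq_map_ofScheme]
    exact (Points.map_yon_map_apply _ c).trans (congrArg _ e2)
  apply (Points.schemeHomeo Z).injective
  rw [← e1, ← hw', ← Points.map_yon_map_apply, hε, Points.map_comp, Points.ofPt_eq_map_ofScheme]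
  rfl

/-- A finite type morphism over a locally Noetherian space satisfying existence for discrete valuation rings is
universally closed. -/
theorem isUnivClosedMor_of_dvr (hX : IsAlgSpace X) (hY : IsAlgSpace Y) {f : X ⟶ Y} (hft : IsFiniteTypeMor f)
    (hYn : IsLocNoethSp Y) (H : ∀ sq : ValSq f, IsDiscreteValuationRing sq.A → sq.HasLiftExt) :
    IsUnivClosedMor f := by
  obtain ⟨V, p, hp, hps, hV⟩ := hYn
  haveI : IsLocallyNoetherian V.left := hV
  refine isUnivClosedMor_of_affineSpace hX hY hft.2 p hp hps fun n P fst snd sq => ?_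
  let A : Scheme.{u} := 𝔸(ULift.{u} (Fin n); V.left)
  haveI : IsLocallyNoetherian A := LocallyOfFiniteType.isLocallyNoetherian (A ↘ V.left)
  let Z : Over S := Over.mk ((A ↘ V.left) ≫ V.hom)
  let U : A.affineOpens → Over S := fun O => Over.mk (O.1.ι ≫ Z.hom)
  let i : ∀ O, U O ⟶ Z := fun O => Over.homMk O.1.ι rfl
  have hc : Refines (fun O => (yon S).obj (U O)) (fun O => (yon S).map (i O)) := by
    refine refines_of_etale (fun O => (yon S).map (i O)) (fun O => ?_) fun x => ?_
    · haveI : IsOpenImmersion (i O).left := inferInstanceAs (IsOpenImmersion O.1.ι)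
      exact (repWith_yon_map_iff _ _).2 (inferInstance : Etale (i O).left)
    · obtain ⟨z, rfl⟩ := (Points.schemeHomeo Z).surjective x
      obtain ⟨O, hO, hzO, -⟩ := exists_isAffineOpen_mem_and_subset (X := A) (x := z) (U := ⊤) trivial
      refine ⟨⟨O, hO⟩, ⟨z, hzO⟩, ?_⟩
      rw [← Category.comp_id ((yon S).map _), ofPt_yon_map_comp]
      rfl
  refine descendsRefines_closed snd A.affineOpens _ (fun O => pullback snd ((yon S).map (i O)))
    (fun O => (yon S).map (i O)) (fun O => pullback.fst _ _) (fun O => pullback.snd _ _)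
    (fun O => IsPullback.of_hasPullback _ _) hc fun O => ?_
  haveI : IsAffine (U O).left := show IsAffine O.1.toScheme from O.2
  haveI : IsOpenImmersion O.1.ι := inferInstance
  haveI : IsLocallyNoetherian (U O).left := LocallyOfFiniteType.isLocallyNoetherian O.1.ι
  exact closedMap_of_dvr hX hY hft H _ _ _ ((IsPullback.of_hasPullback snd ((yon S).map (i O))).paste_horiz sq)

/-- Quasi-separated morphisms, locally of finite type over a locally Noetherian space, with uniqueness for discrete
valuation rings are separated. -/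
theorem isSeparatedMor_of_dvr (hX : IsAlgSpace X) (hY : IsAlgSpace Y) {f : X ⟶ Y} (hqs : IsQuasiSeparatedMor f)
    (hlft : LocP @LocallyOfFiniteType f) (hYn : IsLocNoethSp Y)
    (H : ∀ sq : ValSq f, IsDiscreteValuationRing sq.A → sq.HasUniq) : IsSeparatedMor f := by
  have hP : IsAlgSpace (pullback f f) := isAlgSpace_pullback f f hX hX hY
  have hPn : IsLocNoethSp (pullback f f) := by
    have h2 : LocP @LocallyOfFiniteType (pullback.fst f f ≫ f) :=
      locP_comp hP hX hY (locP_baseChange hX hY hX ((IsPullback.of_hasPullback f f).flip) hlft) hlft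
    obtain ⟨U, V, a, b, α, hV, hae, has, hbe, hab⟩ := exists_chart_noeth hP hY _ hYn
    haveI := hV
    haveI : LocallyOfFiniteType α.left := h2 a b α hae hbe hab
    exact ⟨U, a, hae, has, LocallyOfFiniteType.isLocallyNoetherian α.left⟩
  have hΔ : IsFiniteTypeMor (pullback.diagonal f) :=
    ⟨locP_of_repWith hP (monoLFT_diagonal hX f).props.2.1, isQuasiCompactMor_of_repWith hqs⟩
  refine isSeparatedMor_of_univClosed_diagonal hX
    (isUnivClosedMor_of_dvr hX hP hΔ hPn fun sq hA => hasLiftExt_of_hasLift sq ?_)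
  let sq' : ValSq f :=
    { A := sq.A, K := sq.K, str := sq.str, top := sq.top, bot := sq.bot ≫ pullback.fst f f ≫ f,
      comm := by
        rw [← Category.assoc ((yon S).map _) sq.bot, ← sq.comm, Category.assoc, ← Category.assoc (pullback.diagonal f),
          pullback.diagonal_fst, Category.id_comp] }
  have hl : sq.bot ≫ pullback.fst f f = sq.bot ≫ pullback.snd f f := by
    refine H sq' hA _ _ ?_ (Category.assoc _ _ _) ?_ ?_
    · show (yon S).map sq.j ≫ sq.bot ≫ pullback.fst f f = sq.top
      rw [← Category.assoc, ← sq.comm, Category.assoc, pullback.diagonal_fst, Category.comp_id]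
    · show (yon S).map sq.j ≫ sq.bot ≫ pullback.snd f f = sq.top
      rw [← Category.assoc, ← sq.comm, Category.assoc, pullback.diagonal_snd, Category.comp_id]
    · show (sq.bot ≫ pullback.snd f f) ≫ f = sq.bot ≫ pullback.fst f f ≫ f
      rw [Category.assoc, pullback.condition]
  refine ⟨sq.bot ≫ pullback.fst f f, ?_, ?_⟩
  · rw [← Category.assoc, ← sq.comm, Category.assoc, pullback.diagonal_fst, Category.comp_id]
  · apply pullback.hom_ext
    · rw [Category.assoc, pullback.diagonal_fst, Category.comp_id]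
    · rw [Category.assoc, pullback.diagonal_snd, Category.comp_id, hl]

end Groth.Agent.ASp

namespace Groth.Agent.ASp

open _root_.AlgSp

variable {S : Scheme.{u}} {X Y : Sp S}

theorem exists_specializes_of_mem_closure_range {A B : Scheme.{u}} [IsAffine A] [IsAffine B] (f : A ⟶ B) {v : B}
    (hv : v ∈ closure (Set.range f)) : ∃ w : A, f w ⤳ v := by
  let eA := TopCat.homeoOfIso (Scheme.forgetToTop.mapIso A.isoSpec)
  let eB := TopCat.homeoOfIso (Scheme.forgetToTop.mapIso B.isoSpec)
  have hcomm : ∀ a, eB (f a) = Spec.map f.appTop (eA a) := fun a =>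
    (congrArg (fun g => g a) (Scheme.isoSpec_hom_naturality f)).symm
  let P : PrimeSpectrum Γ(B, ⊤) := eB v
  have hP : P ∈ closure (Set.range (PrimeSpectrum.comap f.appTop.hom)) := by
    refine closure_mono ?_ (image_closure_subset_closure_image eB.continuous (Set.mem_image_of_mem eB hv))
    rintro _ ⟨_, ⟨a, rfl⟩, rfl⟩
    exact ⟨eA a, (hcomm a).symm⟩
  rw [PrimeSpectrum.closure_range_comap] at hP
  obtain ⟨q, hq, hqP⟩ := Ideal.exists_minimalPrimes_le (J := P.asIdeal) hP
  rw [RingHom.ker_eq_comap_bot] at hq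
  obtain ⟨p', hp', -, hpq⟩ := Ideal.exists_comap_eq_of_mem_minimalPrimes f.appTop.hom (I := ⊥) q hq
  refine ⟨eA.symm ⟨p', hp'⟩, ?_⟩
  have h1 : eB (f (eA.symm ⟨p', hp'⟩)) ⤳ P := by
    rw [hcomm, eA.apply_symm_apply]
    refine (PrimeSpectrum.le_iff_specializes (PrimeSpectrum.comap f.appTop.hom ⟨p', hp'⟩) P).1 ?_
    show p'.comap f.appTop.hom ≤ P.asIdeal
    rw [hpq]
    exact hqP
  simpa [P] using h1.map eB.symm.continuous

theorem exists_dvr_of_specializes' {W Z : Scheme.{u}} [IsLocallyNoetherian Z] (ε : W ⟶ Z) [LocallyOfFiniteType ε]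
    (w : W) {z : Z} (h : ε w ⤳ z) :
    ∃ (A : Type u) (_ : CommRing A) (_ : IsDomain A) (_ : IsDiscreteValuationRing A)
      (ι : W.residueField w →+* FractionRing A) (g : Spec (CommRingCat.of A) ⟶ Z),
      g (IsLocalRing.closedPoint A) = z ∧
        Spec.map (CommRingCat.ofHom (algebraMap A (FractionRing A))) ≫ g =
          Spec.map (CommRingCat.ofHom ι) ≫ W.fromSpecResidueField w ≫ ε := by
  by_cases hne : ε w = z
  · let k := W.residueField w
    refine ⟨PowerSeries k, inferInstance, inferInstance, inferInstance,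
      (algebraMap (PowerSeries k) (FractionRing (PowerSeries k))).comp PowerSeries.C,
      Spec.map (CommRingCat.ofHom PowerSeries.C) ≫ W.fromSpecResidueField w ≫ ε, ?_, ?_⟩
    · rw [Scheme.Hom.comp_apply, Scheme.Hom.comp_apply]
      rw [Scheme.fromSpecResidueField_apply]
      exact hne
    · rw [← Spec.map_comp_assoc]
      rfl
  · obtain ⟨A, hA, g, hg₁, hg₂⟩ := exists_dvr_of_specializes ε w h hne
    let e := FractionRing.algEquiv A (W.residueField w)
    refine ⟨A, inferInstance, inferInstance, hA, e.symm.toRingEquiv.toRingHom, g, hg₁, ?_⟩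
    rw [← hg₂, ← Spec.map_comp_assoc, ← CommRingCat.ofHom_comp]
    congr 3
    exact RingHom.ext fun a => (e.symm.commutes a).symm

theorem exists_dvr_of_mem_closure (hX : IsAlgSpace X) (hY : IsAlgSpace Y) {f : X ⟶ Y} (hft : IsFiniteTypeMor f)
    (hYn : IsLocNoethSp Y) {y : Points Y} (hy : y ∈ closure (Set.range (Points.map f))) :
    ∃ (A : Type u) (_ : CommRing A) (_ : IsDomain A) (_ : IsDiscreteValuationRing A)
      (a : Spec (CommRingCat.of A) ⟶ S) (α : (yon S).obj (Over.mk a) ⟶ Y)
      (κ : (yon S).obj (Over.mk (Spec.map (CommRingCat.ofHom (algebraMap A (FractionRing A))) ≫ a)) ⟶ X),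
      κ ≫ f = (yon S).map (Over.homMk (Spec.map (CommRingCat.ofHom (algebraMap A (FractionRing A))))) ≫ α ∧
      Points.map α (Points.schemeEquiv (Over.mk a) (IsLocalRing.closedPoint A)) = y := by
  obtain ⟨V, p, hp, hps, hV⟩ := hYn
  haveI : IsLocallyNoetherian V.left := hV
  obtain ⟨v₀, rfl⟩ := surjective_ofPt_of_repWith hps y
  obtain ⟨O, hO, hvO, -⟩ := exists_isAffineOpen_mem_and_subset (X := V.left) (x := v₀) (U := ⊤) trivial
  let U : Over S := Over.mk (O.ι ≫ V.hom)
  let i : U ⟶ V := Over.homMk O.ι rfl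
  haveI : IsOpenImmersion O.ι := inferInstance
  haveI : IsAffine U.left := show IsAffine O.toScheme from hO
  haveI : IsLocallyNoetherian U.left := LocallyOfFiniteType.isLocallyNoetherian O.ι
  let b := (yon S).map i ≫ p
  have hb : RepWith @Etale b := by
    haveI : IsOpenImmersion i.left := inferInstanceAs (IsOpenImmersion O.ι)
    exact repWith_comp ((repWith_yon_map_iff _ _).2 (inferInstance : Etale i.left)) hp
  let v : ↥U.left := ⟨v₀, hvO⟩
  have hbv : Points.ofPt b v = Points.ofPt p v₀ := ofPt_yon_map_comp i p v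
  rw [← hbv] at hy ⊢
  let sq := IsPullback.of_hasPullback f b
  have hP : IsAlgSpace (pullback f b) := isAlgSpace_pullback f b hX (IsAlgSpace.yon_obj U) hY
  have := compactSpace_points (hft.2 (IsAlgSpace.yon_obj U) (isQuasiCompactSp_yon (show CompactSpace U.left from inferInstance)) b _ _ sq)
  obtain ⟨W, q, hW, hqe, hqs⟩ := exists_affine_chart_of_compact hP
  haveI := hW
  obtain ⟨ε, hε⟩ := (yon S).map_surjective (q ≫ pullback.snd f b)
  haveI : LocallyOfFiniteType ε.left :=
    (locP_baseChange (P := @LocallyOfFiniteType) hX hY (IsAlgSpace.yon_obj U) sq hft.1) q (𝟙 _) ε hqe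
      (repWith_id _ U) (by rw [Category.comp_id]; exact hε.symm)
  have himg : Points.ofPt b ⁻¹' Set.range (Points.map f) ⊆ Set.range ε.left := by
    rintro t ⟨x, hx⟩
    obtain ⟨z, -, hz⟩ := exists_of_isPullback sq x (Points.ofScheme U t) (by rw [hx, Points.ofPt_eq_map_ofScheme])
    obtain ⟨w, rfl⟩ := surjective_ofPt_of_repWith hqs z
    refine ⟨w, (Points.schemeHomeo U).injective (Eq.trans ?_ hz)⟩
    rw [Points.map_ofPt, ← hε, ← Category.comp_id ((yon S).map ε), ofPt_yon_map_comp]
    rfl
  have hv : v ∈ closure (Set.range ε.left) := closure_mono himg (by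
    rw [← (isOpenMap_ofPt_of_etale hb).preimage_closure_eq_closure_preimage (Points.continuous_ofPt b)]
    exact hy)
  obtain ⟨w, hw⟩ := exists_specializes_of_mem_closure_range ε.left hv
  obtain ⟨A, _, _, hA, ι, g, hg₁, hg₂⟩ := exists_dvr_of_specializes' ε.left w hw
  let t : Over.mk (Spec.map (CommRingCat.ofHom (algebraMap A (FractionRing A))) ≫ g ≫ U.hom) ⟶ W :=
    Over.homMk (Spec.map (CommRingCat.ofHom ι) ≫ W.left.fromSpecResidueField w) (by
      show (_ ≫ _) ≫ W.hom = Spec.map _ ≫ g ≫ U.hom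
      rw [reassoc_of% hg₂, Category.assoc, Over.w ε])
  refine ⟨A, inferInstance, inferInstance, hA, g ≫ U.hom, (yon S).map (Over.homMk g rfl) ≫ b,
    (yon S).map t ≫ q ≫ pullback.fst f b, ?_, ?_⟩
  · rw [Category.assoc, Category.assoc, pullback.condition, ← Category.assoc q, ← hε]
    refine (Category.assoc _ _ _).symm.trans (Eq.trans ?_ (Category.assoc _ _ _))
    refine congrArg (· ≫ b) (((yon S).map_comp _ _).symm.trans (Eq.trans ?_ ((yon S).map_comp _ _)))
    refine congrArg (yon S).map (Over.OverMorphism.ext ?_)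
    show (Spec.map _ ≫ W.left.fromSpecResidueField w) ≫ ε.left = Spec.map _ ≫ g
    rw [Category.assoc, hg₂]
  · show Points.map _ (Points.ofScheme _ _) = _
    rw [← Points.ofPt_eq_map_ofScheme, ofPt_yon_map_comp]
    exact congrArg (Points.ofPt b) hg₁

end Groth.Agent.ASp
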