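import Groth.Agent.Lib.AlgSpFieldDescent
import Groth.Agent.Lib.AlgSpDiag
/-! Quasi-separated algebraic spaces and morphisms are decent. -/

set_option autoImplicit false
set_option linter.style.haveILetI false
set_option linter.unusedVariables false
set_option backward.isDefEq.respectTransparency.types false

universe u

open CategoryTheory CategoryTheory.Limits AlgebraicGeometry Opposite

noncomputable section

namespace Groth.Agent.ASp

open _root_.AlgSp

variable {S : Scheme.{u}} {F G : Sp S}

theorem repWith_qc_baseChangeStable : (RepWith (S := S) @QuasiCompact).IsStableUnderBaseChange :=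
  ⟨fun sq h => repWith_baseChange sq h⟩

theorem repWith_qc_diagonal_baseChange {F' G' : Sp S} {fst : F' ⟶ F} {snd : F' ⟶ G'} {f : F ⟶ G} {g : G' ⟶ G}
    (sq : IsPullback fst snd f g) (h : IsQuasiSeparatedMor f) : IsQuasiSeparatedMor snd := by
  haveI := repWith_qc_baseChangeStable (S := S)
  exact MorphismProperty.of_isPullback (P := (RepWith (S := S) @QuasiCompact).diagonal) sq h

theorem quasiCompact_field_to {T : Over S} [Subsingleton T.left] : QuasiCompact T.hom :=
  quasiCompact_of_subsingleton _

/-- Field-valued points of a quasi-separated space are quasi-compact. -/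
theorem qc_of_isQuasiSeparatedSp (hF : IsAlgSpace F) (h : IsQuasiSeparatedSp F) (q : FieldPt F) :
    RepWith @QuasiCompact q.toHom := by
  refine repWith_of_forall (hF.representable_from_yon q.toHom) fun T V g fst snd sq => ?_
  obtain ⟨w, rfl⟩ := (yon S).map_surjective fst
  haveI : QuasiCompact (prod.lift w snd).left := h.2 _ _ _ (isPullback_diag sq)
  haveI : Subsingleton q.pt.left := inferInstanceAs (Subsingleton (Spec (CommRingCat.of q.K)))
  have sqp : IsPullback ((Over.forget S).map (prod.fst (X := q.pt) (Y := T))) ((Over.forget S).map prod.snd)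
      q.pt.hom T.hom :=
    Over.isPullback_of_binaryFan_isLimit (BinaryFan.mk prod.fst prod.snd) (prodIsProd q.pt T)
  haveI : QuasiCompact (prod.snd (X := q.pt) (Y := T)).left :=
    MorphismProperty.of_isPullback (P := @QuasiCompact) sqp quasiCompact_field_to
  rw [show snd = prod.lift w snd ≫ prod.snd from (prod.lift_snd _ _).symm, Over.comp_left]
  infer_instance

/-- Field-valued points of a space quasi-separated over a scheme are quasi-compact. -/
theorem qc_of_isQuasiSeparatedMor {T : Over S} (hF : IsAlgSpace F) (f : F ⟶ (yon S).obj T)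
    (h : IsQuasiSeparatedMor f) (q : FieldPt F) : RepWith @QuasiCompact q.toHom := by
  haveI := repWith_qc_baseChangeStable (S := S)
  have hT := IsAlgSpace.yon_obj T
  obtain ⟨a, ha⟩ := (yon S).map_surjective (q.toHom ≫ f)
  haveI : Subsingleton q.pt.left := inferInstanceAs (Subsingleton (Spec (CommRingCat.of q.K)))
  have hqa : RepWith @QuasiCompact (q.toHom ≫ f) :=
    ha ▸ (repWith_yon_map_iff _ a).2 (quasiCompact_of_subsingleton _)
  -- the graph
  have hgr := pullback_lift_diagonal_isPullback q.toHom f
  have h1 : RepWith @QuasiCompact (pullback.lift (f := q.toHom ≫ f) (g := f) (𝟙 _) q.toHom (by simp)) :=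
    repWith_baseChange hgr h
  have h2 : RepWith @QuasiCompact (pullback.snd (q.toHom ≫ f) f) :=
    repWith_baseChange (IsPullback.of_hasPullback (q.toHom ≫ f) f) hqa
  have := repWith_comp h1 h2
  rwa [pullback.lift_snd] at this

end Groth.Agent.ASp
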