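import Groth.Agent.Lib.AlgSpEtaleField
import Groth.Agent.Lib.AlgSpAffineGlobal
import Groth.Agent.Lib.AlgSpDecentQS
/-! Points of decent spaces which are algebraic over closed points of the base. -/

set_option autoImplicit false
set_option linter.style.haveILetI false
set_option linter.unusedVariables false
set_option backward.isDefEq.respectTransparency.types false

universe u

open CategoryTheory CategoryTheory.Limits AlgebraicGeometry Opposite Topology

noncomputable section

namespace Groth.Agent.ASp

open _root_.AlgSp

variable {S : Scheme.{u}} {F : Sp S} {k : Type u} [Field k] {str : Spec (CommRingCat.of k) ⟶ S}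

/-- The image of an algebraic point over a closed point of the base is closed. -/
theorem isClosed_point_of_integral (hF : IsAlgSpace F) (hd : IsDecent F) [IsIntegralHom str]
    (p : (yon S).obj (Over.mk str) ⟶ F) (t : ↥(Spec (CommRingCat.of k))) :
    IsClosed ({Points.ofPt p t} : Set (Points F)) := by
  obtain ⟨κ, U, a, hU, ha, href⟩ := exists_refines_affine hF
  refine href.isClosed fun i => ?_
  haveI := hU i
  obtain ⟨V, fst, snd, sq⟩ := exists_sq (hF.representable_from_yon p) (a i)
  obtain ⟨c, rfl⟩ := (yon S).map_surjective fst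
  haveI : Etale c.left := (ha i).2 p ((yon S).map snd) c sq.flip
  haveI := discreteTopology_of_etale_field c.left
  have hcl : ∀ u ∈ Points.ofPt (a i) ⁻¹' {Points.ofPt p t}, IsClosed ({u} : Set ↥(U i).left) := by
    intro u hu
    obtain ⟨v, -, hv⟩ := exists_pt_of_sq sq (Points.schemeHomeo _ t) u (by
      rw [show Points.ofPt (a i) u = Points.ofPt p t from hu, Points.ofPt_eq_map_ofScheme]; rfl)
    haveI : IsClosedImmersion (V.left.fromSpecResidueField v) :=
      isClosed_singleton_iff_isClosedImmersion.1 (isClosed_discrete _)
    let c' : V.left ⟶ Spec (CommRingCat.of k) := c.left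
    haveI : Etale c' := ‹Etale c.left›
    haveI : IsFinite (V.left.fromSpecResidueField v ≫ c.left) :=
      (isFinite_iff_locallyOfFiniteType_of_jacobsonSpace (f := V.left.fromSpecResidueField v ≫ c')).2 inferInstance
    have e : (V.left.fromSpecResidueField v ≫ snd.left) ≫ (U i).hom =
        (V.left.fromSpecResidueField v ≫ c.left) ≫ str := by
      rw [Category.assoc, Category.assoc, Over.w snd, ← Over.w c]; rfl
    haveI : IsIntegralHom ((V.left.fromSpecResidueField v ≫ snd.left) ≫ (U i).hom) := by rw [e]; infer_instance
    haveI : IsIntegralHom (V.left.fromSpecResidueField v ≫ snd.left) := IsIntegralHom.of_comp _ (U i).hom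
    have hr : Set.range (V.left.fromSpecResidueField v ≫ snd.left) = {u} := by
      rw [← hv, Scheme.Hom.comp_base, TopCat.coe_comp, Set.range_comp, Scheme.range_fromSpecResidueField,
        Set.image_singleton]
    rw [← hr]
    exact (V.left.fromSpecResidueField v ≫ snd.left).isClosedMap.isClosed_range
  have hpre : Points.map (a i) ⁻¹' {Points.ofPt p t} =
      Points.schemeHomeo (U i) '' (Points.ofPt (a i) ⁻¹' {Points.ofPt p t}) := by
    ext y
    obtain ⟨u, rfl⟩ := (Points.schemeHomeo (U i)).surjective y
    rw [(Points.schemeHomeo (U i)).injective.mem_set_image, Set.mem_preimage, Set.mem_preimage,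
      Points.ofPt_eq_map_ofScheme]
    rfl
  rw [hpre, Homeomorph.isClosed_image]
  rw [← Set.biUnion_of_singleton (Points.ofPt (a i) ⁻¹' {Points.ofPt p t})]
  exact (finite_fibre_of_decentAt (ha i) (hd _)).isClosed_biUnion hcl

/-- A point finite over the base is finite over a decent space. -/
theorem repWith_finite_of_finite (hF : IsAlgSpace F) (hd : IsDecent F) [IsFinite str]
    (p : (yon S).obj (Over.mk str) ⟶ F) : RepWith @IsFinite p := by
  let q : FieldPt F := ⟨k, str, sec p⟩
  have hq : q.toHom = p := sec.injective (FieldPt.uliftYonedaEquiv_toHom q)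
  obtain ⟨m, hm, hmm, hmq⟩ := hd (Points.mk q)
  haveI : Mono m.toHom := hmm
  obtain ⟨d, hd'⟩ := exists_factor_pt m q hmq.rep hm
  haveI : Subsingleton q.pt.left := inferInstanceAs (Subsingleton (Spec (CommRingCat.of k)))
  have hqc : RepWith @QuasiCompact p := by
    rw [← hq, ← hd']
    exact repWith_comp ((repWith_yon_map_iff _ _).2 (quasiCompact_of_subsingleton _)) hmq
  obtain ⟨κ, U, a, hU, ha, href⟩ := exists_refines_affine hF
  choose V fst snd sq using fun j => exists_sq hqc.rep (a j)
  refine repWith_of_refines (P := @IsFinite) hqc.rep href sq fun j => (repWith_yon_map_iff _ _).2 ?_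
  haveI := hU j
  obtain ⟨c, hc⟩ := (yon S).map_surjective (fst j)
  haveI : Etale c.left := (ha j).2 p ((yon S).map (snd j)) c (hc ▸ (sq j).flip)
  haveI : QuasiCompact (snd j).left := hqc.2 _ _ _ (sq j)
  haveI : CompactSpace (V j).left := QuasiCompact.compactSpace_of_compactSpace (snd j).left
  haveI := discreteTopology_of_etale_field c.left
  haveI : Finite (V j).left := finite_of_compact_of_discrete
  haveI : IsFinite c.left := by
    haveI : QuasiCompact c.left := (quasiCompact_iff_compactSpace (Y := Spec (CommRingCat.of k)) c.left).2 ‹_›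
    let c' : (V j).left ⟶ Spec (CommRingCat.of k) := c.left
    haveI : QuasiCompact c' := ‹QuasiCompact c.left›
    haveI : Etale c' := ‹Etale c.left›
    haveI : LocallyQuasiFinite c' := locallyQuasiFinite_of_etale c'
    exact show IsFinite c' from .of_locallyQuasiFinite c'
  haveI : IsFinite ((snd j).left ≫ (U j).hom) := by
    rw [Over.w, ← Over.w c]
    exact MorphismProperty.comp_mem (W := @IsFinite) c.left str ‹IsFinite c.left› ‹_›
  exact IsFinite.of_comp (snd j).left (U j).hom

/-- A point which is a closed subscheme of the base is a closed subspace of a decent space. -/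
theorem repWith_closedImmersion_of_closedImmersion (hF : IsAlgSpace F) (hd : IsDecent F) [IsClosedImmersion str]
    (p : (yon S).obj (Over.mk str) ⟶ F) : RepWith @IsClosedImmersion p := by
  have hf := repWith_finite_of_finite hF hd p
  refine repWith_of_forall hf.rep fun T V g fst snd sq => ?_
  haveI : IsFinite snd.left := hf.2 g fst snd sq
  haveI : Mono snd.left := by
    constructor
    intro Z x y hxy
    obtain ⟨w, rfl⟩ := (yon S).map_surjective fst
    have h1 : x ≫ V.hom = y ≫ V.hom := by rw [← Over.w snd, reassoc_of% hxy]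
    let x' : Over.mk (x ≫ V.hom) ⟶ V := Over.homMk x rfl
    let y' : Over.mk (x ≫ V.hom) ⟶ V := Over.homMk y h1.symm
    have e1 : x' ≫ w = y' ≫ w := by
      refine Over.OverMorphism.ext ((cancel_mono str).1 ?_)
      exact (Over.w (x' ≫ w)).trans (Over.w (y' ≫ w)).symm
    have e2 : x' ≫ snd = y' ≫ snd := Over.OverMorphism.ext hxy
    exact congrArg CommaMorphism.left ((yon S).map_injective (sq.hom_ext
      (by rw [← Functor.map_comp, ← Functor.map_comp, e1])
      (by rw [← Functor.map_comp, ← Functor.map_comp, e2])) : x' = y')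
  exact (IsClosedImmersion.iff_isFinite_and_mono _).2 ⟨inferInstance, inferInstance⟩

/-- A point finite over a scheme under the space is finite over a decent space. -/
theorem repWith_finite_of_finite_over (hF : IsAlgSpace F) (hd : IsDecent F) {T : Over S} (π : F ⟶ (yon S).obj T)
    (d : Over.mk str ⟶ T) [IsFinite d.left]
    (p : (yon S).obj (Over.mk str) ⟶ F) (hp : p ≫ π = (yon S).map d) : RepWith @IsFinite p := by
  let q : FieldPt F := ⟨k, str, sec p⟩
  have hq : q.toHom = p := sec.injective (FieldPt.uliftYonedaEquiv_toHom q)
  obtain ⟨m, hm, hmm, hmq⟩ := hd (Points.mk q)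
  haveI : Mono m.toHom := hmm
  obtain ⟨d', hd'⟩ := exists_factor_pt m q hmq.rep hm
  haveI : Subsingleton q.pt.left := inferInstanceAs (Subsingleton (Spec (CommRingCat.of k)))
  have hqc : RepWith @QuasiCompact p := by
    rw [← hq, ← hd']
    exact repWith_comp ((repWith_yon_map_iff _ _).2 (quasiCompact_of_subsingleton _)) hmq
  obtain ⟨κ, U, a, hU, ha, href⟩ := exists_refines_affine hF
  choose V fst snd sq using fun j => exists_sq hqc.rep (a j)
  refine repWith_of_refines (P := @IsFinite) hqc.rep href sq fun j => (repWith_yon_map_iff _ _).2 ?_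
  haveI := hU j
  obtain ⟨c, hc⟩ := (yon S).map_surjective (fst j)
  haveI : Etale c.left := (ha j).2 p ((yon S).map (snd j)) c (hc ▸ (sq j).flip)
  haveI : QuasiCompact (snd j).left := hqc.2 _ _ _ (sq j)
  haveI : CompactSpace (V j).left := QuasiCompact.compactSpace_of_compactSpace (snd j).left
  haveI := discreteTopology_of_etale_field c.left
  haveI : Finite (V j).left := finite_of_compact_of_discrete
  haveI : IsFinite c.left := by
    haveI : QuasiCompact c.left := (quasiCompact_iff_compactSpace (Y := Spec (CommRingCat.of k)) c.left).2 ‹_›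
    let c' : (V j).left ⟶ Spec (CommRingCat.of k) := c.left
    haveI : QuasiCompact c' := ‹QuasiCompact c.left›
    haveI : Etale c' := ‹Etale c.left›
    haveI : LocallyQuasiFinite c' := locallyQuasiFinite_of_etale c'
    exact show IsFinite c' from .of_locallyQuasiFinite c'
  obtain ⟨e, he⟩ := (yon S).map_surjective (a j ≫ π)
  have hce : snd j ≫ e = c ≫ d := (yon S).map_injective (by
    rw [Functor.map_comp, Functor.map_comp, he, hc, ← reassoc_of% (sq j).w, hp])
  haveI : IsFinite ((snd j).left ≫ e.left) := by
    rw [← Over.comp_left, hce, Over.comp_left]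
    exact MorphismProperty.comp_mem (W := @IsFinite) c.left d.left ‹IsFinite c.left› ‹_›
  exact IsFinite.of_comp (snd j).left e.left


/-- A section over a scheme of one point is a closed subspace of a decent space. -/
theorem repWith_closedImmersion_of_section (hF : IsAlgSpace F) (hd : IsDecent F)
    (π : F ⟶ (yon S).obj (Over.mk str)) (p : (yon S).obj (Over.mk str) ⟶ F) (hp : p ≫ π = 𝟙 _) :
    RepWith @IsClosedImmersion p := by
  have hp' : p ≫ π = (yon S).map (𝟙 (Over.mk str)) := hp.trans ((yon S).map_id _).symm
  have hf := repWith_finite_of_finite_over hF hd π (𝟙 _) p hp'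
  haveI : IsSplitMono p := ⟨⟨⟨π, hp⟩⟩⟩
  refine repWith_of_forall hf.rep fun T V g fst snd sq => ?_
  haveI : IsFinite snd.left := hf.2 g fst snd sq
  haveI : Mono snd := (yon S).mono_of_mono_map sq.mono_snd_of_mono
  haveI : Mono ((Over.forget S).map snd) := inferInstance
  haveI : Mono snd.left := ‹Mono ((Over.forget S).map snd)›
  exact (IsClosedImmersion.iff_isFinite_and_mono _).2 ⟨inferInstance, inferInstance⟩

end Groth.Agent.ASp
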