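import Groth.Agent.Lib.AlgSpEtaleField
import Groth.Agent.Lib.AlgSpDecentQS
import Groth.Prelude.Def_W4decUnivBdd
/-! Decency and etale morphisms. -/

set_option autoImplicit false
set_option linter.style.haveILetI false
set_option linter.unusedVariables false
set_option backward.isDefEq.respectTransparency.types false

universe u

open CategoryTheory CategoryTheory.Limits AlgebraicGeometry Opposite Topology

noncomputable section

namespace Groth.Agent.ASp

open _root_.AlgSp

variable {S : Scheme.{u}} {F G : Sp S}

/-- An algebraic space etale over a decent one is decent. -/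
theorem isDecent_of_etale (hF : IsAlgSpace F) (hG : IsAlgSpace G) {f : F ⟶ G} (hf : IsEtaleMor f)
    (hd : IsDecent G) : IsDecent F := fun x =>
  decentAt_of_fibre f (hd _) fun p P fst snd sq z => by
    have hP : IsAlgSpace P := isAlgSpace_of_isPullback hG.diag sq hF (IsAlgSpace.yon_obj p.pt)
    exact isDecent_of_etale_field hP snd (isEtaleMor_of_locP hP (IsAlgSpace.yon_obj p.pt)
      (locP_baseChange hF hG (IsAlgSpace.yon_obj p.pt) sq (locP_etale_of_isEtaleMor hf))) z

/-- Decency of a point passes along quasi-compact morphisms. -/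
theorem decentAt_map_of_qc (hF : IsAlgSpace F) (hG : IsAlgSpace G) {f : F ⟶ G}
    (hf : IsQuasiCompactMor f) {x : Points F} (hx : DecentAt x) : DecentAt (Points.map f x) := by
  obtain ⟨P, rfl, -, hq⟩ := hx
  rw [Points.map_mk]
  refine decentAt_of_qc hG (P.map f) ?_
  suffices h' : RepWith @QuasiCompact (P.toHom ≫ f) by
    have e := FieldPt.toHom_map f P
    exact e ▸ h'
  have hr : Representable (P.toHom ≫ f) := hG.representable_from_yon _
  obtain ⟨κ, T, b, hT, hb, href⟩ := exists_refines_affine hG
  choose V fst snd sq using fun j => exists_sq hr (b j)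
  refine repWith_of_refines (P := @QuasiCompact) hr href sq fun j => (repWith_yon_map_iff _ _).2 ?_
  haveI : IsAffine (T j).left := hT j
  let Z : Sp S := Limits.pullback f (b j)
  have sqZ := IsPullback.of_hasPullback f (b j)
  have hTc : IsQuasiCompactSp ((yon S).obj (T j)) := isQuasiCompactSp_of_affine (U := T j) (p := 𝟙 _) (hT j)
    (repWith_of_isIso _) (repWith_of_isIso _)
  obtain ⟨W, p, hpe, hps, hWc⟩ := hf (IsAlgSpace.yon_obj (T j)) hTc (b j) _ _ sqZ
  let h : (yon S).obj (V j) ⟶ Z := sqZ.lift (fst j ≫ P.toHom) ((yon S).map (snd j))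
    (by rw [Category.assoc]; exact (sq j).w)
  have hV : IsPullback (fst j) h P.toHom (pullback.fst f (b j)) :=
    IsPullback.of_bot (by rw [sqZ.lift_snd]; exact sq j) (sqZ.lift_fst _ _ _).symm sqZ
  obtain ⟨T', t₁, t₂, sqT⟩ := exists_sq hps.rep h
  haveI : Surjective t₂.left := hps.2 h t₁ t₂ sqT
  obtain ⟨t₁', rfl⟩ := (yon S).map_surjective t₁
  haveI : QuasiCompact t₁'.left :=
    hq.2 (p ≫ pullback.fst f (b j)) _ t₁' (sqT.flip.paste_horiz hV)
  haveI : CompactSpace W.left := hWc
  haveI : CompactSpace T'.left := QuasiCompact.compactSpace_of_compactSpace t₁'.left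
  haveI : CompactSpace (V j).left := t₂.left.surjective.compactSpace t₂.left.continuous
  exact quasiCompact_of_compactSpace (snd j).left

/-- Decency descends along quasi-compact surjections. -/
theorem isDecent_of_qc_surjective (hF : IsAlgSpace F) (hG : IsAlgSpace G) {f : F ⟶ G}
    (hf : IsQuasiCompactMor f) (hs : IsSurjectiveMor f) (hd : IsDecent F) : IsDecent G := by
  intro y
  obtain ⟨x, rfl⟩ := hs y
  exact decentAt_map_of_qc hF hG hf (hd x)

end Groth.Agent.ASp

namespace Groth.Agent.ASp

open _root_.AlgSp

variable {S : Scheme.{u}} {F : Sp S}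

theorem isDecent_of_univBdd (hF : IsAlgSpace F)
    (h : ∀ (U : Over S) (φ : (yon S).obj U ⟶ F), IsAffine U.left → RepWith @Etale φ → W4dec.HasUnivBddFibres φ) :
    IsDecent F := fun x => by
  induction x using Points.ind with
  | h q =>
    refine decentAt_of_qc hF q ?_
    have hr : Representable q.toHom := hF.representable_from_yon _
    obtain ⟨κ, T, b, hT, hb, href⟩ := exists_refines_affine hF
    choose V fst snd sq using fun j => exists_sq hr (b j)
    refine repWith_of_refines (P := @QuasiCompact) hr href sq fun j => (repWith_yon_map_iff _ _).2 ?_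
    obtain ⟨c, hc⟩ := (yon S).map_surjective (fst j)
    obtain ⟨n, hn⟩ := h (T j) (b j) (hT j) (hb j)
    haveI : IsFinite c.left := (hn q (V j) c ((yon S).map (snd j)) (by rw [hc]; exact sq j)).1
    haveI : CompactSpace q.pt.left := inferInstanceAs (CompactSpace (PrimeSpectrum _))
    haveI : CompactSpace (V j).left := QuasiCompact.compactSpace_of_compactSpace c.left
    haveI : IsAffine (T j).left := hT j
    exact quasiCompact_of_compactSpace (snd j).left

end Groth.Agent.ASp
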