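import Groth.Agent.Lib.AlgSpDecent
import Groth.Agent.Lib.AlgSpDiag
import Mathlib.AlgebraicGeometry.Morphisms.FlatMono
/-! Elementary etale neighbourhoods form a filtered family. -/

set_option autoImplicit false
set_option linter.style.haveILetI false
set_option linter.unusedVariables false
set_option backward.isDefEq.respectTransparency.types false

universe u

open CategoryTheory CategoryTheory.Limits AlgebraicGeometry Opposite Topology

noncomputable section

namespace Groth.Agent.ASp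

open _root_.AlgSp

variable {S : Scheme.{u}} {F : Sp S}

/-- The inclusion of a point. -/
abbrev ptι {U : Over S} (u : ↥U.left) : Over.mk (U.left.fromSpecResidueField u ≫ U.hom) ⟶ U :=
  Over.homMk (U.left.fromSpecResidueField u) rfl

/-- A lift of the point of an elementary neighbourhood is elementary. -/
theorem isElemEtaleNbhd_of_lift (hF : IsAlgSpace F) {U₁ U : Over S} {a₁ : (yon S).obj U₁ ⟶ F} {u₁ : ↥U₁.left}
    {x : Points F} (h₁ : IsElemEtaleNbhd a₁ u₁ x) {a : (yon S).obj U ⟶ F} (ha : RepWith @Etale a)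
    (σ : Over.mk (U₁.left.fromSpecResidueField u₁ ≫ U₁.hom) ⟶ U)
    (hσ : (yon S).map σ ≫ a = (yon S).map (ptι u₁) ≫ a₁)
    (v : ↥U.left) (hv : σ.left (IsLocalRing.closedPoint (U₁.left.residueField u₁)) = v) :
    IsElemEtaleNbhd a v x := by
  let σ' : Spec (CommRingCat.of (U₁.left.residueField u₁)) ⟶ U.left := σ.left
  have hv' : σ' (IsLocalRing.closedPoint (U₁.left.residueField u₁)) = v := hv
  subst hv'
  let f := Scheme.descResidueField (Scheme.stalkClosedPointTo σ')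
  have hf : Spec.map f ≫ U.left.fromSpecResidueField _ = σ' :=
    Scheme.descResidueField_stalkClosedPointTo_fromSpecResidueField _ _ σ'
  let τ : (FieldPt.ofPt a₁ u₁).pt ⟶ (FieldPt.ofPt a (σ' (IsLocalRing.closedPoint _))).pt :=
    Over.homMk (Spec.map f) (by
      show Spec.map f ≫ U.left.fromSpecResidueField _ ≫ U.hom = U₁.left.fromSpecResidueField u₁ ≫ U₁.hom
      rw [← Category.assoc, hf]
      exact Over.w σ)
  have hτ : (yon S).map τ ≫ (FieldPt.ofPt a (σ' (IsLocalRing.closedPoint _))).toHom = (FieldPt.ofPt a₁ u₁).toHom := by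
    rw [FieldPt.toHom_ofPt, FieldPt.toHom_ofPt, ← Category.assoc, ← Functor.map_comp]
    refine Eq.trans ?_ hσ
    congr 2
    exact Over.OverMorphism.ext hf
  have hpt : Points.ofPt a (σ' (IsLocalRing.closedPoint (U₁.left.residueField u₁))) = x := by
    rw [← h₁.ofPt_eq]
    exact (Points.sound ⟨_, inferInstance, _, 𝟙 _, τ, by
      rw [op_id, Functor.map_id_apply]
      have := congrArg (fun m : (yon S).obj (FieldPt.ofPt a₁ u₁).pt ⟶ F => sec m) hτ
      simp only [← sec_map] at this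
      rw [show sec (FieldPt.ofPt a₁ u₁).toHom = (FieldPt.ofPt a₁ u₁).val from FieldPt.uliftYonedaEquiv_toHom _,
        show sec (FieldPt.ofPt a (σ' (IsLocalRing.closedPoint _))).toHom =
          (FieldPt.ofPt a (σ' (IsLocalRing.closedPoint _))).val from FieldPt.uliftYonedaEquiv_toHom _] at this
      exact this.symm⟩).symm
  haveI : Mono (FieldPt.ofPt a₁ u₁).toHom := h₁.mono
  obtain ⟨π, hπ⟩ := exists_factor_pt (FieldPt.ofPt a₁ u₁) (FieldPt.ofPt a (σ' (IsLocalRing.closedPoint _)))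
    (hF.representable_from_yon _) (h₁.ofPt_eq.trans hpt.symm)
  have hid : τ ≫ π = 𝟙 _ := (yon S).map_injective ((cancel_mono (FieldPt.ofPt a₁ u₁).toHom).1 (by
    rw [Functor.map_comp, Category.assoc, hπ, hτ]
    exact ((congrArg (· ≫ _) ((yon S).map_id _)).trans (Category.id_comp _)).symm))
  haveI : IsIso f := by
    rw [ConcreteCategory.isIso_iff_bijective]
    refine ⟨RingHom.injective _, fun y => ⟨(Spec.preimage π.left).hom y, ?_⟩⟩
    have h : Spec.map (Spec.preimage π.left ≫ f) = 𝟙 _ := by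
      rw [Spec.map_comp, Spec.map_preimage]; exact congrArg CommaMorphism.left hid
    have h' : Spec.preimage π.left ≫ f = 𝟙 _ := Spec.map_injective (h.trans (Spec.map_id _).symm)
    exact RingHom.congr_fun (congrArg CommRingCat.Hom.hom h') y
  haveI : IsIso ((Over.forget S).map τ) := inferInstanceAs (IsIso (Spec.map f))
  haveI : IsIso τ := isIso_of_reflects_iso τ (Over.forget S)
  refine ⟨ha, hpt, ?_⟩
  rw [show (FieldPt.ofPt a (σ' (IsLocalRing.closedPoint _))).toHom =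
    inv ((yon S).map τ) ≫ (FieldPt.ofPt a₁ u₁).toHom by rw [← hτ, IsIso.inv_hom_id_assoc]]
  infer_instance

theorem apply_ptι {U : Over S} (u : ↥U.left) (z : ↥(Spec (U.left.residueField u))) : (ptι u).left z = u :=
  Scheme.fromSpecResidueField_apply u z

theorem elemNbhd_exists_product (hF : IsAlgSpace F) {U₁ U₂ : Over S} {a₁ : (yon S).obj U₁ ⟶ F}
    {a₂ : (yon S).obj U₂ ⟶ F} {u₁ : ↥U₁.left} {u₂ : ↥U₂.left} {x : Points F} (h₁ : IsElemEtaleNbhd a₁ u₁ x)
    (h₂ : IsElemEtaleNbhd a₂ u₂ x) :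
    ∃ (U : Over S) (a : (yon S).obj U ⟶ F) (v : ↥U.left) (g₁ : U ⟶ U₁) (g₂ : U ⟶ U₂),
      IsElemEtaleNbhd a v x ∧ (yon S).map g₁ ≫ a₁ = a ∧ (yon S).map g₂ ≫ a₂ = a ∧
        g₁.left v = u₁ ∧ g₂.left v = u₂ := by
  obtain ⟨U, f₁, g₂, sq⟩ := exists_sq h₁.etale.rep a₂
  obtain ⟨g₁, rfl⟩ := (yon S).map_surjective f₁
  haveI : Mono (FieldPt.ofPt a₂ u₂).toHom := h₂.mono
  obtain ⟨c, hc⟩ := exists_factor_pt (FieldPt.ofPt a₂ u₂) (FieldPt.ofPt a₁ u₁) (hF.representable_from_yon _)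
    (h₂.ofPt_eq.trans h₁.ofPt_eq.symm)
  rw [FieldPt.toHom_ofPt, FieldPt.toHom_ofPt] at hc
  obtain ⟨σ, hσ⟩ := (yon S).map_surjective (sq.lift ((yon S).map (ptι u₁)) ((yon S).map (c ≫ ptι u₂))
    (by rw [Functor.map_comp, Category.assoc]; exact hc.symm))
  have hσ₁ : σ ≫ g₁ = ptι u₁ := (yon S).map_injective (by rw [Functor.map_comp, hσ, sq.lift_fst])
  have hσ₂ : σ ≫ g₂ = c ≫ ptι u₂ := (yon S).map_injective (by rw [Functor.map_comp, hσ, sq.lift_snd]; rfl)
  refine ⟨U, (yon S).map g₁ ≫ a₁, _, g₁, g₂, isElemEtaleNbhd_of_lift hF h₁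
    (repWith_comp ((repWith_yon_map_iff _ g₁).2 (h₂.etale.2 a₁ ((yon S).map g₂) g₁ sq.flip)) h₁.etale) σ
    (by rw [← Category.assoc, ← Functor.map_comp, hσ₁]) _ rfl, rfl, sq.w.symm, ?_, ?_⟩
  · rw [← Scheme.Hom.comp_apply, ← Over.comp_left, hσ₁]
    exact apply_ptι u₁ _
  · rw [← Scheme.Hom.comp_apply, ← Over.comp_left, hσ₂]
    exact (Scheme.Hom.comp_apply c.left (ptι u₂).left _).trans (apply_ptι u₂ _)

theorem elemNbhd_exists_equalizer (hF : IsAlgSpace F) {U₁ U₂ : Over S} {a₁ : (yon S).obj U₁ ⟶ F}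
    {a₂ : (yon S).obj U₂ ⟶ F} {u₁ : ↥U₁.left} {u₂ : ↥U₂.left} {x : Points F} (b c : U₁ ⟶ U₂)
    (h₁ : IsElemEtaleNbhd a₁ u₁ x) (h₂ : IsElemEtaleNbhd a₂ u₂ x)
    (hb : (yon S).map b ≫ a₂ = a₁) (hc : (yon S).map c ≫ a₂ = a₁) (hbu : b.left u₁ = u₂) (hcu : c.left u₁ = u₂) :
    ∃ (U : Over S) (a : (yon S).obj U ⟶ F) (v : ↥U.left) (h : U ⟶ U₁),
      IsElemEtaleNbhd a v x ∧ (yon S).map h ≫ a₁ = a ∧ h.left v = u₁ ∧ h ≫ b = h ≫ c := by
  obtain ⟨R, f₁, r₂, sq⟩ := exists_sq h₂.etale.rep a₂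
  obtain ⟨r₁, rfl⟩ := (yon S).map_surjective f₁
  haveI : Etale r₁.left := h₂.etale.2 a₂ ((yon S).map r₂) r₁ sq.flip
  obtain ⟨δ, hδ⟩ := (yon S).map_surjective (sq.lift (𝟙 _) (𝟙 _) rfl)
  have hδ₁ : δ ≫ r₁ = 𝟙 U₂ := (yon S).map_injective (by
    rw [Functor.map_comp, hδ, sq.lift_fst]; exact ((yon S).map_id _).symm)
  have hδ₂ : δ ≫ r₂ = 𝟙 U₂ := (yon S).map_injective (by
    rw [Functor.map_comp, hδ, sq.lift_snd]; exact ((yon S).map_id _).symm)
  have hδl : δ.left ≫ r₁.left = 𝟙 _ := congrArg CommaMorphism.left hδ₁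
  haveI : Etale (δ.left ≫ r₁.left) := by rw [hδl]; infer_instance
  haveI : Etale δ.left := Etale.of_comp δ.left r₁.left
  haveI : Mono (δ.left ≫ r₁.left) := by rw [hδl]; infer_instance
  haveI : Mono δ.left := mono_of_mono δ.left r₁.left
  haveI : IsOpenImmersion δ.left := IsOpenImmersion.of_flat_of_mono _
  obtain ⟨ρ, hρ⟩ := (yon S).map_surjective (sq.lift ((yon S).map b) ((yon S).map c) (hb.trans hc.symm))
  have hρ₁ : ρ ≫ r₁ = b := (yon S).map_injective (by rw [Functor.map_comp, hρ, sq.lift_fst])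
  have hρ₂ : ρ ≫ r₂ = c := (yon S).map_injective (by rw [Functor.map_comp, hρ, sq.lift_snd])
  -- the two images of the point agree
  have key : ∀ d : U₁ ⟶ U₂, d.left u₁ = u₂ → (yon S).map d ≫ a₂ = a₁ →
      ∃ τ : Over.mk (U₁.left.fromSpecResidueField u₁ ≫ U₁.hom) ⟶ (FieldPt.ofPt a₂ u₂).pt,
        τ ≫ ptι u₂ = ptι u₁ ≫ d ∧ (yon S).map τ ≫ (FieldPt.ofPt a₂ u₂).toHom = (FieldPt.ofPt a₁ u₁).toHom := by
    intro d hd hda
    subst hd
    refine ⟨Over.homMk (Spec.map (d.left.residueFieldMap u₁)) ?_, ?_, ?_⟩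
    · show Spec.map (d.left.residueFieldMap u₁) ≫ U₂.left.fromSpecResidueField _ ≫ U₂.hom = _
      rw [← Category.assoc, Scheme.Hom.SpecMap_residueFieldMap_fromSpecResidueField, Category.assoc, Over.w]
      rfl
    · exact Over.OverMorphism.ext (Scheme.Hom.SpecMap_residueFieldMap_fromSpecResidueField _ _)
    · rw [FieldPt.toHom_ofPt, FieldPt.toHom_ofPt, ← hda]
      refine ((Category.assoc _ _ _).symm.trans ?_).trans (Category.assoc _ _ _)
      refine congrArg (· ≫ a₂) (((yon S).map_comp _ _).symm.trans (Eq.trans ?_ ((yon S).map_comp _ _)))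
      refine congrArg (yon S).map ?_
      exact Over.OverMorphism.ext (Scheme.Hom.SpecMap_residueFieldMap_fromSpecResidueField _ _)
  obtain ⟨τb, eb, eb'⟩ := key b hbu hb
  obtain ⟨τc, ec, ec'⟩ := key c hcu hc
  haveI : Mono (FieldPt.ofPt a₂ u₂).toHom := h₂.mono
  have hτ : τb = τc := (yon S).map_injective ((cancel_mono (FieldPt.ofPt a₂ u₂).toHom).1 (eb'.trans ec'.symm))
  have hpt : ptι u₁ ≫ b = ptι u₁ ≫ c := by rw [← eb, ← ec, hτ]
  have hfac : ptι u₁ ≫ ρ = (ptι u₁ ≫ b) ≫ δ := (yon S).map_injective (sq.hom_ext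
    (by rw [← Functor.map_comp, ← Functor.map_comp, Category.assoc, Category.assoc, hρ₁, hδ₁, Category.assoc,
      Category.comp_id])
    (by rw [← Functor.map_comp, ← Functor.map_comp, Category.assoc, Category.assoc, hρ₂, hδ₂, Category.assoc,
      Category.comp_id, hpt]))
  let O : U₁.left.Opens := ρ.left ⁻¹ᵁ δ.left.opensRange
  have hu : u₁ ∈ O := by
    refine ⟨(ptι u₁ ≫ b).left (IsLocalRing.closedPoint (U₁.left.residueField u₁)), ?_⟩
    rw [← Scheme.Hom.comp_apply, ← Over.comp_left, ← hfac, Over.comp_left, Scheme.Hom.comp_apply]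
    exact congrArg ρ.left (apply_ptι u₁ _)
  let U : Over S := Over.mk (O.ι ≫ U₁.hom)
  let h : U ⟶ U₁ := Over.homMk O.ι rfl
  have hr : Set.range (U₁.left.fromSpecResidueField u₁) ⊆ Set.range O.ι := by
    rw [Scheme.range_fromSpecResidueField, Scheme.Opens.range_ι]
    rintro _ rfl
    exact hu
  let σ : Over.mk (U₁.left.fromSpecResidueField u₁ ≫ U₁.hom) ⟶ U :=
    Over.homMk (IsOpenImmersion.lift O.ι (U₁.left.fromSpecResidueField u₁) hr) (by
      show IsOpenImmersion.lift O.ι _ hr ≫ O.ι ≫ U₁.hom = _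
      rw [← Category.assoc, IsOpenImmersion.lift_fac]; rfl)
  have hσ : σ ≫ h = ptι u₁ := Over.OverMorphism.ext (IsOpenImmersion.lift_fac _ _ _)
  haveI : IsOpenImmersion h.left := inferInstanceAs (IsOpenImmersion O.ι)
  refine ⟨U, (yon S).map h ≫ a₁, _, h, isElemEtaleNbhd_of_lift hF h₁
    (repWith_comp ((repWith_yon_map_iff _ h).2 (inferInstance : Etale h.left)) h₁.etale) σ
    (by rw [← Category.assoc, ← Functor.map_comp, hσ]) _ rfl, rfl, ?_, ?_⟩
  · rw [← Scheme.Hom.comp_apply, ← Over.comp_left, hσ]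
    exact apply_ptι u₁ _
  · have hl : Set.range (h ≫ ρ).left ⊆ Set.range δ.left := by
      rintro _ ⟨z, rfl⟩
      exact z.2
    refine Over.OverMorphism.ext ?_
    rw [Over.comp_left, Over.comp_left, ← hρ₁, ← hρ₂, Over.comp_left, Over.comp_left, ← Category.assoc,
      ← Category.assoc, show h.left ≫ ρ.left = (h ≫ ρ).left from rfl,
      ← IsOpenImmersion.lift_fac δ.left (h ≫ ρ).left hl, Category.assoc,
      Category.assoc, hδl, show δ.left ≫ r₂.left = 𝟙 _ from congrArg CommaMorphism.left hδ₂]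

end Groth.Agent.ASp
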