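import Groth.Agent.Lib.AlgSpCharts
/-! Morphisms out of representable sheaves glue along open covers and disjoint unions. -/

set_option autoImplicit false
set_option linter.style.haveILetI false
set_option linter.unusedVariables false
set_option backward.isDefEq.respectTransparency.types false

universe u

open CategoryTheory CategoryTheory.Limits AlgebraicGeometry Opposite Topology

noncomputable section

namespace Groth.Agent.ASp

open _root_.AlgSp

variable {S : Scheme.{u}} {F : Sp S}

theorem ofArrows_open_mem {T : Over S} {ι : Type u} {W : ι → Over S} (c : ∀ i, W i ⟶ T)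
    [∀ i, IsOpenImmersion (c i).left] (hcov : ∀ t : ↥T.left, ∃ i, t ∈ Set.range (c i).left) :
    Sieve.ofArrows W c ∈ J S T := by
  change Sieve.overEquiv T (Sieve.ofArrows W c) ∈ Scheme.fppfTopology T.left
  have h : Presieve.ofArrows (fun i => (W i).left) (fun i => (c i).left) ∈
      Scheme.fppfPrecoverage T.left :=
    (Scheme.ofArrows_mem_precoverage_iff _).2 ⟨hcov, fun i => ⟨inferInstance, inferInstance⟩⟩
  refine GrothendieckTopology.superset_covering _ ?_ (Precoverage.generate_mem_toGrothendieck h)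
  rw [Sieve.generate_le_iff]
  rintro Z f ⟨i⟩
  rw [Sieve.overEquiv_iff]
  have : (Over.homMk (c i).left : Over.mk ((c i).left ≫ T.hom) ⟶ T) =
      Over.homMk (U := Over.mk ((c i).left ≫ T.hom)) (V := W i) (𝟙 _) (by simp) ≫ c i := by ext; simp
  rw [this]
  exact Sieve.downward_closed _ (Sieve.ofArrows_mk _ _ i) _

theorem hom_ext_of_cover {T : Over S} {ι : Type u} {W : ι → Over S} (c : ∀ i, W i ⟶ T)
    [∀ i, IsOpenImmersion (c i).left] (hcov : ∀ t : ↥T.left, ∃ i, t ∈ Set.range (c i).left)
    {m m' : (yon S).obj T ⟶ F} (h : ∀ i, (yon S).map (c i) ≫ m = (yon S).map (c i) ≫ m') : m = m' := by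
  apply sec.injective
  have hs : (Presieve.ofArrows W c).IsSheafFor F.obj :=
    (Presieve.isSheafFor_iff_generate _).2
      ((isSheaf_iff_isSheaf_of_type _ _).1 F.property _ (ofArrows_open_mem c hcov))
  refine hs.isSeparatedFor.ext ?_
  rintro Z f ⟨i⟩
  have := congrArg sec (h i)
  rwa [← sec_map, ← sec_map] at this

/-- Compatible morphisms on an open cover glue. -/
theorem exists_glue {T : Over S} {ι : Type u} {W : ι → Over S} (c : ∀ i, W i ⟶ T)
    [∀ i, IsOpenImmersion (c i).left] (hcov : ∀ t : ↥T.left, ∃ i, t ∈ Set.range (c i).left)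
    (g : ∀ i, (yon S).obj (W i) ⟶ F)
    (hg : ∀ i j (Z : Over S) (a : Z ⟶ W i) (b : Z ⟶ W j), a ≫ c i = b ≫ c j →
      (yon S).map a ≫ g i = (yon S).map b ≫ g j) :
    ∃ m : (yon S).obj T ⟶ F, ∀ i, (yon S).map (c i) ≫ m = g i := by
  have hs : (Presieve.ofArrows W c).IsSheafFor F.obj :=
    (Presieve.isSheafFor_iff_generate _).2
      ((isSheaf_iff_isSheaf_of_type _ _).1 F.property _ (ofArrows_open_mem c hcov))
  obtain ⟨t, ht, -⟩ := (Presieve.isSheafFor_arrows_iff _ c).1 hs (fun i => sec (g i)) (by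
    intro i j Z a b e
    rw [sec_map, sec_map, hg i j Z a b e])
  refine ⟨sec.symm t, fun i => sec.injective ?_⟩
  rw [← sec_map, Equiv.apply_symm_apply]
  exact ht i

/-- The disjoint union of a family of schemes over `S`. -/
def sigmaOver {ι : Type u} (W : ι → Over S) : Over S :=
  Over.mk (Y := ∐ fun i => (W i).left) (Sigma.desc fun i => (W i).hom)

def sigmaIncl {ι : Type u} (W : ι → Over S) (i : ι) : W i ⟶ sigmaOver W :=
  Over.homMk (Sigma.ι (fun i => (W i).left) i) (Sigma.ι_desc (fun i => (W i).hom) i)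

instance {ι : Type u} (W : ι → Over S) (i : ι) : IsOpenImmersion (sigmaIncl W i).left :=
  inferInstanceAs (IsOpenImmersion (Sigma.ι (fun i => (W i).left) i))

theorem sigmaIncl_cover {ι : Type u} (W : ι → Over S) (t : ↥(sigmaOver W).left) :
    ∃ i, t ∈ Set.range (sigmaIncl W i).left := by
  obtain ⟨i, y, hy⟩ := (sigmaOpenCover fun i => (W i).left).exists_eq t
  exact ⟨i, y, hy⟩

theorem sigmaIncl_disjoint {ι : Type u} (W : ι → Over S) {i j : ι} (a : ↥(W i).left) (b : ↥(W j).left)
    (h : (sigmaIncl W i).left a = (sigmaIncl W j).left b) : i = j := by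
  by_contra hij
  exact (disjoint_opensRange_sigmaι (fun i => (W i).left) i j hij).le_bot
    (show (sigmaIncl W i).left a ∈ _ from ⟨⟨a, rfl⟩, ⟨b, h.symm⟩⟩)

theorem hom_ext_of_isEmpty_left {Z : Over S} [IsEmpty Z.left] (x y : (yon S).obj Z ⟶ F) : x = y :=
  hom_ext_of_cover (T := Z) (ι := PEmpty.{u + 1}) (W := fun i => i.elim) (fun i => i.elim)
    (fun t => isEmptyElim t) fun i => i.elim

/-- A family of morphisms out of schemes gives a morphism out of their disjoint union. -/
theorem exists_sigmaDesc {ι : Type u} (W : ι → Over S) (g : ∀ i, (yon S).obj (W i) ⟶ F) :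
    ∃ m : (yon S).obj (sigmaOver W) ⟶ F, ∀ i, (yon S).map (sigmaIncl W i) ≫ m = g i := by
  refine exists_glue (sigmaIncl W) (sigmaIncl_cover W) g fun i j Z a b e => ?_
  by_cases hij : i = j
  · subst hij
    have hm : a = b := Over.OverMorphism.ext ((cancel_mono (sigmaIncl W i).left).1
      (by rw [← Over.comp_left, ← Over.comp_left, e]))
    rw [hm]
  · haveI : IsEmpty Z.left := ⟨fun z => hij (sigmaIncl_disjoint W (a.left z) (b.left z) (by
      rw [← Scheme.Hom.comp_apply, ← Scheme.Hom.comp_apply, ← Over.comp_left, ← Over.comp_left, e]))⟩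
    exact hom_ext_of_isEmpty_left _ _

end Groth.Agent.ASp
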