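import Groth.Agent.Lib.AlgSpClosedPt
import Groth.Agent.Lib.AlgSpSigma
/-! Algebraic spaces etale over a field. -/

set_option autoImplicit false
set_option linter.style.haveILetI false
set_option linter.unusedVariables false
set_option backward.isDefEq.respectTransparency.types false

universe u

open CategoryTheory CategoryTheory.Limits AlgebraicGeometry Opposite Topology

noncomputable section

namespace Groth.Agent.ASp

open _root_.AlgSp

variable {S : Scheme.{u}} {F : Sp S}

theorem isReduced_of_etale_field' {V : Scheme.{u}} {k : Type u} [Field k]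
    (c : V ⟶ Spec (CommRingCat.of k)) [Etale c] : IsReduced V := by
  haveI : ∀ i, IsReduced (V.affineCover.X i) := fun i =>
    isReduced_of_etale_field (k := k) (V.affineCover.f i ≫ c)
  exact IsReduced.of_openCover V V.affineCover

theorem discreteTopology_of_etale_field {V : Scheme.{u}} {k : Type u} [Field k]
    (c : V ⟶ Spec (CommRingCat.of k)) [Etale c] : DiscreteTopology V := by
  haveI : LocallyQuasiFinite c := locallyQuasiFinite_of_etale c
  haveI : Subsingleton ↥(Spec (CommRingCat.of k)) := inferInstanceAs (Subsingleton (PrimeSpectrum _))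
  exact isDiscrete_univ_iff.1 ((c.isDiscrete_preimage_singleton (IsLocalRing.closedPoint k)).mono
    fun w _ => Subsingleton.elim (α := ↥(Spec (CommRingCat.of k))) _ _)

/-- A quasi-compact monomorphism to a reduced discrete scheme is an open immersion. -/
theorem isOpenImmersion_of_mono_discrete {V U : Scheme.{u}} (f : V ⟶ U) [Mono f] [QuasiCompact f]
    [IsReduced U] [DiscreteTopology U] : IsOpenImmersion f := by
  let W : U.Opens := ⟨Set.range f, isOpen_discrete _⟩
  let f' : V ⟶ W := IsOpenImmersion.lift W.ι f (by rw [Scheme.Opens.range_ι]; exact subset_rfl)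
  have hf : f' ≫ W.ι = f := IsOpenImmersion.lift_fac _ _ _
  haveI : Mono f' := by
    haveI : Mono (f' ≫ W.ι) := hf.symm ▸ ‹Mono f›
    exact mono_of_mono f' W.ι
  haveI : QuasiCompact f' := by
    haveI : QuasiCompact (f' ≫ W.ι) := hf.symm ▸ ‹QuasiCompact f›
    exact QuasiCompact.of_comp f' W.ι
  haveI : Surjective f' := ⟨fun w => by
    obtain ⟨v, hv⟩ := w.2
    exact ⟨v, W.ι.injective (by rw [← Scheme.Hom.comp_apply, hf]; exact hv)⟩⟩
  haveI : DiscreteTopology W := inferInstanceAs (DiscreteTopology (W : Set U))
  haveI : IsReduced (W : Scheme) := isReduced_of_isOpenImmersion W.ι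
  haveI : Flat f' := flat_of_no_specialization f' fun b b' h => h.eq
  haveI := isIso_of_flat_qc_surj_mono f'
  rw [← hf]; infer_instance

theorem hom_left_etale {k : Type u} [Field k] {str : Spec (CommRingCat.of k) ⟶ S} (hF : IsAlgSpace F)
    {f : F ⟶ (yon S).obj (Over.mk str)} (hf : IsEtaleMor f) {U : Over S} {a : (yon S).obj U ⟶ F}
    (ha : RepWith @Etale a) : ∃ c : U ⟶ Over.mk str, (yon S).map c = a ≫ f ∧ Etale c.left := by
  obtain ⟨c, hc⟩ := (yon S).map_surjective (a ≫ f)
  refine ⟨c, hc, ?_⟩
  exact (repWith_yon_map_iff @Etale c).1 (hc ▸ hf a ha)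

/-- An algebraic space etale over a field is decent. -/
theorem isDecent_of_etale_field {k : Type u} [Field k] {str : Spec (CommRingCat.of k) ⟶ S} (hF : IsAlgSpace F)
    (f : F ⟶ (yon S).obj (Over.mk str)) (hf : IsEtaleMor f) : IsDecent F := by
  intro x
  obtain ⟨κ, U, a, hU, ha, href⟩ := exists_refines_affine hF
  obtain ⟨i, y, rfl⟩ := href.exists_pt x
  induction y using Points.ind with
  | h p =>
    rw [Points.map_mk]
    let q : FieldPt F := p.map (a i)
    refine decentAt_of_qc hF q ?_
    have hq : q.toHom = p.toHom ≫ a i := map_toHom p (a i)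
    have hr : Representable q.toHom := hF.representable_from_yon q.toHom
    choose V fst snd sq using fun j => exists_sq hr (a j)
    refine repWith_of_refines (P := @QuasiCompact) hr href sq fun j => (repWith_yon_map_iff _ _).2 ?_
    obtain ⟨c, hc'⟩ := (yon S).map_surjective (fst j)
    haveI : IsAffine (U j).left := hU j
    haveI : Etale c.left := (ha j).2 q.toHom ((yon S).map (snd j)) c (by rw [hc']; exact (sq j).flip)
    obtain ⟨ci, hci, hcie⟩ := hom_left_etale hF hf (ha i)
    obtain ⟨cj, hcj, hcje⟩ := hom_left_etale hF hf (ha j)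
    obtain ⟨e, he⟩ := (yon S).map_surjective (q.toHom ≫ f)
    -- V j is a subobject of the finite scheme q.pt ×_k U j
    have w : c ≫ e = snd j ≫ cj := (yon S).map_injective (by
      rw [Functor.map_comp, Functor.map_comp, he, hcj, hc', reassoc_of% (sq j).w])
    let T : Scheme.{u} := pullback e.left cj.left
    haveI : IsAffine q.pt.left := inferInstanceAs (IsAffine (Spec (CommRingCat.of q.K)))
    haveI : IsAffine (Over.mk str).left := inferInstanceAs (IsAffine (Spec (CommRingCat.of k)))
    haveI : IsAffine T := inferInstanceAs (IsAffine (pullback e.left cj.left))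
    haveI : Etale (pullback.fst e.left cj.left) := inferInstance
    haveI : DiscreteTopology T := discreteTopology_of_etale_field (k := q.K) (pullback.fst e.left cj.left)
    haveI : Finite T := finite_of_compact_of_discrete
    have w' : c.left ≫ e.left = (snd j).left ≫ cj.left := by
      rw [← Over.comp_left, ← Over.comp_left, w]
    let l : (V j).left ⟶ T := pullback.lift c.left (snd j).left w'
    haveI : Mono l := by
      refine ⟨fun {Z} x y hxy => ?_⟩
      have h1 : x ≫ c.left = y ≫ c.left := by
        have h := congrArg (· ≫ pullback.fst _ _) hxy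
        simp only [l, Category.assoc, pullback.lift_fst] at h
        exact h
      have h2 : x ≫ (snd j).left = y ≫ (snd j).left := by
        have h := congrArg (· ≫ pullback.snd _ _) hxy
        simp only [l, Category.assoc, pullback.lift_snd] at h
        exact h
      let Z' : Over S := Over.mk (x ≫ (V j).hom)
      have hy : y ≫ (V j).hom = x ≫ (V j).hom := by
        rw [← Over.w (snd j), ← reassoc_of% h2, Over.w]
      let x' : Z' ⟶ V j := Over.homMk x
      let y' : Z' ⟶ V j := Over.homMk y hy
      have e1 : x' ≫ c = y' ≫ c := Over.OverMorphism.ext h1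
      have e2 : x' ≫ snd j = y' ≫ snd j := Over.OverMorphism.ext h2
      have : (yon S).map x' = (yon S).map y' := (sq j).hom_ext
        (by rw [← hc', ← Functor.map_comp, ← Functor.map_comp, e1])
        (by rw [← Functor.map_comp, ← Functor.map_comp, e2])
      exact congrArg CommaMorphism.left ((yon S).map_injective this)
    haveI : Finite (V j).left := Finite.of_injective _ l.injective
    haveI : CompactSpace (V j).left := Finite.compactSpace
    exact quasiCompact_of_compactSpace (snd j).left

/-- An algebraic space covered by disjoint open points given by schemes is their disjoint union. -/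
theorem exists_iso_sigma (hF : IsAlgSpace F) {ι : Type u} (T : ι → Over S)
    (g : ∀ i, (yon S).obj (T i) ⟶ F) (hg : ∀ i, RepWith @IsOpenImmersion (g i))
    (hdisj : ∀ i j (a : ↥(T i).left) (b : ↥(T j).left), Points.ofPt (g i) a = Points.ofPt (g j) b → i = j)
    (hcov : ∀ x : Points F, ∃ i, x ∈ Set.range (Points.ofPt (g i))) :
    Nonempty ((yon S).obj (sigmaOver T) ≅ F) := by
  obtain ⟨m, hm⟩ := exists_sigmaDesc T g
  haveI : ∀ i, Mono (g i) := fun i =>
    mono_of_repWith_immersion (repWith_mono openImmersion_le_immersion (hg i))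
  haveI : Mono m := by
    refine mono_of_forall fun Z a b hab => ?_
    obtain ⟨a', rfl⟩ := (yon S).map_surjective a
    obtain ⟨b', rfl⟩ := (yon S).map_surjective b
    let O : ι × ι → Z.left.Opens := fun p =>
      a'.left ⁻¹ᵁ (sigmaIncl T p.1).left.opensRange ⊓ b'.left ⁻¹ᵁ (sigmaIncl T p.2).left.opensRange
    let W : ι × ι → Over S := fun p => Over.mk ((O p).ι ≫ Z.hom)
    let c : ∀ p, W p ⟶ Z := fun p => Over.homMk (O p).ι
    haveI : ∀ p, IsOpenImmersion (c p).left := fun p => inferInstanceAs (IsOpenImmersion (O p).ι)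
    refine hom_ext_of_cover c (fun z => ?_) fun p => ?_
    · obtain ⟨i, hi⟩ := sigmaIncl_cover T (a'.left z)
      obtain ⟨j, hj⟩ := sigmaIncl_cover T (b'.left z)
      exact ⟨(i, j), ⟨z, hi, hj⟩, rfl⟩
    · obtain ⟨i, j⟩ := p
      let a₁ : W (i, j) ⟶ T i := Over.homMk (IsOpenImmersion.lift (sigmaIncl T i).left ((c (i, j)).left ≫ a'.left)
        (by rintro _ ⟨w, rfl⟩; exact w.2.1)) (by
          rw [← Over.w (sigmaIncl T i), IsOpenImmersion.lift_fac_assoc, Category.assoc, Over.w]; rfl)
      let b₁ : W (i, j) ⟶ T j := Over.homMk (IsOpenImmersion.lift (sigmaIncl T j).left ((c (i, j)).left ≫ b'.left)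
        (by rintro _ ⟨w, rfl⟩; exact w.2.2)) (by
          rw [← Over.w (sigmaIncl T j), IsOpenImmersion.lift_fac_assoc, Category.assoc, Over.w]; rfl)
      have ha : a₁ ≫ sigmaIncl T i = c (i, j) ≫ a' := Over.OverMorphism.ext (IsOpenImmersion.lift_fac _ _ _)
      have hb : b₁ ≫ sigmaIncl T j = c (i, j) ≫ b' := Over.OverMorphism.ext (IsOpenImmersion.lift_fac _ _ _)
      rw [← Functor.map_comp, ← Functor.map_comp, ← ha, ← hb]
      have e : (yon S).map a₁ ≫ g i = (yon S).map b₁ ≫ g j := by
        rw [← hm i, ← hm j, ← Functor.map_comp_assoc, ← Functor.map_comp_assoc, ha, hb, Functor.map_comp,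
          Functor.map_comp, Category.assoc, Category.assoc, hab]
      rcases isEmpty_or_nonempty ↥(W (i, j)).left with he | ⟨⟨w⟩⟩
      · exact hom_ext_of_isEmpty_left _ _
      · have hij : i = j := hdisj i j (a₁.left w) (b₁.left w) (by
          rw [← ofPt_yon_map_comp, ← ofPt_yon_map_comp, e])
        subst hij
        rw [Functor.map_comp, Functor.map_comp, (cancel_mono (g i)).1 e]
  obtain ⟨U, p, hpe, hps⟩ := hF.atlas
  let O : ι → U.left.Opens := fun i => ⟨Points.ofPt p ⁻¹' Set.range (Points.ofPt (g i)), by
    refine IsOpen.preimage (Points.continuous_ofPt p) ?_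
    exact (isOpenMap_ofPt_of_etale (repWith_mono
      (fun _ _ h (_ : IsOpenImmersion h) => show Etale h from inferInstance) (hg i))).isOpen_range⟩
  let W : ι → Over S := fun i => Over.mk ((O i).ι ≫ U.hom)
  let c : ∀ i, W i ⟶ U := fun i => Over.homMk (O i).ι
  haveI : ∀ i, IsOpenImmersion (c i).left := fun i => inferInstanceAs (IsOpenImmersion (O i).ι)
  have hl : ∀ i, ∃ l : W i ⟶ T i, (yon S).map l ≫ g i = (yon S).map (c i) ≫ p := fun i => by
    obtain ⟨l, hl⟩ := exists_factor_of_range (hg i) ((yon S).map (c i) ≫ p) (by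
      rintro _ ⟨z, rfl⟩
      obtain ⟨w, rfl⟩ : ∃ w, Points.ofScheme (W i) w = z := (Points.schemeHomeo (W i)).surjective z
      rw [← Points.ofPt_eq_map_ofScheme, ofPt_yon_map_comp]
      obtain ⟨t, ht⟩ := w.2
      exact ⟨Points.ofScheme (T i) t, by rw [← Points.ofPt_eq_map_ofScheme]; exact ht⟩)
    obtain ⟨l', rfl⟩ := (yon S).map_surjective l
    exact ⟨l', hl⟩
  choose l hl using hl
  have hcov' : ∀ u : ↥U.left, ∃ i, u ∈ Set.range (c i).left := fun u => by
    obtain ⟨i, hi⟩ := hcov (Points.ofPt p u)
    exact ⟨i, ⟨u, hi⟩, rfl⟩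
  obtain ⟨s, hs⟩ := exists_glue c hcov' (fun i => (yon S).map (l i ≫ sigmaIncl T i)) (by
    intro i j Z a b e
    apply (cancel_mono m).1
    simp only [Functor.map_comp, Category.assoc, hm, hl]
    rw [← Functor.map_comp_assoc, ← Functor.map_comp_assoc, e])
  have hsp : s ≫ m = p := hom_ext_of_cover c hcov' fun i => by
    rw [reassoc_of% hs i, Functor.map_comp, Category.assoc, hm, hl]
  haveI := isLocallySurjective_of_etale hpe hps
  haveI : Epi p := inferInstance
  haveI : Epi m := epi_of_epi_fac hsp
  haveI : IsIso m := isIso_of_mono_of_epi _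
  exact ⟨asIso m⟩

theorem isRepresentable_of_iso {T : Over S} (e : (yon S).obj T ≅ F) : F.obj.IsRepresentable :=
  (representableByOfIso e).isRepresentable

/-- An algebraic space etale over a field is representable by a scheme. -/
theorem isRepresentable_of_etale_field {k : Type u} [Field k] {str : Spec (CommRingCat.of k) ⟶ S}
    (hF : IsAlgSpace F) (f : F ⟶ (yon S).obj (Over.mk str)) (hf : IsEtaleMor f) : F.obj.IsRepresentable := by
  have hd := isDecent_of_etale_field hF f hf
  obtain ⟨U, p, hpe, hps⟩ := hF.atlas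
  choose P hP hm hq using hd
  let ι := Quotient (Setoid.ker (Points.ofPt p))
  let x : ι → Points F := Quotient.lift (Points.ofPt p) fun a b h => h
  have hx : Function.Bijective x := ⟨fun a b => Quotient.inductionOn₂ a b fun a b h => Quotient.sound h,
    fun y => by obtain ⟨u, rfl⟩ := surjective_ofPt_of_repWith hps y; exact ⟨Quotient.mk _ u, rfl⟩⟩
  have hop : ∀ y : Points F, RepWith @IsOpenImmersion (P y).toHom := fun y => by
    obtain ⟨κ, V, a, hV, ha, href⟩ := exists_refines_affine hF
    choose W fst snd sq using fun j => exists_sq (hq y).rep (a j)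
    refine repWith_of_refines (P := @IsOpenImmersion) (hq y).rep href sq fun j => (repWith_yon_map_iff _ _).2 ?_
    obtain ⟨c, -, hce⟩ := hom_left_etale hF hf (ha j)
    haveI : DiscreteTopology (V j).left := discreteTopology_of_etale_field (k := k) c.left
    haveI : IsReduced (V j).left := isReduced_of_etale_field' (k := k) c.left
    haveI : QuasiCompact (snd j).left := (hq y).2 _ _ (snd j) (sq j)
    haveI : Mono (P y).toHom := hm y
    haveI : Mono (snd j) := (yon S).mono_of_mono_map (sq j).mono_snd_of_mono
    haveI : Mono (snd j).left := inferInstanceAs (Mono ((Over.forget S).map (snd j)))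
    exact isOpenImmersion_of_mono_discrete _
  obtain ⟨e⟩ := exists_iso_sigma hF (fun i => (P (x i)).pt) (fun i => (P (x i)).toHom) (fun i => hop _)
    (fun i j a b h => hx.1 (by rwa [Points.ofPt_toHom, Points.ofPt_toHom, hP, hP] at h))
    (fun y => by
      obtain ⟨i, rfl⟩ := hx.2 y
      exact ⟨i, IsLocalRing.closedPoint (P (x i)).K, (Points.ofPt_toHom _ _).trans (hP _)⟩)
  exact isRepresentable_of_iso e

end Groth.Agent.ASp

namespace Groth.Agent.ASp

open _root_.AlgSp

variable {S : Scheme.{u}} {F : Sp S}

theorem etale_of_mono_to_field (hF : IsAlgSpace F) {T : Over S} {k : Type u} [Field k]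
    {str : Spec (CommRingCat.of k) ⟶ S} (f : F ⟶ (yon S).obj (Over.mk str)) [Mono f] {U : Over S}
    {a : (yon S).obj U ⟶ F} (ha : RepWith @Etale a) :
    ∃ c : U ⟶ Over.mk str, (yon S).map c = a ≫ f ∧ Etale c.left := by
  obtain ⟨c, hc⟩ := (yon S).map_surjective (a ≫ f)
  refine ⟨c, hc, (IsZariskiLocalAtSource.iff_of_openCover (P := @Etale) U.left.affineCover).2 fun i => ?_⟩
  let W : Over S := Over.mk (U.left.affineCover.f i ≫ U.hom)
  let w : W ⟶ U := Over.homMk (U.left.affineCover.f i)
  haveI : IsAffine W.left := inferInstanceAs (IsAffine (U.left.affineCover.X i))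
  rcases isEmpty_or_nonempty ↥(U.left.affineCover.X i) with he | hne
  · haveI := he
    exact inferInstanceAs (Etale (U.left.affineCover.f i ≫ c.left))
  have ha' : RepWith @Etale ((yon S).map w ≫ a) :=
    repWith_yon_comp w (show Etale (U.left.affineCover.f i) from inferInstance) ha
  obtain ⟨V, fst, snd, sq⟩ := exists_sq ha'.rep ((yon S).map w ≫ a)
  obtain ⟨p, rfl⟩ := (yon S).map_surjective fst
  haveI : Etale snd.left := ha'.2 _ _ snd sq
  have sq' : IsPullback ((yon S).map p) ((yon S).map snd) ((yon S).map (w ≫ c)) ((yon S).map (w ≫ c)) := by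
    rw [Functor.map_comp, hc, ← Category.assoc]
    exact IsPullback.of_isLimit' ⟨by rw [← Category.assoc, sq.w, Category.assoc]⟩ (PullbackCone.IsLimit.mk _
      (fun s => sq.lift s.fst s.snd ((cancel_mono f).1 (by simpa using s.condition)))
      (fun s => sq.lift_fst _ _ _) (fun s => sq.lift_snd _ _ _)
      (fun s m h₁ h₂ => sq.hom_ext (by rw [h₁, sq.lift_fst]) (by rw [h₂, sq.lift_snd])))
  have sqS : IsPullback p.left snd.left (w ≫ c).left (w ≫ c).left :=
    (IsPullback.of_map (yon S) ((yon S).map_injective (by simpa only [Functor.map_comp] using sq'.w)) sq').map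
      (Over.forget S)
  haveI : IsAffine (Over.mk str).left := inferInstanceAs (IsAffine (Spec (CommRingCat.of k)))
  haveI : QuasiCompact (w ≫ c).left := quasiCompact_of_compactSpace _
  haveI : Subsingleton ↥(Over.mk str).left := inferInstanceAs (Subsingleton (PrimeSpectrum _))
  haveI : Nonempty ↥W.left := hne
  haveI : Surjective (w ≫ c).left := surjective_of_subsingleton _
  haveI : IsReduced (Over.mk str).left := inferInstanceAs (IsReduced (Spec (CommRingCat.of k)))
  haveI : Flat (w ≫ c).left := flat_of_no_specialization _ fun b b' _ => Subsingleton.elim _ _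
  exact MorphismProperty.of_isPullback_of_descendsAlong (P := @Etale)
    (Q := @Surjective ⊓ @Flat ⊓ @QuasiCompact) sqS.flip ⟨⟨inferInstance, inferInstance⟩, inferInstance⟩ ‹Etale snd.left›

theorem isEmpty_or_isIso_of_mono_to_field (hF : IsAlgSpace F) {k : Type u} [Field k]
    {str : Spec (CommRingCat.of k) ⟶ S} (f : F ⟶ (yon S).obj (Over.mk str)) [Mono f] :
    IsEmpty (Points F) ∨ IsIso f := by
  rcases isEmpty_or_nonempty (Points F) with he | ⟨⟨x⟩⟩
  · exact Or.inl he
  · refine Or.inr ?_
    obtain ⟨U, a, hae, has⟩ := hF.atlas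
    obtain ⟨c, hc, hce⟩ := etale_of_mono_to_field hF (T := U) f hae
    obtain ⟨u, -⟩ := surjective_ofPt_of_repWith has x
    haveI : Subsingleton ↥(Over.mk str).left := inferInstanceAs (Subsingleton (PrimeSpectrum _))
    haveI : Nonempty U.left := ⟨u⟩
    haveI : Surjective c.left := surjective_of_subsingleton _
    haveI := isLocallySurjective_of_etale (f := (yon S).map c) ((repWith_yon_map_iff @Etale c).2 hce)
      ((repWith_yon_map_iff @Surjective c).2 ‹_›)
    haveI : Epi ((yon S).map c) := inferInstance
    haveI : Epi f := epi_of_epi_fac hc.symm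
    exact isIso_of_mono_of_epi _

end Groth.Agent.ASp
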