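import Groth.Agent.Lib.AlgSpNoethDescent
import Groth.Prelude.Def_AlgSpDec
import Mathlib.Topology.NoetherianSpace
/-! Small consequences of the chart calculus. -/

set_option autoImplicit false
set_option linter.style.haveILetI false
set_option linter.unusedVariables false
set_option backward.isDefEq.respectTransparency.types false

universe u

open CategoryTheory CategoryTheory.Limits AlgebraicGeometry Opposite Topology

noncomputable section

namespace Groth.Agent.ASp

open _root_.AlgSp

variable {S : Scheme.{u}} {X Y : Sp S}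

theorem finite_irreducibleComponents_chart (hN : IsLocNoethSp X) {U : Over S} (a : (yon S).obj U ⟶ X)
    (ha : RepWith @Etale a) (W : U.left.Opens) (hW : IsCompact (W : Set ↥U.left)) :
    (irreducibleComponents ↥W).Finite := by
  haveI := isLocallyNoetherian_chart hN a ha
  haveI : IsLocallyNoetherian W.toScheme := isLocallyNoetherian_of_isOpenImmersion W.ι
  haveI : CompactSpace W.toScheme := isCompact_iff_compactSpace.1 hW
  haveI : IsNoetherian W.toScheme := ⟨⟩
  exact TopologicalSpace.NoetherianSpace.finite_irreducibleComponents (α := W.toScheme)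

/-- A property local for etale coverings holds etale locally iff it holds on every etale chart. -/
theorem etaleLocally_iff_forall_chart (hX : IsAlgSpace X) (P : Scheme.{u} → Prop)
    (hP : ∀ (V : Scheme.{u}) (𝒰 : Scheme.Cover.{u} (Scheme.precoverage @Etale) V), P V ↔ ∀ i, P (𝒰.X i)) :
    EtaleLocally P X ↔ ∀ (U : Over S) (a : (yon S).obj U ⟶ X), RepWith @Etale a → P U.left := by
  constructor
  · rintro ⟨U₀, p, hpe, hps, h₀⟩ U a ha
    obtain ⟨R, fst, snd, sq⟩ := exists_sq ha.rep p
    obtain ⟨e, rfl⟩ := (yon S).map_surjective fst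
    haveI : Etale snd.left := ha.2 p _ snd sq
    haveI : Etale e.left := hpe.2 a _ e sq.flip
    haveI : Surjective e.left := hps.2 a _ e sq.flip
    let T : PUnit.{u + 1} ⊕ PUnit.{u + 1} → Scheme.{u} := fun i => i.elim (fun _ => R.left) (fun _ => U₀.left)
    let g : ∀ i, T i ⟶ U₀.left := fun i => match i with
      | Sum.inl _ => snd.left
      | Sum.inr _ => 𝟙 _
    let 𝒰 : Scheme.Cover.{u} (Scheme.precoverage @Etale) U₀.left :=
      Scheme.Cover.mkOfCovers _ T g (fun x => ⟨Sum.inr ⟨⟩, x, rfl⟩) fun i => match i with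
        | Sum.inl _ => ‹Etale snd.left›
        | Sum.inr _ => (inferInstance : Etale (𝟙 U₀.left))
    have hR : P R.left := (hP _ 𝒰).1 h₀ (Sum.inl ⟨⟩)
    let 𝒱 : Scheme.Cover.{u} (Scheme.precoverage @Etale) U.left :=
      Scheme.Cover.mkOfCovers PUnit.{u + 1} (fun _ => R.left) (fun _ => e.left)
        (fun x => ⟨⟨⟩, e.left.surjective x⟩) fun _ => ‹Etale e.left›
    exact (hP _ 𝒱).2 fun _ => hR
  · intro h
    obtain ⟨U, p, hpe, hps⟩ := hX.atlas
    exact ⟨U, p, hpe, hps, h U p hpe⟩

/-- Points of a space representable over a space whose points are monomorphisms are monomorphisms. -/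
theorem exists_mono_point {f : X ⟶ Y} (hf : Representable f)
    (hY : ∀ y : Points Y, ∃ q : FieldPt Y, Points.mk q = y ∧ Mono q.toHom) (x : Points X) :
    ∃ p : FieldPt X, Points.mk p = x ∧ Mono p.toHom := by
  obtain ⟨q, hq, hqm⟩ := hY (Points.map f x)
  obtain ⟨V, fst, snd, sq⟩ := exists_sq hf q.toHom
  haveI := hqm
  haveI : Mono fst := PullbackCone.mono_fst_of_is_pullback_of_mono sq.isLimit
  obtain ⟨z, hz, -⟩ := exists_pt_of_sq sq x (IsLocalRing.closedPoint q.K)
    (hq.symm.trans (mk_eq_ofPt q _))
  refine ⟨FieldPt.ofPt fst z, hz, ?_⟩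
  rw [FieldPt.toHom_ofPt]
  haveI : Mono (V.left.fromSpecResidueField z) := inferInstance
  haveI : Mono (Over.homMk (V.left.fromSpecResidueField z) rfl :
      Over.mk (V.left.fromSpecResidueField z ≫ V.hom) ⟶ V) :=
    (Over.forget S).mono_of_mono_map (inferInstanceAs (Mono (V.left.fromSpecResidueField z)))
  have hm : Mono ((yon S).map (Over.homMk (V.left.fromSpecResidueField z) rfl :
      Over.mk (V.left.fromSpecResidueField z ≫ V.hom) ⟶ V)) := Functor.map_mono (yon S) _
  exact @mono_comp _ _ _ _ _ _ hm _ ‹Mono fst›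

end Groth.Agent.ASp
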