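import Groth.Agent.Lib.AlgSpFormalRows
import Groth.Agent.Lib.H6.Thick
/-! Base change of first order thickenings of algebraic spaces. -/

set_option autoImplicit false
set_option linter.style.haveILetI false
set_option linter.unusedVariables false
set_option backward.isDefEq.respectTransparency.types false

universe u

open CategoryTheory CategoryTheory.Limits AlgebraicGeometry Opposite Topology

noncomputable section

namespace Groth.Agent.ASp

open _root_.AlgSp

/-- An ideal sheaf that pulls back to zero along a jointly surjective family of flat morphisms is zero. -/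
theorem idealSheaf_eq_bot_of_comap {Y : Scheme.{u}} {ι : Type*} {Z : ι → Scheme.{u}} (f : ∀ k, Z k ⟶ Y)
    (hf : ∀ k, Flat (f k)) (hs : ∀ y, ∃ k z, f k z = y) (J : Y.IdealSheafData) (h : ∀ k, J.comap (f k) = ⊥) :
    J = ⊥ := by
  refine bot_unique fun U x hx => ?_
  have hk : ∀ k, (f k).app U.1 x = 0 := fun k => by
    have h' : J ≤ (f k).ker := by
      rw [← Scheme.IdealSheafData.map_bot, Scheme.IdealSheafData.le_map_iff_comap_le, h k]
    have hU : (f k).ker.ideal U ≤ RingHom.ker ((f k).app U.1).hom := Scheme.IdealSheafData.ideal_ofIdeals_le _ U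
    exact hU (h' U hx)
  have h0 : x = 0 := by
    refine TopCat.Presheaf.section_ext Y.sheaf U.1 x 0 fun y hy => ?_
    obtain ⟨k, z, rfl⟩ := hs y
    show Y.presheaf.germ U.1 (f k z) hy x = Y.presheaf.germ U.1 (f k z) hy 0
    have hff : ((f k).stalkMap z).hom.Flat := by haveI := hf k; exact Flat.stalkMap (f k) z
    have hinj : Function.Injective ((f k).stalkMap z).hom := by
      algebraize [((f k).stalkMap z).hom]
      haveI : IsLocalHom (algebraMap (Y.presheaf.stalk (f k z)) ((Z k).presheaf.stalk z)) :=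
        inferInstanceAs (IsLocalHom ((f k).stalkMap z).hom)
      haveI := Module.FaithfullyFlat.of_flat_of_isLocalHom (A := Y.presheaf.stalk (f k z)) (B := (Z k).presheaf.stalk z)
      exact FaithfulSMul.algebraMap_injective _ _
    refine hinj ?_
    rw [map_zero, map_zero]
    refine (Scheme.Hom.germ_stalkMap_apply (f k) U.1 z hy x).trans ?_
    rw [hk k, map_zero]
  rw [h0]
  exact zero_mem _

theorem ker_eq_comap {Z Z' W W' : Scheme.{u}} {i : Z ⟶ Z'} {f : Z ⟶ W} {g : Z' ⟶ W'} {j : W ⟶ W'}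
    [IsClosedImmersion j] (hP : IsPullback i f g j) : i.ker = j.ker.comap g := by
  rw [← Scheme.IdealSheafData.ker_fst_of_isClosedImmersion j, ← hP.isoPullback_hom_fst, Scheme.Hom.ker_comp_of_isIso]

variable {S : Scheme.{u}} {T T' : Sp S}

/-- Every pullback of a first order thickening to a scheme is a first order thickening. -/
theorem fot_pullback (hT' : IsAlgSpace T') {j : T ⟶ T'} (hj : IsFOThickMor j) {V W : Over S}
    {b : (yon S).obj V ⟶ T'} {fst : (yon S).obj W ⟶ T} {t : W ⟶ V} (sq : IsPullback fst ((yon S).map t) j b) :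
    MoreMor.IsFirstOrderThickening t.left := by
  obtain ⟨hcl, hsu⟩ := hj.1.2 b fst t sq
  refine ⟨⟨hcl, hsu⟩, ?_⟩
  haveI := hcl
  obtain ⟨U, c, hce, hcs⟩ := hT'.atlas
  obtain ⟨P, pV, pU, sqP⟩ := exists_sq hce.rep b
  haveI : Etale pU.left := hce.2 b pV pU sqP
  haveI : Surjective pU.left := hcs.2 b pV pU sqP
  obtain ⟨p, rfl⟩ := (yon S).map_surjective pV
  let ι := {k : P.left.affineOpens // ∃ O : U.left.affineOpens, k.1 ≤ p.left ⁻¹ᵁ O.1}
  refine idealSheaf_eq_bot_of_comap (fun k : ι => k.1.1.ι ≫ pU.left) (fun k => inferInstance) (fun v => ?_) _ fun k => ?_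
  · obtain ⟨z, rfl⟩ := pU.left.surjective v
    obtain ⟨O, hO, hzO, -⟩ := exists_isAffineOpen_mem_and_subset (X := U.left) (x := p.left z) (U := ⊤) trivial
    obtain ⟨Q, hQ, hzQ, hQO⟩ := exists_isAffineOpen_mem_and_subset (X := P.left) (x := z) (U := p.left ⁻¹ᵁ O) hzO
    exact ⟨⟨⟨Q, hQ⟩, ⟨O, hO⟩, hQO⟩, ⟨z, hzQ⟩, by rw [Scheme.Hom.comp_apply]; rfl⟩
  · obtain ⟨⟨Q, hQ⟩, ⟨O, hO⟩, hQO⟩ := k
    let iO : Over.mk (O.ι ≫ U.hom) ⟶ U := Over.homMk O.ι rfl
    let iQ : Over.mk (Q.ι ≫ P.hom) ⟶ P := Over.homMk Q.ι rfl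
    haveI : IsOpenImmersion iO.left := inferInstanceAs (IsOpenImmersion O.ι)
    let r : Over.mk (Q.ι ≫ P.hom) ⟶ Over.mk (O.ι ≫ U.hom) :=
      Over.homMk (p.left.resLE O Q hQO) (by
        show p.left.resLE O Q hQO ≫ O.ι ≫ U.hom = Q.ι ≫ P.hom
        rw [Scheme.Hom.resLE_comp_ι_assoc, Over.w p])
    have hr : r ≫ iO = iQ ≫ p := Over.OverMorphism.ext (Scheme.Hom.resLE_comp_ι p.left hQO)
    obtain ⟨WO, fO, tO, sqO⟩ := exists_sq hj.1.rep ((yon S).map iO ≫ c)
    obtain ⟨hclO, hkO⟩ := thick_chart hj (show IsAffine (Over.mk (O.ι ≫ U.hom)).left from hO)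
      (repWith_comp ((repWith_yon_map_iff _ _).2 (inferInstance : Etale iO.left)) hce) sqO
    have e : ((yon S).map r) ≫ (yon S).map iO ≫ c = ((yon S).map (iQ ≫ pU)) ≫ b := by
      rw [← Category.assoc, ← Functor.map_comp, hr, Functor.map_comp, Category.assoc, sqP.w, ← Category.assoc,
        ← Functor.map_comp]
    let WQ := pullback t (iQ ≫ pU)
    let tQ : WQ ⟶ Over.mk (Q.ι ≫ P.hom) := pullback.snd t (iQ ≫ pU)
    have sqQ : IsPullback ((yon S).map (pullback.fst t (iQ ≫ pU)) ≫ fst) ((yon S).map tQ) j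
        ((yon S).map r ≫ (yon S).map iO ≫ c) := by
      rw [e]
      exact ((IsPullback.of_hasPullback t (iQ ≫ pU)).map (yon S)).paste_horiz sq
    obtain ⟨a, ha⟩ := (yon S).map_surjective (sqO.lift ((yon S).map (pullback.fst t (iQ ≫ pU)) ≫ fst)
      ((yon S).map tQ ≫ (yon S).map r) (sqQ.w.trans (Category.assoc _ _ _).symm))
    have hsq : IsPullback a tQ tO r := IsPullback.of_map (yon S)
      ((yon S).map_injective (by rw [Functor.map_comp, Functor.map_comp, ha, sqO.lift_snd]))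
      (IsPullback.of_right (by rw [ha, sqO.lift_fst]; exact sqQ) (by rw [ha, sqO.lift_snd]) sqO)
    haveI := hclO
    haveI : IsClosedImmersion t.left := hcl
    have h1 : tQ.left.ker = tO.left.ker.comap r.left := ker_eq_comap (hsq.map (Over.forget S)).flip
    have h2 : tQ.left.ker = t.left.ker.comap (iQ ≫ pU).left :=
      ker_eq_comap ((IsPullback.of_hasPullback t (iQ ≫ pU)).map (Over.forget S)).flip
    have h3 : (iQ ≫ pU).left = Q.ι ≫ pU.left := rfl
    rw [H7Cartier.comap_mul, ← h3, ← h2, h1, ← H7Cartier.comap_mul, hkO, Scheme.IdealSheafData.comap_bot]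

theorem fot_yon {U V : Over S} {g : U ⟶ V} (h : MoreMor.IsFirstOrderThickening g.left) :
    IsFOThickMor ((yon S).map g) := by
  refine ⟨(isThickMor_yon_map_iff g).2 h.1, fun V' W b fst snd _ _ sq => ?_⟩
  obtain ⟨b, rfl⟩ := (yon S).map_surjective b
  obtain ⟨fst, rfl⟩ := (yon S).map_surjective fst
  have sq' : IsPullback fst snd g b := IsPullback.of_map (yon S)
    ((yon S).map_injective (by rw [Functor.map_comp, Functor.map_comp, sq.w])) sq
  exact (H6.Thick.of_isPullback (sq'.map (Over.forget S)).flip h).2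

theorem fot_of_isPullback {P Q : Sp S} (hQ : IsAlgSpace Q) (hT' : IsAlgSpace T') {j : T ⟶ T'} (hj : IsFOThickMor j)
    {g : Q ⟶ T'} {pT : P ⟶ T} {pQ : P ⟶ Q} (sqP : IsPullback pT pQ j g) : IsFOThickMor pQ := by
  refine ⟨repWith_baseChange sqP hj.1, fun V W b fst snd _ _ sq => ?_⟩
  exact (fot_pullback hT' hj (sq.paste_horiz sqP)).2

end Groth.Agent.ASp
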