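import Groth.Agent.Lib.AlgSpDecent
import Groth.Agent.Lib.AlgSpAffineDescent
import Mathlib.CategoryTheory.Sites.RegularEpi
/-! Finite equivalence relations on the spectrum of a field and descent of field-valued points. -/

set_option autoImplicit false
set_option linter.style.haveILetI false
set_option linter.unusedVariables false
set_option backward.isDefEq.respectTransparency.types false

universe u v

open CategoryTheory CategoryTheory.Limits AlgebraicGeometry Opposite TensorProduct

noncomputable section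

namespace Groth.Agent.ASp

open _root_.AlgSp

section Algebra

variable {k A : Type u} [Field k] [CommRing A] [Algebra k A] [Nontrivial A] (j : k →+* A)

/-- The field of invariants of a pair of maps out of a field. -/
def invField : Subfield k where
  toSubring := (algebraMap k A).eqLocus j
  inv_mem' x hx := by
    change algebraMap k A x⁻¹ = j x⁻¹
    rcases eq_or_ne x 0 with rfl | h
    · simp
    · have hx' : algebraMap k A x = j x := hx
      refine IsUnit.mul_left_cancel ((IsUnit.mk0 x h).map (algebraMap k A)) ?_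
      rw [← map_mul, mul_inv_cancel₀ h, hx', ← map_mul, mul_inv_cancel₀ h, map_one, map_one]

theorem mem_invField {x : k} : x ∈ invField j ↔ algebraMap k A x = j x := Iff.rfl

/-- The comparison `k ⊗_{k'} k → A`. -/
def invCmp : k ⊗[↥(invField j)] k →+* A :=
  (Algebra.TensorProduct.lift (A := k) (B := k) (C := A) (R := ↥(invField j))
    (IsScalarTower.toAlgHom ↥(invField j) k A) ⟨j, fun r => ((mem_invField j).1 r.2).symm⟩
    (fun _ _ => Commute.all _ _)).toRingHom

theorem invCmp_tmul (a b : k) : invCmp j (a ⊗ₜ b) = algebraMap k A a * j b := rfl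

/-- Injectivity of the comparison, in coordinates: independence over the invariants gives independence of the images. -/
theorem linearIndependent_inv {T : Type u} [CommRing T] (il ir : A →+* T) (m : A →+* T)
    (hl : ∀ a : k, m (algebraMap k A a) = il (algebraMap k A a)) (hr : ∀ a : k, m (j a) = ir (j a))
    (hmid : ∀ a : k, il (j a) = ir (algebraMap k A a))
    (hfree : ∀ (n : ℕ) (c : Fin n → A) (d : Fin n → k), ∑ i, il (c i) * ir (j (d i)) = 0 →
      ∀ φ : A →+ k, (∀ (a : A) (x : k), φ (a * j x) = φ a * x) →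
        ∑ i, algebraMap k A (φ (c i)) * j (d i) = 0)
    (hsep : ∀ a : A, (∀ φ : A →+ k, (∀ (a : A) (x : k), φ (a * j x) = φ a * x) → φ a = 0) → a = 0) :
    ∀ (n : ℕ) (x : Fin n → k), LinearIndependent ↥(invField j) x →
      ∀ a : Fin n → k, ∑ i, algebraMap k A (a i) * j (x i) = 0 → a = 0 := by
  intro n
  induction n with
  | zero => intro x _ a _; exact funext fun i => i.elim0
  | succ n ih =>
    intro x hx a ha
    by_contra h0
    obtain ⟨i₀, hi₀⟩ := Function.ne_iff.1 h0
    -- normalise
    let a' : Fin (n + 1) → k := fun i => (a i₀)⁻¹ * a i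
    have ha' : ∑ i, algebraMap k A (a' i) * j (x i) = 0 := by
      simp only [a', map_mul, mul_assoc, ← Finset.mul_sum, ha, mul_zero]
    have h1 : a' i₀ = 1 := inv_mul_cancel₀ hi₀
    have e1 : ∑ i, il (algebraMap k A (a' i)) * ir (j (x i)) = 0 := by
      have := congrArg m ha'
      simpa [map_sum, hl, hr] using this
    have e2 : ∑ i, il (j (a' i)) * ir (j (x i)) = 0 := by
      have := congrArg ir ha'
      simpa [map_sum, hmid] using this
    let c : Fin (n + 1) → A := fun i => algebraMap k A (a' i) - j (a' i)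
    have e3 : ∑ i, il (c i) * ir (j (x i)) = 0 := by
      simp only [c, map_sub, sub_mul, Finset.sum_sub_distrib, e1, e2, sub_zero]
    have hc0 : c i₀ = 0 := by simp [c, h1]
    have hc : ∀ i, c i = 0 := fun i => hsep _ fun φ hφ => by
      have hs := hfree _ c x e3 φ hφ
      rw [Fin.sum_univ_succAbove _ i₀, hc0, map_zero, map_zero, zero_mul, zero_add] at hs
      have := ih (x ∘ i₀.succAbove) (hx.comp _ Fin.succAbove_right_injective) (fun i => φ (c (i₀.succAbove i))) hs
      rcases eq_or_ne i i₀ with rfl | hne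
      · rw [hc0, map_zero]
      · obtain ⟨l, rfl⟩ := Fin.exists_succAbove_eq hne
        exact congrFun this l
    have hmem : ∀ i, a' i ∈ invField j := fun i => sub_eq_zero.1 (hc i)
    have hrel : ∑ i, (⟨a' i, hmem i⟩ : ↥(invField j)) • x i = 0 := by
      refine j.injective ?_
      rw [map_zero, map_sum, ← ha']
      refine Finset.sum_congr rfl fun i _ => ?_
      rw [Subfield.smul_def, smul_eq_mul, map_mul, ← (mem_invField j).1 (hmem i)]
    have := Fintype.linearIndependent_iff.1 hx _ hrel i₀
    exact one_ne_zero (h1.symm.trans (congrArg Subtype.val this))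

/-- `A` as an algebra through a second map out of `k`. -/
def JAlg (_j : k →+* A) : Type u := A

instance : CommRing (JAlg j) := inferInstanceAs (CommRing A)

instance : Algebra k (JAlg j) := RingHom.toAlgebra (R := k) (S := JAlg j) j

/-- The ring of composable pairs of the relation. -/
abbrev pairRing : Type u := JAlg j ⊗[k] A

/-- The first pair map. -/
def pairL : A →+* pairRing j :=
  (Algebra.TensorProduct.includeLeftRingHom : JAlg j →+* JAlg j ⊗[k] A)

/-- The second pair map. -/
def pairR : A →+* pairRing j :=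
  (Algebra.TensorProduct.includeRight : A →ₐ[k] JAlg j ⊗[k] A).toRingHom

theorem pair_mid (a : k) : pairL j (j a) = pairR j (algebraMap k A a) :=
  (Algebra.TensorProduct.includeRight (R := k) (A := JAlg j) (B := A)).commutes a ▸ rfl

theorem pairL_mul_pairR (c d : A) : pairL j c * pairR j d = (show JAlg j from c) ⊗ₜ[k] d := by
  show ((show JAlg j from c) ⊗ₜ[k] (1 : A)) * ((1 : JAlg j) ⊗ₜ[k] d) = _
  rw [Algebra.TensorProduct.tmul_mul_tmul, mul_one, one_mul]

/-- A finite relation on the spectrum of a field satisfying the cocycle condition is effective. -/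
theorem injective_invCmp [Module.Finite k A] (m : A →+* pairRing j)
    (hl : ∀ a : k, m (algebraMap k A a) = pairL j (algebraMap k A a)) (hr : ∀ a : k, m (j a) = pairR j (j a)) :
    Module.Finite ↥(invField j) k ∧ Function.Injective (invCmp j) := by
  have key := linearIndependent_inv j (pairL j) (pairR j) m hl hr (pair_mid j) (fun n c d e φ hφ => by
    let φ' : JAlg j →ₗ[k] k :=
      { toFun := φ
        map_add' := φ.map_add
        map_smul' := fun x a => by
          show φ (j x * (show A from a)) = x * φ a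
          rw [mul_comm, hφ, mul_comm] }
    simp only [pairL_mul_pairR] at e
    have e' := congrArg (fun t => TensorProduct.lid k A (LinearMap.rTensor A φ' t)) e
    simpa [φ', Algebra.smul_def] using e') (fun a h => by
    refine (Module.forall_dual_apply_eq_zero_iff k (V := JAlg j) a).1 fun ψ => h ψ.toAddMonoidHom fun b x => ?_
    show ψ ((show JAlg j from b) * algebraMap k (JAlg j) x) = ψ b * x
    rw [mul_comm, ← Algebra.smul_def, map_smul, smul_eq_mul, mul_comm])
  have hbound : ∀ s : Finset k, LinearIndependent ↥(invField j) (fun i : s => (i : k)) →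
      s.card ≤ Module.finrank k A := by
    intro s hs
    have hx := hs.comp s.equivFin.symm s.equivFin.symm.injective
    have : LinearIndependent k fun i => j ((s.equivFin.symm i : k)) :=
      Fintype.linearIndependent_iff.2 fun g hg i =>
        congrFun (key _ _ hx g (by simpa [Algebra.smul_def] using hg)) i
    simpa using this.fintype_card_le_finrank
  have hfin : Module.Finite ↥(invField j) k :=
    Module.rank_lt_aleph0_iff.1 ((rank_le hbound).trans_lt Cardinal.natCast_lt_aleph0)
  haveI := hfin
  refine ⟨hfin, (injective_iff_map_eq_zero _).2 fun z hz => ?_⟩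
  let b := Module.finBasis ↥(invField j) k
  let B := Algebra.TensorProduct.basis k b
  have hz' : z = ∑ i, B.repr z i • B i := (B.sum_repr z).symm
  have hcoef : (fun i => B.repr z i) = 0 := key _ b b.linearIndependent _ (by
    rw [hz', map_sum] at hz
    simpa [B, smul_tmul', invCmp_tmul] using hz)
  rw [hz']
  simp [fun i => congrFun hcoef i]

end Algebra

section Geometry

variable {S : Scheme.{u}} {F : Sp S}

theorem quasiCompact_of_comp_surjective {X Y Z : Scheme.{u}} (f : X ⟶ Y) (g : Y ⟶ Z) [Surjective f]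
    (h : QuasiCompact (f ≫ g)) : QuasiCompact g := by
  refine ⟨fun U hU hc => ?_⟩
  have h2 := (h.isCompact_preimage U hU hc).image f.continuous
  rwa [Scheme.Hom.comp_base, TopCat.coe_comp, Set.preimage_comp, Set.image_preimage_eq _ f.surjective] at h2

theorem mono_of_yon {T : Over S} (p : (yon S).obj T ⟶ F)
    (h : ∀ (U : Over S) (a b : U ⟶ T), (yon S).map a ≫ p = (yon S).map b ≫ p → a = b) : Mono p := by
  constructor
  intro Z u v e
  refine Sheaf.hom_ext (NatTrans.ext (funext fun U => ?_))
  ext x
  obtain ⟨x, rfl⟩ := (sec (F := Z) (T := U.unop)).surjective x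
  refine (sec_comp x u).symm.trans (Eq.trans ?_ (sec_comp x v))
  congr 1
  obtain ⟨a, ha⟩ := (yon S).map_surjective (x ≫ u)
  obtain ⟨b, hb⟩ := (yon S).map_surjective (x ≫ v)
  rw [← ha, ← hb, h _ a b (by rw [ha, hb, Category.assoc, Category.assoc, e])]

/-- A field-valued point whose self-fibre product is finite over it descends to a monomorphism from a field. -/
theorem exists_field_descent (hF : IsAlgSpace F) {k : Type u} [Field k] {str : Spec (CommRingCat.of k) ⟶ S}
    (q : (yon S).obj (Over.mk str) ⟶ F) {W : Over S} {w₁ w₂ : W ⟶ Over.mk str}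
    (sq : IsPullback ((yon S).map w₁) ((yon S).map w₂) q q) [IsFinite w₁.left] :
    ∃ (k' : Type u) (_ : Field k') (str' : Spec (CommRingCat.of k') ⟶ S) (c : Over.mk str ⟶ Over.mk str')
      (p : (yon S).obj (Over.mk str') ⟶ F), (yon S).map c ≫ p = q ∧ Mono p ∧ IsFinite c.left ∧ Flat c.left ∧
        LocallyOfFinitePresentation c.left ∧ Surjective c.left ∧ IsPullback w₁ w₂ c c ∧
        (RepWith @QuasiCompact q → RepWith @QuasiCompact p) := by
  haveI : IsAffine (Over.mk str).left := inferInstanceAs (IsAffine (Spec (CommRingCat.of k)))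
  haveI : IsAffine W.left := isAffine_of_isAffineHom w₁.left
  let A : CommRingCat.{u} := Γ(W.left, ⊤)
  let W' : Over S := Over.mk (W.left.isoSpec.inv ≫ W.hom)
  let i : W' ≅ W := Over.isoMk W.left.isoSpec.symm rfl
  let p₁ := i.hom ≫ w₁
  let p₂ := i.hom ≫ w₂
  have sq' : IsPullback ((yon S).map p₁) ((yon S).map p₂) q q :=
    sq.of_iso ((yon S).mapIso i).symm (Iso.refl _) (Iso.refl _) (Iso.refl _) (by simp [p₁]) (by simp [p₂]) (by simp) (by simp)
  obtain ⟨φ₁, hφ₁⟩ := Spec.map_surjective (R := CommRingCat.of k) (S := A) p₁.left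
  obtain ⟨φ₂, hφ₂⟩ := Spec.map_surjective (R := CommRingCat.of k) (S := A) p₂.left
  letI : Algebra k A := φ₁.hom.toAlgebra
  let j : k →+* A := φ₂.hom
  haveI hfin : Module.Finite k A := by
    have : IsFinite (Spec.map φ₁) := by
      rw [hφ₁]; exact inferInstanceAs (IsFinite (W.left.isoSpec.inv ≫ w₁.left))
    exact (IsFinite.SpecMap_iff φ₁).1 this
  haveI : Nontrivial A := by
    obtain ⟨d, hd⟩ := (yon S).map_surjective (sq'.lift (𝟙 _) (𝟙 _) rfl)
    obtain ⟨ε, -⟩ := Spec.map_surjective (R := A) (S := CommRingCat.of k) d.left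
    exact RingHom.domain_nontrivial ε.hom
  -- the cocycle
  let g₁ : Spec (CommRingCat.of (pairRing j)) ⟶ W'.left := Spec.map (CommRingCat.ofHom (pairL j))
  let g₂ : Spec (CommRingCat.of (pairRing j)) ⟶ W'.left := Spec.map (CommRingCat.ofHom (pairR j))
  have hg : g₁ ≫ p₂.left = g₂ ≫ p₁.left := by
    rw [← hφ₁, ← hφ₂, ← Spec.map_comp, ← Spec.map_comp]
    congr 1
    exact CommRingCat.hom_ext (RingHom.ext (pair_mid j))
  let G₁ : Over.mk (g₁ ≫ W'.hom) ⟶ W' := Over.homMk g₁
  let G₂ : Over.mk (g₁ ≫ W'.hom) ⟶ W' := Over.homMk g₂ (by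
    show g₂ ≫ W'.hom = g₁ ≫ W'.hom
    calc g₂ ≫ W'.hom = g₂ ≫ p₁.left ≫ str := congrArg (g₂ ≫ ·) (Over.w p₁).symm
      _ = g₁ ≫ p₂.left ≫ str := by rw [reassoc_of% hg]
      _ = g₁ ≫ W'.hom := congrArg (g₁ ≫ ·) (Over.w p₂))
  have hG : G₁ ≫ p₂ = G₂ ≫ p₁ := Over.OverMorphism.ext hg
  have he : (yon S).map (G₁ ≫ p₁) ≫ q = (yon S).map (G₂ ≫ p₂) ≫ q := by
    rw [Functor.map_comp, Category.assoc, sq'.w, ← Category.assoc, ← Functor.map_comp, hG, Functor.map_comp,
      Category.assoc, sq'.w, ← Category.assoc, ← Functor.map_comp]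
  obtain ⟨G₃, hG₃⟩ := (yon S).map_surjective (sq'.lift _ _ he)
  have h₃₁ : G₃ ≫ p₁ = G₁ ≫ p₁ := (yon S).map_injective (by rw [Functor.map_comp, hG₃, sq'.lift_fst])
  have h₃₂ : G₃ ≫ p₂ = G₂ ≫ p₂ := (yon S).map_injective (by rw [Functor.map_comp, hG₃, sq'.lift_snd])
  obtain ⟨m, hm⟩ := Spec.map_surjective (R := A) (S := CommRingCat.of (pairRing j)) G₃.left
  have em₁ : φ₁ ≫ m = φ₁ ≫ CommRingCat.ofHom (pairL j) := Spec.map_injective (by
    rw [Spec.map_comp, Spec.map_comp, hm, hφ₁]
    exact congrArg CommaMorphism.left h₃₁)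
  have em₂ : φ₂ ≫ m = φ₂ ≫ CommRingCat.ofHom (pairR j) := Spec.map_injective (by
    rw [Spec.map_comp, Spec.map_comp, hm, hφ₂]
    exact congrArg CommaMorphism.left h₃₂)
  obtain ⟨hkfin, hinj⟩ := injective_invCmp j m.hom
    (fun a => ConcreteCategory.congr_hom em₁ a) (fun a => ConcreteCategory.congr_hom em₂ a)
  haveI := hkfin
  -- surjectivity of the comparison
  let k' := ↥(invField j)
  let C : CommRingCat.{u} := CommRingCat.of (k ⊗[k'] k)
  let κ : C ⟶ A := CommRingCat.ofHom (invCmp j)
  let inl : CommRingCat.of k ⟶ C := CommRingCat.ofHom Algebra.TensorProduct.includeLeftRingHom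
  let inr : CommRingCat.of k ⟶ C :=
    CommRingCat.ofHom (Algebra.TensorProduct.includeRight (R := k') (A := k) (B := k)).toRingHom
  have hl : inl ≫ κ = φ₁ := CommRingCat.hom_ext (RingHom.ext fun a => by
    show invCmp j (a ⊗ₜ 1) = φ₁.hom a
    rw [invCmp_tmul, map_one, mul_one]; rfl)
  have hr : inr ≫ κ = φ₂ := CommRingCat.hom_ext (RingHom.ext fun a => by
    show invCmp j (1 ⊗ₜ a) = φ₂.hom a
    rw [invCmp_tmul, map_one, one_mul])
  haveI : Mono (Spec.map κ) := ⟨fun {Z} u v e => by
    have e₁ : u ≫ p₁.left = v ≫ p₁.left := by rw [← hφ₁, ← hl, Spec.map_comp, reassoc_of% e]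
    have e₂ : u ≫ p₂.left = v ≫ p₂.left := by rw [← hφ₂, ← hr, Spec.map_comp, reassoc_of% e]
    let U : Over.mk (u ≫ W'.hom) ⟶ W' := Over.homMk u
    let V : Over.mk (u ≫ W'.hom) ⟶ W' := Over.homMk v (by
      show v ≫ W'.hom = u ≫ W'.hom
      rw [← Over.w p₁, ← reassoc_of% e₁])
    have : U = V := (yon S).map_injective (sq'.hom_ext
      (by rw [← Functor.map_comp, ← Functor.map_comp, show U ≫ p₁ = V ≫ p₁ from Over.OverMorphism.ext e₁])
      (by rw [← Functor.map_comp, ← Functor.map_comp, show U ≫ p₂ = V ≫ p₂ from Over.OverMorphism.ext e₂]))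
    exact congrArg CommaMorphism.left this⟩
  haveI : IsFinite (Spec.map κ) := (IsFinite.SpecMap_iff κ).2
    (RingHom.Finite.of_comp_finite (f := inl.hom) (by
      rw [← CommRingCat.hom_comp, hl]
      exact (RingHom.finite_algebraMap (A := k) (B := A)).2 hfin))
  have hsurj : Function.Surjective κ.hom := by
    haveI : IsClosedImmersion (Spec.map κ) := (IsClosedImmersion.iff_isFinite_and_mono _).2 ⟨inferInstance, inferInstance⟩
    have h := (IsClosedImmersion.isAffine_surjective_of_isAffine (Spec.map κ)).2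
    intro a
    obtain ⟨b, hb⟩ := h ((Scheme.ΓSpecIso A).inv.hom a)
    refine ⟨(Scheme.ΓSpecIso C).hom.hom b, ?_⟩
    have e := ConcreteCategory.congr_hom (Scheme.ΓSpecIso_naturality κ) b
    simp only [CommRingCat.comp_apply] at e
    rw [← e, hb]
    simp
  haveI : IsIso κ := (ConcreteCategory.isIso_iff_bijective κ).2 ⟨hinj, hsurj⟩
  -- the descended field
  let ι : CommRingCat.of k' ⟶ CommRingCat.of k := CommRingCat.ofHom (algebraMap k' k)
  let c₀ := Spec.map ι
  have sqc : IsPullback p₁.left p₂.left c₀ c₀ := by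
    have h0 := isPullback_SpecMap_of_isPushout (f := ι) (g := ι) (inl := inl) (inr := inr)
      (CommRingCat.isPushout_tensorProduct k' k k)
    refine h0.of_iso (asIso (Spec.map κ)).symm (Iso.refl _) (Iso.refl _) (Iso.refl _) ?_ ?_ (by simp [c₀]) (by simp [c₀])
    · rw [← hφ₁, ← hl, Spec.map_comp]; simp
    · rw [← hφ₂, ← hr, Spec.map_comp]; simp
  haveI : IsFinite c₀ := (IsFinite.SpecMap_iff ι).2 ((RingHom.finite_algebraMap (A := k') (B := k)).2 hkfin)
  haveI : Flat c₀ := (HasRingHomProperty.Spec_iff (P := @Flat)).2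
    ((RingHom.flat_algebraMap_iff (R := k') (S := k)).2 inferInstance)
  haveI : LocallyOfFinitePresentation c₀ := (HasRingHomProperty.Spec_iff (P := @LocallyOfFinitePresentation)).2
    ((RingHom.finitePresentation_algebraMap (A := k') (B := k)).2 (Algebra.FinitePresentation.of_finiteType.1 inferInstance))
  haveI : Surjective c₀ := ⟨fun x => ⟨IsLocalRing.closedPoint k, Subsingleton.elim (α := PrimeSpectrum k') _ _⟩⟩
  haveI : EffectiveEpi c₀ := inferInstance
  have hstr : ∀ {Z : Scheme.{u}} (u v : Z ⟶ Spec (CommRingCat.of k)), u ≫ c₀ = v ≫ c₀ → u ≫ str = v ≫ str :=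
    fun {Z} u v e => by
    obtain ⟨l, hl₁, hl₂⟩ : ∃ l, l ≫ p₁.left = u ∧ l ≫ p₂.left = v :=
      ⟨sqc.lift u v e, sqc.lift_fst _ _ _, sqc.lift_snd _ _ _⟩
    rw [← hl₁, ← hl₂, Category.assoc, Category.assoc]
    exact congrArg (l ≫ ·) ((Over.w p₁).trans (Over.w p₂).symm)
  let str' : Spec (CommRingCat.of k') ⟶ S := EffectiveEpi.desc c₀ str hstr
  let c : Over.mk str ⟶ Over.mk str' := Over.homMk c₀ (EffectiveEpi.fac c₀ str hstr)
  have sqO : IsPullback p₁ p₂ c c :=
    IsPullback.of_map (Over.forget S) (Over.OverMorphism.ext sqc.w) sqc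
  have sqY := (yon S).map_isPullback sqO
  have hrep : RepWith @Surjective ((yon S).map c) := (repWith_yon_map_iff _ _).2 ‹Surjective c₀›
  haveI := isLocallySurjective_of_repWith (f := (yon S).map c) ((repWith_yon_map_iff _ _).2 ‹Flat c₀›)
    ((repWith_yon_map_iff _ _).2 ‹LocallyOfFinitePresentation c₀›) hrep
  haveI : Epi ((yon S).map c) := inferInstance
  haveI : EffectiveEpi ((yon S).map c) := (isRegularEpi_iff_effectiveEpi _).1 (IsRegularEpiCategory.regularEpiOfEpi _)
  let p := EffectiveEpi.desc ((yon S).map c) q (fun {Z} u v e => by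
    obtain ⟨l, hl₁, hl₂⟩ : ∃ l, l ≫ (yon S).map p₁ = u ∧ l ≫ (yon S).map p₂ = v :=
      ⟨sqY.lift u v e, sqY.lift_fst _ _ _, sqY.lift_snd _ _ _⟩
    rw [← hl₁, ← hl₂, Category.assoc, Category.assoc, sq'.w])
  have hfac : (yon S).map c ≫ p = q := EffectiveEpi.fac _ _ _
  refine ⟨k', inferInstance, str', c, p, hfac, ?_, ‹IsFinite c₀›, ‹Flat c₀›, ‹LocallyOfFinitePresentation c₀›,
    ‹Surjective c₀›, sqO.of_iso i (Iso.refl _) (Iso.refl _) (Iso.refl _) (by simp [p₁]) (by simp [p₂]) (by simp) (by simp),
    fun hq => ?_⟩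
  · refine mono_of_yon p fun U a b e => ?_
    haveI : QuasiCompact c.left := inferInstanceAs (QuasiCompact c₀)
    haveI : Flat c.left := ‹Flat c₀›
    haveI : Surjective c.left := ‹Surjective c₀›
    let x := pullback.fst a c
    haveI := effectiveEpi_snd c a
    haveI := effectiveEpi_snd c (x ≫ b)
    let y := pullback.fst (x ≫ b) c
    let s := y ≫ pullback.snd a c
    let t := pullback.snd (x ≫ b) c
    have hs : s ≫ c = y ≫ x ≫ a := by simp only [s, Category.assoc, ← pullback.condition]; rfl
    have ht : t ≫ c = y ≫ x ≫ b := (pullback.condition (f := x ≫ b) (g := c)).symm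
    have hq' : (yon S).map s ≫ q = (yon S).map t ≫ q := by
      rw [← hfac, ← Functor.map_comp_assoc, ← Functor.map_comp_assoc, hs, ht]
      simp only [Functor.map_comp, Category.assoc, e]
    obtain ⟨l, hl⟩ := (yon S).map_surjective (sq'.lift _ _ hq')
    have l₁ : l ≫ p₁ = s := (yon S).map_injective (by rw [Functor.map_comp, hl, sq'.lift_fst])
    have l₂ : l ≫ p₂ = t := (yon S).map_injective (by rw [Functor.map_comp, hl, sq'.lift_snd])
    have e' : (y.left ≫ x.left) ≫ a.left = (y.left ≫ x.left) ≫ b.left := by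
      have : y ≫ x ≫ a = y ≫ x ≫ b := by
        rw [← hs, ← ht, ← l₁, ← l₂]
        exact (Category.assoc _ _ _).trans ((congrArg (l ≫ ·) sqO.w).trans (Category.assoc _ _ _).symm)
      simpa using congrArg CommaMorphism.left this
    exact Over.OverMorphism.ext ((cancel_epi x.left).1 ((cancel_epi y.left).1 (by simpa using e')))
  · refine repWith_of_forall (hF.representable_from_yon p) fun T V g fst snd sqp => ?_
    obtain ⟨f₀, hf₀⟩ := (yon S).map_surjective fst
    subst hf₀
    have sqV := (yon S).map_isPullback (IsPullback.of_hasPullback c f₀)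
    have big := sqV.flip.paste_horiz sqp.flip
    rw [hfac, ← Functor.map_comp] at big
    haveI : Surjective (pullback.snd c f₀).left := MorphismProperty.of_isPullback (P := @Surjective)
      ((IsPullback.of_hasPullback c f₀).map (Over.forget S)) ‹Surjective c₀›
    refine quasiCompact_of_comp_surjective (pullback.snd c f₀).left snd.left ?_
    exact hq.2 g _ (pullback.snd c f₀ ≫ snd) big.flip

/-- Quasi-compactness of a morphism from a scheme descends along surjections of the source. -/
theorem repWith_qc_of_surjective (hF : IsAlgSpace F) {T T' : Over S} (c : T' ⟶ T) [Surjective c.left]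
    (p : (yon S).obj T ⟶ F) (hq : RepWith @QuasiCompact ((yon S).map c ≫ p)) : RepWith @QuasiCompact p := by
  refine repWith_of_forall (hF.representable_from_yon p) fun R V g fst snd sqp => ?_
  obtain ⟨f₀, hf₀⟩ := (yon S).map_surjective fst
  subst hf₀
  have sqV := (yon S).map_isPullback (IsPullback.of_hasPullback c f₀)
  have big := sqV.flip.paste_horiz sqp.flip
  rw [← Functor.map_comp] at big
  haveI : Surjective (pullback.snd c f₀).left := MorphismProperty.of_isPullback (P := @Surjective)
    ((IsPullback.of_hasPullback c f₀).map (Over.forget S)) ‹Surjective c.left›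
  refine quasiCompact_of_comp_surjective (pullback.snd c f₀).left snd.left ?_
  exact hq.2 g _ (pullback.snd c f₀ ≫ snd) big.flip

theorem surjective_of_subsingleton {A B : Scheme.{u}} (f : A ⟶ B) [Subsingleton B] [Nonempty A] : Surjective f :=
  ⟨fun b => ⟨Classical.arbitrary A, Subsingleton.elim _ _⟩⟩

/-- A point with a quasi-compact field-valued representative is decent. -/
theorem decentAt_of_qc (hF : IsAlgSpace F) (q₀ : FieldPt F) (hq₀ : RepWith @QuasiCompact q₀.toHom) :
    DecentAt (Points.mk q₀) := by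
  obtain ⟨κ, U, a, hU, ha, href⟩ := exists_refines_affine hF
  obtain ⟨l, z, hz⟩ := href.exists_pt (Points.mk q₀)
  obtain ⟨u, rfl⟩ := (Points.schemeHomeo (U l)).surjective z
  have hu : Points.ofPt (a l) u = Points.mk q₀ := by rw [← hz, Points.ofPt_eq_map_ofScheme]; rfl
  haveI : IsAffine (U l).left := hU l
  let q₁ : FieldPt F := FieldPt.ofPt (a l) u
  have hx : Points.mk q₁ = Points.mk q₀ := hu
  -- quasi-compactness of the residual point
  have hq : RepWith @QuasiCompact q₁.toHom := by
    obtain ⟨Ω, _, w, a₁, b₁, hab⟩ := Points.mk_eq_mk_iff.1 hx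
    haveI : Subsingleton q₁.pt.left := inferInstanceAs (Subsingleton (Spec (CommRingCat.of q₁.K)))
    haveI : Nonempty (Over.mk w).left := inferInstanceAs (Nonempty (Spec (CommRingCat.of Ω)))
    haveI := surjective_of_subsingleton a₁.left
    refine repWith_qc_of_surjective hF a₁ q₁.toHom ?_
    have e : (yon S).map a₁ ≫ q₁.toHom = (yon S).map b₁ ≫ q₀.toHom := by
      apply sec.injective
      rw [← sec_map, ← sec_map]
      show F.obj.map a₁.op (sec q₁.toHom) = F.obj.map b₁.op (sec q₀.toHom)
      rw [show sec q₁.toHom = q₁.val from FieldPt.uliftYonedaEquiv_toHom q₁,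
        show sec q₀.toHom = q₀.val from FieldPt.uliftYonedaEquiv_toHom q₀, hab]
    rw [e]
    haveI : Subsingleton (Over.mk w).left := inferInstanceAs (Subsingleton (Spec (CommRingCat.of Ω)))
    exact repWith_comp ((repWith_yon_map_iff _ b₁).2 (quasiCompact_of_subsingleton _)) hq₀
  -- its self fibre product is finite
  let k : Type u := (U l).left.residueField u
  let str : Spec (CommRingCat.of k) ⟶ S := (U l).left.fromSpecResidueField u ≫ (U l).hom
  let ι : Over.mk str ⟶ U l := Over.homMk ((U l).left.fromSpecResidueField u) rfl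
  let q : (yon S).obj (Over.mk str) ⟶ F := (yon S).map ι ≫ a l
  have eq₁ : q₁.toHom = q := FieldPt.toHom_ofPt (a l) u
  have hq' : RepWith @QuasiCompact q := eq₁ ▸ hq
  obtain ⟨E, fst, snd, sq⟩ := exists_sq hq'.rep (a l)
  obtain ⟨c, rfl⟩ := (yon S).map_surjective fst
  have hsq : QuasiCompact snd.left := hq'.2 (a l) _ snd sq
  haveI : Etale c.left := (ha l).2 q ((yon S).map snd) c sq.flip
  haveI : CompactSpace E.left := QuasiCompact.compactSpace_of_compactSpace snd.left
  haveI : Subsingleton (Over.mk str).left := inferInstanceAs (Subsingleton (Spec (CommRingCat.of k)))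
  haveI : LocallyQuasiFinite c.left := locallyQuasiFinite_of_etale c.left
  haveI : DiscreteTopology E.left := by
    have h1 := c.left.isDiscrete_preimage_singleton (IsLocalRing.closedPoint k)
    have h2 := h1.mono (show (Set.univ : Set E.left) ⊆ _ from
      fun w _ => Subsingleton.elim (α := ↥(Over.mk str).left) _ _)
    exact isDiscrete_univ_iff.1 h2
  haveI : IsLocallyArtinian (Over.mk str).left := inferInstanceAs (IsLocallyArtinian (Spec (CommRingCat.of k)))
  haveI : QuasiCompact c.left := (quasiCompact_iff_compactSpace (f := c.left)).2 inferInstance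
  haveI : IsFinite c.left := IsFinite.of_locallyQuasiFinite c.left
  have sqW := (IsPullback.of_hasPullback snd ι).map (Over.forget S)
  haveI : IsPreimmersion (pullback.fst snd ι).left := MorphismProperty.of_isPullback (P := @IsPreimmersion) sqW.flip
    (inferInstanceAs (IsPreimmersion ((U l).left.fromSpecResidueField u)))
  haveI : IsClosedImmersion (pullback.fst snd ι).left :=
    IsClosedImmersion.of_isPreimmersion _ (isClosed_discrete _)
  have big := ((yon S).map_isPullback (IsPullback.of_hasPullback snd ι)).paste_horiz sq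
  rw [← Functor.map_comp] at big
  haveI : IsFinite (pullback.fst snd ι ≫ c).left := inferInstanceAs (IsFinite ((pullback.fst snd ι).left ≫ c.left))
  obtain ⟨k', _, str', c', p, hfac, hm, -, -, -, -, -, hqc⟩ := exists_field_descent hF q big
  let P : FieldPt F := { K := k', str := str', val := sec p }
  have hP : P.toHom = p := sec.symm_apply_apply p
  refine ⟨P, ?_, hP ▸ hm, hP ▸ hqc hq'⟩
  rw [← hx]
  refine Points.sound ⟨k, inferInstance, str, c', 𝟙 _, ?_⟩
  show F.obj.map c'.op (sec p) = F.obj.map (𝟙 (Over.mk str)).op q₁.val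
  rw [sec_map, hfac, ← eq₁, op_id, Functor.map_id_apply]
  exact FieldPt.uliftYonedaEquiv_toHom q₁

end Geometry

end Groth.Agent.ASp
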