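import Groth.Agent.Lib.AlgSpRefinedDVR
import Groth.Agent.Lib.AlgSpEtaleField
import Mathlib.RingTheory.DedekindDomain.IntegralClosure
import Mathlib.RingTheory.DedekindDomain.Dvr
import Mathlib.RingTheory.Unramified.Field
/-! Dotted arrows after a finite separable extension. -/

set_option autoImplicit false
set_option linter.style.haveILetI false
set_option linter.unusedVariables false
set_option backward.isDefEq.respectTransparency.types false

universe u

open CategoryTheory CategoryTheory.Limits AlgebraicGeometry Opposite Topology IsLocalRing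

noncomputable section

namespace Groth.Agent.ASp

open _root_.AlgSp

variable {S : Scheme.{u}} {X Y : Sp S}

/-- A valuation subring of a finite separable extension dominating a discrete valuation ring is one. -/
theorem isDVR_of_finite_separable {A K K' : Type u} [CommRing A] [IsDomain A] [IsDiscreteValuationRing A] [Field K]
    [Algebra A K] [IsFractionRing A K] [Field K'] (ψ : K →+* K') (hfin : letI := ψ.toAlgebra; Module.Finite K K')
    (hsep : letI := ψ.toAlgebra; Algebra.IsSeparable K K') (R : ValuationSubring K') (φ : A →+* R)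
    (hc : R.subtype.comp φ = ψ.comp (algebraMap A K)) [IsLocalHom φ] : IsDiscreteValuationRing R := by
  letI : Algebra K K' := ψ.toAlgebra
  letI : Algebra A K' := (ψ.comp (algebraMap A K)).toAlgebra
  haveI : IsScalarTower A K K' := IsScalarTower.of_algebraMap_eq fun _ => rfl
  haveI := hfin
  haveI := hsep
  let C := integralClosure A K'
  haveI : IsDedekindDomain C := IsIntegralClosure.isDedekindDomain A K K' C
  haveI : IsFractionRing C K' := integralClosure.isFractionRing_of_finite_extension K K'
  have hCR : ∀ c : C, (c : K') ∈ R := fun c => by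
    obtain ⟨y, hy⟩ := (IsIntegrallyClosed.isIntegral_iff (R := R) (K := K')).1
      (IsIntegral.map_of_comp_eq φ (RingHom.id K') hc c.2)
    exact (show (y : K') = (c : K') from hy) ▸ y.2
  let i : C →+* R := C.val.toRingHom.codRestrict R.toSubring hCR
  let P : Ideal C := (maximalIdeal R).comap i
  have hP0 : P ≠ ⊥ := fun h => by
    obtain ⟨ϖ, hϖ⟩ := IsDiscreteValuationRing.exists_irreducible A
    have h1 : algebraMap A C ϖ ∈ P := by
      show i (algebraMap A C ϖ) ∈ maximalIdeal R
      rw [show i (algebraMap A C ϖ) = φ ϖ from Subtype.ext (RingHom.congr_fun hc ϖ).symm]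
      exact map_nonunit φ ϖ ((mem_maximalIdeal _).2 hϖ.not_isUnit)
    rw [h, Ideal.mem_bot] at h1
    refine hϖ.ne_zero (IsFractionRing.injective A K (ψ.injective ?_))
    rw [map_zero, map_zero]
    exact congrArg Subtype.val h1
  let Cp := Localization.AtPrime P
  have hu : ∀ y : P.primeCompl, IsUnit (i y) := fun y => by
    by_contra h
    exact y.2 ((mem_maximalIdeal _).2 h)
  let g : Cp →+* R := IsLocalization.lift hu
  haveI hdvr : IsDiscreteValuationRing Cp := IsLocalization.AtPrime.isDiscreteValuationRing_of_dedekind_domain C hP0 Cp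
  letI : Algebra Cp K' := (R.subtype.comp g).toAlgebra
  haveI : IsScalarTower C Cp K' := IsScalarTower.of_algebraMap_eq fun c =>
    (congrArg R.subtype (IsLocalization.lift_eq (S := Cp) hu c)).symm
  haveI : IsFractionRing Cp K' := IsFractionRing.isFractionRing_of_isDomain_of_isLocalization P.primeCompl Cp K'
  haveI : IsLocalHom g := ⟨fun x hx => by
    obtain ⟨⟨c, s⟩, rfl⟩ := IsLocalization.mk'_surjective P.primeCompl x
    rw [IsLocalization.lift_mk'] at hx
    rw [IsLocalization.AtPrime.isUnit_mk'_iff Cp P]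
    exact fun hc' => (mem_maximalIdeal _).1 hc' (isUnit_of_mul_isUnit_left hx)⟩
  have hgs : Function.Surjective g := fun r => by
    rcases ValuationRing.isInteger_or_isInteger Cp (r : K') with ⟨y, hy⟩ | ⟨y, hy⟩
    · exact ⟨y, Subtype.ext hy⟩
    · by_cases hr : r = 0
      · exact ⟨0, by rw [hr, map_zero]⟩
      · have h1 : g y * r = 1 := Subtype.ext (by
          show algebraMap Cp K' y * (r : K') = 1
          rw [hy, inv_mul_cancel₀ fun h0 => hr (Subtype.ext h0)])
        obtain ⟨v, hv⟩ := IsUnit.of_map g y (IsUnit.of_mul_eq_one (b := r) h1)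
        refine ⟨↑v⁻¹, ?_⟩
        calc g ↑v⁻¹ = g ↑v⁻¹ * (g y * r) := by rw [h1, mul_one]
          _ = r := by rw [← mul_assoc, ← map_mul, ← hv, Units.inv_mul, map_one, one_mul]
  exact IsDiscreteValuationRing.RingEquivClass.isDiscreteValuationRing (RingEquiv.ofBijective g
    ⟨fun a b h => IsFractionRing.injective Cp K' (congrArg R.subtype h), hgs⟩)

/-- The dotted arrow after a given extension, with free structure morphisms. -/
def LiftExtWith {f : X ⟶ Y} (q : ValSq f) {A' K' : Type u} [CommRing A'] [Field K'] [Algebra A' K'] (φ : q.A →+* A')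
    (ψ : q.K →+* K') : Prop :=
  ∃ (sA' : Spec (.of A') ⟶ S) (sK' : Spec (.of K') ⟶ S) (hφ : Spec.map (CommRingCat.ofHom φ) ≫ q.str = sA')
    (hψ : Spec.map (CommRingCat.ofHom ψ) ≫ q.ptK.hom = sK')
    (hK : Spec.map (CommRingCat.ofHom (algebraMap A' K')) ≫ sA' = sK') (l : (yon S).obj (specOver sA') ⟶ X),
    (yon S).map (specMap (algebraMap A' K') sA' sK' hK) ≫ l = (yon S).map (specMap ψ _ sK' hψ) ≫ q.top ∧
      l ≫ f = (yon S).map (specMap φ q.str sA' hφ) ≫ q.bot

set_option maxHeartbeats 1000000 in
/-- A generization in an etale chart gives a dotted arrow after a finite separable extension. -/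
theorem exists_finiteSeparable_lift {f : X ⟶ Y} (q : ValSq f) {P : Sp S} (hP : IsAlgSpace P)
    {p₁ : P ⟶ X} {π : P ⟶ (yon S).obj q.ptA} (sq : IsPullback p₁ π f q.bot) (k0 : (yon S).obj q.ptK ⟶ P)
    (hk0f : k0 ≫ p₁ = q.top) (hk0π : k0 ≫ π = (yon S).map q.j) {U : Over S} [IsAffine U.left]
    (a : (yon S).obj U ⟶ P) (hae : RepWith @Etale a) {v v' : ↥U.left} (hsp : v' ⤳ v)
    (hv' : Points.ofPt a v' = Points.ofPt k0 (show ↥q.ptK.left from closedPoint q.K))
    (hv : Points.map π (Points.ofPt a v) = Points.schemeHomeo q.ptA (closedPoint q.A)) :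
    ∃ e : q.DomExt, (letI := e.ψ.toAlgebra; Module.Finite q.K e.K' ∧ Algebra.IsSeparable q.K e.K') ∧
      (IsDiscreteValuationRing q.A → IsDiscreteValuationRing e.A') ∧ e.HasLift := by
  let ptk : ↥q.ptK.left := closedPoint q.K
  obtain ⟨V, fst, snd, sqV⟩ := exists_sq hae.rep k0
  haveI : Etale snd.left := hae.2 k0 fst snd sqV
  obtain ⟨fV, rfl⟩ := (yon S).map_surjective fst
  obtain ⟨z, hz₁, -⟩ := exists_pt_of_sq sqV (Points.ofScheme U v') ptk
    (by rw [← Points.ofPt_eq_map_ofScheme]; exact hv')
  have hzv : fV.left z = v' := by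
    rw [← Category.comp_id ((yon S).map fV), ofPt_yon_map_comp] at hz₁
    exact (Points.schemeHomeo U).injective hz₁
  haveI : DiscreteTopology V.left := discreteTopology_of_etale_field (k := q.K) snd.left
  haveI : IsClosedImmersion (V.left.fromSpecResidueField z) :=
    (isClosed_singleton_iff_isClosedImmersion (X := V.left) (x := z)).1 (isClosed_discrete _)
  let K' : Type u := V.left.residueField z
  obtain ⟨ψK, hψK⟩ := Spec.map_surjective (R := CommRingCat.of q.K) (S := CommRingCat.of K')
    (V.left.fromSpecResidueField z ≫ snd.left)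
  have hlft : LocallyOfFiniteType (Spec.map ψK) := by
    rw [hψK]
    exact MorphismProperty.comp_mem @LocallyOfFiniteType (V.left.fromSpecResidueField z) snd.left inferInstance inferInstance
  have hfu : FormallyUnramified (Spec.map ψK) := by
    rw [hψK]
    exact MorphismProperty.comp_mem @FormallyUnramified (V.left.fromSpecResidueField z) snd.left inferInstance inferInstance
  rw [HasRingHomProperty.Spec_iff (P := @LocallyOfFiniteType)] at hlft
  rw [HasRingHomProperty.Spec_iff (P := @FormallyUnramified)] at hfu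
  letI : Algebra q.K K' := ψK.hom.toAlgebra
  haveI : Algebra.FiniteType q.K K' := hlft
  haveI : Algebra.FormallyUnramified q.K K' := hfu
  haveI hfin : Module.Finite q.K K' := Algebra.FormallyUnramified.finite_of_free q.K K'
  have hsep : Algebra.IsSeparable q.K K' := (Algebra.FormallyUnramified.iff_isSeparable q.K K').1 hfu
  obtain ⟨c, hc'⟩ := (yon S).map_surjective (a ≫ π)
  have hfc : fV ≫ c = snd ≫ q.j := (yon S).map_injective (by
    rw [Functor.map_comp, Functor.map_comp, hc', ← Category.assoc, sqV.w, Category.assoc, hk0π])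
  have hcv : c.left v = (closedPoint q.A : ↥q.ptA.left) := (Points.schemeHomeo q.ptA).injective (by
    rw [← hv, Points.map_ofPt, ← hc', Points.ofPt_eq_map_ofScheme]
    exact (Points.map_yon_map_apply c v).symm)
  subst hzv
  -- the valuation ring
  let θ : U.left.presheaf.stalk v ⟶ CommRingCat.of K' :=
    U.left.presheaf.stalkSpecializes hsp ≫ U.left.residue (fV.left z) ≫ fV.left.residueFieldMap z
  obtain ⟨R, hR, hRloc⟩ := exists_factor_valuationRing θ.hom
  let ψR : U.left.presheaf.stalk v ⟶ CommRingCat.of R := CommRingCat.ofHom (θ.hom.codRestrict _ hR)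
  let w : Spec (CommRingCat.of K') ⟶ S := V.left.fromSpecResidueField z ≫ V.hom
  let ιz : specOver w ⟶ V := Over.homMk (V.left.fromSpecResidueField z) rfl
  have hnleft : (ιz ≫ fV).left = Spec.map θ ≫ U.left.fromSpecStalk v := by
    show V.left.fromSpecResidueField z ≫ fV.left = _
    rw [← Scheme.Hom.SpecMap_residueFieldMap_fromSpecResidueField]
    simp only [θ, Spec.map_comp, Category.assoc, Scheme.SpecMap_stalkSpecializes_fromSpecStalk,
      Scheme.fromSpecResidueField]
  let lU : specOver (Spec.map ψR ≫ U.left.fromSpecStalk v ≫ U.hom) ⟶ U :=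
    Over.homMk (Spec.map ψR ≫ U.left.fromSpecStalk v) (Category.assoc _ _ _)
  obtain ⟨φA, hφA⟩ := Spec.map_surjective (R := CommRingCat.of q.A) (S := CommRingCat.of R) (lU ≫ c).left
  have hψR : Spec.map (CommRingCat.ofHom (algebraMap R K')) ≫ Spec.map ψR = Spec.map θ := by
    rw [← Spec.map_comp]; rfl
  have hloc : IsLocalHom φA.hom := by
    refine ((IsLocalRing.local_hom_TFAE φA.hom).out 0 4).2 ?_
    have e1 : Spec.map φA (closedPoint R) = (closedPoint q.A : PrimeSpectrum q.A) := by
      rw [hφA, ← hcv]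
      change c.left (U.left.fromSpecStalk v ((Spec.map ψR) (closedPoint R))) = c.left v
      rw [show (Spec.map ψR) (closedPoint R) = closedPoint (U.left.presheaf.stalk v) from
          comap_closedPoint (S := R) (θ.hom.codRestrict R.toSubring hR), Scheme.fromSpecStalk_closedPoint]
    exact congrArg PrimeSpectrum.asIdeal e1
  have hsA : Spec.map φA ≫ q.str = Spec.map ψR ≫ U.left.fromSpecStalk v ≫ U.hom := by
    rw [hφA]
    exact (Over.w (lU ≫ c))
  have hcompat : (algebraMap R K').comp φA.hom = ψK.hom.comp (algebraMap q.A q.K) := by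
    have e : Spec.map (φA ≫ CommRingCat.ofHom (algebraMap R K')) =
        Spec.map (CommRingCat.ofHom (algebraMap q.A q.K) ≫ ψK) := by
      rw [Spec.map_comp, Spec.map_comp, hφA, hψK]
      change Spec.map (CommRingCat.ofHom (algebraMap R K')) ≫ (Spec.map ψR ≫ U.left.fromSpecStalk v) ≫ c.left =
        (ιz ≫ snd ≫ q.j).left
      rw [← hfc, ← Category.assoc, ← Category.assoc (Spec.map (CommRingCat.ofHom (algebraMap R K'))), hψR, ← hnleft]
      rfl
    exact CommRingCat.hom_ext_iff.1 (Spec.map_injective e)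
  have hψw : Spec.map ψK ≫ q.ptK.hom = w := by
    rw [hψK, Category.assoc, Over.w snd]
  have hK' : Spec.map (CommRingCat.ofHom (algebraMap R K')) ≫
      Spec.map ψR ≫ U.left.fromSpecStalk v ≫ U.hom = w := by
    rw [reassoc_of% hψR, ← Category.assoc, ← hnleft]
    exact Over.w (ιz ≫ fV)
  let e : q.DomExt := @ValSq.DomExt.mk _ _ _ _ q R inferInstance inferInstance inferInstance K' inferInstance
    inferInstance inferInstance φA.hom ψK.hom hcompat hloc
  refine ⟨e, ⟨hfin, hsep⟩, fun hA => ?_, ?_⟩
  · haveI := hA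
    haveI := hloc
    exact isDVR_of_finite_separable ψK.hom hfin hsep R φA.hom hcompat
  · have e0 : LiftExtWith q φA.hom ψK.hom := by
      refine ⟨_, w, hsA, hψw, hK', (yon S).map lU ≫ a ≫ p₁, ?_, ?_⟩
      · have e1 : specMap (algebraMap R K') _ w hK' ≫ lU = ιz ≫ fV := by
          apply Over.OverMorphism.ext
          rw [hnleft, ← hψR]
          exact (Category.assoc _ _ _).symm
        rw [← Functor.map_comp_assoc, e1, Functor.map_comp_assoc, reassoc_of% sqV.w, hk0f,
          ← Functor.map_comp_assoc]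
        congr 2
        exact Over.OverMorphism.ext hψK.symm
      · rw [Category.assoc, Category.assoc, sq.w, ← reassoc_of% hc', ← Functor.map_comp_assoc]
        congr 2
        exact Over.OverMorphism.ext hφA.symm
    obtain ⟨sA', sK', hφ, hψ, hK, l, h₁, h₂⟩ := e0
    subst hφ
    subst hK
    exact ⟨l, h₁, h₂⟩

end Groth.Agent.ASp

namespace Groth.Agent.ASp

open _root_.AlgSp

variable {S : Scheme.{u}} {X Y : Sp S}

/-- Universally closed decent morphisms have dotted arrows after finite separable extensions. -/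
theorem finiteSeparable_lift_of_univClosed_decentMor (hX : IsAlgSpace X) (hY : IsAlgSpace Y) {f : X ⟶ Y}
    (hd : IsDecentMor f) (hc : IsUnivClosedMor f) (q : ValSq f) :
    ∃ e : q.DomExt, (letI := e.ψ.toAlgebra; Module.Finite q.K e.K' ∧ Algebra.IsSeparable q.K e.K') ∧
      (IsDiscreteValuationRing q.A → IsDiscreteValuationRing e.A') ∧ e.HasLift := by
  have sq := IsPullback.of_hasPullback f q.bot
  let π := pullback.snd f q.bot
  have hP : IsAlgSpace (pullback f q.bot) := isAlgSpace_pullback f q.bot hX (IsAlgSpace.yon_obj _) hY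
  have hPd : IsDecent (pullback f q.bot) := hd q.bot _ _ sq
  let k0 : (yon S).obj q.ptK ⟶ pullback f q.bot := pullback.lift q.top ((yon S).map q.j) q.comm
  have hk0π : k0 ≫ π = (yon S).map q.j := pullback.lift_snd _ _ _
  let ptk : ↥q.ptK.left := closedPoint q.K
  let ξ := Points.ofPt k0 ptk
  have himg : Points.map π ξ = Points.schemeHomeo q.ptA (q.j.left ptk) := by
    rw [Points.map_ofPt, hk0π, Points.ofPt_eq_map_ofScheme]
    exact Points.map_yon_map_apply _ _
  have hcl : IsClosed (Points.map π '' closure {ξ}) := hc (IsAlgSpace.yon_obj _) q.bot _ _ sq _ isClosed_closure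
  have hspA : q.j.left ptk ⤳ (closedPoint q.A : ↥q.ptA.left) :=
    IsLocalRing.specializes_closedPoint (q.j.left ptk : PrimeSpectrum q.A)
  obtain ⟨x, hxξ, hx⟩ := (hspA.map (Points.schemeHomeo q.ptA).continuous).mem_closed hcl
    ⟨ξ, subset_closure rfl, himg⟩
  obtain ⟨κ, U, a, hU, hae, href⟩ := exists_refines_affine hP
  obtain ⟨i, y, hy⟩ := href.exists_pt x
  obtain ⟨v, rfl⟩ := (Points.schemeHomeo (U i)).surjective y
  have hv : Points.ofPt (a i) v = x := by rw [Points.ofPt_eq_map_ofScheme]; exact hy
  haveI := hU i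
  obtain ⟨v', hv', hsp⟩ := exists_generization (hae i) (finite_fibre_of_decentAt (hae i) (hPd ξ)) v
    (by rw [hv]; exact specializes_iff_mem_closure.2 hxξ)
  exact exists_finiteSeparable_lift q hP sq k0 (pullback.lift_fst _ _ _) hk0π (a i) (hae i) hsp hv'
    (by rw [hv]; exact hx)

/-- The existence part only needs finite separable extensions. -/
theorem finiteSeparable_lift_of_existVC (hX : IsAlgSpace X) (hY : IsAlgSpace Y) {f : X ⟶ Y}
    (hf : ExistVC f) (q : ValSq f) :
    ∃ e : q.DomExt, (letI := e.ψ.toAlgebra; Module.Finite q.K e.K' ∧ Algebra.IsSeparable q.K e.K') ∧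
      (IsDiscreteValuationRing q.A → IsDiscreteValuationRing e.A') ∧ e.HasLift := by
  have sq := IsPullback.of_hasPullback f q.bot
  have hP : IsAlgSpace (pullback f q.bot) := isAlgSpace_pullback f q.bot hX (IsAlgSpace.yon_obj _) hY
  let k0 : (yon S).obj q.ptK ⟶ pullback f q.bot := pullback.lift q.top ((yon S).map q.j) q.comm
  obtain ⟨A', K', _, _, _, _, _, _, φ, ψ, hc, hl, sA', sK', hφ, hψ, hK, l₀, h₁, h₂⟩ :=
    existVC_apply hf (K := q.K) q.str _ rfl q.top q.bot q.comm
  let φ' := specMap φ q.str sA' hφ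
  let j' := specMap (algebraMap A' K') sA' sK' hK
  let l := sq.lift l₀ ((yon S).map φ') h₂
  have hl₁ : l ≫ pullback.fst f q.bot = l₀ := sq.lift_fst _ _ _
  have hl₂ : l ≫ pullback.snd f q.bot = (yon S).map φ' := sq.lift_snd _ _ _
  have hgen : (yon S).map j' ≫ l = (yon S).map (specMap ψ q.ptK.hom sK' hψ) ≫ k0 := by
    refine sq.hom_ext ?_ ?_
    · rw [Category.assoc, hl₁, Category.assoc, pullback.lift_fst]; exact h₁
    · rw [Category.assoc, hl₂, Category.assoc, pullback.lift_snd, ← Functor.map_comp, ← Functor.map_comp]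
      exact congrArg (yon S).map ((specMap_comp φ (algebraMap A' K') _ _ _ hφ hK).trans
        ((specMap_congr hc _ _ _ _).trans (specMap_comp (algebraMap q.A q.K) ψ q.str _ _ rfl hψ).symm))
  let cl : ↥(specOver sA').left := closedPoint A'
  obtain ⟨κ, U, a, hU, hae, href⟩ := exists_refines_affine hP
  obtain ⟨i, y, hy⟩ := href.exists_pt (Points.ofPt l cl)
  obtain ⟨v, rfl⟩ := (Points.schemeHomeo (U i)).surjective y
  have hv : Points.ofPt (a i) v = Points.ofPt l cl := by rw [Points.ofPt_eq_map_ofScheme]; exact hy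
  obtain ⟨V, fst, snd, sqV⟩ := exists_sq (hae i).rep l
  haveI : Etale snd.left := (hae i).2 l fst snd sqV
  obtain ⟨fV, rfl⟩ := (yon S).map_surjective fst
  obtain ⟨z, hz₁, hz₂⟩ := exists_pt_of_sq sqV (Points.ofScheme (U i) v) cl
    (by rw [← Points.ofPt_eq_map_ofScheme]; exact hv)
  have hzv : fV.left z = v := by
    rw [← Category.comp_id ((yon S).map fV), ofPt_yon_map_comp] at hz₁
    exact (Points.schemeHomeo (U i)).injective hz₁
  let η : ↥(specOver sA').left := j'.left (closedPoint K')
  obtain ⟨z', hzz, hz'⟩ := Flat.generalizingMap snd.left (show η ⤳ snd.left z by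
    rw [hz₂]
    exact IsLocalRing.specializes_closedPoint (η : PrimeSpectrum A'))
  haveI := hU i
  refine exists_finiteSeparable_lift q hP sq k0 (pullback.lift_fst _ _ _) (pullback.lift_snd _ _ _) (a i) (hae i)
    (v := v) (v' := fV.left z') (hzv ▸ hzz.map fV.left.continuous) ?_ ?_
  · rw [← ofPt_yon_map_comp, sqV.w, ofPt_yon_map_comp, hz', ← ofPt_yon_map_comp, hgen, ofPt_yon_map_comp]
    exact congrArg (Points.ofPt k0) (Subsingleton.elim (α := PrimeSpectrum q.K) _ _)
  · rw [hv, Points.map_ofPt, hl₂, ← Category.comp_id ((yon S).map φ'), ofPt_yon_map_comp]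
    haveI := hl
    exact congrArg (Points.ofScheme q.ptA) (comap_closedPoint (S := A') φ)

end Groth.Agent.ASp
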