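import Groth.Agent.Lib.AlgSpLocal
import Groth.Agent.Lib.FpqcDescent

/-! Flatness descends along fpqc morphisms; locality instances for intersections. -/

set_option backward.isDefEq.respectTransparency.types false

universe u

open CategoryTheory CategoryTheory.Limits AlgebraicGeometry MorphismProperty TensorProduct

namespace Groth.Agent.ASp

theorem flat_codescendsAlong : RingHom.CodescendsAlong RingHom.Flat.{u, u} RingHom.FaithfullyFlat := by
  refine .mk _ RingHom.Flat.respectsIso fun R S T _ _ _ _ _ h h' => ?_
  rw [RingHom.flat_algebraMap_iff] at h' ⊢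
  rw [RingHom.faithfullyFlat_algebraMap_iff] at h
  let := Algebra.TensorProduct.rightAlgebra (R := R) (A := S) (B := T)
  have : Module.FaithfullyFlat T (S ⊗[R] T) :=
    Module.FaithfullyFlat.of_linearEquiv T (T ⊗[R] S)
      (Algebra.TensorProduct.commRight R T S).symm.toLinearEquiv
  have : Module.Flat R (S ⊗[R] T) := Module.Flat.trans R S _
  exact Groth.Agent.H6.flat_descend (R := R) (A := T) (B := S ⊗[R] T)

instance descends_flat : DescendsAlong (@Flat : MorphismProperty Scheme.{u})
    (@Surjective ⊓ @Flat ⊓ @QuasiCompact) :=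
  HasRingHomProperty.descendsAlong_flat flat_codescendsAlong

instance (priority := low) descends_inf (P P' Q : MorphismProperty Scheme.{u}) [P.DescendsAlong Q]
    [P'.DescendsAlong Q] : (P ⊓ P').DescendsAlong Q where
  of_isPullback h hg hp :=
    ⟨MorphismProperty.of_isPullback_of_descendsAlong (P := P) h hg hp.1,
      MorphismProperty.of_isPullback_of_descendsAlong (P := P') h hg hp.2⟩

instance (priority := low) localAtSource_inf (P P' : MorphismProperty Scheme.{u}) [IsZariskiLocalAtSource P]
    [IsZariskiLocalAtSource P'] : IsZariskiLocalAtSource (P ⊓ P') :=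
  .mk' (fun f U h => ⟨IsZariskiLocalAtSource.comp h.1 U.ι, IsZariskiLocalAtSource.comp h.2 U.ι⟩)
    fun {X Y} _ {ι} U hU h => ⟨IsZariskiLocalAtSource.of_iSup_eq_top U hU fun i => (h i).1,
      IsZariskiLocalAtSource.of_iSup_eq_top U hU fun i => (h i).2⟩

instance (priority := low) localAtTarget_inf (P P' : MorphismProperty Scheme.{u}) [IsZariskiLocalAtTarget P]
    [IsZariskiLocalAtTarget P'] : IsZariskiLocalAtTarget (P ⊓ P') :=
  .mk' (fun _ U h => ⟨IsZariskiLocalAtTarget.restrict h.1 U, IsZariskiLocalAtTarget.restrict h.2 U⟩)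
    fun {X Y} _ {ι} U hU h => ⟨IsZariskiLocalAtTarget.of_iSup_eq_top U hU fun i => (h i).1,
      IsZariskiLocalAtTarget.of_iSup_eq_top U hU fun i => (h i).2⟩

end Groth.Agent.ASp
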