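import Groth.Agent.Lib.SourceDescentSmooth

/-! Properties of morphisms of schemes descend along etale (or smooth) surjections of the source. -/

set_option backward.isDefEq.respectTransparency.types false

universe u

open CategoryTheory CategoryTheory.Limits AlgebraicGeometry Topology

noncomputable section

namespace Groth.Agent.SourceDescent

variable {X' X Y : Scheme.{u}}

/-- Source descent from a ring theoretic statement, affine case. -/
theorem descend_source_affine {P C : MorphismProperty Scheme.{u}}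
    {Q QC : ∀ {R S : Type u} [CommRing R] [CommRing S], (R →+* S) → Prop}
    [HasRingHomProperty P Q] [HasRingHomProperty C QC]
    (hC : ∀ {U V : Scheme.{u}} (f : U ⟶ V), C f → Flat f ∧ LocallyOfFinitePresentation f)
    (h : ∀ (R A B : CommRingCat.{u}) (φ : R ⟶ A) (ψ : A ⟶ B), QC ψ.hom → ψ.hom.FaithfullyFlat →
      Q (φ ≫ ψ).hom → Q φ.hom)
    [IsAffine X] [IsAffine Y]
    (a : X' ⟶ X) (g : X ⟶ Y) (ha : C a) [Surjective a] (hag : P (a ≫ g)) : P g := by
  have : Flat a := (hC a ha).1
  have : LocallyOfFinitePresentation a := (hC a ha).2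
  obtain ⟨t, ht⟩ := (isCompact_univ (X := X)).elim_finite_subcover
    (fun W : X'.affineOpens => a '' (W.1 : Set X'))
    (fun W => a.isOpenMap _ W.1.2) (fun v _ => by
      obtain ⟨w, rfl⟩ := a.surjective v
      obtain ⟨W, hW, hwW, -⟩ := exists_isAffineOpen_mem_and_subset (X := X') (x := w) (U := ⊤) trivial
      exact Set.mem_iUnion.2 ⟨⟨W, hW⟩, w, hwW, rfl⟩)
  let W : (↑t : Set X'.affineOpens) → Scheme.{u} := fun k => k.1.1
  have : ∀ k, IsAffine (W k) := fun k => k.1.2
  let d : (∐ W) ⟶ X := Sigma.desc fun k => k.1.1.ι ≫ a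
  have hd : ∀ k, Sigma.ι W k ≫ d = k.1.1.ι ≫ a := Sigma.ι_desc _
  have hdC : C d := (IsZariskiLocalAtSource.iff_of_openCover (P := C) (sigmaOpenCover _)).2 fun k => by
    change C (Sigma.ι W k ≫ d)
    rw [hd]
    exact IsZariskiLocalAtSource.comp ha _
  have : Flat d := (hC d hdC).1
  have : Surjective d := ⟨fun v => by
    obtain ⟨k, hk, w, hw, rfl⟩ := Set.mem_iUnion₂.1 (ht (Set.mem_univ v))
    exact ⟨Sigma.ι W ⟨k, hk⟩ ⟨w, hw⟩, by rw [← Scheme.Hom.comp_apply, hd]; rfl⟩⟩
  have hdg : P (d ≫ g) := (IsZariskiLocalAtSource.iff_of_openCover (P := P) (sigmaOpenCover _)).2 fun k => by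
    change P (Sigma.ι W k ≫ d ≫ g)
    rw [← Category.assoc, hd, Category.assoc]
    exact IsZariskiLocalAtSource.comp hag _
  have hff : d.appTop.hom.FaithfullyFlat := by
    rw [← flat_and_surjective_SpecMap_iff]
    exact ⟨(MorphismProperty.arrow_mk_iso_iff (@Flat : MorphismProperty Scheme.{u})
        (arrowIsoSpecΓOfIsAffine d)).1 inferInstance,
      (MorphismProperty.arrow_mk_iso_iff (@Surjective : MorphismProperty Scheme.{u})
        (arrowIsoSpecΓOfIsAffine d)).1 inferInstance⟩
  exact (HasRingHomProperty.iff_of_isAffine (P := P)).2 (h _ _ _ g.appTop d.appTop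
    ((HasRingHomProperty.iff_of_isAffine (P := C)).1 hdC) hff
    (by rw [← Scheme.Hom.comp_appTop]; exact (HasRingHomProperty.iff_of_isAffine (P := P)).1 hdg))

/-- Source descent from a ring theoretic statement. -/
theorem descend_source {P C : MorphismProperty Scheme.{u}}
    {Q QC : ∀ {R S : Type u} [CommRing R] [CommRing S], (R →+* S) → Prop}
    [HasRingHomProperty P Q] [HasRingHomProperty C QC]
    (hC : ∀ {U V : Scheme.{u}} (f : U ⟶ V), C f → Flat f ∧ LocallyOfFinitePresentation f)
    [C.IsStableUnderBaseChange]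
    (h : ∀ (R A B : CommRingCat.{u}) (φ : R ⟶ A) (ψ : A ⟶ B), QC ψ.hom → ψ.hom.FaithfullyFlat →
      Q (φ ≫ ψ).hom → Q φ.hom)
    (a : X' ⟶ X) (g : X ⟶ Y) (ha : C a) [Surjective a] (hag : P (a ≫ g)) : P g := by
  refine IsZariskiLocalAtTarget.of_openCover Y.affineCover fun i => ?_
  refine (IsZariskiLocalAtSource.iff_of_openCover (P := P) (Scheme.affineCover _)).2 fun k => ?_
  change P ((pullback g (Y.affineCover.f i)).affineCover.f k ≫ pullback.snd g (Y.affineCover.f i))
  let j := (pullback g (Y.affineCover.f i)).affineCover.f k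
  have sq := (IsPullback.of_hasPullback a (pullback.fst g (Y.affineCover.f i))).paste_vert
    (IsPullback.of_hasPullback g (Y.affineCover.f i))
  have h₁ : P (pullback.snd a (pullback.fst g (Y.affineCover.f i)) ≫ pullback.snd g (Y.affineCover.f i)) :=
    IsZariskiLocalAtTarget.of_isPullback (P := P) (iY := Y.affineCover.f i) sq hag
  let a₁ := pullback.snd a (pullback.fst g (Y.affineCover.f i))
  have : Surjective (pullback.snd a₁ j) := inferInstance
  refine descend_source_affine (P := P) (C := C) hC h (pullback.snd a₁ j)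
    (j ≫ pullback.snd g (Y.affineCover.f i)) (C.pullback_snd _ _ (C.pullback_snd _ _ ha)) ?_
  rw [← Category.assoc, ← pullback.condition, Category.assoc]
  exact IsZariskiLocalAtSource.comp h₁ _

theorem locallyOfFiniteType_of_smooth (a : X' ⟶ X) (g : X ⟶ Y) [Smooth a] [Surjective a]
    [LocallyOfFiniteType (a ≫ g)] : LocallyOfFiniteType g :=
  descend_source (P := @LocallyOfFiniteType) (C := @Smooth)
    (fun f hf => by have : Smooth f := hf; exact ⟨inferInstance, inferInstance⟩)
    (fun R A B φ ψ hψ hff hQ => by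
      algebraize [φ.hom, ψ.hom, (φ ≫ ψ).hom]
      have : IsScalarTower R A B := IsScalarTower.of_algebraMap_eq' rfl
      exact finiteType_of_smooth R A B) a g ‹_› ‹_›

theorem locallyOfFinitePresentation_of_smooth (a : X' ⟶ X) (g : X ⟶ Y) [Smooth a] [Surjective a]
    [LocallyOfFinitePresentation (a ≫ g)] : LocallyOfFinitePresentation g :=
  descend_source (P := @LocallyOfFinitePresentation) (C := @Smooth)
    (fun f hf => by have : Smooth f := hf; exact ⟨inferInstance, inferInstance⟩)
    (fun R A B φ ψ hψ hff hQ => by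
      algebraize [φ.hom, ψ.hom, (φ ≫ ψ).hom]
      have : IsScalarTower R A B := IsScalarTower.of_algebraMap_eq' rfl
      exact finitePresentation_of_smooth R A B) a g ‹_› ‹_›

theorem formallyUnramified_of_etale' (a : X' ⟶ X) (g : X ⟶ Y) [Etale a] [Surjective a]
    [FormallyUnramified (a ≫ g)] : FormallyUnramified g :=
  descend_source (P := @FormallyUnramified) (C := @Etale)
    (fun f hf => by have : Etale f := hf; exact ⟨inferInstance, inferInstance⟩)
    (fun R A B φ ψ hψ hff hQ => by
      algebraize [φ.hom, ψ.hom, (φ ≫ ψ).hom]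
      have : IsScalarTower R A B := IsScalarTower.of_algebraMap_eq' rfl
      exact formallyUnramified_of_etale R A B) a g ‹_› ‹_›

theorem smooth_of_etale' (a : X' ⟶ X) (g : X ⟶ Y) [Etale a] [Surjective a]
    [Smooth (a ≫ g)] : Smooth g :=
  descend_source (P := @Smooth) (C := @Etale)
    (fun f hf => by have : Etale f := hf; exact ⟨inferInstance, inferInstance⟩)
    (fun R A B φ ψ hψ hff hQ => by
      algebraize [φ.hom, ψ.hom, (φ ≫ ψ).hom]
      have : IsScalarTower R A B := IsScalarTower.of_algebraMap_eq' rfl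
      exact smooth_of_etale R A B) a g ‹_› ‹_›

theorem etale_of_etale' (a : X' ⟶ X) (g : X ⟶ Y) [Etale a] [Surjective a]
    [Etale (a ≫ g)] : Etale g :=
  descend_source (P := @Etale) (C := @Etale)
    (fun f hf => by have : Etale f := hf; exact ⟨inferInstance, inferInstance⟩)
    (fun R A B φ ψ hψ hff hQ => by
      algebraize [φ.hom, ψ.hom, (φ ≫ ψ).hom]
      have : IsScalarTower R A B := IsScalarTower.of_algebraMap_eq' rfl
      exact etale_of_etale R A B) a g ‹_› ‹_›

theorem isDiscrete_image_of_open {α β : Type*} [TopologicalSpace α] [TopologicalSpace β] {f : α → β}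
    (hf : IsOpenMap f) {s : Set β} (hsurj : s ⊆ Set.range f) (hs : IsDiscrete (f ⁻¹' s)) : IsDiscrete s := by
  rw [isDiscrete_iff_forall_mem_exists_isOpen] at hs ⊢
  intro b hb
  obtain ⟨a, rfl⟩ := hsurj hb
  obtain ⟨W, hW, hWeq⟩ := hs a hb
  refine ⟨f '' W, hf _ hW, ?_⟩
  rw [← Set.image_inter_preimage, hWeq, Set.image_singleton]

theorem locallyQuasiFinite_of_etale (a : X' ⟶ X) (g : X ⟶ Y) [Etale a] [Surjective a]
    [LocallyQuasiFinite (a ≫ g)] [LocallyOfFiniteType (a ≫ g)] :
    LocallyQuasiFinite g ∧ LocallyOfFiniteType g := by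
  have hft : LocallyOfFiniteType g := locallyOfFiniteType_of_smooth a g
  refine ⟨(locallyQuasiFinite_iff_isDiscrete_preimage_singleton).2 fun y =>
    isDiscrete_image_of_open (f := a) a.isOpenMap (fun x _ => a.surjective x) ?_, hft⟩
  exact (a ≫ g).isDiscrete_preimage_singleton y

end Groth.Agent.SourceDescent
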