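import Groth.Agent.Lib.AlgSpDiag
import Groth.Agent.Lib.AlgSpLocP
import Groth.Agent.Lib.SourceDescent
import Groth.Agent.Lib.H6.Misc

/-! Properties of morphisms of algebraic spaces which are etale local on source and target. -/

set_option backward.isDefEq.respectTransparency.types false

universe u v

open CategoryTheory CategoryTheory.Limits AlgebraicGeometry Opposite Topology MorphismProperty

noncomputable section

namespace Groth.Agent.ASp

open _root_.AlgSp

variable {S : Scheme.{u}} {F G H X Y Z : Sp S}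

/-- A property of morphisms of schemes suited for `LocP`. -/
class EtaleLocal (P : MorphismProperty Scheme.{u}) : Prop
    extends P.IsStableUnderBaseChange, P.IsStableUnderComposition where
  of_etale : ∀ {A B : Scheme.{u}} (f : A ⟶ B), Etale f → P f
  source : ∀ {A' A B : Scheme.{u}} (a : A' ⟶ A) (g : A ⟶ B), Etale a → Surjective a → P (a ≫ g) → P g

theorem locallyQuasiFinite_of_etale {A B : Scheme.{u}} (f : A ⟶ B) [Etale f] : LocallyQuasiFinite f := by
  rw [HasRingHomProperty.iff_appLE (P := @LocallyQuasiFinite)]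
  intro U V e
  have hE := HasRingHomProperty.appLE @Etale f inferInstance U V e
  letI := (f.appLE U V e).hom.toAlgebra
  have : Algebra.Etale Γ(B, U) Γ(A, V) := hE
  exact (inferInstance : Algebra.QuasiFinite Γ(B, U) Γ(A, V))

instance : EtaleLocal (@Etale : MorphismProperty Scheme.{u}) where
  of_etale _ h := h
  source a g _ _ (_ : Etale (a ≫ g)) := SourceDescent.etale_of_etale' a g

instance : EtaleLocal (@Smooth : MorphismProperty Scheme.{u}) where
  of_etale f (_ : Etale f) := inferInstanceAs (Smooth f)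
  source a g _ _ (_ : Smooth (a ≫ g)) := SourceDescent.smooth_of_etale' a g

instance : EtaleLocal (@Flat : MorphismProperty Scheme.{u}) where
  of_etale f (_ : Etale f) := inferInstanceAs (Flat f)
  source a g _ _ (_ : Flat (a ≫ g)) := H6.flat_cancel a g

instance : EtaleLocal (@LocallyOfFiniteType : MorphismProperty Scheme.{u}) where
  of_etale f (_ : Etale f) := inferInstanceAs (LocallyOfFiniteType f)
  source a g _ _ (_ : LocallyOfFiniteType (a ≫ g)) := SourceDescent.locallyOfFiniteType_of_smooth a g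

instance : EtaleLocal (@LocallyOfFinitePresentation : MorphismProperty Scheme.{u}) where
  of_etale f (_ : Etale f) := inferInstanceAs (LocallyOfFinitePresentation f)
  source a g _ _ (_ : LocallyOfFinitePresentation (a ≫ g)) :=
    SourceDescent.locallyOfFinitePresentation_of_smooth a g

instance : EtaleLocal (@FormallyUnramified : MorphismProperty Scheme.{u}) where
  of_etale f (_ : Etale f) := inferInstanceAs (FormallyUnramified f)
  source a g _ _ (_ : FormallyUnramified (a ≫ g)) := SourceDescent.formallyUnramified_of_etale' a g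

instance : EtaleLocal (@LocallyQuasiFinite ⊓ @LocallyOfFiniteType : MorphismProperty Scheme.{u}) where
  toIsStableUnderBaseChange := inferInstance
  toIsStableUnderComposition := inferInstance
  of_etale f (_ : Etale f) := ⟨locallyQuasiFinite_of_etale f, inferInstanceAs (LocallyOfFiniteType f)⟩
  source a g _ _ h :=
    have : LocallyQuasiFinite (a ≫ g) := h.1
    have : LocallyOfFiniteType (a ≫ g) := h.2
    SourceDescent.locallyQuasiFinite_of_etale a g

instance (priority := low) (P Q : MorphismProperty Scheme.{u}) [EtaleLocal P] [EtaleLocal Q] :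
    EtaleLocal (P ⊓ Q) where
  toIsStableUnderBaseChange := inferInstance
  toIsStableUnderComposition := inferInstance
  of_etale f hf := ⟨EtaleLocal.of_etale f hf, EtaleLocal.of_etale f hf⟩
  source a g h₁ h₂ h := ⟨EtaleLocal.source a g h₁ h₂ h.1, EtaleLocal.source a g h₁ h₂ h.2⟩

variable {P : MorphismProperty Scheme.{u}}

theorem EtaleLocal.cancel [EtaleLocal P] {A B C : Scheme.{u}} (f : A ⟶ B) (e : B ⟶ C) [Etale e]
    (h : P (f ≫ e)) : P f := by
  let s : A ⟶ pullback (f ≫ e) e := pullback.lift (𝟙 A) f (by simp)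
  have : Etale (s ≫ pullback.fst (f ≫ e) e) := by rw [pullback.lift_fst]; infer_instance
  have hs : Etale s := Etale.of_comp s (pullback.fst (f ≫ e) e)
  rw [show f = s ≫ pullback.snd (f ≫ e) e from (pullback.lift_snd _ _ _).symm]
  exact P.comp_mem _ _ (EtaleLocal.of_etale s hs) (P.pullback_snd _ _ h)

theorem EtaleLocal.comp_etale [EtaleLocal P] {A B C : Scheme.{u}} {f : A ⟶ B} (e : B ⟶ C) [he : Etale e]
    (h : P f) : P (f ≫ e) :=
  P.comp_mem _ _ h (EtaleLocal.of_etale e he)

/-- A morphism of schemes between etale charts of the same space is etale. -/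
theorem etale_of_charts {U V : Over S} {a : (yon S).obj U ⟶ F} {b : (yon S).obj V ⟶ F} (ε : U ⟶ V)
    (ha : RepWith @Etale a) (hb : RepWith @Etale b) (h : (yon S).map ε ≫ b = a) : Etale ε.left := by
  obtain ⟨W, fst, d, sq, hd⟩ := exists_sq_prop hb a
  obtain ⟨fst', rfl⟩ := (yon S).map_surjective fst
  have : Etale fst'.left := ha.2 b _ fst' sq.flip
  have : Etale d.left := hd
  obtain ⟨σ, hσ⟩ := (yon S).map_surjective (sq.lift ((yon S).map ε) (𝟙 _) (by rw [Category.id_comp, h]))
  have h₁ : σ ≫ d = 𝟙 U := map_cancel (by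
    rw [Functor.map_comp, hσ, sq.lift_snd, CategoryTheory.Functor.map_id])
  have h₂ : σ ≫ fst' = ε := map_cancel (by rw [Functor.map_comp, hσ, sq.lift_fst])
  have : Etale (σ.left ≫ d.left) := by rw [← Over.comp_left, h₁, Over.id_left]; infer_instance
  have : Etale σ.left := Etale.of_comp σ.left d.left
  rw [← h₂, Over.comp_left]
  infer_instance

/-- `LocP P` may be checked on one diagram of charts through every point. -/
theorem locP_of_charts [EtaleLocal P] [IsZariskiLocalAtSource P] {f : F ⟶ G}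
    (h : ∀ x : Points F, ∃ (U V : Over S) (a : (yon S).obj U ⟶ F) (b : (yon S).obj V ⟶ G) (α : U ⟶ V),
      RepWith @Etale a ∧ RepWith @Etale b ∧ a ≫ f = (yon S).map α ≫ b ∧ P α.left ∧
      x ∈ Set.range (Points.ofPt a)) : LocP P f := by
  intro U V a b α ha hb hab
  have key : ∀ u : ↥U.left, ∃ (U' : Over S) (e : U' ⟶ U), Etale e.left ∧ P (e ≫ α).left ∧
      u ∈ Set.range e.left := by
    intro u
    obtain ⟨U₀, V₀, a₀, b₀, α₀, ha₀, hb₀, hab₀, hP₀, u₀, hu₀⟩ := h (Points.ofPt a u)
    obtain ⟨U', fst, e, sqA, he⟩ := exists_sq_prop ha₀ a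
    obtain ⟨q, rfl⟩ := (yon S).map_surjective fst
    have : Etale e.left := he
    have : Etale q.left := ha.2 a₀ _ q sqA.flip
    obtain ⟨W, fst, w₁, sqB, hw₁⟩ := exists_sq_prop hb₀ b
    obtain ⟨w₂, rfl⟩ := (yon S).map_surjective fst
    have : Etale w₁.left := hw₁
    have : Etale w₂.left := hb.2 b₀ _ w₂ sqB.flip
    obtain ⟨m, hm⟩ := (yon S).map_surjective (sqB.lift ((yon S).map (q ≫ α₀)) ((yon S).map (e ≫ α)) (by
      rw [Functor.map_comp, Functor.map_comp, Category.assoc, Category.assoc, ← hab₀, ← hab,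
        reassoc_of% sqA.w]))
    have h₁ : m ≫ w₁ = e ≫ α := map_cancel (by rw [Functor.map_comp, hm, sqB.lift_snd])
    have h₂ : m ≫ w₂ = q ≫ α₀ := map_cancel (by rw [Functor.map_comp, hm, sqB.lift_fst])
    have hm' : P m.left := EtaleLocal.cancel m.left w₂.left (by
      rw [← Over.comp_left, h₂, Over.comp_left]
      exact P.comp_mem _ _ (EtaleLocal.of_etale _ inferInstance) hP₀)
    refine ⟨U', e, he, ?_, ?_⟩
    · rw [← h₁, Over.comp_left]; exact EtaleLocal.comp_etale _ hm'
    · obtain ⟨w, -, hw⟩ := (ofPt_eq_ofPt_iff_of_sq sqA u₀ u).1 hu₀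
      exact ⟨w, hw⟩
  choose U' e he hP hu using key
  let d : (∐ fun u => (U' u).left) ⟶ U.left := Sigma.desc fun u => (e u).left
  have hd : ∀ u, Sigma.ι (fun u => (U' u).left) u ≫ d = (e u).left := Sigma.ι_desc _
  have : Etale d := (IsZariskiLocalAtSource.iff_of_openCover (P := @Etale) (sigmaOpenCover _)).2 fun u => by
    change Etale (Sigma.ι (fun u => (U' u).left) u ≫ d)
    rw [hd]
    exact he u
  have : Surjective d := ⟨fun u => by
    obtain ⟨w, hw⟩ := hu u
    exact ⟨Sigma.ι (fun u => (U' u).left) u w, by rw [← Scheme.Hom.comp_apply, hd, hw]⟩⟩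
  refine EtaleLocal.source d α.left inferInstance inferInstance ?_
  refine (IsZariskiLocalAtSource.iff_of_openCover (P := P) (sigmaOpenCover _)).2 fun u => ?_
  change P (Sigma.ι (fun u => (U' u).left) u ≫ d ≫ α.left)
  rw [← Category.assoc, hd, ← Over.comp_left]
  exact hP u

/-- `LocP P` may be checked on one surjective diagram of charts. -/
theorem locP_of_chart [EtaleLocal P] [IsZariskiLocalAtSource P] {f : F ⟶ G} {U V : Over S}
    {a : (yon S).obj U ⟶ F} {b : (yon S).obj V ⟶ G} {α : U ⟶ V} (ha : RepWith @Etale a)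
    (has : RepWith @Surjective a) (hb : RepWith @Etale b) (hab : a ≫ f = (yon S).map α ≫ b)
    (hP : P α.left) : LocP P f :=
  locP_of_charts fun x => ⟨U, V, a, b, α, ha, hb, hab, hP, surjective_ofPt_of_repWith has x⟩

theorem locP_mono {Q : MorphismProperty Scheme.{u}} (h : P ≤ Q) {f : F ⟶ G} (hf : LocP P f) : LocP Q f :=
  fun _ _ a b α ha hb e => h _ (hf a b α ha hb e)

theorem locP_inf_iff {Q : MorphismProperty Scheme.{u}} {f : F ⟶ G} :
    LocP (P ⊓ Q) f ↔ LocP P f ∧ LocP Q f :=
  ⟨fun h => ⟨locP_mono inf_le_left h, locP_mono inf_le_right h⟩,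
    fun h _ _ a b α ha hb e => ⟨h.1 a b α ha hb e, h.2 a b α ha hb e⟩⟩

/-- A representable `P` morphism is `P` etale locally. -/
theorem locP_of_repWith [EtaleLocal P] [IsZariskiLocalAtSource P] (hG : IsAlgSpace G) {f : F ⟶ G}
    (hf : RepWith P f) : LocP P f := by
  obtain ⟨V, b, hbe, hbs⟩ := hG.atlas
  obtain ⟨W, fst, snd, sq, hP⟩ := exists_sq_prop hf b
  exact locP_of_chart (repWith_baseChange sq.flip hbe) (repWith_baseChange sq.flip hbs) hbe sq.w hP

/-- For representable morphisms, `LocP P` is `RepWith P`. -/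
theorem repWith_of_locP [P.IsStableUnderBaseChange] [IsZariskiLocalAtTarget P]
    [P.DescendsAlong (@Surjective ⊓ @Flat ⊓ @QuasiCompact)] (hG : IsAlgSpace G) {f : F ⟶ G}
    (hf : Representable f) (h : LocP P f) : RepWith P f := by
  obtain ⟨V, b, hbe, hbs⟩ := hG.atlas
  obtain ⟨W, fst, snd, sq⟩ := exists_sq hf b
  exact repWith_of_refines hf (refines_of_atlas b hbe hbs) (fun _ => sq) fun _ =>
    (repWith_yon_map_iff P snd).2 (h fst b snd (repWith_baseChange sq.flip hbe) hbe sq.w)

theorem locP_comp [EtaleLocal P] [IsZariskiLocalAtSource P] (hX : IsAlgSpace X) (hY : IsAlgSpace Y)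
    (hZ : IsAlgSpace Z) {f : X ⟶ Y} {g : Y ⟶ Z} (hf : LocP P f) (hg : LocP P g) : LocP P (f ≫ g) := by
  obtain ⟨W, c, hce, hcs⟩ := hZ.atlas
  obtain ⟨V, b, β, hbe, hbs, hb, -⟩ := exists_chart_lift (f := g) hY hZ hce hcs
  obtain ⟨U, a, α, hae, has, ha, -⟩ := exists_chart_lift (f := f) hX hY hbe hbs
  exact locP_of_chart (α := α ≫ β) hae has hce
    (by rw [reassoc_of% ha, hb, Functor.map_comp, Category.assoc])
    (P.comp_mem _ _ (hf a b α hae hbe ha) (hg b c β hbe hce hb))

/-- `IsEtaleMor` implies `LocP @Etale`. -/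
theorem locP_etale_of_isEtaleMor {f : F ⟶ G} (h : IsEtaleMor f) : LocP @Etale f :=
  fun _ _ a _ α ha hb hab => etale_of_charts α (h a ha) hb hab.symm

theorem isEtaleMor_of_locP (hX : IsAlgSpace X) (hY : IsAlgSpace Y) {f : X ⟶ Y} (h : LocP @Etale f) :
    IsEtaleMor f := fun U φ hφ =>
  repWith_of_locP hY (hY.representable_from_yon _)
    (locP_comp (IsAlgSpace.yon_obj U) hX hY (locP_of_repWith hX hφ) h)

/-- A morphism between spaces etale over a third one is etale. -/
theorem repWith_etale_of_comp {U : Over S} (hY : IsAlgSpace Y) {e : (yon S).obj U ⟶ Y} {π : Y ⟶ G}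
    (hπ : IsEtaleMor π) (h : RepWith @Etale (e ≫ π)) : RepWith @Etale e := by
  refine repWith_of_locP hY (hY.representable_from_yon e) fun U' V a b α ha hb hab => ?_
  refine etale_of_charts α (repWith_comp ha h) (hπ b hb) ?_
  rw [← Category.assoc, ← hab, Category.assoc]

theorem isEtaleMor_of_repWith (hX : IsAlgSpace X) (hY : IsAlgSpace Y) {f : X ⟶ Y} (h : RepWith @Etale f) :
    IsEtaleMor f := isEtaleMor_of_locP hX hY (locP_of_repWith hY h)

theorem locP_baseChange [EtaleLocal P] [IsZariskiLocalAtSource P] {X' Y' : Sp S} (hX : IsAlgSpace X)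
    (hY : IsAlgSpace Y) (hY' : IsAlgSpace Y') {f : X ⟶ Y} {g : Y' ⟶ Y} {g' : X' ⟶ X} {f' : X' ⟶ Y'}
    (sq : IsPullback g' f' f g) (hf : LocP P f) : LocP P f' := by
  obtain ⟨V, q, hqe, hqs⟩ := hY.atlas
  obtain ⟨V', b', γ, hb'e, hb's, hb', -⟩ := exists_chart_lift (f := g) hY' hY hqe hqs
  obtain ⟨U, c, hce, hcs⟩ := (isAlgSpace_pullback f q hX (IsAlgSpace.yon_obj V) hY).atlas
  obtain ⟨α, hα⟩ := (yon S).map_surjective (c ≫ pullback.snd f q)
  have hPα : P α.left := hf (c ≫ pullback.fst f q) q α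
    (repWith_comp hce (repWith_baseChange (IsPullback.of_hasPullback f q).flip hqe)) hqe
    (by rw [hα, Category.assoc, Category.assoc, pullback.condition])
  have hZ₁ := IsPullback.of_hasPullback (pullback.snd f q) ((yon S).map γ)
  have big := hZ₁.paste_horiz (IsPullback.of_hasPullback f q)
  rw [← hb'] at big
  let m₁ := sq.lift (pullback.fst _ _ ≫ pullback.fst f q)
    (pullback.snd (pullback.snd f q) ((yon S).map γ) ≫ b') (by rw [big.w, Category.assoc])
  have hm₁ : IsPullback m₁ (pullback.snd (pullback.snd f q) ((yon S).map γ)) f' b' :=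
    IsPullback.of_right (by rw [sq.lift_fst]; exact big) (sq.lift_snd _ _ _) sq
  have out : IsPullback ((yon S).map (pullback.fst α γ)) ((yon S).map (pullback.snd α γ))
      ((yon S).map α) ((yon S).map γ) := (yon S).map_isPullback (IsPullback.of_hasPullback α γ)
  rw [hα] at out
  let k := hZ₁.lift ((yon S).map (pullback.fst α γ) ≫ c) ((yon S).map (pullback.snd α γ))
    (by rw [Category.assoc, out.w])
  have hk : k ≫ pullback.snd _ _ = (yon S).map (pullback.snd α γ) := hZ₁.lift_snd _ _ _
  rw [← hk] at out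
  have hksq : IsPullback ((yon S).map (pullback.fst α γ)) k c (pullback.fst _ _) :=
    IsPullback.of_bot out (hZ₁.lift_fst _ _ _).symm hZ₁
  refine locP_of_chart (a := k ≫ m₁) (b := b') (α := pullback.snd α γ)
    (repWith_comp (repWith_baseChange hksq hce) (repWith_baseChange hm₁.flip hb'e))
    (repWith_comp (repWith_baseChange hksq hcs) (repWith_baseChange hm₁.flip hb's)) hb'e
    (by rw [Category.assoc, hm₁.w, reassoc_of% hk]) ?_
  exact P.of_isPullback ((IsPullback.of_hasPullback α γ).map (Over.forget S)) hPα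

/-- `LocP P` is local on the target for refining families. -/
theorem locP_of_refines [EtaleLocal P] [IsZariskiLocalAtSource P] [IsZariskiLocalAtTarget P]
    [P.DescendsAlong (@Surjective ⊓ @Flat ⊓ @QuasiCompact)]
    {ι : Type v} {Yi Xi : ι → Sp S} {g : ∀ i, Yi i ⟶ Y} {p : ∀ i, Xi i ⟶ Yi i} {q : ∀ i, Xi i ⟶ X}
    {f : X ⟶ Y} (hX : IsAlgSpace X) (hY : IsAlgSpace Y) (hYi : ∀ i, IsAlgSpace (Yi i))
    (hXi : ∀ i, IsAlgSpace (Xi i)) (hg : Refines Yi g)
    (sq : ∀ i, IsPullback (q i) (p i) f (g i)) (h : ∀ i, LocP P (p i)) : LocP P f := by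
  intro U V a b α ha hb hab
  refine descend_refines hg α b fun W d i l _ hl => ?_
  have sqV := IsPullback.of_hasPullback f b
  have hXV := isAlgSpace_pullback f b hX (IsAlgSpace.yon_obj V) hY
  let c : (yon S).obj U ⟶ pullback f b := pullback.lift a ((yon S).map α) hab
  have hc : RepWith @Etale c := repWith_etale_of_comp hXV
    (isEtaleMor_of_repWith hXV hX (repWith_baseChange sqV.flip hb)) (by rw [pullback.lift_fst]; exact ha)
  have hcα : c ≫ pullback.snd f b = (yon S).map α := pullback.lift_snd _ _ _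
  have hZ₁ := IsPullback.of_hasPullback (pullback.snd f b) ((yon S).map d)
  have big := hZ₁.paste_horiz sqV
  rw [← hl] at big
  have hm : IsPullback ((sq i).lift (pullback.fst _ _ ≫ pullback.fst f b)
      (pullback.snd (pullback.snd f b) ((yon S).map d) ≫ l) (by rw [big.w, Category.assoc]))
      (pullback.snd (pullback.snd f b) ((yon S).map d)) (p i) l :=
    IsPullback.of_right (by rw [(sq i).lift_fst]; exact big) ((sq i).lift_snd _ _ _) (sq i)
  have hP := locP_baseChange (hXi i) (hYi i) (IsAlgSpace.yon_obj W) hm (h i)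
  have out : IsPullback ((yon S).map (pullback.fst α d)) ((yon S).map (pullback.snd α d))
      ((yon S).map α) ((yon S).map d) := (yon S).map_isPullback (IsPullback.of_hasPullback α d)
  rw [← hcα] at out
  let k := hZ₁.lift ((yon S).map (pullback.fst α d) ≫ c) ((yon S).map (pullback.snd α d))
    (by rw [Category.assoc, out.w])
  have hk : k ≫ pullback.snd _ _ = (yon S).map (pullback.snd α d) := hZ₁.lift_snd _ _ _
  rw [← hk] at out
  have hksq : IsPullback ((yon S).map (pullback.fst α d)) k c (pullback.fst _ _) :=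
    IsPullback.of_bot out (hZ₁.lift_fst _ _ _).symm hZ₁
  exact hP k (𝟙 _) (pullback.snd α d) (repWith_baseChange hksq hc) (repWith_id _ W)
    (by rw [Category.comp_id]; exact hk)

set_option linter.unusedVariables false in
/-- Cancellation of `LocP`. -/
theorem locP_of_comp [EtaleLocal P] [IsZariskiLocalAtSource P] [IsZariskiLocalAtTarget P]
    [P.DescendsAlong (@Surjective ⊓ @Flat ⊓ @QuasiCompact)]
    (hP : ∀ {A B C : Scheme.{u}} (f : A ⟶ B) (g : B ⟶ C), P (f ≫ g) → P f)
    (hY : IsAlgSpace Y) (hZ : IsAlgSpace Z) {f : X ⟶ Y} {g : Y ⟶ Z} (h : LocP P (f ≫ g)) :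
    LocP P f := by
  intro U V a b α ha hb hab
  obtain ⟨W, c, hce, hcs⟩ := hZ.atlas
  obtain ⟨V', e, β, hee, hes, he, -⟩ := exists_chart_lift (f := b ≫ g) (IsAlgSpace.yon_obj V) hZ hce hcs
  obtain ⟨e', rfl⟩ := (yon S).map_surjective e
  have he'' : Etale e'.left := (repWith_yon_map_iff _ _).1 hee
  have he's : Surjective e'.left := (repWith_yon_map_iff _ _).1 hes
  have hPU : P (pullback.snd α e').left := by
    refine hP _ β.left ?_
    rw [← Over.comp_left]
    refine h ((yon S).map (pullback.fst α e') ≫ a) c _ (repWith_yon_comp _ ?_ ha) hce ?_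
    · exact MorphismProperty.of_isPullback (P := @Etale)
        ((IsPullback.of_hasPullback α e').map (Over.forget S)).flip he''
    · rw [Functor.map_comp, Category.assoc, Category.assoc, reassoc_of% hab, ← Functor.map_comp_assoc,
        pullback.condition, Functor.map_comp_assoc, he]
  refine descend_refines (refines_of_atlas ((yon S).map e') hee hes) α (𝟙 _) fun W' d _ l _ hl => ?_
  obtain ⟨l', rfl⟩ := (yon S).map_surjective l
  have hd : d = l' ≫ e' := map_cancel (by rw [Functor.map_comp, hl, Category.comp_id])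
  have sq := ((IsPullback.of_hasPullback (pullback.snd α e') l').paste_horiz
    (IsPullback.of_hasPullback α e')).map (Over.forget S)
  subst hd
  change P ((Over.forget S).map _)
  rw [← ((IsPullback.of_hasPullback α (l' ≫ e')).map (Over.forget S)).isoIsPullback_hom_snd _ _ sq]
  exact (P.cancel_left_of_respectsIso _ _).2
    (P.of_isPullback ((IsPullback.of_hasPullback (pullback.snd α e') l').map (Over.forget S)) hPU)

theorem exists_chart (hX : IsAlgSpace X) (hY : IsAlgSpace Y) (f : X ⟶ Y) :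
    ∃ (U V : Over S) (a : (yon S).obj U ⟶ X) (b : (yon S).obj V ⟶ Y) (α : U ⟶ V),
      RepWith @Etale a ∧ RepWith @Surjective a ∧ RepWith @Etale b ∧ RepWith @Surjective b ∧
      a ≫ f = (yon S).map α ≫ b := by
  obtain ⟨V, b, hbe, hbs⟩ := hY.atlas
  obtain ⟨U, a, α, hae, has, hab, -⟩ := exists_chart_lift (f := f) hX hY hbe hbs
  exact ⟨U, V, a, b, α, hae, has, hbe, hbs, hab⟩

/-- `LocP P` is local on the source for etale coverings. -/
theorem locP_of_source [EtaleLocal P] [IsZariskiLocalAtSource P] {ι : Type v} {Xi : ι → Sp S}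
    {g : ∀ i, Xi i ⟶ X} {f : X ⟶ Y} (hXi : ∀ i, IsAlgSpace (Xi i)) (hY : IsAlgSpace Y)
    (hg : ∀ i, IsEtaleMor (g i)) (hsurj : ∀ x : Points X, ∃ i, x ∈ Set.range (Points.map (g i)))
    (h : ∀ i, LocP P (g i ≫ f)) : LocP P f := by
  refine locP_of_charts fun x => ?_
  obtain ⟨i, y, rfl⟩ := hsurj x
  obtain ⟨U, V, a, b, α, hae, has, hbe, -, hab⟩ := exists_chart (hXi i) hY (g i ≫ f)
  obtain ⟨u, rfl⟩ := surjective_ofPt_of_repWith has y
  exact ⟨U, V, a ≫ g i, b, α, hg i a hae, hbe, by rw [Category.assoc, hab], h i a b α hae hbe hab,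
    u, (Points.map_ofPt a (g i) u).symm⟩

theorem locP_yon_iff [EtaleLocal P] [IsZariskiLocalAtSource P] {U V : Over S} (c : U ⟶ V) :
    LocP P ((yon S).map c) ↔ P c.left :=
  ⟨locP_yon_map, fun h => locP_of_repWith (IsAlgSpace.yon_obj V) ((repWith_yon_map_iff P c).2 h)⟩

theorem locP_of_etale [EtaleLocal P] {f : F ⟶ G} (h : LocP @Etale f) : LocP P f :=
  locP_mono (fun _ _ g hg => EtaleLocal.of_etale g hg) h

end Groth.Agent.ASp
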