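import Mathlib

/-! A flat, unramified algebra of finite type is formally etale. -/

universe u

open TensorProduct

namespace Groth.Agent.H2FlatUnramEtale

theorem exists_section_lift {A P : Type u} [CommRing A] [CommRing P] [Algebra A P] [Module.Flat A P]
    [Algebra.EssFiniteType A P] [Algebra.FormallyUnramified A P] (I : Ideal A) (hI : I ^ 2 = ⊥)
    (θ : P →ₐ[A] A ⧸ I) : ∃ ψ : P →ₐ[A] A, (Ideal.Quotient.mkₐ A I).comp ψ = θ := by
  classical
  let J : Ideal P := I.map (algebraMap A P)
  have hJ : J ^ 2 = ⊥ := by rw [← Ideal.map_pow, hI, Ideal.map_bot]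
  let j : A ⧸ I →ₐ[A] P ⧸ J := Ideal.quotientMapₐ (I := I) J (Algebra.ofId A P) Ideal.le_comap_map
  have hIker : J ≤ RingHom.ker θ := Ideal.map_le_iff_le_comap.2 fun a ha => by
    show θ (algebraMap A P a) = 0
    rw [AlgHom.commutes]
    exact Ideal.Quotient.eq_zero_iff_mem.2 ha
  let θb : P ⧸ J →ₐ[A] A ⧸ I := Ideal.Quotient.liftₐ J θ hIker
  let g : P ⊗[A] P →ₐ[A] P ⧸ J := Algebra.TensorProduct.lift (j.comp θ) (Ideal.Quotient.mkₐ A J) fun _ _ => .all _ _
  have hg : ∀ z, θb (g z) = θ (Algebra.TensorProduct.lmul' A z) := by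
    intro z
    have h : θb.comp g = θ.comp (Algebra.TensorProduct.lmul' A) := by
      apply Algebra.TensorProduct.ext'
      intro a b
      simp only [AlgHom.comp_apply, g, Algebra.TensorProduct.lift_tmul, Algebra.TensorProduct.lmul'_apply_tmul, map_mul]
      congr 1
      obtain ⟨c, hc⟩ := Ideal.Quotient.mk_surjective (θ a)
      rw [← hc]
      show θ (algebraMap A P c) = _
      rw [AlgHom.commutes]; rfl
    exact congrArg (fun F : P ⊗[A] P →ₐ[A] A ⧸ I => F z) h
  obtain ⟨e, he, hker⟩ := (Ideal.isIdempotentElem_iff_of_fg _ (KaehlerDifferential.ideal_fg A P)).mp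
    ((Ideal.cotangent_subsingleton_iff _).mp (inferInstanceAs <| Subsingleton Ω[P⁄A]))
  have heker : Algebra.TensorProduct.lmul' A e = 0 := by
    have : e ∈ KaehlerDifferential.ideal A P := by rw [hker]; exact Ideal.mem_span_singleton_self e
    exact this
  have hJnil : ∀ x ∈ RingHom.ker (Ideal.Quotient.mk J), IsNilpotent x := fun x hx => by
    rw [Ideal.mk_ker] at hx
    exact ⟨2, (Submodule.mem_bot P).1 (hJ ▸ Ideal.pow_mem_pow hx 2)⟩
  obtain ⟨E, hE, hEe⟩ := exists_isIdempotentElem_eq_of_ker_isNilpotent (Ideal.Quotient.mk J) hJnil (g e)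
    (Ideal.Quotient.mk_surjective (g e)) (he.map g)
  have hθE : θ E = 0 := by
    show θb (Ideal.Quotient.mk J E) = 0
    rw [hEe, hg, heker, map_zero]
  let C := P ⧸ Ideal.span {E}
  let q : P →ₐ[A] C := Ideal.Quotient.mkₐ A _
  let θC : C →ₐ[A] A ⧸ I := Ideal.Quotient.liftₐ _ θ fun a ha => by
    obtain ⟨y, rfl⟩ := Ideal.mem_span_singleton'.1 ha
    rw [map_mul, hθE, mul_zero]
  -- `C` is a direct summand of `P`
  let sec : C →ₗ[A] P := (Submodule.liftQ ((Ideal.span {E}).restrictScalars A) ((LinearMap.mulLeft A (1 - E))) (fun x hx => by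
    obtain ⟨y, rfl⟩ := Ideal.mem_span_singleton'.1 hx
    show (1 - E) * (y * E) = 0
    rw [mul_comm y, ← mul_assoc, sub_mul, one_mul, hE.eq, sub_self, zero_mul])).comp
    (Submodule.Quotient.restrictScalarsEquiv A (Ideal.span {E})).symm.toLinearMap
  haveI : Module.Flat A C := Module.Flat.of_retract sec q.toLinearMap (LinearMap.ext fun c => by
    obtain ⟨x, rfl⟩ := Ideal.Quotient.mk_surjective c
    show Ideal.Quotient.mk _ ((1 - E) * x) = Ideal.Quotient.mk _ x
    rw [Ideal.Quotient.mk_eq_mk_iff_sub_mem, Ideal.mem_span_singleton']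
    exact ⟨-x, by ring⟩)
  have hstep : ∀ b : P, ∃ a : A, q b - algebraMap A C a ∈ I.map (algebraMap A C) := by
    intro b
    obtain ⟨a, ha⟩ := Ideal.Quotient.mk_surjective (θ b)
    have hd : (1 : P) ⊗ₜ[A] b - b ⊗ₜ[A] (1 : P) ∈ KaehlerDifferential.ideal A P :=
      KaehlerDifferential.one_smul_sub_smul_one_mem_ideal A b
    rw [hker, Ideal.submodule_span_eq, Ideal.mem_span_singleton'] at hd
    obtain ⟨z, hz⟩ := hd
    obtain ⟨z', hz'⟩ := Ideal.Quotient.mk_surjective (g z)
    have h1 : b - algebraMap A P a - z' * E ∈ J := by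
      rw [← Ideal.Quotient.eq_zero_iff_mem, map_sub, map_sub, map_mul, hz', hEe]
      have h2 := congrArg g hz
      rw [map_mul, map_sub] at h2
      simp only [g, Algebra.TensorProduct.lift_tmul, map_one, one_mul, mul_one] at h2
      rw [AlgHom.comp_apply, ← ha] at h2
      rw [sub_eq_zero]
      exact h2.symm
    refine ⟨a, ?_⟩
    have h3 := Ideal.mem_map_of_mem q.toRingHom h1
    rw [Ideal.map_map, show q.toRingHom.comp (algebraMap A P) = algebraMap A C from q.comp_algebraMap] at h3
    have h4 : q E = 0 := Ideal.Quotient.eq_zero_iff_mem.2 (Ideal.mem_span_singleton_self E)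
    simpa [h4] using h3
  have hsurj : Function.Surjective (algebraMap A C) := by
    have hJC : ∀ x ∈ I.map (algebraMap A C), ∃ a : A, x - algebraMap A C a ∈ (I ^ 2).map (algebraMap A C) := by
      intro x hx
      rw [Ideal.map] at hx
      induction hx using Submodule.span_induction with
      | mem y hy => obtain ⟨i, hi, rfl⟩ := hy; exact ⟨i, by simp⟩
      | zero => exact ⟨0, by simp⟩
      | add y z _ _ hy hz =>
        obtain ⟨a, ha⟩ := hy; obtain ⟨b, hb⟩ := hz
        refine ⟨a + b, ?_⟩
        rw [map_add, show y + z - (algebraMap A C a + algebraMap A C b) = (y - algebraMap A C a) + (z - algebraMap A C b) by ring]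
        exact add_mem ha hb
      | smul r y hy' hy =>
        obtain ⟨a, ha⟩ := hy
        obtain ⟨r', rfl⟩ := Ideal.Quotient.mk_surjective r
        obtain ⟨b, hb⟩ := hstep r'
        refine ⟨b * a, ?_⟩
        rw [map_mul, smul_eq_mul, show Ideal.Quotient.mk (Ideal.span {E}) r' * y - algebraMap A C b * algebraMap A C a =
          (q r' - algebraMap A C b) * y + algebraMap A C b * (y - algebraMap A C a) by
          show q r' * y - _ = _; ring]
        refine add_mem ?_ (Ideal.mul_mem_left _ _ ha)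
        rw [Ideal.map_pow, pow_two]
        exact Ideal.mul_mem_mul hb hy'
    intro c
    obtain ⟨b, rfl⟩ := Ideal.Quotient.mk_surjective c
    obtain ⟨a, ha⟩ := hstep b
    obtain ⟨a', ha'⟩ := hJC _ ha
    rw [hI, Ideal.map_bot, Ideal.mem_bot] at ha'
    refine ⟨a + a', ?_⟩
    rw [map_add, ← sub_eq_zero.1 ha']
    exact add_sub_cancel _ _
  have hinj : Function.Injective (algebraMap A C) := by
    rw [injective_iff_map_eq_zero]
    intro k hk
    have hkI : k ∈ I := Ideal.Quotient.eq_zero_iff_mem.1 (by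
      rw [← Ideal.Quotient.algebraMap_eq, ← θC.commutes, hk, map_zero])
    let K := RingHom.ker (algebraMap A C)
    have h1 := Module.Flat.rTensor_preserves_injective_linearMap (M := C) (Submodule.subtype K) Subtype.val_injective
    have h2 : (⟨k, hk⟩ : K) ⊗ₜ[A] (1 : C) = 0 := by
      apply h1
      rw [LinearMap.rTensor_tmul, map_zero]
      show (k : A) ⊗ₜ[A] (1 : C) = 0
      rw [← mul_one k, ← smul_eq_mul, TensorProduct.smul_tmul, Algebra.smul_def, hk, zero_mul, TensorProduct.tmul_zero]
    let e2 : C ≃ₐ[A] A ⧸ K := (Ideal.quotientKerAlgEquivOfSurjective (f := Algebra.ofId A C) hsurj).symm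
    have h3 := congrArg (fun z => TensorProduct.tensorQuotEquivQuotSMul K K (LinearMap.lTensor K e2.toLinearEquiv.toLinearMap z)) h2
    simp only [LinearMap.lTensor_tmul, map_zero] at h3
    rw [show (e2.toLinearEquiv.toLinearMap (1 : C)) = Ideal.Quotient.mk K 1 from map_one e2,
      TensorProduct.tensorQuotEquivQuotSMul_tmul_mk, one_smul] at h3
    have h4 := Submodule.map_mono (f := K.subtype) (le_refl (K • (⊤ : Submodule A K)))
    have h5 : k ∈ K * K := by
      have h6 : k ∈ Submodule.map K.subtype (K • (⊤ : Submodule A K)) :=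
        ⟨⟨k, hk⟩, (Submodule.Quotient.mk_eq_zero _).1 h3, rfl⟩
      rwa [Submodule.map_smul'', Submodule.map_subtype_top] at h6
    have hKI : K ≤ I := fun a ha => Ideal.Quotient.eq_zero_iff_mem.1 (by
      rw [← Ideal.Quotient.algebraMap_eq, ← θC.commutes, show algebraMap A C a = 0 from ha, map_zero])
    have h7 : k ∈ I ^ 2 := by rw [pow_two]; exact Ideal.mul_mono hKI hKI h5
    rwa [hI, Ideal.mem_bot] at h7
  let eC : A ≃ₐ[A] C := AlgEquiv.ofBijective (Algebra.ofId A C) ⟨hinj, hsurj⟩
  refine ⟨eC.symm.toAlgHom.comp q, AlgHom.ext fun b => ?_⟩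
  show Ideal.Quotient.mk I (eC.symm (q b)) = θC (q b)
  conv_rhs => rw [← eC.apply_symm_apply (q b)]
  exact (θC.commutes _).symm

theorem formallySmooth_of_flat_unramified {R B : Type u} [CommRing R] [CommRing B] [Algebra R B] [Module.Flat R B]
    [Algebra.FiniteType R B] [Algebra.FormallyUnramified R B] : Algebra.FormallySmooth R B := by
  rw [Algebra.FormallySmooth.iff_comp_surjective]
  intro A _ _ I hI φ
  let θ : A ⊗[R] B →ₐ[A] A ⧸ I := Algebra.TensorProduct.lift (Ideal.Quotient.mkₐ A I) φ fun _ _ => .all _ _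
  obtain ⟨ψ, hψ⟩ := exists_section_lift I hI θ
  refine ⟨(ψ.restrictScalars R).comp Algebra.TensorProduct.includeRight, AlgHom.ext fun b => ?_⟩
  show ((Ideal.Quotient.mkₐ A I).comp ψ) (1 ⊗ₜ b) = φ b
  rw [hψ]
  simp [θ]

theorem formallyEtale_of_flat_unramified {R B : Type u} [CommRing R] [CommRing B] [Algebra R B] [Module.Flat R B]
    [Algebra.FiniteType R B] [Algebra.FormallyUnramified R B] : Algebra.FormallyEtale R B := by
  haveI := formallySmooth_of_flat_unramified (R := R) (B := B)
  exact Algebra.FormallyEtale.of_formallyUnramified_and_formallySmooth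

end Groth.Agent.H2FlatUnramEtale
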