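import Mathlib
import Groth.Prelude.Def_MoreMor
import Groth.Agent.Lib.H2FlatUnramEtale

/-! Formally etale morphisms: affine local criterion and lifting along first order thickenings. -/

universe u

open CategoryTheory Limits AlgebraicGeometry

namespace Groth.Agent.H2FormallyEtale

theorem exists_ring_lift {R B A A0 : Type u} [CommRing R] [CommRing B] [CommRing A] [CommRing A0]
    (g : R →+* B) (hg : g.FormallySmooth) (π : A →+* A0) (hπ : Function.Surjective π)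
    (hker : RingHom.ker π ^ 2 = ⊥) (γ : R →+* A) (φ : B →+* A0) (h : φ.comp g = π.comp γ) :
    ∃ χ : B →+* A, π.comp χ = φ ∧ χ.comp g = γ := by
  algebraize [g, γ, π.comp γ]
  haveI : Algebra.FormallySmooth R B := hg
  let πa : A →ₐ[R] A0 := { π with commutes' := fun _ => rfl }
  let φa : B →ₐ[R] A0 := { φ with commutes' := fun r => congrArg (fun F : R →+* A0 => F r) h }
  let eq := Ideal.quotientKerAlgEquivOfSurjective (f := πa) hπ
  obtain ⟨χ, hχ⟩ := Algebra.FormallySmooth.comp_surjective R B (RingHom.ker πa) hker (eq.symm.toAlgHom.comp φa)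
  refine ⟨χ.toRingHom, RingHom.ext fun b => ?_, RingHom.ext fun r => χ.commutes r⟩
  have h1 := congrArg (fun F : B →ₐ[R] A ⧸ RingHom.ker πa => eq (F b)) hχ
  simp only [AlgHom.comp_apply, AlgEquiv.coe_toAlgHom, AlgEquiv.apply_symm_apply] at h1
  exact h1

theorem formallyUnramified_of_hom {X Y : Scheme.{u}} (f : X ⟶ Y) (hf : MoreMor.IsFormallyEtaleHom f) :
    FormallyUnramified f := by
  refine FormallyUnramified.of_hom_ext f fun R S φ hφ hk g₁ g₂ hg hgf => ?_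
  let e := RingHom.quotientKerEquivOfSurjective hφ
  let q : R ⟶ CommRingCat.of (R ⧸ RingHom.ker φ.hom) := CommRingCat.ofHom (Ideal.Quotient.mk _)
  have hq : q ≫ CommRingCat.ofHom e.toRingHom = φ := CommRingCat.hom_ext (RingHom.ext fun r => rfl)
  have hqg : Spec.map q ≫ g₁ = Spec.map q ≫ g₂ := by
    haveI : IsIso (CommRingCat.ofHom e.toRingHom) := e.toCommRingCatIso.isIso_hom
    rw [← cancel_epi (Spec.map (CommRingCat.ofHom e.toRingHom)), ← Spec.map_comp_assoc, ← Spec.map_comp_assoc, hq]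
    exact hg
  obtain ⟨l, -, hl⟩ := hf R (RingHom.ker φ.hom) hk (Spec.map q ≫ g₁) (g₁ ≫ f) (Category.assoc _ _ _).symm
  rw [hl g₁ ⟨rfl, rfl⟩, hl g₂ ⟨hqg.symm, hgf.symm⟩]

theorem formallyEtale_appLE {X Y : Scheme.{u}} (f : X ⟶ Y) (hf : MoreMor.IsFormallyEtaleHom f) (U : X.Opens) (V : Y.Opens)
    (hU : IsAffineOpen U) (hV : IsAffineOpen V) (hUV : U ≤ f ⁻¹ᵁ V) : (f.appLE V U hUV).hom.FormallyEtale := by
  haveI := formallyUnramified_of_hom f hf
  have hu := f.formallyUnramified_appLE hV hU hUV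
  algebraize [(f.appLE V U hUV).hom]
  haveI : Algebra.FormallyUnramified Γ(Y, V) Γ(X, U) := hu
  suffices Algebra.FormallySmooth Γ(Y, V) Γ(X, U) from Algebra.FormallyEtale.of_formallyUnramified_and_formallySmooth
  rw [Algebra.FormallySmooth.iff_comp_surjective]
  intro A _ _ I hI φ
  let a : Spec (CommRingCat.of (A ⧸ I)) ⟶ X := Spec.map (CommRingCat.ofHom φ.toRingHom) ≫ hU.fromSpec
  let b : Spec (CommRingCat.of A) ⟶ Y := Spec.map (CommRingCat.ofHom (algebraMap Γ(Y, V) A)) ≫ hV.fromSpec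
  have hw : Spec.map (CommRingCat.ofHom (Ideal.Quotient.mk I)) ≫ b = a ≫ f := by
    show Spec.map _ ≫ Spec.map _ ≫ hV.fromSpec = (Spec.map _ ≫ hU.fromSpec) ≫ f
    rw [Category.assoc, ← IsAffineOpen.SpecMap_appLE_fromSpec f hV hU hUV, ← Spec.map_comp_assoc, ← Spec.map_comp_assoc]
    congr 2
    exact CommRingCat.hom_ext (RingHom.ext fun r => (φ.commutes r).symm)
  obtain ⟨l, ⟨hl1, hl2⟩, -⟩ := hf A I hI a b hw
  have hrange : Set.range l ⊆ Set.range hU.fromSpec := by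
    rintro _ ⟨p, rfl⟩
    obtain ⟨q, rfl⟩ : p ∈ Set.range (Spec.map (CommRingCat.ofHom (Ideal.Quotient.mk I))) := by
      show p ∈ Set.range (PrimeSpectrum.comap (Ideal.Quotient.mk I))
      rw [range_comap_of_surjective _ _ Ideal.Quotient.mk_surjective, Ideal.mk_ker]
      intro x hx
      exact p.isPrime.mem_of_pow_mem 2 (show x ^ 2 ∈ p.asIdeal by
        rw [show x ^ 2 = 0 from (Submodule.mem_bot A).1 (hI ▸ Ideal.pow_mem_pow hx 2)]; exact zero_mem _)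
    rw [← Scheme.Hom.comp_apply, hl1]
    exact ⟨_, (Scheme.Hom.comp_apply _ _ _).symm⟩
  obtain ⟨ψ, hψ⟩ := Spec.map_surjective (IsOpenImmersion.lift hU.fromSpec l hrange)
  have hψl : Spec.map ψ ≫ hU.fromSpec = l := by rw [hψ, IsOpenImmersion.lift_fac]
  have h1 : f.appLE V U hUV ≫ ψ = CommRingCat.ofHom (algebraMap Γ(Y, V) A) := by
    apply Spec.map_injective
    rw [← cancel_mono hV.fromSpec, Spec.map_comp, Category.assoc, IsAffineOpen.SpecMap_appLE_fromSpec f hV hU hUV,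
      ← Category.assoc, hψl, hl2]
  have h2 : ψ ≫ CommRingCat.ofHom (Ideal.Quotient.mk I) = CommRingCat.ofHom φ.toRingHom := by
    apply Spec.map_injective
    rw [← cancel_mono hU.fromSpec, Spec.map_comp, Category.assoc, hψl, hl1]
  exact ⟨{ ψ.hom with commutes' := fun r => congrArg (fun F : Γ(Y, V) ⟶ CommRingCat.of A => F.hom r) h1 },
    AlgHom.ext fun x => congrArg (fun F : Γ(X, U) ⟶ CommRingCat.of (A ⧸ I) => F.hom x) h2⟩

theorem local_lift {X Y T T' : Scheme.{u}} (f : X ⟶ Y) (t : T ⟶ T') [IsClosedImmersion t] (hk : t.ker * t.ker = ⊥)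
    (a : T ⟶ X) (b : T' ⟶ Y) (w : t ≫ b = a ≫ f) (U : X.Opens) (V : Y.Opens) (hU : IsAffineOpen U) (hV : IsAffineOpen V)
    (hUV : U ≤ f ⁻¹ᵁ V) (hs : (f.appLE V U hUV).hom.FormallySmooth) (W : T'.Opens) (hW : IsAffineOpen W)
    (hWV : W ≤ b ⁻¹ᵁ V) (hWU : t ⁻¹ᵁ W ≤ a ⁻¹ᵁ U) :
    ∃ l : (W : Scheme.{u}) ⟶ X, (t ∣_ W) ≫ l = (t ⁻¹ᵁ W).ι ≫ a ∧ l ≫ f = W.ι ≫ b := by
  obtain ⟨χ, hχ1, hχ2⟩ := exists_ring_lift (f.appLE V U hUV).hom hs (t.app W).hom (t.app_surjective W hW)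
    (by
      rw [show RingHom.ker (t.app W).hom = t.ker.ideal ⟨W, hW⟩ from (Scheme.Hom.ker_apply t ⟨W, hW⟩).symm, pow_two]
      exact (congrArg (fun J : T'.IdealSheafData => J.ideal ⟨W, hW⟩) hk).trans (by simp))
    (b.appLE V W hWV).hom (a.appLE U (t ⁻¹ᵁ W) hWU).hom (by
      rw [← CommRingCat.hom_comp, ← CommRingCat.hom_comp, Scheme.Hom.app_eq_appLE, Scheme.Hom.appLE_comp_appLE,
        Scheme.Hom.appLE_comp_appLE]
      simp only [w])
  refine ⟨W.toSpecΓ ≫ Spec.map (CommRingCat.ofHom χ) ≫ hU.fromSpec, ?_, ?_⟩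
  · have h0 : (t ∣_ W) ≫ W.toSpecΓ = (t ⁻¹ᵁ W).toSpecΓ ≫ Spec.map (t.app W) := by
      rw [Scheme.Hom.app_eq_appLE, Scheme.Opens.toSpecΓ_SpecMap_appLE, ← Scheme.Hom.resLE_eq_morphismRestrict]
    rw [reassoc_of% h0, ← Spec.map_comp_assoc,
      show CommRingCat.ofHom χ ≫ t.app W = a.appLE U (t ⁻¹ᵁ W) hWU from CommRingCat.hom_ext hχ1,
      Scheme.Opens.toSpecΓ_SpecMap_appLE_assoc, IsAffineOpen.toSpecΓ_fromSpec, Scheme.Hom.resLE_comp_ι]
  · rw [Category.assoc, Category.assoc, ← IsAffineOpen.SpecMap_appLE_fromSpec f hV hU hUV, ← Spec.map_comp_assoc,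
      show f.appLE V U hUV ≫ CommRingCat.ofHom χ = b.appLE V W hWV from CommRingCat.hom_ext hχ2,
      Scheme.Opens.toSpecΓ_SpecMap_appLE_assoc, IsAffineOpen.toSpecΓ_fromSpec, Scheme.Hom.resLE_comp_ι]

theorem isNilpotent_ker_restrict {T T' : Scheme.{u}} (t : T ⟶ T') [IsClosedImmersion t] (hk : t.ker * t.ker = ⊥)
    (O : T'.Opens) : IsNilpotent (t ∣_ O).ker := by
  refine ⟨2, ?_⟩
  refine Scheme.IdealSheafData.ext (funext fun V => ?_)
  rw [Scheme.IdealSheafData.ideal_pow, Pi.pow_apply, Scheme.ker_morphismRestrict_ideal t O V, Scheme.IdealSheafData.zero_eq_bot,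
    Scheme.IdealSheafData.ideal_bot]
  exact (pow_two _).trans ((congrArg (fun J : T'.IdealSheafData => J.ideal ⟨O.ι ''ᵁ V, V.2.image_of_isOpenImmersion _⟩) hk).trans (by simp; rfl))

theorem exists_unique_lift {X Y : Scheme.{u}} (f : X ⟶ Y)
    (h : ∀ (U : X.Opens) (V : Y.Opens) (_ : IsAffineOpen U) (_ : IsAffineOpen V) (hUV : U ≤ f ⁻¹ᵁ V),
      (f.appLE V U hUV).hom.FormallyEtale) {T T' : Scheme.{u}} (t : T ⟶ T') [IsClosedImmersion t] [Surjective t]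
    (hk : t.ker * t.ker = ⊥) (a : T ⟶ X) (b : T' ⟶ Y) (w : t ≫ b = a ≫ f) :
    ∃! l : T' ⟶ X, t ≫ l = a ∧ l ≫ f = b := by
  haveI : FormallyUnramified f := ⟨fun {V} hV {U} hU e => by
    have := h U V hU hV e
    algebraize [(f.appLE V U e).hom]
    show Algebra.FormallyUnramified Γ(Y, V) Γ(X, U)
    haveI : Algebra.FormallyEtale Γ(Y, V) Γ(X, U) := this
    infer_instance⟩
  have hloc : ∀ x : T', ∃ W : T'.Opens, x ∈ W ∧ ∃ l : (W : Scheme.{u}) ⟶ X,
      (t ∣_ W) ≫ l = (t ⁻¹ᵁ W).ι ≫ a ∧ l ≫ f = W.ι ≫ b := by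
    intro x
    obtain ⟨x0, rfl⟩ := t.surjective x
    obtain ⟨_, ⟨V, hV, rfl⟩, hxV, -⟩ := Y.isBasis_affineOpens.exists_subset_of_mem_open (Set.mem_univ (b (t x0))) isOpen_univ
    have hax : a x0 ∈ f ⁻¹ᵁ V := by
      show f (a x0) ∈ V
      rw [← Scheme.Hom.comp_apply, ← w, Scheme.Hom.comp_apply]; exact hxV
    obtain ⟨_, ⟨U, hU, rfl⟩, hxU, hUV⟩ := X.isBasis_affineOpens.exists_subset_of_mem_open hax (f ⁻¹ᵁ V).2
    have hO : IsOpen ((t '' (a ⁻¹' (U : Set X))ᶜ)ᶜ) :=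
      (t.isClosedMap _ (U.2.preimage a.continuous).isClosed_compl).isOpen_compl
    obtain ⟨_, ⟨W, hW, rfl⟩, hxW, hWle⟩ := T'.isBasis_affineOpens.exists_subset_of_mem_open
      (show t x0 ∈ (b ⁻¹' (V : Set Y)) ∩ (t '' (a ⁻¹' (U : Set X))ᶜ)ᶜ from ⟨hxV, fun ⟨z, hz, hzx⟩ =>
        hz ((t.isClosedEmbedding.injective hzx).symm ▸ hxU)⟩) ((V.2.preimage b.continuous).inter hO)
    refine ⟨W, hxW, local_lift f t hk a b w U V hU hV hUV ?_ W hW (fun z hz => (hWle hz).1) fun z hz => ?_⟩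
    · have := h U V hU hV hUV
      algebraize [(f.appLE V U hUV).hom]
      haveI : Algebra.FormallyEtale Γ(Y, V) Γ(X, U) := this
      show Algebra.FormallySmooth Γ(Y, V) Γ(X, U)
      infer_instance
    · by_contra hc
      exact (hWle hz).2 ⟨z, hc, rfl⟩
  choose W hxW l hl1 hl2 using hloc
  -- agreement on overlaps
  have hext : ∀ (O : T'.Opens) (g₁ g₂ : (O : Scheme.{u}) ⟶ X), (t ∣_ O) ≫ g₁ = (t ∣_ O) ≫ g₂ → g₁ ≫ f = g₂ ≫ f → g₁ = g₂ :=
    fun O g₁ g₂ h1 h2 => FormallyUnramified.hom_ext (t ∣_ O) (isNilpotent_ker_restrict t hk O) f h1 h2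
  let 𝒰 := Scheme.openCoverOfIsOpenCover T' W (TopologicalSpace.IsOpenCover.mk (eq_top_iff.2 fun x _ => TopologicalSpace.Opens.mem_iSup.2 ⟨x, hxW x⟩))
  have hrestr : ∀ x (O : T'.Opens) (hO : O ≤ W x), (t ∣_ O) ≫ T'.homOfLE hO ≫ l x = (t ⁻¹ᵁ O).ι ≫ a := fun x O hO => by
    have h1 : (t ∣_ O) ≫ T'.homOfLE hO = T.homOfLE (t.preimage_mono hO) ≫ (t ∣_ W x) := by
      rw [← cancel_mono (W x).ι]; simp
    rw [reassoc_of% h1, hl1, Scheme.homOfLE_ι_assoc]
  have hagree : ∀ x y : T', pullback.fst (W x).ι (W y).ι ≫ l x = pullback.snd (W x).ι (W y).ι ≫ l y := by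
    intro x y
    let P := pullback (W x).ι (W y).ι
    let e := (isPullback_opens_inf (W x) (W y)).isoPullback
    rw [← cancel_epi e.hom, ← Category.assoc, ← Category.assoc, IsPullback.isoPullback_hom_fst, IsPullback.isoPullback_hom_snd]
    refine hext _ _ _ ?_ ?_
    · rw [hrestr, hrestr]
    · rw [Category.assoc, Category.assoc, hl2, hl2, Scheme.homOfLE_ι_assoc, Scheme.homOfLE_ι_assoc]
  let L : T' ⟶ X := 𝒰.glueMorphisms l hagree
  have hL : ∀ x, (W x).ι ≫ L = l x := fun x => 𝒰.ι_glueMorphisms l hagree x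
  refine ⟨L, ⟨?_, ?_⟩, ?_⟩
  · refine Scheme.hom_ext_of_forall _ _ fun z => ⟨t ⁻¹ᵁ W (t z), hxW (t z), ?_⟩
    rw [← morphismRestrict_ι_assoc, hL, hl1]
  · refine Scheme.hom_ext_of_forall _ _ fun z => ⟨W z, hxW z, ?_⟩
    rw [← Category.assoc, hL, hl2]
  · rintro l' ⟨h1, h2⟩
    refine Scheme.hom_ext_of_forall _ _ fun z => ⟨W z, hxW z, ?_⟩
    rw [hL]
    refine hext _ _ _ ?_ ?_
    · rw [hl1, morphismRestrict_ι_assoc, h1]
    · rw [Category.assoc, h2, hl2]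

theorem isFormallyEtaleHom_of_local {X Y : Scheme.{u}} (f : X ⟶ Y)
    (h : ∀ (U : X.Opens) (V : Y.Opens) (_ : IsAffineOpen U) (_ : IsAffineOpen V) (hUV : U ≤ f ⁻¹ᵁ V),
      (f.appLE V U hUV).hom.FormallyEtale) : MoreMor.IsFormallyEtaleHom f := by
  intro A _ I hI a b w
  let t := Spec.map (CommRingCat.ofHom (Ideal.Quotient.mk I))
  haveI : IsClosedImmersion t := IsClosedImmersion.spec_of_surjective _ Ideal.Quotient.mk_surjective
  haveI : Surjective t := ⟨fun p => by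
    show p ∈ Set.range (PrimeSpectrum.comap (Ideal.Quotient.mk I))
    rw [range_comap_of_surjective _ _ Ideal.Quotient.mk_surjective, Ideal.mk_ker]
    intro x hx
    exact p.isPrime.mem_of_pow_mem 2 (show x ^ 2 ∈ p.asIdeal by
      rw [show x ^ 2 = 0 from (Submodule.mem_bot A).1 (hI ▸ Ideal.pow_mem_pow hx 2)]; exact zero_mem _)⟩
  refine exists_unique_lift f h t ?_ a b w
  refine Scheme.IdealSheafData.ext_of_isAffine ?_
  rw [Scheme.IdealSheafData.ideal_mul, Scheme.IdealSheafData.ideal_bot, Pi.mul_apply, Pi.bot_apply, Scheme.Hom.ker_apply]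
  show RingHom.ker t.appTop.hom * RingHom.ker t.appTop.hom = ⊥
  have h1 : RingHom.ker t.appTop.hom = I.map (Scheme.ΓSpecIso (CommRingCat.of A)).inv.hom := by
    have hsq : t.appTop = (Scheme.ΓSpecIso (CommRingCat.of A)).hom ≫ CommRingCat.ofHom (Ideal.Quotient.mk I) ≫
        (Scheme.ΓSpecIso (CommRingCat.of (A ⧸ I))).inv := by
      rw [Scheme.ΓSpecIso_inv_naturality]
      exact ((Scheme.ΓSpecIso (CommRingCat.of A)).hom_inv_id_assoc _).symm
    rw [hsq, CommRingCat.hom_comp, CommRingCat.hom_comp, ← RingHom.comap_ker,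
      RingHom.ker_comp_of_injective _ (ConcreteCategory.bijective_of_isIso (Scheme.ΓSpecIso (CommRingCat.of (A ⧸ I))).inv).1, CommRingCat.hom_ofHom, Ideal.mk_ker]
    exact (Ideal.map_comap_of_equiv (Scheme.ΓSpecIso (CommRingCat.of A)).symm.commRingCatIsoToRingEquiv).symm
  rw [h1, ← Ideal.map_mul, ← pow_two, hI, Ideal.map_bot]

theorem isFormallyEtaleHom_iff {X Y : Scheme.{u}} (f : X ⟶ Y) : MoreMor.IsFormallyEtaleHom f ↔
    ∀ (U : X.Opens) (V : Y.Opens) (_ : IsAffineOpen U) (_ : IsAffineOpen V) (hUV : U ≤ f ⁻¹ᵁ V),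
      (f.appLE V U hUV).hom.FormallyEtale :=
  ⟨formallyEtale_appLE f, isFormallyEtaleHom_of_local f⟩

end Groth.Agent.H2FormallyEtale
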