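import Groth.Prelude.Def_AlgSpInf
import Groth.Agent.Lib.H2FormallyEtale
import Groth.Agent.Lib.AlgSpLocal
import Groth.Agent.Lib.AlgSpFppf
import Groth.Agent.Lib.AlgSpSigma
import Mathlib.CategoryTheory.Sites.RegularEpi
/-! Formally unramified and formally etale morphisms of sheaves and schemes. -/

set_option autoImplicit false
set_option linter.style.haveILetI false
set_option linter.unusedVariables false
set_option backward.isDefEq.respectTransparency.types false

universe u

open CategoryTheory CategoryTheory.Limits AlgebraicGeometry Opposite Topology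

noncomputable section

namespace Groth.Agent.ASp

open _root_.AlgSp

variable {S : Scheme.{u}} {F G H : Sp S}

theorem surjective_spec_sq_zero {A : Type u} [CommRing A] (I : Ideal A) (hI : I ^ 2 = ⊥) :
    Surjective (Spec.map (CommRingCat.ofHom (Ideal.Quotient.mk I))) :=
  ⟨fun p => by
    show p ∈ Set.range (PrimeSpectrum.comap (Ideal.Quotient.mk I))
    rw [range_comap_of_surjective _ _ Ideal.Quotient.mk_surjective, Ideal.mk_ker]
    intro x hx
    exact p.isPrime.mem_of_pow_mem 2 (show x ^ 2 ∈ p.asIdeal by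
      rw [show x ^ 2 = 0 from (Submodule.mem_bot A).1 (hI ▸ Ideal.pow_mem_pow hx 2)]; exact zero_mem _)⟩

theorem ker_spec_sq_zero {A : Type u} [CommRing A] (I : Ideal A) (hI : I ^ 2 = ⊥) :
    (Spec.map (CommRingCat.ofHom (Ideal.Quotient.mk I))).ker * (Spec.map (CommRingCat.ofHom (Ideal.Quotient.mk I))).ker = ⊥ := by
  let t := Spec.map (CommRingCat.ofHom (Ideal.Quotient.mk I))
  haveI : IsClosedImmersion t := IsClosedImmersion.spec_of_surjective _ Ideal.Quotient.mk_surjective
  refine Scheme.IdealSheafData.ext_of_isAffine ?_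
  rw [Scheme.IdealSheafData.ideal_mul, Scheme.IdealSheafData.ideal_bot, Pi.mul_apply, Pi.bot_apply, Scheme.Hom.ker_apply]
  show RingHom.ker t.appTop.hom * RingHom.ker t.appTop.hom = ⊥
  have h1 : RingHom.ker t.appTop.hom = I.map (Scheme.ΓSpecIso (CommRingCat.of A)).inv.hom := by
    have hsq : t.appTop = (Scheme.ΓSpecIso (CommRingCat.of A)).hom ≫ CommRingCat.ofHom (Ideal.Quotient.mk I) ≫
        (Scheme.ΓSpecIso (CommRingCat.of (A ⧸ I))).inv := by
      rw [Scheme.ΓSpecIso_inv_naturality]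
      exact ((Scheme.ΓSpecIso (CommRingCat.of A)).hom_inv_id_assoc _).symm
    rw [hsq, CommRingCat.hom_comp, CommRingCat.hom_comp, ← RingHom.comap_ker,
      RingHom.ker_comp_of_injective _ (ConcreteCategory.bijective_of_isIso (Scheme.ΓSpecIso (CommRingCat.of (A ⧸ I))).inv).1, CommRingCat.hom_ofHom, Ideal.mk_ker]
    exact (Ideal.map_comap_of_equiv (Scheme.ΓSpecIso (CommRingCat.of A)).symm.commRingCatIsoToRingEquiv).symm
  rw [h1, ← Ideal.map_mul, ← pow_two, hI, Ideal.map_bot]

theorem isFormallyUnramifiedMor_yon_iff {U V : Over S} (h : U ⟶ V) :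
    IsFormallyUnramifiedMor ((yon S).map h) ↔ FormallyUnramified h.left := by
  constructor
  · intro hf
    refine FormallyUnramified.of_hom_ext h.left fun R R' φ hφ hk g₁ g₂ hg hgf => ?_
    let e := RingHom.quotientKerEquivOfSurjective hφ
    let q : R ⟶ CommRingCat.of (R ⧸ RingHom.ker φ.hom) := CommRingCat.ofHom (Ideal.Quotient.mk _)
    have hq : q ≫ CommRingCat.ofHom e.toRingHom = φ := CommRingCat.hom_ext (RingHom.ext fun r => rfl)
    have hqg : Spec.map q ≫ g₁ = Spec.map q ≫ g₂ := by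
      haveI : IsIso (CommRingCat.ofHom e.toRingHom) := e.toCommRingCatIso.isIso_hom
      rw [← cancel_epi (Spec.map (CommRingCat.ofHom e.toRingHom)), ← Spec.map_comp_assoc, ← Spec.map_comp_assoc, hq]
      exact hg
    let str : Spec R ⟶ S := g₁ ≫ U.hom
    have h₂ : g₂ ≫ U.hom = str := by
      show g₂ ≫ U.hom = g₁ ≫ U.hom
      rw [← Over.w h, reassoc_of% hgf]
    let l₁ : Over.mk str ⟶ U := Over.homMk g₁ rfl
    let l₂ : Over.mk str ⟶ U := Over.homMk g₂ h₂
    let jj : Over.mk (Spec.map q ≫ str) ⟶ Over.mk str := Over.homMk (Spec.map q) rfl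
    let sq : InfSq ((yon S).map h) :=
      { A := R, I := RingHom.ker φ.hom, sq_zero := hk, str := str, top := (yon S).map (jj ≫ l₁),
        bot := (yon S).map (l₁ ≫ h),
        comm := by
          rw [← Functor.map_comp, ← Functor.map_comp]
          exact congrArg (yon S).map (Category.assoc _ _ _) }
    have hj : jj ≫ l₂ = jj ≫ l₁ := Over.OverMorphism.ext hqg.symm
    have hh : l₂ ≫ h = l₁ ≫ h := Over.OverMorphism.ext hgf.symm
    exact congrArg CommaMorphism.left ((yon S).map_injective (hf sq ((yon S).map l₁) ((yon S).map l₂)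
      ((yon S).map_comp jj l₁).symm ((yon S).map_comp l₁ h).symm
      (((yon S).map_comp jj l₂).symm.trans (congrArg (yon S).map hj))
      (((yon S).map_comp l₂ h).symm.trans (congrArg (yon S).map hh))))
  · intro hf sq l l' h₁ h₂ h₃ h₄
    obtain ⟨x, rfl⟩ := (yon S).map_surjective l
    obtain ⟨y, rfl⟩ := (yon S).map_surjective l'
    let t := Spec.map (CommRingCat.ofHom (Ideal.Quotient.mk sq.I))
    haveI : IsClosedImmersion t := IsClosedImmersion.spec_of_surjective _ Ideal.Quotient.mk_surjective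
    have hn : IsNilpotent t.ker := ⟨2, by rw [pow_two]; exact ker_spec_sq_zero sq.I sq.sq_zero⟩
    have e₁ : sq.j ≫ x = sq.j ≫ y := (yon S).map_injective (by rw [Functor.map_comp, Functor.map_comp, h₁, h₃])
    have e₂ : x ≫ h = y ≫ h := (yon S).map_injective (by rw [Functor.map_comp, Functor.map_comp, h₂, h₄])
    exact congrArg (yon S).map (Over.OverMorphism.ext (FormallyUnramified.hom_ext t hn h.left
      (congrArg CommaMorphism.left e₁) (congrArg CommaMorphism.left e₂)))

theorem isFormallyEtaleMor_yon_iff {U V : Over S} (h : U ⟶ V) :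
    IsFormallyEtaleMor ((yon S).map h) ↔ MoreMor.IsFormallyEtaleHom h.left := by
  constructor
  · intro hf A _ I hI a b w
    let str : Spec (CommRingCat.of A) ⟶ S := b ≫ V.hom
    let t := Spec.map (CommRingCat.ofHom (Ideal.Quotient.mk I))
    have ha : a ≫ U.hom = t ≫ str := by rw [← Over.w h, ← reassoc_of% w]
    let a' : Over.mk (t ≫ str) ⟶ U := Over.homMk a ha
    let b' : Over.mk str ⟶ V := Over.homMk b rfl
    let jj : Over.mk (t ≫ str) ⟶ Over.mk str := Over.homMk t rfl
    let sq : InfSq ((yon S).map h) :=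
      { A := A, I := I, sq_zero := hI, str := str, top := (yon S).map a', bot := (yon S).map b',
        comm := by
          rw [← Functor.map_comp, ← Functor.map_comp]
          exact congrArg (yon S).map (Over.OverMorphism.ext w.symm) }
    obtain ⟨l, ⟨hl₁, hl₂⟩, hu⟩ := hf sq
    obtain ⟨x, rfl⟩ := (yon S).map_surjective l
    have e₁ : jj ≫ x = a' := (yon S).map_injective (((yon S).map_comp jj x).trans hl₁)
    have e₂ : x ≫ h = b' := (yon S).map_injective (((yon S).map_comp x h).trans hl₂)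
    refine ⟨x.left, ⟨congrArg CommaMorphism.left e₁, congrArg CommaMorphism.left e₂⟩, fun y hy => ?_⟩
    have hy' : y ≫ U.hom = str := by
      rw [← Over.w h, reassoc_of% hy.2]
    let y' : Over.mk str ⟶ U := Over.homMk y hy'
    exact congrArg CommaMorphism.left ((yon S).map_injective (hu ((yon S).map y')
      ⟨((yon S).map_comp jj y').symm.trans (congrArg (yon S).map (Over.OverMorphism.ext hy.1)),
       ((yon S).map_comp y' h).symm.trans (congrArg (yon S).map (Over.OverMorphism.ext hy.2))⟩))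
  · intro hf sq
    obtain ⟨a, ha⟩ := (yon S).map_surjective sq.top
    obtain ⟨b, hb⟩ := (yon S).map_surjective sq.bot
    have w : a ≫ h = sq.j ≫ b := (yon S).map_injective (by rw [Functor.map_comp, Functor.map_comp, ha, hb]; exact sq.comm)
    obtain ⟨l, ⟨hl₁, hl₂⟩, hu⟩ := hf sq.A sq.I sq.sq_zero a.left b.left (congrArg CommaMorphism.left w).symm
    have hl : l ≫ U.hom = sq.str := by rw [← Over.w h, reassoc_of% hl₂]; exact Over.w b
    let x : sq.ptT' ⟶ U := Over.homMk l hl
    refine ⟨(yon S).map x, ⟨?_, ?_⟩, fun y hy => ?_⟩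
    · rw [← Functor.map_comp, ← ha]; exact congrArg (yon S).map (Over.OverMorphism.ext hl₁)
    · rw [← Functor.map_comp, ← hb]; exact congrArg (yon S).map (Over.OverMorphism.ext hl₂)
    obtain ⟨y', rfl⟩ := (yon S).map_surjective y
    have e₁ : sq.j ≫ y' = a := (yon S).map_injective (by rw [Functor.map_comp, hy.1, ha])
    have e₂ : y' ≫ h = b := (yon S).map_injective (by rw [Functor.map_comp, hy.2, hb])
    exact congrArg (yon S).map (Over.OverMorphism.ext
      (hu y'.left ⟨congrArg CommaMorphism.left e₁, congrArg CommaMorphism.left e₂⟩))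

theorem isFormallyEtaleHom_of_etale {X Y : Scheme.{u}} (f : X ⟶ Y) [Etale f] : MoreMor.IsFormallyEtaleHom f :=
  H2FormallyEtale.isFormallyEtaleHom_of_local f fun U V hU hV hUV => by
    have h := Etale.etale_appLE f hV hU hUV
    algebraize [(f.appLE V U hUV).hom]
    haveI : Algebra.Etale Γ(Y, V) Γ(X, U) := h
    exact (inferInstance : Algebra.FormallyEtale Γ(Y, V) Γ(X, U))

theorem unramified_of_etaleMor {a : F ⟶ G} (h : IsFormallyEtaleMor a) : IsFormallyUnramifiedMor a :=
  fun sq _ _ h₁ h₂ h₃ h₄ => (h sq).unique ⟨h₁, h₂⟩ ⟨h₃, h₄⟩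

theorem isFormallyUnramifiedMor_of_repWith {P : MorphismProperty Scheme.{u}} (hP : P ≤ @FormallyUnramified)
    {a : F ⟶ G} (ha : RepWith P a) : IsFormallyUnramifiedMor a := by
  intro sq l l' h₁ h₂ h₃ h₄
  obtain ⟨V, fst, c, sqV⟩ := exists_sq ha.rep sq.bot
  let L := sqV.lift l (𝟙 _) (by rw [h₂, Category.id_comp])
  let L' := sqV.lift l' (𝟙 _) (by rw [h₄, Category.id_comp])
  let sq' : InfSq ((yon S).map c) :=
    { A := sq.A, I := sq.I, sq_zero := sq.sq_zero, str := sq.str,
      top := sqV.lift sq.top ((yon S).map sq.j) sq.comm, bot := 𝟙 _,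
      comm := (sqV.lift_snd _ _ _).trans (Category.comp_id _).symm }
  have key : ∀ (m : (yon S).obj sq.ptT' ⟶ F) (hm : m ≫ a = sq.bot) (hm' : (yon S).map sq.j ≫ m = sq.top),
      (yon S).map sq.j ≫ sqV.lift m (𝟙 _) (by rw [hm, Category.id_comp]) = sqV.lift sq.top ((yon S).map sq.j) sq.comm := by
    intro m hm hm'
    apply sqV.hom_ext
    · rw [Category.assoc, sqV.lift_fst, sqV.lift_fst, hm']
    · rw [Category.assoc, sqV.lift_snd, sqV.lift_snd]; exact Category.comp_id _
  have e := (isFormallyUnramifiedMor_yon_iff c).2 (hP _ (ha.2 sq.bot fst c sqV)) sq' L L'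
    (key l h₂ h₁) (sqV.lift_snd _ _ _) (key l' h₄ h₃) (sqV.lift_snd _ _ _)
  have := congrArg (· ≫ fst) e
  simp only [L, L', sqV.lift_fst] at this
  exact this

theorem isFormallyEtaleMor_of_etale {a : F ⟶ G} (ha : RepWith @Etale a) : IsFormallyEtaleMor a := by
  have hu : IsFormallyUnramifiedMor a :=
    isFormallyUnramifiedMor_of_repWith (fun _ _ f (_ : Etale f) => show FormallyUnramified f from inferInstance) ha
  intro sq
  obtain ⟨V, fst, c, sqV⟩ := exists_sq ha.rep sq.bot
  haveI : Etale c.left := ha.2 sq.bot fst c sqV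
  let sq' : InfSq ((yon S).map c) :=
    { A := sq.A, I := sq.I, sq_zero := sq.sq_zero, str := sq.str,
      top := sqV.lift sq.top ((yon S).map sq.j) sq.comm, bot := 𝟙 _,
      comm := (sqV.lift_snd _ _ _).trans (Category.comp_id _).symm }
  obtain ⟨L, hL₁, hL₂⟩ := ((isFormallyEtaleMor_yon_iff c).2 (isFormallyEtaleHom_of_etale c.left) sq').exists
  have h₁ : (yon S).map sq.j ≫ L ≫ fst = sq.top := by
    rw [← Category.assoc]
    exact (congrArg (· ≫ fst) hL₁).trans (sqV.lift_fst _ _ _)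
  have h₂ : (L ≫ fst) ≫ a = sq.bot := by
    rw [Category.assoc, sqV.w, ← Category.assoc]
    exact (congrArg (· ≫ sq.bot) hL₂).trans (Category.id_comp _)
  exact ⟨L ≫ fst, ⟨h₁, h₂⟩, fun y hy => hu sq y (L ≫ fst) hy.1 hy.2 h₁ h₂⟩

/-- A morphism out of the base of an etale surjection is determined on an affine cover of the source. -/
theorem hom_ext_of_cover_affine {T : Over S} {x y : (yon S).obj T ⟶ F}
    (h : ∀ (O : Over S) (i : O ⟶ T), IsAffine O.left → IsOpenImmersion i.left →
      (yon S).map i ≫ x = (yon S).map i ≫ y) : x = y := by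
  haveI : ∀ k : T.left.affineOpens, IsOpenImmersion (Over.homMk k.1.ι rfl : Over.mk (k.1.ι ≫ T.hom) ⟶ T).left :=
    fun k => inferInstanceAs (IsOpenImmersion k.1.ι)
  refine hom_ext_of_cover (fun k : T.left.affineOpens => (Over.homMk k.1.ι rfl : Over.mk (k.1.ι ≫ T.hom) ⟶ T))
    (fun t => ?_) fun k => h _ _ k.2 inferInstance
  obtain ⟨O, hO, htO, -⟩ := exists_isAffineOpen_mem_and_subset (X := T.left) (x := t) (U := ⊤) trivial
  exact ⟨⟨O, hO⟩, ⟨t, htO⟩, rfl⟩

theorem effectiveEpi_of_etale {X : Sp S} {c : F ⟶ X} (h₁ : RepWith @Etale c) (h₂ : RepWith @Surjective c) :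
    EffectiveEpi c := by
  haveI := isLocallySurjective_of_etale h₁ h₂
  haveI : Epi c := inferInstance
  exact (isRegularEpi_iff_effectiveEpi _).1 (IsRegularEpiCategory.regularEpiOfEpi _)

/-- Gluing a morphism along an etale surjection from a scheme. -/
theorem exists_desc_of_cover {X : Sp S} {W : Over S} {c : (yon S).obj W ⟶ X} (h₁ : RepWith @Etale c)
    (h₂ : RepWith @Surjective c) (m : (yon S).obj W ⟶ G)
    (hm : ∀ (R : Over S) (x y : R ⟶ W), IsAffine R.left →
      (yon S).map x ≫ c = (yon S).map y ≫ c → RepWith @Etale ((yon S).map x ≫ c) →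
      (yon S).map x ≫ m = (yon S).map y ≫ m) :
    ∃ l : X ⟶ G, c ≫ l = m := by
  haveI := effectiveEpi_of_etale h₁ h₂
  obtain ⟨R, f₁, r₂, sq⟩ := exists_sq h₁.rep c
  obtain ⟨r₁, rfl⟩ := (yon S).map_surjective f₁
  haveI : Etale r₁.left := h₁.2 c ((yon S).map r₂) r₁ sq.flip
  have key : (yon S).map r₁ ≫ m = (yon S).map r₂ ≫ m := hom_ext_of_cover_affine fun O i hO hi => by
    rw [← Category.assoc, ← Category.assoc, ← Functor.map_comp, ← Functor.map_comp]
    refine hm O _ _ hO (by rw [Functor.map_comp, Functor.map_comp, Category.assoc, Category.assoc, sq.w]) ?_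
    haveI := hi
    exact repWith_comp ((repWith_yon_map_iff _ _).2 (inferInstanceAs (Etale (i.left ≫ r₁.left)))) h₁
  exact ⟨EffectiveEpi.desc c m fun g₁ g₂ hg => by
    rw [← sq.lift_fst g₁ g₂ hg, Category.assoc, key, ← Category.assoc, sq.lift_snd], EffectiveEpi.fac _ _ _⟩

theorem isFormallyUnramifiedMor_of_comp {a : F ⟶ G} {b : G ⟶ H} (ha : RepWith @Etale a)
    (has : RepWith @Surjective a) (h : IsFormallyUnramifiedMor (a ≫ b)) : IsFormallyUnramifiedMor b := by
  intro sq l l' h₁ h₂ h₃ h₄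
  obtain ⟨W, m, c, sqW⟩ := exists_sq ha.rep l
  haveI : Etale c.left := ha.2 l m c sqW
  haveI : Surjective c.left := has.2 l m c sqW
  haveI := effectiveEpi_of_etale ((repWith_yon_map_iff @Etale c).2 inferInstance)
    ((repWith_yon_map_iff @Surjective c).2 inferInstance)
  rw [← cancel_epi ((yon S).map c)]
  refine hom_ext_of_cover_affine fun O i hO hi => ?_
  let A := Γ(O.left, ⊤)
  let e : Spec A ⟶ O.left := O.left.isoSpec.inv
  let g : Over.mk (e ≫ O.hom) ⟶ sq.ptT' := (Over.homMk e rfl : Over.mk (e ≫ O.hom) ⟶ O) ≫ i ≫ c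
  haveI : IsIso (Over.homMk e rfl : Over.mk (e ≫ O.hom) ⟶ O) := by
    haveI : IsIso ((Over.forget S).map (Over.homMk e rfl : Over.mk (e ≫ O.hom) ⟶ O)) := inferInstanceAs (IsIso e)
    exact isIso_of_reflects_iso _ (Over.forget S)
  rw [← cancel_epi ((yon S).map (Over.homMk e rfl : Over.mk (e ≫ O.hom) ⟶ O))]
  let ψ : sq.A →+* A := (Spec.preimage g.left).hom
  let J : Ideal A := sq.I.map ψ
  have hJ : J ^ 2 = ⊥ := by rw [← Ideal.map_pow, sq.sq_zero, Ideal.map_bot]
  let jJ : Over.mk (Spec.map (CommRingCat.ofHom (Ideal.Quotient.mk J)) ≫ e ≫ O.hom) ⟶ Over.mk (e ≫ O.hom) :=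
    Over.homMk (Spec.map (CommRingCat.ofHom (Ideal.Quotient.mk J))) rfl
  have hg : g.left = Spec.map (CommRingCat.ofHom ψ) := (Spec.map_preimage _).symm
  have hfac : ∃ r : Over.mk (Spec.map (CommRingCat.ofHom (Ideal.Quotient.mk J)) ≫ e ≫ O.hom) ⟶ sq.ptT,
      r ≫ sq.j = jJ ≫ g := by
    let ψJ : sq.A ⧸ sq.I →+* A ⧸ J := Ideal.quotientMap J ψ Ideal.le_comap_map
    have hc : Spec.map (CommRingCat.ofHom ψJ) ≫ Spec.map (CommRingCat.ofHom (Ideal.Quotient.mk sq.I)) =
        Spec.map (CommRingCat.ofHom (Ideal.Quotient.mk J)) ≫ g.left := by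
      rw [hg, ← Spec.map_comp, ← Spec.map_comp, ← CommRingCat.ofHom_comp, ← CommRingCat.ofHom_comp]
      congr 2
    refine ⟨Over.homMk (Spec.map (CommRingCat.ofHom ψJ)) ?_, Over.OverMorphism.ext hc⟩
    show Spec.map (CommRingCat.ofHom ψJ) ≫ Spec.map _ ≫ sq.str = _
    rw [← Category.assoc, hc, Category.assoc]
    exact congrArg (_ ≫ ·) (Over.w g)
  obtain ⟨r, hr⟩ := hfac
  let M := (yon S).map ((Over.homMk e rfl : Over.mk (e ≫ O.hom) ⟶ O) ≫ i) ≫ m
  have hM : M ≫ a = (yon S).map g ≫ l := by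
    simp only [M, g, Functor.map_comp, Category.assoc, sqW.w]
  have hcomp : ∀ k : (yon S).obj sq.ptT' ⟶ G,
      (yon S).map jJ ≫ (yon S).map g ≫ k = (yon S).map r ≫ (yon S).map sq.j ≫ k := fun k =>
    ((Category.assoc _ _ _).symm.trans ((congrArg (· ≫ k) (((yon S).map_comp jJ g).symm.trans
      ((congrArg (yon S).map hr.symm).trans ((yon S).map_comp r sq.j)))).trans (Category.assoc _ _ _)))
  have hl' : ((yon S).map jJ ≫ M) ≫ a = (yon S).map jJ ≫ (yon S).map g ≫ l' := by
    rw [Category.assoc, hM, hcomp, hcomp, h₁, h₃]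
  obtain ⟨M', hM'₁, hM'₂⟩ := (isFormallyEtaleMor_of_etale ha
    { A := A, I := J, sq_zero := hJ, str := e ≫ O.hom, top := (yon S).map jJ ≫ M,
      bot := (yon S).map g ≫ l', comm := hl' }).exists
  have hb : ((yon S).map jJ ≫ M) ≫ a ≫ b = (yon S).map jJ ≫ (yon S).map g ≫ sq.bot := by
    rw [Category.assoc, reassoc_of% hM, h₂]
  let sqM : InfSq (a ≫ b) :=
    { A := A
      I := J
      sq_zero := hJ
      str := e ≫ O.hom
      top := (yon S).map jJ ≫ M
      bot := (yon S).map g ≫ sq.bot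
      comm := hb }
  have heq : M = M' := h sqM M M' rfl
      ((Category.assoc M a b).symm.trans ((congrArg (· ≫ b) hM).trans ((Category.assoc _ _ _).trans (congrArg (_ ≫ ·) h₂))))
      hM'₁
      ((Category.assoc M' a b).symm.trans ((congrArg (· ≫ b) hM'₂).trans ((Category.assoc _ _ _).trans (congrArg (_ ≫ ·) h₄))))
  have hfin : (yon S).map g ≫ l = (yon S).map g ≫ l' := by rw [← hM, heq, hM'₂]
  simpa only [g, Functor.map_comp, Category.assoc] using hfin

end Groth.Agent.ASp
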