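import Groth.Agent.Lib.AlgSpFormal
import Groth.Agent.S9436
/-! Lifting along etale surjective morphisms of sheaves: formal etaleness descends to the target. -/

set_option autoImplicit false
set_option linter.style.haveILetI false
set_option linter.unusedVariables false
set_option backward.isDefEq.respectTransparency.types false

universe u

open CategoryTheory CategoryTheory.Limits AlgebraicGeometry Opposite Topology TensorProduct

noncomputable section

namespace Groth.Agent.ASp

open _root_.AlgSp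

variable {S : Scheme.{u}} {F G H : Sp S}

instance mono_infSq_j {f : F ⟶ G} (sq : InfSq f) : Mono sq.j := by
  haveI : IsClosedImmersion (Spec.map (CommRingCat.ofHom (Ideal.Quotient.mk sq.I))) :=
    IsClosedImmersion.spec_of_surjective _ Ideal.Quotient.mk_surjective
  haveI : Mono ((Over.forget S).map sq.j) :=
    inferInstanceAs (Mono (Spec.map (CommRingCat.ofHom (Ideal.Quotient.mk sq.I))))
  exact (Over.forget S).mono_of_mono_map inferInstance

/-- An affine etale surjection onto an affine scheme from a given etale surjection. -/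
theorem exists_affine_etale_surjection {T W : Over S} [CompactSpace T.left] (c : W ⟶ T) [Etale c.left]
    [Surjective c.left] :
    ∃ (B : Type u) (_ : CommRing B) (str : Spec (CommRingCat.of B) ⟶ S) (e : Over.mk str ⟶ W),
      Etale (e ≫ c).left ∧ Surjective (e ≫ c).left := by
  obtain ⟨t, ht⟩ := isCompact_univ.elim_finite_subcover
    (fun k : W.left.affineOpens => c.left '' (k.1 : Set W.left))
    (fun k => c.left.isOpenMap _ k.1.2) (fun z _ => by
      obtain ⟨x, rfl⟩ := c.left.surjective z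
      obtain ⟨O, hO, hxO, -⟩ := exists_isAffineOpen_mem_and_subset (X := W.left) (x := x) (U := ⊤) trivial
      exact Set.mem_iUnion.2 ⟨⟨O, hO⟩, x, hxO, rfl⟩)
  haveI : ∀ k : ↥t, IsAffine k.1.1.toScheme := fun k => k.1.2
  let Z : Scheme.{u} := ∐ fun k : ↥t => k.1.1.toScheme
  let p : Z ⟶ W.left := Limits.Sigma.desc fun k => k.1.1.ι
  haveI : IsAffine Z := inferInstance
  let e : Over.mk (Z.isoSpec.inv ≫ p ≫ W.hom) ⟶ W := Over.homMk (Z.isoSpec.inv ≫ p) (Category.assoc _ _ _)
  haveI : Etale (p ≫ c.left) := by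
    have h : p ≫ c.left = Limits.Sigma.desc fun k : ↥t => k.1.1.ι ≫ c.left := by
      apply Limits.Sigma.hom_ext
      intro k
      simp [p]
    rw [h]
    exact IsZariskiLocalAtSource.sigmaDesc fun k => inferInstance
  refine ⟨Γ(Z, ⊤), inferInstance, Z.isoSpec.inv ≫ p ≫ W.hom, e, ?_, ⟨fun z => ?_⟩⟩
  · show Etale ((Z.isoSpec.inv ≫ p) ≫ c.left)
    rw [Category.assoc]
    infer_instance
  · obtain ⟨k, hk, x, hx, rfl⟩ := Set.mem_iUnion₂.1 (ht (Set.mem_univ z))
    refine ⟨Z.isoSpec.hom ((Limits.Sigma.ι (fun k : ↥t => k.1.1.toScheme) ⟨k, hk⟩) ⟨x, hx⟩), ?_⟩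
    show ((Z.isoSpec.inv ≫ p) ≫ c.left) (Z.isoSpec.hom ((Limits.Sigma.ι (fun k : ↥t => k.1.1.toScheme) ⟨k, hk⟩) ⟨x, hx⟩)) = c.left x
    rw [← Scheme.Hom.comp_apply, ← Scheme.Hom.comp_apply]
    simp only [Category.assoc, Iso.hom_inv_id_assoc, p, Limits.Sigma.ι_desc_assoc]
    rfl

theorem isFormallyEtaleMor_of_comp {a : F ⟶ G} {b : G ⟶ H} (ha : RepWith @Etale a)
    (has : RepWith @Surjective a) (h : IsFormallyEtaleMor (a ≫ b)) : IsFormallyEtaleMor b := by
  have hu : IsFormallyUnramifiedMor b := isFormallyUnramifiedMor_of_comp ha has (unramified_of_etaleMor h)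
  intro sq
  suffices hex : sq.HasLift by
    obtain ⟨l, h₁, h₂⟩ := hex
    exact ⟨l, ⟨h₁, h₂⟩, fun y hy => hu sq y l hy.1 hy.2 h₁ h₂⟩
  obtain ⟨W, m₀, c, sqW⟩ := exists_sq ha.rep sq.top
  haveI : Etale c.left := ha.2 sq.top m₀ c sqW
  haveI : Surjective c.left := has.2 sq.top m₀ c sqW
  haveI : CompactSpace sq.ptT.left := inferInstanceAs (CompactSpace (Spec (CommRingCat.of (sq.A ⧸ sq.I))))
  obtain ⟨B, _, strB, e, hde, hds⟩ := exists_affine_etale_surjection c
  let d : Over.mk strB ⟶ sq.ptT := e ≫ c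
  let m : (yon S).obj (Over.mk strB) ⟶ F := (yon S).map e ≫ m₀
  have hm : m ≫ a = (yon S).map d ≫ sq.top := by
    simp only [m, d, Functor.map_comp, Category.assoc, sqW.w]
  let φ : sq.A ⧸ sq.I →+* B := (Spec.preimage d.left).hom
  have hd : d.left = Spec.map (CommRingCat.ofHom φ) := (Spec.map_preimage _).symm
  letI : Algebra (sq.A ⧸ sq.I) B := φ.toAlgebra
  haveI : Algebra.Etale (sq.A ⧸ sq.I) B := by
    have h' : Etale (Spec.map (CommRingCat.ofHom φ)) := hd ▸ hde
    exact (HasRingHomProperty.Spec_iff (P := @Etale)).1 h'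
  obtain ⟨C, _, _, hC, ⟨ε₀⟩⟩ := Groth.Agent.S9436.result sq.A sq.I B
  let α : sq.A →+* C := algebraMap sq.A C
  let ε : (C ⧸ sq.I.map α) ≃ₐ[sq.A ⧸ sq.I] B :=
    (Algebra.TensorProduct.quotIdealMapEquivQuotTensor C sq.I).trans ε₀
  let strC : Spec (CommRingCat.of C) ⟶ S := Spec.map (CommRingCat.ofHom α) ≫ sq.str
  let d' : Over.mk strC ⟶ sq.ptT' := Over.homMk (Spec.map (CommRingCat.ofHom α)) rfl
  let jC : Over.mk (Spec.map (CommRingCat.ofHom (Ideal.Quotient.mk (sq.I.map α))) ≫ strC) ⟶ Over.mk strC :=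
    Over.homMk (Spec.map (CommRingCat.ofHom (Ideal.Quotient.mk (sq.I.map α)))) rfl
  have key : (CommRingCat.ofHom (Ideal.Quotient.mk sq.I) ≫ CommRingCat.ofHom φ) ≫ CommRingCat.ofHom ε.symm.toRingHom =
      CommRingCat.ofHom α ≫ CommRingCat.ofHom (Ideal.Quotient.mk (sq.I.map α)) := by
    ext x
    show ε.symm (algebraMap (sq.A ⧸ sq.I) B (Ideal.Quotient.mk sq.I x)) = Ideal.Quotient.mk (sq.I.map α) (α x)
    rw [AlgEquiv.commutes]
    rfl
  -- the comparison with the given cover
  let η : Over.mk (Spec.map (CommRingCat.ofHom (Ideal.Quotient.mk (sq.I.map α))) ≫ strC) ⟶ Over.mk strB :=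
    Over.homMk (Spec.map (CommRingCat.ofHom ε.symm.toRingHom)) (by
      show Spec.map (CommRingCat.ofHom ε.symm.toRingHom) ≫ strB = _
      have hb0 : d.left ≫ Spec.map (CommRingCat.ofHom (Ideal.Quotient.mk sq.I)) ≫ sq.str = strB := Over.w d
      rw [← hb0, hd]
      show Spec.map _ ≫ Spec.map _ ≫ Spec.map _ ≫ sq.str = Spec.map _ ≫ Spec.map _ ≫ sq.str
      rw [← Spec.map_comp_assoc, ← Spec.map_comp_assoc, ← Category.assoc (CommRingCat.ofHom (Ideal.Quotient.mk sq.I)), key, Spec.map_comp_assoc])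
  haveI : IsIso (CommRingCat.ofHom ε.symm.toRingHom) := ε.symm.toRingEquiv.toCommRingCatIso.isIso_hom
  haveI : IsIso ((Over.forget S).map η) := inferInstanceAs (IsIso (Spec.map (CommRingCat.ofHom ε.symm.toRingHom)))
  haveI : IsIso η := isIso_of_reflects_iso _ (Over.forget S)
  let rC := η ≫ d
  have hrC : rC ≫ sq.j = jC ≫ d' := Over.OverMorphism.ext (by
    show (Spec.map _ ≫ d.left) ≫ Spec.map _ = Spec.map _ ≫ Spec.map _
    rw [hd, Category.assoc, ← Spec.map_comp, ← Spec.map_comp, ← Spec.map_comp, key])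
  haveI : Etale d'.left := by
    haveI := hC
    exact (HasRingHomProperty.Spec_iff (P := @Etale)).2 (show (CommRingCat.ofHom α).hom.Etale from RingHom.etale_algebraMap.2 hC)
  haveI := hds
  haveI : Surjective d'.left := by
    have hs1 : Surjective (rC ≫ sq.j).left := by
      haveI : Surjective sq.j.left := surjective_spec_sq_zero sq.I sq.sq_zero
      haveI : Surjective d.left := hds
      show Surjective ((η.left ≫ d.left) ≫ sq.j.left)
      haveI : IsIso η.left := ‹IsIso ((Over.forget S).map η)›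
      infer_instance
    rw [hrC] at hs1
    haveI : Surjective (jC.left ≫ d'.left) := hs1
    exact Surjective.of_comp jC.left d'.left
  let top' := (yon S).map η ≫ m
  have htop : top' ≫ a = (yon S).map rC ≫ sq.top := by
    simp only [top', rC, Functor.map_comp, Category.assoc, hm]
  let sqC : InfSq (a ≫ b) :=
    { A := C
      I := sq.I.map α
      sq_zero := by rw [← Ideal.map_pow, sq.sq_zero, Ideal.map_bot]
      str := strC
      top := top'
      bot := (yon S).map d' ≫ sq.bot
      comm := (Category.assoc top' a b).symm.trans ((congrArg (· ≫ b) htop).trans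
        ((Category.assoc _ _ _).trans ((congrArg ((yon S).map rC ≫ ·) sq.comm).trans
          ((Category.assoc _ _ _).symm.trans ((congrArg (· ≫ sq.bot) (((yon S).map_comp rC sq.j).symm.trans
            ((congrArg (yon S).map hrC).trans ((yon S).map_comp jC d')))).trans (Category.assoc _ _ _)))))) }
  obtain ⟨m', hm'₁, hm'₂⟩ := (h sqC).exists
  have hm'₁' : (yon S).map jC ≫ m' = top' := hm'₁
  have hm'b : (m' ≫ a) ≫ b = (yon S).map d' ≫ sq.bot := (Category.assoc _ _ _).trans hm'₂
  have h1 := (repWith_yon_map_iff @Etale d').2 inferInstance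
  have h2 := (repWith_yon_map_iff @Surjective d').2 inferInstance
  obtain ⟨l, hl⟩ := exists_desc_of_cover h1 h2 (m' ≫ a) fun R x y hR hxy hxe => by
    let D := Γ(R.left, ⊤)
    let iR : Over.mk (R.left.isoSpec.inv ≫ R.hom) ⟶ R := Over.homMk R.left.isoSpec.inv rfl
    haveI : IsIso ((Over.forget S).map iR) := inferInstanceAs (IsIso R.left.isoSpec.inv)
    haveI : IsIso iR := isIso_of_reflects_iso _ (Over.forget S)
    rw [← cancel_epi ((yon S).map iR), ← Category.assoc ((yon S).map iR), ← Category.assoc ((yon S).map iR),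
      ← Functor.map_comp, ← Functor.map_comp]
    have hxy' : (iR ≫ x) ≫ d' = (iR ≫ y) ≫ d' := by
      rw [Category.assoc, Category.assoc, (yon S).map_injective
        (show (yon S).map (x ≫ d') = (yon S).map (y ≫ d') by rw [Functor.map_comp, Functor.map_comp, hxy])]
    let g := (iR ≫ x) ≫ d'
    let ψ : sq.A →+* D := (Spec.preimage g.left).hom
    let J : Ideal D := sq.I.map ψ
    let jD : Over.mk (Spec.map (CommRingCat.ofHom (Ideal.Quotient.mk J)) ≫ R.left.isoSpec.inv ≫ R.hom) ⟶
        Over.mk (R.left.isoSpec.inv ≫ R.hom) := Over.homMk (Spec.map (CommRingCat.ofHom (Ideal.Quotient.mk J))) rfl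
    have lift : ∀ z : Over.mk (R.left.isoSpec.inv ≫ R.hom) ⟶ Over.mk strC, z ≫ d' = g →
        ∃ z₀, z₀ ≫ jC = jD ≫ z := by
      intro z hz
      let χ : C →+* D := (Spec.preimage z.left).hom
      have hzl : z.left = Spec.map (CommRingCat.ofHom χ) := (Spec.map_preimage _).symm
      have hχ : χ.comp α = ψ := by
        refine congrArg CommRingCat.Hom.hom (Spec.map_injective (a₁ := CommRingCat.ofHom (χ.comp α))
          (a₂ := CommRingCat.ofHom ψ) ?_)
        rw [CommRingCat.ofHom_comp, Spec.map_comp, ← hzl]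
        exact (congrArg CommaMorphism.left hz).trans (Spec.map_preimage _).symm
      let χJ : C ⧸ sq.I.map α →+* D ⧸ J := Ideal.quotientMap J χ (by
        rw [Ideal.map_le_iff_le_comap, Ideal.comap_comap, hχ]
        exact Ideal.le_comap_map)
      have hc : Spec.map (CommRingCat.ofHom χJ) ≫ Spec.map (CommRingCat.ofHom (Ideal.Quotient.mk (sq.I.map α))) =
          Spec.map (CommRingCat.ofHom (Ideal.Quotient.mk J)) ≫ z.left := by
        rw [hzl, ← Spec.map_comp, ← Spec.map_comp, ← CommRingCat.ofHom_comp, ← CommRingCat.ofHom_comp]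
        congr 2
      refine ⟨Over.homMk (Spec.map (CommRingCat.ofHom χJ)) ?_, Over.OverMorphism.ext hc⟩
      show Spec.map _ ≫ Spec.map _ ≫ strC = Spec.map _ ≫ R.left.isoSpec.inv ≫ R.hom
      rw [reassoc_of% hc]
      exact congrArg (_ ≫ ·) (Over.w z)
    obtain ⟨x₀, hx₀⟩ := lift _ rfl
    obtain ⟨y₀, hy₀⟩ := lift _ hxy'.symm
    have hz₀ : ∀ z z₀, z₀ ≫ jC = jD ≫ z → (z₀ ≫ rC) ≫ sq.j = jD ≫ z ≫ d' := fun z z₀ hz =>
      (Category.assoc z₀ rC sq.j).trans ((congrArg (z₀ ≫ ·) hrC).trans ((Category.assoc _ _ _).symm.trans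
        ((congrArg (· ≫ d') hz).trans (Category.assoc _ _ _))))
    have e₀ : x₀ ≫ rC = y₀ ≫ rC := (cancel_mono sq.j).1
      ((hz₀ _ _ hx₀).trans ((congrArg (jD ≫ ·) hxy').trans (hz₀ _ _ hy₀).symm))
    have res : ∀ z z₀, z₀ ≫ jC = jD ≫ z →
        (yon S).map jD ≫ (yon S).map z ≫ m' ≫ a = (yon S).map (z₀ ≫ rC) ≫ sq.top := by
      intro z z₀ hz
      calc (yon S).map jD ≫ (yon S).map z ≫ m' ≫ a = (yon S).map (jD ≫ z) ≫ m' ≫ a := by
            rw [Functor.map_comp]; exact (Category.assoc _ _ _).symm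
        _ = (yon S).map (z₀ ≫ jC) ≫ m' ≫ a := by rw [hz]
        _ = (yon S).map z₀ ≫ ((yon S).map jC ≫ m') ≫ a := by
            rw [Functor.map_comp]; simp only [Category.assoc]
        _ = (yon S).map z₀ ≫ (yon S).map rC ≫ sq.top := by rw [hm'₁', htop]
        _ = _ := (Category.assoc _ _ _).symm.trans (congrArg (· ≫ sq.top) ((yon S).map_comp z₀ rC).symm)
    let sqR : InfSq b :=
      { A := D
        I := J
        sq_zero := by rw [← Ideal.map_pow, sq.sq_zero, Ideal.map_bot]
        str := R.left.isoSpec.inv ≫ R.hom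
        top := (yon S).map (x₀ ≫ rC) ≫ sq.top
        bot := (yon S).map g ≫ sq.bot
        comm := by
          rw [← res _ _ hx₀]
          simp only [Category.assoc]
          refine congrArg (_ ≫ ·) ?_
          exact ((congrArg (_ ≫ ·) hm'₂).trans ((Category.assoc _ _ _).symm.trans
            (congrArg (· ≫ sq.bot) ((yon S).map_comp _ _).symm))) }
    refine hu sqR _ _ (res _ _ hx₀) ?_ ((res _ _ hy₀).trans (by rw [← e₀])) ?_
    · exact (Category.assoc _ _ _).trans ((congrArg (_ ≫ ·) hm'b).trans ((Category.assoc _ _ _).symm.trans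
        (congrArg (· ≫ sq.bot) ((yon S).map_comp _ _).symm)))
    · exact (Category.assoc _ _ _).trans ((congrArg (_ ≫ ·) hm'b).trans ((Category.assoc _ _ _).symm.trans
        (congrArg (· ≫ sq.bot) (((yon S).map_comp _ _).symm.trans (congrArg (yon S).map hxy'.symm)))))
  refine ⟨l, ?_, ?_⟩
  · haveI : Etale d.left := hde
    haveI : Surjective d.left := hds
    haveI := effectiveEpi_of_etale ((repWith_yon_map_iff @Etale d).2 inferInstance)
      ((repWith_yon_map_iff @Surjective d).2 inferInstance)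
    rw [← cancel_epi ((yon S).map d), ← cancel_epi ((yon S).map η)]
    calc (yon S).map η ≫ (yon S).map d ≫ (yon S).map sq.j ≫ l
        = (yon S).map (rC ≫ sq.j) ≫ l := by simp only [rC, Functor.map_comp, Category.assoc]
      _ = (yon S).map jC ≫ m' ≫ a := by rw [hrC, Functor.map_comp, Category.assoc, hl]
      _ = (yon S).map rC ≫ sq.top := (Category.assoc _ _ _).symm.trans ((congrArg (· ≫ a) hm'₁').trans htop)
      _ = _ := by simp only [rC, Functor.map_comp, Category.assoc]
  · haveI := effectiveEpi_of_etale h1 h2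
    rw [← cancel_epi ((yon S).map d'), reassoc_of% hl]
    exact hm'₂

end Groth.Agent.ASp
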