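import Groth.Agent.Lib.AlgSpFormalLift
/-! Etale local lifts in formal smoothness squares. -/

set_option autoImplicit false
set_option linter.style.haveILetI false
set_option linter.unusedVariables false
set_option backward.isDefEq.respectTransparency.types false

universe u

open CategoryTheory CategoryTheory.Limits AlgebraicGeometry Opposite Topology TensorProduct

noncomputable section

namespace Groth.Agent.ASp

open _root_.AlgSp

variable {S : Scheme.{u}} {F G H : Sp S}

theorem exists_etale_lift {a : F ⟶ G} {b : G ⟶ H} (ha : RepWith @Etale a) (has : RepWith @Surjective a)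
    (h : IsFormallySmoothMor (a ≫ b)) (sq : InfSq b) :
    ∃ (U' : Over S) (g : U' ⟶ sq.ptT') (l : (yon S).obj U' ⟶ G), IsAffine U'.left ∧ Etale g.left ∧
      Surjective g.left ∧ l ≫ b = (yon S).map g ≫ sq.bot ∧
      ∀ (V : Over S) (p : V ⟶ sq.ptT) (q : V ⟶ U'), p ≫ sq.j = q ≫ g →
        (yon S).map q ≫ l = (yon S).map p ≫ sq.top := by
  obtain ⟨W, m₀, c, sqW⟩ := exists_sq ha.rep sq.top
  haveI : Etale c.left := ha.2 sq.top m₀ c sqW
  haveI : Surjective c.left := has.2 sq.top m₀ c sqW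
  haveI : CompactSpace sq.ptT.left := inferInstanceAs (CompactSpace (Spec (CommRingCat.of (sq.A ⧸ sq.I))))
  obtain ⟨B, _, strB, e, hde, hds⟩ := exists_affine_etale_surjection c
  let d : Over.mk strB ⟶ sq.ptT := e ≫ c
  let m : (yon S).obj (Over.mk strB) ⟶ F := (yon S).map e ≫ m₀
  have hm : m ≫ a = (yon S).map d ≫ sq.top := by
    simp only [m, d, Functor.map_comp, Category.assoc, sqW.w]
  let φ : sq.A ⧸ sq.I →+* B := (Spec.preimage d.left).hom
  have hd : d.left = Spec.map (CommRingCat.ofHom φ) := (Spec.map_preimage _).symm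
  letI : Algebra (sq.A ⧸ sq.I) B := φ.toAlgebra
  haveI : Algebra.Etale (sq.A ⧸ sq.I) B := by
    have h' : Etale (Spec.map (CommRingCat.ofHom φ)) := hd ▸ hde
    exact (HasRingHomProperty.Spec_iff (P := @Etale)).1 h'
  obtain ⟨C, _, _, hC, ⟨ε₀⟩⟩ := Groth.Agent.S9436.result sq.A sq.I B
  let α : sq.A →+* C := algebraMap sq.A C
  let ε : (C ⧸ sq.I.map α) ≃ₐ[sq.A ⧸ sq.I] B :=
    (Algebra.TensorProduct.quotIdealMapEquivQuotTensor C sq.I).trans ε₀
  let strC : Spec (CommRingCat.of C) ⟶ S := Spec.map (CommRingCat.ofHom α) ≫ sq.str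
  let d' : Over.mk strC ⟶ sq.ptT' := Over.homMk (Spec.map (CommRingCat.ofHom α)) rfl
  let jC : Over.mk (Spec.map (CommRingCat.ofHom (Ideal.Quotient.mk (sq.I.map α))) ≫ strC) ⟶ Over.mk strC :=
    Over.homMk (Spec.map (CommRingCat.ofHom (Ideal.Quotient.mk (sq.I.map α)))) rfl
  have key : (CommRingCat.ofHom (Ideal.Quotient.mk sq.I) ≫ CommRingCat.ofHom φ) ≫ CommRingCat.ofHom ε.symm.toRingHom =
      CommRingCat.ofHom α ≫ CommRingCat.ofHom (Ideal.Quotient.mk (sq.I.map α)) := by
    ext x
    show ε.symm (algebraMap (sq.A ⧸ sq.I) B (Ideal.Quotient.mk sq.I x)) = Ideal.Quotient.mk (sq.I.map α) (α x)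
    rw [AlgEquiv.commutes]
    rfl
  let η : Over.mk (Spec.map (CommRingCat.ofHom (Ideal.Quotient.mk (sq.I.map α))) ≫ strC) ⟶ Over.mk strB :=
    Over.homMk (Spec.map (CommRingCat.ofHom ε.symm.toRingHom)) (by
      show Spec.map (CommRingCat.ofHom ε.symm.toRingHom) ≫ strB = _
      have hb0 : d.left ≫ Spec.map (CommRingCat.ofHom (Ideal.Quotient.mk sq.I)) ≫ sq.str = strB := Over.w d
      rw [← hb0, hd]
      show Spec.map _ ≫ Spec.map _ ≫ Spec.map _ ≫ sq.str = Spec.map _ ≫ Spec.map _ ≫ sq.str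
      rw [← Spec.map_comp_assoc, ← Spec.map_comp_assoc, ← Category.assoc (CommRingCat.ofHom (Ideal.Quotient.mk sq.I)), key, Spec.map_comp_assoc])
  haveI : IsIso (CommRingCat.ofHom ε.symm.toRingHom) := ε.symm.toRingEquiv.toCommRingCatIso.isIso_hom
  haveI : IsIso ((Over.forget S).map η) := inferInstanceAs (IsIso (Spec.map (CommRingCat.ofHom ε.symm.toRingHom)))
  haveI : IsIso η := isIso_of_reflects_iso _ (Over.forget S)
  let rC := η ≫ d
  have hrC : rC ≫ sq.j = jC ≫ d' := Over.OverMorphism.ext (by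
    show (Spec.map _ ≫ d.left) ≫ Spec.map _ = Spec.map _ ≫ Spec.map _
    rw [hd, Category.assoc, ← Spec.map_comp, ← Spec.map_comp, ← Spec.map_comp, key])
  haveI : Etale d'.left := by
    haveI := hC
    exact (HasRingHomProperty.Spec_iff (P := @Etale)).2 (show (CommRingCat.ofHom α).hom.Etale from RingHom.etale_algebraMap.2 hC)
  haveI : Surjective d'.left := by
    have hs1 : Surjective (rC ≫ sq.j).left := by
      haveI : Surjective sq.j.left := surjective_spec_sq_zero sq.I sq.sq_zero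
      haveI : Surjective d.left := hds
      show Surjective ((η.left ≫ d.left) ≫ sq.j.left)
      haveI : IsIso η.left := ‹IsIso ((Over.forget S).map η)›
      infer_instance
    rw [hrC] at hs1
    haveI : Surjective (jC.left ≫ d'.left) := hs1
    exact Surjective.of_comp jC.left d'.left
  let top' := (yon S).map η ≫ m
  have htop : top' ≫ a = (yon S).map rC ≫ sq.top := by
    simp only [top', rC, Functor.map_comp, Category.assoc, hm]
  let sqC : InfSq (a ≫ b) :=
    { A := C
      I := sq.I.map α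
      sq_zero := by rw [← Ideal.map_pow, sq.sq_zero, Ideal.map_bot]
      str := strC
      top := top'
      bot := (yon S).map d' ≫ sq.bot
      comm := (Category.assoc top' a b).symm.trans ((congrArg (· ≫ b) htop).trans
        ((Category.assoc _ _ _).trans ((congrArg ((yon S).map rC ≫ ·) sq.comm).trans
          ((Category.assoc _ _ _).symm.trans ((congrArg (· ≫ sq.bot) (((yon S).map_comp rC sq.j).symm.trans
            ((congrArg (yon S).map hrC).trans ((yon S).map_comp jC d')))).trans (Category.assoc _ _ _)))))) }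
  obtain ⟨m', hm'₁, hm'₂⟩ := h sqC
  have hm'₁' : (yon S).map jC ≫ m' = top' := hm'₁
  refine ⟨Over.mk strC, d', m' ≫ a, inferInstanceAs (IsAffine (Spec _)), inferInstance, inferInstance,
    (Category.assoc _ _ _).trans hm'₂, fun V p q hpq => ?_⟩
  -- `q` factors through the thickened part
  let χ : CommRingCat.of C ⟶ Γ(V.left, ⊤) := (Scheme.ΓSpecIso _).inv ≫ q.left.appTop
  have hq : q.left = V.left.toSpecΓ ≫ Spec.map χ := by
    show _ = V.left.toSpecΓ ≫ Spec.map (_ ≫ _)
    rw [Spec.map_comp, ← Scheme.toSpecΓ_naturality_assoc]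
    exact ((congrArg (q.left ≫ ·) (toSpecΓ_SpecMap_ΓSpecIso_inv (CommRingCat.of C))).trans (Category.comp_id _)).symm
  have hχ : ∀ x, x ∈ sq.I → χ (α x) = 0 := by
    intro x hx
    have e₁ : CommRingCat.ofHom α ≫ χ =
        CommRingCat.ofHom (Ideal.Quotient.mk sq.I) ≫ (Scheme.ΓSpecIso _).inv ≫ p.left.appTop := by
      have hl : p.left ≫ Spec.map (CommRingCat.ofHom (Ideal.Quotient.mk sq.I)) =
          q.left ≫ Spec.map (CommRingCat.ofHom α) := congrArg (fun k => CommaMorphism.left k) hpq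
      have := congrArg (fun f => (Scheme.ΓSpecIso (CommRingCat.of sq.A)).inv ≫ Scheme.Hom.appTop f) hl
      simp only [Scheme.Hom.comp_appTop, ← Scheme.ΓSpecIso_inv_naturality_assoc] at this
      exact this.symm
    have := congrArg (fun f => f x) (congrArg (fun f => (ConcreteCategory.hom f)) e₁)
    refine this.trans ?_
    show (ConcreteCategory.hom ((Scheme.ΓSpecIso _).inv ≫ p.left.appTop)) (Ideal.Quotient.mk sq.I x) = 0
    rw [Ideal.Quotient.eq_zero_iff_mem.2 hx, map_zero]
  let χ' : C ⧸ sq.I.map α →+* Γ(V.left, ⊤) := Ideal.Quotient.lift _ χ.hom (fun y hy => by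
    have : sq.I.map α ≤ RingHom.ker χ.hom := Ideal.map_le_iff_le_comap.2 fun x hx => hχ x hx
    exact this hy)
  have hc : (V.left.toSpecΓ ≫ Spec.map (CommRingCat.ofHom χ')) ≫
      Spec.map (CommRingCat.ofHom (Ideal.Quotient.mk (sq.I.map α))) = q.left := by
    rw [Category.assoc, ← Spec.map_comp, hq]
    rfl
  let q₀ : V ⟶ Over.mk (Spec.map (CommRingCat.ofHom (Ideal.Quotient.mk (sq.I.map α))) ≫ strC) :=
    Over.homMk (V.left.toSpecΓ ≫ Spec.map (CommRingCat.ofHom χ')) (by
      show (_ ≫ _) ≫ Spec.map _ ≫ strC = V.hom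
      exact (Category.assoc _ _ _).symm.trans ((congrArg (· ≫ strC) hc).trans (Over.w q)))
  have hq₀ : q₀ ≫ jC = q := Over.OverMorphism.ext hc
  have hp : q₀ ≫ rC = p := (cancel_mono sq.j).1 (by
    rw [Category.assoc, hrC, ← Category.assoc, hq₀, hpq])
  calc (yon S).map q ≫ m' ≫ a = (yon S).map (q₀ ≫ jC) ≫ m' ≫ a := by rw [hq₀]
    _ = (yon S).map q₀ ≫ ((yon S).map jC ≫ m') ≫ a := by rw [Functor.map_comp]; simp only [Category.assoc]
    _ = (yon S).map q₀ ≫ (yon S).map rC ≫ sq.top := by rw [hm'₁', htop]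
    _ = (yon S).map (q₀ ≫ rC) ≫ sq.top := by simp only [rC, Functor.map_comp, Category.assoc]
    _ = _ := by rw [hp]

end Groth.Agent.ASp
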