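import Groth.Agent.Lib.AlgSpFormalLift
import Groth.Agent.Lib.AlgSpLocalRows
import Groth.Agent.S10618
import Groth.Agent.S10619
/-! Formally unramified and etale morphisms of algebraic spaces: charts and thickenings. -/

set_option autoImplicit false
set_option linter.style.haveILetI false
set_option linter.unusedVariables false
set_option backward.isDefEq.respectTransparency.types false

universe u

open CategoryTheory CategoryTheory.Limits AlgebraicGeometry Opposite Topology

noncomputable section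

namespace Groth.Agent.ASp

open _root_.AlgSp

variable {S : Scheme.{u}} {X Y : Sp S}

theorem fu_of_chart {f : X ⟶ Y} {U V : Over S} {a : (yon S).obj U ⟶ X} {b : (yon S).obj V ⟶ Y} {h : U ⟶ V}
    (ha : RepWith @Etale a) (has : RepWith @Surjective a) (hb : RepWith @Etale b)
    (hab : a ≫ f = (yon S).map h ≫ b) (hh : FormallyUnramified h.left) : IsFormallyUnramifiedMor f :=
  isFormallyUnramifiedMor_of_comp ha has (hab ▸
    (Groth.Agent.S10619.result _ b).2.2 ((isFormallyUnramifiedMor_yon_iff h).2 hh)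
      (unramified_of_etaleMor (isFormallyEtaleMor_of_etale hb)))

theorem fe_of_chart {f : X ⟶ Y} {U V : Over S} {a : (yon S).obj U ⟶ X} {b : (yon S).obj V ⟶ Y} {h : U ⟶ V}
    (ha : RepWith @Etale a) (has : RepWith @Surjective a) (hb : RepWith @Etale b)
    (hab : a ≫ f = (yon S).map h ≫ b) (hh : MoreMor.IsFormallyEtaleHom h.left) : IsFormallyEtaleMor f :=
  isFormallyEtaleMor_of_comp ha has (hab ▸
    (Groth.Agent.S10619.result _ b).2.1 ((isFormallyEtaleMor_yon_iff h).2 hh) (isFormallyEtaleMor_of_etale hb))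

theorem fu_iff_locP (hX : IsAlgSpace X) (hY : IsAlgSpace Y) {f : X ⟶ Y} :
    IsFormallyUnramifiedMor f ↔ LocP @FormallyUnramified f := by
  refine ⟨fun hf U V a b h ha hb hab => (isFormallyUnramifiedMor_yon_iff h).1 ?_, fun hf => ?_⟩
  · refine (Groth.Agent.S10618.result _ b (unramified_of_etaleMor (isFormallyEtaleMor_of_etale hb))).1 ?_
    rw [← hab]
    exact (Groth.Agent.S10619.result a f).2.2 (unramified_of_etaleMor (isFormallyEtaleMor_of_etale ha)) hf
  · obtain ⟨U, V, a, b, α, ha, has, hb, -, hab⟩ := exists_chart hX hY f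
    exact fu_of_chart ha has hb hab (hf a b α ha hb hab)

theorem fe_iff_locP (hX : IsAlgSpace X) (hY : IsAlgSpace Y) {f : X ⟶ Y} :
    IsFormallyEtaleMor f ↔ LocP @MoreMor.IsFormallyEtaleHom f := by
  refine ⟨fun hf U V a b h ha hb hab => (isFormallyEtaleMor_yon_iff h).1 ?_, fun hf => ?_⟩
  · refine (Groth.Agent.S10618.result _ b (unramified_of_etaleMor (isFormallyEtaleMor_of_etale hb))).2.1 ?_
    rw [← hab]
    exact (Groth.Agent.S10619.result a f).2.1 (isFormallyEtaleMor_of_etale ha) hf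
  · obtain ⟨U, V, a, b, α, ha, has, hb, -, hab⟩ := exists_chart hX hY f
    exact fe_of_chart ha has hb hab (hf a b α ha hb hab)

theorem fe_of_isEtaleMor (hX : IsAlgSpace X) (hY : IsAlgSpace Y) {f : X ⟶ Y} (h : IsEtaleMor f) :
    IsFormallyEtaleMor f :=
  (fe_iff_locP hX hY).2 (locP_mono (fun _ _ g (_ : Etale g) => isFormallyEtaleHom_of_etale g)
    (locP_etale_of_isEtaleMor h))

theorem isEtaleMor_iff (hX : IsAlgSpace X) (hY : IsAlgSpace Y) {f : X ⟶ Y} :
    IsEtaleMor f ↔ LocP @LocallyOfFinitePresentation f ∧ IsFormallyEtaleMor f := by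
  refine ⟨fun h => ⟨locP_mono (fun _ _ g (_ : Etale g) => show LocallyOfFinitePresentation g from inferInstance)
    (locP_etale_of_isEtaleMor h), fe_of_isEtaleMor hX hY h⟩, fun h => isEtaleMor_of_locP hX hY ?_⟩
  intro U V a b α ha hb hab
  haveI : LocallyOfFinitePresentation α.left := h.1 a b α ha hb hab
  have hfe := (fe_iff_locP hX hY).1 h.2 a b α ha hb hab
  refine ⟨fun {O} hO {W} hW e => ?_⟩
  have h1 := Groth.Agent.H2FormallyEtale.formallyEtale_appLE α.left hfe W O hW hO e
  have h2 := α.left.finitePresentation_appLE hO hW e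
  algebraize [(α.left.appLE O W e).hom]
  haveI : Algebra.FormallyEtale Γ(V.left, O) Γ(U.left, W) := h1
  haveI : Algebra.FinitePresentation Γ(V.left, O) Γ(U.left, W) := h2
  exact { }

theorem fe_of_unramified_flat (hX : IsAlgSpace X) (hY : IsAlgSpace Y) {f : X ⟶ Y}
    (h1 : LocP (@LocallyOfFiniteType ⊓ @FormallyUnramified) f) (h2 : LocP @Flat f) : IsFormallyEtaleMor f := by
  refine (fe_iff_locP hX hY).2 fun U V a b α ha hb hab => ?_
  obtain ⟨_, _⟩ := h1 a b α ha hb hab
  haveI : Flat α.left := h2 a b α ha hb hab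
  refine Groth.Agent.H2FormallyEtale.isFormallyEtaleHom_of_local α.left fun W O hW hO e => ?_
  have h3 := α.left.finiteType_appLE hO hW e
  have h4 := α.left.formallyUnramified_appLE hO hW e
  have h5 := α.left.flat_appLE hO hW e
  algebraize [(α.left.appLE O W e).hom]
  haveI : Algebra.FiniteType Γ(V.left, O) Γ(U.left, W) := h3
  haveI : Algebra.FormallyUnramified Γ(V.left, O) Γ(U.left, W) := h4
  haveI : Module.Flat Γ(V.left, O) Γ(U.left, W) := h5
  exact Groth.Agent.H2FlatUnramEtale.formallyEtale_of_flat_unramified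

/-- A first order thickening of an affine scheme is given by a square zero ideal. -/
theorem exists_infData {V W : Over S} [IsAffine V.left] (t : W ⟶ V) [IsClosedImmersion t.left]
    (hk : t.left.ker * t.left.ker = ⊥) :
    ∃ (A : Type u) (_ : CommRing A) (I : Ideal A) (str : Spec (CommRingCat.of A) ⟶ S)
      (eV : Over.mk str ≅ V) (eW : Over.mk (Spec.map (CommRingCat.ofHom (Ideal.Quotient.mk I)) ≫ str) ≅ W),
      I ^ 2 = ⊥ ∧ eW.hom ≫ t =
        (Over.homMk (Spec.map (CommRingCat.ofHom (Ideal.Quotient.mk I))) rfl :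
          Over.mk (Spec.map (CommRingCat.ofHom (Ideal.Quotient.mk I)) ≫ str) ⟶ Over.mk str) ≫ eV.hom := by
  haveI : IsAffine W.left := isAffine_of_isAffineHom t.left
  let φ := t.left.appTop
  have hs : Function.Surjective φ.hom := t.left.app_surjective ⊤ (isAffineOpen_top V.left)
  let I := RingHom.ker φ.hom
  let e := RingHom.quotientKerEquivOfSurjective hs
  have hI : I ^ 2 = ⊥ := by
    rw [show I = t.left.ker.ideal ⟨⊤, isAffineOpen_top V.left⟩ from (Scheme.Hom.ker_apply t.left ⟨⊤, _⟩).symm, pow_two]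
    exact (congrArg (fun J : V.left.IdealSheafData => J.ideal ⟨⊤, isAffineOpen_top V.left⟩) hk).trans (by simp)
  let str : Spec (CommRingCat.of Γ(V.left, ⊤)) ⟶ S := V.left.isoSpec.inv ≫ V.hom
  haveI : IsIso (CommRingCat.ofHom e.symm.toRingHom) := e.symm.toCommRingCatIso.isIso_hom
  have hq : Spec.map (CommRingCat.ofHom (Ideal.Quotient.mk I)) ≫ V.left.isoSpec.inv =
      Spec.map (CommRingCat.ofHom e.symm.toRingHom) ≫ W.left.isoSpec.inv ≫ t.left := by
    rw [← Scheme.isoSpec_inv_naturality, ← Spec.map_comp_assoc]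
    congr 2
    ext x
    show Ideal.Quotient.mk I x = e.symm (φ.hom x)
    rw [RingEquiv.eq_symm_apply]
    rfl
  have hw : (Spec.map (CommRingCat.ofHom e.symm.toRingHom) ≫ W.left.isoSpec.inv) ≫ W.hom =
      Spec.map (CommRingCat.ofHom (Ideal.Quotient.mk I)) ≫ str := by
    show _ = Spec.map (CommRingCat.ofHom (Ideal.Quotient.mk I)) ≫ V.left.isoSpec.inv ≫ V.hom
    rw [reassoc_of% hq, Over.w t, Category.assoc]
  refine ⟨Γ(V.left, ⊤), inferInstance, I, str, Over.isoMk V.left.isoSpec.symm rfl,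
    Over.isoMk (asIso (Spec.map (CommRingCat.ofHom e.symm.toRingHom) ≫ W.left.isoSpec.inv)) hw, hI,
    Over.OverMorphism.ext ?_⟩
  show (Spec.map _ ≫ W.left.isoSpec.inv) ≫ t.left = Spec.map _ ≫ V.left.isoSpec.inv
  rw [hq, Category.assoc]

theorem thick_uniq {f : X ⟶ Y} (hf : IsFormallyUnramifiedMor f) {V W : Over S} [IsAffine V.left] (t : W ⟶ V)
    [IsClosedImmersion t.left] (hk : t.left.ker * t.left.ker = ⊥) (l l' : (yon S).obj V ⟶ X)
    (h : (yon S).map t ≫ l = (yon S).map t ≫ l') (h' : l ≫ f = l' ≫ f) : l = l' := by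
  obtain ⟨A, _, I, str, eV, eW, hI, he⟩ := exists_infData t hk
  let j : Over.mk (Spec.map (CommRingCat.ofHom (Ideal.Quotient.mk I)) ≫ str) ⟶ Over.mk str :=
    Over.homMk (Spec.map (CommRingCat.ofHom (Ideal.Quotient.mk I))) rfl
  have key : ∀ m : (yon S).obj V ⟶ X, (yon S).map eW.hom ≫ (yon S).map t ≫ m = (yon S).map j ≫ (yon S).map eV.hom ≫ m :=
    fun m => (Category.assoc _ _ _).symm.trans ((congrArg (· ≫ m) (((yon S).map_comp _ _).symm.trans
      ((congrArg (yon S).map he).trans ((yon S).map_comp _ _)))).trans (Category.assoc _ _ _))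
  let sq : InfSq f :=
    { A := A, I := I, sq_zero := hI, str := str, top := (yon S).map eW.hom ≫ (yon S).map t ≫ l,
      bot := ((yon S).map eV.hom ≫ l) ≫ f,
      comm := (congrArg (· ≫ f) (key l)).trans (Category.assoc _ _ _) }
  exact (cancel_epi ((yon S).map eV.hom)).1 (hf sq _ _ (key l).symm rfl
    ((key l').symm.trans (congrArg (_ ≫ ·) h.symm))
    ((Category.assoc _ _ _).trans ((congrArg (_ ≫ ·) h'.symm).trans (Category.assoc _ _ _).symm)))

theorem thick_lift {f : X ⟶ Y} (hf : IsFormallySmoothMor f) {V W : Over S} [IsAffine V.left] (t : W ⟶ V)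
    [IsClosedImmersion t.left] (hk : t.left.ker * t.left.ker = ⊥) (a : (yon S).obj W ⟶ X) (b : (yon S).obj V ⟶ Y)
    (w : a ≫ f = (yon S).map t ≫ b) : ∃ l : (yon S).obj V ⟶ X, (yon S).map t ≫ l = a ∧ l ≫ f = b := by
  obtain ⟨A, _, I, str, eV, eW, hI, he⟩ := exists_infData t hk
  let j : Over.mk (Spec.map (CommRingCat.ofHom (Ideal.Quotient.mk I)) ≫ str) ⟶ Over.mk str :=
    Over.homMk (Spec.map (CommRingCat.ofHom (Ideal.Quotient.mk I))) rfl
  have e2 : (yon S).map eW.hom ≫ (yon S).map t = (yon S).map j ≫ (yon S).map eV.hom :=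
    ((yon S).map_comp _ _).symm.trans ((congrArg (yon S).map he).trans ((yon S).map_comp _ _))
  let sq : InfSq f :=
    { A := A, I := I, sq_zero := hI, str := str, top := (yon S).map eW.hom ≫ a,
      bot := (yon S).map eV.hom ≫ b,
      comm := (Category.assoc _ _ _).trans ((congrArg (_ ≫ ·) w).trans ((Category.assoc _ _ _).symm.trans
        ((congrArg (· ≫ b) e2).trans (Category.assoc _ _ _)))) }
  obtain ⟨l, hl₁, hl₂⟩ := hf sq
  have hl₁' : (yon S).map j ≫ l = (yon S).map eW.hom ≫ a := hl₁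
  refine ⟨inv ((yon S).map eV.hom) ≫ l, (cancel_epi ((yon S).map eW.hom)).1 ?_, ?_⟩
  · refine (Category.assoc _ _ _).symm.trans ((congrArg (· ≫ inv ((yon S).map eV.hom) ≫ l) e2).trans ?_)
    exact ((Category.assoc _ _ _).trans (congrArg (_ ≫ ·) (IsIso.hom_inv_id_assoc _ _))).trans hl₁'
  · exact (Category.assoc _ _ _).trans ((congrArg (_ ≫ ·) hl₂).trans (IsIso.inv_hom_id_assoc _ _))

variable {T T' : Sp S}

theorem thick_chart {j : T ⟶ T'} (hj : IsFOThickMor j) {V W : Over S} (hV : IsAffine V.left)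
    {b : (yon S).obj V ⟶ T'} (hb : RepWith @Etale b) {fst : (yon S).obj W ⟶ T} {t : W ⟶ V}
    (sq : IsPullback fst ((yon S).map t) j b) : IsClosedImmersion t.left ∧ t.left.ker * t.left.ker = ⊥ := by
  obtain ⟨h1, -⟩ := hj.1.2 b fst t sq
  exact ⟨h1, hj.2 b fst t hV hb sq⟩

theorem space_thick_uniq (hT' : IsAlgSpace T') {f : X ⟶ Y} (hf : IsFormallyUnramifiedMor f) {j : T ⟶ T'}
    (hj : IsFOThickMor j) (l l' : T' ⟶ X) (h : j ≫ l = j ≫ l') (h' : l ≫ f = l' ≫ f) : l = l' := by
  obtain ⟨V, c, hce, hcs⟩ := hT'.atlas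
  haveI := effectiveEpi_of_etale hce hcs
  refine (cancel_epi c).1 (hom_ext_of_cover_affine fun O i hO hi => ?_)
  haveI := hi
  have he : RepWith @Etale ((yon S).map i ≫ c) :=
    repWith_comp ((repWith_yon_map_iff _ _).2 (inferInstance : Etale i.left)) hce
  obtain ⟨W, fst, t, sq⟩ := exists_sq hj.1.rep ((yon S).map i ≫ c)
  obtain ⟨_, hk⟩ := thick_chart hj hO he sq
  haveI := hO
  rw [← Category.assoc, ← Category.assoc]
  refine thick_uniq hf t hk _ _ ?_ ?_
  · rw [← Category.assoc ((yon S).map t), ← sq.w, Category.assoc, h, ← Category.assoc, sq.w, Category.assoc]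
  · simp only [Category.assoc, h']

theorem space_thick_lift (hT : IsAlgSpace T) (hT' : IsAlgSpace T') {f : X ⟶ Y} (hf : IsFormallyEtaleMor f)
    {j : T ⟶ T'} (hj : IsFOThickMor j) (a : T ⟶ X) (b : T' ⟶ Y) (w : a ≫ f = j ≫ b) :
    ∃! l : T' ⟶ X, j ≫ l = a ∧ l ≫ f = b := by
  have hu := unramified_of_etaleMor hf
  suffices hex : ∃ l : T' ⟶ X, j ≫ l = a ∧ l ≫ f = b by
    obtain ⟨l, h₁, h₂⟩ := hex
    exact ⟨l, ⟨h₁, h₂⟩, fun y hy => space_thick_uniq hT' hu hj y l (hy.1.trans h₁.symm) (hy.2.trans h₂.symm)⟩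
  obtain ⟨V, c, hce, hcs⟩ := hT'.atlas
  let O : V.left.affineOpens → Over S := fun k => Over.mk (k.1.ι ≫ V.hom)
  let i : ∀ k, O k ⟶ V := fun k => Over.homMk k.1.ι rfl
  haveI : ∀ k, IsOpenImmersion (i k).left := fun k => inferInstanceAs (IsOpenImmersion k.1.ι)
  haveI : ∀ k, IsAffine (O k).left := fun k => k.2
  have hcov : ∀ v : ↥V.left, ∃ k, v ∈ Set.range (i k).left := fun v => by
    obtain ⟨U, hU, hvU, -⟩ := exists_isAffineOpen_mem_and_subset (X := V.left) (x := v) (U := ⊤) trivial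
    exact ⟨⟨U, hU⟩, ⟨v, hvU⟩, rfl⟩
  have het : ∀ {Z : Over S} (z : Z ⟶ V), IsOpenImmersion z.left → RepWith @Etale ((yon S).map z ≫ c) :=
    fun z hz => by haveI := hz; exact repWith_comp ((repWith_yon_map_iff _ _).2 (inferInstance : Etale z.left)) hce
  choose W fst t sq using fun k => exists_sq hj.1.rep ((yon S).map (i k) ≫ c)
  have hch : ∀ k, IsClosedImmersion (t k).left ∧ (t k).left.ker * (t k).left.ker = ⊥ :=
    fun k => thick_chart hj (show IsAffine (O k).left from k.2) (het _ inferInstance) (sq k)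
  have hlift : ∀ k, ∃ m : (yon S).obj (O k) ⟶ X,
      (yon S).map (t k) ≫ m = fst k ≫ a ∧ m ≫ f = ((yon S).map (i k) ≫ c) ≫ b := fun k => by
    haveI := (hch k).1
    refine thick_lift (fun sq => (hf sq).exists) (t k) (hch k).2 _ _ ?_
    rw [Category.assoc, w, ← Category.assoc, (sq k).w, Category.assoc]
  choose m hm₁ hm₂ using hlift
  obtain ⟨M, hM⟩ := exists_glue i hcov m (by
    intro k k' Z x y hxy
    suffices hP : (yon S).map (pullback.fst (i k) (i k')) ≫ m k = (yon S).map (pullback.snd (i k) (i k')) ≫ m k' by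
      rw [← pullback.lift_fst x y hxy, Functor.map_comp, Category.assoc, hP, ← Category.assoc, ← Functor.map_comp,
        pullback.lift_snd]
    refine hom_ext_of_cover_affine fun Q q hQ hq => ?_
    let x' := q ≫ pullback.fst (i k) (i k')
    let y' := q ≫ pullback.snd (i k) (i k')
    have e : x' ≫ i k = y' ≫ i k' := by simp only [x', y', Category.assoc, pullback.condition]
    rw [← Category.assoc, ← Category.assoc, ← Functor.map_comp, ← Functor.map_comp]
    haveI : IsOpenImmersion (x' ≫ i k).left := by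
      have sqP := (IsPullback.of_hasPullback (i k) (i k')).map (Over.forget S)
      haveI : IsOpenImmersion (pullback.fst (i k) (i k')).left :=
        MorphismProperty.of_isPullback (P := @IsOpenImmersion) sqP.flip (inferInstanceAs (IsOpenImmersion (i k').left))
      show IsOpenImmersion ((q.left ≫ (pullback.fst (i k) (i k')).left) ≫ (i k).left)
      haveI := hq
      infer_instance
    have he := het (x' ≫ i k) inferInstance
    obtain ⟨W₀, f₀, t₀, sq₀⟩ := exists_sq hj.1.rep ((yon S).map (x' ≫ i k) ≫ c)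
    obtain ⟨_, hk₀⟩ := thick_chart hj hQ he sq₀
    haveI := hQ
    have res : ∀ k₁ (z : Q ⟶ O k₁), (yon S).map z ≫ (yon S).map (i k₁) ≫ c = (yon S).map (x' ≫ i k) ≫ c →
        (yon S).map t₀ ≫ (yon S).map z ≫ m k₁ = f₀ ≫ a := by
      intro k₁ z hz
      have hw : f₀ ≫ j = ((yon S).map t₀ ≫ (yon S).map z) ≫ (yon S).map (i k₁) ≫ c := by
        rw [Category.assoc, hz, sq₀.w]
      obtain ⟨z₀, hz₀⟩ := (yon S).map_surjective ((sq k₁).lift _ _ hw)
      rw [← Category.assoc, ← (sq k₁).lift_snd _ _ hw,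
        ← hz₀, Category.assoc, hm₁, ← Category.assoc, hz₀, (sq k₁).lift_fst]
    refine thick_uniq hu t₀ hk₀ _ _ ?_ ?_
    · rw [res k x' (by rw [← Category.assoc, ← Functor.map_comp]),
        res k' y' (by rw [← Category.assoc, ← Functor.map_comp, e])]
    · rw [Category.assoc, Category.assoc, hm₂, hm₂, ← Category.assoc, ← Category.assoc, ← Category.assoc,
        ← Category.assoc, ← Functor.map_comp, ← Functor.map_comp, e])
  have hMf : M ≫ f = c ≫ b := hom_ext_of_cover i hcov fun k => by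
    rw [← Category.assoc, hM, hm₂, Category.assoc]
  obtain ⟨V₀, c₀, t', sqV⟩ := exists_sq hj.1.rep c
  have hM₀ : (yon S).map t' ≫ M = c₀ ≫ a := by
    haveI : ∀ k, IsOpenImmersion (pullback.fst t' (i k)).left := fun k =>
      MorphismProperty.of_isPullback (P := @IsOpenImmersion)
        ((IsPullback.of_hasPullback t' (i k)).map (Over.forget S)).flip (inferInstanceAs (IsOpenImmersion (i k).left))
    refine hom_ext_of_cover (fun k => pullback.fst t' (i k)) (fun v => ?_) fun k => ?_
    · obtain ⟨k, z, hz⟩ := hcov (t'.left v)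
      let sqk := (IsPullback.of_hasPullback t' (i k)).map (Over.forget S)
      obtain ⟨u, hu, -⟩ := Scheme.Pullback.exists_preimage_pullback (f := t'.left) (g := (i k).left) v z hz.symm
      refine ⟨k, sqk.isoPullback.inv u, ?_⟩
      have e : sqk.isoPullback.inv ≫ (pullback.fst t' (i k)).left = pullback.fst t'.left (i k).left :=
        sqk.isoPullback_inv_fst
      refine ((Scheme.Hom.comp_apply sqk.isoPullback.inv (pullback.fst t' (i k)).left u).symm.trans ?_)
      exact (congrArg (fun q : pullback t'.left (i k).left ⟶ V₀.left => q u) e).trans hu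
    · have e := (yon S).map_comp (pullback.fst t' (i k)) t'
      rw [← Category.assoc, ← e, pullback.condition, Functor.map_comp, Category.assoc, hM]
      have hw : ((yon S).map (pullback.fst t' (i k)) ≫ c₀) ≫ j =
          (yon S).map (pullback.snd t' (i k)) ≫ (yon S).map (i k) ≫ c := by
        rw [Category.assoc, sqV.w, ← Category.assoc, ← Functor.map_comp, pullback.condition, Functor.map_comp,
          Category.assoc]
      obtain ⟨z₀, hz₀⟩ := (yon S).map_surjective ((sq k).lift _ _ hw)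
      rw [← (sq k).lift_snd _ _ hw, ← hz₀, Category.assoc, hm₁, ← Category.assoc, hz₀, (sq k).lift_fst, Category.assoc]
  obtain ⟨l, hl⟩ := exists_desc_of_cover hce hcs M fun R x y hR hxy hxe => by
    obtain ⟨R₀, f₀, t₀, sq₀⟩ := exists_sq hj.1.rep ((yon S).map x ≫ c)
    obtain ⟨_, hk₀⟩ := thick_chart hj hR hxe sq₀
    haveI := hR
    have res : ∀ z : R ⟶ V, (yon S).map z ≫ c = (yon S).map x ≫ c → (yon S).map t₀ ≫ (yon S).map z ≫ M = f₀ ≫ a := by
      intro z hz
      have hw : f₀ ≫ j = ((yon S).map t₀ ≫ (yon S).map z) ≫ c := by rw [Category.assoc, hz, sq₀.w]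
      obtain ⟨z₀, hz₀⟩ := (yon S).map_surjective (sqV.lift _ _ hw)
      rw [← Category.assoc, ← sqV.lift_snd _ _ hw, ← hz₀, Category.assoc, hM₀, ← Category.assoc, hz₀, sqV.lift_fst]
    refine thick_uniq hu t₀ hk₀ _ _ ((res x rfl).trans (res y hxy.symm).symm) ?_
    rw [Category.assoc, Category.assoc, hMf, ← Category.assoc, ← Category.assoc, hxy]
  haveI := effectiveEpi_of_etale hce hcs
  haveI := effectiveEpi_of_etale (repWith_baseChange sqV.flip hce) (repWith_baseChange sqV.flip hcs)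
  refine ⟨l, (cancel_epi c₀).1 ?_, (cancel_epi c).1 ?_⟩
  · rw [reassoc_of% sqV.w, hl, hM₀]
  · rw [← Category.assoc, hl, hMf]

theorem fsmooth_chart {U V : Sp S} (hU : IsAlgSpace U) (hV : IsAlgSpace V) (hX : IsAlgSpace X) (hY : IsAlgSpace Y)
    {f : X ⟶ Y} (hf : IsFormallySmoothMor f) {p : U ⟶ X} {q : V ⟶ Y} (hp : IsEtaleMor p) (hq : IsEtaleMor q)
    {ψ : U ⟶ V} (w : ψ ≫ q = p ≫ f) : IsFormallySmoothMor ψ := by
  refine (Groth.Agent.S10618.result ψ q (unramified_of_etaleMor (fe_of_isEtaleMor hV hY hq))).2.2 ?_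
  rw [w]
  exact (Groth.Agent.S10619.result p f).1 (fun sq => (fe_of_isEtaleMor hU hX hp sq).exists) hf

end Groth.Agent.ASp
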