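import Groth.Agent.Lib.AlgSpTop
import Mathlib.AlgebraicGeometry.Morphisms.LocalFlatDescent

/-! Monomorphisms, isomorphisms and open immersions descend along fpqc coverings. -/

set_option backward.isDefEq.respectTransparency.types false

universe u v

open CategoryTheory CategoryTheory.Limits AlgebraicGeometry Opposite Topology

noncomputable section

namespace Groth.Agent.ASp

open _root_.AlgSp

variable {S : Scheme.{u}} {F G H X Y : Sp S}

/-- Descent along a standard fpqc covering of an affine scheme, one member at a time. -/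
theorem descend_std {P : MorphismProperty Scheme.{u}} [P.IsStableUnderBaseChange]
    [IsZariskiLocalAtTarget P] [P.DescendsAlong (@Surjective ⊓ @Flat ⊓ @QuasiCompact)]
    {E T : Scheme.{u}} [IsAffine T] (e : E ⟶ T) {m : ℕ} {W : Fin m → Scheme.{u}} (c : ∀ j, W j ⟶ T)
    (hW : ∀ j, IsAffine (W j)) (hflat : ∀ j, Flat (c j)) (hcov : ∀ t : T, ∃ j, t ∈ Set.range (c j))
    (h : ∀ j, P (pullback.snd e (c j))) : P e := by
  let d : (∐ W) ⟶ T := Sigma.desc c
  have hd : Flat d := (IsZariskiLocalAtSource.iff_of_openCover (P := @Flat) (sigmaOpenCover _)).2 fun j => by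
    change Flat (Sigma.ι W j ≫ d)
    rw [show Sigma.ι W j ≫ d = c j from Sigma.ι_desc c j]
    exact hflat j
  have : Surjective d := ⟨fun t => by
    obtain ⟨j, w, hw⟩ := hcov t
    exact ⟨Sigma.ι W j w, by rw [← Scheme.Hom.comp_apply, show Sigma.ι W j ≫ d = c j from Sigma.ι_desc c j, hw]⟩⟩
  have : QuasiCompact d := (quasiCompact_iff_compactSpace d).2 inferInstance
  refine MorphismProperty.of_pullback_snd_of_descendsAlong
    (Q := @Surjective ⊓ @Flat ⊓ @QuasiCompact) (g := d) ⟨⟨inferInstance, hd⟩, inferInstance⟩ ?_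
  refine IsZariskiLocalAtTarget.of_openCover (sigmaOpenCover _) fun j => ?_
  have hj : Sigma.ι W j ≫ d = c j := Sigma.ι_desc c j
  have sq := (IsPullback.of_hasPullback (pullback.snd e d) (Sigma.ι W j)).paste_horiz
    (IsPullback.of_hasPullback e d)
  rw [hj] at sq
  change P (pullback.snd (pullback.snd e d) (Sigma.ι W j))
  rw [← sq.isoIsPullback_hom_snd _ _ (IsPullback.of_hasPullback e (c j))]
  exact (P.cancel_left_of_respectsIso _ _).2 (h j)

/-- Descent along refinements of the pieces of an open affine cover. -/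
theorem descend_refines {P : MorphismProperty Scheme.{u}} [P.IsStableUnderBaseChange]
    [IsZariskiLocalAtTarget P] [P.DescendsAlong (@Surjective ⊓ @Flat ⊓ @QuasiCompact)]
    {ι : Type v} {Yi : ι → Sp S} {g : ∀ i, Yi i ⟶ G} (hg : Refines Yi g) {E T : Over S} (e : E ⟶ T)
    (b : (yon S).obj T ⟶ G)
    (h : ∀ (W : Over S) (d : W ⟶ T) (i : ι) (l : (yon S).obj W ⟶ Yi i), IsAffine W.left →
      l ≫ g i = (yon S).map d ≫ b → P (pullback.snd e d).left) : P e.left := by
  refine IsZariskiLocalAtTarget.of_openCover T.left.affineCover fun k => ?_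
  let t : Over.mk (T.left.affineCover.f k ≫ T.hom) ⟶ T := Over.homMk (T.left.affineCover.f k)
  have ht : IsAffine (Over.mk (T.left.affineCover.f k ≫ T.hom)).left :=
    inferInstanceAs (IsAffine (T.left.affineCover.X k))
  obtain ⟨m, W, c, hW, hflat, hcov, hl⟩ := hg _ ht ((yon S).map t ≫ b)
  choose i l hl using hl
  change P (pullback.snd e.left (T.left.affineCover.f k))
  refine @descend_std P _ _ _ _ _ ht _ _ _ (fun j => (c j).left) hW hflat hcov fun j => ?_
  have hd : l j ≫ g (i j) = (yon S).map (c j ≫ t) ≫ b := by rw [hl, Functor.map_comp, Category.assoc]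
  have sq := (IsPullback.of_hasPullback (pullback.snd e.left (T.left.affineCover.f k)) (c j).left).paste_horiz
    (IsPullback.of_hasPullback e.left (T.left.affineCover.f k))
  rw [← sq.isoIsPullback_hom_snd _ _
    ((IsPullback.of_hasPullback e (c j ≫ t)).map (Over.forget S))]
  exact (P.cancel_left_of_respectsIso _ _).2 (h _ _ _ (l j) (hW j) hd)

variable {ι : Type v} {Yi Xi : ι → Sp S} {g : ∀ i, Yi i ⟶ Y} {p : ∀ i, Xi i ⟶ Yi i}
  {q : ∀ i, Xi i ⟶ X} {f : X ⟶ Y}

/-- Being a monomorphism descends along refining families. -/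
theorem mono_of_refines (hX : IsAlgSpace X) (hg : Refines Yi g)
    (sq : ∀ i, IsPullback (q i) (p i) f (g i)) (h : ∀ i, Mono (p i)) : Mono f := by
  refine mono_of_forall fun T a a' haa => ?_
  obtain ⟨V, fst, snd, hsq⟩ := exists_sq hX.diag (prod.lift a a')
  have hw₁ := hsq.w.symm =≫ prod.fst
  have hw₂ := hsq.w.symm =≫ prod.snd
  simp only [Limits.diag, Category.assoc, prod.lift_fst, prod.lift_snd, Category.comp_id] at hw₁ hw₂
  have e₁ : (yon S).map snd ≫ a = fst := hw₁
  have e₂ : (yon S).map snd ≫ a' = fst := hw₂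
  have : Mono snd := (yon S).mono_of_mono_map (hsq.mono_snd_of_mono)
  have : IsIso snd.left := by
    refine descend_refines (P := MorphismProperty.isomorphisms Scheme.{u}) hg snd (a ≫ f)
      fun W d i l _ hl => ?_
    have hl' : ((yon S).map d ≫ a) ≫ f = l ≫ g i := by rw [hl, Category.assoc]
    have hl'' : ((yon S).map d ≫ a') ≫ f = l ≫ g i := by rw [hl, Category.assoc, haa]
    have := h i
    have hd : (yon S).map d ≫ a = (yon S).map d ≫ a' := by
      have := (sq i).lift_fst _ _ hl'
      rw [show (sq i).lift _ _ hl' = (sq i).lift _ _ hl'' from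
        (cancel_mono (p i)).1 (by rw [(sq i).lift_snd, (sq i).lift_snd]), (sq i).lift_fst] at this
      exact this.symm
    obtain ⟨σ, hσ⟩ := (yon S).map_surjective (hsq.lift ((yon S).map d ≫ a) ((yon S).map d)
      (by apply prod.hom_ext <;> simp [hd]))
    have hσd : σ ≫ snd = d := (yon S).map_injective (by rw [Functor.map_comp, hσ, hsq.lift_snd])
    have : IsSplitEpi (pullback.snd snd d) :=
      IsSplitEpi.mk' ⟨pullback.lift σ (𝟙 _) (by simp [hσd]), pullback.lift_snd _ _ _⟩
    have : IsIso (pullback.snd snd d) := isIso_of_mono_of_isSplitEpi _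
    change IsIso ((Over.forget S).map (pullback.snd snd d))
    infer_instance
  have : IsIso ((Over.forget S).map snd) := this
  have : IsIso snd := isIso_of_reflects_iso snd (Over.forget S)
  exact (cancel_epi ((yon S).map snd)).1 (e₁.trans e₂.symm)

/-- Being an isomorphism descends along refining families. -/
theorem isIso_of_refines (hX : IsAlgSpace X) (hY : IsAlgSpace Y) (hg : Refines Yi g)
    (sq : ∀ i, IsPullback (q i) (p i) f (g i)) (h : ∀ i, IsIso (p i)) : IsIso f := by
  have : Mono f := mono_of_refines hX hg sq fun i => have := h i; inferInstance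
  refine isIso_of_forall fun T b => ?_
  suffices IsIso (pullback.snd f b) from
    ⟨inv (pullback.snd f b) ≫ pullback.fst f b, by simp [pullback.condition],
      fun a ha => (cancel_mono f).1 (by simp [pullback.condition, ha])⟩
  have : Mono (pullback.snd f b) := inferInstance
  obtain ⟨U, u, hue, hus⟩ := (isAlgSpace_pullback f b hX (IsAlgSpace.yon_obj T) hY).atlas
  obtain ⟨ε, hε⟩ := (yon S).map_surjective (u ≫ pullback.snd f b)
  have key : ∀ (W : Over S) (d : W ⟶ T) (i : ι) (l : (yon S).obj W ⟶ Yi i),
      l ≫ g i = (yon S).map d ≫ b → Etale (pullback.snd ε d).left ∧ Surjective (pullback.snd ε d).left := by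
    intro W d i l hl
    have := h i
    let σ : (yon S).obj W ⟶ pullback f b := pullback.lift (l ≫ inv (p i) ≫ q i) ((yon S).map d) (by
      rw [Category.assoc, Category.assoc, (sq i).w, IsIso.inv_hom_id_assoc, hl])
    have hσ : σ ≫ pullback.snd f b = (yon S).map d := pullback.lift_snd _ _ _
    have big : IsPullback ((yon S).map (pullback.fst ε d)) ((yon S).map (pullback.snd ε d))
        ((yon S).map ε) ((yon S).map d) := (yon S).map_isPullback (IsPullback.of_hasPullback ε d)
    rw [hε, ← hσ] at big
    have hw : (yon S).map (pullback.fst ε d) ≫ u = (yon S).map (pullback.snd ε d) ≫ σ :=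
      (cancel_mono (pullback.snd f b)).1 (by simpa only [Category.assoc] using big.w)
    have small : IsPullback ((yon S).map (pullback.fst ε d)) ((yon S).map (pullback.snd ε d)) u σ :=
      ⟨⟨hw⟩, ⟨PullbackCone.IsLimit.mk hw (fun s => big.lift s.fst s.snd
        (by rw [← Category.assoc, s.condition, Category.assoc])) (fun s => big.lift_fst _ _ _)
        (fun s => big.lift_snd _ _ _) fun s m h₁ h₂ => big.hom_ext
          (by rw [big.lift_fst]; exact h₁) (by rw [big.lift_snd]; exact h₂)⟩⟩
    exact ⟨hue.2 σ _ _ small, hus.2 σ _ _ small⟩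
  have hεe : Etale ε.left := descend_refines (P := @Etale) hg ε b fun W d i l _ hl => (key W d i l hl).1
  have hεs : Surjective ε.left :=
    descend_refines (P := @Surjective) hg ε b fun W d i l _ hl => (key W d i l hl).2
  have : Sheaf.IsLocallySurjective ((yon S).map ε) :=
    isLocallySurjective_of_etale ((repWith_yon_map_iff _ ε).2 hεe) ((repWith_yon_map_iff _ ε).2 hεs)
  have : Epi (u ≫ pullback.snd f b) := hε ▸ inferInstance
  have : Epi (pullback.snd f b) := epi_of_epi u _
  exact isIso_of_mono_of_epi _

/-- Being a representable open immersion descends along refining families. -/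
theorem repWith_isOpenImmersion_of_refines (hX : IsAlgSpace X) (hY : IsAlgSpace Y) (hg : Refines Yi g)
    (sq : ∀ i, IsPullback (q i) (p i) f (g i)) (h : ∀ i, RepWith @IsOpenImmersion (p i)) :
    RepWith @IsOpenImmersion f := by
  have : Mono f := mono_of_refines hX hg sq fun i =>
    mono_of_repWith_immersion (repWith_mono openImmersion_le_immersion (h i))
  refine repWith_of_exists fun U b => ?_
  let B : Set U.left := Points.ofPt b ⁻¹' Set.range (Points.map f)
  have hB : IsOpen B := by
    rw [U.left.affineCover.isOpenCover_opensRange.isOpen_iff_inter]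
    intro k
    let t : Over.mk (U.left.affineCover.f k ≫ U.hom) ⟶ U := Over.homMk (U.left.affineCover.f k)
    have ht : IsAffine (Over.mk (U.left.affineCover.f k ≫ U.hom)).left :=
      inferInstanceAs (IsAffine (U.left.affineCover.X k))
    obtain ⟨m, W, c, hW, hflat, hcov, hl⟩ := hg _ ht ((yon S).map t ≫ b)
    have hopen : IsOpen ((U.left.affineCover.f k) ⁻¹' B) := by
      refine @isOpen_of_std _ (inferInstanceAs (IsAffine (U.left.affineCover.X k))) m
        (fun j => (W j).left) (fun j => (c j).left) hW hflat hcov _ fun j => ?_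
      obtain ⟨i, l, hl⟩ := hl j
      obtain ⟨V, fst', snd', sq', hop⟩ := exists_sq_prop (h i) l
      have : IsOpenImmersion snd'.left := hop
      convert snd'.left.isOpenEmbedding.isOpen_range using 1
      have hP := sq'.paste_horiz (sq i)
      rw [hl] at hP
      ext w
      constructor
      · intro hw
        obtain ⟨x, hx⟩ : Points.ofPt b (t.left ((c j).left w)) ∈ Set.range (Points.map f) := hw
        obtain ⟨v, -, hv⟩ := exists_pt_of_sq hP x w
          (by rw [hx, ofPt_yon_map_comp, ofPt_yon_map_comp])
        exact ⟨v, hv⟩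
      · rintro ⟨v, rfl⟩
        refine ⟨Points.ofPt (fst' ≫ q i) v, ?_⟩
        rw [Points.map_ofPt, hP.w, ofPt_yon_map_comp, ofPt_yon_map_comp, ofPt_yon_map_comp]
        rfl
    have := (U.left.affineCover.f k).isOpenEmbedding.isOpenMap _ hopen
    rwa [Set.image_preimage_eq_inter_range] at this
  let O : U.left.Opens := ⟨B, hB⟩
  let o : Over.mk (O.ι ≫ U.hom) ⟶ U := Over.homMk O.ι
  have ho : RepWith @IsOpenImmersion ((yon S).map o) :=
    (repWith_yon_map_iff _ o).2 (show IsOpenImmersion O.ι from inferInstance)
  have hiso : IsIso (pullback.snd f ((yon S).map o ≫ b)) := by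
    let bO := (yon S).map o ≫ b
    have hfs : IsSurjectiveMor (pullback.snd f bO) := fun z => by
      obtain ⟨w, rfl⟩ := (Points.schemeEquiv _).surjective z
      obtain ⟨x, hx⟩ : Points.ofPt b (O.ι w) ∈ Set.range (Points.map f) := w.2
      obtain ⟨r, -, hr⟩ := exists_of_isPullback (IsPullback.of_hasPullback f bO) x (Points.ofScheme _ w)
        (by rw [hx, ← Points.ofPt_eq_map_ofScheme, ofPt_yon_map_comp]; rfl)
      exact ⟨r, hr⟩
    have sqc : ∀ i, IsPullback (pullback.fst bO (g i)) (pullback.snd bO (g i)) bO (g i) :=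
      fun i => IsPullback.of_hasPullback _ _
    refine isIso_of_refines (Xi := fun i => pullback (pullback.snd f bO) (pullback.fst bO (g i)))
      (p := fun i => pullback.snd _ _) (q := fun i => pullback.fst _ _)
      (isAlgSpace_pullback f bO hX (IsAlgSpace.yon_obj _) hY) (IsAlgSpace.yon_obj _)
      (hg.baseChange bO _ _ sqc) (fun i => IsPullback.of_hasPullback _ _) fun i => ?_
    have big := (IsPullback.of_hasPullback (pullback.snd f bO) (pullback.fst bO (g i))).paste_horiz
      (IsPullback.of_hasPullback f bO)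
    rw [(sqc i).w] at big
    have hp : RepWith @IsOpenImmersion (pullback.snd (pullback.snd f bO) (pullback.fst bO (g i))) :=
      repWith_baseChange (IsPullback.of_right (by rw [(sq i).lift_fst]; exact big)
        ((sq i).lift_snd (pullback.fst _ _ ≫ pullback.fst f bO) (pullback.snd _ _ ≫ pullback.snd bO (g i))
          (by rw [big.w, Category.assoc])) (sq i)) (h i)
    have hs : RepWith @Surjective (pullback.snd (pullback.snd f bO) (pullback.fst bO (g i))) :=
      repWith_surjective_of_surjective_map hp.rep
        (surjective_baseChange (IsPullback.of_hasPullback _ _) hfs)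
    exact isIso_of_repWith_iso (repWith_of_forall hp.rep fun U' V' g' fst' snd' sq' => by
      have : IsOpenImmersion snd'.left := hp.2 g' fst' snd' sq'
      have : Surjective snd'.left := hs.2 g' fst' snd' sq'
      change IsIso snd'.left
      exact (isIso_iff_isOpenImmersion_and_surjective snd'.left).2 ⟨inferInstance, inferInstance⟩)
  have : Mono ((yon S).map o) := mono_of_repWith_immersion (repWith_mono openImmersion_le_immersion ho)
  have hw : (inv (pullback.snd f ((yon S).map o ≫ b)) ≫ pullback.fst f ((yon S).map o ≫ b)) ≫ f =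
      (yon S).map o ≫ b := by simp [pullback.condition]
  refine ⟨_, inv (pullback.snd f ((yon S).map o ≫ b)) ≫ pullback.fst f ((yon S).map o ≫ b), o, ?_,
    show IsOpenImmersion O.ι from inferInstance⟩
  have hfac : ∀ s : PullbackCone f b, ∃ c, c ≫ (yon S).map o = s.snd := fun s => by
    refine exists_factor_of_range ho s.snd ?_
    rintro _ ⟨z, rfl⟩
    obtain ⟨u, hu⟩ := (Points.schemeEquiv U).surjective (Points.map s.snd z)
    have huB : u ∈ B := ⟨Points.map s.fst z, by
      rw [← Points.map_comp, s.condition, Points.map_comp, ← hu, Points.ofPt_eq_map_ofScheme]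
      rfl⟩
    exact ⟨Points.ofScheme (Over.mk (O.ι ≫ U.hom)) (⟨u, huB⟩ : O), by
      rw [← hu]; exact Points.map_yon_map_apply o _⟩
  choose c hc using hfac
  exact ⟨⟨hw⟩, ⟨PullbackCone.IsLimit.mk hw c
    (fun s => (cancel_mono f).1 (by rw [Category.assoc, hw, reassoc_of% (hc s), s.condition]))
    hc fun s m _ h₂ => (cancel_mono ((yon S).map o)).1 (h₂.trans (hc s).symm)⟩⟩

end Groth.Agent.ASp
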