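import Groth.Agent.Lib.AlgSpGpdDiag
/-! Elementary algebra of groupoids in sheaves. -/

set_option autoImplicit false
set_option linter.style.haveILetI false
set_option linter.unusedVariables false
set_option backward.isDefEq.respectTransparency.types false

universe u

open CategoryTheory CategoryTheory.Limits AlgebraicGeometry Opposite Topology

noncomputable section

namespace Groth.Agent.ASp

open _root_.AlgSp

variable {S : Scheme.{u}} {B : Sp S} (G : GroupoidSp B)

theorem gmul_s {T : Sp S} (α β : T ⟶ G.R) (h : α ≫ G.s = β ≫ G.t) : gmul G α β h ≫ G.s = β ≫ G.s :=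
  G.comp_s α β h

theorem gmul_assoc {T : Sp S} (α β γ : T ⟶ G.R) (h₁ : α ≫ G.s = β ≫ G.t) (h₂ : β ≫ G.s = γ ≫ G.t) :
    gmul G (gmul G α β h₁) γ ((gmul_s G α β h₁).trans h₂) =
      gmul G α (gmul G β γ h₂) (h₁.trans (gmul_t G β γ h₂).symm) :=
  G.assoc α β γ h₁ h₂

theorem gmul_inv_right {T : Sp S} (γ β : T ⟶ G.R) (h : γ ≫ G.s = β ≫ G.t) :
    gmul G (gmul G γ β h) (β ≫ G.i) (by rw [gmul_s, Category.assoc, G.i_t]) = γ := by
  rw [gmul_assoc G γ β (β ≫ G.i) h (by rw [Category.assoc, G.i_t])]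
  refine (gmul_congr G rfl ?_ _).trans (G.comp_e γ)
  exact (G.comp_i β).trans (by rw [← Category.assoc, ← h, Category.assoc])

theorem gmul_inv_mid {T : Sp S} (γ β : T ⟶ G.R) (h : γ ≫ G.s = β ≫ G.s) :
    gmul G (gmul G γ (β ≫ G.i) (by rw [h, Category.assoc, G.i_t])) β (by rw [gmul_s, Category.assoc, G.i_s]) = γ := by
  rw [gmul_assoc G γ (β ≫ G.i) β (by rw [h, Category.assoc, G.i_t]) (by rw [Category.assoc, G.i_s])]
  refine (gmul_congr G rfl ?_ _).trans (G.comp_e γ)
  exact (G.i_comp β).trans (by rw [← Category.assoc, ← h, Category.assoc])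

theorem gmul_cancel_left {T : Sp S} (α γ : T ⟶ G.R) (h : α ≫ G.s = γ ≫ G.t) :
    gmul G (α ≫ G.i) (gmul G α γ h) (by rw [gmul_t, Category.assoc, G.i_s]) = γ := by
  rw [← gmul_assoc G (α ≫ G.i) α γ (by rw [Category.assoc, G.i_s]) h]
  refine (gmul_congr G (G.i_comp α) rfl _).trans ?_
  exact (gmul_congr G (by rw [← Category.assoc, h, Category.assoc]) rfl _).trans (G.e_comp γ)

theorem gmul_cancel_left' {T : Sp S} (α γ : T ⟶ G.R) (h : α ≫ G.t = γ ≫ G.t) :
    gmul G α (gmul G (α ≫ G.i) γ (by rw [Category.assoc, G.i_s, h]))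
      (by rw [gmul_t, Category.assoc, G.i_t]) = γ := by
  rw [← gmul_assoc G α (α ≫ G.i) γ (by rw [Category.assoc, G.i_t]) (by rw [Category.assoc, G.i_s, h])]
  refine (gmul_congr G (G.comp_i α) rfl _).trans ?_
  exact (gmul_congr G (by rw [← Category.assoc, h, Category.assoc]) rfl _).trans (G.e_comp γ)

theorem comp_c {T : Sp S} (g : T ⟶ pullback G.s G.t) :
    g ≫ G.c = gmul G (g ≫ pullback.fst G.s G.t) (g ≫ pullback.snd G.s G.t)
      (by rw [Category.assoc, Category.assoc, pullback.condition]) := by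
  rw [gmul]
  congr 1
  apply pullback.hom_ext
  · rw [pullback.lift_fst]
  · rw [pullback.lift_snd]

theorem isPullback_c : IsPullback G.c (pullback.snd G.s G.t) G.s G.s := by
  refine IsPullback.of_isLimit' ⟨?_⟩ (PullbackCone.IsLimit.mk _ (fun x => pullback.lift
    (gmul G x.fst (x.snd ≫ G.i) (by rw [Category.assoc, G.i_t]; exact x.condition)) x.snd
    (by rw [gmul_s, Category.assoc, G.i_s])) (fun x => ?_) (fun x => pullback.lift_snd _ _ _)
    (fun x m h₁ h₂ => ?_))
  · have := comp_c G (𝟙 _)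
    rw [Category.id_comp] at this
    rw [this, gmul_s, Category.id_comp]
  · rw [comp_c]
    exact (gmul_congr G (pullback.lift_fst _ _ _) (pullback.lift_snd _ _ _) _).trans
      (gmul_inv_mid G x.fst x.snd x.condition)
  · apply pullback.hom_ext
    · rw [pullback.lift_fst]
      rw [comp_c] at h₁
      exact (gmul_inv_right G _ _ _).symm.trans (gmul_congr G h₁ (congrArg (· ≫ G.i) h₂) _)
    · rw [pullback.lift_snd, h₂]

theorem isIso_shear (φ : pullback G.t G.t ⟶ pullback G.s G.t)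
    (h₁ : φ ≫ pullback.fst G.s G.t = pullback.fst G.t G.t)
    (h₂ : φ ≫ pullback.snd G.s G.t = gmul G (pullback.fst G.t G.t ≫ G.i) (pullback.snd G.t G.t)
      (by rw [Category.assoc, G.i_s, pullback.condition])) :
    IsIso φ ∧ φ ≫ G.c = pullback.snd G.t G.t := by
  have hc : φ ≫ G.c = pullback.snd G.t G.t := by
    rw [comp_c]
    exact (gmul_congr G h₁ h₂ _).trans (gmul_cancel_left' G _ _ pullback.condition)
  refine ⟨⟨⟨pullback.lift (pullback.fst G.s G.t) G.c (by
    have := comp_c G (𝟙 _)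
    rw [Category.id_comp] at this
    rw [this, gmul_t, Category.id_comp]), ?_, ?_⟩⟩, hc⟩
  · apply pullback.hom_ext
    · rw [Category.assoc, pullback.lift_fst, h₁, Category.id_comp]
    · rw [Category.assoc, pullback.lift_snd, hc, Category.id_comp]
  · apply pullback.hom_ext
    · rw [Category.assoc, h₁, pullback.lift_fst, Category.id_comp]
    · rw [Category.assoc, h₂, comp_gmul]
      refine Eq.trans ?_ (Category.id_comp (pullback.snd G.s G.t)).symm
      have hc' : G.c = gmul G (pullback.fst G.s G.t) (pullback.snd G.s G.t) pullback.condition := by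
        have := comp_c G (𝟙 _)
        simp only [Category.id_comp] at this
        exact this
      exact (gmul_congr G (by rw [← Category.assoc, pullback.lift_fst])
        ((pullback.lift_snd _ _ _).trans hc') _).trans (gmul_cancel_left G _ _ _)

theorem translation_iso (a : G.U ⟶ G.R) (ha : a ≫ G.s = 𝟙 G.U) [IsIso (a ≫ G.t)]
    (hc : (G.t ≫ a) ≫ G.s = 𝟙 G.R ≫ G.t) :
    IsIso (gmul G (G.t ≫ a) (𝟙 G.R) hc) ∧ G.e ≫ gmul G (G.t ≫ a) (𝟙 G.R) hc = a := by
  let b : G.R ⟶ G.R := G.t ≫ inv (a ≫ G.t) ≫ a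
  have hb : b ≫ G.t = G.t := by simp [b]
  have hM : (b ≫ G.i) ≫ G.s = 𝟙 G.R ≫ G.t := by rw [Category.assoc, G.i_s, hb, Category.id_comp]
  refine ⟨⟨gmul G (b ≫ G.i) (𝟙 _) hM, ?_, ?_⟩, ?_⟩
  · rw [comp_gmul]
    have hx : gmul G (G.t ≫ a) (𝟙 G.R) hc ≫ b = G.t ≫ a := by
      simp only [b, ← Category.assoc]
      rw [gmul_t G, Category.assoc G.t a G.t, Category.assoc G.t (a ≫ G.t), IsIso.hom_inv_id, Category.comp_id]
    exact (gmul_congr G (by rw [← Category.assoc, hx]) (Category.comp_id _) _).trans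
      (gmul_cancel_left G (G.t ≫ a) (𝟙 _) hc)
  · rw [comp_gmul]
    have hx : gmul G (b ≫ G.i) (𝟙 _) hM ≫ G.t ≫ a = b := by
      rw [← Category.assoc, gmul_t, Category.assoc b G.i G.t, G.i_t]
      simp [b, reassoc_of% ha]
    refine (gmul_congr G hx (Category.comp_id _) _).trans ?_
    exact gmul_cancel_left' G b (𝟙 _) (by rw [hb, Category.id_comp])
  · rw [comp_gmul]
    refine (gmul_congr G (by rw [← Category.assoc, G.e_t, Category.id_comp]) (Category.comp_id _) _).trans ?_
    refine Eq.trans ?_ (G.comp_e a)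
    exact gmul_congr G rfl (by rw [← Category.assoc, ha, Category.id_comp]) _

/-- Fibres of `s` over the sources of two arrows with the same target agree. -/
theorem fibres_iso {T : Sp S} (r r' : T ⟶ G.R) (h : r ≫ G.t = r' ≫ G.t) :
    Nonempty (Over.mk (pullback.fst (r ≫ G.s) G.s) ≅ Over.mk (pullback.fst (r' ≫ G.s) G.s)) := by
  let γ : T ⟶ G.R := gmul G (r' ≫ G.i) r (by rw [Category.assoc, G.i_s, h])
  have γs : γ ≫ G.s = r ≫ G.s := gmul_s G _ _ _
  have γt : γ ≫ G.t = r' ≫ G.s := by rw [gmul_t, Category.assoc, G.i_t]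
  let P := pullback (r ≫ G.s) G.s
  let P' := pullback (r' ≫ G.s) G.s
  have m₁ : pullback.snd (r ≫ G.s) G.s ≫ G.s = ((pullback.fst (r ≫ G.s) G.s ≫ γ) ≫ G.i) ≫ G.t := by
    simp only [Category.assoc, G.i_t, γs]; exact pullback.condition.symm
  have m₂ : pullback.snd (r' ≫ G.s) G.s ≫ G.s = (pullback.fst (r' ≫ G.s) G.s ≫ γ) ≫ G.t := by
    simp only [Category.assoc, γt]; exact pullback.condition.symm
  let φ : P ⟶ P' := pullback.lift (pullback.fst _ _) (gmul G _ _ m₁) (by
    rw [gmul_s, Category.assoc, G.i_s, Category.assoc, γt])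
  let ψ : P' ⟶ P := pullback.lift (pullback.fst _ _) (gmul G _ _ m₂) (by rw [gmul_s, Category.assoc, γs])
  have f1 : φ ≫ pullback.fst _ _ = pullback.fst _ _ := pullback.lift_fst _ _ _
  have f2 : φ ≫ pullback.snd _ _ = gmul G _ _ m₁ := pullback.lift_snd _ _ _
  have g1 : ψ ≫ pullback.fst _ _ = pullback.fst _ _ := pullback.lift_fst _ _ _
  have g2 : ψ ≫ pullback.snd _ _ = gmul G _ _ m₂ := pullback.lift_snd _ _ _
  refine ⟨Over.isoMk ⟨φ, ψ, ?_, ?_⟩ f1⟩
  · apply pullback.hom_ext
    · rw [Category.assoc, g1, f1, Category.id_comp]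
    · rw [Category.assoc, g2, comp_gmul, Category.id_comp]
      exact (gmul_congr G f2 (by rw [← Category.assoc, f1]) _).trans
        (gmul_inv_mid G _ _ (by rw [Category.assoc, γs]; exact pullback.condition.symm))
  · apply pullback.hom_ext
    · rw [Category.assoc, f1, g1, Category.id_comp]
    · rw [Category.assoc, f2, comp_gmul, Category.id_comp]
      exact (gmul_congr G g2 (by rw [← Category.assoc, ← Category.assoc, g1]) _).trans (gmul_inv_right G _ _ m₂)

/-- Composition on points. -/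
theorem exists_comp_point (α β : Points G.R) (h : Points.map G.s α = Points.map G.t β) :
    ∃ γ : Points G.R, Points.map G.t γ = Points.map G.t α ∧ Points.map G.s γ = Points.map G.s β := by
  obtain ⟨p, hp₁, hp₂⟩ := exists_of_isPullback (IsPullback.of_hasPullback G.s G.t) α β h
  have hc : G.c = gmul G (pullback.fst G.s G.t) (pullback.snd G.s G.t) pullback.condition := by
    have := comp_c G (𝟙 _)
    simp only [Category.id_comp] at this
    exact this
  refine ⟨Points.map G.c p, ?_, ?_⟩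
  · rw [← Points.map_comp, show G.c ≫ G.t = pullback.fst G.s G.t ≫ G.t by rw [hc, gmul_t], Points.map_comp, hp₁]
  · rw [← Points.map_comp, show G.c ≫ G.s = pullback.snd G.s G.t ≫ G.s by rw [hc, gmul_s], Points.map_comp, hp₂]

theorem isInvariant_of_range {W W' : Sp S} {w : W ⟶ G.U} {w' : W' ⟶ G.U} (hw' : RepWith @IsOpenImmersion w')
    (himg : Set.range (Points.map w') = Points.map G.s '' (Points.map G.t ⁻¹' Set.range (Points.map w))) :
    G.IsInvariant w' := by
  have key : ∀ y : Points G.R,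
      Points.map G.t y ∈ Set.range (Points.map w') ↔ Points.map G.s y ∈ Set.range (Points.map w') := by
    intro y
    rw [himg]
    constructor
    · rintro ⟨r₀, hr₀, h⟩
      obtain ⟨γ, hγt, hγs⟩ := exists_comp_point G r₀ y h
      refine ⟨γ, ?_, hγs⟩
      rw [Set.mem_preimage, hγt]
      exact hr₀
    · rintro ⟨r₀, hr₀, h⟩
      obtain ⟨γ, hγt, hγs⟩ := exists_comp_point G r₀ (Points.map G.i y) (by
        rw [h, ← Points.map_comp, G.i_t])
      refine ⟨γ, ?_, hγs.trans (by rw [← Points.map_comp, G.i_s])⟩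
      rw [Set.mem_preimage, hγt]
      exact hr₀
  intro T r
  constructor
  all_goals
    rintro ⟨a, ha⟩
    refine exists_factor_of_range hw' _ ?_
    rintro _ ⟨z, rfl⟩
    rw [Points.map_comp]
  · exact (key _).1 ⟨Points.map a z, by rw [← Points.map_comp, ha, Points.map_comp]⟩
  · exact (key _).2 ⟨Points.map a z, by rw [← Points.map_comp, ha, Points.map_comp]⟩

theorem isIso_quotSpDesc {R U M : Sp S} (s t : R ⟶ U) (q : U ⟶ M) (w : s ≫ q = t ≫ q) [Epi q]
    [Epi (pullback.lift t s w.symm : R ⟶ pullback q q)] : IsIso (quotSpDesc q w) := by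
  haveI : EffectiveEpi q := (isRegularEpi_iff_effectiveEpi _).1 (IsRegularEpiCategory.regularEpiOfEpi _)
  have hk : ∀ {Z : Sp S} (g₁ g₂ : Z ⟶ U), g₁ ≫ q = g₂ ≫ q → g₁ ≫ quotSpπ s t = g₂ ≫ quotSpπ s t := by
    intro Z g₁ g₂ hg
    have hπ : pullback.fst q q ≫ quotSpπ s t = pullback.snd q q ≫ quotSpπ s t := by
      rw [← cancel_epi (pullback.lift t s w.symm : R ⟶ pullback q q), pullback.lift_fst_assoc,
        pullback.lift_snd_assoc]
      exact (quotSp_condition s t).symm
    have e1 : pullback.lift g₁ g₂ hg ≫ pullback.fst q q = g₁ := pullback.lift_fst _ _ _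
    have e2 : pullback.lift g₁ g₂ hg ≫ pullback.snd q q = g₂ := pullback.lift_snd _ _ _
    exact (congrArg (· ≫ _) e1).symm.trans ((Category.assoc _ _ _).trans
      ((congrArg (_ ≫ ·) hπ).trans ((Category.assoc _ _ _).symm.trans (congrArg (· ≫ _) e2))))
  let m := EffectiveEpi.desc q (quotSpπ s t) hk
  have hm : q ≫ m = quotSpπ s t := EffectiveEpi.fac q (quotSpπ s t) hk
  haveI : Epi (quotSpπ s t) := inferInstanceAs (Epi (coequalizer.π s t))
  refine ⟨m, ?_, ?_⟩
  · rw [← cancel_epi (quotSpπ s t), quotSpπ_desc_assoc, hm, Category.comp_id]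
  · rw [← cancel_epi q, reassoc_of% hm, quotSpπ_desc, Category.comp_id]

end Groth.Agent.ASp
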