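import Groth.Agent.Lib.AlgSpGrpDiag
import Groth.Agent.Lib.AlgSpDecentClosedPt
/-! The separation of `j` of a groupoid and its stabilizer. -/

set_option autoImplicit false
set_option linter.style.haveILetI false
set_option linter.unusedVariables false
set_option backward.isDefEq.respectTransparency.types false

universe u

open CategoryTheory CategoryTheory.Limits AlgebraicGeometry Opposite Topology

noncomputable section

namespace Groth.Agent.ASp

open _root_.AlgSp

variable {S : Scheme.{u}} {B : Sp S} (G : GroupoidSp B)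

/-- Composition of arrows. -/
def gmul {T : Sp S} (α β : T ⟶ G.R) (h : α ≫ G.s = β ≫ G.t) : T ⟶ G.R := pullback.lift α β h ≫ G.c

theorem gmul_congr {T : Sp S} {α α' β β' : T ⟶ G.R} (e₁ : α = α') (e₂ : β = β') (h : α ≫ G.s = β ≫ G.t) :
    gmul G α β h = gmul G α' β' (e₁ ▸ e₂ ▸ h) := by subst e₁; subst e₂; rfl

theorem comp_gmul {T' T : Sp S} (f : T' ⟶ T) (α β : T ⟶ G.R) (h : α ≫ G.s = β ≫ G.t) :
    f ≫ gmul G α β h = gmul G (f ≫ α) (f ≫ β) (by rw [Category.assoc, Category.assoc, h]) := by
  rw [gmul, gmul, ← Category.assoc]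
  congr 1
  apply pullback.hom_ext
  · rw [Category.assoc, pullback.lift_fst, pullback.lift_fst]
  · rw [Category.assoc, pullback.lift_snd, pullback.lift_snd]

theorem gmul_t {T : Sp S} (α β : T ⟶ G.R) (h : α ≫ G.s = β ≫ G.t) : gmul G α β h ≫ G.t = α ≫ G.t :=
  G.comp_t α β h

theorem eq_of_gmul_inv {T : Sp S} (α β : T ⟶ G.R) (hs : α ≫ G.s = β ≫ G.s) (ht : α ≫ G.t = β ≫ G.t)
    (h : gmul G α (β ≫ G.i) (by rw [hs, Category.assoc, G.i_t]) = α ≫ G.t ≫ G.e) : α = β := by
  have hiβ : (β ≫ G.i) ≫ G.s = β ≫ G.t := by rw [Category.assoc, G.i_s]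
  have a₁ := G.assoc α (β ≫ G.i) β (by rw [hs, Category.assoc, G.i_t]) hiβ
  have r : pullback.lift (β ≫ G.i) β hiβ ≫ G.c = α ≫ G.s ≫ G.e := by
    rw [G.i_comp β, ← Category.assoc, ← hs, Category.assoc]
  have l : pullback.lift α (β ≫ G.i) (by rw [hs, Category.assoc, G.i_t]) ≫ G.c = β ≫ G.t ≫ G.e := by
    exact h.trans ((Category.assoc _ _ _).symm.trans ((congrArg (· ≫ G.e) ht).trans (Category.assoc _ _ _)))
  calc α = gmul G α (α ≫ G.s ≫ G.e) (by rw [Category.assoc, Category.assoc, G.e_t, Category.comp_id]) :=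
        (G.comp_e α).symm
    _ = gmul G α (pullback.lift (β ≫ G.i) β hiβ ≫ G.c) _ := gmul_congr G rfl r.symm _
    _ = _ := a₁.symm
    _ = gmul G (β ≫ G.t ≫ G.e) β _ := gmul_congr G l rfl _
    _ = β := G.e_comp β

theorem diag_fst : G.diag ≫ pullback.fst G.pU G.pU = 𝟙 _ := pullback.lift_fst _ _ _
theorem diag_snd : G.diag ≫ pullback.snd G.pU G.pU = 𝟙 _ := pullback.lift_snd _ _ _

theorem stab_t : G.stabilizerι ≫ G.t = G.stabilizerToU :=
  calc G.stabilizerι ≫ G.t = (G.stabilizerι ≫ G.j) ≫ pullback.fst G.pU G.pU := by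
        rw [Category.assoc, G.j_fst]
    _ = (G.stabilizerToU ≫ G.diag) ≫ pullback.fst G.pU G.pU := congrArg (· ≫ _) pullback.condition
    _ = G.stabilizerToU := by rw [Category.assoc, diag_fst, Category.comp_id]

theorem stab_s : G.stabilizerι ≫ G.s = G.stabilizerToU :=
  calc G.stabilizerι ≫ G.s = (G.stabilizerι ≫ G.j) ≫ pullback.snd G.pU G.pU := by
        rw [Category.assoc, G.j_snd]
    _ = (G.stabilizerToU ≫ G.diag) ≫ pullback.snd G.pU G.pU := congrArg (· ≫ _) pullback.condition
    _ = G.stabilizerToU := by rw [Category.assoc, diag_snd, Category.comp_id]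

instance mono_diag : Mono G.diag := mono_of_mono_fac (diag_fst G)

instance mono_stabilizerι : Mono G.stabilizerι := inferInstanceAs (Mono (pullback.fst G.j G.diag))

variable {eG : G.U ⟶ G.stabilizer} (heG : eG ≫ G.stabilizerι = G.e)
include heG

theorem unit_toU : eG ≫ G.stabilizerToU = 𝟙 _ := by rw [← stab_t, reassoc_of% heG, G.e_t]

theorem exists_isPullback_diag_j :
    ∃ ψ : pullback G.j G.j ⟶ G.stabilizer, IsPullback G.t (pullback.diagonal G.j) eG ψ := by
  have ht : pullback.fst G.j G.j ≫ G.t = pullback.snd G.j G.j ≫ G.t := by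
    rw [← G.j_fst, pullback.condition_assoc]
  have hs : pullback.fst G.j G.j ≫ G.s = pullback.snd G.j G.j ≫ G.s := by
    rw [← G.j_snd, pullback.condition_assoc]
  have hm : pullback.fst G.j G.j ≫ G.s = (pullback.snd G.j G.j ≫ G.i) ≫ G.t := by
    rw [hs, Category.assoc, G.i_t]
  let γ := gmul G (pullback.fst G.j G.j) (pullback.snd G.j G.j ≫ G.i) hm
  have γt : γ ≫ G.t = pullback.fst G.j G.j ≫ G.t := G.comp_t _ _ hm
  have γs : γ ≫ G.s = pullback.fst G.j G.j ≫ G.t := by
    rw [show γ ≫ G.s = (pullback.snd G.j G.j ≫ G.i) ≫ G.s from G.comp_s _ _ hm, Category.assoc, G.i_s, ht]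
  let ψ : pullback G.j G.j ⟶ G.stabilizer := pullback.lift γ (γ ≫ G.t) (by
    apply pullback.hom_ext
    · rw [Category.assoc, Category.assoc, Category.assoc, G.j_fst, diag_fst, Category.comp_id]
    · rw [Category.assoc, Category.assoc, Category.assoc, G.j_snd, diag_snd, Category.comp_id, γs, γt])
  have hψ : ψ ≫ G.stabilizerι = γ := pullback.lift_fst _ _ _
  refine ⟨ψ, IsPullback.of_isLimit' ⟨?_⟩ (PullbackCone.IsLimit.mk _ (fun s => s.snd ≫ pullback.fst G.j G.j)
    (fun s => ?_) (fun s => ?_) (fun s m _ h₂ => ?_))⟩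
  · rw [← cancel_mono G.stabilizerι, Category.assoc, Category.assoc, heG, hψ, comp_gmul]
    refine Eq.trans ?_ (gmul_congr G (α' := 𝟙 G.R) (β' := G.i) (by rw [pullback.diagonal_fst])
      (by rw [← Category.assoc, pullback.diagonal_snd, Category.id_comp]) _).symm
    refine Eq.trans (Category.id_comp _).symm (Eq.trans (G.comp_i (𝟙 G.R)).symm ?_)
    exact gmul_congr G rfl (Category.id_comp _) _
  all_goals
    have h := congrArg (· ≫ G.stabilizerι) s.condition
    simp only [Category.assoc, heG, hψ] at h
    rw [comp_gmul] at h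
    have hfst : s.fst = (s.snd ≫ pullback.fst G.j G.j) ≫ G.t := by
      have := congrArg (· ≫ G.t) h
      simp only [Category.assoc, G.e_t, Category.comp_id] at this
      rw [this, gmul_t]
    have heq : s.snd ≫ pullback.fst G.j G.j = s.snd ≫ pullback.snd G.j G.j := by
      refine eq_of_gmul_inv G _ _ (by rw [Category.assoc, Category.assoc, hs])
        (by rw [Category.assoc, Category.assoc, ht]) ?_
      exact (gmul_congr G rfl (Category.assoc _ _ _) _).trans
        (h.symm.trans ((congrArg (· ≫ G.e) hfst).trans (Category.assoc _ _ _)))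
  · exact hfst.symm
  · apply pullback.hom_ext
    · rw [Category.assoc, pullback.diagonal_fst, Category.comp_id]
    · rw [Category.assoc, pullback.diagonal_snd, Category.comp_id]; exact heq
  · rw [← h₂, Category.assoc, pullback.diagonal_fst, Category.comp_id]

theorem repWith_unit_of_stab {P : MorphismProperty Scheme.{u}} [P.IsStableUnderBaseChange]
    [P.IsStableUnderComposition] [P.ContainsIdentities]
    (h : RepWith P (pullback.diagonal G.stabilizerToU)) : RepWith P eG := by
  have hg := repWith_graph (f := eG) h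
  haveI : IsIso (eG ≫ G.stabilizerToU) := by rw [unit_toU G heG]; infer_instance
  have e : eG = pullback.lift (𝟙 G.U) eG (by simp) ≫ pullback.snd (eG ≫ G.stabilizerToU) G.stabilizerToU :=
    (pullback.lift_snd _ _ _).symm
  rw [e]
  exact repWith_comp hg (repWith_of_isIso P)

theorem repWith_j_of_unit {P : MorphismProperty Scheme.{u}} [P.IsStableUnderBaseChange]
    (h : RepWith P eG) : RepWith P (pullback.diagonal G.j) := by
  obtain ⟨ψ, sq⟩ := exists_isPullback_diag_j G heG
  exact repWith_baseChange sq h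

omit heG
theorem repWith_stab_of_j {P : MorphismProperty Scheme.{u}} [P.IsStableUnderBaseChange]
    (h : RepWith P (pullback.diagonal G.j)) : RepWith P (pullback.diagonal G.stabilizerToU) := by
  haveI : (RepWith (S := S) P).IsStableUnderBaseChange := ⟨fun sq h => repWith_baseChange sq h⟩
  exact MorphismProperty.of_isPullback (P := (RepWith (S := S) P).diagonal)
    (IsPullback.of_hasPullback G.j G.diag) h

include heG
theorem gpd_separation_iff {P : MorphismProperty Scheme.{u}} [P.IsStableUnderBaseChange]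
    [P.IsStableUnderComposition] [P.ContainsIdentities] :
    (RepWith P (pullback.diagonal G.j) ↔ RepWith P (pullback.diagonal G.stabilizerToU)) ∧
      (RepWith P (pullback.diagonal G.j) ↔ RepWith P eG) :=
  ⟨⟨repWith_stab_of_j G, fun h => repWith_j_of_unit G heG (repWith_unit_of_stab G heG h)⟩,
    ⟨fun h => repWith_unit_of_stab G heG (repWith_stab_of_j G h), repWith_j_of_unit G heG⟩⟩

omit heG

theorem diag_eq_diagonal : G.diag = pullback.diagonal G.pU := by
  apply pullback.hom_ext
  · rw [diag_fst, pullback.diagonal_fst]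
  · rw [diag_snd, pullback.diagonal_snd]

/-- A groupoid over a field point with decent arrows has separated arrows. -/
theorem isSeparatedSp_R_of_field (hB : IsAlgSpace B) (hR : IsAlgSpace G.R) {k : Type u} [Field k]
    {σ : Spec (CommRingCat.of k) ⟶ S} (eU : G.U ≅ (yon S).obj (Over.mk σ)) (hd : IsDecent G.R) :
    IsSeparatedSp G.R := by
  have hU : IsAlgSpace G.U := (IsAlgSpace.yon_obj (Over.mk σ)).of_iso eU.symm
  have hP : IsAlgSpace (pullback G.pU G.pU) := isAlgSpace_pullback _ _ hU hU hB
  have hst : IsAlgSpace G.stabilizer := isAlgSpace_pullback G.j G.diag hR hU hP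
  have hdr : Representable G.diag := diag_eq_diagonal G ▸ (monoLFT_diagonal hU G.pU).props.1
  have hι : Representable G.stabilizerι :=
    MorphismProperty.of_isPullback (P := Representable) (IsPullback.of_hasPullback G.j G.diag).flip hdr
  have hds : IsDecent G.stabilizer := fun z => decentAt_of_representable hι (hd _)
  let eG : G.U ⟶ G.stabilizer := pullback.lift G.e (𝟙 _) (by
    apply pullback.hom_ext
    · rw [Category.id_comp, Category.assoc, G.j_fst, G.e_t, diag_fst]
    · rw [Category.id_comp, Category.assoc, G.j_snd, G.e_s, diag_snd])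
  have heG : eG ≫ G.stabilizerι = G.e := pullback.lift_fst _ _ _
  have hc : RepWith @IsClosedImmersion eG := by
    have := repWith_closedImmersion_of_section hst hds (G.stabilizerToU ≫ eU.hom) (eU.inv ≫ eG) (by
      rw [Category.assoc, ← Category.assoc eG, unit_toU G heG, Category.id_comp, eU.inv_hom_id])
    rw [show eG = eU.hom ≫ (eU.inv ≫ eG) by rw [eU.hom_inv_id_assoc]]
    exact repWith_comp (repWith_of_isIso _) this
  have hj : IsSeparatedMor G.j := (gpd_separation_iff G heG).2.2 hc
  have hsU : RepWith @IsClosedImmersion (Limits.diag G.U) := by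
    have h1 : RepWith @IsClosedImmersion (Limits.diag ((yon S).obj (Over.mk σ))) :=
      (repWith_diag_yon_iff _ _).2 (IsSeparated.isClosedImmersion_diagonal (f := σ))
    rw [show Limits.diag G.U = eU.hom ≫ Limits.diag _ ≫ prod.map eU.inv eU.inv by
      apply Limits.prod.hom_ext <;> simp]
    exact repWith_comp (repWith_of_isIso _) (repWith_comp h1 (repWith_of_isIso _))
  have hpU : IsSeparatedMor G.pU := by
    let m : pullback G.pU G.pU ⟶ G.U ⨯ G.U := prod.lift (pullback.fst _ _) (pullback.snd _ _)
    have hm : pullback.diagonal G.pU ≫ m = Limits.diag G.U := by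
      apply Limits.prod.hom_ext <;> simp [m]
    haveI : Mono m := ⟨fun g h e => by
      have h₁ := congrArg (· ≫ prod.fst) e
      have h₂ := congrArg (· ≫ prod.snd) e
      simp only [m, Category.assoc, prod.lift_fst, prod.lift_snd] at h₁ h₂
      exact pullback.hom_ext h₁ h₂⟩
    have sq : IsPullback (𝟙 G.U) (pullback.diagonal G.pU) (Limits.diag G.U) m :=
      IsPullback.of_isLimit' ⟨by rw [Category.id_comp, hm]⟩ (PullbackCone.IsLimit.mk _ (fun s => s.fst)
        (fun s => Category.comp_id _)
        (fun s => (cancel_mono m).1 (by rw [Category.assoc, hm]; exact s.condition))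
        (fun s n h₁ _ => (Category.comp_id n).symm.trans h₁))
    exact repWith_baseChange sq hsU
  haveI : (RepWith (S := S) @IsClosedImmersion).IsStableUnderBaseChange := ⟨fun sq h => repWith_baseChange sq h⟩
  have hfst : IsSeparatedMor (pullback.fst G.pU G.pU) :=
    MorphismProperty.of_isPullback (P := (RepWith (S := S) @IsClosedImmersion).diagonal)
      (IsPullback.of_hasPullback G.pU G.pU).flip hpU
  exact repWith_diag_of_morphism hj (repWith_diag_of_morphism hfst hsU)

end Groth.Agent.ASp

namespace Groth.Agent.ASp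

open _root_.AlgSp

theorem gpd_quasiSeparated_iff {S : Scheme.{u}} {B : Sp S} (G : GroupoidSp B) (hB : IsAlgSpace B)
    (hU : IsAlgSpace G.U) (hR : IsAlgSpace G.R) {eG : G.U ⟶ G.stabilizer} (heG : eG ≫ G.stabilizerι = G.e) :
    IsQuasiSeparatedMor G.j ↔ IsQuasiCompactMor eG := by
  have hst : IsAlgSpace G.stabilizer :=
    isAlgSpace_pullback G.j G.diag hR hU (isAlgSpace_pullback _ _ hU hU hB)
  haveI : IsIso (eG ≫ G.stabilizerToU) := by rw [unit_toU G heG]; infer_instance
  have hr : Representable eG := by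
    have hg : Representable (pullback.lift (𝟙 G.U) eG (by simp) :
        G.U ⟶ pullback (eG ≫ G.stabilizerToU) G.stabilizerToU) :=
      MorphismProperty.of_isPullback (P := Representable)
        (pullback_lift_diagonal_isPullback eG G.stabilizerToU) (monoLFT_diagonal hst G.stabilizerToU).props.1
    rw [show eG = pullback.lift (𝟙 G.U) eG (by simp) ≫ pullback.snd (eG ≫ G.stabilizerToU) G.stabilizerToU from
      (pullback.lift_snd _ _ _).symm]
    exact MorphismProperty.comp_mem (W := Representable) _ _ hg (repWith_of_isIso @QuasiCompact).rep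
  exact (gpd_separation_iff G heG).2.trans (repWith_quasiCompact_iff hr)

end Groth.Agent.ASp
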