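import Groth.Agent.Lib.AlgSpMono
import Groth.Agent.Lib.AlgSpRep

/-! Composition of separated, quasi-compact, universally closed, proper morphisms of algebraic spaces. -/

set_option backward.isDefEq.respectTransparency.types false

universe u v

open CategoryTheory CategoryTheory.Limits AlgebraicGeometry Opposite Topology MorphismProperty

noncomputable section

namespace Groth.Agent.ASp

open _root_.AlgSp

variable {S : Scheme.{u}} {F G H X Y Z : Sp S}

theorem repWith_diagonal_comp {P : MorphismProperty Scheme.{u}} [P.IsStableUnderBaseChange]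
    [P.IsStableUnderComposition] {f : X ⟶ Y} {g : Y ⟶ Z} (hf : RepWith P (pullback.diagonal f))
    (hg : RepWith P (pullback.diagonal g)) : RepWith P (pullback.diagonal (f ≫ g)) := by
  have sq := pullback_map_diagonal_isPullback f f g
  have : pullback.diagonal (f ≫ g) = pullback.diagonal f ≫
      pullback.map f f (f ≫ g) (f ≫ g) (𝟙 _) (𝟙 _) g (Category.id_comp _).symm (Category.id_comp _).symm := by
    apply pullback.hom_ext <;>
      simp only [pullback.map, Category.assoc, pullback.lift_fst, pullback.lift_snd, Category.comp_id,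
        pullback.diagonal_fst, pullback.diagonal_snd]
  rw [this]
  exact repWith_comp hf (repWith_baseChange sq hg)

theorem isQuasiCompactMor_comp {f : X ⟶ Y} {g : Y ⟶ Z} (hY : IsAlgSpace Y) (hZ : IsAlgSpace Z)
    (hf : IsQuasiCompactMor f) (hg : IsQuasiCompactMor g) : IsQuasiCompactMor (f ≫ g) := by
  intro W W' hW hqc b fst snd sq
  have sq₁ := IsPullback.of_hasPullback g b
  let m := sq₁.lift (fst ≫ f) snd (by rw [Category.assoc]; exact sq.w)
  have hm : IsPullback fst m f (pullback.fst g b) :=
    IsPullback.of_bot (v₂₁ := pullback.snd g b) (v₂₂ := g) (h₃₁ := b)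
      (by rw [sq₁.lift_snd]; exact sq) (sq₁.lift_fst _ _ _).symm sq₁
  exact hf (isAlgSpace_pullback g b hY hW hZ) (hg hW hqc b _ _ sq₁) _ _ _ hm

theorem univSp_comp {Q : MorphismProperty (Sp S)} [Q.IsStableUnderComposition] {f : X ⟶ Y} {g : Y ⟶ Z}
    (hY : IsAlgSpace Y) (hZ : IsAlgSpace Z)
    (hf : UnivSp Q f) (hg : UnivSp Q g) : UnivSp Q (f ≫ g) := by
  intro W W' hW b fst snd sq
  have sq₁ := IsPullback.of_hasPullback g b
  let m := sq₁.lift (fst ≫ f) snd (by rw [Category.assoc]; exact sq.w)
  have hm : IsPullback fst m f (pullback.fst g b) :=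
    IsPullback.of_bot (v₂₁ := pullback.snd g b) (v₂₂ := g) (h₃₁ := b)
      (by rw [sq₁.lift_snd]; exact sq) (sq₁.lift_fst _ _ _).symm sq₁
  rw [← sq₁.lift_snd (fst ≫ f) snd (by rw [Category.assoc]; exact sq.w)]
  exact Q.comp_mem _ _ (hf (isAlgSpace_pullback g b hY hW hZ) _ _ _ hm) (hg hW b _ _ sq₁)

instance isClosedMor_comp : (IsClosedMor (S := S)).IsStableUnderComposition where
  comp_mem f g (hf : IsClosedMap (Points.map f)) (hg : IsClosedMap (Points.map g)) := by
    change IsClosedMap (Points.map (f ≫ g))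
    rw [show Points.map (f ≫ g) = Points.map g ∘ Points.map f from funext fun x => Points.map_comp f g x]
    exact hg.comp hf

theorem isProperMor_comp (hX : IsAlgSpace X) (hY : IsAlgSpace Y) (hZ : IsAlgSpace Z) {f : X ⟶ Y}
    {g : Y ⟶ Z} (hf : IsProperMor f) (hg : IsProperMor g) : IsProperMor (f ≫ g) :=
  ⟨repWith_diagonal_comp hf.1 hg.1,
    ⟨locP_comp hX hY hZ hf.2.1.1 hg.2.1.1, isQuasiCompactMor_comp hY hZ hf.2.1.2 hg.2.1.2⟩,
    univSp_comp hY hZ hf.2.2 hg.2.2⟩

theorem isProperMor_of_closedImmersion (hY : IsAlgSpace Y) {i : X ⟶ Y}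
    (hi : RepWith @IsClosedImmersion i) : IsProperMor i := by
  have : Mono i := mono_of_repWith_immersion (repWith_mono closedImmersion_le_immersion hi)
  have : IsIso (pullback.diagonal i) := inferInstance
  refine ⟨repWith_of_isIso _, ⟨locP_of_repWith hY (repWith_mono (fun _ _ g (_ : IsClosedImmersion g) =>
      inferInstanceAs (LocallyOfFiniteType g)) hi),
    isQuasiCompactMor_of_repWith (repWith_mono (fun _ _ g (_ : IsClosedImmersion g) =>
      inferInstanceAs (QuasiCompact g)) hi)⟩, ?_⟩
  exact (repWith_universallyClosed_iff hi.rep).1 (repWith_mono (fun _ _ g (_ : IsClosedImmersion g) =>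
    inferInstanceAs (UniversallyClosed g)) hi)

end Groth.Agent.ASp
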