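import Groth.Agent.Lib.AlgSpUnram
import Groth.Agent.Lib.AlgSpProper
import Groth.Agent.Lib.AlgSpDecentQS
import Groth.Prelude.Def_AlgSpGpd
/-! The diagonal of a group over a base and its unit section. -/

set_option autoImplicit false
set_option linter.style.haveILetI false
set_option linter.unusedVariables false
set_option backward.isDefEq.respectTransparency.types false

universe u

open CategoryTheory CategoryTheory.Limits AlgebraicGeometry Opposite Topology MonoidalCategory CartesianMonoidalCategory MonObj

noncomputable section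

namespace Groth.Agent.ASp

open _root_.AlgSp

variable {S : Scheme.{u}} {B : Sp S}

section
variable {C : Type*} [Category C] [CartesianMonoidalCategory C] {G : C} [GrpObj G]

theorem isPullback_diag_unit : IsPullback (toUnit G) (lift (𝟙 G) (𝟙 G)) η[G]
    ((fst G G)⁻¹ * snd G G) := by
  refine IsPullback.of_isLimit' ⟨?_⟩ (PullbackCone.IsLimit.mk _ (fun s => s.snd ≫ fst G G)
    (fun s => toUnit_unique _ _) (fun s => ?_) (fun s m _ h₂ => ?_))
  · rw [MonObj.comp_mul, GrpObj.comp_inv, lift_fst, lift_snd, inv_mul_cancel]
    exact (Hom.one_def (X := G) (M := G)).symm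
  · have h := s.condition
    rw [MonObj.comp_mul, GrpObj.comp_inv, show s.fst ≫ η[G] = 1 by rw [Hom.one_def, toUnit_unique s.fst (toUnit s.pt)],
      eq_comm, inv_mul_eq_one] at h
    apply CartesianMonoidalCategory.hom_ext
    · rw [Category.assoc, lift_fst, Category.comp_id]
    · rw [Category.assoc, lift_snd, Category.comp_id, h]
  · rw [← h₂, Category.assoc, lift_fst, Category.comp_id]

theorem isPullback_unit_diag : IsPullback η[G] η[G] (lift (𝟙 G) (𝟙 G)) (lift (toUnit G ≫ η[G]) (𝟙 G)) := by
  have hu : ∀ {T : C} (g : T ⟶ G), g ≫ toUnit G ≫ η[G] = 1 := fun g => by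
    rw [← Category.assoc, toUnit_unique (g ≫ toUnit G) (toUnit _), Hom.one_def]
  refine IsPullback.of_isLimit' ⟨?_⟩ (PullbackCone.IsLimit.mk _ (fun s => toUnit s.pt)
    (fun s => ?_) (fun s => ?_) (fun s m _ _ => toUnit_unique _ _))
  · rw [comp_lift, comp_lift, Category.comp_id]
    congr 1
    rw [← Category.assoc, toUnit_unique (η[G] ≫ toUnit G) (𝟙 _), Category.id_comp]
  all_goals
    have h := s.condition
    rw [comp_lift, comp_lift, Category.comp_id, Category.comp_id, hu] at h
    have h1 := congrArg (· ≫ fst G G) h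
    have h2 := congrArg (· ≫ snd G G) h
    simp only [lift_fst, lift_snd] at h1 h2
  · exact (Hom.one_def (X := s.pt) (M := G)).symm.trans h1.symm
  · exact ((Hom.one_def (X := s.pt) (M := G)).symm.trans h1.symm).trans h2

end

variable (G : Over B) [GrpObj G]

theorem isPullback_diagonal_unit :
    IsPullback (toUnit G).left (pullback.diagonal G.hom) (η[G]).left ((fst G G)⁻¹ * snd G G).left :=
  (isPullback_diag_unit (G := G)).map (Over.forget B)

theorem isPullback_unit_diagonal :
    IsPullback (η[G]).left (η[G]).left (pullback.diagonal G.hom) (lift (toUnit G ≫ η[G]) (𝟙 G)).left :=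
  (isPullback_unit_diag (G := G)).map (Over.forget B)

theorem repWith_diagonal_iff_unit {P : MorphismProperty Scheme.{u}} [P.IsStableUnderBaseChange] :
    RepWith P (pullback.diagonal G.hom) ↔ RepWith P (η[G]).left :=
  ⟨repWith_baseChange (isPullback_unit_diagonal G), repWith_baseChange (isPullback_diagonal_unit G)⟩

theorem isQuasiSeparatedMor_iff_unit (hG : IsAlgSpace G.left) :
    IsQuasiSeparatedMor G.hom ↔ IsQuasiCompactMor (η[G]).left := by
  rw [IsQuasiSeparatedMor, repWith_quasiCompact_iff ((monoLFT_diagonal hG G.hom).props.1)]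
  exact ⟨isQuasiCompactMor_baseChange (isPullback_unit_diagonal G),
    isQuasiCompactMor_baseChange (isPullback_diagonal_unit G)⟩

end Groth.Agent.ASp
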