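import Groth.Agent.Lib.AlgSpDecentEtale
import Groth.Agent.Lib.AlgSpEtaleField
import Groth.Agent.Lib.AlgSpFieldDescent
import Groth.Agent.Lib.AlgSpDiag
import Mathlib.AlgebraicGeometry.AlgClosed.Basic
import Mathlib.AlgebraicGeometry.Morphisms.FlatMono
import Mathlib.Order.Filter.Ultrafilter.Basic
import Mathlib.LinearAlgebra.TensorProduct.Finiteness
/-! Locally separated algebraic spaces are decent: an etale chart from an affine scheme has finite geometric
fibres, by a limit argument along an ultrafilter. -/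

set_option autoImplicit false
set_option linter.style.haveILetI false
set_option linter.unusedVariables false
set_option backward.isDefEq.respectTransparency.types false

universe u

open CategoryTheory CategoryTheory.Limits AlgebraicGeometry Opposite Topology TensorProduct

noncomputable section

namespace Groth.Agent.ASp

open _root_.AlgSp

/-- The prime of functions vanishing along a nonprincipal ultrafilter on a sequence of points. -/
def limitPrime {A K : Type u} [CommRing A] [Field K] (φ : ℕ → A →+* K) : PrimeSpectrum A where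
  asIdeal :=
    { carrier := {a | {i | φ i a = 0} ∈ Filter.hyperfilter ℕ}
      add_mem' := fun {a b} ha hb => Filter.mem_of_superset (Filter.inter_mem ha hb)
        fun i ⟨h₁, h₂⟩ => show φ i (a + b) = 0 by rw [map_add, h₁, h₂, add_zero]
      zero_mem' := Filter.mem_of_superset Filter.univ_mem fun i _ => map_zero (φ i)
      smul_mem' := fun c a ha => Filter.mem_of_superset ha
        fun i (h₁ : φ i a = 0) => show φ i (c • a) = 0 by rw [smul_eq_mul, map_mul, h₁, mul_zero] }
  isPrime := by
    constructor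
    · intro h
      have h1 : {i | φ i (1 : A) = 0} ∈ Filter.hyperfilter ℕ := (Ideal.eq_top_iff_one _).1 h
      simp at h1
    · intro a b hab
      have h1 : {i | φ i (a * b) = 0} ∈ Filter.hyperfilter ℕ := hab
      have e : {i | φ i (a * b) = 0} = {i | φ i a = 0} ∪ {i | φ i b = 0} := by ext i; simp
      rw [e] at h1
      exact Ultrafilter.union_mem_iff.1 h1

theorem mem_limitPrime {A K : Type u} [CommRing A] [Field K] (φ : ℕ → A →+* K) (a : A) :
    a ∈ (limitPrime φ).asIdeal ↔ {i | φ i a = 0} ∈ Filter.hyperfilter ℕ := Iff.rfl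

/-- Pairs of points of a sequence come near the diagonal point of the limit. -/
theorem exists_ne_pair {B A K : Type u} [CommRing B] [CommRing A] [Field K] [Algebra B A] [Algebra B K]
    (ψ : ℕ → A →ₐ[B] K) (W : Set (PrimeSpectrum (A ⊗[B] A))) (hW : IsOpen W)
    (hu : PrimeSpectrum.comap (Algebra.TensorProduct.lmul' B (S := A)).toRingHom
      (limitPrime fun i => (ψ i).toRingHom) ∈ W)
    (I : Set ℕ) (hI : I ∈ Filter.hyperfilter ℕ) :
    ∃ i ∈ I, ∃ j ∈ I, i ≠ j ∧
      ∀ z, PrimeSpectrum.comap (Algebra.TensorProduct.productMap (ψ i) (ψ j)).toRingHom z ∈ W := by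
  obtain ⟨_, ⟨h, rfl⟩, hh, hsub⟩ := PrimeSpectrum.isTopologicalBasis_basic_opens.exists_subset_of_mem_open hu hW
  by_contra hcon
  push Not at hcon
  have hvan : ∀ i ∈ I, ∀ j ∈ I, i ≠ j → Algebra.TensorProduct.productMap (ψ i) (ψ j) h = 0 := by
    intro i hi j hj hij
    obtain ⟨z, hz⟩ := hcon i hi j hj hij
    by_contra hne
    refine hz (hsub ?_)
    intro hm
    have hm' : Algebra.TensorProduct.productMap (ψ i) (ψ j) h ∈ z.asIdeal := hm
    exact z.isPrime.ne_top (Ideal.eq_top_of_isUnit_mem _ hm' (Ne.isUnit hne))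
  obtain ⟨s, hs⟩ := TensorProduct.exists_finset h
  let v : ℕ → (↥s → K) := fun i p => ψ i p.1.1
  let L : ℕ → (↥s → K) →ₗ[K] K := fun j => ∑ p : ↥s, ψ j p.1.2 • LinearMap.proj p
  have hL : ∀ i j, L j (v i) = Algebra.TensorProduct.productMap (ψ i) (ψ j) h := fun i j => by
    rw [hs, map_sum]
    simp only [Algebra.TensorProduct.productMap_apply_tmul, L, v, LinearMap.sum_apply, LinearMap.smul_apply,
      LinearMap.proj_apply, smul_eq_mul]
    rw [← Finset.sum_coe_sort s]
    exact Finset.sum_congr rfl fun p _ => mul_comm _ _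
  obtain ⟨b, hb, hbs, hbl⟩ := exists_linearIndependent K (v '' I)
  choose g hgI hgv using hb
  haveI : Finite b := hbl.finite
  let F : Set ℕ := Set.range fun x : b => g x.2
  have hF : F.Finite := Set.finite_range _
  have hIF : I \ F ∈ Filter.hyperfilter ℕ :=
    Filter.inter_mem hI (Filter.compl_mem_hyperfilter_of_finite hF)
  refine hh ?_
  change Algebra.TensorProduct.lmul' B (S := A) h ∈ (limitPrime fun i => (ψ i).toRingHom).asIdeal
  rw [mem_limitPrime]
  refine Filter.mem_of_superset hIF fun i hi => ?_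
  have hker : v i ∈ LinearMap.ker (L i) := by
    refine (Submodule.span_le.2 ?_ : Submodule.span K b ≤ _) (hbs ▸ Submodule.subset_span ⟨i, hi.1, rfl⟩)
    intro x hx
    rw [SetLike.mem_coe, LinearMap.mem_ker, ← hgv hx, hL]
    exact hvan _ (hgI hx) _ hi.1 fun e => hi.2 ⟨⟨x, hx⟩, e⟩
  rw [LinearMap.mem_ker, hL, hs, map_sum] at hker
  change ψ i (Algebra.TensorProduct.lmul' B (S := A) h) = 0
  rw [hs, map_sum, map_sum]
  simpa using hker

/-- Among infinitely many points over one point of the base, two are as near the diagonal as we like. -/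
theorem exists_pair_mem {U X : Scheme.{u}} [IsAffine U] (f : U ⟶ X) {K : Type u} [Field K]
    (P : ℕ → (Spec (CommRingCat.of K) ⟶ U)) (hP : ∀ i, P i ≫ f = P 0 ≫ f) (W : (pullback f f).Opens)
    (hW : Set.range (pullback.diagonal f) ⊆ W) :
    ∃ i j, i ≠ j ∧ ∀ z, pullback.lift (P i) (P j) ((hP i).trans (hP j).symm) z ∈ W := by
  let A₀ := Γ(U, ⊤)
  let e₀ : Spec A₀ ⟶ U := U.isoSpec.inv
  let φ : ℕ → (A₀ →+* K) := fun i => (Spec.preimage (P i ≫ U.isoSpec.hom)).hom
  have hφ : ∀ i, Spec.map (CommRingCat.ofHom (φ i)) ≫ e₀ = P i := fun i => by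
    simp [φ, e₀]
  let u₀ : Spec A₀ := limitPrime φ
  obtain ⟨S', hS', hu₀, -⟩ := exists_isAffineOpen_mem_and_subset (show (e₀ ≫ f) u₀ ∈ (⊤ : X.Opens) from trivial)
  obtain ⟨_, ⟨g, rfl⟩, hg, hgS⟩ := PrimeSpectrum.isTopologicalBasis_basic_opens.exists_subset_of_mem_open
    (show u₀ ∈ (↑((e₀ ≫ f) ⁻¹ᵁ S') : Set (Spec A₀)) from hu₀) ((e₀ ≫ f) ⁻¹ᵁ S').isOpen
  let I : Set ℕ := {i | φ i g ≠ 0}
  have hI : I ∈ Filter.hyperfilter ℕ := Ultrafilter.compl_mem_iff_notMem.2 hg
  obtain ⟨i₀, hi₀⟩ := Ultrafilter.nonempty_of_mem hI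
  classical
  let n : ℕ → ℕ := fun i => if i ∈ I then i else i₀
  have hn : ∀ i, φ (n i) g ≠ 0 := fun i => by
    simp only [n]
    split_ifs with h
    · exact h
    · exact hi₀
  let A := Localization.Away (g : A₀)
  let χ : ℕ → (A →+* K) := fun i => IsLocalization.Away.lift (g : A₀) (hn i).isUnit
  have hχ : ∀ i, (χ i).comp (algebraMap A₀ A) = φ (n i) := fun i => IsLocalization.Away.lift_comp _ _
  let j : Spec (CommRingCat.of A) ⟶ U := Spec.map (CommRingCat.ofHom (algebraMap A₀ A)) ≫ e₀
  have hj : ∀ i, Spec.map (CommRingCat.ofHom (χ i)) ≫ j = P (n i) := fun i => by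
    rw [← Spec.map_comp_assoc, ← CommRingCat.ofHom_comp, hχ, hφ]
  have hrange : Set.range (j ≫ f) ⊆ Set.range hS'.fromSpec := by
    rintro _ ⟨z, rfl⟩
    rw [hS'.range_fromSpec]
    have hz : PrimeSpectrum.comap (algebraMap A₀ A) z ∈ (PrimeSpectrum.basicOpen (g : A₀) : Set _) := by
      rw [← PrimeSpectrum.localization_away_comap_range A (g : A₀)]
      exact ⟨z, rfl⟩
    exact hgS hz
  let β : Γ(X, S') →+* A := (Spec.preimage (IsOpenImmersion.lift hS'.fromSpec (j ≫ f) hrange)).hom
  have hβ : Spec.map (CommRingCat.ofHom β) ≫ hS'.fromSpec = j ≫ f := by simp [β]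
  let γ : Γ(X, S') →+* K := (χ 0).comp β
  have hγ : ∀ i, (χ i).comp β = γ := fun i => by
    refine congrArg CommRingCat.Hom.hom (Spec.map_injective (a₁ := CommRingCat.ofHom ((χ i).comp β))
      (a₂ := CommRingCat.ofHom γ) ?_)
    rw [← cancel_mono hS'.fromSpec]
    simp only [γ, CommRingCat.ofHom_comp, Spec.map_comp, Category.assoc, hβ]
    rw [← Category.assoc, hj, ← Category.assoc, hj, hP, hP (n 0)]
  letI : Algebra Γ(X, S') A := β.toAlgebra
  letI : Algebra Γ(X, S') K := γ.toAlgebra
  let ψ : ℕ → (A →ₐ[Γ(X, S')] K) := fun i => ⟨χ i, fun r => RingHom.congr_fun (hγ i) r⟩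
  let ι : Spec (CommRingCat.of (A ⊗[Γ(X, S')] A)) ⟶ pullback f f := pullback.lift
    (Spec.map (CommRingCat.ofHom (Algebra.TensorProduct.includeLeftRingHom)) ≫ j)
    (Spec.map (CommRingCat.ofHom (Algebra.TensorProduct.includeRight (R := Γ(X, S')) (A := A) (B := A)).toRingHom) ≫ j)
    (by
      refine (Category.assoc _ _ _).trans (Eq.trans ?_ (Category.assoc _ _ _).symm)
      rw [← hβ, ← Spec.map_comp_assoc, ← Spec.map_comp_assoc]
      congr 2
      ext r
      exact (Algebra.TensorProduct.includeRight.commutes r).symm)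
  have hdiag : Spec.map (CommRingCat.ofHom (Algebra.TensorProduct.lmul' Γ(X, S') (S := A)).toRingHom) ≫ ι =
      j ≫ pullback.diagonal f := by
    apply pullback.hom_ext
    all_goals
      simp only [ι, Category.assoc, pullback.lift_fst, pullback.lift_snd, pullback.diagonal_fst,
        pullback.diagonal_snd, Category.comp_id, ← Spec.map_comp_assoc]
      conv_rhs => rw [← Category.id_comp j, ← Spec.map_id]
      congr 2
      ext x
      simp
  have hu : PrimeSpectrum.comap (Algebra.TensorProduct.lmul' Γ(X, S') (S := A)).toRingHom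
      (limitPrime fun i => (ψ i).toRingHom) ∈ SetLike.coe (ι ⁻¹ᵁ W) := by
    refine hW ⟨j (limitPrime fun i => (ψ i).toRingHom), ?_⟩
    exact (congrArg (fun t : Spec (CommRingCat.of A) ⟶ pullback f f => t (limitPrime fun i => (ψ i).toRingHom)) hdiag).symm
  obtain ⟨i, hi, k, hk, hik, hmem⟩ := exists_ne_pair ψ (SetLike.coe (ι ⁻¹ᵁ W)) (ι ⁻¹ᵁ W).isOpen hu I hI
  refine ⟨i, k, hik, fun z => ?_⟩
  have e : Spec.map (CommRingCat.ofHom (Algebra.TensorProduct.productMap (ψ i) (ψ k)).toRingHom) ≫ ι =
      pullback.lift (P i) (P k) ((hP i).trans (hP k).symm) := by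
    apply pullback.hom_ext
    · simp only [ι, Category.assoc, pullback.lift_fst]
      rw [← Spec.map_comp_assoc]
      refine Eq.trans ?_ ((hj i).trans (by rw [show n i = i from if_pos hi]))
      congr 2
      ext x
      change Algebra.TensorProduct.productMap (ψ i) (ψ k) (x ⊗ₜ 1) = χ i x
      rw [Algebra.TensorProduct.productMap_apply_tmul, map_one, mul_one]
      rfl
    · simp only [ι, Category.assoc, pullback.lift_snd]
      rw [← Spec.map_comp_assoc]
      refine Eq.trans ?_ ((hj k).trans (by rw [show n k = k from if_pos hk]))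
      congr 2
      ext x
      change Algebra.TensorProduct.productMap (ψ i) (ψ k) (1 ⊗ₜ x) = χ k x
      rw [Algebra.TensorProduct.productMap_apply_tmul, map_one, one_mul]
      rfl
  rw [← e]
  exact hmem z

variable {S : Scheme.{u}} {F : Sp S}

/-- An affine etale chart of a locally separated space has finite fibres over field-valued points. -/
theorem finite_fibre_of_locSep (hF : IsAlgSpace F) (h : IsLocallySeparatedSp F) {T : Over S} [IsAffine T.left]
    {b : (yon S).obj T ⟶ F} (hb : RepWith @Etale b) (q : FieldPt F) {V : Over S} {c : V ⟶ q.pt} {snd : V ⟶ T}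
    (sq : IsPullback ((yon S).map c) ((yon S).map snd) q.toHom b) : Finite V.left := by
  haveI : Etale c.left := hb.2 q.toHom ((yon S).map snd) c sq.flip
  let K := AlgebraicClosure q.K
  let e : Spec (CommRingCat.of K) ⟶ Spec (CommRingCat.of q.K) := Spec.map (CommRingCat.ofHom (algebraMap q.K K))
  let pV := pullback.fst c.left e
  let pK := pullback.snd c.left e
  haveI : Etale pK := MorphismProperty.pullback_snd _ _ inferInstance
  haveI := discreteTopology_of_etale_field pK
  haveI : Surjective e := ⟨fun z => ⟨IsLocalRing.closedPoint K, @Subsingleton.elim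
    (PrimeSpectrum q.K) _ _ _⟩⟩
  haveI : Surjective pV := MorphismProperty.pullback_fst _ _ inferInstance
  choose w hw using fun v => pV.surjective v
  let Q : V.left → (Spec (CommRingCat.of K) ⟶ V.left) := fun v =>
    pointOfClosedPoint pK (w v) (isClosed_discrete _) ≫ pV
  have hQ : ∀ v z, Q v z = v := fun v z => by
    simp only [Q, Scheme.Hom.comp_apply, pointOfClosedPoint_apply, hw]
  have hQc : ∀ v, Q v ≫ c.left = e := fun v => by
    simp only [Q, pV, pK, Category.assoc, pullback.condition, pointOfClosedPoint_comp_assoc]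
  by_contra hinf
  rw [not_finite_iff_infinite] at hinf
  let v := Infinite.natEmbedding V.left
  let Kob : Over S := Over.mk (e ≫ q.str)
  let eK : Kob ⟶ q.pt := Over.homMk e rfl
  have hQV : ∀ i, Q (v i) ≫ V.hom = e ≫ q.str := fun i => by
    rw [← Over.w c, ← Category.assoc, hQc]
    rfl
  let qo : ℕ → (Kob ⟶ V) := fun i => Over.homMk (Q (v i)) (hQV i)
  have hqc : ∀ i, qo i ≫ c = eK := fun i => Over.OverMorphism.ext (hQc (v i))
  let P : ℕ → (Spec (CommRingCat.of K) ⟶ T.left) := fun i => (qo i ≫ snd).left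
  have hP : ∀ i, P i ≫ T.hom = P 0 ≫ T.hom := fun i => (Over.w (qo i ≫ snd)).trans (Over.w (qo 0 ≫ snd)).symm
  -- the relation and its diagonal
  obtain ⟨R, fst₁, r₂, sqR⟩ := exists_sq hb.rep b
  obtain ⟨r₁, rfl⟩ := (yon S).map_surjective fst₁
  haveI : Etale r₁.left := hb.2 b ((yon S).map r₂) r₁ sqR.flip
  haveI : IsImmersion (prod.lift r₁ r₂).left := h.2 _ _ _ (isPullback_diag sqR)
  have sqp : IsPullback ((Over.forget S).map (prod.fst (X := T) (Y := T))) ((Over.forget S).map prod.snd)
      T.hom T.hom := Over.isPullback_of_binaryFan_isLimit (BinaryFan.mk prod.fst prod.snd) (prodIsProd T T)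
  let m : R.left ⟶ pullback T.hom T.hom := pullback.lift r₁.left r₂.left ((Over.w r₁).trans (Over.w r₂).symm)
  have hm : m = (prod.lift r₁ r₂).left ≫ sqp.isoPullback.hom := by
    apply pullback.hom_ext
    · exact (pullback.lift_fst _ _ _).trans (((congrArg CommaMorphism.left (prod.lift_fst r₁ r₂)).symm.trans
        (congrArg ((prod.lift r₁ r₂).left ≫ ·) sqp.isoPullback_hom_fst.symm)).trans (Category.assoc _ _ _).symm)
    · exact (pullback.lift_snd _ _ _).trans (((congrArg CommaMorphism.left (prod.lift_snd r₁ r₂)).symm.trans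
        (congrArg ((prod.lift r₁ r₂).left ≫ ·) sqp.isoPullback_hom_snd.symm)).trans (Category.assoc _ _ _).symm)
  haveI : IsImmersion m := by
    rw [hm]
    exact MorphismProperty.RespectsIso.postcomp (P := @IsImmersion) _ _ ‹_›
  obtain ⟨δ, hδ⟩ := (yon S).map_surjective (sqR.lift (𝟙 _) (𝟙 _) rfl)
  have hδ₁ : δ ≫ r₁ = 𝟙 T := (yon S).map_injective (by rw [Functor.map_comp, hδ, sqR.lift_fst]; exact ((yon S).map_id _).symm)
  have hδ₂ : δ ≫ r₂ = 𝟙 T := (yon S).map_injective (by rw [Functor.map_comp, hδ, sqR.lift_snd]; exact ((yon S).map_id _).symm)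
  have hδl : δ.left ≫ r₁.left = 𝟙 _ := congrArg CommaMorphism.left hδ₁
  haveI : Etale (δ.left ≫ r₁.left) := by rw [hδl]; infer_instance
  haveI : Etale δ.left := Etale.of_comp δ.left r₁.left
  haveI : Mono (δ.left ≫ r₁.left) := by rw [hδl]; infer_instance
  haveI : Mono δ.left := mono_of_mono δ.left r₁.left
  haveI : IsOpenImmersion δ.left := IsOpenImmersion.of_flat_of_mono _
  obtain ⟨W, hWo, hWp⟩ := (m.isEmbedding.isInducing.isOpen_iff).1 δ.left.isOpenEmbedding.isOpen_range
  have hdiag : δ.left ≫ m = pullback.diagonal T.hom := by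
    apply pullback.hom_ext
    · simp only [m, Category.assoc, pullback.lift_fst, pullback.diagonal_fst, hδl]
    · simp only [m, Category.assoc, pullback.lift_snd, pullback.diagonal_snd]
      exact congrArg CommaMorphism.left hδ₂
  obtain ⟨i, k, hik, hmem⟩ := exists_pair_mem T.hom P hP ⟨W, hWo⟩ (by
    rintro _ ⟨z, rfl⟩
    have : δ.left z ∈ m ⁻¹' W := by rw [hWp]; exact ⟨z, rfl⟩
    rwa [← hdiag, Scheme.Hom.comp_apply])
  have hbq : ∀ l, (yon S).map (qo l ≫ snd) ≫ b = (yon S).map eK ≫ q.toHom := fun l => by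
    rw [Functor.map_comp, Category.assoc, ← sq.w, ← Category.assoc, ← Functor.map_comp, hqc]
  obtain ⟨ρ, hρ⟩ := (yon S).map_surjective (sqR.lift ((yon S).map (qo i ≫ snd)) ((yon S).map (qo k ≫ snd))
    ((hbq i).trans (hbq k).symm))
  have hρ₁ : ρ ≫ r₁ = qo i ≫ snd := (yon S).map_injective (by rw [Functor.map_comp, hρ, sqR.lift_fst])
  have hρ₂ : ρ ≫ r₂ = qo k ≫ snd := (yon S).map_injective (by rw [Functor.map_comp, hρ, sqR.lift_snd])
  have hρm : ρ.left ≫ m = pullback.lift (P i) (P k) ((hP i).trans (hP k).symm) := by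
    apply pullback.hom_ext
    · simp only [m, Category.assoc, pullback.lift_fst]
      exact congrArg CommaMorphism.left hρ₁
    · simp only [m, Category.assoc, pullback.lift_snd]
      exact congrArg CommaMorphism.left hρ₂
  have hsub : Set.range ρ.left ⊆ Set.range δ.left := by
    rintro _ ⟨z, rfl⟩
    rw [← hWp, Set.mem_preimage, ← Scheme.Hom.comp_apply, hρm]
    exact hmem z
  let l := IsOpenImmersion.lift δ.left ρ.left hsub
  have hl : l ≫ δ.left = ρ.left := IsOpenImmersion.lift_fac _ _ _
  have hPP : qo i ≫ snd = qo k ≫ snd := by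
    refine Over.OverMorphism.ext ?_
    rw [← hρ₁, ← hρ₂, Over.comp_left, Over.comp_left, ← hl, Category.assoc, Category.assoc, hδl,
      show δ.left ≫ r₂.left = 𝟙 _ from congrArg CommaMorphism.left hδ₂]
  have hqq : qo i = qo k := (yon S).map_injective (sq.hom_ext
    (by rw [← Functor.map_comp, ← Functor.map_comp, hqc, hqc])
    (by rw [← Functor.map_comp, ← Functor.map_comp, hPP]))
  refine hik (v.injective ?_)
  have := congrArg (fun t : Kob ⟶ V => t.left (IsLocalRing.closedPoint K)) hqq
  exact ((hQ (v i) _).symm.trans this).trans (hQ (v k) _)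

theorem isDecent_of_locSep (hF : IsAlgSpace F) (h : IsLocallySeparatedSp F) : IsDecent F := fun x => by
  induction x using Points.ind with
  | h q =>
    refine decentAt_of_qc hF q ?_
    have hr : Representable q.toHom := hF.representable_from_yon _
    obtain ⟨κ, T, b, hT, hb, href⟩ := exists_refines_affine hF
    choose V fst snd sq using fun j => exists_sq hr (b j)
    refine repWith_of_refines (P := @QuasiCompact) hr href sq fun j => (repWith_yon_map_iff _ _).2 ?_
    obtain ⟨c, hc⟩ := (yon S).map_surjective (fst j)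
    haveI : IsAffine (T j).left := hT j
    haveI : Finite (V j).left := finite_fibre_of_locSep hF h (hb j) q (c := c) (by rw [hc]; exact sq j)
    exact quasiCompact_of_compactSpace (snd j).left

end Groth.Agent.ASp
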