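import Groth.Agent.Lib.AlgSpLocalRows

/-! Monomorphisms of algebraic spaces: flat quasi-compact surjective ones are isomorphisms, etale ones
are open immersions. -/

set_option backward.isDefEq.respectTransparency.types false

universe u v

open CategoryTheory CategoryTheory.Limits AlgebraicGeometry Opposite Topology MorphismProperty

noncomputable section

namespace Groth.Agent.ASp

open _root_.AlgSp

variable {S : Scheme.{u}} {F G H X Y Z : Sp S}

/-- A family through which a refining family factors is refining. -/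
theorem Refines.of_factor {ι κ : Type v} {Yi : ι → Sp S} {g : ∀ i, Yi i ⟶ X} (hg : Refines Yi g)
    {Y' : κ → Sp S} {g' : ∀ k, Y' k ⟶ X} (h : ∀ i, ∃ (k : κ) (l : Yi i ⟶ Y' k), l ≫ g' k = g i) :
    Refines Y' g' := by
  intro Z hZ b
  obtain ⟨m, W, c, h₁, h₂, h₃, h₄⟩ := hg Z hZ b
  refine ⟨m, W, c, h₁, h₂, h₃, fun j => ?_⟩
  obtain ⟨i, l, hl⟩ := h₄ j
  obtain ⟨k, l', hl'⟩ := h i
  exact ⟨k, l ≫ l', by rw [Category.assoc, hl', hl]⟩

/-- A monomorphism which is refining is an isomorphism. -/
theorem isIso_of_mono_refines (hX : IsAlgSpace X) (hY : IsAlgSpace Y) {f : X ⟶ Y} [Mono f]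
    (h : Refines (fun _ : PUnit.{1} => X) (fun _ => f)) : IsIso f :=
  isIso_of_refines (p := fun _ => 𝟙 X) (q := fun _ => 𝟙 X) hX hY h
    (fun _ => IsKernelPair.id_of_mono f) fun _ => inferInstance

/-- A flat quasi-compact surjective morphism is refining. -/
theorem refines_of_flat_qc_surj (hX : IsAlgSpace X) (hY : IsAlgSpace Y) {f : X ⟶ Y}
    (hfl : LocP @Flat f) (hqc : IsQuasiCompactMor f) (hs : IsSurjectiveMor f) :
    Refines (fun _ : PUnit.{1} => X) (fun _ => f) := by
  intro Z hZ b
  have sq := IsPullback.of_hasPullback f b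
  have hP := isAlgSpace_pullback f b hX (IsAlgSpace.yon_obj Z) hY
  have hqP : IsQuasiCompactSp (pullback f b) :=
    hqc (IsAlgSpace.yon_obj Z) (isQuasiCompactSp_yon (show CompactSpace Z.left from inferInstance)) b _ _ sq
  have := compactSpace_points hqP
  obtain ⟨W, c, hW, hce, hcs⟩ := exists_affine_chart_of_compact hP
  obtain ⟨d, hd⟩ := (yon S).map_surjective (c ≫ pullback.snd f b)
  have hdfl : Flat d.left := locP_baseChange hX hY (IsAlgSpace.yon_obj Z) sq hfl c (𝟙 _) d hce
    (repWith_id _ Z) (by rw [hd, Category.comp_id])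
  refine ⟨1, fun _ => W, fun _ => d, fun _ => hW, fun _ => hdfl, fun z => ⟨0, ?_⟩, fun _ => ⟨⟨⟩,
    c ≫ pullback.fst f b, by rw [Category.assoc, pullback.condition, hd, Category.assoc]⟩⟩
  obtain ⟨p, hp⟩ := surjective_baseChange sq hs (Points.schemeHomeo Z z)
  obtain ⟨w, rfl⟩ := surjective_ofPt_of_repWith hcs p
  refine ⟨w, (Points.schemeHomeo Z).injective ?_⟩
  rw [← hp, ← Points.map_yon_map_apply, hd, Points.map_comp]
  congr 1

/-- An etale monomorphism is a representable open immersion. -/
theorem repWith_isOpenImmersion_of_etale_mono (hX : IsAlgSpace X) (hY : IsAlgSpace Y) {f : X ⟶ Y}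
    [Mono f] (hf : LocP @Etale f) : RepWith @IsOpenImmersion f := by
  refine repWith_of_exists fun U b => ?_
  have sq := IsPullback.of_hasPullback f b
  have hP := isAlgSpace_pullback f b hX (IsAlgSpace.yon_obj U) hY
  obtain ⟨W, c, hce, hcs⟩ := hP.atlas
  obtain ⟨ε, hε⟩ := (yon S).map_surjective (c ≫ pullback.snd f b)
  have : Etale ε.left := locP_baseChange hX hY (IsAlgSpace.yon_obj U) sq hf c (𝟙 _) ε hce
    (repWith_id _ U) (by rw [hε, Category.comp_id])
  let O : U.left.Opens := ⟨Set.range ε.left, ε.left.isOpenMap.isOpen_range⟩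
  let o : Over.mk (O.ι ≫ U.hom) ⟶ U := Over.homMk O.ι
  have ho : RepWith @IsOpenImmersion ((yon S).map o) :=
    (repWith_yon_map_iff _ o).2 (show IsOpenImmersion O.ι from inferInstance)
  have hmo : Mono ((yon S).map o) :=
    mono_of_repWith_immersion (repWith_mono openImmersion_le_immersion ho)
  obtain ⟨k, hk⟩ := exists_factor_of_range ho (pullback.snd f b) (by
    rintro _ ⟨p, rfl⟩
    obtain ⟨w, rfl⟩ := surjective_ofPt_of_repWith hcs p
    have hw : ε.left w ∈ O := ⟨w, rfl⟩
    refine ⟨Points.schemeHomeo _ ⟨ε.left w, hw⟩, ?_⟩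
    rw [Points.map_yon_map_apply]
    change Points.schemeHomeo U (ε.left w) = _
    rw [← Points.map_yon_map_apply, hε, Points.map_comp]
    congr 1)
  have hmk : Mono k := by
    have : Mono (k ≫ (yon S).map o) := hk ▸ inferInstance
    exact mono_of_mono k ((yon S).map o)
  obtain ⟨ε', hε'⟩ := (yon S).map_surjective (c ≫ k)
  have hεo : ε' ≫ o = ε := map_cancel (by rw [Functor.map_comp, hε', Category.assoc, hk, hε])
  have : Etale (ε'.left ≫ O.ι) := by
    change Etale (ε'.left ≫ o.left)
    rw [← Over.comp_left, hεo]; infer_instance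
  have hε'e : Etale ε'.left := Etale.of_comp ε'.left O.ι
  have hε's : Surjective ε'.left := ⟨fun z => by
    obtain ⟨w, hw⟩ : O.ι z ∈ Set.range ε.left := z.2
    refine ⟨w, O.ι.isOpenEmbedding.injective ?_⟩
    rw [← hw, ← hεo, Over.comp_left, Scheme.Hom.comp_apply]
    rfl⟩
  have : IsIso k := isIso_of_mono_refines hP (IsAlgSpace.yon_obj _)
    ((refines_of_atlas ((yon S).map ε') ((repWith_yon_map_iff _ _).2 hε'e)
      ((repWith_yon_map_iff _ _).2 hε's)).of_factor fun _ => ⟨⟨⟩, c, hε'.symm⟩)
  refine ⟨_, inv k ≫ pullback.fst f b, o, ?_, show IsOpenImmersion O.ι from inferInstance⟩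
  exact IsPullback.of_iso sq (asIso k) (Iso.refl _) (Iso.refl _) (Iso.refl _) (by simp) (by simp [hk])
    (by simp) (by simp)

/-- Cancellation for etale morphisms. -/
theorem locP_etale_of_comp (hX : IsAlgSpace X) (hY : IsAlgSpace Y) (hZ : IsAlgSpace Z) {f : X ⟶ Y}
    {g : Y ⟶ Z} (h : LocP @Etale (f ≫ g)) (hg : LocP @Etale g) : LocP @Etale f := by
  obtain ⟨U, V, W, a, b, c, α, β, hae, has, hbe, hce, hab, hbc, hac⟩ := exists_chart₂ hX hY hZ f g
  have : Etale β.left := hg b c β hbe hce hbc
  have : Etale (α.left ≫ β.left) := h a c (α ≫ β) hae hce hac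
  exact locP_of_chart hae has hbe hab (Etale.of_comp α.left β.left)

/-- An etale universally injective morphism is a monomorphism. -/
theorem mono_of_etale_univInjective (hX : IsAlgSpace X) (hY : IsAlgSpace Y) {f : X ⟶ Y}
    (het : LocP @Etale f) (hinj : IsUnivInjectiveMor f) : Mono f := by
  have sq := IsPullback.of_hasPullback f f
  have hR := isAlgSpace_pullback f f hX hX hY
  have hd : LocP @Etale (pullback.diagonal f) := locP_etale_of_comp hX hR hX
    (by rw [pullback.diagonal_fst]; exact locP_of_repWith hX (repWith_of_isIso _))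
    (locP_baseChange hX hY hX sq.flip het)
  have hde := repWith_of_locP hR (representable_diagonal hX f) hd
  have hds : RepWith @Surjective (pullback.diagonal f) :=
    repWith_surjective_of_surjective_map hde.rep fun x => ⟨Points.map (pullback.snd f f) x,
      hinj hX f _ _ sq (by rw [← Points.map_comp, pullback.diagonal_snd, Points.map_id])⟩
  have hdm := (monoLFT_diagonal hX f).props.2.2.1
  have : IsIso (pullback.diagonal f) := isIso_of_repWith_iso
    (repWith_of_forall hde.rep fun U V g fst snd sq' => by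
      have : Etale snd.left := hde.2 g fst snd sq'
      have : Surjective snd.left := hds.2 g fst snd sq'
      have : Mono snd.left := hdm.2 g fst snd sq'
      have := IsOpenImmersion.of_flat_of_mono snd.left
      change IsIso snd.left
      exact (isIso_iff_isOpenImmersion_and_surjective snd.left).2 ⟨inferInstance, inferInstance⟩)
  refine ⟨fun {T} a b hab => ?_⟩
  have key : pullback.fst f f = pullback.snd f f :=
    (cancel_epi (pullback.diagonal f)).1 (by rw [pullback.diagonal_fst, pullback.diagonal_snd])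
  calc a = pullback.lift a b hab ≫ pullback.fst f f := (pullback.lift_fst a b hab).symm
    _ = b := by rw [key, pullback.lift_snd]

end Groth.Agent.ASp
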