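import Groth.Agent.Lib.H9StLoc
/-! Properties of schemes read smooth locally on algebraic stacks. -/

set_option autoImplicit false
set_option linter.style.haveILetI false
set_option linter.unusedVariables false
set_option linter.unusedSectionVars false
set_option backward.isDefEq.respectTransparency.types false

universe u

open CategoryTheory CategoryTheory.Limits AlgebraicGeometry Opposite

noncomputable section

namespace Groth.Agent.H9St

open H9Diag

/-- Local Noetherianity descends along fppf coverings. -/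
theorem isLocallyNoetherian_of_fppf {X Y : Scheme.{u}} (f : X ⟶ Y) [Surjective f] [Flat f]
    [LocallyOfFinitePresentation f] [IsLocallyNoetherian X] : IsLocallyNoetherian Y := by
  refine (isLocallyNoetherian_iff_of_affine_openCover Y.affineCover).2 fun i => ?_
  let g := pullback.snd f (Y.affineCover.f i)
  haveI : IsLocallyNoetherian (pullback f (Y.affineCover.f i)) :=
    isLocallyNoetherian_of_isOpenImmersion (pullback.fst f (Y.affineCover.f i))
  obtain ⟨t, ht⟩ := (isCompact_univ (X := Y.affineCover.X i)).elim_finite_subcover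
    (fun W : (pullback f (Y.affineCover.f i)).affineOpens => g '' (W.1 : Set _))
    (fun W => g.isOpenMap _ W.1.2) (fun v _ => by
      obtain ⟨w, rfl⟩ := g.surjective v
      obtain ⟨W, hW, hwW, -⟩ := exists_isAffineOpen_mem_and_subset (X := pullback f (Y.affineCover.f i)) (x := w)
        (U := ⊤) trivial
      exact Set.mem_iUnion.2 ⟨⟨W, hW⟩, w, hwW, rfl⟩)
  let W : (↑t : Set (pullback f (Y.affineCover.f i)).affineOpens) → Scheme.{u} := fun k => k.1.1
  have : ∀ k, IsAffine (W k) := fun k => k.1.2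
  let d : (∐ W) ⟶ Y.affineCover.X i := Sigma.desc fun k => k.1.1.ι ≫ g
  have hd : ∀ k, Sigma.ι W k ≫ d = k.1.1.ι ≫ g := Sigma.ι_desc _
  haveI : Flat d := (IsZariskiLocalAtSource.iff_of_openCover (P := @Flat) (sigmaOpenCover _)).2 fun k => by
    change Flat (Sigma.ι W k ≫ d)
    rw [hd]
    infer_instance
  haveI : Surjective d := ⟨fun v => by
    obtain ⟨k, hk, w, hw, rfl⟩ := Set.mem_iUnion₂.1 (ht (Set.mem_univ v))
    exact ⟨Sigma.ι W ⟨k, hk⟩ ⟨w, hw⟩, by rw [← Scheme.Hom.comp_apply, hd]; rfl⟩⟩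
  haveI : IsLocallyNoetherian (∐ W) := by
    haveI : ∀ k, IsAffine ((sigmaOpenCover W).X k) := fun k => k.1.2
    refine (isLocallyNoetherian_iff_of_affine_openCover (sigmaOpenCover W)).2 fun k => ?_
    haveI : IsLocallyNoetherian (W k) := isLocallyNoetherian_of_isOpenImmersion k.1.1.ι
    exact IsLocallyNoetherian.component_noetherian ⟨⊤, isAffineOpen_top (W k)⟩
  haveI : IsNoetherianRing Γ(∐ W, ⊤) := IsLocallyNoetherian.component_noetherian ⟨⊤, isAffineOpen_top _⟩
  have hff : d.appTop.hom.FaithfullyFlat := by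
    rw [← flat_and_surjective_SpecMap_iff]
    exact ⟨(MorphismProperty.arrow_mk_iso_iff (@Flat : MorphismProperty Scheme.{u})
        (arrowIsoSpecΓOfIsAffine d)).1 inferInstance,
      (MorphismProperty.arrow_mk_iso_iff (@Surjective : MorphismProperty Scheme.{u})
        (arrowIsoSpecΓOfIsAffine d)).1 inferInstance⟩
  algebraize [d.appTop.hom]
  exact isNoetherianRing_of_faithfullyFlat' Γ(∐ W, ⊤)
where
  isNoetherianRing_of_faithfullyFlat' {A : Type u} [CommRing A] (B : Type u) [CommRing B] [Algebra A B]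
      [Module.FaithfullyFlat A B] [IsNoetherianRing B] : IsNoetherianRing A := by
    have : StrictMono (Ideal.map (algebraMap A B)) :=
      Monotone.strictMono_of_injective (fun _ _ h => Ideal.map_mono h) Ideal.map_injective_of_faithfullyFlat
    exact isNoetherianRing_iff.2 (isNoetherian_iff'.2 this.wellFoundedGT)

variable {S : Scheme.{u}}

/-- A property of schemes local in the smooth topology, unfolded. -/
structure SmProp (P : Scheme.{u} → Prop) : Prop where
  pull : ∀ {W U : Scheme.{u}} (d : W ⟶ U), Smooth d → P U → P W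
  push : ∀ {W U : Scheme.{u}} (c : W ⟶ U), Smooth c → Function.Surjective c → P W → P U

theorem smProp_of_local {P : Scheme.{u} → Prop}
    (hP : ∀ (U : Scheme.{u}) (R : Presieve U), R ∈ Scheme.precoverage @Smooth U →
      (P U ↔ ∀ ⦃V : Scheme.{u}⦄ (g : V ⟶ U), R g → P V)) : SmProp P := by
  constructor
  · intro W U d hd h
    let Y : Bool → Scheme.{u} := fun b => cond b W U
    let g : ∀ b, Y b ⟶ U := fun b => match b with
      | true => d
      | false => 𝟙 U
    exact (hP U (Presieve.ofArrows Y g) ((Scheme.ofArrows_mem_precoverage_iff _).2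
      ⟨fun x => ⟨false, x, rfl⟩, fun b => match b with
        | true => hd
        | false => (inferInstance : Smooth (𝟙 U))⟩)).1 h (g true) ⟨true⟩
  · intro W U c hc hs h
    refine (hP U (Presieve.ofArrows (fun _ : PUnit.{1} => W) (fun _ => c))
      ((Scheme.ofArrows_mem_precoverage_iff _).2 ⟨fun x => ⟨⟨⟩, hs x⟩, fun _ => hc⟩)).2 ?_
    rintro V g ⟨i⟩
    exact h

theorem smProp_isLocallyNoetherian : SmProp (fun T : Scheme.{u} => IsLocallyNoetherian T) where
  pull d _ h := LocallyOfFiniteType.isLocallyNoetherian d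
  push c _ hs h :=
    haveI : Surjective c := ⟨hs⟩
    isLocallyNoetherian_of_fppf c

variable {X : AlgSt.Cat S}

/-- Two smooth charts have a common smooth refinement. -/
theorem exists_common_chart [FibCat.IsFibGrpd X.p] (hΔ : AlgSt.RepByAlgSp1 (FibCat.diag (FibCat.toSelf X)))
    {U U₀ : Over S} (x : FibCat.overCat U ⥤ᵇ X) (x₀ : FibCat.overCat U₀ ⥤ᵇ X)
    (hx : AlgSt.RepByAlgSpWith (AlgSp.LocP @Smooth) x) (hx₀ : AlgSt.RepByAlgSpWith (AlgSp.LocP @Smooth) x₀) :
    ∃ (W : Over S) (c : W ⟶ U) (d : W ⟶ U₀), Smooth c.left ∧ Smooth d.left ∧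
      (AlgSt.RepByAlgSpWith AlgSp.IsSurjectiveMor x₀ → Function.Surjective c.left) := by
  haveI : FibCat.IsFibGrpd (FibCat.overCat U).p := isFibGrpd_overCat U
  haveI : FibCat.IsFibGrpd (FibCat.overCat U₀).p := isFibGrpd_overCat U₀
  haveI : FibCat.IsFibGrpd (FibCat.fp x x₀).p := H9Fib.isFibGrpd_fp _ _
  haveI := respectsIso_isSurjectiveMor (S := S)
  obtain ⟨hd, hs, hA⟩ := repByAlgSp_iff.1 (rep1_from_space hΔ (repByAlgSp_overCat U₀) x₀ U x)
  obtain ⟨W, a, hae, has⟩ := hA.atlas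
  let π : (⟨clsPsh (FibCat.fp x x₀), hs⟩ : AlgSp.Sp S) ⟶ (AlgSp.yon S).obj U := ObjectProperty.homMk (projU x x₀)
  let ρ : (⟨clsPsh (FibCat.fp x x₀), hs⟩ : AlgSp.Sp S) ⟶ (AlgSp.yon S).obj U₀ :=
    ObjectProperty.homMk (clsMap (FibCat.fpSnd x x₀) ≫ (clsOverCat U₀).hom)
  obtain ⟨c, hc⟩ := (AlgSp.yon S).map_surjective (a ≫ π)
  obtain ⟨d, hd'⟩ := (AlgSp.yon S).map_surjective (a ≫ ρ)
  obtain ⟨_, _, _, hπ⟩ := (repByAlgSpWith_iff x₀).1 hx₀ U x
  refine ⟨W, c, d, locP_yon hae hc.symm hπ, locP_yon hae hd'.symm (prop_sndU hx x₀ hs), fun hss t => ?_⟩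
  obtain ⟨_, _, _, hπs⟩ := (repByAlgSpWith_iff x₀).1 hss U x
  obtain ⟨q, hq⟩ := hπs (AlgSp.Points.schemeHomeo U t)
  obtain ⟨v, rfl⟩ := ASp.surjective_ofPt_of_repWith has q
  refine ⟨v, (AlgSp.Points.schemeHomeo U).injective ?_⟩
  rw [← hq, ← AlgSp.Points.map_yon_map_apply, hc, AlgSp.Points.map_comp, AlgSp.Points.ofPt_eq_map_ofScheme]
  rfl

theorem smoothLocally_of_atlas (hX : AlgSt.IsAlgStack Scheme.fppfPrecoverage X) {P : Scheme.{u} → Prop} (hP : SmProp P)
    {U₀ : Over S} (x₀ : FibCat.overCat U₀ ⥤ᵇ X) (hx₀ : AlgSt.RepByAlgSpWith (AlgSp.LocP @Smooth) x₀)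
    (hs : AlgSt.RepByAlgSpWith AlgSp.IsSurjectiveMor x₀) (h : P U₀.left) : AlgSt.SmoothLocally P X := by
  intro U x hx
  haveI := hX.isStack.1
  obtain ⟨W, c, d, hc, hd, hcs⟩ := exists_common_chart hX.diag x x₀ hx hx₀
  exact hP.push c.left hc (hcs hs) (hP.pull d.left hd h)

theorem smoothLocally_iff_chart (hX : AlgSt.IsAlgStack Scheme.fppfPrecoverage X) {P : Scheme.{u} → Prop} (hP : SmProp P) :
    AlgSt.SmoothLocally P X ↔ ∃ (U : Over S) (x : FibCat.overCat U ⥤ᵇ X), AlgSt.RepByAlgSpWith (AlgSp.LocP @Smooth) x ∧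
      AlgSt.RepByAlgSpWith AlgSp.IsSurjectiveMor x ∧ P U.left :=
  ⟨fun h => by obtain ⟨U, x, hx, hs⟩ := hX.atlas; exact ⟨U, x, hx, hs, h U x hx⟩,
    fun ⟨U, x, hx, hs, h⟩ => smoothLocally_of_atlas hX hP x hx hs h⟩

/-- Functor of an etale chart of a space. -/
theorem exists_chartFun {F : AlgSp.Sp S} (hF : AlgSp.IsAlgSpace F) {U : Over S} (a : (AlgSp.yon S).obj U ⟶ F)
    (hae : AlgSp.RepWith @Etale a) :
    ∃ p : FibCat.overCat U ⥤ᵇ AlgSt.ofSp F, AlgSt.RepByAlgSpWith (AlgSp.LocP @Smooth) p ∧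
      (AlgSp.RepWith @Surjective a → AlgSt.RepByAlgSpWith AlgSp.IsSurjectiveMor p) := by
  haveI : FibCat.IsFibGrpd (AlgSt.ofSp F).p := isFibGrpd_ofPsh F.obj
  haveI : FibCat.IsFibGrpd (FibCat.overCat U).p := isFibGrpd_overCat U
  haveI := respectsIso_isSurjectiveMor (S := S)
  obtain ⟨p, hp⟩ := exists_yFun (W := AlgSt.ofSp F) (U := U) (a.hom ≫ (clsOfPsh F.obj).inv)
  refine ⟨p, repByAlgSpWith_of_space (T := AlgSt.ofSp F) hF (clsOfPsh F.obj) p a hp fun {B V b q r} sq =>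
      locP_smooth_of_repWith_etale (ASp.repWith_baseChange sq hae),
    fun has => repByAlgSpWith_of_space (T := AlgSt.ofSp F) (Q := AlgSp.IsSurjectiveMor) hF (clsOfPsh F.obj) p a hp
      fun {B V b q r} sq z => ?_⟩
  obtain ⟨u, hu⟩ := ASp.surjective_ofPt_of_repWith has (AlgSp.Points.map b z)
  obtain ⟨w, hw, -⟩ := ASp.exists_of_isPullback sq.flip z (AlgSp.Points.schemeHomeo U u)
    (by rw [← hu, AlgSp.Points.ofPt_eq_map_ofScheme]; rfl)
  exact ⟨w, hw⟩

theorem isAlgStack_ofSp (F : AlgSp.Space S) : AlgSt.IsAlgStack Scheme.fppfPrecoverage (AlgSt.ofSp F.obj) := by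
  haveI : FibCat.IsFibGrpd (AlgSt.ofSp F.obj).p := isFibGrpd_ofPsh F.obj.obj
  exact (isDM_of_repByAlgSp ⟨F, _, H9Fib.isEquivOver_id _⟩).1

/-- Smooth charts by spaces. -/
theorem exists_scheme_chart (hX : AlgSt.IsAlgStack Scheme.fppfPrecoverage X) (F : AlgSp.Space S) {U : Over S}
    (a : (AlgSp.yon S).obj U ⟶ F.obj) (hae : AlgSp.RepWith @Etale a) (x : AlgSt.ofSp F.obj ⥤ᵇ X)
    (hx : AlgSt.RepByAlgSpWith (AlgSp.LocP @Smooth) x) :
    ∃ x' : FibCat.overCat U ⥤ᵇ X, AlgSt.RepByAlgSpWith (AlgSp.LocP @Smooth) x' ∧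
      (AlgSp.RepWith @Surjective a → AlgSt.RepByAlgSpWith AlgSp.IsSurjectiveMor x →
        AlgSt.RepByAlgSpWith AlgSp.IsSurjectiveMor x') := by
  haveI := hX.isStack.1
  haveI : FibCat.IsFibGrpd (AlgSt.ofSp F.obj).p := isFibGrpd_ofPsh F.obj.obj
  haveI : FibCat.IsFibGrpd (FibCat.overCat U).p := isFibGrpd_overCat U
  obtain ⟨p, hp, hps⟩ := exists_chartFun F.property a hae
  have h := repWith_comp standard_smooth hp hx
  exact ⟨_, h, fun has hxs => surjective_comp (rep1_of_with h) (hps has) hxs⟩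

theorem etaleLocally_of_smoothLocally (hX : AlgSt.IsAlgStack Scheme.fppfPrecoverage X) {P : Scheme.{u} → Prop}
    (h : AlgSt.SmoothLocally P X) (F : AlgSp.Space S) (x : AlgSt.ofSp F.obj ⥤ᵇ X)
    (hx : AlgSt.RepByAlgSpWith (AlgSp.LocP @Smooth) x) : AlgSp.EtaleLocally P F.obj := by
  obtain ⟨U, a, hae, has⟩ := F.property.atlas
  obtain ⟨x', hx', -⟩ := exists_scheme_chart hX F a hae x hx
  exact ⟨U, a, hae, has, h U x' hx'⟩

theorem smoothLocally_of_space_atlas (hX : AlgSt.IsAlgStack Scheme.fppfPrecoverage X) {P : Scheme.{u} → Prop}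
    (hP : SmProp P) (F : AlgSp.Space S) (x : AlgSt.ofSp F.obj ⥤ᵇ X)
    (hx : AlgSt.RepByAlgSpWith (AlgSp.LocP @Smooth) x) (hs : AlgSt.RepByAlgSpWith AlgSp.IsSurjectiveMor x)
    (h : AlgSp.EtaleLocally P F.obj) : AlgSt.SmoothLocally P X := by
  obtain ⟨U, a, hae, has, hU⟩ := h
  obtain ⟨x', hx', hxs'⟩ := exists_scheme_chart hX F a hae x hx
  exact smoothLocally_of_atlas hX hP x' hx' (hxs' has hs) hU

/-- The identification of a scheme's space with its slice is an equivalence. -/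
theorem isEquivOver_ofOverCat (U : Over S) : FibCat.IsEquivOver (AlgSt.ofOverCat U) :=
  ⟨AlgSt.toOverCat U, ⟨eqToIso rfl⟩, ⟨eqToIso rfl⟩⟩

end Groth.Agent.H9St
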