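import Groth.Agent.Lib.AlgSpLocalRows
import Groth.Agent.Lib.H9StSmLoc
/-! Local Noetherianity of algebraic spaces descends along fppf surjections. -/

set_option autoImplicit false
set_option linter.style.haveILetI false
set_option linter.unusedVariables false
set_option backward.isDefEq.respectTransparency.types false

universe u

open CategoryTheory CategoryTheory.Limits AlgebraicGeometry Opposite Topology

noncomputable section

namespace Groth.Agent.ASp

open _root_.AlgSp

variable {S : Scheme.{u}} {X Y : Sp S}

/-- Every etale chart of a locally Noetherian space is locally Noetherian. -/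
theorem isLocallyNoetherian_chart (hN : IsLocNoethSp X) {U : Over S} (a : (yon S).obj U ⟶ X)
    (ha : RepWith @Etale a) : IsLocallyNoetherian U.left := by
  obtain ⟨U₀, p, hpe, hps, hU₀⟩ := hN
  haveI : IsLocallyNoetherian U₀.left := hU₀
  obtain ⟨R, fst, snd, sq⟩ := exists_sq ha.rep p
  obtain ⟨e, rfl⟩ := (yon S).map_surjective fst
  haveI : Etale snd.left := ha.2 p _ snd sq
  haveI : Etale e.left := hpe.2 a _ e sq.flip
  haveI : Surjective e.left := hps.2 a _ e sq.flip
  haveI : IsLocallyNoetherian R.left := LocallyOfFiniteType.isLocallyNoetherian snd.left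
  exact H9St.isLocallyNoetherian_of_fppf e.left

/-- Local Noetherianity descends along surjective flat morphisms, locally of finite presentation. -/
theorem isLocNoethSp_of_fppf (hX : IsAlgSpace X) (hY : IsAlgSpace Y) {f : X ⟶ Y}
    (hfp : LocP @LocallyOfFinitePresentation f) (hfl : LocP @Flat f) (hs : IsSurjectiveMor f)
    (hN : IsLocNoethSp X) : IsLocNoethSp Y := by
  obtain ⟨V, b, hbe, hbs⟩ := hY.atlas
  obtain ⟨U, a, α, hae, has, hab, -⟩ := exists_chart_lift (f := f) hX hY hbe hbs
  haveI : Flat α.left := hfl a b α hae hbe hab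
  haveI : LocallyOfFinitePresentation α.left := hfp a b α hae hbe hab
  haveI : IsLocallyNoetherian U.left := isLocallyNoetherian_chart hN a hae
  let O : V.left.Opens := ⟨Set.range α.left, α.left.isOpenMap.isOpen_range⟩
  let V' : Over S := Over.mk (O.ι ≫ V.hom)
  let i : V' ⟶ V := Over.homMk O.ι rfl
  haveI : IsOpenImmersion i.left := inferInstanceAs (IsOpenImmersion O.ι)
  let α' : U.left ⟶ O := IsOpenImmersion.lift O.ι α.left (by rw [Scheme.Opens.range_ι]; exact subset_rfl)
  have hα' : α' ≫ O.ι = α.left := IsOpenImmersion.lift_fac _ _ _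
  haveI : Surjective α' := ⟨fun v => by
    obtain ⟨u, hu⟩ := v.2
    exact ⟨u, O.ι.injective (by rw [← Scheme.Hom.comp_apply, hα']; exact hu)⟩⟩
  haveI : Flat α' := by
    have sq : IsPullback (𝟙 U.left) α' α.left O.ι :=
      ⟨⟨by rw [Category.id_comp, hα']⟩, ⟨PullbackCone.IsLimit.mk _ (fun s => s.fst) (fun s => Category.comp_id _)
        (fun s => by rw [← cancel_mono O.ι, Category.assoc, hα', s.condition])
        (fun s m h₁ _ => by simpa using h₁)⟩⟩
    exact MorphismProperty.of_isPullback (P := @Flat) sq ‹Flat α.left›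
  haveI : LocallyOfFinitePresentation α' := by
    haveI : LocallyOfFinitePresentation (α' ≫ O.ι) := hα'.symm ▸ ‹LocallyOfFinitePresentation α.left›
    exact locallyOfFinitePresentation_of_comp α' O.ι
  have hc : RepWith @Etale ((yon S).map i ≫ b) :=
    repWith_comp ((repWith_yon_map_iff _ _).2 (inferInstance : Etale i.left)) hbe
  refine ⟨V', (yon S).map i ≫ b, hc, repWith_surjective_of_surjective_map hc.rep fun y => ?_,
    H9St.isLocallyNoetherian_of_fppf α'⟩
  obtain ⟨x, rfl⟩ := hs y
  obtain ⟨u, rfl⟩ := surjective_ofPt_of_repWith has x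
  refine ⟨Points.schemeHomeo V' (α' u), ?_⟩
  refine (Points.ofPt_eq_map_ofScheme ((yon S).map i ≫ b) (α' u)).symm.trans ?_
  rw [ofPt_yon_map_comp, Points.map_ofPt, hab, ofPt_yon_map_comp]
  exact congrArg (Points.ofPt b) ((congrArg (fun g => g u) hα'))

end Groth.Agent.ASp
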