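import Groth.Agent.Lib.AlgSpFieldDescent
/-! Decent algebraic spaces with one point. -/

set_option autoImplicit false
set_option linter.style.haveILetI false
set_option linter.unusedVariables false
set_option backward.isDefEq.respectTransparency.types false

universe u

open CategoryTheory CategoryTheory.Limits AlgebraicGeometry Opposite Topology

noncomputable section

namespace Groth.Agent.ASp

open _root_.AlgSp

variable {S : Scheme.{u}} {F : Sp S}

theorem isIso_of_flat_qc_surj_mono {A B : Scheme.{u}} (f : A ⟶ B) [Flat f] [QuasiCompact f] [Surjective f] [Mono f] :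
    IsIso f :=
  MorphismProperty.of_pullback_snd_of_descendsAlong
    (P := MorphismProperty.isomorphisms Scheme.{u}) (Q := @Surjective ⊓ @Flat ⊓ @QuasiCompact)
    (g := f) ⟨⟨inferInstance, inferInstance⟩, inferInstance⟩
    (show IsIso (pullback.snd f f) from inferInstance)

theorem flat_of_no_specialization {A B : Scheme.{u}} [IsReduced B] (f : A ⟶ B)
    (h : ∀ b b' : B, b' ⤳ b → b' = b) : Flat f := by
  refine Flat.of_stalkMap _ fun a => ?_
  have hc : closure {f a} ∈ irreducibleComponents B := by
    refine ⟨isIrreducible_singleton.closure, fun C hC hle => ?_⟩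
    obtain ⟨η, hη⟩ := QuasiSober.sober hC.closure isClosed_closure
    have hs : η ⤳ f a := hη.specializes (subset_closure (hle (subset_closure rfl)))
    have := h _ _ hs
    subst this
    intro z hz
    exact hη.def.symm ▸ subset_closure hz
  have hF := isField_stalk_of_closure_mem_irreducibleComponents B (f a) hc
  letI := hF.toField
  algebraize [(f.stalkMap a).hom]
  show Module.Flat _ _
  infer_instance

/-- A reduced decent algebraic space with one point is the spectrum of a field. -/
theorem exists_iso_field_of_onePoint (hF : IsAlgSpace F) (hd : IsDecent F) {U : Over S} {a : (yon S).obj U ⟶ F}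
    (hae : RepWith @Etale a) (has : RepWith @Surjective a) (hr : IsReduced U.left) [Nonempty (Points F)]
    [Subsingleton (Points F)] :
    ∃ (k : Type u) (_ : Field k) (str : Spec (CommRingCat.of k) ⟶ S), Nonempty ((yon S).obj (Over.mk str) ≅ F) := by
  obtain ⟨P, hP, hm, hq⟩ := hd (Classical.arbitrary _)
  haveI : Mono P.toHom := hm
  obtain ⟨V, fst, snd, sq⟩ := exists_sq hq.rep a
  haveI : QuasiCompact snd.left := hq.2 a fst snd sq
  haveI : Mono snd := (yon S).mono_of_mono_map sq.mono_snd_of_mono
  haveI : Mono snd.left := inferInstanceAs (Mono ((Over.forget S).map snd))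
  haveI : Flat snd.left := flat_of_no_specialization _ fun b b' hb =>
    eq_of_specializes_of_decentAt a hae (hd _) (Subsingleton.elim _ _) hb
  haveI : Surjective snd.left := ⟨fun u => by
    obtain ⟨v, -, hv⟩ := exists_pt_of_sq sq (Points.schemeHomeo _ (IsLocalRing.closedPoint P.K)) u
      (Subsingleton.elim _ _)
    exact ⟨v, hv⟩⟩
  haveI := isIso_of_flat_qc_surj_mono snd.left
  haveI : IsIso ((Over.forget S).map snd) := ‹IsIso snd.left›
  haveI : IsIso snd := isIso_of_reflects_iso snd (Over.forget S)
  haveI := isLocallySurjective_of_etale hae has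
  haveI : Epi a := inferInstance
  haveI : Epi P.toHom := epi_of_epi_fac
    (show ((inv ((yon S).map snd)) ≫ fst) ≫ P.toHom = a by rw [Category.assoc, sq.w, IsIso.inv_hom_id_assoc])
  haveI : IsIso P.toHom := isIso_of_mono_of_epi _
  exact ⟨P.K, P.field, P.str, ⟨asIso P.toHom⟩⟩

end Groth.Agent.ASp
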