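import Groth.Agent.Lib.AlgSpLocP
import Groth.Agent.Lib.H6.EtaleReduced
import Groth.Prelude.Def_AlgSpSub
import Groth.Agent.Lib.AlgSpCharts
import Mathlib.AlgebraicGeometry.Morphisms.SchemeTheoreticallyDominant
/-! Reducedness descends along flat surjective morphisms. -/

set_option autoImplicit false
set_option linter.style.haveILetI false
set_option linter.unusedVariables false
set_option backward.isDefEq.respectTransparency.types false

universe u

open CategoryTheory CategoryTheory.Limits AlgebraicGeometry Opposite Topology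

noncomputable section

namespace Groth.Agent.ASp

open _root_.AlgSp

theorem isReduced_of_flat_surjective {A B : Scheme.{u}} (f : A ⟶ B) [Flat f] [Surjective f] [IsReduced A] :
    IsReduced B := by
  haveI : ∀ b : B, _root_.IsReduced (B.presheaf.stalk b) := fun b => by
    obtain ⟨a, rfl⟩ := f.surjective b
    have hfl := Flat.stalkMap f a
    letI := (f.stalkMap a).hom.toAlgebra
    haveI : Module.Flat (B.presheaf.stalk (f a)) (A.presheaf.stalk a) := hfl
    haveI : IsLocalHom (algebraMap (B.presheaf.stalk (f a)) (A.presheaf.stalk a)) :=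
      inferInstanceAs (IsLocalHom (f.stalkMap a).hom)
    haveI := Module.FaithfullyFlat.of_flat_of_isLocalHom (A := B.presheaf.stalk (f a)) (B := A.presheaf.stalk a)
    exact isReduced_of_injective (algebraMap (B.presheaf.stalk (f a)) (A.presheaf.stalk a))
      (FaithfulSMul.algebraMap_injective _ _)
  exact isReduced_of_isReduced_stalk B

theorem isReduced_of_smooth_scheme {V U : Scheme.{u}} (e : V ⟶ U) [Smooth e] [IsReduced U] : IsReduced V := by
  let 𝒰 := (U.affineCover.pullback₁ e).bind fun i => ((U.affineCover.pullback₁ e).X i).affineCover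
  haveI : ∀ i, IsReduced (𝒰.X i) := fun i => by
    let g : 𝒰.X i ⟶ U.affineCover.X i.1 :=
      ((U.affineCover.pullback₁ e).X i.1).affineCover.f i.2 ≫ pullback.snd e (U.affineCover.f i.1)
    haveI : IsAffine (U.affineCover.X i.1) := inferInstance
    haveI : IsAffine (𝒰.X i) := inferInstanceAs (IsAffine (((U.affineCover.pullback₁ e).X i.1).affineCover.X i.2))
    haveI : Smooth (pullback.snd e (U.affineCover.f i.1)) := MorphismProperty.pullback_snd _ _ ‹Smooth e›
    haveI : Smooth g := MorphismProperty.comp_mem @Smooth _ _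
      (show Smooth (((U.affineCover.pullback₁ e).X i.1).affineCover.f i.2) from inferInstance) ‹_›
    haveI : IsReduced (U.affineCover.X i.1) := isReduced_of_isOpenImmersion (U.affineCover.f i.1)
    have h : g.appTop.hom.Smooth := (HasRingHomProperty.iff_of_isAffine (P := @Smooth)).1 ‹_›
    algebraize [g.appTop.hom]
    haveI : _root_.IsReduced Γ(𝒰.X i, ⊤) := H6.EtaleReduced.isReduced_of_smooth Γ(U.affineCover.X i.1, ⊤) Γ(𝒰.X i, ⊤)
    exact isReduced_of_isAffine_isReduced (𝒰.X i)
  exact IsReduced.of_openCover V 𝒰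

theorem isReduced_of_etale_scheme {V U : Scheme.{u}} (e : V ⟶ U) [Etale e] [IsReduced U] : IsReduced V :=
  isReduced_of_smooth_scheme e

variable {S : Scheme.{u}}

theorem isReducedSp_of_flat_surjective {X Y : Sp S} (hX : IsAlgSpace X) (hY : IsAlgSpace Y) {f : X ⟶ Y}
    (hfl : LocP @Flat f) (hs : IsSurjectiveMor f) (h : IsReducedSp X) : IsReducedSp Y := by
  obtain ⟨U, a, hae, has, hr⟩ := h
  haveI : IsReduced U.left := hr
  obtain ⟨V, q, hqe, hqs⟩ := hY.atlas
  refine ⟨V, q, hqe, hqs, ?_⟩
  obtain ⟨W, p, α, hpe, hps, hpf, hlift⟩ := exists_chart_lift (f := f) hX hY hqe hqs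
  obtain ⟨W', fst, snd, sq, hse⟩ := exists_sq_prop hpe a
  obtain ⟨t, rfl⟩ := (yon S).map_surjective fst
  haveI : Etale snd.left := hse
  haveI : IsReduced W'.left := isReduced_of_etale_scheme snd.left
  haveI : Etale t.left := hae.2 p ((yon S).map snd) t sq.flip
  haveI : Surjective t.left := has.2 p ((yon S).map snd) t sq.flip
  haveI : IsReduced W.left := isReduced_of_flat_surjective t.left
  haveI : Flat α.left := hfl p q α hpe hqe hpf
  haveI : Surjective α.left := ⟨fun v => by
    obtain ⟨x, hx⟩ := hs (Points.ofPt q v)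
    obtain ⟨w, -, hw⟩ := hlift x v hx
    exact ⟨w, hw⟩⟩
  exact isReduced_of_flat_surjective α.left

theorem isReducedSp_of_smooth {X Y : Sp S} (hX : IsAlgSpace X) (hY : IsAlgSpace Y) {f : X ⟶ Y}
    (hf : LocP @Smooth f) (h : IsReducedSp Y) : IsReducedSp X := by
  obtain ⟨V, q, hqe, hqs, hr⟩ := h
  haveI : IsReduced V.left := hr
  obtain ⟨W, p, α, hpe, hps, hpf, -⟩ := exists_chart_lift (f := f) hX hY hqe hqs
  haveI : Smooth α.left := hf p q α hpe hqe hpf
  exact ⟨W, p, hpe, hps, isReduced_of_smooth_scheme α.left⟩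

/-- A morphism from a reduced space factors through a closed subspace containing its image. -/
theorem exists_factor_of_reduced {X Y Z : Sp S} {i : Z ⟶ X} (hi : RepWith @IsClosedImmersion i)
    (hY : IsReducedSp Y) (f : Y ⟶ X) (h : Set.range (Points.map f) ⊆ Set.range (Points.map i)) :
    ∃ g : Y ⟶ Z, g ≫ i = f := by
  obtain ⟨U, a, hae, has, hr⟩ := hY
  haveI : IsReduced U.left := hr
  have sq := IsPullback.of_hasPullback i f
  obtain ⟨T, fst, snd, sqT, hs⟩ := exists_sq_prop (repWith_baseChange sq hi) a
  haveI : IsClosedImmersion snd.left := hs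
  haveI : Surjective snd.left := ⟨fun v => by
    obtain ⟨z, hz⟩ := h ⟨Points.ofPt a v, rfl⟩
    obtain ⟨w, -, hw⟩ := exists_of_isPullback sq z (Points.ofPt a v) hz
    obtain ⟨t, -, ht⟩ := exists_pt_of_sq sqT w v hw
    exact ⟨t, ht⟩⟩
  haveI : IsSchemeTheoreticallyDominant snd.left :=
    IsSchemeTheoreticallyDominant.of_isDominant snd.left
  haveI : IsIso ((Over.forget S).map snd) := by
    have h1 : snd.left.ker = ⊥ := snd.left.ker_eq_bot
    have : IsIso snd.left.imageι := (Scheme.isIso_subschemeι_iff_eq_bot _).2 h1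
    show IsIso snd.left
    rw [← snd.left.toImage_imageι]
    infer_instance
  haveI : IsIso snd := isIso_of_reflects_iso snd (Over.forget S)
  haveI := isLocallySurjective_of_etale hae has
  haveI : Epi a := inferInstance
  have hfac : (inv ((yon S).map snd) ≫ fst) ≫ pullback.snd i f = a := by
    rw [Category.assoc, sqT.w, IsIso.inv_hom_id_assoc]
  haveI : Epi (pullback.snd i f) := epi_of_epi_fac hfac
  haveI : Mono i := mono_of_repWith_immersion (repWith_mono closedImmersion_le_immersion hi)
  haveI : Mono (pullback.snd i f) := sq.mono_snd_of_mono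
  haveI := isIso_of_mono_of_epi (pullback.snd i f)
  exact ⟨inv (pullback.snd i f) ≫ pullback.fst i f, by
    rw [Category.assoc, pullback.condition, IsIso.inv_hom_id_assoc]⟩

end Groth.Agent.ASp

namespace Groth.Agent.ASp

open _root_.AlgSp

theorem isReduced_stalk_of_flat {A B : Scheme.{u}} (f : A ⟶ B) [Flat f] (a : A)
    [_root_.IsReduced (A.presheaf.stalk a)] : _root_.IsReduced (B.presheaf.stalk (f a)) := by
  have hfl := Flat.stalkMap f a
  letI := (f.stalkMap a).hom.toAlgebra
  haveI : Module.Flat (B.presheaf.stalk (f a)) (A.presheaf.stalk a) := hfl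
  haveI : IsLocalHom (algebraMap (B.presheaf.stalk (f a)) (A.presheaf.stalk a)) :=
    inferInstanceAs (IsLocalHom (f.stalkMap a).hom)
  haveI := Module.FaithfullyFlat.of_flat_of_isLocalHom (A := B.presheaf.stalk (f a)) (B := A.presheaf.stalk a)
  exact isReduced_of_injective (algebraMap (B.presheaf.stalk (f a)) (A.presheaf.stalk a))
    (FaithfulSMul.algebraMap_injective _ _)

theorem flat_fromSpecStalk' (X : Scheme.{u}) (x : X) : Flat (X.fromSpecStalk x) := by
  obtain ⟨U, hU, hxU, -⟩ := exists_isAffineOpen_mem_and_subset (x := x) (U := ⊤) trivial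
  rw [← hU.fromSpecStalk_eq_fromSpecStalk hxU]
  let := TopCat.Presheaf.algebra_section_stalk X.presheaf ⟨x, hxU⟩
  have := hU.isLocalization_stalk ⟨x, hxU⟩
  have : Flat (Spec.map (X.presheaf.germ U x hxU)) := by
    rw [HasRingHomProperty.Spec_iff (P := @Flat)]
    exact (RingHom.flat_algebraMap_iff.mpr (IsLocalization.flat (X.presheaf.stalk x)
      (hU.primeIdealOf ⟨x, hxU⟩).asIdeal.primeCompl))
  exact MorphismProperty.comp_mem _ (Spec.map (X.presheaf.germ U x hxU)) hU.fromSpec this
    inferInstance

theorem isReduced_stalk_of_etale {W V : Scheme.{u}} (c : W ⟶ V) [Etale c] (w : W)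
    [_root_.IsReduced (V.presheaf.stalk (c w))] : _root_.IsReduced (W.presheaf.stalk w) := by
  let ι := V.fromSpecStalk (c w)
  haveI : Flat ι := flat_fromSpecStalk' V (c w)
  haveI : IsReduced (pullback ι c) := by
    haveI : Etale (pullback.fst ι c) := MorphismProperty.pullback_fst _ _ ‹Etale c›
    haveI : IsReduced (Spec (V.presheaf.stalk (c w))) := inferInstance
    exact isReduced_of_etale_scheme (pullback.fst ι c)
  obtain ⟨z, -, hz⟩ := Scheme.Pullback.exists_preimage_pullback (f := ι) (g := c)
    (IsLocalRing.closedPoint (V.presheaf.stalk (c w))) w (Scheme.fromSpecStalk_closedPoint)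
  haveI : Flat (pullback.snd ι c) := MorphismProperty.pullback_snd _ _ ‹Flat ι›
  have := isReduced_stalk_of_flat (pullback.snd ι c) z
  rwa [hz] at this

variable {S : Scheme.{u}}

theorem isReducedSp_iff_hasAt {X : Sp S} (hX : IsAlgSpace X) :
    IsReducedSp X ↔ ∀ x : Points X, HasAt (fun U u => _root_.IsReduced ↥(U.presheaf.stalk u)) X x := by
  constructor
  · rintro ⟨U, a, hae, has, hr⟩ x
    haveI : IsReduced U.left := hr
    obtain ⟨u, rfl⟩ := surjective_ofPt_of_repWith has x
    exact ⟨U, a, u, hae, rfl, inferInstance⟩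
  · intro h
    obtain ⟨U, a, hae, has⟩ := hX.atlas
    refine ⟨U, a, hae, has, ?_⟩
    haveI : ∀ u : U.left, _root_.IsReduced (U.left.presheaf.stalk u) := fun u => by
      obtain ⟨V, b, v, hbe, hv, hr⟩ := h (Points.ofPt a u)
      obtain ⟨W, fst, snd, sq, hs⟩ := exists_sq_prop hbe a
      obtain ⟨t, rfl⟩ := (yon S).map_surjective fst
      haveI : Etale snd.left := hs
      haveI : Etale t.left := hae.2 b ((yon S).map snd) t sq.flip
      obtain ⟨w, hw1, hw2⟩ := exists_pt_of_sq sq (Points.schemeHomeo _ v) u
        ((Points.ofPt_eq_map_ofScheme b v).symm.trans hv)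
      have hwv : t.left w = v := (Points.schemeHomeo V).injective (by
        rw [← hw1, Points.ofPt_eq_map_ofScheme]
        exact (Points.map_yon_map_apply t w).symm)
      haveI : _root_.IsReduced (V.left.presheaf.stalk (t.left w)) := by rw [hwv]; exact hr
      haveI := isReduced_stalk_of_etale t.left w
      rw [← hw2]
      exact isReduced_stalk_of_flat snd.left w
    exact isReduced_of_isReduced_stalk U.left

end Groth.Agent.ASp
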