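import Groth.Agent.Lib.AlgSpDecent
import Groth.Agent.Lib.AlgSpDiag
import Groth.Agent.Lib.AlgSpCharts
import Groth.Agent.Lib.AlgSpReduced
import Mathlib.AlgebraicGeometry.Morphisms.FlatMono
/-! Reduced spaces over a decent point factor through it. -/

set_option autoImplicit false
set_option linter.style.haveILetI false
set_option linter.unusedVariables false
set_option backward.isDefEq.respectTransparency.types false

universe u

open CategoryTheory CategoryTheory.Limits AlgebraicGeometry Opposite Topology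

noncomputable section

namespace Groth.Agent.ASp

open _root_.AlgSp

/-- A reduced affine scheme over a single point of an affine scheme factors through the residue field. -/
theorem exists_factor_residueField {T U : Scheme.{u}} [IsAffine T] [IsReduced T] [IsAffine U] (g : T ⟶ U) (u : U)
    (hg : ∀ t, g t = u) :
    ∃ (K : Type u) (_ : Field K) (d : T ⟶ Spec (CommRingCat.of K)) (e : Spec (CommRingCat.of K) ⟶ U),
      d ≫ e = g ∧ ∀ z, e z = u := by
  let A := Γ(U, ⊤)
  let B := Γ(T, ⊤)
  let φ : A →+* B := g.appTop.hom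
  let P : PrimeSpectrum A := U.isoSpec.hom u
  have key : ∀ (Q : PrimeSpectrum B), PrimeSpectrum.comap φ Q = P := fun Q => by
    have e := congrArg (fun m : T ⟶ Spec A => m (T.isoSpec.inv Q)) (Scheme.isoSpec_hom_naturality g)
    simp only [Scheme.Hom.comp_apply] at e
    rw [show T.isoSpec.hom (T.isoSpec.inv Q) = Q by
      rw [← Scheme.Hom.comp_apply, Iso.inv_hom_id]; rfl, hg] at e
    exact e
  have hker : P.asIdeal ≤ RingHom.ker φ := fun a ha => by
    rw [RingHom.mem_ker]
    refine IsNilpotent.eq_zero ?_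
    rw [nilpotent_iff_mem_prime]
    intro J hJ
    have := key ⟨J, hJ⟩
    rw [← this] at ha
    exact ha
  have hunit : P.asIdeal.primeCompl ≤ (IsUnit.submonoid B).comap φ := fun a ha => by
    by_contra hu
    obtain ⟨M, hM, hmem⟩ := exists_max_ideal_of_mem_nonunits (show φ a ∈ nonunits B from hu)
    exact ha (by rw [← key ⟨M, hM.isPrime⟩]; exact hmem)
  let ψ : P.asIdeal.ResidueField →+* B := Ideal.ResidueField.lift P.asIdeal φ hker hunit
  refine ⟨P.asIdeal.ResidueField, inferInstance, T.isoSpec.hom ≫ Spec.map (CommRingCat.ofHom ψ),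
    Spec.map (CommRingCat.ofHom (algebraMap A P.asIdeal.ResidueField)) ≫ U.isoSpec.inv, ?_, fun z => ?_⟩
  · rw [Category.assoc, ← Spec.map_comp_assoc, ← CommRingCat.ofHom_comp]
    have : ψ.comp (algebraMap A P.asIdeal.ResidueField) = φ := RingHom.ext fun a => by
      simp [ψ]
    rw [this, show CommRingCat.ofHom φ = g.appTop from rfl, Scheme.isoSpec_hom_naturality_assoc, Iso.hom_inv_id,
      Category.comp_id]
  · have hz : PrimeSpectrum.comap (algebraMap A P.asIdeal.ResidueField) z = P := by
      have : z.asIdeal = ⊥ := (Ideal.eq_bot_or_top _).resolve_right z.isPrime.ne_top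
      ext a
      rw [PrimeSpectrum.comap_asIdeal, this, Ideal.mem_comap, Ideal.mem_bot,
        Ideal.algebraMap_residueField_eq_zero]
    rw [Scheme.Hom.comp_apply]
    change U.isoSpec.inv (PrimeSpectrum.comap (algebraMap A P.asIdeal.ResidueField) z) = u
    rw [hz, ← Scheme.Hom.comp_apply, Iso.hom_inv_id]
    rfl

/-- A reduced scheme over the image of a quasi-compact monomorphism with finitely many points and no
specializations lifts to its source. -/
theorem isIso_pullback_fst_of_range {T U V : Scheme.{u}} [IsReduced T] [IsAffine U] (g : T ⟶ U) (j : V ⟶ U)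
    [Mono j] [QuasiCompact j] (hfin : (Set.range j).Finite)
    (hspec : ∀ a ∈ Set.range j, ∀ b ∈ Set.range j, a ⤳ b → a = b) (hg : Set.range g ⊆ Set.range j) :
    IsIso (pullback.fst g j) := by
  haveI : Mono (pullback.fst g j) := inferInstance
  have loc : ∀ t : T, ∃ O : T.Opens, t ∈ O ∧ ∃ l : O.toScheme ⟶ pullback g j, l ≫ pullback.fst g j = O.ι := by
    intro t
    have hbad : ((Set.range j) \ {g t}).Finite := hfin.subset Set.diff_subset
    have hN : ∀ a ∈ Set.range j \ {g t}, ∃ N : Set U, IsOpen N ∧ g t ∈ N ∧ a ∉ N := by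
      intro a ha
      by_contra hc
      push Not at hc
      exact ha.2 (hspec a ha.1 _ (hg ⟨t, rfl⟩) (specializes_iff_forall_open.2 fun N hN ht => hc N hN ht))
    choose N hNo hNt hNa using hN
    haveI := hbad.to_subtype
    let O₀ : U.Opens := ⟨⋂ a : ↥(Set.range j \ {g t}), N a.1 a.2, isOpen_iInter_of_finite fun a => hNo a.1 a.2⟩
    obtain ⟨O, hO, htO, hOsub⟩ := exists_isAffineOpen_mem_and_subset (X := T) (x := t) (U := g ⁻¹ᵁ O₀)
      (Set.mem_iInter.2 fun a => hNt a.1 a.2)
    haveI : IsAffine O.toScheme := hO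
    have hOu : ∀ z : O.toScheme, (O.ι ≫ g) z = g t := fun z => by
      by_contra hne
      exact hNa _ ⟨hg ⟨O.ι z, rfl⟩, hne⟩ (Set.mem_iInter.1 (hOsub z.2) ⟨_, hg ⟨O.ι z, rfl⟩, hne⟩)
    obtain ⟨K, hK, d, e, hde, he⟩ := exists_factor_residueField (O.ι ≫ g) (g t) hOu
    haveI : Surjective (pullback.fst e j) := ⟨fun z => by
      obtain ⟨v, hv⟩ := hg ⟨t, rfl⟩
      obtain ⟨w, hw, -⟩ := Scheme.Pullback.exists_preimage_pullback z v ((he z).trans hv.symm)
      exact ⟨w, hw⟩⟩
    haveI : QuasiCompact (pullback.fst e j) := inferInstance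
    haveI : IsIntegral (Spec (CommRingCat.of K)) := inferInstance
    haveI : Flat (pullback.fst e j) := inferInstance
    haveI : IsIso (pullback.fst e j) := Flat.isIso_of_surjective_of_mono _
    refine ⟨O, htO, pullback.lift O.ι (d ≫ inv (pullback.fst e j) ≫ pullback.snd e j) ?_, pullback.lift_fst _ _ _⟩
    rw [Category.assoc, Category.assoc, ← pullback.condition, IsIso.inv_hom_id_assoc, hde]
  choose O hO l hl using loc
  refine (IsZariskiLocalAtTarget.iff_of_openCover (P := MorphismProperty.isomorphisms Scheme.{u})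
    (T.openCoverOfIsOpenCover O (TopologicalSpace.IsOpenCover.mk (by
      rw [eq_top_iff]; intro t _; exact TopologicalSpace.Opens.mem_iSup.2 ⟨t, hO t⟩)))).2 fun i => ?_
  show IsIso (pullback.snd (pullback.fst g j) (O i).ι)
  haveI : IsSplitEpi (pullback.snd (pullback.fst g j) (O i).ι) :=
    ⟨⟨⟨pullback.lift (l i) (𝟙 _) (by rw [Category.id_comp]; exact hl i), pullback.lift_snd _ _ _⟩⟩⟩
  exact isIso_of_mono_of_isSplitEpi _

variable {S : Scheme.{u}} {X Y : Sp S}

set_option maxHeartbeats 1000000 in
theorem exists_factor_fieldPt (hX : IsAlgSpace X) (hY : IsAlgSpace Y) (f : Y ⟶ X) (p : FieldPt X) [Mono p.toHom]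
    (hq : RepWith @QuasiCompact p.toHom) (hred : IsReducedSp Y) (hf : ∀ y, Points.map f y = Points.mk p) :
    ∃ g : Y ⟶ (yon S).obj p.pt, g ≫ p.toHom = f := by
  obtain ⟨W, a, hae, has, hW⟩ := hred
  haveI : IsReduced W.left := hW
  obtain ⟨κ, U, b, hU, hb, href⟩ := exists_refines_affine hX
  choose T l t sqT using fun i => exists_sq (hb i).rep (a ≫ f)
  choose l' hl' using fun i => (yon S).map_surjective (l i)
  obtain rfl : (fun i => (yon S).map (l' i)) = l := funext hl'
  haveI : ∀ i, Etale (t i).left := fun i => (hb i).2 _ _ _ (sqT i)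
  have sq0 := IsPullback.of_hasPullback f p.toHom
  have hrep : Representable (pullback.fst f p.toHom) :=
    MorphismProperty.of_isPullback (P := Representable) sq0.flip hq.rep
  have href' : Refines (fun i => (yon S).obj (T i)) (fun i => (yon S).map (t i) ≫ a) := by
    refine refines_of_etale _ (fun i => repWith_comp ((repWith_yon_map_iff _ _).2 inferInstance) hae) fun y => ?_
    obtain ⟨w, hw⟩ := surjective_map_of_repWith has y
    obtain ⟨w₀, rfl⟩ := (Points.schemeHomeo W).surjective w
    obtain ⟨i, z, hz⟩ := href.exists_pt (Points.map (a ≫ f) (Points.schemeHomeo W w₀))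
    obtain ⟨v, -, hv⟩ := exists_pt_of_sq (sqT i) z w₀ (by rw [hz, Points.ofPt_eq_map_ofScheme]; rfl)
    refine ⟨i, v, ?_⟩
    rw [← hw, ofPt_yon_map_comp, hv, Points.ofPt_eq_map_ofScheme]
    rfl
  choose Z m n sqZ using fun i => exists_sq hrep ((yon S).map (t i) ≫ a)
  have hiso : RepWith (MorphismProperty.isomorphisms Scheme.{u}) (pullback.fst f p.toHom) := by
    refine repWith_of_refines hrep href' sqZ fun i => (repWith_yon_map_iff _ _).2 ?_
    haveI := hU i
    haveI : IsReduced (T i).left := isReduced_of_etale_scheme (t i).left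
    obtain ⟨Vp, c, jj, sqV⟩ := exists_sq hq.rep (b i)
    haveI : QuasiCompact jj.left := hq.2 (b i) c jj sqV
    haveI : Mono jj := (yon S).mono_of_mono_map sqV.mono_snd_of_mono
    haveI : Mono ((Over.forget S).map jj) := inferInstance
    haveI : Mono jj.left := ‹Mono ((Over.forget S).map jj)›
    have big : IsPullback (m i ≫ pullback.snd f p.toHom) ((yon S).map (n i)) p.toHom
        ((yon S).map (l' i) ≫ b i) := by
      rw [(sqT i).w, ← Category.assoc]
      exact (sqZ i).paste_horiz sq0.flip
    obtain ⟨k, hk⟩ := (yon S).map_surjective (sqV.lift (m i ≫ pullback.snd f p.toHom)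
      ((yon S).map (n i) ≫ (yon S).map (l' i)) (by rw [big.w, Category.assoc]))
    have sqk : IsPullback ((yon S).map k) ((yon S).map (n i)) ((yon S).map jj) ((yon S).map (l' i)) :=
      IsPullback.of_right (by rw [hk, sqV.lift_fst]; exact big) (by rw [hk]; exact sqV.lift_snd _ _ _) sqV
    have sqk' : IsPullback (n i).left k.left (l' i).left jj.left :=
      ((IsPullback.of_map (yon S) ((yon S).map_injective (by
        rw [Functor.map_comp, Functor.map_comp]; exact sqk.w)) sqk).map (Over.forget S)).flip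
    have hr : ∀ v : ↥Vp.left, Points.ofPt (b i) (jj.left v) = Points.mk p := fun v => by
      have h1 : Points.ofPt (b i) (jj.left v) = Points.ofPt ((yon S).map jj ≫ b i) v := (ofPt_yon_map_comp _ _ _).symm
      rw [h1, ← sqV.w, Points.ofPt_eq_map_ofScheme, Points.map_comp]
      obtain ⟨z, hz⟩ := (Points.schemeHomeo p.pt).surjective (Points.map c (Points.ofScheme Vp v))
      rw [← hz, ← Points.ofPt_toHom p z, Points.ofPt_eq_map_ofScheme]
      rfl
    have hd : DecentAt (Points.mk p) := ⟨p, rfl, ‹_›, hq⟩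
    have hfib : Set.range jj.left ⊆ Points.ofPt (b i) ⁻¹' {Points.mk p} := by rintro _ ⟨v, rfl⟩; exact hr v
    have hg : Set.range (l' i).left ⊆ Set.range jj.left := by
      rintro _ ⟨z, rfl⟩
      have hzp : Points.ofPt (b i) ((l' i).left z) = Points.mk p := by
        rw [← ofPt_yon_map_comp, (sqT i).w, ← Category.assoc, Points.ofPt_eq_map_ofScheme, Points.map_comp]
        exact hf _
      let z₀ : ↥p.pt.left := (show ↥(Spec (CommRingCat.of p.K)) from IsLocalRing.closedPoint p.K)
      have hp0 : Points.map p.toHom (Points.schemeHomeo p.pt z₀) = Points.mk p :=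
        (Points.ofPt_eq_map_ofScheme p.toHom z₀).symm.trans (Points.ofPt_toHom p z₀)
      obtain ⟨v, -, hv⟩ := exists_pt_of_sq sqV (Points.schemeHomeo p.pt z₀) ((l' i).left z) (hp0.trans hzp.symm)
      exact ⟨v, hv⟩
    haveI := isIso_pullback_fst_of_range (l' i).left jj.left ((finite_fibre_of_decentAt (hb i) hd).subset hfib)
      (fun u' hu' u hu h => eq_of_specializes_of_decentAt (b i) (hb i) (by rw [hfib hu]; exact hd)
        ((hfib hu').trans (hfib hu).symm) h) hg
    rw [MorphismProperty.isomorphisms.iff, show (n i).left = sqk'.isoPullback.hom ≫ pullback.fst _ _ from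
      sqk'.isoPullback_hom_fst.symm]
    infer_instance
  haveI := isIso_of_repWith_iso hiso
  exact ⟨inv (pullback.fst f p.toHom) ≫ pullback.snd f p.toHom, by
    rw [Category.assoc, ← sq0.w, IsIso.inv_hom_id_assoc]⟩

end Groth.Agent.ASp
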