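import Groth.Agent.Lib.AlgSpClosedDescent
import Groth.Agent.Lib.AlgSpReduced
import Groth.Agent.Lib.H6.RedClosed
/-! Reduced induced closed subspaces. -/

set_option autoImplicit false
set_option linter.style.haveILetI false
set_option linter.unusedVariables false
set_option backward.isDefEq.respectTransparency.types false

universe u

open CategoryTheory CategoryTheory.Limits AlgebraicGeometry Opposite Topology

noncomputable section

namespace Groth.Agent.ASp

open _root_.AlgSp

variable {S : Scheme.{u}}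

theorem exists_isRedInduced {X : Sp S} (hX : IsAlgSpace X) {T : Set (Points X)} (hT : IsClosed T) :
    ∃ (Z : Sp S) (i : Z ⟶ X), IsAlgSpace Z ∧ IsRedInduced T i := by
  obtain ⟨U, p, hpe, hps⟩ := hX.atlas
  let C : TopologicalSpace.Closeds U.left := ⟨Points.ofPt p ⁻¹' T, hT.preimage (Points.continuous_ofPt p)⟩
  let I := Scheme.IdealSheafData.vanishingIdeal C
  let ZU : Over S := Over.mk (I.subschemeι ≫ U.hom)
  let ι : ZU ⟶ U := Over.homMk I.subschemeι
  haveI : IsClosedImmersion ι.left := inferInstanceAs (IsClosedImmersion I.subschemeι)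
  haveI : IsReduced ZU.left := H6.RedClosed.isReduced_vanishing C
  have hr : Set.range ι.left = (C : Set U.left) := H6.RedClosed.range_subschemeι_vanishing C
  -- invariance
  obtain ⟨R, r₁, r₂, sqR⟩ := exists_sq hpe.rep p
  obtain ⟨t₁, rfl⟩ := (yon S).map_surjective r₁
  haveI : Etale r₂.left := hpe.2 p _ r₂ sqR
  haveI : Etale t₁.left := hpe.2 p ((yon S).map r₂) t₁ sqR.flip
  have sqP := (IsPullback.of_hasPullback ι t₁).map (Over.forget S)
  haveI : Etale (pullback.fst ι t₁).left := MorphismProperty.of_isPullback sqP.flip ‹Etale t₁.left›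
  haveI : IsReduced (pullback ι t₁).left := isReduced_of_etale_scheme (pullback.fst ι t₁).left
  have hpp : ∀ z : ↥(pullback ι t₁).left, Points.ofPt p ((pullback.snd ι t₁ ≫ r₂).left z) =
      Points.ofPt p ((pullback.fst ι t₁ ≫ ι).left z) := fun z => by
    rw [pullback.condition, ← ofPt_yon_map_comp, ← ofPt_yon_map_comp, Functor.map_comp, Functor.map_comp,
      Category.assoc, Category.assoc, sqR.w]
  obtain ⟨l₂, hl₂⟩ := H6.RedClosed.exists_lift (pullback.snd ι t₁ ≫ r₂).left ι.left (by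
    rintro _ ⟨z, rfl⟩
    rw [hr]
    show Points.ofPt p _ ∈ T
    rw [hpp z, Over.comp_left, Scheme.Hom.comp_apply]
    have : ι.left ((pullback.fst ι t₁).left z) ∈ Set.range ι.left := ⟨_, rfl⟩
    rw [hr] at this
    exact this)
  have inv' : ∀ (V : Over S) (u u' : V ⟶ U), (yon S).map u ≫ p = (yon S).map u' ≫ p →
      (∃ l : V ⟶ ZU, l ≫ ι = u) → ∃ l : V ⟶ ZU, l ≫ ι = u' := by
    rintro V u u' e ⟨l, hl⟩
    obtain ⟨w, hw⟩ := (yon S).map_surjective (sqR.lift _ _ e)
    have hw₁ : w ≫ t₁ = u := (yon S).map_injective (by rw [Functor.map_comp, hw, sqR.lift_fst])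
    have hw₂ : w ≫ r₂ = u' := (yon S).map_injective (by rw [Functor.map_comp, hw, sqR.lift_snd])
    let m := pullback.lift l w (hl.trans hw₁.symm)
    let l₂' : pullback ι t₁ ⟶ ZU := Over.homMk l₂ (by
      show l₂ ≫ I.subschemeι ≫ U.hom = _
      rw [← Category.assoc, show l₂ ≫ I.subschemeι = _ from hl₂]
      exact Over.w _)
    refine ⟨m ≫ l₂', ?_⟩
    have e₂ : l₂' ≫ ι = pullback.snd ι t₁ ≫ r₂ := Over.OverMorphism.ext hl₂
    rw [Category.assoc, e₂, ← Category.assoc, pullback.lift_snd, hw₂]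
  obtain ⟨q, sq, hZ, hc⟩ := exists_closedSub p ι hX hpe hps inv'
  refine ⟨_, _, hZ, hc, ?_, ⟨ZU, q, repWith_baseChange sq.flip hpe, repWith_baseChange sq.flip hps, ‹_›⟩⟩
  ext x
  constructor
  · rintro ⟨z, rfl⟩
    obtain ⟨v, rfl⟩ := surjective_ofPt_of_repWith (repWith_baseChange sq.flip hps) z
    rw [Points.map_ofPt, sq.w, ofPt_yon_map_comp]
    have : ι.left v ∈ Set.range ι.left := ⟨v, rfl⟩
    rw [hr] at this
    exact this
  · intro hx
    obtain ⟨v, rfl⟩ := surjective_ofPt_of_repWith hps x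
    obtain ⟨z, rfl⟩ : v ∈ Set.range ι.left := hr ▸ hx
    exact ⟨Points.ofPt q z, by rw [Points.map_ofPt, sq.w, ofPt_yon_map_comp]⟩

end Groth.Agent.ASp
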