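import Groth.Agent.Lib.AlgSpProper

/-! Unramified morphisms of algebraic spaces and their diagonals; diagonals and separatedness. -/

set_option backward.isDefEq.respectTransparency.types false

universe u v

open CategoryTheory CategoryTheory.Limits AlgebraicGeometry Opposite Topology MorphismProperty

noncomputable section

namespace Groth.Agent.ASp

open _root_.AlgSp

variable {S : Scheme.{u}} {F G H X Y Z : Sp S}

/-- A morphism from an etale scheme to an unramified one is etale. -/
theorem etale_of_comp_unramified {U V W : Scheme.{u}} (α : U ⟶ V) (β : V ⟶ W) [LocallyOfFiniteType β]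
    [FormallyUnramified β] [Etale (α ≫ β)] : Etale α := by
  have h := MorphismProperty.of_isPullback (P := @IsOpenImmersion) (pullback_lift_diagonal_isPullback α β)
    (inferInstance : IsOpenImmersion (pullback.diagonal β))
  have : IsOpenImmersion (pullback.lift (𝟙 U) α (by simp) : U ⟶ pullback (α ≫ β) β) := h
  rw [show α = pullback.lift (𝟙 U) α (by simp) ≫ pullback.snd (α ≫ β) β from (pullback.lift_snd _ _ _).symm]
  infer_instance

/-- An etale monomorphism which is representable is an open immersion. -/
theorem repWith_isOpenImmersion_of_repWith_etale {f : F ⟶ G} (he : RepWith @Etale f)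
    (hm : RepWith (MorphismProperty.monomorphisms Scheme.{u}) f) : RepWith @IsOpenImmersion f :=
  repWith_of_forall he.rep fun U V g fst snd sq => by
    have : Etale snd.left := he.2 g fst snd sq
    have : Mono snd.left := hm.2 g fst snd sq
    exact IsOpenImmersion.of_flat_of_mono snd.left

theorem repWith_isOpenImmersion_diagonal (hX : IsAlgSpace X) (hY : IsAlgSpace Y) {f : X ⟶ Y}
    (h : LocP (@LocallyOfFiniteType ⊓ @FormallyUnramified) f) :
    RepWith @IsOpenImmersion (pullback.diagonal f) := by
  have hR := isAlgSpace_pullback f f hX hX hY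
  have hfst : LocP (@LocallyOfFiniteType ⊓ @FormallyUnramified) (pullback.fst f f) :=
    locP_baseChange hX hY hX (IsPullback.of_hasPullback f f).flip h
  have hd : LocP @Etale (pullback.diagonal f) := by
    obtain ⟨U, V, W, a, b, c, α, β, hae, has, hbe, hce, hab, hbc, hac⟩ :=
      exists_chart₂ hX hR hX (pullback.diagonal f) (pullback.fst f f)
    have hβ := hfst b c β hbe hce hbc
    have : LocallyOfFiniteType β.left := hβ.1
    have : FormallyUnramified β.left := hβ.2
    have : Etale (α.left ≫ β.left) := locP_of_repWith (P := @Etale) hX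
      (by rw [pullback.diagonal_fst]; exact repWith_of_isIso _) a c (α ≫ β) hae hce hac
    exact locP_of_chart hae has hbe hab (etale_of_comp_unramified α.left β.left)
  exact repWith_isOpenImmersion_of_repWith_etale (repWith_of_locP hR (representable_diagonal hX f) hd)
    (monoLFT_diagonal hX f).props.2.2.1

/-- Charts of the diagonal. -/
theorem locP_etale_of_diagonal (hX : IsAlgSpace X) (hY : IsAlgSpace Y) {f : X ⟶ Y}
    (hd : RepWith @IsOpenImmersion (pullback.diagonal f)) {U V : Over S} {a : (yon S).obj U ⟶ X}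
    {b : (yon S).obj V ⟶ Y} {α : U ⟶ V} (hae : RepWith @Etale a) (hbe : RepWith @Etale b)
    (hab : a ≫ f = (yon S).map α ≫ b) : LocP @Etale (pullback.diagonal ((yon S).map α)) := by
  have hU := IsAlgSpace.yon_obj U
  have hR := isAlgSpace_pullback f f hX hX hY
  have hK := isAlgSpace_pullback ((yon S).map α ≫ b) ((yon S).map α ≫ b) hU hU hY
  have hA := isAlgSpace_pullback ((yon S).map α) ((yon S).map α) hU hU (IsAlgSpace.yon_obj V)
  have hae' : LocP @Etale a := locP_of_repWith hX hae
  -- `pullback (af) (af) ⟶ pullback f f` is etale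
  have hP := isAlgSpace_pullback f ((yon S).map α ≫ b) hX hU hY
  have sq₁ := IsPullback.of_hasPullback f ((yon S).map α ≫ b)
  have sq₀ := IsPullback.of_hasPullback ((yon S).map α ≫ b) ((yon S).map α ≫ b)
  have sqR := IsPullback.of_hasPullback f f
  let m₁ := sq₁.lift (pullback.fst ((yon S).map α ≫ b) ((yon S).map α ≫ b) ≫ a)
    (pullback.snd _ _) (by rw [Category.assoc, hab]; exact sq₀.w)
  have hm₁ : IsPullback (pullback.fst ((yon S).map α ≫ b) ((yon S).map α ≫ b)) m₁ a
      (pullback.fst f ((yon S).map α ≫ b)) :=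
    IsPullback.of_bot (v₂₁ := pullback.snd f ((yon S).map α ≫ b)) (v₂₂ := f) (h₃₁ := (yon S).map α ≫ b)
      (by rw [sq₁.lift_snd, hab]; exact sq₀) (sq₁.lift_fst _ _ _).symm sq₁
  let m₂ := sqR.lift (pullback.fst f ((yon S).map α ≫ b)) (pullback.snd f ((yon S).map α ≫ b) ≫ a)
    (by rw [Category.assoc, hab]; exact sq₁.w)
  have hm₂ : IsPullback (pullback.snd f ((yon S).map α ≫ b)) m₂ a (pullback.snd f f) :=
    IsPullback.of_bot (v₂₁ := pullback.fst f f) (v₂₂ := f) (h₃₁ := f)
      (by rw [sqR.lift_fst, hab]; exact sq₁.flip) (sqR.lift_snd _ _ _).symm sqR.flip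
  have e₁ := locP_baseChange hU hX hP hm₁ hae'
  have e₂ := locP_baseChange hU hX hR hm₂ hae'
  -- the diagonal of an etale morphism is etale
  have hV := IsAlgSpace.yon_obj V
  have hbd : LocP @Etale (pullback.diagonal b) :=
    locP_etale_of_comp hV (isAlgSpace_pullback b b hV hV hY) hV
      (by rw [pullback.diagonal_fst]; exact locP_of_repWith hV (repWith_of_isIso _))
      (locP_baseChange hV hY hV (IsPullback.of_hasPullback b b).flip (locP_of_repWith hY hbe))
  have e₀ := locP_baseChange hV (isAlgSpace_pullback b b hV hV hY) hK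
    (pullback_map_diagonal_isPullback ((yon S).map α) ((yon S).map α) b) hbd
  have e := locP_comp hA hK hR e₀ (locP_comp hK hP hR e₁ e₂)
  refine locP_etale_of_comp hU hA hR ?_ e
  suffices a ≫ pullback.diagonal f = pullback.diagonal ((yon S).map α) ≫
      pullback.map _ _ ((yon S).map α ≫ b) ((yon S).map α ≫ b) (𝟙 _) (𝟙 _) b
        (Category.id_comp _).symm (Category.id_comp _).symm ≫ m₁ ≫ m₂ by
    rw [← this]
    exact locP_comp hU hX hR hae'
      (locP_of_repWith hR (repWith_mono (fun _ _ g (_ : IsOpenImmersion g) => inferInstanceAs (Etale g)) hd))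
  apply pullback.hom_ext
  · simp only [Category.assoc, m₁, m₂, IsPullback.lift_fst, pullback.map, pullback.lift_fst_assoc,
      pullback.diagonal_fst, pullback.diagonal_fst_assoc, Category.comp_id, Category.id_comp]
  · simp only [Category.assoc, m₁, m₂, IsPullback.lift_snd, IsPullback.lift_snd_assoc, pullback.map,
      pullback.lift_snd_assoc, pullback.diagonal_snd, pullback.diagonal_snd_assoc, Category.comp_id,
      Category.id_comp]

theorem locP_unramified_of_diagonal (hX : IsAlgSpace X) (hY : IsAlgSpace Y) {f : X ⟶ Y}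
    (hft : LocP @LocallyOfFiniteType f) (hd : RepWith @IsOpenImmersion (pullback.diagonal f)) :
    LocP (@LocallyOfFiniteType ⊓ @FormallyUnramified) f := by
  obtain ⟨U, V, a, b, α, hae, has, hbe, -, hab⟩ := exists_chart hX hY f
  have hA := IsAlgSpace.yon_obj U
  have sq : IsPullback ((yon S).map (pullback.fst α α)) ((yon S).map (pullback.snd α α))
      ((yon S).map α) ((yon S).map α) := (yon S).map_isPullback (IsPullback.of_hasPullback α α)
  let δ : U ⟶ pullback α α := pullback.diagonal α
  have he : LocP @Etale ((yon S).map δ ≫ sq.isoPullback.hom) := by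
    convert locP_etale_of_diagonal hX hY hd hae hbe hab using 1
    apply pullback.hom_ext <;>
      simp [δ, ← Functor.map_comp]
  have hδ : Etale δ.left := (locP_yon_iff (P := @Etale) δ).1 (locP_etale_of_comp hA (IsAlgSpace.yon_obj _)
    (isAlgSpace_pullback _ _ hA hA (IsAlgSpace.yon_obj V)) he (locP_of_repWith
      (isAlgSpace_pullback _ _ hA hA (IsAlgSpace.yon_obj V)) (repWith_of_isIso _)))
  have sqS := (IsPullback.of_hasPullback α α).map (Over.forget S)
  have hdiag : δ.left ≫ sqS.isoPullback.hom = pullback.diagonal α.left := by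
    apply pullback.hom_ext <;> rw [Category.assoc]
    · erw [sqS.isoPullback_hom_fst, pullback.diagonal_fst]
      change δ.left ≫ (pullback.fst α α).left = _
      rw [← Over.comp_left, pullback.diagonal_fst, Over.id_left]
    · erw [sqS.isoPullback_hom_snd, pullback.diagonal_snd]
      change δ.left ≫ (pullback.snd α α).left = _
      rw [← Over.comp_left, pullback.diagonal_snd, Over.id_left]
  have : Etale (pullback.diagonal α.left) := hdiag ▸ (inferInstance : Etale (δ.left ≫ sqS.isoPullback.hom))
  have : IsOpenImmersion (pullback.diagonal α.left) := IsOpenImmersion.of_flat_of_mono _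
  exact locP_of_chart hae has hbe hab ⟨hft a b α hae hbe hab, (inferInstance : FormallyUnramified α.left)⟩

/-- The graph factorisation through a morphism with diagonal in `P`. -/
theorem repWith_graph {P : MorphismProperty Scheme.{u}} [P.IsStableUnderBaseChange] {f : X ⟶ Y} {q : Y ⟶ Z}
    (hq : RepWith P (pullback.diagonal q)) :
    RepWith P (pullback.lift (𝟙 X) f (by simp) : X ⟶ pullback (f ≫ q) q) :=
  repWith_baseChange (pullback_lift_diagonal_isPullback f q) hq

theorem repWith_diag_of_morphism {P : MorphismProperty Scheme.{u}} [P.IsStableUnderBaseChange]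
    [P.IsStableUnderComposition] {f : X ⟶ Y} (hd : RepWith P (pullback.diagonal f))
    (hY : RepWith P (Limits.diag Y)) : RepWith P (Limits.diag X) := by
  have sq : IsPullback (pullback.fst f f ≫ f) (prod.lift (pullback.fst f f) (pullback.snd f f))
      (Limits.diag Y) (prod.map f f) := by
    have hw : (pullback.fst f f ≫ f) ≫ Limits.diag Y =
        prod.lift (pullback.fst f f) (pullback.snd f f) ≫ prod.map f f := by
      apply Limits.prod.hom_ext <;> simp [pullback.condition]
    refine ⟨⟨hw⟩, ⟨PullbackCone.IsLimit.mk hw (fun s => pullback.lift (s.snd ≫ prod.fst)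
      (s.snd ≫ prod.snd) ?_) (fun s => ?_) (fun s => ?_) fun s m h₁ h₂ => ?_⟩⟩
    · have h₁ := congrArg (· ≫ prod.fst) s.condition
      have h₂ := congrArg (· ≫ prod.snd) s.condition
      simp only [Category.assoc, prod.map_fst, prod.map_snd, prod.lift_fst, prod.lift_snd,
        Category.comp_id] at h₁ h₂
      rw [Category.assoc, Category.assoc, ← h₁, ← h₂]
    · have h₁ := congrArg (· ≫ prod.fst) s.condition
      simp only [Category.assoc, prod.map_fst, prod.lift_fst, Category.comp_id] at h₁
      rw [pullback.lift_fst_assoc, Category.assoc, ← h₁]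
    · rw [prod.comp_lift, pullback.lift_fst, pullback.lift_snd, ← prod.comp_lift, prod.lift_fst_snd,
        Category.comp_id]
    · apply pullback.hom_ext
      · rw [pullback.lift_fst, ← h₂, Category.assoc, prod.lift_fst]
      · rw [pullback.lift_snd, ← h₂, Category.assoc, prod.lift_snd]
  rw [show Limits.diag X = pullback.diagonal f ≫ prod.lift (pullback.fst f f) (pullback.snd f f) by
    apply Limits.prod.hom_ext <;> simp]
  exact repWith_comp hd (repWith_baseChange sq hY)

theorem univClosed_of_comp (hX : IsAlgSpace X) (hY : IsAlgSpace Y) (hZ : IsAlgSpace Z) {f : X ⟶ Y}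
    {q : Y ⟶ Z} (hq : IsSeparatedMor q) (h : IsUnivClosedMor (f ≫ q)) : IsUnivClosedMor f := by
  have hP := isAlgSpace_pullback (f ≫ q) q hX hY hZ
  rw [show f = pullback.lift (𝟙 X) f (by simp) ≫ pullback.snd (f ≫ q) q from (pullback.lift_snd _ _ _).symm]
  exact univSp_comp hP hY (isProperMor_of_closedImmersion hP (repWith_graph hq)).2.2
    (univSp_baseChange (IsPullback.of_hasPullback (f ≫ q) q) h)

theorem isProperMor_of_comp (hX : IsAlgSpace X) (hY : IsAlgSpace Y) (hZ : IsAlgSpace Z) {f : X ⟶ Y}
    {q : Y ⟶ Z} (hq : IsSeparatedMor q) (h : IsProperMor (f ≫ q)) : IsProperMor f := by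
  have hP := isAlgSpace_pullback (f ≫ q) q hX hY hZ
  have sq := IsPullback.of_hasPullback (f ≫ q) q
  rw [show f = pullback.lift (𝟙 X) f (by simp) ≫ pullback.snd (f ≫ q) q from (pullback.lift_snd _ _ _).symm]
  refine isProperMor_comp hX hP hY (isProperMor_of_closedImmersion hP (repWith_graph hq)) ?_
  exact ⟨repWith_baseChange (isPullback_diagonal_map sq) h.1,
    ⟨locP_baseChange hX hZ hY sq h.2.1.1, isQuasiCompactMor_baseChange sq h.2.1.2⟩,
    univSp_baseChange sq h.2.2⟩

theorem isProperMor_of_refines {ι : Type u} {Yi Xi : ι → Sp S} {g : ∀ i, Yi i ⟶ Y}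
    {p : ∀ i, Xi i ⟶ Yi i} {q : ∀ i, Xi i ⟶ X} {f : X ⟶ Y} (hX : IsAlgSpace X) (hY : IsAlgSpace Y)
    (hYi : ∀ i, IsAlgSpace (Yi i)) (hXi : ∀ i, IsAlgSpace (Xi i)) (hg : Refines Yi g)
    (sq : ∀ i, IsPullback (q i) (p i) f (g i)) (h : ∀ i, IsProperMor (p i)) : IsProperMor f :=
  ⟨repWith_diagonal_of_refines hX hg sq fun i => (h i).1,
    ⟨locP_of_refines hX hY hYi hXi hg sq fun i => (h i).2.1.1,
      isQuasiCompactMor_of_refines hX hY hg sq fun i => (h i).2.1.2⟩,
    univSp_of_refines descendsRefines_closed hY hYi hg sq fun i => (h i).2.2⟩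

end Groth.Agent.ASp
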