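import Groth.Agent.Lib.AlgSpSchImageProper
import Groth.Agent.Lib.AlgSpRedInduced
import Groth.Agent.Lib.AlgSpReduced
import Groth.Agent.Lib.AlgSpValCrit
import Groth.Agent.Lib.AlgSpUnram
import Groth.Agent.Lib.AlgSpProper
import Groth.Agent.Lib.AlgSpDecent
/-! Proper images of proper closed subspaces. -/

set_option autoImplicit false
set_option linter.style.haveILetI false
set_option linter.unusedVariables false
set_option backward.isDefEq.respectTransparency.types false

universe u

open CategoryTheory CategoryTheory.Limits AlgebraicGeometry Opposite Topology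

noncomputable section

namespace Groth.Agent.ASp

open _root_.AlgSp

variable {S : Scheme.{u}}

theorem isUnivClosedMor_cancel_surjective {A B C : Sp S} (hA : IsAlgSpace A) (hB : IsAlgSpace B) (hC : IsAlgSpace C)
    {p : A ⟶ B} {q : B ⟶ C} (hs : IsSurjectiveMor p) (h : IsUnivClosedMor (p ≫ q)) : IsUnivClosedMor q := by
  intro Q P hQ b fst snd sq D hD
  have sqh := IsPullback.of_hasPullback p fst
  have big := sqh.paste_vert sq
  have e : Points.map (pullback.snd p fst ≫ snd) '' (Points.map (pullback.snd p fst) ⁻¹' D) =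
      Points.map snd '' D := by
    ext y
    constructor
    · rintro ⟨w, hw, rfl⟩
      exact ⟨_, hw, (Points.map_comp _ _ _).symm⟩
    · rintro ⟨z, hz, rfl⟩
      obtain ⟨x, hx⟩ := hs (Points.map fst z)
      obtain ⟨w, -, rfl⟩ := exists_of_isPullback sqh x z hx
      exact ⟨w, hz, Points.map_comp _ _ _⟩
  rw [← e]
  exact h hQ b _ _ big _ (hD.preimage (Points.continuous_map _))

/-- The diagonal of `g` is universally closed if `h ≫ g` is separated and `h` is universally closed surjective. -/
theorem isSeparatedMor_of_univClosed_surjective_source {A B C : Sp S} (hA : IsAlgSpace A) (hB : IsAlgSpace B)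
    (hC : IsAlgSpace C) {h : A ⟶ B} {g : B ⟶ C} (hu : IsUnivClosedMor h) (hs : IsSurjectiveMor h)
    (hsep : IsSeparatedMor (h ≫ g)) : IsSeparatedMor g := by
  have hAA := isAlgSpace_pullback (h ≫ g) (h ≫ g) hA hA hC
  have hBA := isAlgSpace_pullback g (h ≫ g) hB hA hC
  have hBB := isAlgSpace_pullback g g hB hB hC
  refine isSeparatedMor_of_univClosed_diagonal hB (isUnivClosedMor_cancel_surjective hA hB hBB hs ?_)
  let m₁ : pullback (h ≫ g) (h ≫ g) ⟶ pullback g (h ≫ g) :=
    pullback.lift (pullback.fst _ _ ≫ h) (pullback.snd _ _) (by rw [Category.assoc]; exact pullback.condition)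
  let m₂ : pullback g (h ≫ g) ⟶ pullback g g :=
    pullback.lift (pullback.fst _ _) (pullback.snd _ _ ≫ h) (by rw [Category.assoc]; exact pullback.condition)
  have a1 : m₁ ≫ pullback.fst g (h ≫ g) = pullback.fst (h ≫ g) (h ≫ g) ≫ h := pullback.lift_fst _ _ _
  have a2 : m₁ ≫ pullback.snd g (h ≫ g) = pullback.snd (h ≫ g) (h ≫ g) := pullback.lift_snd _ _ _
  have b1 : m₂ ≫ pullback.fst g g = pullback.fst g (h ≫ g) := pullback.lift_fst _ _ _
  have b2 : m₂ ≫ pullback.snd g g = pullback.snd g (h ≫ g) ≫ h := pullback.lift_snd _ _ _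
  have sq₁ : IsPullback (pullback.fst (h ≫ g) (h ≫ g)) m₁ h (pullback.fst g (h ≫ g)) :=
    IsPullback.of_bot (by rw [a2]; exact IsPullback.of_hasPullback _ _) a1.symm (IsPullback.of_hasPullback _ _)
  have sq₂ : IsPullback (pullback.snd g (h ≫ g)) m₂ h (pullback.snd g g) :=
    IsPullback.of_bot (by rw [b1]; exact (IsPullback.of_hasPullback _ _).flip) b2.symm
      (IsPullback.of_hasPullback _ _).flip
  have e : h ≫ pullback.diagonal g = pullback.diagonal (h ≫ g) ≫ m₁ ≫ m₂ := by
    apply pullback.hom_ext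
    · simp only [Category.assoc, pullback.diagonal_fst, b1, a1, reassoc_of% pullback.diagonal_fst (h ≫ g)]
      exact Category.comp_id _
    · simp only [Category.assoc, pullback.diagonal_snd, b2, reassoc_of% a2,
        reassoc_of% pullback.diagonal_snd (h ≫ g)]
      exact Category.comp_id _
  rw [e]
  exact univSp_comp hAA hBB (isProperMor_of_closedImmersion hAA hsep).2.2
    (univSp_comp hBA hBB (univSp_baseChange sq₁ hu) (univSp_baseChange sq₂ hu))

theorem exists_proper_image {X Y B Z : Sp S} (hX : IsAlgSpace X) (hY : IsAlgSpace Y) (hB : IsAlgSpace B)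
    (hZ : IsAlgSpace Z) {f : X ⟶ Y} {b : Y ⟶ B} (hb : LocP @LocallyOfFiniteType b) (hfc : IsUnivClosedMor f)
    {i : Z ⟶ X} (hi : RepWith @IsClosedImmersion i) (hp : IsProperMor (i ≫ f ≫ b)) :
    IsClosed (Points.map f '' Set.range (Points.map i)) ∧ ∃ (Z' : Sp S) (i' : Z' ⟶ Y), IsAlgSpace Z' ∧
      RepWith @IsClosedImmersion i' ∧ Set.range (Points.map i') = Points.map f '' Set.range (Points.map i) ∧
      IsProperMor (i' ≫ b) := by
  have hif : IsUnivClosedMor (i ≫ f) := univSp_comp hX hY (isProperMor_of_closedImmersion hX hi).2.2 hfc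
  have hr : Points.map f '' Set.range (Points.map i) = Set.range (Points.map (i ≫ f)) := by
    rw [← Set.range_comp]
    exact congrArg Set.range (funext fun z => (Points.map_comp _ _ _).symm)
  have hcl : IsClosed (Points.map f '' Set.range (Points.map i)) := by
    rw [hr, ← Set.image_univ]
    exact hif hY (𝟙 Y) (𝟙 Z) (i ≫ f) (IsPullback.of_horiz_isIso ⟨by simp⟩) _ isClosed_univ
  obtain ⟨Z', i', hZ', hi', hZr', hred'⟩ := exists_isRedInduced hY hcl
  obtain ⟨Zr, jr, hZr, hjr, hjr', hredr⟩ := exists_isRedInduced hZ (T := (Set.univ : Set (Points Z))) isClosed_univ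
  have hsub : Set.range (Points.map (jr ≫ i ≫ f)) ⊆ Set.range (Points.map i') := by
    rintro _ ⟨z, rfl⟩
    rw [hZr', hr]
    exact ⟨Points.map jr z, (Points.map_comp _ _ _).symm⟩
  obtain ⟨g, hg⟩ := exists_factor_of_reduced hi' hredr (jr ≫ i ≫ f) hsub
  haveI : Mono i' := mono_of_repWith_immersion (repWith_mono closedImmersion_le_immersion hi')
  have hs : IsSurjectiveMor g := fun z' => by
    have : Points.map i' z' ∈ Set.range (Points.map (i ≫ f)) := by rw [← hr, ← hZr']; exact ⟨z', rfl⟩
    obtain ⟨z, hz⟩ := this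
    obtain ⟨w, rfl⟩ : z ∈ Set.range (Points.map jr) := hjr' ▸ Set.mem_univ z
    refine ⟨w, injective_map_of_mono i' ?_⟩
    rw [← Points.map_comp, hg, Points.map_comp]
    exact hz
  have hprop : IsProperMor (g ≫ i' ≫ b) := by
    rw [reassoc_of% hg]
    exact isProperMor_comp hZr hZ hB (isProperMor_of_closedImmersion hZ hjr) hp
  have hu : IsUnivClosedMor g :=
    univClosed_of_comp hZr hZ' hY (isProperMor_of_closedImmersion hY hi').1
      (by rw [hg]; exact univSp_comp hZ hY (isProperMor_of_closedImmersion hZ hjr).2.2 hif)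
  refine ⟨hcl, Z', i', hZ', hi', hZr', isProperMor_of_surjective_source hZr hZ' hB hprop hs
    (isSeparatedMor_of_univClosed_surjective_source hZr hZ' hB hu hs hprop.1)
    (locP_comp hZ' hY hB (isProperMor_of_closedImmersion hY hi').2.1.1 hb)⟩

theorem exists_integral_closed {X : Sp S} (hX : IsAlgSpace X) (hd : IsDecent X) {T : Set (Points X)} (hT : IsClosed T)
    (hTi : IsIrreducible T) : ∃ (Z : Sp S) (i : Z ⟶ X), IsAlgSpace Z ∧ RepWith @IsClosedImmersion i ∧
      IsIntegralSp Z ∧ Set.range (Points.map i) = T := by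
  obtain ⟨Z, i, hZ, hi, hr, hred⟩ := exists_isRedInduced hX hT
  refine ⟨Z, i, hZ, hi, ⟨hred, fun z => decentAt_of_representable hi.rep (hd _), ?_⟩, hr⟩
  have he := isEmbedding_points_of_immersion hX (repWith_mono closedImmersion_le_immersion hi)
  haveI : IrreducibleSpace T := Subtype.irreducibleSpace hTi
  let φ : Points Z ≃ₜ T := he.toHomeomorph.trans (Homeomorph.setCongr hr)
  exact φ.irreducibleSpace_iff.2 inferInstance

end Groth.Agent.ASp
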