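import Groth.Agent.Lib.AlgSpSchImageProper
import Groth.Agent.Lib.AlgSpValCrit
import Groth.Agent.Lib.AlgSpRedInduced
import Groth.Agent.S10275
/-! Proper closed subspaces. -/

set_option autoImplicit false
set_option linter.style.haveILetI false
set_option linter.unusedVariables false
set_option backward.isDefEq.respectTransparency.types false

universe u

open CategoryTheory CategoryTheory.Limits AlgebraicGeometry Opposite Topology

noncomputable section

namespace Groth.Agent.ASp

open _root_.AlgSp

variable {S : Scheme.{u}}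

theorem repWith_closed_cancel {A B C : Sp S} {h : A ⟶ B} {i : B ⟶ C} [Mono i]
    (H : RepWith @IsClosedImmersion (h ≫ i)) : RepWith @IsClosedImmersion h := by
  have sq : IsPullback (𝟙 A) h (h ≫ i) i :=
    IsPullback.of_isLimit' ⟨by simp⟩ (PullbackCone.IsLimit.mk _ (fun s => s.fst)
      (fun s => Category.comp_id _)
      (fun s => (cancel_mono i).1 (by rw [Category.assoc]; exact s.condition))
      (fun s m h₁ _ => by rw [← h₁, Category.comp_id]))
  exact repWith_baseChange sq H

theorem repWith_closed_map {A W : Sp S} {Y : Sp S} {h : A ⟶ W} (hh : RepWith @IsClosedImmersion h) (g : W ⟶ Y) :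
    RepWith @IsClosedImmersion
      (pullback.map (h ≫ g) (h ≫ g) g g h h (𝟙 Y) (Category.comp_id _) (Category.comp_id _)) := by
  haveI : (RepWith (S := S) @IsClosedImmersion).IsStableUnderBaseChange :=
    ⟨fun sq h => repWith_baseChange sq h⟩
  haveI : (RepWith (S := S) @IsClosedImmersion).IsStableUnderComposition :=
    ⟨fun f g hf hg => repWith_comp hf hg⟩
  exact MorphismProperty.pullbackMap hh hh rfl rfl

/-- A subspace covered by finitely many proper closed subspaces is proper. -/
theorem isProperMor_of_closed_family {W Y : Sp S} (hW : IsAlgSpace W) (hY : IsAlgSpace Y) {g : W ⟶ Y}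
    (hlft : LocP @LocallyOfFiniteType g) {n : ℕ} (Zk : Fin n → Sp S) (hZk : ∀ k, IsAlgSpace (Zk k))
    (h : ∀ k, Zk k ⟶ W) (hh : ∀ k, RepWith @IsClosedImmersion (h k)) (hp : ∀ k, IsProperMor (h k ≫ g))
    (hsurj : ∀ w : Points W, ∃ k, w ∈ Set.range (Points.map (h k))) : IsProperMor g := by
  -- images of preimages
  have key : ∀ {Q P : Sp S} (fst : P ⟶ W) (snd : P ⟶ Q) (C : Set (Points P)),
      Points.map snd '' C = ⋃ k, Points.map (pullback.snd (h k) fst ≫ snd) ''
        (Points.map (pullback.snd (h k) fst) ⁻¹' C) := by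
    intro Q P fst snd C
    ext y
    constructor
    · rintro ⟨p, hp', rfl⟩
      obtain ⟨k, x, hx⟩ := hsurj (Points.map fst p)
      obtain ⟨w, -, rfl⟩ := exists_of_isPullback (IsPullback.of_hasPullback (h k) fst) x p hx
      exact Set.mem_iUnion.2 ⟨k, w, hp', Points.map_comp _ _ _⟩
    · intro hy
      obtain ⟨k, w, hw, rfl⟩ := Set.mem_iUnion.1 hy
      exact ⟨_, hw, (Points.map_comp _ _ _).symm⟩
  refine ⟨?_, ⟨hlft, ?_⟩, ?_⟩
  · refine isSeparatedMor_of_univClosed_diagonal hW ?_
    intro Q P hQ b fst snd sq C hC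
    rw [key fst snd C]
    refine isClosed_iUnion_of_finite fun k => ?_
    have big := (IsPullback.of_hasPullback (h k) fst).paste_vert sq
    have e : h k ≫ pullback.diagonal g = pullback.diagonal (h k ≫ g) ≫
        pullback.map (h k ≫ g) (h k ≫ g) g g (h k) (h k) (𝟙 Y) (Category.comp_id _) (Category.comp_id _) :=
      pullback.comp_diagonal (h k) g
    have hcl : RepWith @IsClosedImmersion (h k ≫ pullback.diagonal g) :=
      e ▸ repWith_comp (hp k).1 (repWith_closed_map (hh k) g)
    exact (isProperMor_of_closedImmersion (isAlgSpace_pullback g g hW hW hY) hcl).2.2 hQ b _ _ big _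
      (hC.preimage (Points.continuous_map _))
  · intro Q P hQ hQc b fst snd sq
    have hP : IsAlgSpace P := isAlgSpace_of_isPullback hY.diag sq hW hQ
    rw [isQuasiCompactSp_iff hP]
    have hU : (⋃ k, Set.range (Points.map (pullback.snd (h k) fst))) = Set.univ := Set.eq_univ_of_forall fun p => by
      obtain ⟨k, x, hx⟩ := hsurj (Points.map fst p)
      obtain ⟨w, -, rfl⟩ := exists_of_isPullback (IsPullback.of_hasPullback (h k) fst) x p hx
      exact Set.mem_iUnion.2 ⟨k, w, rfl⟩
    refine ⟨hU ▸ isCompact_iUnion fun k => ?_⟩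
    have big := (IsPullback.of_hasPullback (h k) fst).paste_vert sq
    haveI := (isQuasiCompactSp_iff (isAlgSpace_of_isPullback hY.diag big (hZk k) hQ)).1
      ((hp k).2.1.2 hQ hQc b _ _ big)
    exact isCompact_range (Points.continuous_map _)
  · intro Q P hQ b fst snd sq C hC
    rw [key fst snd C]
    exact isClosed_iUnion_of_finite fun k => (hp k).2.2 hQ b _ _
      ((IsPullback.of_hasPullback (h k) fst).paste_vert sq) _ (hC.preimage (Points.continuous_map _))

theorem locP_lft_of_closed {W X Y : Sp S} (hW : IsAlgSpace W) (hX : IsAlgSpace X) (hY : IsAlgSpace Y)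
    {j : W ⟶ X} (hj : RepWith @IsClosedImmersion j) {f : X ⟶ Y} (hf : LocP @LocallyOfFiniteType f) :
    LocP @LocallyOfFiniteType (j ≫ f) :=
  locP_comp hW hX hY (isProperMor_of_closedImmersion hX hj).2.1.1 hf

theorem isProperMor_of_range_subset {W X Y : Sp S} (hW : IsAlgSpace W) (hX : IsAlgSpace X) (hY : IsAlgSpace Y)
    {f : X ⟶ Y} (hf : LocP @LocallyOfFiniteType f) {n : ℕ} (Zk : Fin n → Sp S) (hZk : ∀ k, IsAlgSpace (Zk k))
    (i : ∀ k, Zk k ⟶ X) (hi : ∀ k, RepWith @IsClosedImmersion (i k)) (hp : ∀ k, IsProperMor (i k ≫ f))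
    {j : W ⟶ X} (hj : RepWith @IsClosedImmersion j)
    (hr : Set.range (Points.map j) = ⋃ k, Set.range (Points.map (i k))) : IsProperMor (j ≫ f) := by
  haveI : Mono j := mono_of_repWith_immersion (repWith_mono closedImmersion_le_immersion hj)
  choose R r hR hri hrr hrred using fun k => exists_isRedInduced (X := X) hX
    ((repWith_isClosedImmersion_iff hX (repWith_mono closedImmersion_le_immersion (hi k))).1 (hi k))
  choose m hm using fun k => exists_factor_of_reduced hj (hrred k) (r k)
    (by rw [hrr k, hr]; exact Set.subset_iUnion (fun k => Set.range (Points.map (i k))) k)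
  choose c hc using fun k => exists_factor_of_reduced (hi k) (hrred k) (r k) (hrr k).subset
  refine isProperMor_of_closed_family hW hY (locP_lft_of_closed hW hX hY hj hf) R hR m
    (fun k => repWith_closed_cancel (i := j) (by rw [hm]; exact hri k)) (fun k => ?_) fun w => ?_
  · haveI : Mono (i k) := mono_of_repWith_immersion (repWith_mono closedImmersion_le_immersion (hi k))
    rw [← Category.assoc, hm, ← hc, Category.assoc]
    exact isProperMor_comp (hR k) (hZk k) hY (isProperMor_of_closedImmersion (hZk k)
      (repWith_closed_cancel (i := i k) (by rw [hc]; exact hri k))) (hp k)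
  · have : Points.map j w ∈ ⋃ k, Set.range (Points.map (i k)) := hr ▸ ⟨w, rfl⟩
    obtain ⟨k, hk⟩ := Set.mem_iUnion.1 this
    rw [← hrr k] at hk
    obtain ⟨x, hx⟩ := hk
    exact ⟨k, x, injective_map_of_mono j (by rw [← Points.map_comp, hm, hx])⟩

end Groth.Agent.ASp
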