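import Groth.Agent.Lib.AlgSpCharts
import Groth.Agent.Lib.AlgSpFppf
import Groth.Agent.Lib.AlgSpDiag
import Groth.Prelude.Def_AlgSp4
/-! Morphisms from quasi-compact to quasi-separated spaces are quasi-compact. -/

set_option autoImplicit false
set_option linter.style.haveILetI false
set_option linter.unusedVariables false
set_option backward.isDefEq.respectTransparency.types false

universe u

open CategoryTheory CategoryTheory.Limits AlgebraicGeometry Opposite Topology

noncomputable section

namespace Groth.Agent.ASp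

open _root_.AlgSp

variable {S : Scheme.{u}} {X Y : Sp S}

theorem isQuasiCompactMor_of_qc_qs [QuasiSeparatedSpace S] (hX' : IsAlgSpace X) (hY' : IsAlgSpace Y) (f : X ⟶ Y)
    (hX : IsQuasiCompactSp X) (hY : IsQuasiSeparatedSp Y) : IsQuasiCompactMor f := by
  intro Z Z' hZ hZc g fst snd sq
  have hZ' : IsAlgSpace Z' := isAlgSpace_of_isPullback hY'.diag sq hX' hZ
  rw [isQuasiCompactSp_iff hZ']
  obtain ⟨U, a, hae, has, hU⟩ := hX
  obtain ⟨W, w, hwe, hws, hW⟩ := hZc
  haveI : CompactSpace U.left := hU
  haveI : CompactSpace W.left := hW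
  have sqA := IsPullback.of_hasPullback fst a
  have hA : IsPullback (pullback.snd fst a) (pullback.fst fst a ≫ snd) (a ≫ f) g :=
    sqA.flip.paste_vert sq
  have sqB := IsPullback.of_hasPullback (pullback.fst fst a ≫ snd) w
  have hB : IsPullback (pullback.fst (pullback.fst fst a ≫ snd) w ≫ pullback.snd fst a)
      (pullback.snd (pullback.fst fst a ≫ snd) w) (a ≫ f) (w ≫ g) :=
    sqB.paste_horiz hA
  obtain ⟨Q, q₁, q₂, sqQ⟩ := exists_sq (Functor.relativelyRepresentable.of_diag hY'.diag (a ≫ f)) (w ≫ g)
  let e := sqQ.isoIsPullback _ _ hB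
  -- `Q` is quasi-compact
  haveI : CompactSpace Q.left := by
    obtain ⟨u₁, hu₁⟩ := (yon S).map_surjective q₁
    let r : Q ⟶ U ⨯ W := prod.lift u₁ q₂
    have hp : IsPullback (q₁ ≫ a ≫ f) ((yon S).map r) (Limits.diag Y)
        (prod.lift ((yon S).map prod.fst ≫ a ≫ f) ((yon S).map prod.snd ≫ w ≫ g)) := by
      rw [← hu₁] at sqQ ⊢
      exact isPullback_diag sqQ
    haveI : QuasiCompact r.left := hY.2 _ _ r hp
    haveI : QuasiCompact U.hom := quasiCompact_of_compactSpace _
    haveI : QuasiCompact (prod.snd : U ⨯ W ⟶ W).left := by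
      have h := (IsPullback.of_is_product' (prodIsProd U W) (Over.mkIdTerminal (X := S))).map (Over.forget S)
      have h' : IsPullback (prod.fst : U ⨯ W ⟶ U).left (prod.snd : U ⨯ W ⟶ W).left U.hom W.hom := by
        simpa using h
      exact MorphismProperty.of_isPullback h' ‹QuasiCompact U.hom›
    haveI : CompactSpace (U ⨯ W).left := QuasiCompact.compactSpace_of_compactSpace (prod.snd : U ⨯ W ⟶ W).left
    exact QuasiCompact.compactSpace_of_compactSpace r.left
  haveI : CompactSpace (Points ((yon S).obj Q)) := (Points.schemeHomeo Q).compactSpace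
  have h₁ : RepWith @Surjective (pullback.fst fst a) := repWith_baseChange sqA.flip has
  have h₂ : RepWith @Surjective (pullback.fst (pullback.fst fst a ≫ snd) w) := repWith_baseChange sqB.flip hws
  have hs : Function.Surjective (Points.map ((e.hom ≫ pullback.fst _ _) ≫ pullback.fst fst a)) :=
    surjective_map_of_repWith (repWith_comp (repWith_comp (repWith_of_isIso _) h₂) h₁)
  exact hs.compactSpace (Points.continuous_map _)

end Groth.Agent.ASp
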