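import Groth.Agent.Lib.AlgSpRefinedVC
/-! Refined valuative criteria: universal closedness and separatedness tested through a dense quasi-compact morphism. -/

set_option autoImplicit false
set_option linter.style.haveILetI false
set_option linter.unusedVariables false
set_option backward.isDefEq.respectTransparency.types false

universe u

open CategoryTheory CategoryTheory.Limits AlgebraicGeometry Opposite Topology IsLocalRing

noncomputable section

namespace Groth.Agent.ASp

open _root_.AlgSp

variable {S : Scheme.{u}} {U X Y : Sp S}

/-- The range of a base change of a morphism with dense range along an open morphism is dense. -/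
theorem denseRange_baseChange {U' X' : Sp S} {h : U ⟶ X} {g : X' ⟶ X} {u : U' ⟶ U} {h' : U' ⟶ X'}
    (sq : IsPullback u h' h g) (hg : IsOpenMap (Points.map g)) (hd : DenseRange (Points.map h)) :
    DenseRange (Points.map h') := by
  have e : Points.map g ⁻¹' Set.range (Points.map h) = Set.range (Points.map h') := by
    have := preimage_image_of_isPullback sq Set.univ
    simpa only [Set.image_univ, Set.preimage_univ] using this
  have h1 : Dense (Points.map g ⁻¹' Set.range (Points.map h)) := Dense.preimage hd hg
  rwa [e] at h1

/-- A base change of a representable etale chart is open on points. -/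
theorem isOpenMap_fst_of_etale {V : Over S} {c : (yon S).obj V ⟶ Y} (hc : RepWith @Etale c)
    {P : Sp S} {fst : P ⟶ X} {snd : P ⟶ (yon S).obj V} {f : X ⟶ Y} (sq : IsPullback fst snd f c) :
    IsOpenMap (Points.map fst) :=
  isOpenMap_map_of_repWith_etale (repWith_baseChange sq.flip hc)

/-- Refined valuative criterion of universal closedness. -/
theorem isUnivClosedMor_of_through (hX : IsAlgSpace X) (hY : IsAlgSpace Y) (hU : IsAlgSpace U) {f : X ⟶ Y}
    {h : U ⟶ X} (hf : IsQuasiCompactMor f) (hh : IsQuasiCompactMor h) (hd : DenseRange (Points.map h))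
    (hv : ThroughVC h f) : IsUnivClosedMor f := by
  obtain ⟨κ, V, c, hV, hce, href⟩ := exists_refines_affine hY
  refine univSp_of_refines (Q := IsClosedMor) descendsRefines_closed hY (fun k => IsAlgSpace.yon_obj (V k))
    href (fun k => IsPullback.of_hasPullback f (c k)) fun k => ?_
  have sq := IsPullback.of_hasPullback f (c k)
  have hP : IsAlgSpace (pullback f (c k)) := isAlgSpace_pullback f (c k) hX (IsAlgSpace.yon_obj _) hY
  have sqU := IsPullback.of_hasPullback h (pullback.fst f (c k))
  haveI := hV k
  refine isUnivClosedMor_of_existVC hP (IsAlgSpace.yon_obj _) (isQuasiCompactMor_baseChange sq hf) ?_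
  exact existVC_of_through hP (isAlgSpace_pullback _ _ hU hP hX) (isQuasiCompactMor_baseChange sqU hh)
    (denseRange_baseChange sqU (isOpenMap_fst_of_etale (hce k) sq) hd) (throughVC_baseChange sq sqU hv)

theorem throughVC_diagonal {h : U ⟶ X} {f : X ⟶ Y}
    (hv : ∀ sq : ValSq f, (∃ t : (yon S).obj sq.ptK ⟶ U, t ≫ h = sq.top) → sq.HasUniq) :
    ThroughVC h (pullback.diagonal f) := by
  rintro sq ⟨t, ht⟩
  constructor
  · intro l l' _ h₂ _ h₄
    have := congrArg (· ≫ pullback.fst f f) (h₂.trans h₄.symm)
    simpa using this
  · refine hasLiftExt_of_hasLift sq ?_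
    let sq' : ValSq f :=
      { A := sq.A, K := sq.K, str := sq.str, top := sq.top, bot := sq.bot ≫ pullback.fst f f ≫ f,
        comm := by
          rw [← Category.assoc ((yon S).map _) sq.bot, ← sq.comm, Category.assoc, ← Category.assoc (pullback.diagonal f),
            pullback.diagonal_fst, Category.id_comp] }
    have hl : sq.bot ≫ pullback.fst f f = sq.bot ≫ pullback.snd f f := by
      refine hv sq' ⟨t, ht⟩ _ _ ?_ (Category.assoc _ _ _) ?_ ?_
      · show (yon S).map sq.j ≫ sq.bot ≫ pullback.fst f f = sq.top
        rw [← Category.assoc, ← sq.comm, Category.assoc, pullback.diagonal_fst, Category.comp_id]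
      · show (yon S).map sq.j ≫ sq.bot ≫ pullback.snd f f = sq.top
        rw [← Category.assoc, ← sq.comm, Category.assoc, pullback.diagonal_snd, Category.comp_id]
      · show (sq.bot ≫ pullback.snd f f) ≫ f = sq.bot ≫ pullback.fst f f ≫ f
        rw [Category.assoc, pullback.condition]
    refine ⟨sq.bot ≫ pullback.fst f f, ?_, ?_⟩
    · rw [← Category.assoc, ← sq.comm, Category.assoc, pullback.diagonal_fst, Category.comp_id]
    · apply pullback.hom_ext
      · rw [Category.assoc, pullback.diagonal_fst, Category.comp_id]
      · rw [Category.assoc, pullback.diagonal_snd, Category.comp_id, hl]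

/-- Refined valuative criterion of separatedness. -/
theorem isSeparatedMor_of_through (hX : IsAlgSpace X) (hY : IsAlgSpace Y) (hU : IsAlgSpace U) {f : X ⟶ Y}
    {h : U ⟶ X} (hqs : IsQuasiSeparatedMor f) (hh : IsQuasiCompactMor h) (hd : DenseRange (Points.map h))
    (hv : ∀ sq : ValSq f, (∃ t : (yon S).obj sq.ptK ⟶ U, t ≫ h = sq.top) → sq.HasUniq) : IsSeparatedMor f :=
  isSeparatedMor_of_univClosed_diagonal hX
    (isUnivClosedMor_of_through hX (isAlgSpace_pullback f f hX hX hY) hU (isQuasiCompactMor_of_repWith hqs) hh hd
      (throughVC_diagonal hv))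

end Groth.Agent.ASp
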