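import Groth.Agent.Lib.AlgSpRefined
import Groth.Agent.Lib.AlgSpExistVC
import Groth.Agent.Lib.AlgSpProper
/-! Refined valuative criteria on discrete valuation rings, through a dense morphism of finite type. -/

set_option autoImplicit false
set_option linter.style.haveILetI false
set_option linter.unusedVariables false
set_option backward.isDefEq.respectTransparency.types false

universe u

open CategoryTheory CategoryTheory.Limits AlgebraicGeometry Opposite Topology IsLocalRing TensorProduct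

noncomputable section

namespace Groth.Agent.ASp

open _root_.AlgSp

variable {S : Scheme.{u}} {U X Y : Sp S}

set_option maxHeartbeats 800000 in
/-- A specialization over the closed point gives a dotted arrow after an extension. -/
theorem hasLiftExt_of_specializes {f : X ⟶ Y} (q : ValSq f) {P : Sp S} (hP : IsAlgSpace P) (hPd : IsDecent P)
    {p₁ : P ⟶ X} {π : P ⟶ (yon S).obj q.ptA} (sq : IsPullback p₁ π f q.bot) (k0 : (yon S).obj q.ptK ⟶ P)
    (hk0f : k0 ≫ p₁ = q.top) (hk0π : k0 ≫ π = (yon S).map q.j) (x : Points P)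
    (hxξ : Points.ofPt k0 (show ↥q.ptK.left from closedPoint q.K) ⤳ x)
    (hx : Points.map π x = Points.schemeHomeo q.ptA (closedPoint q.A)) : q.HasLiftExt := by
  let ptk : ↥q.ptK.left := closedPoint q.K
  let ξ := Points.ofPt k0 ptk
  suffices LiftExt (A := q.A) (K := q.K) f q.top q.bot by
    obtain ⟨A', K', iA, iD, iV, iK, iAK, iF, φ, ψ, hc, hl, sA', sK', hφ, hψ, hK, l, h₁, h₂⟩ := this
    subst hφ
    subst hK
    exact ⟨@ValSq.DomExt.mk _ _ _ _ q A' iA iD iV K' iK iAK iF φ ψ hc hl, l, h₁, h₂⟩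
  -- lift to an affine etale chart
  obtain ⟨κ, U, a, hU, hae, href⟩ := exists_refines_affine hP
  obtain ⟨i, y, hy⟩ := href.exists_pt x
  obtain ⟨v, rfl⟩ := (Points.schemeHomeo (U i)).surjective y
  have hv : Points.ofPt (a i) v = x := by rw [Points.ofPt_eq_map_ofScheme]; exact hy
  have := hU i
  obtain ⟨v', hv', hsp⟩ := exists_generization (hae i) (finite_fibre_of_decentAt (hae i) (hPd ξ)) v
    (by rw [hv]; exact hxξ)
  -- a common field extension
  obtain ⟨Ω, _, w, α, β, hαβ⟩ := rel_iff_hom.1 (Points.mk_eq_mk_iff.1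
    (show Points.mk (FieldPt.ofPt (a i) v') = Points.mk (FieldPt.ofPt k0 ptk) from hv'))
  have hαβ' : (yon S).map α ≫ (FieldPt.ofPt (a i) v').toHom = (yon S).map β ≫ (FieldPt.ofPt k0 ptk).toHom := hαβ
  rw [FieldPt.toHom_ofPt, FieldPt.toHom_ofPt, ← Functor.map_comp_assoc, ← Functor.map_comp_assoc] at hαβ'
  let ιv : Over.mk ((U i).left.fromSpecResidueField v' ≫ (U i).hom) ⟶ U i :=
    Over.homMk ((U i).left.fromSpecResidueField v') rfl
  let ιk : Over.mk (q.ptK.left.fromSpecResidueField ptk ≫ q.ptK.hom) ⟶ q.ptK :=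
    Over.homMk (q.ptK.left.fromSpecResidueField ptk) rfl
  let n : Over.mk w ⟶ U i := α ≫ ιv
  let m : Over.mk w ⟶ q.ptK := β ≫ ιk
  have hnm : (yon S).map n ≫ a i = (yon S).map m ≫ k0 := hαβ'
  obtain ⟨c, hc'⟩ := (yon S).map_surjective (a i ≫ π)
  have hnc : n ≫ c = m ≫ q.j := (yon S).map_injective (by
    rw [(yon S).map_comp n c, (yon S).map_comp m q.j, hc', ← Category.assoc, hnm, Category.assoc, hk0π])
  have hcv : c.left v = (closedPoint q.A : ↥q.ptA.left) := (Points.schemeHomeo q.ptA).injective (by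
    rw [← hx, ← hv, Points.map_ofPt, ← hc', Points.ofPt_eq_map_ofScheme]
    exact (Points.map_yon_map_apply c v).symm)
  -- the valuation ring
  obtain ⟨αr, hαr⟩ := Spec.map_surjective (R := (U i).left.residueField v') (S := CommRingCat.of Ω) α.left
  let θ : (U i).left.presheaf.stalk v ⟶ CommRingCat.of Ω :=
    (U i).left.presheaf.stalkSpecializes hsp ≫ (U i).left.residue v' ≫ αr
  obtain ⟨R, hR, hRloc⟩ := exists_factor_valuationRing θ.hom
  let ψR : (U i).left.presheaf.stalk v ⟶ CommRingCat.of R := CommRingCat.ofHom (θ.hom.codRestrict _ hR)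
  have hnleft : n.left = Spec.map θ ≫ (U i).left.fromSpecStalk v := by
    simp only [n, ιv, Over.comp_left, Over.homMk_left, θ, Spec.map_comp, Category.assoc,
      Scheme.SpecMap_stalkSpecializes_fromSpecStalk, ← hαr, Scheme.fromSpecResidueField]
    rfl
  let lU : specOver (Spec.map ψR ≫ (U i).left.fromSpecStalk v ≫ (U i).hom) ⟶ U i :=
    Over.homMk (Spec.map ψR ≫ (U i).left.fromSpecStalk v) (Category.assoc _ _ _)
  obtain ⟨φA, hφA⟩ := Spec.map_surjective (R := CommRingCat.of q.A) (S := CommRingCat.of R) (lU ≫ c).left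
  obtain ⟨ψK, hψK⟩ := Spec.map_surjective (R := CommRingCat.of q.K) (S := CommRingCat.of Ω) m.left
  have hψR : Spec.map (CommRingCat.ofHom (algebraMap R Ω)) ≫ Spec.map ψR = Spec.map θ := by
    rw [← Spec.map_comp]; rfl
  have hloc : IsLocalHom φA.hom := by
    refine ((IsLocalRing.local_hom_TFAE φA.hom).out 0 4).2 ?_
    have e1 : Spec.map φA (closedPoint R) = (closedPoint q.A : PrimeSpectrum q.A) := by
      rw [hφA, ← hcv]
      change c.left ((U i).left.fromSpecStalk v ((Spec.map ψR) (closedPoint R))) = c.left v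
      rw [show (Spec.map ψR) (closedPoint R) = closedPoint ((U i).left.presheaf.stalk v) from
          comap_closedPoint (S := R) (θ.hom.codRestrict R.toSubring hR), Scheme.fromSpecStalk_closedPoint]
    exact congrArg PrimeSpectrum.asIdeal e1
  have hsA : Spec.map φA ≫ q.str = Spec.map ψR ≫ (U i).left.fromSpecStalk v ≫ (U i).hom := by
    rw [hφA]
    exact (Over.w (lU ≫ c))
  have hcompat : (algebraMap R Ω).comp φA.hom = ψK.hom.comp (algebraMap q.A q.K) := by
    have e : Spec.map (φA ≫ CommRingCat.ofHom (algebraMap R Ω)) =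
        Spec.map (CommRingCat.ofHom (algebraMap q.A q.K) ≫ ψK) := by
      rw [Spec.map_comp, Spec.map_comp, hφA, hψK]
      change _ = (m ≫ q.j).left
      rw [← hnc, Over.comp_left, Over.comp_left, hnleft, ← Category.assoc, ← hψR, Category.assoc]
      rfl
    exact CommRingCat.hom_ext_iff.1 (Spec.map_injective e)
  have hK' : Spec.map (CommRingCat.ofHom (algebraMap R Ω)) ≫
      Spec.map ψR ≫ (U i).left.fromSpecStalk v ≫ (U i).hom = w := by
    rw [reassoc_of% hψR, ← Category.assoc, ← hnleft]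
    exact Over.w n
  refine ⟨R, Ω, inferInstance, inferInstance, inferInstance, inferInstance, inferInstance, inferInstance,
    φA.hom, ψK.hom, hcompat, hloc, _, w, hsA, by rw [CommRingCat.ofHom_hom, hψK]; exact Over.w m, hK',
    (yon S).map lU ≫ a i ≫ p₁, ?_, ?_⟩
  · have e1 : specMap (algebraMap R Ω) _ w hK' ≫ lU = n := by
      apply Over.OverMorphism.ext
      rw [hnleft, ← hψR]
      exact (Category.assoc _ _ _).symm
    rw [← Functor.map_comp_assoc, e1, reassoc_of% hnm, hk0f]
    congr 2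
    exact Over.OverMorphism.ext hψK.symm
  · rw [Category.assoc, Category.assoc, sq.w, ← reassoc_of% hc', ← Functor.map_comp_assoc]
    congr 2
    exact Over.OverMorphism.ext hφA.symm

/-- The hypothesis on discrete valuation rings through `h`, unpacked. -/
theorem through_dvr_apply {h : U ⟶ X} {f : X ⟶ Y}
    (H : ∀ sq : ValSq f, IsDiscreteValuationRing sq.A → (∃ t, t ≫ h = sq.top) → sq.HasLiftExt)
    {A K : Type u} [CommRing A] [IsDomain A] [ValuationRing A] (hA : IsDiscreteValuationRing A)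
    [Field K] [Algebra A K] [IsFractionRing A K] (sA : Spec (.of A) ⟶ S)
    (sK : Spec (.of K) ⟶ S) (hK : Spec.map (CommRingCat.ofHom (algebraMap A K)) ≫ sA = sK)
    (t : (yon S).obj (specOver sK) ⟶ U) (bot : (yon S).obj (specOver sA) ⟶ Y)
    (comm : (t ≫ h) ≫ f = (yon S).map (specMap (algebraMap A K) sA sK hK) ≫ bot) :
    LiftExt f (t ≫ h) bot := by
  subst hK
  obtain ⟨e, l, h₁, h₂⟩ := H ⟨A, K, sA, t ≫ h, bot, comm⟩ hA ⟨t, rfl⟩
  exact ⟨e.A', e.K', e.commRing, e.isDomain, e.valuationRing, e.field, e.algebra, e.isFractionRing,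
    e.φ, e.ψ, e.comm, e.isLocalHom, _, _, rfl, _, rfl, l, h₁, h₂⟩

open PolyTest in
set_option maxHeartbeats 1600000 in
/-- Over a Noetherian affine base, squares through `h` have dotted arrows after an extension as soon as those
with a discrete valuation ring do. -/
theorem hasLiftExt_of_through_dvr (hX : IsAlgSpace X) (hU : IsAlgSpace U) {R : Type u} [CommRing R]
    [IsNoetherianRing R] (str : Spec (CommRingCat.of R) ⟶ S) {f : X ⟶ (yon S).obj (Over.mk str)}
    (hqc : IsQuasiCompactMor f) (hdec : IsDecentMor f) {h : U ⟶ X} (hlft : LocP @LocallyOfFiniteType (h ≫ f))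
    (H : ∀ sq : ValSq f, IsDiscreteValuationRing sq.A → (∃ t, t ≫ h = sq.top) → sq.HasLiftExt)
    (q : ValSq f) (hq : ∃ t, t ≫ h = q.top) : q.HasLiftExt := by
  obtain ⟨A, K, sA, top, bot, comm⟩ := q
  change ∃ t : (yon S).obj (specOver (Spec.map (CommRingCat.ofHom (algebraMap A K)) ≫ sA)) ⟶ U, t ≫ h = top at hq
  obtain ⟨t, rfl⟩ := hq
  obtain ⟨b, rfl⟩ := (yon S).map_surjective bot
  obtain ⟨β, hβ⟩ := Spec.map_surjective (R := CommRingCat.of R) (S := CommRingCat.of A) b.left
  letI : Algebra R A := β.hom.toAlgebra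
  have hs : sA = Spec.map (CommRingCat.ofHom (algebraMap R A)) ≫ str := by
    show sA = Spec.map β ≫ str
    rw [hβ]
    exact (Over.w b).symm
  subst hs
  obtain rfl : b = bs str A := Over.OverMorphism.ext hβ.symm
  -- an affine chart of `X`
  have := compactSpace_points
    (hqc (IsAlgSpace.yon_obj (Over.mk str)) (isQuasiCompactSp_yon (inferInstanceAs (CompactSpace (Spec (CommRingCat.of R)))))
      (𝟙 _) (𝟙 X) f (IsPullback.of_horiz_isIso ⟨by simp⟩))
  obtain ⟨W, a₀, hW, hae₀, has₀⟩ := exists_affine_chart_of_compact hX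
  obtain ⟨c₀, hc₀⟩ := (yon S).map_surjective (a₀ ≫ f)
  haveI := hW
  let B : Type u := Γ(W.left, ⊤)
  let φB : R →+* B := (Spec.preimage (W.left.isoSpec.inv ≫ c₀.left)).hom
  letI : Algebra R B := φB.toAlgebra
  have hφB : Spec.map (CommRingCat.ofHom (algebraMap R B)) = W.left.isoSpec.inv ≫ c₀.left := Spec.map_preimage _
  let ιW : ov str B ⟶ W := Over.homMk W.left.isoSpec.inv (by
    show W.left.isoSpec.inv ≫ W.hom = Spec.map _ ≫ str
    rw [hφB, Category.assoc, ← Over.w c₀]
    rfl)
  haveI : IsIso ((Over.forget S).map ιW) := inferInstanceAs (IsIso W.left.isoSpec.inv)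
  haveI : IsIso ιW := isIso_of_reflects_iso _ (Over.forget S)
  haveI : IsIso ιW.left := ‹IsIso ((Over.forget S).map ιW)›
  obtain ⟨a, hae, has, ha⟩ : ∃ a : (yon S).obj (ov str B) ⟶ X,
      RepWith @Etale a ∧ RepWith @Surjective a ∧ a ≫ f = (yon S).map (bs str B) :=
    ⟨(yon S).map ιW ≫ a₀, repWith_comp ((repWith_yon_map_iff _ _).2 (inferInstance : Etale ιW.left)) hae₀,
      repWith_comp ((repWith_yon_map_iff _ _).2 (inferInstance : Surjective ιW.left)) has₀, by
        rw [Category.assoc, ← hc₀, ← Functor.map_comp]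
        exact congrArg (yon S).map (Over.OverMorphism.ext hφB.symm)⟩
  -- the pullback to the valuation ring
  let inL := fun (D : Type u) [CommRing D] [Algebra R D] => (Algebra.TensorProduct.includeLeft : B →ₐ[R] B ⊗[R] D)
  let inR := fun (D : Type u) [CommRing D] [Algebra R D] => (Algebra.TensorProduct.includeRight : D →ₐ[R] B ⊗[R] D)
  let sqA := IsPullback.of_hasPullback f ((yon S).map (bs str A))
  let PA := pullback f ((yon S).map (bs str A))
  have hPA : IsAlgSpace PA := isAlgSpace_pullback _ _ hX (IsAlgSpace.yon_obj _) (IsAlgSpace.yon_obj _)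
  let jK : specOver (Spec.map (CommRingCat.ofHom (algebraMap A K)) ≫
      Spec.map (CommRingCat.ofHom (algebraMap R A)) ≫ str) ⟶ ov str A :=
    specMap (algebraMap A K) _ _ rfl
  obtain ⟨k0, hk0f, hk0π⟩ : ∃ k0 : (yon S).obj (specOver (Spec.map (CommRingCat.ofHom (algebraMap A K)) ≫
      Spec.map (CommRingCat.ofHom (algebraMap R A)) ≫ str)) ⟶ PA,
      k0 ≫ pullback.fst f ((yon S).map (bs str A)) = t ≫ h ∧
      k0 ≫ pullback.snd f ((yon S).map (bs str A)) = (yon S).map jK :=
    ⟨pullback.lift (t ≫ h) ((yon S).map jK) comm, pullback.lift_fst _ _ _, pullback.lift_snd _ _ _⟩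
  let ptk : PrimeSpectrum K := closedPoint K
  let ξ : Points PA := Points.ofPt k0 ptk
  suffices ∃ x, ξ ⤳ x ∧ Points.map (pullback.snd f ((yon S).map (bs str A))) x =
      Points.schemeHomeo (ov str A) (closedPoint A) by
    obtain ⟨x, hx₁, hx₂⟩ := this
    exact hasLiftExt_of_specializes ⟨A, K, _, t ≫ h, (yon S).map (bs str A), comm⟩ hPA (hdec _ _ _ sqA) sqA k0
      hk0f hk0π x hx₁ hx₂
  by_contra hno
  push Not at hno
  obtain ⟨aA, haA₁, haA₂⟩ : ∃ aA, aA ≫ pullback.fst f ((yon S).map (bs str A)) = (yon S).map (ovMap str (inL A)) ≫ a ∧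
      aA ≫ pullback.snd f ((yon S).map (bs str A)) = (yon S).map (ovMap str (inR A)) :=
    ⟨sqA.lift _ _ (by rw [Category.assoc, ha]; exact (sq_tensor str B A).w), sqA.lift_fst _ _ _, sqA.lift_snd _ _ _⟩
  let CW : Set (PrimeSpectrum (B ⊗[R] A)) := Points.ofPt aA ⁻¹' closure {ξ}
  have hCW : IsClosed CW := isClosed_closure.preimage (Points.continuous_ofPt aA)
  have hproj : ∀ w : PrimeSpectrum (B ⊗[R] A),
      Points.map (pullback.snd f ((yon S).map (bs str A))) (Points.ofPt aA w) =
        Points.ofScheme (ov str A) (PrimeSpectrum.comap (inR A).toRingHom w) := by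
    intro w
    rw [Points.map_ofPt, haA₂, ← Category.comp_id ((yon S).map _), ofPt_yon_map_comp]
    rfl
  -- separate the closed set from the special fibre
  let J : Ideal (B ⊗[R] A) := PrimeSpectrum.vanishingIdeal CW
  let I : Ideal (B ⊗[R] A) := J ⊔ (maximalIdeal A).map (inR A)
  have hI : I = ⊤ := by
    by_contra hI
    obtain ⟨Q, hQ, hIQ⟩ := Ideal.exists_le_maximal I hI
    let w : PrimeSpectrum (B ⊗[R] A) := ⟨Q, hQ.isPrime⟩
    have hw : w ∈ CW := by
      rw [← hCW.closure_eq, ← PrimeSpectrum.zeroLocus_vanishingIdeal_eq_closure]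
      exact (le_sup_left : J ≤ I).trans hIQ
    have hwm : PrimeSpectrum.comap (inR A).toRingHom w = closedPoint A := by
      refine PrimeSpectrum.ext ((IsLocalRing.maximalIdeal.isMaximal A).eq_of_le
        (PrimeSpectrum.comap (inR A).toRingHom w).2.ne_top ?_).symm
      exact fun x hx => hIQ (Ideal.mem_sup_right (Ideal.mem_map_of_mem _ hx))
    refine hno _ (specializes_iff_mem_closure.2 hw) ?_
    rw [hproj, hwm]
    rfl
  obtain ⟨j, hj, y, hy, hjy⟩ := Submodule.mem_sup.1 ((Ideal.eq_top_iff_one I).1 hI)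
  obtain ⟨n, bb, x, hx, rfl⟩ := exists_sum_of_mem_map (maximalIdeal A) hy
  -- the finitely many elements involved define a map to affine space
  let Rn := MvPolynomial (ULift.{u} (Fin n)) R
  let ev : Rn →ₐ[R] A := MvPolynomial.aeval fun i => x i.down
  have hX : ∀ i, ev (MvPolynomial.X (ULift.up i)) = x i := fun i => MvPolynomial.aeval_X _ _
  let Φ : B ⊗[R] Rn →ₐ[R] B ⊗[R] A := Algebra.TensorProduct.map (AlgHom.id R B) ev
  let j' : B ⊗[R] Rn := 1 - ∑ i, bb i ⊗ₜ[R] MvPolynomial.X (ULift.up i)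
  have hj' : Φ j' = j := by
    simp only [Φ, j', map_sub, map_one, map_sum, Algebra.TensorProduct.map_tmul, AlgHom.coe_id, id_eq]
    rw [Finset.sum_congr rfl fun i _ => congrArg (bb i ⊗ₜ[R] ·) (hX i)]
    exact (eq_sub_of_add_eq hjy).symm
  let Pn := pullback f ((yon S).map (bs str Rn))
  let sqn := IsPullback.of_hasPullback f ((yon S).map (bs str Rn))
  obtain ⟨an, han₁, han₂⟩ : ∃ an, an ≫ pullback.fst f ((yon S).map (bs str Rn)) = (yon S).map (ovMap str (inL Rn)) ≫ a ∧
      an ≫ pullback.snd f ((yon S).map (bs str Rn)) = (yon S).map (ovMap str (inR Rn)) :=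
    ⟨sqn.lift _ _ (by rw [Category.assoc, ha]; exact (sq_tensor str B Rn).w), sqn.lift_fst _ _ _, sqn.lift_snd _ _ _⟩
  have sqan : IsPullback ((yon S).map (ovMap str (inL Rn))) an a (pullback.fst f ((yon S).map (bs str Rn))) := by
    refine IsPullback.of_bot ?_ han₁.symm sqn
    rw [ha, han₂]
    exact sq_tensor str B Rn
  obtain ⟨φ, hφ₁, hφ₂⟩ : ∃ φ, φ ≫ pullback.fst f ((yon S).map (bs str Rn)) = pullback.fst f ((yon S).map (bs str A)) ∧
      φ ≫ pullback.snd f ((yon S).map (bs str Rn)) =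
        pullback.snd f ((yon S).map (bs str A)) ≫ (yon S).map (ovMap str ev) :=
    ⟨sqn.lift _ _ (by rw [Category.assoc, ← Functor.map_comp, ovMap_bs]; exact sqA.w), sqn.lift_fst _ _ _,
      sqn.lift_snd _ _ _⟩
  have hL : ovMap str Φ ≫ ovMap str (inL Rn) = ovMap str (inL A) := by
    rw [ovMap_comp]
    exact congrArg (ovMap str) (AlgHom.ext fun c => by simp [Φ, inL])
  have hR : ovMap str Φ ≫ ovMap str (inR Rn) = ovMap str (inR A) ≫ ovMap str ev := by
    rw [ovMap_comp, ovMap_comp]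
    exact congrArg (ovMap str) (AlgHom.ext fun c => by simp [Φ, inR])
  have sqaA : IsPullback ((yon S).map (ovMap str (inL A))) aA a (pullback.fst f ((yon S).map (bs str A))) := by
    refine IsPullback.of_bot ?_ haA₁.symm sqA
    rw [ha, haA₂]
    exact sq_tensor str B A
  have hw' : aA ≫ φ = (yon S).map (ovMap str Φ) ≫ an := by
    refine sqn.hom_ext ?_ ?_
    · rw [Category.assoc, hφ₁, haA₁, Category.assoc, han₁, ← Category.assoc, ← Functor.map_comp, hL]
    · rw [Category.assoc, hφ₂, ← Category.assoc, haA₂, Category.assoc, han₂, ← Functor.map_comp, ← Functor.map_comp, hR]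
  have sqW : IsPullback aA ((yon S).map (ovMap str Φ)) φ an := by
    refine IsPullback.flip (IsPullback.of_right ?_ hw'.symm sqan)
    rw [← Functor.map_comp, hL, hφ₁]
    exact sqaA
  let fW : PrimeSpectrum (B ⊗[R] A) → PrimeSpectrum (B ⊗[R] Rn) := PrimeSpectrum.comap Φ.toRingHom
  let ξn : Points Pn := Points.map φ ξ
  have himg : (Points.ofPt an ⁻¹' {ξn} : Set (PrimeSpectrum (B ⊗[R] Rn))) ⊆ fW '' CW := by
    intro w hcw
    obtain ⟨z, hz₁, hz₂⟩ := exists_of_isPullback sqW ξ (Points.ofScheme _ w)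
      (by rw [← Points.ofPt_eq_map_ofScheme]; exact (Set.mem_singleton_iff.1 hcw).symm)
    obtain ⟨r, rfl⟩ := (Points.schemeHomeo _).surjective z
    refine ⟨r, show Points.ofPt aA r ∈ closure {ξ} from ?_, ?_⟩
    · rw [Points.ofPt_eq_map_ofScheme]
      exact subset_closure hz₁
    · refine (Points.schemeHomeo (ov str (B ⊗[R] Rn))).injective (Eq.trans ?_ hz₂)
      show Points.ofScheme _ ((ovMap str Φ).left r) = Points.map _ (Points.ofScheme _ r)
      rw [← Points.ofPt_eq_map_ofScheme, ← Category.comp_id ((yon S).map _), ofPt_yon_map_comp]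
  have hD : ∀ w : PrimeSpectrum (B ⊗[R] Rn), ξn ⤳ Points.ofPt an w → j' ∈ w.asIdeal := by
    intro w hw
    have h1 : w ∈ closure (Points.ofPt an ⁻¹' {ξn}) := by
      rw [← (isOpenMap_ofPt_of_etale (repWith_baseChange sqan hae)).preimage_closure_eq_closure_preimage
        (Points.continuous_ofPt an)]
      exact specializes_iff_mem_closure.1 hw
    have h2 : fW '' CW ⊆ PrimeSpectrum.zeroLocus {j'} := by
      rintro _ ⟨r, hr, rfl⟩
      refine Set.singleton_subset_iff.2 ?_
      show Φ j' ∈ r.asIdeal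
      rw [hj']
      exact (PrimeSpectrum.mem_vanishingIdeal CW j).1 hj r hr
    exact Set.singleton_subset_iff.1 (closure_minimal (himg.trans h2) (PrimeSpectrum.isClosed_zeroLocus _) h1)
  -- a point of `U` over affine space
  let Qn := pullback (h ≫ f) ((yon S).map (bs str Rn))
  let sqQ := IsPullback.of_hasPullback (h ≫ f) ((yon S).map (bs str Rn))
  have hQ : IsAlgSpace Qn := isAlgSpace_pullback _ _ hU (IsAlgSpace.yon_obj _) (IsAlgSpace.yon_obj _)
  have comm' : (t ≫ h) ≫ f = (yon S).map jK ≫ (yon S).map (bs str A) := comm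
  obtain ⟨tn, htn₁, htn₂⟩ : ∃ tn, tn ≫ pullback.fst (h ≫ f) ((yon S).map (bs str Rn)) = t ∧
      tn ≫ pullback.snd (h ≫ f) ((yon S).map (bs str Rn)) = (yon S).map (jK ≫ ovMap str ev) :=
    ⟨sqQ.lift t ((yon S).map (jK ≫ ovMap str ev)) ((Category.assoc t h f).symm.trans (comm'.trans (by
      rw [← Functor.map_comp, ← Functor.map_comp, Category.assoc, ovMap_bs]))),
      sqQ.lift_fst _ _ _, sqQ.lift_snd _ _ _⟩
  obtain ⟨ψn, hψn₁, hψn₂⟩ : ∃ ψn, ψn ≫ pullback.fst f ((yon S).map (bs str Rn)) =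
        pullback.fst (h ≫ f) ((yon S).map (bs str Rn)) ≫ h ∧
      ψn ≫ pullback.snd f ((yon S).map (bs str Rn)) = pullback.snd (h ≫ f) ((yon S).map (bs str Rn)) :=
    ⟨sqn.lift _ _ (by rw [Category.assoc]; exact sqQ.w), sqn.lift_fst _ _ _, sqn.lift_snd _ _ _⟩
  have htψ : tn ≫ ψn = k0 ≫ φ := by
    refine sqn.hom_ext ?_ ?_
    · rw [Category.assoc, hψn₁, reassoc_of% htn₁, Category.assoc, hφ₁, hk0f]
    · rw [Category.assoc, hψn₂, htn₂, Category.assoc, hφ₂, reassoc_of% hk0π, Functor.map_comp]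
  obtain ⟨U', q', hq'e, hq's⟩ := hQ.atlas
  obtain ⟨v, hv⟩ := surjective_ofPt_of_repWith hq's (Points.ofPt tn ptk)
  obtain ⟨ε, hε⟩ := (yon S).map_surjective (q' ≫ pullback.snd (h ≫ f) ((yon S).map (bs str Rn)))
  haveI : LocallyOfFiniteType ε.left :=
    (locP_baseChange (P := @LocallyOfFiniteType) hU (IsAlgSpace.yon_obj _) (IsAlgSpace.yon_obj _) sqQ hlft) q' (𝟙 _) ε
      hq'e (repWith_id _ _) (by rw [Category.comp_id]; exact hε.symm)
  let pn : PrimeSpectrum Rn := PrimeSpectrum.comap ev.toRingHom (closedPoint A)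
  have hεv : ε.left v = (jK ≫ ovMap str ev).left ptk := by
    apply (Points.schemeHomeo (ov str Rn)).injective
    refine (ofPt_yon_map_comp ε (𝟙 _) v).symm.trans (Eq.trans ?_ (ofPt_yon_map_comp (jK ≫ ovMap str ev) (𝟙 _) ptk))
    rw [Category.comp_id, Category.comp_id, hε, ← htn₂, ← Points.map_ofPt, ← Points.map_ofPt, hv]
  have hsp : ε.left v ⤳ (pn : ↥(ov str Rn).left) := by
    rw [hεv]
    exact (IsLocalRing.specializes_closedPoint (jK.left ptk : PrimeSpectrum A)).map (ovMap str ev).left.continuous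
  haveI : IsLocallyNoetherian (ov str Rn).left :=
    inferInstanceAs (IsLocallyNoetherian (Spec (CommRingCat.of Rn)))
  obtain ⟨Ad, _, _, hAd, ι, g, hg₁, hg₂⟩ := exists_dvr_of_specializes' ε.left v hsp
  let sAd : Spec (CommRingCat.of Ad) ⟶ S := g ≫ (ov str Rn).hom
  let sKd : Spec (CommRingCat.of (FractionRing Ad)) ⟶ S :=
    (Spec.map (CommRingCat.ofHom ι) ≫ U'.left.fromSpecResidueField v) ≫ U'.hom
  have hKd : Spec.map (CommRingCat.ofHom (algebraMap Ad (FractionRing Ad))) ≫ sAd = sKd := by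
    simp only [sAd, sKd, reassoc_of% hg₂, Category.assoc, Over.w ε]
  let tv : specOver sKd ⟶ U' := Over.homMk (Spec.map (CommRingCat.ofHom ι) ≫ U'.left.fromSpecResidueField v) rfl
  let gn : specOver sAd ⟶ ov str Rn := Over.homMk g rfl
  let jd := specMap (algebraMap Ad (FractionRing Ad)) sAd sKd hKd
  have hgtv : tv ≫ ε = jd ≫ gn := Over.OverMorphism.ext (by
    show (Spec.map _ ≫ U'.left.fromSpecResidueField v) ≫ ε.left = Spec.map _ ≫ g
    rw [Category.assoc, hg₂])
  obtain ⟨A', K', _, _, _, _, _, _, φ', ψ', hc', hl', sA', sK', hφ', hψ', hK', l, h₁, h₂⟩ :=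
    through_dvr_apply H (K := FractionRing Ad) hAd sAd sKd hKd
      ((yon S).map tv ≫ q' ≫ pullback.fst (h ≫ f) ((yon S).map (bs str Rn)))
      ((yon S).map gn ≫ (yon S).map (bs str Rn)) (by
        simp only [Category.assoc]
        rw [sqQ.w, ← reassoc_of% hε, ← Functor.map_comp_assoc, hgtv, Functor.map_comp_assoc])
  haveI := hl'
  obtain ⟨ln, hln₁, hln₂⟩ : ∃ ln, ln ≫ pullback.fst f ((yon S).map (bs str Rn)) = l ∧
      ln ≫ pullback.snd f ((yon S).map (bs str Rn)) = (yon S).map (specMap φ' sAd sA' hφ' ≫ gn) :=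
    ⟨sqn.lift _ _ (by rw [h₂, Functor.map_comp_assoc]), sqn.lift_fst _ _ _, sqn.lift_snd _ _ _⟩
  have hgen : (yon S).map (specMap (algebraMap A' K') sA' sK' hK') ≫ ln =
      (yon S).map (specMap ψ' sKd sK' hψ' ≫ tv) ≫ q' ≫ ψn := by
    refine sqn.hom_ext ?_ ?_
    · simp only [Category.assoc, hψn₁, hln₁, h₁, Functor.map_comp]
    · rw [Category.assoc, hln₂, Category.assoc, Category.assoc, hψn₂, ← hε, ← Functor.map_comp, ← Functor.map_comp,
        Category.assoc, hgtv, ← Category.assoc, ← Category.assoc]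
      congr 2
      exact (specMap_comp φ' (algebraMap A' K') _ _ _ hφ' hK').trans
        ((specMap_congr hc' _ _ _ _).trans (specMap_comp _ ψ' _ _ _ hKd hψ').symm)
  let η : ↥(specOver sA').left := (specMap (algebraMap A' K') sA' sK' hK').left (closedPoint K')
  let cl : ↥(specOver sA').left := closedPoint A'
  have hspec : Points.ofPt ln η ⤳ Points.ofPt ln cl :=
    (IsLocalRing.specializes_closedPoint (η : PrimeSpectrum A')).map (Points.continuous_ofPt ln)
  have hcl : ∀ z : ↥(Spec (CommRingCat.of (FractionRing Ad))),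
      (Spec.map (CommRingCat.ofHom ι) ≫ U'.left.fromSpecResidueField v) z = v := fun z => by
    rw [Scheme.Hom.comp_apply, Scheme.fromSpecResidueField_apply]
  have hη : Points.ofPt ln η = ξn := by
    rw [← ofPt_yon_map_comp, hgen, Functor.map_comp, Category.assoc, ofPt_yon_map_comp, ofPt_yon_map_comp,
      ← Points.map_ofPt]
    have hz : tv.left ((specMap ψ' sKd sK' hψ').left (closedPoint K')) = v := hcl _
    rw [hz, hv, Points.map_ofPt, htψ, ← Points.map_ofPt]
  rw [hη] at hspec
  obtain ⟨w, hw⟩ := surjective_ofPt_of_repWith (repWith_baseChange sqan has) (Points.ofPt ln cl)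
  have hwj := hD w (hw ▸ hspec)
  have hpn : PrimeSpectrum.comap (inR Rn).toRingHom w = pn := by
    refine (Points.schemeHomeo (ov str Rn)).injective ?_
    have e1 := congrArg (Points.map (pullback.snd f ((yon S).map (bs str Rn)))) hw
    rw [Points.map_ofPt, Points.map_ofPt, han₂, hln₂, ← Category.comp_id ((yon S).map (ovMap str (inR Rn))),
      ← Category.comp_id ((yon S).map (specMap φ' sAd sA' hφ' ≫ gn)), ofPt_yon_map_comp, ofPt_yon_map_comp] at e1
    refine e1.trans (congrArg (Points.ofScheme (ov str Rn)) ?_)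
    show g ((Spec.map (CommRingCat.ofHom φ')) (closedPoint A')) = pn
    rw [show (Spec.map (CommRingCat.ofHom φ')) (closedPoint A') = closedPoint Ad from comap_closedPoint (S := A') φ']
    exact hg₁
  have hsum : (∑ i, bb i ⊗ₜ[R] MvPolynomial.X (ULift.up i) : B ⊗[R] Rn) ∈ (w : PrimeSpectrum (B ⊗[R] Rn)).asIdeal := by
    refine Ideal.sum_mem _ fun i _ => ?_
    have h1 : inR Rn (MvPolynomial.X (ULift.up i)) ∈ (w : PrimeSpectrum (B ⊗[R] Rn)).asIdeal := by
      have h2 : (MvPolynomial.X (ULift.up i) : Rn) ∈ pn.asIdeal := by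
        show ev (MvPolynomial.X (ULift.up i)) ∈ maximalIdeal A
        rw [hX i]
        exact hx i
      rw [← hpn] at h2
      exact h2
    rw [show bb i ⊗ₜ[R] (MvPolynomial.X (ULift.up i) : Rn) =
      bb i ⊗ₜ[R] (1 : Rn) * inR Rn (MvPolynomial.X (ULift.up i)) by simp [inR]]
    exact Ideal.mul_mem_left _ _ h1
  have h1 := Ideal.add_mem _ hwj hsum
  simp only [j', sub_add_cancel] at h1
  exact (w : PrimeSpectrum (B ⊗[R] Rn)).2.ne_top ((Ideal.eq_top_iff_one _).2 h1)

theorem through_dvr_baseChange {h : U ⟶ X} {f : X ⟶ Y} {U' X' Y' : Sp S} {f' : X' ⟶ Y'} {g : Y' ⟶ Y} {g' : X' ⟶ X}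
    (sq : IsPullback g' f' f g) {u : U' ⟶ U} {h' : U' ⟶ X'} (sqU : IsPullback u h' h g')
    (H : ∀ q : ValSq f, IsDiscreteValuationRing q.A → (∃ t, t ≫ h = q.top) → q.HasLiftExt) :
    ∀ q : ValSq f', IsDiscreteValuationRing q.A → (∃ t, t ≫ h' = q.top) → q.HasLiftExt := by
  rintro q hA ⟨t, ht⟩
  have ht' : (t ≫ u) ≫ h = q.top ≫ g' := by rw [Category.assoc, sqU.w, reassoc_of% ht]
  obtain ⟨A', K', _, _, _, _, _, _, φ, ψ, hc, hl, a', k', hφ, hψ, hK, l, h₁, h₂⟩ :=
    through_dvr_apply H (K := q.K) hA q.str _ rfl (t ≫ u) (q.bot ≫ g) (by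
      rw [ht', Category.assoc, sq.w, reassoc_of% q.comm]; rfl)
  rw [ht'] at h₁
  subst hφ
  subst hK
  refine ⟨@ValSq.DomExt.mk _ _ _ _ q A' _ _ _ K' _ _ _ φ ψ hc hl,
    sq.lift l ((yon S).map (specMap φ q.str _ rfl) ≫ q.bot) (by rw [Category.assoc]; exact h₂), ?_, sq.lift_snd _ _ _⟩
  refine sq.hom_ext ?_ ?_
  · rw [Category.assoc, sq.lift_fst, Category.assoc]; exact h₁
  · rw [Category.assoc, sq.lift_snd, Category.assoc, q.comm, ← Functor.map_comp_assoc, ← Functor.map_comp_assoc]
    congr 2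
    exact (specMap_comp φ _ q.str _ _ rfl rfl).trans
      ((specMap_congr hc _ _ _ _).trans (specMap_comp (algebraMap q.A q.K) ψ q.str _ _ rfl hψ).symm)

/-- Refined criterion of universal closedness on discrete valuation rings. -/
theorem isUnivClosedMor_of_through_dvr (hX : IsAlgSpace X) (hY : IsAlgSpace Y) (hU : IsAlgSpace U) {f : X ⟶ Y}
    {h : U ⟶ X} (hYn : IsLocNoethSp Y) (hqc : IsQuasiCompactMor f) (hdec : IsDecentMor f) (hu : UniqVC f)
    (hh : IsQuasiCompactMor h) (hlft : LocP @LocallyOfFiniteType (h ≫ f)) (hd : DenseRange (Points.map h))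
    (H : ∀ q : ValSq f, IsDiscreteValuationRing q.A → (∃ t, t ≫ h = q.top) → q.HasLiftExt) : IsUnivClosedMor f := by
  obtain ⟨V, p, hp, hps, hV⟩ := hYn
  haveI : IsLocallyNoetherian V.left := hV
  let str : ∀ O : V.left.affineOpens, Spec Γ(V.left, O.1) ⟶ S := fun O => O.2.fromSpec ≫ V.hom
  let O : V.left.affineOpens → Over S := fun O => Over.mk (str O)
  let i : ∀ k, O k ⟶ V := fun k => Over.homMk k.2.fromSpec rfl
  let c : ∀ k, (yon S).obj (O k) ⟶ Y := fun k => (yon S).map (i k) ≫ p
  have hce : ∀ k, RepWith @Etale (c k) := fun k => by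
    haveI : IsOpenImmersion (i k).left := inferInstanceAs (IsOpenImmersion k.2.fromSpec)
    exact repWith_comp ((repWith_yon_map_iff _ _).2 (inferInstance : Etale (i k).left)) hp
  have hsurj : ∀ y : Points Y, ∃ k, y ∈ Set.range (Points.ofPt (c k)) := fun y => by
    obtain ⟨v, rfl⟩ := surjective_ofPt_of_repWith hps y
    obtain ⟨U, hU, hvU, -⟩ := exists_isAffineOpen_mem_and_subset (X := V.left) (x := v) (U := ⊤) trivial
    obtain ⟨t, ht⟩ := hU.range_fromSpec.ge hvU
    refine ⟨⟨U, hU⟩, t, ?_⟩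
    rw [ofPt_yon_map_comp]
    exact congrArg _ ht
  refine univSp_of_refines (Q := IsClosedMor) descendsRefines_closed hY (fun k => IsAlgSpace.yon_obj (O k))
    (refines_of_etale c hce hsurj) (fun k => IsPullback.of_hasPullback f (c k)) fun k => ?_
  haveI : IsNoetherianRing Γ(V.left, k.1) := IsLocallyNoetherian.component_noetherian k
  have sq := IsPullback.of_hasPullback f (c k)
  have hP : IsAlgSpace (pullback f (c k)) := isAlgSpace_pullback f (c k) hX (IsAlgSpace.yon_obj _) hY
  have sqU := IsPullback.of_hasPullback h (pullback.fst f (c k))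
  have hUP := isAlgSpace_pullback h (pullback.fst f (c k)) hU hP hX
  haveI : IsAffine (O k).left := inferInstanceAs (IsAffine (Spec _))
  have hqc' := isQuasiCompactMor_baseChange sq hqc
  refine isUnivClosedMor_of_existVC hP (IsAlgSpace.yon_obj _) hqc' ?_
  refine existVC_of_through (T := O k) hP hUP (isQuasiCompactMor_baseChange sqU hh)
    (denseRange_baseChange sqU (isOpenMap_fst_of_etale (hce k) sq) hd) fun q ht => ⟨uniqVC_baseChange sq hu q, ?_⟩
  exact hasLiftExt_of_through_dvr hP hUP (str k) hqc' (fun T F' g fst snd s => hdec _ _ _ (s.paste_horiz sq))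
    (locP_baseChange hU hY (IsAlgSpace.yon_obj _) (sqU.paste_vert sq) hlft) (through_dvr_baseChange sq sqU H) q ht

/-- Separated morphisms satisfy uniqueness. -/
theorem uniqVC_of_separated {f : X ⟶ Y} (hf : IsSeparatedMor f) : UniqVC f := by
  intro q l l' h₁ h₂ h₃ h₄
  have e : l ≫ f = l' ≫ f := h₂.trans h₄.symm
  obtain ⟨Z, z₁, z₂, sqZ, hz⟩ := exists_sq_prop hf (pullback.lift l l' e)
  haveI : IsClosedImmersion z₂.left := hz
  obtain ⟨g, hg⟩ := (yon S).map_surjective (sqZ.lift q.top ((yon S).map q.j) (by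
    refine pullback.hom_ext ?_ ?_
    · simp only [Category.assoc, pullback.diagonal_fst, Category.comp_id, pullback.lift_fst, h₁]
    · simp only [Category.assoc, pullback.diagonal_snd, Category.comp_id, pullback.lift_snd, h₃]))
  have hgz : g ≫ z₂ = q.j := (yon S).map_injective (by rw [Functor.map_comp, hg, sqZ.lift_snd])
  haveI : IsAffine q.ptA.left := inferInstanceAs (IsAffine (Spec (CommRingCat.of q.A)))
  haveI : IsAffine Z.left := isAffine_of_isAffineHom z₂.left
  have hinj : Function.Injective z₂.left.appTop.hom := by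
    have h0 := injective_appTop_specMap (CommRingCat.ofHom (algebraMap q.A q.K)) (IsFractionRing.injective q.A q.K)
    have e' : z₂.left.appTop ≫ g.left.appTop = q.j.left.appTop := by rw [← hgz]; exact (Scheme.Hom.comp_appTop _ _).symm
    intro a b hab
    refine h0 ?_
    show q.j.left.appTop.hom a = q.j.left.appTop.hom b
    rw [← e']
    exact congrArg g.left.appTop.hom hab
  haveI : IsIso z₂.left := IsClosedImmersion.isIso_of_injective_of_isAffine hinj
  haveI : IsIso ((Over.forget S).map z₂) := ‹IsIso z₂.left›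
  haveI : IsIso z₂ := isIso_of_reflects_iso _ (Over.forget S)
  have hw : pullback.lift l l' e = inv ((yon S).map z₂) ≫ z₁ ≫ pullback.diagonal f := by
    rw [sqZ.w, IsIso.inv_hom_id_assoc]
  have e1 := congrArg (· ≫ pullback.fst f f) hw
  have e2 := congrArg (· ≫ pullback.snd f f) hw
  simp only [Category.assoc, pullback.diagonal_fst, pullback.diagonal_snd, Category.comp_id, pullback.lift_fst,
    pullback.lift_snd] at e1 e2
  exact e1.trans e2.symm

/-- Refined criterion of properness on discrete valuation rings. -/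
theorem isProperMor_of_through_dvr (hX : IsAlgSpace X) (hY : IsAlgSpace Y) (hU : IsAlgSpace U) {f : X ⟶ Y}
    {h : U ⟶ X} (hYn : IsLocNoethSp Y) (hs : IsSeparatedMor f) (hft : IsFiniteTypeMor f) (hh : IsFiniteTypeMor h)
    (hd : DenseRange (Points.map h))
    (H : ∀ sq : ValSq (h ≫ f), IsDiscreteValuationRing sq.A →
      ∃ l : (yon S).obj sq.ptA ⟶ X, (yon S).map sq.j ≫ l = sq.top ≫ h ∧ l ≫ f = sq.bot) : IsProperMor f := by
  have hqs : IsQuasiSeparatedMor f := repWith_mono (fun _ _ g (hg : IsClosedImmersion g) => (inferInstance : QuasiCompact g)) hs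
  refine ⟨hs, hft, isUnivClosedMor_of_through_dvr hX hY hU hYn hft.2 (isDecentMor_of_isQuasiSeparatedMor hX hY hqs)
    (uniqVC_of_separated hs) hh.2 (locP_comp hU hX hY hh.1 hft.1) hd fun q hA ht => ?_⟩
  obtain ⟨t, ht⟩ := ht
  let q' : ValSq (h ≫ f) := ⟨q.A, q.K, q.str, t, q.bot, (Category.assoc t h f).symm.trans
    ((congrArg (· ≫ f) ht).trans q.comm)⟩
  obtain ⟨l, h₁, h₂⟩ := H q' hA
  exact hasLiftExt_of_hasLift q ⟨l, h₁.trans ht, h₂⟩

/-- Refined criterion of separatedness on discrete valuation rings. -/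
theorem isSeparatedMor_of_through_dvr (hX : IsAlgSpace X) (hY : IsAlgSpace Y) (hU : IsAlgSpace U) {f : X ⟶ Y}
    {h : U ⟶ X} (hYn : IsLocNoethSp Y) (hlft : LocP @LocallyOfFiniteType f) (hqs : IsQuasiSeparatedMor f)
    (hh : IsFiniteTypeMor h) (hd : DenseRange (Points.map h))
    (H : ∀ sq : ValSq (h ≫ f), IsDiscreteValuationRing sq.A → ∀ l l' : (yon S).obj sq.ptA ⟶ X,
      (yon S).map sq.j ≫ l = sq.top ≫ h ∧ l ≫ f = sq.bot →
      (yon S).map sq.j ≫ l' = sq.top ≫ h ∧ l' ≫ f = sq.bot → l = l') : IsSeparatedMor f := by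
  have hP : IsAlgSpace (pullback f f) := isAlgSpace_pullback f f hX hX hY
  have hPn : IsLocNoethSp (pullback f f) := by
    have h2 : LocP @LocallyOfFiniteType (pullback.fst f f ≫ f) :=
      locP_comp hP hX hY (locP_baseChange hX hY hX ((IsPullback.of_hasPullback f f).flip) hlft) hlft
    obtain ⟨U, V, a, b, α, hV, hae, has, hbe, hab⟩ := exists_chart_noeth hP hY _ hYn
    haveI := hV
    haveI : LocallyOfFiniteType α.left := h2 a b α hae hbe hab
    exact ⟨U, a, hae, has, LocallyOfFiniteType.isLocallyNoetherian α.left⟩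
  haveI : Mono (pullback.diagonal f) := inferInstance
  haveI : IsIso (pullback.diagonal (pullback.diagonal f)) := inferInstance
  have hdqs : IsQuasiSeparatedMor (pullback.diagonal f) := repWith_of_isIso @QuasiCompact
  refine isSeparatedMor_of_univClosed_diagonal hX (isUnivClosedMor_of_through_dvr hX hP hU hPn
    (isQuasiCompactMor_of_repWith hqs) (isDecentMor_of_isQuasiSeparatedMor hX hP hdqs)
    (fun q l l' _ h₂ _ h₄ => (cancel_mono (pullback.diagonal f)).1 (h₂.trans h₄.symm)) hh.2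
    (locP_comp hU hX hP hh.1 (locP_of_repWith hP (monoLFT_diagonal hX f).props.2.1)) hd fun sq hA ht => ?_)
  obtain ⟨t, ht⟩ := ht
  refine hasLiftExt_of_hasLift sq ?_
  have hK1 : (yon S).map sq.j ≫ sq.bot ≫ pullback.fst f f = sq.top := by
    rw [← Category.assoc, ← sq.comm, Category.assoc, pullback.diagonal_fst, Category.comp_id]
  have hK2 : (yon S).map sq.j ≫ sq.bot ≫ pullback.snd f f = sq.top := by
    rw [← Category.assoc, ← sq.comm, Category.assoc, pullback.diagonal_snd, Category.comp_id]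
  have hl : sq.bot ≫ pullback.fst f f = sq.bot ≫ pullback.snd f f := by
    let q' : ValSq (h ≫ f) := ⟨sq.A, sq.K, sq.str, t, (sq.bot ≫ pullback.fst f f) ≫ f,
      (Category.assoc t h f).symm.trans ((congrArg (· ≫ f) (ht.trans hK1.symm)).trans (by
        simp only [Category.assoc]))⟩
    refine H q' hA _ _
      ⟨hK1.trans ht.symm, rfl⟩ ⟨hK2.trans ht.symm, ?_⟩
    show (sq.bot ≫ pullback.snd f f) ≫ f = (sq.bot ≫ pullback.fst f f) ≫ f
    rw [Category.assoc, Category.assoc, pullback.condition]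
  refine ⟨sq.bot ≫ pullback.fst f f, hK1, ?_⟩
  apply pullback.hom_ext
  · rw [Category.assoc, pullback.diagonal_fst, Category.comp_id]
  · rw [Category.assoc, pullback.diagonal_snd, Category.comp_id, hl]

end Groth.Agent.ASp
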