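import Groth.Agent.Lib.H6.ValDense
import Mathlib.RingTheory.Flat.TorsionFree
import Mathlib.RingTheory.Ideal.GoingDown
/-! Valuation rings: common extensions and localizations along extensions. -/

set_option autoImplicit false
set_option linter.style.haveILetI false
set_option linter.unusedVariables false
set_option backward.isDefEq.respectTransparency.types false

universe u

open IsLocalRing TensorProduct

noncomputable section

namespace Groth.Agent.ASp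

theorem flat_of_injective_valuationRing {A B : Type u} [CommRing A] [IsDomain A] [ValuationRing A] [CommRing B]
    [IsDomain B] [Algebra A B] (h : Function.Injective (algebraMap A B)) : Module.Flat A B := by
  haveI : FaithfulSMul A B := (faithfulSMul_iff_algebraMap_injective A B).2 h
  haveI : Module.IsTorsionFree A B := inferInstance
  exact Module.Flat.flat_iff_torsion_eq_bot_of_isBezout.2 (Submodule.isTorsionFree_iff_torsion_eq_bot.1 ‹_›)

theorem comap_minimalPrime_of_flat {A B : Type u} [CommRing A] [IsDomain A] [CommRing B] (f : A →+* B) (hf : f.Flat)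
    {q : Ideal B} (hq : q ∈ (⊥ : Ideal B).minimalPrimes) : q.comap f = ⊥ := by
  algebraize [f]
  haveI : q.IsPrime := hq.1.1
  haveI : q.LiesOver (q.comap f) := ⟨rfl⟩
  obtain ⟨P, hP, hPp, hPo⟩ := Ideal.exists_ideal_le_liesOver_of_le (p := (⊥ : Ideal A)) (q := q.comap f) q bot_le
  rw [le_antisymm hP (hq.2 ⟨hPp, bot_le⟩ hP)] at hPo
  exact hPo.over.symm

theorem exists_common_ext_aux {k K₁ K₂ : Type u} [Field k] [Field K₁] [Field K₂] (A₀ : ValuationSubring k)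
    (A₁ : ValuationSubring K₁) (A₂ : ValuationSubring K₂) (φ₁ : k →+* K₁) (φ₂ : k →+* K₂)
    (m₁ : A₀ →+* A₁) (m₂ : A₀ →+* A₂) (h₁ : A₁.subtype.comp m₁ = φ₁.comp A₀.subtype)
    (h₂ : A₂.subtype.comp m₂ = φ₂.comp A₀.subtype) {T : Type u} [CommRing T] (ι₁ : A₁ →+* T) (ι₂ : A₂ →+* T)
    (hf₁ : ι₁.Flat) (hf₂ : ι₂.Flat) (hι : ι₁.comp m₁ = ι₂.comp m₂) (Q : Ideal T) [Q.IsPrime]
    (hQ₁ : ∀ a, a ∈ maximalIdeal A₁ → ι₁ a ∈ Q) (hQ₂ : ∀ a, a ∈ maximalIdeal A₂ → ι₂ a ∈ Q) :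
    ∃ (Ω : Type u) (_ : Field Ω) (B : ValuationSubring Ω) (e₁ : K₁ →+* Ω) (e₂ : K₂ →+* Ω)
      (n₁ : A₁ →+* B) (n₂ : A₂ →+* B), e₁.comp φ₁ = e₂.comp φ₂ ∧ B.subtype.comp n₁ = e₁.comp A₁.subtype ∧
        B.subtype.comp n₂ = e₂.comp A₂.subtype ∧ IsLocalHom n₁ ∧ IsLocalHom n₂ := by
  obtain ⟨q, hq, hqQ⟩ := Ideal.exists_minimalPrimes_le (I := ⊥) (J := Q) bot_le
  haveI : q.IsPrime := hq.1.1
  have hc₁ : q.comap ι₁ = ⊥ := comap_minimalPrime_of_flat ι₁ hf₁ hq
  have hc₂ : q.comap ι₂ = ⊥ := comap_minimalPrime_of_flat ι₂ hf₂ hq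
  let D := T ⧸ q
  let Ω := FractionRing D
  let π : T →+* Ω := (algebraMap D Ω).comp (Ideal.Quotient.mk q)
  have hπ : ∀ z, π z = 0 ↔ z ∈ q := fun z => by
    rw [RingHom.comp_apply, IsFractionRing.to_map_eq_zero_iff, Ideal.Quotient.eq_zero_iff_mem]
  have hi₁ : Function.Injective (π.comp ι₁) := (injective_iff_map_eq_zero _).2 fun a ha => by
    have : a ∈ q.comap ι₁ := (hπ _).1 ha
    rwa [hc₁] at this
  have hi₂ : Function.Injective (π.comp ι₂) := (injective_iff_map_eq_zero _).2 fun a ha => by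
    have : a ∈ q.comap ι₂ := (hπ _).1 ha
    rwa [hc₂] at this
  let P : Ideal D := Q.map (Ideal.Quotient.mk q)
  haveI : P.IsPrime := Ideal.map_isPrime_of_surjective Ideal.Quotient.mk_surjective (by rwa [Ideal.mk_ker])
  let L := Localization.AtPrime P
  have hu : ∀ y : P.primeCompl, IsUnit (algebraMap D Ω y) := fun y => by
    refine isUnit_iff_ne_zero.2 fun h => y.2 ?_
    rw [show (y : D) = 0 from (IsFractionRing.to_map_eq_zero_iff).1 h]
    exact P.zero_mem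
  let ρ : L →+* Ω := IsLocalization.lift hu
  obtain ⟨B, hB, hBloc⟩ := exists_factor_valuationRing ρ
  let ρB : L →+* B := ρ.codRestrict B.toSubring hB
  haveI : IsLocalHom ρB := hBloc
  let j : ∀ {A : Type u} [CommRing A] (ι : A →+* T), A →+* B := fun ι =>
    ρB.comp ((algebraMap D L).comp ((Ideal.Quotient.mk q).comp ι))
  have hj : ∀ {A : Type u} [CommRing A] (ι : A →+* T) (a : A), B.subtype (j ι a) = π (ι a) :=
    fun ι a => IsLocalization.lift_eq hu _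
  have hjloc : ∀ {A : Type u} [CommRing A] [IsLocalRing A] (ι : A →+* T),
      (∀ a, a ∈ maximalIdeal A → ι a ∈ Q) → IsLocalHom (j ι) := by
    intro A _ _ ι hι
    refine ⟨fun a ha => ?_⟩
    by_contra h
    have h1 : IsUnit (algebraMap D L (Ideal.Quotient.mk q (ι a))) := IsUnit.of_map ρB _ ha
    exact (IsLocalization.AtPrime.isUnit_to_map_iff L P _).1 h1
      (Ideal.mem_map_of_mem _ (hι a ((mem_maximalIdeal a).2 h)))
  let e₁ : K₁ →+* Ω := IsFractionRing.lift (A := A₁) (K := K₁) (L := Ω) hi₁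
  let e₂ : K₂ →+* Ω := IsFractionRing.lift (A := A₂) (K := K₂) (L := Ω) hi₂
  have he₁ : ∀ a : A₁, e₁ (A₁.subtype a) = π (ι₁ a) := fun a =>
    IsFractionRing.lift_algebraMap (A := A₁) (K := K₁) (L := Ω) hi₁ a
  have he₂ : ∀ a : A₂, e₂ (A₂.subtype a) = π (ι₂ a) := fun a =>
    IsFractionRing.lift_algebraMap (A := A₂) (K := K₂) (L := Ω) hi₂ a
  refine ⟨Ω, inferInstanceAs (Field (FractionRing D)), B, e₁, e₂, j ι₁, j ι₂, ?_, ?_, ?_, hjloc ι₁ hQ₁, hjloc ι₂ hQ₂⟩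
  · have he : (e₁.comp φ₁).comp (algebraMap A₀ k) = (e₂.comp φ₂).comp (algebraMap A₀ k) := RingHom.ext fun a => by
      show e₁ (φ₁ (A₀.subtype a)) = e₂ (φ₂ (A₀.subtype a))
      rw [← RingHom.comp_apply φ₁, ← h₁, ← RingHom.comp_apply φ₂, ← h₂, RingHom.comp_apply, RingHom.comp_apply,
        he₁, he₂, ← RingHom.comp_apply ι₁, hι]
      rfl
    exact IsLocalization.ringHom_ext (nonZeroDivisors A₀) he
  · exact RingHom.ext fun a => (hj ι₁ a).trans (he₁ a).symm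
  · exact RingHom.ext fun a => (hj ι₂ a).trans (he₂ a).symm

/-- Two local extensions of a valuation ring embed into a common one. -/
theorem exists_common_ext {k K₁ K₂ : Type u} [Field k] [Field K₁] [Field K₂] (A₀ : ValuationSubring k)
    (A₁ : ValuationSubring K₁) (A₂ : ValuationSubring K₂) (φ₁ : k →+* K₁) (φ₂ : k →+* K₂)
    (m₁ : A₀ →+* A₁) (m₂ : A₀ →+* A₂) (h₁ : A₁.subtype.comp m₁ = φ₁.comp A₀.subtype)
    (h₂ : A₂.subtype.comp m₂ = φ₂.comp A₀.subtype) [IsLocalHom m₁] [IsLocalHom m₂] :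
    ∃ (Ω : Type u) (_ : Field Ω) (B : ValuationSubring Ω) (e₁ : K₁ →+* Ω) (e₂ : K₂ →+* Ω)
      (n₁ : A₁ →+* B) (n₂ : A₂ →+* B), e₁.comp φ₁ = e₂.comp φ₂ ∧ B.subtype.comp n₁ = e₁.comp A₁.subtype ∧
        B.subtype.comp n₂ = e₂.comp A₂.subtype ∧ IsLocalHom n₁ ∧ IsLocalHom n₂ := by
  letI : Algebra A₀ A₁ := m₁.toAlgebra
  letI : Algebra A₀ A₂ := m₂.toAlgebra
  have inj₁ : Function.Injective (algebraMap A₀ A₁) := fun a b hab => Subtype.ext (φ₁.injective
    ((RingHom.congr_fun h₁ a).symm.trans ((congrArg A₁.subtype hab).trans (RingHom.congr_fun h₁ b))))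
  have inj₂ : Function.Injective (algebraMap A₀ A₂) := fun a b hab => Subtype.ext (φ₂.injective
    ((RingHom.congr_fun h₂ a).symm.trans ((congrArg A₂.subtype hab).trans (RingHom.congr_fun h₂ b))))
  haveI := flat_of_injective_valuationRing inj₁
  haveI := flat_of_injective_valuationRing inj₂
  let ι₁ : A₁ →+* A₁ ⊗[A₀] A₂ := Algebra.TensorProduct.includeLeftRingHom
  let ι₂ : A₂ →+* A₁ ⊗[A₀] A₂ := (Algebra.TensorProduct.includeRight : A₂ →ₐ[A₀] A₁ ⊗[A₀] A₂).toRingHom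
  -- residue fields
  haveI : IsLocalHom (algebraMap A₀ A₁) := ‹IsLocalHom m₁›
  haveI : IsLocalHom (algebraMap A₀ A₂) := ‹IsLocalHom m₂›
  let T₀ := ResidueField A₁ ⊗[ResidueField A₀] ResidueField A₂
  obtain ⟨Q₀, hQ₀⟩ := Ideal.exists_maximal T₀
  let F := T₀ ⧸ Q₀
  letI := Ideal.Quotient.field Q₀
  let r₁ : A₁ →+* F := (Ideal.Quotient.mk Q₀).comp (Algebra.TensorProduct.includeLeftRingHom.comp (residue A₁))
  let r₂ : A₂ →+* F := (Ideal.Quotient.mk Q₀).comp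
    ((Algebra.TensorProduct.includeRight : ResidueField A₂ →ₐ[ResidueField A₀] T₀).toRingHom.comp (residue A₂))
  have hr : ∀ a : A₀, r₁ (algebraMap A₀ A₁ a) = r₂ (algebraMap A₀ A₂ a) := fun a => by
    refine congrArg (Ideal.Quotient.mk Q₀) ?_
    show (algebraMap (ResidueField A₀) (ResidueField A₁) (residue A₀ a)) ⊗ₜ[ResidueField A₀] (1 : ResidueField A₂) =
      (1 : ResidueField A₁) ⊗ₜ[ResidueField A₀] algebraMap (ResidueField A₀) (ResidueField A₂) (residue A₀ a)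
    rw [Algebra.algebraMap_eq_smul_one, Algebra.algebraMap_eq_smul_one, TensorProduct.smul_tmul]
  letI : Algebra A₀ F := (r₁.comp (algebraMap A₀ A₁)).toAlgebra
  let R : A₁ ⊗[A₀] A₂ →ₐ[A₀] F := Algebra.TensorProduct.productMap (S := F)
    ({ r₁ with commutes' := fun _ => rfl } : A₁ →ₐ[A₀] F) ({ r₂ with commutes' := fun a => (hr a).symm } : A₂ →ₐ[A₀] F)
  let Q : Ideal (A₁ ⊗[A₀] A₂) := RingHom.ker R.toRingHom
  haveI : Q.IsPrime := RingHom.ker_isPrime _
  refine exists_common_ext_aux A₀ A₁ A₂ φ₁ φ₂ m₁ m₂ h₁ h₂ ι₁ ι₂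
    (RingHom.flat_algebraMap_iff.2 (inferInstance : Module.Flat A₁ (A₁ ⊗[A₀] A₂))) ?_ ?_ Q (fun a ha => ?_) (fun a ha => ?_)
  · have e : ι₂ = (Algebra.TensorProduct.comm A₀ A₂ A₁).toRingEquiv.toRingHom.comp
        (algebraMap A₂ (A₂ ⊗[A₀] A₁)) := RingHom.ext fun a => rfl
    rw [e]
    exact (RingHom.flat_algebraMap_iff.2 (inferInstance : Module.Flat A₂ (A₂ ⊗[A₀] A₁))).comp
      (RingHom.Flat.of_bijective (Algebra.TensorProduct.comm A₀ A₂ A₁).toRingEquiv.bijective)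
  · refine RingHom.ext fun a => ?_
    exact ((Algebra.TensorProduct.includeLeft (R := A₀) (S := A₀) (A := A₁) (B := A₂)).commutes a).trans
      ((Algebra.TensorProduct.includeRight (R := A₀) (A := A₁) (B := A₂)).commutes a).symm
  · show R (a ⊗ₜ[A₀] 1) = 0
    rw [Algebra.TensorProduct.productMap_apply_tmul, map_one, mul_one]
    show Ideal.Quotient.mk Q₀ _ = 0
    simp [(residue_eq_zero_iff a).2 ha]
  · show R (1 ⊗ₜ[A₀] a) = 0
    rw [Algebra.TensorProduct.productMap_apply_tmul, map_one, one_mul]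
    show Ideal.Quotient.mk Q₀ _ = 0
    simp [(residue_eq_zero_iff a).2 ha]

/-- The localization of a valuation ring `A'` dominating `W'' ⊆ W` at the prime over that of `W`. -/
theorem exists_localization_ext {L K' : Type u} [Field L] [Field K'] (W'' W : ValuationSubring L) (hle : W'' ≤ W)
    (A' : ValuationSubring K') (ψ : L →+* K') (h : ∀ z : W'', ψ z ∈ A')
    (hloc : IsLocalHom ((ψ.comp W''.subtype).codRestrict A'.toSubring h)) :
    ∃ W' : ValuationSubring K', A' ≤ W' ∧ ∃ hW : ∀ z : W, ψ z ∈ W',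
      IsLocalHom ((ψ.comp W.subtype).codRestrict W'.toSubring hW) := by
  -- denominators: elements of `W''` that are units in `W`
  let D : Set L := {y | y ∈ W'' ∧ y ≠ 0 ∧ y⁻¹ ∈ W}
  have hmul : ∀ {y y'}, y ∈ D → y' ∈ D → y * y' ∈ D := fun {y y'} hy hy' =>
    ⟨mul_mem hy.1 hy'.1, mul_ne_zero hy.2.1 hy'.2.1, by rw [mul_inv]; exact mul_mem hy.2.2 hy'.2.2⟩
  have h1D : (1 : L) ∈ D := ⟨one_mem _, one_ne_zero, by rw [inv_one]; exact one_mem _⟩
  let T : Subring K' :=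
    { carrier := {z | ∃ y ∈ D, z * ψ y ∈ A'}
      one_mem' := ⟨1, h1D, by rw [map_one, mul_one]; exact one_mem _⟩
      zero_mem' := ⟨1, h1D, by rw [zero_mul]; exact zero_mem _⟩
      add_mem' := fun {a b} ⟨y, hy, ha⟩ ⟨y', hy', hb⟩ => ⟨y * y', hmul hy hy', by
        rw [map_mul, show (a + b) * (ψ y * ψ y') = a * ψ y * ψ y' + b * ψ y' * ψ y by ring]
        exact add_mem (mul_mem ha (h ⟨_, hy'.1⟩)) (mul_mem hb (h ⟨_, hy.1⟩))⟩
      neg_mem' := fun {a} ⟨y, hy, ha⟩ => ⟨y, hy, by rw [neg_mul]; exact neg_mem ha⟩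
      mul_mem' := fun {a b} ⟨y, hy, ha⟩ ⟨y', hy', hb⟩ => ⟨y * y', hmul hy hy', by
        rw [map_mul, show a * b * (ψ y * ψ y') = a * ψ y * (b * ψ y') by ring]
        exact mul_mem ha hb⟩ }
  have hle' : A'.toSubring ≤ T := fun a ha => ⟨1, h1D, by rw [map_one, mul_one]; exact ha⟩
  let W' := ValuationSubring.ofLE A' T hle'
  have hW : ∀ z : W, ψ z ∈ W' := fun z => by
    rcases W''.mem_or_inv_mem (z : L) with hz | hz
    · exact hle' (h ⟨_, hz⟩)
    · rcases eq_or_ne (z : L) 0 with h0 | h0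
      · rw [h0, map_zero]; exact zero_mem _
      · refine ⟨(z : L)⁻¹, ⟨hz, inv_ne_zero h0, by rw [inv_inv]; exact z.2⟩, ?_⟩
        rw [← map_mul, mul_inv_cancel₀ h0, map_one]
        exact one_mem _
  refine ⟨W', hle', hW, ⟨fun z hz => ?_⟩⟩
  obtain ⟨v, hv⟩ := hz
  have hz0 : (z : L) ≠ 0 := fun h0 => by
    have h1 : ((v : W') : K') = ψ z := congrArg Subtype.val hv
    rw [h0, map_zero] at h1
    exact v.ne_zero (Subtype.ext h1)
  obtain ⟨y, hy, hy'⟩ : ψ (z : L)⁻¹ ∈ W' := by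
    rw [map_inv₀]
    have h1 : ((v : W') : K') = ψ z := congrArg Subtype.val hv
    rw [← h1, show ((v : W') : K')⁻¹ = ((↑v⁻¹ : W') : K') from inv_eq_of_mul_eq_one_right
      (by rw [← MulMemClass.coe_mul, Units.mul_inv]; rfl)]
    exact (↑v⁻¹ : W').2
  -- `z⁻¹ y` lies in `W''`
  have hmem : (z : L)⁻¹ * y ∈ W'' := by
    rcases W''.mem_or_inv_mem ((z : L)⁻¹ * y) with h1 | h1
    · exact h1
    · have hu : IsUnit ((ψ.comp W''.subtype).codRestrict A'.toSubring h ⟨_, h1⟩) := by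
        refine isUnit_iff_exists_inv.2 ⟨⟨_, hy'⟩, Subtype.ext ?_⟩
        show ψ ((z : L)⁻¹ * y)⁻¹ * (ψ (z : L)⁻¹ * ψ y) = 1
        rw [← map_mul, ← map_mul, inv_mul_cancel₀ (mul_ne_zero (inv_ne_zero hz0) hy.2.1), map_one]
      obtain ⟨w, hw⟩ := hloc.map_nonunit _ hu
      have h2 : ((w : W'') : L) = ((z : L)⁻¹ * y)⁻¹ := congrArg Subtype.val hw
      rw [show (z : L)⁻¹ * y = ((↑w⁻¹ : W'') : L) from ?_]
      · exact (↑w⁻¹ : W'').2
      · refine inv_injective ?_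
        rw [← h2]
        refine eq_inv_of_mul_eq_one_left ?_
        rw [← MulMemClass.coe_mul, Units.mul_inv]; rfl
  have hzinv : (z : L)⁻¹ ∈ W := by
    rw [show (z : L)⁻¹ = (z : L)⁻¹ * y * y⁻¹ by field_simp [hy.2.1]]
    exact mul_mem (hle hmem) hy.2.2
  exact isUnit_iff_exists_inv.2 ⟨⟨_, hzinv⟩, Subtype.ext (mul_inv_cancel₀ hz0)⟩

end Groth.Agent.ASp
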