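import Groth.Agent.Lib.AlgSpDVR
import Groth.Agent.Lib.AlgSpValAlg
import Groth.Agent.Lib.H6.ValDense
/-! The existence part of the valuative criterion, tested on squares through a dense quasi-compact morphism. -/

set_option autoImplicit false
set_option linter.style.haveILetI false
set_option linter.unusedVariables false
set_option backward.isDefEq.respectTransparency.types false

universe u

open CategoryTheory CategoryTheory.Limits AlgebraicGeometry Opposite Topology IsLocalRing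

noncomputable section

namespace Groth.Agent.ASp

open _root_.AlgSp
open Groth.Agent.H6 (ValDense.res ValDense.exists_rho ValDense.descend ValDense.exists_valuationSubring_pair
  ValDense.compositeVS ValDense.mem_compositeVS ValDense.exists_ext)

variable {S : Scheme.{u}} {U X Y : Sp S}

/-- Every square through `h` has at most one dotted arrow, and one after an extension. -/
def ThroughVC (h : U ⟶ X) (f : X ⟶ Y) : Prop :=
  ∀ sq : ValSq f, (∃ t : (yon S).obj sq.ptK ⟶ U, t ≫ h = sq.top) → sq.HasUniq ∧ sq.HasLiftExt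

theorem through_lift {h : U ⟶ X} {f : X ⟶ Y} (hv : ThroughVC h f) {A K : Type u} [CommRing A] [IsDomain A]
    [ValuationRing A] [Field K] [Algebra A K] [IsFractionRing A K] (sA : Spec (.of A) ⟶ S)
    (sK : Spec (.of K) ⟶ S) (hK : Spec.map (CommRingCat.ofHom (algebraMap A K)) ≫ sA = sK)
    (t : (yon S).obj (specOver sK) ⟶ U) (bot : (yon S).obj (specOver sA) ⟶ Y)
    (comm : (t ≫ h) ≫ f = (yon S).map (specMap (algebraMap A K) sA sK hK) ≫ bot) :
    LiftExt f (t ≫ h) bot := by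
  subst hK
  obtain ⟨e, l, h₁, h₂⟩ := (hv ⟨A, K, sA, t ≫ h, bot, comm⟩ ⟨t, rfl⟩).2
  exact ⟨e.A', e.K', e.commRing, e.isDomain, e.valuationRing, e.field, e.algebra, e.isFractionRing,
    e.φ, e.ψ, e.comm, e.isLocalHom, _, _, rfl, _, rfl, l, h₁, h₂⟩

theorem through_uniq {h : U ⟶ X} {f : X ⟶ Y} (hv : ThroughVC h f) {A K : Type u} [CommRing A] [IsDomain A]
    [ValuationRing A] [Field K] [Algebra A K] [IsFractionRing A K] (sA : Spec (.of A) ⟶ S)
    (sK : Spec (.of K) ⟶ S) (hK : Spec.map (CommRingCat.ofHom (algebraMap A K)) ≫ sA = sK)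
    (t : (yon S).obj (specOver sK) ⟶ U) (l l' : (yon S).obj (specOver sA) ⟶ X)
    (e₁ : (yon S).map (specMap (algebraMap A K) sA sK hK) ≫ l = t ≫ h)
    (e₂ : (yon S).map (specMap (algebraMap A K) sA sK hK) ≫ l' = t ≫ h) (e₃ : l ≫ f = l' ≫ f) : l = l' := by
  subst hK
  exact (hv ⟨A, K, sA, t ≫ h, l ≫ f, by rw [← e₁]; exact Category.assoc _ _ _⟩ ⟨t, rfl⟩).1 l l' e₁ rfl e₂ e₃.symm

theorem throughVC_baseChange {h : U ⟶ X} {f : X ⟶ Y} {U' X' Y' : Sp S} {f' : X' ⟶ Y'} {g : Y' ⟶ Y} {g' : X' ⟶ X}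
    (sq : IsPullback g' f' f g) {u : U' ⟶ U} {h' : U' ⟶ X'} (sqU : IsPullback u h' h g')
    (hv : ThroughVC h f) : ThroughVC h' f' := by
  rintro q ⟨t, ht⟩
  have ht' : (t ≫ u) ≫ h = q.top ≫ g' := by rw [Category.assoc, sqU.w, reassoc_of% ht]
  refine ⟨fun l l' h₁ h₂ h₃ h₄ => sq.hom_ext ?_ (h₂.trans h₄.symm), ?_⟩
  · refine through_uniq (K := q.K) hv q.str _ rfl (t ≫ u) _ _ ?_ ?_ ?_
    · rw [ht']; exact (Category.assoc _ _ _).symm.trans (congrArg (· ≫ g') h₁)
    · rw [ht']; exact (Category.assoc _ _ _).symm.trans (congrArg (· ≫ g') h₃)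
    · rw [Category.assoc, Category.assoc, sq.w, reassoc_of% h₂, reassoc_of% h₄]
  · obtain ⟨A', K', _, _, _, _, _, _, φ, ψ, hc, hl, a', k', hφ, hψ, hK, l, h₁, h₂⟩ :=
      through_lift (K := q.K) hv q.str _ rfl (t ≫ u) (q.bot ≫ g) (by
        rw [ht', Category.assoc, sq.w, reassoc_of% q.comm]; rfl)
    rw [ht'] at h₁
    subst hφ
    subst hK
    refine ⟨@ValSq.DomExt.mk _ _ _ _ q A' _ _ _ K' _ _ _ φ ψ hc hl,
      sq.lift l ((yon S).map (specMap φ q.str _ rfl) ≫ q.bot) (by rw [Category.assoc]; exact h₂), ?_, sq.lift_snd _ _ _⟩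
    refine sq.hom_ext ?_ ?_
    · rw [Category.assoc, sq.lift_fst, Category.assoc]; exact h₁
    · rw [Category.assoc, sq.lift_snd, Category.assoc, q.comm, ← Functor.map_comp_assoc, ← Functor.map_comp_assoc]
      congr 2
      exact (specMap_comp φ _ q.str _ _ rfl rfl).trans
        ((specMap_congr hc _ _ _ _).trans (specMap_comp (algebraMap q.A q.K) ψ q.str _ _ rfl hψ).symm)

theorem scheme_ext_of_injective {T : Scheme.{u}} [IsAffine T] {A K : CommRingCat.{u}} (φ : A ⟶ K)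
    (hφ : Function.Injective φ.hom) {m₁ m₂ : Spec A ⟶ T} (h : Spec.map φ ≫ m₁ = Spec.map φ ≫ m₂) : m₁ = m₂ := by
  rw [← cancel_mono T.isoSpec.hom]
  obtain ⟨θ₁, e₁⟩ := Spec.map_surjective (R := Γ(T, ⊤)) (S := A) (m₁ ≫ T.isoSpec.hom)
  obtain ⟨θ₂, e₂⟩ := Spec.map_surjective (R := Γ(T, ⊤)) (S := A) (m₂ ≫ T.isoSpec.hom)
  have e : θ₁ ≫ φ = θ₂ ≫ φ := Spec.map_injective (by
    rw [Spec.map_comp, Spec.map_comp, e₁, e₂, reassoc_of% h])
  rw [← e₁, ← e₂]
  congr 1
  ext a
  exact hφ (congrArg (fun z => z.hom a) e)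

/-- A field-valued point lifts, after an extension, to a point of an affine etale chart. -/
theorem exists_fieldPt_lift {F : Sp S} (hF : IsAlgSpace F) {K : Type u} [Field K] {sK : Spec (CommRingCat.of K) ⟶ S}
    (t : (yon S).obj (specOver sK) ⟶ F) :
    ∃ (W : Over S) (a : (yon S).obj W ⟶ F) (w₀ : ↥W.left) (Ω : Type u) (_ : Field Ω)
      (α : W.left.residueField w₀ →+* Ω) (ψ : K →+* Ω) (sΩ : Spec (CommRingCat.of Ω) ⟶ S)
      (hψ : Spec.map (CommRingCat.ofHom ψ) ≫ sK = sΩ) (n : specOver sΩ ⟶ W),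
      IsAffine W.left ∧ RepWith @Etale a ∧
        n.left = Spec.map (CommRingCat.ofHom α) ≫ W.left.fromSpecResidueField w₀ ∧
        (yon S).map n ≫ a = (yon S).map (specMap ψ sK sΩ hψ) ≫ t := by
  let ptk : ↥(specOver sK).left := closedPoint K
  obtain ⟨κ, W, a, hW, hae, href⟩ := exists_refines_affine hF
  obtain ⟨i, y, hy⟩ := href.exists_pt (Points.ofPt t ptk)
  obtain ⟨v, rfl⟩ := (Points.schemeHomeo (W i)).surjective y
  have hv : Points.ofPt (a i) v = Points.ofPt t ptk := by rw [Points.ofPt_eq_map_ofScheme]; exact hy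
  obtain ⟨Ω, _, w, α, β, hαβ⟩ := rel_iff_hom.1 (Points.mk_eq_mk_iff.1
    (show Points.mk (FieldPt.ofPt (a i) v) = Points.mk (FieldPt.ofPt t ptk) from hv))
  have hαβ' : (yon S).map α ≫ (FieldPt.ofPt (a i) v).toHom = (yon S).map β ≫ (FieldPt.ofPt t ptk).toHom := hαβ
  rw [FieldPt.toHom_ofPt, FieldPt.toHom_ofPt, ← Functor.map_comp_assoc, ← Functor.map_comp_assoc] at hαβ'
  let ιv : Over.mk ((W i).left.fromSpecResidueField v ≫ (W i).hom) ⟶ W i :=
    Over.homMk ((W i).left.fromSpecResidueField v) rfl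
  let ιk : Over.mk ((specOver sK).left.fromSpecResidueField ptk ≫ (specOver sK).hom) ⟶ specOver sK :=
    Over.homMk ((specOver sK).left.fromSpecResidueField ptk) rfl
  let n : Over.mk w ⟶ W i := α ≫ ιv
  let m : Over.mk w ⟶ specOver sK := β ≫ ιk
  obtain ⟨αr, hαr⟩ := Spec.map_surjective (R := (W i).left.residueField v) (S := CommRingCat.of Ω) α.left
  obtain ⟨ψK, hψK⟩ := Spec.map_surjective (R := CommRingCat.of K) (S := CommRingCat.of Ω) m.left
  have hψ : Spec.map (CommRingCat.ofHom ψK.hom) ≫ sK = w := by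
    rw [CommRingCat.ofHom_hom, hψK]
    exact Over.w m
  refine ⟨W i, a i, v, Ω, inferInstance, αr.hom, ψK.hom, w, hψ, n, hW i, hae i, ?_, ?_⟩
  · show (α ≫ ιv).left = _
    rw [CommRingCat.ofHom_hom, hαr]
    rfl
  · refine hαβ'.trans ?_
    congr 2
    exact Over.OverMorphism.ext hψK.symm

set_option maxHeartbeats 1000000 in
/-- Over an affine base, existence on the squares through a dense quasi-compact morphism, with uniqueness there,
gives existence on all squares. -/
theorem existVC_of_through (hX : IsAlgSpace X) (hU : IsAlgSpace U) {T : Over S} [IsAffine T.left]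
    {f : X ⟶ (yon S).obj T} {h : U ⟶ X} (hh : IsQuasiCompactMor h) (hd : DenseRange (Points.map h))
    (hv : ThroughVC h f) : ExistVC f := by
  refine existVC_intro fun q => ?_
  obtain ⟨b, hb⟩ := (yon S).map_surjective q.bot
  let τ := T.left.isoSpec
  -- a chart
  obtain ⟨W, a, w₀, Ω, _, αr, ψK, sΩ, hψΩ, n, hW, hae, hn, hna⟩ := exists_fieldPt_lift hX q.top
  obtain ⟨c, hc⟩ := (yon S).map_surjective (a ≫ f)
  have hnc : n ≫ c = specMap ψK _ sΩ hψΩ ≫ q.j ≫ b := (yon S).map_injective (by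
    simp only [Functor.map_comp, hc]
    rw [reassoc_of% hna, q.comm, hb])
  obtain ⟨A₁, hA₁, hloc₁⟩ := exists_factor_valuationRing (ψK.comp (algebraMap q.A q.K))
  let m₁ : q.A →+* A₁ := (ψK.comp (algebraMap q.A q.K)).codRestrict A₁.toSubring hA₁
  haveI : IsLocalHom m₁ := hloc₁
  let A₀ : ValuationSubring (W.left.residueField w₀) := ValDense.res A₁ αr
  obtain ⟨ρ₀, hρ₀, hρ₀loc⟩ := ValDense.exists_rho (R := A₁) (K := Ω) αr
  haveI := hρ₀loc
  obtain ⟨y₀, hy₁, hy₂⟩ := ValDense.descend (R := A₁) (K := Ω) αr ρ₀ hρ₀ (W.left.fromSpecResidueField w₀ ≫ c.left)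
    (Spec.map (CommRingCat.ofHom m₁) ≫ b.left) (by
      have e : n.left ≫ c.left = (specMap ψK _ sΩ hψΩ).left ≫ q.j.left ≫ b.left := congrArg CommaMorphism.left hnc
      rw [hn, Category.assoc] at e
      rw [e, ← Spec.map_comp_assoc]
      show _ = Spec.map _ ≫ Spec.map _ ≫ b.left
      rw [← Spec.map_comp_assoc]
      rfl)
  -- a point of `U` specializing to the chosen point
  let P := pullback h a
  let sqP := IsPullback.of_hasPullback h a
  have hP : IsAlgSpace P := isAlgSpace_pullback h a hU (IsAlgSpace.yon_obj W) hX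
  haveI := hW
  have := compactSpace_points
    (hh (IsAlgSpace.yon_obj W) (isQuasiCompactSp_yon (show CompactSpace W.left from inferInstance)) a _ _ sqP)
  obtain ⟨U₂, q₂, hU₂, hq₂e, hq₂s⟩ := exists_affine_chart_of_compact hP
  haveI := hU₂
  obtain ⟨ε, hε⟩ := (yon S).map_surjective (q₂ ≫ pullback.snd h a)
  have himg : Points.ofPt a ⁻¹' Set.range (Points.map h) ⊆ Set.range ε.left := by
    rintro t ⟨x, hx⟩
    obtain ⟨z, -, hz⟩ := exists_of_isPullback sqP x (Points.ofScheme W t) (by rw [hx, Points.ofPt_eq_map_ofScheme])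
    obtain ⟨w, rfl⟩ := surjective_ofPt_of_repWith hq₂s z
    refine ⟨w, (Points.schemeHomeo W).injective (Eq.trans ?_ hz)⟩
    rw [Points.map_ofPt, ← hε, ← Category.comp_id ((yon S).map ε), ofPt_yon_map_comp]
    rfl
  have hw₀ : w₀ ∈ closure (Set.range ε.left) := closure_mono himg (by
    rw [← (isOpenMap_ofPt_of_etale hae).preimage_closure_eq_closure_preimage (Points.continuous_ofPt a)]
    exact hd _)
  obtain ⟨u, hu⟩ := exists_specializes_of_mem_closure_range ε.left hw₀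
  let L : Type u := U₂.left.residueField u
  obtain ⟨W₀, g, hgc, hgg₀⟩ := ValDense.exists_valuationSubring_pair hu L (ε.left.residueFieldMap u)
  have hgg : Spec.map (CommRingCat.ofHom W₀.subtype) ≫ g = U₂.left.fromSpecResidueField u ≫ ε.left :=
    hgg₀.trans (Scheme.Hom.SpecMap_residueFieldMap_fromSpecResidueField ε.left u)
  let k' := ResidueField W₀
  let c₀ : Spec (CommRingCat.of k') ⟶ W.left := Spec.map (CommRingCat.ofHom (residue W₀)) ≫ g
  have hcx : c₀ (closedPoint k') = w₀ := by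
    rw [Scheme.Hom.comp_apply, show Spec.map (CommRingCat.ofHom (residue W₀)) (closedPoint k') = closedPoint W₀ from
      PrimeSpectrum.comap_residue W₀ _]
    exact hgc
  obtain ⟨⟨x'', ψ⟩, hψ'⟩ := (Scheme.SpecToEquivOfField k' W.left).symm.surjective c₀
  rw [Scheme.SpecToEquivOfField_symm_apply] at hψ'
  obtain rfl : x'' = w₀ := by
    have := congrArg (fun g : Spec (CommRingCat.of k') ⟶ W.left => g (closedPoint k')) hψ'
    simp only [Scheme.Hom.comp_apply, Scheme.fromSpecResidueField_apply] at this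
    exact this.trans hcx
  have hψ : Spec.map ψ ≫ W.left.fromSpecResidueField x'' = c₀ := hψ'
  obtain ⟨R'', m₀, hm₀, hm₀loc, -⟩ := ValDense.exists_ext A₀ ψ.hom
  haveI := hm₀loc
  obtain ⟨α₀, hα₀⟩ := Spec.map_surjective (R := Γ(T.left, ⊤)) (S := CommRingCat.of A₀) (y₀ ≫ τ.hom)
  obtain ⟨αW, hαW⟩ := Spec.map_surjective (R := Γ(T.left, ⊤)) (S := CommRingCat.of W₀) (g ≫ c.left ≫ τ.hom)
  have hcomp : αW ≫ CommRingCat.ofHom (residue W₀) = α₀ ≫ CommRingCat.ofHom A₀.subtype ≫ ψ := by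
    apply Spec.map_injective
    rw [Spec.map_comp, hαW, Spec.map_comp, Spec.map_comp, hα₀, Category.assoc, reassoc_of% hy₁, reassoc_of% hψ]
    simp [c₀]
  let W' := ValDense.compositeVS W₀ R''
  have hle : W' ≤ W₀ := fun z hz => ((ValDense.mem_compositeVS _ _ _).1 hz).1
  let incl : W' →+* W₀ := W'.subtype.codRestrict W₀.toSubring fun z => hle z.2
  let q'' : W' →+* R'' := ((residue W₀).comp incl).codRestrict R''.toSubring
    fun z => ((ValDense.mem_compositeVS _ _ _).1 z.2).2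
  have hmem : ∀ γ, (αW.hom γ : L) ∈ W' := fun γ => (ValDense.mem_compositeVS _ _ _).2 ⟨(αW.hom γ).2, by
    show residue W₀ (αW.hom γ) ∈ R''
    rw [show residue W₀ (αW.hom γ) = ψ.hom (α₀.hom γ).1 from congrArg (fun z => z.hom γ) hcomp,
      show ψ.hom (α₀.hom γ).1 = R''.subtype (m₀ (α₀.hom γ)) from (RingHom.congr_fun hm₀ _).symm]
    exact (m₀ (α₀.hom γ)).2⟩
  let α' : Γ(T.left, ⊤) ⟶ CommRingCat.of W' := CommRingCat.ofHom ((W₀.subtype.comp αW.hom).codRestrict W'.toSubring hmem)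
  let bW : Spec (CommRingCat.of W') ⟶ T.left := Spec.map α' ≫ τ.inv
  let sW : Spec (CommRingCat.of W') ⟶ S := bW ≫ T.hom
  let sL : Spec (CommRingCat.of L) ⟶ S := U₂.left.fromSpecResidueField u ≫ U₂.hom
  have hgc' : g ≫ c.left = Spec.map (CommRingCat.ofHom incl) ≫ bW := by
    have : αW = α' ≫ CommRingCat.ofHom incl := rfl
    rw [← cancel_mono τ.hom, Category.assoc, ← hαW, this, Spec.map_comp]
    simp [bW]
  have hgenW : Spec.map (CommRingCat.ofHom (algebraMap W' L)) ≫ bW = (U₂.left.fromSpecResidueField u ≫ ε.left) ≫ c.left := by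
    rw [← hgg, Category.assoc, hgc', ← Spec.map_comp_assoc (CommRingCat.ofHom incl) (CommRingCat.ofHom W₀.subtype)]
    rfl
  have hKL : Spec.map (CommRingCat.ofHom (algebraMap W' L)) ≫ sW = sL := by
    simp only [sW, sL, reassoc_of% hgenW, Category.assoc, Over.w c, Over.w ε]
  let tU : specOver sL ⟶ U₂ := Over.homMk (U₂.left.fromSpecResidueField u) rfl
  let t : (yon S).obj (specOver sL) ⟶ U := (yon S).map tU ≫ q₂ ≫ pullback.fst h a
  let bT : specOver sW ⟶ T := Over.homMk bW rfl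
  have ht : t ≫ h = (yon S).map (tU ≫ ε) ≫ a := by
    simp only [t, Category.assoc, pullback.condition, Functor.map_comp]
    rw [reassoc_of% hε]
  obtain ⟨A', K', _, _, _, _, _, _, φ', ψ', hc', hl', sA', sK', hφ', hψ'', hK', l, h₁, h₂⟩ :=
    through_lift (K := L) hv sW sL hKL t ((yon S).map bT) (by
      rw [ht, Category.assoc, ← hc, ← Functor.map_comp, ← Functor.map_comp]
      exact congrArg (yon S).map (Over.OverMorphism.ext hgenW.symm))
  haveI := hl'
  let Av : ValuationSubring K' := ValDense.res A' (RingHom.id K')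
  have hAv : ∀ z : W', ψ' z ∈ Av := fun z => ⟨φ' z, RingHom.congr_fun hc' z⟩
  have hAvloc : IsLocalHom ((ψ'.comp W'.subtype).codRestrict Av.toSubring hAv) := by
    obtain ⟨ρv, hρv, -⟩ := ValDense.exists_rho (R := A') (K := K') (RingHom.id K')
    refine ⟨fun z hz => hl'.map_nonunit z ?_⟩
    have e : ρv ((ψ'.comp W'.subtype).codRestrict Av.toSubring hAv z) = φ' z := IsFractionRing.injective A' K'
      ((RingHom.congr_fun hρv _).trans (RingHom.congr_fun hc' z).symm)
    rw [← e]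
    exact hz.map ρv
  obtain ⟨W'', hle', hW'', hνloc⟩ := exists_localization_ext W' W₀ hle Av ψ' hAv hAvloc
  let ι : A' →+* W'' := (algebraMap A' K').codRestrict W''.toSubring fun z => hle' ⟨z, rfl⟩
  let ν : W₀ →+* W'' := (ψ'.comp W₀.subtype).codRestrict W''.toSubring hW''
  haveI : IsLocalHom ν := hνloc
  have hν : ν.comp incl = ι.comp φ' := RingHom.ext fun z => Subtype.ext (RingHom.congr_fun hc' z).symm
  let sW'' : Spec (CommRingCat.of W'') ⟶ S := Spec.map (CommRingCat.ofHom ι) ≫ sA'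
  have hgW : (Spec.map (CommRingCat.ofHom ν) ≫ g) ≫ W.hom = sW'' := by
    rw [← Over.w c, Category.assoc, reassoc_of% hgc', ← Spec.map_comp_assoc, ← CommRingCat.ofHom_comp, hν,
      CommRingCat.ofHom_comp, Spec.map_comp_assoc]
    show _ ≫ _ ≫ sW = _
    rw [hφ']
  let gW : specOver sW'' ⟶ W := Over.homMk (Spec.map (CommRingCat.ofHom ν) ≫ g) hgW
  have hK'' : Spec.map (CommRingCat.ofHom (algebraMap W'' K')) ≫ sW'' = sK' := by
    rw [← hK', ← Spec.map_comp_assoc]
    rfl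
  let j'' := specMap (algebraMap W'' K') sW'' sK' hK''
  let l' := (yon S).map (specMap ι sA' sW'') ≫ l
  have hl'g : l' = (yon S).map gW ≫ a := by
    refine through_uniq (K := K') hv sW'' sK' hK'' ((yon S).map (specMap ψ' sL sK' hψ'') ≫ t) _ _ ?_ ?_ ?_
    · show (yon S).map j'' ≫ (yon S).map (specMap ι sA' sW'') ≫ l = _
      rw [← Functor.map_comp_assoc, Category.assoc, ← h₁]
      exact congrArg (fun z => (yon S).map z ≫ l) (Over.OverMorphism.ext (Spec.map_comp _ _).symm)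
    · show (yon S).map j'' ≫ _ = _
      rw [Category.assoc, ht, ← Functor.map_comp_assoc, ← Functor.map_comp_assoc]
      refine congrArg (fun z => (yon S).map z ≫ a) (Over.OverMorphism.ext ?_)
      show Spec.map _ ≫ Spec.map _ ≫ g = Spec.map _ ≫ U₂.left.fromSpecResidueField u ≫ ε.left
      rw [← hgg, ← Spec.map_comp_assoc, ← Spec.map_comp_assoc]
      rfl
    · show ((yon S).map (specMap ι sA' sW'') ≫ l) ≫ f = ((yon S).map gW ≫ a) ≫ f
      rw [Category.assoc, h₂, Category.assoc, ← hc, ← Functor.map_comp, ← Functor.map_comp, ← Functor.map_comp]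
      refine congrArg (yon S).map (Over.OverMorphism.ext ?_)
      show Spec.map _ ≫ Spec.map _ ≫ bW = (Spec.map _ ≫ g) ≫ c.left
      rw [Category.assoc, hgc', ← Spec.map_comp_assoc (CommRingCat.ofHom φ') (CommRingCat.ofHom ι),
        ← Spec.map_comp_assoc (CommRingCat.ofHom incl) (CommRingCat.ofHom ν), ← CommRingCat.ofHom_comp,
        ← CommRingCat.ofHom_comp, hν]
  -- the valuation ring of the residue field
  let k₃ := ResidueField W''
  let π : A' →+* k₃ := (residue W'').comp ι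
  have hmv : ∀ z : k₃, z ∈ π.range ∨ z⁻¹ ∈ π.range := fun z => by
    obtain ⟨y, rfl⟩ := residue_surjective z
    rcases ValuationRing.isInteger_or_isInteger A' (y : K') with ⟨r, hr⟩ | ⟨r, hr⟩
    · exact Or.inl ⟨r, congrArg (residue W'') (Subtype.ext hr : ι r = y)⟩
    · by_cases hy : residue W'' y = 0
      · exact Or.inl (hy ▸ π.range.zero_mem)
      refine Or.inr ⟨r, ?_⟩
      have hy0 : (y : K') ≠ 0 := fun h0 => hy (by rw [show y = 0 from Subtype.ext h0, map_zero])
      refine eq_inv_of_mul_eq_one_left ?_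
      show residue W'' (ι r) * residue W'' y = 1
      rw [← map_mul, show ι r * y = 1 from Subtype.ext (by
        show algebraMap A' K' r * (y : K') = 1
        rw [hr, inv_mul_cancel₀ hy0]), map_one]
  let R₃ : ValuationSubring k₃ := { π.range with mem_or_inv_mem' := hmv }
  let π₃ : A' →+* R₃ := π.codRestrict R₃.toSubring fun z => ⟨z, rfl⟩
  have hπ₃s : Function.Surjective π₃ := fun ⟨z, r, hr⟩ => ⟨r, Subtype.ext hr⟩
  have hπ₃ : IsLocalHom π₃ := ⟨fun x hx => by
    obtain ⟨y, hy⟩ := hπ₃s ↑hx.unit⁻¹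
    by_contra hnu
    have h1 : π₃ (x * y - 1) = 0 := by rw [map_sub, map_mul, hy, IsUnit.mul_val_inv, map_one, sub_self]
    have h2 : x * y - 1 ∈ maximalIdeal A' := (mem_maximalIdeal _).2 fun hu => not_isUnit_zero (h1 ▸ hu.map π₃)
    have h3 : x * y ∈ maximalIdeal A' := Ideal.mul_mem_right _ _ ((mem_maximalIdeal _).2 hnu)
    exact (maximalIdeal A').ne_top_iff_one.1 (maximalIdeal.isMaximal A').ne_top
      (by simpa using (maximalIdeal A').sub_mem h3 h2)⟩
  haveI := hπ₃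
  let ψ₃ : W.left.residueField x'' →+* k₃ := (ResidueField.map ν).comp ψ.hom
  have key : ∀ (z : A₀) (w : W'), residue W₀ (incl w) = ψ.hom z.1 → π (φ' w) = ψ₃ z.1 := fun z w hw => by
    show residue W'' ((ι.comp φ') w) = ResidueField.map ν (ψ.hom z.1)
    rw [← hν, ← hw]
    rfl
  have hsurj : ∀ z : A₀, ∃ w : W', residue W₀ (incl w) = ψ.hom z.1 := fun z => by
    obtain ⟨w, hw⟩ := residue_surjective (ψ.hom z.1)
    refine ⟨⟨(w : L), (ValDense.mem_compositeVS _ _ _).2 ⟨w.2, ?_⟩⟩, hw⟩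
    show residue W₀ w ∈ R''
    rw [hw, show ψ.hom z.1 = R''.subtype (m₀ z) from (RingHom.congr_fun hm₀ z).symm]
    exact (m₀ z).2
  have hm₃ : ∀ z : A₀, ψ₃ z.1 ∈ R₃ := fun z => by
    obtain ⟨w, hw⟩ := hsurj z
    exact ⟨φ' w, key z w hw⟩
  let m₃ : A₀ →+* R₃ := (ψ₃.comp A₀.subtype).codRestrict R₃.toSubring hm₃
  haveI : IsLocalHom m₃ := ⟨fun z hz => by
    obtain ⟨w, hw⟩ := hsurj z
    have e : π₃ (φ' w) = m₃ z := Subtype.ext (key z w hw)
    have h1 : IsUnit w := hl'.map_nonunit w (hπ₃.map_nonunit _ (e ▸ hz))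
    have h2 : IsUnit (q'' w) := h1.map q''
    have e2 : q'' w = m₀ z := Subtype.ext (hw.trans (RingHom.congr_fun hm₀ z).symm)
    exact hm₀loc.map_nonunit z (e2 ▸ h2)⟩
  obtain ⟨Ω', _, B, e₁, e₂, n₁, n₂, hee, hn₁, hn₂, hn₁loc, hn₂loc⟩ :=
    exists_common_ext A₀ A₁ R₃ αr ψ₃ ρ₀ m₃ hρ₀ rfl
  haveI := hn₁loc
  -- the two structure morphisms agree
  have hbase : Spec.map (CommRingCat.ofHom (n₂.comp π₃)) ≫ Spec.map (CommRingCat.ofHom φ') ≫ bW =
      Spec.map (CommRingCat.ofHom (n₁.comp m₁)) ≫ b.left := by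
    refine scheme_ext_of_injective (CommRingCat.ofHom B.subtype) Subtype.val_injective ?_
    have er : Spec.map (CommRingCat.ofHom B.subtype) ≫ Spec.map (CommRingCat.ofHom (n₁.comp m₁)) ≫ b.left =
        Spec.map (CommRingCat.ofHom ((e₂.comp ψ₃).comp A₀.subtype)) ≫ y₀ := by
      rw [← Spec.map_comp_assoc, ← CommRingCat.ofHom_comp, ← RingHom.comp_assoc, hn₁,
        CommRingCat.ofHom_comp, Spec.map_comp_assoc, ← hy₂, ← Spec.map_comp_assoc, ← CommRingCat.ofHom_comp,
        RingHom.comp_assoc, show A₁.subtype.comp ρ₀ = αr.comp A₀.subtype from hρ₀, ← RingHom.comp_assoc, hee]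
    rw [er, ← cancel_mono τ.hom, Category.assoc (Spec.map (CommRingCat.ofHom ((e₂.comp ψ₃).comp A₀.subtype))) y₀ τ.hom, ← hα₀]
    simp only [bW]
    simp only [Category.assoc, Iso.inv_hom_id, Category.comp_id, ← Spec.map_comp]
    congr 1
    ext γ
    show B.subtype (n₂ (π₃ (φ' (α'.hom γ)))) = e₂ (ψ₃ (α₀.hom γ).1)
    rw [show B.subtype (n₂ (π₃ (φ' (α'.hom γ)))) = e₂ (π (φ' (α'.hom γ))) from RingHom.congr_fun hn₂ _,
      key (α₀.hom γ) (α'.hom γ) (congrArg (fun z => z.hom γ) hcomp)]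
  let ψf : q.K →+* Ω' := e₁.comp ψK
  have hcf : B.subtype.comp (n₁.comp m₁) = ψf.comp (algebraMap q.A q.K) := by
    rw [← RingHom.comp_assoc, hn₁]
    rfl
  let sB : Spec (CommRingCat.of B) ⟶ S := Spec.map (CommRingCat.ofHom (n₁.comp m₁)) ≫ q.str
  let sΩ' : Spec (CommRingCat.of Ω') ⟶ S := Spec.map (CommRingCat.ofHom ψf) ≫ q.ptK.hom
  have hKB : Spec.map (CommRingCat.ofHom (algebraMap B Ω')) ≫ sB = sΩ' := by
    show Spec.map _ ≫ Spec.map _ ≫ q.str = Spec.map _ ≫ Spec.map _ ≫ q.str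
    rw [← Spec.map_comp_assoc, ← Spec.map_comp_assoc, ← CommRingCat.ofHom_comp, ← CommRingCat.ofHom_comp]
    exact congrArg (fun z => Spec.map (CommRingCat.ofHom z) ≫ q.str) hcf
  have hsB : Spec.map (CommRingCat.ofHom (n₂.comp π₃)) ≫ sA' = sB := by
    rw [← hφ']
    show _ ≫ _ ≫ bW ≫ T.hom = _
    rw [reassoc_of% hbase, Over.w b]
    rfl
  refine ⟨B, Ω', inferInstance, inferInstance, inferInstance, inferInstance, inferInstance, inferInstance,
    n₁.comp m₁, ψf, hcf, RingHom.isLocalHom_comp _ _, sB, sΩ', rfl, rfl, hKB,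
    (yon S).map (specMap (n₂.comp π₃) sA' sB hsB) ≫ l, ?_, ?_⟩
  · have hΩ : Spec.map (CommRingCat.ofHom (e₂.comp (residue W''))) ≫ sW'' = sΩ' := by
      rw [← hKB, ← hsB, ← Spec.map_comp_assoc, ← Spec.map_comp_assoc, ← CommRingCat.ofHom_comp,
        ← CommRingCat.ofHom_comp]
      exact congrArg (fun z => Spec.map (CommRingCat.ofHom z) ≫ sA') (RingHom.ext fun z =>
        (RingHom.congr_fun hn₂ (π₃ z)).symm)
    have hΩ₁ : Spec.map (CommRingCat.ofHom e₁) ≫ sΩ = sΩ' := by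
      rw [← hψΩ, ← Spec.map_comp_assoc]
      rfl
    have step : (yon S).map (specMap (algebraMap B Ω') sB sΩ' hKB) ≫
        (yon S).map (specMap (n₂.comp π₃) sA' sB hsB) ≫ l =
        (yon S).map (specMap (e₂.comp (residue W'')) sW'' sΩ' hΩ) ≫ l' := by
      show _ = _ ≫ _ ≫ l
      rw [← Functor.map_comp_assoc, ← Functor.map_comp_assoc]
      refine congrArg (fun z => (yon S).map z ≫ l) (Over.OverMorphism.ext ?_)
      show Spec.map _ ≫ Spec.map _ = Spec.map _ ≫ Spec.map _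
      rw [← Spec.map_comp, ← Spec.map_comp, ← CommRingCat.ofHom_comp, ← CommRingCat.ofHom_comp]
      exact congrArg (fun z => Spec.map (CommRingCat.ofHom z)) (RingHom.ext fun z => RingHom.congr_fun hn₂ (π₃ z))
    have e3 : specMap (e₂.comp (residue W'')) sW'' sΩ' hΩ ≫ gW = specMap e₁ sΩ sΩ' hΩ₁ ≫ n := by
      apply Over.OverMorphism.ext
      show Spec.map _ ≫ Spec.map _ ≫ g = Spec.map _ ≫ n.left
      rw [hn, ← Spec.map_comp_assoc, ← Spec.map_comp_assoc, ← CommRingCat.ofHom_comp, ← CommRingCat.ofHom_comp,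
        RingHom.comp_assoc, show (residue W'').comp ν = (ResidueField.map ν).comp (residue W₀) from rfl,
        CommRingCat.ofHom_comp, CommRingCat.ofHom_comp, Category.assoc, Spec.map_comp_assoc,
        show Spec.map (CommRingCat.ofHom (residue W₀)) ≫ g = Spec.map ψ ≫ W.left.fromSpecResidueField x'' from hψ.symm,
        ← Spec.map_comp_assoc]
      exact congrArg (fun z => Spec.map (CommRingCat.ofHom z) ≫ W.left.fromSpecResidueField x'') hee.symm
    rw [step, hl'g, ← Functor.map_comp_assoc, e3, Functor.map_comp, Category.assoc, hna, ← Functor.map_comp_assoc]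
    exact congrArg (fun z => (yon S).map z ≫ q.top) (Over.OverMorphism.ext (Spec.map_comp _ _).symm)
  · rw [Category.assoc, h₂, ← hb, ← Functor.map_comp, ← Functor.map_comp, ← Functor.map_comp]
    exact congrArg (yon S).map (Over.OverMorphism.ext hbase)

end Groth.Agent.ASp
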