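import Groth.Agent.Lib.AlgSpTop
import Groth.Prelude.Def_AlgSpRep

/-! Maps of presheaves representable by algebraic spaces: sheaf property, composition, diagonals. -/

set_option backward.isDefEq.respectTransparency.types false

universe u v

open CategoryTheory CategoryTheory.Limits AlgebraicGeometry Opposite

noncomputable section

namespace Groth.Agent.ASp

open _root_.AlgSp

variable {S : Scheme.{u}}

theorem eq_of_comp_diag {C : Type*} [Category C] {A Y Z : C} [HasBinaryProduct Y Y] {p : A ⟶ Y} {m : A ⟶ Z}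
    {g : Z ⟶ Y ⨯ Y} (h : p ≫ Limits.diag Y = m ≫ g) : p = m ≫ g ≫ prod.fst ∧ p = m ≫ g ≫ prod.snd := by
  constructor
  · have h' : (p ≫ prod.lift (𝟙 Y) (𝟙 Y)) ≫ prod.fst = (m ≫ g) ≫ prod.fst := congrArg (· ≫ prod.fst) h
    rwa [Category.assoc, prod.lift_fst, Category.comp_id, Category.assoc] at h'
  · have h' : (p ≫ prod.lift (𝟙 Y) (𝟙 Y)) ≫ prod.snd = (m ≫ g) ≫ prod.snd := congrArg (· ≫ prod.snd) h
    rwa [Category.assoc, prod.lift_snd, Category.comp_id, Category.assoc] at h'

theorem comp_diag_eq {C : Type*} [Category C] {A Y : C} [HasBinaryProduct Y Y] {p : A ⟶ Y} {w : A ⟶ Y ⨯ Y}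
    (h₁ : p = w ≫ prod.fst) (h₂ : p = w ≫ prod.snd) : p ≫ Limits.diag Y = w := by
  apply Limits.prod.hom_ext
  · rw [Category.assoc, prod.lift_fst, Category.comp_id, h₁]
  · rw [Category.assoc, prod.lift_snd, Category.comp_id, h₂]

theorem map_assoc_eq {C D : Type*} [Category C] [Category D] (Φ : C ⥤ D) {X Y Z : C} {W : D}
    (x : W ⟶ Φ.obj X) {f : X ⟶ Y} {g : Y ⟶ Z} {w : X ⟶ Z} (h : f ≫ g = w) :
    (x ≫ Φ.map f) ≫ Φ.map g = x ≫ Φ.map w := by rw [Category.assoc, ← Functor.map_comp, h]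

/-- The inclusion of sheaves into presheaves. -/
abbrev toP (S : Scheme.{u}) : Sp S ⥤ PSp S := sheafToPresheaf (J S) (Type (u + 1))

/-- A presheaf with a map representable by algebraic spaces to a sheaf is a sheaf. -/
theorem isSheaf_of_repBySp {F G : PSp S} {a : F ⟶ G} (ha : RepBySp a) (hG : Presheaf.IsSheaf (J S) G) :
    Presheaf.IsSheaf (J S) F := by
  rw [isSheaf_iff_isSheaf_of_type] at hG ⊢
  intro T R hR x hx
  let g := (hG R hR).amalgamate (Presieve.FamilyOfElements.map x a) (Presieve.FamilyOfElements.Compatible.map a hx)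
  have hg : ∀ ⦃Y⦄ (f : Y ⟶ T) (hf : R.arrows f), G.map f.op g = a.app _ (x f hf) :=
    fun Y f hf => (hG R hR).valid_glue (Presieve.FamilyOfElements.Compatible.map a hx) f hf
  let ξ : (pyon S).obj T ⟶ G := uliftYonedaEquiv.{u + 1}.symm g
  have sq := IsPullback.of_hasPullback a ξ
  obtain ⟨hP, -⟩ := ha ξ (pullback.fst a ξ) (pullback.snd a ξ) sq
  rw [isSheaf_iff_isSheaf_of_type] at hP
  have sqY : ∀ Y : Over S, IsPullback ((pullback.fst a ξ).app (op Y)) ((pullback.snd a ξ).app (op Y))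
      (a.app (op Y)) (ξ.app (op Y)) := fun Y => sq.map ((evaluation _ _).obj (op Y))
  have hξ : ∀ ⦃Y : Over S⦄ (f : Y ⟶ T), ξ.app (op Y) (ULift.up f) = G.map f.op g := fun Y f => rfl
  have key : ∀ ⦃Y : Over S⦄ (f : Y ⟶ T) (hf : R.arrows f), ∃ y : (pullback a ξ).obj (op Y),
      (pullback.fst a ξ).app _ y = x f hf ∧ (pullback.snd a ξ).app _ y = ULift.up f := fun Y f hf =>
    Types.exists_of_isPullback (sqY Y) (x f hf) (ULift.up f) (by rw [hξ, hg f hf])
  choose y hy₁ hy₂ using key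
  have hyc : Presieve.FamilyOfElements.Compatible (fun Y f hf => y f hf : Presieve.FamilyOfElements
      (pullback a ξ) R.arrows) := by
    intro Y₁ Y₂ Z g₁ g₂ f₁ f₂ h₁ h₂ e
    refine Types.ext_of_isPullback (sqY Z) ?_ ?_
    · rw [NatTrans.naturality_apply, NatTrans.naturality_apply, hy₁, hy₁]
      exact hx g₁ g₂ h₁ h₂ e
    · rw [NatTrans.naturality_apply, NatTrans.naturality_apply, hy₂, hy₂]
      exact congrArg ULift.up e
  obtain ⟨z, hz, huniq⟩ := hP R hR _ hyc
  have hsep : ∀ t t' : ((pyon S).obj T).obj (op T),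
      (∀ ⦃Y⦄ (f : Y ⟶ T), R.arrows f → ((pyon S).obj T).map f.op t = ((pyon S).obj T).map f.op t') →
        t = t' := fun t t' h => by
    have hT := ((yon S).obj T).property
    rw [isSheaf_iff_isSheaf_of_type] at hT
    exact (hT R hR).isSeparatedFor.ext h
  have hz₂ : (pullback.snd a ξ).app _ z = ULift.up (𝟙 T) := hsep _ _ fun Y f hf => by
    rw [← NatTrans.naturality_apply, hz f hf, hy₂]
    exact congrArg ULift.up (Category.comp_id f).symm
  refine ⟨(pullback.fst a ξ).app _ z, fun Y f hf => ?_, fun t ht => ?_⟩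
  · rw [← NatTrans.naturality_apply, hz f hf, hy₁]
  · have hat : a.app _ t = g := (hG R hR).isSeparatedFor.ext fun Y f hf => by
      rw [← NatTrans.naturality_apply, ht f hf, hg f hf]
    obtain ⟨z', hz'₁, hz'₂⟩ := Types.exists_of_isPullback (sqY T) t (ULift.up (𝟙 T))
      (by rw [hξ, hat, op_id, Functor.map_id_apply])
    rw [← hz'₁, huniq z' fun Y f hf => Types.ext_of_isPullback (sqY Y)
      (by rw [NatTrans.naturality_apply, hz'₁, hy₁]; exact ht f hf)
      (by rw [NatTrans.naturality_apply, hz'₂, hy₂]; exact congrArg ULift.up (Category.comp_id f))]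

/-- Representable by schemes implies representable by algebraic spaces. -/
theorem repBySp_of_relativelyRepresentable {F G : PSp S} {a : F ⟶ G}
    (ha : (pyon S).relativelyRepresentable a) : RepBySp a := by
  intro U ξ F' fst snd sq
  obtain ⟨V, snd', fst', sq'⟩ := ha ξ
  exact ((isAlgSpaceP_obj_iff ((yon S).obj V)).2 (IsAlgSpace.yon_obj V)).of_iso (sq'.isoIsPullback _ _ sq)

/-- Equalisers of sections of a presheaf representable by algebraic spaces over another one. -/
theorem exists_equalizer {F G : PSp S} {a : F ⟶ G} (ha : RepBySp a) {T : Over S}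
    (u v : (pyon S).obj T ⟶ F) (h : u ≫ a = v ≫ a) :
    ∃ (E : Over S) (e : E ⟶ T), (pyon S).map e ≫ u = (pyon S).map e ≫ v ∧
      ∀ (Z : PSp S) (t : Z ⟶ (pyon S).obj T), t ≫ u = t ≫ v → ∃! l, l ≫ (pyon S).map e = t := by
  have sq := IsPullback.of_hasPullback a (v ≫ a)
  obtain ⟨hP, hPA⟩ := ha (v ≫ a) _ _ sq
  let P : Sp S := ⟨pullback a (v ≫ a), hP⟩
  let u₁ : (pyon S).obj T ⟶ pullback a (v ≫ a) := pullback.lift u (𝟙 _) (by rw [h, Category.id_comp])
  let v₁ : (pyon S).obj T ⟶ pullback a (v ≫ a) := pullback.lift v (𝟙 _) (by rw [Category.id_comp])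
  let u' : (yon S).obj T ⟶ P := ObjectProperty.homMk u₁
  let v' : (yon S).obj T ⟶ P := ObjectProperty.homMk v₁
  obtain ⟨E, fst, e, hsq⟩ := exists_sq (hPA.diag : Representable (Limits.diag P)) (prod.lift u' v')
  have h₁ : fst = (yon S).map e ≫ u' := (eq_of_comp_diag hsq.w).1.trans (by rw [prod.lift_fst])
  have h₂ : fst = (yon S).map e ≫ v' := (eq_of_comp_diag hsq.w).2.trans (by rw [prod.lift_snd])
  have hsqP := hsq.map (toP S)
  refine ⟨E, e, ?_, fun Z t ht => ?_⟩
  · have := congrArg (fun w : (yon S).obj E ⟶ P => w.hom ≫ pullback.fst a (v ≫ a)) (h₁.symm.trans h₂)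
    change ((pyon S).map e ≫ u₁) ≫ pullback.fst a (v ≫ a) = ((pyon S).map e ≫ v₁) ≫ pullback.fst a (v ≫ a) at this
    rw [Category.assoc, Category.assoc, show u₁ ≫ pullback.fst a (v ≫ a) = u from pullback.lift_fst _ _ _,
      show v₁ ≫ pullback.fst a (v ≫ a) = v from pullback.lift_fst _ _ _] at this
    exact this
  · have ht' : t ≫ u₁ = t ≫ v₁ := pullback.hom_ext
      (by rw [Category.assoc, Category.assoc, show u₁ ≫ pullback.fst a (v ≫ a) = u from pullback.lift_fst _ _ _,
        show v₁ ≫ pullback.fst a (v ≫ a) = v from pullback.lift_fst _ _ _]; exact ht)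
      (by rw [Category.assoc, Category.assoc,
        show u₁ ≫ pullback.snd a (v ≫ a) = 𝟙 _ from pullback.lift_snd _ _ _,
        show v₁ ≫ pullback.snd a (v ≫ a) = 𝟙 _ from pullback.lift_snd _ _ _])
    have hw : (t ≫ u₁ : Z ⟶ (toP S).obj P) ≫ (toP S).map (Limits.diag P) =
        (t : Z ⟶ (toP S).obj ((yon S).obj T)) ≫ (toP S).map (prod.lift u' v') := by
      refine BinaryFan.IsLimit.hom_ext (isLimitOfHasBinaryProductOfPreservesLimit (toP S) P P) ?_ ?_
      · refine (map_assoc_eq (toP S) _ (prod.lift_fst (𝟙 P) (𝟙 P))).trans (Eq.trans ?_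
          (map_assoc_eq (toP S) _ (prod.lift_fst u' v')).symm)
        rw [CategoryTheory.Functor.map_id]
        exact Category.comp_id _
      · refine (map_assoc_eq (toP S) _ (prod.lift_snd (𝟙 P) (𝟙 P))).trans (Eq.trans ?_
          (map_assoc_eq (toP S) _ (prod.lift_snd u' v')).symm)
        rw [CategoryTheory.Functor.map_id]
        exact (Category.comp_id _).trans ht'
    refine ⟨hsqP.lift (t ≫ u₁) t hw, hsqP.lift_snd _ _ _, fun l hl => hsqP.hom_ext ?_ ?_⟩
    · rw [hsqP.lift_fst, h₁, Functor.map_comp, ← Category.assoc]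
      exact congrArg (· ≫ u₁) hl
    · rw [hsqP.lift_snd]; exact hl

/-- The diagonal of a map representable by algebraic spaces is representable by schemes. -/
theorem relativelyRepresentable_diagonal {F G : PSp S} {a : F ⟶ G} (ha : RepBySp a) :
    (pyon S).relativelyRepresentable (pullback.diagonal a) := by
  intro T w
  obtain ⟨E, e, he, hu⟩ := exists_equalizer ha (w ≫ pullback.fst a a) (w ≫ pullback.snd a a)
    (by rw [Category.assoc, Category.assoc, pullback.condition])
  have hw : ((pyon S).map e ≫ w ≫ pullback.fst a a) ≫ pullback.diagonal a = (pyon S).map e ≫ w := by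
    apply pullback.hom_ext <;> simp only [Category.assoc, pullback.diagonal_fst, pullback.diagonal_snd,
      Category.comp_id]
    exact he
  have key : ∀ s : PullbackCone (pullback.diagonal a) w,
      s.snd ≫ w ≫ pullback.fst a a = s.snd ≫ w ≫ pullback.snd a a := fun s => by
    have h₁ := congrArg (· ≫ pullback.fst a a) s.condition
    have h₂ := congrArg (· ≫ pullback.snd a a) s.condition
    simp only [Category.assoc, pullback.diagonal_fst, pullback.diagonal_snd, Category.comp_id] at h₁ h₂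
    exact h₁.symm.trans h₂
  refine ⟨E, e, (pyon S).map e ≫ w ≫ pullback.fst a a, ⟨⟨hw⟩, ⟨PullbackCone.IsLimit.mk hw
    (fun s => (hu _ s.snd (key s)).exists.choose) (fun s => ?_) (fun s => ?_) fun s m _ h₂ => ?_⟩⟩⟩
  · rw [reassoc_of% (hu _ s.snd (key s)).exists.choose_spec]
    have h₁ := congrArg (· ≫ pullback.fst a a) s.condition
    simp only [Category.assoc, pullback.diagonal_fst, Category.comp_id] at h₁
    exact h₁.symm
  · exact (hu _ s.snd (key s)).exists.choose_spec
  · exact (hu _ s.snd (key s)).unique h₂ (hu _ s.snd (key s)).exists.choose_spec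

theorem repBySp_baseChange {F G F' G' : PSp S} {f' : F' ⟶ G'} {f : F ⟶ G} {p : F' ⟶ F} {g : G' ⟶ G}
    (sq : IsPullback p f' f g) (h : RepBySp f) : RepBySp f' :=
  fun _ ξ _ fst snd sq' => h (ξ ≫ g) (fst ≫ p) snd (sq'.paste_horiz sq)

/-- A presheaf representable by algebraic spaces over an algebraic space is an algebraic space. -/
theorem isAlgSpaceP_of_repBySp {F : PSp S} {X : Sp S} (hX : IsAlgSpace X) {a : F ⟶ X.obj}
    (ha : RepBySp a) : IsAlgSpaceP F := by
  have hF := isSheaf_of_repBySp ha X.property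
  refine ⟨hF, ⟨?_, ?_⟩⟩
  · let Fs : Sp S := ⟨F, hF⟩
    let f : Fs ⟶ X := ObjectProperty.homMk a
    intro T g
    obtain ⟨E₀, fst₀, e₀, sq₀⟩ := exists_sq hX.diag (g ≫ prod.map f f)
    have hw₁ : fst₀ = (yon S).map e₀ ≫ (g ≫ prod.fst) ≫ f := (eq_of_comp_diag sq₀.w).1.trans
      (by rw [Category.assoc g, Category.assoc g, prod.map_fst])
    have hw₂ : fst₀ = (yon S).map e₀ ≫ (g ≫ prod.snd) ≫ f := (eq_of_comp_diag sq₀.w).2.trans
      (by rw [Category.assoc g, Category.assoc g, prod.map_snd])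
    obtain ⟨E, e, he, hu⟩ := exists_equalizer ha ((yon S).map e₀ ≫ g ≫ prod.fst).hom
      ((yon S).map e₀ ≫ g ≫ prod.snd).hom (by
        have h' : ((yon S).map e₀ ≫ g ≫ prod.fst) ≫ f = ((yon S).map e₀ ≫ g ≫ prod.snd) ≫ f := by
          simp only [Category.assoc]
          simpa using hw₁.symm.trans hw₂
        exact congrArg (·.hom) h')
    have hu' : ∀ (Z : Sp S) (t : Z ⟶ (yon S).obj E₀),
        t ≫ (yon S).map e₀ ≫ g ≫ prod.fst = t ≫ (yon S).map e₀ ≫ g ≫ prod.snd →
          ∃! l, l ≫ (yon S).map e = t := fun Z t ht => by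
      obtain ⟨l, hl, hl'⟩ := hu Z.obj t.hom (congrArg (·.hom) ht)
      exact ⟨ObjectProperty.homMk l, ObjectProperty.hom_ext _ hl,
        fun m hm => ObjectProperty.hom_ext _ (hl' m.hom (congrArg (·.hom) hm))⟩
    have he' : (yon S).map e ≫ (yon S).map e₀ ≫ g ≫ prod.fst =
        (yon S).map e ≫ (yon S).map e₀ ≫ g ≫ prod.snd := ObjectProperty.hom_ext _ he
    have hw : ((yon S).map (e ≫ e₀) ≫ g ≫ prod.fst) ≫ Limits.diag Fs = (yon S).map (e ≫ e₀) ≫ g :=
      comp_diag_eq (Category.assoc _ _ _).symm (by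
        rw [Category.assoc, Functor.map_comp, Category.assoc, Category.assoc]; exact he')
    refine ⟨E, e ≫ e₀, (yon S).map (e ≫ e₀) ≫ g ≫ prod.fst, ⟨⟨hw⟩,
      ⟨PullbackCone.isLimitAux' _ fun s => ?_⟩⟩⟩
    obtain ⟨h₁, h₂⟩ := eq_of_comp_diag (show s.fst ≫ Limits.diag Fs = s.snd ≫ g from s.condition)
    let t := sq₀.lift (s.fst ≫ f) s.snd (comp_diag_eq
      (by rw [Category.assoc, Category.assoc, prod.map_fst, h₁, Category.assoc, Category.assoc])
      (by rw [Category.assoc, Category.assoc, prod.map_snd, h₂, Category.assoc, Category.assoc]))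
    have ht : t ≫ (yon S).map e₀ = s.snd := sq₀.lift_snd _ _ _
    have hx := hu' _ t (by rw [reassoc_of% ht, reassoc_of% ht, ← h₁, ← h₂])
    refine ⟨hx.exists.choose, ?_, ?_, fun {m} _ hm => ?_⟩
    · change hx.exists.choose ≫ (yon S).map (e ≫ e₀) ≫ g ≫ prod.fst = s.fst
      rw [Functor.map_comp, Category.assoc, reassoc_of% hx.exists.choose_spec, reassoc_of% ht, ← h₁]
    · change hx.exists.choose ≫ (yon S).map (e ≫ e₀) = s.snd
      rw [Functor.map_comp, reassoc_of% hx.exists.choose_spec, ht]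
    · have hm' : ((m : s.pt ⟶ (yon S).obj E) ≫ (yon S).map e) ≫ (yon S).map e₀ = t ≫ (yon S).map e₀ := by
        exact (map_assoc_eq (yon S) (m : s.pt ⟶ (yon S).obj E) rfl).trans (hm.trans ht.symm)
      refine hx.unique (sq₀.hom_ext ?_ hm') hx.exists.choose_spec
      rw [hw₁]
      exact (Category.assoc _ _ _).symm.trans ((congrArg (· ≫ (g ≫ prod.fst) ≫ f) hm').trans (Category.assoc _ _ _))
  · let Fs : Sp S := ⟨F, hF⟩
    let f : Fs ⟶ X := ObjectProperty.homMk a
    obtain ⟨U, p, hpe, hps⟩ := hX.atlas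
    have hP : IsAlgSpace (pullback f p) :=
      (repBySp_hom_iff f).1 ha p _ _ (IsPullback.of_hasPullback f p)
    obtain ⟨V, q, hqe, hqs⟩ := hP.atlas
    exact ⟨V, q ≫ pullback.fst f p, repWith_comp hqe (repWith_baseChange (IsPullback.of_hasPullback f p).flip hpe),
      repWith_comp hqs (repWith_baseChange (IsPullback.of_hasPullback f p).flip hps)⟩

theorem repBySp_comp {F G H : PSp S} {a : F ⟶ G} {b : G ⟶ H} (ha : RepBySp a) (hb : RepBySp b) :
    RepBySp (a ≫ b) := by
  intro U ξ F' fst snd sq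
  obtain ⟨hG', hA⟩ := hb ξ _ _ (IsPullback.of_hasPullback b ξ)
  have sq₁ := IsPullback.of_hasPullback b ξ
  let m := sq₁.lift (fst ≫ a) snd (by rw [Category.assoc]; exact sq.w)
  have hm : IsPullback fst m a (pullback.fst b ξ) :=
    IsPullback.of_bot (v₂₁ := pullback.snd b ξ) (v₂₂ := b) (h₃₁ := ξ)
      (by rw [sq₁.lift_snd]; exact sq) (sq₁.lift_fst _ _ _).symm sq₁
  exact isAlgSpaceP_of_repBySp (X := ⟨pullback b ξ, hG'⟩) hA (repBySp_baseChange hm ha)

theorem repBySp_prodMap {F₁ G₁ F₂ G₂ : PSp S} {a₁ : F₁ ⟶ G₁} {a₂ : F₂ ⟶ G₂} (h₁ : RepBySp a₁)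
    (h₂ : RepBySp a₂) : RepBySp (prod.map a₁ a₂) := by
  have e : prod.map a₁ a₂ = prod.map a₁ (𝟙 F₂) ≫ (Limits.prod.braiding G₁ F₂).hom ≫
      prod.map a₂ (𝟙 G₁) ≫ (Limits.prod.braiding G₂ G₁).hom := by
    apply Limits.prod.hom_ext <;>
      simp only [Category.assoc, Limits.prod.braiding_hom, prod.lift_fst, prod.lift_snd, prod.map_fst,
        prod.map_snd, prod.lift_fst_assoc, prod.lift_snd_assoc, prod.map_fst_assoc, prod.map_snd_assoc,
        Category.id_comp, Category.comp_id]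
  rw [e]
  have hiso : ∀ {A B : PSp S} (i : A ≅ B), RepBySp i.hom := fun i U ξ F' fst snd sq =>
    ((isAlgSpaceP_obj_iff ((yon S).obj U)).2 (IsAlgSpace.yon_obj U)).of_iso
      (haveI := sq.isIso_snd_of_isIso; (asIso snd).symm)
  exact repBySp_comp (repBySp_baseChange (IsPullback.of_prod_fst_with_id a₁ F₂) h₁) (repBySp_comp (hiso _)
    (repBySp_comp (repBySp_baseChange (IsPullback.of_prod_fst_with_id a₂ G₁) h₂) (hiso _)))

theorem repBySp_of_comp {F G H : PSp S} {a : F ⟶ G} {b : G ⟶ H} (hd : RepBySp (pullback.diagonal b))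
    (hab : RepBySp (a ≫ b)) : RepBySp a := by
  rw [show a = pullback.lift (𝟙 F) a (by simp) ≫ pullback.snd (a ≫ b) b from (pullback.lift_snd _ _ _).symm]
  exact repBySp_comp (repBySp_baseChange (pullback_lift_diagonal_isPullback a b) hd)
    (repBySp_baseChange (IsPullback.of_hasPullback (a ≫ b) b) hab)

end Groth.Agent.ASp
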