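import Groth.Agent.Lib.AlgSpRefinedVC
import Groth.Agent.Lib.AlgSpVCQS
/-! For representable morphisms no extension is needed in the existence part. -/

set_option autoImplicit false
set_option linter.style.haveILetI false
set_option linter.unusedVariables false
set_option backward.isDefEq.respectTransparency.types false

universe u

open CategoryTheory CategoryTheory.Limits AlgebraicGeometry Opposite Topology IsLocalRing

noncomputable section

namespace Groth.Agent.ASp

open _root_.AlgSp
open Groth.Agent.H6 (ValDense.res ValDense.exists_rho ValDense.descend)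

variable {S : Scheme.{u}} {X Y : Sp S}

theorem existVCStrict_of_representable {f : X ⟶ Y} (hf : Representable f) (h : ExistVC f) : ExistVCStrict f := by
  intro q
  obtain ⟨V, p₁, snd, sq⟩ := exists_sq hf q.bot
  obtain ⟨k0, hk0⟩ := (yon S).map_surjective (sq.lift q.top ((yon S).map q.j) q.comm)
  have hk0f : (yon S).map k0 ≫ p₁ = q.top := by rw [hk0, sq.lift_fst]
  have hk0π : k0 ≫ snd = q.j := (yon S).map_injective (by rw [Functor.map_comp, hk0, sq.lift_snd])
  obtain ⟨A', K', _, _, _, _, _, _, φ, ψ, hc, hl, sA', sK', hφ, hψ, hK, l₀, h₁, h₂⟩ :=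
    existVC_apply h (K := q.K) q.str _ rfl q.top q.bot q.comm
  obtain ⟨l, hl'⟩ := (yon S).map_surjective (sq.lift l₀ ((yon S).map (specMap φ q.str sA' hφ)) h₂)
  have hgen : specMap (algebraMap A' K') sA' sK' hK ≫ l = specMap ψ q.ptK.hom sK' hψ ≫ k0 := by
    apply (yon S).map_injective
    rw [Functor.map_comp, Functor.map_comp, hl']
    refine sq.hom_ext ?_ ?_
    · rw [Category.assoc, sq.lift_fst, Category.assoc, hk0f]; exact h₁
    · rw [Category.assoc, sq.lift_snd, Category.assoc, hk0, sq.lift_snd, ← Functor.map_comp, ← Functor.map_comp]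
      exact congrArg (yon S).map ((specMap_comp φ (algebraMap A' K') _ _ _ hφ hK).trans
        ((specMap_congr hc _ _ _ _).trans (specMap_comp (algebraMap q.A q.K) ψ q.str _ _ rfl hψ).symm))
  obtain ⟨ρ, hρ, -⟩ := ValDense.exists_rho (R := A') (K := K') ψ
  obtain ⟨l', hl'₁, -⟩ := ValDense.descend (R := A') (K := K') ψ ρ hρ k0.left l.left (congrArg CommaMorphism.left hgen)
  have hres : ∀ z : q.K, z ∈ ValDense.res A' ψ → ∃ a, algebraMap q.A q.K a = z := by
    rintro z ⟨a', ha'⟩
    rcases ValuationRing.isInteger_or_isInteger q.A z with ⟨a, ha⟩ | ⟨a, ha⟩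
    · exact ⟨a, ha⟩
    · by_cases hz : z = 0
      · exact ⟨0, by rw [hz, map_zero]⟩
      have h1 : φ a * a' = 1 := IsFractionRing.injective A' K' (by
        rw [map_mul, ha', map_one, ← RingHom.comp_apply, hc, RingHom.comp_apply, ha, ← map_mul,
          inv_mul_cancel₀ hz, map_one])
      obtain ⟨v, hv⟩ := hl.map_nonunit a (IsUnit.of_mul_eq_one _ h1)
      refine ⟨↑v⁻¹, ?_⟩
      have h2 : algebraMap q.A q.K ↑v⁻¹ * algebraMap q.A q.K a = 1 := by rw [← map_mul, ← hv, Units.inv_mul, map_one]
      rw [ha] at h2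
      simpa [hz] using congrArg (· * z) h2
  choose τ hτ using fun z : ValDense.res A' ψ => hres z.1 z.2
  have hinj := IsFractionRing.injective q.A q.K
  let τ' : ValDense.res A' ψ →+* q.A :=
    { toFun := τ
      map_one' := hinj (by rw [hτ, map_one]; rfl)
      map_mul' := fun x y => hinj (by rw [hτ, map_mul, hτ, hτ]; rfl)
      map_zero' := hinj (by rw [hτ, map_zero]; rfl)
      map_add' := fun x y => hinj (by rw [hτ, map_add, hτ, hτ]; rfl) }
  have hgen' : Spec.map (CommRingCat.ofHom (algebraMap q.A q.K)) ≫ Spec.map (CommRingCat.ofHom τ') ≫ l' = k0.left := by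
    rw [← Spec.map_comp_assoc, ← hl'₁, ← CommRingCat.ofHom_comp]
    exact congrArg (fun z => Spec.map (CommRingCat.ofHom z) ≫ l') (RingHom.ext hτ)
  let m : Spec (CommRingCat.of q.A) ⟶ V.left := Spec.map (CommRingCat.ofHom τ') ≫ l'
  haveI : IsAffine q.ptA.left := inferInstanceAs (IsAffine (Spec (CommRingCat.of q.A)))
  have hm : m ≫ snd.left = 𝟙 _ := by
    refine scheme_ext_of_injective (T := q.ptA.left) (CommRingCat.ofHom (algebraMap q.A q.K)) hinj ?_
    simp only [m]; rw [Category.assoc, reassoc_of% hgen']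
    exact (congrArg CommaMorphism.left hk0π).trans (Category.comp_id _).symm
  let mO : q.ptA ⟶ V := Over.homMk m (by
    rw [← Over.w snd, ← Category.assoc, hm]
    exact Category.id_comp _)
  refine ⟨(yon S).map mO ≫ p₁, ?_, ?_⟩
  · rw [← hk0f, ← Functor.map_comp_assoc]
    exact congrArg (fun z => (yon S).map z ≫ p₁) (Over.OverMorphism.ext hgen')
  · rw [Category.assoc, sq.w, ← Functor.map_comp_assoc, show mO ≫ snd = 𝟙 _ from Over.OverMorphism.ext hm,
      CategoryTheory.Functor.map_id, Category.id_comp]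

end Groth.Agent.ASp
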