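import Groth.Agent.Lib.AlgSpRedInduced
import Groth.Agent.Lib.AlgSpLocal
import Groth.Agent.Lib.AlgSpRep
/-! Scheme theoretic images. -/

set_option autoImplicit false
set_option linter.style.haveILetI false
set_option linter.unusedVariables false
set_option backward.isDefEq.respectTransparency.types false

universe u

open CategoryTheory CategoryTheory.Limits AlgebraicGeometry Opposite Topology

noncomputable section

namespace Groth.Agent.ASp

open _root_.AlgSp

variable {S : Scheme.{u}}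

/-- A morphism factors through a mono if it does on an atlas. -/
theorem exists_factor_of_atlas {A B G : Sp S} {W : Over S} {a : (yon S).obj W ⟶ A} (hae : RepWith @Etale a)
    (has : RepWith @Surjective a) (g : A ⟶ G) (i : B ⟶ G) [Mono i]
    (h : ∃ l : (yon S).obj W ⟶ B, l ≫ i = a ≫ g) : ∃ k : A ⟶ B, k ≫ i = g := by
  obtain ⟨l, hl⟩ := h
  haveI := isLocallySurjective_of_etale hae has
  haveI : Epi a := inferInstance
  haveI : Epi (pullback.snd i g) := epi_of_epi_fac (pullback.lift_snd l a hl)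
  haveI := isIso_of_mono_of_epi (pullback.snd i g)
  exact ⟨inv (pullback.snd i g) ≫ pullback.fst i g, by
    rw [Category.assoc, pullback.condition, IsIso.inv_hom_id_assoc]⟩

theorem exists_lift_subscheme {V U : Scheme.{u}} (u : V ⟶ U) (I : U.IdealSheafData) (h : I ≤ u.ker) :
    ∃ l : V ⟶ I.subscheme, l ≫ I.subschemeι = u :=
  ⟨u.toImage ≫ Scheme.IdealSheafData.inclusion h, by
    rw [Category.assoc, Scheme.IdealSheafData.inclusion_subschemeι]; exact u.toImage_imageι⟩

theorem exists_isSchImage {X Y : Sp S} (hX : IsAlgSpace X) (hY : IsAlgSpace Y) (f : X ⟶ Y) :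
    ∃ (Z : Sp S) (i : Z ⟶ Y), IsAlgSpace Z ∧ IsSchImage f i := by
  obtain ⟨U, p, hpe, hps⟩ := hY.atlas
  let Fam : Set U.left.IdealSheafData := {J | ∃ (Z' : Sp S) (i' : Z' ⟶ Y), IsAlgSpace Z' ∧
    RepWith @IsClosedImmersion i' ∧ (∃ f'' : X ⟶ Z', f'' ≫ i' = f) ∧
    ∃ (T : Over S) (q : (yon S).obj T ⟶ Z') (t : T ⟶ U), IsPullback q ((yon S).map t) i' p ∧ t.left.ker = J}
  let I := sSup Fam
  let ZU : Over S := Over.mk (I.subschemeι ≫ U.hom)
  let ι : ZU ⟶ U := Over.homMk I.subschemeι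
  haveI : IsClosedImmersion ι.left := inferInstanceAs (IsClosedImmersion I.subschemeι)
  have mem : ∀ (V : Over S) (u : V ⟶ U), (∃ l : V ⟶ ZU, l ≫ ι = u) ↔
      ∀ (Z' : Sp S) (i' : Z' ⟶ Y), IsAlgSpace Z' → RepWith @IsClosedImmersion i' →
        (∃ f'' : X ⟶ Z', f'' ≫ i' = f) → ∃ m : (yon S).obj V ⟶ Z', m ≫ i' = (yon S).map u ≫ p := by
    intro V u
    constructor
    · rintro ⟨l, rfl⟩ Z' i' hZ' hi' hf'
      obtain ⟨T, q, t, sqT, ht⟩ := exists_sq_prop hi' p
      haveI : IsClosedImmersion t.left := ht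
      have hle : t.left.ker ≤ I := le_sSup ⟨Z', i', hZ', hi', hf', T, q, t, sqT, rfl⟩
      obtain ⟨k, hk⟩ : ∃ k : ZU.left ⟶ T.left, k ≫ t.left = ι.left :=
        ⟨IsClosedImmersion.lift t.left ι.left (hle.trans_eq I.ker_subschemeι.symm), IsClosedImmersion.lift_fac _ _ _⟩
      let k' : ZU ⟶ T := Over.homMk k (by rw [← Over.w t, ← Category.assoc, hk]; exact Over.w ι)
      have hk' : k' ≫ t = ι := Over.OverMorphism.ext hk
      exact ⟨(yon S).map (l ≫ k') ≫ q, by
        rw [Category.assoc, sqT.w, ← Functor.map_comp_assoc, Category.assoc, hk']⟩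
    · intro h
      obtain ⟨k, hk⟩ := exists_lift_subscheme u.left I (sSup_le fun J hJ => by
        obtain ⟨Z', i', hZ', hi', hf', T, q, t, sqT, rfl⟩ := hJ
        obtain ⟨m, hm⟩ := h Z' i' hZ' hi' hf'
        obtain ⟨n, hn⟩ := (yon S).map_surjective (sqT.lift m ((yon S).map u) hm)
        have hnt : n ≫ t = u := (yon S).map_injective (by rw [Functor.map_comp, hn, sqT.lift_snd])
        rw [← hnt, Over.comp_left]
        exact Scheme.Hom.le_ker_comp _ _)
      exact ⟨Over.homMk k (by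
        show k ≫ I.subschemeι ≫ U.hom = _
        rw [reassoc_of% hk, Over.w]), Over.OverMorphism.ext hk⟩
  obtain ⟨q, sq, hZ, hc⟩ := exists_closedSub p ι hY hpe hps (fun V u u' e hu =>
    (mem V u').2 fun Z' i' h1 h2 h3 => e ▸ (mem V u).1 hu Z' i' h1 h2 h3)
  refine ⟨_, _, hZ, hc, ?_, fun Z' i' hZ' hi' hf' => ?_⟩
  · obtain ⟨W, a, β, hae, has, hab, -⟩ := exists_chart_lift (f := f) hX hY hpe hps
    obtain ⟨l, hl⟩ := (mem W β).2 fun Z' i' h1 h2 ⟨f'', hf''⟩ =>
      ⟨a ≫ f'', by rw [Category.assoc, hf'', hab]⟩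
    exact exists_factor_of_atlas hae has f _ ⟨(yon S).map l ≫ q, by
      rw [Category.assoc, sq.w, ← Functor.map_comp_assoc, hl, hab]⟩
  · haveI : Mono i' := mono_of_repWith_immersion (repWith_mono closedImmersion_le_immersion hi')
    obtain ⟨m, hm⟩ := (mem ZU ι).1 ⟨𝟙 _, Category.id_comp _⟩ Z' i' hZ' hi' hf'
    exact exists_factor_of_atlas (repWith_baseChange sq.flip hpe) (repWith_baseChange sq.flip hps) _ i'
      ⟨m, hm.trans sq.w.symm⟩

theorem isRedInduced_of_isSchImage {X Y Z : Sp S} (hX : IsAlgSpace X) (hY : IsAlgSpace Y) {f : X ⟶ Y}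
    {i : Z ⟶ Y} (hr : IsReducedSp X) (hZ : IsSchImage f i) :
    IsRedInduced (closure (Set.range (Points.map f))) i := by
  obtain ⟨hi, ⟨f', hf'⟩, hmin⟩ := hZ
  haveI : Mono i := mono_of_repWith_immersion (repWith_mono closedImmersion_le_immersion hi)
  obtain ⟨R, j, hR, hj, hjr, hjred⟩ := exists_isRedInduced hY (T := closure (Set.range (Points.map f))) isClosed_closure
  haveI : Mono j := mono_of_repWith_immersion (repWith_mono closedImmersion_le_immersion hj)
  obtain ⟨k, hk⟩ := hmin j hR hj (exists_factor_of_reduced hj hr f (hjr ▸ subset_closure))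
  obtain ⟨k', hk'⟩ : ∃ k' : R ⟶ Z, k' ≫ i = j := exists_factor_of_reduced hi hjred j (by
    rw [hjr]
    refine closure_minimal ?_ ((repWith_isClosedImmersion_iff hY
      (repWith_mono closedImmersion_le_immersion hi)).1 hi)
    rintro _ ⟨x, rfl⟩
    exact ⟨Points.map f' x, by rw [← Points.map_comp, hf']⟩)
  let e : R ≅ Z := ⟨k', k, (cancel_mono j).1 (by rw [Category.assoc, hk, hk', Category.id_comp]),
    (cancel_mono i).1 (by rw [Category.assoc, hk', hk, Category.id_comp])⟩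
  refine ⟨hi, ?_, ?_⟩
  · rw [← hjr]
    apply Set.Subset.antisymm
    · rintro _ ⟨z, rfl⟩
      exact ⟨Points.map k z, by rw [← Points.map_comp, hk]⟩
    · rintro _ ⟨z, rfl⟩
      exact ⟨Points.map k' z, by rw [← Points.map_comp, hk']⟩
  · obtain ⟨V, a, hae, has, hVr⟩ := hjred
    haveI : IsIso k' := e.isIso_hom
    exact ⟨V, a ≫ k', repWith_comp hae (repWith_of_isIso _), repWith_comp has (repWith_of_isIso _), hVr⟩

end Groth.Agent.ASp

namespace Groth.Agent.ASp

open _root_.AlgSp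

variable {S : Scheme.{u}}

theorem isSchImage_of_isRedInduced {X Y Z : Sp S} (hY : IsAlgSpace Y) {f : X ⟶ Y} {i : Z ⟶ Y}
    (hr : IsReducedSp X) (hZ : IsRedInduced (closure (Set.range (Points.map f))) i) : IsSchImage f i := by
  refine ⟨hZ.1, exists_factor_of_reduced hZ.1 hr f (hZ.2.1 ▸ subset_closure), fun Z' i' hZ' hi' hf' =>
    exists_factor_of_reduced hi' hZ.2.2 i ?_⟩
  obtain ⟨f'', hf''⟩ := hf'
  rw [hZ.2.1]
  refine closure_minimal ?_ ((repWith_isClosedImmersion_iff hY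
    (repWith_mono closedImmersion_le_immersion hi')).1 hi')
  rintro _ ⟨x, rfl⟩
  exact ⟨Points.map f'' x, by rw [← Points.map_comp, hf'']⟩

theorem isSchImage_etale_baseChange {X Y Z V XV ZV : Sp S} (hX : IsAlgSpace X) (hY : IsAlgSpace Y)
    (hZs : IsAlgSpace Z) (hV : IsAlgSpace V) (hXV : IsAlgSpace XV) (hZV : IsAlgSpace ZV) {f : X ⟶ Y} {i : Z ⟶ Y}
    (hr : IsReducedSp X) (hZ : IsSchImage f i) {b : V ⟶ Y} (hb : IsEtaleMor b) {f₁ : XV ⟶ X} {fV : XV ⟶ V}
    {i₁ : ZV ⟶ Z} {iV : ZV ⟶ V} (sqX : IsPullback f₁ fV f b) (sqZ : IsPullback i₁ iV i b) :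
    IsSchImage fV iV := by
  have hle : (@Etale : MorphismProperty Scheme.{u}) ≤ @Smooth := fun _ _ g (_ : Etale g) => inferInstance
  have hsm := fun {A B : Sp S} {g : A ⟶ B} (h : LocP @Etale g) => locP_mono hle h
  obtain ⟨hi, hrange, hred⟩ := isRedInduced_of_isSchImage hX hY hr hZ
  refine isSchImage_of_isRedInduced hV
    (isReducedSp_of_smooth hXV hX (hsm (locP_baseChange hV hY hX sqX.flip (locP_etale_of_isEtaleMor hb))) hr)
    ⟨repWith_baseChange sqZ hi, ?_,
      isReducedSp_of_smooth hZV hZs (hsm (locP_baseChange hV hY hZs sqZ.flip (locP_etale_of_isEtaleMor hb))) hred⟩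
  have key : ∀ {A AV : Sp S} {g : A ⟶ Y} {g₁ : AV ⟶ A} {gV : AV ⟶ V}, IsPullback g₁ gV g b →
      Set.range (Points.map gV) = Points.map b ⁻¹' Set.range (Points.map g) := fun {A AV g g₁ gV} sq => by
    ext v
    constructor
    · rintro ⟨w, rfl⟩
      exact ⟨Points.map g₁ w, by rw [← Points.map_comp, sq.w, Points.map_comp]⟩
    · rintro ⟨a, ha⟩
      obtain ⟨w, -, hw⟩ := exists_of_isPullback sq a v ha
      exact ⟨w, hw⟩
  rw [key sqZ, key sqX, hrange]
  exact (isEtaleMor_isOpenMor hV hb).preimage_closure_eq_closure_preimage (Points.continuous_map b) _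

end Groth.Agent.ASp
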