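import Groth.Agent.Lib.AlgSpSchImageQC
import Groth.Agent.Lib.AlgSpRep
import Groth.Prelude.Def_CInt
/-! Immersions into their scheme theoretic images. -/

set_option autoImplicit false
set_option linter.style.haveILetI false
set_option linter.unusedVariables false
set_option backward.isDefEq.respectTransparency.types false

universe u

open CategoryTheory CategoryTheory.Limits AlgebraicGeometry Opposite Topology

noncomputable section

namespace Groth.Agent.ASp

open _root_.AlgSp

theorem isOpenImmersion_of_isImmersion_dominant {A B : Scheme.{u}} (f : A ⟶ B) [IsImmersion f] [QuasiCompact f]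
    [IsSchemeTheoreticallyDominant f] : IsOpenImmersion f := by
  have sq : IsPullback (𝟙 A) f.liftCoborder f f.coborderRange.ι :=
    IsPullback.of_isLimit' ⟨by simp⟩ (PullbackCone.IsLimit.mk _ (fun s => s.fst)
      (fun s => Category.comp_id _)
      (fun s => (cancel_mono f.coborderRange.ι).1 (by
        rw [Category.assoc, f.liftCoborder_ι]; exact s.condition))
      (fun s m h₁ _ => by rw [← h₁, Category.comp_id]))
  haveI : IsSchemeTheoreticallyDominant f.liftCoborder := IsSchemeTheoreticallyDominant.of_isPullback sq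
  haveI : IsIso f.liftCoborder := isIso_of_dominant_factor _ f.liftCoborder (𝟙 _) (Category.id_comp _)
  rw [← f.liftCoborder_ι]
  infer_instance

theorem isOpenImmersion_of_isImmersion_dense {A B : Scheme.{u}} (f : A ⟶ B) [IsImmersion f] [IsReduced B]
    (hd : DenseRange f) : IsOpenImmersion f := by
  haveI : IsReduced (f.coborderRange : Scheme) := isReduced_of_isOpenImmersion f.coborderRange.ι
  haveI : Surjective f.liftCoborder := ⟨fun z => by
    have h1 : Dense (Set.range f.liftCoborder) := by
      have := hd.preimage (f.coborderRange.ι.isOpenEmbedding.isOpenMap)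
      refine this.mono ?_
      rintro w ⟨a, ha⟩
      exact ⟨a, f.coborderRange.ι.injective (by rw [← Scheme.Hom.comp_apply, f.liftCoborder_ι]; exact ha)⟩
    have h2 := h1.closure_eq
    rw [f.liftCoborder.isClosedEmbedding.isClosed_range.closure_eq] at h2
    exact (Set.ext_iff.1 h2 z).2 trivial⟩
  haveI : IsIso f.liftCoborder := isIso_of_isClosedImmersion_of_surjective _
  rw [← f.liftCoborder_ι]
  infer_instance

/-- Injectivity of restriction to the range of an open immersion. -/
theorem injective_restrict_of_app {A B : Scheme.{u}} (f : A ⟶ B) [IsOpenImmersion f] (V : B.Opens)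
    (h : Function.Injective (f.app V)) :
    Function.Injective (B.presheaf.map (homOfLE (inf_le_left : V ⊓ f.opensRange ≤ V)).op) := by
  intro x y hxy
  refine h ?_
  have e : f ⁻¹ᵁ V = f ⁻¹ᵁ (V ⊓ f.opensRange) := by
    ext a
    exact ⟨fun ha => ⟨ha, ⟨a, rfl⟩⟩, fun ha => ha.1⟩
  have h2 := congrArg (f.app (V ⊓ f.opensRange)) hxy
  have hn : ∀ z, f.app (V ⊓ f.opensRange) (B.presheaf.map (homOfLE (inf_le_left : V ⊓ f.opensRange ≤ V)).op z) =
      A.presheaf.map (eqToHom e.symm).op (f.app V z) := fun z => by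
    have h3 := f.naturality (homOfLE (inf_le_left : V ⊓ f.opensRange ≤ V)).op
    have h4 := congrArg (fun g => g.hom z) h3
    exact h4
  rw [hn, hn] at h2
  exact (ConcreteCategory.bijective_of_isIso (A.presheaf.map (eqToHom e.symm).op)).1 h2

theorem isSchematicallyDense_of_reduced {B : Scheme.{u}} [IsReduced B] (W : B.Opens)
    (hW : Dense (W : Set B)) : CInt.IsSchematicallyDense W := by
  intro V
  rw [injective_iff_map_eq_zero]
  intro s hs
  rw [← basicOpen_eq_bot_iff]
  have h1 : B.basicOpen s ⊓ W = ⊥ := by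
    have := B.basicOpen_res s (homOfLE (inf_le_left : V ⊓ W ≤ V)).op
    rw [hs, Scheme.basicOpen_zero] at this
    rw [eq_bot_iff]
    intro x hx
    have hxV : x ∈ V := B.basicOpen_le s hx.1
    exact this.ge ⟨⟨hxV, hx.2⟩, hx.1⟩
  by_contra hne
  obtain ⟨x, hx⟩ := Set.nonempty_iff_ne_empty.2 fun he =>
    hne (TopologicalSpace.Opens.ext (he.trans TopologicalSpace.Opens.coe_bot.symm))
  obtain ⟨y, hy, hyW⟩ := hW.inter_open_nonempty _ (B.basicOpen s).2 ⟨x, hx⟩
  exact (h1.le ⟨hy, hyW⟩)

variable {S : Scheme.{u}}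

theorem immersion_into_schImage {Z X Zb : Sp S} (hZ : IsAlgSpace Z) (hX : IsAlgSpace X) (hZb : IsAlgSpace Zb)
    {h : Z ⟶ X} (hh : RepWith @IsImmersion h) (hq : IsQuasiCompactMor h ∨ IsReducedSp Z) {c : Zb ⟶ X}
    (hc : IsSchImage h c) {h' : Z ⟶ Zb} (fac : h' ≫ c = h) :
    RepWith @IsOpenImmersion h' ∧ IsSchDense h' ∧ Dense (Set.range (Points.map h')) := by
  haveI : Mono c := mono_of_repWith_immersion (repWith_mono closedImmersion_le_immersion hc.1)
  have sqM : IsPullback (𝟙 Z) h' h c :=
    IsPullback.of_isLimit' ⟨by simp [fac]⟩ (PullbackCone.IsLimit.mk _ (fun s => s.fst)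
      (fun s => Category.comp_id _)
      (fun s => (cancel_mono c).1 (by rw [Category.assoc, fac]; exact s.condition))
      (fun s m h₁ _ => by rw [← h₁, Category.comp_id]))
  have hi' : RepWith @IsImmersion h' := repWith_baseChange sqM hh
  have hrange : Set.range (Points.map c) ⊆ closure (Set.range (Points.map h)) := by
    rcases hq with hq | hr
    · exact range_schImage_subset_closure hZ hX hZb hq hc
    · exact (isRedInduced_of_isSchImage hZ hX hr hc).2.1.subset
  have hdense : Dense (Set.range (Points.map h')) := by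
    intro z
    have hz := hrange ⟨z, rfl⟩
    rw [(isEmbedding_points_of_immersion hX (repWith_mono closedImmersion_le_immersion hc.1)).closure_eq_preimage_closure_image]
    show Points.map c z ∈ closure (Points.map c '' Set.range (Points.map h'))
    refine closure_mono ?_ hz
    rintro _ ⟨w, rfl⟩
    exact ⟨_, ⟨w, rfl⟩, by rw [← Points.map_comp, fac]⟩
  -- a chart where the claim is checked
  suffices H : ∃ (T : Over S) (q : (yon S).obj T ⟶ Zb), RepWith @Etale q ∧ RepWith @Surjective q ∧
      ∀ (E : Over S) (e₁ : (yon S).obj E ⟶ Z) (e₂ : E ⟶ T), IsPullback e₁ ((yon S).map e₂) h' q →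
        ∃ (_ : IsOpenImmersion e₂.left), CInt.IsSchematicallyDense e₂.left.opensRange by
    obtain ⟨T, q, hqe, hqs, H⟩ := H
    obtain ⟨E, e₁, e₂, sqE⟩ := exists_sq hi'.rep q
    obtain ⟨ho, hd⟩ := H E e₁ e₂ sqE
    have hopen : RepWith @IsOpenImmersion h' := repWith_of_refines (P := @IsOpenImmersion) hi'.rep
      (refines_of_atlas q hqe hqs) (fun _ => sqE) (fun _ => (repWith_yon_map_iff _ _).2 ho)
    refine ⟨hopen, ⟨hopen, T, q, e₂.left.opensRange, ?_, hqe, hqs, ?_, hd⟩, hdense⟩
    · exact (yon S).map (Over.homMk e₂.left.isoOpensRange.inv (by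
        show _ ≫ E.hom = _
        rw [← Over.w e₂, ← Category.assoc, e₂.left.isoOpensRange_inv_comp]
        rfl)) ≫ e₁
    · let ψ : E ≅ Over.mk (e₂.left.opensRange.ι ≫ T.hom) := Over.isoMk e₂.left.isoOpensRange (by
        show _ ≫ e₂.left.opensRange.ι ≫ T.hom = _
        rw [← Category.assoc, e₂.left.isoOpensRange_hom_ι, Over.w])
      refine sqE.of_iso ((yon S).mapIso ψ) (Iso.refl _) (Iso.refl _) (Iso.refl _) ?_ ?_ (by simp) (by simp)
      · simp only [Iso.refl_hom, Category.comp_id, Functor.mapIso_hom, ← Functor.map_comp_assoc]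
        convert (Category.id_comp e₁).symm
        rw [← (yon S).map_id]
        congr 1
        exact Over.OverMorphism.ext e₂.left.isoOpensRange.hom_inv_id
      · simp only [Iso.refl_hom, Category.comp_id, Functor.mapIso_hom, ← Functor.map_comp]
        congr 1
        exact Over.OverMorphism.ext e₂.left.isoOpensRange_hom_ι.symm
  rcases hq with hq | hr
  · obtain ⟨f', U, T, W, p, q, t, a, l, hf', hpe, hps, sq, hl, hlq, hla⟩ := schImage_data hZ hX hZb hq hc
    haveI := hl
    have ef : f' = h' := (cancel_mono c).1 (hf'.trans fac.symm)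
    subst ef
    refine ⟨T, q, repWith_baseChange sq.flip hpe, repWith_baseChange sq.flip hps, fun E e₁ e₂ sqE => ?_⟩
    haveI : IsImmersion e₂.left := hi'.2 _ _ e₂ sqE
    obtain ⟨m, hm⟩ := (yon S).map_surjective (sqE.lift a ((yon S).map l) hla.symm)
    have hm₂ : m ≫ e₂ = l := (yon S).map_injective (by rw [Functor.map_comp, hm, sqE.lift_snd])
    haveI : IsSchemeTheoreticallyDominant e₂.left := ⟨le_bot_iff.1 (l.left.ker_eq_bot ▸ hm₂ ▸
      (Over.comp_left _ _ _ m e₂ ▸ Scheme.Hom.le_ker_comp m.left e₂.left))⟩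
    haveI : QuasiCompact e₂.left := by
      have big : IsPullback e₁ ((yon S).map (e₂ ≫ t)) h p := by
        rw [Functor.map_comp, ← fac]; exact sqE.paste_vert sq
      haveI : QuasiCompact (e₂ ≫ t).left := ((repWith_quasiCompact_iff hh.rep).2 hq).2 _ _ (e₂ ≫ t) big
      haveI : IsClosedImmersion t.left := hc.1.2 _ _ t sq
      rw [Over.comp_left] at *
      exact QuasiCompact.of_comp e₂.left t.left
    haveI := isOpenImmersion_of_isImmersion_dominant e₂.left
    exact ⟨inferInstance, fun V => injective_restrict_of_app _ V (e₂.left.app_injective V)⟩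
  · obtain ⟨T, q, hqe, hqs, hT⟩ := (isRedInduced_of_isSchImage hZ hX hr hc).2.2
    haveI : IsReduced T.left := hT
    refine ⟨T, q, hqe, hqs, fun E e₁ e₂ sqE => ?_⟩
    haveI : IsImmersion e₂.left := hi'.2 _ _ e₂ sqE
    have hd : DenseRange e₂.left := by
      refine (hdense.preimage (isOpenMap_ofPt_of_etale hqe)).mono ?_
      intro τ hτ
      rw [← preimage_range_of_sq sqE]
      exact hτ
    haveI := isOpenImmersion_of_isImmersion_dense e₂.left hd
    exact ⟨inferInstance, isSchematicallyDense_of_reduced _ hd⟩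

end Groth.Agent.ASp
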