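import Groth.Agent.Lib.AlgSpSchImageQC
import Groth.Agent.Lib.AlgSpProper
import Groth.Agent.Lib.AlgSpCharts
import Groth.Agent.S10278
/-! Scheme theoretic images of proper morphisms. -/

set_option autoImplicit false
set_option linter.style.haveILetI false
set_option linter.unusedVariables false
set_option backward.isDefEq.respectTransparency.types false

universe u

open CategoryTheory CategoryTheory.Limits AlgebraicGeometry Opposite Topology

noncomputable section

namespace Groth.Agent.ASp

open _root_.AlgSp

variable {S : Scheme.{u}}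

theorem isProperMor_of_surjective_source {X Z B : Sp S} (hX : IsAlgSpace X) (hZ : IsAlgSpace Z) (hB : IsAlgSpace B)
    {h' : X ⟶ Z} {g : Z ⟶ B} (hp : IsProperMor (h' ≫ g)) (hs : IsSurjectiveMor h') (hsep : IsSeparatedMor g)
    (hlft : LocP @LocallyOfFiniteType g) : IsProperMor g := by
  refine ⟨hsep, ⟨hlft, ?_⟩, ?_⟩
  · intro Q P hQ hQc b fst snd sq
    have sqh := IsPullback.of_hasPullback h' fst
    have big := sqh.paste_vert sq
    have hP : IsAlgSpace P := isAlgSpace_of_isPullback hB.diag sq hZ hQ
    have hP' : IsAlgSpace (Limits.pullback h' fst) := isAlgSpace_of_isPullback hB.diag big hX hQ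
    haveI := (isQuasiCompactSp_iff hP').1 (hp.2.1.2 hQ hQc b _ _ big)
    rw [isQuasiCompactSp_iff hP]
    have hsurj : Function.Surjective (Points.map (pullback.snd h' fst)) := fun p => by
      obtain ⟨x, hx⟩ := hs (Points.map fst p)
      obtain ⟨w, -, hw⟩ := exists_of_isPullback sqh x p hx
      exact ⟨w, hw⟩
    exact hsurj.compactSpace (Points.continuous_map _)
  · intro Q P hQ b fst snd sq C hC
    have sqh := IsPullback.of_hasPullback h' fst
    have big := sqh.paste_vert sq
    have e : Points.map (pullback.snd h' fst ≫ snd) '' (Points.map (pullback.snd h' fst) ⁻¹' C) =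
        Points.map snd '' C := by
      ext y
      constructor
      · rintro ⟨w, hw, rfl⟩
        exact ⟨_, hw, (Points.map_comp _ _ _).symm⟩
      · rintro ⟨p, hp', rfl⟩
        obtain ⟨x, hx⟩ := hs (Points.map fst p)
        obtain ⟨w, -, rfl⟩ := exists_of_isPullback sqh x p hx
        exact ⟨w, hp', Points.map_comp _ _ _⟩
    rw [← e]
    exact hp.2.2 hQ b _ _ big _ (hC.preimage (Points.continuous_map _))

end Groth.Agent.ASp
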