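import Groth.Agent.Lib.AlgSpAffineDescent
import Groth.Agent.Lib.AlgSpCharts
import Groth.Agent.Lib.AlgSpRefine
import Mathlib.AlgebraicGeometry.Morphisms.SchemeTheoreticallyDominant
/-! Lifts for valuation rings into separated algebraic spaces. -/

set_option autoImplicit false
set_option linter.style.haveILetI false
set_option linter.unusedVariables false
set_option backward.isDefEq.respectTransparency.types false

universe u

open CategoryTheory CategoryTheory.Limits AlgebraicGeometry Opposite Topology

noncomputable section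

namespace Groth.Agent.ASp

open _root_.AlgSp

theorem isIso_of_dominant_factor {A B C : Scheme.{u}} (i : A ⟶ B) [IsClosedImmersion i] (γ : C ⟶ B)
    [IsSchemeTheoreticallyDominant γ] (l : C ⟶ A) (h : l ≫ i = γ) : IsIso i := by
  have h1 : i.ker ≤ γ.ker := h ▸ Scheme.Hom.le_ker_comp l i
  rw [γ.ker_eq_bot, le_bot_iff] at h1
  have : IsIso i.imageι := (Scheme.isIso_subschemeι_iff_eq_bot _).2 h1
  rw [← i.toImage_imageι]
  infer_instance

theorem isSchemeTheoreticallyDominant_toImage {A B : Scheme.{u}} (f : A ⟶ B) [QuasiCompact f] [IsAffine B] :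
    IsSchemeTheoreticallyDominant f.toImage := by
  haveI : IsAffine f.image := isAffine_of_isAffineHom f.imageι
  refine ⟨Scheme.IdealSheafData.ext_of_isAffine ?_⟩
  rw [Scheme.Hom.ker_apply, Scheme.IdealSheafData.ideal_bot]
  exact (RingHom.injective_iff_ker_eq_bot _).1 (f.toImage_app_injective (U := ⟨⊤, isAffineOpen_top B⟩))

variable {S : Scheme.{u}} {F : Sp S}

/-- Maps to a separated space agreeing on a schematically dense subscheme are equal. -/
theorem hom_eq_of_dominant {Z : Over S} {π : F ⟶ (yon S).obj Z}
    (hsep : RepWith @IsClosedImmersion (pullback.diagonal π)) {W W' : Over S} (γ : W' ⟶ W)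
    [IsSchemeTheoreticallyDominant γ.left] (g₁ g₂ : (yon S).obj W ⟶ F) (hπ : g₁ ≫ π = g₂ ≫ π)
    (hγ : (yon S).map γ ≫ g₁ = (yon S).map γ ≫ g₂) : g₁ = g₂ := by
  obtain ⟨Q, fst, snd, sq, hs⟩ := exists_sq_prop hsep (pullback.lift g₁ g₂ hπ)
  haveI : IsClosedImmersion snd.left := hs
  obtain ⟨l, hl⟩ := (yon S).map_surjective (sq.lift ((yon S).map γ ≫ g₁) ((yon S).map γ) (by
    apply pullback.hom_ext <;>
      simp only [Category.assoc, pullback.diagonal_fst, pullback.diagonal_snd, Category.comp_id,
        pullback.lift_fst, pullback.lift_snd]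
    exact hγ))
  have hl' : l ≫ snd = γ := (yon S).map_injective (by rw [Functor.map_comp, hl, sq.lift_snd])
  haveI : IsIso ((Over.forget S).map snd) :=
    isIso_of_dominant_factor snd.left γ.left l.left (by rw [← Over.comp_left, hl'])
  haveI : IsIso snd := isIso_of_reflects_iso snd (Over.forget S)
  rw [← cancel_epi ((yon S).map snd)]
  have h1 := congrArg (· ≫ pullback.fst π π) sq.w
  have h2 := congrArg (· ≫ pullback.snd π π) sq.w
  simp only [Category.assoc, pullback.diagonal_fst, pullback.diagonal_snd, Category.comp_id,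
    pullback.lift_fst, pullback.lift_snd] at h1 h2
  rw [← h1, ← h2]

/-- The fibre product of two schemes over a separated space is closed in the product over the base. -/
theorem exists_graph {Z : Over S} {π : F ⟶ (yon S).obj Z} (hsep : RepWith @IsClosedImmersion (pullback.diagonal π))
    {U T : Over S} {a : (yon S).obj U ⟶ F} {g : (yon S).obj T ⟶ F} {b : U ⟶ Z} {t : T ⟶ Z}
    (hb : (yon S).map b = a ≫ π) (ht : (yon S).map t = g ≫ π) :
    ∃ (W : Over S) (w : W ⟶ pullback b t), IsClosedImmersion w.left ∧
      IsPullback ((yon S).map (w ≫ pullback.fst b t)) ((yon S).map (w ≫ pullback.snd b t)) a g := by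
  have hv : (yon S).map (pullback.fst b t) ≫ a ≫ π = (yon S).map (pullback.snd b t) ≫ g ≫ π := by
    rw [← hb, ← ht, ← Functor.map_comp, ← Functor.map_comp, pullback.condition]
  obtain ⟨W, fst, snd, sq, hs⟩ := exists_sq_prop hsep
    (pullback.lift ((yon S).map (pullback.fst b t) ≫ a) ((yon S).map (pullback.snd b t) ≫ g)
      (by rw [Category.assoc, Category.assoc, hv]))
  refine ⟨W, snd, hs, ?_⟩
  have e₁ : fst = (yon S).map (snd ≫ pullback.fst b t) ≫ a := by
    have h := congrArg (· ≫ pullback.fst π π) sq.w
    simp only [Category.assoc, pullback.diagonal_fst, Category.comp_id, pullback.lift_fst] at h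
    rw [h, Functor.map_comp, Category.assoc]
  have e₂ : fst = (yon S).map (snd ≫ pullback.snd b t) ≫ g := by
    have h := congrArg (· ≫ pullback.snd π π) sq.w
    simp only [Category.assoc, pullback.diagonal_snd, Category.comp_id, pullback.lift_snd] at h
    rw [h, Functor.map_comp, Category.assoc]
  have hP : IsPullback ((yon S).map (pullback.fst b t)) ((yon S).map (pullback.snd b t))
      ((yon S).map b) ((yon S).map t) := (yon S).map_isPullback (IsPullback.of_hasPullback b t)
  refine IsPullback.of_isLimit' ⟨e₁.symm.trans e₂⟩ (PullbackCone.IsLimit.mk _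
    (fun s => sq.lift (s.fst ≫ a) (hP.lift s.fst s.snd (by rw [hb, ht, ← Category.assoc, s.condition,
      Category.assoc])) (by
      apply pullback.hom_ext <;>
        simp only [Category.assoc, pullback.diagonal_fst, pullback.diagonal_snd, Category.comp_id,
          pullback.lift_fst, pullback.lift_snd]
      · rw [← Category.assoc, hP.lift_fst]
      · rw [← Category.assoc, hP.lift_snd]; exact s.condition))
    (fun s => by rw [Functor.map_comp, ← Category.assoc, sq.lift_snd, hP.lift_fst])
    (fun s => by rw [Functor.map_comp, ← Category.assoc, sq.lift_snd, hP.lift_snd])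
    (fun s m h₁ h₂ => sq.hom_ext (by rw [sq.lift_fst, e₁, ← Category.assoc, h₁]) (by
      rw [sq.lift_snd]
      apply hP.hom_ext
      · rw [hP.lift_fst, ← h₁, Functor.map_comp, Category.assoc]
      · rw [hP.lift_snd, ← h₂, Functor.map_comp, Category.assoc])))

theorem dominant_pullback_fst {W Z ZK : Over S} (h : W ⟶ Z) (j : ZK ⟶ Z) [Flat h.left]
    [IsSchemeTheoreticallyDominant j.left] [QuasiCompact j.left] :
    IsSchemeTheoreticallyDominant (pullback.fst h j).left :=
  IsSchemeTheoreticallyDominant.of_isPullback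
    (show IsPullback (pullback.snd h j).left (pullback.fst h j).left j.left h.left from
      ((IsPullback.of_hasPullback h j).map (Over.forget S)).flip)

set_option maxHeartbeats 800000 in
/-- A lift over a faithfully flat extension gives a lift. -/
theorem exists_lift_of_separated (hF : IsAlgSpace F) {Z Z' ZK ZK' : Over S} [IsAffine Z.left] [IsAffine Z'.left]
    [IsAffine ZK.left] {π : F ⟶ (yon S).obj Z} (hsep : RepWith @IsClosedImmersion (pullback.diagonal π))
    (d : Z' ⟶ Z) (j : ZK ⟶ Z) (j' : ZK' ⟶ Z') (ψ : ZK' ⟶ ZK) (comm : j' ≫ d = ψ ≫ j)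
    [Flat d.left] [Surjective d.left] [Flat j.left] [Mono j] [QuasiCompact j.left]
    [IsSchemeTheoreticallyDominant j.left] [QuasiCompact j'.left] [IsSchemeTheoreticallyDominant j'.left]
    (hflat : ∀ (E W : Over S) (h : E ⟶ Z) (γ : W ⟶ E) (q : W ⟶ ZK), IsAffine E.left → IsAffine W.left →
      IsSchemeTheoreticallyDominant γ.left → γ ≫ h = q ≫ j → Flat h.left)
    (z₀ : ↥Z'.left) (hz₀ : ∀ O : Set ↥Z'.left, IsOpen O → z₀ ∈ O → O = Set.univ)
    (top : (yon S).obj ZK ⟶ F) (htop : top ≫ π = (yon S).map j)
    (l : (yon S).obj Z' ⟶ F) (hl : l ≫ π = (yon S).map d)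
    (hl' : (yon S).map j' ≫ l = (yon S).map ψ ≫ top) :
    ∃ m : (yon S).obj Z ⟶ F, m ≫ π = 𝟙 _ ∧ (yon S).map j ≫ m = top := by
  obtain ⟨κ, U', a', hU', ha', href⟩ := exists_refines_affine hF
  obtain ⟨k, y, hy⟩ := href.exists_pt (Points.ofPt l z₀)
  obtain ⟨u, rfl⟩ := (Points.schemeHomeo (U' k)).surjective y
  obtain ⟨U, hUdef⟩ : ∃ U, U = U' k := ⟨_, rfl⟩
  subst hUdef
  haveI : IsAffine (U' k).left := hU' k
  let a := a' k
  obtain ⟨b, hb⟩ := (yon S).map_surjective (a ≫ π)
  -- the generic fibre of the chart and its closure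
  obtain ⟨UK, wK, hwK, sqK⟩ := exists_graph hsep hb htop.symm
  haveI : IsAffine (pullback b j).left :=
    IsAffine.of_isIso (show IsPullback (pullback.fst b j).left (pullback.snd b j).left b.left j.left from
      (IsPullback.of_hasPullback b j).map (Over.forget S)).isoPullback.hom
  haveI : IsAffine UK.left := isAffine_of_isAffineHom wK.left
  let f := (wK ≫ pullback.fst b j).left
  haveI : QuasiCompact f := quasiCompact_of_compactSpace f
  let E : Over S := Over.mk (f.imageι ≫ (U' k).hom)
  let e : E ⟶ U' k := Over.homMk f.imageι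
  let γ : UK ⟶ E := Over.homMk f.toImage (by
    change f.toImage ≫ f.imageι ≫ (U' k).hom = _
    rw [Scheme.Hom.toImage_imageι_assoc]
    exact Over.w _)
  have hγe : γ ≫ e = wK ≫ pullback.fst b j := Over.OverMorphism.ext f.toImage_imageι
  haveI : IsClosedImmersion e.left := inferInstanceAs (IsClosedImmersion f.imageι)
  haveI : IsAffine E.left := isAffine_of_isAffineHom e.left
  haveI : Mono e.left := inferInstance
  haveI : Mono e := (Over.forget S).mono_of_mono_map ‹Mono e.left›
  haveI : IsSchemeTheoreticallyDominant γ.left := isSchemeTheoreticallyDominant_toImage f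
  haveI : QuasiCompact γ.left := quasiCompact_of_compactSpace _
  let h : E ⟶ Z := e ≫ b
  have hγh : γ ≫ h = (wK ≫ pullback.snd b j) ≫ j := by
    simp only [h, reassoc_of% hγe, Category.assoc, pullback.condition]
  haveI : Flat h.left := hflat E UK h γ _ inferInstance inferInstance inferInstance hγh
  -- on the generic fibre of the closure, the chart is the given point
  let γK : UK ⟶ pullback h j := pullback.lift γ (wK ≫ pullback.snd b j) hγh
  have sqγ : IsPullback (𝟙 UK) γK γ (pullback.fst h j) :=
    IsPullback.of_isLimit' ⟨(Category.id_comp _).trans (pullback.lift_fst _ _ _).symm⟩ (PullbackCone.IsLimit.mk _ (fun s => s.fst)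
      (fun s => Category.comp_id _)
      (fun s => (cancel_mono (pullback.fst h j)).1 (by
        rw [Category.assoc]
        exact (congrArg (s.fst ≫ ·) (pullback.lift_fst _ _ hγh)).trans s.condition))
      (fun s m h₁ _ => by rw [← h₁, Category.comp_id]))
  haveI : Flat (pullback.fst h j).left :=
    MorphismProperty.of_isPullback ((IsPullback.of_hasPullback h j).map (Over.forget S)).flip ‹Flat j.left›
  haveI : IsSchemeTheoreticallyDominant γK.left :=
    IsSchemeTheoreticallyDominant.of_isPullback
      (show IsPullback (𝟙 UK : UK ⟶ UK).left γK.left γ.left (pullback.fst h j).left from sqγ.map (Over.forget S))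
  have hE : (yon S).map (pullback.fst h j ≫ e) ≫ a = (yon S).map (pullback.snd h j) ≫ top := by
    refine hom_eq_of_dominant hsep γK _ _ ?_ ?_
    · rw [Category.assoc, Category.assoc, ← hb, htop, ← Functor.map_comp, ← Functor.map_comp]
      congr 1
      rw [Category.assoc]
      exact pullback.condition
    · rw [← Functor.map_comp_assoc, ← Functor.map_comp_assoc, pullback.lift_fst_assoc,
        pullback.lift_snd, hγe]
      exact sqK.w
  -- comparison with the chart over the extension
  obtain ⟨U'', w', hw', sq'⟩ := exists_graph hsep hb hl.symm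
  let p₁ := w' ≫ pullback.fst b d
  let p₂ := w' ≫ pullback.snd b d
  haveI : Etale p₂.left := (ha' k).2 l _ p₂ sq'
  obtain ⟨Q, iQ, rQ, hQ⟩ : ∃ (Q : Over S) (iQ : Q ⟶ U'') (rQ : Q ⟶ E), IsPullback rQ iQ e p₁ :=
    ⟨_, pullback.snd e p₁, pullback.fst e p₁, IsPullback.of_hasPullback e p₁⟩
  haveI : IsClosedImmersion iQ.left :=
    MorphismProperty.of_isPullback (hQ.map (Over.forget S)) ‹IsClosedImmersion e.left›
  let G := pullback p₂ j'
  haveI : IsSchemeTheoreticallyDominant (pullback.fst p₂ j').left := dominant_pullback_fst p₂ j'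
  obtain ⟨gK, hgK⟩ := (yon S).map_surjective (sqK.lift ((yon S).map (pullback.fst p₂ j' ≫ p₁))
    ((yon S).map (pullback.snd p₂ j' ≫ ψ)) (by
      rw [Functor.map_comp, Category.assoc, sq'.w, Functor.map_comp _ _ ψ, Category.assoc, ← hl',
        ← Functor.map_comp_assoc, ← Functor.map_comp_assoc, pullback.condition]))
  have hgK₁ : gK ≫ wK ≫ pullback.fst b j = pullback.fst p₂ j' ≫ p₁ := (yon S).map_injective (by
    rw [Functor.map_comp, hgK, sqK.lift_fst])
  let lQ : G ⟶ Q := hQ.lift (gK ≫ γ) (pullback.fst p₂ j') (by rw [Category.assoc, hγe, hgK₁])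
  haveI : IsIso ((Over.forget S).map iQ) :=
    isIso_of_dominant_factor iQ.left (pullback.fst p₂ j').left lQ.left (by
      rw [← Over.comp_left, hQ.lift_snd])
  haveI : IsIso iQ := isIso_of_reflects_iso iQ (Over.forget S)
  let r : U'' ⟶ E := inv iQ ≫ rQ
  have hr : r ≫ e = p₁ := by simp only [r, Category.assoc, hQ.w, IsIso.inv_hom_id_assoc]
  let κ₁ : U'' ⟶ pullback h d := pullback.lift r p₂ (by
    simp only [h, reassoc_of% hr]
    simp only [p₁, p₂, Category.assoc, pullback.condition])
  haveI : Flat (pullback.snd h d).left :=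
    MorphismProperty.of_isPullback ((IsPullback.of_hasPullback h d).map (Over.forget S)) ‹Flat h.left›
  haveI : IsSchemeTheoreticallyDominant (pullback.fst (pullback.snd h d) j').left :=
    dominant_pullback_fst _ j'
  have hE' : (yon S).map (pullback.fst h d ≫ e) ≫ a = (yon S).map (pullback.snd h d) ≫ l := by
    refine hom_eq_of_dominant hsep (pullback.fst (pullback.snd h d) j') _ _ ?_ ?_
    · rw [Category.assoc, Category.assoc, ← hb, hl, ← Functor.map_comp, ← Functor.map_comp]
      congr 1
      rw [Category.assoc]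
      exact pullback.condition
    · let v : pullback (pullback.snd h d) j' ⟶ pullback h j := pullback.lift
        (pullback.fst _ _ ≫ pullback.fst h d) (pullback.snd _ _ ≫ ψ) (by
          rw [Category.assoc, Category.assoc, pullback.condition, pullback.condition_assoc, comm])
      have e1 : pullback.fst (pullback.snd h d) j' ≫ pullback.fst h d ≫ e = v ≫ pullback.fst h j ≫ e := by
        rw [← Category.assoc, ← Category.assoc]
        exact congrArg (· ≫ e) (pullback.lift_fst _ _ _).symm
      rw [← Functor.map_comp_assoc, e1, Functor.map_comp, Category.assoc, hE, ← Functor.map_comp_assoc,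
        pullback.lift_snd, ← Functor.map_comp_assoc, pullback.condition, Functor.map_comp _ _ j', Category.assoc,
        hl', ← Functor.map_comp_assoc]
  obtain ⟨κ₂, hκ₂⟩ := (yon S).map_surjective (sq'.lift _ _ hE')
  have hκ₂₁ : κ₂ ≫ p₁ = pullback.fst h d ≫ e := (yon S).map_injective (by
    rw [Functor.map_comp, hκ₂, sq'.lift_fst])
  have hκ₂₂ : κ₂ ≫ p₂ = pullback.snd h d := (yon S).map_injective (by
    rw [Functor.map_comp, hκ₂, sq'.lift_snd])
  have hid₁ : κ₁ ≫ κ₂ = 𝟙 _ := (yon S).map_injective (sq'.hom_ext
    (by rw [← Functor.map_comp, ← Functor.map_comp]; congr 1; rw [Category.id_comp]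
        change (κ₁ ≫ κ₂) ≫ p₁ = p₁
        rw [Category.assoc, hκ₂₁, pullback.lift_fst_assoc, hr])
    (by rw [← Functor.map_comp, ← Functor.map_comp]; congr 1; rw [Category.id_comp]
        change (κ₁ ≫ κ₂) ≫ p₂ = p₂
        rw [Category.assoc, hκ₂₂, pullback.lift_snd]))
  have hid₂ : κ₂ ≫ κ₁ = 𝟙 _ := by
    apply pullback.hom_ext
    · apply (cancel_mono e).1
      rw [Category.id_comp, Category.assoc, Category.assoc, pullback.lift_fst_assoc, hr, hκ₂₁]
    · rw [Category.assoc, pullback.lift_snd, hκ₂₂, Category.id_comp]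
  haveI : IsIso κ₂ := ⟨⟨κ₁, hid₂, hid₁⟩⟩
  haveI : Etale (pullback.snd h d).left := by
    rw [← hκ₂₂, Over.comp_left]
    haveI : IsIso κ₂.left := inferInstanceAs (IsIso ((Over.forget S).map κ₂))
    infer_instance
  haveI : QuasiCompact d.left := quasiCompact_of_compactSpace d.left
  haveI : Etale h.left := MorphismProperty.of_isPullback_of_descendsAlong (P := @Etale)
    (Q := @Surjective ⊓ @Flat ⊓ @QuasiCompact)
    (show IsPullback (pullback.snd h d).left (pullback.fst h d).left d.left h.left from
      ((IsPullback.of_hasPullback h d).map (Over.forget S)).flip)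
    ⟨⟨inferInstance, inferInstance⟩, inferInstance⟩ ‹_›
  -- surjectivity
  haveI : Surjective h.left := ⟨fun z => by
    obtain ⟨z', rfl⟩ := d.left.surjective z
    obtain ⟨v, -, hv⟩ := exists_pt_of_sq sq' (Points.schemeHomeo _ u) z₀ hy
    have hop := hz₀ _ p₂.left.isOpenMap.isOpen_range ⟨v, hv⟩
    obtain ⟨w, hw⟩ : z' ∈ Set.range p₂.left := by rw [hop]; trivial
    refine ⟨(κ₁ ≫ pullback.fst h d).left w, ?_⟩
    rw [← Scheme.Hom.comp_apply, ← Over.comp_left, Category.assoc, pullback.condition,
      pullback.lift_snd_assoc, Over.comp_left, Scheme.Hom.comp_apply, hw]⟩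
  -- glue
  haveI := isLocallySurjective_of_etale (f := (yon S).map h) ((repWith_yon_map_iff @Etale h).2 ‹_›)
    ((repWith_yon_map_iff @Surjective h).2 ‹_›)
  haveI : Epi ((yon S).map h) := inferInstance
  haveI : EffectiveEpi ((yon S).map h) :=
    (isRegularEpi_iff_effectiveEpi _).1 (IsRegularEpiCategory.regularEpiOfEpi _)
  obtain ⟨g, hg⟩ : ∃ g : (yon S).obj E ⟶ F, g = (yon S).map e ≫ a := ⟨_, rfl⟩
  have hgπ : g ≫ π = (yon S).map h := by rw [hg, Category.assoc, ← hb, ← Functor.map_comp]
  haveI : Flat (pullback.fst h h).left :=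
    MorphismProperty.of_isPullback ((IsPullback.of_hasPullback h h).map (Over.forget S)).flip ‹Flat h.left›
  haveI : Flat (pullback.fst h h ≫ h).left := by rw [Over.comp_left]; infer_instance
  haveI : IsSchemeTheoreticallyDominant (pullback.fst (pullback.fst h h ≫ h) j).left :=
    dominant_pullback_fst _ j
  have hcocycle : (yon S).map (pullback.fst h h) ≫ g = (yon S).map (pullback.snd h h) ≫ g := by
    refine hom_eq_of_dominant hsep (pullback.fst (pullback.fst h h ≫ h) j) _ _ ?_ ?_
    · rw [Category.assoc, Category.assoc, hgπ, ← Functor.map_comp, ← Functor.map_comp, pullback.condition]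
    · have key : ∀ (P : Over S) (x : P ⟶ E) (y : P ⟶ ZK) (hxy : x ≫ h = y ≫ j),
          (yon S).map x ≫ g = (yon S).map y ≫ top := fun P x y hxy => by
        rw [hg, ← pullback.lift_fst x y hxy, ← Functor.map_comp_assoc, Category.assoc, Functor.map_comp,
          Category.assoc, hE, ← Functor.map_comp_assoc, pullback.lift_snd]
      rw [← Functor.map_comp_assoc, ← Functor.map_comp_assoc,
        key _ _ (pullback.snd (pullback.fst h h ≫ h) j) (by rw [Category.assoc]; exact pullback.condition),
        key _ _ (pullback.snd (pullback.fst h h ≫ h) j) (by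
          rw [Category.assoc, (pullback.condition : pullback.fst h h ≫ h = pullback.snd h h ≫ h).symm]
          exact pullback.condition)]
  let m := EffectiveEpi.desc ((yon S).map h) g (fun {W} x y hxy => by
    have hP := (yon S).map_isPullback (IsPullback.of_hasPullback h h)
    rw [← hP.lift_fst x y hxy, Category.assoc, hcocycle, ← Category.assoc, hP.lift_snd])
  have hm : (yon S).map h ≫ m = g := EffectiveEpi.fac _ _ _
  refine ⟨m, (cancel_epi ((yon S).map h)).1 (by rw [reassoc_of% hm, hgπ, Category.comp_id]), ?_⟩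
  have hsj := (IsPullback.of_hasPullback h j).map (Over.forget S)
  haveI := isLocallySurjective_of_etale (f := (yon S).map (pullback.snd h j))
    ((repWith_yon_map_iff @Etale (pullback.snd h j)).2
      (MorphismProperty.of_isPullback hsj ‹Etale h.left›))
    ((repWith_yon_map_iff @Surjective (pullback.snd h j)).2
      (MorphismProperty.of_isPullback hsj ‹Surjective h.left›))
  haveI : Epi ((yon S).map (pullback.snd h j)) := inferInstance
  apply (cancel_epi ((yon S).map (pullback.snd h j))).1
  rw [← Functor.map_comp_assoc, ← pullback.condition, Functor.map_comp_assoc, hm, hg, ← hE, Functor.map_comp,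
    Category.assoc]

end Groth.Agent.ASp
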