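import Groth.Agent.Lib.AlgSpSchImage
import Groth.Agent.Lib.AlgSpSigma
import Groth.Agent.Lib.AlgSpSepLift
import Groth.Prelude.Def_AlgSp4
/-! Scheme theoretic images of quasi-compact morphisms. -/

set_option autoImplicit false
set_option linter.style.haveILetI false
set_option linter.unusedVariables false
set_option backward.isDefEq.respectTransparency.types false

universe v u

open CategoryTheory CategoryTheory.Limits AlgebraicGeometry Opposite Topology

noncomputable section

namespace Groth.Agent.ASp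

open _root_.AlgSp

theorem isSchemeTheoreticallyDominant_toImage' {A B : Scheme.{u}} (f : A ⟶ B) [QuasiCompact f] :
    IsSchemeTheoreticallyDominant f.toImage := by
  refine ⟨Scheme.IdealSheafData.ext_of_iSup_eq_top
    (fun V : B.affineOpens => (⟨f.imageι ⁻¹ᵁ V.1, V.2.preimage f.imageι⟩ : f.image.affineOpens)) ?_ fun V => ?_⟩
  · rw [eq_top_iff]
    intro x _
    obtain ⟨V, hV, hxV, -⟩ := exists_isAffineOpen_mem_and_subset (x := f.imageι x) (U := ⊤) trivial
    exact TopologicalSpace.Opens.mem_iSup.2 ⟨⟨V, hV⟩, hxV⟩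
  · rw [Scheme.Hom.ker_apply, Scheme.IdealSheafData.ideal_bot]
    exact (RingHom.injective_iff_ker_eq_bot _).1 (f.toImage_app_injective (U := V))

/-- A componentwise quasi-compact morphism of disjoint unions is quasi-compact. -/
theorem quasiCompact_sigmaMap {ι : Type u} {W V : ι → Scheme.{u}} (β : ∀ j, W j ⟶ V j)
    [∀ j, QuasiCompact (β j)] : QuasiCompact (Limits.Sigma.map β) := by
  refine ⟨fun K hK hKc => ?_⟩
  let C : ι → Set ↥(∐ V) := fun j => Set.range (Sigma.ι V j)
  have hCo : ∀ j, IsOpen (C j) := fun j => (Sigma.ι V j).isOpenEmbedding.isOpen_range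
  obtain ⟨t, ht⟩ := hKc.elim_finite_subcover C hCo fun x _ => by
    obtain ⟨j, y, hy⟩ := (sigmaOpenCover V).exists_eq x
    exact Set.mem_iUnion.2 ⟨j, y, hy⟩
  have hK' : ∀ j, IsCompact (Sigma.ι V j ⁻¹' K) := fun j => by
    refine (Sigma.ι V j).isOpenEmbedding.isInducing.isCompact_iff.2 ?_
    rw [Set.image_preimage_eq_inter_range]
    refine hKc.inter_right ?_
    have : (C j)ᶜ = ⋃ k : {k // k ≠ j}, C k.1 := by
      ext x
      obtain ⟨k, y, hy⟩ := (sigmaOpenCover V).exists_eq x
      simp only [Set.mem_compl_iff, Set.mem_iUnion]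
      constructor
      · intro h
        refine ⟨⟨k, fun h' => h ?_⟩, y, hy⟩
        subst h'
        exact ⟨y, hy⟩
      · rintro ⟨⟨k', hk'⟩, hx⟩ hxj
        exact (disjoint_opensRange_sigmaι V k' j hk').le_bot
          (show x ∈ ((Sigma.ι V k').opensRange ⊓ (Sigma.ι V j).opensRange : TopologicalSpace.Opens _) from ⟨hx, hxj⟩)
    rw [← isOpen_compl_iff, this]
    exact isOpen_iUnion fun k => hCo _
  have e : Limits.Sigma.map β ⁻¹' K = ⋃ j ∈ t, Sigma.ι W j '' (β j ⁻¹' (Sigma.ι V j ⁻¹' K)) := by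
    ext x
    obtain ⟨j, y, rfl⟩ := (sigmaOpenCover W).exists_eq x
    have hc : Limits.Sigma.map β (Sigma.ι W j y) = Sigma.ι V j (β j y) := by
      rw [← Scheme.Hom.comp_apply, Limits.Sigma.ι_map, Scheme.Hom.comp_apply]
    constructor
    · intro hx
      have hx' : Sigma.ι V j (β j y) ∈ K := hc ▸ hx
      obtain ⟨k, hk, z, hz⟩ := Set.mem_iUnion₂.1 (ht hx')
      have : k = j := by
        by_contra h
        exact (disjoint_opensRange_sigmaι V k j h).le_bot
          (show Sigma.ι V j (β j y) ∈ ((Sigma.ι V k).opensRange ⊓ (Sigma.ι V j).opensRange : TopologicalSpace.Opens _)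
            from ⟨⟨z, hz⟩, ⟨_, rfl⟩⟩)
      subst this
      exact Set.mem_iUnion₂.2 ⟨k, hk, y, hx', rfl⟩
    · intro hx
      obtain ⟨k, hk, z, hz, hzy⟩ := Set.mem_iUnion₂.1 hx
      show Limits.Sigma.map β _ ∈ K
      rw [show (sigmaOpenCover W).f j y = Sigma.ι W k z from hzy.symm, ← Scheme.Hom.comp_apply,
        Limits.Sigma.ι_map, Scheme.Hom.comp_apply]
      exact hz
  rw [e]
  exact t.finite_toSet.isCompact_biUnion fun j _ =>
    (QuasiCompact.isCompact_preimage (f := β j) _ (hK.preimage (Sigma.ι V j).continuous) (hK' j)).image (Sigma.ι W j).continuous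

variable {S : Scheme.{u}} {X Y : Sp S}

/-- A closed subspace through which a schematically dense chart maps is the scheme theoretic image. -/
theorem isSchImage_of_dominant {Z : Sp S} {f : X ⟶ Y} {i : Z ⟶ Y} {f' : X ⟶ Z}
    (hi : RepWith @IsClosedImmersion i) (hf' : f' ≫ i = f) {U T W : Over S} {p : (yon S).obj U ⟶ Y}
    (hpe : RepWith @Etale p) (hps : RepWith @Surjective p) {q : (yon S).obj T ⟶ Z} {t : T ⟶ U}
    (sq : IsPullback q ((yon S).map t) i p) {a : (yon S).obj W ⟶ X} (l : W ⟶ T)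
    [IsSchemeTheoreticallyDominant l.left] (hl : (yon S).map l ≫ q = a ≫ f') : IsSchImage f i := by
  refine ⟨hi, ⟨f', hf'⟩, fun Z' i' hZ' hi' hf'' => ?_⟩
  obtain ⟨f'', hf''⟩ := hf''
  haveI : Mono i' := mono_of_repWith_immersion (repWith_mono closedImmersion_le_immersion hi')
  obtain ⟨T', q', t', sq', ht⟩ := exists_sq_prop hi' p
  haveI : IsClosedImmersion t'.left := ht
  obtain ⟨m, hm⟩ := (yon S).map_surjective (sq'.lift (a ≫ f'') ((yon S).map (l ≫ t)) (by
    rw [Category.assoc, hf'', ← hf', ← Category.assoc, ← hl, Category.assoc, sq.w, Functor.map_comp,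
      Category.assoc]))
  have hmt : m ≫ t' = l ≫ t := (yon S).map_injective (by rw [Functor.map_comp, hm, sq'.lift_snd])
  have sqO := (IsPullback.of_hasPullback t' t).map (Over.forget S)
  haveI : IsClosedImmersion (pullback.snd t' t).left := MorphismProperty.of_isPullback sqO ‹IsClosedImmersion t'.left›
  haveI : IsIso ((Over.forget S).map (pullback.snd t' t)) :=
    isIso_of_dominant_factor (pullback.snd t' t).left l.left (pullback.lift m l hmt).left
      (by rw [← Over.comp_left, pullback.lift_snd])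
  haveI : IsIso (pullback.snd t' t) := isIso_of_reflects_iso _ (Over.forget S)
  exact exists_factor_of_atlas (repWith_baseChange sq.flip hpe) (repWith_baseChange sq.flip hps) i i'
    ⟨(yon S).map (inv (pullback.snd t' t) ≫ pullback.fst t' t) ≫ q', by
      rw [Category.assoc, sq'.w, ← Functor.map_comp_assoc, Category.assoc, pullback.condition,
        IsIso.inv_hom_id_assoc, sq.w]⟩

theorem exists_schImage_data (hX : IsAlgSpace X) (hY : IsAlgSpace Y) {f : X ⟶ Y}
    (hf : IsQuasiCompactMor f) :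
    ∃ (Z : Sp S) (i : Z ⟶ Y) (f' : X ⟶ Z) (U T W : Over S) (p : (yon S).obj U ⟶ Y) (q : (yon S).obj T ⟶ Z)
      (t : T ⟶ U) (a : (yon S).obj W ⟶ X) (l : W ⟶ T),
      IsAlgSpace Z ∧ RepWith @IsClosedImmersion i ∧ f' ≫ i = f ∧ RepWith @Etale p ∧ RepWith @Surjective p ∧
        IsPullback q ((yon S).map t) i p ∧ IsSchemeTheoreticallyDominant l.left ∧ QuasiCompact l.left ∧
          (yon S).map l ≫ q = a ≫ f' := by
  obtain ⟨U₀, p₀, hp₀e, hp₀s⟩ := hY.atlas
  let V : U₀.left.affineOpens → Over S := fun O => Over.mk (O.1.ι ≫ U₀.hom)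
  let U : Over S := sigmaOver V
  let c : U ⟶ U₀ := Over.homMk (Sigma.desc fun O : U₀.left.affineOpens => O.1.ι) (by
    show Limits.Sigma.desc _ ≫ U₀.hom = (Limits.Sigma.desc fun i => (V i).hom)
    refine Sigma.hom_ext _ _ fun O => ?_
    rw [Sigma.ι_desc_assoc, Sigma.ι_desc]
    rfl)
  haveI : Etale c.left :=
    (IsZariskiLocalAtSource.iff_of_openCover (P := @Etale) (sigmaOpenCover _)).2 fun O => by
      change Etale (Sigma.ι _ O ≫ Sigma.desc fun O : U₀.left.affineOpens => O.1.ι)
      rw [Sigma.ι_desc]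
      infer_instance
  haveI : Surjective c.left := ⟨fun u => by
    obtain ⟨O, hO, huO, -⟩ := exists_isAffineOpen_mem_and_subset (x := u) (U := ⊤) trivial
    refine ⟨(sigmaIncl V ⟨O, hO⟩).left ⟨u, huO⟩, ?_⟩
    change (Sigma.ι _ _ ≫ Sigma.desc fun O : U₀.left.affineOpens => O.1.ι) _ = u
    rw [Sigma.ι_desc]
    rfl⟩
  let p := (yon S).map c ≫ p₀
  have hpe : RepWith @Etale p := repWith_yon_comp c ‹_› hp₀e
  have hps : RepWith @Surjective p := repWith_yon_comp c ‹_› hp₀s
  -- quasi-compact charts of the preimages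
  let g : ∀ j, (yon S).obj (V j) ⟶ Y := fun j => (yon S).map (sigmaIncl V j) ≫ p
  have hq : ∀ j, IsQuasiCompactSp (Limits.pullback f (g j)) := fun j => by
    haveI : IsAffine (V j).left := j.2
    exact hf (IsAlgSpace.yon_obj (V j)) (isQuasiCompactSp_of_affine (U := V j) (p := 𝟙 _) ‹_›
      (repWith_of_isIso _) (repWith_of_isIso _)) (g j) _ _ (IsPullback.of_hasPullback f (g j))
  choose W' aj haje hajs hWc using hq
  choose β hβ using fun j => (yon S).map_surjective (aj j ≫ pullback.snd f (g j))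
  let W : Over S := sigmaOver W'
  obtain ⟨a, ha⟩ := exists_sigmaDesc W' fun j => aj j ≫ pullback.fst f (g j)
  let b : W ⟶ U := Over.homMk (Limits.Sigma.map fun j => (β j).left) (by
    show Limits.Sigma.map _ ≫ Limits.Sigma.desc (fun i => (V i).hom) = Limits.Sigma.desc (fun i => (W' i).hom)
    refine Sigma.hom_ext _ _ fun j => ?_
    rw [Limits.Sigma.ι_map_assoc, Sigma.ι_desc, Sigma.ι_desc, Over.w])
  haveI : ∀ j, QuasiCompact (β j).left := fun j => by
    haveI : CompactSpace (W' j).left := hWc j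
    haveI : IsAffine (V j).left := j.2
    exact quasiCompact_of_compactSpace _
  haveI : QuasiCompact b.left := quasiCompact_sigmaMap fun j => (β j).left
  have hbj : ∀ j, sigmaIncl W' j ≫ b = β j ≫ sigmaIncl V j := fun j =>
    Over.OverMorphism.ext (Limits.Sigma.ι_map (fun j => (β j).left) j)
  have hab : a ≫ f = (yon S).map b ≫ p := by
    refine hom_ext_of_cover (sigmaIncl W') (sigmaIncl_cover W') fun j => ?_
    rw [← Category.assoc, ha, Category.assoc, pullback.condition, ← Category.assoc, ← hβ,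
      ← Functor.map_comp_assoc, ← hbj, Functor.map_comp, Category.assoc]
  let ZU : Over S := Over.mk (b.left.imageι ≫ U.hom)
  let ι : ZU ⟶ U := Over.homMk b.left.imageι
  haveI : IsClosedImmersion ι.left := inferInstanceAs (IsClosedImmersion b.left.imageι)
  let l : W ⟶ ZU := Over.homMk b.left.toImage (by
    change b.left.toImage ≫ b.left.imageι ≫ U.hom = _
    rw [Scheme.Hom.toImage_imageι_assoc, Over.w])
  have hlι : l ≫ ι = b := Over.OverMorphism.ext b.left.toImage_imageι
  haveI : IsSchemeTheoreticallyDominant l.left := isSchemeTheoreticallyDominant_toImage' b.left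
  haveI : QuasiCompact l.left := inferInstanceAs (QuasiCompact b.left.toImage)
  -- points of the atlas of `X` land in the image
  have key : ∀ (R : Over S) (u : R ⟶ U) (x : (yon S).obj R ⟶ X), x ≫ f = (yon S).map u ≫ p →
      ∃ m : R ⟶ ZU, m ≫ ι = u := by
    intro R u x hx
    let O : U₀.left.affineOpens → R.left.Opens := fun j => u.left ⁻¹ᵁ (sigmaIncl V j).left.opensRange
    let R' : U₀.left.affineOpens → Over S := fun j => Over.mk ((O j).ι ≫ R.hom)
    let r : ∀ j, R' j ⟶ R := fun j => Over.homMk (O j).ι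
    have hu : ∀ j, ∃ u' : R' j ⟶ V j, u' ≫ sigmaIncl V j = r j ≫ u := fun j =>
      ⟨Over.homMk (IsOpenImmersion.lift (sigmaIncl V j).left ((r j).left ≫ u.left)
        (by rintro _ ⟨w, rfl⟩; exact w.2)) (by
          rw [← Over.w (sigmaIncl V j), IsOpenImmersion.lift_fac_assoc, Category.assoc, Over.w]; rfl),
        Over.OverMorphism.ext (IsOpenImmersion.lift_fac _ _ _)⟩
    choose u' hu' using hu
    have hg : ∀ j, ((yon S).map (r j) ≫ x) ≫ f = (yon S).map (u' j) ≫ g j := fun j => by
      rw [Category.assoc, hx, ← Functor.map_comp_assoc, ← hu', Functor.map_comp, Category.assoc]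
    choose E e₁ e₂ sqE hE using fun j => exists_sq_prop (haje j) (pullback.lift _ _ (hg j))
    haveI : ∀ j, Etale (e₂ j).left := hE
    have sqO := (IsPullback.of_hasPullback ι u).map (Over.forget S)
    haveI : IsClosedImmersion (pullback.snd ι u).left := MorphismProperty.of_isPullback sqO ‹IsClosedImmersion ι.left›
    haveI : IsIso ((Over.forget S).map (pullback.snd ι u)) := by
      haveI : ∀ j, Flat (e₂ j ≫ r j).left := fun j => by
        haveI : IsOpenImmersion (r j).left := inferInstanceAs (IsOpenImmersion (O j).ι)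
        rw [Over.comp_left]; infer_instance
      refine isIso_of_flat_family (pullback.snd ι u).left (fun j => (e₂ j ≫ r j).left) (fun z => ?_) fun j => ?_
      · obtain ⟨j, hj⟩ := sigmaIncl_cover V (u.left z)
        obtain ⟨w, hw⟩ := ((hajs j).2 _ _ _ (sqE j)).surj ⟨z, hj⟩
        exact ⟨j, w, (congrArg (r j).left hw : _)⟩
      · obtain ⟨e', he'⟩ := (yon S).map_surjective (e₁ j)
        have h2 : e' ≫ β j = e₂ j ≫ u' j := (yon S).map_injective (by
          rw [Functor.map_comp, Functor.map_comp, hβ, he', ← Category.assoc, (sqE j).w, Category.assoc,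
            pullback.lift_snd])
        exact ⟨(pullback.lift (e' ≫ sigmaIncl W' j ≫ l) (e₂ j ≫ r j) (by
          rw [Category.assoc, Category.assoc, hlι, hbj, reassoc_of% h2, hu', Category.assoc])).left, by
          rw [← Over.comp_left, pullback.lift_snd]⟩
    haveI : IsIso (pullback.snd ι u) := isIso_of_reflects_iso _ (Over.forget S)
    exact ⟨inv (pullback.snd ι u) ≫ pullback.fst ι u, by
      rw [Category.assoc, pullback.condition, IsIso.inv_hom_id_assoc]⟩
  -- invariance
  obtain ⟨R, r₁, r₂, sqR⟩ := exists_sq hpe.rep p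
  obtain ⟨t₁, rfl⟩ := (yon S).map_surjective r₁
  haveI : Etale t₁.left := hpe.2 p ((yon S).map r₂) t₁ sqR.flip
  haveI : Flat (pullback.fst ι t₁).left :=
    MorphismProperty.of_isPullback ((IsPullback.of_hasPullback ι t₁).map (Over.forget S)).flip
      (show Flat t₁.left from inferInstance)
  haveI : IsSchemeTheoreticallyDominant (pullback.snd l (pullback.fst ι t₁)).left :=
    IsSchemeTheoreticallyDominant.of_isPullback
      (show IsPullback (pullback.fst l (pullback.fst ι t₁)).left (pullback.snd l (pullback.fst ι t₁)).left l.left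
        (pullback.fst ι t₁).left from (IsPullback.of_hasPullback l (pullback.fst ι t₁)).map (Over.forget S))
  let v := pullback.snd ι t₁ ≫ r₂
  obtain ⟨m₂, hm₂⟩ : ∃ m : pullback ι t₁ ⟶ ZU, m ≫ ι = v := by
    obtain ⟨m, hm⟩ := key _ (pullback.snd l (pullback.fst ι t₁) ≫ v) ((yon S).map (pullback.fst l _) ≫ a) (by
      rw [Category.assoc, hab, ← Functor.map_comp_assoc, ← hlι, reassoc_of% pullback.condition (f := l),
        pullback.condition]
      simp only [v, Functor.map_comp, Category.assoc, sqR.w])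
    have sqO := (IsPullback.of_hasPullback ι v).map (Over.forget S)
    haveI : IsClosedImmersion (pullback.snd ι v).left := MorphismProperty.of_isPullback sqO ‹IsClosedImmersion ι.left›
    haveI : IsIso ((Over.forget S).map (pullback.snd ι v)) :=
      isIso_of_dominant_factor (pullback.snd ι v).left (pullback.snd l (pullback.fst ι t₁)).left
        (pullback.lift m (pullback.snd l (pullback.fst ι t₁)) hm).left (by rw [← Over.comp_left, pullback.lift_snd])
    haveI : IsIso (pullback.snd ι v) := isIso_of_reflects_iso _ (Over.forget S)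
    exact ⟨inv (pullback.snd ι v) ≫ pullback.fst ι v, by
      rw [Category.assoc, pullback.condition, IsIso.inv_hom_id_assoc]⟩
  obtain ⟨q, sq, hZ, hc⟩ := exists_closedSub p ι hY hpe hps (by
    rintro R' u u' e ⟨k, hk⟩
    obtain ⟨w, hw⟩ := (yon S).map_surjective (sqR.lift _ _ e)
    have hw₁ : w ≫ t₁ = u := (yon S).map_injective (by rw [Functor.map_comp, hw, sqR.lift_fst])
    have hw₂ : w ≫ r₂ = u' := (yon S).map_injective (by rw [Functor.map_comp, hw, sqR.lift_snd])
    exact ⟨pullback.lift k w (hk.trans hw₁.symm) ≫ m₂, by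
      rw [Category.assoc, hm₂, pullback.lift_snd_assoc, hw₂]⟩)
  obtain ⟨W₀, a₀, β₀, ha₀e, ha₀s, ha₀, -⟩ := exists_chart_lift (f := f) hX hY hpe hps
  obtain ⟨k₀, hk₀⟩ := key W₀ β₀ a₀ ha₀
  obtain ⟨f', hf'⟩ := exists_factor_of_atlas ha₀e ha₀s f (closedSubι p ι) ⟨(yon S).map k₀ ≫ q, by
    rw [Category.assoc, sq.w, ← Functor.map_comp_assoc, hk₀, ha₀]⟩
  refine ⟨_, _, f', U, ZU, W, p, q, ι, a, l, hZ, hc, hf', hpe, hps, sq, inferInstance, inferInstance, ?_⟩
  apply (cancel_mono (closedSubι p ι)).1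
  rw [Category.assoc, Category.assoc, sq.w, ← Functor.map_comp_assoc, hlι, hf', hab]

end Groth.Agent.ASp

namespace Groth.Agent.ASp

open _root_.AlgSp

variable {S : Scheme.{u}} {X Y : Sp S}

/-- The chart description of any scheme theoretic image of a quasi-compact morphism. -/
theorem schImage_data {Z : Sp S} (hX : IsAlgSpace X) (hY : IsAlgSpace Y) (hZ : IsAlgSpace Z) {f : X ⟶ Y}
    (hf : IsQuasiCompactMor f) {i : Z ⟶ Y} (h : IsSchImage f i) :
    ∃ (f' : X ⟶ Z) (U T W : Over S) (p : (yon S).obj U ⟶ Y) (q : (yon S).obj T ⟶ Z) (t : T ⟶ U)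
      (a : (yon S).obj W ⟶ X) (l : W ⟶ T), f' ≫ i = f ∧ RepWith @Etale p ∧ RepWith @Surjective p ∧
        IsPullback q ((yon S).map t) i p ∧ IsSchemeTheoreticallyDominant l.left ∧ QuasiCompact l.left ∧
          (yon S).map l ≫ q = a ≫ f' := by
  obtain ⟨Z₀, i₀, f₀, U, T, W, p, q, t, a, l, hZ₀, hi₀, hf₀, hpe, hps, sq, hl, hlq, hla⟩ :=
    exists_schImage_data hX hY hf
  obtain ⟨hi, ⟨f', hf'⟩, hmin⟩ := h
  haveI := hl
  have h₀ : IsSchImage f i₀ := isSchImage_of_dominant hi₀ hf₀ hpe hps sq l hla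
  obtain ⟨k, hk⟩ := hmin i₀ hZ₀ hi₀ ⟨f₀, hf₀⟩
  obtain ⟨k₀, hk₀⟩ := h₀.2.2 i hZ hi ⟨f', hf'⟩
  haveI : Mono i := mono_of_repWith_immersion (repWith_mono closedImmersion_le_immersion hi)
  haveI : Mono i₀ := mono_of_repWith_immersion (repWith_mono closedImmersion_le_immersion hi₀)
  have e : f' = f₀ ≫ k₀ := (cancel_mono i).1 (by rw [Category.assoc, hk₀, hf', hf₀])
  refine ⟨f', U, T, W, p, q ≫ k₀, t, a, l, hf', hpe, hps, ?_, hl, hlq, by rw [reassoc_of% hla, ← e]⟩
  let φ : Z₀ ≅ Z := ⟨k₀, k, (cancel_mono i₀).1 (by rw [Category.assoc, hk, hk₀, Category.id_comp]),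
    (cancel_mono i).1 (by rw [Category.assoc, hk₀, hk, Category.id_comp])⟩
  exact sq.of_iso (Iso.refl _) φ (Iso.refl _) (Iso.refl _) (by simp [φ]) (by simp) (by simp [φ, hk₀]) (by simp)

theorem range_schImage_subset_closure {Z : Sp S} (hX : IsAlgSpace X) (hY : IsAlgSpace Y) (hZ : IsAlgSpace Z)
    {f : X ⟶ Y} (hf : IsQuasiCompactMor f) {i : Z ⟶ Y} (h : IsSchImage f i) :
    Set.range (Points.map i) ⊆ closure (Set.range (Points.map f)) := by
  obtain ⟨f', U, T, W, p, q, t, a, l, hf', hpe, hps, sq, hl, hlq, hla⟩ := schImage_data hX hY hZ hf h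
  haveI := hl; haveI := hlq
  rintro _ ⟨z, rfl⟩
  obtain ⟨τ, rfl⟩ := surjective_ofPt_of_repWith (repWith_baseChange sq.flip hps) z
  have hc := Points.continuous_ofPt (q ≫ i)
  rw [Points.map_ofPt]
  refine closure_mono ?_ (image_closure_subset_closure_image hc ⟨τ, l.left.denseRange τ, rfl⟩)
  rintro _ ⟨_, ⟨w, rfl⟩, rfl⟩
  exact ⟨Points.ofPt a w, by
    rw [← hf', Points.map_ofPt, ← Category.assoc, ← hla, Category.assoc, ofPt_yon_map_comp]⟩

/-- The scheme theoretic image commutes with flat base change. -/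
theorem isSchImage_flat_baseChange {Z Y' XV ZV : Sp S} (hX : IsAlgSpace X) (hY : IsAlgSpace Y)
    (hZ : IsAlgSpace Z) (hY' : IsAlgSpace Y') {f : X ⟶ Y} (hf : IsQuasiCompactMor f) {i : Z ⟶ Y}
    (h : IsSchImage f i) {g : Y' ⟶ Y} (hg : LocP @Flat g) {f₁ : XV ⟶ X} {fV : XV ⟶ Y'} {i₁ : ZV ⟶ Z}
    {iV : ZV ⟶ Y'} (sqX : IsPullback f₁ fV f g) (sqZ : IsPullback i₁ iV i g) : IsSchImage fV iV := by
  obtain ⟨f', U, T, W, p, q, t, a, l, hf', hpe, hps, sq, hl, hlq, hla⟩ := schImage_data hX hY hZ hf h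
  haveI := hl; haveI := hlq
  obtain ⟨U', p', γ, hp'e, hp's, hp'g, -⟩ := exists_chart_lift (f := g) hY' hY hpe hps
  haveI : Flat γ.left := hg p' p γ hp'e hpe hp'g
  have sqT := (yon S).map_isPullback (IsPullback.of_hasPullback t γ)
  haveI : Flat (pullback.fst t γ).left :=
    MorphismProperty.of_isPullback ((IsPullback.of_hasPullback t γ).map (Over.forget S)).flip ‹Flat γ.left›
  haveI : IsSchemeTheoreticallyDominant (pullback.snd l (pullback.fst t γ)).left :=
    IsSchemeTheoreticallyDominant.of_isPullback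
      (show IsPullback (pullback.fst l (pullback.fst t γ)).left (pullback.snd l (pullback.fst t γ)).left l.left
        (pullback.fst t γ).left from (IsPullback.of_hasPullback l (pullback.fst t γ)).map (Over.forget S))
  let q' : (yon S).obj (pullback t γ) ⟶ ZV := sqZ.lift ((yon S).map (pullback.fst t γ) ≫ q)
    ((yon S).map (pullback.snd t γ) ≫ p') (by
      rw [Category.assoc, Category.assoc, sq.w, hp'g, ← Functor.map_comp_assoc, ← Functor.map_comp_assoc,
        pullback.condition])
  have sq' : IsPullback q' ((yon S).map (pullback.snd t γ)) iV p' :=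
    IsPullback.of_right (by rw [sqZ.lift_fst, hp'g]; exact sqT.paste_horiz sq) (sqZ.lift_snd _ _ _) sqZ
  let a' : (yon S).obj (pullback l (pullback.fst t γ)) ⟶ XV := sqX.lift ((yon S).map (pullback.fst _ _) ≫ a)
    ((yon S).map (pullback.snd l (pullback.fst t γ) ≫ pullback.snd t γ) ≫ p') (by
      rw [Category.assoc, Category.assoc, hp'g, ← hf', ← reassoc_of% hla, sq.w,
        ← Functor.map_comp_assoc, ← Functor.map_comp_assoc, ← Functor.map_comp_assoc]
      congr 2
      rw [Category.assoc, Category.assoc, ← pullback.condition, pullback.condition_assoc])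
  let fV' : XV ⟶ ZV := sqZ.lift (f₁ ≫ f') fV (by rw [Category.assoc, hf', sqX.w])
  refine isSchImage_of_dominant (repWith_baseChange sqZ h.1) (f' := fV') (sqZ.lift_snd _ _ _) hp'e hp's sq'
    (a := a') (pullback.snd l (pullback.fst t γ)) (sqZ.hom_ext ?_ ?_)
  · rw [Category.assoc, Category.assoc, sqZ.lift_fst, sqZ.lift_fst, sqX.lift_fst_assoc,
      Category.assoc, ← hla, ← Functor.map_comp_assoc, ← Functor.map_comp_assoc, pullback.condition]
  · rw [Category.assoc, Category.assoc, sqZ.lift_snd, sqZ.lift_snd, sqX.lift_snd, Functor.map_comp,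
      Category.assoc]

end Groth.Agent.ASp
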