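import Groth.Agent.Lib.AlgSpSchImageImm
import Groth.Agent.Lib.AlgSpDecentQS
import Groth.Agent.Lib.AlgSpProper
/-! Scheme theoretic images of sections. -/

set_option autoImplicit false
set_option linter.style.haveILetI false
set_option linter.unusedVariables false
set_option backward.isDefEq.respectTransparency.types false

universe u

open CategoryTheory CategoryTheory.Limits AlgebraicGeometry Opposite Topology

noncomputable section

namespace Groth.Agent.ASp

open _root_.AlgSp

variable {S : Scheme.{u}}

theorem isSchImage_id_of_isSchDense {U X : Sp S} {j : U ⟶ X} (hq : IsQuasiCompactMor j) (h : IsSchDense j) :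
    IsSchImage j (𝟙 X) := by
  obtain ⟨hj, V, φ, W, fst, hφe, hφs, sq, hd⟩ := h
  haveI : QuasiCompact W.ι := ((repWith_quasiCompact_iff hj.rep).2 hq).2 φ fst _ sq
  haveI : IsSchemeTheoreticallyDominant W.ι := by
    refine ⟨Scheme.IdealSheafData.ext (funext fun O => ?_)⟩
    rw [Scheme.Hom.ker_apply, Scheme.IdealSheafData.ideal_bot]
    refine (RingHom.injective_iff_ker_eq_bot _).1 ?_
    intro x y hxy
    refine hd O.1 ?_
    have e : W.ι ⁻¹ᵁ O.1 ≤ W.ι ⁻¹ᵁ (O.1 ⊓ W) := fun a ha => ⟨ha, a.2⟩
    have hle : W.ι ''ᵁ (W.ι ⁻¹ᵁ O.1) = O.1 ⊓ W := by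
      rw [W.ι.image_preimage_eq_opensRange_inf, Scheme.Opens.opensRange_ι, inf_comm]
    have hxy' : V.left.presheaf.map (homOfLE (hle.le.trans inf_le_left)).op x =
        V.left.presheaf.map (homOfLE (hle.le.trans inf_le_left)).op y := by
      rw [Scheme.Opens.ι_app] at hxy
      exact hxy
    have h2 := congrArg (V.left.presheaf.map (homOfLE hle.ge).op) hxy'
    rw [← ConcreteCategory.comp_apply, ← ConcreteCategory.comp_apply, ← Functor.map_comp] at h2
    exact h2
  haveI : IsSchemeTheoreticallyDominant (Over.homMk W.ι rfl : Over.mk (W.ι ≫ V.hom) ⟶ V).left := ‹_›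
  exact isSchImage_of_dominant (repWith_of_isIso _) (f' := j) (Category.comp_id j) hφe hφs
    (q := φ) (t := 𝟙 V) (IsPullback.of_vert_isIso ⟨by simp⟩) (a := fst)
    (Over.homMk W.ι rfl : Over.mk (W.ι ≫ V.hom) ⟶ V) sq.w.symm

/-- A section of a separated morphism over a retrocompact open is its own image there. -/
theorem isIso_schImage_over_open {X Y V Y' P : Sp S} (hX : IsAlgSpace X) (hY : IsAlgSpace Y) (hV : IsAlgSpace V)
    (hY' : IsAlgSpace Y') {f : X ⟶ Y} {j : V ⟶ Y} (hj : RepWith @IsOpenImmersion j) (hjq : IsQuasiCompactMor j)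
    (hf : IsSeparatedMor f) {s : V ⟶ X} (hs : s ≫ f = j) {c : Y' ⟶ X} (hc : IsSchImage s c)
    {fst : P ⟶ Y'} {snd : P ⟶ V} (sq : IsPullback fst snd (c ≫ f) j) : IsIso snd := by
  haveI : Mono j := mono_of_repWith_immersion (repWith_mono openImmersion_le_immersion hj)
  haveI : Mono c := mono_of_repWith_immersion (repWith_mono closedImmersion_le_immersion hc.1)
  have sqX := IsPullback.of_hasPullback f j
  have hXV : IsAlgSpace (Limits.pullback f j) := isAlgSpace_pullback f j hX hV hY
  let sV : V ⟶ Limits.pullback f j := pullback.lift s (𝟙 V) (by rw [hs, Category.id_comp])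
  have s1 : sV ≫ pullback.fst f j = s := pullback.lift_fst _ _ _
  have s2 : sV ≫ pullback.snd f j = 𝟙 V := pullback.lift_snd _ _ _
  -- the section is a closed immersion
  have hsV : RepWith @IsClosedImmersion sV := by
    have m1 : pullback.map f j f f (𝟙 X) s (𝟙 Y) (by simp) (by simp [hs]) ≫ pullback.fst f f =
        pullback.fst f j := (pullback.lift_fst _ _ _).trans (Category.comp_id _)
    have m2 : pullback.map f j f f (𝟙 X) s (𝟙 Y) (by simp) (by simp [hs]) ≫ pullback.snd f f =
        pullback.snd f j ≫ s := pullback.lift_snd _ _ _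
    have e : IsPullback (sV ≫ pullback.fst f j) sV (pullback.diagonal f)
        (pullback.map f j f f (𝟙 X) s (𝟙 Y) (by simp) (by simp [hs])) := by
      refine IsPullback.of_isLimit' ⟨?_⟩ (PullbackCone.IsLimit.mk _ (fun t => t.snd ≫ pullback.snd f j)
        (fun t => ?_) (fun t => ?_) (fun t m h₁ h₂ => ?_))
      · apply pullback.hom_ext
        · simp only [Category.assoc, m1, pullback.diagonal_fst]
          exact congrArg (sV ≫ ·) (Category.comp_id _)
        · simp only [Category.assoc, m2, pullback.diagonal_snd]
          exact (congrArg (sV ≫ ·) (Category.comp_id _)).trans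
            (s1.trans ((Category.id_comp s).symm.trans ((congrArg (· ≫ s) s2.symm).trans (Category.assoc _ _ _))))
      · have h₂ := congrArg (· ≫ pullback.snd f f) t.condition
        simp only [Category.assoc, pullback.diagonal_snd, Category.comp_id, m2] at h₂
        simp only [Category.assoc, s1]
        exact h₂.symm
      · have h₁ := congrArg (· ≫ pullback.fst f f) t.condition
        have h₂ := congrArg (· ≫ pullback.snd f f) t.condition
        simp only [Category.assoc, pullback.diagonal_fst, pullback.diagonal_snd, Category.comp_id, m1,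
          m2] at h₁ h₂
        apply pullback.hom_ext
        · simp only [Category.assoc, s1]
          exact h₂.symm.trans h₁
        · simp only [Category.assoc, s2, Category.comp_id]
      · rw [← h₂, Category.assoc, s2]
        exact (Category.comp_id _).symm
    exact repWith_baseChange e hf
  have hXo : RepWith @IsOpenImmersion (pullback.fst f j) := repWith_baseChange sqX.flip hj
  have sqS : IsPullback (𝟙 V) sV s (pullback.fst f j) := by
    haveI : Mono (pullback.fst f j) := mono_of_repWith_immersion (repWith_mono openImmersion_le_immersion hXo)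
    refine IsPullback.of_isLimit' ⟨by rw [Category.id_comp, s1]⟩ (PullbackCone.IsLimit.mk _ (fun t => t.fst)
      (fun t => Category.comp_id _)
      (fun t => (cancel_mono (pullback.fst f j)).1 (by rw [Category.assoc, s1]; exact t.condition))
      (fun t m h₁ _ => by rw [← h₁, Category.comp_id]))
  let cV : P ⟶ Limits.pullback f j := pullback.lift (fst ≫ c) snd (by rw [Category.assoc, sq.w])
  have c2 : cV ≫ pullback.snd f j = snd := pullback.lift_snd _ _ _
  have sqC : IsPullback fst cV c (pullback.fst f j) :=
    IsPullback.of_bot (by rw [pullback.lift_snd]; exact sq) (pullback.lift_fst _ _ _).symm sqX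
  have hqs : IsQuasiCompactMor s := by
    haveI := repWith_qc_baseChangeStable (S := S)
    have e : s = sV ≫ pullback.fst f j := (pullback.lift_fst _ _ _).symm
    rw [e]
    exact isQuasiCompactMor_comp hXV hX (isProperMor_of_closedImmersion hXV hsV).2.1.2
      (isQuasiCompactMor_baseChange sqX.flip hjq)
  have hflat : LocP @Flat (pullback.fst f j) :=
    locP_of_repWith hX (repWith_mono (fun _ _ g (_ : IsOpenImmersion g) => show Flat g from inferInstance) hXo)
  obtain ⟨hcV, ⟨m, hm⟩, hmin⟩ := isSchImage_flat_baseChange hV hX hY' hXV hqs hc hflat sqS sqC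
  obtain ⟨k, hk⟩ := hmin sV hV hsV ⟨𝟙 V, Category.id_comp _⟩
  haveI : Mono cV := mono_of_repWith_immersion (repWith_mono closedImmersion_le_immersion hcV)
  have h₁ : m ≫ snd = 𝟙 V := by
    have := congrArg (· ≫ pullback.snd f j) hm
    simp only [Category.assoc, c2, s2] at this
    exact this
  have h₂ : k = snd := by
    have := congrArg (· ≫ pullback.snd f j) hk
    simp only [Category.assoc, c2, s2, Category.comp_id] at this
    exact this
  exact ⟨⟨m, (cancel_mono cV).1 (by rw [Category.assoc, hm, ← h₂, hk, Category.id_comp]), h₁⟩⟩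

end Groth.Agent.ASp
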