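import Groth.Agent.Lib.AlgSpSchImageQC
import Groth.Agent.Lib.H6.ValDense
/-! Points of scheme theoretic images and valuation rings. -/

set_option autoImplicit false
set_option linter.style.haveILetI false
set_option linter.unusedVariables false
set_option backward.isDefEq.respectTransparency.types false

universe u

open CategoryTheory CategoryTheory.Limits AlgebraicGeometry Opposite Topology

noncomputable section

namespace Groth.Agent.ASp

open _root_.AlgSp

theorem exists_valuationRing_to_schImage {S : Scheme.{u}} {X Y Z : Sp S} (hX : IsAlgSpace X) (hY : IsAlgSpace Y)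
    (hZ : IsAlgSpace Z) {f : X ⟶ Y} (hf : IsQuasiCompactMor f) {i : Z ⟶ Y} (h : IsSchImage f i) (z : Points Z) :
    ∃ (A : Type u) (_ : CommRing A) (_ : IsDomain A) (_ : ValuationRing A) (str : Spec (CommRingCat.of A) ⟶ S)
      (a : (yon S).obj (Over.mk str) ⟶ Z)
      (x : (yon S).obj (Over.mk (Spec.map (CommRingCat.ofHom (algebraMap A (FractionRing A))) ≫ str)) ⟶ X),
      Points.ofPt a (IsLocalRing.closedPoint A) = z ∧
        x ≫ f = (yon S).map (Over.homMk (Spec.map (CommRingCat.ofHom (algebraMap A (FractionRing A)))) rfl) ≫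
          a ≫ i := by
  obtain ⟨f', U, T, W, p, q, t, a, l, hf', hpe, hps, sq, hl, hlq, hla⟩ := schImage_data hX hY hZ hf h
  haveI := hl; haveI := hlq
  obtain ⟨τ, rfl⟩ := surjective_ofPt_of_repWith (repWith_baseChange sq.flip hps) z
  obtain ⟨w, hw⟩ := H6.SubtrVal.exists_specializes_of_mem_closure_range l.left (l.left.denseRange τ)
  obtain ⟨A, g, hgc, hgg⟩ := H6.ValDense.exists_valuationSubring_pair hw (W.left.residueField w)
    (l.left.residueFieldMap w)
  let e : W.left.residueField w →+* FractionRing A :=
    (FractionRing.algEquiv A (W.left.residueField w)).symm.toAlgHom.toRingHom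
  have he : e.comp A.subtype = algebraMap A (FractionRing A) :=
    RingHom.ext fun r => (FractionRing.algEquiv A (W.left.residueField w)).symm.commutes r
  have h2 : (Spec.map (CommRingCat.ofHom e) ≫ W.left.fromSpecResidueField w) ≫ l.left =
      Spec.map (CommRingCat.ofHom (algebraMap A (FractionRing A))) ≫ g := by
    rw [← he, CommRingCat.ofHom_comp, Spec.map_comp, Category.assoc, Category.assoc, hgg,
      Scheme.Hom.SpecMap_residueFieldMap_fromSpecResidueField]
  let a' : Over.mk (g ≫ T.hom) ⟶ T := Over.homMk g
  let x' : Over.mk (Spec.map (CommRingCat.ofHom (algebraMap A (FractionRing A))) ≫ g ≫ T.hom) ⟶ W :=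
    Over.homMk (Spec.map (CommRingCat.ofHom e) ≫ W.left.fromSpecResidueField w) (by
      rw [← Over.w l]
      refine (Category.assoc _ _ _).symm.trans ?_
      refine (congrArg (· ≫ T.hom) h2).trans ?_
      exact Category.assoc _ _ _)
  refine ⟨A, inferInstance, inferInstance, inferInstance, g ≫ T.hom, (yon S).map a' ≫ q, (yon S).map x' ≫ a, ?_, ?_⟩
  · rw [ofPt_yon_map_comp]
    exact congrArg (Points.ofPt q) hgc
  · rw [Category.assoc, ← hf', ← reassoc_of% hla, ← Functor.map_comp_assoc, Category.assoc,
      ← Functor.map_comp_assoc]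
    congr 2
    exact Over.OverMorphism.ext h2

end Groth.Agent.ASp
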