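import Groth.Agent.Lib.AlgSpValCrit
import Mathlib.RingTheory.MvPolynomial.Basic
import Mathlib.Topology.Maps.Proper.Basic

/-! Universally closed morphisms of algebraic spaces are quasi-compact. -/

set_option autoImplicit false
set_option backward.isDefEq.respectTransparency.types false

universe u v

open CategoryTheory CategoryTheory.Limits AlgebraicGeometry Opposite Topology PrimeSpectrum
open TopologicalSpace (Opens)

noncomputable section

namespace Groth.Agent.ASp

open _root_.AlgSp

variable {S : Scheme.{u}} {X Y P : Sp S}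

/-- The points of a universally closed space over a field are quasi-compact. -/
theorem compactSpace_points_of_univClosed_field (hP : IsAlgSpace P) {K : Type u} [Field K]
    {k : Over S} (ek : k.left ≅ Spec (.of K)) (π : P ⟶ (yon S).obj k) (h : IsUnivClosedMor π) :
    CompactSpace (Points P) := by
  classical
  obtain ⟨κ, V, a, hV, hae, href⟩ := exists_refines_affine hP
  let U : κ → Set (Points P) := fun i => Set.range (Points.ofPt (a i))
  have hUo : ∀ i, IsOpen (U i) := fun i => (isOpenMap_ofPt_of_etale (hae i)).isOpen_range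
  have hUc : ∀ i, IsCompact (U i) := fun i => by
    have := hV i
    exact isCompact_range (Points.continuous_ofPt (a i))
  have hUcov : ∀ x, ∃ i, x ∈ U i := fun x => by
    obtain ⟨i, y, hy⟩ := href.exists_pt x
    obtain ⟨v, rfl⟩ := (Points.schemeHomeo (V i)).surjective y
    exact ⟨i, v, by rw [Points.ofPt_eq_map_ofScheme]; exact hy⟩
  let T : Over S := Over.mk ((Spec.map (CommRingCat.ofHom (MvPolynomial.C : K →+* MvPolynomial κ K)) ≫ ek.inv) ≫ k.hom)
  let q : T ⟶ k := Over.homMk (Spec.map (CommRingCat.ofHom (MvPolynomial.C : K →+* MvPolynomial κ K)) ≫ ek.inv)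
  let sq := IsPullback.of_hasPullback π ((yon S).map q)
  let fT : Points (pullback π ((yon S).map q)) → PrimeSpectrum (MvPolynomial κ K) := fun z =>
    (Points.schemeHomeo T).symm (Points.map (pullback.snd π ((yon S).map q)) z)
  have hfc : IsClosedMap fT :=
    (Points.schemeHomeo T).symm.isClosedMap.comp (h (IsAlgSpace.yon_obj T) _ _ _ sq)
  have hfcont : Continuous fT := (Points.schemeHomeo T).symm.continuous.comp (Points.continuous_map _)
  let p := Points.map (pullback.fst π ((yon S).map q))
  let Ti : κ → Opens (PrimeSpectrum (MvPolynomial κ K)) := fun i => basicOpen (MvPolynomial.X i)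
  let Z : Set (Points (pullback π ((yon S).map q))) := (⋃ i, fT ⁻¹' (Ti i) ∩ p ⁻¹' (U i))ᶜ
  have hZ : IsClosed Z := by
    rw [isClosed_compl_iff]
    exact isOpen_iUnion fun i => ((Ti i).2.preimage hfcont).inter ((hUo i).preimage (Points.continuous_map _))
  let Zc : Opens (PrimeSpectrum (MvPolynomial κ K)) := ⟨(fT '' Z)ᶜ, (hfc _ hZ).isOpen_compl⟩
  let ψ : MvPolynomial κ K →ₐ[K] K := MvPolynomial.aeval (fun _ ↦ 1)
  let t : PrimeSpectrum (MvPolynomial κ K) := PrimeSpectrum.comap ψ.toRingHom default
  have ht : ∀ i, t ∈ Ti i := fun i => by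
    change ¬ (ψ (MvPolynomial.X i) ∈ (default : PrimeSpectrum K).asIdeal)
    rw [show ψ (MvPolynomial.X i) = 1 by simp [ψ], ← Ideal.ne_top_iff_one]
    exact (default : PrimeSpectrum K).isPrime.ne_top
  have htZc : t ∈ Zc := by
    rintro ⟨z, hz, hzt⟩
    obtain ⟨i, hi⟩ := hUcov (p z)
    exact hz (Set.mem_iUnion.2 ⟨i, by rw [Set.mem_preimage, hzt]; exact ht i, hi⟩)
  obtain ⟨U', ⟨g, rfl⟩, htU', hU'le⟩ := Opens.isBasis_iff_nbhd.mp isBasis_basic_opens htZc
  let σ : Finset κ := MvPolynomial.vars g
  let φ : MvPolynomial κ K →+* MvPolynomial κ K :=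
    (MvPolynomial.aeval fun i : κ ↦ if i ∈ σ then MvPolynomial.X i else 0).toRingHom
  let t' : PrimeSpectrum (MvPolynomial κ K) := PrimeSpectrum.comap φ t
  have ht'g : t' ∈ PrimeSpectrum.basicOpen g :=
    show φ g ∉ t.asIdeal from (show φ g = g from MvPolynomial.aeval_ite_mem_eq_self g subset_rfl).symm ▸ htU'
  have hn : t' ∉ fT '' Z := hU'le ht'g
  suffices ⋃ i ∈ σ, U i = Set.univ from
    ⟨this ▸ σ.isCompact_biUnion fun i _ ↦ hUc i⟩
  rw [Set.iUnion₂_eq_univ_iff]
  contrapose! hn
  obtain ⟨x, hx⟩ := hn
  have : Subsingleton (Points ((yon S).obj k)) := by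
    have : Subsingleton ↥(Spec (CommRingCat.of K)) := inferInstanceAs (Subsingleton (PrimeSpectrum K))
    have : Subsingleton ↥k.left := (Scheme.homeoOfIso ek).injective.subsingleton
    exact (Points.schemeHomeo k).symm.injective.subsingleton
  obtain ⟨z, hzx, hzr⟩ := exists_of_isPullback sq x (Points.schemeHomeo T t') (Subsingleton.elim _ _)
  have hzt : fT z = t' := by
    simp only [fT, hzr]
    exact (Points.schemeHomeo T).symm_apply_apply t'
  refine ⟨z, ?_, hzt⟩
  simp only [Z, Set.mem_compl_iff, Set.mem_iUnion, not_exists]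
  rintro i ⟨hi₁, hi₂⟩
  rw [Set.mem_preimage, hzt] at hi₁
  have hxi : i ∉ σ := fun hiσ => hx i hiσ (by rw [← hzx]; exact hi₂)
  have h0 : φ (MvPolynomial.X i) = 0 := by simp [φ, hxi]
  exact hi₁ (show φ (MvPolynomial.X i) ∈ t.asIdeal by rw [h0]; exact t.asIdeal.zero_mem)

/-- Universally closed morphisms are quasi-compact. -/
theorem isQuasiCompactMor_of_univClosed (hX : IsAlgSpace X) (hY : IsAlgSpace Y) {f : X ⟶ Y}
    (h : IsUnivClosedMor f) : IsQuasiCompactMor f := by
  refine isQuasiCompactMor_of_affine hX hY fun Z hZ g P fst snd sq => ?_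
  have hP : IsAlgSpace P := isAlgSpace_of_isPullback hY.diag sq hX (IsAlgSpace.yon_obj Z)
  have hs : IsUnivClosedMor snd := univSp_baseChange sq h
  have hcl : IsClosedMap (Points.map snd) :=
    h (IsAlgSpace.yon_obj Z) g fst snd sq
  have hprop : IsProperMap (Points.map snd) := by
    rw [isProperMap_iff_isClosedMap_and_compact_fibers]
    refine ⟨Points.continuous_map _, hcl, fun y => ?_⟩
    obtain ⟨z, rfl⟩ := (Points.schemeHomeo Z).surjective y
    let k : Over S := Over.mk (Z.left.fromSpecResidueField z ≫ Z.hom)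
    let i : k ⟶ Z := Over.homMk (Z.left.fromSpecResidueField z)
    have sqk := IsPullback.of_hasPullback snd ((yon S).map i)
    have hk := isAlgSpace_pullback snd ((yon S).map i) hP (IsAlgSpace.yon_obj k) (IsAlgSpace.yon_obj Z)
    have := compactSpace_points_of_univClosed_field hk (k := k) (Iso.refl _) _ (univSp_baseChange sqk hs)
    have hrange : Set.range (Points.map (pullback.fst snd ((yon S).map i))) =
        Points.map snd ⁻¹' {Points.schemeHomeo Z z} := by
      ext x
      constructor
      · rintro ⟨w, rfl⟩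
        obtain ⟨v, hv⟩ := (Points.schemeHomeo k).surjective (Points.map (pullback.snd snd ((yon S).map i)) w)
        rw [Set.mem_preimage, ← Points.map_comp, pullback.condition, Points.map_comp, ← hv,
          Points.map_yon_map_apply]
        exact congrArg _ (Scheme.fromSpecResidueField_apply z v)
      · intro hx
        obtain ⟨w, hw, -⟩ := exists_of_isPullback sqk x
          (Points.schemeHomeo k (IsLocalRing.closedPoint (Z.left.residueField z))) (by
            rw [hx, Points.map_yon_map_apply]
            exact congrArg _ (Scheme.fromSpecResidueField_apply z _).symm)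
        exact ⟨w, hw⟩
    rw [← hrange]
    exact isCompact_range (Points.continuous_map _)
  rw [isQuasiCompactSp_iff hP]
  have : IsAffine Z.left := hZ
  have : CompactSpace (Points ((yon S).obj Z)) := (Points.schemeHomeo Z).compactSpace
  exact ⟨by simpa using hprop.isCompact_preimage isCompact_univ⟩

end Groth.Agent.ASp
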