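import Groth.Agent.Lib.AlgSpFOThick
/-! Universal first order thickenings of algebraic spaces: affine tests and formal permanence. -/

set_option autoImplicit false
set_option linter.style.haveILetI false
set_option linter.unusedVariables false
set_option backward.isDefEq.respectTransparency.types false

universe u

open CategoryTheory CategoryTheory.Limits AlgebraicGeometry Opposite Topology

noncomputable section

namespace Groth.Agent.ASp

open _root_.AlgSp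

variable {S : Scheme.{u}} {Z Z' X : Sp S}

/-- Universality only needs to be tested on first order thickenings of affine schemes. -/
def AffUniv (h : Z ⟶ X) (i : Z ⟶ Z') (h' : Z' ⟶ X) : Prop :=
  ∀ ⦃V W : Over S⦄ (t : W ⟶ V), IsAffine V.left → MoreMor.IsFirstOrderThickening t.left →
    ∀ (a : (yon S).obj W ⟶ Z) (b : (yon S).obj V ⟶ X), (yon S).map t ≫ b = a ≫ h →
      ∃! l : (yon S).obj V ⟶ Z', (yon S).map t ≫ l = a ≫ i ∧ l ≫ h' = b

theorem AffUniv.uniq {h : Z ⟶ X} {i : Z ⟶ Z'} {h' : Z' ⟶ X} (H : AffUniv h i h') (w : i ≫ h' = h) {V W : Over S}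
    {t : W ⟶ V} (hV : IsAffine V.left) (ht : MoreMor.IsFirstOrderThickening t.left) (a : (yon S).obj W ⟶ Z)
    {l l' : (yon S).obj V ⟶ Z'} (h₁ : (yon S).map t ≫ l = a ≫ i) (h₂ : (yon S).map t ≫ l' = a ≫ i)
    (h₃ : l ≫ h' = l' ≫ h') : l = l' := by
  obtain ⟨m, -, hm⟩ := H t hV ht a (l ≫ h') (by rw [← Category.assoc, h₁, Category.assoc, w])
  exact (hm l ⟨h₁, rfl⟩).trans (hm l' ⟨h₂, h₃.symm⟩).symm

variable {T T' : Sp S}

theorem AffUniv.space_uniq {h : Z ⟶ X} {i : Z ⟶ Z'} {h' : Z' ⟶ X} (H : AffUniv h i h') (w : i ≫ h' = h)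
    (hT' : IsAlgSpace T') {j : T ⟶ T'} (hj : IsFOThickMor j) (a : T ⟶ Z) (l l' : T' ⟶ Z') (h₁ : j ≫ l = a ≫ i)
    (h₂ : j ≫ l' = a ≫ i) (h₃ : l ≫ h' = l' ≫ h') : l = l' := by
  obtain ⟨V, c, hce, hcs⟩ := hT'.atlas
  haveI := effectiveEpi_of_etale hce hcs
  refine (cancel_epi c).1 (hom_ext_of_cover_affine fun O i' hO _ => ?_)
  obtain ⟨W, fst, t, sq⟩ := exists_sq hj.1.rep ((yon S).map i' ≫ c)
  rw [← Category.assoc, ← Category.assoc]
  refine H.uniq w hO (fot_pullback hT' hj sq) (fst ≫ a) ?_ ?_ ?_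
  · rw [← Category.assoc ((yon S).map t), ← sq.w, Category.assoc, h₁, ← Category.assoc]
  · rw [← Category.assoc ((yon S).map t), ← sq.w, Category.assoc, h₂, ← Category.assoc]
  · simp only [Category.assoc, h₃]

theorem AffUniv.space_lift {h : Z ⟶ X} {i : Z ⟶ Z'} {h' : Z' ⟶ X} (H : AffUniv h i h') (hih : i ≫ h' = h)
    (hT' : IsAlgSpace T') {j : T ⟶ T'} (hj : IsFOThickMor j) (a : T ⟶ Z) (b : T' ⟶ X) (w : j ≫ b = a ≫ h) :
    ∃! l : T' ⟶ Z', j ≫ l = a ≫ i ∧ l ≫ h' = b := by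
  suffices hex : ∃ l : T' ⟶ Z', j ≫ l = a ≫ i ∧ l ≫ h' = b by
    obtain ⟨l, h₁, h₂⟩ := hex
    exact ⟨l, ⟨h₁, h₂⟩, fun y hy => H.space_uniq hih hT' hj a y l hy.1 h₁ (hy.2.trans h₂.symm)⟩
  obtain ⟨V, c, hce, hcs⟩ := hT'.atlas
  let O : V.left.affineOpens → Over S := fun k => Over.mk (k.1.ι ≫ V.hom)
  let ι : ∀ k, O k ⟶ V := fun k => Over.homMk k.1.ι rfl
  haveI : ∀ k, IsOpenImmersion (ι k).left := fun k => inferInstanceAs (IsOpenImmersion k.1.ι)
  have hcov : ∀ v : ↥V.left, ∃ k, v ∈ Set.range (ι k).left := fun v => by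
    obtain ⟨U, hU, hvU, -⟩ := exists_isAffineOpen_mem_and_subset (X := V.left) (x := v) (U := ⊤) trivial
    exact ⟨⟨U, hU⟩, ⟨v, hvU⟩, rfl⟩
  choose W fst t sq using fun k => exists_sq hj.1.rep ((yon S).map (ι k) ≫ c)
  have hlift : ∀ k, ∃ m : (yon S).obj (O k) ⟶ Z',
      (yon S).map (t k) ≫ m = (fst k ≫ a) ≫ i ∧ m ≫ h' = ((yon S).map (ι k) ≫ c) ≫ b := fun k => by
    refine (H (t k) (show IsAffine (O k).left from k.2) (fot_pullback hT' hj (sq k)) _ _ ?_).exists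
    rw [← Category.assoc, ← (sq k).w, Category.assoc, w, Category.assoc]
  choose m hm₁ hm₂ using hlift
  obtain ⟨M, hM⟩ := exists_glue ι hcov m (by
    intro k k' R x y hxy
    refine hom_ext_of_cover_affine fun Q q hQ _ => ?_
    rw [← Category.assoc, ← Category.assoc, ← Functor.map_comp, ← Functor.map_comp]
    have e : (q ≫ x) ≫ ι k = (q ≫ y) ≫ ι k' := by rw [Category.assoc, hxy, Category.assoc]
    obtain ⟨W₀, f₀, t₀, sq₀⟩ := exists_sq hj.1.rep ((yon S).map ((q ≫ x) ≫ ι k) ≫ c)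
    have res : ∀ k₁ (z : Q ⟶ O k₁), (yon S).map z ≫ (yon S).map (ι k₁) ≫ c = (yon S).map ((q ≫ x) ≫ ι k) ≫ c →
        (yon S).map t₀ ≫ (yon S).map z ≫ m k₁ = (f₀ ≫ a) ≫ i := by
      intro k₁ z hz
      have hw : f₀ ≫ j = ((yon S).map t₀ ≫ (yon S).map z) ≫ (yon S).map (ι k₁) ≫ c := by
        rw [Category.assoc, hz, sq₀.w]
      obtain ⟨z₀, hz₀⟩ := (yon S).map_surjective ((sq k₁).lift _ _ hw)
      rw [← Category.assoc, ← (sq k₁).lift_snd _ _ hw, ← hz₀, Category.assoc, hm₁, ← Category.assoc,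
        ← Category.assoc, hz₀, (sq k₁).lift_fst]
    refine H.uniq hih hQ (fot_pullback hT' hj sq₀) (f₀ ≫ a) (res k _ (by rw [← Category.assoc, ← Functor.map_comp]))
      (res k' _ (by rw [← Category.assoc, ← Functor.map_comp, e])) ?_
    rw [Category.assoc, Category.assoc, hm₂, hm₂, ← Category.assoc, ← Category.assoc, ← Category.assoc,
      ← Category.assoc, ← Functor.map_comp, ← Functor.map_comp, e])
  have hMf : M ≫ h' = c ≫ b := hom_ext_of_cover ι hcov fun k => by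
    rw [← Category.assoc, hM, hm₂, Category.assoc]
  obtain ⟨V₀, c₀, t', sqV⟩ := exists_sq hj.1.rep c
  have hM₀ : (yon S).map t' ≫ M = (c₀ ≫ a) ≫ i := by
    refine hom_ext_of_cover_affine fun Q q hQ hq => ?_
    haveI := hq
    haveI : ∀ k, IsOpenImmersion (pullback.fst (q ≫ t') (ι k)).left := fun k =>
      MorphismProperty.of_isPullback (P := @IsOpenImmersion)
        ((IsPullback.of_hasPullback (q ≫ t') (ι k)).map (Over.forget S)).flip (inferInstanceAs (IsOpenImmersion (ι k).left))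
    refine hom_ext_of_cover (fun k => pullback.fst (q ≫ t') (ι k)) (fun v => ?_) fun k => ?_
    · obtain ⟨k, z, hz⟩ := hcov ((q ≫ t').left v)
      let sqk := (IsPullback.of_hasPullback (q ≫ t') (ι k)).map (Over.forget S)
      obtain ⟨u, hu, -⟩ := Scheme.Pullback.exists_preimage_pullback (f := (q ≫ t').left) (g := (ι k).left) v z hz.symm
      refine ⟨k, sqk.isoPullback.inv u, ?_⟩
      have e : sqk.isoPullback.inv ≫ (pullback.fst (q ≫ t') (ι k)).left =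
          pullback.fst (q ≫ t').left (ι k).left := sqk.isoPullback_inv_fst
      refine ((Scheme.Hom.comp_apply sqk.isoPullback.inv (pullback.fst (q ≫ t') (ι k)).left u).symm.trans ?_)
      exact (congrArg (fun p : pullback (q ≫ t').left (ι k).left ⟶ Q.left => p u) e).trans hu
    · let p := pullback.fst (q ≫ t') (ι k)
      let s := pullback.snd (q ≫ t') (ι k)
      have hp : (p ≫ q) ≫ t' = s ≫ ι k := (Category.assoc _ _ _).trans pullback.condition
      show (yon S).map p ≫ (yon S).map q ≫ (yon S).map t' ≫ M = (yon S).map p ≫ (yon S).map q ≫ (c₀ ≫ a) ≫ i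
      rw [← Category.assoc, ← Functor.map_comp, ← Category.assoc, ← Functor.map_comp, hp, Functor.map_comp,
        Category.assoc, hM]
      have hw : ((yon S).map (p ≫ q) ≫ c₀) ≫ j = (yon S).map s ≫ (yon S).map (ι k) ≫ c := by
        rw [Category.assoc, sqV.w, ← Category.assoc, ← Functor.map_comp, hp, Functor.map_comp, Category.assoc]
      obtain ⟨z₀, hz₀⟩ := (yon S).map_surjective ((sq k).lift _ _ hw)
      rw [← (sq k).lift_snd _ _ hw, ← hz₀, Category.assoc, hm₁, ← Category.assoc, ← Category.assoc, hz₀,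
        (sq k).lift_fst]
      simp only [Category.assoc, Functor.map_comp]
  obtain ⟨l, hl⟩ := exists_desc_of_cover hce hcs M fun R x y hR hxy hxe => by
    obtain ⟨R₀, f₀, t₀, sq₀⟩ := exists_sq hj.1.rep ((yon S).map x ≫ c)
    have res : ∀ z : R ⟶ V, (yon S).map z ≫ c = (yon S).map x ≫ c →
        (yon S).map t₀ ≫ (yon S).map z ≫ M = (f₀ ≫ a) ≫ i := by
      intro z hz
      have hw : f₀ ≫ j = ((yon S).map t₀ ≫ (yon S).map z) ≫ c := by rw [Category.assoc, hz, sq₀.w]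
      obtain ⟨z₀, hz₀⟩ := (yon S).map_surjective (sqV.lift _ _ hw)
      rw [← Category.assoc, ← sqV.lift_snd _ _ hw, ← hz₀, Category.assoc, hM₀, ← Category.assoc,
        ← Category.assoc, hz₀, sqV.lift_fst]
    refine H.uniq hih hR (fot_pullback hT' hj sq₀) (f₀ ≫ a) (res x rfl) (res y hxy.symm) ?_
    rw [Category.assoc, Category.assoc, hMf, ← Category.assoc, ← Category.assoc, hxy]
  haveI := effectiveEpi_of_etale hce hcs
  haveI := effectiveEpi_of_etale (repWith_baseChange sqV.flip hce) (repWith_baseChange sqV.flip hcs)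
  refine ⟨l, (cancel_epi c₀).1 ?_, (cancel_epi c).1 ?_⟩
  · rw [reassoc_of% sqV.w, hl, hM₀, Category.assoc]
  · rw [← Category.assoc, hl, hMf]

theorem isUnivFOThick_iff_affUniv {h : Z ⟶ X} {i : Z ⟶ Z'} {h' : Z' ⟶ X} (hi : IsFOThickMor i)
    (w : i ≫ h' = h) : IsUnivFOThick h i h' ↔ AffUniv h i h' :=
  ⟨fun hU V W t hV ht a b hab => hU.2.2 (IsAlgSpace.yon_obj W) (IsAlgSpace.yon_obj V) _ a b (fot_yon ht) hab,
    fun H => ⟨hi, w, fun T T' _ hT' j a b hj hab => H.space_lift w hT' hj a b hab⟩⟩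

/-- Composition with a formally etale morphism preserves universality. -/
theorem univ_comp_fe {Y : Sp S} {hZ : Z ⟶ Y} {i : Z ⟶ Z'} {h' : Z' ⟶ Y} (HU : IsUnivFOThick hZ i h') {g : Y ⟶ X}
    (hg : IsFormallyEtaleMor g) : IsUnivFOThick (hZ ≫ g) i (h' ≫ g) := by
  refine ⟨HU.1, by rw [← Category.assoc, HU.2.1], fun T T' hT hT' j a b hj hab => ?_⟩
  obtain ⟨y, ⟨hy₁, hy₂⟩, hy₃⟩ := space_thick_lift hT hT' hg hj (a ≫ hZ) b (by rw [Category.assoc, hab])
  obtain ⟨l, ⟨hl₁, hl₂⟩, hl₃⟩ := HU.2.2 hT hT' j a y hj hy₁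
  refine ⟨l, ⟨hl₁, by rw [← Category.assoc, hl₂, hy₂]⟩, fun l' hl' => hl₃ l' ⟨hl'.1, hy₃ _ ⟨?_, ?_⟩⟩⟩
  · rw [← Category.assoc, hl'.1, Category.assoc, HU.2.1]
  · rw [Category.assoc]; exact hl'.2

/-- Etale base change of a universal first order thickening. -/
theorem univ_etale_baseChange {Y Y' : Sp S} (hZ' : IsAlgSpace Z') (hY' : IsAlgSpace Y') {e : Z ⟶ Y} {hY : Y ⟶ X}
    {iY : Y ⟶ Y'} {hY'X : Y' ⟶ X} (HU : IsUnivFOThick hY iY hY'X) {iZ : Z ⟶ Z'} {e' : Z' ⟶ Y'}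
    (he' : IsEtaleMor e') (sq : IsPullback e iZ iY e') : IsUnivFOThick (e ≫ hY) iZ (e' ≫ hY'X) := by
  refine ⟨fot_of_isPullback hZ' hY' HU.1 sq, ?_, fun T T' hT hT' j a b hj hab => ?_⟩
  · rw [← Category.assoc, ← sq.w, Category.assoc, HU.2.1]
  obtain ⟨y, ⟨hy₁, hy₂⟩, hy₃⟩ := HU.2.2 hT hT' j (a ≫ e) b hj (by rw [hab, Category.assoc])
  obtain ⟨l, ⟨hl₁, hl₂⟩, hl₃⟩ := space_thick_lift hT hT' (fe_of_isEtaleMor hZ' hY' he') hj (a ≫ iZ) y
    (by rw [hy₁, Category.assoc, Category.assoc, sq.w])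
  refine ⟨l, ⟨hl₁, by rw [← Category.assoc, hl₂, hy₂]⟩, fun l' hl' => hl₃ l' ⟨hl'.1, hy₃ _ ⟨?_, ?_⟩⟩⟩
  · rw [← Category.assoc, hl'.1, Category.assoc, ← sq.w, ← Category.assoc]
  · rw [Category.assoc]; exact hl'.2

/-- Base change of a universal first order thickening. -/
theorem univ_baseChange {W W' Y P : Sp S} (hW' : IsAlgSpace W') (hP : IsAlgSpace P) {h : Z ⟶ X} {f : Z ⟶ W}
    {g : X ⟶ Y} {h' : W ⟶ Y} (sq : IsPullback h f g h') {iW : W ⟶ W'} {hW'Y : W' ⟶ Y}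
    (HU : IsUnivFOThick h' iW hW'Y) {pX : P ⟶ X} {pW : P ⟶ W'} (sq' : IsPullback pX pW g hW'Y) {iZ : Z ⟶ P}
    (w₁ : iZ ≫ pX = h) (w₂ : iZ ≫ pW = f ≫ iW) : IsUnivFOThick h iZ pX := by
  have sqZ : IsPullback f iZ iW pW := by
    refine IsPullback.of_bot ?_ w₂.symm sq'.flip
    rw [HU.2.1, w₁]
    exact sq.flip
  refine ⟨fot_of_isPullback hP hW' HU.1 sqZ, w₁, fun T T' hT hT' j a b hj hab => ?_⟩
  obtain ⟨y, ⟨hy₁, hy₂⟩, hy₃⟩ := HU.2.2 hT hT' j (a ≫ f) (b ≫ g) hj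
    (by rw [← Category.assoc, hab, Category.assoc, sq.w, Category.assoc])
  refine ⟨sq'.lift b y hy₂.symm, ⟨sq'.hom_ext ?_ ?_, sq'.lift_fst _ _ _⟩, fun l hl => sq'.hom_ext ?_ ?_⟩
  · rw [Category.assoc, sq'.lift_fst, hab, Category.assoc, w₁]
  · rw [Category.assoc, sq'.lift_snd, hy₁, Category.assoc, Category.assoc, w₂]
  · rw [sq'.lift_fst, hl.2]
  · rw [sq'.lift_snd]
    refine hy₃ _ ⟨?_, ?_⟩
    · rw [← Category.assoc, hl.1, Category.assoc, w₂, ← Category.assoc]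
    · rw [Category.assoc, ← sq'.w, ← Category.assoc, hl.2]

end Groth.Agent.ASp
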