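import Groth.Agent.Lib.AlgSpUnivFOThick
/-! The map from a universal first order thickening is formally unramified. -/

set_option autoImplicit false
set_option linter.style.haveILetI false
set_option linter.unusedVariables false
set_option backward.isDefEq.respectTransparency.types false

universe u

open CategoryTheory CategoryTheory.Limits AlgebraicGeometry Opposite Topology

noncomputable section

namespace Groth.Agent.ASp

open _root_.AlgSp

theorem ideal_sq_eq_bot_of_sqZero {A : Type u} [CommRing A] (J : Ideal A)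
    (h : sqZero (Spec.map (CommRingCat.ofHom (Ideal.Quotient.mk J)))) : J ^ 2 = ⊥ := by
  let t := Spec.map (CommRingCat.ofHom (Ideal.Quotient.mk J))
  haveI : IsClosedImmersion t := IsClosedImmersion.spec_of_surjective _ Ideal.Quotient.mk_surjective
  let e := (Scheme.ΓSpecIso (CommRingCat.of A)).symm.commRingCatIsoToRingEquiv
  have h1 : RingHom.ker t.appTop.hom = J.map (Scheme.ΓSpecIso (CommRingCat.of A)).inv.hom := by
    have hsq : t.appTop = (Scheme.ΓSpecIso (CommRingCat.of A)).hom ≫ CommRingCat.ofHom (Ideal.Quotient.mk J) ≫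
        (Scheme.ΓSpecIso (CommRingCat.of (A ⧸ J))).inv := by
      rw [Scheme.ΓSpecIso_inv_naturality]
      exact ((Scheme.ΓSpecIso (CommRingCat.of A)).hom_inv_id_assoc _).symm
    rw [hsq, CommRingCat.hom_comp, CommRingCat.hom_comp, ← RingHom.comap_ker,
      RingHom.ker_comp_of_injective _ (ConcreteCategory.bijective_of_isIso (Scheme.ΓSpecIso (CommRingCat.of (A ⧸ J))).inv).1, CommRingCat.hom_ofHom, Ideal.mk_ker]
    exact (Ideal.map_comap_of_equiv (Scheme.ΓSpecIso (CommRingCat.of A)).symm.commRingCatIsoToRingEquiv).symm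
  have h2 : (t.ker * t.ker).ideal ⟨⊤, isAffineOpen_top _⟩ = ⊥ := by rw [show t.ker * t.ker = ⊥ from h]; simp
  rw [Scheme.IdealSheafData.ideal_mul, Pi.mul_apply, Scheme.Hom.ker_apply] at h2
  change RingHom.ker t.appTop.hom * RingHom.ker t.appTop.hom = ⊥ at h2
  rw [h1, ← Ideal.map_mul, ← pow_two] at h2
  exact (Ideal.map_eq_bot_iff_of_injective (ConcreteCategory.bijective_of_isIso (Scheme.ΓSpecIso (CommRingCat.of A)).inv).1).1 h2

theorem fot_spec_surjective {A B : Type u} [CommRing A] [CommRing B] (φ : A →+* B) (hφ : Function.Surjective φ)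
    (hk : RingHom.ker φ ^ 2 = ⊥) : MoreMor.IsFirstOrderThickening (Spec.map (CommRingCat.ofHom φ)) := by
  let e := RingHom.quotientKerEquivOfSurjective hφ
  haveI : IsIso (CommRingCat.ofHom e.toRingHom) := e.toCommRingCatIso.isIso_hom
  have he : Spec.map (CommRingCat.ofHom φ) = Spec.map (CommRingCat.ofHom e.toRingHom) ≫
      Spec.map (CommRingCat.ofHom (Ideal.Quotient.mk (RingHom.ker φ))) := by
    rw [← Spec.map_comp]
    rfl
  refine H6.Thick.of_isPullback (j := Spec.map (CommRingCat.ofHom (Ideal.Quotient.mk (RingHom.ker φ)))) (g := 𝟙 _)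
    (f := Spec.map (CommRingCat.ofHom e.toRingHom)) (IsPullback.of_vert_isIso ⟨by rw [Category.comp_id, he]⟩) ?_
  exact H6.Thick.specMk (R := CommRingCat.of A) (RingHom.ker φ) hk

variable {S : Scheme.{u}} {Z Z' X : Sp S}

/-- The map out of a universal first order thickening is formally unramified. -/
theorem fu_of_univ (hZ' : IsAlgSpace Z') {h : Z ⟶ X} {i : Z ⟶ Z'} {h' : Z' ⟶ X} (HU : IsUnivFOThick h i h') :
    IsFormallyUnramifiedMor h' := by
  intro sq l l' h₁ h₂ h₁' h₂'
  have hA := (isUnivFOThick_iff_affUniv HU.1 HU.2.1).1 HU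
  have hcomp : l ≫ h' = l' ≫ h' := h₂.trans h₂'.symm
  let q : ∀ K : Ideal sq.A, Over.mk (Spec.map (CommRingCat.ofHom (Ideal.Quotient.mk K)) ≫ sq.str) ⟶ Over.mk sq.str :=
    fun K => Over.homMk (Spec.map (CommRingCat.ofHom (Ideal.Quotient.mk K))) rfl
  let ρ : ∀ {K L : Ideal sq.A}, K ≤ L → (Over.mk (Spec.map (CommRingCat.ofHom (Ideal.Quotient.mk L)) ≫ sq.str) ⟶
      Over.mk (Spec.map (CommRingCat.ofHom (Ideal.Quotient.mk K)) ≫ sq.str)) := fun hKL =>
    Over.homMk (Spec.map (CommRingCat.ofHom (Ideal.Quotient.factor hKL))) (by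
      show Spec.map _ ≫ Spec.map _ ≫ sq.str = Spec.map _ ≫ sq.str
      rw [← Spec.map_comp_assoc]
      rfl)
  have hρ : ∀ {K L : Ideal sq.A} (hKL : K ≤ L), ρ hKL ≫ q K = q L := fun hKL => Over.OverMorphism.ext (by
    show Spec.map _ ≫ Spec.map _ = Spec.map _
    rw [← Spec.map_comp]
    rfl)
  have hI : (yon S).map (q sq.I) ≫ l = (yon S).map (q sq.I) ≫ l' := h₁.trans h₁'.symm
  -- the ideal of the pullback of `i` along `l`
  obtain ⟨W, fst, t, sqW⟩ := exists_sq HU.1.1.rep l
  have ht := fot_pullback hZ' HU.1 sqW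
  obtain ⟨J, e, he⟩ := IsClosedImmersion.Spec_iff.1 ht.1.1
  have hJ : J ^ 2 = ⊥ := by
    refine ideal_sq_eq_bot_of_sqZero J ?_
    show Scheme.Hom.ker _ * Scheme.Hom.ker _ = ⊥
    have := ht.2
    rw [he, Scheme.Hom.ker_comp_of_isIso] at this
    exact this
  let ψ : Over.mk (Spec.map (CommRingCat.ofHom (Ideal.Quotient.mk J)) ≫ sq.str) ⟶ W :=
    Over.homMk e.inv (by
      show e.inv ≫ W.hom = Spec.map _ ≫ sq.str
      rw [← Over.w t, he, Category.assoc, Iso.inv_hom_id_assoc]
      rfl)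
  have hψ : ψ ≫ t = q J := Over.OverMorphism.ext (by
    show e.inv ≫ t.left = Spec.map _
    rw [he, Iso.inv_hom_id_assoc])
  have hlJ : (yon S).map (q J) ≫ l = ((yon S).map ψ ≫ fst) ≫ i := by
    rw [Category.assoc, sqW.w, ← Category.assoc, ← Functor.map_comp, hψ]
  -- agreeing modulo `I'` implies agreeing modulo `(J + I') ^ 2`
  have step : ∀ I' : Ideal sq.A, (yon S).map (q I') ≫ l = (yon S).map (q I') ≫ l' →
      (yon S).map (q ((J ⊔ I') ^ 2)) ≫ l = (yon S).map (q ((J ⊔ I') ^ 2)) ≫ l' := by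
    intro I' hI'
    have hle : (J ⊔ I') ^ 2 ≤ J ⊔ I' := Ideal.pow_le_self two_ne_zero
    have hf : MoreMor.IsFirstOrderThickening (ρ hle).left := by
      refine fot_spec_surjective _ (Ideal.Quotient.factor_surjective hle) ?_
      rw [Ideal.Quotient.factor_ker hle, ← Ideal.map_pow, Ideal.map_quotient_self]
    have hl : (yon S).map (q (J ⊔ I')) ≫ l =
        ((yon S).map (ρ (le_sup_left : J ≤ J ⊔ I')) ≫ (yon S).map ψ ≫ fst) ≫ i := by
      rw [← hρ (le_sup_left : J ≤ J ⊔ I'), Functor.map_comp, Category.assoc, hlJ]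
      simp only [Category.assoc]
    have hl' : (yon S).map (q (J ⊔ I')) ≫ l' = (yon S).map (q (J ⊔ I')) ≫ l := by
      rw [← hρ (le_sup_right : I' ≤ J ⊔ I'), Functor.map_comp, Category.assoc, Category.assoc, hI']
    refine hA.uniq HU.2.1 (inferInstanceAs (IsAffine (Spec _))) hf
      ((yon S).map (ρ (le_sup_left : J ≤ J ⊔ I')) ≫ (yon S).map ψ ≫ fst) ?_ ?_ (by simp only [Category.assoc, hcomp])
    · rw [← Category.assoc, ← Functor.map_comp, hρ, hl]
    · rw [← Category.assoc, ← Functor.map_comp, hρ, hl', hl]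
  have h0 := step _ (step _ hI)
  have hbot : (J ⊔ (J ⊔ sq.I) ^ 2) ^ 2 = ⊥ := by
    have hIJ : (J ⊔ sq.I) ^ 2 ≤ J := by
      rw [pow_two, Ideal.mul_sup, Ideal.sup_mul, Ideal.sup_mul, ← pow_two sq.I, sq.sq_zero, sup_bot_eq]
      exact sup_le (sup_le Ideal.mul_le_right Ideal.mul_le_right) Ideal.mul_le_left
    rw [sup_eq_left.2 hIJ, hJ]
  let iso : Over.mk sq.str ⟶ Over.mk (Spec.map (CommRingCat.ofHom (Ideal.Quotient.mk ((J ⊔ (J ⊔ sq.I) ^ 2) ^ 2))) ≫ sq.str) :=
    Over.homMk (Spec.map (CommRingCat.ofHom ((RingEquiv.quotientBot sq.A).toRingHom.comp (Ideal.Quotient.factor hbot.le)))) (by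
      show Spec.map _ ≫ Spec.map _ ≫ sq.str = sq.str
      rw [← Spec.map_comp_assoc, ← CommRingCat.ofHom_comp]
      refine (congrArg (· ≫ sq.str) (Spec.map_id _)).trans (Category.id_comp _))
  have hiso : iso ≫ q _ = 𝟙 _ := Over.OverMorphism.ext (by
    show Spec.map _ ≫ Spec.map _ = 𝟙 _
    rw [← Spec.map_comp, ← CommRingCat.ofHom_comp]
    exact Spec.map_id _)
  have := congrArg ((yon S).map iso ≫ ·) h0
  simp only [← Category.assoc, ← Functor.map_comp, hiso, CategoryTheory.Functor.map_id, Category.id_comp] at this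
  exact this

end Groth.Agent.ASp
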