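import Groth.Agent.Lib.AlgSpBasic
import Groth.Prelude.Def_AlgSpMor5

/-! The valuative criteria for morphisms of sheaves: composition, base change, unpacked forms. -/

set_option backward.isDefEq.respectTransparency.types false

universe u v

open CategoryTheory CategoryTheory.Limits AlgebraicGeometry Opposite

noncomputable section

namespace Groth.Agent.ASp

open _root_.AlgSp

variable {S : Scheme.{u}} {F G H : Sp S}

/-- `Spec A` over `S`. -/
abbrev specOver {A : Type u} [CommRing A] (str : Spec (.of A) ⟶ S) : Over S := Over.mk str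

/-- The morphism of spectra induced by a ring map, over `S`. -/
def specMap {A B : Type u} [CommRing A] [CommRing B] (φ : A →+* B) (strA : Spec (.of A) ⟶ S)
    (strB : Spec (.of B) ⟶ S) (h : Spec.map (CommRingCat.ofHom φ) ≫ strA = strB := by rfl) :
    specOver strB ⟶ specOver strA :=
  Over.homMk (Spec.map (CommRingCat.ofHom φ)) h

theorem specMap_comp {A B C : Type u} [CommRing A] [CommRing B] [CommRing C] (φ : A →+* B) (ψ : B →+* C)
    (a : Spec (.of A) ⟶ S) (b : Spec (.of B) ⟶ S) (c : Spec (.of C) ⟶ S)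
    (h₁ : Spec.map (CommRingCat.ofHom φ) ≫ a = b) (h₂ : Spec.map (CommRingCat.ofHom ψ) ≫ b = c) :
    specMap ψ b c h₂ ≫ specMap φ a b h₁ = specMap (ψ.comp φ) a c (by
      rw [CommRingCat.ofHom_comp, Spec.map_comp_assoc, h₁, h₂]) := by
  apply Over.OverMorphism.ext
  change Spec.map _ ≫ Spec.map _ = Spec.map _
  rw [← Spec.map_comp, ← CommRingCat.ofHom_comp]

theorem specMap_congr {A B : Type u} [CommRing A] [CommRing B] {φ φ' : A →+* B} (h : φ = φ')
    (a : Spec (.of A) ⟶ S) (b : Spec (.of B) ⟶ S) (h₁ : Spec.map (CommRingCat.ofHom φ) ≫ a = b)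
    (h₂ : Spec.map (CommRingCat.ofHom φ') ≫ a = b) : specMap φ a b h₁ = specMap φ' a b h₂ := by
  subst h; rfl

/-- The lifting data of the existence part, unpacked, with free structure morphisms. -/
def LiftExt (f : F ⟶ G) {A K : Type u} [CommRing A] [Field K] [Algebra A K] {sA : Spec (.of A) ⟶ S}
    {sK : Spec (.of K) ⟶ S} (top : (yon S).obj (specOver sK) ⟶ F) (bot : (yon S).obj (specOver sA) ⟶ G) :
    Prop :=
  ∃ (A' K' : Type u) (_ : CommRing A') (_ : IsDomain A') (_ : ValuationRing A') (_ : Field K')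
    (_ : Algebra A' K') (_ : IsFractionRing A' K') (φ : A →+* A') (ψ : K →+* K')
    (_ : (algebraMap A' K').comp φ = ψ.comp (algebraMap A K)) (_ : IsLocalHom φ)
    (sA' : Spec (.of A') ⟶ S) (sK' : Spec (.of K') ⟶ S)
    (hφ : Spec.map (CommRingCat.ofHom φ) ≫ sA = sA') (hψ : Spec.map (CommRingCat.ofHom ψ) ≫ sK = sK')
    (hK : Spec.map (CommRingCat.ofHom (algebraMap A' K')) ≫ sA' = sK')
    (l : (yon S).obj (specOver sA') ⟶ F),
    (yon S).map (specMap (algebraMap A' K') sA' sK' hK) ≫ l = (yon S).map (specMap ψ sK sK' hψ) ≫ top ∧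
      l ≫ f = (yon S).map (specMap φ sA sA' hφ) ≫ bot

theorem existVC_apply {f : F ⟶ G} (h : ExistVC f) {A K : Type u} [CommRing A] [IsDomain A]
    [ValuationRing A] [Field K] [Algebra A K] [IsFractionRing A K] (sA : Spec (.of A) ⟶ S)
    (sK : Spec (.of K) ⟶ S) (hK : Spec.map (CommRingCat.ofHom (algebraMap A K)) ≫ sA = sK)
    (top : (yon S).obj (specOver sK) ⟶ F) (bot : (yon S).obj (specOver sA) ⟶ G)
    (comm : top ≫ f = (yon S).map (specMap (algebraMap A K) sA sK hK) ≫ bot) :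
    LiftExt f top bot := by
  subst hK
  obtain ⟨e, l, h₁, h₂⟩ := h ⟨A, K, sA, top, bot, comm⟩
  exact ⟨e.A', e.K', e.commRing, e.isDomain, e.valuationRing, e.field, e.algebra, e.isFractionRing,
    e.φ, e.ψ, e.comm, e.isLocalHom, _, _, rfl, _, rfl, l, h₁, h₂⟩

theorem existVC_intro {f : F ⟶ G} (h : ∀ q : ValSq f, LiftExt (A := q.A) (K := q.K) f q.top q.bot) :
    ExistVC f := by
  intro q
  obtain ⟨A', K', iA, iD, iV, iK, iAK, iF, φ, ψ, hc, hl, sA', sK', hφ, hψ, hK, l, h₁, h₂⟩ := h q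
  subst hφ
  subst hK
  exact ⟨@ValSq.DomExt.mk _ _ _ _ q A' iA iD iV K' iK iAK iF φ ψ hc hl, l, h₁, h₂⟩

theorem uniqVC_apply {f : F ⟶ G} (h : UniqVC f) {A K : Type u} [CommRing A] [IsDomain A]
    [ValuationRing A] [Field K] [Algebra A K] [IsFractionRing A K] (sA : Spec (.of A) ⟶ S)
    (sK : Spec (.of K) ⟶ S) (hK : Spec.map (CommRingCat.ofHom (algebraMap A K)) ≫ sA = sK)
    (l l' : (yon S).obj (specOver sA) ⟶ F)
    (e₁ : (yon S).map (specMap (algebraMap A K) sA sK hK) ≫ l =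
      (yon S).map (specMap (algebraMap A K) sA sK hK) ≫ l') (e₂ : l ≫ f = l' ≫ f) : l = l' := by
  subst hK
  exact h ⟨A, K, sA, (yon S).map (specMap (algebraMap A K) sA _ rfl) ≫ l, l ≫ f, Category.assoc _ _ _⟩
    l l' rfl rfl e₁.symm e₂.symm

theorem existVC_comp {f : F ⟶ G} {g : G ⟶ H} (hf : ExistVC f) (hg : ExistVC g) : ExistVC (f ≫ g) := by
  refine existVC_intro fun q => ?_
  obtain ⟨A₁, K₁, _, _, _, _, _, _, φ₁, ψ₁, hc₁, hl₁, a₁, k₁, hφ₁, hψ₁, hK₁, m, hm₁, hm₂⟩ :=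
    existVC_apply hg q.str _ rfl (q.top ≫ f) q.bot ((Category.assoc _ _ _).trans q.comm)
  obtain ⟨A₂, K₂, _, _, _, _, _, _, φ₂, ψ₂, hc₂, hl₂, a₂, k₂, hφ₂, hψ₂, hK₂, l, h₁, h₂⟩ :=
    existVC_apply hf a₁ k₁ hK₁ ((yon S).map (specMap ψ₁ _ k₁ hψ₁) ≫ q.top) m
      ((Category.assoc _ _ _).trans hm₁.symm)
  refine ⟨A₂, K₂, inferInstance, inferInstance, inferInstance, inferInstance, inferInstance,
    inferInstance, φ₂.comp φ₁, ψ₂.comp ψ₁, ?_, RingHom.isLocalHom_comp _ _, a₂, k₂,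
    by rw [CommRingCat.ofHom_comp, Spec.map_comp_assoc, hφ₁, hφ₂],
    by rw [CommRingCat.ofHom_comp, Spec.map_comp_assoc, hψ₁, hψ₂], hK₂, l, ?_, ?_⟩
  · rw [← RingHom.comp_assoc, hc₂, RingHom.comp_assoc, RingHom.comp_assoc, hc₁]
  · rw [h₁, ← specMap_comp ψ₁ ψ₂ _ k₁ k₂ hψ₁ hψ₂, Functor.map_comp, Category.assoc]
  · rw [reassoc_of% h₂, hm₂, ← specMap_comp φ₁ φ₂ _ a₁ a₂ hφ₁ hφ₂, Functor.map_comp, Category.assoc]

theorem existVC_baseChange {F' G' : Sp S} {f : F ⟶ G} {f' : F' ⟶ G'} {p : F' ⟶ F} {g : G' ⟶ G}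
    (sq : IsPullback p f' f g) (h : ExistVC f) : ExistVC f' := by
  refine existVC_intro fun q => ?_
  obtain ⟨A', K', _, _, _, _, _, _, φ, ψ, hc, hl, a', k', hφ, hψ, hK, l, h₁, h₂⟩ :=
    existVC_apply h q.str _ rfl (q.top ≫ p) (q.bot ≫ g) (by
      rw [Category.assoc, sq.w, reassoc_of% q.comm]; rfl)
  refine ⟨A', K', inferInstance, inferInstance, inferInstance, inferInstance, inferInstance,
    inferInstance, φ, ψ, hc, hl, a', k', hφ, hψ, hK,
    sq.lift l ((yon S).map (specMap φ q.str a' hφ) ≫ q.bot) (by rw [Category.assoc]; exact h₂),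
    sq.hom_ext ?_ ?_, sq.lift_snd _ _ _⟩
  · rw [Category.assoc, sq.lift_fst, Category.assoc]; exact h₁
  · rw [Category.assoc, sq.lift_snd, Category.assoc, q.comm, ← Functor.map_comp_assoc,
      ← Functor.map_comp_assoc]
    congr 2
    exact (specMap_comp φ _ _ _ _ hφ hK).trans
      ((specMap_congr hc _ _ _ _).trans (specMap_comp (algebraMap q.A q.K) ψ q.str _ k' rfl hψ).symm)

theorem uniqVC_comp {f : F ⟶ G} {g : G ⟶ H} (hf : UniqVC f) (hg : UniqVC g) : UniqVC (f ≫ g) :=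
  fun q l l' h₁ h₂ h₃ h₄ => by
    refine uniqVC_apply (K := q.K) hf q.str _ rfl l l' (h₁.trans h₃.symm) ?_
    exact uniqVC_apply (K := q.K) hg q.str _ rfl (l ≫ f) (l' ≫ f)
      ((Category.assoc _ _ _).symm.trans ((congrArg (· ≫ f) (h₁.trans h₃.symm)).trans (Category.assoc _ _ _)))
      (by rw [Category.assoc, Category.assoc]; exact h₂.trans h₄.symm)

theorem uniqVC_baseChange {F' G' : Sp S} {f : F ⟶ G} {f' : F' ⟶ G'} {p : F' ⟶ F} {g : G' ⟶ G}
    (sq : IsPullback p f' f g) (h : UniqVC f) : UniqVC f' :=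
  fun q l l' h₁ h₂ h₃ h₄ => by
    refine sq.hom_ext (uniqVC_apply (K := q.K) h q.str _ rfl _ _ ?_ ?_) (h₂.trans h₄.symm)
    · exact (Category.assoc _ _ _).symm.trans ((congrArg (· ≫ p) (h₁.trans h₃.symm)).trans (Category.assoc _ _ _))
    · rw [Category.assoc, Category.assoc, sq.w, reassoc_of% h₂, reassoc_of% h₄]

end Groth.Agent.ASp
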