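/-
Artin-Rees constants for maps, Hom
-/
import Mathlib

set_option autoImplicit false
universe u
open Submodule

namespace Groth.Agent.ArtinReesHom


section
variable {A : Type u} [CommRing A]

theorem smul_top_map_le {M N : Type u} [AddCommGroup M] [Module A M] [AddCommGroup N] [Module A N]
    (f : M →ₗ[A] N) (J : Ideal A) {x : M} (hx : x ∈ (J • ⊤ : Submodule A M)) :
    f x ∈ J • LinearMap.range f := by
  have := Submodule.mem_map_of_mem (f := f) hx
  rwa [Submodule.map_smul'', Submodule.map_top] at this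

theorem mem_pow_of_range_le {M N : Type u} [AddCommGroup M] [Module A M] [AddCommGroup N] [Module A N]
    (I : Ideal A) (d : M →ₗ[A] N) (c k : ℕ) (hd : ∀ x, d x ∈ (I ^ c • ⊤ : Submodule A N))
    {x : M} (hx : x ∈ (I ^ k • ⊤ : Submodule A M)) : d x ∈ (I ^ (k + c) • ⊤ : Submodule A N) := by
  have h := smul_top_map_le d (I ^ k) hx
  refine (?_ : I ^ k • LinearMap.range d ≤ _) h
  rw [pow_add, Submodule.mul_smul]
  exact Submodule.smul_mono le_rfl (by rintro _ ⟨y, rfl⟩; exact hd y)

theorem pow_mono (I : Ideal A) {M : Type u} [AddCommGroup M] [Module A M] {m n : ℕ} (h : n ≤ m) :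
    (I ^ m • ⊤ : Submodule A M) ≤ I ^ n • ⊤ :=
  Submodule.smul_mono_left (Ideal.pow_le_pow_right h)

/-- Artin-Rees constant for a map. -/
theorem exists_AR [IsNoetherianRing A] (I : Ideal A) {M N : Type u} [AddCommGroup M] [Module A M]
    [AddCommGroup N] [Module A N] [Module.Finite A N] (f : M →ₗ[A] N) :
    ∃ c : ℕ, ∀ n, LinearMap.range f ⊓ (I ^ (n + c) • ⊤ : Submodule A N) ≤
      (I ^ n • ⊤ : Submodule A M).map f := by
  obtain ⟨c, hc⟩ := Ideal.exists_pow_inf_eq_pow_smul I (LinearMap.range f)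
  refine ⟨c, fun n => ?_⟩
  rw [inf_comm, hc (n + c) (by omega), Nat.add_sub_cancel, Submodule.map_smul'', Submodule.map_top]
  exact Submodule.smul_mono le_rfl inf_le_right

/-- Artin-Rees constant for a submodule, in annihilation form. -/
theorem exists_AR_smul [IsNoetherianRing A] (I : Ideal A) {M : Type u} [AddCommGroup M] [Module A M]
    [Module.Finite A M] (P : Submodule A M) :
    ∃ c : ℕ, ∀ n, ∀ x ∈ P, x ∈ (I ^ n • ⊤ : Submodule A M) → ∀ a ∈ I ^ c, a • x ∈ I ^ n • P := by
  obtain ⟨c, hc⟩ := Ideal.exists_pow_inf_eq_pow_smul I P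
  refine ⟨c, fun n x hxP hx a ha => ?_⟩
  have h1 : a • x ∈ (I ^ (n + c) • ⊤ : Submodule A M) ⊓ P := ⟨by
    rw [add_comm, pow_add, Submodule.mul_smul]; exact Submodule.smul_mem_smul ha hx, P.smul_mem a hxP⟩
  rw [hc (n + c) (by omega), Nat.add_sub_cancel] at h1
  exact Submodule.smul_mono le_rfl inf_le_right h1

end

end Groth.Agent.ArtinReesHom
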