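import Mathlib

/-! The algebraic obstruction: `1/(st)` is not a sum of elements with poles only along `s`, resp. `t`,
even after a flat ring extension through the node. -/

set_option autoImplicit false

universe u

noncomputable section

namespace Groth.Agent.Lib.BGaObstruction

/-- `(ab)ⁿ` times something nonzero at the origin is not in `(a^{n+1}, b^{n+1})` -/
theorem constantCoeff_eq_zero {k : Type u} [Field k] (n : ℕ) (p q₁ q₂ : MvPolynomial (Fin 2) k)
    (h : p * (MvPolynomial.X 0 * MvPolynomial.X 1) ^ n =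
      q₁ * MvPolynomial.X 0 ^ (n + 1) + q₂ * MvPolynomial.X 1 ^ (n + 1)) :
    MvPolynomial.constantCoeff p = 0 := by
  classical
  let e : Fin 2 →₀ ℕ := Finsupp.single 0 n + Finsupp.single 1 n
  have h1 : (MvPolynomial.X 0 * MvPolynomial.X 1 : MvPolynomial (Fin 2) k) ^ n = MvPolynomial.monomial e 1 := by
    rw [mul_pow, MvPolynomial.X_pow_eq_monomial, MvPolynomial.X_pow_eq_monomial, MvPolynomial.monomial_mul]
    simp [e]
  have key := congrArg (MvPolynomial.coeff e) h
  rw [h1, MvPolynomial.coeff_mul_monomial', if_pos le_rfl, tsub_self, mul_one, MvPolynomial.coeff_add,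
    MvPolynomial.X_pow_eq_monomial, MvPolynomial.X_pow_eq_monomial, MvPolynomial.coeff_mul_monomial',
    MvPolynomial.coeff_mul_monomial', if_neg, if_neg, add_zero] at key
  · exact key
  · intro hle
    have := hle 1
    simp [e] at this
  · intro hle
    have := hle 0
    simp [e] at this

/-- flat extensions keep colon ideals inside a prime -/
theorem false_of_flat {B B' : Type u} [CommRing B] [CommRing B'] [Algebra B B'] [Module.Flat B B']
    (x f g : B) (m : Ideal B) (q : Ideal B') (hq : q ≠ ⊤) (hmq : ∀ c ∈ m, algebraMap B B' c ∈ q)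
    (hcolon : ∀ c a b : B, c * x = a * f + b * g → c ∈ m)
    (a b : B') (h : algebraMap B B' x = a * algebraMap B B' f + b * algebraMap B B' g) : False := by
  let F : Fin 3 → B := ![x, f, g]
  let z : Fin 3 → B' := ![-1, a, b]
  have hz : ∑ i, F i • z i = 0 := by
    simp [F, z, Fin.sum_univ_three, Algebra.smul_def]
    linear_combination -h
  obtain ⟨l, c, y, hy, hc⟩ := (Module.Flat.iff_forall_isTrivialRelation (R := B) (M := B')).mp inferInstance hz
  have hm : ∀ j, c 0 j ∈ m := by
    intro j
    refine hcolon (c 0 j) (-c 1 j) (-c 2 j) ?_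
    have := hc j
    simp [F, Fin.sum_univ_three] at this
    linear_combination this
  apply hq
  rw [Ideal.eq_top_iff_one]
  have h0 : (-1 : B') = ∑ j, c 0 j • y j := hy 0
  have : (-1 : B') ∈ q := by
    rw [h0]
    refine Submodule.sum_mem _ fun j _ => ?_
    rw [Algebra.smul_def]
    exact Ideal.mul_mem_right _ _ (hmq _ (hm j))
  simpa using q.neg_mem this

/-- from fractions with poles along `s` and along `t` summing to `1/π`, `π = s t` -/
theorem exists_relation {B' : Type u} [CommRing B'] (s t : B') (x : Localization.Away s) (y : Localization.Away t)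
    (φ : Localization.Away s →+* Localization.Away (s * t)) (ψ : Localization.Away t →+* Localization.Away (s * t))
    (hφ : φ.comp (algebraMap B' _) = algebraMap B' _) (hψ : ψ.comp (algebraMap B' _) = algebraMap B' _)
    (h : algebraMap B' _ (s * t) * (ψ y - φ x) = 1) :
    ∃ (n : ℕ) (a b : B'), (s * t) ^ n = a * s ^ (n + 1) + b * t ^ (n + 1) := by
  obtain ⟨⟨a₀, _, n₁, rfl⟩, ha⟩ := IsLocalization.surj (Submonoid.powers s) x
  obtain ⟨⟨b₀, _, n₂, rfl⟩, hb⟩ := IsLocalization.surj (Submonoid.powers t) y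
  have hφ' : ∀ c, φ (algebraMap B' _ c) = algebraMap B' _ c := fun c => congrArg (fun r => r c) hφ
  have hψ' : ∀ c, ψ (algebraMap B' _ c) = algebraMap B' _ c := fun c => congrArg (fun r => r c) hψ
  have hxa := congrArg φ ha
  have hyb := congrArg ψ hb
  simp only [map_mul, hφ', hψ'] at hxa hyb
  let ι := algebraMap B' (Localization.Away (s * t))
  have key : ι ((s * t) * (b₀ * s ^ n₁ - a₀ * t ^ n₂)) = ι (s ^ n₁ * t ^ n₂) := by
    simp only [ι, map_mul, map_sub] at h hxa hyb ⊢
    linear_combination (ι (s ^ n₁) * ι (t ^ n₂)) * h - (ι s * ι t * ι (s ^ n₁)) * hyb +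
      (ι s * ι t * ι (t ^ n₂)) * hxa
  obtain ⟨⟨_, K, rfl⟩, hK⟩ := (IsLocalization.eq_iff_exists (Submonoid.powers (s * t)) _).mp key
  refine ⟨n₁ + n₂ + K, b₀ * t ^ (K + n₁ + 1), -(a₀ * s ^ (K + n₂ + 1)), ?_⟩
  have hK' : (s * t) ^ K * (s * t * (b₀ * s ^ n₁ - a₀ * t ^ n₂)) = (s * t) ^ K * (s ^ n₁ * t ^ n₂) := hK
  simp only [mul_pow] at hK' ⊢
  simp only [pow_add, pow_one] at hK' ⊢
  linear_combination -(s ^ n₂ * t ^ n₁) * hK'

end Groth.Agent.Lib.BGaObstruction
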