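import Groth.Agent.Lib.BGaPunc
import Groth.Agent.Lib.BGaObstruction

/-! `B G_a` is not S-complete. -/

set_option autoImplicit false
set_option backward.isDefEq.respectTransparency false
set_option backward.isDefEq.respectTransparency.types false
set_option synthInstance.maxHeartbeats 100000
set_option maxHeartbeats 800000

universe u

open CategoryTheory CategoryTheory.Limits MonoidalCategory CartesianMonoidalCategory MonObj AlgebraicGeometry Opposite

noncomputable section

namespace Groth.Agent.Lib.BGaNotS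

open GaPts (appTop_comp_apply)
open BGaTorsor BGaPunc

variable (k : Type u) [Field k]

abbrev PS : Type u := PowerSeries k
abbrev ω : PS k := PowerSeries.X
abbrev SK : Scheme.{u} := Spec (CommRingCat.of k)
abbrev hk : Spec (CommRingCat.of (PS k)) ⟶ SK k :=
  Spec.map (CommRingCat.ofHom (PowerSeries.C : k →+* PS k))

/-- colon ideal at the node -/
theorem exists_node : ∃ q : Ideal (ThetaS.STRing (PS k) (ω k)), q.IsPrime ∧
    ∀ (n : ℕ) (c a b : ThetaS.STRing (PS k) (ω k)),
      c * (ThetaS.sFn (PS k) (ω k) * ThetaS.tFn (PS k) (ω k)) ^ n =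
        a * ThetaS.sFn (PS k) (ω k) ^ (n + 1) + b * ThetaS.tFn (PS k) (ω k) ^ (n + 1) → c ∈ q := by
  let f₀ : MvPolynomial (Fin 2) (PS k) →+* k :=
    (PowerSeries.constantCoeff).comp MvPolynomial.constantCoeff
  let e : ThetaS.STRing (PS k) (ω k) →+* k := Ideal.Quotient.lift _ f₀ (by
    intro z hz
    obtain ⟨d, rfl⟩ := Ideal.mem_span_singleton'.mp hz
    simp [f₀])
  refine ⟨RingHom.ker e, RingHom.ker_isPrime e, fun n c a b h => ?_⟩
  let T₀ : Type u := MvPolynomial (Fin 2) k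
  let I : Ideal T₀ := Ideal.span {MvPolynomial.X 0 ^ (n + 1), MvPolynomial.X 1 ^ (n + 1)}
  let A : T₀ ⧸ I := Ideal.Quotient.mk I (MvPolynomial.X 0)
  let B : T₀ ⧸ I := Ideal.Quotient.mk I (MvPolynomial.X 1)
  have hA : A ^ (n + 1) = 0 := by
    rw [← map_pow]; exact Ideal.Quotient.eq_zero_iff_mem.mpr (Ideal.subset_span (Or.inl rfl))
  have hB : B ^ (n + 1) = 0 := by
    rw [← map_pow]; exact Ideal.Quotient.eq_zero_iff_mem.mpr (Ideal.subset_span (Or.inr rfl))
  let ι₀ : k →+* T₀ ⧸ I := (Ideal.Quotient.mk I).comp MvPolynomial.C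
  -- evaluation of power series at a nilpotent element
  let ev₀ : PS k →+* T₀ ⧸ I :=
    { toFun := fun f => Polynomial.eval₂ ι₀ (A * B) (PowerSeries.trunc (n + 1) f)
      map_one' := by simp
      map_zero' := by simp
      map_add' := fun f g => by simp
      map_mul' := fun f g => by
        rw [← Polynomial.eval₂_mul]
        have hAB : (A * B) ^ (n + 1) = 0 := by rw [mul_pow, hA, zero_mul]
        obtain ⟨r, hr⟩ : Polynomial.X ^ (n + 1) ∣
            PowerSeries.trunc (n + 1) (f * g) - PowerSeries.trunc (n + 1) f * PowerSeries.trunc (n + 1) g := by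
          rw [Polynomial.X_pow_dvd_iff]
          intro d hd
          rw [Polynomial.coeff_sub, PowerSeries.coeff_trunc, if_pos hd, PowerSeries.coeff_mul,
            Polynomial.coeff_mul, sub_eq_zero]
          refine Finset.sum_congr rfl fun x hx => ?_
          rw [Finset.HasAntidiagonal.mem_antidiagonal] at hx
          rw [PowerSeries.coeff_trunc, PowerSeries.coeff_trunc, if_pos (by omega), if_pos (by omega)]
        have := congrArg (Polynomial.eval₂ ι₀ (A * B)) hr
        rw [Polynomial.eval₂_sub, Polynomial.eval₂_mul (p := Polynomial.X ^ (n + 1)), Polynomial.eval₂_X_pow, hAB,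
          zero_mul, sub_eq_zero] at this
        exact this }
  let ev : ThetaS.STRing (PS k) (ω k) →+* T₀ ⧸ I :=
    Ideal.Quotient.lift _ (MvPolynomial.eval₂Hom ev₀ ![A, B]) (by
      intro z hz
      obtain ⟨d, rfl⟩ := Ideal.mem_span_singleton'.mp hz
      rcases n with _ | n
      · have hA0 : A = 0 := by simpa using hA
        simp [hA0, ev₀, PowerSeries.trunc_succ]
      · have hX : ev₀ (ω k) = A * B := by
          change Polynomial.eval₂ ι₀ (A * B) (PowerSeries.trunc (n + 2) (PowerSeries.X : PS k)) = A * B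
          rw [PowerSeries.trunc_X]; simp
        simp [hX])
  have hs : ev (ThetaS.sFn (PS k) (ω k)) = A := by
    change MvPolynomial.eval₂Hom ev₀ ![A, B] (MvPolynomial.X 0) = A; simp
  have ht : ev (ThetaS.tFn (PS k) (ω k)) = B := by
    change MvPolynomial.eval₂Hom ev₀ ![A, B] (MvPolynomial.X 1) = B; simp
  obtain ⟨p, hp⟩ := Ideal.Quotient.mk_surjective (ev c)
  have h' := congrArg ev h
  rw [map_mul, map_pow, map_mul, map_add, map_mul, map_mul, map_pow, map_pow, hs, ht, hA, hB, mul_zero, mul_zero,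
    add_zero, ← hp, ← map_mul, ← map_pow, ← map_mul, Ideal.Quotient.eq_zero_iff_mem] at h'
  obtain ⟨q₁, q₂, hq⟩ := Ideal.mem_span_pair.mp h'
  have h0 := BGaObstruction.constantCoeff_eq_zero n p q₁ q₂ hq.symm
  let π₀ : T₀ ⧸ I →+* k := Ideal.Quotient.lift I MvPolynomial.constantCoeff (by
    intro z hz
    obtain ⟨a, b, rfl⟩ := Ideal.mem_span_pair.mp hz
    rw [map_add, map_mul, map_mul, map_pow, map_pow]
    erw [MvPolynomial.constantCoeff_X, MvPolynomial.constantCoeff_X]
    simp)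
  have hcomp : π₀.comp ev = e := by
    refine Ideal.Quotient.ringHom_ext (MvPolynomial.ringHom_ext (fun r => ?_) fun i => ?_)
    · change π₀ (MvPolynomial.eval₂Hom ev₀ ![A, B] (MvPolynomial.C r)) = f₀ (MvPolynomial.C r)
      rw [MvPolynomial.eval₂Hom_C]
      have hι : π₀.comp ι₀ = RingHom.id k := RingHom.ext fun a => by
        change MvPolynomial.constantCoeff (MvPolynomial.C a : T₀) = a; simp
      have hAB0 : π₀ (A * B) = 0 := by
        rw [map_mul]
        change MvPolynomial.constantCoeff (MvPolynomial.X 0 : T₀) * _ = 0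
        simp
      change π₀ (Polynomial.eval₂ ι₀ (A * B) (PowerSeries.trunc (n + 1) r)) = _
      rw [Polynomial.hom_eval₂, hι, hAB0, Polynomial.eval₂_at_zero]
      simp [f₀, PowerSeries.coeff_trunc]
    · change π₀ (MvPolynomial.eval₂Hom ev₀ ![A, B] (MvPolynomial.X i)) = f₀ (MvPolynomial.X i)
      rw [MvPolynomial.eval₂Hom_X']
      fin_cases i
      · change MvPolynomial.constantCoeff (MvPolynomial.X 0 : T₀) = _; simp [f₀]
      · change MvPolynomial.constantCoeff (MvPolynomial.X 1 : T₀) = _; simp [f₀]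
  change e c = 0
  rw [← hcomp, RingHom.comp_apply, ← hp]
  exact h0

variable {k}

theorem mem_basicOpen_spec {B : Type u} [CommRing B] (f : B) (x : Spec (CommRingCat.of B)) :
    x ∈ (Spec (CommRingCat.of B)).basicOpen ((Scheme.ΓSpecIso (CommRingCat.of B)).inv f) ↔ f ∉ x.asIdeal := by
  rw [basicOpen_eq_of_affine]; rfl

theorem exists_quot {B : Type u} [CommRing B] (p u w : B) (hrel : u + u ^ 2 = p * w)
    (hmem : ∀ P : Ideal B, P.IsPrime → p ∈ P → u ∈ P) : ∃ x, u = p * x := by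
  have htop : Ideal.span ({p, 1 + u} : Set B) = ⊤ := by
    by_contra hne
    obtain ⟨M, hM, hle⟩ := Ideal.exists_le_maximal _ hne
    have hp : p ∈ M := hle (Ideal.subset_span (Or.inl rfl))
    have h1 : 1 + u ∈ M := hle (Ideal.subset_span (Or.inr rfl))
    have := hmem M hM.isPrime hp
    exact hM.ne_top ((Ideal.eq_top_iff_one M).mpr (by simpa using M.sub_mem h1 this))
  obtain ⟨a, b, hab⟩ := Ideal.mem_span_pair.mp ((Ideal.eq_top_iff_one _).mp htop)
  exact ⟨a * u + b * w, by linear_combination -u * hab + b * hrel⟩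

abbrev ST₀ (k : Type u) [Field k] := ThetaS.ST Scheme.fppfPrecoverage (PS k) (ω k) (hk k)
abbrev chart (k : Type u) [Field k] : Over (Spec (CommRingCat.of (PS k))) := ThetaS.STSch (PS k) (ω k)

def puncOpen (k : Type u) [Field k] : (chart k).left.Opens :=
  (chart k).left.basicOpen (ThetaS.stFn (ThetaS.sFn (PS k) (ω k))) ⊔
    (chart k).left.basicOpen (ThetaS.stFn (ThetaS.tFn (PS k) (ω k)))

def chart' (k : Type u) [Field k] : Over (Spec (CommRingCat.of (PS k))) :=
  Over.mk ((puncOpen k).ι ≫ (chart k).hom)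

def chartIncl (k : Type u) [Field k] : chart' k ⟶ chart k := Over.homMk (puncOpen k).ι rfl

def qm (k : Type u) [Field k] :=
  AlgSt.quotMap Scheme.fppfPrecoverage (ThetaS.Gm (PS k)) (ThetaS.stAction (PS k) (ω k))

def A₀ (k : Type u) [Field k] : (STR' (ω k)).obj := (qm k).obj ⟨chart k, ⟨𝟙 _⟩⟩
def A₁ (k : Type u) [Field k] : (STR' (ω k)).obj := (qm k).obj ⟨chart' k, ⟨chartIncl k⟩⟩
def mor (k : Type u) [Field k] : A₁ k ⟶ A₀ k :=
  (qm k).map (X := (⟨chart' k, ⟨chartIncl k⟩⟩ : (AlgSt.ofSch (chart k)).obj))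
    (Y := ⟨chart k, ⟨𝟙 _⟩⟩) ⟨chartIncl k, congrArg ULift.up (show chartIncl k ≫ 𝟙 (chart k) = chartIncl k from Category.comp_id _)⟩

/-- membership in the images through the unit section -/
theorem mem_img_A₁ {c : ThetaS.STRing (PS k) (ω k)} (hc : Semi c) (t : (chart' k).left) :
    t ∈ img c hc (A₁ k) ↔ (puncOpen k).ι t ∈ (chart k).left.basicOpen (ThetaS.stFn c) := by
  let e : chart' k ⟶ ThetaS.Gm (PS k) ⊗ chart' k := lift (toUnit _ ≫ η[ThetaS.Gm (PS k)]) (𝟙 _)
  have hπ : (A₁ k).π.left (e.left t) = t := by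
    change (e.left ≫ (snd (ThetaS.Gm (PS k)) (chart' k)).left) t = t
    rw [← Over.comp_left, lift_snd]; rfl
  have hφ : e ≫ (A₁ k).φ = chartIncl k := by
    change e ≫ (ThetaS.Gm (PS k) ◁ chartIncl k) ≫ (ThetaS.stAction (PS k) (ω k)).act = _
    have h1 : e ≫ (ThetaS.Gm (PS k) ◁ chartIncl k) =
        lift (toUnit _) (chartIncl k) ≫ (η[ThetaS.Gm (PS k)] ▷ chart k) := by
      apply CartesianMonoidalCategory.hom_ext <;> simp [e]
    rw [← Category.assoc, h1, Category.assoc, (ThetaS.stAction (PS k) (ω k)).one_act, leftUnitor_hom, lift_snd]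
  have key := mem_img hc (A₁ k) (e.left t)
  rw [hπ] at key
  refine key.trans ?_
  change e.left t ∈ (A₁ k).P.left.basicOpen ((A₁ k).φ.left.appTop (ThetaS.stFn c)) ↔ _
  rw [← Scheme.preimage_basicOpen_top]
  change (e.left ≫ (A₁ k).φ.left) t ∈ (chart k).left.basicOpen (ThetaS.stFn c) ↔ _
  rw [← Over.comp_left, hφ]
  rfl

theorem missesNode_A₁ : ThetaS.MissesNode (A₁ k) := by
  refine top_le_iff.mp fun p _ => ?_
  rcases ((A₁ k).π.left p).2 with h | h
  · exact Or.inl ((mem_img semi_s (A₁ k) p).mp ((mem_img_A₁ semi_s _).mpr h))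
  · exact Or.inr ((mem_img semi_t (A₁ k) p).mp ((mem_img_A₁ semi_t _).mpr h))

def A₁' (k : Type u) [Field k] : (Punc (ω k) (hk k)).obj := ⟨A₁ k, missesNode_A₁⟩

theorem p_map_comp {C : Type*} [Category C] {𝒳 𝒴 : BasedCategory C} (F : 𝒳 ⥤ᵇ 𝒴) {T : C} {y : 𝒴.obj}
    {x x' : 𝒳.obj} (a : y ⟶ F.obj x) (ha : 𝒴.p.IsHomLift (𝟙 T) a) (f : x ⟶ x') :
    𝒴.p.map (a ≫ F.map f) =
      eqToHom ((IsHomLift.domain_eq 𝒴.p (𝟙 T) a).trans
        ((IsHomLift.codomain_eq 𝒴.p (𝟙 T) a).symm.trans (F.w_obj x))) ≫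
        𝒳.p.map f ≫ eqToHom (F.w_obj x').symm := by
  rw [Functor.map_comp, IsHomLift.fac' 𝒴.p (𝟙 T) a, ← Functor.comp_map, Functor.congr_hom F.w f]
  simp

theorem notSComplete (k : Type u) [Field k] :
    ¬ ThetaS.IsSCompleteOver Scheme.fppfPrecoverage (AlgSt.BG Scheme.fppfPrecoverage (Red.Ga (SK k))) := by
  intro hS
  obtain ⟨⟨d⟩, -⟩ := hS (PS k) (ω k) PowerSeries.X_irreducible (hk k) (square (hk k))
  let S₀ := SK k
  let Q := d.fn.obj (A₀ k)
  let D := dat (hk k) (A₁' k)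
  let c : D.obj ⟶ Q := d.isoTop.inv.toNatTrans.app (A₁' k) ≫ d.fn.map (mor k)
  -- the morphism of bases of `c`
  have hwQ : Q.base = (Over.map (hk k)).obj (chart k) := d.fn.w_obj (A₀ k)
  let ε : (Over.map (hk k)).obj (chart k) ⟶ Q.base := eqToHom hwQ.symm
  have hc : c.base = (Over.map (hk k)).map (chartIncl k) ≫ ε := by
    have h := p_map_comp d.fn (x := (A₁' k).obj) (x' := A₀ k) (d.isoTop.inv.toNatTrans.app (A₁' k))
      (d.isoTop.inv.isHomLift' (A₁' k)) (mor k)
    exact h.trans (Category.id_comp _)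
  haveI : IsIso ε.left := (inferInstance : IsIso ((Over.forget _).map ε))
  -- a member of the trivialising covering through the node
  obtain ⟨q, hqp, hcolon⟩ := exists_node k
  let node : (chart k).left := ⟨q, hqp⟩
  obtain ⟨Rc, hR, hsec⟩ := Q.loc
  obtain ⟨_, _, ⟨hg⟩, z, hz⟩ := hR.1 (ε.left node)
  rename_i V g
  obtain ⟨σ, hσ⟩ := hsec _ hg
  haveI : Flat g := (hR.2 hg).1
  obtain ⟨W, hW, hzW, -⟩ := exists_isAffineOpen_mem_and_subset (x := z) (U := ⊤) trivial
  let f : W.toScheme ⟶ (chart k).left := W.ι ≫ g ≫ inv ε.left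
  haveI : IsAffine W.toScheme := hW
  let B' : CommRingCat.{u} := Γ(W.toScheme, ⊤)
  let f' : Spec B' ⟶ Spec (CommRingCat.of (ThetaS.STRing (PS k) (ω k))) := W.toScheme.isoSpec.inv ≫ f
  haveI : Flat f' := by change Flat (W.toScheme.isoSpec.inv ≫ W.ι ≫ g ≫ inv ε.left); infer_instance
  obtain ⟨φ, hφ⟩ : ∃ φ, Spec.map φ = f' := ⟨_, Spec.map_preimage f'⟩
  let z' : Spec B' := W.toScheme.isoSpec.hom ⟨z, hzW⟩
  have hz' : Spec.map φ z' = node := by
    rw [hφ]
    change (W.toScheme.isoSpec.hom ≫ W.toScheme.isoSpec.inv ≫ W.ι ≫ g ≫ inv ε.left) ⟨z, hzW⟩ = node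
    rw [Iso.hom_inv_id_assoc]
    change inv ε.left (g z) = node
    rw [show g z = ε.left node from hz]
    change (ε.left ≫ inv ε.left) node = node
    rw [IsIso.hom_inv_id]; rfl
  letI : Algebra (ThetaS.STRing (PS k) (ω k)) B' := φ.hom.toAlgebra
  haveI : Module.Flat (ThetaS.STRing (PS k) (ω k)) B' := by
    have : Flat (Spec.map φ) := hφ ▸ inferInstance
    exact Flat.SpecMap_iff.mp this
  -- the test scheme
  let U' : (Spec B').Opens := Spec.map φ ⁻¹ᵁ puncOpen k
  let X : Over S₀ := Over.mk (U'.ι ≫ Spec.map φ ≫ (chart k).hom ≫ hk k)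
  let b : X ⟶ D.T := Over.homMk (Spec.map φ ∣_ puncOpen k) (by
    change (Spec.map φ ∣_ puncOpen k) ≫ ((puncOpen k).ι ≫ (chart k).hom) ≫ hk k = _
    simp only [Category.assoc, morphismRestrict_ι_assoc]; rfl)
  have hσ' : (U'.ι ≫ W.toScheme.isoSpec.inv ≫ W.ι ≫ σ) ≫ Q.π.left = (b ≫ c.base).left := by
    rw [hc, Over.comp_left, Over.comp_left]
    change _ = (Spec.map φ ∣_ puncOpen k) ≫ (puncOpen k).ι ≫ ε.left
    rw [morphismRestrict_ι_assoc]
    have hfe : Spec.map φ ≫ ε.left = W.toScheme.isoSpec.inv ≫ W.ι ≫ g :=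
      (congrArg (fun r : Spec B' ⟶ (chart k).left => r ≫ ε.left) hφ).trans (by simp [f', f])
    have hσg : σ ≫ Q.π.left = g := hσ
    simp only [Category.assoc, hσg, U']
    exact congrArg _ hfe.symm
  let s : X ⟶ Q.P := Over.homMk (U'.ι ≫ W.toScheme.isoSpec.inv ≫ W.ι ≫ σ) (by
    rw [← Over.w Q.π, ← Category.assoc, hσ', ← Over.w (b ≫ c.base)])
  let p : X ⟶ D.P := c.cart.lift s b (by ext1; rw [Over.comp_left]; exact hσ')
  have hpb : p ≫ D.proj = b := c.cart.lift_snd _ _ _
  let u := Dat.pu p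
  let w := Dat.pw p
  have hrel : u + u ^ 2 = D.pϖ b * w := hpb ▸ Dat.pt_rel p
  have hgood : Dat.Good b u := hpb ▸ Dat.pt_good p
  let sF : B' := φ (ThetaS.sFn (PS k) (ω k))
  let tF : B' := φ (ThetaS.tFn (PS k) (ω k))
  let πF : B' := φ (algebraMap (PS k) (ThetaS.STRing (PS k) (ω k)) (ω k))
  have hst : πF = sF * tF := by rw [← map_mul, ThetaS.sFn_mul_tFn]
  -- localising at one of the two functions
  have key : ∀ (cF : ThetaS.STRing (PS k) (ω k)) (L : Type u) [CommRing L] (ρ : B' →+* L),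
      IsUnit (ρ (φ cF)) →
      ((chart k).left.basicOpen (ThetaS.stFn cF) ≤ puncOpen k) →
      ∃ m : Spec (CommRingCat.of L) ⟶ X.left,
        m ≫ U'.ι = Spec.map (CommRingCat.ofHom ρ) ∧
        (m ≫ b.left).appTop D.ϖ = (Scheme.ΓSpecIso (CommRingCat.of L)).inv (ρ πF) ∧
        ∀ x, (puncOpen k).ι (b.left (m x)) ∈ (chart k).left.basicOpen (ThetaS.stFn cF) := by
    intro cF L _ ρ hu hle
    have hmem : ∀ x, (Spec.map (CommRingCat.ofHom ρ) ≫ Spec.map φ) x ∈
        (chart k).left.basicOpen (ThetaS.stFn cF) := fun x => by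
      rw [← Spec.map_comp]
      refine (mem_basicOpen_spec cF _).mpr fun hx => ?_
      exact x.isPrime.ne_top (Ideal.eq_top_of_isUnit_mem _ hx hu)
    have hr : Set.range (Spec.map (CommRingCat.ofHom ρ)) ⊆ Set.range U'.ι := by
      rintro _ ⟨x, rfl⟩
      rw [Scheme.Opens.range_ι]
      exact hle (hmem x)
    obtain ⟨m, hm⟩ : ∃ m, m ≫ U'.ι = Spec.map (CommRingCat.ofHom ρ) :=
      ⟨IsOpenImmersion.lift U'.ι _ hr, IsOpenImmersion.lift_fac _ _ _⟩
    refine ⟨m, hm, ?_, fun x => ?_⟩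
    · have e1 : (m ≫ b.left) ≫ (puncOpen k).ι = Spec.map (CommRingCat.ofHom ρ) ≫ Spec.map φ := by
        change (m ≫ (Spec.map φ ∣_ puncOpen k)) ≫ (puncOpen k).ι = _
        rw [Category.assoc, morphismRestrict_ι, ← Category.assoc, hm]
      change (m ≫ b.left).appTop (((puncOpen k).ι ≫ (chart k).hom).appTop (RFn (ω k))) = _
      refine (appTop_comp_apply (m ≫ b.left) ((puncOpen k).ι ≫ (chart k).hom) _).symm.trans ?_
      refine (congrArg (fun r : Spec (CommRingCat.of L) ⟶ Spec (CommRingCat.of (PS k)) => r.appTop (RFn (ω k)))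
        ((Category.assoc _ _ _).symm.trans (congrArg (fun r => r ≫ (chart k).hom) e1))).trans ?_
      rw [appTop_comp_apply, appTop_comp_apply]
      have e2 : (chart k).hom.appTop (RFn (ω k)) =
          (Scheme.ΓSpecIso (CommRingCat.of (ThetaS.STRing (PS k) (ω k)))).inv
            (algebraMap (PS k) _ (ω k)) := specFn _ _
      rw [e2]
      refine (congrArg (fun r => (Spec.map (CommRingCat.ofHom ρ)).appTop r)
        (specFn φ.hom (algebraMap (PS k) (ThetaS.STRing (PS k) (ω k)) (ω k)))).trans ?_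
      exact specFn ρ _
    · change ((m ≫ (Spec.map φ ∣_ puncOpen k)) ≫ (puncOpen k).ι) x ∈ _
      rw [Category.assoc, morphismRestrict_ι, ← Category.assoc, hm]
      exact hmem x
  let Ls := Localization.Away sF
  let Lt := Localization.Away tF
  let Lst := Localization.Away (sF * tF)
  obtain ⟨ms, hms, hmsϖ, hmsA⟩ := key (ThetaS.sFn (PS k) (ω k)) Ls (algebraMap B' Ls)
    (IsLocalization.Away.algebraMap_isUnit sF) le_sup_left
  obtain ⟨mt, hmt, hmtϖ, hmtB⟩ := key (ThetaS.tFn (PS k) (ω k)) Lt (algebraMap B' Lt)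
    (IsLocalization.Away.algebraMap_isUnit tF) le_sup_right
  -- functions on the two pieces
  let us : Ls := (Scheme.ΓSpecIso (CommRingCat.of Ls)).hom (ms.appTop u)
  let ws : Ls := (Scheme.ΓSpecIso (CommRingCat.of Ls)).hom (ms.appTop w)
  let ut : Lt := (Scheme.ΓSpecIso (CommRingCat.of Lt)).hom (mt.appTop u)
  let wt : Lt := (Scheme.ΓSpecIso (CommRingCat.of Lt)).hom (mt.appTop w)
  have inv_hom : ∀ {L : Type u} [CommRing L] (v : Γ(Spec (CommRingCat.of L), ⊤)),
      (Scheme.ΓSpecIso (CommRingCat.of L)).inv ((Scheme.ΓSpecIso (CommRingCat.of L)).hom v) = v := fun v => by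
    change ((Scheme.ΓSpecIso _).hom ≫ (Scheme.ΓSpecIso _).inv) v = v
    rw [Iso.hom_inv_id]; rfl
  have hom_inv : ∀ {L : Type u} [CommRing L] (v : (CommRingCat.of L : CommRingCat.{u})),
      (Scheme.ΓSpecIso (CommRingCat.of L)).hom ((Scheme.ΓSpecIso (CommRingCat.of L)).inv v) = v := fun v => by
    change ((Scheme.ΓSpecIso _).inv ≫ (Scheme.ΓSpecIso _).hom) v = v
    rw [Iso.inv_hom_id]; rfl
  have relOn : ∀ {L : Type u} [CommRing L] (m : Spec (CommRingCat.of L) ⟶ X.left) (pL : L),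
      (m ≫ b.left).appTop D.ϖ = (Scheme.ΓSpecIso (CommRingCat.of L)).inv pL →
      (Scheme.ΓSpecIso (CommRingCat.of L)).hom (m.appTop u) + (Scheme.ΓSpecIso (CommRingCat.of L)).hom (m.appTop u) ^ 2
        = pL * (Scheme.ΓSpecIso (CommRingCat.of L)).hom (m.appTop w) := by
    intro L _ m pL hpL
    have h := congrArg (fun v => (Scheme.ΓSpecIso (CommRingCat.of L)).hom (m.appTop v)) hrel
    simp only [map_add, map_pow, map_mul] at h
    rw [h]
    congr 1
    change (Scheme.ΓSpecIso (CommRingCat.of L)).hom (m.appTop (b.left.appTop D.ϖ)) = pL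
    rw [← appTop_comp_apply, hpL, hom_inv]
  have primeOn : ∀ {L : Type u} [CommRing L] (m : Spec (CommRingCat.of L) ⟶ X.left) (pL : L),
      (m ≫ b.left).appTop D.ϖ = (Scheme.ΓSpecIso (CommRingCat.of L)).inv pL →
      ∀ x : Spec (CommRingCat.of L), pL ∈ x.asIdeal →
      ev (m x) (D.pϖ b) = 0 := by
    intro L _ m pL hpL x hx
    rw [← ev_appTop_eq_zero]
    change ev x (m.appTop (b.left.appTop D.ϖ)) = 0
    rw [← appTop_comp_apply, hpL, ev_eq_zero, mem_basicOpen_spec, not_not]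
    exact hx
  have toIdeal : ∀ {L : Type u} [CommRing L] (m : Spec (CommRingCat.of L) ⟶ X.left) (v : Γ(X.left, ⊤))
      (x : Spec (CommRingCat.of L)), ev (m x) v = 0 →
      (Scheme.ΓSpecIso (CommRingCat.of L)).hom (m.appTop v) ∈ x.asIdeal := by
    intro L _ m v x hx
    rw [← ev_appTop_eq_zero, ← inv_hom (m.appTop v), ev_eq_zero, mem_basicOpen_spec, not_not] at hx
    exact hx
  obtain ⟨xs, hxs⟩ : ∃ xs, us = algebraMap B' Ls πF * xs :=
    exists_quot _ us ws (relOn ms _ hmsϖ) fun P hP hpP => by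
      refine toIdeal ms u ⟨P, hP⟩ ?_
      exact (hgood _ (primeOn ms _ hmsϖ ⟨P, hP⟩ hpP)).1 ((mem_img_A₁ semi_s _).mpr (hmsA _))
  obtain ⟨yt, hyt⟩ : ∃ yt, -(1 + ut) = algebraMap B' Lt πF * yt :=
    exists_quot _ (-(1 + ut)) wt (by linear_combination relOn mt _ hmtϖ) fun P hP hpP => by
      have h0 := toIdeal mt (1 + u) ⟨P, hP⟩ (by
        rw [map_add, map_one, (hgood _ (primeOn mt _ hmtϖ ⟨P, hP⟩ hpP)).2 ((mem_img_A₁ semi_t _).mpr (hmtB _))]
        ring)
      simp only [map_add, map_one] at h0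
      exact P.neg_mem h0
  -- glue on the intersection
  have hstu := IsLocalization.Away.algebraMap_isUnit (S := Lst) (sF * tF)
  rw [map_mul, IsUnit.mul_iff] at hstu
  have hsu : IsUnit (algebraMap B' Lst sF) := hstu.1
  have htu : IsUnit (algebraMap B' Lst tF) := hstu.2
  let φs : Ls →+* Lst := IsLocalization.Away.lift sF hsu
  let φt : Lt →+* Lst := IsLocalization.Away.lift tF htu
  have hφs : φs.comp (algebraMap B' Ls) = algebraMap B' Lst := IsLocalization.Away.lift_comp sF hsu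
  have hφt : φt.comp (algebraMap B' Lt) = algebraMap B' Lst := IsLocalization.Away.lift_comp tF htu
  have hcomm : Spec.map (CommRingCat.ofHom φs) ≫ ms = Spec.map (CommRingCat.ofHom φt) ≫ mt := by
    rw [← cancel_mono U'.ι, Category.assoc, Category.assoc, hms, hmt, ← Spec.map_comp, ← Spec.map_comp,
      ← CommRingCat.ofHom_comp, ← CommRingCat.ofHom_comp, hφs, hφt]
  have hu : φs us = φt ut := by
    have h := congrArg (fun m : Spec (CommRingCat.of Lst) ⟶ X.left =>
      (Scheme.ΓSpecIso (CommRingCat.of Lst)).hom (m.appTop u)) hcomm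
    simp only [appTop_comp_apply] at h
    rw [← inv_hom (ms.appTop u), ← inv_hom (mt.appTop u)] at h
    erw [specFn, specFn, hom_inv, hom_inv] at h
    exact h
  have hone : algebraMap B' Lst (sF * tF) * (φt (-yt) - φs xs) = 1 := by
    have e1 : φs us = algebraMap B' Lst (sF * tF) * φs xs := by
      rw [hxs, map_mul, ← RingHom.comp_apply, hφs, hst]
    have e2 : φt (-(1 + ut)) = algebraMap B' Lst (sF * tF) * φt yt := by
      rw [hyt, map_mul, ← RingHom.comp_apply, hφt, hst]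
    rw [map_neg, map_add, map_one] at e2
    rw [map_neg]
    linear_combination e1 + e2 - hu
  obtain ⟨n, a', b', hab⟩ := BGaObstruction.exists_relation sF tF xs (-yt) φs φt hφs hφt hone
  refine BGaObstruction.false_of_flat ((ThetaS.sFn (PS k) (ω k) * ThetaS.tFn (PS k) (ω k)) ^ n)
    (ThetaS.sFn (PS k) (ω k) ^ (n + 1)) (ThetaS.tFn (PS k) (ω k) ^ (n + 1)) q z'.asIdeal z'.isPrime.ne_top
    (fun r hr => ?_) (hcolon n) a' b' ?_
  · have : (Spec.map φ z').asIdeal = q := congrArg PrimeSpectrum.asIdeal hz'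
    rw [← this] at hr
    exact hr
  · simp only [RingHom.algebraMap_toAlgebra, map_pow, map_mul]
    exact hab

end Groth.Agent.Lib.BGaNotS
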