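import Groth.Agent.Lib.BGaTorsor
import Groth.Prelude.Def_ThetaS

/-! The functor `ST_R ∖ 0 ⥤ B G_a` attached to the cocycle `1/π`. -/

set_option autoImplicit false
set_option backward.isDefEq.respectTransparency false
set_option backward.isDefEq.respectTransparency.types false
set_option synthInstance.maxHeartbeats 100000
set_option maxHeartbeats 800000

universe u

open CategoryTheory CategoryTheory.Limits MonoidalCategory CartesianMonoidalCategory MonObj AlgebraicGeometry Opposite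
open scoped TensorProduct

noncomputable section

namespace Groth.Agent.Lib.BGaPunc

open GaPts (appTop_comp_apply)
open BGaTorsor

instance fppf_hasIsos : Scheme.fppfPrecoverage.{u}.HasIsos :=
  ⟨fun f _ => Scheme.zariskiPrecoverage_le_fppfPrecoverage _ (Precoverage.mem_coverings_of_isIso f)⟩

variable {R : Type u} [CommRing R] {π : R}

theorem specFn {B C : Type u} [CommRing B] [CommRing C] (f : B →+* C) (c : B) :
    (Spec.map (CommRingCat.ofHom f)).appTop ((Scheme.ΓSpecIso (CommRingCat.of B)).inv c) =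
      (Scheme.ΓSpecIso (CommRingCat.of C)).inv (f c) := by
  have h := congrArg (fun ψ => (ConcreteCategory.hom ψ) c) (Scheme.ΓSpecIso_inv_naturality (CommRingCat.ofHom f))
  exact h.symm

theorem act_fn_unit {A B : Type u} [CommRing A] [CommRing B] [HopfAlgebra R A] [Algebra R B]
    [HopfRep.Comod R A B] [GLin.IsCoactAlg R A B] (b : B) (a : A) (ha : IsUnit a)
    (hc : GLin.coactAlgHom R A B b = b ⊗ₜ[R] a) :
    ∃ v, IsUnit v ∧ (CoactBr.action R A B).act.left.appTop ((Scheme.ΓSpecIso (CommRingCat.of B)).inv b) =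
      (snd (CoactBr.sp R A) (CoactBr.sp R B)).left.appTop ((Scheme.ΓSpecIso (CommRingCat.of B)).inv b) * v := by
  let CC : Type u := B ⊗[R] A
  let iL : B →+* CC := Algebra.TensorProduct.includeLeftRingHom
  let iR : A →+* CC := ((Algebra.TensorProduct.includeRight (R := R) (A := B) (B := A) : A →ₐ[R] CC) : A →+* CC)
  let psi := pullbackSpecIso R B A
  obtain ⟨psiH, hψ⟩ : ∃ m : (CoactBr.sp R B ⊗ CoactBr.sp R A).left ⟶ Spec (CommRingCat.of CC), m = psi.hom :=
    ⟨psi.hom, rfl⟩
  have hract : (CoactBr.ract R A B).left =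
      psiH ≫ Spec.map (CommRingCat.ofHom (R := B) (S := CC) (GLin.coactAlgHom R A B).toRingHom) := by
    rw [hψ]; exact CoactBr.ract_left R A B
  have hfst : (fst (CoactBr.sp R B) (CoactBr.sp R A)).left =
      psiH ≫ Spec.map (CommRingCat.ofHom (R := B) (S := CC) iL) := by
    rw [hψ]
    change _ = psi.hom ≫ _
    rw [← pullbackSpecIso_inv_fst, Iso.hom_inv_id_assoc]
    exact Over.fst_left
  have hr : (CoactBr.ract R A B).left.appTop ((Scheme.ΓSpecIso (CommRingCat.of B)).inv b) =
      (fst (CoactBr.sp R B) (CoactBr.sp R A)).left.appTop ((Scheme.ΓSpecIso (CommRingCat.of B)).inv b) *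
        psiH.appTop ((Scheme.ΓSpecIso (CommRingCat.of CC)).inv (iR a)) := by
    rw [hfst, hract, appTop_comp_apply, appTop_comp_apply]
    refine (congrArg (fun z => psiH.appTop z) (specFn (GLin.coactAlgHom R A B).toRingHom b)).trans ?_
    refine Eq.trans ?_ (congrArg (fun z => psiH.appTop z * psiH.appTop ((Scheme.ΓSpecIso (CommRingCat.of CC)).inv (iR a)))
      (specFn iL b)).symm
    change psiH.appTop _ = psiH.appTop _ * psiH.appTop _
    rw [← map_mul, ← map_mul]
    congr 2
    change GLin.coactAlgHom R A B b = (b ⊗ₜ[R] (1 : A)) * ((1 : B) ⊗ₜ[R] a)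
    rw [hc, Algebra.TensorProduct.tmul_mul_tmul, _root_.mul_one, _root_.one_mul]
  refine ⟨((β_ (CoactBr.sp R A) (CoactBr.sp R B)).hom ≫ (CoactBr.sp R B ◁ GrpObj.inv)).left.appTop
      (psiH.appTop ((Scheme.ΓSpecIso (CommRingCat.of CC)).inv (iR a))),
    ((((ha.map iR).map (Scheme.ΓSpecIso (CommRingCat.of CC)).inv.hom).map psiH.appTop.hom).map _), ?_⟩
  rw [CoactBr.action_act, CoactBr.leftOfRight, ← Category.assoc, Over.comp_left, appTop_comp_apply, hr, map_mul]
  congr 1
  rw [← appTop_comp_apply, ← Over.comp_left, Category.assoc, whiskerLeft_fst, braiding_hom_fst]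

/-- a function on the chart of `ST_R` which is multiplied by units under the group -/
def Semi (c : ThetaS.STRing R π) : Prop :=
  ∃ v, IsUnit v ∧ (ThetaS.stAction R π).act.left.appTop (ThetaS.stFn c) =
    (snd (ThetaS.Gm R) (ThetaS.STSch R π)).left.appTop (ThetaS.stFn c) * v

theorem semi_s : Semi (ThetaS.sFn R π) := by
  letI := ThetaS.stComod R π
  haveI := ThetaS.st_isCoactAlg R π
  unfold Semi
  rw [ThetaS.stAction_eq]
  refine act_fn_unit _ (ThetaS.zPow R (-1)) (IsUnit.of_mul_eq_one (ThetaS.zPow R 1) (by rw [ThetaS.zPow_mul]; rfl)) ?_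
  exact ThetaS.stCoactPoly_X_zero R π

theorem semi_t : Semi (ThetaS.tFn R π) := by
  letI := ThetaS.stComod R π
  haveI := ThetaS.st_isCoactAlg R π
  unfold Semi
  rw [ThetaS.stAction_eq]
  refine act_fn_unit _ (ThetaS.zPow R 1) (IsUnit.of_mul_eq_one (ThetaS.zPow R (-1)) (by rw [ThetaS.zPow_mul]; rfl)) ?_
  exact ThetaS.stCoactPoly_X_one R π

abbrev STR' (π : R) := ThetaS.STR Scheme.fppfPrecoverage R π

/-- the locus of the torsor where the pull-back of `c` is invertible -/
abbrev loc' (c : ThetaS.STRing R π) (A : (STR' π).obj) : A.P.left.Opens :=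
  A.P.left.basicOpen (A.φ.left.appTop (ThetaS.stFn c))

theorem preimage_act {c : ThetaS.STRing R π} (hc : Semi c) (A : (STR' π).obj) :
    A.act.act.left ⁻¹ᵁ loc' c A = (snd (ThetaS.Gm R) A.P).left ⁻¹ᵁ loc' c A := by
  obtain ⟨v, hv, hcv⟩ := hc
  rw [Scheme.preimage_basicOpen_top, Scheme.preimage_basicOpen_top]
  have h : A.act.act.left.appTop (A.φ.left.appTop (ThetaS.stFn c)) =
      (snd (ThetaS.Gm R) A.P).left.appTop (A.φ.left.appTop (ThetaS.stFn c)) *
        (ThetaS.Gm R ◁ A.φ).left.appTop v := by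
    rw [← appTop_comp_apply, ← Over.comp_left, A.eqv, Over.comp_left, appTop_comp_apply, hcv, map_mul,
      ← appTop_comp_apply, ← Over.comp_left, whiskerLeft_snd, Over.comp_left, appTop_comp_apply]
  rw [h, Scheme.basicOpen_mul, Scheme.basicOpen_of_isUnit _ (hv.map _), inf_top_eq]

theorem isPullback_left {A B C D : Over (Spec (CommRingCat.of R))} {f : A ⟶ B} {g : A ⟶ C} {h : B ⟶ D} {i : C ⟶ D}
    (sq : IsPullback f g h i) : IsPullback f.left g.left h.left i.left := sq.map (Over.forget _)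

theorem saturated {c : ThetaS.STRing R π} (hc : Semi c) (A : (STR' π).obj) {p p' : A.P.left}
    (h : A.π.left p = A.π.left p') (hp : p ∈ loc' c A) : p' ∈ loc' c A := by
  obtain ⟨z, hz1, hz2⟩ := Scheme.exists_preimage_of_isPullback (isPullback_left A.cart) p p' h
  have : z ∈ A.act.act.left ⁻¹ᵁ loc' c A := by change A.act.act.left z ∈ loc' c A; exact hz1 ▸ hp
  rw [preimage_act hc] at this
  exact hz2 ▸ this

theorem exists_local_section (A : (STR' π).obj) (y : A.base.left) :
    ∃ (V : Scheme.{u}) (f : V ⟶ A.base.left) (σ : V ⟶ A.P.left),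
      IsOpenMap f ∧ σ ≫ A.π.left = f ∧ y ∈ Set.range f := by
  obtain ⟨Rc, hR, hsec⟩ := A.loc
  obtain ⟨_, _, ⟨hg⟩, hy⟩ := hR.1 y
  obtain ⟨σ, hσ⟩ := hsec _ hg
  have hP := hR.2 hg
  haveI := hP.1
  haveI := hP.2
  exact ⟨_, _, σ, Scheme.Hom.isOpenMap _, hσ, hy⟩

/-- the image in the base of an invariant locus -/
def img (c : ThetaS.STRing R π) (hc : Semi c) (A : (STR' π).obj) : A.base.left.Opens :=
  ⟨A.π.left '' loc' c A, by
    rw [isOpen_iff_forall_mem_open]
    rintro _ ⟨p, hp, rfl⟩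
    obtain ⟨V, f, σ, hf, hσ, z, hz⟩ := exists_local_section A (A.π.left p)
    have hπ : A.π.left (σ z) = A.π.left p := by rw [← hz, ← hσ]; rfl
    refine ⟨f '' (σ ⁻¹ᵁ loc' c A : V.Opens), ?_, hf _ (σ ⁻¹ᵁ loc' c A).isOpen, z, saturated hc A hπ.symm hp, hz⟩
    rintro _ ⟨w, hw, rfl⟩
    exact ⟨σ w, hw, by rw [← hσ]; rfl⟩⟩

theorem mem_img {c : ThetaS.STRing R π} (hc : Semi c) (A : (STR' π).obj) (p : A.P.left) :
    A.π.left p ∈ img c hc A ↔ p ∈ loc' c A :=
  ⟨fun ⟨_, hp', h⟩ => saturated hc A h hp', fun hp => ⟨p, hp, rfl⟩⟩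

theorem img_preimage {c : ThetaS.STRing R π} (hc : Semi c) {A' A : (STR' π).obj} (f : A' ⟶ A) (t : A'.base.left) :
    f.base.left t ∈ img c hc A ↔ t ∈ img c hc A' := by
  have hφ : A'.φ.left = f.top.left ≫ A.φ.left := by rw [← Over.comp_left, f.wφ]
  have hloc : ∀ q : A'.P.left, q ∈ loc' c A' ↔ f.top.left q ∈ loc' c A := fun q => by
    rw [loc', hφ, appTop_comp_apply, ← Scheme.preimage_basicOpen_top]; rfl
  constructor
  · rintro ⟨p, hp, hpt⟩
    obtain ⟨q, hq1, hq2⟩ := Scheme.exists_preimage_of_isPullback (isPullback_left f.cart) p t hpt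
    exact ⟨q, (hloc q).mpr (hq1 ▸ hp), hq2⟩
  · rintro ⟨q, hq, rfl⟩
    refine ⟨f.top.left q, (hloc q).mp hq, ?_⟩
    have := congrArg (fun m : A'.P ⟶ A.base => m.left q) f.cart.w
    exact this

section Fun

variable {S : Scheme.{u}} (h : Spec (CommRingCat.of R) ⟶ S)

variable (π) in
abbrev Punc := ThetaS.stPunc Scheme.fppfPrecoverage R π h

/-- the data attached to an object of `ST_R ∖ 0` -/
def dat (A : (Punc π h).obj) : Dat (S := S) R π where
  T := (Over.map h).obj A.obj.base
  g := A.obj.base.hom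
  A := img (ThetaS.sFn R π) semi_s A.obj
  B := img (ThetaS.tFn R π) semi_t A.obj
  cov t := by
    obtain ⟨V, f, σ, -, hσ, z, hz⟩ := exists_local_section A.obj t
    have ht : A.obj.π.left (σ z) = t := by rw [← hz, ← hσ]; rfl
    have hm : σ z ∈ (loc' (ThetaS.sFn R π) A.obj ⊔ loc' (ThetaS.tFn R π) A.obj : A.obj.P.left.Opens) := by
      have := A.property
      rw [show (loc' (ThetaS.sFn R π) A.obj ⊔ loc' (ThetaS.tFn R π) A.obj : A.obj.P.left.Opens) = ⊤ from this]
      trivial
    rcases hm with h | h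
    · exact Or.inl ⟨σ z, h, ht⟩
    · exact Or.inr ⟨σ z, h, ht⟩
  inter t := by
    rintro ⟨p, hp, hpt⟩ ⟨q, hq, hqt⟩
    have hp' : p ∈ loc' (ThetaS.tFn R π) A.obj := saturated semi_t A.obj (hqt.trans hpt.symm) hq
    have hmul : p ∈ loc' (ThetaS.sFn R π * ThetaS.tFn R π) A.obj := by
      simp only [loc', ThetaS.stFn, map_mul, Scheme.basicOpen_mul]
      exact ⟨hp, hp'⟩
    have e : A.obj.φ.left.appTop (ThetaS.stFn (ThetaS.sFn R π * ThetaS.tFn R π)) =
        A.obj.π.left.appTop (A.obj.base.hom.appTop (RFn π)) := by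
      rw [← appTop_comp_apply, Over.w, ← Over.w A.obj.φ, appTop_comp_apply, ThetaS.sFn_mul_tFn]
      congr 1
      exact (specFn _ π).symm
    rw [loc', e, ← Scheme.preimage_basicOpen_top] at hmul
    exact hpt ▸ hmul

/-- the morphism of data attached to a morphism -/
def datHom {A' A : (Punc π h).obj} (f : A' ⟶ A) : DatHom (dat h A') (dat h A) where
  f := (Over.map h).map f.hom.base
  g_comm := Over.w f.hom.base
  preA := img_preimage semi_s f.hom
  preB := img_preimage semi_t f.hom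

/-- the functor `ST_R ∖ 0 ⥤ B G_a` -/
def puncFun : Punc π h ⥤ᵇ AlgSt.BG Scheme.fppfPrecoverage (Red.Ga S) where
  toFunctor :=
    { obj := fun A => (dat h A).obj
      map := fun f => (datHom h f).hom
      map_id := fun A => DatHom.hom_id _ ((Over.map h).map_id A.obj.base)
      map_comp := fun f g => DatHom.hom_comp _ _ _ ((Over.map h).map_comp f.hom.base g.hom.base) }
  w := rfl

theorem based_ext {C : Type*} [Category C] {𝒳 𝒴 : BasedCategory C} {F G : 𝒳 ⥤ᵇ 𝒴}
    (e : F.toFunctor = G.toFunctor) : F = G := by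
  cases F; cases G; simp only at e; subst e; rfl

/-- the square -/
def square : LiftSq.Sq (ThetaS.stIncl Scheme.fppfPrecoverage R π h)
    (FibCat.toSelf (AlgSt.BG Scheme.fppfPrecoverage (Red.Ga S))) where
  top := puncFun h
  bot := FibCat.toSelf _
  iso := eqToIso (based_ext rfl)

end Fun

end Groth.Agent.Lib.BGaPunc
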