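import Groth.Agent.Lib.GaPts
import Groth.Prelude.Def_AlgSt5
import Mathlib

/-! A torsor of the additive group on a scheme covered by two opens meeting inside `D(ϖ)`:
the one glued along the cocycle `1/ϖ`, written inside `u + u² = ϖ w`. -/

set_option autoImplicit false
set_option backward.isDefEq.respectTransparency false
set_option backward.isDefEq.respectTransparency.types false
set_option synthInstance.maxHeartbeats 100000
set_option maxHeartbeats 800000

universe u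

open CategoryTheory CategoryTheory.Limits MonoidalCategory CartesianMonoidalCategory MonObj AlgebraicGeometry Opposite

noncomputable section

namespace Groth.Agent.Lib.BGaTorsor

open GaPts (appTop_comp_apply)

section Gen

variable {X : Scheme.{u}}

abbrev ev (x : X) : Γ(X, ⊤) →+* X.residueField x := (X.evaluation ⊤ x trivial).hom

theorem ev_ne_zero {x : X} {f : Γ(X, ⊤)} : ev x f ≠ 0 ↔ x ∈ X.basicOpen f :=
  X.evaluation_ne_zero_iff_mem_basicOpen x (show x ∈ (⊤ : X.Opens) from trivial) f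

theorem ev_eq_zero {x : X} {f : Γ(X, ⊤)} : ev x f = 0 ↔ x ∉ X.basicOpen f :=
  not_iff_not.mp (by rw [not_not]; exact ev_ne_zero)

theorem ev_appTop_eq_zero {Y : Scheme.{u}} (m : Y ⟶ X) (y : Y) (f : Γ(X, ⊤)) :
    ev y (m.appTop f) = 0 ↔ ev (m y) f = 0 := by
  rw [ev_eq_zero, ev_eq_zero, ← Scheme.preimage_basicOpen_top]; rfl

/-- sheaf gluing for `a f = r`, `a g = s` when `D(f)`, `D(g)` cover -/
theorem existsUnique_div (f g r s : Γ(X, ⊤)) (hc : ∀ x : X, x ∈ X.basicOpen f ∨ x ∈ X.basicOpen g)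
    (hrs : r * g = s * f) : ∃! a : Γ(X, ⊤), a * f = r ∧ a * g = s := by
  let U₁ : X.Opens := X.basicOpen f
  let U₂ : X.Opens := X.basicOpen g
  let ρ₁ : Γ(X, ⊤) →+* Γ(X, U₁) := (X.presheaf.map (homOfLE le_top).op).hom
  let ρ₂ : Γ(X, ⊤) →+* Γ(X, U₂) := (X.presheaf.map (homOfLE le_top).op).hom
  have hf : IsUnit (ρ₁ f) := X.toRingedSpace.isUnit_res_basicOpen f
  have hg : IsUnit (ρ₂ g) := X.toRingedSpace.isUnit_res_basicOpen g
  have hcov : (⊤ : X.Opens) ≤ U₁ ⊔ U₂ := fun x _ => hc x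
  obtain ⟨i₁, hi₁⟩ := hf.exists_right_inv
  obtain ⟨i₂, hi₂⟩ := hg.exists_right_inv
  let U : Bool → X.Opens := fun b => cond b U₁ U₂
  let sf : ∀ b, Γ(X, U b) := fun b => Bool.rec (ρ₂ s * i₂) (ρ₁ r * i₁) b
  have hcompat : ∀ (V : X.Opens) (h₁ : V ≤ U₁) (h₂ : V ≤ U₂),
      X.presheaf.map (homOfLE h₁).op (ρ₁ r * i₁) = X.presheaf.map (homOfLE h₂).op (ρ₂ s * i₂) := by
    intro V h₁ h₂
    let σ₁ := (X.presheaf.map (homOfLE h₁).op).hom
    let σ₂ := (X.presheaf.map (homOfLE h₂).op).hom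
    let ρ := (X.presheaf.map (homOfLE (le_top : V ≤ ⊤)).op).hom
    have e₁ : ∀ z, σ₁ (ρ₁ z) = ρ z := fun z => by
      change (X.presheaf.map _ ≫ X.presheaf.map _) z = _; rw [← Functor.map_comp]; rfl
    have e₂ : ∀ z, σ₂ (ρ₂ z) = ρ z := fun z => by
      change (X.presheaf.map _ ≫ X.presheaf.map _) z = _; rw [← Functor.map_comp]; rfl
    have a₁ : ρ f * σ₁ i₁ = 1 := by rw [← e₁, ← map_mul, hi₁, map_one]
    have a₂ : ρ g * σ₂ i₂ = 1 := by rw [← e₂, ← map_mul, hi₂, map_one]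
    have hh : ρ r * ρ g = ρ s * ρ f := by rw [← map_mul, hrs, map_mul]
    change σ₁ (ρ₁ r * i₁) = σ₂ (ρ₂ s * i₂)
    rw [map_mul, map_mul, e₁, e₂]
    linear_combination (σ₁ i₁ * σ₂ i₂) * hh + (ρ s * σ₂ i₂) * a₁ - (ρ r * σ₁ i₁) * a₂
  have hsup : (⊤ : X.Opens) ≤ iSup U := fun x _ => by
    rcases hc x with h | h
    · exact TopologicalSpace.Opens.mem_iSup.mpr ⟨true, h⟩
    · exact TopologicalSpace.Opens.mem_iSup.mpr ⟨false, h⟩
  have hcomp : TopCat.Presheaf.IsCompatible X.presheaf U sf := by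
    intro b b'
    cases b <;> cases b'
    · rfl
    · exact (hcompat _ inf_le_right inf_le_left).symm
    · exact hcompat _ inf_le_left inf_le_right
    · rfl
  obtain ⟨a, ha, -⟩ := X.sheaf.existsUnique_gluing' U ⊤ (fun b => homOfLE le_top) hsup sf hcomp
  have ha₁ : ρ₁ a = ρ₁ r * i₁ := ha true
  have ha₂ : ρ₂ a = ρ₂ s * i₂ := ha false
  have ext₂ : ∀ z z' : Γ(X, ⊤), ρ₁ z = ρ₁ z' → ρ₂ z = ρ₂ z' → z = z' := fun z z' h h' =>
    X.sheaf.eq_of_locally_eq₂ (homOfLE le_top) (homOfLE le_top) hcov z z' h h'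
  have hrs₁ : ρ₁ r * ρ₁ g = ρ₁ s * ρ₁ f := by rw [← map_mul, hrs, map_mul]
  have hrs₂ : ρ₂ r * ρ₂ g = ρ₂ s * ρ₂ f := by rw [← map_mul, hrs, map_mul]
  refine ⟨a, ⟨ext₂ _ _ ?_ ?_, ext₂ _ _ ?_ ?_⟩, ?_⟩
  · rw [map_mul, ha₁]; linear_combination (ρ₁ r) * hi₁
  · rw [map_mul, ha₂]; linear_combination -i₂ * hrs₂ + (ρ₂ r) * hi₂
  · rw [map_mul, ha₁]; linear_combination i₁ * hrs₁ + (ρ₁ s) * hi₁
  · rw [map_mul, ha₂]; linear_combination (ρ₂ s) * hi₂
  · rintro z ⟨z₁, z₂⟩
    refine ext₂ _ _ ?_ ?_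
    · rw [ha₁]
      have hz : ρ₁ z * ρ₁ f = ρ₁ r := by rw [← map_mul, z₁]
      linear_combination i₁ * hz - (ρ₁ z) * hi₁
    · rw [ha₂]
      have hz : ρ₂ z * ρ₂ g = ρ₂ s := by rw [← map_mul, z₂]
      linear_combination i₂ * hz - (ρ₂ z) * hi₂

end Gen

theorem mul_act_of_points {C : Type*} [Category C] [CartesianMonoidalCategory C] {G P : C} [GrpObj G]
    (a : G ⊗ P ⟶ P)
    (h : ∀ {X : C} (g g' : X ⟶ G) (p : X ⟶ P), lift g (lift g' p ≫ a) ≫ a = lift (g * g') p ≫ a) :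
    (μ[G] ▷ P) ≫ a = (α_ G G P).hom ≫ (G ◁ a) ≫ a := by
  have h' := h (fst (G ⊗ G) P ≫ fst G G) (fst (G ⊗ G) P ≫ snd G G) (snd (G ⊗ G) P)
  have hμ : fst (G ⊗ G) P ≫ μ[G] = (fst _ _ ≫ fst G G) * (fst _ _ ≫ snd G G) := by
    rw [Hom.mul_def, ← comp_lift, lift_fst_snd, Category.comp_id]
  have e1 : lift (fst (G ⊗ G) P ≫ fst G G) (lift (fst (G ⊗ G) P ≫ snd G G) (snd (G ⊗ G) P) ≫ a) =
      (α_ G G P).hom ≫ (G ◁ a) := by
    apply CartesianMonoidalCategory.hom_ext
    · simp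
    · rw [lift_snd, Category.assoc, whiskerLeft_snd, ← Category.assoc]
      congr 1
      apply CartesianMonoidalCategory.hom_ext <;> simp
  have e2 : lift ((fst (G ⊗ G) P ≫ fst G G) * (fst _ _ ≫ snd G G)) (snd (G ⊗ G) P) = μ[G] ▷ P := by
    apply CartesianMonoidalCategory.hom_ext
    · rw [lift_fst, whiskerRight_fst, hμ]
    · simp
  rw [e1, e2] at h'
  rw [← Category.assoc]
  exact h'.symm

variable {S : Scheme.{u}} (R : Type u) [CommRing R] (π : R)

/-- the data: a scheme over `S` and `Spec R` covered by two opens meeting inside `D(π)` -/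
structure Dat where
  T : Over S
  g : T.left ⟶ Spec (CommRingCat.of R)
  A : T.left.Opens
  B : T.left.Opens
  cov : ∀ t : T.left, t ∈ A ∨ t ∈ B
  inter : ∀ t : T.left, t ∈ A → t ∈ B →
    t ∈ T.left.basicOpen (g.appTop ((Scheme.ΓSpecIso (CommRingCat.of R)).inv π))

abbrev ERing : Type u :=
  MvPolynomial (Fin 2) R ⧸
    Ideal.span {(MvPolynomial.X 0 + MvPolynomial.X 0 ^ 2 - MvPolynomial.C π * MvPolynomial.X 1 : MvPolynomial (Fin 2) R)}

abbrev eMap : R →+* ERing R π := (Ideal.Quotient.mk _).comp MvPolynomial.C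

abbrev eStr : Spec (CommRingCat.of (ERing R π)) ⟶ Spec (CommRingCat.of R) :=
  Spec.map (CommRingCat.ofHom (eMap R π))

abbrev U0 : ERing R π := Ideal.Quotient.mk _ (MvPolynomial.X 0)
abbrev W0 : ERing R π := Ideal.Quotient.mk _ (MvPolynomial.X 1)

theorem rel0 : U0 R π + U0 R π ^ 2 = eMap R π π * W0 R π := by
  rw [RingHom.comp_apply, ← map_mul, ← map_pow, ← map_add]
  exact (Ideal.Quotient.mk_eq_mk_iff_sub_mem _ _).mpr (Ideal.subset_span rfl)

variable {R π}

abbrev EFn (c : ERing R π) : Γ(Spec (CommRingCat.of (ERing R π)), ⊤) :=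
  (Scheme.ΓSpecIso (CommRingCat.of (ERing R π))).inv c

abbrev RFn (c : R) : Γ(Spec (CommRingCat.of R), ⊤) := (Scheme.ΓSpecIso (CommRingCat.of R)).inv c

theorem eStr_RFn (c : R) : (eStr R π).appTop (RFn c) = EFn (eMap R π c) := by
  have h := congrArg (fun ψ => (ConcreteCategory.hom ψ) c)
    (Scheme.ΓSpecIso_inv_naturality (CommRingCat.ofHom (eMap R π)))
  exact h.symm

variable (D : Dat (S := S) R π)

namespace Dat

abbrev ϖ : Γ(D.T.left, ⊤) := D.g.appTop (RFn π)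

abbrev amb : Scheme.{u} := pullback (eStr R π) D.g
abbrev p1 : D.amb ⟶ Spec (CommRingCat.of (ERing R π)) := pullback.fst _ _
abbrev p2 : D.amb ⟶ D.T.left := pullback.snd _ _
abbrev ambϖ : Γ(D.amb, ⊤) := D.p2.appTop D.ϖ
abbrev ambU : Γ(D.amb, ⊤) := D.p1.appTop (EFn (U0 R π))

def W : D.amb.Opens :=
  ((D.amb.basicOpen D.ambϖ ⊔ D.amb.basicOpen (1 + D.ambU)) ⊓ D.p2 ⁻¹ᵁ D.A) ⊔
    ((D.amb.basicOpen D.ambϖ ⊔ D.amb.basicOpen D.ambU) ⊓ D.p2 ⁻¹ᵁ D.B)

def P : Over S := Over.mk (D.W.ι ≫ D.p2 ≫ D.T.hom)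

def proj : D.P ⟶ D.T := Over.homMk (D.W.ι ≫ D.p2) (by simp [P])

variable {D}

def pu {X : Over S} (p : X ⟶ D.P) : Γ(X.left, ⊤) := (p.left ≫ D.W.ι ≫ D.p1).appTop (EFn (U0 R π))
def pw {X : Over S} (p : X ⟶ D.P) : Γ(X.left, ⊤) := (p.left ≫ D.W.ι ≫ D.p1).appTop (EFn (W0 R π))

variable (D) in
abbrev pϖ {X : Over S} (b : X ⟶ D.T) : Γ(X.left, ⊤) := b.left.appTop D.ϖ

/-- the condition to land in `W` -/
def Good {X : Over S} (b : X ⟶ D.T) (u : Γ(X.left, ⊤)) : Prop :=
  ∀ x : X.left, ev x (D.pϖ b) = 0 → (b.left x ∈ D.A → ev x u = 0) ∧ (b.left x ∈ D.B → ev x u = -1)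

theorem pu_comp {X Y : Over S} (f : Y ⟶ X) (p : X ⟶ D.P) : pu (f ≫ p) = f.left.appTop (pu p) := by
  change ((f.left ≫ p.left) ≫ D.W.ι ≫ D.p1).appTop _ = _
  rw [Category.assoc, appTop_comp_apply]
  rfl

theorem pw_comp {X Y : Over S} (f : Y ⟶ X) (p : X ⟶ D.P) : pw (f ≫ p) = f.left.appTop (pw p) := by
  change ((f.left ≫ p.left) ≫ D.W.ι ≫ D.p1).appTop _ = _
  rw [Category.assoc, appTop_comp_apply]
  rfl

theorem pϖ_comp {X Y : Over S} (f : Y ⟶ X) (b : X ⟶ D.T) : D.pϖ (f ≫ b) = f.left.appTop (D.pϖ b) :=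
  appTop_comp_apply _ _ _

theorem pt_rel {X : Over S} (p : X ⟶ D.P) : pu p + pu p ^ 2 = D.pϖ (p ≫ D.proj) * pw p := by
  have hc : D.pϖ (p ≫ D.proj) = (p.left ≫ D.W.ι ≫ D.p1).appTop (EFn (eMap R π π)) := by
    rw [← eStr_RFn, ← appTop_comp_apply, Category.assoc, Category.assoc]
    change (p.left ≫ D.W.ι ≫ D.p2).appTop (D.g.appTop (RFn π)) = _
    rw [← appTop_comp_apply, Category.assoc, Category.assoc, ← pullback.condition]
  rw [hc, pu, pw, ← map_mul, ← map_pow, ← map_add]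
  have h := congrArg (EFn (R := R) (π := π)) (rel0 R π)
  simp only [EFn, map_add, map_pow, map_mul] at h ⊢
  rw [← map_pow, ← map_add, h, map_mul]

theorem pt_good {X : Over S} (p : X ⟶ D.P) : Good (p ≫ D.proj) (pu p) := by
  intro x hx
  have hrel := congrArg (ev x) (pt_rel p)
  rw [map_add, map_pow, map_mul, hx, zero_mul] at hrel
  have h01 : ev x (pu p) = 0 ∨ ev x (pu p) = -1 := by
    have : ev x (pu p) * (ev x (pu p) + 1) = 0 := by rw [← hrel]; ring
    rcases mul_eq_zero.mp this with h | h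
    · exact Or.inl h
    · exact Or.inr (eq_neg_of_add_eq_zero_left h)
  let y := (p.left ≫ D.W.ι) x
  have hy : y ∈ D.W := (p.left x).2
  have hb : (p ≫ D.proj).left x = D.p2 y := rfl
  have hu : pu p = (p.left ≫ D.W.ι).appTop D.ambU := by
    rw [pu, ← Category.assoc, appTop_comp_apply]
  have hwz : D.pϖ (p ≫ D.proj) = (p.left ≫ D.W.ι).appTop D.ambϖ := by
    change ((p.left ≫ D.W.ι ≫ D.p2)).appTop D.ϖ = _
    rw [← Category.assoc, appTop_comp_apply]
  have hy0 : ev y D.ambϖ = 0 := by rw [← ev_appTop_eq_zero, ← hwz]; exact hx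
  have hyn : y ∉ D.amb.basicOpen D.ambϖ := ev_eq_zero.mp hy0
  have hnA : D.p2 y ∈ D.A → D.p2 y ∈ D.B → False := fun h h' => by
    have := D.inter _ h h'
    apply hyn
    change y ∈ D.amb.basicOpen (D.p2.appTop D.ϖ)
    rw [← Scheme.preimage_basicOpen_top]
    exact this
  constructor
  · intro hA
    rw [hb] at hA
    rcases hy with ⟨h, -⟩ | ⟨-, h⟩
    · rcases h with h | h
      · exact absurd h hyn
      · refine h01.resolve_right fun e => ?_
        have : ev x ((p.left ≫ D.W.ι).appTop (1 + D.ambU)) ≠ 0 := fun z =>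
          ev_ne_zero.mpr h ((ev_appTop_eq_zero _ _ _).mp z)
        apply this
        rw [map_add, map_one, ← hu, map_add, map_one, e]
        ring
    · exact (hnA hA h).elim
  · intro hB
    rw [hb] at hB
    rcases hy with ⟨-, h⟩ | ⟨h, -⟩
    · exact (hnA h hB).elim
    · rcases h with h | h
      · exact absurd h hyn
      · refine h01.resolve_left fun e => ?_
        have : ev x ((p.left ≫ D.W.ι).appTop D.ambU) ≠ 0 := fun z =>
          ev_ne_zero.mpr h ((ev_appTop_eq_zero _ _ _).mp z)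
        exact this (hu ▸ e)

theorem pt_ext {X : Over S} {p q : X ⟶ D.P} (hb : p ≫ D.proj = q ≫ D.proj) (hu : pu p = pu q)
    (hw : pw p = pw q) : p = q := by
  ext1
  rw [← cancel_mono D.W.ι]
  apply pullback.hom_ext
  · rw [Category.assoc, Category.assoc]
    apply ext_of_isAffine
    refine (cancel_epi (Scheme.ΓSpecIso (CommRingCat.of (ERing R π))).inv).mp ?_
    ext1
    refine Ideal.Quotient.ringHom_ext (MvPolynomial.ringHom_ext (fun r => ?_) fun i => ?_)
    · change (p.left ≫ D.W.ι ≫ D.p1).appTop (EFn (eMap R π r)) = (q.left ≫ D.W.ι ≫ D.p1).appTop (EFn (eMap R π r))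
      rw [← eStr_RFn, ← appTop_comp_apply, ← appTop_comp_apply, Category.assoc, Category.assoc, Category.assoc,
        Category.assoc, pullback.condition]
      have h := congrArg CommaMorphism.left hb
      exact congrArg (fun m : X.left ⟶ D.T.left => (m ≫ D.g).appTop (RFn r)) h
    · fin_cases i
      · exact hu
      · exact hw
  · rw [Category.assoc, Category.assoc]
    exact congrArg CommaMorphism.left hb

theorem exists_pt {X : Over S} (b : X ⟶ D.T) (u w : Γ(X.left, ⊤)) (hrel : u + u ^ 2 = D.pϖ b * w)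
    (hgood : Good b u) : ∃ p : X ⟶ D.P, p ≫ D.proj = b ∧ pu p = u ∧ pw p = w := by
  obtain ⟨φ, hφe⟩ : ∃ φ : R →+* Γ(X.left, ⊤), ∀ r, φ r = (b.left ≫ D.g).appTop (RFn r) :=
    ⟨(b.left ≫ D.g).appTop.hom.comp (Scheme.ΓSpecIso (CommRingCat.of R)).inv.hom, fun r => rfl⟩
  have hφ : φ π = D.pϖ b := (hφe π).trans (appTop_comp_apply b.left D.g (RFn π))
  let ψ : ERing R π →+* Γ(X.left, ⊤) := Ideal.Quotient.lift _ (MvPolynomial.eval₂Hom φ ![u, w]) (by
    intro c hc
    obtain ⟨d, rfl⟩ := Ideal.mem_span_singleton'.mp hc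
    simp only [map_mul, map_sub, map_add, map_pow, MvPolynomial.eval₂Hom_X', MvPolynomial.eval₂Hom_C,
      Matrix.cons_val_zero, Matrix.cons_val_one, hφ, hrel, sub_self, mul_zero])
  let m : X.left ⟶ Spec (CommRingCat.of (ERing R π)) :=
    ΓSpec.adjunction.homEquiv X.left (op (CommRingCat.of (ERing R π))) (CommRingCat.ofHom ψ).op
  have hm : (Scheme.ΓSpecIso (CommRingCat.of (ERing R π))).inv ≫ m.appTop = CommRingCat.ofHom ψ :=
    ΓSpecIso_inv_ΓSpec_adjunction_homEquiv _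
  have hmfn : ∀ c, m.appTop (EFn c) = ψ c := fun c => congrArg (fun k => (ConcreteCategory.hom k) c) hm
  have hmw : m ≫ eStr R π = b.left ≫ D.g := by
    apply ext_of_isAffine
    refine (cancel_epi (Scheme.ΓSpecIso (CommRingCat.of R)).inv).mp ?_
    ext r
    change (m ≫ eStr R π).appTop (RFn r) = (b.left ≫ D.g).appTop (RFn r)
    rw [← hφe, appTop_comp_apply, eStr_RFn, hmfn]
    exact MvPolynomial.eval₂Hom_C _ _ _
  let q : X.left ⟶ D.amb := pullback.lift m b.left hmw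
  have hq1 : q ≫ D.p1 = m := pullback.lift_fst _ _ _
  have hq2 : q ≫ D.p2 = b.left := pullback.lift_snd _ _ _
  have hqU : q.appTop D.ambU = u := by
    rw [← appTop_comp_apply, hq1, hmfn]
    change MvPolynomial.eval₂Hom φ ![u, w] (MvPolynomial.X 0) = u
    simp
  have hqϖ : q.appTop D.ambϖ = D.pϖ b := by rw [← appTop_comp_apply, hq2]
  have hrange : Set.range q ⊆ Set.range D.W.ι := by
    rintro _ ⟨x, rfl⟩
    rw [Scheme.Opens.range_ι]
    change q x ∈ D.W
    have hbx : D.p2 (q x) = b.left x := by rw [← hq2]; rfl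
    by_cases hx : ev x (D.pϖ b) = 0
    · rcases D.cov (b.left x) with hA | hB
      · refine Or.inl ⟨Or.inr ?_, (show D.p2 (q x) ∈ D.A from hbx ▸ hA)⟩
        apply ev_ne_zero.mp
        intro h0
        have h1 := (ev_appTop_eq_zero q x _).mpr h0
        rw [map_add, map_one, hqU, map_add, map_one, ((hgood x hx).1 hA)] at h1
        simp at h1
      · refine Or.inr ⟨Or.inr ?_, (show D.p2 (q x) ∈ D.B from hbx ▸ hB)⟩
        apply ev_ne_zero.mp
        intro h0
        have h1 := (ev_appTop_eq_zero q x _).mpr h0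
        rw [hqU, (hgood x hx).2 hB] at h1
        simp at h1
    · have : q x ∈ D.amb.basicOpen D.ambϖ := ev_ne_zero.mp fun h0 =>
        hx (hqϖ ▸ (ev_appTop_eq_zero q x _).mpr h0)
      rcases D.cov (b.left x) with hA | hB
      · exact Or.inl ⟨Or.inl this, (show D.p2 (q x) ∈ D.A from hbx ▸ hA)⟩
      · exact Or.inr ⟨Or.inl this, (show D.p2 (q x) ∈ D.B from hbx ▸ hB)⟩
  let l : X.left ⟶ D.W.toScheme := IsOpenImmersion.lift D.W.ι q hrange
  have hl : l ≫ D.W.ι = q := IsOpenImmersion.lift_fac _ _ _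
  refine ⟨Over.homMk l ?_, ?_, ?_, ?_⟩
  · change l ≫ D.W.ι ≫ D.p2 ≫ D.T.hom = X.hom
    rw [← Category.assoc, hl, ← Category.assoc, hq2]
    exact Over.w b
  · ext1
    change l ≫ D.W.ι ≫ D.p2 = b.left
    rw [← Category.assoc, hl, hq2]
  · change (l ≫ D.W.ι ≫ D.p1).appTop _ = u
    rw [← Category.assoc, hl, appTop_comp_apply]
    exact hqU
  · change (l ≫ D.W.ι ≫ D.p1).appTop _ = w
    rw [← Category.assoc, hl, hq1, hmfn]
    change MvPolynomial.eval₂Hom φ ![u, w] (MvPolynomial.X 1) = w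
    simp

def mkPt {X : Over S} (b : X ⟶ D.T) (u w : Γ(X.left, ⊤)) (hrel : u + u ^ 2 = D.pϖ b * w)
    (hgood : Good b u) : X ⟶ D.P := (exists_pt b u w hrel hgood).choose

theorem mkPt_proj {X : Over S} {b : X ⟶ D.T} {u w : Γ(X.left, ⊤)} (hrel hgood) :
    mkPt b u w hrel hgood ≫ D.proj = b := (exists_pt b u w hrel hgood).choose_spec.1

theorem mkPt_u {X : Over S} {b : X ⟶ D.T} {u w : Γ(X.left, ⊤)} (hrel hgood) :
    pu (mkPt b u w hrel hgood) = u := (exists_pt b u w hrel hgood).choose_spec.2.1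

theorem mkPt_w {X : Over S} {b : X ⟶ D.T} {u w : Γ(X.left, ⊤)} (hrel hgood) :
    pw (mkPt b u w hrel hgood) = w := (exists_pt b u w hrel hgood).choose_spec.2.2

attribute [irreducible] mkPt

/-! the action -/

theorem shift_rel {X : Over S} (p : X ⟶ D.P) (a : Γ(X.left, ⊤)) :
    (pu p + D.pϖ (p ≫ D.proj) * a) + (pu p + D.pϖ (p ≫ D.proj) * a) ^ 2 =
      D.pϖ (p ≫ D.proj) * (pw p + a * (1 + 2 * pu p + D.pϖ (p ≫ D.proj) * a)) := by
  linear_combination pt_rel p

theorem shift_good {X : Over S} (p : X ⟶ D.P) (a : Γ(X.left, ⊤)) :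
    Good (p ≫ D.proj) (pu p + D.pϖ (p ≫ D.proj) * a) := by
  intro x hx
  rw [map_add, map_mul, hx, zero_mul, add_zero]
  exact pt_good p x hx

/-- translate a point by a function -/
def shift {X : Over S} (p : X ⟶ D.P) (a : Γ(X.left, ⊤)) : X ⟶ D.P :=
  mkPt (p ≫ D.proj) _ _ (shift_rel p a) (shift_good p a)

theorem shift_proj {X : Over S} (p : X ⟶ D.P) (a) : shift p a ≫ D.proj = p ≫ D.proj := mkPt_proj _ _
theorem shift_u {X : Over S} (p : X ⟶ D.P) (a) : pu (shift p a) = pu p + D.pϖ (p ≫ D.proj) * a := mkPt_u _ _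
theorem shift_w {X : Over S} (p : X ⟶ D.P) (a) :
    pw (shift p a) = pw p + a * (1 + 2 * pu p + D.pϖ (p ≫ D.proj) * a) := mkPt_w _ _

theorem shift_zero {X : Over S} (p : X ⟶ D.P) : shift p 0 = p := by
  refine pt_ext (shift_proj _ _) ?_ ?_
  · rw [shift_u]; ring
  · rw [shift_w]; ring

theorem shift_shift {X : Over S} (p : X ⟶ D.P) (a b) : shift (shift p a) b = shift p (b + a) := by
  refine pt_ext ?_ ?_ ?_
  · rw [shift_proj, shift_proj, shift_proj]
  · rw [shift_u, shift_u, shift_u, shift_proj]; ring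
  · rw [shift_w, shift_w, shift_w, shift_u, shift_proj]; ring

theorem shift_comp {X Y : Over S} (f : Y ⟶ X) (p : X ⟶ D.P) (a) :
    f ≫ shift p a = shift (f ≫ p) (f.left.appTop a) := by
  refine pt_ext ?_ ?_ ?_
  · rw [Category.assoc, shift_proj, shift_proj, Category.assoc]
  · rw [pu_comp, shift_u, shift_u, pu_comp, map_add, map_mul, ← pϖ_comp, Category.assoc]
  · rw [pw_comp, shift_w, shift_w, pw_comp, pu_comp]
    simp only [map_add, map_mul, map_one, map_ofNat, ← pϖ_comp, Category.assoc]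

attribute [irreducible] shift

theorem existsUnique_shift {X : Over S} (p q : X ⟶ D.P) (h : p ≫ D.proj = q ≫ D.proj) :
    ∃! a, shift q a = p := by
  let z := D.pϖ (q ≫ D.proj)
  let m := 1 + pu p + pu q
  have hrp : pu p + pu p ^ 2 = z * pw p := by have := pt_rel p; rwa [h] at this
  have hrq : pu q + pu q ^ 2 = z * pw q := pt_rel q
  have hcov : ∀ x : X.left, x ∈ X.left.basicOpen z ∨ x ∈ X.left.basicOpen m := by
    intro x
    by_cases hx : ev x z = 0
    · refine Or.inr (ev_ne_zero.mp ?_)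
      have hq := pt_good q x hx
      have hp := pt_good p x (by rw [h]; exact hx)
      rw [map_add, map_add, map_one]
      rcases D.cov ((q ≫ D.proj).left x) with hA | hB
      · rw [hq.1 hA, hp.1 (by rw [h]; exact hA), add_zero, add_zero]; exact one_ne_zero
      · rw [hq.2 hB, hp.2 (by rw [h]; exact hB)]
        intro e
        exact one_ne_zero (α := X.left.residueField x) (by linear_combination -e)
    · exact Or.inl (ev_ne_zero.mp hx)
  obtain ⟨a, ⟨ha₁, ha₂⟩, huniq⟩ := existsUnique_div z m (pu p - pu q) (pw p - pw q) hcov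
    (by linear_combination hrp - hrq)
  refine ⟨a, pt_ext ((shift_proj _ _).trans h.symm) ?_ ?_, ?_⟩
  · rw [shift_u]; linear_combination ha₁
  · rw [shift_w]; linear_combination ha₂ + a * ha₁
  · intro b hb
    apply huniq
    have h1 : pu p = pu q + z * b := by rw [← hb, shift_u]
    have h2 : pw p = pw q + b * (1 + 2 * pu q + z * b) := by rw [← hb, shift_w]
    exact ⟨by linear_combination -h1, by linear_combination -h2 + b * h1⟩

variable (D)

def act : Red.Ga S ⊗ D.P ⟶ D.P := shift (snd _ _) (Red.gaFn (fst (Red.Ga S) D.P))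

theorem comp_act {X : Over S} (f : X ⟶ Red.Ga S ⊗ D.P) :
    f ≫ D.act = shift (f ≫ snd _ _) (Red.gaFn (f ≫ fst _ _)) := by
  rw [act, shift_comp, ← GaPts.gaFn_comp]

theorem one_act : (η[Red.Ga S] ▷ D.P) ≫ D.act = (λ_ D.P).hom := by
  have h1 : (η[Red.Ga S] ▷ D.P) ≫ fst (Red.Ga S) D.P = 1 := by
    rw [whiskerRight_fst, toUnit_unique (fst _ _) (toUnit _), ← Hom.one_def]
  rw [comp_act, h1, GaPts.gaFn_one, shift_zero, whiskerRight_snd, leftUnitor_hom]

theorem lift_act {X : Over S} (g : X ⟶ Red.Ga S) (p : X ⟶ D.P) :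
    lift g p ≫ D.act = shift p (Red.gaFn g) := by
  rw [comp_act, lift_fst, lift_snd]

theorem mul_act : (μ[Red.Ga S] ▷ D.P) ≫ D.act =
    (α_ (Red.Ga S) (Red.Ga S) D.P).hom ≫ (Red.Ga S ◁ D.act) ≫ D.act :=
  mul_act_of_points D.act fun g g' p => by
    rw [lift_act, lift_act, lift_act, shift_shift, GaPts.gaFn_mul]

def action : AlgGrp.Action (Red.Ga S) D.P := ⟨D.act, D.one_act, D.mul_act⟩

theorem act_proj : D.act ≫ D.proj = snd _ _ ≫ D.proj := shift_proj _ _

theorem isPullback_act : IsPullback D.act (snd (Red.Ga S) D.P) D.proj D.proj := by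
  refine IsPullback.of_isLimit' ⟨D.act_proj⟩ ?_
  refine PullbackCone.IsLimit.mk _
    (fun s => lift (GaPts.exists_pt (existsUnique_shift s.fst s.snd s.condition).exists.choose).choose s.snd)
    (fun s => ?_) (fun s => ?_) (fun s m hm₁ hm₂ => ?_)
  · rw [comp_act, lift_snd, lift_fst, (GaPts.exists_pt _).choose_spec]
    exact (existsUnique_shift s.fst s.snd s.condition).exists.choose_spec
  · exact lift_snd _ _
  · apply CartesianMonoidalCategory.hom_ext
    · rw [lift_fst]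
      apply GaPts.gaFn_injective
      change Red.gaFn (m ≫ fst _ _) = Red.gaFn _
      rw [(GaPts.exists_pt _).choose_spec]
      refine (existsUnique_shift s.fst s.snd s.condition).unique ?_
        (existsUnique_shift s.fst s.snd s.condition).exists.choose_spec
      rw [← hm₁, comp_act, hm₂]
    · rw [lift_snd]; exact hm₂

theorem isLocallyTrivial :
    NonAbH1.IsLocallyTrivialFor Scheme.fppfPrecoverage (Over.mk D.proj.left : Over D.T.left) := by
  let U : Bool → D.T.left.Opens := fun b => cond b D.A D.B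
  have hU : TopologicalSpace.IsOpenCover U := TopologicalSpace.IsOpenCover.mk (top_le_iff.mp fun t _ => by
    rcases D.cov t with h | h
    · exact TopologicalSpace.Opens.mem_iSup.mpr ⟨true, h⟩
    · exact TopologicalSpace.Opens.mem_iSup.mpr ⟨false, h⟩)
  refine ⟨_, Scheme.zariskiPrecoverage_le_fppfPrecoverage _
    (D.T.left.openCoverOfIsOpenCover U hU).mem₀, ?_⟩
  rintro V f ⟨i⟩
  let X : Over S := Over.mk ((U i).ι ≫ D.T.hom)
  let b : X ⟶ D.T := Over.homMk (U i).ι rfl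
  have hmem : ∀ x : X.left, b.left x ∈ U i := fun x => x.2
  let u₀ : Γ(X.left, ⊤) := cond i 0 (-1)
  have hrel : u₀ + u₀ ^ 2 = D.pϖ b * 0 := by cases i <;> simp [u₀]
  have hgood : Good b u₀ := by
    intro x hx
    have hno : b.left x ∈ D.A → b.left x ∈ D.B → False := fun hA hB => by
      have := D.inter _ hA hB
      exact (ev_eq_zero.mp ((ev_appTop_eq_zero _ _ _).mp hx)) this
    cases i
    · exact ⟨fun hA => (hno hA (hmem x)).elim, fun _ => by simp [u₀]⟩
    · exact ⟨fun _ => by simp [u₀], fun hB => (hno (hmem x) hB).elim⟩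
  exact ⟨(mkPt b u₀ 0 hrel hgood).left, congrArg CommaMorphism.left (mkPt_proj hrel hgood)⟩

/-- the torsor as an object of `BG_a` -/
def obj : (AlgSt.BG Scheme.fppfPrecoverage (Red.Ga S)).obj where
  base := D.T
  P := D.P
  act := D.action
  π := D.proj
  cart := D.isPullback_act
  loc := D.isLocallyTrivial
  φ := toUnit _
  eqv := toUnit_unique _ _

end Dat

/-- morphisms of data -/
structure DatHom (D D' : Dat (S := S) R π) where
  f : D.T ⟶ D'.T
  g_comm : f.left ≫ D'.g = D.g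
  preA : ∀ t, f.left t ∈ D'.A ↔ t ∈ D.A
  preB : ∀ t, f.left t ∈ D'.B ↔ t ∈ D.B

namespace DatHom

open Dat

variable {D}
variable {D' D'' : Dat (S := S) R π} (φ : DatHom D D')

theorem pϖ_eq {X : Over S} (b : X ⟶ D.T) : D'.pϖ (b ≫ φ.f) = D.pϖ b := by
  rw [pϖ_comp]
  change b.left.appTop (φ.f.left.appTop (D'.g.appTop (RFn π))) = b.left.appTop (D.g.appTop (RFn π))
  rw [← appTop_comp_apply φ.f.left, φ.g_comm]

theorem good_iff {X : Over S} (b : X ⟶ D.T) (u : Γ(X.left, ⊤)) : Good (b ≫ φ.f) u ↔ Good b u := by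
  simp only [Good, φ.pϖ_eq]
  refine forall_congr' fun x => imp_congr_right fun _ => and_congr ?_ ?_
  · exact imp_congr_left (φ.preA (b.left x))
  · exact imp_congr_left (φ.preB (b.left x))

def top : D.P ⟶ D'.P :=
  mkPt (D.proj ≫ φ.f) (pu (𝟙 D.P)) (pw (𝟙 D.P))
    (by rw [φ.pϖ_eq]; simpa using pt_rel (𝟙 D.P))
    ((φ.good_iff _ _).mpr (by simpa using pt_good (𝟙 D.P)))

theorem top_proj : φ.top ≫ D'.proj = D.proj ≫ φ.f := mkPt_proj _ _

theorem comp_top_u {X : Over S} (p : X ⟶ D.P) : pu (p ≫ φ.top) = pu p := by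
  rw [pu_comp, top, mkPt_u, ← pu_comp, Category.comp_id]

theorem comp_top_w {X : Over S} (p : X ⟶ D.P) : pw (p ≫ φ.top) = pw p := by
  rw [pw_comp, top, mkPt_w, ← pw_comp, Category.comp_id]

theorem isPullback : IsPullback φ.top D.proj D'.proj φ.f := by
  refine IsPullback.of_isLimit' ⟨φ.top_proj⟩ ?_
  have hr : ∀ s : PullbackCone D'.proj φ.f, pu s.fst + pu s.fst ^ 2 = D.pϖ s.snd * pw s.fst := fun s => by
    rw [← φ.pϖ_eq, ← s.condition]; exact pt_rel _
  have hg : ∀ s : PullbackCone D'.proj φ.f, Good s.snd (pu s.fst) := fun s => by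
    rw [← φ.good_iff, ← s.condition]; exact pt_good _
  refine PullbackCone.IsLimit.mk _ (fun s => mkPt s.snd _ _ (hr s) (hg s))
    (fun s => ?_) (fun s => mkPt_proj _ _) (fun s m hm₁ hm₂ => ?_)
  · refine pt_ext ?_ ?_ ?_
    · rw [Category.assoc, top_proj, ← Category.assoc, mkPt_proj, s.condition]
    · rw [comp_top_u, mkPt_u]
    · rw [comp_top_w, mkPt_w]
  · refine pt_ext (hm₂.trans (mkPt_proj _ _).symm) ?_ ?_
    · rw [mkPt_u, ← hm₁, comp_top_u]
    · rw [mkPt_w, ← hm₁, comp_top_w]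

theorem top_eqv : D.act ≫ φ.top = (Red.Ga S ◁ φ.top) ≫ D'.act := by
  rw [D'.comp_act, whiskerLeft_fst, whiskerLeft_snd]
  have hb : (snd (Red.Ga S) D.P ≫ φ.top) ≫ D'.proj = (snd (Red.Ga S) D.P ≫ D.proj) ≫ φ.f := by
    rw [Category.assoc, top_proj, Category.assoc]
  refine pt_ext ?_ ?_ ?_
  · rw [shift_proj, Category.assoc, top_proj, ← Category.assoc, D.act_proj, hb]
  · rw [comp_top_u, shift_u, comp_top_u, hb, φ.pϖ_eq, Dat.act, shift_u]
  · rw [comp_top_w, shift_w, comp_top_u, comp_top_w, hb, φ.pϖ_eq, Dat.act, shift_w]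

/-- the morphism of torsors -/
def hom : D.obj ⟶ D'.obj where
  base := φ.f
  top := φ.top
  eqv := by exact φ.top_eqv
  cart := φ.isPullback
  wφ := toUnit_unique _ _

theorem hom_id (φ : DatHom D D) (h : φ.f = 𝟙 D.T) : φ.hom = 𝟙 D.obj := by
  refine AlgSt.QuotObj.hom_ext h ?_
  change φ.top = 𝟙 D.P
  refine pt_ext ?_ ?_ ?_
  · rw [top_proj, h, Category.comp_id, Category.id_comp]
  · rw [← comp_top_u φ (𝟙 D.P), Category.id_comp]
  · rw [← comp_top_w φ (𝟙 D.P), Category.id_comp]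

theorem hom_comp (ψ : DatHom D' D'') (χ : DatHom D D'') (h : χ.f = φ.f ≫ ψ.f) :
    χ.hom = φ.hom ≫ ψ.hom := by
  refine AlgSt.QuotObj.hom_ext h ?_
  change χ.top = φ.top ≫ ψ.top
  refine pt_ext ?_ ?_ ?_
  · rw [top_proj, Category.assoc, top_proj, ← Category.assoc, top_proj, h, Category.assoc]
  · rw [comp_top_u, ← Category.id_comp χ.top, comp_top_u, ← Category.id_comp φ.top, comp_top_u]
  · rw [comp_top_w, ← Category.id_comp χ.top, comp_top_w, ← Category.id_comp φ.top, comp_top_w]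

end DatHom

end Groth.Agent.Lib.BGaTorsor
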