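/-
Finite torsion-free modules over domains embed in free modules; Bezout domains.
-/
import Mathlib

open TensorProduct
universe u

namespace Groth.Agent.TorsionFreeEmbed


theorem torsionFree_embed {R : Type u} [CommRing R] [IsDomain R] {M : Type u} [AddCommGroup M] [Module R M]
    [Module.Finite R M] [Module.IsTorsionFree R M] : ∃ (n : ℕ) (f : M →ₗ[R] (Fin n → R)), Function.Injective f := by
  classical
  let K := FractionRing R
  let T := LocalizedModule (nonZeroDivisors R) M
  haveI : Module.Finite K T := Module.Finite.of_isLocalizedModule (nonZeroDivisors R) (LocalizedModule.mkLinearMap (nonZeroDivisors R) M)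
  let b := Module.finBasis K T
  let g : M →ₗ[R] (Fin (Module.finrank K T) → K) :=
    (b.equivFun.toLinearMap.restrictScalars R) ∘ₗ LocalizedModule.mkLinearMap (nonZeroDivisors R) M
  have hg : Function.Injective g := by
    refine b.equivFun.injective.comp ?_
    rw [← LinearMap.ker_eq_bot, LinearMap.ker_eq_bot']
    intro x hx
    obtain ⟨c, hc⟩ := (IsLocalizedModule.eq_zero_iff (nonZeroDivisors R) (LocalizedModule.mkLinearMap (nonZeroDivisors R) M)).mp hx
    exact (smul_eq_zero.mp hc).resolve_left (nonZeroDivisors.coe_ne_zero c)
  obtain ⟨s, hs⟩ := Module.Finite.fg_top (R := R) (M := M)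
  obtain ⟨d, hd⟩ := IsLocalization.exist_integer_multiples_of_finset (nonZeroDivisors R)
    (s.biUnion fun m => Finset.univ.image (g m))
  have hrange : ∀ m : M, ∀ i, ∃ a : R, algebraMap R K a = (d : R) • g m i := by
    intro m
    have hm : m ∈ Submodule.span R (s : Set M) := hs ▸ Submodule.mem_top
    induction hm using Submodule.span_induction with
    | mem x hx => exact fun i => hd _ (Finset.mem_biUnion.mpr ⟨x, hx, Finset.mem_image.mpr ⟨i, Finset.mem_univ _, rfl⟩⟩)
    | zero => exact fun i => ⟨0, by simp⟩
    | add x y _ _ hx hy =>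
      intro i
      obtain ⟨a, ha⟩ := hx i
      obtain ⟨c, hc⟩ := hy i
      exact ⟨a + c, by rw [map_add, ha, hc, map_add, Pi.add_apply, smul_add]⟩
    | smul r x _ hx =>
      intro i
      obtain ⟨a, ha⟩ := hx i
      exact ⟨r * a, by rw [map_mul, ha, map_smul, Pi.smul_apply, smul_comm, Algebra.smul_def r]⟩
  choose a ha using hrange
  have hinj := IsFractionRing.injective R K
  let F : M →ₗ[R] (Fin (Module.finrank K T) → R) :=
    { toFun := a
      map_add' := fun x y => funext fun i => hinj (by
        rw [Pi.add_apply, map_add, ha, ha, ha, map_add, Pi.add_apply, smul_add])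
      map_smul' := fun r x => funext fun i => hinj (by
        rw [Pi.smul_apply, smul_eq_mul, RingHom.id_apply, map_mul, ha, ha, map_smul, Pi.smul_apply,
          smul_comm, Algebra.smul_def r]) }
  refine ⟨_, F, fun x y h => hg (funext fun i => ?_)⟩
  have := congrArg (algebraMap R K) (congrFun h i)
  simp only [F, LinearMap.coe_mk, AddHom.coe_mk, ha] at this
  exact (IsUnit.smul_left_cancel ((IsLocalization.map_units K d))).mp (by simpa [Algebra.smul_def] using this)

theorem free_sub {R : Type u} [CommRing R] [IsDomain R] [IsBezout R] :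
    ∀ (n : ℕ) (N : Submodule R (Fin n → R)), N.FG → Module.Free R N ∧ Module.Finite R N := by
  intro n
  induction n with
  | zero =>
    intro N _
    haveI : Subsingleton N := ⟨fun a b => Subtype.ext (Subsingleton.elim _ _)⟩
    exact ⟨Module.Free.of_subsingleton R N, inferInstance⟩
  | succ n ih =>
    intro N hN
    haveI : Module.Finite R N := Module.Finite.iff_fg.mpr hN
    let g : N →ₗ[R] R := LinearMap.proj 0 ∘ₗ N.subtype
    obtain ⟨c, hc⟩ := (IsBezout.isPrincipal_of_FG _ (Module.Finite.iff_fg.mp (Module.Finite.range g))).principal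
    haveI hfree : Module.Free R (LinearMap.range g) := by
      rw [hc]
      rcases eq_or_ne c 0 with rfl | h0
      · rw [Submodule.span_zero_singleton]; exact Module.Free.of_subsingleton R _
      · exact Module.Free.of_equiv (LinearEquiv.toSpanNonzeroSingleton R R c h0)
    obtain ⟨σ, hσ⟩ := Module.projective_lifting_property g.rangeRestrict LinearMap.id g.surjective_rangeRestrict
    have hmem : ∀ x : N, (LinearMap.id - σ ∘ₗ g.rangeRestrict : N →ₗ[R] N) x ∈ LinearMap.ker g := fun x => by
      have := congrArg Subtype.val (LinearMap.congr_fun hσ (g.rangeRestrict x))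
      simp only [LinearMap.comp_apply, LinearMap.id_apply] at this
      rw [LinearMap.mem_ker, LinearMap.sub_apply, map_sub, LinearMap.id_apply, LinearMap.comp_apply]
      exact sub_eq_zero.mpr this.symm
    haveI : Module.Finite R (LinearMap.ker g) := by
      refine Module.Finite.of_surjective ((LinearMap.id - σ ∘ₗ g.rangeRestrict : N →ₗ[R] N).codRestrict (LinearMap.ker g) hmem) fun x => ⟨(x : N), Subtype.ext ?_⟩
      have h0 : g.rangeRestrict x.1 = 0 := Subtype.ext x.2
      simp [h0]
    let t : LinearMap.ker g →ₗ[R] (Fin n → R) := LinearMap.funLeft R R Fin.succ ∘ₗ N.subtype ∘ₗ (LinearMap.ker g).subtype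
    have ht : Function.Injective t := fun x y h => Subtype.ext (Subtype.ext (funext fun i => by
      refine Fin.cases ?_ (fun j => congrFun h j) i
      exact x.2.trans y.2.symm))
    obtain ⟨hk, hk'⟩ := ih (LinearMap.range t) (Module.Finite.iff_fg.mp (Module.Finite.range t))
    haveI : Module.Free R (LinearMap.ker g) := Module.Free.of_equiv (LinearEquiv.ofInjective t ht).symm
    let e : N ≃ₗ[R] LinearMap.ker g × LinearMap.range g := by
      refine (LinearEquiv.ofBijective ((LinearMap.ker g).subtype.coprod σ) ⟨?_, ?_⟩).symm
      · rw [injective_iff_map_eq_zero]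
        rintro ⟨a, b⟩ h
        simp only [LinearMap.coprod_apply, Submodule.subtype_apply] at h
        have hb : b = 0 := by
          have h1 := congrArg g.rangeRestrict h
          rw [map_add, map_zero, show g.rangeRestrict a.1 = 0 from Subtype.ext a.2, zero_add] at h1
          rwa [show g.rangeRestrict (σ b) = b from LinearMap.congr_fun hσ b] at h1
        subst hb
        rw [map_zero, add_zero] at h
        exact Prod.ext (Subtype.ext h) rfl
      · intro x
        refine ⟨(⟨x - σ (g.rangeRestrict x), ?_⟩, g.rangeRestrict x), by simp⟩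
        rw [LinearMap.mem_ker, map_sub]
        exact sub_eq_zero.mpr (congrArg Subtype.val (LinearMap.congr_fun hσ (g.rangeRestrict x))).symm
    exact ⟨Module.Free.of_equiv e.symm, inferInstance⟩

end Groth.Agent.TorsionFreeEmbed
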