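/-
diagonalisation over valuation domains; fp modules over Bezout domains
-/
import Mathlib
import Groth.Agent.Lib.TorsionFreeEmbed

universe u

namespace Groth.Agent.BezoutTorsion


theorem exists_dvd_all {R : Type u} [CommRing R] [IsDomain R] [ValuationRing R] {ι : Type*}
    (s : Finset ι) (hs : s.Nonempty) (v : ι → R) : ∃ a ∈ s, ∀ b ∈ s, v a ∣ v b := by
  induction hs using Finset.Nonempty.cons_induction with
  | singleton a => exact ⟨a, Finset.mem_singleton_self a, fun b hb => (Finset.mem_singleton.mp hb) ▸ dvd_rfl⟩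
  | cons a s ha hs ih =>
    obtain ⟨c, hc, hd⟩ := ih
    rcases ValuationRing.dvd_total (v a) (v c) with h | h
    · exact ⟨a, Finset.mem_cons_self a s, fun b hb => (Finset.mem_cons.mp hb).elim (fun e => e ▸ dvd_rfl) fun hb => h.trans (hd b hb)⟩
    · exact ⟨c, Finset.mem_cons_of_mem hc, fun b hb => (Finset.mem_cons.mp hb).elim (fun e => e ▸ h) (hd b)⟩

theorem diag_sub {R : Type u} [CommRing R] [IsDomain R] [ValuationRing R] :
    ∀ (n : ℕ) (K : Submodule R (Fin n → R)), K.FG →
      ∃ (e : (Fin n → R) ≃ₗ[R] (Fin n → R)) (a : Fin n → R), ∀ x, x ∈ K ↔ ∀ j, a j ∣ e x j := by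
  classical
  intro n
  induction n with
  | zero =>
    intro K _
    exact ⟨LinearEquiv.refl R _, fun _ => 0, fun x => ⟨fun _ j => j.elim0, fun _ => Subsingleton.elim (0 : Fin 0 → R) x ▸ K.zero_mem⟩⟩
  | succ n ih =>
    intro K hK
    obtain ⟨G, hG⟩ := hK
    obtain ⟨⟨k0, j0⟩, hk0, hmin⟩ := exists_dvd_all ((insert 0 G) ×ˢ (Finset.univ : Finset (Fin (n+1))))
      ⟨(0, 0), Finset.mem_product.mpr ⟨Finset.mem_insert_self _ _, Finset.mem_univ _⟩⟩ (fun p => p.1 p.2)
    have hk0K : k0 ∈ K := by
      rcases Finset.mem_insert.mp (Finset.mem_product.mp hk0).1 with rfl | h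
      · exact K.zero_mem
      · exact hG ▸ Submodule.subset_span h
    have hdvd : ∀ x ∈ K, ∀ j, k0 j0 ∣ x j := by
      intro x hx
      rw [← hG] at hx
      induction hx using Submodule.span_induction with
      | mem x hx => exact fun j => hmin (x, j) (Finset.mem_product.mpr ⟨Finset.mem_insert_of_mem hx, Finset.mem_univ _⟩)
      | zero => exact fun j => dvd_zero _
      | add x y _ _ hx hy => exact fun j => dvd_add (hx j) (hy j)
      | smul r x _ hx => exact fun j => (hx j).mul_left r
    choose d hd using hdvd k0 hk0K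
    let u : Fin (n+1) → R := Function.update d j0 1
    have hu : k0 j0 • u = k0 := by
      funext j
      rcases eq_or_ne j j0 with rfl | hne
      · simp [u]
      · simp [u, hne, ← hd j]
    have huj : u j0 = 1 := by simp [u]
    let ins : (Fin n → R) →ₗ[R] (Fin (n+1) → R) :=
      { toFun := fun w => Fin.insertNth j0 0 w
        map_add' := fun v w => by
          refine funext (Fin.forall_iff_succAbove j0 |>.mpr ⟨?_, fun i => ?_⟩) <;> simp
        map_smul' := fun c w => by
          refine funext (Fin.forall_iff_succAbove j0 |>.mpr ⟨?_, fun i => ?_⟩) <;> simp }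
    let pr : (Fin (n+1) → R) →ₗ[R] (Fin n → R) :=
      LinearMap.funLeft R R j0.succAbove ∘ₗ (LinearMap.id - (LinearMap.proj j0).smulRight u)
    have hrec : ∀ x, x j0 • u + ins (pr x) = x := by
      intro x
      refine funext (Fin.forall_iff_succAbove j0 |>.mpr ⟨?_, fun i => ?_⟩)
      · simp [ins, huj]
      · simp [ins, pr, LinearMap.funLeft]
    have hins : ∀ w, (ins w) j0 = 0 := fun w => by simp [ins]
    have hprins : ∀ w, pr (ins w) = w := fun w => by
      funext i; simp [pr, ins, LinearMap.funLeft]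
    have hpru : pr u = 0 := by
      funext i; simp [pr, LinearMap.funLeft, huj]
    have hK' : ∀ x ∈ K, ins (pr x) ∈ K := by
      intro x hx
      obtain ⟨c, hc⟩ := hdvd x hx j0
      have : ins (pr x) = x - c • k0 := by
        rw [← hu, smul_smul, mul_comm, ← hc]
        exact eq_sub_of_add_eq' (hrec x)
      rw [this]
      exact K.sub_mem hx (K.smul_mem c hk0K)
    have hfg : (K.comap ins).FG := by
      rw [show K.comap ins = K.map pr from le_antisymm (fun w hw => ⟨ins w, hw, hprins w⟩) (by rintro _ ⟨x, hx, rfl⟩; exact hK' x hx)]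
      exact Submodule.FG.map pr ⟨G, hG⟩
    obtain ⟨e', a', he'⟩ := ih _ hfg
    let e : (Fin (n+1) → R) ≃ₗ[R] (Fin (n+1) → R) :=
      { toFun := fun x => Fin.cons (x j0) (e' (pr x))
        invFun := fun y => y 0 • u + ins (e'.symm (Fin.tail y))
        map_add' := fun x y => by
          refine funext (Fin.cases ?_ fun i => ?_) <;> simp
        map_smul' := fun c x => by
          refine funext (Fin.cases ?_ fun i => ?_) <;> simp
        left_inv := fun x => by simpa using hrec x
        right_inv := fun y => by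
          simp [huj, hins, hprins, hpru] }
    refine ⟨e, Fin.cons (k0 j0) a', fun x => ⟨fun hx j => ?_, fun h => ?_⟩⟩
    · refine Fin.cases ?_ (fun i => ?_) j
      · simpa [e] using hdvd x hx j0
      · simpa [e] using (he' (pr x)).mp (hK' x hx) i
    · obtain ⟨c, hc⟩ : k0 j0 ∣ x j0 := by simpa [e] using h 0
      have h2 : ins (pr x) ∈ K := (he' (pr x)).mpr fun i => by simpa [e] using h i.succ
      rw [← hrec x]
      refine K.add_mem ?_ h2
      rw [hc, mul_comm, ← smul_smul, hu]
      exact K.smul_mem c hk0K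

theorem diag_module {R : Type u} [CommRing R] [IsDomain R] [ValuationRing R] (M : Type u) [AddCommGroup M]
    [Module R M] [Module.FinitePresentation R M] (htor : ∀ x : M, ∃ c : R, c ≠ 0 ∧ c • x = 0) :
    ∃ (n : ℕ) (a : Fin n → R) (x : Fin n → M) (l : ∀ j, M →ₗ[R] R ⧸ Ideal.span {a j}),
      (∀ j, a j ≠ 0) ∧ (∀ j, a j • x j = 0) ∧
        ∀ (t : M) (r : Fin n → R), (∀ j, Ideal.Quotient.mk _ (r j) = l j t) → ∑ j, r j • x j = t := by
  classical
  obtain ⟨n, g, hg⟩ := Module.Finite.exists_fin' R M
  obtain ⟨e, a, he⟩ := diag_sub n (LinearMap.ker g) (Module.FinitePresentation.fg_ker g hg)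
  let q : ∀ j, (Fin n → R) →ₗ[R] R ⧸ Ideal.span {a j} :=
    fun j => (Submodule.mkQ (Ideal.span {a j})) ∘ₗ LinearMap.proj j ∘ₗ e.toLinearMap
  have hq : ∀ j, LinearMap.ker g ≤ LinearMap.ker (q j) := fun j v hv => by
    simpa [q, Ideal.Quotient.eq_zero_iff_mem, Submodule.Quotient.mk_eq_zero, Ideal.mem_span_singleton] using (he v).mp hv j
  refine ⟨n, a, fun j => g (e.symm (Pi.single j 1)),
    fun j => ((LinearMap.ker g).liftQ (q j) (hq j)) ∘ₗ (g.quotKerEquivOfSurjective hg).symm.toLinearMap, ?_, ?_, ?_⟩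
  · intro j hj
    obtain ⟨c, hc0, hc⟩ := htor (g (e.symm (Pi.single j 1)))
    rw [← map_smul] at hc
    have := (he _).mp hc j
    rw [map_smul, e.apply_symm_apply, hj, zero_dvd_iff] at this
    simp at this
    exact hc0 this
  · intro j
    rw [← map_smul]
    refine (he _).mpr fun i => ?_
    rw [map_smul, e.apply_symm_apply]
    rcases eq_or_ne i j with rfl | h
    · simp
    · simp [h]
  · intro t r hr
    obtain ⟨v, rfl⟩ := hg t
    have hv : ∀ j, a j ∣ (e v - r) j := by
      intro j
      have h := hr j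
      rw [LinearMap.comp_apply, LinearEquiv.coe_coe,
        show (g.quotKerEquivOfSurjective hg).symm (g v) = Submodule.Quotient.mk v from
          (LinearEquiv.symm_apply_eq _).mpr rfl] at h
      rw [← Ideal.mem_span_singleton, Pi.sub_apply, ← Ideal.Quotient.eq_zero_iff_mem, map_sub, h]
      simp [q, Submodule.mkQ_apply]
    have hmem : v - e.symm r ∈ LinearMap.ker g := (he _).mpr fun j => by simpa using hv j
    rw [LinearMap.sub_mem_ker_iff] at hmem
    rw [hmem]
    conv_rhs => rw [pi_eq_sum_univ' r]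
    simp

def quotMap {R : Type u} [CommRing R] (A : Type u) [CommRing A] [Algebra R A]
    (c : R) (a : A) (h : Ideal.span {a} = Ideal.span {algebraMap R A c}) :
    (R ⧸ Ideal.span {c}) →ₗ[R] A ⧸ Ideal.span {a} :=
  Submodule.liftQ (Ideal.span {c})
      ((Submodule.mkQ (Ideal.span {a})).restrictScalars R ∘ₗ Algebra.linearMap R A) (fun r hr => by
        obtain ⟨b, rfl⟩ := Ideal.mem_span_singleton.mp hr
        simp only [LinearMap.mem_ker, LinearMap.comp_apply, Algebra.linearMap_apply, LinearMap.restrictScalars_apply,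
          Submodule.mkQ_apply, Submodule.Quotient.mk_eq_zero, h, map_mul]
        exact Ideal.mem_span_singleton.mpr (dvd_mul_right _ _))

theorem isLocalized_quot {R : Type u} [CommRing R] (S : Submonoid R) (A : Type u) [CommRing A] [Algebra R A]
    [IsLocalization S A] (c : R) (a : A) (h : Ideal.span {a} = Ideal.span {algebraMap R A c}) :
    IsLocalizedModule S (quotMap A c a h) := by
  constructor
  · intro s
    rw [Module.End.isUnit_iff]
    constructor
    · intro x y hxy
      obtain ⟨x, rfl⟩ := Submodule.Quotient.mk_surjective _ x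
      obtain ⟨y, rfl⟩ := Submodule.Quotient.mk_surjective _ y
      simp only [Module.algebraMap_end_apply] at hxy
      rw [← Submodule.Quotient.mk_smul, ← Submodule.Quotient.mk_smul, Submodule.Quotient.eq, ← smul_sub,
        Algebra.smul_def] at hxy
      exact (Submodule.Quotient.eq _).mpr ((Ideal.unit_mul_mem_iff_mem _ (IsLocalization.map_units A s)).mp hxy)
    · intro x
      obtain ⟨x, rfl⟩ := Submodule.Quotient.mk_surjective _ x
      obtain ⟨u, hu⟩ := IsLocalization.map_units A s
      refine ⟨Submodule.Quotient.mk ((u⁻¹ : Aˣ) * x), ?_⟩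
      simp only [Module.algebraMap_end_apply]
      rw [← Submodule.Quotient.mk_smul, Algebra.smul_def, ← hu, ← mul_assoc, Units.mul_inv, one_mul]
  · intro y
    obtain ⟨y, rfl⟩ := Submodule.Quotient.mk_surjective _ y
    obtain ⟨⟨r, s⟩, hrs⟩ := IsLocalization.surj S y
    refine ⟨(Submodule.Quotient.mk r, s), ?_⟩
    simp only [quotMap, Submodule.liftQ_apply, LinearMap.comp_apply, Algebra.linearMap_apply, LinearMap.restrictScalars_apply, Submodule.mkQ_apply]
    rw [← hrs, Submonoid.smul_def, ← Submodule.Quotient.mk_smul, Algebra.smul_def, mul_comm]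
  · intro x y hxy
    obtain ⟨x, rfl⟩ := Submodule.Quotient.mk_surjective _ x
    obtain ⟨y, rfl⟩ := Submodule.Quotient.mk_surjective _ y
    simp only [quotMap, Submodule.liftQ_apply, LinearMap.comp_apply, Algebra.linearMap_apply, LinearMap.restrictScalars_apply,
      Submodule.mkQ_apply, Submodule.Quotient.eq, ← map_sub, h] at hxy
    obtain ⟨b, hb⟩ := Ideal.mem_span_singleton.mp hxy
    obtain ⟨⟨r, s⟩, hrs⟩ := IsLocalization.surj S b
    have : algebraMap R A (s * (x - y)) = algebraMap R A (c * r) := by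
      rw [map_mul, map_mul, hb, ← hrs]; ring
    obtain ⟨t, ht⟩ := (IsLocalization.eq_iff_exists S A).mp this
    refine ⟨t * s, ?_⟩
    rw [Submonoid.smul_def, Submonoid.smul_def, ← Submodule.Quotient.mk_smul, ← Submodule.Quotient.mk_smul, Submodule.Quotient.eq, ← smul_sub]
    refine Ideal.mem_span_singleton.mpr ⟨(t : R) * r, ?_⟩
    simp only [Submonoid.coe_mul, smul_eq_mul]
    linear_combination ht

theorem bezout_localization {R : Type u} [CommRing R] [IsBezout R] (S : Submonoid R) (A : Type u) [CommRing A]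
    [Algebra R A] [IsLocalization S A] : IsBezout A := by
  rw [IsBezout.iff_span_pair_isPrincipal]
  intro x y
  obtain ⟨⟨a, s⟩, ha⟩ := IsLocalization.surj S x
  obtain ⟨⟨b, t⟩, hb⟩ := IsLocalization.surj S y
  obtain ⟨g, hg⟩ := (IsBezout.isPrincipal_of_FG (Ideal.span {a, b}) (Submodule.fg_span (Set.toFinite _))).principal
  refine ⟨algebraMap R A g, ?_⟩
  have h := congrArg (Ideal.map (algebraMap R A)) hg
  rw [← Ideal.span, Ideal.map_span, Ideal.map_span, Set.image_pair, Set.image_singleton] at h
  rw [← Ideal.span, ← h, ← ha, ← hb, Ideal.span_insert, Ideal.span_insert, Ideal.span_singleton_mul_right_unit (IsLocalization.map_units A s),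
    Ideal.span_singleton_mul_right_unit (IsLocalization.map_units A t)]

theorem local_retract {R : Type u} [CommRing R] [IsDomain R] [IsBezout R] (T : Type u) [AddCommGroup T]
    [Module R T] [Module.FinitePresentation R T] (htor : ∀ x : T, ∃ c : R, c ≠ 0 ∧ c • x = 0)
    (m : Ideal R) [m.IsMaximal] :
    ∃ (n : ℕ) (c : Fin n → R) (i : T →ₗ[R] ((j : Fin n) → R ⧸ Ideal.span {c j}))
      (p : ((j : Fin n) → R ⧸ Ideal.span {c j}) →ₗ[R] T) (s : R),
      (∀ j, c j ≠ 0) ∧ s ∉ m ∧ p ∘ₗ i = s • LinearMap.id := by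
  classical
  let A := Localization.AtPrime m
  let S := m.primeCompl
  have hS : S ≤ nonZeroDivisors R := Ideal.primeCompl_le_nonZeroDivisors m
  haveI : IsDomain A := IsLocalization.isDomain_localization hS
  haveI : IsBezout A := bezout_localization S A
  haveI : ValuationRing A := ValuationRing.iff_local_bezout_domain.mpr ⟨inferInstance, inferInstance⟩
  let mk := LocalizedModule.mkLinearMap S T
  have htorA : ∀ z : LocalizedModule S T, ∃ c : A, c ≠ 0 ∧ c • z = 0 := by
    intro z
    obtain ⟨⟨y, s⟩, hy⟩ := IsLocalizedModule.surj S mk z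
    obtain ⟨c, hc0, hc⟩ := htor y
    refine ⟨algebraMap R A (c * s), ?_, ?_⟩
    · rw [Ne, IsLocalization.to_map_eq_zero_iff A hS]
      exact mul_ne_zero hc0 (nonZeroDivisors.coe_ne_zero ⟨(s : R), hS s.2⟩)
    · rw [algebraMap_smul, mul_smul, ← Submonoid.smul_def, hy, ← map_smul, hc, map_zero]
  obtain ⟨n, a, x, l, ha0, hax, hsum⟩ := diag_module (R := A) (LocalizedModule S T) htorA
  choose y hy using fun j => IsLocalizedModule.surj S mk (x j)
  choose b hb using fun j => IsLocalization.surj S (a j)
  have hby : ∀ j, mk ((b j).1 • (y j).1) = 0 := fun j => by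
    have := hax j
    rw [map_smul, ← hy j, ← algebraMap_smul A (b j).1, ← hb j, mul_comm, mul_smul, algebraMap_smul,
      Submonoid.smul_def, smul_comm (a j), this, smul_zero, smul_zero]
  choose u hu using fun j => (IsLocalizedModule.eq_zero_iff S mk).mp (hby j)
  let c : Fin n → R := fun j => (u j : R) * (b j).1
  have hb0 : ∀ j, (b j).1 ≠ 0 := fun j h => by
    have := hb j
    rw [h, map_zero, mul_eq_zero] at this
    exact this.elim (ha0 j) (IsLocalization.map_units A (b j).2).ne_zero
  have hc0 : ∀ j, c j ≠ 0 := fun j => mul_ne_zero (nonZeroDivisors.coe_ne_zero ⟨(u j : R), hS (u j).2⟩) (hb0 j)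
  have hcy : ∀ j, c j • (y j).1 = 0 := fun j => by rw [mul_smul, ← Submonoid.smul_def, hu]
  have hspan : ∀ j, Ideal.span {a j} = Ideal.span {algebraMap R A (c j)} := fun j => by
    rw [map_mul, ← hb j, ← mul_assoc, mul_comm _ (a j), mul_assoc,
      Ideal.span_singleton_mul_right_unit ((IsLocalization.map_units A (u j)).mul (IsLocalization.map_units A (b j).2))]
  have hloc := fun j => isLocalized_quot S A (c j) (a j) (hspan j)
  choose h s hs using fun j => (haveI := hloc j;
    Module.FinitePresentation.exists_lift_of_isLocalizedModule S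
      (quotMap A (c j) (a j) (hspan j)) ((l j).restrictScalars R ∘ₗ mk))
  let i : T →ₗ[R] ((j : Fin n) → R ⧸ Ideal.span {c j}) :=
    LinearMap.pi fun j => (((∏ k ∈ Finset.univ.erase j, ((s k : R) * ((y k).2 : R)))) : R) • h j
  let p : ((j : Fin n) → R ⧸ Ideal.span {c j}) →ₗ[R] T :=
    ∑ j, (Submodule.liftQ (Ideal.span {c j}) (LinearMap.toSpanSingleton R T (y j).1) (fun r hr => by
      obtain ⟨d, rfl⟩ := Ideal.mem_span_singleton.mp hr
      simp [mul_comm (c j), mul_smul, hcy j])) ∘ₗ LinearMap.proj j
  let S0 : R := ∏ k, ((s k : R) * ((y k).2 : R))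
  have hS0 : S0 ∈ S := prod_mem fun k _ => mul_mem (s k).2 (y k).2.2
  have key : ∀ t, mk (p (i t)) = mk (S0 • t) := by
    intro t
    choose r hr using fun j => Ideal.Quotient.mk_surjective (l j (mk t))
    choose w hw using fun j => Ideal.Quotient.mk_surjective (h j t)
    have h1 : ∀ j, (algebraMap R A (w j)) • x j = ((s j : R)) • (r j • x j) := by
      intro j
      have e := LinearMap.congr_fun (hs j) t
      simp only [LinearMap.comp_apply, ← hw j, LinearMap.smul_apply, LinearMap.restrictScalars_apply, ← hr j] at e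
      rw [Submonoid.smul_def] at e
      change Submodule.Quotient.mk (algebraMap R A (w j)) = (s j : R) • Submodule.Quotient.mk (r j) at e
      rw [← Submodule.Quotient.mk_smul, Submodule.Quotient.eq, Ideal.mem_span_singleton] at e
      obtain ⟨d, hd⟩ := e
      rw [sub_eq_iff_eq_add] at hd
      rw [hd, add_smul, mul_comm, mul_smul, hax, smul_zero, zero_add, smul_assoc]
    simp only [p, i, LinearMap.sum_apply, LinearMap.comp_apply, LinearMap.proj_apply, LinearMap.pi_apply,
      LinearMap.smul_apply, ← hw, map_smul, map_sum]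
    calc ∑ j, (∏ k ∈ Finset.univ.erase j, ((s k : R) * ((y k).2 : R))) •
          mk (Submodule.liftQ (Ideal.span {c j}) (LinearMap.toSpanSingleton R T (y j).1) _ (Ideal.Quotient.mk _ (w j)))
        = ∑ j, S0 • (r j • x j) := by
          refine Finset.sum_congr rfl fun j _ => ?_
          rw [show Submodule.liftQ (Ideal.span {c j}) (LinearMap.toSpanSingleton R T (y j).1) _
            (Ideal.Quotient.mk _ (w j)) = w j • (y j).1 from rfl, map_smul, ← hy j, Submonoid.smul_def,
            smul_comm (w j), ← algebraMap_smul A (w j), h1]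
          simp only [S0]
          rw [← Finset.prod_erase_mul _ _ (Finset.mem_univ j), mul_smul, mul_smul, smul_comm ((y j).2 : R)]
      _ = S0 • mk t := by rw [← Finset.smul_sum, hsum (mk t) r hr]
  obtain ⟨G, hG⟩ := (Module.Finite.fg_top : (⊤ : Submodule R T).FG)
  choose v hv using fun t => IsLocalizedModule.exists_of_eq (S := S) (f := mk) (key t)
  have hV : (∏ g ∈ G, v g : S) • (p ∘ₗ i) = (∏ g ∈ G, v g : S) • (S0 • LinearMap.id) := by
    refine LinearMap.ext_on hG fun g hg => ?_
    simp only [LinearMap.smul_apply, LinearMap.comp_apply, LinearMap.id_apply]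
    rw [← Finset.prod_erase_mul _ _ hg, mul_smul, hv g, ← mul_smul]
  refine ⟨n, c, ((∏ g ∈ G, v g : S) : R) • i, p, ((∏ g ∈ G, v g : S) : R) * S0, hc0, ?_, ?_⟩
  · exact mul_mem (∏ g ∈ G, v g : S).2 hS0
  · rw [LinearMap.comp_smul, ← Submonoid.smul_def, hV, Submonoid.smul_def, mul_smul]

end Groth.Agent.BezoutTorsion
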