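import Mathlib

/-!
Gram matrix of shifted binomial rows.
-/

namespace Groth.Agent.BinomGram

open Finset Matrix

lemma sum_choose_mul_shift (n d L : ℕ) (hL : n + 1 ≤ L + d) :
    ∑ a ∈ range L, n.choose (a + d) * n.choose a = (2 * n).choose (n + d) := by
  by_cases hd : d ≤ n
  · rw [← Finset.sum_subset (s₁ := range (n - d + 1)) (fun a ha => by
        simp only [mem_range] at ha ⊢; omega) (fun a _ ha => by
        simp only [mem_range, not_lt] at ha
        rw [Nat.choose_eq_zero_of_lt (show n < a + d by omega), zero_mul])]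
    have h := Nat.add_choose_eq n n (n - d)
    rw [Finset.Nat.sum_antidiagonal_eq_sum_range_succ_mk, ← two_mul] at h
    rw [show (2 * n).choose (n + d) = (2 * n).choose (n - d) from
      Nat.choose_symm_of_eq_add (by omega), h]
    refine Finset.sum_congr rfl fun a ha => ?_
    simp only [mem_range] at ha
    rw [mul_comm, show n.choose (n - d - a) = n.choose (a + d) from
      Nat.choose_symm_of_eq_add (by omega)]
  · rw [Nat.choose_eq_zero_of_lt (show 2 * n < n + d by omega)]
    exact Finset.sum_eq_zero fun a _ => by rw [Nat.choose_eq_zero_of_lt (by omega), zero_mul]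

/-- The matrix of shifted signed binomial rows. -/
def B (n m : ℕ) : Matrix (Fin (n + m)) (Fin m) ℝ :=
  Matrix.of fun k j => if (j : ℕ) ≤ (k : ℕ) then (-1) ^ (j : ℕ) * (n.choose ((k : ℕ) - j) : ℝ) else 0

lemma gram (n m : ℕ) (i j : Fin m) :
    ((B n m).transpose * B n m) i j =
      (-1) ^ ((i : ℕ) + (j : ℕ)) * ((2 * n).choose (n + Nat.dist i j) : ℝ) := by
  wlog hij : (i : ℕ) ≤ j generalizing i j
  · have := this j i (by omega)
    rw [Nat.dist_comm, add_comm (i : ℕ)]
    rw [← this, Matrix.mul_apply, Matrix.mul_apply]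
    exact Finset.sum_congr rfl fun k _ => mul_comm _ _
  rw [Nat.dist_eq_sub_of_le hij, ← sum_choose_mul_shift n ((j : ℕ) - i) (n + m - j) (by omega),
    Matrix.mul_apply, Nat.cast_sum, Finset.mul_sum]
  simp only [Matrix.transpose_apply, B, Matrix.of_apply]
  rw [Fin.sum_univ_eq_sum_range (fun k =>
    (if (i : ℕ) ≤ k then (-1 : ℝ) ^ (i : ℕ) * (n.choose (k - i) : ℝ) else 0) *
      (if (j : ℕ) ≤ k then (-1 : ℝ) ^ (j : ℕ) * (n.choose (k - j) : ℝ) else 0)),
    ← Finset.sum_range_add_sum_Ico _ (show (j : ℕ) ≤ n + m by omega),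
    Finset.sum_eq_zero (fun k hk => by
      simp only [mem_range] at hk
      rw [if_neg (by omega : ¬ (j : ℕ) ≤ k), mul_zero]), zero_add,
    Finset.sum_Ico_eq_sum_range]
  refine Finset.sum_congr rfl fun a _ => ?_
  rw [if_pos (by omega), if_pos (by omega), show (j : ℕ) + a - i = a + ((j : ℕ) - i) by omega,
    show (j : ℕ) + a - j = a by omega, pow_add]
  push_cast
  ring

lemma posDef (n m : ℕ) : (Matrix.of fun i j : Fin m =>
    (-1 : ℝ) ^ ((i : ℕ) + (j : ℕ)) * ((2 * n).choose (n + Nat.dist i j) : ℝ)).PosDef := by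
  have h : (Matrix.of fun i j : Fin m =>
      (-1 : ℝ) ^ ((i : ℕ) + (j : ℕ)) * ((2 * n).choose (n + Nat.dist i j) : ℝ)) =
      (B n m).conjTranspose * B n m := by
    rw [Matrix.conjTranspose_eq_transpose_of_trivial]
    ext i j
    rw [gram]
    rfl
  rw [h]
  refine Matrix.PosDef.conjTranspose_mul_self _ ?_
  intro v w hvw
  rw [← sub_eq_zero]
  have h0 : (B n m).mulVec (v - w) = 0 := by rw [Matrix.mulVec_sub, hvw, sub_self]
  generalize v - w = u at h0
  funext j
  induction j using WellFoundedLT.induction with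
  | _ j ih =>
    have hk := congrFun h0 ⟨j, by omega⟩
    rw [Matrix.mulVec, dotProduct, Finset.sum_eq_single j] at hk
    · simpa [B] using hk
    · intro b _ hb
      rcases lt_or_gt_of_ne hb with hlt | hgt
      · rw [ih b hlt]
        simp
      · simp only [B, Matrix.of_apply]
        rw [if_neg (by exact Nat.not_le.2 (Fin.lt_def.1 hgt)), zero_mul]
    · simp

end Groth.Agent.BinomGram
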