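import Groth.Agent.Lib.H7CSATensor

/-! Modules over simple artinian algebras, Skolem–Noether, centralizers. -/

set_option autoImplicit false

open scoped TensorProduct

universe u v w x

namespace Groth.Agent.H7CSA

section modules

variable (k : Type u) [Field k] (R : Type v) [Ring R] [Algebra k R] [IsSimpleRing R]
  [FiniteDimensional k R]

include k in
lemma exists_common_simple (M : Type w) [AddCommGroup M] [Module R M] [Module k M]
    [IsScalarTower k R M] [FiniteDimensional k M]
    (N : Type x) [AddCommGroup N] [Module R N] [Module k N]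
    [IsScalarTower k R N] [FiniteDimensional k N] :
    ∃ (P : Type max w x v) (_ : AddCommGroup P) (_ : Module R P) (_ : Module k P)
      (_ : IsScalarTower k R P) (S : Submodule R P),
      IsSimpleModule R S ∧ FiniteDimensional k P ∧
      (∃ a : ℕ, Nonempty (M ≃ₗ[R] (Fin a → S))) ∧ (∃ b : ℕ, Nonempty (N ≃ₗ[R] (Fin b → S))) ∧
      (∃ c : ℕ, c ≠ 0 ∧ Nonempty (R ≃ₗ[R] (Fin c → S))) := by
  have : IsArtinianRing R := IsArtinianRing.of_finite k R
  have : Module.Finite R M := Module.Finite.of_restrictScalars_finite k R M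
  have : Module.Finite R N := Module.Finite.of_restrictScalars_finite k R N
  obtain ⟨a, ha, S, hS, -⟩ := (IsSimpleRing.isIsotypic R ((M × N) × R)).linearEquiv_fun
  have h : IsIsotypicOfType R ((M × N) × R) S := IsSimpleRing.isIsotypic R _ S
  refine ⟨(M × N) × R, inferInstance, inferInstance, inferInstance, inferInstance, S, hS, inferInstance, ?_, ?_, ?_⟩
  · exact (h.of_injective ((LinearMap.inl R (M × N) R).comp (LinearMap.inl R M N))
      (LinearMap.inl_injective.comp LinearMap.inl_injective)).linearEquiv_fun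
  · exact (h.of_injective ((LinearMap.inl R (M × N) R).comp (LinearMap.inr R M N))
      (LinearMap.inl_injective.comp LinearMap.inr_injective)).linearEquiv_fun
  · obtain ⟨c, ⟨e⟩⟩ := (h.of_injective (LinearMap.inr R (M × N) R) LinearMap.inr_injective).linearEquiv_fun
    refine ⟨c, ?_, ⟨e⟩⟩
    rintro rfl
    exact one_ne_zero (e.injective (Subsingleton.elim (e 1) (e 0)))

lemma finrank_fun_submodule (P : Type w) [AddCommGroup P] [Module R P] [Module k P]
    [IsScalarTower k R P] [FiniteDimensional k P] (S : Submodule R P)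
    (M : Type x) [AddCommGroup M] [Module R M] [Module k M] [IsScalarTower k R M] (a : ℕ)
    (e : M ≃ₗ[R] (Fin a → S)) : Module.finrank k M = a * Module.finrank k S := by
  have : FiniteDimensional k S := inferInstanceAs (FiniteDimensional k (S.restrictScalars k))
  rw [(e.restrictScalars k).finrank_eq, Module.finrank_pi_fintype]
  simp

include k in
/-- Modules over a simple algebra are determined by their dimension. -/
theorem nonempty_linearEquiv_of_finrank_eq (M : Type w) [AddCommGroup M] [Module R M] [Module k M]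
    [IsScalarTower k R M] [FiniteDimensional k M]
    (N : Type x) [AddCommGroup N] [Module R N] [Module k N]
    [IsScalarTower k R N] [FiniteDimensional k N]
    (h : Module.finrank k M = Module.finrank k N) : Nonempty (M ≃ₗ[R] N) := by
  obtain ⟨P, _, _, _, _, S, hS, _, ⟨a, ⟨ea⟩⟩, ⟨b, ⟨eb⟩⟩, -⟩ := exists_common_simple k R M N
  have : FiniteDimensional k S := inferInstanceAs (FiniteDimensional k (S.restrictScalars k))
  have : Nontrivial S := IsSimpleModule.nontrivial R S
  have hpos : 0 < Module.finrank k S := Module.finrank_pos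
  rw [finrank_fun_submodule k R P S M a ea, finrank_fun_submodule k R P S N b eb] at h
  obtain rfl : a = b := Nat.eq_of_mul_eq_mul_right hpos h
  exact ⟨ea.trans eb.symm⟩

open Classical in
/-- The endomorphism algebra of a nonzero module over a simple algebra is simple, and the
double-centralizer dimension formula holds. -/
theorem isSimpleRing_end_and_finrank (M : Type w) [AddCommGroup M] [Module R M] [Module k M]
    [IsScalarTower k R M] [FiniteDimensional k M] [Nontrivial M] :
    IsSimpleRing (Module.End R M) ∧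
      Module.finrank k R * Module.finrank k (Module.End R M) = Module.finrank k M ^ 2 := by
  obtain ⟨P, _, _, _, _, S, hS, _, ⟨a, ⟨ea⟩⟩, -, ⟨c, hc, ⟨ec⟩⟩⟩ := exists_common_simple k R M M
  have : FiniteDimensional k S := inferInstanceAs (FiniteDimensional k (S.restrictScalars k))
  have ha : NeZero a := ⟨by
    rintro rfl
    exact not_subsingleton M ea.toEquiv.subsingleton⟩
  let eM : Module.End R M ≃ₐ[k] Matrix (Fin a) (Fin a) (Module.End R S) :=
    (ea.conjAlgEquiv k).trans (endVecAlgEquivMatrixEnd ..)
  let eR : Rᵐᵒᵖ ≃ₐ[k] Matrix (Fin c) (Fin c) (Module.End R S) :=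
    (AlgEquiv.moduleEndSelf k).trans ((ec.conjAlgEquiv k).trans (endVecAlgEquivMatrixEnd ..))
  refine ⟨.of_ringEquiv eM.symm.toRingEquiv inferInstance, ?_⟩
  have h1 := eM.toLinearEquiv.finrank_eq
  have h2 := eR.toLinearEquiv.finrank_eq
  have h3 : Module.finrank k Rᵐᵒᵖ = Module.finrank k R :=
    (MulOpposite.opLinearEquiv k (M := R)).symm.finrank_eq
  rw [Module.finrank_matrix] at h1 h2
  simp only [Fintype.card_fin] at h1 h2
  rw [h3] at h2
  have h4 := finrank_fun_submodule k R P S R c ec
  have h5 := finrank_fun_submodule k R P S M a ea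
  have hs : Module.finrank k S = c * Module.finrank k (Module.End R S) := by
    apply Nat.eq_of_mul_eq_mul_left (Nat.pos_of_ne_zero hc)
    rw [← h4, h2, Nat.mul_assoc]
  rw [h1, h5]
  nth_rw 1 [h4]
  rw [hs]
  ring

end modules

section twist

variable {k : Type u} [Field k] {A : Type v} [Ring A] [Algebra k A]
  {B : Type w} [Ring B] [Algebra k B]

/-- `A` viewed as a module over `B ⊗ Aᵐᵒᵖ` through `f : B →ₐ A`. -/
def Tw (_f : B →ₐ[k] A) : Type v := A

variable (f : B →ₐ[k] A)

/-- `(b ⊗ a) ↦ (x ↦ f b * x * a)`. -/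
noncomputable def twAct : B ⊗[k] Aᵐᵒᵖ →ₐ[k] Module.End k A :=
  Algebra.TensorProduct.lift ((Algebra.lmul k A).comp f) (Algebra.lsmul k k A)
    (fun b a => show Commute _ _ from LinearMap.ext fun x => by simp [mul_assoc])

lemma twAct_tmul (b : B) (a : Aᵐᵒᵖ) (x : A) : twAct f (b ⊗ₜ a) x = f b * x * a.unop := by
  rw [twAct, Algebra.TensorProduct.lift_tmul]
  simp [mul_assoc]

instance : AddCommGroup (Tw f) := inferInstanceAs (AddCommGroup A)
instance : Module k (Tw f) := inferInstanceAs (Module k A)
noncomputable instance : Module (B ⊗[k] Aᵐᵒᵖ) (Tw f) :=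
  Module.compHom A (twAct f).toRingHom

/-- the identity map `A → Tw f`. -/
def toTw : A ≃ₗ[k] Tw f := LinearEquiv.refl k A

lemma tw_smul (r : B ⊗[k] Aᵐᵒᵖ) (x : A) : r • toTw f x = toTw f (twAct f r x) := rfl

lemma tw_tmul_smul (b : B) (a : Aᵐᵒᵖ) (x : A) :
    (b ⊗ₜ[k] a) • toTw f x = toTw f (f b * x * a.unop) := by rw [tw_smul, twAct_tmul]

instance : IsScalarTower k (B ⊗[k] Aᵐᵒᵖ) (Tw f) := ⟨fun c r x => by
  obtain ⟨x, rfl⟩ := (toTw f).surjective x
  rw [tw_smul, tw_smul, map_smul, LinearMap.smul_apply, map_smul]⟩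

instance [FiniteDimensional k A] : FiniteDimensional k (Tw f) :=
  inferInstanceAs (FiniteDimensional k A)
instance [Nontrivial A] : Nontrivial (Tw f) := inferInstanceAs (Nontrivial A)

lemma tw_end_apply (φ : Module.End (B ⊗[k] Aᵐᵒᵖ) (Tw f)) (x : A) :
    φ (toTw f x) = toTw f ((toTw f).symm (φ (toTw f 1)) * x) := by
  have h := φ.map_smul ((1 : B) ⊗ₜ[k] MulOpposite.op x) (toTw f 1)
  rw [tw_tmul_smul, map_one, one_mul, one_mul, MulOpposite.unop_op] at h
  rw [h]
  conv_lhs => rw [← (toTw f).apply_symm_apply (φ (toTw f 1))]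
  rw [tw_tmul_smul, map_one, one_mul, MulOpposite.unop_op]

/-- `End_{B ⊗ Aᵒᵖ}(A)` is the centralizer of the image of `B`. -/
noncomputable def twEndEquiv : Module.End (B ⊗[k] Aᵐᵒᵖ) (Tw f) ≃ₐ[k]
    Subalgebra.centralizer k (Set.range f) :=
  AlgEquiv.ofBijective
    (AlgHom.codRestrict
      { toFun := fun φ => (toTw f).symm (φ (toTw f 1))
        map_one' := rfl
        map_mul' := fun φ ψ => by
          rw [Module.End.mul_apply]
          conv_lhs => rw [← (toTw f).apply_symm_apply (ψ (toTw f 1)), tw_end_apply f φ,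
            LinearEquiv.symm_apply_apply]
        map_zero' := rfl
        map_add' := fun _ _ => rfl
        commutes' := fun c => by
          rw [Module.algebraMap_end_apply, map_smul, LinearEquiv.symm_apply_apply,
            Algebra.algebraMap_eq_smul_one] }
      (Subalgebra.centralizer k (Set.range f))
      (fun φ => by
        rw [Subalgebra.mem_centralizer_iff]
        rintro _ ⟨b, rfl⟩
        change f b * (toTw f).symm (φ (toTw f 1)) = (toTw f).symm (φ (toTw f 1)) * f b
        have h := φ.map_smul (b ⊗ₜ[k] (1 : Aᵐᵒᵖ)) (toTw f 1)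
        rw [tw_tmul_smul, MulOpposite.unop_one, mul_one, mul_one, tw_end_apply f φ] at h
        nth_rw 2 [← (toTw f).apply_symm_apply (φ (toTw f 1))] at h
        rw [tw_tmul_smul, MulOpposite.unop_one, mul_one] at h
        exact ((toTw f).injective h).symm))
    ⟨fun φ ψ h => by
      apply LinearMap.ext
      intro x
      obtain ⟨x, rfl⟩ := (toTw f).surjective x
      rw [tw_end_apply f φ, tw_end_apply f ψ]
      have h' : (toTw f).symm (φ (toTw f 1)) = (toTw f).symm (ψ (toTw f 1)) := congrArg Subtype.val h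
      rw [h'],
    fun c => by
      refine ⟨
        { toFun := fun x => toTw f (c.1 * (toTw f).symm x)
          map_add' := fun x y => by simp [mul_add]
          map_smul' := fun r x => by
            obtain ⟨x, rfl⟩ := (toTw f).surjective x
            rw [RingHom.id_apply, tw_smul, LinearEquiv.symm_apply_apply, LinearEquiv.symm_apply_apply,
              tw_smul]
            congr 1
            induction r using TensorProduct.induction_on with
            | zero => simp
            | tmul b a =>
              rw [twAct_tmul, twAct_tmul, ← mul_assoc, ← mul_assoc,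
                ← Subalgebra.mem_centralizer_iff k |>.mp c.2 (f b) ⟨b, rfl⟩, mul_assoc (f b) c.1]
            | add p q hp hq => simp only [map_add, LinearMap.add_apply, mul_add, hp, hq] }, ?_⟩
      apply Subtype.ext
      change (toTw f).symm (toTw f (c.1 * (toTw f).symm (toTw f 1))) = c.1
      simp⟩

lemma finiteDimensional_of_algHom [IsSimpleRing B] [Nontrivial A] [FiniteDimensional k A]
    (f : B →ₐ[k] A) : FiniteDimensional k B :=
  FiniteDimensional.of_injective f.toLinearMap f.toRingHom.injective

variable [Algebra.IsCentral k A] [IsSimpleRing A] [FiniteDimensional k A] [IsSimpleRing B]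

instance : Algebra.IsCentral k Aᵐᵒᵖ where
  out := fun x hx => by
    have : x.unop ∈ Subalgebra.center k A := Subalgebra.mem_center_iff.mpr fun a =>
      (congrArg MulOpposite.unop (Subalgebra.mem_center_iff.mp hx (MulOpposite.op a))).symm
    obtain ⟨c, hc⟩ := Algebra.mem_bot.mp (Algebra.IsCentral.out this)
    exact Algebra.mem_bot.mpr ⟨c, by rw [MulOpposite.algebraMap_apply, hc, MulOpposite.op_unop]⟩

theorem skolemNoether (f g : B →ₐ[k] A) :
    ∃ x : Aˣ, ∀ b : B, f b = (x : A) * g b * (x⁻¹ : Aˣ) := by
  have : FiniteDimensional k B := finiteDimensional_of_algHom f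
  have : IsSimpleRing (B ⊗[k] Aᵐᵒᵖ) := isSimpleRing_tensor k B Aᵐᵒᵖ
  have : IsScalarTower k (B ⊗[k] Aᵐᵒᵖ) (Tw f) := inferInstance
  have : IsScalarTower k (B ⊗[k] Aᵐᵒᵖ) (Tw g) := inferInstance
  obtain ⟨φ⟩ : Nonempty (Tw g ≃ₗ[B ⊗[k] Aᵐᵒᵖ] Tw f) :=
    nonempty_linearEquiv_of_finrank_eq k (B ⊗[k] Aᵐᵒᵖ) (Tw g) (Tw f) rfl
  set u : A := (toTw f).symm (φ (toTw g 1)) with hu
  have hφ : ∀ x : A, φ (toTw g x) = toTw f (u * x) := by
    intro x
    have h := φ.map_smul ((1 : B) ⊗ₜ[k] MulOpposite.op x) (toTw g 1)
    rw [tw_tmul_smul, map_one, one_mul, one_mul, MulOpposite.unop_op] at h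
    rw [h]
    conv_lhs => rw [← (toTw f).apply_symm_apply (φ (toTw g 1))]
    rw [tw_tmul_smul, map_one, one_mul, MulOpposite.unop_op]
  obtain ⟨v, hv⟩ := (toTw g).surjective (φ.symm (toTw f 1))
  have huv : u * v = 1 := (toTw f).injective (by rw [← hφ, hv, φ.apply_symm_apply])
  have hvu : v * u = 1 := by
    have h1 : φ (toTw g (v * u)) = φ (toTw g 1) := by
      rw [hφ, hφ, ← mul_assoc, huv, one_mul, mul_one]
    exact (toTw g).injective (φ.injective h1)
  refine ⟨⟨u, v, huv, hvu⟩, fun b => ?_⟩
  have h := φ.map_smul (b ⊗ₜ[k] (1 : Aᵐᵒᵖ)) (toTw g 1)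
  rw [tw_tmul_smul, MulOpposite.unop_one, mul_one, mul_one, hφ, hφ, tw_tmul_smul, mul_one,
    MulOpposite.unop_one, mul_one] at h
  have h' := (toTw f).injective h
  change f b = u * g b * v
  rw [h', mul_assoc, huv, mul_one]

theorem centralizer_range (f : B →ₐ[k] A) :
    IsSimpleRing (Subalgebra.centralizer k (Set.range f)) ∧
      Module.finrank k A =
        Module.finrank k B * Module.finrank k (Subalgebra.centralizer k (Set.range f)) := by
  have : FiniteDimensional k B := finiteDimensional_of_algHom f
  have : IsSimpleRing (B ⊗[k] Aᵐᵒᵖ) := isSimpleRing_tensor k B Aᵐᵒᵖ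
  obtain ⟨h1, h2⟩ := isSimpleRing_end_and_finrank k (B ⊗[k] Aᵐᵒᵖ) (Tw f)
  refine ⟨.of_ringEquiv (twEndEquiv f).toRingEquiv h1, ?_⟩
  rw [(twEndEquiv f).toLinearEquiv.finrank_eq, Module.finrank_tensorProduct,
    show Module.finrank k (Tw f) = Module.finrank k A from rfl,
    show Module.finrank k Aᵐᵒᵖ = Module.finrank k A from
      (MulOpposite.opLinearEquiv k (M := A)).symm.finrank_eq, sq] at h2
  have hA : 0 < Module.finrank k A := Module.finrank_pos
  nlinarith [h2]

theorem centralizer_subalgebra (B : Subalgebra k A) [IsSimpleRing B] :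
    IsSimpleRing (Subalgebra.centralizer k (B : Set A)) ∧
      Module.finrank k A =
        Module.finrank k B * Module.finrank k (Subalgebra.centralizer k (B : Set A)) := by
  have h := centralizer_range B.val
  rwa [show Set.range B.val = (B : Set A) from Subtype.range_val] at h

theorem double_centralizer (B : Subalgebra k A) [IsSimpleRing B] :
    Subalgebra.centralizer k (Subalgebra.centralizer k (B : Set A) : Set A) = B := by
  obtain ⟨h1, h2⟩ := centralizer_subalgebra B
  have := h1
  obtain ⟨-, h3⟩ := centralizer_subalgebra (Subalgebra.centralizer k (B : Set A))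
  have hle : B ≤ Subalgebra.centralizer k (Subalgebra.centralizer k (B : Set A) : Set A) :=
    Subalgebra.le_centralizer_centralizer k
  refine (Subalgebra.eq_of_le_of_finrank_eq hle ?_).symm
  have hC : 0 < Module.finrank k (Subalgebra.centralizer k (B : Set A)) := Module.finrank_pos
  apply Nat.eq_of_mul_eq_mul_left hC
  rw [Nat.mul_comm, ← h2, ← h3]

theorem tensor_centralizer_bijective (B : Subalgebra k A) [IsSimpleRing B] [Algebra.IsCentral k B] :
    Function.Bijective (Algebra.TensorProduct.lift B.val (Subalgebra.centralizer k (B : Set A)).val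
      (fun x y => y.2 x.1 x.2)) := by
  obtain ⟨h1, h2⟩ := centralizer_subalgebra B
  have := h1
  have : FiniteDimensional k B := FiniteDimensional.finiteDimensional_subalgebra B
  have hs : IsSimpleRing (Subalgebra.centralizer k (B : Set A) ⊗[k] B) := isSimpleRing_tensor k _ _
  have : IsSimpleRing (B ⊗[k] Subalgebra.centralizer k (B : Set A)) :=
    .of_ringEquiv (Algebra.TensorProduct.comm k _ _).toRingEquiv hs
  set φ := Algebra.TensorProduct.lift B.val (Subalgebra.centralizer k (B : Set A)).val
      (fun x y => y.2 x.1 x.2)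
  have hinj : Function.Injective φ := φ.toRingHom.injective
  exact ⟨hinj, (LinearMap.injective_iff_surjective_of_finrank_eq_finrank
    (f := φ.toLinearMap) (by rw [Module.finrank_tensorProduct, ← h2])).mp hinj⟩

end twist

end Groth.Agent.H7CSA
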