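import Groth.Agent.Lib.H7CSAModule
import Groth.Prelude.Def_Curves

/-! Splitting fields of central simple algebras. -/

set_option autoImplicit false

open scoped TensorProduct

universe u v w x

namespace Groth.Agent.H7CSA

/-- `A ⊗ Mₙ(R) ≅ Mₙ(A)` as `S`-algebras. -/
noncomputable def mte (R : Type u) (S : Type v) (A : Type w) (n : Type x) [CommSemiring R]
    [CommSemiring S] [Semiring A] [Algebra R A] [Algebra S A] [SMulCommClass R S A]
    [Fintype n] [DecidableEq n] : A ⊗[R] Matrix n n R ≃ₐ[S] Matrix n n A :=
  AlgEquiv.ofRingEquiv (f := (matrixEquivTensor n R A).symm.toRingEquiv) fun c => by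
    change (matrixEquivTensor n R A).symm ((algebraMap S A c) ⊗ₜ[R] (1 : Matrix n n R)) = _
    rw [matrixEquivTensor_apply_symm, Matrix.map_one _ (map_zero _) (map_one _),
      Matrix.algebraMap_eq_diagonal, Matrix.smul_one_eq_diagonal]
    rfl

section uniqueness

open Matrix.Module

variable {k : Type u} [Field k]

lemma isSimpleModule_col (D : Type v) [DivisionRing D] (n : Type w) [Fintype n] [DecidableEq n]
    [Nonempty n] : IsSimpleModule (Matrix n n D) (n → D) := by
  rw [isSimpleModule_iff, isSimpleOrder_iff]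
  refine ⟨?_, fun N => or_iff_not_imp_left.mpr fun hN => ?_⟩
  · exact (Submodule.nontrivial_iff (Matrix n n D)).mpr inferInstance
  obtain ⟨v, hv, hv0⟩ := Submodule.exists_mem_ne_zero_of_ne_bot hN
  obtain ⟨j, hj⟩ := Function.ne_iff.mp hv0
  refine eq_top_iff.mpr fun w _ => ?_
  have : (∑ i, Matrix.single i j (w i * (v j)⁻¹) • v) = w := by
    ext i
    simp [mul_assoc, inv_mul_cancel₀ hj]
  exact this ▸ N.sum_mem fun i _ => N.smul_mem _ hv

/-- endomorphisms of the column module are right multiplications. -/
noncomputable def endCol (k : Type u) [Field k] (D : Type v) [DivisionRing D] [Algebra k D]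
    (n : Type w) [Fintype n] [DecidableEq n] [Nonempty n] :
    Dᵐᵒᵖ ≃ₐ[k] Module.End (Matrix n n D) (n → D) :=
  AlgEquiv.ofBijective
    { toFun := fun d =>
        { toFun := fun v i => v i * d.unop
          map_add' := fun v w => funext fun i => by simp [add_mul]
          map_smul' := fun M v => funext fun i => by simp [Finset.sum_mul, mul_assoc] }
      map_one' := LinearMap.ext fun v => funext fun i => by simp
      map_mul' := fun a b => LinearMap.ext fun v => funext fun i => by simp [mul_assoc]
      map_zero' := LinearMap.ext fun v => funext fun i => by simp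
      map_add' := fun a b => LinearMap.ext fun v => funext fun i => by simp [mul_add]
      commutes' := fun c => LinearMap.ext fun v => funext fun i => by
        simp [Algebra.algebraMap_eq_smul_one] }
    (by
      constructor
      · intro a b h
        have := congrFun (LinearMap.congr_fun h fun _ => (1 : D)) (Classical.arbitrary n)
        simpa using this
      · intro φ
        set j := Classical.arbitrary n
        refine ⟨MulOpposite.op (φ (Pi.single j 1) j), ?_⟩
        apply LinearMap.ext
        intro v
        set M : Matrix n n D := Matrix.of fun i l => if l = j then v i else 0 with hM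
        have h1 : M • (Pi.single j (1 : D) : n → D) = v := by
          ext i; simp [hM, ite_mul]
        conv_rhs => rw [← h1, map_smul]
        ext i
        simp [hM, ite_mul])

include k in
lemma nonempty_linearEquiv_of_isSimpleModule (R : Type v) [Ring R] [Algebra k R] [IsSimpleRing R]
    [FiniteDimensional k R] (M : Type w) [AddCommGroup M] [Module R M] [IsSimpleModule R M]
    (N : Type x) [AddCommGroup N] [Module R N] [IsSimpleModule R N] :
    Nonempty (M ≃ₗ[R] N) := by
  have : IsArtinianRing R := IsArtinianRing.of_finite k R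
  let i₁ := LinearEquiv.ofInjective (LinearMap.inl R M N) LinearMap.inl_injective
  let i₂ := LinearEquiv.ofInjective (LinearMap.inr R M N) LinearMap.inr_injective
  have := IsSimpleModule.congr i₁.symm
  have := IsSimpleModule.congr i₂.symm
  obtain ⟨e⟩ := IsSimpleRing.isIsotypic R (M × N) (LinearMap.range (LinearMap.inr R M N))
    (LinearMap.range (LinearMap.inl R M N))
  exact ⟨i₁.trans (e.trans i₂.symm)⟩

/-- The skew field underlying a matrix algebra is unique. -/
theorem divisionRing_unique (D : Type v) [DivisionRing D] [Algebra k D] [FiniteDimensional k D]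
    (D' : Type w) [DivisionRing D'] [Algebra k D']
    (n m : ℕ) (hn : n ≠ 0) (hm : m ≠ 0)
    (e : Matrix (Fin n) (Fin n) D ≃ₐ[k] Matrix (Fin m) (Fin m) D') :
    Nonempty (D ≃ₐ[k] D') := by
  have : NeZero n := ⟨hn⟩
  have : NeZero m := ⟨hm⟩
  have := isSimpleModule_col D (Fin n)
  have := isSimpleModule_col D' (Fin m)
  letI M' : Module (Matrix (Fin n) (Fin n) D) (Fin m → D') :=
    Module.compHom _ e.toAlgHom.toRingHom
  have hs' : ∀ (r : Matrix (Fin n) (Fin n) D) (v : Fin m → D'), r • v = e r • v := fun _ _ => rfl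
  have : IsSimpleModule (Matrix (Fin n) (Fin n) D) (Fin m → D') := by
    rw [isSimpleModule_iff, isSimpleOrder_iff]
    refine ⟨(Submodule.nontrivial_iff _).mpr inferInstance, fun N => ?_⟩
    let N' : Submodule (Matrix (Fin m) (Fin m) D') (Fin m → D') :=
      { carrier := N
        add_mem' := N.add_mem
        zero_mem' := N.zero_mem
        smul_mem' := fun r v hv => by
          have := N.smul_mem (e.symm r) hv
          rwa [hs', e.apply_symm_apply] at this }
    rcases eq_bot_or_eq_top N' with h | h
    · exact Or.inl (SetLike.ext fun v => by rw [show v ∈ N ↔ v ∈ N' from Iff.rfl, h]; simp)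
    · exact Or.inr (SetLike.ext fun v => by rw [show v ∈ N ↔ v ∈ N' from Iff.rfl, h]; simp)
  obtain ⟨φ⟩ := nonempty_linearEquiv_of_isSimpleModule (k := k) (Matrix (Fin n) (Fin n) D)
    (Fin n → D) (Fin m → D')
  have : IsScalarTower k (Matrix (Fin n) (Fin n) D) (Fin m → D') := ⟨fun c r v => by
    rw [hs', hs', map_smul, smul_assoc]⟩
  let E : Module.End (Matrix (Fin n) (Fin n) D) (Fin m → D') ≃ₐ[k]
      Module.End (Matrix (Fin m) (Fin m) D') (Fin m → D') :=
    { toFun := fun f =>
        { toFun := f
          map_add' := f.map_add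
          map_smul' := fun r v => by
            have := f.map_smul (e.symm r) v
            rwa [hs', e.apply_symm_apply, hs', e.apply_symm_apply] at this }
      invFun := fun f =>
        { toFun := f
          map_add' := f.map_add
          map_smul' := fun r v => by rw [RingHom.id_apply, hs', hs', f.map_smul] }
      left_inv := fun f => rfl
      right_inv := fun f => rfl
      map_mul' := fun f g => rfl
      map_add' := fun f g => rfl
      commutes' := fun c => rfl }
  exact ⟨AlgEquiv.op.symm ((endCol k D (Fin n)).trans ((φ.conjAlgEquiv k).trans (E.trans (endCol k D' (Fin m)).symm)))⟩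

end uniqueness

section splits

variable {k : Type u} [Field k]

lemma splits_of_algHom {K : Type v} [Field K] [Algebra k K] {L : Type w} [Field L] [Algebra k L]
    (f : K →ₐ[k] L) {A : Type x} [Ring A] [Algebra k A] (h : Curves.Splits k A K) :
    Curves.Splits k A L := by
  obtain ⟨n, hn, ⟨e⟩⟩ := h
  letI : Algebra K L := f.toRingHom.toAlgebra
  have : IsScalarTower k K L := .of_algHom f
  exact ⟨n, hn, ⟨(((Algebra.TensorProduct.congr (Algebra.TensorProduct.rid K L L).symm
      (AlgEquiv.refl : A ≃ₐ[k] A)).trans (Algebra.TensorProduct.assoc k K L L K A)).trans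
    ((Algebra.TensorProduct.congr AlgEquiv.refl e).trans (mte K L L (Fin n))))⟩⟩

lemma splits_congr {K : Type v} [Field K] [Algebra k K] {A : Type x} [Ring A] [Algebra k A]
    {A' : Type w} [Ring A'] [Algebra k A'] (e : A ≃ₐ[k] A') (h : Curves.Splits k A K) :
    Curves.Splits k A' K := by
  obtain ⟨n, hn, ⟨f⟩⟩ := h
  exact ⟨n, hn, ⟨(Algebra.TensorProduct.congr AlgEquiv.refl e.symm).trans f⟩⟩

/-- `K ⊗ Mₙ(A) ≅ Mₙ(K ⊗ A)`. -/
noncomputable def tensorMatrix (K : Type v) [Field K] [Algebra k K] (A : Type x) [Ring A]
    [Algebra k A] (n : ℕ) :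
    K ⊗[k] Matrix (Fin n) (Fin n) A ≃ₐ[K] Matrix (Fin n) (Fin n) (K ⊗[k] A) :=
  (Algebra.TensorProduct.congr AlgEquiv.refl (matrixEquivTensor (Fin n) k A)).trans
    ((Algebra.TensorProduct.assoc k k K K A (Matrix (Fin n) (Fin n) k)).symm.trans
      (mte k K (K ⊗[k] A) (Fin n)))

/-- flatten nested matrices. -/
noncomputable def flatten (K : Type v) [Field K] (A : Type x) [Ring A] [Algebra K A] (n r : ℕ) :
    Matrix (Fin n) (Fin n) (Matrix (Fin r) (Fin r) A) ≃ₐ[K]
      Matrix (Fin (n * r)) (Fin (n * r)) A :=
  (Matrix.compAlgEquiv _ _ _ _).trans (Matrix.reindexAlgEquiv K A finProdFinEquiv)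

lemma splits_matrix {K : Type v} [Field K] [Algebra k K] {A : Type x} [Ring A] [Algebra k A]
    {n : ℕ} (hn : n ≠ 0) (h : Curves.Splits k A K) :
    Curves.Splits k (Matrix (Fin n) (Fin n) A) K := by
  obtain ⟨r, hr, ⟨e⟩⟩ := h
  exact ⟨n * r, Nat.mul_ne_zero hn hr,
    ⟨(tensorMatrix K A n).trans (e.mapMatrix.trans (flatten K K n r))⟩⟩

lemma splits_of_splits_matrix {K : Type v} [Field K] [Algebra k K] {A : Type x} [Ring A]
    [Algebra k A] [Algebra.IsCentral k A] [IsSimpleRing A] [FiniteDimensional k A]
    {n : ℕ} (hn : n ≠ 0) (h : Curves.Splits k (Matrix (Fin n) (Fin n) A) K) :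
    Curves.Splits k A K := by
  obtain ⟨N, hN, ⟨e⟩⟩ := h
  have := isSimpleRing_baseChange k K A
  have : IsArtinianRing (K ⊗[k] A) := IsArtinianRing.of_finite K _
  obtain ⟨r, hr, D, _, _, _, ⟨f⟩⟩ :=
    IsSimpleRing.exists_algEquiv_matrix_divisionRing_finite K (K ⊗[k] A)
  have g : Matrix (Fin (n * r)) (Fin (n * r)) D ≃ₐ[K] Matrix (Fin N) (Fin N) K :=
    (flatten K D n r).symm.trans (f.symm.mapMatrix.trans ((tensorMatrix K A n).symm.trans e))
  obtain ⟨d⟩ := divisionRing_unique D K (n * r) N (Nat.mul_ne_zero hn hr.out) hN g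
  exact ⟨r, hr.out, ⟨f.trans d.mapMatrix⟩⟩

variable {B : Type v} [Ring B] [Algebra k B] {K : Type w} [Field K] [Algebra k K]

/-- `B` as a `K`-vector space by right multiplication. -/
def RM (_ι : K →ₐ[k] B) : Type v := B

variable (ι : K →ₐ[k] B)

instance : AddCommGroup (RM ι) := inferInstanceAs (AddCommGroup B)
instance : Module k (RM ι) := inferInstanceAs (Module k B)

/-- the identity `B → RM ι`. -/
def toRM : B ≃ₗ[k] RM ι := LinearEquiv.refl k B

instance : Module K (RM ι) where
  smul c x := toRM ι ((toRM ι).symm x * ι c)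
  one_smul x := show toRM ι _ = x by simp
  mul_smul c d x := show toRM ι _ = toRM ι ((toRM ι).symm (toRM ι _) * _) by
    rw [LinearEquiv.symm_apply_apply, mul_assoc, ← map_mul, mul_comm c d]
  smul_zero c := show toRM ι _ = 0 by simp
  smul_add c x y := show toRM ι _ = toRM ι _ + toRM ι _ by simp [add_mul]
  add_smul c d x := show toRM ι _ = toRM ι _ + toRM ι _ by simp [mul_add]
  zero_smul x := show toRM ι _ = 0 by simp

lemma rm_smul (c : K) (b : B) : c • toRM ι b = toRM ι (b * ι c) := rfl

instance : IsScalarTower k K (RM ι) := ⟨fun t c x => by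
  obtain ⟨x, rfl⟩ := (toRM ι).surjective x
  rw [rm_smul, rm_smul, map_smul, mul_smul_comm, map_smul]⟩

instance [FiniteDimensional k B] : FiniteDimensional k (RM ι) :=
  inferInstanceAs (FiniteDimensional k B)

/-- left multiplication is `K`-linear. -/
noncomputable def lmulRM : B →ₐ[k] Module.End K (RM ι) where
  toFun b :=
    { toFun := fun x => toRM ι (b * (toRM ι).symm x)
      map_add' := fun x y => by simp [mul_add]
      map_smul' := fun c x => by
        obtain ⟨x, rfl⟩ := (toRM ι).surjective x
        simp [rm_smul, mul_assoc] }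
  map_one' := LinearMap.ext fun x => by simp
  map_mul' a b := LinearMap.ext fun x => by simp [mul_assoc]
  map_zero' := LinearMap.ext fun x => by simp
  map_add' a b := LinearMap.ext fun x => by simp [add_mul]
  commutes' t := LinearMap.ext fun x => by
    obtain ⟨x, rfl⟩ := (toRM ι).surjective x
    simp [Algebra.algebraMap_eq_smul_one]

include ι in
theorem splits_of_algHom_self [Algebra.IsCentral k B] [IsSimpleRing B] [FiniteDimensional k B]
    [FiniteDimensional k K] (h : Module.finrank k B = Module.finrank k K ^ 2) :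
    Curves.Splits k B K := by
  have := isSimpleRing_baseChange k K B
  have : FiniteDimensional K (RM ι) := Module.Finite.of_restrictScalars_finite k K _
  have hK : 0 < Module.finrank k K := Module.finrank_pos
  have hr : Module.finrank K (RM ι) = Module.finrank k K := by
    have h1 := Module.finrank_mul_finrank k K (RM ι)
    rw [show Module.finrank k (RM ι) = Module.finrank k B from rfl, h, sq] at h1
    exact Nat.eq_of_mul_eq_mul_left hK h1
  have : Nontrivial (RM ι) := Module.nontrivial_of_finrank_pos (R := K) (by rw [hr]; exact hK)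
  let φ : K ⊗[k] B →ₐ[K] Module.End K (RM ι) :=
    Algebra.TensorProduct.lift (Algebra.ofId K _) (lmulRM ι) fun c b => Algebra.commutes c _
  have hinj : Function.Injective φ := φ.toRingHom.injective
  have hbij : Function.Bijective φ := ⟨hinj, (LinearMap.injective_iff_surjective_of_finrank_eq_finrank
    (f := φ.toLinearMap) (by
      rw [Module.finrank_baseChange, Module.finrank_linearMap, hr, h, sq])).mp hinj⟩
  exact ⟨Module.finrank k K, hK.ne', ⟨(AlgEquiv.ofBijective φ hbij).trans
    (algEquivMatrix (Module.finBasisOfFinrankEq K (RM ι) hr))⟩⟩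

end splits

lemma isSeparable_of_adjoin {k : Type u} [Field k] {E : Type v} [Field E] [Algebra k E]
    (s : Set E) (h : ∀ x ∈ s, IsSeparable k x) (hs : Algebra.adjoin k s = ⊤) :
    Algebra.IsSeparable k E := by
  refine ⟨fun a => mem_separableClosure_iff.mp ?_⟩
  have : Algebra.adjoin k s ≤ (separableClosure k E).toSubalgebra :=
    Algebra.adjoin_le fun x hx => mem_separableClosure_iff.mpr (h x hx)
  exact this (hs ▸ Algebra.mem_top)

lemma isSeparable_of_val_mem {k : Type u} [Field k] {D : Type v} [Ring D] [Algebra k D]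
    (L L' : Subalgebra k D) (a : L') (ha : (a : D) ∈ L) (h : ∀ b : L, IsSeparable k b) :
    IsSeparable k a :=
  by
  have e1 : minpoly k (a : D) = minpoly k a := minpoly.algHom_eq L'.val Subtype.val_injective a
  have e2 : minpoly k (a : D) = minpoly k (⟨a, ha⟩ : L) :=
    minpoly.algHom_eq L.val Subtype.val_injective ⟨a, ha⟩
  show (minpoly k a).Separable
  rw [← e1, e2]
  exact h ⟨a, ha⟩

section division

variable {k : Type u} [Field k] {D : Type v} [DivisionRing D] [Algebra k D] [FiniteDimensional k D]

lemma centralizer_eq_of_maximal {L : Subalgebra k D} (hcomm : ∀ x ∈ L, ∀ y ∈ L, x * y = y * x)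
    (hmax : ∀ L' : Subalgebra k D, (∀ x ∈ L', ∀ y ∈ L', x * y = y * x) → L ≤ L' → L' = L) :
    Subalgebra.centralizer k (L : Set D) = L := by
  refine le_antisymm (fun x hx => ?_) (fun x hx => Subalgebra.mem_centralizer_iff k |>.mpr
    fun g hg => hcomm g hg x hx)
  rw [Subalgebra.mem_centralizer_iff] at hx
  have hc : ∀ a ∈ insert x (L : Set D), ∀ b ∈ insert x (L : Set D), a * b = b * a := by
    rintro a (rfl | ha) b (rfl | hb)
    · rfl
    · exact (hx b hb).symm
    · exact hx a ha
    · exact hcomm a ha b hb
  have h := hmax (Algebra.adjoin k (insert x (L : Set D)))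
    (fun a ha b hb => by
      letI := Algebra.adjoinCommRingOfComm k hc
      exact congrArg Subtype.val (mul_comm (⟨a, ha⟩ : Algebra.adjoin k (insert x (L : Set D))) ⟨b, hb⟩))
    ((Algebra.adjoin_eq L).ge.trans (Algebra.adjoin_mono (Set.subset_insert _ _)))
  exact h ▸ Algebra.subset_adjoin (Set.mem_insert _ _)

lemma maximal_of_centralizer_eq {L : Subalgebra k D}
    (hC : Subalgebra.centralizer k (L : Set D) = L) :
    ∀ L' : Subalgebra k D, (∀ x ∈ L', ∀ y ∈ L', x * y = y * x) → L ≤ L' → L' = L :=
  fun L' hc hle => le_antisymm (fun x hx => by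
    rw [← hC, Subalgebra.mem_centralizer_iff]
    exact fun g hg => hc g (hle hg) x hx) hle

/-- The field structure on a commutative subalgebra of a finite division algebra. -/
@[instance_reducible]
noncomputable def fieldOfComm (L : Subalgebra k D) (hcomm : ∀ x ∈ L, ∀ y ∈ L, x * y = y * x) :
    Field L :=
  letI : CommRing L := { (inferInstance : Ring L) with
    mul_comm := fun a b => Subtype.ext (hcomm a a.2 b b.2) }
  haveI : IsDomain L := NoZeroDivisors.to_isDomain L
  (isField_of_isIntegral_of_isField' (R := k) (S := L) (Field.toIsField k)).toField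

lemma isSimpleRing_of_comm (L : Subalgebra k D) (hcomm : ∀ x ∈ L, ∀ y ∈ L, x * y = y * x) :
    IsSimpleRing L :=
  letI := fieldOfComm L hcomm
  inferInstance

variable [Algebra.IsCentral k D]

theorem finrank_eq_sq_of_centralizer_eq {L : Subalgebra k D}
    (hcomm : ∀ x ∈ L, ∀ y ∈ L, x * y = y * x)
    (hC : Subalgebra.centralizer k (L : Set D) = L) :
    Module.finrank k D = Module.finrank k L ^ 2 := by
  have := isSimpleRing_of_comm L hcomm
  obtain ⟨-, h⟩ := centralizer_subalgebra L
  rwa [hC, ← sq] at h

set_option maxHeartbeats 1000000 in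
theorem exists_separable_centralizer_eq :
    ∃ L : Subalgebra k D, (∀ x ∈ L, ∀ y ∈ L, x * y = y * x) ∧
      Algebra.IsSeparable k L ∧ Subalgebra.centralizer k (L : Set D) = L := by
  classical
  let P : ℕ → Prop := fun m => ∃ L : Subalgebra k D, (∀ x ∈ L, ∀ y ∈ L, x * y = y * x) ∧
      Algebra.IsSeparable k L ∧ Module.finrank k L = m
  have hsep_bot : Algebra.IsSeparable k (⊥ : Subalgebra k D) :=
    AlgEquiv.Algebra.isSeparable (Algebra.botEquiv k D).symm
  have h0 : P (Module.finrank k (⊥ : Subalgebra k D)) := ⟨⊥, fun x hx y _ => by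
    obtain ⟨c, rfl⟩ := Algebra.mem_bot.mp hx
    exact Algebra.commutes c y, hsep_bot, rfl⟩
  have hb : ∀ m, P m → m ≤ Module.finrank k D := by
    rintro m ⟨L, -, -, rfl⟩
    exact Submodule.finrank_le (Subalgebra.toSubmodule L)
  set m := Nat.findGreatest P (Module.finrank k D) with hm
  obtain ⟨L, hcomm, hsep, hLm⟩ := Nat.findGreatest_spec (hb _ h0) h0
  refine ⟨L, hcomm, hsep, ?_⟩
  by_contra hne
  set C := Subalgebra.centralizer k (L : Set D) with hCdef
  have hLC : L ≤ C := fun x hx => Subalgebra.mem_centralizer_iff k |>.mpr fun g hg => hcomm g hg x hx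
  have := isSimpleRing_of_comm L hcomm
  have hdc := double_centralizer L
  have hsepall : ∀ b : L, IsSeparable k b := fun b => Algebra.IsSeparable.isSeparable k b
  letI := fieldOfComm L hcomm
  letI : DivisionRing C := divisionRingOfFiniteDimensional k C
  letI : Algebra L C := RingHom.toAlgebra' (Subalgebra.inclusion hLC).toRingHom fun c x =>
    Subtype.ext (Subalgebra.mem_centralizer_iff k |>.mp x.2 c.1 c.2)
  have : IsScalarTower k L C := .of_algebraMap_eq fun _ => rfl
  have : Module.Finite L C := Module.Finite.of_restrictScalars_finite k L C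
  have : Algebra.IsCentral L C := ⟨fun z hz => by
    rw [Subalgebra.mem_center_iff] at hz
    have : z.1 ∈ Subalgebra.centralizer k (C : Set D) :=
      Subalgebra.mem_centralizer_iff k |>.mpr fun g hg => congrArg Subtype.val (hz ⟨g, hg⟩)
    rw [hdc] at this
    exact Algebra.mem_bot.mpr ⟨⟨z.1, this⟩, rfl⟩⟩
  have hbt : (⊥ : Subalgebra L C) ≠ ⊤ := by
    intro h
    apply hne
    refine le_antisymm (fun x hx => ?_) hLC
    obtain ⟨l, hl⟩ := Algebra.mem_bot.mp (h ▸ Algebra.mem_top : (⟨x, hx⟩ : C) ∈ (⊥ : Subalgebra L C))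
    exact (show (l : D) = x from congrArg Subtype.val hl) ▸ l.2
  obtain ⟨x, hx, hxs⟩ := JacobsonNoether.exists_separable_and_not_isCentral' hbt
  have hc : ∀ a ∈ insert (x : D) (L : Set D), ∀ b ∈ insert (x : D) (L : Set D), a * b = b * a := by
    rintro a (rfl | ha) b (rfl | hb)
    · rfl
    · exact (Subalgebra.mem_centralizer_iff k |>.mp x.2 b hb).symm
    · exact Subalgebra.mem_centralizer_iff k |>.mp x.2 a ha
    · exact hcomm a ha b hb
  set L' := Algebra.adjoin k (insert (x : D) (L : Set D)) with hL'def
  have hLL' : L ≤ L' := (Algebra.adjoin_eq L).ge.trans (Algebra.adjoin_mono (Set.subset_insert _ _))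
  have hL'C : L' ≤ C := Algebra.adjoin_le (Set.insert_subset x.2 hLC)
  have hcomm' : ∀ a ∈ L', ∀ b ∈ L', a * b = b * a := fun a ha b hb => by
    letI := Algebra.adjoinCommRingOfComm k hc
    exact congrArg Subtype.val (mul_comm (⟨a, ha⟩ : L') ⟨b, hb⟩)
  letI := fieldOfComm L' hcomm'
  letI : Algebra L L' := (Subalgebra.inclusion hLL').toRingHom.toAlgebra
  have : IsScalarTower k L L' := .of_algebraMap_eq fun _ => rfl
  let iC : L' →ₐ[L] C :=
    { (Subalgebra.inclusion hL'C).toRingHom with commutes' := fun _ => rfl }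
  have hx' : (x : D) ∈ L' := Algebra.subset_adjoin (Set.mem_insert _ _)
  have hxs' : IsSeparable L (⟨x, hx'⟩ : L') := by
    have he := minpoly.algHom_eq iC (Subalgebra.inclusion_injective hL'C) (⟨x, hx'⟩ : L')
    rw [IsSeparable, ← he]
    exact hxs
  have hxk : IsSeparable k (⟨x, hx'⟩ : L') := IsSeparable.of_algebra_isSeparable_of_isSeparable k hxs'
  have hsep' : Algebra.IsSeparable k L' := by
    refine isSeparable_of_adjoin (E := L') (((↑) : L' → D) ⁻¹' insert (x : D) (L : Set D)) ?_ ?_
    · intro a ha
      rcases ha with ha | ha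
      · rwa [show a = ⟨x, hx'⟩ from Subtype.ext ha]
      · exact isSeparable_of_val_mem L L' a ha hsepall
    · exact Algebra.adjoin_adjoin_coe_preimage
  have hlt : Module.finrank k L < Module.finrank k L' := by
    refine Submodule.finrank_lt_finrank_of_lt (K := k) (V := D)
      (s := Subalgebra.toSubmodule L) (t := Subalgebra.toSubmodule L') (lt_of_le_of_ne hLL' ?_)
    intro he
    apply hx
    have : (x : D) ∈ L := Subalgebra.toSubmodule_injective he ▸ hx'
    exact Algebra.mem_bot.mpr ⟨⟨x, this⟩, rfl⟩
  have hP : P (Module.finrank k L') := ⟨L', hcomm', hsep', rfl⟩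
  have := Nat.le_findGreatest (hb _ hP) hP
  omega

end division

section csa

variable (k : Type u) [Field k] (A : Type v) [Ring A] [Algebra k A]
  [Algebra.IsCentral k A] [IsSimpleRing A] [FiniteDimensional k A]

/-- A central simple algebra is split by a finite separable extension. -/
theorem exists_separable_splitting :
    ∃ K : IntermediateField k (AlgebraicClosure k),
      FiniteDimensional k K ∧ Algebra.IsSeparable k K ∧ Curves.Splits k A K := by
  have : IsArtinianRing A := IsArtinianRing.of_finite k A
  obtain ⟨n, hn, D, _, _, _, ⟨e⟩⟩ := IsSimpleRing.exists_algEquiv_matrix_divisionRing_finite k A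
  have : Algebra.IsCentral k (Matrix (Fin n) (Fin n) D) := Algebra.IsCentral.of_algEquiv k A _ e
  have : Algebra.IsCentral k D := ⟨fun z hz => by
    rw [Subalgebra.mem_center_iff] at hz
    have hm : Matrix.scalar (Fin n) z ∈ Subalgebra.center k (Matrix (Fin n) (Fin n) D) :=
      Subalgebra.mem_center_iff.mpr fun M => by ext i j; simp [hz (M i j)]
    obtain ⟨c, hc⟩ := Algebra.mem_bot.mp (Algebra.IsCentral.out hm)
    refine Algebra.mem_bot.mpr ⟨c, ?_⟩
    have := congrFun (congrFun hc 0) 0
    simpa [Matrix.algebraMap_eq_diagonal] using this⟩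
  obtain ⟨L, hcomm, hsep, hC⟩ := exists_separable_centralizer_eq (k := k) (D := D)
  letI := fieldOfComm L hcomm
  let f : L →ₐ[k] AlgebraicClosure k := IsAlgClosed.lift
  let ef : L ≃ₐ[k] f.fieldRange := AlgEquiv.ofInjectiveField f
  refine ⟨f.fieldRange, Module.Finite.equiv ef.toLinearEquiv, AlgEquiv.Algebra.isSeparable ef, ?_⟩
  exact splits_congr e.symm (splits_matrix hn.out (splits_of_algHom ef.toAlgHom
    (splits_of_algHom_self L.val (finrank_eq_sq_of_centralizer_eq hcomm hC))))

/-- A central simple algebra is split by a finite Galois extension. -/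
theorem exists_galois_splitting :
    ∃ K : IntermediateField k (AlgebraicClosure k),
      FiniteDimensional k K ∧ IsGalois k K ∧ Curves.Splits k A K := by
  obtain ⟨K, hK, hs, h⟩ := exists_separable_splitting k A
  have hsN : Algebra.IsSeparable k (IntermediateField.normalClosure k K (AlgebraicClosure k)) := by
    rw [← le_separableClosure_iff, normalClosure_def]
    refine iSup_le fun f => ?_
    rintro _ ⟨y, rfl⟩
    exact mem_separableClosure_iff.mpr ((Algebra.IsSeparable.isSeparable k y).map f f.injective)
  refine ⟨IntermediateField.normalClosure k K (AlgebraicClosure k), inferInstance,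
    ⟨⟩, ?_⟩
  exact splits_of_algHom (IntermediateField.inclusion K.le_normalClosure) h

end csa

/-- An algebra split by some field extension is finite central simple. -/
theorem csa_of_splits (k : Type u) [Field k] (A : Type v) [Ring A] [Algebra k A]
    (L : Type w) [Field L] [Algebra k L] (h : Curves.Splits k A L) :
    Algebra.IsCentral k A ∧ IsSimpleRing A ∧ FiniteDimensional k A := by
  obtain ⟨n, hn, ⟨e⟩⟩ := h
  have : NeZero n := ⟨hn⟩
  have : IsSimpleRing (L ⊗[k] A) := .of_ringEquiv e.symm.toRingEquiv inferInstance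
  have hfd : FiniteDimensional L (L ⊗[k] A) := Module.Finite.equiv e.symm.toLinearEquiv
  have : Nontrivial A := by
    by_contra hA
    rw [not_nontrivial_iff_subsingleton] at hA
    exact not_subsingleton (L ⊗[k] A) inferInstance
  refine ⟨⟨fun z hz => ?_⟩, ?_, ?_⟩
  · have hz' : ((1 : L) ⊗ₜ[k] z) ∈ Subalgebra.center L (L ⊗[k] A) := by
      rw [Subalgebra.mem_center_iff] at hz ⊢
      intro b
      induction b using TensorProduct.induction_on with
      | zero => simp
      | tmul l a => simp [hz a]
      | add p q hp hq => rw [add_mul, mul_add, hp, hq]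
    have hm : e ((1 : L) ⊗ₜ[k] z) ∈ Subalgebra.center L (Matrix (Fin n) (Fin n) L) :=
      Subalgebra.mem_center_iff.mpr fun M => by
        rw [← e.apply_symm_apply M, ← map_mul, ← map_mul, Subalgebra.mem_center_iff.mp hz']
    obtain ⟨c, hc'⟩ := Algebra.mem_bot.mp (Algebra.IsCentral.out hm)
    have hc : c ⊗ₜ[k] (1 : A) = (1 : L) ⊗ₜ[k] z := e.injective (by
      rw [← hc', ← e.commutes c, Algebra.TensorProduct.algebraMap_apply, Algebra.algebraMap_self_apply])
    by_contra hzbot
    obtain ⟨f, hf1, hf2⟩ := Submodule.exists_dual_map_eq_bot_of_notMem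
      (p := Subalgebra.toSubmodule (⊥ : Subalgebra k A)) hzbot inferInstance
    have h1 : f 1 = 0 := by
      have : f 1 ∈ (Subalgebra.toSubmodule (⊥ : Subalgebra k A)).map f :=
        ⟨1, Subalgebra.mem_toSubmodule _ |>.mpr (one_mem _), rfl⟩
      rwa [hf2, Submodule.mem_bot] at this
    have := congrArg (fun t => TensorProduct.rid k L (LinearMap.lTensor L f t)) hc
    simp [h1, Algebra.smul_def] at this
    exact hf1 ((algebraMap k L).injective (this.symm.trans (map_zero _).symm))
  · refine .of_eq_bot_or_eq_top fun I => or_iff_not_imp_right.mpr fun hI => ?_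
    have : Nontrivial I.ringCon.Quotient := by
      refine ⟨I.ringCon.mk' 0, I.ringCon.mk' 1, fun h01 => hI (TwoSidedIdeal.one_mem_iff I |>.mp ?_)⟩
      rw [TwoSidedIdeal.mem_iff]
      exact I.ringCon.symm ((RingCon.eq I.ringCon).mp h01)
    letI : Algebra k I.ringCon.Quotient := (I.ringCon.mk'.comp (algebraMap k A)).toAlgebra'
      fun c x => by
        obtain ⟨a, rfl⟩ := I.ringCon.mk'_surjective x
        rw [RingHom.comp_apply, ← map_mul, ← map_mul, Algebra.commutes]
    let q : A →ₐ[k] I.ringCon.Quotient := { I.ringCon.mk' with commutes' := fun _ => rfl }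
    have : Nontrivial (L ⊗[k] I.ringCon.Quotient) :=
      (Algebra.TensorProduct.includeLeft_injective (R := k) (S := k) (A := L)
        (algebraMap k I.ringCon.Quotient).injective).nontrivial
    have hinj := (Algebra.TensorProduct.map (AlgHom.id L L) q).toRingHom.injective
    refine eq_bot_iff.mpr fun a ha => ?_
    rw [TwoSidedIdeal.mem_bot]
    apply Algebra.TensorProduct.includeRight_injective (A := L) (algebraMap k L).injective
    apply hinj
    have : q a = 0 := (RingCon.eq I.ringCon).mpr (TwoSidedIdeal.mem_iff I a |>.mp ha)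
    simp [this]
  · exact Module.Finite.of_finite_tensorProduct_of_faithfullyFlat (T := L)

theorem csa_iff_splits_sepClosed (k : Type u) [Field k] (A : Type v) [Ring A] [Algebra k A]
    (L : Type w) [Field L] [Algebra k L] [IsSepClosed L] :
    (Algebra.IsCentral k A ∧ IsSimpleRing A ∧ FiniteDimensional k A) ↔ Curves.Splits k A L := by
  refine ⟨fun ⟨h1, h2, h3⟩ => ?_, csa_of_splits k A L⟩
  obtain ⟨K, _, _, h⟩ := exists_separable_splitting k A
  exact splits_of_algHom (IsSepClosed.lift (K := k) (L := K) (M := L)) h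

end Groth.Agent.H7CSA
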