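/-
Cyclic algebras: bases, universal property, central simplicity, norms.
-/
import Groth.Prelude.Def_GSzCSA
import Groth.Agent.Lib.H7CSAModule
import Groth.Agent.Lib.H7CSASplit
import Mathlib.FieldTheory.Galois.Basic
import Mathlib.RingTheory.Norm.Transitivity
import Mathlib.GroupTheory.SpecificGroups.Cyclic

set_option autoImplicit false
set_option linter.unusedSectionVars false

open scoped TensorProduct
open Finset

namespace BrauerLib

universe u v w

variable {k : Type u} [Field k] {K : Type v} [Field K] [Algebra k K]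

section Basic

variable {σ : K ≃ₐ[k] K} {B : Type w} [Ring B] {j : K →+* B} {z : B}

lemma rel_pow (hrel : ∀ x, j x * z = z * j (σ x)) (i : ℕ) (x : K) : j x * z ^ i = z ^ i * j ((σ ^ i) x) := by
  induction i generalizing x with
  | zero => simp
  | succ i ih => rw [pow_succ, ← mul_assoc, ih, mul_assoc, hrel, ← mul_assoc, pow_succ' σ, AlgEquiv.mul_apply]

lemma rel_powA [Algebra k B] {j : K →ₐ[k] B} (hrel : ∀ x, j x * z = z * j (σ x)) (i : ℕ) (x : K) :
    j x * z ^ i = z ^ i * j ((σ ^ i) x) :=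
  rel_pow (j := (j : K →+* B)) hrel i x

/-- Powers of the generator are independent over the field, in any nontrivial ring. -/
lemma cyclic_indep [Nontrivial B] (hz : IsUnit z) (hrel : ∀ x, j x * z = z * j (σ x)) {m : ℕ}
    (hm : ∀ i < m, ∀ l < m, σ ^ i = σ ^ l → i = l) (s : Finset ℕ) (hs : ∀ i ∈ s, i < m) (c : ℕ → K)
    (h : ∑ i ∈ s, z ^ i * j (c i) = 0) : ∀ i ∈ s, c i = 0 := by
  classical
  induction s using Finset.induction generalizing c with
  | empty => simp
  | @insert a s ha ih =>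
    have hs' : ∀ i ∈ s, i < m := fun i hi => hs i (mem_insert_of_mem hi)
    have key : ∀ x : K, ∀ i ∈ s, ((σ ^ i) x - (σ ^ a) x) * c i = 0 := by
      intro x
      refine ih hs' (fun i => ((σ ^ i) x - (σ ^ a) x) * c i) ?_
      have h1 : ∑ i ∈ insert a s, z ^ i * j ((σ ^ i) x * c i) = 0 := by
        rw [← mul_zero (j x), ← h, mul_sum]
        exact sum_congr rfl fun i _ => by rw [← mul_assoc, rel_pow hrel, map_mul, mul_assoc]
      have h2 : ∑ i ∈ insert a s, z ^ i * j ((σ ^ a) x * c i) = 0 := by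
        rw [← zero_mul (j ((σ ^ a) x)), ← h, sum_mul]
        exact sum_congr rfl fun i _ => by rw [mul_comm ((σ ^ a) x), map_mul, mul_assoc]
      have h3 : ∑ i ∈ insert a s, z ^ i * j (((σ ^ i) x - (σ ^ a) x) * c i) = 0 := by
        simp only [sub_mul, map_sub, mul_sub, sum_sub_distrib, h1, h2, sub_self]
      rwa [sum_insert ha, sub_self, zero_mul, map_zero, mul_zero, zero_add] at h3
    have hzero : ∀ i ∈ s, c i = 0 := by
      intro i hi
      by_contra hci
      have hia : i ≠ a := fun e => ha (e ▸ hi)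
      exact hia (hm i (hs' i hi) a (hs a (mem_insert_self a s)) (AlgEquiv.ext fun x => by
        have h4 := key x i hi
        rcases mul_eq_zero.1 h4 with h5 | h5
        · exact sub_eq_zero.1 h5
        · exact absurd h5 hci))
    rw [sum_insert ha, sum_eq_zero (fun i hi => by rw [hzero i hi, map_zero, mul_zero]), add_zero] at h
    intro i hi
    rcases mem_insert.1 hi with rfl | hi
    · exact j.injective (by rw [map_zero]; exact (IsUnit.mul_right_eq_zero (hz.pow _)).1 h)
    · exact hzero i hi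

end Basic

section Galois

variable [FiniteDimensional k K] [IsGalois k K] {σ : K ≃ₐ[k] K}

lemma orderOf_gen (hσ : ∀ τ : K ≃ₐ[k] K, τ ∈ Subgroup.zpowers σ) : orderOf σ = Module.finrank k K := by
  rw [orderOf_eq_card_of_forall_mem_zpowers hσ]
  exact IsGalois.card_aut_eq_finrank k K

lemma gen_pow_inj (hσ : ∀ τ : K ≃ₐ[k] K, τ ∈ Subgroup.zpowers σ) :
    ∀ i < Module.finrank k K, ∀ l < Module.finrank k K, σ ^ i = σ ^ l → i = l := by
  rw [← orderOf_gen hσ]
  exact fun i hi l hl h => pow_injOn_Iio_orderOf hi hl h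

lemma gen_pow_finrank (hσ : ∀ τ : K ≃ₐ[k] K, τ ∈ Subgroup.zpowers σ) : σ ^ Module.finrank k K = 1 := by
  rw [← orderOf_gen hσ, pow_orderOf_eq_one]

lemma mem_range_of_fixed (hσ : ∀ τ : K ≃ₐ[k] K, τ ∈ Subgroup.zpowers σ) {x : K} (h : σ x = x) :
    ∃ c : k, algebraMap k K c = x := by
  refine (IsGalois.mem_range_algebraMap_iff_fixed x).2 fun τ => ?_
  have : τ ∈ MulAction.stabilizer (K ≃ₐ[k] K) x :=
    (Subgroup.zpowers_le.2 (show σ ∈ MulAction.stabilizer (K ≃ₐ[k] K) x from h)) (hσ τ)
  exact this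

end Galois

/-- The data of a cyclic presentation. -/
structure CycPres (k : Type u) [Field k] (K : Type v) [Field K] [Algebra k K] (σ : K ≃ₐ[k] K) (b : kˣ)
    (A : Type w) [Ring A] [Algebra k A] where
  ι : K →ₐ[k] A
  y : A
  pow_eq : y ^ Module.finrank k K = algebraMap k A (b : k)
  rel : ∀ x : K, ι x * y = y * ι (σ x)
  adj : Algebra.adjoin k (Set.range ι ∪ {y}) = ⊤
  pos : 0 < Module.finrank k K
  dim : Module.finrank k A = Module.finrank k K ^ 2

lemma nonempty_cycPres {σ : K ≃ₐ[k] K} {b : kˣ} {A : Type w} [Ring A] [Algebra k A]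
    (h : CSAGal.IsCyclicAlg k K σ b A) : Nonempty (CycPres k K σ b A) := by
  obtain ⟨ι, y, h1, h2, h3, h4, h5⟩ := h
  exact ⟨⟨ι, y, h1, h2, h3, h4, h5⟩⟩

namespace CycPres

variable {σ : K ≃ₐ[k] K} {b : kˣ} {A : Type w} [Ring A] [Algebra k A] (D : CycPres k K σ b A)

include D

lemma isUnit_y : IsUnit D.y := by
  have h : IsUnit (D.y ^ Module.finrank k K) := by
    rw [D.pow_eq]; exact (b.isUnit).map _
  exact (isUnit_pow_iff D.pos.ne').1 h

lemma finite : FiniteDimensional k A :=
  Module.finite_of_finrank_pos (by rw [D.dim]; exact pow_pos D.pos 2)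

lemma nontrivial : Nontrivial A :=
  Module.nontrivial_of_finrank_pos (R := k) (by rw [D.dim]; exact pow_pos D.pos 2)

/-- The coordinates map. -/
noncomputable def phi : (Fin (Module.finrank k K) → K) →ₗ[k] A where
  toFun c := ∑ i : Fin (Module.finrank k K), D.y ^ (i : ℕ) * D.ι (c i)
  map_add' c d := by simp [mul_add, sum_add_distrib]
  map_smul' r c := by simp [mul_smul_comm, smul_sum]

lemma phi_single (i : Fin (Module.finrank k K)) (x : K) : D.phi (Pi.single i x) = D.y ^ (i : ℕ) * D.ι x := by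
  rw [phi, LinearMap.coe_mk, AddHom.coe_mk, Finset.sum_eq_single i]
  · simp
  · intro l _ hl; simp [hl]
  · simp

lemma phi_bijective [FiniteDimensional k K] [IsGalois k K] (hσ : ∀ τ : K ≃ₐ[k] K, τ ∈ Subgroup.zpowers σ) :
    Function.Bijective D.phi := by
  classical
  have := D.finite
  have := D.nontrivial
  have hinj : Function.Injective D.phi := by
    rw [injective_iff_map_eq_zero]
    intro c hc
    funext i
    let c' : ℕ → K := fun l => if hl : l < Module.finrank k K then c ⟨l, hl⟩ else 0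
    have h : ∑ l ∈ range (Module.finrank k K), D.y ^ l * D.ι (c' l) = 0 := by
      rw [← Fin.sum_univ_eq_sum_range (fun l => D.y ^ l * D.ι (c' l)), ← hc]
      exact sum_congr rfl fun l _ => by simp [c']
    have := cyclic_indep (j := (D.ι : K →+* A)) D.isUnit_y D.rel (gen_pow_inj hσ) (range (Module.finrank k K))
      (fun l hl => mem_range.1 hl) c' h i (mem_range.2 i.2)
    simpa [c'] using this
  refine ⟨hinj, (LinearMap.injective_iff_surjective_of_finrank_eq_finrank ?_).1 hinj⟩
  rw [Module.finrank_pi_fintype, sum_const, card_univ, Fintype.card_fin, smul_eq_mul, D.dim, sq]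

variable {B : Type*} [Ring B] [Algebra k B] {j : K →ₐ[k] B} {z : B}

lemma exists_lift [FiniteDimensional k K] [IsGalois k K] (hσ : ∀ τ : K ≃ₐ[k] K, τ ∈ Subgroup.zpowers σ)
    (hz : z ^ Module.finrank k K = algebraMap k B (b : k)) (hrel : ∀ x, j x * z = z * j (σ x)) :
    ∃ f : A →ₐ[k] B, (∀ x, f (D.ι x) = j x) ∧ f D.y = z := by
  classical
  let e := LinearEquiv.ofBijective D.phi (D.phi_bijective hσ)
  let ψ : (Fin (Module.finrank k K) → K) →ₗ[k] B :=
    { toFun := fun c => ∑ i : Fin (Module.finrank k K), z ^ (i : ℕ) * j (c i)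
      map_add' := fun c d => by simp [mul_add, sum_add_distrib]
      map_smul' := fun r c => by simp [mul_smul_comm, smul_sum] }
  let f : A →ₗ[k] B := ψ.comp (e.symm : A →ₗ[k] (Fin (Module.finrank k K) → K))
  have hf0 : ∀ i : Fin (Module.finrank k K), ∀ x, f (D.y ^ (i : ℕ) * D.ι x) = z ^ (i : ℕ) * j x := by
    intro i x
    show ψ (e.symm _) = _
    rw [← D.phi_single i x, show e.symm (D.phi (Pi.single i x)) = Pi.single i x from e.symm_apply_apply _]
    show ∑ l : Fin (Module.finrank k K), z ^ (l : ℕ) * j (Pi.single (M := fun _ => K) i x l) = _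
    rw [Finset.sum_eq_single i (fun l _ hl => by simp [hl]) (by simp), Pi.single_eq_same]
  have hf1 : ∀ i ≤ Module.finrank k K, ∀ x, f (D.y ^ i * D.ι x) = z ^ i * j x := by
    intro i hi x
    rcases hi.lt_or_eq with hlt | rfl
    · exact hf0 ⟨i, hlt⟩ x
    · have h0 := hf0 ⟨0, D.pos⟩ x
      simp only [pow_zero, one_mul] at h0
      rw [D.pow_eq, hz, ← Algebra.smul_def, ← Algebra.smul_def, map_smul, h0]
  have hspan : ∀ a : A, ∃ c : Fin (Module.finrank k K) → K, a = ∑ i : Fin (Module.finrank k K), D.y ^ (i : ℕ) * D.ι (c i) := fun a => by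
    obtain ⟨c, hc⟩ := (D.phi_bijective hσ).2 a
    exact ⟨c, hc.symm⟩
  have hone : f 1 = 1 := by simpa using hf1 0 (Nat.zero_le _) 1
  let S : Subalgebra k A :=
    { carrier := {a | ∀ a', f (a * a') = f a * f a'}
      mul_mem' := fun {x y} hx hy a' => by rw [mul_assoc, hx, hy, hx, mul_assoc]
      add_mem' := fun {x y} hx hy a' => by simp only [add_mul, map_add, hx a', hy a']
      algebraMap_mem' := fun r a' => by
        rw [← Algebra.smul_def, map_smul, Algebra.algebraMap_eq_smul_one, map_smul, hone, smul_mul_assoc, one_mul] }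
  have hS : S = ⊤ := by
    rw [eq_top_iff, ← D.adj, Algebra.adjoin_le_iff]
    rintro a (⟨x, rfl⟩ | rfl) a'
    · obtain ⟨c, rfl⟩ := hspan a'
      have hx : f (D.ι x) = j x := by simpa using hf1 0 (Nat.zero_le _) x
      simp only [mul_sum, map_sum, hx]
      refine sum_congr rfl fun i _ => ?_
      rw [hf1 i i.2.le, ← mul_assoc, ← mul_assoc, rel_powA hrel,
        rel_powA D.rel, mul_assoc, mul_assoc]
      show f (D.y ^ (i : ℕ) * (D.ι ((σ ^ (i : ℕ)) x) * D.ι (c i))) = z ^ (i : ℕ) * (j ((σ ^ (i : ℕ)) x) * j (c i))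
      rw [← map_mul, ← map_mul, hf1 i i.2.le]
    · obtain ⟨c, rfl⟩ := hspan a'
      have hy : f D.y = z := by simpa using hf1 1 D.pos 1
      simp only [mul_sum, map_sum, hy]
      refine sum_congr rfl fun i _ => ?_
      rw [← mul_assoc, ← pow_succ', hf1 _ i.2, hf1 i i.2.le, pow_succ', mul_assoc]
  refine ⟨AlgHom.ofLinearMap f hone fun a a' => ?_, fun x => ?_, ?_⟩
  · exact (show a ∈ S by rw [hS]; trivial) a'
  · simpa using hf1 0 (Nat.zero_le _) x
  · simpa using hf1 1 D.pos 1

lemma hom_injective [FiniteDimensional k K] [IsGalois k K] (hσ : ∀ τ : K ≃ₐ[k] K, τ ∈ Subgroup.zpowers σ)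
    {S : Type*} [Ring S] [Nontrivial S] (f : A →+* S) : Function.Injective f := by
  classical
  rw [injective_iff_map_eq_zero]
  intro a ha
  obtain ⟨c, rfl⟩ := (D.phi_bijective hσ).2 a
  let c' : ℕ → K := fun l => if hl : l < Module.finrank k K then c ⟨l, hl⟩ else 0
  have h : ∑ l ∈ range (Module.finrank k K), f D.y ^ l * (f.comp (D.ι : K →+* A)) (c' l) = 0 := by
    rw [← Fin.sum_univ_eq_sum_range (fun l => f D.y ^ l * (f.comp (D.ι : K →+* A)) (c' l)), ← ha]
    show _ = f (∑ i : Fin (Module.finrank k K), D.y ^ (i : ℕ) * D.ι (c i))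
    rw [map_sum]
    exact sum_congr rfl fun l _ => by simp [c']
  have hc : c = 0 := by
    funext i
    have := cyclic_indep (D.isUnit_y.map f) (fun x => by
        show f (D.ι x) * f D.y = f D.y * f (D.ι (σ x))
        rw [← map_mul, D.rel, map_mul]) (gen_pow_inj hσ) _ (fun l hl => mem_range.1 hl) c' h i (mem_range.2 i.2)
    simpa [c'] using this
  rw [hc, map_zero]

lemma isSimpleRing [FiniteDimensional k K] [IsGalois k K] (hσ : ∀ τ : K ≃ₐ[k] K, τ ∈ Subgroup.zpowers σ) :
    IsSimpleRing A := by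
  classical
  have := D.nontrivial
  refine ⟨⟨fun I => ?_⟩⟩
  rcases subsingleton_or_nontrivial I.ringCon.Quotient with h | h
  · right
    rw [eq_top_iff]
    intro x _
    have h1 : I.ringCon.mk' x = I.ringCon.mk' 0 := Subsingleton.elim _ _
    exact (I.mem_iff x).2 (Quotient.eq''.1 h1)
  · left
    rw [eq_bot_iff]
    intro x hx
    have h1 : I.ringCon.mk' x = I.ringCon.mk' 0 := Quotient.eq''.2 ((I.mem_iff x).1 hx)
    have h2 := D.hom_injective hσ I.ringCon.mk' h1
    rw [h2]
    exact TwoSidedIdeal.zero_mem _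

lemma isCentral [FiniteDimensional k K] [IsGalois k K] (hσ : ∀ τ : K ≃ₐ[k] K, τ ∈ Subgroup.zpowers σ) :
    Algebra.IsCentral k A := by
  classical
  refine ⟨fun a ha => ?_⟩
  rw [Subalgebra.mem_center_iff] at ha
  obtain ⟨c, rfl⟩ := (D.phi_bijective hσ).2 a
  have hstep : ∀ x, ∀ i : Fin (Module.finrank k K), ((σ ^ (i : ℕ)) x - x) * c i = 0 := by
    intro x i
    have h1 : D.phi (fun l => ((σ ^ (l : ℕ)) x - x) * c l) = 0 := by
      have h2 := ha (D.ι x)
      show ∑ l : Fin (Module.finrank k K), D.y ^ (l : ℕ) * D.ι (((σ ^ (l : ℕ)) x - x) * c l) = 0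
      simp only [phi, LinearMap.coe_mk, AddHom.coe_mk, mul_sum, sum_mul] at h2
      rw [← sub_eq_zero, ← sum_sub_distrib] at h2
      rw [← h2]
      refine sum_congr rfl fun l _ => ?_
      rw [sub_mul, map_sub, mul_sub, map_mul, map_mul, ← mul_assoc,
        ← rel_powA D.rel, ← mul_assoc,
        mul_assoc (D.y ^ (l : ℕ)) (D.ι x) (D.ι (c l)), ← map_mul, mul_comm x, map_mul, mul_assoc, mul_assoc]
    exact congrFun ((D.phi_bijective hσ).1 (h1.trans (map_zero _).symm)) i
  have hc : ∀ i : Fin (Module.finrank k K), (i : ℕ) ≠ 0 → c i = 0 := by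
    intro i hi
    by_contra hci
    refine hi (gen_pow_inj hσ i i.2 0 D.pos (AlgEquiv.ext fun x => ?_))
    rw [pow_zero, AlgEquiv.one_apply]
    exact sub_eq_zero.1 ((mul_eq_zero.1 (hstep x i)).resolve_right hci)
  have ha' : D.phi c = D.ι (c ⟨0, D.pos⟩) := by
    show ∑ l : Fin (Module.finrank k K), D.y ^ (l : ℕ) * D.ι (c l) = _
    rw [Finset.sum_eq_single ⟨0, D.pos⟩]
    · simp
    · intro l _ hl
      rw [hc l (fun e => hl (Fin.ext e)), map_zero, mul_zero]
    · simp
  have hfix : σ (c ⟨0, D.pos⟩) = c ⟨0, D.pos⟩ := by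
    have := D.nontrivial
    have h2 := ha D.y
    rw [ha', D.rel] at h2
    exact (D.ι.toRingHom.injective (D.isUnit_y.mul_left_cancel h2)).symm
  obtain ⟨r, hr⟩ := mem_range_of_fixed hσ hfix
  rw [ha', ← hr, AlgHom.commutes]
  exact Algebra.mem_bot.2 ⟨r, rfl⟩

lemma splits [FiniteDimensional k K] [IsGalois k K] (hσ : ∀ τ : K ≃ₐ[k] K, τ ∈ Subgroup.zpowers σ) :
    Curves.Splits k A K := by
  have := D.isCentral hσ
  have := D.isSimpleRing hσ
  have := D.finite
  exact Groth.Agent.H7CSA.splits_of_algHom_self D.ι D.dim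

lemma algEquiv_of_finrank [FiniteDimensional k K] [IsGalois k K] (hσ : ∀ τ : K ≃ₐ[k] K, τ ∈ Subgroup.zpowers σ)
    (hz : z ^ Module.finrank k K = algebraMap k B (b : k)) (hrel : ∀ x, j x * z = z * j (σ x))
    [Nontrivial B] [FiniteDimensional k B] (hB : Module.finrank k B = Module.finrank k K ^ 2) :
    Nonempty (A ≃ₐ[k] B) := by
  have := D.finite
  obtain ⟨f, -, -⟩ := D.exists_lift hσ hz hrel
  have hinj := D.hom_injective hσ (f : A →+* B)
  exact ⟨AlgEquiv.ofBijective f ⟨hinj,
    (LinearMap.injective_iff_surjective_of_finrank_eq_finrank (f := f.toLinearMap) (by rw [hB, D.dim])).1 hinj⟩⟩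

end CycPres

/-- An algebra of the right dimension with generators satisfying the relations is cyclic. -/
lemma isCyclicAlg_of_rel [FiniteDimensional k K] [IsGalois k K] {σ : K ≃ₐ[k] K}
    (hσ : ∀ τ : K ≃ₐ[k] K, τ ∈ Subgroup.zpowers σ) {b : kˣ} {A : Type w} [Ring A] [Algebra k A]
    [FiniteDimensional k A] (ι : K →ₐ[k] A) (y : A)
    (hy : y ^ Module.finrank k K = algebraMap k A (b : k)) (hrel : ∀ x, ι x * y = y * ι (σ x))
    (hdim : Module.finrank k A = Module.finrank k K ^ 2) : CSAGal.IsCyclicAlg k K σ b A := by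
  classical
  refine ⟨ι, y, hy, hrel, ?_, Module.finrank_pos, hdim⟩
  have : Nontrivial A := Module.nontrivial_of_finrank_pos (R := k) (by rw [hdim]; exact pow_pos Module.finrank_pos 2)
  have hyu : IsUnit y := by
    refine (isUnit_pow_iff (Module.finrank_pos (R := k) (M := K)).ne').1 ?_
    rw [hy]; exact b.isUnit.map _
  let φ : (Fin (Module.finrank k K) → K) →ₗ[k] A :=
    { toFun := fun c => ∑ i : Fin (Module.finrank k K), y ^ (i : ℕ) * ι (c i)
      map_add' := fun c d => by simp [mul_add, sum_add_distrib]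
      map_smul' := fun r c => by simp [mul_smul_comm, smul_sum] }
  have hinj : Function.Injective φ := by
    rw [injective_iff_map_eq_zero]
    intro c hc
    funext i
    let c' : ℕ → K := fun l => if hl : l < Module.finrank k K then c ⟨l, hl⟩ else 0
    have h : ∑ l ∈ range (Module.finrank k K), y ^ l * ι (c' l) = 0 := by
      rw [← Fin.sum_univ_eq_sum_range (fun l => y ^ l * ι (c' l)), ← hc]
      exact sum_congr rfl fun l _ => by simp [c']
    have := cyclic_indep (j := (ι : K →+* A)) hyu hrel (gen_pow_inj hσ) _ (fun l hl => mem_range.1 hl) c' h i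
      (mem_range.2 i.2)
    simpa [c'] using this
  have hsurj : Function.Surjective φ := by
    refine (LinearMap.injective_iff_surjective_of_finrank_eq_finrank ?_).1 hinj
    rw [Module.finrank_pi_fintype, sum_const, card_univ, Fintype.card_fin, smul_eq_mul, hdim, sq]
  rw [eq_top_iff]
  intro a _
  obtain ⟨c, rfl⟩ := hsurj a
  show ∑ i : Fin (Module.finrank k K), y ^ (i : ℕ) * ι (c i) ∈ _
  exact sum_mem fun i _ => mul_mem
    (pow_mem (Algebra.subset_adjoin (Set.mem_union_right _ (Set.mem_singleton y))) _) (Algebra.subset_adjoin (Or.inl ⟨_, rfl⟩))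

lemma isCyclicAlg_congr [FiniteDimensional k K] [IsGalois k K] {σ : K ≃ₐ[k] K}
    (hσ : ∀ τ : K ≃ₐ[k] K, τ ∈ Subgroup.zpowers σ) {b : kˣ} {A : Type w} [Ring A] [Algebra k A]
    {A' : Type w} [Ring A'] [Algebra k A'] (D : CycPres k K σ b A) (e : A ≃ₐ[k] A') :
    CSAGal.IsCyclicAlg k K σ b A' := by
  have := D.finite
  have : FiniteDimensional k A' := Module.Finite.equiv e.toLinearEquiv
  refine isCyclicAlg_of_rel hσ (e.toAlgHom.comp D.ι) (e D.y) ?_ (fun x => ?_) ?_
  · rw [← map_pow, D.pow_eq, AlgEquiv.commutes]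
  · show e (D.ι x) * e D.y = e D.y * e (D.ι (σ x))
    rw [← map_mul, D.rel, map_mul]
  · rw [← e.toLinearEquiv.finrank_eq, D.dim]

/-- A central simple algebra of degree `[K:k]` containing `K` is cyclic. -/
lemma exists_isCyclicAlg [FiniteDimensional k K] [IsGalois k K] {σ : K ≃ₐ[k] K}
    (hσ : ∀ τ : K ≃ₐ[k] K, τ ∈ Subgroup.zpowers σ) {A : Type w} [Ring A] [Algebra k A]
    [Algebra.IsCentral k A] [IsSimpleRing A] [FiniteDimensional k A] (ι : K →ₐ[k] A)
    (hdim : Module.finrank k A = Module.finrank k K ^ 2) : ∃ b : kˣ, CSAGal.IsCyclicAlg k K σ b A := by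
  classical
  obtain ⟨x, hx⟩ := Groth.Agent.H7CSA.skolemNoether ι (ι.comp (σ : K →ₐ[k] K))
  have hrel : ∀ a, ι a * x = x * ι (σ a) := fun a => by
    rw [hx a, mul_assoc, Units.inv_mul, mul_one]
    rfl
  have hpow : (x : A) ^ Module.finrank k K ∈ Subalgebra.centralizer k (Set.range ι) := by
    rw [Subalgebra.mem_centralizer_iff]
    rintro _ ⟨a, rfl⟩
    have h := rel_pow (j := (ι : K →+* A)) hrel (Module.finrank k K) a
    rw [gen_pow_finrank hσ] at h
    exact h
  have hC : Subalgebra.centralizer k (Set.range ι) = ι.range := by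
    obtain ⟨-, h2⟩ := Groth.Agent.H7CSA.centralizer_range ι
    symm
    refine Subalgebra.eq_of_le_of_finrank_eq ?_ ?_
    · rintro _ ⟨a, rfl⟩
      rw [Subalgebra.mem_centralizer_iff]
      rintro _ ⟨c, rfl⟩
      show ι c * ι a = ι a * ι c
      rw [← map_mul, ← map_mul, mul_comm]
    · have h3 : Module.finrank k ι.range = Module.finrank k K :=
        ((AlgEquiv.ofInjective ι ι.toRingHom.injective).toLinearEquiv).finrank_eq.symm
      rw [h3]
      have hpos : 0 < Module.finrank k K := Module.finrank_pos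
      rw [hdim, sq] at h2
      exact Nat.eq_of_mul_eq_mul_left hpos h2
  rw [hC] at hpow
  obtain ⟨c, hc⟩ := hpow
  have hfix : σ c = c := by
    have h1 : ι c * x = x * ι c := by
      have h0 : ι c = (x : A) ^ Module.finrank k K := hc
      rw [h0, ← pow_succ, ← pow_succ']
    rw [hrel] at h1
    exact ι.toRingHom.injective (x.isUnit.mul_left_cancel h1)
  obtain ⟨r, hr⟩ := mem_range_of_fixed hσ hfix
  have hr0 : r ≠ 0 := by
    rintro rfl
    have h0 : (x : A) ^ Module.finrank k K = 0 := by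
      rw [← show ι c = (x : A) ^ Module.finrank k K from hc, ← hr, map_zero, map_zero]
    exact (x.isUnit.pow _).ne_zero h0
  refine ⟨Units.mk0 r hr0, isCyclicAlg_of_rel hσ ι x ?_ hrel hdim⟩
  rw [← show ι c = (x : A) ^ Module.finrank k K from hc, ← hr, AlgHom.commutes, Units.val_mk0]

end BrauerLib
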