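/-
Galois descent for semilinear actions, automorphisms of matrix algebras, and twisted forms of matrix algebras.
-/
import Groth.Prelude.Def_GSzCSA
import Groth.Agent.Lib.H7CSAModule
import Groth.Agent.Lib.H7CSASplit
import Mathlib.FieldTheory.Galois.Basic
import Mathlib.LinearAlgebra.LinearIndependent.Lemmas

set_option autoImplicit false
set_option linter.unusedSectionVars false

open scoped TensorProduct MatrixGroups

namespace BrauerLib

universe u v w

attribute [local instance] CSAGal.matrixAction GpH1.unitsAction CSAGal.pglAction CSAGal.tensorAction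

/-! ### Semilinear descent -/

section Descent

variable (k : Type u) [Field k] (K : Type v) [Field K] [Algebra k K] [FiniteDimensional k K] [IsGalois k K]
  {V : Type w} [AddCommGroup V] [Module K V] [Module k V] [IsScalarTower k K V]

/-- The invariants of a semilinear action. -/
def fixedSub (ρ : (K ≃ₐ[k] K) → V →+ V) (hsemi : ∀ (σ : K ≃ₐ[k] K) (c : K) (v : V), ρ σ (c • v) = σ c • ρ σ v) :
    Submodule k V where
  carrier := {v | ∀ σ, ρ σ v = v}
  zero_mem' := fun σ => map_zero _
  add_mem' := fun {x y} hx hy σ => by rw [map_add, hx σ, hy σ]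
  smul_mem' := fun c x hx σ => by rw [← algebraMap_smul K c x, hsemi, hx σ, AlgEquiv.commutes]

variable {ρ : (K ≃ₐ[k] K) → V →+ V} (hmul : ∀ (σ τ : K ≃ₐ[k] K) (v : V), ρ (σ * τ) v = ρ σ (ρ τ v))
  (hone : ∀ v : V, ρ 1 v = v)
  (hsemi : ∀ (σ : K ≃ₐ[k] K) (c : K) (v : V), ρ σ (c • v) = σ c • ρ σ v)

include hmul hone hsemi

lemma span_fixedSub : Submodule.span K (fixedSub k K ρ hsemi : Set V) = ⊤ := by
  classical
  have : Fintype (K ≃ₐ[k] K) := Fintype.ofFinite _
  by_contra hne
  obtain ⟨f, hf0, hf⟩ := Submodule.exists_le_ker_of_lt_top _ (lt_top_iff_ne_top.2 hne)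
  have key : ∀ v σ, f (ρ σ v) = 0 := by
    intro v
    have hsum : ∀ x : K, ∑ σ, σ x * f (ρ σ v) = 0 := by
      intro x
      have hmem : ∑ σ, ρ σ (x • v) ∈ fixedSub k K ρ hsemi := by
        intro τ
        rw [map_sum]
        refine Fintype.sum_equiv (Equiv.mulLeft τ) _ _ fun σ => ?_
        rw [Equiv.coe_mulLeft, hmul]
      have h := LinearMap.mem_ker.1 (hf (Submodule.subset_span hmem))
      simpa [map_sum, hsemi] using h
    have hli := (linearIndependent_monoidHom K K).comp (fun σ : K ≃ₐ[k] K => (σ.toRingHom : K →* K))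
      (fun σ τ h => AlgEquiv.ext fun x => DFunLike.congr_fun h x)
    rw [Fintype.linearIndependent_iff] at hli
    refine hli (fun σ => f (ρ σ v)) (funext fun x => ?_)
    simpa [mul_comm] using hsum x
  exact hf0 (LinearMap.ext fun v => by simpa [hone] using key v 1)

lemma linearIndependent_fixed {ι : Type*} {v : ι → V} (hv : ∀ i σ, ρ σ (v i) = v i)
    (hli : LinearIndependent k v) : LinearIndependent K v := by
  classical
  rw [linearIndependent_iff']
  intro s
  induction s using Finset.induction with
  | empty => simp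
  | @insert a s ha ih =>
    intro g hg
    by_cases hga : g a = 0
    · rw [Finset.sum_insert ha, hga, zero_smul, zero_add] at hg
      intro i hi
      rcases Finset.mem_insert.1 hi with rfl | hi
      · exact hga
      · exact ih g hg i hi
    exfalso
    let d : ι → K := fun i => g i / g a
    have hd : ∑ i ∈ insert a s, d i • v i = 0 := by
      simp only [d, div_eq_inv_mul, mul_smul, ← Finset.smul_sum, hg, smul_zero]
    have hda : d a = 1 := div_self hga
    have hfix : ∀ i ∈ s, ∀ σ : K ≃ₐ[k] K, σ (d i) = d i := by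
      intro i hi σ
      have h1 := congrArg (ρ σ) hd
      simp only [map_sum, map_zero, hsemi, hv] at h1
      have h2 : ∑ j ∈ s, (σ (d j) - d j) • v j = 0 := by
        rw [Finset.sum_insert ha, hda, map_one, one_smul] at h1
        rw [Finset.sum_insert ha, hda, one_smul] at hd
        simp only [sub_smul, Finset.sum_sub_distrib]
        rw [eq_neg_of_add_eq_zero_right h1, eq_neg_of_add_eq_zero_right hd, sub_self]
      exact sub_eq_zero.1 (ih _ h2 i hi)
    have hk : ∀ i ∈ insert a s, ∃ c : k, algebraMap k K c = d i := by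
      intro i hi
      refine (IsGalois.mem_range_algebraMap_iff_fixed (d i)).2 fun σ => ?_
      rcases Finset.mem_insert.1 hi with rfl | hi
      · rw [hda, map_one]
      · exact hfix i hi σ
    choose! c hc using hk
    have h3 : ∑ i ∈ insert a s, c i • v i = 0 := by
      rw [← hd]
      exact Finset.sum_congr rfl fun i hi => by rw [← hc i hi, algebraMap_smul]
    have h4 := linearIndependent_iff'.1 hli _ c h3 a (Finset.mem_insert_self a s)
    have h5 := hc a (Finset.mem_insert_self a s)
    rw [h4, map_zero, hda] at h5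
    exact zero_ne_one h5

lemma descent_bijective :
    Function.Bijective ((fixedSub k K ρ hsemi).subtype.liftBaseChange K) := by
  classical
  let F := fixedSub k K ρ hsemi
  let b := Module.Free.chooseBasis k F
  let B := b.baseChange K
  have hli : LinearIndependent K (fun i => (b i : V)) :=
    linearIndependent_fixed k K hmul hone hsemi (fun i σ => (b i).2 σ)
      (b.linearIndependent.map' F.subtype F.ker_subtype)
  have hB : ∀ i, (F.subtype.liftBaseChange K) (B i) = (b i : V) := fun i => by simp [B]
  refine ⟨?_, ?_⟩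
  · rw [← LinearMap.ker_eq_bot, LinearMap.ker_eq_bot']
    intro m hm
    rw [← B.linearCombination_repr m, Finsupp.apply_linearCombination] at hm
    have : (⇑(F.subtype.liftBaseChange K) ∘ ⇑B) = fun i => (b i : V) := funext hB
    rw [this] at hm
    have h0 := linearIndependent_iff.1 hli _ hm
    rwa [← B.repr.map_eq_zero_iff]
  · rw [← LinearMap.range_eq_top, eq_top_iff, ← span_fixedSub k K hmul hone hsemi, Submodule.span_le]
    intro x hx
    exact ⟨1 ⊗ₜ ⟨x, hx⟩, by simp⟩

lemma finrank_fixedSub [FiniteDimensional K V] :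
    Module.finrank k (fixedSub k K ρ hsemi) = Module.finrank K V := by
  rw [← (LinearEquiv.ofBijective _ (descent_bijective k K hmul hone hsemi)).finrank_eq, Module.finrank_baseChange]

end Descent

/-! ### Automorphisms of matrix algebras -/

section Aut

variable (K : Type u) [Field K] (n : Type v) [Fintype n] [DecidableEq n]

/-- Conjugation. -/
noncomputable def conjHom : GL n K →* (Matrix n n K ≃ₐ[K] Matrix n n K) where
  toFun C :=
    { toFun := fun M => (C : Matrix n n K) * M * ((C⁻¹ : GL n K) : Matrix n n K)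
      invFun := fun M => ((C⁻¹ : GL n K) : Matrix n n K) * M * (C : Matrix n n K)
      left_inv := fun M => by simp [mul_assoc]
      right_inv := fun M => by simp [mul_assoc]
      map_mul' := fun M M' => by simp [mul_assoc]
      map_add' := fun M M' => by simp [mul_add, add_mul]
      commutes' := fun r => by
        rw [← Algebra.commutes r, mul_assoc, Units.mul_inv, mul_one] }
  map_one' := AlgEquiv.ext fun M => by simp
  map_mul' C C' := AlgEquiv.ext fun M => by simp [mul_assoc]

lemma center_le_ker : Subgroup.center (GL n K) ≤ (conjHom K n).ker := by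
  intro C hC
  rw [Matrix.GeneralLinearGroup.center_eq_range_scalar] at hC
  obtain ⟨r, rfl⟩ := hC
  rw [MonoidHom.mem_ker]
  refine AlgEquiv.ext fun M => ?_
  show (Matrix.GeneralLinearGroup.scalar n r : Matrix n n K) * M *
    (((Matrix.GeneralLinearGroup.scalar n r)⁻¹ : GL n K) : Matrix n n K) = M
  have hc : Commute (Matrix.GeneralLinearGroup.scalar n r : Matrix n n K) M :=
    Matrix.scalar_commute (r : K) (fun r' => mul_comm _ _) M
  rw [hc.eq, mul_assoc, Units.mul_inv, mul_one]

/-- `PGL` acts on the matrix algebra by conjugation. -/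
noncomputable def pglConj : Matrix.ProjGenLinGroup n K →* (Matrix n n K ≃ₐ[K] Matrix n n K) :=
  QuotientGroup.lift _ (conjHom K n) (center_le_ker K n)

lemma pglConj_mk (C : GL n K) (M : Matrix n n K) :
    pglConj K n (Matrix.ProjGenLinGroup.mk C) M = (C : Matrix n n K) * M * ((C⁻¹ : GL n K) : Matrix n n K) :=
  rfl

lemma pglConj_bijective : Function.Bijective (pglConj K n) := by
  constructor
  · rw [injective_iff_map_eq_one]
    intro p hp
    obtain ⟨C, rfl⟩ := Matrix.ProjGenLinGroup.mk_surjective p
    rw [Matrix.ProjGenLinGroup.mk_eq_one, Subgroup.mem_center_iff]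
    intro C'
    have h := DFunLike.congr_fun hp (C' : Matrix n n K)
    rw [pglConj_mk, AlgEquiv.one_apply] at h
    refine Units.ext ?_
    rw [Units.val_mul, Units.val_mul]
    conv_lhs => rw [← h]
    simp [mul_assoc]
  · intro f
    rcases isEmpty_or_nonempty n with hn | hn
    · exact ⟨1, AlgEquiv.ext fun M => Subsingleton.elim _ _⟩
    obtain ⟨x, hx⟩ := Groth.Agent.H7CSA.skolemNoether (k := K) (f : Matrix n n K →ₐ[K] Matrix n n K) (AlgHom.id K _)
    exact ⟨Matrix.ProjGenLinGroup.mk x, AlgEquiv.ext fun M => by rw [pglConj_mk]; exact (hx M).symm⟩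

end Aut

/-! ### Twisted forms of the matrix algebra -/

section Twist

variable {k : Type u} [Field k] {K : Type v} [Field K] [Algebra k K] {n : ℕ}

lemma smul_pglConj (σ : K ≃ₐ[k] K) (p : Matrix.ProjGenLinGroup (Fin n) K) (M : Matrix (Fin n) (Fin n) K) :
    σ • pglConj K (Fin n) p M = pglConj K (Fin n) (σ • p) (σ • M) := by
  obtain ⟨C, rfl⟩ := Matrix.ProjGenLinGroup.mk_surjective p
  rw [show σ • Matrix.ProjGenLinGroup.mk C = Matrix.ProjGenLinGroup.mk (σ • C) from rfl, pglConj_mk, pglConj_mk,
    smul_mul', smul_mul']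
  rfl

lemma smul_smul_matrix (σ : K ≃ₐ[k] K) (x : K) (M : Matrix (Fin n) (Fin n) K) : σ • (x • M) = σ x • σ • M := by
  ext i j
  exact map_mul σ x (M i j)

variable (c : GpH1.OneCocycle (K ≃ₐ[k] K) (Matrix.ProjGenLinGroup (Fin n) K))

/-- The twisted action. -/
noncomputable def twist (σ : K ≃ₐ[k] K) : Matrix (Fin n) (Fin n) K →+ Matrix (Fin n) (Fin n) K where
  toFun M := pglConj K (Fin n) (c σ) (σ • M)
  map_zero' := by rw [smul_zero, map_zero]
  map_add' M M' := by rw [smul_add, map_add]

lemma twist_apply (σ : K ≃ₐ[k] K) (M : Matrix (Fin n) (Fin n) K) :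
    twist c σ M = pglConj K (Fin n) (c σ) (σ • M) := rfl

lemma cocycle_one : c 1 = 1 := by
  have h := c.2 1 1
  rw [one_mul, one_smul] at h
  exact left_eq_mul.1 h

lemma twist_mul (σ τ : K ≃ₐ[k] K) (M : Matrix (Fin n) (Fin n) K) :
    twist c (σ * τ) M = twist c σ (twist c τ M) := by
  rw [twist_apply, twist_apply, twist_apply, c.2, map_mul, AlgEquiv.mul_apply, smul_pglConj, mul_smul]

lemma twist_one (M : Matrix (Fin n) (Fin n) K) : twist c 1 M = M := by
  rw [twist_apply, cocycle_one, map_one, one_smul, AlgEquiv.one_apply]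

lemma twist_semilinear (σ : K ≃ₐ[k] K) (x : K) (M : Matrix (Fin n) (Fin n) K) :
    twist c σ (x • M) = σ x • twist c σ M := by
  rw [twist_apply, twist_apply, smul_smul_matrix, map_smul]

lemma twist_map_mul (σ : K ≃ₐ[k] K) (M M' : Matrix (Fin n) (Fin n) K) :
    twist c σ (M * M') = twist c σ M * twist c σ M' := by
  rw [twist_apply, twist_apply, twist_apply, smul_mul', map_mul]

/-- The twisted form. -/
noncomputable def twistedAlg : Subalgebra k (Matrix (Fin n) (Fin n) K) where
  carrier := {M | ∀ σ, twist c σ M = M}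
  mul_mem' := fun {x y} hx hy σ => by rw [twist_map_mul, hx σ, hy σ]
  add_mem' := fun {x y} hx hy σ => by rw [map_add, hx σ, hy σ]
  algebraMap_mem' := fun r σ => by
    rw [Algebra.algebraMap_eq_smul_one, ← algebraMap_smul K r, twist_semilinear, AlgEquiv.commutes, twist_apply,
      smul_one, map_one]

/-- The splitting of the twisted form. -/
noncomputable def twistedSplit : K ⊗[k] twistedAlg c →ₐ[K] Matrix (Fin n) (Fin n) K :=
  Algebra.TensorProduct.lift (Algebra.ofId K _) (twistedAlg c).val fun x _ => show Commute (Algebra.ofId K _ x) _ from Algebra.commutes x _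

lemma twistedSplit_tmul (x : K) (a : twistedAlg c) : twistedSplit c (x ⊗ₜ a) = x • (a : Matrix (Fin n) (Fin n) K) := by
  rw [twistedSplit, Algebra.TensorProduct.lift_tmul, Algebra.ofId_apply, Algebra.smul_def]
  rfl

lemma twistedSplit_bijective [FiniteDimensional k K] [IsGalois k K] : Function.Bijective (twistedSplit c) := by
  have h := descent_bijective k K (twist_mul c) (twist_one c) (twist_semilinear c)
  let L : K ⊗[k] twistedAlg c →ₗ[K] Matrix (Fin n) (Fin n) K :=
    (twistedAlg c).val.toLinearMap.liftBaseChange K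
  have hL : Function.Bijective L := h
  have heq : ∀ t : K ⊗[k] twistedAlg c, twistedSplit c t = L t := by
    intro t
    induction t with
    | zero => simp only [map_zero]
    | add x y hx hy => rw [map_add, map_add, hx, hy]
    | tmul x a =>
      rw [twistedSplit_tmul, LinearMap.liftBaseChange_tmul]
      rfl
  rwa [show ⇑(twistedSplit c) = ⇑L from funext heq]

lemma twistedSplit_equivariant (σ : K ≃ₐ[k] K) (t : K ⊗[k] twistedAlg c) :
    twistedSplit c (σ • t) = twist c σ (twistedSplit c t) := by
  induction t with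
  | zero => simp only [smul_zero, map_zero]
  | add x y hx hy => rw [smul_add, map_add, hx, hy, map_add, map_add]
  | tmul x a =>
    rw [TensorProduct.smul_tmul', twistedSplit_tmul, twistedSplit_tmul, twist_semilinear, a.2 σ]
    rfl

end Twist

/-! ### Descent cocycles -/

section Cocycle

variable {k : Type u} [Field k] {K : Type v} [Field K] [Algebra k K] [FiniteDimensional k K] [IsGalois k K]
  {A : Type w} [Ring A] [Algebra k A]

lemma fixed_tensor [FiniteDimensional k A] (t : K ⊗[k] A) (h : ∀ σ : K ≃ₐ[k] K, σ • t = t) :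
    t ∈ (Algebra.TensorProduct.includeRight : A →ₐ[k] K ⊗[k] A).range := by
  have hsemi : ∀ (σ : K ≃ₐ[k] K) (x : K) (v : K ⊗[k] A),
      DistribSMul.toAddMonoidHom (K ⊗[k] A) σ (x • v) =
        σ x • DistribSMul.toAddMonoidHom (K ⊗[k] A) σ v := by
    intro σ x v
    show σ • (x • v) = σ x • (σ • v)
    induction v with
    | zero => simp only [smul_zero]
    | add a b ha hb => simp only [smul_add, ha, hb]
    | tmul y a =>
      simp only [TensorProduct.smul_tmul', smul_eq_mul, AlgEquiv.smul_def, map_mul]
  have hfr := finrank_fixedSub k K (ρ := fun σ => DistribSMul.toAddMonoidHom (K ⊗[k] A) σ)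
    (fun σ τ v => mul_smul σ τ v) (fun v => one_smul _ v) hsemi
  rw [Module.finrank_baseChange] at hfr
  let i : A →ₗ[k] fixedSub k K (fun σ => DistribSMul.toAddMonoidHom (K ⊗[k] A) σ) hsemi :=
    (Algebra.TensorProduct.includeRight : A →ₐ[k] K ⊗[k] A).toLinearMap.codRestrict _ fun a σ => by
      show σ • ((1 : K) ⊗ₜ[k] a) = (1 : K) ⊗ₜ[k] a
      rw [TensorProduct.smul_tmul', AlgEquiv.smul_def, map_one]
  have hinj : Function.Injective i := fun a b hab =>
    Algebra.TensorProduct.includeRight_injective (algebraMap k K).injective (congrArg Subtype.val hab)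
  have : FiniteDimensional k (fixedSub k K (fun σ => DistribSMul.toAddMonoidHom (K ⊗[k] A) σ) hsemi) :=
    Module.Finite.of_injective (fixedSub k K _ hsemi).subtype Subtype.val_injective
  obtain ⟨a, ha⟩ := (LinearMap.injective_iff_surjective_of_finrank_eq_finrank hfr.symm).1 hinj ⟨t, h⟩
  exact ⟨a, congrArg Subtype.val ha⟩

lemma nonempty_algEquiv_of_equivariant {A' : Type w} [Ring A'] [Algebra k A'] [FiniteDimensional k A]
    [FiniteDimensional k A'] (F : K ⊗[k] A ≃ₐ[K] K ⊗[k] A')
    (hF : ∀ (σ : K ≃ₐ[k] K) (t : K ⊗[k] A), F (σ • t) = σ • F t) : Nonempty (A ≃ₐ[k] A') := by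
  let iA : A →ₐ[k] K ⊗[k] A := Algebra.TensorProduct.includeRight
  let iA' : A' →ₐ[k] K ⊗[k] A' := Algebra.TensorProduct.includeRight
  have hi' : Function.Injective iA' := Algebra.TensorProduct.includeRight_injective (algebraMap k K).injective
  have hi : Function.Injective iA := Algebra.TensorProduct.includeRight_injective (algebraMap k K).injective
  have hmem : ∀ a, F (iA a) ∈ iA'.range := fun a => fixed_tensor _ fun σ => by
    rw [← hF]
    congr 1
    show σ • ((1 : K) ⊗ₜ[k] a) = (1 : K) ⊗ₜ[k] a
    rw [TensorProduct.smul_tmul', AlgEquiv.smul_def, map_one]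
  let f : A →ₐ[k] A' := (AlgEquiv.ofInjective iA' hi').symm.toAlgHom.comp
    (((F.toAlgHom.restrictScalars k).comp iA).codRestrict iA'.range hmem)
  refine ⟨AlgEquiv.ofBijective f ?_⟩
  have hinj : Function.Injective f :=
    (AlgEquiv.ofInjective iA' hi').symm.injective.comp fun a b hab =>
      hi (F.injective (congrArg Subtype.val hab))
  refine ⟨hinj, ?_⟩
  have hfr : Module.finrank k A = Module.finrank k A' := by
    have h := F.toLinearEquiv.finrank_eq
    rwa [Module.finrank_baseChange, Module.finrank_baseChange] at h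
  exact (LinearMap.injective_iff_surjective_of_finrank_eq_finrank (f := f.toLinearMap) hfr).1 hinj

end Cocycle

end BrauerLib
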