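/-
Cyclic algebras: the standard model, splitting and norms, products, periods.
-/
import Groth.Agent.Lib.BrauerCyclic
import Groth.Agent.Lib.BrauerDescent
import Mathlib.RingTheory.Unramified.Field
import Mathlib.RingTheory.Unramified.Finite
import Mathlib.RingTheory.MatrixAlgebra
import Mathlib.Data.Matrix.Composition
import Mathlib.LinearAlgebra.Matrix.ToLin
import Mathlib.RingTheory.PiTensorProduct

set_option autoImplicit false
set_option linter.unusedSectionVars false

open scoped TensorProduct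
open Finset

namespace BrauerLib

universe u v w

variable {k : Type u} [Field k] {K : Type v} [Field K] [Algebra k K] [FiniteDimensional k K] [IsGalois k K]
  {σ : K ≃ₐ[k] K} (hσ : ∀ τ : K ≃ₐ[k] K, τ ∈ Subgroup.zpowers σ)

include hσ


/-- The matrix of multiplication by the generator. -/
def companion (m : ℕ) (b : K) : Matrix (Fin m) (Fin m) K :=
  Matrix.of fun i j : Fin m => if j.val + 1 = i.val then (1 : K) else if i.val = 0 ∧ j.val + 1 = m then b else 0

lemma companion_col_lt {m : ℕ} (b : K) (M : Matrix (Fin m) (Fin m) K) (i j : Fin m) (h : j.val + 1 < m) :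
    (M * companion m b) i j = M i ⟨j.val + 1, h⟩ := by
  rw [Matrix.mul_apply, Finset.sum_eq_single (⟨j.val + 1, h⟩ : Fin m)]
  · simp [companion]
  · intro t _ ht
    have h1 : ¬ (j.val + 1 = t.val) := fun e => ht (Fin.ext e.symm)
    simp only [companion, Matrix.of_apply, if_neg h1]
    rw [if_neg (fun e => absurd e.2 (by omega)), mul_zero]
  · simp

lemma exists_model (b : kˣ) :
    ∃ B : Subalgebra k (Matrix (Fin (Module.finrank k K)) (Fin (Module.finrank k K)) K),
      (∀ M, M ∈ B ↔ companion (Module.finrank k K) (algebraMap k K (b : k)) * M.map (fun x => σ x) =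
          M * companion (Module.finrank k K) (algebraMap k K (b : k))) ∧
      CSAGal.IsCyclicAlg k K σ b B := by
  classical
  set m := Module.finrank k K with hm
  have hmpos : 0 < m := Module.finrank_pos
  set β : K := algebraMap k K (b : k) with hβ
  set w := companion m β with hw
  let B : Subalgebra k (Matrix (Fin m) (Fin m) K) :=
    { carrier := {M | w * M.map (fun x => σ x) = M * w}
      mul_mem' := fun {x y} (hx : w * x.map (fun x => σ x) = x * w) (hy : w * y.map (fun x => σ x) = y * w) => by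
        show w * (x * y).map (fun x => σ x) = x * y * w
        rw [show (x * y).map (fun x => σ x) = x.map (fun x => σ x) * y.map (fun x => σ x) from
          Matrix.map_mul (f := (σ : K →+* K)), ← mul_assoc, hx, mul_assoc, hy, mul_assoc]
      add_mem' := fun {x y} (hx : w * x.map (fun x => σ x) = x * w) (hy : w * y.map (fun x => σ x) = y * w) => by
        show w * (x + y).map (fun x => σ x) = (x + y) * w
        rw [show (x + y).map (fun x => σ x) = x.map (fun x => σ x) + y.map (fun x => σ x) from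
          Matrix.map_add _ (map_add σ) x y, mul_add, hx, hy, add_mul]
      algebraMap_mem' := fun r => by
        show w * (algebraMap k (Matrix (Fin m) (Fin m) K) r).map (fun x => σ x) = algebraMap k (Matrix (Fin m) (Fin m) K) r * w
        rw [show (algebraMap k (Matrix (Fin m) (Fin m) K) r).map (fun x => σ x) = algebraMap k (Matrix (Fin m) (Fin m) K) r by
          ext i j; simp [Matrix.algebraMap_matrix_apply, apply_ite σ], Algebra.commutes] }
  have hwB : w ∈ B := by
    show w * w.map (fun x => σ x) = w * w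
    congr 1
    ext i j
    simp only [Matrix.map_apply, hw, companion, Matrix.of_apply, hβ]
    split_ifs <;> simp
  have hσm : ∀ x, (σ ^ m) x = x := fun x => by rw [hm, gen_pow_finrank hσ, AlgEquiv.one_apply]
  let ι : K →ₐ[k] Matrix (Fin m) (Fin m) K :=
    (Matrix.diagonalAlgHom k).comp (AlgHom.pi fun i : Fin m => ((σ ^ (i : ℕ) : K ≃ₐ[k] K) : K →ₐ[k] K))
  have hι : ∀ x, ι x = Matrix.diagonal fun i : Fin m => (σ ^ (i : ℕ)) x := fun x => rfl
  have hιB : ∀ x, ι x ∈ B := by
    intro x
    show w * (ι x).map (fun x => σ x) = ι x * w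
    rw [hι, Matrix.diagonal_map (map_zero σ)]
    ext i j
    rw [Matrix.mul_diagonal, Matrix.diagonal_mul]
    simp only [hw, companion, Matrix.of_apply, Function.comp_apply]
    split_ifs with h1 h2
    · rw [← AlgEquiv.mul_apply, ← pow_succ', h1, one_mul, mul_one]
    · rw [← AlgEquiv.mul_apply, ← pow_succ', h2.2, hσm, h2.1, pow_zero, AlgEquiv.one_apply, mul_comm]
    · simp
  have hrel : ∀ x, ι x * w = w * ι (σ x) := by
    intro x
    rw [hι, hι]
    ext i j
    rw [Matrix.mul_diagonal, Matrix.diagonal_mul]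
    simp only [hw, companion, Matrix.of_apply]
    split_ifs with h1 h2
    · rw [← AlgEquiv.mul_apply, ← pow_succ, h1, one_mul, mul_one]
    · rw [← AlgEquiv.mul_apply, ← pow_succ, h2.2, hσm, h2.1, pow_zero, AlgEquiv.one_apply, mul_comm]
    · simp
  have hwcol : ∀ j : ℕ, ∀ hj : j < m, ∀ i, (w ^ j) i ⟨0, hmpos⟩ = if i = ⟨j, hj⟩ then 1 else 0 := by
    intro j
    induction j with
    | zero => intro hj i; simp [Matrix.one_apply]
    | succ j ih =>
      intro hj i
      rw [pow_succ', Matrix.mul_apply]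
      rw [Finset.sum_eq_single (⟨j, by omega⟩ : Fin m)]
      · rw [ih (by omega), if_pos rfl, mul_one]
        simp only [hw, companion, Matrix.of_apply]
        by_cases h : j + 1 = i.val
        · rw [if_pos h, if_pos (Fin.ext h.symm)]
        · rw [if_neg h, if_neg (fun e => absurd e.2 (by omega)), if_neg (fun e => h (by rw [e]))]
      · intro t _ ht; rw [ih (by omega), if_neg ht, mul_zero]
      · simp
  have hwm : w ^ m = algebraMap k (Matrix (Fin m) (Fin m) K) (b : k) := by
    ext i j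
    rw [Matrix.algebraMap_matrix_apply]
    have hcomm : w ^ m * w ^ (j : ℕ) = w ^ (j : ℕ) * w ^ m := by rw [← pow_add, ← pow_add, add_comm]
    have h1 := congrFun (congrFun hcomm i) ⟨0, hmpos⟩
    rw [Matrix.mul_apply, Finset.sum_eq_single j (fun t _ ht => by rw [hwcol j j.2, if_neg ht, mul_zero]) (by simp),
      hwcol j j.2, if_pos rfl, mul_one] at h1
    have hm0 : ∀ t, (w ^ m) t ⟨0, hmpos⟩ = if t = ⟨0, hmpos⟩ then β else 0 := by
      intro t
      obtain ⟨m', hm'⟩ : ∃ m', m = m' + 1 := ⟨m - 1, by omega⟩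
      have hlt : m' < m := by omega
      rw [show w ^ m = w * w ^ m' by rw [← pow_succ', ← hm'], Matrix.mul_apply,
        Finset.sum_eq_single (⟨m', hlt⟩ : Fin m) (fun s _ hs => by rw [hwcol m' hlt, if_neg hs, mul_zero]) (by simp),
        hwcol m' hlt, if_pos rfl, mul_one]
      simp only [hw, companion, Matrix.of_apply]
      rw [if_neg (by omega)]
      by_cases h : t.val = 0
      · rw [if_pos ⟨h, hm'.symm⟩, if_pos (Fin.ext h)]
      · rw [if_neg (fun e => h e.1), if_neg (fun e => h (by rw [e]))]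
    rw [h1, Matrix.mul_apply, Finset.sum_eq_single (⟨0, hmpos⟩ : Fin m)
      (fun t _ ht => by rw [hm0, if_neg ht, mul_zero]) (by simp), hm0, if_pos rfl, hwcol j j.2]
    split_ifs <;> simp [hβ]
  refine ⟨B, fun M => Iff.rfl, ?_⟩
  have : Nonempty (Fin m) := ⟨⟨0, hmpos⟩⟩
  have : FiniteDimensional k (Matrix (Fin m) (Fin m) K) := Module.Finite.trans K _
  have : FiniteDimensional k B := FiniteDimensional.finiteDimensional_subalgebra B
  let ev : B →ₗ[k] (Fin m → K) :=
    { toFun := fun M i => (M : Matrix (Fin m) (Fin m) K) i ⟨0, hmpos⟩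
      map_add' := fun M N => rfl
      map_smul' := fun r M => rfl }
  have hev : Function.Injective ev := by
    rw [injective_iff_map_eq_zero]
    intro M hM
    have hcols : ∀ j : ℕ, ∀ hj : j < m, ∀ i, (M : Matrix (Fin m) (Fin m) K) i ⟨j, hj⟩ = 0 := by
      intro j
      induction j with
      | zero => intro hj i; exact congrFun hM i
      | succ j ih =>
        intro hj i
        have hmem : w * (M : Matrix (Fin m) (Fin m) K).map (fun x => σ x) = (M : Matrix (Fin m) (Fin m) K) * w := M.2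
        have h := congrFun (congrFun hmem i) ⟨j, by omega⟩
        rw [companion_col_lt hσ β (M : Matrix (Fin m) (Fin m) K) i ⟨j, by omega⟩ hj, Matrix.mul_apply] at h
        rw [← h]
        exact Finset.sum_eq_zero fun t _ => by rw [Matrix.map_apply, ih, map_zero, mul_zero]
    exact Subtype.ext (Matrix.ext fun i j => hcols j j.2 i)
  have hle : Module.finrank k B ≤ m ^ 2 := by
    refine (LinearMap.finrank_le_finrank_of_injective hev).trans ?_
    rw [Module.finrank_pi_fintype, sum_const, card_univ, Fintype.card_fin, smul_eq_mul, ← hm, sq]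
  let ιB : K →ₐ[k] B := ι.codRestrict B hιB
  let wB : B := ⟨w, hwB⟩
  have hwBu : IsUnit wB := by
    refine (isUnit_pow_iff hmpos.ne').1 ?_
    rw [show wB ^ m = algebraMap k B (b : k) from Subtype.ext (by rw [SubmonoidClass.coe_pow]; exact hwm)]
    exact b.isUnit.map _
  have hrelB : ∀ x, ιB x * wB = wB * ιB (σ x) := fun x => Subtype.ext (hrel x)
  let φ : (Fin m → K) →ₗ[k] B :=
    { toFun := fun c => ∑ i : Fin m, wB ^ (i : ℕ) * ιB (c i)
      map_add' := fun c d => by simp [mul_add, sum_add_distrib]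
      map_smul' := fun r c => by simp [smul_sum] }
  have hinj : Function.Injective φ := by
    rw [injective_iff_map_eq_zero]
    intro c hc
    funext i
    let c' : ℕ → K := fun l => if hl : l < m then c ⟨l, hl⟩ else 0
    have h : ∑ l ∈ range m, wB ^ l * ιB (c' l) = 0 := by
      rw [← Fin.sum_univ_eq_sum_range (fun l => wB ^ l * ιB (c' l)), ← hc]
      exact sum_congr rfl fun l _ => by simp [c']
    have := cyclic_indep (j := (ιB : K →+* B)) hwBu hrelB (gen_pow_inj hσ) _ (fun l hl => mem_range.1 hl) c' h i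
      (mem_range.2 i.2)
    simpa [c'] using this
  have hge : m ^ 2 ≤ Module.finrank k B := by
    refine le_trans (le_of_eq ?_) (LinearMap.finrank_le_finrank_of_injective hinj)
    rw [Module.finrank_pi_fintype, sum_const, card_univ, Fintype.card_fin, smul_eq_mul, ← hm, sq]
  exact isCyclicAlg_of_rel hσ ιB wB (Subtype.ext (by rw [SubmonoidClass.coe_pow]; exact hwm)) hrelB (le_antisymm hle hge)

lemma norm_eq_prod_range (c : K) : ∏ l ∈ range (Module.finrank k K), (σ⁻¹ ^ l) c = algebraMap k K (Algebra.norm k c) := by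
  classical
  rw [Algebra.norm_eq_prod_automorphisms]
  refine prod_bij (fun l _ => σ⁻¹ ^ l) (fun _ _ => mem_univ _) ?_ ?_ (fun _ _ => rfl)
  · intro i hi l hl h
    simp only [inv_pow, inv_inj] at h
    exact gen_pow_inj hσ i (mem_range.1 hi) l (mem_range.1 hl) h
  · intro τ _
    have hτ : τ ∈ Subgroup.zpowers σ⁻¹ := by rw [Subgroup.zpowers_inv]; exact hσ τ
    obtain ⟨l, hl, h⟩ := (mem_zpowers_iff_mem_range_orderOf).1 hτ |> Finset.mem_image.1
    exact ⟨l, by rwa [orderOf_inv, orderOf_gen hσ] at hl, h⟩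

variable {b : kˣ} {A : Type w} [Ring A] [Algebra k A]

lemma semilinear_pow (c : K) (z : Module.End k K) (hz : ∀ v, z v = σ⁻¹ v * c) (i : ℕ) (v : K) :
    (z ^ i) v = (σ⁻¹ ^ i) v * ∏ l ∈ range i, (σ⁻¹ ^ l) c := by
  induction i generalizing v with
  | zero => simp
  | succ i ih => rw [pow_succ, Module.End.mul_apply, ih, hz, map_mul, prod_range_succ, pow_succ, AlgEquiv.mul_apply]; ring

theorem splits_iff_norm (D : CycPres k K σ b A) : Curves.Splits k A k ↔ ∃ x : K, Algebra.norm k x = (b : k) := by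
  classical
  set m := Module.finrank k K with hm
  have hmpos : 0 < m := Module.finrank_pos
  have := D.finite
  have := D.nontrivial
  have := D.isCentral hσ
  have := D.isSimpleRing hσ
  constructor
  · rintro ⟨n, hn, ⟨e⟩⟩
    have : Nonempty (Fin n) := ⟨⟨0, Nat.pos_of_ne_zero hn⟩⟩
    let e' : A ≃ₐ[k] Matrix (Fin n) (Fin n) k := (Algebra.TensorProduct.lid k A).symm.trans e
    have hnm : n = m := by
      have h := e'.toLinearEquiv.finrank_eq
      rw [D.dim, Module.finrank_matrix, Fintype.card_fin, Module.finrank_self, mul_one, ← hm, sq] at h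
      exact (Nat.mul_self_inj.1 h).symm
    subst hnm
    let g : A ≃ₐ[k] Module.End k K := e'.trans (algEquivMatrix (Module.finBasis k K)).symm
    have : Nontrivial (Module.End k K) := g.injective.nontrivial
    have : IsSimpleRing (Module.End k K) := IsSimpleRing.of_surjective g.toRingEquiv.toRingHom inferInstance g.surjective
    have : Algebra.IsCentral k (Module.End k K) := ⟨fun a ha => by
      rw [Subalgebra.mem_center_iff] at ha
      have h : g.symm a ∈ Subalgebra.center k A := by
        rw [Subalgebra.mem_center_iff]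
        intro c
        apply g.injective
        rw [map_mul, map_mul, g.apply_symm_apply, ha]
      obtain ⟨r, hr⟩ := Algebra.mem_bot.1 (Algebra.IsCentral.out h)
      exact Algebra.mem_bot.2 ⟨r, by rw [← g.apply_symm_apply a, ← hr, AlgEquiv.commutes]⟩⟩
    obtain ⟨x, hx⟩ := Groth.Agent.H7CSA.skolemNoether (Algebra.lmul k K) (g.toAlgHom.comp D.ι)
    set z : Module.End k K := (x : Module.End k K) * g D.y * ↑x⁻¹ with hzdef
    have hrel : ∀ a, Algebra.lmul k K a * z = z * Algebra.lmul k K (σ a) := by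
      intro a
      rw [hzdef, hx a, hx (σ a)]
      show ↑x * g (D.ι a) * ↑x⁻¹ * (↑x * g D.y * ↑x⁻¹) = ↑x * g D.y * ↑x⁻¹ * (↑x * g (D.ι (σ a)) * ↑x⁻¹)
      simp only [mul_assoc, Units.inv_mul_cancel_left]
      rw [← mul_assoc (g (D.ι a)), ← map_mul, D.rel, map_mul, mul_assoc]
    have hpow : z ^ m = algebraMap k _ (b : k) := by
      have h1 : ∀ l : ℕ, z ^ l = (x : Module.End k K) * g D.y ^ l * ↑x⁻¹ := by
        intro l
        induction l with
        | zero => simp
        | succ l ih => rw [pow_succ, ih, hzdef, pow_succ]; simp [mul_assoc]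
      rw [h1, ← map_pow, D.pow_eq, AlgEquiv.commutes, ← Algebra.commutes, mul_assoc, Units.mul_inv, mul_one]
    set c := z 1 with hc
    have hz : ∀ v, z v = σ⁻¹ v * c := fun v => by
      have h := LinearMap.congr_fun (hrel (σ⁻¹ v)) 1
      simp only [Module.End.mul_apply, Algebra.coe_lmul_eq_mul, LinearMap.mul_apply', mul_one] at h
      rw [hc, h, show σ (σ⁻¹ v) = v from σ.apply_symm_apply v]
    refine ⟨c, (algebraMap k K).injective ?_⟩
    rw [← norm_eq_prod_range hσ c]
    have h2 := LinearMap.congr_fun hpow 1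
    rw [semilinear_pow hσ c z hz, map_one, one_mul, Module.algebraMap_end_apply] at h2
    rw [h2, Algebra.smul_def, mul_one]
  · rintro ⟨c, hc⟩
    let z : Module.End k K := (LinearMap.mulRight k c).comp (σ⁻¹ : K ≃ₐ[k] K).toLinearMap
    have hz : ∀ v, z v = σ⁻¹ v * c := fun v => rfl
    have hzm : z ^ m = algebraMap k _ (b : k) := by
      refine LinearMap.ext fun v => ?_
      rw [semilinear_pow hσ c z hz, norm_eq_prod_range hσ, hc, hm, inv_pow, gen_pow_finrank hσ, inv_one,
        AlgEquiv.one_apply, Module.algebraMap_end_apply, Algebra.smul_def, mul_comm]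
    have hrel : ∀ a, Algebra.lmul k K a * z = z * Algebra.lmul k K (σ a) := fun a => LinearMap.ext fun v => by
      simp only [Module.End.mul_apply, Algebra.coe_lmul_eq_mul, LinearMap.mul_apply', hz, map_mul]
      rw [show σ⁻¹ (σ a) = a from σ.symm_apply_apply a]; ring
    have : Nontrivial (Module.End k K) := Module.nontrivial_of_finrank_pos (R := k) (by
      rw [Module.finrank_linearMap]; exact Nat.mul_pos hmpos hmpos)
    obtain ⟨e⟩ := D.algEquiv_of_finrank hσ hzm hrel (by rw [Module.finrank_linearMap, sq])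
    exact ⟨m, hmpos.ne', ⟨(Algebra.TensorProduct.lid k A).trans (e.trans (algEquivMatrix (Module.finBasis k K)))⟩⟩

omit hσ in
/-- Matrix units give a homomorphism from the matrix algebra. -/
lemma exists_algHom_of_units {R : Type u} [CommRing R] {C : Type w} [Ring C] [Algebra R C] {m : ℕ}
    (E : Fin m → Fin m → C) (hE : ∀ i j l t, E i j * E l t = if j = l then E i t else 0) (h1 : ∑ i, E i i = 1) :
    ∃ f : Matrix (Fin m) (Fin m) R →ₐ[R] C, ∀ M, f M = ∑ i, ∑ j, M i j • E i j := by
  classical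
  let f : Matrix (Fin m) (Fin m) R →ₗ[R] C :=
    { toFun := fun M => ∑ i, ∑ j, M i j • E i j
      map_add' := fun M N => by simp [add_smul, sum_add_distrib]
      map_smul' := fun r M => by simp [smul_sum, smul_smul] }
  have hone : f 1 = 1 := by
    show ∑ i, ∑ j, (1 : Matrix (Fin m) (Fin m) R) i j • E i j = 1
    rw [← h1]
    refine sum_congr rfl fun i _ => ?_
    rw [Finset.sum_eq_single i (fun j _ hj => by rw [Matrix.one_apply_ne hj.symm, zero_smul]) (by simp),
      Matrix.one_apply_eq, one_smul]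
  refine ⟨AlgHom.ofLinearMap f hone fun M N => ?_, fun M => rfl⟩
  show ∑ i, ∑ t, (M * N) i t • E i t = (∑ i, ∑ j, M i j • E i j) * ∑ l, ∑ t, N l t • E l t
  rw [Finset.sum_mul]
  refine sum_congr rfl fun i _ => ?_
  rw [Finset.sum_mul]
  simp only [Matrix.mul_apply, sum_smul]
  rw [Finset.sum_comm]
  refine sum_congr rfl fun j _ => ?_
  rw [Finset.mul_sum]
  refine Eq.trans ?_ (Finset.sum_eq_single j (fun l _ hl => ?_) (by simp)).symm
  · rw [Finset.mul_sum]
    exact sum_congr rfl fun t _ => by rw [smul_mul_smul_comm, hE, if_pos rfl]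
  · rw [Finset.mul_sum]
    exact sum_eq_zero fun t _ => by rw [smul_mul_smul_comm, hE, if_neg hl.symm, smul_zero]

theorem tensor_algEquiv {b' : kˣ} {A' : Type*} [Ring A'] [Algebra k A'] {A'' : Type*} [Ring A''] [Algebra k A'']
    (D : CycPres k K σ b A) (D' : CycPres k K σ b' A') (D'' : CycPres k K σ (b * b') A'') :
    Nonempty (A ⊗[k] A' ≃ₐ[k] Matrix (Fin (Module.finrank k K)) (Fin (Module.finrank k K)) A'') := by
  classical
  set m := Module.finrank k K with hm
  have hmpos : 0 < m := Module.finrank_pos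
  have : Nonempty (Fin m) := ⟨⟨0, hmpos⟩⟩
  have := D.finite
  have := D'.finite
  have := D''.finite
  have := D''.nontrivial
  have : Nontrivial (A ⊗[k] A') := Module.nontrivial_of_finrank_pos (R := k) (by
    rw [Module.finrank_tensorProduct, D.dim, D'.dim]; exact Nat.mul_pos (pow_pos hmpos 2) (pow_pos hmpos 2))
  let Φ : K ⊗[k] K →ₐ[k] A ⊗[k] A' := Algebra.TensorProduct.map D.ι D'.ι
  have : Algebra.FormallyUnramified k K := Algebra.FormallyUnramified.of_isSeparable k K
  let e : K ⊗[k] K := Algebra.FormallyUnramified.elem k K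
  have hμ : Algebra.TensorProduct.lmul' k e = 1 := Algebra.FormallyUnramified.lmul_elem
  have hswap : ∀ x : K, ((1 : K) ⊗ₜ[k] x) * e = (x ⊗ₜ 1) * e := Algebra.FormallyUnramified.one_tmul_mul_elem
  have habs : ∀ t : K ⊗[k] K, t * e = (Algebra.TensorProduct.lmul' k t ⊗ₜ 1) * e := by
    intro t
    induction t with
    | zero => simp
    | add x y hx hy => rw [add_mul, hx, hy, map_add, TensorProduct.add_tmul, add_mul]
    | tmul x y =>
      rw [show x ⊗ₜ[k] y = (x ⊗ₜ[k] (1 : K)) * ((1 : K) ⊗ₜ[k] y) by simp, mul_assoc, hswap, ← mul_assoc, map_mul]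
      simp
  have hidem : e * e = e := by rw [habs, hμ, ← Algebra.TensorProduct.one_def, one_mul]
  let T : (K ≃ₐ[k] K) → (K ≃ₐ[k] K) → (K ⊗[k] K →ₐ[k] K ⊗[k] K) := fun s t =>
    Algebra.TensorProduct.map (s : K →ₐ[k] K) (t : K →ₐ[k] K)
  have hTT : ∀ s t s' t' x, T s t (T s' t' x) = T (s * s') (t * t') x := fun s t s' t' x => by
    induction x with
    | zero => simp only [map_zero]
    | add a c ha hc => simp only [map_add, ha, hc]
    | tmul a c => rfl
  have hT1 : ∀ x, T 1 1 x = x := fun x => by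
    induction x with
    | zero => simp only [map_zero]
    | add a c ha hc => simp only [map_add, ha, hc]
    | tmul a c => rfl
  have hμT : ∀ s x, Algebra.TensorProduct.lmul' k (T s s x) = s (Algebra.TensorProduct.lmul' k x) := fun s x => by
    induction x with
    | zero => simp only [map_zero]
    | add a c ha hc => simp only [map_add, ha, hc]
    | tmul a c => simp [T]
  have hdiag : ∀ s : K ≃ₐ[k] K, T s s e = e := by
    intro s
    have h1 : T s s e * e = e := by
      rw [habs, hμT, hμ, map_one, ← Algebra.TensorProduct.one_def, one_mul]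
    have h2 : e * T s s e = T s s e := by
      have h3 : T s⁻¹ s⁻¹ e * e = e := by rw [habs, hμT, hμ, map_one, ← Algebra.TensorProduct.one_def, one_mul]
      have h4 := congrArg (T s s) h3
      rwa [map_mul, hTT, mul_inv_cancel, hT1] at h4
    rw [← h2, mul_comm, h1]
  let es : (K ≃ₐ[k] K) → K ⊗[k] K := fun s => T 1 s e
  have hμes : ∀ s, s ≠ 1 → Algebra.TensorProduct.lmul' k (es s) = 0 := by
    intro s hs
    obtain ⟨x, hx⟩ : ∃ x, s x ≠ x := by
      by_contra hh; push Not at hh; exact hs (AlgEquiv.ext hh)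
    have h1 := congrArg (fun t => Algebra.TensorProduct.lmul' k (T 1 s t)) (hswap x)
    have hTx : T 1 s ((1 : K) ⊗ₜ[k] x) = 1 ⊗ₜ s x := by
      show (1 : K ≃ₐ[k] K) 1 ⊗ₜ[k] s x = 1 ⊗ₜ s x
      rfl
    have hTx' : T 1 s (x ⊗ₜ[k] (1 : K)) = x ⊗ₜ 1 := by
      show (1 : K ≃ₐ[k] K) x ⊗ₜ[k] s 1 = x ⊗ₜ 1
      rw [map_one]; rfl
    simp only [map_mul, hTx, hTx', Algebra.TensorProduct.lmul'_apply_tmul, one_mul, mul_one] at h1
    by_contra hne
    exact hx (mul_right_cancel₀ hne h1)
  have horth : ∀ s, s ≠ 1 → es s * e = 0 := fun s hs => by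
    rw [habs, hμes s hs, TensorProduct.zero_tmul, zero_mul]
  have hes : ∀ s t, es s * es t = if s = t then es s else 0 := by
    intro s t
    have h0 : T 1 t (es (t⁻¹ * s)) = es s := by rw [hTT, mul_inv_cancel_left, mul_one]
    split_ifs with h
    · subst h; show T 1 s e * T 1 s e = T 1 s e; rw [← map_mul, hidem]
    · rw [← h0, show es t = T 1 t e from rfl, ← map_mul, horth _ (fun hh => h (inv_mul_eq_one.1 hh).symm), map_zero]
  have : Fintype (K ≃ₐ[k] K) := Fintype.ofFinite _
  have hsum : ∑ s : K ≃ₐ[k] K, es s = 1 := by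
    have hfix : ∀ s' : K ≃ₐ[k] K, T s' 1 (∑ s, es s) = ∑ s, es s := by
      intro s'
      rw [map_sum]
      refine Fintype.sum_equiv (Equiv.mulRight s'⁻¹) _ _ fun s => ?_
      rw [Equiv.coe_mulRight, show es s = T 1 s e from rfl, show es (s * s'⁻¹) = T 1 (s * s'⁻¹) e from rfl, hTT,
        one_mul, mul_one]
      conv_rhs => rw [← hdiag s']
      rw [hTT, one_mul, inv_mul_cancel_right]
    letI := CSAGal.tensorAction k K K
    have hfix' : ∀ s' : K ≃ₐ[k] K, s' • (∑ s, es s) = ∑ s, es s := by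
      intro s'
      rw [CSAGal.smul_eq_map]
      conv_rhs => rw [← hfix s']
      rfl
    obtain ⟨x, hx⟩ := fixed_tensor _ hfix'
    have h1 : Algebra.TensorProduct.lmul' k (∑ s, es s) = 1 := by
      rw [map_sum, Finset.sum_eq_single (1 : K ≃ₐ[k] K) (fun s _ hs => hμes s hs) (by simp)]
      show Algebra.TensorProduct.lmul' k (T 1 1 e) = 1
      rw [hT1, hμ]
    rw [← hx] at h1
    change (1 : K) * x = 1 at h1
    rw [one_mul] at h1
    rw [← hx, h1]
    rfl
  -- the elements of the tensor product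
  let Y : A ⊗[k] A' := D.y ⊗ₜ D'.y
  have hYpow : Y ^ m = algebraMap k _ ((b * b' : kˣ) : k) := by
    rw [Algebra.TensorProduct.tmul_pow, hm, D.pow_eq, D'.pow_eq, Units.val_mul, map_mul,
      Algebra.TensorProduct.algebraMap_apply, Algebra.TensorProduct.algebraMap_apply', Algebra.TensorProduct.tmul_mul_tmul,
      mul_one, one_mul]
  let j : K →ₐ[k] A ⊗[k] A' := (Algebra.TensorProduct.includeLeft : A →ₐ[k] A ⊗[k] A').comp D.ι
  have hjrel : ∀ x, j x * Y = Y * j (σ x) := fun x => by
    show (D.ι x ⊗ₜ[k] (1 : A')) * (D.y ⊗ₜ D'.y) = (D.y ⊗ₜ D'.y) * (D.ι (σ x) ⊗ₜ[k] (1 : A'))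
    rw [Algebra.TensorProduct.tmul_mul_tmul, Algebra.TensorProduct.tmul_mul_tmul, D.rel, one_mul, mul_one]
  obtain ⟨f, hfι, hfy⟩ := D''.exists_lift hσ hYpow hjrel
  obtain ⟨u', hu'⟩ := D'.isUnit_y
  let z : (A ⊗[k] A')ˣ := Units.map (Algebra.TensorProduct.includeRight : A' →ₐ[k] A ⊗[k] A').toMonoidHom u'
  have hzval : (z : A ⊗[k] A') = 1 ⊗ₜ D'.y := by
    show (1 : A) ⊗ₜ[k] (u' : A') = _
    rw [hu']
  have hPz : ∀ x, Φ x * z = z * Φ (T 1 σ x) := by
    intro x
    rw [hzval]
    induction x with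
    | zero => simp only [map_zero, zero_mul, mul_zero]
    | add a c ha hc => simp only [map_add, add_mul, mul_add, ha, hc]
    | tmul a c =>
      show (D.ι a ⊗ₜ[k] D'.ι c) * ((1 : A) ⊗ₜ D'.y) = ((1 : A) ⊗ₜ D'.y) * (D.ι a ⊗ₜ[k] D'.ι (σ c))
      rw [Algebra.TensorProduct.tmul_mul_tmul, Algebra.TensorProduct.tmul_mul_tmul, D'.rel, mul_one, one_mul]
  have hPzi : ∀ (i : ℕ) x, Φ x * (z : A ⊗[k] A') ^ i = (z : A ⊗[k] A') ^ i * Φ (T 1 (σ ^ i) x) := by
    intro i
    induction i with
    | zero => intro x; rw [pow_zero, pow_zero, mul_one, one_mul, hT1]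
    | succ i ih =>
      intro x
      rw [pow_succ, ← mul_assoc, ih, mul_assoc, hPz, hTT, one_mul, ← pow_succ', ← mul_assoc]
  let P : Fin m → A ⊗[k] A' := fun i => Φ (es ((σ ^ (i : ℕ))⁻¹))
  let E : Fin m → Fin m → A ⊗[k] A' := fun i l =>
    (z : A ⊗[k] A') ^ (i : ℕ) * Φ e * ↑(z ^ (l : ℕ))⁻¹
  have hconj : ∀ i : Fin m, (z : A ⊗[k] A') ^ (i : ℕ) * Φ e * ↑(z ^ (i : ℕ))⁻¹ = P i := by
    intro i
    have h := hPzi i (es ((σ ^ (i : ℕ))⁻¹))
    rw [show T 1 (σ ^ (i : ℕ)) (es ((σ ^ (i : ℕ))⁻¹)) = e by rw [hTT, one_mul, mul_inv_cancel, hT1]] at h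
    rw [← h, mul_assoc, ← Units.val_pow_eq_pow_val, Units.mul_inv, mul_one]
  have hEmul : ∀ i l t r, E i l * E t r = if l = t then E i r else 0 := by
    intro i l t r
    have hmid : Φ e * (↑(z ^ (l : ℕ))⁻¹ * (z : A ⊗[k] A') ^ (t : ℕ)) * Φ e = if l = t then Φ e else 0 := by
      have h1 : Φ e = ↑(z ^ (l : ℕ))⁻¹ * P l * (z : A ⊗[k] A') ^ (l : ℕ) := by
        rw [← hconj, ← Units.val_pow_eq_pow_val, ← mul_assoc, ← mul_assoc, Units.inv_mul, one_mul, mul_assoc,
          Units.inv_mul, mul_one]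
      have h2 : Φ e = ↑(z ^ (t : ℕ))⁻¹ * P t * (z : A ⊗[k] A') ^ (t : ℕ) := by
        rw [← hconj, ← Units.val_pow_eq_pow_val, ← mul_assoc, ← mul_assoc, Units.inv_mul, one_mul, mul_assoc,
          Units.inv_mul, mul_one]
      have hPP : P l * P t = if l = t then P l else 0 := by
        show Φ _ * Φ _ = _
        rw [← map_mul, hes]
        by_cases h : l = t
        · subst h; rw [if_pos rfl, if_pos rfl]
        · rw [if_neg h, if_neg, map_zero]
          intro hh
          exact h (Fin.ext (gen_pow_inj hσ l l.2 t t.2 (inv_inj.1 hh)))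
      conv_lhs => arg 1; arg 1; rw [h1]
      conv_lhs => arg 2; rw [h2]
      simp only [← Units.val_pow_eq_pow_val, mul_assoc, Units.mul_inv_cancel_left]
      rw [← mul_assoc (P l), hPP]
      by_cases h : l = t
      · subst h
        rw [if_pos rfl, if_pos rfl, h1, ← Units.val_pow_eq_pow_val, mul_assoc]
      · simp [h]
    show (z : A ⊗[k] A') ^ (i : ℕ) * Φ e * ↑(z ^ (l : ℕ))⁻¹ * ((z : A ⊗[k] A') ^ (t : ℕ) * Φ e * ↑(z ^ (r : ℕ))⁻¹) = _
    rw [show ∀ a c d g h : A ⊗[k] A', a * Φ e * c * (d * g * h) = a * (Φ e * (c * d) * g) * h from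
      fun a c d g h => by simp only [mul_assoc], hmid]
    split_ifs with h
    · rfl
    · simp
  have hE1 : ∑ i, E i i = 1 := by
    rw [Finset.sum_congr rfl fun i _ => hconj i, ← map_one Φ, ← hsum, map_sum]
    refine Finset.sum_bij (fun i _ => (σ ^ (i : ℕ))⁻¹) (fun _ _ => mem_univ _)
      (fun i _ l _ h => Fin.ext (gen_pow_inj hσ i i.2 l l.2 (inv_inj.1 h))) ?_ (fun _ _ => rfl)
    intro τ _
    obtain ⟨l, hl, h⟩ := (mem_zpowers_iff_mem_range_orderOf).1 (hσ τ⁻¹) |> Finset.mem_image.1
    exact ⟨⟨l, by rw [mem_range, orderOf_gen hσ] at hl; exact hl⟩, mem_univ _, by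
      show (σ ^ l)⁻¹ = τ; rw [h, inv_inv]⟩
  obtain ⟨g, hg⟩ := exists_algHom_of_units (R := k) E hEmul hE1
  have hcommE : ∀ i l, ∀ a, Commute (f a) (E i l) := by
    intro i l
    have hΦe : Commute Y (Φ e) := by
      have h : ∀ x, Φ x * Y = Y * Φ (T σ σ x) := by
        intro x
        induction x with
        | zero => simp only [map_zero, zero_mul, mul_zero]
        | add a c ha hc => simp only [map_add, add_mul, mul_add, ha, hc]
        | tmul a c =>
          show (D.ι a ⊗ₜ[k] D'.ι c) * (D.y ⊗ₜ D'.y) = (D.y ⊗ₜ D'.y) * (D.ι (σ a) ⊗ₜ[k] D'.ι (σ c))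
          rw [Algebra.TensorProduct.tmul_mul_tmul, Algebra.TensorProduct.tmul_mul_tmul, D.rel, D'.rel]
      have h1 := h e
      rw [hdiag] at h1
      exact h1.symm
    have hYz : Commute Y (z : A ⊗[k] A') := by
      rw [hzval]
      show (D.y ⊗ₜ[k] D'.y) * ((1 : A) ⊗ₜ D'.y) = ((1 : A) ⊗ₜ D'.y) * (D.y ⊗ₜ[k] D'.y)
      rw [Algebra.TensorProduct.tmul_mul_tmul, Algebra.TensorProduct.tmul_mul_tmul, one_mul, mul_one]
    have hjΦ : ∀ x, Commute (j x) (Φ e) := fun x => by
      show (D.ι x ⊗ₜ[k] (1 : A')) * Φ e = Φ e * (D.ι x ⊗ₜ[k] (1 : A'))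
      rw [← map_one D'.ι, show (D.ι x ⊗ₜ[k] D'.ι 1) = Φ (x ⊗ₜ 1) from rfl, ← map_mul, ← map_mul, mul_comm]
    have hjz : ∀ x, Commute (j x) (z : A ⊗[k] A') := fun x => by
      rw [hzval]
      show (D.ι x ⊗ₜ[k] (1 : A')) * ((1 : A) ⊗ₜ D'.y) = ((1 : A) ⊗ₜ D'.y) * (D.ι x ⊗ₜ[k] (1 : A'))
      rw [Algebra.TensorProduct.tmul_mul_tmul, Algebra.TensorProduct.tmul_mul_tmul, one_mul, mul_one, mul_one, one_mul]
    have hgen : ∀ a : A ⊗[k] A', Commute a (Φ e) → Commute a (z : A ⊗[k] A') → Commute a (E i l) := by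
      intro a h1 h2
      refine ((h2.pow_right _).mul_right h1).mul_right ?_
      apply Commute.units_inv_right
      rw [Units.val_pow_eq_pow_val]
      exact h2.pow_right _
    intro a
    have ha : a ∈ Algebra.adjoin k (Set.range D''.ι ∪ {D''.y}) := by rw [D''.adj]; trivial
    induction ha using Algebra.adjoin_induction with
    | mem x hx =>
      rcases hx with ⟨x, rfl⟩ | rfl
      · rw [hfι]; exact hgen _ (hjΦ x) (hjz x)
      · rw [hfy]; exact hgen _ hΦe hYz
    | algebraMap r => rw [AlgHom.commutes]; exact Algebra.commutes r _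
    | add x y _ _ hx hy => rw [map_add]; exact hx.add_left hy
    | mul x y _ _ hx hy => rw [map_mul]; exact hx.mul_left hy
  have hcomm : ∀ a M, Commute (f a) (g M) := fun a M => by
    rw [hg]
    exact Commute.sum_right _ _ _ fun i _ => Commute.sum_right _ _ _ fun l _ => (hcommE i l a).smul_right _
  let Ψ : A'' ⊗[k] Matrix (Fin m) (Fin m) k →ₐ[k] A ⊗[k] A' := Algebra.TensorProduct.lift f g hcomm
  have := D''.isSimpleRing hσ
  have := D''.isCentral hσ
  have : IsSimpleRing (A'' ⊗[k] Matrix (Fin m) (Fin m) k) := Groth.Agent.H7CSA.isSimpleRing_tensor k A'' _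
  have hinj : Function.Injective Ψ := Ψ.toRingHom.injective
  have hfr : Module.finrank k (A'' ⊗[k] Matrix (Fin m) (Fin m) k) = Module.finrank k (A ⊗[k] A') := by
    rw [Module.finrank_tensorProduct, Module.finrank_tensorProduct, D.dim, D'.dim, D''.dim, Module.finrank_matrix,
      Fintype.card_fin, Module.finrank_self, mul_one, ← hm, sq]
  exact ⟨(AlgEquiv.ofBijective Ψ ⟨hinj,
    (LinearMap.injective_iff_surjective_of_finrank_eq_finrank (f := Ψ.toLinearMap) hfr).1 hinj⟩).symm.trans
      (matrixEquivTensor (Fin m) k A'').symm⟩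

end BrauerLib
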