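import Groth.Agent.Lib.H7CSASplit

/-! A splitting field of degree `n` embeds in a similar algebra of dimension `n²`. -/

set_option autoImplicit false

open scoped TensorProduct

universe u v w

namespace Groth.Agent.H7CSA

variable {k : Type u} [Field k]

lemma splits_op {A : Type v} [Ring A] [Algebra k A] {K : Type w} [Field K] [Algebra k K]
    (h : Curves.Splits k A K) : Curves.Splits k Aᵐᵒᵖ K := by
  obtain ⟨n, hn, ⟨e⟩⟩ := h
  exact ⟨n, hn, ⟨(Algebra.TensorProduct.congr (AlgEquiv.toOpposite K K)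
      (AlgEquiv.refl : Aᵐᵒᵖ ≃ₐ[k] Aᵐᵒᵖ)).trans
    ((Algebra.TensorProduct.opAlgEquiv k K K A).trans
      (e.op.trans (Matrix.transposeAlgEquiv (Fin n) K K).symm))⟩⟩

/-- If a field `K` splits the skew field `D` then `K` embeds in some `Mₛ(D)` of dimension
`[K:k]²`. -/
theorem exists_algHom_matrix_of_splits (D : Type v) [DivisionRing D] [Algebra k D]
    [FiniteDimensional k D] (K : Type w) [Field K] [Algebra k K] [FiniteDimensional k K]
    (h : Curves.Splits k D K) :
    ∃ s : ℕ, s ≠ 0 ∧ Nonempty (K →ₐ[k] Matrix (Fin s) (Fin s) D) ∧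
      Module.finrank k (Matrix (Fin s) (Fin s) D) = Module.finrank k K ^ 2 ∧
      ∀ d : ℕ, Module.finrank k D = d ^ 2 → Module.finrank k K = s * d := by
  classical
  obtain ⟨d, hd, ⟨e⟩⟩ := splits_op h
  have : NeZero d := ⟨hd⟩
  let ρ : Dᵐᵒᵖ →ₐ[k] Module.End K (Fin d → K) :=
    ((algEquivMatrix' (R := K) (n := Fin d)).symm.toAlgHom.restrictScalars k).comp
      ((e.toAlgHom.restrictScalars k).comp Algebra.TensorProduct.includeRight)
  letI : Module Dᵐᵒᵖ (Fin d → K) := Module.compHom _ ρ.toRingHom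
  have hρ : ∀ (a : Dᵐᵒᵖ) (v : Fin d → K), a • v = ρ a v := fun _ _ => rfl
  have : IsScalarTower k Dᵐᵒᵖ (Fin d → K) := ⟨fun c a v => by
    rw [hρ, hρ, map_smul, LinearMap.smul_apply]⟩
  have : SMulCommClass Dᵐᵒᵖ K (Fin d → K) := ⟨fun a c v => by rw [hρ, hρ, map_smul]⟩
  have : SMulCommClass K Dᵐᵒᵖ (Fin d → K) := SMulCommClass.symm _ _ _
  have : Module.Finite Dᵐᵒᵖ (Fin d → K) := Module.Finite.of_restrictScalars_finite k _ _
  let s := Module.finrank Dᵐᵒᵖ (Fin d → K)
  let b := Module.finBasis Dᵐᵒᵖ (Fin d → K)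
  have hdD : Module.finrank k D = d ^ 2 := by
    have h1 := e.toLinearEquiv.finrank_eq
    rw [Module.finrank_baseChange, Module.finrank_matrix, Fintype.card_fin, Module.finrank_self,
      mul_one, (MulOpposite.opLinearEquiv k (M := D)).symm.finrank_eq] at h1
    rw [h1, sq]
  have hV : s * d ^ 2 = Module.finrank k K * d := by
    have h1 := Module.finrank_mul_finrank k Dᵐᵒᵖ (Fin d → K)
    have h2 := Module.finrank_mul_finrank k K (Fin d → K)
    rw [(MulOpposite.opLinearEquiv k (M := D)).symm.finrank_eq, hdD] at h1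
    rw [Module.finrank_pi, Fintype.card_fin] at h2
    rw [Nat.mul_comm, h1, ← h2]
  have hn : Module.finrank k K = s * d := by
    apply Nat.eq_of_mul_eq_mul_right (Nat.pos_of_ne_zero hd)
    rw [← hV]; ring
  have hs : s ≠ 0 := by
    intro hs
    have : 0 < Module.finrank k K := Module.finrank_pos
    rw [hn, hs, zero_mul] at this
    exact lt_irrefl 0 this
  let ε : Module.End Dᵐᵒᵖ (Fin d → K) ≃ₐ[k] Matrix (Fin s) (Fin s) D :=
    (b.equivFun.conjAlgEquiv k).trans ((endVecAlgEquivMatrixEnd ..).trans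
      ((AlgEquiv.moduleEndSelf k).symm.trans (AlgEquiv.opOp k D).symm).mapMatrix)
  refine ⟨s, hs, ⟨ε.toAlgHom.comp (Algebra.lsmul k Dᵐᵒᵖ (Fin d → K))⟩, ?_, fun d' hd' => ?_⟩
  · rw [Module.finrank_matrix, Fintype.card_fin, hdD, hn]; ring
  · obtain rfl : d' = d := by
      have h1 : d' ^ 2 = d ^ 2 := hd'.symm.trans hdD
      exact Nat.pow_left_injective two_ne_zero h1
    exact hn

end Groth.Agent.H7CSA
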