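/-
Tensor powers of algebras and periods of cyclic algebras.
-/
import Groth.Agent.Lib.BrauerCyclicMul
import Groth.Agent.Lib.H7CSAEmbed

set_option autoImplicit false
set_option linter.unusedSectionVars false

open scoped TensorProduct
open Finset

namespace BrauerLib

universe u v w

section Tpow

variable (k : Type u) [Field k] (A : Type w) [Ring A] [Algebra k A]

lemma tpow_zero : Nonempty (CSAGal.tpow k A 0 ≃ₐ[k] k) := by
  let g : CSAGal.tpow k A 0 →ₐ[k] k := PiTensorProduct.liftAlgHom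
    (MultilinearMap.constOfIsEmpty k (fun _ : Fin 0 => A) (1 : k)) rfl (fun _ _ => (mul_one 1).symm)
  refine ⟨AlgEquiv.ofAlgHom g (Algebra.ofId k _) (Subsingleton.elim _ _) ?_⟩
  exact PiTensorProduct.algHom_ext fun i => i.elim0

lemma tpow_succ (e : ℕ) : Nonempty (CSAGal.tpow k A (e + 1) ≃ₐ[k] A ⊗[k] CSAGal.tpow k A e) := by
  classical
  let L : A →ₗ[k] MultilinearMap k (fun _ : Fin e => A) (A ⊗[k] CSAGal.tpow k A e) :=
    { toFun := fun a => (TensorProduct.mk k A (CSAGal.tpow k A e) a).compMultilinearMap (PiTensorProduct.tprod k)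
      map_add' := fun a b => MultilinearMap.ext fun x => by
        simp [TensorProduct.add_tmul]
      map_smul' := fun r a => MultilinearMap.ext fun x => by
        simp [TensorProduct.smul_tmul'] }
  let Φ : MultilinearMap k (fun _ : Fin (e + 1) => A) (A ⊗[k] CSAGal.tpow k A e) := LinearMap.uncurryLeft L
  have hΦ : ∀ x, Φ x = x 0 ⊗ₜ[k] PiTensorProduct.tprod k (Fin.tail x) := fun x => rfl
  let f : CSAGal.tpow k A (e + 1) →ₐ[k] A ⊗[k] CSAGal.tpow k A e := PiTensorProduct.liftAlgHom Φ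
    (by rw [hΦ, Algebra.TensorProduct.one_def]; rfl)
    (fun x y => by
      rw [hΦ, hΦ, hΦ, Algebra.TensorProduct.tmul_mul_tmul, PiTensorProduct.tprod_mul_tprod]
      rfl)
  let Ψ : MultilinearMap k (fun _ : Fin e => A) (CSAGal.tpow k A (e + 1)) :=
    (PiTensorProduct.tprod k (s := fun _ : Fin (e + 1) => A)).curryLeft 1
  have hΨ : ∀ x, Ψ x = PiTensorProduct.tprod k (Fin.cons (1 : A) x) := fun x => rfl
  let h : CSAGal.tpow k A e →ₐ[k] CSAGal.tpow k A (e + 1) := PiTensorProduct.liftAlgHom Ψ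
    (by
      rw [hΨ, PiTensorProduct.one_def]
      congr 1
      funext i; refine Fin.cases ?_ (fun i => ?_) i <;> simp)
    (fun x y => by
      rw [hΨ, hΨ, hΨ, PiTensorProduct.tprod_mul_tprod]
      congr 1
      funext i; refine Fin.cases ?_ (fun i => ?_) i <;> simp)
  have hh : ∀ x, h (PiTensorProduct.tprod k x) = PiTensorProduct.tprod k (Fin.cons (1 : A) x) := fun x => by
    simp [h, PiTensorProduct.liftAlgHom, hΨ]
  have hf : ∀ x, f (PiTensorProduct.tprod k x) = x 0 ⊗ₜ[k] PiTensorProduct.tprod k (Fin.tail x) := fun x => by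
    simp [f, PiTensorProduct.liftAlgHom, hΦ]
  let sg : A →ₐ[k] CSAGal.tpow k A (e + 1) := PiTensorProduct.singleAlgHom (A := fun _ : Fin (e + 1) => A) 0
  have hsg : ∀ (a : A) (x : Fin e → A), sg a * h (PiTensorProduct.tprod k x) = PiTensorProduct.tprod k (Fin.cons a x) := by
    intro a x
    rw [hh]
    show PiTensorProduct.tprod k (Pi.mulSingle (M := fun _ => A) 0 a) * _ = _
    rw [PiTensorProduct.tprod_mul_tprod]
    congr 1
    funext i; refine Fin.cases ?_ (fun i => ?_) i <;> simp [Fin.succ_ne_zero]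
  have hcomm : ∀ a t, Commute (sg a) (h t) := by
    intro a t
    induction t using PiTensorProduct.induction_on with
    | smul_tprod r x =>
      rw [map_smul, hh]
      refine Commute.smul_right ?_ r
      show Commute (PiTensorProduct.tprod k (Pi.mulSingle (M := fun _ => A) 0 a)) _
      refine Commute.tprod ?_
      funext i; refine Fin.cases ?_ (fun i => ?_) i <;> simp [Fin.succ_ne_zero]
    | add x y hx hy => rw [map_add]; exact hx.add_right hy
  let g : A ⊗[k] CSAGal.tpow k A e →ₐ[k] CSAGal.tpow k A (e + 1) := Algebra.TensorProduct.lift sg h hcomm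
  refine ⟨AlgEquiv.ofAlgHom f g ?_ ?_⟩
  · refine AlgHom.toLinearMap_injective (TensorProduct.ext' fun a t => ?_)
    show f (g (a ⊗ₜ t)) = a ⊗ₜ t
    induction t using PiTensorProduct.induction_on with
    | smul_tprod r x =>
      rw [TensorProduct.tmul_smul, map_smul, map_smul, Algebra.TensorProduct.lift_tmul, hsg, hf, Fin.cons_zero, Fin.tail_cons]
    | add x y hx hy => rw [TensorProduct.tmul_add, map_add, map_add, hx, hy]
  · refine AlgHom.ext fun t => ?_
    show g (f t) = t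
    induction t using PiTensorProduct.induction_on with
    | smul_tprod r x =>
      rw [map_smul, map_smul, hf, Algebra.TensorProduct.lift_tmul, hsg, Fin.cons_self_tail]
    | add x y hx hy => rw [map_add, map_add, hx, hy]

end Tpow

variable {k : Type u} [Field k] {K : Type v} [Field K] [Algebra k K] [FiniteDimensional k K] [IsGalois k K]
  {σ : K ≃ₐ[k] K} (hσ : ∀ τ : K ≃ₐ[k] K, τ ∈ Subgroup.zpowers σ)
  {b : kˣ} {A : Type w} [Ring A] [Algebra k A]

include hσ

lemma exists_model_pres (c : kˣ) :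
    ∃ C : Subalgebra k (Matrix (Fin (Module.finrank k K)) (Fin (Module.finrank k K)) K),
      Nonempty (CycPres k K σ c C) := by
  obtain ⟨C, -, hC⟩ := exists_model hσ c
  exact ⟨C, nonempty_cycPres hC⟩

lemma tpow_model (D : CycPres k K σ b A) (e : ℕ) :
    ∃ (C : Subalgebra k (Matrix (Fin (Module.finrank k K)) (Fin (Module.finrank k K)) K))
      (_ : CycPres k K σ (b ^ (e + 1)) C) (n : ℕ),
      n ≠ 0 ∧ Nonempty (CSAGal.tpow k A (e + 1) ≃ₐ[k] Matrix (Fin n) (Fin n) C) := by
  classical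
  have hpos : 0 < Module.finrank k K := Module.finrank_pos
  induction e with
  | zero =>
    obtain ⟨C, ⟨DC⟩⟩ := exists_model_pres hσ (b ^ 1)
    refine ⟨C, DC, 1, one_ne_zero, ?_⟩
    have := DC.finite
    have := DC.nontrivial
    have hz : DC.y ^ Module.finrank k K = algebraMap k C ((b : kˣ) : k) := by rw [DC.pow_eq, pow_one]
    obtain ⟨eAC⟩ := D.algEquiv_of_finrank hσ hz DC.rel DC.dim
    obtain ⟨e1⟩ := tpow_succ k A 0
    obtain ⟨e0⟩ := tpow_zero k A
    have hbij : Function.Bijective (Matrix.scalarAlgHom (α := C) (Fin 1) k) := by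
      refine ⟨fun x y h => ?_, fun M => ⟨M 0 0, ?_⟩⟩
      · simpa [Matrix.scalar_apply] using congrFun (congrFun h 0) 0
      · ext i j : 1
        rw [Subsingleton.elim i 0, Subsingleton.elim j 0]
        simp [Matrix.scalar_apply]
    let eC : C ≃ₐ[k] Matrix (Fin 1) (Fin 1) C := AlgEquiv.ofBijective _ hbij
    exact ⟨e1.trans ((Algebra.TensorProduct.congr AlgEquiv.refl e0).trans
      ((Algebra.TensorProduct.rid k k A).trans (eAC.trans eC)))⟩
  | succ e ih =>
    obtain ⟨C, DC, n, hn, ⟨φ⟩⟩ := ih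
    obtain ⟨C', ⟨DC'⟩⟩ := exists_model_pres hσ (b * b ^ (e + 1))
    obtain ⟨ψ⟩ := tensor_algEquiv hσ D DC DC'
    obtain ⟨e1⟩ := tpow_succ k A (e + 1)
    refine ⟨C', (by rw [pow_succ']; exact DC'), n * Module.finrank k K, Nat.mul_ne_zero hn hpos.ne', ?_⟩
    exact ⟨e1.trans ((Algebra.TensorProduct.congr AlgEquiv.refl φ).trans
      ((Algebra.TensorProduct.congr AlgEquiv.refl (Groth.Agent.H7CSA.mte k k C (Fin n)).symm).trans
        ((Algebra.TensorProduct.assoc k k k A C (Matrix (Fin n) (Fin n) k)).symm.trans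
          ((Groth.Agent.H7CSA.mte k k (A ⊗[k] C) (Fin n)).trans
            (ψ.mapMatrix.trans (Groth.Agent.H7CSA.flatten k C' n (Module.finrank k K))))))) ⟩

lemma splits_tpow_iff (D : CycPres k K σ b A) (e : ℕ) :
    Curves.Splits k (CSAGal.tpow k A (e + 1)) k ↔ ∃ x : K, Algebra.norm k x = (b : k) ^ (e + 1) := by
  obtain ⟨C, DC, n, hn, ⟨φ⟩⟩ := tpow_model hσ D e
  have := DC.finite
  have := DC.isCentral hσ
  have := DC.isSimpleRing hσ
  rw [← Units.val_pow_eq_pow_val, ← splits_iff_norm hσ DC]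
  exact ⟨fun h => Groth.Agent.H7CSA.splits_of_splits_matrix hn (Groth.Agent.H7CSA.splits_congr φ h),
    fun h => Groth.Agent.H7CSA.splits_congr φ.symm (Groth.Agent.H7CSA.splits_matrix hn h)⟩

lemma isPeriod_iff (D : CycPres k K σ b A) (e : ℕ) :
    CSAGal.IsPeriod k A e ↔
      (0 < e ∧ (∃ x : K, Algebra.norm k x = (b : k) ^ e) ∧
        ∀ e' : ℕ, 0 < e' → e' < e → ¬ ∃ x : K, Algebra.norm k x = (b : k) ^ e') := by
  have key : ∀ e, 0 < e → (Curves.Splits k (CSAGal.tpow k A e) k ↔ ∃ x : K, Algebra.norm k x = (b : k) ^ e) := by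
    intro e he
    obtain ⟨e', rfl⟩ : ∃ e', e = e' + 1 := ⟨e - 1, by omega⟩
    exact splits_tpow_iff hσ D e'
  unfold CSAGal.IsPeriod
  constructor
  · rintro ⟨h0, h1, h2⟩
    exact ⟨h0, (key e h0).1 h1, fun e' p q r => h2 e' p q ((key e' p).2 r)⟩
  · rintro ⟨h0, h1, h2⟩
    exact ⟨h0, (key e h0).2 h1, fun e' p q r => h2 e' p q ((key e' p).1 r)⟩

omit hσ in
/-- A central simple algebra split by `K` is Brauer equivalent to a cyclic algebra. -/
theorem exists_cyclic_equiv (hσ : ∀ τ : K ≃ₐ[k] K, τ ∈ Subgroup.zpowers σ)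
    [Algebra.IsCentral k A] [IsSimpleRing A] [FiniteDimensional k A] (hA : Curves.Splits k A K) :
    (∃ (b : kˣ) (B : Type w) (_ : Ring B) (_ : Algebra k B), CSAGal.IsCyclicAlg k K σ b B ∧
      ∃ n m : ℕ, n ≠ 0 ∧ m ≠ 0 ∧ Nonempty (Matrix (Fin n) (Fin n) A ≃ₐ[k] Matrix (Fin m) (Fin m) B)) ∧
      (Module.finrank k A = Module.finrank k K ^ 2 → ∃ b : kˣ, CSAGal.IsCyclicAlg k K σ b A) := by
  have : IsArtinianRing A := IsArtinianRing.of_finite k A
  obtain ⟨r, hr, D, _, _, _, ⟨e⟩⟩ := IsSimpleRing.exists_algEquiv_matrix_divisionRing_finite k A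
  have : Algebra.IsCentral k (Matrix (Fin r) (Fin r) D) := Algebra.IsCentral.of_algEquiv k A _ e
  have : Algebra.IsCentral k D := ⟨fun z hz => by
    rw [Subalgebra.mem_center_iff] at hz
    have hm : Matrix.scalar (Fin r) z ∈ Subalgebra.center k (Matrix (Fin r) (Fin r) D) :=
      Subalgebra.mem_center_iff.mpr fun M => by ext i j; simp [hz (M i j)]
    obtain ⟨c, hc⟩ := Algebra.mem_bot.mp (Algebra.IsCentral.out hm)
    refine Algebra.mem_bot.mpr ⟨c, ?_⟩
    have := congrFun (congrFun hc 0) 0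
    simpa [Matrix.algebraMap_eq_diagonal] using this⟩
  have hD : Curves.Splits k D K := Groth.Agent.H7CSA.splits_of_splits_matrix hr.out (Groth.Agent.H7CSA.splits_congr e hA)
  obtain ⟨s, hs, ⟨ι⟩, hdim, -⟩ := Groth.Agent.H7CSA.exists_algHom_matrix_of_splits D K hD
  have : NeZero s := ⟨hs⟩
  obtain ⟨b, hb⟩ := exists_isCyclicAlg hσ ι hdim
  refine ⟨⟨b, Matrix (Fin s) (Fin s) D, inferInstance, inferInstance, hb, s, r, hs, hr.out, ⟨?_⟩⟩, fun hA2 => ?_⟩
  swap
  · have hrs : r = s := by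
      have h1 := e.toLinearEquiv.finrank_eq
      rw [hA2, ← hdim, Module.finrank_matrix, Module.finrank_matrix, Fintype.card_fin, Fintype.card_fin] at h1
      exact (Nat.mul_self_inj.1 (Nat.eq_of_mul_eq_mul_right Module.finrank_pos h1)).symm
    subst hrs
    obtain ⟨Dc⟩ := nonempty_cycPres hb
    exact ⟨b, isCyclicAlg_congr hσ Dc e.symm⟩
  exact e.mapMatrix.trans ((Matrix.compAlgEquiv _ _ _ _).trans
    ((Matrix.reindexAlgEquiv k D (Equiv.prodComm (Fin s) (Fin r))).trans
      (Matrix.compAlgEquiv _ _ _ _).symm))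

end BrauerLib
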