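/-
Brauer equivalence of algebras: calculus (tensor, powers, base change, cancellation).
-/
import Groth.Agent.Lib.BrauerPeriod
import Mathlib.Algebra.Azumaya.Basic
import Mathlib.Algebra.Central.TensorProduct

set_option autoImplicit false
set_option linter.unusedSectionVars false

open scoped TensorProduct

namespace BrauerLib

universe u v w x y

open Groth.Agent

/-- Brauer equivalence of algebras. -/
def BE (k : Type u) [Field k] (A : Type v) (B : Type w) [Ring A] [Algebra k A] [Ring B] [Algebra k B] : Prop :=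
  ∃ n m : ℕ, n ≠ 0 ∧ m ≠ 0 ∧ Nonempty (Matrix (Fin n) (Fin n) A ≃ₐ[k] Matrix (Fin m) (Fin m) B)

/-- Finite dimensional central simple. -/
structure IsCSA (k : Type u) [Field k] (A : Type v) [Ring A] [Algebra k A] : Prop where
  central : Algebra.IsCentral k A
  simple : IsSimpleRing A
  finite : FiniteDimensional k A

section basic

variable (k : Type u) [Field k]

/-- reindexing of matrices. -/
noncomputable def castMat (A : Type v) [Ring A] [Algebra k A] {n m : ℕ} (h : n = m) :
    Matrix (Fin n) (Fin n) A ≃ₐ[k] Matrix (Fin m) (Fin m) A :=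
  Matrix.reindexAlgEquiv k A (finCongr h)

/-- one by one matrices. -/
noncomputable def matOne (A : Type v) [Ring A] [Algebra k A] : A ≃ₐ[k] Matrix (Fin 1) (Fin 1) A :=
  AlgEquiv.ofBijective (Matrix.scalarAlgHom (α := A) (Fin 1) k) (by
    refine ⟨fun x y h => ?_, fun M => ⟨M 0 0, ?_⟩⟩
    · simpa [Matrix.scalar_apply] using congrFun (congrFun h 0) 0
    · ext i j : 1
      rw [Subsingleton.elim i 0, Subsingleton.elim j 0]
      simp [Matrix.scalar_apply])

/-- tensor product of matrix algebras. -/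
noncomputable def tensorMatMat (A : Type v) [Ring A] [Algebra k A] (B : Type w) [Ring B] [Algebra k B] (n m : ℕ) :
    Matrix (Fin n) (Fin n) A ⊗[k] Matrix (Fin m) (Fin m) B ≃ₐ[k] Matrix (Fin (n * m)) (Fin (n * m)) (A ⊗[k] B) :=
  (Algebra.TensorProduct.congr (H7CSA.mte k k A (Fin n)).symm (H7CSA.mte k k B (Fin m)).symm).trans
    ((Algebra.TensorProduct.tensorTensorTensorComm k k k k A (Matrix (Fin n) (Fin n) k) B (Matrix (Fin m) (Fin m) k)).trans
      ((Algebra.TensorProduct.congr AlgEquiv.refl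
          ((Algebra.TensorProduct.comm k _ _).trans
            ((H7CSA.mte k k (Matrix (Fin m) (Fin m) k) (Fin n)).trans (H7CSA.flatten k k n m)))).trans
        (H7CSA.mte k k (A ⊗[k] B) (Fin (n * m)))))

end basic

section calculus

variable {k : Type u} [Field k] {A : Type v} [Ring A] [Algebra k A] {B : Type w} [Ring B] [Algebra k B]

theorem BE.of_algEquiv (e : A ≃ₐ[k] B) : BE k A B :=
  ⟨1, 1, one_ne_zero, one_ne_zero, ⟨e.mapMatrix⟩⟩

theorem BE.refl : BE k A A := BE.of_algEquiv AlgEquiv.refl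

theorem BE.symm (h : BE k A B) : BE k B A := by
  obtain ⟨n, m, hn, hm, ⟨e⟩⟩ := h
  exact ⟨m, n, hm, hn, ⟨e.symm⟩⟩

theorem BE.trans {C : Type x} [Ring C] [Algebra k C] (h : BE k A B) (h' : BE k B C) : BE k A C := by
  obtain ⟨n, m, hn, hm, ⟨e⟩⟩ := h
  obtain ⟨p, q, hp, hq, ⟨f⟩⟩ := h'
  refine ⟨p * n, m * q, Nat.mul_ne_zero hp hn, Nat.mul_ne_zero hm hq, ⟨?_⟩⟩
  exact (H7CSA.flatten k A p n).symm.trans (e.mapMatrix.trans ((H7CSA.flatten k B p m).trans
    ((castMat k B (mul_comm p m)).trans ((H7CSA.flatten k B m p).symm.trans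
      (f.mapMatrix.trans (H7CSA.flatten k C m q))))))

theorem BE.matrix {n : ℕ} (hn : n ≠ 0) : BE k (Matrix (Fin n) (Fin n) A) A :=
  ⟨1, 1 * n, one_ne_zero, Nat.mul_ne_zero one_ne_zero hn, ⟨H7CSA.flatten k A 1 n⟩⟩

theorem BE.of_matrix_equiv {n : ℕ} (hn : n ≠ 0) (e : A ≃ₐ[k] Matrix (Fin n) (Fin n) B) : BE k A B :=
  (BE.of_algEquiv e).trans (BE.matrix hn)

theorem BE.tensor {A' : Type x} [Ring A'] [Algebra k A'] {B' : Type y} [Ring B'] [Algebra k B']
    (h : BE k A A') (h' : BE k B B') : BE k (A ⊗[k] B) (A' ⊗[k] B') := by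
  obtain ⟨n, m, hn, hm, ⟨e⟩⟩ := h
  obtain ⟨p, q, hp, hq, ⟨f⟩⟩ := h'
  exact ⟨n * p, m * q, Nat.mul_ne_zero hn hp, Nat.mul_ne_zero hm hq,
    ⟨(tensorMatMat k A B n p).symm.trans ((Algebra.TensorProduct.congr e f).trans (tensorMatMat k A' B' m q))⟩⟩

theorem BE.tensor_comm : BE k (A ⊗[k] B) (B ⊗[k] A) := BE.of_algEquiv (Algebra.TensorProduct.comm k A B)

theorem BE.tensor_assoc {C : Type x} [Ring C] [Algebra k C] : BE k ((A ⊗[k] B) ⊗[k] C) (A ⊗[k] (B ⊗[k] C)) :=
  BE.of_algEquiv (Algebra.TensorProduct.assoc k k k A B C)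

theorem BE.one_tensor : BE k (k ⊗[k] A) A := BE.of_algEquiv (Algebra.TensorProduct.lid k A)

theorem BE.tensor_one : BE k (A ⊗[k] k) A := BE.of_algEquiv (Algebra.TensorProduct.rid k k A)

theorem splits_to_BE (h : Curves.Splits k A k) : BE k A k := by
  obtain ⟨n, hn, ⟨e⟩⟩ := h
  exact BE.of_matrix_equiv hn ((Algebra.TensorProduct.lid k A).symm.trans e)

theorem BE.to_splits (hA : IsCSA k A) (h : BE k A k) : Curves.Splits k A k := by
  obtain ⟨n, m, hn, hm, ⟨e⟩⟩ := h
  have := hA.central; have := hA.simple; have := hA.finite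
  exact H7CSA.splits_of_splits_matrix hn ⟨m, hm, ⟨(Algebra.TensorProduct.lid k _).trans e⟩⟩

theorem BE.splits_iff (hA : IsCSA k A) (hB : IsCSA k B) (h : BE k A B) {L : Type x} [Field L] [Algebra k L] :
    Curves.Splits k A L ↔ Curves.Splits k B L := by
  obtain ⟨n, m, hn, hm, ⟨e⟩⟩ := h
  have := hA.central; have := hA.simple; have := hA.finite
  have := hB.central; have := hB.simple; have := hB.finite
  exact ⟨fun hs => H7CSA.splits_of_splits_matrix hm (H7CSA.splits_congr e (H7CSA.splits_matrix hn hs)),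
    fun hs => H7CSA.splits_of_splits_matrix hn (H7CSA.splits_congr e.symm (H7CSA.splits_matrix hm hs))⟩

end calculus

section csa

variable {k : Type u} [Field k] {A : Type v} [Ring A] [Algebra k A] {B : Type w} [Ring B] [Algebra k B]

theorem isCentral_tensor [Algebra.IsCentral k A] [Algebra.IsCentral k B] [Nontrivial B] :
    Algebra.IsCentral k (A ⊗[k] B) := by
  classical
  refine ⟨fun z hz => ?_⟩
  rw [Subalgebra.mem_center_iff] at hz
  let e := Module.Basis.ofVectorSpace k A
  set b := TensorProduct.equivFinsuppOfBasisLeft (N := B) e z with hb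
  have hzsum : (b.sum fun i y => e i ⊗ₜ[k] y) = z := by
    have := TensorProduct.equivFinsuppOfBasisLeft_symm_apply (N := B) e b
    rw [← this, hb, LinearEquiv.symm_apply_apply]
  have key : ∀ i, ∃ t : k, algebraMap k B t = b i := fun i => by
    refine Algebra.mem_bot.mp (Algebra.IsCentral.out (Subalgebra.mem_center_iff.mpr fun c => ?_))
    have h1 := hz ((1 : A) ⊗ₜ[k] c)
    rw [← hzsum, Finsupp.sum, Finset.mul_sum, Finset.sum_mul] at h1
    simp only [Algebra.TensorProduct.tmul_mul_tmul, one_mul, mul_one] at h1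
    have h2 := congrArg (TensorProduct.equivFinsuppOfBasisLeft (N := B) e) h1
    have h3 := DFunLike.congr_fun h2 i
    simp only [map_sum, Finsupp.finset_sum_apply, TensorProduct.equivFinsuppOfBasisLeft_apply_tmul_apply,
      Module.Basis.repr_self, Finsupp.single_apply, ite_smul, one_smul, zero_smul,
      Finset.sum_ite_eq'] at h3
    by_cases hi : i ∈ b.support
    · simpa [hi] using h3
    · rw [Finsupp.notMem_support_iff.mp hi]; simp
  choose t ht using key
  have hza : z = (b.support.sum fun i => t i • e i) ⊗ₜ[k] (1 : B) := by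
    rw [← hzsum, Finsupp.sum, TensorProduct.sum_tmul]
    refine Finset.sum_congr rfl fun i _ => ?_
    rw [← ht i, Algebra.algebraMap_eq_smul_one, TensorProduct.tmul_smul, TensorProduct.smul_tmul']
  have hinj := Algebra.TensorProduct.includeLeft_injective (R := k) (S := k) (A := A) (B := B)
    (algebraMap k B).injective
  have hc : (b.support.sum fun i => t i • e i) ∈ Subalgebra.center k A := by
    rw [Subalgebra.mem_center_iff]
    intro a
    apply hinj
    have h1 := hz (a ⊗ₜ[k] (1 : B))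
    rw [hza, Algebra.TensorProduct.tmul_mul_tmul, Algebra.TensorProduct.tmul_mul_tmul, mul_one] at h1
    exact h1
  obtain ⟨r, hr⟩ := Algebra.mem_bot.1 (Algebra.IsCentral.out hc)
  exact Algebra.mem_bot.2 ⟨r, by rw [hza, ← hr, Algebra.TensorProduct.algebraMap_apply]⟩

theorem IsCSA.tensor (hA : IsCSA k A) (hB : IsCSA k B) : IsCSA k (A ⊗[k] B) := by
  have := hA.central; have := hA.simple; have := hA.finite
  have := hB.central; have := hB.simple; have := hB.finite
  exact ⟨isCentral_tensor, H7CSA.isSimpleRing_tensor k A B, inferInstance⟩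

theorem IsCSA.self : IsCSA k k := ⟨inferInstance, inferInstance, inferInstance⟩

theorem IsCSA.congr (hA : IsCSA k A) (e : A ≃ₐ[k] B) : IsCSA k B := by
  have := hA.simple; have := hA.finite; have := hA.central
  have : Nontrivial B := e.injective.nontrivial
  refine ⟨⟨fun z hz => ?_⟩, IsSimpleRing.of_surjective e.toRingEquiv.toRingHom inferInstance e.surjective,
    Module.Finite.equiv e.toLinearEquiv⟩
  rw [Subalgebra.mem_center_iff] at hz
  have h : e.symm z ∈ Subalgebra.center k A := by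
    rw [Subalgebra.mem_center_iff]
    intro c
    apply e.injective
    rw [map_mul, map_mul, e.apply_symm_apply, hz]
  obtain ⟨r, hr⟩ := Algebra.mem_bot.1 (Algebra.IsCentral.out h)
  exact Algebra.mem_bot.2 ⟨r, by rw [← e.apply_symm_apply z, ← hr, AlgEquiv.commutes]⟩

theorem IsCSA.matrix (hA : IsCSA k A) {n : ℕ} (hn : n ≠ 0) : IsCSA k (Matrix (Fin n) (Fin n) A) := by
  have : Nonempty (Fin n) := ⟨⟨0, Nat.pos_of_ne_zero hn⟩⟩
  exact (hA.tensor (B := Matrix (Fin n) (Fin n) k) ⟨inferInstance, inferInstance, inferInstance⟩).congr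
    (H7CSA.mte k k A (Fin n))

theorem IsCSA.of_matrix {n : ℕ} (hn : n ≠ 0) (h : IsCSA k (Matrix (Fin n) (Fin n) A)) [IsSimpleRing A]
    [FiniteDimensional k A] : IsCSA k A := by
  have := h.central
  refine ⟨⟨fun z hz => ?_⟩, inferInstance, inferInstance⟩
  rw [Subalgebra.mem_center_iff] at hz
  have hm : Matrix.scalar (Fin n) z ∈ Subalgebra.center k (Matrix (Fin n) (Fin n) A) :=
    Subalgebra.mem_center_iff.mpr fun M => by ext i j; simp [hz (M i j)]
  obtain ⟨c, hc⟩ := Algebra.mem_bot.mp (Algebra.IsCentral.out hm)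
  refine Algebra.mem_bot.mpr ⟨c, ?_⟩
  have := congrFun (congrFun hc ⟨0, Nat.pos_of_ne_zero hn⟩) ⟨0, Nat.pos_of_ne_zero hn⟩
  simpa [Matrix.algebraMap_eq_diagonal] using this

theorem IsCSA.op (hA : IsCSA k A) : IsCSA k Aᵐᵒᵖ := by
  have := hA.central; have := hA.simple; have := hA.finite
  exact ⟨inferInstance, inferInstance, inferInstance⟩

theorem mulLeftRight_bijective [Algebra.IsCentral k A] [IsSimpleRing A] [FiniteDimensional k A] :
    Function.Bijective (AlgHom.mulLeftRight k A) := by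
  have hA : IsCSA k A := ⟨inferInstance, inferInstance, inferInstance⟩
  have := (hA.tensor hA.op).simple
  have : Nontrivial (Module.End k A) :=
    Module.nontrivial_of_finrank_pos (R := k) (by
      rw [Module.finrank_linearMap]; exact Nat.mul_pos Module.finrank_pos Module.finrank_pos)
  have hinj : Function.Injective (AlgHom.mulLeftRight k A) := (AlgHom.mulLeftRight k A).toRingHom.injective
  refine ⟨hinj, (LinearMap.injective_iff_surjective_of_finrank_eq_finrank
    (f := (AlgHom.mulLeftRight k A).toLinearMap) ?_).1 hinj⟩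
  rw [Module.finrank_tensorProduct, Module.finrank_linearMap, (MulOpposite.opLinearEquiv k (M := A)).finrank_eq]

theorem BE.tensor_op (hA : IsCSA k A) : BE k (A ⊗[k] Aᵐᵒᵖ) k := by
  have := hA.central; have := hA.simple; have := hA.finite
  exact BE.of_matrix_equiv (n := Module.finrank k A) Module.finrank_pos.ne'
    ((AlgEquiv.ofBijective _ mulLeftRight_bijective).trans (algEquivMatrix (Module.finBasis k A)))

theorem BE.cancel {C : Type x} [Ring C] [Algebra k C] (hC : IsCSA k C)
    (h : BE k (A ⊗[k] C) (B ⊗[k] C)) : BE k A B := by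
  have h1 : BE k ((A ⊗[k] C) ⊗[k] Cᵐᵒᵖ) ((B ⊗[k] C) ⊗[k] Cᵐᵒᵖ) := h.tensor BE.refl
  have h2 : BE k ((A ⊗[k] C) ⊗[k] Cᵐᵒᵖ) A := BE.tensor_assoc.trans ((BE.refl.tensor (BE.tensor_op hC)).trans BE.tensor_one)
  have h3 : BE k ((B ⊗[k] C) ⊗[k] Cᵐᵒᵖ) B := BE.tensor_assoc.trans ((BE.refl.tensor (BE.tensor_op hC)).trans BE.tensor_one)
  exact h2.symm.trans (h1.trans h3)

end csa

section power

variable (k : Type u) [Field k] (A : Type v) [Ring A] [Algebra k A]

/-- splitting off the first factor. -/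
noncomputable def tpowSucc (e : ℕ) : CSAGal.tpow k A (e + 1) ≃ₐ[k] A ⊗[k] CSAGal.tpow k A e :=
  (tpow_succ k A e).some

/-- the empty power. -/
noncomputable def tpowZero : CSAGal.tpow k A 0 ≃ₐ[k] k := (tpow_zero k A).some

/-- the first power. -/
noncomputable def tpowOne : CSAGal.tpow k A 1 ≃ₐ[k] A :=
  (tpowSucc k A 0).trans ((Algebra.TensorProduct.congr AlgEquiv.refl (tpowZero k A)).trans
    (Algebra.TensorProduct.rid k k A))

/-- powers add. -/
noncomputable def tpowAdd : (a b : ℕ) → CSAGal.tpow k A (a + b) ≃ₐ[k] CSAGal.tpow k A a ⊗[k] CSAGal.tpow k A b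
  | 0, b => by
    rw [Nat.zero_add]
    exact (Algebra.TensorProduct.lid k _).symm.trans (Algebra.TensorProduct.congr (tpowZero k A).symm AlgEquiv.refl)
  | a + 1, b => by
    rw [Nat.add_right_comm]
    exact (tpowSucc k A (a + b)).trans ((Algebra.TensorProduct.congr AlgEquiv.refl (tpowAdd a b)).trans
      ((Algebra.TensorProduct.assoc k k k _ _ _).symm.trans
        (Algebra.TensorProduct.congr (tpowSucc k A a).symm AlgEquiv.refl)))

variable {k A}

theorem IsCSA.tpow (hA : IsCSA k A) : ∀ e, IsCSA k (CSAGal.tpow k A e)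
  | 0 => IsCSA.self.congr (tpowZero k A).symm
  | e + 1 => (hA.tensor (IsCSA.tpow hA e)).congr (tpowSucc k A e).symm

theorem BE.tpow {B : Type w} [Ring B] [Algebra k B] (h : BE k A B) :
    ∀ e, BE k (CSAGal.tpow k A e) (CSAGal.tpow k B e)
  | 0 => BE.of_algEquiv ((tpowZero k A).trans (tpowZero k B).symm)
  | e + 1 => (BE.of_algEquiv (tpowSucc k A e)).trans ((h.tensor (BE.tpow h e)).trans
      (BE.of_algEquiv (tpowSucc k B e).symm))

theorem tpow_mul_BE (a : ℕ) : ∀ b, BE k (CSAGal.tpow k (CSAGal.tpow k A a) b) (CSAGal.tpow k A (a * b))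
  | 0 => BE.of_algEquiv ((tpowZero k _).trans (tpowZero k A).symm)
  | b + 1 => by
    refine (BE.of_algEquiv (tpowSucc k (CSAGal.tpow k A a) b)).trans ?_
    refine ((BE.refl (A := CSAGal.tpow k A a)).tensor (tpow_mul_BE a b)).trans ?_
    refine (BE.of_algEquiv (tpowAdd k A a (a * b)).symm).trans ?_
    rw [show a + a * b = a * (b + 1) by ring]
    exact BE.refl

theorem tpow_tensor_BE {B : Type w} [Ring B] [Algebra k B] :
    ∀ e, BE k (CSAGal.tpow k (A ⊗[k] B) e) (CSAGal.tpow k A e ⊗[k] CSAGal.tpow k B e)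
  | 0 => BE.of_algEquiv ((tpowZero k _).trans ((Algebra.TensorProduct.lid k k).symm.trans
      (Algebra.TensorProduct.congr (tpowZero k A).symm (tpowZero k B).symm)))
  | e + 1 => by
    refine (BE.of_algEquiv (tpowSucc k (A ⊗[k] B) e)).trans ?_
    refine (BE.refl.tensor (tpow_tensor_BE e)).trans (BE.of_algEquiv ?_)
    exact (Algebra.TensorProduct.tensorTensorTensorComm k k k k A B (CSAGal.tpow k A e) (CSAGal.tpow k B e)).trans
      (Algebra.TensorProduct.congr (tpowSucc k A e).symm (tpowSucc k B e).symm)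

theorem tpow_k_BE (e : ℕ) : BE k (CSAGal.tpow k k e) k := by
  induction e with
  | zero => exact BE.of_algEquiv (tpowZero k k)
  | succ e ih => exact (BE.of_algEquiv (tpowSucc k k e)).trans (BE.one_tensor.trans ih)

/-- killed by `e`. -/
def Killed (k : Type u) [Field k] (A : Type v) [Ring A] [Algebra k A] (e : ℕ) : Prop :=
  BE k (CSAGal.tpow k A e) k

theorem killed_iff_splits (hA : IsCSA k A) (e : ℕ) : Killed k A e ↔ Curves.Splits k (CSAGal.tpow k A e) k :=
  ⟨fun h => h.to_splits (hA.tpow e), splits_to_BE⟩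

theorem Killed.mul {e : ℕ} (h : Killed k A e) (f : ℕ) : Killed k A (e * f) :=
  (tpow_mul_BE e f).symm.trans ((h.tpow f).trans (tpow_k_BE f))

theorem Killed.of_dvd {e f : ℕ} (h : Killed k A e) (hd : e ∣ f) : Killed k A f := by
  obtain ⟨c, rfl⟩ := hd; exact h.mul c

theorem tpow_add_killed {e : ℕ} (h : Killed k A e) (r : ℕ) :
    BE k (CSAGal.tpow k A (r + e)) (CSAGal.tpow k A r) :=
  (BE.of_algEquiv (tpowAdd k A r e)).trans ((BE.refl.tensor h).trans BE.tensor_one)

theorem Killed.add_cancel {e r : ℕ} (h : Killed k A e) : Killed k A (r + e) ↔ Killed k A r :=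
  ⟨(tpow_add_killed h r).symm.trans, (tpow_add_killed h r).trans⟩

theorem tpow_mod_BE {e : ℕ} (h : Killed k A e) (r : ℕ) :
    BE k (CSAGal.tpow k A r) (CSAGal.tpow k A (r % e)) := by
  have h1 := tpow_add_killed (h.mul (r / e)) (r % e)
  rwa [Nat.mod_add_div] at h1

theorem tpow_congr_mod {e r s : ℕ} (h : Killed k A e) (hrs : r % e = s % e) :
    BE k (CSAGal.tpow k A r) (CSAGal.tpow k A s) := by
  refine (tpow_mod_BE h r).trans ?_
  rw [hrs]
  exact (tpow_mod_BE h s).symm

theorem Killed.mod {e r : ℕ} (h : Killed k A e) : Killed k A r ↔ Killed k A (r % e) :=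
  ⟨(tpow_mod_BE h r).symm.trans, (tpow_mod_BE h r).trans⟩

theorem Killed.gcd {e f : ℕ} (he : Killed k A e) (hf : Killed k A f) : Killed k A (Nat.gcd e f) := by
  induction e, f using Nat.gcd.induction with
  | H0 n => rwa [Nat.gcd_zero_left]
  | H1 m n hm ih => rw [Nat.gcd_rec]; exact ih (he.mod.1 hf) he

theorem Killed.tpow {a b : ℕ} : Killed k (CSAGal.tpow k A a) b ↔ Killed k A (a * b) :=
  ⟨(tpow_mul_BE a b).symm.trans, (tpow_mul_BE a b).trans⟩

theorem killed_congr {B : Type w} [Ring B] [Algebra k B] (h : BE k A B) (e : ℕ) : Killed k A e ↔ Killed k B e :=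
  ⟨(h.tpow e).symm.trans, (h.tpow e).trans⟩

theorem killed_one_iff : Killed k A 1 ↔ BE k A k :=
  ⟨(BE.of_algEquiv (tpowOne k A)).symm.trans, (BE.of_algEquiv (tpowOne k A)).trans⟩

end power

section baseChange

variable (k : Type u) [Field k] (L : Type v) [Field L] [Algebra k L]

/-- `X ⊗_L (L ⊗_k B) = X ⊗_k B` for possibly non-commutative algebras. -/
noncomputable def cbc (T : Type x) [CommSemiring T] (X : Type y) [Semiring X] [Algebra k X] [Algebra L X] [Algebra T X]
    [Algebra k T] [Algebra L T] [IsScalarTower k L X] [IsScalarTower L T X] [IsScalarTower k T X]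
    (B : Type w) [Semiring B] [Algebra k B] : X ⊗[L] (L ⊗[k] B) ≃ₐ[T] X ⊗[k] B :=
  AlgEquiv.symm <| AlgEquiv.ofLinearEquiv
    (TensorProduct.AlgebraTensorModule.cancelBaseChange k L T X B).symm
    (by simp [Algebra.TensorProduct.one_def]) <|
      LinearMap.map_mul_of_map_mul_tmul (fun _ _ _ _ ↦ by simp)

/-- base change of a tensor product. -/
noncomputable def bcTensor (A : Type w) [Ring A] [Algebra k A] (B : Type x) [Ring B] [Algebra k B] :
    L ⊗[k] (A ⊗[k] B) ≃ₐ[L] (L ⊗[k] A) ⊗[L] (L ⊗[k] B) :=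
  (Algebra.TensorProduct.assoc k k L L A B).symm.trans
    (cbc k L L (L ⊗[k] A) B).symm

variable {k} {A : Type w} [Ring A] [Algebra k A]

theorem BE.baseChange {B : Type x} [Ring B] [Algebra k B] (h : BE k A B) : BE L (L ⊗[k] A) (L ⊗[k] B) := by
  obtain ⟨n, m, hn, hm, ⟨e⟩⟩ := h
  exact ⟨n, m, hn, hm, ⟨(H7CSA.tensorMatrix L A n).symm.trans
    ((Algebra.TensorProduct.congr AlgEquiv.refl e).trans (H7CSA.tensorMatrix L B m))⟩⟩

theorem bc_self : BE L (L ⊗[k] k) L := BE.of_algEquiv (Algebra.TensorProduct.rid k L L)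

theorem IsCSA.baseChange (hA : IsCSA k A) : IsCSA L (L ⊗[k] A) := by
  have := hA.central; have := hA.simple; have := hA.finite
  exact ⟨H7CSA.isCentral_baseChange k L A, H7CSA.isSimpleRing_baseChange k L A, inferInstance⟩

theorem tpow_bc : ∀ e, BE L (CSAGal.tpow L (L ⊗[k] A) e) (L ⊗[k] CSAGal.tpow k A e)
  | 0 => BE.of_algEquiv ((tpowZero L _).trans ((Algebra.TensorProduct.rid k L L).symm.trans
      (Algebra.TensorProduct.congr AlgEquiv.refl (tpowZero k A).symm)))
  | e + 1 => by
    refine (BE.of_algEquiv (tpowSucc L (L ⊗[k] A) e)).trans ?_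
    refine (BE.refl.tensor (tpow_bc e)).trans (BE.of_algEquiv ?_)
    exact (bcTensor k L A (CSAGal.tpow k A e)).symm.trans
      (Algebra.TensorProduct.congr AlgEquiv.refl (tpowSucc k A e).symm)

theorem splits_iff_BE_baseChange (hA : IsCSA k A) : Curves.Splits k A L ↔ BE L (L ⊗[k] A) L := by
  constructor
  · rintro ⟨n, hn, ⟨e⟩⟩
    exact BE.of_matrix_equiv hn e
  · intro h
    obtain ⟨n, hn, ⟨e⟩⟩ := h.to_splits (hA.baseChange L)
    exact ⟨n, hn, ⟨(Algebra.TensorProduct.lid L _).symm.trans e⟩⟩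

theorem killed_baseChange_iff (hA : IsCSA k A) (e : ℕ) :
    Killed L (L ⊗[k] A) e ↔ Curves.Splits k (CSAGal.tpow k A e) L := by
  rw [splits_iff_BE_baseChange L (hA.tpow e)]
  exact ⟨(tpow_bc L e).symm.trans, (tpow_bc L e).trans⟩

theorem Killed.baseChange {e : ℕ} (h : Killed k A e) : Killed L (L ⊗[k] A) e :=
  (tpow_bc L e).trans ((BE.baseChange L h).trans (bc_self L))

/-- splitting through a tower. -/
theorem splits_tower {M : Type x} [Field M] [Algebra k M] [Algebra L M] [IsScalarTower k L M] :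
    Curves.Splits L (L ⊗[k] A) M ↔ Curves.Splits k A M := by
  constructor
  · rintro ⟨n, hn, ⟨e⟩⟩
    exact ⟨n, hn, ⟨(cbc k L M M A).symm.trans e⟩⟩
  · rintro ⟨n, hn, ⟨e⟩⟩
    exact ⟨n, hn, ⟨(cbc k L M M A).trans e⟩⟩

theorem splits_tensor (hA : Curves.Splits k A L) {B : Type x} [Ring B] [Algebra k B] (hB : Curves.Splits k B L) :
    Curves.Splits k (A ⊗[k] B) L := by
  obtain ⟨n, hn, ⟨e⟩⟩ := hA
  obtain ⟨m, hm, ⟨f⟩⟩ := hB
  exact ⟨n * m, Nat.mul_ne_zero hn hm, ⟨(bcTensor k L A B).trans ((Algebra.TensorProduct.congr e f).trans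
    ((tensorMatMat L L L n m).trans (Algebra.TensorProduct.lid L L).mapMatrix))⟩⟩

theorem splits_self : Curves.Splits k k L :=
  ⟨1, one_ne_zero, ⟨(Algebra.TensorProduct.rid k L L).trans (matOne L L)⟩⟩

theorem splits_tpow (hA : Curves.Splits k A L) : ∀ e, Curves.Splits k (CSAGal.tpow k A e) L
  | 0 => H7CSA.splits_congr (tpowZero k A).symm (splits_self L)
  | e + 1 => H7CSA.splits_congr (tpowSucc k A e).symm (splits_tensor L hA (splits_tpow hA e))

end baseChange

end BrauerLib
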