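/-
Index and period of central simple algebras.
-/
import Groth.Agent.Lib.BrauerEquiv
import Mathlib.GroupTheory.Sylow
import Mathlib.GroupTheory.IndexNormal

set_option autoImplicit false
set_option linter.unusedSectionVars false

open scoped TensorProduct

namespace BrauerLib

universe u v w x

open Groth.Agent

section index

variable {k : Type u} [Field k] {A : Type v} [Ring A] [Algebra k A]

theorem exists_division (hA : IsCSA k A) :
    ∃ (D : Type v) (_ : DivisionRing D) (_ : Algebra k D) (m d : ℕ), 0 < m ∧ 0 < d ∧ IsCSA k D ∧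
      Module.finrank k D = d ^ 2 ∧ Nonempty (A ≃ₐ[k] Matrix (Fin m) (Fin m) D) := by
  have := hA.central; have := hA.simple; have := hA.finite
  have : IsArtinianRing A := IsArtinianRing.of_finite k A
  obtain ⟨m, hm, D, _, _, _, ⟨e⟩⟩ := IsSimpleRing.exists_algEquiv_matrix_divisionRing_finite k A
  have hD : IsCSA k D := IsCSA.of_matrix hm.out (hA.congr e)
  have := hD.central
  obtain ⟨K, hK, -, n, hn, ⟨f⟩⟩ := H7CSA.exists_galois_splitting k D
  have h1 := f.toLinearEquiv.finrank_eq
  rw [Module.finrank_baseChange, Module.finrank_matrix, Fintype.card_fin, Module.finrank_self, mul_one, ← sq] at h1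
  exact ⟨D, inferInstance, inferInstance, m, n, Nat.pos_of_ne_zero hm.out, Nat.pos_of_ne_zero hn, hD, h1, ⟨e⟩⟩

theorem exists_isIndex (hA : IsCSA k A) : ∃ d, CSAGal.IsIndex k A d := by
  obtain ⟨D, _, _, m, d, hm, hd, -, hD, he⟩ := exists_division hA
  exact ⟨d, hd, m, D, inferInstance, inferInstance, hm, hD, he⟩

theorem isIndex_divisionRing {D : Type w} [DivisionRing D] [Algebra k D] {d : ℕ} (hd : 0 < d)
    (hD : Module.finrank k D = d ^ 2) : CSAGal.IsIndex k D d :=
  ⟨hd, 1, D, inferInstance, inferInstance, one_pos, hD, ⟨matOne k D⟩⟩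

theorem index_spec (hA : IsCSA k A) {d : ℕ} (h : CSAGal.IsIndex k A d) :
    ∃ (D : Type v) (_ : DivisionRing D) (_ : Algebra k D), IsCSA k D ∧ Module.finrank k D = d ^ 2 ∧ BE k A D := by
  obtain ⟨hd, m, D, _, _, hm, hD, ⟨e⟩⟩ := h
  have : FiniteDimensional k D := Module.finite_of_finrank_pos (by rw [hD]; exact pow_pos hd 2)
  exact ⟨D, inferInstance, inferInstance, IsCSA.of_matrix hm.ne' (hA.congr e), hD, BE.of_matrix_equiv hm.ne' e⟩

theorem index_dvd_of_splits (hA : IsCSA k A) {d : ℕ} (h : CSAGal.IsIndex k A d) (K : Type w) [Field K]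
    [Algebra k K] [FiniteDimensional k K] (hs : Curves.Splits k A K) : d ∣ Module.finrank k K := by
  obtain ⟨D, _, _, hD, hdim, hBE⟩ := index_spec hA h
  have := hD.finite
  obtain ⟨s, -, -, -, h4⟩ := H7CSA.exists_algHom_matrix_of_splits D K ((hBE.splits_iff hA hD).1 hs)
  exact ⟨s, by rw [h4 d hdim, mul_comm]⟩

theorem exists_sep_splitting (hA : IsCSA k A) {d : ℕ} (h : CSAGal.IsIndex k A d) :
    ∃ (L : Type v) (_ : Field L) (_ : Algebra k L) (_ : FiniteDimensional k L), Algebra.IsSeparable k L ∧
      Module.finrank k L = d ∧ Curves.Splits k A L := by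
  obtain ⟨D, _, _, hD, hdim, hBE⟩ := index_spec hA h
  have := hD.finite; have := hD.central; have := hD.simple
  obtain ⟨L, hcomm, hsep, hC⟩ := H7CSA.exists_separable_centralizer_eq (k := k) (D := D)
  have hsq := H7CSA.finrank_eq_sq_of_centralizer_eq hcomm hC
  letI := H7CSA.fieldOfComm L hcomm
  refine ⟨L, inferInstance, inferInstance, inferInstance, hsep, ?_, ?_⟩
  · rw [hdim] at hsq
    exact (Nat.pow_left_injective two_ne_zero hsq).symm
  · exact (hBE.splits_iff hA hD).2 (H7CSA.splits_of_algHom_self L.val hsq)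

theorem index_dvd_of_split_imp (hA : IsCSA k A) {B : Type w} [Ring B] [Algebra k B] (hB : IsCSA k B) {a b : ℕ}
    (ha : CSAGal.IsIndex k A a) (hb : CSAGal.IsIndex k B b)
    (h : ∀ (L : Type w) [Field L] [Algebra k L], Curves.Splits k B L → Curves.Splits k A L) : a ∣ b := by
  obtain ⟨L, _, _, _, -, hdim, hs⟩ := exists_sep_splitting hB hb
  rw [← hdim]
  exact index_dvd_of_splits hA ha L (h L hs)

theorem index_dvd_of_BE (hA : IsCSA k A) {B : Type w} [Ring B] [Algebra k B] (hB : IsCSA k B) {a b : ℕ}
    (ha : CSAGal.IsIndex k A a) (hb : CSAGal.IsIndex k B b) (h : BE k A B) : a ∣ b :=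
  index_dvd_of_split_imp hA hB ha hb fun _ _ _ hs => (h.splits_iff hA hB).2 hs

theorem index_eq_of_BE (hA : IsCSA k A) {B : Type w} [Ring B] [Algebra k B] (hB : IsCSA k B) {a b : ℕ}
    (ha : CSAGal.IsIndex k A a) (hb : CSAGal.IsIndex k B b) (h : BE k A B) : a = b :=
  Nat.dvd_antisymm (index_dvd_of_BE hA hB ha hb h) (index_dvd_of_BE hB hA hb ha h.symm)

theorem index_eq_one_iff (hA : IsCSA k A) {d : ℕ} (h : CSAGal.IsIndex k A d) : d = 1 ↔ Curves.Splits k A k := by
  constructor
  · rintro rfl
    obtain ⟨D, _, _, hD, hdim, hBE⟩ := index_spec hA h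
    have := hD.finite
    have := hD.central
    have hbt : (⊥ : Subalgebra k D) = ⊤ := Subalgebra.bot_eq_top_of_finrank_eq_one (by simpa using hdim)
    let e : D ≃ₐ[k] k := ((Subalgebra.topEquiv (R := k) (A := D)).symm.trans
      (Subalgebra.equivOfEq _ _ hbt.symm)).trans (Algebra.botEquiv k D)
    exact (hBE.trans (BE.of_algEquiv e)).to_splits hA
  · intro hs
    have h1 := index_dvd_of_splits hA h k hs
    rwa [Module.finrank_self, Nat.dvd_one] at h1

theorem index_dvd_tpow (hA : IsCSA k A) {d : ℕ} (h : CSAGal.IsIndex k A d) (e : ℕ) {d' : ℕ}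
    (h' : CSAGal.IsIndex k (CSAGal.tpow k A e) d') : d' ∣ d :=
  index_dvd_of_split_imp (hA.tpow e) hA h' h fun L _ _ hs => splits_tpow L hs e

end index

section period

theorem killed_prime_of_cyclic {k : Type u} [Field k] {K : Type w} [Field K] [Algebra k K] [FiniteDimensional k K]
    [IsGalois k K] (hcyc : IsCyclic (K ≃ₐ[k] K)) {A : Type v} [Ring A] [Algebra k A] (hA : IsCSA k A)
    (hs : Curves.Splits k A K) : Killed k A (Module.finrank k K) := by
  obtain ⟨σ, hσ⟩ := hcyc.exists_generator
  have := hA.central; have := hA.simple; have := hA.finite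
  obtain ⟨⟨b, B, _, _, hB, hBE⟩, -⟩ := exists_cyclic_equiv (A := A) hσ hs
  obtain ⟨D⟩ := nonempty_cycPres hB
  obtain ⟨e, he⟩ : ∃ e, Module.finrank k K = e + 1 := ⟨Module.finrank k K - 1, by have := D.pos; omega⟩
  have h1 : Curves.Splits k (CSAGal.tpow k B (e + 1)) k :=
    (splits_tpow_iff hσ D e).2 ⟨algebraMap k K b, by rw [Algebra.norm_algebraMap, he]⟩
  rw [he]
  exact (killed_congr (BE.symm (BE.symm hBE)) _).2 (splits_to_BE h1)

theorem killed_pgroup (a : ℕ) : ∀ (k : Type u) [Field k] (K : Type u) [Field K] [Algebra k K]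
    [FiniteDimensional k K] [IsGalois k K] (p : ℕ) [Fact p.Prime] (_ : IsPGroup p (K ≃ₐ[k] K))
    (H : Subgroup (K ≃ₐ[k] K)) (_ : H.index = p ^ a) (A : Type (max u v)) [Ring A] [Algebra k A]
    (_ : IsCSA k A) (_ : Curves.Splits k A (IntermediateField.fixedField H)), Killed k A (p ^ a) := by
  induction a with
  | zero =>
    intro k _ K _ _ _ _ p _ _ H hH A _ _ hA hs
    rw [pow_zero] at hH ⊢
    obtain rfl := Subgroup.index_eq_one.1 hH
    refine killed_one_iff.2 (splits_to_BE ?_)
    exact H7CSA.splits_of_algHom ((IntermediateField.botEquiv k K).toAlgHom.comp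
      (IntermediateField.inclusion (le_of_eq IsGalois.fixedField_top))) hs
  | succ a ih =>
    intro k _ K _ _ _ _ p hp hG H hH A _ _ hA hs
    obtain ⟨N, hN⟩ := IsPGroup.iff_card.1 hG
    obtain ⟨j, hj, hjH⟩ := (Nat.dvd_prime_pow hp.out).1 (hN ▸ H.card_subgroup_dvd_card)
    have hNj : N = a + 1 + j := by
      have h1 := H.index_mul_card
      rw [hN, hH, hjH, ← pow_add] at h1
      exact (Nat.pow_right_injective hp.out.two_le h1).symm
    obtain ⟨M, hM, hHM⟩ := Sylow.exists_subgroup_card_pow_prime_le p (n := j) (m := a + j)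
      (by rw [hN]; exact pow_dvd_pow p (by omega)) H hjH (by omega)
    have hMi : M.index = p := by
      have h1 := M.index_mul_card
      rw [hN, hM, hNj, show a + 1 + j = a + j + 1 by omega, pow_succ'] at h1
      exact Nat.eq_of_mul_eq_mul_right (pow_pos hp.out.pos _) h1
    have : M.Normal := Subgroup.normal_of_index_eq_minFac_card (by
      rw [hMi, hN, Nat.pow_minFac (by omega), hp.out.minFac_eq])
    set E := IntermediateField.fixedField M with hE
    let ψ : M ≃* (K ≃ₐ[E] K) := IntermediateField.subgroupEquivAlgEquiv M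
    let H' : Subgroup (K ≃ₐ[E] K) := (H.subgroupOf M).map ψ.toMonoidHom
    have hH' : H'.index = p ^ a := by
      have h1 : H'.index = H.relIndex M := Subgroup.index_map_equiv _ ψ
      have h2 := Subgroup.relIndex_mul_index hHM
      rw [hH, hMi, pow_succ] at h2
      exact h1.trans (Nat.eq_of_mul_eq_mul_right hp.out.pos h2)
    have hfix : ∀ x : K, x ∈ IntermediateField.fixedField H → x ∈ IntermediateField.fixedField H' := by
      intro x hx
      rw [IntermediateField.mem_fixedField_iff] at hx ⊢
      rintro _ ⟨f, hf, rfl⟩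
      exact hx f.1 hf
    let incl : IntermediateField.fixedField H →ₐ[k] IntermediateField.fixedField H' :=
      { toFun := fun x => ⟨x.1, hfix x.1 x.2⟩
        map_one' := rfl
        map_mul' := fun _ _ => rfl
        map_zero' := rfl
        map_add' := fun _ _ => rfl
        commutes' := fun _ => rfl }
    have hs' : Curves.Splits E (E ⊗[k] A) (IntermediateField.fixedField H') :=
      (splits_tower E).2 (H7CSA.splits_of_algHom incl hs)
    have h1 := ih E K p (IsPGroup.of_equiv (hG.to_subgroup M) ψ) H' hH' (E ⊗[k] A) (hA.baseChange E) hs'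
    rw [killed_baseChange_iff E hA] at h1
    have hcyc : IsCyclic (E ≃ₐ[k] E) := by
      refine isCyclic_of_prime_card (p := p) ?_
      rw [IsGalois.card_aut_eq_finrank, IntermediateField.finrank_eq_fixingSubgroup_index, hE,
        IntermediateField.fixingSubgroup_fixedField, hMi]
    have h2 := killed_prime_of_cyclic hcyc (hA.tpow (p ^ a)) h1
    rw [IntermediateField.finrank_eq_fixingSubgroup_index, hE, IntermediateField.fixingSubgroup_fixedField, hMi,
      Killed.tpow] at h2
    rwa [pow_succ]

variable {k : Type u} [Field k] {A : Type v} [Ring A] [Algebra k A]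

/-- The period divides the degree of any separable splitting field. -/
theorem killed_of_sep_splitting (hA : IsCSA k A) (L : Type w) [Field L] [Algebra k L] [FiniteDimensional k L]
    [Algebra.IsSeparable k L] (hs : Curves.Splits k A L) : Killed k A (Module.finrank k L) := by
  classical
  set Ω := AlgebraicClosure k
  let f : L →ₐ[k] Ω := IsAlgClosed.lift
  let ef : L ≃ₐ[k] f.fieldRange := AlgEquiv.ofInjectiveField f
  have hfin : FiniteDimensional k f.fieldRange := Module.Finite.equiv ef.toLinearEquiv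
  have hsep : Algebra.IsSeparable k f.fieldRange := AlgEquiv.Algebra.isSeparable ef
  let K : IntermediateField k Ω := IntermediateField.normalClosure k f.fieldRange Ω
  have hsN : Algebra.IsSeparable k K := by
    rw [← le_separableClosure_iff]
    show IntermediateField.normalClosure k f.fieldRange Ω ≤ _
    rw [normalClosure_def]
    refine iSup_le fun g => ?_
    rintro _ ⟨y, rfl⟩
    exact mem_separableClosure_iff.mpr ((Algebra.IsSeparable.isSeparable k y).map g g.injective)
  have : IsGalois k K := ⟨⟩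
  let i : L →ₐ[k] K := (IntermediateField.inclusion f.fieldRange.le_normalClosure).comp ef.toAlgHom
  let L1 : IntermediateField k K := i.fieldRange
  let ei : L ≃ₐ[k] L1 := AlgEquiv.ofInjectiveField i
  set H := L1.fixingSubgroup with hHdef
  have hHd : H.index = Module.finrank k L := by
    rw [hHdef, ← IntermediateField.finrank_eq_fixingSubgroup_index]
    exact ei.toLinearEquiv.finrank_eq.symm
  have hd : 0 < Module.finrank k L := Module.finrank_pos
  set d := Module.finrank k L with hddef
  let C := CSAGal.tpow k A d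
  obtain ⟨c, hc⟩ := exists_isIndex (hA.tpow d)
  have key : ∀ p : ℕ, p.Prime → ¬ p ∣ c := by
    intro p hp hpc
    have := Fact.mk hp
    obtain ⟨Q⟩ : Nonempty (Sylow p H) := inferInstance
    set Q' : Subgroup (K ≃ₐ[k] K) := (Q : Subgroup H).map H.subtype with hQ'
    have hQp : IsPGroup p Q' := Q.2.map _
    obtain ⟨P, hQP⟩ := hQp.exists_le_sylow
    set F := IntermediateField.fixedField (P : Subgroup (K ≃ₐ[k] K)) with hF
    let ψ : (P : Subgroup (K ≃ₐ[k] K)) ≃* (K ≃ₐ[F] K) := IntermediateField.subgroupEquivAlgEquiv _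
    let H' : Subgroup (K ≃ₐ[F] K) := (Q'.subgroupOf (P : Subgroup (K ≃ₐ[k] K))).map ψ.toMonoidHom
    have hH' : H'.index = p ^ d.factorization p := by
      have h1 : H'.index = Q'.relIndex (P : Subgroup (K ≃ₐ[k] K)) := Subgroup.index_map_equiv _ ψ
      have hQc : Nat.card Q' = p ^ (Nat.card H).factorization p := by
        rw [hQ', Subgroup.card_map_of_injective H.subtype_injective]
        exact Q.card_eq_multiplicity
      have h2 : Nat.card Q' * Q'.relIndex (P : Subgroup (K ≃ₐ[k] K)) = Nat.card (P : Subgroup (K ≃ₐ[k] K)) := by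
        rw [← Subgroup.relIndex_bot_left, Subgroup.relIndex_mul_relIndex ⊥ _ _ bot_le hQP,
          Subgroup.relIndex_bot_left]
      rw [hQc, P.card_eq_multiplicity, ← H.index_mul_card, hHd,
        Nat.factorization_mul hd.ne' Nat.card_pos.ne', Finsupp.add_apply, pow_add, mul_comm (p ^ d.factorization p)] at h2
      exact h1.trans (Nat.eq_of_mul_eq_mul_left (pow_pos hp.pos _) h2)
    have hfix : ∀ x : K, x ∈ L1 → x ∈ IntermediateField.fixedField H' := by
      intro x hx
      rw [IntermediateField.mem_fixedField_iff]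
      rintro _ ⟨g, hg, rfl⟩
      obtain ⟨q, -, hq⟩ := hg
      have h3 : (g : K ≃ₐ[k] K) ∈ H := by
        rw [← show (q.1 : K ≃ₐ[k] K) = g.1 from hq]
        exact q.2
      exact (IntermediateField.mem_fixingSubgroup_iff _ _).1 h3 x hx
    let incl : L →ₐ[k] IntermediateField.fixedField H' :=
      { toFun := fun x => ⟨i x, hfix (i x) ⟨x, rfl⟩⟩
        map_one' := Subtype.ext (map_one i)
        map_mul' := fun a b => Subtype.ext (map_mul i a b)
        map_zero' := Subtype.ext (map_zero i)
        map_add' := fun a b => Subtype.ext (map_add i a b)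
        commutes' := fun r => Subtype.ext (i.commutes r) }
    have hs' : Curves.Splits F (F ⊗[k] A) (IntermediateField.fixedField H') :=
      (splits_tower F).2 (H7CSA.splits_of_algHom incl hs)
    have h1 := killed_pgroup.{u, v} (d.factorization p) F K p (IsPGroup.of_equiv P.2 ψ) H' hH' (F ⊗[k] A)
      (hA.baseChange F) hs'
    have h2 : Killed F (F ⊗[k] A) d := h1.of_dvd (Nat.ordProj_dvd d p)
    rw [killed_baseChange_iff F hA] at h2
    have h4 := index_dvd_of_splits (hA.tpow d) hc F h2
    rw [IntermediateField.finrank_eq_fixingSubgroup_index, hF, IntermediateField.fixingSubgroup_fixedField] at h4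
    exact P.not_dvd_index (hpc.trans h4)
  have hc1 : c = 1 := by
    by_contra hne
    obtain ⟨p, hp, hpc⟩ := Nat.exists_prime_and_dvd hne
    exact key p hp hpc
  exact splits_to_BE ((index_eq_one_iff (hA.tpow d) hc).1 hc1)

/-- The period divides the index. -/
theorem killed_index (hA : IsCSA k A) {d : ℕ} (h : CSAGal.IsIndex k A d) : Killed k A d := by
  obtain ⟨L, _, _, _, hsep, hdim, hs⟩ := exists_sep_splitting hA h
  exact hdim ▸ killed_of_sep_splitting hA L hs

/-- Prime divisors of the index divide every exponent. -/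
theorem prime_dvd_of_killed (hA : IsCSA k A) {d e : ℕ} (h : CSAGal.IsIndex k A d) (he : Killed k A e)
    {p : ℕ} (hp : p.Prime) (hpd : p ∣ d) : p ∣ e := by
  classical
  by_contra hpe
  have := Fact.mk hp
  have := hA.central; have := hA.simple; have := hA.finite
  obtain ⟨K, hK, hgal, hs⟩ := H7CSA.exists_galois_splitting k A
  obtain ⟨P⟩ : Nonempty (Sylow p (K ≃ₐ[k] K)) := inferInstance
  set F := IntermediateField.fixedField (P : Subgroup (K ≃ₐ[k] K)) with hF
  have hdiv : d ∣ Module.finrank k F := by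
    refine index_dvd_of_splits hA h F ?_
    rw [splits_iff_BE_baseChange F hA, ← killed_one_iff]
    have h1 : Killed F (F ⊗[k] A) (Module.finrank F K) :=
      killed_of_sep_splitting (hA.baseChange F) K ((splits_tower F).2 hs)
    rw [IntermediateField.finrank_fixedField_eq_card] at h1
    obtain ⟨N, hN⟩ := IsPGroup.iff_card.1 P.2
    rw [hN] at h1
    have h2 := h1.gcd (he.baseChange F)
    rwa [show Nat.gcd (p ^ N) e = 1 from ((hp.coprime_iff_not_dvd.2 hpe).pow_left N)] at h2
  rw [IntermediateField.finrank_eq_fixingSubgroup_index, hF, IntermediateField.fixingSubgroup_fixedField] at hdiv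
  exact P.not_dvd_index (hpd.trans hdiv)

theorem isPeriod_killed (hA : IsCSA k A) {e : ℕ} (h : CSAGal.IsPeriod k A e) : Killed k A e :=
  (killed_iff_splits hA e).2 h.2.1

theorem period_dvd (hA : IsCSA k A) {e f : ℕ} (h : CSAGal.IsPeriod k A e) (hf : Killed k A f) : e ∣ f := by
  have hg := (killed_iff_splits hA _).1 ((isPeriod_killed hA h).gcd hf)
  rcases Nat.lt_or_ge (Nat.gcd e f) e with hlt | hge
  · exact absurd hg (h.2.2 _ (Nat.gcd_pos_of_pos_left f h.1) hlt)
  · have : Nat.gcd e f = e := le_antisymm (Nat.le_of_dvd h.1 (Nat.gcd_dvd_left e f)) hge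
    exact Nat.gcd_eq_left_iff_dvd.1 this

theorem exists_isPeriod (hA : IsCSA k A) : ∃ e, CSAGal.IsPeriod k A e := by
  classical
  obtain ⟨d, hd⟩ := exists_isIndex hA
  have hex : ∃ e, 0 < e ∧ Killed k A e := ⟨d, hd.1, killed_index hA hd⟩
  refine ⟨Nat.find hex, (Nat.find_spec hex).1, (killed_iff_splits hA _).1 (Nat.find_spec hex).2, fun e h1 h2 h3 => ?_⟩
  exact Nat.find_min hex h2 ⟨h1, (killed_iff_splits hA _).2 h3⟩

end period

end BrauerLib

namespace BrauerLib

universe u v w x

open Groth.Agent

variable {k : Type u} [Field k] {A : Type v} [Ring A] [Algebra k A]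

theorem index_baseChange (hA : IsCSA k A) (K : Type w) [Field K] [Algebra k K] [FiniteDimensional k K] {d d' : ℕ}
    (hd : CSAGal.IsIndex k A d) (hd' : CSAGal.IsIndex K (K ⊗[k] A) d') :
    d' ∣ d ∧ d ∣ Module.finrank k K * d' := by
  refine ⟨?_, ?_⟩
  · obtain ⟨D, _, _, hD, hdim, hBE⟩ := index_spec hA hd
    obtain ⟨E, _, _, m, d₂, hm, hd₂, hE, hEdim, ⟨e⟩⟩ := exists_division (hD.baseChange K)
    have h1 : d' = d₂ := index_eq_of_BE (hA.baseChange K) (hD.baseChange K) hd'
      ⟨hd₂, m, E, inferInstance, inferInstance, hm, hEdim, ⟨e⟩⟩ (BE.baseChange K hBE)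
    have h2 := e.toLinearEquiv.finrank_eq
    rw [Module.finrank_baseChange, hdim, Module.finrank_matrix, Fintype.card_fin, hEdim] at h2
    have h3 : d₂ ^ 2 ∣ d ^ 2 := ⟨m * m, by rw [h2]; ring⟩
    rw [h1]
    exact (Nat.pow_dvd_pow_iff two_ne_zero).1 h3
  · obtain ⟨L, _, _, _, -, hdim, hs⟩ := exists_sep_splitting (hA.baseChange K) hd'
    letI : Algebra k L := ((algebraMap K L).comp (algebraMap k K)).toAlgebra
    have : IsScalarTower k K L := IsScalarTower.of_algebraMap_eq fun _ => rfl
    have : FiniteDimensional k L := Module.Finite.trans K L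
    have h1 := index_dvd_of_splits hA hd L ((splits_tower K).1 hs)
    rwa [← Module.finrank_mul_finrank k K L, hdim] at h1

theorem index_dvd_of_coprime (hA : IsCSA k A) {d n e d' : ℕ} (hd : CSAGal.IsIndex k A d) (hk : Killed k A n)
    (hcop : Nat.Coprime n e) (h : d ∣ e * d') : d ∣ d' := by
  refine (Nat.coprime_of_dvd fun p hp hpd hpe => ?_).dvd_of_dvd_mul_left h
  have h1 := prime_dvd_of_killed hA hd hk hp hpd
  exact hp.one_lt.ne' (Nat.dvd_one.1 (hcop ▸ Nat.dvd_gcd h1 hpe))

theorem index_baseChange_dvd (hA : IsCSA k A) (K : Type w) [Field K] [Algebra k K] [FiniteDimensional k K] {d : ℕ}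
    (hd : CSAGal.IsIndex k A d) (D' : Type x) [DivisionRing D'] [Algebra K D'] [Algebra.IsCentral K D']
    [FiniteDimensional K D'] (m' : ℕ) (iso' : (K ⊗[k] A) ≃ₐ[K] Matrix (Fin m') (Fin m') D') (d' : ℕ)
    (hd' : Module.finrank K D' = d' ^ 2) : d' ∣ d ∧ d ∣ Module.finrank k K * d' := by
  have hm' : m' ≠ 0 := by
    rintro rfl
    have := (hA.baseChange K).simple
    have : Subsingleton (K ⊗[k] A) := iso'.toEquiv.subsingleton
    exact not_subsingleton _ this
  have hd0 : 0 < d' := by
    have := Module.finrank_pos (R := K) (M := D')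
    rw [hd'] at this
    exact Nat.pos_of_ne_zero fun h => by simp [h] at this
  obtain ⟨c, hc⟩ := exists_isIndex (hA.baseChange K)
  have h := index_eq_of_BE (hA.baseChange K) (B := D') ⟨inferInstance, inferInstance, inferInstance⟩ hc
    (isIndex_divisionRing hd0 hd') (BE.of_matrix_equiv hm' iso')
  exact h ▸ index_baseChange hA K hd hc

theorem csa_of_baseChange (K : Type w) [Field K] [Algebra k K] [FiniteDimensional k A]
    [Algebra.IsCentral K (K ⊗[k] A)] [IsSimpleRing (K ⊗[k] A)] : Algebra.IsCentral k A ∧ IsSimpleRing A := by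
  classical
  have hinj : Function.Injective (fun a : A => (1 : K) ⊗ₜ[k] a) :=
    Algebra.TensorProduct.includeRight_injective (algebraMap k K).injective
  have : Nontrivial A := by
    by_contra hn
    rw [not_nontrivial_iff_subsingleton] at hn
    have : Subsingleton (K ⊗[k] A) := subsingleton_of_forall_eq 0 fun z => by
      induction z with
      | zero => rfl
      | add a b ha hb => rw [ha, hb, add_zero]
      | tmul a b => rw [Subsingleton.elim b 0, TensorProduct.tmul_zero]
    exact not_subsingleton (K ⊗[k] A) this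
  constructor
  · refine ⟨fun z hz => ?_⟩
    rw [Subalgebra.mem_center_iff] at hz
    have hc : (1 : K) ⊗ₜ[k] z ∈ Subalgebra.center K (K ⊗[k] A) := by
      rw [Subalgebra.mem_center_iff]
      intro t
      induction t with
      | zero => simp
      | add a b ha hb => rw [add_mul, mul_add, ha, hb]
      | tmul a b => rw [Algebra.TensorProduct.tmul_mul_tmul, Algebra.TensorProduct.tmul_mul_tmul, one_mul, mul_one, hz]
    obtain ⟨c, hc'⟩ := Algebra.mem_bot.1 (Algebra.IsCentral.out hc)
    have hmc : (c : K) ⊗ₜ[k] (1 : A) = (1 : K) ⊗ₜ[k] z := hc'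
    obtain ⟨π, hπ⟩ := (Algebra.linearMap k K).exists_leftInverse_of_injective
      (LinearMap.ker_eq_bot.2 (algebraMap k K).injective)
    have h1 := congrArg ((TensorProduct.lid k A).toLinearMap ∘ₗ π.rTensor A) hmc
    have hπ1 : π 1 = 1 := by simpa using LinearMap.congr_fun hπ 1
    simp [hπ1] at h1
    exact Algebra.mem_bot.2 ⟨π c, by rw [← h1, Algebra.algebraMap_eq_smul_one]⟩
  · refine .of_eq_bot_or_eq_top fun I => ?_
    rcases subsingleton_or_nontrivial I.ringCon.Quotient with h | h
    · right
      rw [eq_top_iff]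
      intro x _
      have h1 : I.ringCon.mk' x = I.ringCon.mk' 0 := Subsingleton.elim _ _
      exact (I.mem_iff x).2 (Quotient.eq''.1 h1)
    · left
      rw [eq_bot_iff]
      intro x hx
      let q : A →ₐ[k] I.ringCon.Quotient :=
        { I.ringCon.mk' with commutes' := fun _ => rfl }
      let f : K ⊗[k] A →ₐ[K] K ⊗[k] I.ringCon.Quotient := Algebra.TensorProduct.map (AlgHom.id K K) q
      have : Nontrivial (K ⊗[k] I.ringCon.Quotient) :=
        (Algebra.TensorProduct.includeRight_injective (R := k) (A := K) (B := I.ringCon.Quotient)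
          (algebraMap k K).injective).nontrivial
      have hf : Function.Injective f := f.toRingHom.injective
      have h1 : q x = 0 := Quotient.eq''.2 ((I.mem_iff x).1 hx)
      have h2 : f ((1 : K) ⊗ₜ[k] x) = f 0 := by
        rw [map_zero]
        show (1 : K) ⊗ₜ[k] q x = 0
        rw [h1, TensorProduct.tmul_zero]
      have h3 := hf h2
      rw [← TensorProduct.tmul_zero A (1 : K)] at h3
      rw [hinj h3]
      exact TwoSidedIdeal.zero_mem _

variable {K : Type w} [Field K] [Algebra k K] [FiniteDimensional k K] [IsGalois k K]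

theorem exists_pow_mem {σ : K ≃ₐ[k] K} (hσ : ∀ τ : K ≃ₐ[k] K, τ ∈ Subgroup.zpowers σ)
    [Algebra.IsCentral k A] [IsSimpleRing A] [FiniteDimensional k A] (ι : K →ₐ[k] A)
    (hdim : Module.finrank k A = Module.finrank k K ^ 2) (x : Aˣ) (hrel : ∀ a, ι a * (x : A) = x * ι (σ a)) :
    ∃ b : kˣ, (x : A) ^ Module.finrank k K = algebraMap k A (b : k) := by
  classical
  have hpow : (x : A) ^ Module.finrank k K ∈ Subalgebra.centralizer k (Set.range ι) := by
    rw [Subalgebra.mem_centralizer_iff]
    rintro _ ⟨a, rfl⟩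
    have h := rel_pow (j := (ι : K →+* A)) hrel (Module.finrank k K) a
    rw [gen_pow_finrank hσ] at h
    exact h
  have hC : Subalgebra.centralizer k (Set.range ι) = ι.range := by
    obtain ⟨-, h2⟩ := H7CSA.centralizer_range ι
    symm
    refine Subalgebra.eq_of_le_of_finrank_eq ?_ ?_
    · rintro _ ⟨a, rfl⟩
      rw [Subalgebra.mem_centralizer_iff]
      rintro _ ⟨c, rfl⟩
      show ι c * ι a = ι a * ι c
      rw [← map_mul, ← map_mul, mul_comm]
    · have h3 : Module.finrank k ι.range = Module.finrank k K :=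
        ((AlgEquiv.ofInjective ι ι.toRingHom.injective).toLinearEquiv).finrank_eq.symm
      rw [h3]
      rw [hdim, sq] at h2
      exact Nat.eq_of_mul_eq_mul_left Module.finrank_pos h2
  rw [hC] at hpow
  obtain ⟨c, hc⟩ := hpow
  have h0 : ι c = (x : A) ^ Module.finrank k K := hc
  have hfix : σ c = c := by
    have h1 : ι c * x = x * ι c := by rw [h0, ← pow_succ, ← pow_succ']
    rw [hrel] at h1
    exact ι.toRingHom.injective (x.isUnit.mul_left_cancel h1)
  obtain ⟨r, hr⟩ := mem_range_of_fixed hσ hfix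
  have hr0 : r ≠ 0 := by
    rintro rfl
    exact (x.isUnit.pow _).ne_zero (by rw [← h0, ← hr, map_zero, map_zero])
  exact ⟨Units.mk0 r hr0, by rw [← h0, ← hr, AlgHom.commutes, Units.val_mk0]⟩

theorem adjoin_eq_top {σ : K ≃ₐ[k] K} (hσ : ∀ τ : K ≃ₐ[k] K, τ ∈ Subgroup.zpowers σ) [FiniteDimensional k A]
    (ι : K →ₐ[k] A) (y : A) {b : kˣ} (hy : y ^ Module.finrank k K = algebraMap k A (b : k))
    (hrel : ∀ a, ι a * y = y * ι (σ a)) (hdim : Module.finrank k A = Module.finrank k K ^ 2) :
    Algebra.adjoin k (Set.range ι ∪ {y}) = ⊤ := by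
  classical
  have : Nontrivial A := Module.nontrivial_of_finrank_pos (R := k) (by rw [hdim]; exact pow_pos Module.finrank_pos 2)
  have hyu : IsUnit y := (isUnit_pow_iff (Module.finrank_pos (R := k) (M := K)).ne').1 (hy ▸ b.isUnit.map _)
  let φ : (Fin (Module.finrank k K) → K) →ₗ[k] A :=
    { toFun := fun c => ∑ i : Fin (Module.finrank k K), y ^ (i : ℕ) * ι (c i)
      map_add' := fun c d => by simp [mul_add, Finset.sum_add_distrib]
      map_smul' := fun r c => by simp [mul_smul_comm, Finset.smul_sum] }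
  have hinj : Function.Injective φ := by
    rw [injective_iff_map_eq_zero]
    intro c hc
    funext i
    let c' : ℕ → K := fun l => if hl : l < Module.finrank k K then c ⟨l, hl⟩ else 0
    have h : ∑ l ∈ Finset.range (Module.finrank k K), y ^ l * ι (c' l) = 0 := by
      rw [← Fin.sum_univ_eq_sum_range (fun l => y ^ l * ι (c' l)), ← hc]
      exact Finset.sum_congr rfl fun l _ => by simp [c']
    have := cyclic_indep (j := (ι : K →+* A)) hyu hrel (gen_pow_inj hσ) _ (fun l hl => Finset.mem_range.1 hl) c' h i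
      (Finset.mem_range.2 i.2)
    simpa [c'] using this
  have hsurj : Function.Surjective φ := by
    refine (LinearMap.injective_iff_surjective_of_finrank_eq_finrank ?_).1 hinj
    rw [Module.finrank_pi_fintype, Finset.sum_const, Finset.card_univ, Fintype.card_fin, smul_eq_mul, hdim, sq]
  rw [eq_top_iff]
  intro a _
  obtain ⟨c, rfl⟩ := hsurj a
  show ∑ i : Fin (Module.finrank k K), y ^ (i : ℕ) * ι (c i) ∈ _
  exact sum_mem fun i _ => mul_mem
    (pow_mem (Algebra.subset_adjoin (Set.mem_union_right _ (Set.mem_singleton y))) _) (Algebra.subset_adjoin (Set.mem_union_left _ (Set.mem_range_self (c i))))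

end BrauerLib
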