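/-
Quaternion algebras and algebras of degree two.
-/
import Groth.Agent.Lib.BrauerIndex
import Mathlib.Algebra.QuaternionBasis
import Mathlib.FieldTheory.Galois.Basic

set_option autoImplicit false
set_option linter.unusedSectionVars false

open Quaternion QuaternionAlgebra

namespace BrauerLib

universe u v w

open Groth.Agent

variable {k : Type u} [Field k] {a b : k}

theorem quat_coeff_ne_zero (hdiv : ∀ x : QuaternionAlgebra k a 0 b, x ≠ 0 → IsUnit x) : a ≠ 0 ∧ b ≠ 0 := by
  constructor <;> rintro rfl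
  · have h : (⟨0, 1, 0, 0⟩ : QuaternionAlgebra k 0 0 b) * ⟨0, 1, 0, 0⟩ = 0 := by ext <;> simp
    have hne : (⟨0, 1, 0, 0⟩ : QuaternionAlgebra k 0 0 b) ≠ 0 := fun e => one_ne_zero (congrArg QuaternionAlgebra.imI e)
    exact hne ((hdiv _ hne).mul_right_eq_zero.1 h)
  · have h : (⟨0, 0, 1, 0⟩ : QuaternionAlgebra k a 0 0) * ⟨0, 0, 1, 0⟩ = 0 := by ext <;> simp
    have hne : (⟨0, 0, 1, 0⟩ : QuaternionAlgebra k a 0 0) ≠ 0 := fun e => one_ne_zero (congrArg QuaternionAlgebra.imJ e)
    exact hne ((hdiv _ hne).mul_right_eq_zero.1 h)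

theorem quat_isCentral (h2 : (2 : k) ≠ 0) (ha : a ≠ 0) (hb : b ≠ 0) : Algebra.IsCentral k (QuaternionAlgebra k a 0 b) := by
  refine ⟨fun z hz => ?_⟩
  rw [Subalgebra.mem_center_iff] at hz
  have h1 := hz ⟨0, 1, 0, 0⟩
  have h3 := hz ⟨0, 0, 1, 0⟩
  have hK : z.imK = 0 := by
    have := congrArg QuaternionAlgebra.imJ h1
    simp at this
    have h4 : 2 * a * z.imK = 0 := by linear_combination this
    exact (mul_eq_zero.1 h4).resolve_left (mul_ne_zero h2 ha)
  have hJ : z.imJ = 0 := by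
    have := congrArg QuaternionAlgebra.imK h1
    simp at this
    have h4 : 2 * z.imJ = 0 := by linear_combination this
    exact (mul_eq_zero.1 h4).resolve_left h2
  have hI : z.imI = 0 := by
    have := congrArg QuaternionAlgebra.imK h3
    simp at this
    have h4 : 2 * z.imI = 0 := by linear_combination -this
    exact (mul_eq_zero.1 h4).resolve_left h2
  exact Algebra.mem_bot.2 ⟨z.re, by ext <;> simp [hI, hJ, hK]⟩

theorem quat_divisionRing (hdiv : ∀ x : QuaternionAlgebra k a 0 b, x ≠ 0 → IsUnit x) (h2 : (2 : k) ≠ 0) :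
    ∃ (D : Type u) (_ : DivisionRing D) (_ : Algebra k D) (_ : D ≃ₐ[k] QuaternionAlgebra k a 0 b),
      IsCSA k D ∧ Module.finrank k D = 2 ^ 2 := by
  obtain ⟨ha, hb⟩ := quat_coeff_ne_zero hdiv
  have : Nontrivial (QuaternionAlgebra k a 0 b) := ⟨0, 1, fun e => zero_ne_one (congrArg QuaternionAlgebra.re e)⟩
  have : NoZeroDivisors (QuaternionAlgebra k a 0 b) := ⟨fun {x y} h => by
    by_cases hx : x = 0
    · exact Or.inl hx
    · exact Or.inr ((hdiv x hx).mul_right_eq_zero.1 h)⟩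
  have : IsDomain (QuaternionAlgebra k a 0 b) := NoZeroDivisors.to_isDomain _
  letI : DivisionRing (QuaternionAlgebra k a 0 b) := divisionRingOfFiniteDimensional k _
  exact ⟨QuaternionAlgebra k a 0 b, inferInstance, inferInstance, AlgEquiv.refl,
    ⟨quat_isCentral h2 ha hb, inferInstance, inferInstance⟩, by rw [QuaternionAlgebra.finrank_eq_four]; norm_num⟩

theorem exists_quat {D : Type v} [DivisionRing D] [Algebra k D] (hD : IsCSA k D)
    (hdim : Module.finrank k D = 2 ^ 2) (h2 : (2 : k) ≠ 0) :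
    ∃ a b : k, Nonempty (QuaternionAlgebra k a 0 b ≃ₐ[k] D) := by
  have := hD.finite; have := hD.central; have := hD.simple
  obtain ⟨L, hcomm, hsep, hC⟩ := H7CSA.exists_separable_centralizer_eq (k := k) (D := D)
  have hsq := H7CSA.finrank_eq_sq_of_centralizer_eq hcomm hC
  have hL : Module.finrank k L = 2 := by rw [hdim] at hsq; exact (Nat.pow_left_injective two_ne_zero hsq).symm
  letI := H7CSA.fieldOfComm L hcomm
  have : Algebra.IsQuadraticExtension k L := { finrank_eq_two' := hL }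
  have : IsGalois k L := ⟨⟩
  obtain ⟨σ, hσ⟩ := (inferInstance : IsCyclic (L ≃ₐ[k] L)).exists_generator
  obtain ⟨x, hx⟩ := H7CSA.skolemNoether L.val (L.val.comp (σ : L →ₐ[k] L))
  have hrel : ∀ c, L.val c * (x : D) = x * L.val (σ c) := fun c => by
    rw [hx c, mul_assoc, Units.inv_mul, mul_one]
    rfl
  have hdimL : Module.finrank k D = Module.finrank k L ^ 2 := by rw [hdim, hL]
  obtain ⟨c, hc⟩ := exists_pow_mem hσ L.val hdimL x hrel
  have hσ2 : σ ^ 2 = 1 := by rw [← hL]; exact gen_pow_finrank hσ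
  have hσ1 : σ ≠ 1 := fun h => by
    have := gen_pow_inj hσ 0 (by omega) 1 (by omega) (by rw [pow_zero, pow_one, h])
    omega
  obtain ⟨θ, hθ⟩ : ∃ θ, σ θ ≠ θ := by
    by_contra hh; push Not at hh; exact hσ1 (AlgEquiv.ext hh)
  set α : L := θ - σ θ with hα
  have hα0 : α ≠ 0 := sub_ne_zero.2 (Ne.symm hθ)
  have hσσ : ∀ t, σ (σ t) = t := fun t => by
    rw [← AlgEquiv.mul_apply, ← sq, hσ2, AlgEquiv.one_apply]
  have hσα : σ α = -α := by rw [hα, map_sub, hσσ, neg_sub]
  obtain ⟨r, hr⟩ := mem_range_of_fixed hσ (x := α * α) (by rw [map_mul, hσα, neg_mul_neg])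
  let B : QuaternionAlgebra.Basis D r 0 (c : k) :=
    { i := L.val α
      j := x
      k := L.val α * x
      i_mul_i := by rw [← map_mul, ← hr, AlgHom.commutes, zero_smul, add_zero, Algebra.algebraMap_eq_smul_one]
      j_mul_j := by rw [← sq, ← hL, hc, Algebra.algebraMap_eq_smul_one]
      i_mul_j := rfl
      j_mul_i := by
        rw [hrel, hσα, map_neg, mul_neg, zero_smul, zero_sub, neg_neg] }
  refine ⟨r, (c : k), ⟨AlgEquiv.ofBijective B.liftHom ?_⟩⟩
  have hsurj : Function.Surjective B.liftHom := by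
    rw [← AlgHom.range_eq_top, eq_top_iff, ← adjoin_eq_top hσ L.val (x : D) hc hrel hdimL, Algebra.adjoin_le_iff,
      Set.union_subset_iff]
    have hgen : ∀ t ∈ ({B.i, B.j, B.k} : Set D), t ∈ B.liftHom.range := fun t ht => by
      rw [QuaternionAlgebra.Basis.range_liftHom]; exact Algebra.subset_adjoin ht
    refine ⟨?_, Set.singleton_subset_iff.2 (hgen B.j (by simp))⟩
    rintro _ ⟨t, rfl⟩
    obtain ⟨p, hp⟩ := mem_range_of_fixed hσ (x := t + σ t) (by rw [map_add, hσσ, add_comm])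
    obtain ⟨q, hq⟩ := mem_range_of_fixed hσ (x := (t - σ t) * α⁻¹) (by
      rw [map_mul, map_inv₀, hσα, map_sub, hσσ, inv_neg, mul_neg, ← neg_mul, neg_sub])
    have h2' : (2 : L) ≠ 0 := by
      rw [show (2 : L) = algebraMap k L 2 from (map_ofNat _ 2).symm]
      exact fun h => h2 ((map_eq_zero _).1 h)
    have ht : t = algebraMap k L (p / 2) + algebraMap k L (q / 2) * α := by
      rw [map_div₀, map_div₀, map_ofNat, hp, hq]
      field_simp
      ring
    rw [ht, map_add, map_mul, AlgHom.commutes, AlgHom.commutes]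
    exact add_mem (algebraMap_mem _ _) (mul_mem (algebraMap_mem _ _) (hgen B.i (by simp)))
  exact ⟨(LinearMap.injective_iff_surjective_of_finrank_eq_finrank (f := B.liftHom.toLinearMap) (by
    rw [QuaternionAlgebra.finrank_eq_four, hdim]; norm_num)).2 hsurj, hsurj⟩

theorem period_two_index_two_iff (h2 : (2 : k) ≠ 0) {A : Type v} [Ring A] [Algebra k A] (hA : IsCSA k A) :
    ((CSAGal.IsPeriod k A 2 ∧ CSAGal.IsIndex k A 2) ↔
      ∃ (a b : k) (m : ℕ), 0 < m ∧ (∀ x : QuaternionAlgebra k a 0 b, x ≠ 0 → IsUnit x) ∧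
        Nonempty (A ≃ₐ[k] Matrix (Fin m) (Fin m) (QuaternionAlgebra k a 0 b))) := by
  constructor
  · rintro ⟨-, hd, m, D, _, _, hm, hD, ⟨e⟩⟩
    have : FiniteDimensional k D := Module.finite_of_finrank_pos (by rw [hD]; norm_num)
    have hDc : IsCSA k D := IsCSA.of_matrix hm.ne' (hA.congr e)
    obtain ⟨a, b, ⟨f⟩⟩ := exists_quat hDc hD h2
    refine ⟨a, b, m, hm, fun x hx => ?_, ⟨e.trans f.symm.mapMatrix⟩⟩
    have h : IsUnit (f x) := isUnit_iff_ne_zero.2 fun h0 => hx (f.injective (h0.trans (map_zero f).symm))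
    have := h.map f.symm
    rwa [f.symm_apply_apply] at this
  · rintro ⟨a, b, m, hm, hdiv, ⟨e⟩⟩
    obtain ⟨D, _, _, f, hD, hdim⟩ := quat_divisionRing hdiv h2
    have := hD.finite
    obtain ⟨d, hd⟩ := exists_isIndex hA
    have hd2 : d = 2 := index_eq_of_BE hA hD hd (isIndex_divisionRing two_pos hdim)
      (BE.of_matrix_equiv hm.ne' (e.trans f.symm.mapMatrix))
    subst hd2
    obtain ⟨p, hp⟩ := exists_isPeriod hA
    rcases (Nat.dvd_prime Nat.prime_two).1 (period_dvd hA hp (killed_index hA hd)) with h1 | h1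
    · exfalso
      subst h1
      have := (index_eq_one_iff hA hd).2 ((killed_one_iff.1 (isPeriod_killed hA hp)).to_splits hA)
      omega
    · subst h1; exact ⟨hp, hd⟩

end BrauerLib
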