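/-
Small commutative algebra facts
-/
import Mathlib
import Groth.Agent.Lib.TorsionFreeEmbed

open TensorProduct Groth.Agent.TorsionFreeEmbed

universe u

namespace Groth.Agent.CAlgSmall1


theorem det_cols_prime {R : Type u} [CommRing R] {n m : ℕ} (v : Fin m → (Fin n → R)) {s : R}
    (hs : ∀ i, Pi.single i s ∈ Submodule.span R (Set.range v)) {p : Ideal R} [p.IsPrime] (hsp : s ∉ p) :
    ∃ g : Fin n → Fin m, (Matrix.detRowAlternating (fun i => v (g i))) ∉ p := by
  classical
  by_contra hc
  push_neg at hc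
  choose b hb using fun i => (Submodule.mem_span_range_iff_exists_fun R).mp (hs i)
  have h2 : (Matrix.detRowAlternating (fun i => ∑ k, b i k • v k)) ∈ p := by
    rw [← AlternatingMap.coe_multilinearMap, MultilinearMap.map_sum]
    refine p.sum_mem fun g _ => ?_
    rw [MultilinearMap.map_smul_univ]
    exact p.mul_mem_left _ (hc g)
  rw [funext hb] at h2
  have h3 : Matrix.det (Matrix.diagonal fun _ : Fin n => s) ∈ p := by
    convert h2 using 1
    show Matrix.det _ = Matrix.det _
    congr 1
    ext i j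
    rcases eq_or_ne i j with rfl | h
    · simp
    · simp [h, Pi.single_eq_of_ne h.symm]
  rw [Matrix.det_diagonal, Finset.prod_const] at h3
  exact hsp (Ideal.IsPrime.mem_of_pow_mem inferInstance _ h3)

theorem det_kills {R : Type u} [CommRing R] {n : ℕ} (w : Fin n → (Fin n → R)) (j : Fin n) :
    Pi.single j (Matrix.det (Matrix.of w)) ∈ Submodule.span R (Set.range w) := by
  classical
  refine (Submodule.mem_span_range_iff_exists_fun R).mpr ⟨fun i => (Matrix.of w).adjugate j i, funext fun k => ?_⟩
  have := congrFun (congrFun (Matrix.adjugate_mul (Matrix.of w)) j) k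
  rw [Matrix.mul_apply] at this
  simp only [Finset.sum_apply, Pi.smul_apply, smul_eq_mul]
  rw [show (∑ i, (Matrix.of w).adjugate j i * w i k) = _ from this]
  rcases eq_or_ne j k with rfl | h <;> simp [Matrix.one_apply, *, Pi.single_eq_of_ne']

theorem sub_pow_eq_mul {R : Type u} [CommRing R] {I : Ideal R} {n : ℕ} (hI : ∀ x ∈ I, IsNilpotent x)
    (hinv : IsUnit ((n : ℕ) : R ⧸ I)) {x x' : R} (hx : x ∈ I) (hx' : x' ∈ I)
    (h : (1 + x) ^ n = (1 + x') ^ n) : x = x' := by
  have hu : IsUnit (∑ i ∈ Finset.range n, (1 + x) ^ i * (1 + x') ^ (n - 1 - i)) := by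
    have h1 : IsUnit (Ideal.Quotient.mk I (∑ i ∈ Finset.range n, (1 + x) ^ i * (1 + x') ^ (n - 1 - i))) := by
      simp only [map_sum, map_mul, map_pow, map_add, map_one, Ideal.Quotient.eq_zero_iff_mem.mpr hx,
        Ideal.Quotient.eq_zero_iff_mem.mpr hx', add_zero, one_pow, mul_one, Finset.sum_const, Finset.card_range,
        nsmul_eq_mul]
      exact hinv
    obtain ⟨⟨a, b, hab, hba⟩, ha : a = _⟩ := h1
    obtain ⟨b, rfl⟩ := Ideal.Quotient.mk_surjective b
    rw [ha, ← map_mul, ← map_one (Ideal.Quotient.mk I), Ideal.Quotient.eq] at hab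
    exact isUnit_of_mul_isUnit_left (y := b) (by simpa using (hI _ hab).isUnit_add_one)
  have h2 := geom_sum₂_mul (1 + x) (1 + x') n
  rw [h, sub_self] at h2
  have := (hu.mul_right_eq_zero).mp h2
  linear_combination this

theorem root_exists {R : Type u} [CommRing R] {I : Ideal R} {n : ℕ} (hI : ∀ x ∈ I, IsNilpotent x)
    (hinv : IsUnit ((n : ℕ) : R ⧸ I)) {y : R} (hy : y ∈ I) : ∃ x ∈ I, (1 + x) ^ n = 1 + y := by
  let J : Ideal R := Ideal.span {y}
  let P : Polynomial R := (1 + Polynomial.X) ^ n - Polynomial.C (1 + y)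
  have h0 : Polynomial.aeval (0 : R) P = -y := by simp [P]
  have hd : Polynomial.aeval (0 : R) (Polynomial.derivative P) = n := by
    simp [P, Polynomial.derivative_pow]
  have hn : IsUnit (n : R) := by
    obtain ⟨⟨a, b, hab, hba⟩, ha : a = _⟩ := hinv
    obtain ⟨b, rfl⟩ := Ideal.Quotient.mk_surjective b
    rw [ha, ← map_natCast (Ideal.Quotient.mk I), ← map_mul, ← map_one (Ideal.Quotient.mk I), Ideal.Quotient.eq] at hab
    exact isUnit_of_mul_isUnit_left (y := b) (by simpa using (hI _ hab).isUnit_add_one)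
  obtain ⟨r, ⟨hr, hP⟩, -⟩ := Polynomial.existsUnique_nilpotent_sub_and_aeval_eq_zero (P := P) (x := (0 : R))
    (by rw [h0]; exact (hI y hy).neg) (by rw [hd]; exact hn)
  have e : (1 + r) ^ n = 1 + y := by simpa [P, sub_eq_zero] using hP
  refine ⟨r, ?_, e⟩
  have h2 := geom_sum₂_mul (1 + r) (1 : R) n
  rw [e, one_pow] at h2
  have hu : IsUnit (∑ i ∈ Finset.range n, (1 + r) ^ i * (1 : R) ^ (n - 1 - i)) := by
    simp only [one_pow, mul_one]
    have : ∑ i ∈ Finset.range n, (1 + r) ^ i = (n : R) + ∑ i ∈ Finset.range n, ((1 + r) ^ i - 1) := by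
      simp [Finset.sum_sub_distrib]
    rw [this, add_comm]
    refine IsNilpotent.isUnit_add_right_of_commute (isNilpotent_sum fun i _ => ?_) hn (Commute.all _ _)
    obtain ⟨c, hc⟩ := sub_dvd_pow_sub_pow (1 + r) 1 i
    rw [one_pow] at hc
    rw [hc]
    exact (Commute.all _ _).isNilpotent_mul_right (by simpa using hr)
  obtain ⟨u, hu⟩ := hu
  rw [← hu] at h2
  have : r = ↑u⁻¹ * y := by
    calc r = ↑u⁻¹ * (↑u * r) := by simp
      _ = _ := by rw [show (↑u : R) * r = y by linear_combination h2]
  rw [this]; exact I.mul_mem_left _ hy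

theorem heightOne_infinite {A : Type u} [CommRing A] [IsDomain A] [IsNoetherianRing A]
    (m : Ideal A) [m.IsPrime] (hm : 2 ≤ m.height) :
    {q : Ideal A | q.IsPrime ∧ q.height = 1 ∧ q ≤ m}.Infinite := by
  intro hfin
  have hsub : (m : Set A) ⊆ ⋃ q ∈ {q : Ideal A | q.IsPrime ∧ q.height = 1 ∧ q ≤ m}, (q : Set A) := by
    intro x hx
    rw [Set.mem_iUnion₂]
    rcases eq_or_ne x 0 with rfl | hx0
    · obtain ⟨y, hy, hy0⟩ : ∃ y ∈ m, y ≠ 0 := Submodule.exists_mem_ne_zero_of_ne_bot (by
        rintro rfl
        simp at hm)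
      obtain ⟨q, hq, hle⟩ := Ideal.exists_minimalPrimes_le ((Ideal.span_singleton_le_iff_mem m).mpr hy)
      have hq' : q.IsPrime := hq.1.1
      refine ⟨q, ⟨hq', le_antisymm (Ideal.height_le_one_of_isPrincipal_of_mem_minimalPrimes _ _ hq) ?_, hle⟩, q.zero_mem⟩
      exact Order.one_le_iff_ne_zero.mpr fun h => hy0 (by
        have := Ideal.height_eq_zero_iff.mp h
        rw [IsDomain.minimalPrimes_eq_singleton_bot] at this
        simpa [Set.mem_singleton_iff.mp this] using hq.1.2 (Ideal.mem_span_singleton_self y))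
    · obtain ⟨q, hq, hle⟩ := Ideal.exists_minimalPrimes_le ((Ideal.span_singleton_le_iff_mem m).mpr hx)
      have hq' : q.IsPrime := hq.1.1
      refine ⟨q, ⟨hq', le_antisymm (Ideal.height_le_one_of_isPrincipal_of_mem_minimalPrimes _ _ hq) ?_, hle⟩,
        hq.1.2 (Ideal.mem_span_singleton_self x)⟩
      exact Order.one_le_iff_ne_zero.mpr fun h => hx0 (by
        have := Ideal.height_eq_zero_iff.mp h
        rw [IsDomain.minimalPrimes_eq_singleton_bot] at this
        simpa [Set.mem_singleton_iff.mp this] using hq.1.2 (Ideal.mem_span_singleton_self x))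
  obtain ⟨q, hq, hle⟩ := (Ideal.subset_union_prime_finite hfin ⊤ ⊤ (fun q hq _ _ => hq.1)).mp hsub
  have : q = m := le_antisymm hq.2.2 hle
  rw [← this, hq.2.1] at hm
  norm_num at hm

theorem heightOne_containing_finite {A : Type u} [CommRing A] [IsDomain A] [IsNoetherianRing A]
    {f : A} (hf : f ≠ 0) : {q : Ideal A | q.IsPrime ∧ q.height = 1 ∧ f ∈ q}.Finite := by
  refine ((Ideal.span {f}).finite_minimalPrimes_of_isNoetherianRing A).subset ?_
  rintro q ⟨hq, hh, hfq⟩
  obtain ⟨q', hq', hle⟩ := Ideal.exists_minimalPrimes_le ((Ideal.span_singleton_le_iff_mem q).mpr hfq)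
  haveI : q'.IsPrime := hq'.1.1
  rcases hle.eq_or_lt with rfl | hlt
  · exact hq'
  · exfalso
    have h1 := Ideal.height_strict_mono_of_isPrime hlt
    rw [hh, Order.lt_one_iff, Ideal.height_eq_zero_iff, IsDomain.minimalPrimes_eq_singleton_bot] at h1
    exact hf (by simpa [Set.mem_singleton_iff.mp h1] using hq'.1.2 (Ideal.mem_span_singleton_self f))

theorem endo_lift {R : Type u} [CommRing R] {I : Ideal R} {n : ℕ} (hI : I ^ n = ⊥)
    {F : Type u} [AddCommGroup F] [Module R F] (φ : Module.End R F)
    (hφ : ∀ x, φ x ∈ I • (⊤ : Submodule R F)) : φ ^ n = 0 := by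
  have h : ∀ (k : ℕ) x, (φ ^ k) x ∈ I ^ k • (⊤ : Submodule R F) := by
    intro k
    induction k with
    | zero => intro x; simp
    | succ k ih =>
      intro x
      show (φ ^ (k + 1)) x ∈ _
      rw [pow_succ' φ, Module.End.mul_apply]
      have hmap : (I ^ k • (⊤ : Submodule R F)).map φ ≤ I ^ (k + 1) • ⊤ := by
        rw [Submodule.map_smul'', pow_succ, mul_smul]
        refine Submodule.smul_mono le_rfl ?_
        rintro _ ⟨y, -, rfl⟩
        exact hφ y
      exact hmap ⟨_, ih x, rfl⟩
  ext x
  simpa [hI] using h n x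

theorem mem_smul_ker {R : Type u} [CommRing R] {I : Ideal R} {P M : Type u} [AddCommGroup P] [Module R P]
    [AddCommGroup M] [Module R M] [Module.Flat R M] (g : P →ₗ[R] M) (hg : Function.Surjective g)
    {y : P} (h2 : y ∈ I • (⊤ : Submodule R P)) (hy : g y = 0) : y ∈ I • LinearMap.ker g := by
  let μP : ↥I ⊗[R] P →ₗ[R] P := TensorProduct.lift ((LinearMap.lsmul R P).comp I.subtype)
  let μM : ↥I ⊗[R] M →ₗ[R] M := TensorProduct.lift ((LinearMap.lsmul R M).comp I.subtype)
  obtain ⟨z, rfl⟩ : y ∈ LinearMap.range μP := by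
    refine (Submodule.smul_le.mpr fun r hr w _ => ?_) h2
    exact ⟨(⟨r, hr⟩ : I) ⊗ₜ w, by simp [μP]⟩
  have hnat : μM.comp (g.lTensor ↥I) = g.comp μP := TensorProduct.ext' fun a b => by simp [μM, μP]
  have hinj : Function.Injective μM := by
    show Function.Injective (TensorProduct.lift ((LinearMap.lsmul R M).comp I.subtype))
    rw [← LinearMap.lid_comp_rTensor]
    exact (TensorProduct.lid R M).injective.comp (Module.Flat.rTensor_preserves_injective_linearMap _ Subtype.val_injective)
  have h4 : g.lTensor ↥I z = 0 := hinj (by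
    rw [map_zero, ← LinearMap.comp_apply, hnat, LinearMap.comp_apply, hy])
  have hex : Function.Exact (LinearMap.ker g).subtype g := LinearMap.exact_subtype_ker_map g
  obtain ⟨w, hw⟩ := (lTensor_exact (↥I) hex hg z).mp h4
  rw [← hw]
  clear hw h4 h2 hy
  induction w with
  | zero => rw [map_zero, map_zero]; exact zero_mem _
  | tmul a b =>
    show (a : R) • (b : P) ∈ _
    exact Submodule.smul_mem_smul a.2 b.2
  | add a b ha hb => rw [map_add, map_add]; exact add_mem ha hb

theorem proj_of_idem {R : Type u} [CommRing R] {I : Ideal R} {n : ℕ} (hn : I ^ n = ⊥)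
    {F M : Type u} [AddCommGroup F] [Module R F] [Module.Projective R F]
    [AddCommGroup M] [Module R M] [Module.Flat R M] (p : F →ₗ[R] M) (hp : Function.Surjective p)
    (E : Module.End R F) (hE : IsIdempotentElem E)
    (hsurj : ∀ x, p x - p (E x) ∈ I • (⊤ : Submodule R M))
    (hker : ∀ y, E y = y → p y = 0 → y ∈ I • (⊤ : Submodule R F)) : Module.Projective R M := by
  have hfix : ∀ y : LinearMap.range E, E y.1 = y.1 := by
    rintro ⟨_, x, rfl⟩; exact LinearMap.congr_fun hE x
  haveI : Module.Projective R (LinearMap.range E) :=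
    Module.Projective.of_split (LinearMap.range E).subtype E.rangeRestrict (LinearMap.ext fun y => Subtype.ext (hfix y))
  let g : LinearMap.range E →ₗ[R] M := p ∘ₗ (LinearMap.range E).subtype
  have hdec : (⊤ : Submodule R M) ≤ LinearMap.range g ⊔ I • ⊤ := by
    intro m _
    obtain ⟨x, rfl⟩ := hp m
    rw [← add_sub_cancel (p (E x)) (p x)]
    exact Submodule.add_mem_sup ⟨⟨E x, x, rfl⟩, rfl⟩ (hsurj x)
  have hgsurj : Function.Surjective g := by
    have : ∀ k, (⊤ : Submodule R M) ≤ LinearMap.range g ⊔ I ^ k • ⊤ := by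
      intro k
      induction k with
      | zero => simp
      | succ k ih =>
        refine hdec.trans (sup_le le_sup_left ?_)
        refine (Submodule.smul_mono (le_refl I) ih).trans ?_
        rw [Submodule.smul_sup, ← mul_smul, ← pow_succ']
        exact sup_le (Submodule.smul_le_right.trans le_sup_left) le_sup_right
    rw [← LinearMap.range_eq_top, eq_top_iff]
    simpa [hn] using this n
  have hK : ∀ y, g y = 0 → y ∈ I • LinearMap.ker g := by
    intro y hy
    refine mem_smul_ker g hgsurj ?_ hy
    have h3 := Submodule.smul_top_le_comap_smul_top I E.rangeRestrict (hker y.1 (hfix y) hy)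
    rw [Submodule.mem_comap] at h3
    rwa [show E.rangeRestrict y.1 = y from Subtype.ext (hfix y)] at h3
  have hg0 : LinearMap.ker g = ⊥ := by
    have : ∀ k, LinearMap.ker g ≤ I ^ k • LinearMap.ker g := by
      intro k
      induction k with
      | zero => simp
      | succ k ih =>
        refine (show LinearMap.ker g ≤ I • LinearMap.ker g from hK).trans ?_
        rw [pow_succ', mul_smul]
        exact Submodule.smul_mono (le_refl I) ih
    rw [eq_bot_iff]
    simpa [hn] using this n
  exact Module.Projective.of_equiv (LinearEquiv.ofBijective g ⟨LinearMap.ker_eq_bot.mp hg0, hgsurj⟩)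

set_option maxHeartbeats 1000000 in
theorem projective_of_flat_nilpotent {R : Type u} [CommRing R] {I : Ideal R} (hI : IsNilpotent I)
    (M : Type u) [AddCommGroup M] [Module R M] [Module.Flat R M]
    (hproj : Module.Projective (R ⧸ I) ((R ⧸ I) ⊗[R] M)) : Module.Projective R M := by
  obtain ⟨n, hn⟩ := hI
  let F := M →₀ R
  let p : F →ₗ[R] M := Finsupp.linearCombination R id
  have hp : Function.Surjective p := fun m => ⟨Finsupp.single m 1, by show Finsupp.linearCombination R id (Finsupp.single m (1 : R)) = m; simp⟩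
  let qF : F →ₗ[R] (R ⧸ I) ⊗[R] F := TensorProduct.mk R (R ⧸ I) F 1
  have hqF : Function.Surjective qF := TensorProduct.mk_surjective R F _ Ideal.Quotient.mk_surjective
  let qM : M →ₗ[R] (R ⧸ I) ⊗[R] M := TensorProduct.mk R (R ⧸ I) M 1
  let pb := TensorProduct.AlgebraTensorModule.lTensor (R ⧸ I) (R ⧸ I) p
  have hpb : Function.Surjective pb := LinearMap.lTensor_surjective _ hp
  obtain ⟨sb, hsb⟩ := Module.projective_lifting_property pb LinearMap.id hpb
  obtain ⟨s, hs⟩ := Module.projective_lifting_property qF ((sb ∘ₗ pb).restrictScalars R ∘ₗ qF) hqF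
  have hs' : ∀ x, qF (s x) = sb (pb (qF x)) := fun x => LinearMap.congr_fun hs x
  have hkerq : ∀ x, qF x = 0 → x ∈ I • (⊤ : Submodule R F) := by
    intro x hx
    have := congrArg (TensorProduct.quotTensorEquivQuotSMul F I) hx
    rw [map_zero] at this
    exact (Submodule.Quotient.mk_eq_zero _).mp (by simpa [qF] using this)
  let eb : Module.End R ((R ⧸ I) ⊗[R] F) := (sb ∘ₗ pb).restrictScalars R
  have hebi : IsIdempotentElem eb := LinearMap.ext fun z => congrArg sb (LinearMap.congr_fun hsb (pb z))
  have hnil : (s - s ^ 2) ^ n = 0 := endo_lift (by simpa using hn) _ fun x => hkerq _ (by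
    have h1 : qF (s (s x)) = qF (s x) := by
      rw [hs', hs']
      exact congrArg sb (LinearMap.congr_fun hsb (pb (qF x)))
    simp [sq, h1])
  rcases Nat.eq_zero_or_pos n with rfl | hnpos
  · haveI : Subsingleton R := subsingleton_of_zero_eq_one (by
      simpa [Ideal.one_eq_top, eq_comm, Ideal.eq_top_iff_one] using hn.symm)
    haveI := Module.subsingleton R M
    infer_instance
  let E : Module.End R F := 1 - (1 - s ^ n) ^ n
  have hE : IsIdempotentElem E := isIdempotentElem_one_sub_one_sub_pow_pow s n hnil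
  have hsn : ∀ x, qF ((s ^ n) x) = eb (qF x) := by
    have : ∀ k x, qF ((s ^ (k + 1)) x) = eb (qF x) := by
      intro k
      induction k with
      | zero => intro x; rw [zero_add, pow_one]; exact hs' x
      | succ k ih =>
        intro x
        rw [pow_succ', Module.End.mul_apply, hs', ih]
        exact LinearMap.congr_fun hebi (qF x)
    obtain ⟨k, rfl⟩ := Nat.exists_eq_add_of_le hnpos
    rw [Nat.succ_eq_add_one, zero_add, add_comm]
    exact this k
  have hEq : ∀ x, qF (E x) = eb (qF x) := by
    have h : ∀ k x, qF (((1 - s ^ n : Module.End R F) ^ (k + 1)) x) = qF x - eb (qF x) := by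
      intro k
      induction k with
      | zero => intro x; simp [hsn]
      | succ k ih =>
        intro x
        rw [pow_succ', Module.End.mul_apply, LinearMap.sub_apply, Module.End.one_apply, map_sub, hsn, ih, map_sub]
        have := LinearMap.congr_fun hebi (qF x)
        rw [Module.End.mul_apply] at this
        rw [this, sub_self, sub_zero]
    intro x
    obtain ⟨k, rfl⟩ := Nat.exists_eq_add_of_le hnpos
    simp only [E, LinearMap.sub_apply, Module.End.one_apply, map_sub]
    rw [Nat.succ_eq_add_one, zero_add, add_comm 1 k] at *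
    rw [h k]
    abel
  refine proj_of_idem (by simpa using hn) p hp E hE (fun x => ?_) (fun y hy hy0 => hkerq _ ?_)
  · have h5 : qM (p x - p (E x)) = 0 := by
      rw [map_sub, show qM (p x) = pb (qF x) by simp [pb, qF, qM],
        show qM (p (E x)) = pb (qF (E x)) by simp [pb, qF, qM], hEq, sub_eq_zero]
      exact (LinearMap.congr_fun hsb (pb (qF x))).symm
    have := congrArg (TensorProduct.quotTensorEquivQuotSMul M I) h5
    rw [map_zero] at this
    exact (Submodule.Quotient.mk_eq_zero _).mp (by simpa [qM] using this)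
  · rw [← hy, hEq]
    show sb (pb (qF y)) = 0
    rw [show pb (qF y) = qM (p y) by simp [pb, qF, qM], hy0, map_zero, map_zero]

end Groth.Agent.CAlgSmall1
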