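/-
catenary rings: quotients, localisations, locality
-/
import Mathlib
import Groth.Prelude.Def_Found

universe u

namespace Groth.Agent.Catenary


theorem series_le {X : Type*} [Preorder X] (s : LTSeries X) (i : Fin (s.length + 1)) : s.head ≤ s i ∧ s i ≤ s.last :=
  ⟨s.monotone (Fin.zero_le i), s.monotone (Fin.le_last i)⟩

theorem covBy_image {X Y : Type*} [PartialOrder X] [PartialOrder Y] (f : X ↪o Y)
    (hconv : ∀ a b y, f a ≤ y → y ≤ f b → y ∈ Set.range f) {a b : X} (h : a ⋖ b) : f a ⋖ f b := by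
  refine ⟨f.lt_iff_lt.mpr h.1, fun y h1 h2 => ?_⟩
  obtain ⟨c, rfl⟩ := hconv a b y h1.le h2.le
  exact h.2 (f.lt_iff_lt.mp h1) (f.lt_iff_lt.mp h2)

theorem catenary_of_embedding {A B : Type u} [CommRing A] [CommRing B]
    (f : PrimeSpectrum B ↪o PrimeSpectrum A)
    (hconv : ∀ a b y, f a ≤ y → y ≤ f b → y ∈ Set.range f) (hA : CAlg.IsCatenary A) : CAlg.IsCatenary B := by
  constructor
  · intro p q hpq
    obtain ⟨n, hn⟩ := hA.1 (f p) (f q) (f.le_iff_le.mpr hpq)
    exact ⟨n, fun s hs ht => hn (s.map f f.strictMono) (by rw [← hs]; rfl) (by rw [← ht]; rfl)⟩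
  · intro s t h1 h2 hs ht
    exact hA.2 (s.map f f.strictMono) (t.map f f.strictMono) (congrArg f h1) (congrArg f h2)
      (fun i => covBy_image f hconv (hs i)) (fun i => covBy_image f hconv (ht i))

theorem pullback_series {X Y : Type*} [PartialOrder X] [PartialOrder Y] (f : X ↪o Y) (s : LTSeries Y)
    (h : ∀ i, s i ∈ Set.range f) : ∃ s' : LTSeries X, ∃ hl : s'.length = s.length,
      (∀ i, f (s' i) = s (Fin.cast (by rw [hl]) i)) := by
  choose g hg using h
  exact ⟨⟨s.length, g, fun i => f.lt_iff_lt.mp (show f (g _) < f (g _) by rw [hg, hg]; exact s.step i)⟩, rfl, fun i => hg i⟩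

theorem catenary_of_cover {A : Type u} [CommRing A]
    (h : ∀ p q : PrimeSpectrum A, p ≤ q → ∃ (B : Type u) (_ : CommRing B) (f : PrimeSpectrum B ↪o PrimeSpectrum A),
      CAlg.IsCatenary B ∧ ∀ y, p ≤ y → y ≤ q → y ∈ Set.range f) : CAlg.IsCatenary A := by
  constructor
  · intro p q hpq
    obtain ⟨B, _, f, hB, hf⟩ := h p q hpq
    obtain ⟨p', hp'⟩ := hf p le_rfl hpq
    obtain ⟨q', hq'⟩ := hf q hpq le_rfl
    obtain ⟨n, hn⟩ := hB.1 p' q' (f.le_iff_le.mp (by rw [hp', hq']; exact hpq))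
    refine ⟨n, fun s hs ht => ?_⟩
    obtain ⟨s', hl, hs'⟩ := pullback_series f s (fun i => hf _ (hs ▸ (series_le s i).1) (ht ▸ (series_le s i).2))
    rw [← hl]
    refine hn s' (f.injective ?_) (f.injective ?_)
    · rw [hp', ← hs]; exact (hs' 0).trans (congrArg s (Fin.ext rfl))
    · rw [hq', ← ht]; exact (hs' (Fin.last _)).trans (congrArg s (Fin.ext (by simp [hl])))
  · intro s t h1 h2 hs ht
    obtain ⟨B, _, f, hB, hf⟩ := h s.head s.last (series_le s (Fin.last _)).1
    obtain ⟨s', hl, hs'⟩ := pullback_series f s (fun i => hf _ (series_le s i).1 (series_le s i).2)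
    obtain ⟨t', hm, ht'⟩ := pullback_series f t (fun i => hf _ (h1 ▸ (series_le t i).1) (h2 ▸ (series_le t i).2))
    rw [← hl, ← hm]
    have cov : ∀ {a b : PrimeSpectrum B}, f a ⋖ f b → a ⋖ b := fun h =>
      ⟨f.lt_iff_lt.mp h.1, fun c h1 h2 => h.2 (f.lt_iff_lt.mpr h1) (f.lt_iff_lt.mpr h2)⟩
    refine hB.2 s' t' (f.injective ?_) (f.injective ?_) (fun i => cov ?_) (fun i => cov ?_)
    · exact ((hs' 0).trans (congrArg s (Fin.ext rfl))).trans (h1.trans ((congrArg t (Fin.ext rfl)).trans (ht' 0).symm))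
    · exact ((hs' (Fin.last _)).trans (congrArg s (Fin.ext (by simp [hl])))).trans
        (h2.trans ((congrArg t (Fin.ext (by simp [hm]))).trans (ht' (Fin.last _)).symm))
    · rw [hs', hs']; exact hs (Fin.cast hl i)
    · rw [ht', ht']; exact ht (Fin.cast hm i)

noncomputable def comapQuot {A : Type u} [CommRing A] (I : Ideal A) : PrimeSpectrum (A ⧸ I) ↪o PrimeSpectrum A :=
  OrderEmbedding.ofMapLEIff (PrimeSpectrum.comap (Ideal.Quotient.mk I))
    (fun a b => (Ideal.comap_le_comap_iff_of_surjective _ Ideal.Quotient.mk_surjective a.asIdeal b.asIdeal))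

theorem mem_range_comapQuot {A : Type u} [CommRing A] (I : Ideal A) (y : PrimeSpectrum A) :
    y ∈ Set.range (comapQuot I) ↔ I ≤ y.asIdeal := by
  show y ∈ Set.range (PrimeSpectrum.comap (Ideal.Quotient.mk I)) ↔ _
  rw [range_comap_of_surjective _ _ Ideal.Quotient.mk_surjective, Ideal.mk_ker, PrimeSpectrum.mem_zeroLocus,
    SetLike.coe_subset_coe]

noncomputable def comapLoc {A : Type u} [CommRing A] (S : Submonoid A) (B : Type u) [CommRing B] [Algebra A B]
    [IsLocalization S B] : PrimeSpectrum B ↪o PrimeSpectrum A :=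
  OrderEmbedding.ofMapLEIff (PrimeSpectrum.comap (algebraMap A B))
    (fun a b => ⟨fun h => show a.asIdeal ≤ b.asIdeal by
      rw [← IsLocalization.map_comap S B a.asIdeal, ← IsLocalization.map_comap S B b.asIdeal]
      exact Ideal.map_mono h, fun h => Ideal.comap_mono h⟩)

theorem mem_range_comapLoc {A : Type u} [CommRing A] (S : Submonoid A) (B : Type u) [CommRing B] [Algebra A B]
    [IsLocalization S B] (y : PrimeSpectrum A) :
    y ∈ Set.range (comapLoc S B) ↔ Disjoint (S : Set A) y.asIdeal := by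
  show y ∈ Set.range (PrimeSpectrum.comap (algebraMap A B)) ↔ _
  rw [PrimeSpectrum.localization_comap_range B S]
  rfl

end Groth.Agent.Catenary
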