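/-
The Cauchy-Binet formula over strictly decreasing tuples, and Vandermonde sums over roots of unity.
-/
import Mathlib.LinearAlgebra.Vandermonde
import Mathlib.LinearAlgebra.Matrix.SchurComplement
import Mathlib.Data.Fin.Tuple.Sort
import Mathlib.Analysis.SpecialFunctions.Trigonometric.Basic
import Mathlib.RingTheory.RootsOfUnity.Complex
import Mathlib.Algebra.Field.GeomSum

set_option autoImplicit false
set_option linter.unusedSectionVars false

open Finset Matrix

namespace CauchyBinet

variable {R : Type*} [CommRing R] {r : ℕ} {T : Type*} [Fintype T] [LinearOrder T]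

lemma strictAnti_range_inj {f g : Fin r → T} (hf : StrictAnti f) (hg : StrictAnti g)
    (h : Set.range f = Set.range g) : f = g := by
  have hf' : StrictMono (f ∘ Fin.rev) := hf.comp Fin.rev_strictAnti
  have hg' : StrictMono (g ∘ Fin.rev) := hg.comp Fin.rev_strictAnti
  have e := (StrictMono.range_inj hf' hg').1 (by
    rw [Fin.rev_surjective.range_comp, Fin.rev_surjective.range_comp, h])
  funext i
  simpa using congrFun e i.rev

theorem sum_det_mul_det (A B : T → Fin r → R) :
    ∑ f ∈ univ.filter (fun f : Fin r → T => StrictAnti f),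
        (Matrix.of fun i j => A (f i) j).det * (Matrix.of fun i j => B (f i) j).det =
      (Matrix.of fun i j => ∑ t, A t i * B t j).det := by
  classical
  let F : (Fin r → T) → R := fun f => (Matrix.of fun i j => A (f i) j).det * ∏ i, B (f i) i
  have h1 : (Matrix.of fun i j => ∑ t, A t i * B t j).det = ∑ f : Fin r → T, F f := by
    rw [det_apply']
    simp only [of_apply, Fintype.prod_sum, mul_sum]
    rw [Finset.sum_comm]
    refine sum_congr rfl fun f _ => ?_
    simp only [F]
    conv_rhs => rw [← det_transpose, det_apply', sum_mul]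
    refine sum_congr rfl fun σ _ => ?_
    simp only [transpose_apply, of_apply, prod_mul_distrib]
    ring
  have h2 : ∑ f : Fin r → T, F f = ∑ f ∈ univ.filter (fun f : Fin r → T => Function.Injective f), F f := by
    refine (sum_filter_of_ne fun f _ hf => ?_).symm
    by_contra hni
    obtain ⟨i, j, hij, hne⟩ := Function.not_injective_iff.1 hni
    exact hf (by simp only [F]; rw [det_zero_of_row_eq hne (by funext c; simp [hij]), zero_mul])
  have h3 : ∀ g : Fin r → T, (Matrix.of fun i j => A (g i) j).det * (Matrix.of fun i j => B (g i) j).det =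
      ∑ π : Equiv.Perm (Fin r), F (g ∘ π) := by
    intro g
    rw [det_apply' (Matrix.of fun i j => B (g i) j), mul_sum]
    refine sum_congr rfl fun π _ => ?_
    simp only [F, Function.comp_apply, of_apply]
    rw [show (Matrix.of fun i j => A (g (π i)) j) = (Matrix.of fun i j => A (g i) j).submatrix π id from rfl,
      det_permute]
    ring
  rw [h1, h2, sum_congr rfl fun g _ => h3 g, ← sum_product']
  refine sum_bij (fun p _ => p.1 ∘ p.2) (fun p hp => ?_) (fun p hp q hq e => ?_) (fun f hf => ?_) fun p _ => rfl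
  · simp only [mem_product, mem_filter, mem_univ, true_and, and_true] at hp
    exact mem_filter.2 ⟨mem_univ _, hp.injective.comp p.2.injective⟩
  · simp only [mem_product, mem_filter, mem_univ, true_and, and_true] at hp hq
    have e1 : p.1 = q.1 := strictAnti_range_inj hp hq (by
      have := congrArg Set.range e
      rwa [p.2.surjective.range_comp, q.2.surjective.range_comp] at this)
    refine Prod.ext e1 (Equiv.ext fun i => hp.injective ?_)
    have := congrFun e i
    simp only [Function.comp_apply, ← e1] at this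
    exact this
  · simp only [mem_filter, mem_univ, true_and] at hf
    refine ⟨(f ∘ Tuple.sort f ∘ Fin.revPerm, (Tuple.sort f).symm.trans Fin.revPerm), ?_, ?_⟩
    · simp only [mem_product, mem_filter, mem_univ, true_and, and_true]
      have hmono : StrictMono (f ∘ Tuple.sort f) :=
        (Tuple.monotone_sort f).strictMono_of_injective (hf.comp (Tuple.sort f).injective)
      exact hmono.comp_strictAnti Fin.rev_strictAnti
    · funext i; simp

/-- Only the tuples avoiding the smallest value. -/
theorem sum_det_mul_det_avoid (A B : T → Fin r → R) (t₀ : T) :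
    ∑ f ∈ univ.filter (fun f : Fin r → T => StrictAnti f ∧ ∀ i, f i ≠ t₀),
        (Matrix.of fun i j => A (f i) j).det * (Matrix.of fun i j => B (f i) j).det =
      (Matrix.of fun i j => (∑ t, A t i * B t j) - A t₀ i * B t₀ j).det := by
  classical
  have h := sum_det_mul_det (fun t j => if t = t₀ then 0 else A t j) B
  rw [← filter_filter, sum_filter]
  refine Eq.trans (sum_congr rfl fun f hf => ?_) (h.trans ?_)
  · split_ifs with c
    · congr 2
      ext i j
      simp [c i]
    · push Not at c
      obtain ⟨i, hi⟩ := c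
      rw [det_eq_zero_of_row_eq_zero i fun j => by simp [hi], zero_mul]
  · congr 1
    ext i j
    simp only [of_apply]
    rw [← add_sum_erase _ (fun t => A t i * B t j) (mem_univ t₀), add_sub_cancel_left,
      ← add_sum_erase _ (fun t => (if t = t₀ then 0 else A t i) * B t j) (mem_univ t₀)]
    simp only [if_pos rfl, zero_mul, zero_add, if_true]
    exact sum_congr rfl fun t ht => by rw [if_neg (mem_erase.1 ht).1]

/-- A rank one change moves the determinant affinely. -/
theorem det_add_const_affine (G : Matrix (Fin r) (Fin r) R) :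
    ∃ c : R, ∀ s : R, (Matrix.of fun i j => G i j + s).det = G.det + s * c := by
  classical
  let M : (Unit ⊕ Fin r → R) → Matrix (Unit ⊕ Fin r) (Unit ⊕ Fin r) R := fun row =>
    (fromBlocks (1 : Matrix Unit Unit R) 0 (Matrix.of fun _ _ => 1) G).updateRow (Sum.inl ()) row
  let e : Unit ⊕ Fin r → R := Sum.elim (fun _ => 1) 0
  let u : Unit ⊕ Fin r → R := Sum.elim 0 (fun _ => 1)
  have hM : ∀ s : R, (M (e + (-s) • u)).det = (Matrix.of fun i j => G i j + s).det := fun s => by
    have he : M (e + (-s) • u) = fromBlocks 1 (Matrix.of fun _ _ => -s) (Matrix.of fun _ _ => 1) G := by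
      ext (i | i) (j | j) <;> simp [M, e, u, updateRow_apply]
    rw [he, det_fromBlocks_one₁₁]
    congr 1
    ext i j
    simp [Matrix.mul_apply]
  have h0 := hM 0
  simp only [neg_zero, zero_smul, add_zero] at h0
  refine ⟨-(M u).det, fun s => ?_⟩
  rw [← hM s]
  simp only [M] at h0 ⊢
  rw [det_updateRow_add, det_updateRow_smul, h0]
  rw [show (Matrix.of fun i j => G i j) = G from rfl]
  ring

lemma rev_det (M : Matrix (Fin r) (Fin r) R) :
    (M.submatrix Fin.rev id).det = ((Equiv.Perm.sign (Fin.revPerm : Equiv.Perm (Fin r)) : ℤ) : R) * M.det :=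
  det_permute Fin.revPerm M

lemma sign_sq : ((Equiv.Perm.sign (Fin.revPerm : Equiv.Perm (Fin r)) : ℤ) : R) *
    ((Equiv.Perm.sign (Fin.revPerm : Equiv.Perm (Fin r)) : ℤ) : R) = 1 := by
  rw [← Int.cast_mul, ← Units.val_mul, Int.units_mul_self, Units.val_one, Int.cast_one]

section roots

/-- The determinant with exponents `e`. -/
noncomputable def pdet (z : Fin r → ℂ) (e : Fin r → ℕ) : ℂ := (Matrix.of fun i j : Fin r => z j ^ e i).det

/-- The exponents of the denominator. -/
def stair (i : Fin r) : ℕ := r - 1 - (i : ℕ)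

lemma stair_eq_rev (i : Fin r) : stair i = (i.rev : ℕ) := by
  rw [stair, Fin.val_rev]; omega

lemma pdet_rev (z : Fin r → ℂ) (e : Fin r → ℕ) :
    pdet z (fun i => e i.rev) = ((Equiv.Perm.sign (Fin.revPerm : Equiv.Perm (Fin r)) : ℤ) : ℂ) * pdet z e := by
  unfold pdet
  rw [← rev_det]
  rfl

lemma pdet_stair (z : Fin r → ℂ) :
    pdet z stair = ((Equiv.Perm.sign (Fin.revPerm : Equiv.Perm (Fin r)) : ℤ) : ℂ) * ∏ i, ∏ j ∈ Ioi i, (z j - z i) := by
  rw [show stair = fun i : Fin r => ((fun a : Fin r => (a : ℕ)) i.rev) from funext stair_eq_rev, pdet_rev,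
    ← det_vandermonde, ← det_transpose (vandermonde z)]
  rfl

lemma pdet_stair_ne (z : Fin r → ℂ) (hz : Function.Injective z) : pdet z stair ≠ 0 := by
  rw [pdet_stair, ← det_vandermonde]
  refine mul_ne_zero ?_ (det_vandermonde_ne_zero_iff.2 hz)
  intro h
  have := sign_sq (R := ℂ) (r := r)
  rw [h, zero_mul] at this
  exact zero_ne_one this

/-- Reversing the exponents through a multiple of the order. -/
lemma pdet_compl {N : ℕ} (z : Fin r → ℂ) (hN : ∀ j, z j ^ N = 1) (hN0 : 0 < N) (e : Fin r → ℕ) (he : ∀ i, e i < N) :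
    pdet z (fun i => N - 1 - e i.rev) =
      ((Equiv.Perm.sign (Fin.revPerm : Equiv.Perm (Fin r)) : ℤ) : ℂ) * (∏ j, z j)⁻¹ * pdet (fun j => (z j)⁻¹) e := by
  rw [pdet_rev z fun i => N - 1 - e i, mul_assoc]
  congr 1
  unfold pdet
  rw [← prod_inv_distrib, ← det_mul_row]
  congr 1
  ext i j
  simp only [of_apply]
  have h0 : z j ≠ 0 := fun h => by
    have := hN j
    rw [h, zero_pow hN0.ne'] at this
    exact zero_ne_one this
  rw [inv_pow, ← mul_inv, ← pow_succ']
  refine eq_inv_of_mul_eq_one_left ?_
  rw [← pow_add, show N - 1 - e i + (e i + 1) = N by have := he i; omega, hN]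

lemma pdet_stair_inv (z : Fin r → ℂ) (h0 : ∀ j, z j ≠ 0) :
    pdet (fun j => (z j)⁻¹) stair =
      ((Equiv.Perm.sign (Fin.revPerm : Equiv.Perm (Fin r)) : ℤ) : ℂ) * (∏ j, z j)⁻¹ ^ (r - 1) * pdet z stair := by
  have h1 : pdet (fun j => (z j)⁻¹) stair = ((∏ j, (z j)⁻¹ ^ (r - 1))) * pdet z (fun i => (i : ℕ)) := by
    unfold pdet
    rw [← det_mul_row]
    congr 1
    ext i j
    simp only [of_apply, stair]
    rw [inv_pow, inv_pow]
    have hz := h0 j
    field_simp
    rw [← pow_add]
    congr 1
    have := i.2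
    omega
  rw [h1, show (fun i : Fin r => (i : ℕ)) = fun i => stair i.rev from funext fun i => by rw [stair_eq_rev, Fin.rev_rev],
    pdet_rev, ← prod_inv_distrib, ← prod_pow]
  ring

/-- The product of sines is the squared Vandermonde determinant. -/
lemma sin_prod {N : ℕ} (hN : 0 < N) (v : Fin r → ℕ) (z : Fin r → ℂ)
    (hz : ∀ j, z j = Complex.exp (2 * Real.pi * Complex.I * (v j : ℂ) / (N : ℂ))) :
    ((∏ p ∈ (univ : Finset (Fin r × Fin r)).filter (fun p => p.1 < p.2),
        ((2 : ℝ) * Real.sin (Real.pi * ((v p.1 : ℝ) - (v p.2 : ℝ)) / (N : ℝ))) ^ 2 : ℝ) : ℂ) =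
      pdet z stair * pdet (fun j => (z j)⁻¹) stair := by
  rw [pdet_stair, pdet_stair, mul_mul_mul_comm, sign_sq, one_mul, ← prod_mul_distrib]
  simp only [← prod_mul_distrib]
  rw [Complex.ofReal_prod, prod_filter, Fintype.prod_prod_type]
  refine prod_congr rfl fun i _ => ?_
  rw [← prod_filter]
  refine prod_congr (by ext; simp) fun j _ => ?_
  dsimp only
  push_cast
  rw [hz i, hz j, ← Complex.exp_neg, ← Complex.exp_neg, Complex.sin]
  set a : ℂ := (Real.pi : ℂ) * ((v i : ℂ) - (v j : ℂ)) / (N : ℂ) with ha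
  have hI : Complex.I * Complex.I = -1 := Complex.I_mul_I
  have e1 : ∀ x y : ℂ, (Complex.exp x - Complex.exp y) * (Complex.exp (-x) - Complex.exp (-y)) =
      2 - Complex.exp (x - y) - Complex.exp (y - x) := fun x y => by
    rw [Complex.exp_neg, Complex.exp_neg, Complex.exp_sub, Complex.exp_sub]
    field_simp [Complex.exp_ne_zero]
    ring
  rw [e1]
  have e2 : Complex.exp (-a * Complex.I) * Complex.exp (a * Complex.I) = 1 := by
    rw [← Complex.exp_add, show -a * Complex.I + a * Complex.I = 0 by ring, Complex.exp_zero]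
  have e3 : 2 * Real.pi * Complex.I * (v j : ℂ) / (N : ℂ) - 2 * Real.pi * Complex.I * (v i : ℂ) / (N : ℂ) =
      -a * Complex.I + -a * Complex.I := by rw [ha]; ring
  have e4 : 2 * Real.pi * Complex.I * (v i : ℂ) / (N : ℂ) - 2 * Real.pi * Complex.I * (v j : ℂ) / (N : ℂ) =
      a * Complex.I + a * Complex.I := by rw [ha]; ring
  rw [e3, e4, Complex.exp_add, Complex.exp_add]
  linear_combination ((Complex.exp (-a * Complex.I) - Complex.exp (a * Complex.I)) ^ 2) * hI + 2 * e2

lemma root_pow {N : ℕ} (hN : 0 < N) (v : ℕ) :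
    Complex.exp (2 * Real.pi * Complex.I * (v : ℂ) / (N : ℂ)) ^ N = 1 := by
  rw [← Complex.exp_nat_mul, mul_div_assoc', mul_div_cancel_left₀ _ (Nat.cast_ne_zero.2 hN.ne'),
    Complex.exp_eq_one_iff]
  exact ⟨v, by push_cast; ring⟩

lemma root_inj {N : ℕ} (hN : 0 < N) {a b : ℕ} (ha : a < N) (hb : b < N)
    (h : Complex.exp (2 * Real.pi * Complex.I * (a : ℂ) / (N : ℂ)) = Complex.exp (2 * Real.pi * Complex.I * (b : ℂ) / (N : ℂ))) :
    a = b := by
  have hp := Complex.isPrimitiveRoot_exp N hN.ne'
  refine hp.pow_inj ha hb ?_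
  rw [← Complex.exp_nat_mul, ← Complex.exp_nat_mul]
  convert h using 2 <;> ring

lemma geom {N : ℕ} (q : ℂ) (hq : q ^ N = 1) : ∑ t : Fin N, q ^ (t : ℕ) = if q = 1 then (N : ℂ) else 0 := by
  rw [Fin.sum_univ_eq_sum_range (fun t => q ^ t)]
  split_ifs with h
  · simp [h]
  · rw [geom_sum_eq h, hq, sub_self, zero_div]

lemma det_scalar_sub {c : ℂ} (hc : c ≠ 0) (hr : 1 ≤ r) (u w : Fin r → ℂ) :
    (Matrix.of fun i j => (if i = j then c else 0) - u i * w j).det = c ^ (r - 1) * (c - ∑ i, w i * u i) := by
  have e : (Matrix.of fun i j => (if i = j then c else 0) - u i * w j) =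
      c • ((1 : Matrix (Fin r) (Fin r) ℂ) + replicateCol Unit (fun i => -(c⁻¹ * u i)) * replicateRow Unit w) := by
    ext i j
    simp only [of_apply, Matrix.smul_apply, Matrix.add_apply, Matrix.mul_apply, replicateCol_apply, replicateRow_apply,
      Matrix.one_apply, smul_eq_mul, Fintype.sum_unique]
    split_ifs <;> field_simp <;> ring
  rw [e, det_smul, det_one_add_replicateCol_mul_replicateRow, Fintype.card_fin]
  have : w ⬝ᵥ (fun i => -(c⁻¹ * u i)) = -(c⁻¹ * ∑ i, w i * u i) := by
    simp only [dotProduct, mul_sum, ← sum_neg_distrib]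
    exact sum_congr rfl fun i _ => by ring
  rw [this]
  nth_rewrite 1 [show r = (r - 1) + 1 by omega]
  rw [pow_succ]
  field_simp
  ring

end roots

end CauchyBinet
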