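/-
Coefficient fields in residue characteristic zero.
-/
import Mathlib

open Polynomial
universe u

namespace Groth.Agent.CoefficientField


variable {R : Type u} [CommRing R] [IsLocalRing R]

/-- The residue map is injective on `K`. -/
def Good (K : Subring R) : Prop := ∀ x ∈ K, IsLocalRing.residue R x = 0 → x = 0

theorem exists_maximal [CharZero (IsLocalRing.ResidueField R)] :
    ∃ K : Subring R, Good K ∧ ∀ K' : Subring R, Good K' → K ≤ K' → K' ≤ K := by
  obtain ⟨K, -, hK⟩ := zorn_le_nonempty₀ {K : Subring R | Good K} (fun c hc hchain y hy => by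
    refine ⟨sSup c, fun x hx h => ?_, fun z hz => le_sSup hz⟩
    obtain ⟨K, hKc, hxK⟩ := (Subring.mem_sSup_of_directedOn ⟨y, hy⟩ hchain.directedOn).mp hx
    exact hc hKc x hxK h) ⊥ (fun x hx h => by
      obtain ⟨n, rfl⟩ := Subring.mem_bot.mp hx
      rw [map_intCast, Int.cast_eq_zero] at h
      simp [h])
  exact ⟨K, hK.prop, fun K' h hle => hK.le_of_ge h hle⟩

theorem inv_mem {K : Subring R} (hK : Good K) (hmax : ∀ K' : Subring R, Good K' → K ≤ K' → K' ≤ K)
    {x : R} (hx : x ∈ K) (hx0 : x ≠ 0) : ∃ y ∈ K, x * y = 1 := by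
  have hu : IsUnit x := by
    by_contra h
    rw [← mem_nonunits_iff, ← IsLocalRing.mem_maximalIdeal] at h
    exact hx0 (hK x hx ((IsLocalRing.residue_eq_zero_iff x).mpr h))
  obtain ⟨u, rfl⟩ := hu
  refine ⟨((u⁻¹ : Rˣ) : R), ?_, Units.mul_inv u⟩
  let K' := Subring.closure ((K : Set R) ∪ {((u⁻¹ : Rˣ) : R)})
  have key : ∀ y ∈ K', ∃ n : ℕ, (u : R) ^ n * y ∈ K := by
    intro y hy
    induction hy using Subring.closure_induction with
    | mem z hz =>
      rcases hz with hz | hz
      · exact ⟨0, by simpa using hz⟩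
      · exact ⟨1, by rw [Set.mem_singleton_iff.mp hz, pow_one, Units.mul_inv]; exact K.one_mem⟩
    | zero => exact ⟨0, by simp⟩
    | one => exact ⟨0, by simp⟩
    | add a b _ _ ha hb =>
      obtain ⟨n, ha⟩ := ha
      obtain ⟨m, hb⟩ := hb
      exact ⟨n + m, by
        rw [mul_add, pow_add, mul_right_comm ((u : R) ^ n) ((u : R) ^ m) a, mul_assoc ((u : R) ^ n) ((u : R) ^ m) b]
        exact K.add_mem (K.mul_mem ha (K.pow_mem hx m)) (K.mul_mem (K.pow_mem hx n) hb)⟩
    | neg a _ ha =>
      obtain ⟨n, ha⟩ := ha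
      exact ⟨n, by rw [mul_neg]; exact K.neg_mem ha⟩
    | mul a b _ _ ha hb =>
      obtain ⟨n, ha⟩ := ha
      obtain ⟨m, hb⟩ := hb
      exact ⟨n + m, by rw [pow_add, mul_mul_mul_comm]; exact K.mul_mem ha hb⟩
  have hgood : Good K' := by
    intro y hy h
    obtain ⟨n, hn⟩ := key y hy
    have := hK _ hn (by rw [map_mul, h, mul_zero])
    exact (u.isUnit.pow n).mul_right_eq_zero.mp this
  exact hmax K' hgood (fun z hz => Subring.subset_closure (Or.inl hz)) (Subring.subset_closure (Or.inr rfl))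

end Groth.Agent.CoefficientField
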