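/-
Injective hulls, essential extensions.
-/
import Mathlib.Algebra.Module.Injective
import Mathlib.Algebra.Category.ModuleCat.EnoughInjectives
import Mathlib.Algebra.Category.ModuleCat.Injective
import Mathlib.Algebra.Category.ModuleCat.Abelian
import Mathlib.Order.Zorn
import Mathlib.LinearAlgebra.Projection
import Mathlib.RingTheory.Noetherian.Basic
import Mathlib.RingTheory.Finiteness.Basic

universe u v

namespace Groth.Agent.IH

open CategoryTheory in
theorem exists_injective_embedding (R : Type u) [CommRing R] (M : Type u) [AddCommGroup M]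
    [Module R M] : ∃ (I : Type u) (_ : AddCommGroup I) (_ : Module R I) (f : M →ₗ[R] I),
      Function.Injective f ∧ Module.Injective R I := by
  let J : ModuleCat.{u} R := Injective.under (ModuleCat.of R M)
  refine ⟨J, inferInstance, inferInstance, (Injective.ι (ModuleCat.of R M)).hom, ?_, ?_⟩
  · exact (ModuleCat.mono_iff_injective _).mp inferInstance
  · have : Injective (ModuleCat.of R J) := (inferInstance : Injective (Injective.under _))
    exact Module.injective_module_of_injective_object R J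

variable {R : Type u} [CommRing R]

/-- Essentiality of a submodule. -/
def Ess {E : Type v} [AddCommGroup E] [Module R E] (M : Submodule R E) : Prop :=
  ∀ x : E, x ≠ 0 → ∃ r : R, r • x ∈ M ∧ r • x ≠ 0

theorem ess_iff {E : Type v} [AddCommGroup E] [Module R E] (M : Submodule R E) :
    Ess M ↔ ∀ N : Submodule R E, N ≠ ⊥ → N ⊓ M ≠ ⊥ := by
  constructor
  · intro h N hN
    obtain ⟨x, hx, hx0⟩ := Submodule.exists_mem_ne_zero_of_ne_bot hN
    obtain ⟨r, hr, hr0⟩ := h x hx0
    intro hbot
    exact hr0 ((Submodule.eq_bot_iff _).mp hbot _ ⟨N.smul_mem r hx, hr⟩)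
  · intro h x hx
    have hne : Submodule.span R {x} ≠ ⊥ := by simpa using hx
    obtain ⟨y, ⟨hy1, hy2⟩, hy0⟩ := Submodule.exists_mem_ne_zero_of_ne_bot (h _ hne)
    obtain ⟨r, rfl⟩ := Submodule.mem_span_singleton.mp hy1
    exact ⟨r, hy2, hy0⟩

theorem Ess.disjoint {E : Type v} [AddCommGroup E] [Module R E] {M : Submodule R E} (h : Ess M)
    {N : Submodule R E} (hd : N ⊓ M = ⊥) : N = ⊥ := by
  by_contra hN
  exact (ess_iff M).mp h N hN hd

theorem injective_of_comp {M : Type u} {E : Type v} {P : Type*} [AddCommGroup M] [Module R M]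
    [AddCommGroup E] [Module R E] [AddCommGroup P] [Module R P] {f : M →ₗ[R] E}
    (hess : Ess (LinearMap.range f)) {g : E →ₗ[R] P} (hg : Function.Injective (g ∘ₗ f)) :
    Function.Injective g := by
  rw [← LinearMap.ker_eq_bot]
  refine hess.disjoint ?_
  rw [Submodule.eq_bot_iff]
  rintro x ⟨hx, m, rfl⟩
  have : m = 0 := hg (by simpa using hx)
  simp [this]

theorem extend_to_injective {M E I : Type u} [AddCommGroup M] [Module R M]
    [AddCommGroup E] [Module R E] [AddCommGroup I] [Module R I]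
    (hI : Module.Injective R I) (f : M →ₗ[R] E) (hf : Function.Injective f) (g : M →ₗ[R] I) :
    ∃ h : E →ₗ[R] I, h ∘ₗ f = g := by
  obtain ⟨h, hh⟩ := hI.out f hf g
  exact ⟨h, LinearMap.ext hh⟩

theorem injective_of_retract {E I : Type u} [AddCommGroup E] [Module R E] [AddCommGroup I]
    [Module R I] (hI : Module.Injective R I) (i : E →ₗ[R] I) (p : I →ₗ[R] E)
    (hpi : ∀ x, p (i x) = x) : Module.Injective R E := by
  refine ⟨fun X Y _ _ _ _ f hf g => ?_⟩
  obtain ⟨h, hh⟩ := hI.out f hf (i ∘ₗ g)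
  refine ⟨p ∘ₗ h, fun x => ?_⟩
  simp [hh x, hpi]

theorem injective_congr {E I : Type u} [AddCommGroup E] [Module R E] [AddCommGroup I]
    [Module R I] (hI : Module.Injective R I) (e : E ≃ₗ[R] I) : Module.Injective R E :=
  injective_of_retract hI e.toLinearMap e.symm.toLinearMap e.symm_apply_apply

theorem exists_retraction {I : Type u} [AddCommGroup I] [Module R I] (E : Submodule R I)
    (hE : Module.Injective R E) : ∃ p : I →ₗ[R] E, ∀ x : E, p x = x := by
  obtain ⟨p, hp⟩ := hE.out E.subtype E.injective_subtype LinearMap.id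
  exact ⟨p, hp⟩

/-- An injective submodule has no proper essential extension. -/
theorem eq_of_ess {I : Type u} [AddCommGroup I] [Module R I] {E E' : Submodule R I}
    (hE : Module.Injective R E) (hle : E ≤ E')
    (hess : ∀ x ∈ E', x ≠ 0 → ∃ r : R, r • x ∈ E ∧ r • x ≠ 0) : E' = E := by
  obtain ⟨p, hp⟩ := exists_retraction E hE
  refine le_antisymm (fun x hx => ?_) hle
  by_contra hxE
  have hy : x - (p x : I) ≠ 0 := by
    intro h
    rw [sub_eq_zero] at h
    exact hxE (h ▸ (p x).2)
  obtain ⟨r, hr, hr0⟩ := hess _ (E'.sub_mem hx (hle (p x).2)) hy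
  have h1 := hp ⟨_, hr⟩
  simp only [map_smul, map_sub, hp, sub_self, smul_zero] at h1
  exact hr0 (congrArg Subtype.val h1).symm

/-- A submodule of an injective module without proper essential extensions is injective. -/
theorem injective_of_maximal {I : Type u} [AddCommGroup I] [Module R I]
    (hI : Module.Injective R I) {E : Submodule R I}
    (h : ∀ E' : Submodule R I, E ≤ E' →
      (∀ x ∈ E', x ≠ 0 → ∃ r : R, r • x ∈ E ∧ r • x ≠ 0) → E' = E) :
    Module.Injective R E := by
  obtain ⟨C, -, hC⟩ := zorn_le_nonempty₀ {C : Submodule R I | C ⊓ E = ⊥}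
    (fun c hc hchain y hy => by
      refine ⟨sSup c, ?_, fun z hz => le_sSup hz⟩
      rw [Set.mem_setOf_eq, Submodule.eq_bot_iff]
      rintro x ⟨hx1, hx2⟩
      obtain ⟨N, hN, hxN⟩ := (Submodule.mem_sSup_of_directed ⟨y, hy⟩ hchain.directedOn).mp hx1
      exact (Submodule.eq_bot_iff _).mp (hc hN) x ⟨hxN, hx2⟩) ⊥ (by simp)
  let j : E →ₗ[R] I ⧸ C := C.mkQ ∘ₗ E.subtype
  have hj : Function.Injective j := by
    rw [← LinearMap.ker_eq_bot, Submodule.eq_bot_iff]
    intro x hx
    have hxC : (x : I) ∈ C := by simpa [j, Submodule.Quotient.mk_eq_zero] using hx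
    exact Subtype.ext ((Submodule.eq_bot_iff _).mp hC.prop _ ⟨hxC, x.2⟩)
  have hessj : Ess (LinearMap.range j) := by
    rw [ess_iff]
    intro N hN hbot
    apply hN
    have hle : C ≤ N.comap C.mkQ := by
      intro x hx
      simp [(Submodule.Quotient.mk_eq_zero C).mpr hx]
    have hd : N.comap C.mkQ ⊓ E = ⊥ := by
      rw [Submodule.eq_bot_iff]
      rintro x ⟨hx, hxE⟩
      have h0 : C.mkQ x = 0 :=
        (Submodule.eq_bot_iff _).mp hbot _ ⟨hx, ⟨x, hxE⟩, rfl⟩
      exact (Submodule.eq_bot_iff _).mp hC.prop x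
        ⟨(Submodule.Quotient.mk_eq_zero C).mp h0, hxE⟩
    have := hC.eq_of_ge hd hle
    rw [Submodule.eq_bot_iff]
    intro z hz
    obtain ⟨x, rfl⟩ := C.mkQ_surjective z
    have hxC : x ∈ C := by
      rw [← this]
      exact hz
    simp [hxC]
  obtain ⟨g, hg⟩ := extend_to_injective hI j hj E.subtype
  have hginj : Function.Injective g :=
    injective_of_comp (f := j) hessj (by rw [hg]; exact E.injective_subtype)
  have hrange : LinearMap.range g = E := by
    refine h _ (fun x hx => ⟨j ⟨x, hx⟩, LinearMap.congr_fun hg ⟨x, hx⟩⟩) ?_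
    rintro x ⟨z, rfl⟩ hx0
    obtain ⟨r, ⟨e, he⟩, hr0⟩ := hessj z (fun h0 => hx0 (by rw [h0, map_zero]))
    refine ⟨r, ?_, ?_⟩
    · rw [← map_smul, ← he, ← LinearMap.comp_apply, hg]
      exact e.2
    · rw [← map_smul]
      exact fun h0 => hr0 (hginj (by rw [h0, map_zero]))
  refine injective_of_retract hI E.subtype
    ((LinearEquiv.ofEq _ _ hrange).toLinearMap ∘ₗ g.rangeRestrict ∘ₗ C.mkQ) (fun x => ?_)
  apply Subtype.ext
  exact LinearMap.congr_fun hg x

theorem exists_maximal_ess {I : Type u} [AddCommGroup I] [Module R I] (M : Submodule R I) :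
    ∃ E : Submodule R I, M ≤ E ∧ (∀ x ∈ E, x ≠ 0 → ∃ r : R, r • x ∈ M ∧ r • x ≠ 0) ∧
      ∀ E' : Submodule R I, E ≤ E' →
      (∀ x ∈ E', x ≠ 0 → ∃ r : R, r • x ∈ E ∧ r • x ≠ 0) → E' = E := by
  obtain ⟨E, hME, hE⟩ := zorn_le_nonempty₀
    {E : Submodule R I | M ≤ E ∧ ∀ x ∈ E, x ≠ 0 → ∃ r : R, r • x ∈ M ∧ r • x ≠ 0}
    (fun c hc hchain y hy => by
      refine ⟨sSup c, ⟨(hc hy).1.trans (le_sSup hy), fun x hx hx0 => ?_⟩, fun z hz => le_sSup hz⟩
      obtain ⟨N, hN, hxN⟩ := (Submodule.mem_sSup_of_directed ⟨y, hy⟩ hchain.directedOn).mp hx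
      exact (hc hN).2 x hxN hx0) M
    ⟨le_rfl, fun x hx hx0 => ⟨1, by simpa using hx, by simpa using hx0⟩⟩
  refine ⟨E, hME, hE.prop.2, fun E' hle hess => hE.eq_of_ge ⟨hME.trans hle, fun x hx hx0 => ?_⟩ hle⟩
  obtain ⟨r, hr, hr0⟩ := hess x hx hx0
  obtain ⟨s, hs, hs0⟩ := hE.prop.2 _ hr hr0
  exact ⟨s * r, by rw [mul_smul]; exact hs, by rw [mul_smul]; exact hs0⟩

/-- Every module has an injective hull. -/
theorem exists_hull (R : Type u) [CommRing R] (M : Type u) [AddCommGroup M] [Module R M] :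
    ∃ (E : Type u) (_ : AddCommGroup E) (_ : Module R E) (f : M →ₗ[R] E),
      Function.Injective f ∧ Ess (LinearMap.range f) ∧ Module.Injective R E := by
  obtain ⟨I, _, _, f, hf, hI⟩ := exists_injective_embedding R M
  obtain ⟨E, hME, hess, hmax⟩ := exists_maximal_ess (LinearMap.range f)
  refine ⟨E, inferInstance, inferInstance,
    f.codRestrict E (fun m => hME ⟨m, rfl⟩), fun a b h => hf (congrArg Subtype.val h), ?_,
    injective_of_maximal hI hmax⟩
  intro x hx
  obtain ⟨r, ⟨m, hm⟩, hr0⟩ := hess x x.2 (by simpa using hx)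
  exact ⟨r, ⟨m, Subtype.ext hm⟩, fun h => hr0 (by simpa using congrArg Subtype.val h)⟩

theorem hull_embedding {M E I : Type u} [AddCommGroup M] [Module R M]
    [AddCommGroup E] [Module R E] [AddCommGroup I] [Module R I] {f : M →ₗ[R] E}
    (hf : Function.Injective f) (hess : Ess (LinearMap.range f)) (hE : Module.Injective R E)
    {i : M →ₗ[R] I} (hi : Function.Injective i) (hI : Module.Injective R I) :
    ∃ α : E →ₗ[R] I, Function.Injective α ∧ α ∘ₗ f = i ∧
      ∃ I' : Submodule R I, IsCompl (LinearMap.range α) I' := by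
  obtain ⟨α, hα⟩ := extend_to_injective hI f hf i
  have hαinj : Function.Injective α := injective_of_comp hess (by rw [hα]; exact hi)
  obtain ⟨p, hp⟩ := exists_retraction (LinearMap.range α)
    (injective_congr hE (LinearEquiv.ofInjective α hαinj).symm)
  exact ⟨α, hαinj, hα, LinearMap.ker p, LinearMap.isCompl_of_proj hp⟩

theorem hull_unique {M E E' : Type u} [AddCommGroup M] [Module R M]
    [AddCommGroup E] [Module R E] [AddCommGroup E'] [Module R E'] {f : M →ₗ[R] E}
    (hf : Function.Injective f) (hess : Ess (LinearMap.range f)) (hE : Module.Injective R E)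
    {g : M →ₗ[R] E'} (hg : Function.Injective g) (hess' : Ess (LinearMap.range g))
    (hE' : Module.Injective R E') : ∃ e : E ≃ₗ[R] E', e.toLinearMap ∘ₗ f = g := by
  obtain ⟨α, hα, hαf, I', hI'⟩ := hull_embedding hf hess hE hg hE'
  have : I' = ⊥ := by
    refine hess'.disjoint (eq_bot_iff.mpr ?_)
    have hle : LinearMap.range g ≤ LinearMap.range α := by
      rw [← hαf]
      exact LinearMap.range_comp_le_range _ _
    calc I' ⊓ LinearMap.range g ≤ I' ⊓ LinearMap.range α := inf_le_inf_left _ hle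
      _ = ⊥ := by rw [inf_comm]; exact hI'.inf_eq_bot
  subst this
  have hsurj : Function.Surjective α :=
    LinearMap.range_eq_top.mp (by simpa using hI'.sup_eq_top)
  exact ⟨LinearEquiv.ofBijective α ⟨hα, hsurj⟩, hαf⟩

/-- Injective hull of a submodule inside an injective module. -/
theorem exists_hull_submodule {I : Type u} [AddCommGroup I] [Module R I]
    (hI : Module.Injective R I) (M : Submodule R I) :
    ∃ E : Submodule R I, M ≤ E ∧ Module.Injective R E ∧
      ∀ x ∈ E, x ≠ 0 → ∃ r : R, r • x ∈ M ∧ r • x ≠ 0 := by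
  obtain ⟨E, hME, hess, hmax⟩ := exists_maximal_ess M
  exact ⟨E, hME, injective_of_maximal hI hmax, hess⟩

theorem uniform_of_indecomposable {E : Type u} [AddCommGroup E] [Module R E]
    (hind : ∀ N N' : Submodule R E, IsCompl N N' → N = ⊥ ∨ N' = ⊥)
    (hinj : Module.Injective R E) {N N' : Submodule R E} (hN : N ≠ ⊥) (hN' : N' ≠ ⊥) :
    N ⊓ N' ≠ ⊥ := by
  obtain ⟨H, hNH, hH, hess⟩ := exists_hull_submodule hinj N
  obtain ⟨p, hp⟩ := exists_retraction H hH
  rcases hind H (LinearMap.ker p) (LinearMap.isCompl_of_proj hp) with h | h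
  · exact absurd (eq_bot_iff.mpr (h ▸ hNH)) hN
  have hHtop : H = ⊤ := by
    have := (LinearMap.isCompl_of_proj hp).sup_eq_top
    rwa [h, sup_bot_eq] at this
  subst hHtop
  rw [inf_comm]
  exact (ess_iff N).mp (fun x hx => hess x trivial hx) N' hN'

end Groth.Agent.IH
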