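/-
Matlis duality over a local ring.
-/
import Groth.Prelude.Def_Wider
import Groth.Agent.Lib.InjHullBasic
import Mathlib.RingTheory.Length
import Mathlib.RingTheory.LocalRing.Quotient
import Mathlib.RingTheory.HopkinsLevitzki
import Mathlib.RingTheory.Ideal.KrullsHeightTheorem

universe u

open InjHull

namespace Groth.Agent.Matlis

variable {R : Type u} [CommRing R] [IsLocalRing R] {E : Type u} [AddCommGroup E] [Module R E]
  {f : IsLocalRing.ResidueField R →ₗ[R] E}

local notation "𝔪" => IsLocalRing.maximalIdeal R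

theorem smul_residue_eq_zero {r : R} (hr : r ∈ 𝔪) (x : IsLocalRing.ResidueField R) : r • x = 0 := by
  rw [← IsScalarTower.algebraMap_smul (IsLocalRing.ResidueField R) r x]
  rw [show algebraMap R (IsLocalRing.ResidueField R) r = 0 from (IsLocalRing.residue_eq_zero_iff r).mpr hr,
    zero_smul]

theorem ess (hf : IsInjectiveHull f) : IH.Ess (LinearMap.range f) :=
  (IH.ess_iff _).mpr hf.essential

theorem f_one_ne_zero (hf : IsInjectiveHull f) : f 1 ≠ 0 := fun h =>
  one_ne_zero (hf.injective (h.trans (map_zero f).symm))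

theorem exists_hom_ne_zero (hf : IsInjectiveHull f) {G : Type u} [AddCommGroup G] [Module R G]
    {x : G} (hx : x ≠ 0) : ∃ φ : G →ₗ[R] E, φ x ≠ 0 := by
  let t := LinearMap.toSpanSingleton R G x
  have hle : LinearMap.ker t ≤ LinearMap.ker (LinearMap.toSpanSingleton R E (f 1)) := by
    intro r hr
    have hr' : r ∈ 𝔪 := by
      refine IsLocalRing.le_maximalIdeal (fun h => hx ?_) hr
      have h1 : (1 : R) ∈ LinearMap.ker t := by rw [h]; trivial
      simpa [t] using h1
    show r • f 1 = 0
    rw [← map_smul, smul_residue_eq_zero hr', map_zero]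
  let ψ : LinearMap.range t →ₗ[R] E :=
    Submodule.liftQ _ _ hle ∘ₗ t.quotKerEquivRange.symm.toLinearMap
  obtain ⟨φ, hφ⟩ := IH.extend_to_injective hf.isInjective _ (LinearMap.range t).injective_subtype ψ
  refine ⟨φ, ?_⟩
  have h2 := LinearMap.congr_fun hφ ⟨x, 1, one_smul _ _⟩
  have h3 : t.quotKerEquivRange.symm ⟨x, 1, one_smul _ _⟩ = Submodule.Quotient.mk 1 := by
    rw [LinearEquiv.symm_apply_eq]
    exact Subtype.ext (one_smul R x).symm
  simp only [ψ, LinearMap.comp_apply, LinearEquiv.coe_coe, h3, Submodule.liftQ_apply,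
    Submodule.subtype_apply] at h2
  rw [h2, LinearMap.toSpanSingleton_apply, one_smul]
  exact f_one_ne_zero hf

theorem applyₗ_injective (hf : IsInjectiveHull f) (G : Type u) [AddCommGroup G] [Module R G] :
    Function.Injective (LinearMap.applyₗ : G →ₗ[R] (G →ₗ[R] E) →ₗ[R] E) := by
  rw [injective_iff_map_eq_zero]
  intro x hx
  by_contra h
  obtain ⟨φ, hφ⟩ := exists_hom_ne_zero hf h
  exact hφ (LinearMap.congr_fun hx φ)

theorem annihilator_dual (hf : IsInjectiveHull f) (G : Type u) [AddCommGroup G] [Module R G] :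
    Module.annihilator R G = Module.annihilator R (G →ₗ[R] E) := by
  ext r
  simp only [Module.mem_annihilator]
  constructor
  · intro h φ
    ext x
    simp [← map_smul, h x]
  · intro h x
    by_contra hx
    obtain ⟨φ, hφ⟩ := exists_hom_ne_zero hf hx
    exact hφ (by rw [map_smul, ← LinearMap.smul_apply, h φ, LinearMap.zero_apply])

theorem torsion_eq_range (hf : IsInjectiveHull f) :
    LocCoh.torsionBy 𝔪 E = LinearMap.range f := by
  refine le_antisymm (fun x hx => ?_) ?_
  · by_cases hx0 : x = 0
    · simp [hx0]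
    obtain ⟨r, hr, hr0⟩ := ess hf x hx0
    have hu : IsUnit r := by
      by_contra hr'
      exact hr0 ((Submodule.mem_torsionBySet_iff _ _).mp hx ⟨r, hr'⟩)
    exact (Submodule.smul_mem_iff_of_isUnit (LinearMap.range f) hu).mp hr
  · rintro _ ⟨y, rfl⟩
    rw [Submodule.mem_torsionBySet_iff]
    rintro ⟨r, hr⟩
    show r • f y = 0
    rw [← map_smul, smul_residue_eq_zero hr, map_zero]

theorem isSimpleModule_residue : IsSimpleModule R (IsLocalRing.ResidueField R) :=
  isSimpleModule_iff_quot_maximal.mpr ⟨𝔪, inferInstance, ⟨LinearEquiv.refl R _⟩⟩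

/-- `Hom(k, E) ≅ k`. -/
theorem exists_homResidueEquiv (hf : IsInjectiveHull f) :
    Nonempty ((IsLocalRing.ResidueField R →ₗ[R] E) ≃ₗ[R] IsLocalRing.ResidueField R) := by
  let G : (IsLocalRing.ResidueField R →ₗ[R] E) →ₗ[R] E := LinearMap.applyₗ 1
  have hinj : Function.Injective G := by
    intro φ ψ h
    ext x
    obtain ⟨r, rfl⟩ := IsLocalRing.residue_surjective x
    have hr : (IsLocalRing.residue R r) = r • (1 : IsLocalRing.ResidueField R) := by
      rw [← IsScalarTower.algebraMap_smul (IsLocalRing.ResidueField R) r (1 : IsLocalRing.ResidueField R),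
        smul_eq_mul, mul_one]
      rfl
    rw [hr, map_smul, map_smul]
    exact congrArg (r • ·) h
  have hrange : LinearMap.range G = LinearMap.range f := by
    refine le_antisymm ?_ ?_
    · rw [← torsion_eq_range hf]
      rintro _ ⟨φ, rfl⟩
      rw [Submodule.mem_torsionBySet_iff]
      rintro ⟨r, hr⟩
      show r • φ 1 = 0
      rw [← map_smul, smul_residue_eq_zero hr, map_zero]
    · rintro _ ⟨y, rfl⟩
      obtain ⟨r, rfl⟩ := IsLocalRing.residue_surjective y
      refine ⟨r • f, ?_⟩
      show r • f 1 = _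
      rw [← map_smul, ← IsScalarTower.algebraMap_smul (IsLocalRing.ResidueField R) r
        (1 : IsLocalRing.ResidueField R), smul_eq_mul, mul_one]
      rfl
  exact ⟨LinearEquiv.ofInjective G hinj ≪≫ₗ LinearEquiv.ofEq _ _ hrange ≪≫ₗ
    (LinearEquiv.ofInjective f hf.injective).symm⟩

theorem length_dual (hf : IsInjectiveHull f) {M : Type u} [AddCommGroup M] [Module R M]
    (hM : IsFiniteLength R M) : Module.length R (M →ₗ[R] E) = Module.length R M := by
  induction hM with
  | @of_subsingleton M _ _ _ =>
    have : Subsingleton (M →ₗ[R] E) := ⟨fun a b => LinearMap.ext fun x => by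
      rw [Subsingleton.elim x 0, map_zero, map_zero]⟩
    rw [Module.length_eq_zero, Module.length_eq_zero]
  | @of_simple_quotient M _ _ N hsimple _ ih =>
    let a := LinearMap.lcomp R E N.mkQ
    let b := LinearMap.lcomp R E N.subtype
    have ha : Function.Injective a := fun φ ψ h => Submodule.linearMap_qext N h
    have hb : Function.Surjective b := fun φ => by
      obtain ⟨h, hh⟩ := IH.extend_to_injective hf.isInjective N.subtype N.injective_subtype φ
      exact ⟨h, hh⟩
    have hab : Function.Exact a b := by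
      intro φ
      constructor
      · intro h
        exact ⟨N.liftQ φ (fun x hx => LinearMap.congr_fun h ⟨x, hx⟩), LinearMap.ext fun x => rfl⟩
      · rintro ⟨ψ, rfl⟩
        refine LinearMap.ext fun x => ?_
        show ψ (N.mkQ x.1) = 0
        rw [Submodule.mkQ_apply, (Submodule.Quotient.mk_eq_zero N).mpr x.2, map_zero]
    rw [Module.length_eq_add_of_exact a b ha hb hab,
      Module.length_eq_add_of_exact N.subtype N.mkQ N.injective_subtype N.mkQ_surjective
        (LinearMap.exact_subtype_mkQ N), ih, add_comm]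
    congr 1
    obtain ⟨I, hI, ⟨e⟩⟩ := isSimpleModule_iff_quot_maximal.mp hsimple
    have hIm : I = 𝔪 := IsLocalRing.eq_maximalIdeal hI
    subst hIm
    obtain ⟨g⟩ := exists_homResidueEquiv hf
    let e' : ((M ⧸ N) →ₗ[R] E) ≃ₗ[R] (IsLocalRing.ResidueField R →ₗ[R] E) :=
      LinearEquiv.congrLeft E R e
    rw [(e' ≪≫ₗ g).length_eq, e.length_eq]
    rfl

theorem surjective_of_length_eq {M N : Type u} [AddCommGroup M] [Module R M] [AddCommGroup N]
    [Module R N] (φ : M →ₗ[R] N) (hφ : Function.Injective φ)
    (hlen : Module.length R N = Module.length R M) (hfin : Module.length R M ≠ ⊤) :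
    Function.Surjective φ := by
  have h := Module.length_eq_add_of_exact φ (LinearMap.range φ).mkQ hφ
    (LinearMap.range φ).mkQ_surjective (LinearMap.exact_map_mkQ_range φ)
  rw [hlen] at h
  have h0 : Module.length R (N ⧸ LinearMap.range φ) = 0 := by
    revert h hfin
    generalize Module.length R M = a
    generalize Module.length R (N ⧸ LinearMap.range φ) = b
    intro hfin h
    lift a to ℕ using hfin
    induction b using ENat.recTopCoe with
    | top => simp at h
    | coe b =>
      have h' : a = a + b := by exact_mod_cast h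
      simpa using h'
  rw [Module.length_eq_zero_iff] at h0
  exact LinearMap.range_eq_top.mp ((Submodule.Quotient.subsingleton_iff).mp h0)

theorem applyₗ_bijective (hf : IsInjectiveHull f) {M : Type u} [AddCommGroup M] [Module R M]
    (hM : IsFiniteLength R M) :
    Function.Bijective (LinearMap.applyₗ : M →ₗ[R] (M →ₗ[R] E) →ₗ[R] E) := by
  refine ⟨applyₗ_injective hf M, surjective_of_length_eq _ (applyₗ_injective hf M) ?_
    (Module.length_ne_top_iff.mpr hM)⟩
  have hD : IsFiniteLength R (M →ₗ[R] E) := Module.length_ne_top_iff.mp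
    (by rw [length_dual hf hM]; exact Module.length_ne_top_iff.mpr hM)
  rw [length_dual hf hD, length_dual hf hM]

theorem isPowerTorsion [IsNoetherianRing R] (hf : IsInjectiveHull f) :
    LocCoh.IsPowerTorsion 𝔪 E := by
  intro x
  have key : ∀ a ∈ 𝔪, ∃ n, a ^ n • x = 0 := by
    intro a ha
    let J : ℕ →o Ideal R := ⟨fun n => LinearMap.ker (LinearMap.toSpanSingleton R E (a ^ n • x)),
      fun i j hij r hr => by
        rw [LinearMap.mem_ker, LinearMap.toSpanSingleton_apply] at hr ⊢
        rw [← Nat.sub_add_cancel hij, pow_add, mul_smul, smul_comm, hr, smul_zero]⟩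
    obtain ⟨n, hn⟩ := monotone_stabilizes_iff_noetherian.mpr (inferInstance : IsNoetherian R R) J
    refine ⟨n, ?_⟩
    by_contra h
    obtain ⟨r, ⟨y, hy⟩, hr0⟩ := ess hf _ h
    have h1 : a • f y = 0 := by rw [← map_smul, smul_residue_eq_zero ha, map_zero]
    have h2 : r ∈ J (n + 1) := by
      show r • a ^ (n + 1) • x = 0
      rw [pow_succ', mul_smul, smul_comm, ← hy, h1]
    rw [← hn (n + 1) (by omega)] at h2
    exact hr0 h2
  have hle : 𝔪 ≤ Ideal.radical (LinearMap.ker (LinearMap.toSpanSingleton R E x)) := fun a ha => key a ha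
  obtain ⟨n, hn⟩ := Ideal.exists_pow_le_of_le_radical_of_fg hle (IsNoetherian.noetherian _)
  exact ⟨n, fun a ha => hn ha⟩

theorem isArtinianRing_quotient_pow [IsNoetherianRing R] (n : ℕ) :
    IsArtinianRing (R ⧸ 𝔪 ^ (n + 1)) := by
  refine IsLocalRing.quotient_artinian_of_mem_minimalPrimes_of_isLocalRing _ ?_
  refine ⟨⟨inferInstance, Ideal.pow_le_self (Nat.succ_ne_zero n)⟩, ?_⟩
  rintro q ⟨hq, hle⟩ -
  exact hq.le_of_pow_le hle

theorem isFiniteLength_quotient_pow [IsNoetherianRing R] (n : ℕ) :
    IsFiniteLength R (R ⧸ (𝔪 ^ n : Ideal R)) := by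
  cases n with
  | zero =>
    have : Subsingleton (R ⧸ (𝔪 ^ 0 : Ideal R)) := Ideal.Quotient.subsingleton_iff.mpr (by simp)
    exact IsFiniteLength.of_subsingleton
  | succ n =>
    have := isArtinianRing_quotient_pow (R := R) n
    rw [← Module.length_ne_top_iff,
      Module.length_eq_of_surjective (R := R ⧸ 𝔪 ^ (n + 1)) (S := R)
        (Ideal.Quotient.mk_surjective)]
    exact Module.length_ne_top

end Groth.Agent.Matlis
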