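/-
Coextension of scalars `Hom_A(B, X)` and injective hulls.
-/
import Groth.Agent.Lib.MatlisBasic
import Mathlib.Algebra.Category.ModuleCat.ChangeOfRings
import Mathlib.Algebra.Category.ModuleCat.Injective

universe u

open InjHull CategoryTheory

namespace Groth.Agent.Coext

variable (A B X : Type u) [CommRing A] [CommRing B] [Algebra A B] [AddCommGroup X] [Module A X]

/-- The coextension `Hom_A(B, X)` as a `B`-module. -/
noncomputable abbrev K : ModuleCat.{u} B :=
  (ModuleCat.coextendScalars (algebraMap A B)).obj (ModuleCat.of A X)

theorem injective (hX : Module.Injective A X) : Module.Injective B (K A B X) := by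
  have : Injective (ModuleCat.of A X) := Module.injective_object_of_injective_module (inj := hX)
  have h : Injective (K A B X) :=
    Injective.injective_of_adjoint (ModuleCat.restrictCoextendScalarsAdj (algebraMap A B)) _
  have : Injective (ModuleCat.of B (K A B X)) := h
  exact Module.injective_module_of_injective_object B (K A B X)

variable {A B X}

/-- An element of the coextension as an `A`-linear map. -/
noncomputable def toLin (φ : K A B X) : B →ₗ[A] X where
  toFun b := φ b
  map_add' x y := map_add (ModuleCat.CoextendScalars.equiv _ _ φ) x y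
  map_smul' r x := by
    rw [Algebra.smul_def]
    exact (ModuleCat.CoextendScalars.equiv _ _ φ).map_smul r x

/-- An `A`-linear map as an element of the coextension. -/
noncomputable def ofLin (g : B →ₗ[A] X) : K A B X :=
  (ModuleCat.CoextendScalars.equiv _ (ModuleCat.of A X)).symm
    { toFun := fun b : B => g b
      map_add' := fun x y : B => map_add g x y
      map_smul' := fun r (x : B) => by
        refine (congrArg g ?_).trans (map_smul g r x)
        exact (Algebra.smul_def r x).symm }

@[simp] theorem toLin_apply (φ : K A B X) (b : B) : toLin φ b = φ b := rfl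

@[simp] theorem ofLin_apply (g : B →ₗ[A] X) (b : B) : (ofLin g : K A B X) b = g b := rfl

theorem smul_apply (b : B) (φ : K A B X) (x : B) : (b • φ) x = φ (x * b) := rfl

theorem add_apply (φ ψ : K A B X) (x : B) : (φ + ψ) x = φ x + ψ x := rfl

theorem zero_apply (x : B) : (0 : K A B X) x = 0 := rfl

theorem ext {φ ψ : K A B X} (h : ∀ b : B, φ b = ψ b) : φ = ψ :=
  ModuleCat.CoextendScalars.ext (LinearMap.ext h)

variable [IsLocalRing B] {f : IsLocalRing.ResidueField B →ₗ[A] X}

/-- The socle map attached to a functional on the residue field. -/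
noncomputable def socleMap (τ : IsLocalRing.ResidueField B →ₗ[A] X) :
    IsLocalRing.ResidueField B →ₗ[B] K A B X where
  toFun y := ofLin
    { toFun := fun b => τ (b • y)
      map_add' := fun a c => by rw [add_smul, map_add]
      map_smul' := fun r b => by rw [smul_assoc, map_smul, RingHom.id_apply] }
  map_add' y z := ext fun b => by
    show τ (b • (y + z)) = τ (b • y) + τ (b • z)
    rw [smul_add, map_add]
  map_smul' c y := ext fun b => by
    show τ (b • c • y) = τ ((b * c) • y)
    rw [mul_smul]

theorem socleMap_injective {τ : IsLocalRing.ResidueField B →ₗ[A] X} (hτ : τ 1 ≠ 0) :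
    Function.Injective (socleMap τ) := by
  rw [injective_iff_map_eq_zero]
  intro y hy
  by_contra hy0
  obtain ⟨b, hb⟩ := IsLocalRing.residue_surjective y⁻¹
  have h1 : τ (b • y) = 0 := congrArg (fun φ : K A B X => φ b) hy
  rw [Algebra.smul_def, show algebraMap B (IsLocalRing.ResidueField B) b = y⁻¹ from hb,
    inv_mul_cancel₀ hy0] at h1
  exact hτ h1

/-- Elements of the socle are in the range of the socle map, if that map is onto all functionals. -/
theorem mem_range_socleMap (τ : IsLocalRing.ResidueField B →ₗ[A] X)
    (hfull : ∀ φ' : IsLocalRing.ResidueField B →ₗ[A] X, ∃ y, ∀ z, φ' z = τ (z * y))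
    {φ : K A B X} (hφ : ∀ c ∈ IsLocalRing.maximalIdeal B, c • φ = 0) :
    φ ∈ LinearMap.range (socleMap τ) := by
  have hker : (IsLocalRing.maximalIdeal B).restrictScalars A ≤ LinearMap.ker (toLin φ) := by
    intro c hc
    have h1 : φ ((1 : B) * c) = 0 := congrArg (fun ψ : K A B X => ψ (1 : B)) (hφ c hc)
    rwa [one_mul] at h1
  let φ' : IsLocalRing.ResidueField B →ₗ[A] X :=
    (((IsLocalRing.maximalIdeal B).restrictScalars A).liftQ (toLin φ) hker) ∘ₗ
      (Submodule.Quotient.restrictScalarsEquiv A (IsLocalRing.maximalIdeal B)).symm.toLinearMap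
  obtain ⟨y, hy⟩ := hfull φ'
  refine ⟨y, ext fun b => ?_⟩
  show τ (b • y) = φ b
  have h2 : φ' (IsLocalRing.residue B b) = φ b := rfl
  rw [← h2, hy, Algebra.smul_def]
  rfl

end Groth.Agent.Coext
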