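/-
A ring complete with respect to a finitely generated ideal with Noetherian quotient is Noetherian;
in particular completions of Noetherian rings are Noetherian.
-/
import Mathlib.RingTheory.AdicCompletion.LocalRing
import Mathlib.RingTheory.AdicCompletion.Algebra
import Mathlib.RingTheory.MvPolynomial.Homogeneous
import Mathlib.RingTheory.Polynomial.Quotient
import Mathlib.RingTheory.Noetherian.Basic
import Mathlib.RingTheory.Ideal.Quotient.Noetherian

open MvPolynomial

universe u

namespace Groth.Agent.CplNoeth

variable {σ A : Type*} [CommRing A]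

theorem mem_mapC_component (J : Ideal A) {f : MvPolynomial σ A}
    (hf : f ∈ Ideal.map C J) (n : ℕ) : homogeneousComponent n f ∈ Ideal.map C J := by
  classical
  rw [MvPolynomial.mem_map_C_iff] at hf ⊢
  intro d
  rw [coeff_homogeneousComponent]
  split
  · exact hf d
  · exact J.zero_mem

theorem component_mul (h : MvPolynomial σ A) {f : MvPolynomial σ A} {d : ℕ}
    (hf : f.IsHomogeneous d) (n : ℕ) :
    homogeneousComponent n (h * f) = if d ≤ n then homogeneousComponent (n - d) h * f else 0 := by
  classical
  conv_lhs => rw [← sum_homogeneousComponent h, Finset.sum_mul, map_sum]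
  have key : ∀ i, homogeneousComponent n (homogeneousComponent i h * f) =
      if n = i + d then homogeneousComponent i h * f else 0 := fun i =>
    homogeneousComponent_of_mem ((homogeneousComponent_isHomogeneous i h).mul hf)
  simp only [key]
  split
  · rename_i hdn
    rw [Finset.sum_eq_single (n - d)]
    · rw [if_pos (by omega)]
    · intro i _ hi
      rw [if_neg (by omega)]
    · intro hni
      rw [if_pos (by omega)]
      have : h.totalDegree < n - d := by
        simp only [Finset.mem_range, not_lt] at hni
        omega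
      rw [homogeneousComponent_eq_zero _ _ this, zero_mul]
  · refine Finset.sum_eq_zero fun i _ => ?_
    rw [if_neg (by omega)]

theorem eval_mem_pow (J : Ideal A) (a : σ → A) (hJ : Ideal.span (Set.range a) = J)
    {p : MvPolynomial σ A} {n : ℕ} (hp : p.IsHomogeneous n) : p.eval a ∈ J ^ n := by
  rw [← hJ, Ideal.mem_span_pow_iff_exists_isHomogeneous]
  exact ⟨p, hp, rfl⟩

theorem eval_mapC_mem (J : Ideal A) (a : σ → A) (hJ : Ideal.span (Set.range a) = J)
    {p : MvPolynomial σ A} {n : ℕ} (hp : p.IsHomogeneous n) (hpJ : p ∈ Ideal.map C J) :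
    p.eval a ∈ J ^ (n + 1) := by
  classical
  rw [MvPolynomial.mem_map_C_iff] at hpJ
  rw [p.as_sum, map_sum]
  refine Ideal.sum_mem _ fun d hd => ?_
  rw [show monomial d (coeff d p) = C (coeff d p) * monomial d 1 by rw [C_mul_monomial, mul_one],
    map_mul, eval_C, pow_succ']
  refine Ideal.mul_mem_mul (hpJ d) (eval_mem_pow J a hJ (isHomogeneous_monomial _ ?_))
  rw [mem_support_iff] at hd
  have := hp hd
  rwa [Finsupp.degree_eq_weight_one]

/-- A ring which is complete with respect to a finitely generated ideal `J` such that `A ⧸ J` is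
Noetherian is Noetherian. -/
theorem isNoetherianRing_of_isAdicComplete {A : Type u} [CommRing A] (J : Ideal A) (hfg : J.FG)
    [IsAdicComplete J A] [IsNoetherianRing (A ⧸ J)] : IsNoetherianRing A := by
  classical
  refine ⟨fun K => ?_⟩
  obtain ⟨N, a, ha⟩ := Submodule.fg_iff_exists_fin_generating_family.mp hfg
  replace ha : Ideal.span (Set.range a) = J := ha
  let S := MvPolynomial (Fin N) A
  let gens : Set S := {f | ∃ n, f.IsHomogeneous n ∧ ∃ k ∈ K, f.eval a - k ∈ J ^ (n + 1)}
  let π : S →+* S ⧸ (Ideal.map C J : Ideal S) := Ideal.Quotient.mk _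
  have : IsNoetherianRing (S ⧸ (Ideal.map C J : Ideal S)) :=
    isNoetherianRing_of_ringEquiv _ (quotientEquivQuotientMvPolynomial (σ := Fin N) J).toRingEquiv
  obtain ⟨t, ht, htspan⟩ := (Submodule.fg_span_iff_fg_span_finset_subset
    (R := S ⧸ (Ideal.map C J : Ideal S)) (π '' gens)).mp (IsNoetherian.noetherian _)
  have hch : ∀ b : t, ∃ (f : S) (n : ℕ) (k : A), π f = b.1 ∧ f.IsHomogeneous n ∧ k ∈ K ∧
      f.eval a - k ∈ J ^ (n + 1) := by
    intro b
    obtain ⟨f, ⟨n, hn, k, hk, hfk⟩, hb⟩ := ht b.2
    exact ⟨f, n, k, hb, hn, hk, hfk⟩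
  choose f d k hfb hfh hk hfk using hch
  -- one approximation step
  have step : ∀ n, ∀ x ∈ K, x ∈ J ^ n → ∃ c : t → A, (∀ b, c b ∈ J ^ (n - d b)) ∧
      x - ∑ b, c b * k b ∈ J ^ (n + 1) := by
    intro n x hx hxn
    rw [← ha, Ideal.mem_span_pow_iff_exists_isHomogeneous] at hxn
    obtain ⟨g, hg, hgx⟩ := hxn
    have hgmem : π g ∈ Submodule.span (S ⧸ (Ideal.map C J : Ideal S)) (π '' gens) :=
      Submodule.subset_span ⟨g, ⟨n, hg, x, hx, by rw [hgx, sub_self]; exact zero_mem _⟩, rfl⟩
    rw [htspan, Submodule.mem_span_finset'] at hgmem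
    obtain ⟨q, hq⟩ := hgmem
    choose h hh using fun b => Ideal.Quotient.mk_surjective (q b)
    have hrem : g - ∑ b : t, h b * f b ∈ (Ideal.map C J : Ideal S) := by
      rw [← Ideal.Quotient.eq_zero_iff_mem, map_sub, map_sum, sub_eq_zero]
      rw [show Ideal.Quotient.mk (Ideal.map C J : Ideal S) g = π g from rfl, ← hq]
      refine Finset.sum_congr rfl fun b _ => ?_
      rw [map_mul, hh, show Ideal.Quotient.mk (Ideal.map C J : Ideal S) (f b) = b.1 from hfb b]
      rfl
    have hremn := eval_mapC_mem J a ha (homogeneousComponent_isHomogeneous n _)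
      (mem_mapC_component J hrem n)
    rw [map_sub, homogeneousComponent_eq_self hg, map_sum, map_sub, map_sum, hgx] at hremn
    let c : t → A := fun b => if d b ≤ n then (homogeneousComponent (n - d b) (h b)).eval a else 0
    refine ⟨c, fun b => ?_, ?_⟩
    · simp only [c]
      split
      · exact eval_mem_pow J a ha (homogeneousComponent_isHomogeneous _ _)
      · exact zero_mem _
    · have heq : ∀ b : t, (homogeneousComponent n (h b * f b)).eval a = c b * (f b).eval a := by
        intro b
        rw [component_mul _ (hfh b)]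
        simp only [c]
        split
        · rw [map_mul]
        · rw [map_zero, zero_mul]
      simp only [heq] at hremn
      have hdiff : ∑ b, c b * ((f b).eval a - k b) ∈ J ^ (n + 1) := by
        refine Ideal.sum_mem _ fun b _ => ?_
        simp only [c]
        split
        · rename_i hb
          have : n + 1 = (n - d b) + (d b + 1) := by omega
          rw [this, pow_add]
          exact Ideal.mul_mem_mul (eval_mem_pow J a ha (homogeneousComponent_isHomogeneous _ _))
            (hfk b)
        · rw [zero_mul]; exact zero_mem _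
      have := add_mem hremn hdiff
      convert this using 1
      simp only [mul_sub, Finset.sum_sub_distrib]
      ring
  choose c hc hcx using step
  -- successive approximations
  suffices K ≤ Ideal.span (Set.range k) by
    rw [show K = Ideal.span (Set.range k) from le_antisymm this
      (Ideal.span_le.mpr (by rintro _ ⟨b, rfl⟩; exact hk b))]
    exact Submodule.fg_span (Set.finite_range k)
  intro x hx
  let stp : (n : ℕ) → {p : (t → A) // x - ∑ b, p b * k b ∈ J ^ n} := fun n =>
    Nat.rec ⟨0, by simp⟩ (fun n p => ⟨p.1 + c n (x - ∑ b, p.1 b * k b)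
      (K.sub_mem hx (Submodule.sum_mem _ fun b _ => K.smul_mem _ (hk b))) p.2, by
        have := hcx n (x - ∑ b, p.1 b * k b)
          (K.sub_mem hx (Submodule.sum_mem _ fun b _ => K.smul_mem _ (hk b))) p.2
        simpa [add_mul, Finset.sum_add_distrib, sub_sub] using this⟩) n
  have hmono : ∀ b m n, m ≤ n → (stp n).1 b - (stp m).1 b ∈ J ^ (m - d b) := by
    intro b m n hmn
    induction n, hmn using Nat.le_induction with
    | base => simp
    | succ n hmn ih =>
      have hstep : (stp (n + 1)).1 b = (stp n).1 b + c n _ _ (stp n).2 b := rfl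
      rw [hstep, add_sub_right_comm]
      exact add_mem ih (Ideal.pow_le_pow_right (by omega) (hc n _ _ _ b))
  have hlim : ∀ b, ∃ L, ∀ m, (stp (m + d b)).1 b - L ∈ J ^ m := by
    intro b
    obtain ⟨L, hL⟩ := IsPrecomplete.prec (I := J) (inferInstance : IsPrecomplete J A)
      (f := fun m => (stp (m + d b)).1 b) (by
        intro m n hmn
        rw [SModEq.sub_mem, smul_eq_mul, Ideal.mul_top, ← neg_mem_iff, neg_sub]
        simpa using hmono b (m + d b) (n + d b) (by omega))
    refine ⟨L, fun m => ?_⟩
    simpa [SModEq.sub_mem] using hL m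
  choose L hL using hlim
  have hzero : x - ∑ b, L b * k b = 0 := by
    refine IsHausdorff.haus (I := J) inferInstance _ fun m => ?_
    rw [SModEq.zero, smul_eq_mul, Ideal.mul_top]
    let M := m + Finset.univ.sup d
    have h1 : ∑ b, ((stp M).1 b - L b) * k b ∈ J ^ m := by
      refine Ideal.sum_mem _ fun b _ => Ideal.mul_mem_right _ _ ?_
      have hb : d b ≤ Finset.univ.sup d := Finset.le_sup (Finset.mem_univ b)
      have h2 := add_mem (hmono b (m + d b) M (by omega)) (Ideal.pow_le_pow_right (show m + d b - d b ≤ m by omega) (hL b m))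
      simpa using h2
    have h3 := add_mem (Ideal.pow_le_pow_right (show m ≤ M by omega) (stp M).2) h1
    convert h3 using 1
    simp only [sub_mul, Finset.sum_sub_distrib]
    ring
  rw [sub_eq_zero] at hzero
  rw [hzero]
  exact Ideal.sum_mem _ fun b _ => Ideal.mul_mem_left _ _ (Ideal.subset_span ⟨b, rfl⟩)

theorem isNoetherianRing_completion_of_fg {R : Type u} [CommRing R] (I : Ideal R) (hI : I.FG)
    [IsNoetherianRing (R ⧸ I)] : IsNoetherianRing (AdicCompletion I R) := by
  have := AdicCompletion.isAdicComplete_self I hI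
  have : IsNoetherianRing
      (AdicCompletion I R ⧸ I.map (algebraMap R (AdicCompletion I R))) := by
    have e1 := RingHom.quotientKerEquivOfSurjective (f := (AdicCompletion.evalOneₐ I).toRingHom)
      (AdicCompletion.evalOneₐ_surjective I)
    have hker : RingHom.ker (AdicCompletion.evalOneₐ I).toRingHom =
        I.map (algebraMap R (AdicCompletion I R)) := AdicCompletion.ker_evalOneₐ_eq_map I hI
    exact isNoetherianRing_of_ringEquiv (R ⧸ I) (e1.symm.trans (Ideal.quotEquivOfEq hker))
  exact isNoetherianRing_of_isAdicComplete (I.map (algebraMap R (AdicCompletion I R))) (hI.map _)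

theorem isNoetherianRing_completion {R : Type u} [CommRing R] [IsNoetherianRing R] (I : Ideal R) :
    IsNoetherianRing (AdicCompletion I R) :=
  isNoetherianRing_completion_of_fg I (IsNoetherian.noetherian I)

end Groth.Agent.CplNoeth
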