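/-
Flatness of the completion of a local algebra which is flat over a Noetherian local ring and
whose maximal ideal comes from the base.
-/
import Groth.Agent.Lib.CompleteNoetherian
import Mathlib.RingTheory.Flat.Tensor
import Mathlib.RingTheory.Flat.FaithfullyFlat.Algebra
import Mathlib.RingTheory.AdicCompletion.Noetherian
import Mathlib.RingTheory.Filtration
import Mathlib.RingTheory.TensorProduct.Finite
import Mathlib.RingTheory.TensorProduct.Quotient
import Mathlib.LinearAlgebra.TensorProduct.Quotient
import Mathlib.LinearAlgebra.TensorProduct.RightExactness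

universe u

open scoped TensorProduct

namespace Groth.Agent.CplFlat

theorem tmul_eq_zero_of_mem_map {R C : Type*} [CommRing R] [CommRing C] [Algebra R C] {J : Ideal R}
    {N : Type*} [AddCommGroup N] [Module R N] (hN : ∀ r ∈ J, ∀ z : N, r • z = 0) {w : C}
    (hw : w ∈ J.map (algebraMap R C)) (z : N) : w ⊗ₜ[R] z = 0 := by
  suffices h : ∀ c : C, (c * w) ⊗ₜ[R] z = 0 by simpa using h 1
  rw [Ideal.map] at hw
  induction hw using Submodule.span_induction with
  | mem x hx =>
    obtain ⟨r, hr, rfl⟩ := hx
    intro c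
    rw [mul_comm, ← Algebra.smul_def, TensorProduct.smul_tmul, hN r hr, TensorProduct.tmul_zero]
  | zero => simp
  | add x y _ _ hx hy =>
    intro c
    rw [mul_add, TensorProduct.add_tmul, hx, hy, add_zero]
  | smul d x _ hx =>
    intro c
    rw [smul_eq_mul, ← mul_assoc]
    exact hx _

theorem mem_map_of_tmul_one_eq_zero {R C : Type*} [CommRing R] [CommRing C] [Algebra R C]
    {J : Ideal R} {b : C} (h : b ⊗ₜ[R] Submodule.mkQ J (1 : R) = 0) :
    b ∈ J.map (algebraMap R C) := by
  have h1 := congrArg (TensorProduct.tensorQuotEquivQuotSMul C J) h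
  rw [map_zero, Submodule.mkQ_apply] at h1
  erw [TensorProduct.tensorQuotEquivQuotSMul_tmul_mk] at h1
  rw [one_smul, Submodule.Quotient.mk_eq_zero, Ideal.smul_top_eq_map] at h1
  exact h1

variable {R : Type u} [CommRing R] [IsNoetherianRing R] [IsLocalRing R]
  {B : Type u} [CommRing B] [IsLocalRing B] [Algebra R B]

theorem fg_maximal (hm : (IsLocalRing.maximalIdeal R).map (algebraMap R B) = IsLocalRing.maximalIdeal B) :
    (IsLocalRing.maximalIdeal B).FG :=
  hm ▸ Ideal.FG.map (IsNoetherian.noetherian (IsLocalRing.maximalIdeal R)) _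

theorem isNoetherianRing (hm : (IsLocalRing.maximalIdeal R).map (algebraMap R B) = IsLocalRing.maximalIdeal B) :
    IsNoetherianRing (AdicCompletion (IsLocalRing.maximalIdeal B) B) :=
  have : IsNoetherianRing (B ⧸ IsLocalRing.maximalIdeal B) :=
    (inferInstance : IsNoetherianRing (IsLocalRing.ResidueField B))
  CplNoeth.isNoetherianRing_completion_of_fg _ (fg_maximal hm)

theorem isLocalRing (hm : (IsLocalRing.maximalIdeal R).map (algebraMap R B) = IsLocalRing.maximalIdeal B) :
    IsLocalRing (AdicCompletion (IsLocalRing.maximalIdeal B) B) :=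
  AdicCompletion.isLocalRing_of_fg (fg_maximal hm)

theorem map_maximalIdeal (hm : (IsLocalRing.maximalIdeal R).map (algebraMap R B) = IsLocalRing.maximalIdeal B)
    [IsLocalRing (AdicCompletion (IsLocalRing.maximalIdeal B) B)] :
    (IsLocalRing.maximalIdeal R).map (algebraMap R (AdicCompletion (IsLocalRing.maximalIdeal B) B)) =
      IsLocalRing.maximalIdeal (AdicCompletion (IsLocalRing.maximalIdeal B) B) := by
  rw [AdicCompletion.maximalIdeal_eq_map_of_fg (fg_maximal hm)]
  conv_rhs => arg 2; rw [← hm]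
  rw [Ideal.map_map]
  rfl

theorem mem_map_pow_iff_eval (hm : (IsLocalRing.maximalIdeal R).map (algebraMap R B) = IsLocalRing.maximalIdeal B)
    (n : ℕ) (c : AdicCompletion (IsLocalRing.maximalIdeal B) B) :
    c ∈ (IsLocalRing.maximalIdeal R ^ n).map
        (algebraMap R (AdicCompletion (IsLocalRing.maximalIdeal B) B)) ↔
      AdicCompletion.eval (IsLocalRing.maximalIdeal B) B n c = 0 := by
  rw [← LinearMap.mem_ker, ← AdicCompletion.pow_smul_top_eq_ker_eval (fg_maximal hm),
    Ideal.smul_top_eq_map, Submodule.restrictScalars_mem]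
  have e : (IsLocalRing.maximalIdeal R ^ n).map
      (algebraMap R (AdicCompletion (IsLocalRing.maximalIdeal B) B)) =
      (IsLocalRing.maximalIdeal B ^ n).map
        (algebraMap B (AdicCompletion (IsLocalRing.maximalIdeal B) B)) := by
    rw [show algebraMap R (AdicCompletion (IsLocalRing.maximalIdeal B) B) =
      (algebraMap B _).comp (algebraMap R B) from rfl, ← Ideal.map_map, Ideal.map_pow _ _ n, hm]
  rw [e]

theorem flat (hm : (IsLocalRing.maximalIdeal R).map (algebraMap R B) = IsLocalRing.maximalIdeal B)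
    [Module.Flat R B] : Module.Flat R (AdicCompletion (IsLocalRing.maximalIdeal B) B) := by
  have hnoeth := isNoetherianRing hm
  have hloc := isLocalRing hm
  have hmC := map_maximalIdeal hm
  have hmem := mem_map_pow_iff_eval hm
  set I := IsLocalRing.maximalIdeal B with hI
  set m := IsLocalRing.maximalIdeal R with hmdef
  set C := AdicCompletion I B with hC
  rw [Module.Flat.iff_lTensor_injective]
  intro a _
  rw [injective_iff_map_eq_zero]
  intro x hx
  have hfin : Module.Finite C (C ⊗[R] a) := Module.Finite.base_change R C a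
  refine IsHausdorff.haus (I := IsLocalRing.maximalIdeal C) inferInstance x fun k => ?_
  rw [SModEq.zero]
  obtain ⟨c₀, hc₀⟩ := Ideal.exists_pow_inf_eq_pow_smul m (a : Submodule R R)
  have hn : m ^ (k + c₀) • (⊤ : Submodule R R) ⊓ a ≤ m ^ k • (a : Submodule R R) := by
    rw [hc₀ (k + c₀) (by omega), Nat.add_sub_cancel]
    exact Submodule.smul_mono le_rfl inf_le_right
  generalize k + c₀ = n at hn
  let q : a →ₗ[R] R ⧸ (m ^ n : Ideal R) := (Submodule.mkQ (m ^ n : Ideal R)) ∘ₗ a.subtype
  let an := LinearMap.range q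
  let q' : a →ₗ[R] an := q.rangeRestrict
  have hq' : Function.Surjective q' := LinearMap.surjective_rangeRestrict q
  have hkill : ∀ r ∈ m ^ n, ∀ z : R ⧸ (m ^ n : Ideal R), r • z = 0 := by
    intro r hr z
    obtain ⟨t, rfl⟩ := Submodule.mkQ_surjective _ z
    rw [← map_smul, Submodule.mkQ_apply, Submodule.Quotient.mk_eq_zero, smul_eq_mul]
    exact Ideal.mul_mem_right _ _ hr
  have hkill' : ∀ r ∈ m ^ n, ∀ z : an, r • z = 0 := fun r hr z => Subtype.ext (hkill r hr z.1)
  let of' : B →ₗ[R] C := (Algebra.linearMap B C).restrictScalars R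
  have hof : ∀ b, AdicCompletion.eval I B n (of' b) = Submodule.mkQ _ b := by
    intro b
    exact AdicCompletion.eval_of I B n b
  have hsurj : Function.Surjective (of'.rTensor an) := by
    intro z
    induction z using TensorProduct.induction_on with
    | zero => exact ⟨0, map_zero _⟩
    | tmul c z =>
      obtain ⟨b, hb⟩ := Submodule.mkQ_surjective _ (AdicCompletion.eval I B n c)
      refine ⟨b ⊗ₜ z, ?_⟩
      rw [LinearMap.rTensor_tmul, ← sub_eq_zero, ← TensorProduct.sub_tmul]
      refine tmul_eq_zero_of_mem_map hkill' ((hmem n _).mpr ?_) z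
      rw [map_sub, hof, hb, sub_self]
    | add u v hu hv =>
      obtain ⟨u', rfl⟩ := hu
      obtain ⟨v', rfl⟩ := hv
      exact ⟨u' + v', map_add _ _ _⟩
  obtain ⟨y, hy⟩ := hsurj (q'.lTensor C x)
  have h2 : of'.rTensor _ (an.subtype.lTensor B y) = 0 := by
    rw [← LinearMap.comp_apply, LinearMap.rTensor_comp_lTensor, ← LinearMap.lTensor_comp_rTensor,
      LinearMap.comp_apply, hy, ← LinearMap.comp_apply, ← LinearMap.lTensor_comp,
      show an.subtype ∘ₗ q' = q from rfl, LinearMap.lTensor_comp, LinearMap.comp_apply, hx, map_zero]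
  have h3 : an.subtype.lTensor B y = 0 := by
    obtain ⟨b, hb⟩ : ∃ b : B, an.subtype.lTensor B y = b ⊗ₜ Submodule.mkQ _ 1 := by
      generalize an.subtype.lTensor B y = w
      induction w using TensorProduct.induction_on with
      | zero => exact ⟨0, (TensorProduct.zero_tmul _ _).symm⟩
      | tmul b z =>
        obtain ⟨t, rfl⟩ := Submodule.mkQ_surjective _ z
        refine ⟨t • b, ?_⟩
        rw [TensorProduct.smul_tmul, ← map_smul, smul_eq_mul, mul_one]
      | add u v hu hv =>
        obtain ⟨u', hu⟩ := hu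
        obtain ⟨v', hv⟩ := hv
        exact ⟨u' + v', by rw [hu, hv, TensorProduct.add_tmul]⟩
    rw [hb] at h2 ⊢
    rw [LinearMap.rTensor_tmul] at h2
    have h5 : of' b ∈ (m ^ n).map (algebraMap R C) := mem_map_of_tmul_one_eq_zero h2
    refine tmul_eq_zero_of_mem_map hkill ?_ _
    rw [Ideal.map_pow, hm]
    have := (hmem n _).mp h5
    rw [hof, Submodule.mkQ_apply, Submodule.Quotient.mk_eq_zero, smul_eq_mul, Ideal.mul_top] at this
    exact this
  have hy0 : y = 0 := by
    refine Module.Flat.lTensor_preserves_injective_linearMap an.subtype an.injective_subtype ?_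
    rw [h3, map_zero]
  rw [hy0, map_zero] at hy
  have hexact : Function.Exact (LinearMap.ker q').subtype q' := LinearMap.exact_subtype_ker_map q'
  obtain ⟨z, hz⟩ := (lTensor_exact C hexact hq' x).mp hy.symm
  rw [← hz]
  clear hz
  induction z using TensorProduct.induction_on with
  | zero => rw [map_zero]; exact zero_mem _
  | add u v hu hv => rw [map_add]; exact add_mem hu hv
  | tmul c y =>
    rw [LinearMap.lTensor_tmul]
    obtain ⟨⟨y, hya⟩, hy⟩ := y
    have hy1 : y ∈ m ^ n := (Submodule.Quotient.mk_eq_zero _).mp (congrArg Subtype.val hy)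
    have hy2 : y ∈ m ^ k • (a : Submodule R R) := hn ⟨by simpa using hy1, hya⟩
    show c ⊗ₜ[R] (⟨y, hya⟩ : a) ∈ _
    have key : ∀ y ∈ m ^ k • (a : Submodule R R), ∃ hya : y ∈ a, c ⊗ₜ[R] (⟨y, hya⟩ : a) ∈
        (IsLocalRing.maximalIdeal C ^ k • ⊤ : Submodule C (C ⊗[R] a)) := by
      intro y hy
      refine Submodule.smul_induction_on hy (fun r hr t ht => ?_) (fun u v hu hv => ?_)
      · refine ⟨Submodule.smul_mem _ r ht, ?_⟩
        have : c ⊗ₜ[R] (⟨r • t, Submodule.smul_mem _ r ht⟩ : a) =
            algebraMap R C r • (c ⊗ₜ[R] (⟨t, ht⟩ : a)) := by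
          rw [algebraMap_smul]
          exact (TensorProduct.tmul_smul r c (⟨t, ht⟩ : a))
        rw [this]
        refine Submodule.smul_mem_smul ?_ trivial
        rw [← hmC, ← Ideal.map_pow]
        exact Ideal.mem_map_of_mem _ hr
      · obtain ⟨hua, hu⟩ := hu
        obtain ⟨hva, hv⟩ := hv
        refine ⟨add_mem hua hva, ?_⟩
        rw [show (⟨u + v, add_mem hua hva⟩ : a) = ⟨u, hua⟩ + ⟨v, hva⟩ from rfl,
          TensorProduct.tmul_add]
        exact add_mem hu hv
    exact (key y hy2).2

end Groth.Agent.CplFlat
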