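/-
Flat local extensions of a local ring with prescribed residue field (EGA 0III 10.3.1).
-/
import Mathlib.RingTheory.LocalRing.ResidueField.Basic
import Mathlib.RingTheory.Flat.Basic
import Mathlib.RingTheory.Polynomial.Basic
import Mathlib.Algebra.MvPolynomial.Supported
import Mathlib.Algebra.Polynomial.RingDivision
import Mathlib.FieldTheory.IntermediateField.Adjoin.Basic
import Mathlib.FieldTheory.Minpoly.Field
import Mathlib.RingTheory.Algebraic.Integral
import Mathlib.Order.Zorn

universe u

open MvPolynomial IntermediateField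
open scoped TensorProduct

namespace Groth.Agent.ResExt

variable {R : Type u} [CommRing R]

theorem flat_of_idem {M : Type u} [AddCommGroup M] [Module R M] {Q Q' : Submodule R M}
    [Module.Flat R (M ⧸ Q)] (hQ : Q ≤ Q') (e : M →ₗ[R] M) (he : Q' ≤ Q.comap e)
    (hid : ∀ x, x - e x ∈ Q') : Module.Flat R (M ⧸ Q') := by
  refine Module.Flat.of_retract (Submodule.mapQ Q' Q e he) (Submodule.mapQ Q Q' LinearMap.id hQ) ?_
  ext x
  simp only [LinearMap.comp_apply, Submodule.mkQ_apply, Submodule.mapQ_apply, LinearMap.id_coe, id]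
  exact ((Submodule.Quotient.eq _).mpr (hid x)).symm

theorem flat_iUnion {M : Type u} [AddCommGroup M] [Module R M] {ι : Type*} [Nonempty ι]
    (Q : ι → Submodule R M) (hdir : Directed (· ≤ ·) Q) (h : ∀ i, Module.Flat R (M ⧸ Q i)) :
    Module.Flat R (M ⧸ ⨆ i, Q i) := by
  rw [Module.Flat.iff_rTensor_preserves_injective_linearMap]
  intro N P _ _ _ _ f hf
  rw [injective_iff_map_eq_zero]
  intro x hx
  obtain ⟨y, rfl⟩ := LinearMap.lTensor_surjective N (⨆ i, Q i).mkQ_surjective x
  have h1 : (⨆ i, Q i).mkQ.lTensor P (f.rTensor M y) = 0 := by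
    rw [← LinearMap.comp_apply, LinearMap.lTensor_comp_rTensor, ← LinearMap.rTensor_comp_lTensor]
    exact hx
  have hexact : Function.Exact (⨆ i, Q i).subtype (⨆ i, Q i).mkQ :=
    LinearMap.exact_subtype_mkQ _
  obtain ⟨z, hz⟩ := ((lTensor_exact P hexact (⨆ i, Q i).mkQ_surjective) _).mp h1
  have hex : ∀ z : P ⊗[R] (↥(⨆ i, Q i)), ∃ i, ∀ j, Q i ≤ Q j →
      (Q j).mkQ.lTensor P ((⨆ i, Q i).subtype.lTensor P z) = 0 := by
    intro z
    induction z using TensorProduct.induction_on with
    | zero => exact ⟨Classical.arbitrary ι, fun j _ => by simp⟩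
    | tmul p q =>
      obtain ⟨i, hi⟩ := (Submodule.mem_iSup_of_directed _ hdir).mp q.2
      refine ⟨i, fun j hj => ?_⟩
      simp [(Submodule.Quotient.mk_eq_zero (Q j)).mpr (hj hi)]
    | add a b ha hb =>
      obtain ⟨i, hi⟩ := ha
      obtain ⟨j, hj⟩ := hb
      obtain ⟨k, hik, hjk⟩ := hdir i j
      exact ⟨k, fun l hl => by rw [map_add, map_add, hi l (hik.trans hl), hj l (hjk.trans hl), add_zero]⟩
  obtain ⟨i, hi⟩ := hex z
  have h2 := hi i le_rfl
  rw [hz, ← LinearMap.comp_apply, LinearMap.lTensor_comp_rTensor, ← LinearMap.rTensor_comp_lTensor,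
    LinearMap.comp_apply] at h2
  have hQi := h i
  have h3 : (Q i).mkQ.lTensor N y = 0 :=
    (map_eq_zero_iff _ (Module.Flat.rTensor_preserves_injective_linearMap f hf)).mp h2
  have : (⨆ i, Q i).mkQ = Submodule.factor (le_iSup Q i) ∘ₗ (Q i).mkQ := by
    ext x; rfl
  rw [this, LinearMap.lTensor_comp, LinearMap.comp_apply, h3, map_zero]

variable [IsLocalRing R] {K : Type u} [Field K] [Algebra (IsLocalRing.ResidueField R) K]

local notation "k" => IsLocalRing.ResidueField R

variable (R) in
open Classical in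
/-- Partial evaluation: variables in `L` are evaluated, the others stay variables. -/
noncomputable def theta (L : IntermediateField k K) : MvPolynomial K R →+* MvPolynomial K L :=
  eval₂Hom (C.comp ((algebraMap k L).comp (IsLocalRing.residue R)))
    (fun a => if h : a ∈ L then C ⟨a, h⟩ else X a)

theorem theta_X_mem (L : IntermediateField k K) {a : K} (h : a ∈ L) :
    theta R L (X a) = C ⟨a, h⟩ := by
  simp [theta, h]

theorem theta_X_notMem (L : IntermediateField k K) {a : K} (h : a ∉ L) :
    theta R L (X a) = X a := by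
  simp [theta, h]

theorem theta_C (L : IntermediateField k K) (r : R) :
    theta R L (C r) = C (algebraMap k L (IsLocalRing.residue R r)) := by
  simp [theta]

theorem mapC_le_ker (L : IntermediateField k K) :
    Ideal.map C (IsLocalRing.maximalIdeal R) ≤ RingHom.ker (theta R L) := by
  rw [Ideal.map_le_iff_le_comap]
  intro r hr
  rw [Ideal.mem_comap, RingHom.mem_ker, theta_C, (IsLocalRing.residue_eq_zero_iff r).mpr hr]
  simp

/-- Inclusion on coefficients. -/
noncomputable def incl {L L' : IntermediateField k K} (h : L ≤ L') :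
    MvPolynomial K L →+* MvPolynomial K L' :=
  MvPolynomial.map (IntermediateField.inclusion h).toRingHom

theorem incl_injective {L L' : IntermediateField k K} (h : L ≤ L') :
    Function.Injective (incl h) :=
  MvPolynomial.map_injective _ (IntermediateField.inclusion_injective h)

theorem theta_eq_on {L L' : IntermediateField k K} (h : L ≤ L') {p : MvPolynomial K R}
    (hp : p ∈ supported R {b : K | b ∈ L' → b ∈ L}) :
    theta R L' p = incl h (theta R L p) := by
  refine Algebra.adjoin_induction ?_ ?_ ?_ ?_ hp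
  · rintro _ ⟨b, hb, rfl⟩
    by_cases hb' : b ∈ L'
    · rw [theta_X_mem L' hb', theta_X_mem L (hb hb'), incl, MvPolynomial.map_C]
      rfl
    · rw [theta_X_notMem L' hb', theta_X_notMem L (fun hh => hb' (h hh)), incl, MvPolynomial.map_X]
  · intro r
    rw [MvPolynomial.algebraMap_eq, theta_C, theta_C, incl, MvPolynomial.map_C]
    rfl
  · intro x y _ _ hx hy
    rw [map_add, map_add, map_add, hx, hy]
  · intro x y _ _ hx hy
    rw [map_mul, map_mul, map_mul, hx, hy]

/-- The invariant of the transfinite construction. -/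
def Good (L : IntermediateField k K) (Q : Ideal (MvPolynomial K R)) : Prop :=
  (∃ s : Set (MvPolynomial K R), s ⊆ supported R (L : Set K) ∧ Q = Ideal.span s) ∧
    Module.Flat R (MvPolynomial K R ⧸ Q.restrictScalars R) ∧
      RingHom.ker (theta R L) = Q ⊔ Ideal.map C (IsLocalRing.maximalIdeal R)

theorem good_bot : ∃ Q, Good (R := R) (K := K) ⊥ Q := by
  classical
  have hl : ∀ b : K, b ∈ (⊥ : IntermediateField k K) →
      ∃ r : R, algebraMap k K (IsLocalRing.residue R r) = b := by
    intro b hb
    obtain ⟨c, rfl⟩ := IntermediateField.mem_bot.mp hb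
    obtain ⟨r, rfl⟩ := IsLocalRing.residue_surjective c
    exact ⟨r, rfl⟩
  choose lift hlift using hl
  let σ : MvPolynomial K R →ₐ[R] MvPolynomial K R :=
    aeval fun b => if h : b ∈ (⊥ : IntermediateField k K) then C (lift b h) else X b
  let s : Set (MvPolynomial K R) :=
    {p | ∃ b, ∃ h : b ∈ (⊥ : IntermediateField k K), p = X b - C (lift b h)}
  have hkill : Ideal.span s ≤ RingHom.ker σ.toRingHom := by
    rw [Ideal.span_le]
    rintro _ ⟨b, hb, rfl⟩
    simp [σ, hb]
  have hid : ∀ p, p - σ p ∈ Ideal.span s := by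
    intro p
    have : (Ideal.Quotient.mkₐ R (Ideal.span s)).comp σ = Ideal.Quotient.mkₐ R (Ideal.span s) := by
      refine MvPolynomial.algHom_ext fun b => ?_
      simp only [AlgHom.comp_apply, σ, aeval_X]
      split_ifs with hb
      · exact (Ideal.Quotient.eq.mpr (Ideal.subset_span (show X b - C (lift b hb) ∈ s from ⟨b, hb, rfl⟩))).symm
      · rfl
    exact Ideal.Quotient.eq.mp (AlgHom.congr_fun this p).symm
  refine ⟨Ideal.span s, ⟨s, ?_, rfl⟩, ?_, le_antisymm ?_ ?_⟩
  · rintro _ ⟨b, hb, rfl⟩
    exact sub_mem (Algebra.subset_adjoin ⟨b, hb, rfl⟩) (Subalgebra.algebraMap_mem _ _)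
  · have : Module.Flat R (MvPolynomial K R ⧸ (⊥ : Submodule R (MvPolynomial K R))) :=
      Module.Flat.of_linearEquiv (Submodule.quotEquivOfEqBot _ rfl)
    exact flat_of_idem (Q := (⊥ : Submodule R (MvPolynomial K R))) bot_le σ.toLinearMap
      (fun p hp => (Submodule.mem_bot R).mpr (hkill hp)) hid
  · intro p hp
    have hσp : σ p ∈ supported R {b : K | b ∉ (⊥ : IntermediateField k K)} := by
      have hrange : σ.range ≤ supported R {b : K | b ∉ (⊥ : IntermediateField k K)} := by
        rw [← Algebra.map_top, ← MvPolynomial.adjoin_range_X, AlgHom.map_adjoin,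
          Algebra.adjoin_le_iff]
        rintro _ ⟨_, ⟨b, rfl⟩, rfl⟩
        simp only [σ, aeval_X]
        split_ifs with hb
        · exact Subalgebra.algebraMap_mem _ (lift b hb)
        · exact Algebra.subset_adjoin ⟨b, hb, rfl⟩
      exact hrange ⟨p, rfl⟩
    have hθ : theta R (⊥ : IntermediateField k K) (σ p) =
        MvPolynomial.map ((algebraMap k (⊥ : IntermediateField k K)).comp (IsLocalRing.residue R))
          (σ p) := by
      refine Algebra.adjoin_induction ?_ ?_ ?_ ?_ hσp
      · rintro _ ⟨b, hb, rfl⟩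
        rw [theta_X_notMem _ hb, MvPolynomial.map_X]
      · intro r
        rw [MvPolynomial.algebraMap_eq, theta_C, MvPolynomial.map_C]
        rfl
      · intro x y _ _ hx hy
        rw [map_add, map_add, hx, hy]
      · intro x y _ _ hx hy
        rw [map_mul, map_mul, hx, hy]
    have hσ0 : theta R (⊥ : IntermediateField k K) (σ p) = 0 := by
      have : σ p = p - (p - σ p) := by ring
      rw [this, map_sub, RingHom.mem_ker.mp hp, zero_sub, neg_eq_zero]
      refine (show Ideal.span s ≤ RingHom.ker (theta R (⊥ : IntermediateField k K)) from ?_) (hid p)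
      rw [Ideal.span_le]
      rintro _ ⟨b, hb, rfl⟩
      rw [SetLike.mem_coe, RingHom.mem_ker, map_sub, theta_X_mem _ hb, theta_C, sub_eq_zero]
      exact congrArg C (Subtype.ext (hlift b hb).symm)
    have : σ p ∈ Ideal.map C (IsLocalRing.maximalIdeal R) := by
      rw [MvPolynomial.mem_map_C_iff]
      intro m
      rw [← IsLocalRing.residue_eq_zero_iff]
      have := congrArg (coeff m) (hθ.symm.trans hσ0)
      rw [coeff_map, coeff_zero, RingHom.comp_apply] at this
      exact (algebraMap k (⊥ : IntermediateField k K)).injective (by rw [this, map_zero])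
    have : p = (p - σ p) + σ p := by ring
    rw [this]
    exact Submodule.add_mem_sup (hid p) ‹σ p ∈ _›
  · refine sup_le ?_ (mapC_le_ker _)
    rw [Ideal.span_le]
    rintro _ ⟨b, hb, rfl⟩
    rw [SetLike.mem_coe, RingHom.mem_ker, map_sub, theta_X_mem _ hb, theta_C, sub_eq_zero]
    exact congrArg C (Subtype.ext (hlift b hb).symm)

/-- Adjoining a root of a monic polynomial preserves flatness of the quotient, and gives normal
forms. -/
theorem flat_adjoin {P : Type u} [CommRing P] [Algebra R P] (A : Subalgebra R P)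
    (ev : Polynomial A →+* P) (hevC : ∀ c : A, ev (Polynomial.C c) = c)
    (ν : P →ₐ[R] Polynomial A) (pA : Polynomial A) (hmonic : pA.Monic)
    (s : Set P) (hsA : ∀ x (_ : x ∈ s), ∃ c : A, (c : P) = x ∧ ν x = Polynomial.C c)
    [Module.Flat R (P ⧸ (Ideal.span s).restrictScalars R)]
    (gens : Set P) (hgens : ∀ g ∈ gens, pA ∣ ν g)
    (hT : ev pA ∈ Ideal.span gens) (hev : ∀ p, p - ev (ν p) ∈ Ideal.span gens) :
    Module.Flat R (P ⧸ (Ideal.span (s ∪ gens)).restrictScalars R) ∧
      ∀ p, p - ev (ν p %ₘ pA) ∈ Ideal.span (s ∪ gens) := by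
  have hle_g : Ideal.span gens ≤ Ideal.span (s ∪ gens) := Ideal.span_mono Set.subset_union_right
  have hid : ∀ p, p - ev (ν p %ₘ pA) ∈ Ideal.span (s ∪ gens) := by
    intro p
    have h2 : ev (ν p) - ev (ν p %ₘ pA) = ev pA * ev (ν p /ₘ pA) := by
      conv_lhs => arg 1; rw [← Polynomial.modByMonic_add_div (ν p) pA]
      rw [map_add, map_mul]
      ring
    have := add_mem (hle_g (hev p)) (Ideal.mul_mem_right (ev (ν p /ₘ pA)) _ (hle_g hT))
    rw [← h2, sub_add_sub_cancel] at this
    exact this
  refine ⟨?_, hid⟩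
  let e : P →ₗ[R] P :=
    { toFun := fun p => ev (ν p %ₘ pA)
      map_add' := fun x y => by rw [map_add, Polynomial.add_modByMonic, map_add]
      map_smul' := fun r x => by
        rw [map_smul, RingHom.id_apply, ← algebraMap_smul A r (ν x), Polynomial.smul_modByMonic,
          Polynomial.smul_eq_C_mul, map_mul, hevC, Algebra.smul_def]
        rfl }
  have hkill : ∀ p ∈ Ideal.span (s ∪ gens), ∀ y, e (y * p) ∈ Ideal.span s := by
    intro p hp
    induction hp using Submodule.span_induction with
    | mem x hx =>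
      intro y
      rcases hx with hx | hx
      · obtain ⟨c, hc, hνx⟩ := hsA x hx
        have : e (y * x) = x * e y := by
          show ev (ν (y * x) %ₘ pA) = x * ev (ν y %ₘ pA)
          rw [map_mul, hνx, mul_comm (ν y), ← Polynomial.smul_eq_C_mul,
            Polynomial.smul_modByMonic, Polynomial.smul_eq_C_mul, map_mul, hevC, hc]
        rw [this]
        exact Ideal.mul_mem_right _ _ (Ideal.subset_span hx)
      · have : e (y * x) = 0 := by
          show ev (ν (y * x) %ₘ pA) = 0
          rw [map_mul, (Polynomial.modByMonic_eq_zero_iff_dvd hmonic).mpr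
            (dvd_mul_of_dvd_right (hgens x hx) _), map_zero]
        rw [this]
        exact zero_mem _
    | zero =>
      intro y
      rw [mul_zero, map_zero]
      exact zero_mem _
    | add x₁ x₂ _ _ h1 h2 =>
      intro y
      rw [mul_add, map_add]
      exact add_mem (h1 y) (h2 y)
    | smul z x _ ih =>
      intro y
      rw [smul_eq_mul, ← mul_assoc]
      exact ih (y * z)
  exact flat_of_idem (Q := (Ideal.span s).restrictScalars R)
    (Q' := (Ideal.span (s ∪ gens)).restrictScalars R)
    (Ideal.span_mono Set.subset_union_left) e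
    (fun p hp => show e p ∈ Ideal.span s by simpa using hkill p hp 1) hid

/-- Lift of a polynomial over `L` (coefficient `c` becomes the variable indexed by `c`). -/
noncomputable def liftPoly {U : Set K} (L : IntermediateField k K) (hU : ∀ c : L, (c : K) ∈ U)
    (g : Polynomial L) (n : ℕ) : Polynomial (supported R U) :=
  ∑ i ∈ Finset.range n, Polynomial.monomial i
    (⟨X ((g.coeff i : L) : K), Algebra.subset_adjoin ⟨_, hU _, rfl⟩⟩ : supported R U)

/-- Evaluation of a polynomial over polynomials avoiding some variables. -/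
noncomputable def evAt (U : Set K) (a : K) : Polynomial (supported R U) →+* MvPolynomial K R :=
  Polynomial.eval₂RingHom (supported R U).val.toRingHom (X a)

theorem evAt_monomial (U : Set K) (a : K) (i : ℕ) (c : supported R U) :
    evAt U a (Polynomial.monomial i c) = (c : MvPolynomial K R) * X a ^ i := by
  simp [evAt]

theorem theta_evAt_liftPoly {U : Set K} {L L' : IntermediateField k K} (hle : L ≤ L') {a : K}
    (haL' : a ∈ L') (hU : ∀ c : L, (c : K) ∈ U) (g : Polynomial L) (n : ℕ) :
    theta R L' (evAt U a (liftPoly L hU g n)) =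
      C (∑ i ∈ Finset.range n, (IntermediateField.inclusion hle (g.coeff i)) * ⟨a, haL'⟩ ^ i) := by
  rw [liftPoly, map_sum, map_sum, map_sum]
  refine Finset.sum_congr rfl fun i _ => ?_
  rw [evAt_monomial, map_mul, map_pow, theta_X_mem L' haL', theta_X_mem L' (hle (g.coeff i).2),
    map_mul, map_pow]
  rfl

theorem theta_eq_zero_of_degree_lt {L L' : IntermediateField k K} (hle : L ≤ L') {a : K}
    (haL' : a ∈ L') (haL : IsIntegral L a)
    (ρ : Polynomial (supported R {b : K | b ∈ L' → b ∈ L}))
    (hdeg : ρ.degree < ((minpoly L a).natDegree : WithBot ℕ))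
    (h0 : theta R L' (evAt _ a ρ) = 0) : theta R L (evAt _ a ρ) = 0 := by
  set d := (minpoly L a).natDegree with hd
  have hsum : evAt _ a ρ = ∑ i ∈ Finset.range d, (ρ.coeff i : MvPolynomial K R) * X a ^ i := by
    conv_lhs => rw [ρ.as_sum_support, map_sum]
    simp only [evAt_monomial]
    refine Finset.sum_subset (fun i hi => Finset.mem_range.mpr ?_) (fun i _ hi => ?_)
    · have := lt_of_le_of_lt (Polynomial.le_degree_of_ne_zero (Polynomial.mem_support_iff.mp hi)) hdeg
      exact_mod_cast this
    · rw [Polynomial.notMem_support_iff.mp hi]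
      simp
  rw [hsum, map_sum] at h0
  have h1' : ∀ i, theta R L' ((ρ.coeff i : MvPolynomial K R) * X a ^ i) =
      C ((⟨a, haL'⟩ : L') ^ i) * incl hle (theta R L (ρ.coeff i : MvPolynomial K R)) := fun i => by
    rw [map_mul, map_pow, theta_X_mem L' haL', theta_eq_on hle (ρ.coeff i).2, ← map_pow, mul_comm]
  rw [Finset.sum_congr rfl fun i _ => h1' i] at h0
  have hG : ∀ i < d, theta R L (ρ.coeff i : MvPolynomial K R) = 0 := by
    intro i hi
    refine MvPolynomial.ext _ _ fun m => ?_
    rw [coeff_zero]
    let g : Polynomial L := ∑ j ∈ Finset.range d,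
      Polynomial.monomial j (coeff m (theta R L (ρ.coeff j : MvPolynomial K R)))
    have hg : Polynomial.aeval a g = 0 := by
      have h2 := congrArg L'.val (congrArg (coeff m) h0)
      rw [coeff_sum, map_sum, coeff_zero, map_zero] at h2
      rw [← h2, map_sum]
      refine Finset.sum_congr rfl fun j _ => ?_
      rw [Polynomial.aeval_monomial, coeff_C_mul, map_mul, map_pow, mul_comm]
      rw [incl, coeff_map]
      rfl
    have hgdeg : g.degree < (minpoly L a).degree := by
      rw [Polynomial.degree_eq_natDegree (minpoly.ne_zero haL)]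
      refine lt_of_le_of_lt (Polynomial.degree_sum_le _ _)
        ((Finset.sup_lt_iff (WithBot.bot_lt_coe _)).mpr fun j hj => ?_)
      exact lt_of_le_of_lt (Polynomial.degree_monomial_le _ _)
        (WithBot.coe_lt_coe.mpr (Finset.mem_range.mp hj))
    have hg0 : g = 0 := Polynomial.eq_zero_of_dvd_of_degree_lt (minpoly.dvd L a hg) hgdeg
    have := congrArg (fun q => Polynomial.coeff q i) hg0
    simpa [g, Polynomial.finsetSum_coeff, Polynomial.coeff_monomial, hi] using this
  rw [hsum, map_sum]
  refine Finset.sum_eq_zero fun i hi => ?_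
  rw [map_mul, hG i (Finset.mem_range.mp hi), zero_mul]

theorem theta_eq_zero_of_mem_span {L L' : IntermediateField k K} (hle : L ≤ L')
    {s : Set (MvPolynomial K R)} (hs : s ⊆ supported R (L : Set K))
    (h : Ideal.span s ≤ RingHom.ker (theta R L)) : Ideal.span s ≤ RingHom.ker (theta R L') := by
  have hsub : (L : Set K) ⊆ {b : K | b ∈ L' → b ∈ L} := fun b hb _ => hb
  rw [Ideal.span_le]
  intro x hx
  have hx' : x ∈ supported R {b : K | b ∈ L' → b ∈ L} := supported_mono hsub (hs hx)
  rw [SetLike.mem_coe, RingHom.mem_ker, theta_eq_on hle hx',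
    RingHom.mem_ker.mp (h (Ideal.subset_span hx)), map_zero]

open Classical in
/-- Substitution used in the successor step. -/
noncomputable def nu {U : Set K} (a : K) (L' : IntermediateField k K)
    (g : ∀ b : K, b ∈ L' → Polynomial (supported R U)) :
    MvPolynomial K R →ₐ[R] Polynomial (supported R U) :=
  aeval fun b => if b = a then Polynomial.X
    else if h : b ∈ U then Polynomial.C ⟨X b, Algebra.subset_adjoin ⟨b, h, rfl⟩⟩
    else if h' : b ∈ L' then g b h' else 0

theorem nu_supported {U : Set K} {a : K} (ha : a ∉ U) (L' : IntermediateField k K)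
    (g : ∀ b : K, b ∈ L' → Polynomial (supported R U)) (q : MvPolynomial K R)
    (hq : q ∈ supported R U) : nu a L' g q = Polynomial.C ⟨q, hq⟩ := by
  induction hq using Algebra.adjoin_induction with
  | mem x hx =>
    obtain ⟨b, hb, rfl⟩ := hx
    have hba : b ≠ a := by rintro rfl; exact ha hb
    simp [nu, hba, hb]
  | algebraMap r =>
    show aeval _ (C r) = _
    rw [aeval_C, Polynomial.algebraMap_apply]
    rfl
  | add x y hx hy ihx ihy =>
    rw [map_add, ihx, ihy, ← map_add]
    rfl
  | mul x y hx hy ihx ihy =>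
    rw [map_mul, ihx, ihy, ← map_mul]
    rfl

theorem good_step {L : IntermediateField k K} {Q : Ideal (MvPolynomial K R)} (hG : Good L Q)
    {a : K} (ha : a ∉ L) (halg : IsIntegral k a) :
    ∃ L' Q', L < L' ∧ Q ≤ Q' ∧ Good (R := R) (K := K) L' Q' := by
  classical
  obtain ⟨⟨s, hs, rfl⟩, hflat, hker⟩ := hG
  have haL : IsIntegral L a := halg.tower_top
  let L' : IntermediateField k K := (IntermediateField.adjoin L {a}).restrictScalars k
  have hle : L ≤ L' := fun x hx => (IntermediateField.adjoin L {a}).algebraMap_mem ⟨x, hx⟩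
  have haL' : a ∈ L' := IntermediateField.mem_adjoin_simple_self L a
  have hrep : ∀ b : K, b ∈ L' → ∃ f : Polynomial L, Polynomial.aeval a f = b := by
    intro b hb
    have hb' : b ∈ (IntermediateField.adjoin L {a}).toSubalgebra := hb
    rw [IntermediateField.adjoin_simple_toSubalgebra_of_isAlgebraic haL.isAlgebraic,
      Algebra.adjoin_singleton_eq_range_aeval] at hb'
    exact hb'
  choose f hf using hrep
  let U : Set K := {b : K | b ∈ L' → b ∈ L}
  have haU : a ∉ U := fun h => ha (h haL')
  have hU : ∀ c : L, (c : K) ∈ U := fun c _ => c.2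
  set d := (minpoly L a).natDegree with hd
  let g : ∀ b : K, b ∈ L' → Polynomial (supported R U) :=
    fun b h => liftPoly L hU (f b h) ((f b h).natDegree + 1)
  let pA : Polynomial (supported R U) := Polynomial.X ^ d + liftPoly L hU (minpoly L a) d
  have hdeg : (liftPoly (R := R) L hU (minpoly L a) d).degree < (d : WithBot ℕ) := by
    refine lt_of_le_of_lt (Polynomial.degree_sum_le _ _)
      ((Finset.sup_lt_iff (WithBot.bot_lt_coe _)).mpr fun i hi => ?_)
    exact lt_of_le_of_lt (Polynomial.degree_monomial_le _ _)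
      (WithBot.coe_lt_coe.mpr (Finset.mem_range.mp hi))
  have hmonic : pA.Monic := Polynomial.monic_X_pow_add hdeg
  have hνC : ∀ c : supported R U, nu a L' g (c : MvPolynomial K R) = Polynomial.C c :=
    fun c => nu_supported haU L' g _ c.2
  have hνev : ∀ q, nu a L' g (evAt U a q) = q := by
    intro q
    have : (nu a L' g).toRingHom.comp (evAt U a) = RingHom.id _ := by
      refine Polynomial.ringHom_ext (fun c => ?_) ?_
      · simpa [evAt] using hνC c
      · simp [evAt, nu]
    exact RingHom.congr_fun this q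
  have hsub : (L : Set K) ⊆ U := fun b hb _ => hb
  let gens : Set (MvPolynomial K R) := {evAt U a pA} ∪
    {p | ∃ b, ∃ h : b ∈ L', b ∉ L ∧ b ≠ a ∧ p = X b - evAt U a (g b h)}
  obtain ⟨hflat', hid⟩ := flat_adjoin (supported R U) (evAt U a) (fun c => by simp [evAt])
    (nu a L' g) pA hmonic s
    (fun x hx => ⟨⟨x, supported_mono hsub (hs hx)⟩, rfl, nu_supported haU L' g x _⟩)
    gens (by
      rintro x (hx | ⟨b, hb, hbL, hba, rfl⟩)
      · rw [Set.mem_singleton_iff] at hx
        rw [hx, hνev]
      · have hbU : b ∉ U := fun h => hbL (h hb)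
        rw [map_sub, hνev, show nu a L' g (X b) = g b hb by simp [nu, hba, hbU, hb], sub_self]
        exact dvd_zero _)
    (Ideal.subset_span (Or.inl rfl)) (by
      intro p
      have : (Ideal.Quotient.mk (Ideal.span gens)).comp ((evAt U a).comp (nu a L' g).toRingHom) =
          Ideal.Quotient.mk (Ideal.span gens) := by
        refine MvPolynomial.ringHom_ext (fun r => ?_) (fun b => ?_)
        · simp [nu, evAt]
        · simp only [RingHom.comp_apply, AlgHom.toRingHom_eq_coe, RingHom.coe_coe, nu, aeval_X]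
          split_ifs with h1 h2 h3
          · simp [evAt, h1]
          · simp [evAt]
          · exact (Ideal.Quotient.eq.mpr (Ideal.subset_span
              (show X b - evAt U a (g b h3) ∈ gens from
                Or.inr ⟨b, h3, fun hb => h2 (fun _ => hb), h1, rfl⟩))).symm
          · exact absurd (fun hb => absurd hb h3) h2
      exact Ideal.Quotient.eq.mp (RingHom.congr_fun this p).symm)
  have hsker : Ideal.span s ≤ RingHom.ker (theta R L) := hker ▸ le_sup_left
  have hXsupp : ∀ c : K, c ∈ L' → X c ∈ supported R (L' : Set K) :=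
    fun c hc => Algebra.subset_adjoin ⟨c, hc, rfl⟩
  have hlift_supp : ∀ h n, evAt U a (liftPoly L hU h n) ∈ supported R (L' : Set K) := by
    intro h n
    rw [liftPoly, map_sum]
    refine Subalgebra.sum_mem _ fun i _ => ?_
    rw [evAt_monomial]
    exact mul_mem (hXsupp _ (hle (h.coeff i).2)) (pow_mem (hXsupp a haL') _)
  have hval : ∀ (h : Polynomial L) n, h.natDegree < n →
      ((∑ i ∈ Finset.range n, IntermediateField.inclusion hle (h.coeff i) * ⟨a, haL'⟩ ^ i : L') : K) =
        Polynomial.aeval a h := by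
    intro h n hn
    rw [Polynomial.aeval_eq_sum_range' hn, ← IntermediateField.coe_val, map_sum]
    refine Finset.sum_congr rfl fun i _ => ?_
    rw [map_mul, map_pow, Algebra.smul_def]
    rfl
  have hgker : Ideal.span gens ≤ RingHom.ker (theta R L') := by
    rw [Ideal.span_le]
    rintro x (hx | ⟨b, hb, hbL, hba, rfl⟩)
    · rw [Set.mem_singleton_iff] at hx
      subst hx
      rw [SetLike.mem_coe, RingHom.mem_ker]
      simp only [pA, map_add, map_pow]
      rw [theta_evAt_liftPoly hle haL', show evAt U a Polynomial.X = X a by simp [evAt],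
        theta_X_mem L' haL', ← map_pow, ← map_add, ← map_zero (C : L' →+* MvPolynomial K L')]
      congr 1
      apply Subtype.ext
      have hm := minpoly.aeval L a
      rw [Polynomial.aeval_eq_sum_range' (Nat.lt_succ_self _), Finset.sum_range_succ,
        (minpoly.monic haL).coeff_natDegree, one_smul, add_comm] at hm
      rw [AddMemClass.coe_add, SubmonoidClass.coe_pow, ZeroMemClass.coe_zero, ← hm]
      congr 1
      rw [← IntermediateField.coe_val, map_sum]
      refine Finset.sum_congr rfl fun i _ => ?_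
      rw [map_mul, map_pow, Algebra.smul_def]
      rfl
    · rw [SetLike.mem_coe, RingHom.mem_ker, map_sub, theta_X_mem L' hb,
        theta_evAt_liftPoly hle haL', sub_eq_zero]
      exact congrArg C (Subtype.ext ((hval _ _ (Nat.lt_succ_self _)).trans (hf b hb)).symm)
  have hs' : Ideal.span (s ∪ gens) ≤ RingHom.ker (theta R L') := by
    rw [Ideal.span_union]
    exact sup_le (theta_eq_zero_of_mem_span hle hs hsker) hgker
  refine ⟨L', Ideal.span (s ∪ gens), lt_of_le_of_ne hle (fun h => ha (h ▸ haL')),
    Ideal.span_mono Set.subset_union_left, ⟨s ∪ gens, ?_, rfl⟩, hflat',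
    le_antisymm ?_ (sup_le hs' (mapC_le_ker _))⟩
  · rintro x (hx | hx | ⟨b, hb, -, -, rfl⟩)
    · exact supported_mono hle (hs hx)
    · rw [Set.mem_singleton_iff] at hx
      subst hx
      simp only [pA, map_add, map_pow]
      rw [show evAt U a Polynomial.X = X a by simp [evAt]]
      exact add_mem (pow_mem (hXsupp a haL') _) (hlift_supp _ _)
    · exact sub_mem (hXsupp b hb) (hlift_supp _ _)
  · intro p hp
    have h0 : theta R L' (evAt U a (nu a L' g p %ₘ pA)) = 0 := by
      rw [← sub_sub_self p (evAt U a (nu a L' g p %ₘ pA)), map_sub, RingHom.mem_ker.mp hp,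
        RingHom.mem_ker.mp (hs' (hid p)), sub_zero]
    have hdegρ : (nu a L' g p %ₘ pA).degree < (d : WithBot ℕ) := by
      refine lt_of_lt_of_eq (Polynomial.degree_modByMonic_lt _ hmonic) ?_
      show (Polynomial.X ^ d + liftPoly L hU (minpoly L a) d).degree = _
      rw [Polynomial.degree_add_eq_left_of_degree_lt] <;> rw [Polynomial.degree_X_pow]
      exact hdeg
    have h1 : evAt U a (nu a L' g p %ₘ pA) ∈
        Ideal.span s ⊔ Ideal.map C (IsLocalRing.maximalIdeal R) :=
      hker ▸ RingHom.mem_ker.mpr (theta_eq_zero_of_degree_lt hle haL' haL _ hdegρ h0)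
    rw [← sub_add_cancel p (evAt U a (nu a L' g p %ₘ pA))]
    exact add_mem (Ideal.mem_sup_left (hid p))
      ((sup_le_sup_right (show Ideal.span s ≤ Ideal.span (s ∪ gens) from Ideal.span_mono Set.subset_union_left) (Ideal.map C (IsLocalRing.maximalIdeal R))) h1)

theorem good_iSup {ι : Type*} [Nonempty ι] (L : ι → IntermediateField k K)
    (Q : ι → Ideal (MvPolynomial K R)) (hdL : Directed (· ≤ ·) L) (hdQ : Directed (· ≤ ·) Q)
    (h : ∀ i, Good (L i) (Q i)) : Good (R := R) (K := K) (⨆ i, L i) (⨆ i, Q i) := by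
  classical
  choose s hs hQs using fun i => (h i).1
  have hmemL : ∀ b, b ∈ ⨆ i, L i ↔ ∃ i, b ∈ L i := by
    intro b
    rw [← SetLike.mem_coe, IntermediateField.coe_iSup_of_directed hdL]
    simp
  refine ⟨⟨⋃ i, s i, Set.iUnion_subset fun i => (hs i).trans ?_, ?_⟩, ?_, le_antisymm ?_ ?_⟩
  · exact supported_mono fun b hb => (hmemL b).mpr ⟨i, hb⟩
  · rw [Ideal.span, Submodule.span_iUnion]
    exact iSup_congr hQs
  · have hdQ' : Directed (· ≤ ·) (fun i => (Q i).restrictScalars R) := fun i j => by
      obtain ⟨l, hi, hj⟩ := hdQ i j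
      exact ⟨l, hi, hj⟩
    have := flat_iUnion (fun i => (Q i).restrictScalars R) hdQ' (fun i => (h i).2.1)
    rwa [← Submodule.restrictScalars_iSup] at this
  · intro p hp
    have hfin : ∀ t : Finset K, ∃ i, ∀ b ∈ t, b ∈ (⨆ i, L i) → b ∈ L i := by
      intro t
      induction t using Finset.induction with
      | empty => exact ⟨Classical.arbitrary ι, by simp⟩
      | insert b t _ ih =>
        obtain ⟨i, hi⟩ := ih
        by_cases hb : b ∈ ⨆ i, L i
        · obtain ⟨j, hj⟩ := (hmemL b).mp hb
          obtain ⟨l, hil, hjl⟩ := hdL i j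
          refine ⟨l, fun b' hb' hb'L => ?_⟩
          rcases Finset.mem_insert.mp hb' with rfl | hb'
          · exact hjl hj
          · exact hil (hi b' hb' hb'L)
        · refine ⟨i, fun b' hb' hb'L => ?_⟩
          rcases Finset.mem_insert.mp hb' with rfl | hb'
          · exact absurd hb'L hb
          · exact hi b' hb' hb'L
    obtain ⟨i, hi⟩ := hfin p.vars
    have hle : L i ≤ ⨆ i, L i := le_iSup L i
    have hsup : p ∈ supported R {b : K | b ∈ (⨆ i, L i) → b ∈ L i} :=
      mem_supported.mpr fun b hb hbL => hi b hb hbL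
    have h0 : theta R (L i) p = 0 := incl_injective hle (by
      rw [← theta_eq_on hle hsup, map_zero]
      exact hp)
    have h2 : p ∈ Q i ⊔ Ideal.map C (IsLocalRing.maximalIdeal R) :=
      (h i).2.2 ▸ RingHom.mem_ker.mpr h0
    exact sup_le_sup_right (le_iSup Q i) _ h2
  · refine sup_le (iSup_le fun i => ?_) (mapC_le_ker _)
    rw [hQs i]
    refine theta_eq_zero_of_mem_span (le_iSup L i) (hs i) ?_
    rw [(h i).2.2, hQs i]
    exact le_sup_left

theorem exists_flat_algebraic [Algebra.IsAlgebraic k K] :
    ∃ Q : Ideal (MvPolynomial K R), Module.Flat R (MvPolynomial K R ⧸ Q) ∧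
      RingHom.ker (eval₂Hom ((algebraMap k K).comp (IsLocalRing.residue R)) id) =
        Q ⊔ Ideal.map C (IsLocalRing.maximalIdeal R) := by
  obtain ⟨Q₀, hQ₀⟩ := good_bot (R := R) (K := K)
  let St := {x : IntermediateField k K × Ideal (MvPolynomial K R) | Good x.1 x.2}
  obtain ⟨⟨L, Q⟩, -, hmax⟩ := zorn_le_nonempty₀ St (fun c hc hchain y hy => by
    have : Nonempty c := ⟨⟨y, hy⟩⟩
    have hdir : Directed (· ≤ ·)
        (fun x : c => (x : IntermediateField k K × Ideal (MvPolynomial K R))) :=
      hchain.directed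
    refine ⟨(⨆ x : c, x.1.1, ⨆ x : c, x.1.2),
      good_iSup (fun x : c => x.1.1) (fun x : c => x.1.2) ?_ ?_ (fun x => hc x.2),
      fun z hz => ⟨le_iSup (fun x : c => x.1.1) ⟨z, hz⟩, le_iSup (fun x : c => x.1.2) ⟨z, hz⟩⟩⟩
    · intro i j
      obtain ⟨l, hi, hj⟩ := hdir i j
      exact ⟨l, hi.1, hj.1⟩
    · intro i j
      obtain ⟨l, hi, hj⟩ := hdir i j
      exact ⟨l, hi.2, hj.2⟩) (⊥, Q₀) hQ₀
  obtain ⟨hgood, hmax⟩ := hmax
  have htop : L = ⊤ := by
    by_contra hne
    obtain ⟨a, ha⟩ : ∃ a, a ∉ L := by
      by_contra hall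
      push Not at hall
      exact hne (eq_top_iff.mpr fun x _ => hall x)
    obtain ⟨L', Q', hlt, hQle, hG⟩ := good_step hgood ha (Algebra.IsIntegral.isIntegral a)
    exact hlt.not_ge (hmax (y := (L', Q')) hG ⟨hlt.le, hQle⟩).1
  subst htop
  refine ⟨Q, hgood.2.1, ?_⟩
  rw [← hgood.2.2]
  have : ((C (σ := K)).comp ((IntermediateField.topEquiv (F := k) (E := K)).symm.toRingEquiv.toRingHom)).comp
      (eval₂Hom ((algebraMap k K).comp (IsLocalRing.residue R)) id) = theta R ⊤ := by
    refine MvPolynomial.ringHom_ext (fun r => ?_) (fun b => ?_)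
    · simp only [RingHom.comp_apply, eval₂Hom_C, theta_C]
      rfl
    · simp only [RingHom.comp_apply, eval₂Hom_X', theta_X_mem _ (IntermediateField.mem_top)]
      rfl
  rw [← this, RingHom.ker_comp_of_injective]
  exact (C_injective _ _).comp (IntermediateField.topEquiv (F := k) (E := K)).symm.injective

end Groth.Agent.ResExt
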