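/-
Flat local extensions with prescribed residue field: main existence theorem, and completion.
-/
import Groth.Agent.Lib.ResidueExtension
import Mathlib.RingTheory.AlgebraicIndependent.TranscendenceBasis
import Mathlib.RingTheory.Localization.AtPrime.Basic
import Mathlib.RingTheory.RingHom.Flat
import Mathlib.RingTheory.Flat.Localization

universe u

open MvPolynomial

namespace Groth.Agent.ResExt

variable {R : Type u} [CommRing R] [IsLocalRing R]

theorem ringHom_maximal_lift {S K : Type u} [CommRing S] [Field K] (χ : S →+* K)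
    [(RingHom.ker χ).IsPrime] :
    ∃ χ' : Localization.AtPrime (RingHom.ker χ) →+* K,
      χ'.comp (algebraMap S _) = χ ∧
      RingHom.ker χ' = IsLocalRing.maximalIdeal (Localization.AtPrime (RingHom.ker χ)) := by
  have hu : ∀ y : (RingHom.ker χ).primeCompl, IsUnit (χ y) := fun y =>
    (IsUnit.mk0 _ fun h => y.2 (RingHom.mem_ker.mpr h))
  let χ' := IsLocalization.lift (M := (RingHom.ker χ).primeCompl)
    (S := Localization.AtPrime (RingHom.ker χ)) hu
  refine ⟨χ', IsLocalization.lift_comp hu, le_antisymm (IsLocalRing.le_maximalIdeal ?_) ?_⟩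
  · exact RingHom.ker_ne_top χ'
  · rw [← IsLocalization.AtPrime.map_eq_maximalIdeal (RingHom.ker χ)
      (Localization.AtPrime (RingHom.ker χ)), Ideal.map_le_iff_le_comap]
    intro x hx
    rw [Ideal.mem_comap, RingHom.mem_ker, IsLocalization.lift_eq]
    exact hx

/-- EGA 0III 10.3.1 (without Noetherian hypotheses). -/
theorem exists_flat_local (R : Type u) [CommRing R] [IsLocalRing R] (K : Type u) [Field K]
    [Algebra (IsLocalRing.ResidueField R) K] :
    ∃ (R' : Type u) (_ : CommRing R') (_ : IsLocalRing R') (_ : Algebra R R') (ρ : R' →+* K),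
      Module.Flat R R' ∧
      (IsLocalRing.maximalIdeal R).map (algebraMap R R') = IsLocalRing.maximalIdeal R' ∧
      Function.Surjective ρ ∧ RingHom.ker ρ = IsLocalRing.maximalIdeal R' ∧
      ρ.comp (algebraMap R R') =
        (algebraMap (IsLocalRing.ResidueField R) K).comp (IsLocalRing.residue R) := by
  obtain ⟨s, hs⟩ := exists_isTranscendenceBasis (IsLocalRing.ResidueField R) K
  let φ₀ := (algebraMap (IsLocalRing.ResidueField R) K).comp (IsLocalRing.residue R)
  let χ : MvPolynomial s R →+* K := eval₂Hom φ₀ Subtype.val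
  have hχ : χ = (aeval (R := IsLocalRing.ResidueField R) (Subtype.val : s → K)).toRingHom.comp
      (MvPolynomial.map (IsLocalRing.residue R)) :=
    MvPolynomial.ringHom_ext (fun r => by simp [χ, φ₀]) (fun b => by simp [χ])
  have hkerχ : RingHom.ker χ = Ideal.map C (IsLocalRing.maximalIdeal R) := by
    rw [hχ, RingHom.ker_comp_of_injective _ hs.1, MvPolynomial.ker_map, IsLocalRing.ker_residue]
  have : (RingHom.ker χ).IsPrime := RingHom.ker_isPrime χ
  let R₁ := Localization.AtPrime (RingHom.ker χ)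
  obtain ⟨χ₁, hχ₁, hkerχ₁⟩ := ringHom_maximal_lift χ
  have hm₁ : (IsLocalRing.maximalIdeal R).map (algebraMap R R₁) = IsLocalRing.maximalIdeal R₁ := by
    rw [← IsLocalization.AtPrime.map_eq_maximalIdeal (RingHom.ker χ) R₁]
    refine Eq.trans ?_ (congrArg (Ideal.map (algebraMap (MvPolynomial s R) R₁)) hkerχ).symm
    rw [Ideal.map_map]
    rfl
  have : Module.Flat (MvPolynomial s R) R₁ := IsLocalization.flat R₁ (RingHom.ker χ).primeCompl
  have hflat₁ : Module.Flat R R₁ := Module.Flat.trans R (MvPolynomial s R) R₁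
  let k₁ := IsLocalRing.ResidueField R₁
  let ι₁ : k₁ →+* K := Ideal.Quotient.lift _ χ₁ (fun a ha => by rw [← hkerχ₁] at ha; exact ha)
  have hι₁ : ι₁.comp (IsLocalRing.residue R₁) = χ₁ := by ext x; rfl
  let _ : Algebra k₁ K := ι₁.toAlgebra
  have hmem : ∀ x ∈ Algebra.adjoin (IsLocalRing.ResidueField R) s, x ∈ ι₁.range := by
    intro x hx
    induction hx using Algebra.adjoin_induction with
    | mem b hb =>
      exact ⟨IsLocalRing.residue R₁ (algebraMap _ R₁ (X ⟨b, hb⟩ : MvPolynomial s R)), by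
        rw [← RingHom.comp_apply, hι₁, ← RingHom.comp_apply, hχ₁]
        simp [χ]⟩
    | algebraMap c =>
      obtain ⟨r, rfl⟩ := IsLocalRing.residue_surjective c
      exact ⟨IsLocalRing.residue R₁ (algebraMap (MvPolynomial s R) R₁ (C r)), by
        rw [← RingHom.comp_apply, hι₁, ← RingHom.comp_apply, hχ₁]
        simp [χ, φ₀]⟩
    | add x y _ _ hx hy => exact add_mem hx hy
    | mul x y _ _ hx hy => exact mul_mem hx hy
  have halg : Algebra.IsAlgebraic k₁ K := by
    have hbase : Algebra.IsAlgebraic (Algebra.adjoin (IsLocalRing.ResidueField R) s) K := by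
      have h1 := hs.isAlgebraic
      rwa [Subtype.range_coe] at h1
    refine ⟨fun x => ?_⟩
    obtain ⟨p, hp0, hpx⟩ := hbase.isAlgebraic x
    obtain ⟨q, hq⟩ : p.map (algebraMap _ K) ∈ Polynomial.lifts ι₁ := by
      rw [Polynomial.lifts_iff_coeff_lifts]
      intro n
      rw [Polynomial.coeff_map]
      exact hmem _ (p.coeff n).2
    rw [Polynomial.coe_mapRingHom] at hq
    refine ⟨q, fun h0 => hp0 ?_, ?_⟩
    · rw [h0, Polynomial.map_zero] at hq
      exact (Polynomial.map_eq_zero_iff Subtype.val_injective).mp hq.symm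
    · rw [Polynomial.aeval_def, ← Polynomial.eval_map]
      show (q.map ι₁).eval x = 0
      rw [hq, Polynomial.eval_map, ← Polynomial.aeval_def, hpx]
  obtain ⟨Q, hflatQ, hkerQ⟩ := exists_flat_algebraic (R := R₁) (K := K)
  have hQθ : Q ≤ RingHom.ker (eval₂Hom ((algebraMap k₁ K).comp (IsLocalRing.residue R₁)) id) :=
    hkerQ ▸ le_sup_left
  let θ : (MvPolynomial K R₁ ⧸ Q) →+* K :=
    Ideal.Quotient.lift Q _ (fun a ha => RingHom.mem_ker.mp (hQθ ha))
  have hθsurj : Function.Surjective θ :=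
    fun b => ⟨Ideal.Quotient.mk Q (X b), by simp [θ]⟩
  have : (RingHom.ker θ).IsPrime := RingHom.ker_isPrime θ
  obtain ⟨ρ, hρ, hkerρ⟩ := ringHom_maximal_lift θ
  let R' := Localization.AtPrime (RingHom.ker θ)
  have hkerθ : RingHom.ker θ = (IsLocalRing.maximalIdeal R).map
      (algebraMap R (MvPolynomial K R₁ ⧸ Q)) := by
    show RingHom.ker (Ideal.Quotient.lift Q _ _) = _
    refine (Ideal.ker_quotient_lift _ (fun a ha => hQθ ha)).trans ?_
    rw [hkerQ, Ideal.map_sup, Ideal.map_quotient_self, bot_sup_eq,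
      ← hm₁, Ideal.map_map, Ideal.map_map]
    rfl
  have : Module.Flat (MvPolynomial K R₁ ⧸ Q) R' := IsLocalization.flat R' (RingHom.ker θ).primeCompl
  have : Module.Flat R (MvPolynomial K R₁ ⧸ Q) := Module.Flat.trans R R₁ _
  refine ⟨R', inferInstance, inferInstance, inferInstance, ρ,
    Module.Flat.trans R (MvPolynomial K R₁ ⧸ Q) R', ?_, ?_, hkerρ, ?_⟩
  · rw [← IsLocalization.AtPrime.map_eq_maximalIdeal (RingHom.ker θ) R']
    refine Eq.trans ?_ (congrArg (Ideal.map (algebraMap (MvPolynomial K R₁ ⧸ Q) R')) hkerθ).symm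
    rw [Ideal.map_map, ← IsScalarTower.algebraMap_eq]
  · intro b
    obtain ⟨z, hz⟩ := hθsurj b
    exact ⟨algebraMap _ R' z, by rw [← hz]; exact RingHom.congr_fun hρ z⟩
  · rw [IsScalarTower.algebraMap_eq R (MvPolynomial K R₁ ⧸ Q) R', ← RingHom.comp_assoc, hρ]
    ext r
    show eval₂Hom ((algebraMap k₁ K).comp (IsLocalRing.residue R₁)) id
      (C (algebraMap R R₁ r)) = φ₀ r
    rw [eval₂Hom_C]
    show χ₁ (algebraMap (MvPolynomial s R) R₁ (C r)) = φ₀ r
    rw [← RingHom.comp_apply, hχ₁]
    simp [χ]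

end Groth.Agent.ResExt
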