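/-
Cohen rings.
-/
import Mathlib
import Groth.Agent.Lib.ResidueExtensionMain
import Groth.Agent.Lib.CompletionFlat
import Groth.Prelude.Def_Found

universe u

namespace Groth.Agent.CohenRing


theorem cohen_of_dvr {R : Type u} [CommRing R] [IsLocalRing R] [IsNoetherianRing R] [IsAdicComplete (IsLocalRing.maximalIdeal R) R]
    (p : ℕ) (hp : p.Prime) (hm : IsLocalRing.maximalIdeal R = Ideal.span {(p : R)})
    (hreg : ∀ x : R, (p : R) * x = 0 → x = 0) : CAlg.IsCohenRing R := by
  have hfac : ∀ x : R, x ≠ 0 → ∃ (n : ℕ) (u : Rˣ), x = (p : R) ^ n * u := by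
    intro x hx
    classical
    have hex : ∃ n, ¬ (p : R) ^ n ∣ x := by
      by_contra h
      push Not at h
      refine hx (IsHausdorff.haus' (I := IsLocalRing.maximalIdeal R) x fun n => ?_)
      rw [SModEq.zero, smul_eq_mul, Ideal.mul_top, hm, Ideal.span_singleton_pow, Ideal.mem_span_singleton]
      exact h n
    obtain ⟨n, hn⟩ : ∃ n, Nat.find hex = n + 1 :=
      Nat.exists_eq_succ_of_ne_zero fun h => by have := Nat.find_spec hex; simp [h] at this
    obtain ⟨u, hu⟩ : (p : R) ^ n ∣ x := of_not_not (Nat.find_min hex (by omega : n < Nat.find hex))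
    have hunit : IsUnit u := by
      by_contra hun
      rw [← mem_nonunits_iff, ← IsLocalRing.mem_maximalIdeal, hm, Ideal.mem_span_singleton] at hun
      obtain ⟨v, rfl⟩ := hun
      have := Nat.find_spec hex
      rw [hn] at this
      exact this ⟨v, by rw [hu, pow_succ, mul_assoc]⟩
    exact ⟨n, hunit.unit, by rw [hu]; rfl⟩
  have hpow : ∀ n (x : R), (p : R) ^ n * x = 0 → x = 0 := by
    intro n
    induction n with
    | zero => intro x h; simpa using h
    | succ n ih => intro x h; exact hreg x (ih _ (by rwa [pow_succ, mul_assoc] at h))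
  haveI : IsDomain R :=
    haveI : NoZeroDivisors R := ⟨fun {a b} h => by
      by_contra hab
      push Not at hab
      obtain ⟨n, u, rfl⟩ := hfac a hab.1
      obtain ⟨m, v, rfl⟩ := hfac b hab.2
      rw [mul_assoc, ← mul_assoc (u : R), mul_comm (u : R), mul_assoc] at h
      have := hpow m _ (hpow n _ h)
      exact (u * v).ne_zero (by rw [Units.val_mul]; exact this)⟩
    NoZeroDivisors.to_isDomain R
  have hp0 : (p : R) ≠ 0 := fun h => one_ne_zero (α := R) (hreg 1 (by rw [h, zero_mul]))
  have hnf : ¬ IsField R := fun hf => hp0 (by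
    have := IsLocalRing.isField_iff_maximalIdeal_eq.mp hf
    rwa [hm, Ideal.span_singleton_eq_bot] at this)
  haveI : IsDiscreteValuationRing R := by
    have h := (IsDiscreteValuationRing.TFAE R hnf).out 0 4
    exact h.mpr ⟨(p : R), hm⟩
  exact ⟨inferInstance, inferInstance, inferInstance, p, hp, hm⟩

end Groth.Agent.CohenRing
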