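/-
Mittag-Leffler modules: basic theory
-/
import Mathlib
import Groth.Prelude.Def_Found
import Groth.Prelude.Def_CAlgX

open TensorProduct

universe u

namespace Groth.Agent.MittagLeffler


theorem pr_apply {R : Type u} [CommRing R] (M : Type u) [AddCommGroup M] [Module R M] {ι : Type u}
    (Q : ι → Type u) [∀ i, AddCommGroup (Q i)] [∀ i, Module R (Q i)] (z : M ⊗[R] (∀ i, Q i)) (i : ι) :
    piRightHom R R M Q z i = (LinearMap.proj i : (∀ i, Q i) →ₗ[R] Q i).lTensor M z := by
  induction z with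
  | zero => simp
  | tmul a b => simp
  | add a b ha hb => simp only [map_add, Pi.add_apply, ha, hb]

theorem pr_nat {R : Type u} [CommRing R] {M M' : Type u} [AddCommGroup M] [Module R M] [AddCommGroup M'] [Module R M']
    (f : M →ₗ[R] M') {ι : Type u} (Q : ι → Type u) [∀ i, AddCommGroup (Q i)] [∀ i, Module R (Q i)]
    (z : M ⊗[R] (∀ i, Q i)) (i : ι) :
    piRightHom R R M' Q (f.rTensor _ z) i = f.rTensor (Q i) (piRightHom R R M Q z i) := by
  induction z with
  | zero => simp
  | tmul a b => simp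
  | add a b ha hb => simp only [map_add, Pi.add_apply, ha, hb]

theorem of_zero {R : Type u} [CommRing R] {M : Type u} [AddCommGroup M] [Module R M]
    (h : ∀ (ι : Type u) (Q : ι → Type u) [∀ i, AddCommGroup (Q i)] [∀ i, Module R (Q i)] (z : M ⊗[R] (∀ i, Q i)),
      (∀ i, piRightHom R R M Q z i = 0) → z = 0) : CAlg.IsMittagLeffler R M := by
  intro ι Q _ _
  rw [← LinearMap.ker_eq_bot, LinearMap.ker_eq_bot']
  exact fun z hz => h ι Q z (fun i => congrFun hz i)

theorem zero_of {R : Type u} [CommRing R] {M : Type u} [AddCommGroup M] [Module R M]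
    (hM : CAlg.IsMittagLeffler R M) {ι : Type u} {Q : ι → Type u} [∀ i, AddCommGroup (Q i)] [∀ i, Module R (Q i)]
    {z : M ⊗[R] (∀ i, Q i)} (hz : ∀ i, piRightHom R R M Q z i = 0) : z = 0 :=
  hM ι Q (by rw [map_zero]; exact funext hz)

theorem ml_of_ui {R : Type u} [CommRing R] {M₁ M₂ : Type u} [AddCommGroup M₁] [Module R M₁]
    [AddCommGroup M₂] [Module R M₂] (f : M₁ →ₗ[R] M₂) (hf : CAlgX.UniversallyInjective R f)
    (h₂ : CAlg.IsMittagLeffler R M₂) : CAlg.IsMittagLeffler R M₁ := by
  refine of_zero fun ι Q _ _ z hz => hf _ ?_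
  rw [map_zero]
  exact zero_of h₂ fun i => by rw [pr_nat, hz, map_zero]

theorem ui_of_retraction {R : Type u} [CommRing R] {M₁ M₂ : Type u} [AddCommGroup M₁] [Module R M₁]
    [AddCommGroup M₂] [Module R M₂] (f : M₁ →ₗ[R] M₂) (r : M₂ →ₗ[R] M₁) (h : r ∘ₗ f = LinearMap.id) :
    CAlgX.UniversallyInjective R f := fun Q _ _ => Function.LeftInverse.injective (g := r.rTensor Q) fun x => by
  rw [← LinearMap.comp_apply, ← LinearMap.rTensor_comp, h, LinearMap.rTensor_id, LinearMap.id_apply]

theorem free_rep {R : Type u} [CommRing R] {n : ℕ} {P : Type u} [AddCommGroup P] [Module R P]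
    (z : (Fin n → R) ⊗[R] P) :
    ∑ k, (Pi.single k (1 : R) : Fin n → R) ⊗ₜ[R] TensorProduct.lid R P ((LinearMap.proj k : (Fin n → R) →ₗ[R] R).rTensor P z) = z := by
  induction z with
  | zero => simp
  | tmul a b =>
    simp only [LinearMap.rTensor_tmul, lid_tmul, LinearMap.proj_apply, tmul_smul, smul_tmul', ← TensorProduct.sum_tmul]
    rw [← pi_eq_sum_univ' a]
  | add a b ha hb => simp only [map_add, tmul_add, Finset.sum_add_distrib, ha, hb]

theorem ml_free {R : Type u} [CommRing R] (n : ℕ) : CAlg.IsMittagLeffler R (Fin n → R) := by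
  refine of_zero fun ι Q _ _ z hz => ?_
  rw [← free_rep z]
  refine Finset.sum_eq_zero fun k _ => ?_
  rw [show TensorProduct.lid R _ ((LinearMap.proj k : (Fin n → R) →ₗ[R] R).rTensor (∀ i, Q i) z) = 0 from ?_, tmul_zero]
  funext i
  have h : ∀ w : R ⊗[R] (∀ i, Q i), TensorProduct.lid R _ w i = TensorProduct.lid R (Q i) (piRightHom R R R Q w i) := by
    intro w
    induction w with
    | zero => simp
    | tmul a b => simp
    | add a b ha hb => simp only [map_add, Pi.add_apply, ha, hb]
  rw [h, pr_nat, hz, map_zero, map_zero, Pi.zero_apply]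

theorem surj_of_finite {R : Type u} [CommRing R] (M : Type u) [AddCommGroup M] [Module R M] [Module.Finite R M]
    {ι : Type u} (Q : ι → Type u) [∀ i, AddCommGroup (Q i)] [∀ i, Module R (Q i)] :
    Function.Surjective (piRightHom R R M Q) := by
  obtain ⟨n, g, hg⟩ := Module.Finite.exists_fin' R M
  intro t
  choose w hw using fun i => LinearMap.rTensor_surjective (Q i) hg (t i)
  refine ⟨g.rTensor _ (∑ k, (Pi.single k (1 : R) : Fin n → R) ⊗ₜ[R]
    (fun i => TensorProduct.lid R (Q i) ((LinearMap.proj k : (Fin n → R) →ₗ[R] R).rTensor (Q i) (w i)))), funext fun i => ?_⟩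
  rw [pr_nat, map_sum, Finset.sum_apply]
  simp only [piRightHom_tmul]
  rw [free_rep, hw]

theorem ml_quot {R : Type u} [CommRing R] {M M' : Type u} [AddCommGroup M] [Module R M]
    [AddCommGroup M'] [Module R M'] (g : M →ₗ[R] M') (hg : Function.Surjective g)
    (hK : (LinearMap.ker g).FG) (hM : CAlg.IsMittagLeffler R M) : CAlg.IsMittagLeffler R M' := by
  refine of_zero fun ι Q _ _ z hz => ?_
  haveI := Module.Finite.iff_fg.mpr hK
  obtain ⟨w, rfl⟩ := LinearMap.rTensor_surjective _ hg z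
  have hv : ∀ i, ∃ v, (LinearMap.ker g).subtype.rTensor (Q i) v = piRightHom R R M Q w i := fun i =>
    ((rTensor_exact (Q i) (LinearMap.exact_subtype_ker_map g) hg) _).mp (by rw [← pr_nat, hz])
  choose v hv using hv
  obtain ⟨V, hV⟩ := surj_of_finite (LinearMap.ker g) Q v
  have hw : w = (LinearMap.ker g).subtype.rTensor _ V := hM ι Q (funext fun i => by rw [pr_nat, hV, hv])
  rw [hw, ← LinearMap.comp_apply, ← LinearMap.rTensor_comp,
    show g ∘ₗ (LinearMap.ker g).subtype = 0 from LinearMap.ext fun x => x.2, LinearMap.rTensor_zero, LinearMap.zero_apply]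

theorem ml_fp {R : Type u} [CommRing R] (M : Type u) [AddCommGroup M] [Module R M]
    [Module.FinitePresentation R M] : CAlg.IsMittagLeffler R M := by
  obtain ⟨n, K, e, hK⟩ := Module.FinitePresentation.exists_fin R M
  refine ml_quot (e.symm.toLinearMap ∘ₗ K.mkQ) (e.symm.surjective.comp K.mkQ_surjective) ?_ (ml_free n)
  rw [LinearMap.ker_comp_of_ker_eq_bot _ e.symm.ker, Submodule.ker_mkQ]
  exact hK

theorem exists_rep {R : Type u} [CommRing R] {M A : Type u} [AddCommGroup M] [Module R M]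
    [AddCommGroup A] [Module R A] (z : M ⊗[R] A) :
    ∃ (n : ℕ) (f : (Fin n → R) →ₗ[R] M) (y : (Fin n → R) ⊗[R] A), f.rTensor A y = z := by
  obtain ⟨M', hfin, hM⟩ := TensorProduct.exists_finite_submodule_left_of_setFinite {z} (Set.finite_singleton z)
  obtain ⟨v, hv⟩ := hM rfl
  obtain ⟨n, g, hg⟩ := Module.Finite.exists_fin' R M'
  obtain ⟨y, rfl⟩ := LinearMap.rTensor_surjective A hg v
  exact ⟨n, M'.subtype ∘ₗ g, y, by rw [LinearMap.rTensor_comp, LinearMap.comp_apply, hv]⟩

/-- zero is detected at a finitely presented stage -/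
theorem exists_fp_kill {R : Type u} [CommRing R] {P M A : Type u} [AddCommGroup P] [Module R P]
    [Module.FinitePresentation R P] [AddCommGroup M] [Module R M] [AddCommGroup A] [Module R A]
    (f : P →ₗ[R] M) {m : ℕ} (w : Fin m → P ⊗[R] A) (hw : ∀ l, f.rTensor A (w l) = 0) :
    ∃ (Q : Type u) (_ : AddCommGroup Q) (_ : Module R Q) (_ : Module.FinitePresentation R Q)
      (g : P →ₗ[R] Q) (h : Q →ₗ[R] M), h ∘ₗ g = f ∧ ∀ l, g.rTensor A (w l) = 0 := by
  classical
  obtain ⟨n, K, e, hK⟩ := Module.FinitePresentation.exists_fin R P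
  let q : (Fin n → R) →ₗ[R] P := e.symm.toLinearMap ∘ₗ K.mkQ
  have hq : Function.Surjective q := e.symm.surjective.comp K.mkQ_surjective
  have hqK : LinearMap.ker q = K := by rw [LinearMap.ker_comp_of_ker_eq_bot _ e.symm.ker, Submodule.ker_mkQ]
  let π : (M →₀ R) →ₗ[R] M := Finsupp.linearCombination R id
  have hπ : Function.Surjective π := fun x => ⟨Finsupp.single x 1, by show Finsupp.linearCombination R id (Finsupp.single x (1 : R)) = x; simp⟩
  obtain ⟨ft, hft⟩ := Module.projective_lifting_property π (f ∘ₗ q) hπ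
  choose wt hwt using fun l => LinearMap.rTensor_surjective A hq (w l)
  have hex : Function.Exact (LinearMap.ker π).subtype π := LinearMap.exact_subtype_ker_map π
  have hwk : ∀ l, ∃ v, (LinearMap.ker π).subtype.rTensor A v = ft.rTensor A (wt l) := fun l => by
    have h1 : π.rTensor A (ft.rTensor A (wt l)) = 0 := by
      rw [← LinearMap.comp_apply, ← LinearMap.rTensor_comp, hft, LinearMap.rTensor_comp, LinearMap.comp_apply, hwt, hw]
    have h2 := rTensor_exact (R := R) (M := ↥(LinearMap.ker π)) (N := M →₀ R) (P := M) A (f := (LinearMap.ker π).subtype) (g := π) hex hπ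
    exact (h2 _).mp h1
  choose v hv using hwk
  obtain ⟨K1, hK1fin, hK1⟩ := TensorProduct.exists_finite_submodule_left_of_setFinite (Set.range v) (Set.finite_range v)
  choose v1 hv1 using fun l => hK1 (Set.mem_range_self l)
  obtain ⟨s1, hs1⟩ := (Module.Finite.iff_fg.mp hK1fin).map (LinearMap.ker π).subtype
  let G : Finset (M →₀ R) := s1 ∪ Finset.univ.image (fun k : Fin n => ft (Pi.single k 1))
  let S : Finset M := G.biUnion Finsupp.support
  let rd : (M →₀ R) →ₗ[R] (↥S → R) := LinearMap.pi fun x => Finsupp.lapply (x : M)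
  let incl : (↥S → R) →ₗ[R] (M →₀ R) := ∑ x : ↥S, (Finsupp.lsingle (x : M)).comp (LinearMap.proj x)
  have hrd : ∀ x : M →₀ R, x.support ⊆ S → incl (rd x) = x := by
    intro x hx
    simp only [incl, rd, LinearMap.coe_sum, Finset.sum_apply, LinearMap.comp_apply, LinearMap.proj_apply,
      LinearMap.pi_apply, Finsupp.lapply_apply, Finsupp.lsingle_apply]
    rw [Finset.sum_coe_sort S (fun y => Finsupp.single y (x y))]
    exact (Finsupp.sum_of_support_subset x hx (fun y c => Finsupp.single y c) (fun _ _ => Finsupp.single_zero _)).symm.trans (Finsupp.sum_single x)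
  have hG : ∀ x ∈ G, incl (rd x) = x := fun x hx => hrd x (Finset.subset_biUnion_of_mem Finsupp.support hx)
  have hft' : ∀ x, incl (rd (ft x)) = ft x := by
    intro x
    rw [pi_eq_sum_univ' x, map_sum, map_sum, map_sum]
    refine Finset.sum_congr rfl fun k _ => ?_
    rw [map_smul, map_smul, map_smul, hG _ (Finset.mem_union_right _ (Finset.mem_image_of_mem _ (Finset.mem_univ k)))]
  have hK1S : ∀ x ∈ K1.map (LinearMap.ker π).subtype, incl (rd x) = x := by
    intro x hx
    rw [← hs1] at hx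
    induction hx using Submodule.span_induction with
    | mem y hy => exact hG y (Finset.mem_union_left _ hy)
    | zero => rw [map_zero, map_zero]
    | add y z _ _ hy hz => rw [map_add, map_add, hy, hz]
    | smul c y _ hy => rw [map_smul, map_smul, hy]
  let K'' : Submodule R (↥S → R) := (K1.map (LinearMap.ker π).subtype ⊔ K.map ft).map rd
  have hK''fg : K''.FG := (((Module.Finite.iff_fg.mp hK1fin).map _).sup (hK.map _)).map _
  have hK''π : K'' ≤ LinearMap.ker (π ∘ₗ incl) := by
    rw [Submodule.map_le_iff_le_comap]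
    refine sup_le ?_ ?_
    · rintro x hx
      show π (incl (rd x)) = 0
      rw [hK1S x hx]
      obtain ⟨x', hx', rfl⟩ := hx
      exact x'.2
    · rintro _ ⟨x, hx, rfl⟩
      show π (incl (rd (ft x))) = 0
      rw [hft' x, ← LinearMap.comp_apply, hft, LinearMap.comp_apply,
        show q x = 0 from LinearMap.mem_ker.mp (hqK ▸ hx), map_zero]
  haveI : Module.FinitePresentation R (↥S → R) := Module.finitePresentation_of_projective R _
  haveI : Module.FinitePresentation R ((↥S → R) ⧸ K'') := Module.finitePresentation_of_surjective K''.mkQ K''.mkQ_surjective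
    (by rw [Submodule.ker_mkQ]; exact hK''fg)
  let g0 : (Fin n → R) →ₗ[R] (↥S → R) ⧸ K'' := K''.mkQ ∘ₗ rd ∘ₗ ft
  have hg0 : K ≤ LinearMap.ker g0 := fun x hx =>
    (Submodule.Quotient.mk_eq_zero K'').mpr (Submodule.mem_map_of_mem (Submodule.mem_sup_right (Submodule.mem_map_of_mem hx)))
  let g : P →ₗ[R] (↥S → R) ⧸ K'' := K.liftQ g0 hg0 ∘ₗ e.toLinearMap
  have hgq : g ∘ₗ q = g0 := LinearMap.ext fun x => by simp [g, q]
  let h : (↥S → R) ⧸ K'' →ₗ[R] M := K''.liftQ (π ∘ₗ incl) hK''π
  refine ⟨_, inferInstance, inferInstance, ‹_›, g, h, ?_, fun l => ?_⟩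
  · refine LinearMap.ext fun p => ?_
    obtain ⟨x, rfl⟩ := hq p
    rw [LinearMap.comp_apply, ← LinearMap.comp_apply g, hgq]
    show π (incl (rd (ft x))) = f (q x)
    rw [hft' x, ← LinearMap.comp_apply, hft, LinearMap.comp_apply]
  · rw [← hwt l, ← LinearMap.comp_apply, ← LinearMap.rTensor_comp, hgq]
    simp only [g0, LinearMap.rTensor_comp, LinearMap.comp_apply]
    rw [← hv l, ← hv1 l]
    simp only [← LinearMap.comp_apply, ← LinearMap.rTensor_comp]
    rw [show K''.mkQ ∘ₗ rd ∘ₗ (LinearMap.ker π).subtype ∘ₗ K1.subtype = 0 from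
      LinearMap.ext fun x => (Submodule.Quotient.mk_eq_zero K'').mpr
        (Submodule.mem_map_of_mem (Submodule.mem_sup_left (Submodule.mem_map_of_mem x.2))),
      LinearMap.rTensor_zero, LinearMap.zero_apply]

theorem kill_right {R : Type u} [CommRing R] {P M N : Type u} [AddCommGroup P] [Module R P]
    [AddCommGroup M] [Module R M] [AddCommGroup N] [Module R N] (f : P →ₗ[R] M) {x : P ⊗[R] N}
    (hx : f.rTensor N x = 0) :
    ∃ (N0 : Type u) (_ : AddCommGroup N0) (_ : Module R N0) (_ : Module.FinitePresentation R N0)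
      (v : N0 →ₗ[R] N) (x0 : P ⊗[R] N0), v.lTensor P x0 = x ∧ f.rTensor N0 x0 = 0 := by
  obtain ⟨m, u', x1, hx1⟩ := exists_rep (TensorProduct.comm R P N x)
  have hc : ∀ (W : Type u) [AddCommGroup W] [Module R W] (t : P ⊗[R] W),
      f.lTensor W (TensorProduct.comm R P W t) = TensorProduct.comm R M W (f.rTensor W t) := by
    intro W _ _ t
    induction t with
    | zero => simp
    | tmul a b => simp
    | add a b ha hb => simp only [map_add, ha, hb]
  have hz : u'.rTensor M (f.lTensor (Fin m → R) x1) = 0 := by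
    rw [← LinearMap.comp_apply, LinearMap.rTensor_comp_lTensor, ← LinearMap.lTensor_comp_rTensor,
      LinearMap.comp_apply, hx1, hc, hx, map_zero]
  obtain ⟨N0, i1, i2, i3, g, h, hgh, hg⟩ := exists_fp_kill u' (fun _ : Fin 1 => f.lTensor (Fin m → R) x1) (fun _ => hz)
  refine ⟨N0, i1, i2, i3, h, (TensorProduct.comm R P N0).symm (g.rTensor P x1), ?_, ?_⟩
  · apply (TensorProduct.comm R P N).injective
    rw [← hx1, ← hgh, LinearMap.rTensor_comp, LinearMap.comp_apply]
    generalize g.rTensor P x1 = y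
    induction y with
    | zero => simp
    | tmul a b => simp
    | add a b ha hb => simp only [map_add, ha, hb]
  · apply (TensorProduct.comm R M N0).injective
    rw [← hc, LinearEquiv.apply_symm_apply, map_zero, ← LinearMap.comp_apply, LinearMap.lTensor_comp_rTensor,
      ← LinearMap.rTensor_comp_lTensor, LinearMap.comp_apply]
    exact hg 0

theorem dom_family {R : Type u} [CommRing R] {P M : Type u} [AddCommGroup P] [Module R P]
    [Module.FinitePresentation R P] [AddCommGroup M] [Module R M] (hM : CAlg.IsMittagLeffler R M)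
    (f : P →ₗ[R] M) {I : Type u} (Q : I → Type u) [∀ i, AddCommGroup (Q i)] [∀ i, Module R (Q i)]
    (x : ∀ i, P ⊗[R] Q i) (hx : ∀ i, f.rTensor (Q i) (x i) = 0) :
    ∃ (Q' : Type u) (_ : AddCommGroup Q') (_ : Module R Q') (_ : Module.FinitePresentation R Q')
      (g : P →ₗ[R] Q') (h : Q' →ₗ[R] M), h ∘ₗ g = f ∧ ∀ i, g.rTensor (Q i) (x i) = 0 := by
  obtain ⟨y, hy⟩ := surj_of_finite P Q x
  have h0 : f.rTensor _ y = 0 := zero_of hM fun i => by rw [pr_nat, hy]; exact hx i
  obtain ⟨Q', i1, i2, i3, g, h, hgh, hg⟩ := exists_fp_kill f (fun _ : Fin 1 => y) (fun _ => h0)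
  exact ⟨Q', i1, i2, i3, g, h, hgh, fun i => by rw [← hy, ← pr_nat, hg 0, map_zero, Pi.zero_apply]⟩

theorem exists_dom {R : Type u} [CommRing R] {P M : Type u} [AddCommGroup P] [Module R P]
    [Module.FinitePresentation R P] [AddCommGroup M] [Module R M] (hM : CAlg.IsMittagLeffler R M)
    (f : P →ₗ[R] M) :
    ∃ (Q : Type u) (_ : AddCommGroup Q) (_ : Module R Q) (_ : Module.FinitePresentation R Q)
      (g : P →ₗ[R] Q) (h : Q →ₗ[R] M), h ∘ₗ g = f ∧
        ∀ (N : Type u) [AddCommGroup N] [Module R N], LinearMap.ker (f.rTensor N) = LinearMap.ker (g.rTensor N) := by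
  obtain ⟨Q', i1, i2, i3, g, h, hgh, hg⟩ := dom_family hM f
    (I := Σ n : ℕ, Σ K : Submodule R (Fin n → R), {x : P ⊗[R] ((Fin n → R) ⧸ K) // f.rTensor _ x = 0})
    (fun i => (Fin i.1 → R) ⧸ i.2.1) (fun i => i.2.2.1) (fun i => i.2.2.2)
  refine ⟨Q', i1, i2, i3, g, h, hgh, fun N _ _ => le_antisymm (fun x hx => ?_) ?_⟩
  · obtain ⟨N0, _, _, _, v, x0, hv, hx0⟩ := kill_right f hx
    obtain ⟨n, q, hq⟩ := Module.Finite.exists_fin' R N0
    let e : ((Fin n → R) ⧸ LinearMap.ker q) ≃ₗ[R] N0 := q.quotKerEquivOfSurjective hq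
    have hc : ∀ {A B : Type u} [AddCommGroup A] [Module R A] [AddCommGroup B] [Module R B] {P' : Type u}
        [AddCommGroup P'] [Module R P'] (a : A →ₗ[R] B) (φ : P →ₗ[R] P') (t : P ⊗[R] A),
        φ.rTensor B (a.lTensor P t) = a.lTensor P' (φ.rTensor A t) := by
      intro A B _ _ _ _ P' _ _ a φ t
      rw [← LinearMap.comp_apply, LinearMap.rTensor_comp_lTensor, ← LinearMap.lTensor_comp_rTensor, LinearMap.comp_apply]
    have h1 := hg ⟨n, LinearMap.ker q, e.symm.toLinearMap.lTensor P x0, by rw [hc, hx0, map_zero]⟩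
    have h2 : g.rTensor N0 x0 = 0 := by
      have h1' : g.rTensor _ (e.symm.toLinearMap.lTensor P x0) = 0 := h1
      rw [hc] at h1'
      have := congrArg (e.toLinearMap.lTensor Q') h1'
      rwa [map_zero, ← LinearMap.comp_apply, ← LinearMap.lTensor_comp, LinearEquiv.comp_symm,
        LinearMap.lTensor_id, LinearMap.id_apply] at this
    show g.rTensor N x = 0
    rw [← hv, hc, h2, map_zero]
  · rw [← hgh, LinearMap.rTensor_comp]
    exact LinearMap.ker_le_ker_comp _ _

theorem ml_of_dom_free {R : Type u} [CommRing R] {M : Type u} [AddCommGroup M] [Module R M]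
    (h : ∀ (n : ℕ) (f : (Fin n → R) →ₗ[R] M), ∃ (Q : Type u) (_ : AddCommGroup Q) (_ : Module R Q)
      (g : (Fin n → R) →ₗ[R] Q), CAlg.IsMittagLeffler R Q ∧
        ∀ (N : Type u) [AddCommGroup N] [Module R N], LinearMap.ker (f.rTensor N) = LinearMap.ker (g.rTensor N)) :
    CAlg.IsMittagLeffler R M := by
  refine of_zero fun ι Q _ _ z hz => ?_
  obtain ⟨n, f, y, rfl⟩ := exists_rep z
  obtain ⟨Q', _, _, g, hQ', hg⟩ := h n f
  have h1 : g.rTensor _ y = 0 := zero_of hQ' fun i => by
    rw [pr_nat]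
    have : piRightHom R R _ Q y i ∈ LinearMap.ker (f.rTensor (Q i)) := by
      show f.rTensor (Q i) _ = 0
      rw [← pr_nat, hz i]
    rw [hg] at this
    exact this
  have : y ∈ LinearMap.ker (g.rTensor (∀ i, Q i)) := h1
  rwa [← hg] at this

theorem dom_lTensor {R : Type u} [CommRing R] {P₁ P₂ P₃ : Type u} [AddCommGroup P₁] [Module R P₁]
    [AddCommGroup P₂] [Module R P₂] [AddCommGroup P₃] [Module R P₃] {f : P₁ →ₗ[R] P₂} {g : P₁ →ₗ[R] P₃}
    (h : ∀ (N : Type u) [AddCommGroup N] [Module R N], LinearMap.ker (f.rTensor N) = LinearMap.ker (g.rTensor N))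
    (X : Type u) [AddCommGroup X] [Module R X] (N : Type u) [AddCommGroup N] [Module R N]
    (z : X ⊗[R] (P₁ ⊗[R] N)) : (f.rTensor N).lTensor X z = 0 ↔ (g.rTensor N).lTensor X z = 0 := by
  have hc : ∀ {Y : Type u} [AddCommGroup Y] [Module R Y] (φ : P₁ →ₗ[R] Y),
      (φ.rTensor N).lTensor X z = 0 ↔ φ.rTensor (X ⊗[R] N) (TensorProduct.leftComm R X P₁ N z) = 0 := by
    intro Y _ _ φ
    rw [← (TensorProduct.leftComm R X Y N).map_eq_zero_iff]
    have : ∀ z : X ⊗[R] (P₁ ⊗[R] N), TensorProduct.leftComm R X Y N ((φ.rTensor N).lTensor X z) =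
        φ.rTensor (X ⊗[R] N) (TensorProduct.leftComm R X P₁ N z) := by
      intro z
      induction z with
      | zero => simp
      | tmul a b =>
        induction b with
        | zero => simp
        | tmul c d => simp
        | add c d hc hd => simp only [tmul_add, map_add, hc, hd]
      | add a b ha hb => simp only [map_add, ha, hb]
    rw [this]
  rw [hc, hc]
  exact SetLike.ext_iff.mp (h (X ⊗[R] N)) _

end Groth.Agent.MittagLeffler
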