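/-
coherent rings: fg submodules of finite free modules are finitely presented
-/
import Mathlib
import Groth.Agent.Lib.MittagLeffler

open TensorProduct

universe u

namespace Groth.Agent.CoherentRings


theorem coh_prod {R : Type u} [CommRing R] (A B : Type u) [AddCommGroup A] [Module R A]
    [AddCommGroup B] [Module R B]
    (hA : ∀ N : Submodule R A, N.FG → Module.FinitePresentation R N)
    (hB : ∀ N : Submodule R B, N.FG → Module.FinitePresentation R N) :
    ∀ N : Submodule R (A × B), N.FG → Module.FinitePresentation R N := by
  intro N hN
  haveI := Module.Finite.iff_fg.mpr hN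
  let p : N →ₗ[R] N.map (LinearMap.snd R A B) :=
    ((LinearMap.snd R A B) ∘ₗ N.subtype).codRestrict _ (fun x => Submodule.mem_map_of_mem x.2)
  have hp : Function.Surjective p := by
    rintro ⟨_, x, hx, rfl⟩
    exact ⟨⟨x, hx⟩, rfl⟩
  haveI := hB _ (hN.map (LinearMap.snd R A B))
  have hker : (LinearMap.ker p).FG := Module.FinitePresentation.fg_ker p hp
  let q : LinearMap.ker p →ₗ[R] A := (LinearMap.fst R A B) ∘ₗ N.subtype ∘ₗ (LinearMap.ker p).subtype
  have hq : Function.Injective q := by
    intro x y h
    refine Subtype.ext (Subtype.ext (Prod.ext h ?_))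
    have hx : p x.1 = 0 := x.2
    have hy : p y.1 = 0 := y.2
    have := congrArg Subtype.val (hx.trans hy.symm)
    exact this
  haveI := Module.Finite.iff_fg.mpr hker
  haveI := hA (LinearMap.range q) (Module.Finite.iff_fg.mp inferInstance)
  haveI : Module.FinitePresentation R (LinearMap.ker p) :=
    Module.FinitePresentation.of_equiv (R := R) (M := LinearMap.range q) (N := LinearMap.ker p) (LinearEquiv.ofInjective q hq).symm
  exact Module.finitePresentation_of_ker p hp

theorem coh_equiv {R : Type u} [CommRing R] {A B : Type u} [AddCommGroup A] [Module R A]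
    [AddCommGroup B] [Module R B] (e : B ≃ₗ[R] A)
    (hA : ∀ N : Submodule R A, N.FG → Module.FinitePresentation R N) :
    ∀ N : Submodule R B, N.FG → Module.FinitePresentation R N := by
  intro N hN
  haveI := hA _ (hN.map e.toLinearMap)
  exact Module.FinitePresentation.of_equiv (e.submoduleMap N).symm

theorem coh_free {R : Type u} [CommRing R]
    (hR : ∀ I : Ideal R, I.FG → Module.FinitePresentation R I) :
    ∀ (n : ℕ) (N : Submodule R (Fin n → R)), N.FG → Module.FinitePresentation R N := by
  intro n
  induction n with
  | zero =>
    intro N hN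
    haveI : Subsingleton N := ⟨fun x y => Subtype.ext (funext fun i => i.elim0)⟩
    haveI : Module.Free R N := Module.Free.of_subsingleton R N
    haveI := Module.Finite.iff_fg.mpr hN
    exact Module.finitePresentation_of_projective R N
  | succ n ih => exact coh_equiv (Fin.consLinearEquiv R (fun _ : Fin (n+1) => R)).symm (coh_prod R _ (fun N hN => hR N hN) ih)

end Groth.Agent.CoherentRings
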