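/-
Projectivity of cokernels via residue fields.
-/
import Mathlib

open TensorProduct
universe u v w

namespace Groth.Agent.CokernelProjective


theorem ker_le_range_iff {R : Type u} [CommRing R] {M : Type v} {N : Type w} [AddCommGroup M] [Module R M]
    [AddCommGroup N] [Module R N] (κ : Type u) [CommRing κ] [Algebra R κ] (d : M →ₗ[R] N) :
    LinearMap.ker (d.baseChange κ) ≤ LinearMap.range ((LinearMap.ker d).subtype.baseChange κ) ↔
      Function.Injective ((LinearMap.range d).subtype.baseChange κ) := by
  have hsur : Function.Surjective (d.rangeRestrict.baseChange κ) :=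
    LinearMap.lTensor_surjective κ d.surjective_rangeRestrict
  have hex : Function.Exact ((LinearMap.ker d).subtype.baseChange κ) (d.rangeRestrict.baseChange κ) := by
    have h : Function.Exact (LinearMap.ker d).subtype d.rangeRestrict := by
      rw [LinearMap.exact_iff, LinearMap.ker_rangeRestrict, Submodule.range_subtype]
    exact lTensor_exact κ h d.surjective_rangeRestrict
  have hd : d.baseChange κ = (LinearMap.range d).subtype.baseChange κ ∘ₗ d.rangeRestrict.baseChange κ := by
    rw [← LinearMap.baseChange_comp]; rfl
  constructor
  · intro h
    rw [injective_iff_map_eq_zero]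
    intro y hy
    obtain ⟨x, rfl⟩ := hsur y
    have hx : x ∈ LinearMap.ker (d.baseChange κ) := by
      rw [LinearMap.mem_ker, hd, LinearMap.comp_apply, hy]
    exact (hex x).mpr (h hx)
  · intro h x hx
    rw [LinearMap.mem_ker, hd, LinearMap.comp_apply] at hx
    exact (hex x).mp (h (hx.trans (map_zero _).symm))

theorem cancel_natural {R A κ : Type u} [CommRing R] [CommRing A] [CommRing κ] [Algebra R A] [Algebra A κ]
    [Algebra R κ] [IsScalarTower R A κ] {X : Type v} {Y : Type w} [AddCommGroup X] [Module R X]
    [AddCommGroup Y] [Module R Y] (f : X →ₗ[R] Y) (x : κ ⊗[A] (A ⊗[R] X)) :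
    AlgebraTensorModule.cancelBaseChange R A κ κ Y ((f.baseChange A).baseChange κ x) =
      f.baseChange κ (AlgebraTensorModule.cancelBaseChange R A κ κ X x) := by
  induction x using TensorProduct.induction_on with
  | zero => simp
  | tmul c y =>
    induction y using TensorProduct.induction_on with
    | zero => simp
    | tmul a z => simp
    | add y z hy hz => simp only [tmul_add, map_add, hy, hz]
  | add x y hx hy => simp only [map_add, hx, hy]

theorem free_iff_injective {R : Type u} [CommRing R] {M : Type v} {N : Type w} [AddCommGroup M] [Module R M]
    [AddCommGroup N] [Module R N] [Module.Finite R M] [Module.Finite R N] [Module.Projective R N]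
    (d : M →ₗ[R] N) (p : PrimeSpectrum R) :
    p ∈ Module.freeLocus R (N ⧸ LinearMap.range d) ↔
      Function.Injective ((LinearMap.range d).subtype.baseChange p.asIdeal.ResidueField) := by
  let A := Localization.AtPrime p.asIdeal
  let κ := p.asIdeal.ResidueField
  haveI : Module.Finite R (LinearMap.range d) := Module.Finite.range d
  rw [Module.mem_freeLocus_iff_tensor p A]
  let i := (LinearMap.range d).subtype
  have hinjA : Function.Injective (i.baseChange A) :=
    Module.Flat.lTensor_preserves_injective_linearMap i Subtype.val_injective
  have hex : Function.Exact (i.baseChange A) ((LinearMap.range d).mkQ.baseChange A) :=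
    lTensor_exact A (LinearMap.exact_subtype_mkQ _) (Submodule.mkQ_surjective _)
  have hsur : Function.Surjective ((LinearMap.range d).mkQ.baseChange A) :=
    LinearMap.lTensor_surjective A (Submodule.mkQ_surjective _)
  haveI : Module.Free A (A ⊗[R] N) := Module.free_of_flat_of_isLocalRing
  have key : Function.Injective ((i.baseChange A).baseChange κ) ↔ Function.Injective (i.baseChange κ) := by
    have h : (AlgebraTensorModule.cancelBaseChange R A κ κ N) ∘ ((i.baseChange A).baseChange κ) =
        (i.baseChange κ) ∘ (AlgebraTensorModule.cancelBaseChange R A κ κ (LinearMap.range d)) :=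
      funext fun x => cancel_natural i x
    constructor
    · intro hi
      rw [← Function.Injective.of_comp_iff' (i.baseChange κ)
        (AlgebraTensorModule.cancelBaseChange R A κ κ (LinearMap.range d)).bijective, ← h]
      exact (AlgebraTensorModule.cancelBaseChange R A κ κ N).injective.comp hi
    · intro hi
      have := hi.comp (AlgebraTensorModule.cancelBaseChange R A κ κ (LinearMap.range d)).injective
      rw [← h] at this
      exact this.of_comp
  rw [← key]
  constructor
  · intro hfree
    have := (Function.Exact.split_tfae hex hinjA hsur).out 0 1
    obtain ⟨l', hl'⟩ := this.mp (Module.projective_lifting_property _ _ hsur)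
    have h2 : (l'.baseChange κ) ∘ₗ ((i.baseChange A).baseChange κ) = LinearMap.id := by
      rw [← LinearMap.baseChange_comp, hl', LinearMap.baseChange_id]
    exact Function.HasLeftInverse.injective ⟨_, LinearMap.congr_fun h2⟩
  · intro hi
    exact Module.free_of_lTensor_residueField_injective (i.baseChange A) _ hsur hex hi

end Groth.Agent.CokernelProjective
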