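import Groth.Prelude.Def_DerLim
import Mathlib

/-! `1 - shift` on a countable coproduct: monomorphism with cokernel the colimit. -/

set_option autoImplicit false
set_option backward.isDefEq.respectTransparency.types false
set_option backward.isDefEq.respectTransparency false

universe v u

open CategoryTheory CategoryTheory.Limits

noncomputable section

namespace Groth.Agent.Lib.SeqColim

variable {A : Type u} [Category.{v} A]

section Pre
variable [Preadditive A] (K : ℕ → A) (f : ∀ n, K n ⟶ K (n + 1)) [HasCoproduct K]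

theorem ι_one_sub (n : ℕ) :
    Sigma.ι K n ≫ (𝟙 (∐ K) - DerLim.shiftMap K f) = Sigma.ι K n - f n ≫ Sigma.ι K (n + 1) := by
  rw [Preadditive.comp_sub, Category.comp_id, DerLim.shiftMap, Sigma.ι_desc]

theorem one_sub_comp_eq_zero_iff {T : A} (k : (∐ K) ⟶ T) :
    (𝟙 (∐ K) - DerLim.shiftMap K f) ≫ k = 0 ↔ ∀ n, f n ≫ Sigma.ι K (n + 1) ≫ k = Sigma.ι K n ≫ k := by
  constructor
  · intro h n
    have := Sigma.ι K n ≫= h
    rw [← Category.assoc, ι_one_sub, Preadditive.sub_comp, comp_zero, sub_eq_zero, Category.assoc] at this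
    exact this.symm
  · intro h
    refine Sigma.hom_ext _ _ fun n => ?_
    rw [← Category.assoc, ι_one_sub, Preadditive.sub_comp, comp_zero, sub_eq_zero, Category.assoc]
    exact (h n).symm

end Pre

variable [Abelian A] (K : ℕ → A) (f : ∀ n, K n ⟶ K (n + 1))

/-- partial sums -/
def P : ℕ → A
  | 0 => K 0
  | n + 1 => P n ⊞ K (n + 1)

/-- the last summand -/
def last : (n : ℕ) → (K n ⟶ P K n)
  | 0 => 𝟙 (K 0)
  | n + 1 => (biprod.inr : K (n + 1) ⟶ P K n ⊞ K (n + 1))

/-- inclusion -/
def inl (n : ℕ) : P K n ⟶ P K (n + 1) := (biprod.inl : P K n ⟶ P K n ⊞ K (n + 1))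

/-- `1 - shift` on partial sums -/
def g : (n : ℕ) → (P K n ⟶ P K (n + 1))
  | 0 => (last K 0 ≫ inl K 0 - f 0 ≫ last K 1 : K 0 ⟶ P K 1)
  | n + 1 => biprod.desc (g n ≫ inl K (n + 1)) (last K (n + 1) ≫ inl K (n + 1) - f (n + 1) ≫ last K (n + 2))

/-- projection -/
def fst (n : ℕ) : P K (n + 1) ⟶ P K n := (biprod.fst : P K n ⊞ K (n + 1) ⟶ P K n)

theorem mono_g_fst : ∀ n, Mono (g K f n ≫ fst K n)
  | 0 => by
    have h1 : inl K 0 ≫ fst K 0 = 𝟙 (P K 0) := biprod.inl_fst
    have h2 : last K 1 ≫ fst K 0 = 0 := biprod.inr_fst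
    have h : g K f 0 ≫ fst K 0 = 𝟙 (P K 0) := by
      show (((𝟙 (P K 0) : P K 0 ⟶ P K 0) ≫ inl K 0 : P K 0 ⟶ P K (0 + 1)) - ((f 0 : P K 0 ⟶ K 1) ≫ last K 1 : P K 0 ⟶ P K (0 + 1))) ≫ fst K 0 = 𝟙 (P K 0)
      rw [Category.id_comp, Preadditive.sub_comp, h1, Category.assoc, h2, comp_zero, sub_zero]
    rw [h]; infer_instance
  | n + 1 => by
    have h1 : inl K (n + 1) ≫ fst K (n + 1) = 𝟙 (P K (n + 1)) := biprod.inl_fst
    have h2 : last K (n + 2) ≫ fst K (n + 1) = 0 := biprod.inr_fst
    have h : g K f (n + 1) ≫ fst K (n + 1) = biprod.desc (g K f n) (last K (n + 1)) := by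
      refine biprod.hom_ext' _ _ ?_ ?_
      · simp only [g]
        erw [biprod.inl_desc_assoc, biprod.inl_desc]
        rw [Category.assoc, h1, Category.comp_id]
      · simp only [g]
        erw [biprod.inr_desc_assoc, biprod.inr_desc]
        rw [Preadditive.sub_comp, Category.assoc, Category.assoc, h1, h2, Category.comp_id, comp_zero, sub_zero]
    rw [h]
    haveI := mono_g_fst n
    refine Preadditive.mono_of_cancel_zero _ fun {T} (x : T ⟶ P K n ⊞ K (n + 1)) (hx : (x ≫ biprod.desc (g K f n) (last K (n + 1)) : T ⟶ P K (n + 1)) = 0) => ?_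
    have hx' : (x ≫ biprod.fst) ≫ g K f n + (x ≫ biprod.snd) ≫ last K (n + 1) = 0 := by
      rw [← hx]
      conv_rhs => rw [biprod.desc_eq, Preadditive.comp_add, ← Category.assoc, ← Category.assoc]
    have ha : x ≫ biprod.fst = 0 := by
      rw [← cancel_mono (g K f n ≫ fst K n), zero_comp]
      have := hx' =≫ fst K n
      have h3 : last K (n + 1) ≫ fst K n = 0 := biprod.inr_fst
      simpa [Preadditive.add_comp, Category.assoc, h3] using this
    have hb : x ≫ biprod.snd = 0 := by
      rw [ha, zero_comp, zero_add] at hx'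
      haveI : Mono (last K (n + 1)) := (inferInstance : Mono (biprod.inr : K (n+1) ⟶ P K n ⊞ K (n+1)))
      exact zero_of_comp_mono (last K (n + 1)) hx'
    exact biprod.hom_ext _ _ (by rw [ha, zero_comp]) (by rw [hb, zero_comp])

instance mono_g (n : ℕ) : Mono (g K f n) :=
  haveI := mono_g_fst K f n
  mono_of_mono (g K f n) (fst K n)

/-- the system of partial sums -/
abbrev F₁ : ℕ ⥤ A := Functor.ofSequence (inl K)

/-- the shifted system of partial sums -/
abbrev F₂ : ℕ ⥤ A := Functor.ofSequence (fun n => inl K (n + 1))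

theorem g_naturality (n : ℕ) : inl K n ≫ g K f (n + 1) = g K f n ≫ inl K (n + 1) := biprod.inl_desc _ _

/-- the natural transformation of partial sums -/
def φ : F₁ K ⟶ F₂ K :=
  NatTrans.ofSequence (fun n => g K f n) (fun n => by
    rw [Functor.ofSequence_map_homOfLE_succ, Functor.ofSequence_map_homOfLE_succ]
    exact g_naturality K f n)

variable [HasCoproduct K]

/-- the inclusion of a partial sum -/
def j : (n : ℕ) → (P K n ⟶ ∐ K)
  | 0 => Sigma.ι K 0
  | n + 1 => biprod.desc (j n) (Sigma.ι K (n + 1))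

theorem last_j : ∀ n, last K n ≫ j K n = Sigma.ι K n
  | 0 => Category.id_comp _
  | _ + 1 => biprod.inr_desc _ _

theorem inl_j (n : ℕ) : inl K n ≫ j K (n + 1) = j K n := biprod.inl_desc _ _

/-- the first colimit cocone -/
def c₁ : Cocone (F₁ K) :=
  ⟨∐ K, NatTrans.ofSequence (fun n => j K n) (fun n => by
    rw [Functor.ofSequence_map_homOfLE_succ]
    exact (inl_j K n).trans (Category.comp_id _).symm)⟩

/-- it is a colimit -/
def hc₁ : IsColimit (c₁ K) where
  desc s := Sigma.desc fun n => last K n ≫ s.ι.app n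
  fac s := by
    intro n
    show j K n ≫ Sigma.desc (fun n => last K n ≫ s.ι.app n) = s.ι.app n
    induction n with
    | zero => exact (Sigma.ι_desc _ 0).trans (Category.id_comp _)
    | succ n ih =>
      have hw : inl K n ≫ s.ι.app (n + 1) = s.ι.app n := by
        have := s.w (homOfLE (Nat.le_add_right n 1))
        rwa [Functor.ofSequence_map_homOfLE_succ] at this
      refine biprod.hom_ext' _ _ ?_ ?_
      · exact ((biprod.inl_desc_assoc _ _ _).trans ih).trans hw.symm
      · exact (biprod.inr_desc_assoc _ _ _).trans (Sigma.ι_desc _ (n + 1))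
  uniq s m hm := by
    refine Sigma.hom_ext _ _ fun n => ?_
    rw [Sigma.ι_desc]
    have : j K n ≫ m = s.ι.app n := hm n
    rw [← this, ← Category.assoc, last_j]

/-- the second colimit cocone -/
def c₂ : Cocone (F₂ K) :=
  ⟨∐ K, NatTrans.ofSequence (fun n => j K (n + 1)) (fun n => by
    rw [Functor.ofSequence_map_homOfLE_succ]
    exact (inl_j K (n + 1)).trans (Category.comp_id _).symm)⟩

/-- it is a colimit -/
def hc₂ : IsColimit (c₂ K) where
  desc s := Sigma.desc fun n => (last K n ≫ inl K n) ≫ s.ι.app n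
  fac s := by
    have hj : ∀ n, j K n ≫ Sigma.desc (fun n => (last K n ≫ inl K n) ≫ s.ι.app n) = inl K n ≫ s.ι.app n := by
      intro n
      induction n with
      | zero => exact (Sigma.ι_desc _ 0).trans (by rw [Category.assoc]; exact Category.id_comp _)
      | succ n ih =>
        have hw : inl K (n + 1) ≫ s.ι.app (n + 1) = s.ι.app n := by
          have := s.w (homOfLE (Nat.le_add_right n 1))
          rwa [Functor.ofSequence_map_homOfLE_succ] at this
        refine biprod.hom_ext' _ _ ?_ ?_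
        · refine (biprod.inl_desc_assoc _ _ _).trans (ih.trans ?_)
          rw [hw]; rfl
        · refine (biprod.inr_desc_assoc _ _ _).trans ((Sigma.ι_desc _ (n + 1)).trans ?_)
          rw [Category.assoc]; rfl
    intro n
    show j K (n + 1) ≫ _ = _
    have hw : inl K (n + 1) ≫ s.ι.app (n + 1) = s.ι.app n := by
      have := s.w (homOfLE (Nat.le_add_right n 1))
      rwa [Functor.ofSequence_map_homOfLE_succ] at this
    exact (hj (n + 1)).trans hw
  uniq s m hm := by
    refine Sigma.hom_ext _ _ fun n => ?_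
    rw [Sigma.ι_desc]
    have : j K (n + 1) ≫ m = s.ι.app n := hm n
    rw [← this, ← Category.assoc, Category.assoc (last K n) (inl K n), inl_j, last_j]

theorem g_j : ∀ n, g K f n ≫ j K (n + 1) = j K n ≫ (𝟙 (∐ K) - DerLim.shiftMap K f)
  | 0 => by
    show (last K 0 ≫ inl K 0 - f 0 ≫ last K 1) ≫ j K 1 = Sigma.ι K 0 ≫ _
    rw [ι_one_sub, Preadditive.sub_comp, Category.assoc, inl_j, Category.assoc, last_j, last_j]
  | n + 1 => by
    refine biprod.hom_ext' _ _ ?_ ?_
    · refine (biprod.inl_desc_assoc _ _ _).trans (Eq.trans ?_ (biprod.inl_desc_assoc _ _ _).symm)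
      rw [Category.assoc, inl_j]; exact g_j n
    · refine (biprod.inr_desc_assoc _ _ _).trans (Eq.trans ?_ (biprod.inr_desc_assoc _ _ _).symm)
      rw [ι_one_sub, Preadditive.sub_comp, Category.assoc, inl_j, Category.assoc, last_j, last_j]

variable [HasColimitsOfShape ℕ A] [HasExactColimitsOfShape ℕ A]

/-- `1 - shift` is a monomorphism -/
theorem mono_one_sub : Mono (𝟙 (∐ K) - DerLim.shiftMap K f) := by
  haveI : ∀ n, Mono ((φ K f).app n) := fun n => mono_g K f n
  haveI : Mono (φ K f) := NatTrans.mono_of_mono_app _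
  exact colim.map_mono' (φ K f) (hc₁ K) (hc₂ K) _ (fun n => (g_j K f n).symm)

omit [HasColimitsOfShape ℕ A] [HasExactColimitsOfShape ℕ A] in
theorem one_sub_desc {Q : A} (i : ∀ n, K n ⟶ Q) (hi : ∀ n, f n ≫ i (n + 1) = i n) :
    (𝟙 (∐ K) - DerLim.shiftMap K f) ≫ Sigma.desc i = 0 := by
  rw [one_sub_comp_eq_zero_iff]; intro n; rw [Sigma.ι_desc, Sigma.ι_desc, hi]

/-- the colimit is the cokernel of `1 - shift` -/
def isCokernel (F : ℕ ⥤ A) [HasCoproduct F.obj] {c : Cocone F} (hc : IsColimit c)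
    (w : (𝟙 (∐ F.obj) - DerLim.shiftMap F.obj (fun n => F.map (homOfLE (Nat.le_succ n)))) ≫
      Sigma.desc (fun n => c.ι.app n) = 0) :
    IsColimit (CokernelCofork.ofπ _ w) :=
  CokernelCofork.IsColimit.ofπ _ _
    (fun {T} k hk => hc.desc ⟨T, NatTrans.ofSequence (fun n => Sigma.ι F.obj n ≫ k)
      (fun n => ((one_sub_comp_eq_zero_iff F.obj _ k).1 hk n).trans (Category.comp_id _).symm)⟩)
    (fun {T} k hk => Sigma.hom_ext _ _ fun n => by
      rw [← Category.assoc, Sigma.ι_desc, hc.fac]; rfl)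
    (fun {T} k hk b hb => hc.hom_ext fun n => by
      rw [hc.fac]
      show _ = Sigma.ι F.obj n ≫ k
      rw [← hb, ← Category.assoc, Sigma.ι_desc])

theorem shortExact (F : ℕ ⥤ A) [HasCoproduct F.obj] {c : Cocone F} (hc : IsColimit c) :
    ∃ w : (𝟙 (∐ F.obj) - DerLim.shiftMap F.obj (fun n => F.map (homOfLE (Nat.le_succ n)))) ≫
      Sigma.desc (fun n => c.ι.app n) = 0, (ShortComplex.mk _ _ w).ShortExact := by
  refine ⟨one_sub_desc _ _ _ fun n => c.w _, ?_⟩
  have hC := isCokernel F hc (one_sub_desc _ _ _ fun n => c.w _)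
  exact
    { exact := ShortComplex.exact_of_g_is_cokernel _ hC
      mono_f := mono_one_sub F.obj _
      epi_g := Cofork.IsColimit.epi hC }

end Groth.Agent.Lib.SeqColim
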