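import Groth.Agent.Lib.FinEnvelope
import Groth.Agent.Lib.SeqColim
import Mathlib

/-! Every object of a compactly generated triangulated category is a sequential homotopy colimit
of iterated extensions of coproducts of the generators. -/

set_option autoImplicit false
set_option backward.isDefEq.respectTransparency.types false

universe v u

open CategoryTheory CategoryTheory.Limits CategoryTheory.Pretriangulated
open Groth.Agent.Lib.FinEnvelope

noncomputable section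

namespace Groth.Agent.Lib.CompactTower

variable {D : Type u} [Category.{v} D] [Preadditive D] [HasZeroObject D] [HasShift D ℤ]
  [∀ n : ℤ, (shiftFunctor D n).Additive] [Pretriangulated D] [IsTriangulated D] [HasCoproducts.{v} D]
  [HasColimitsOfShape (Discrete ℕ) D] {ι : Type v} (E : ι → D) (X : D)

/-- index of the maps to `X` -/
abbrev I₀ : Type v := Σ (i : ι) (m : ULift.{v} ℤ), (E i)⟦m.down⟧ ⟶ X

/-- index of the maps killed by `π` -/
abbrev I₁ {K : D} (π : K ⟶ X) : Type v :=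
  Σ (i : ι) (m : ULift.{v} ℤ), {g : (E i)⟦m.down⟧ ⟶ K // g ≫ π = 0}

/-- sum over `I₀` -/
abbrev S₀ : D := ∐ fun k : I₀ E X => (E k.1)⟦k.2.1.down⟧

/-- sum over `I₁` -/
abbrev S₁ {K : D} (π : K ⟶ X) : D := ∐ fun k : I₁ E X π => (E k.1)⟦k.2.1.down⟧

/-- the kill map -/
abbrev y₁ {K : D} (π : K ⟶ X) : S₁ E X π ⟶ K :=
  Sigma.desc (f := fun k : I₁ E X π => (E k.1)⟦k.2.1.down⟧) fun k => k.2.2.1

omit [IsTriangulated D] [HasColimitsOfShape (Discrete ℕ) D] in
theorem exists_next {K : D} (π : K ⟶ X) :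
    ∃ (K' : D) (f : K ⟶ K') (z : K' ⟶ (S₁ E X π)⟦(1 : ℤ)⟧) (π' : K' ⟶ X),
      Triangle.mk (y₁ E X π) f z ∈ distinguishedTriangles ∧ π = f ≫ π' := by
  obtain ⟨K', f, z, hT⟩ := distinguished_cocone_triangle (y₁ E X π)
  have h0 : y₁ E X π ≫ π = (0 : S₁ E X π ⟶ X) := Sigma.hom_ext _ _ fun k => by
    rw [← Category.assoc, Sigma.ι_desc, comp_zero]; exact k.2.2.2
  obtain ⟨π', hπ'⟩ : ∃ π' : K' ⟶ X, π = f ≫ π' := Triangle.yoneda_exact₂ _ hT π h0
  exact ⟨K', f, z, π', hT, hπ'⟩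

/-- the tower -/
def tower : ℕ → Σ K : D, (K ⟶ X)
  | 0 => ⟨S₀ E X, Sigma.desc (f := fun k : I₀ E X => (E k.1)⟦k.2.1.down⟧) fun k => k.2.2⟩
  | n + 1 => ⟨(exists_next E X (tower n).2).choose, (exists_next E X (tower n).2).choose_spec.choose_spec.choose_spec.choose⟩

/-- objects of the tower -/
abbrev K (n : ℕ) : D := (tower E X n).1

/-- augmentation of the tower -/
abbrev π (n : ℕ) : K E X n ⟶ X := (tower E X n).2

/-- transition maps -/
def f (n : ℕ) : K E X n ⟶ K E X (n + 1) := (exists_next E X (tower E X n).2).choose_spec.choose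

/-- connecting maps -/
def z (n : ℕ) : K E X (n + 1) ⟶ (S₁ E X (π E X n))⟦(1 : ℤ)⟧ :=
  (exists_next E X (tower E X n).2).choose_spec.choose_spec.choose

theorem tri (n : ℕ) : Triangle.mk (y₁ E X (π E X n)) (f E X n) (z E X n) ∈ distinguishedTriangles :=
  (exists_next E X (tower E X n).2).choose_spec.choose_spec.choose_spec.choose_spec.1

theorem π_f (n : ℕ) : π E X n = f E X n ≫ π E X (n + 1) :=
  (exists_next E X (tower E X n).2).choose_spec.choose_spec.choose_spec.choose_spec.2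

theorem killed {i : ι} {m : ℤ} (n : ℕ) (x : (E i)⟦m⟧ ⟶ K E X n) (hx : x ≫ π E X n = 0) : x ≫ f E X n = 0 := by
  have h : y₁ E X (π E X n) ≫ f E X n = 0 := comp_distTriang_mor_zero₁₂ _ (tri E X n)
  have e : Sigma.ι (fun k : I₁ E X (π E X n) => (E k.1)⟦k.2.1.down⟧) ⟨i, ⟨m⟩, x, hx⟩ ≫ y₁ E X (π E X n) = x :=
    Sigma.ι_desc _ _
  rw [← e]
  exact (Category.assoc _ _ _).trans ((congrArg (_ ≫ ·) h).trans comp_zero)

section Nat
variable (Y : ℕ → D)

/-- comparison with the lifted index set -/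
def up : (∐ Y) ⟶ ∐ (fun n : ULift.{v} ℕ => Y n.down) :=
  Sigma.desc fun n => Sigma.ι (fun n : ULift.{v} ℕ => Y n.down) ⟨n⟩

/-- projection to a summand -/
def prN (n : ℕ) : (∐ Y) ⟶ Y n := up Y ≫ pr (fun n : ULift.{v} ℕ => Y n.down) ⟨n⟩

omit [HasZeroObject D] [HasShift D ℤ] [∀ n : ℤ, (shiftFunctor D n).Additive] [Pretriangulated D] [IsTriangulated D] in
theorem ι_prN_self (n : ℕ) : Sigma.ι Y n ≫ prN Y n = 𝟙 _ := by
  rw [prN, up, ← Category.assoc, Sigma.ι_desc]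
  exact ι_pr_self (fun n : ULift.{v} ℕ => Y n.down) ⟨n⟩

omit [HasZeroObject D] [HasShift D ℤ] [∀ n : ℤ, (shiftFunctor D n).Additive] [Pretriangulated D] [IsTriangulated D] in
theorem ι_prN_ne {m n : ℕ} (h : m ≠ n) : Sigma.ι Y m ≫ prN Y n = 0 := by
  rw [prN, up, ← Category.assoc, Sigma.ι_desc]
  exact ι_pr_ne (fun n : ULift.{v} ℕ => Y n.down) (by simpa using h)

omit [HasZeroObject D] [HasShift D ℤ] [∀ n : ℤ, (shiftFunctor D n).Additive] [Pretriangulated D] [IsTriangulated D] in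
theorem small_nat {C : D} (hC : Small D C) (v : C ⟶ ∐ Y) :
    ∃ t : Finset ℕ, v = ∑ n ∈ t, (v ≫ prN Y n) ≫ Sigma.ι Y n := by
  obtain ⟨t, ht⟩ := hC (fun n : ULift.{v} ℕ => Y n.down) (v ≫ up Y)
  let down : (∐ fun n : ULift.{v} ℕ => Y n.down) ⟶ ∐ Y := Sigma.desc fun n => Sigma.ι Y n.down
  have hud : up Y ≫ down = 𝟙 _ := Sigma.hom_ext _ _ fun n => by
    rw [up, ← Category.assoc, Sigma.ι_desc, Sigma.ι_desc, Category.comp_id]
  refine ⟨t.map Equiv.ulift.toEmbedding, ?_⟩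
  have h := ht =≫ down
  rw [et, Preadditive.comp_sum, Preadditive.sum_comp, Category.assoc, hud, Category.comp_id] at h
  rw [Finset.sum_map]
  refine h.symm.trans (Finset.sum_congr rfl fun n _ => ?_)
  simp [down, prN]
  rfl

omit [HasZeroObject D] [HasShift D ℤ] [∀ n : ℤ, (shiftFunctor D n).Additive] [Pretriangulated D] [IsTriangulated D] in
theorem eq_zero {C : D} (hC : Small D C) (g : ∀ n, Y n ⟶ Y (n + 1)) (v : C ⟶ ∐ Y)
    (hv : v ≫ (𝟙 (∐ Y) - DerLim.shiftMap Y g) = 0) : v = 0 := by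
  have h0 : ∀ n, v ≫ prN Y n = 0 := by
    intro n
    induction n with
    | zero =>
      have h : (𝟙 (∐ Y) - DerLim.shiftMap Y g) ≫ prN Y 0 = prN Y 0 := Sigma.hom_ext _ _ fun m => by
        rw [← Category.assoc, SeqColim.ι_one_sub, Preadditive.sub_comp, Category.assoc,
          ι_prN_ne Y (Nat.succ_ne_zero m), comp_zero, sub_zero]
      have := hv =≫ prN Y 0
      rwa [Category.assoc, h, zero_comp] at this
    | succ n ih =>
      have h : (𝟙 (∐ Y) - DerLim.shiftMap Y g) ≫ prN Y (n + 1) = prN Y (n + 1) - prN Y n ≫ g n :=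
        Sigma.hom_ext _ _ fun m => by
          rw [← Category.assoc, SeqColim.ι_one_sub, Preadditive.sub_comp, Category.assoc, Preadditive.comp_sub]
          by_cases hm : m = n
          · subst hm
            rw [← Category.assoc _ (prN Y m), ι_prN_self Y m, ι_prN_self Y (m + 1), Category.comp_id, Category.id_comp]
          · rw [← Category.assoc _ (prN Y n), ι_prN_ne Y hm, ι_prN_ne Y (by omega : m + 1 ≠ n + 1), comp_zero, zero_comp]
      have := hv =≫ prN Y (n + 1)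
      rwa [Category.assoc, h, zero_comp, Preadditive.comp_sub, ← Category.assoc, ih, zero_comp, sub_zero] at this
  obtain ⟨t, ht⟩ := small_nat Y hC v
  rw [ht]
  exact Finset.sum_eq_zero fun n _ => by rw [h0, zero_comp]

end Nat

theorem main (hc : ∀ i, CohDer.IsCompactObject (E i)) (hg : CohDer.Generates E) :
    ∃ (K : ℕ → D) (f : ∀ n, K n ⟶ K (n + 1)) (i : ∀ n, K n ⟶ X),
      DerLim.IsHocolim K f X i ∧
      (∃ (κ : Type v) (a : κ → ι) (m : κ → ℤ), Nonempty (K 0 ≅ ∐ (fun k => (shiftFunctor D (m k)).obj (E (a k))))) ∧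
      ∀ n, ∃ (κ : Type v) (a : κ → ι) (m : κ → ℤ) (y : (∐ fun k => (shiftFunctor D (m k)).obj (E (a k))) ⟶ K n)
        (z : K (n + 1) ⟶ (shiftFunctor D (1 : ℤ)).obj (∐ fun k => (shiftFunctor D (m k)).obj (E (a k)))),
        Triangle.mk y (f n) z ∈ distinguishedTriangles := by
  classical
  let K' := K E X
  let f' := f E X
  obtain ⟨L, j, c, hT⟩ := distinguished_cocone_triangle (𝟙 (∐ K') - DerLim.shiftMap K' f')
  obtain ⟨φ, hφ⟩ : ∃ φ : L ⟶ X, Sigma.desc (π E X) = j ≫ φ :=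
    Triangle.yoneda_exact₂ _ hT (Sigma.desc (π E X))
      ((SeqColim.one_sub_comp_eq_zero_iff K' f' _).2 fun n => by
        rw [Sigma.ι_desc, Sigma.ι_desc]; exact (π_f E X n).symm)
  let i' : ∀ n, K' n ⟶ L := fun n => Sigma.ι K' n ≫ j
  have hj : Sigma.desc i' = j := Sigma.hom_ext _ _ fun n => by rw [Sigma.ι_desc]
  have hi' : ∀ n, f' n ≫ i' (n + 1) = i' n := fun n =>
    (SeqColim.one_sub_comp_eq_zero_iff K' f' j).1 (comp_distTriang_mor_zero₁₂ _ hT) n
  have hiφ : ∀ n, i' n ≫ φ = π E X n := fun n => by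
    rw [Category.assoc, ← hφ, Sigma.ι_desc]
  have hS : ∀ (a : ι) (m : ℤ), Small D ((E a)⟦m⟧) := fun a m =>
    (FinEnvelope.Small D).le_shift m _ (small_of_compact (hc a))
  have surj : ∀ (a : ι) (m : ℤ) (g : (E a)⟦m⟧ ⟶ X), ∃ g', g' ≫ φ = g := fun a m g =>
    ⟨(Sigma.ι (fun k : I₀ E X => (E k.1)⟦k.2.1.down⟧) ⟨a, ⟨m⟩, g⟩ : _ ⟶ K' 0) ≫ i' 0, by
      exact ((Category.assoc _ _ _).trans (congrArg (_ ≫ ·) (hiφ 0))).trans (Sigma.ι_desc _ _)⟩
  have inj : ∀ (a : ι) (m : ℤ) (u : (E a)⟦m⟧ ⟶ L), u ≫ φ = 0 → u = 0 := by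
    intro a m u hu
    have hw : u ≫ c = 0 := by
      obtain ⟨v, hv⟩ := (shiftFunctor D (1 : ℤ)).map_surjective
        (((shiftFunctorAdd' D (m - 1) 1 m (by omega)).inv.app (E a)) ≫ u ≫ c)
      have hv0 : v = 0 := by
        refine eq_zero K' (hS a (m - 1)) f' v ((shiftFunctor D (1 : ℤ)).map_injective ?_)
        have h31 : c ≫ (𝟙 (∐ K') - DerLim.shiftMap K' f')⟦(1 : ℤ)⟧' = 0 := comp_distTriang_mor_zero₃₁ _ hT
        rw [Functor.map_comp, hv, Functor.map_zero, Category.assoc, Category.assoc, h31, comp_zero, comp_zero]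
      rw [← cancel_epi ((shiftFunctorAdd' D (m - 1) 1 m (by omega)).inv.app (E a)), comp_zero]
      refine hv.symm.trans ?_
      rw [hv0, Functor.map_zero]
    obtain ⟨v, hv⟩ : ∃ v : (E a)⟦m⟧ ⟶ ∐ K', u = v ≫ j := Triangle.coyoneda_exact₃ _ hT u hw
    obtain ⟨t, ht⟩ := small_nat K' (hS a m) v
    have push : ∀ (n N : ℕ), n ≤ N → ∀ x : (E a)⟦m⟧ ⟶ K' n, ∃ y : (E a)⟦m⟧ ⟶ K' N, x ≫ i' n = y ≫ i' N := by
      intro n N hN x
      induction N, hN using Nat.le_induction with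
      | base => exact ⟨x, rfl⟩
      | succ N _ ih =>
        obtain ⟨y, hy⟩ := ih
        exact ⟨y ≫ f' N, by rw [Category.assoc, hi', hy]⟩
    let N := t.sup id
    choose y hy using fun n : {n // n ∈ t} => push n.1 N (Finset.le_sup (f := id) n.2) (v ≫ prN K' n.1)
    have hu' : u = (∑ n ∈ t.attach, y n) ≫ i' N := by
      rw [hv, ht, Preadditive.sum_comp, Preadditive.sum_comp, ← Finset.sum_attach t]
      exact Finset.sum_congr rfl fun n _ => (Category.assoc _ _ _).trans (hy n)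
    have hx : (∑ n ∈ t.attach, y n) ≫ π E X N = 0 := by
      rw [← hiφ, ← Category.assoc, ← hu', hu]
    rw [hu', ← hi' N, ← Category.assoc, killed E X N _ hx, zero_comp]
  haveI : IsIso φ := by
    obtain ⟨Z, α, β, hZ⟩ := distinguished_cocone_triangle φ
    refine (Triangle.isZero₃_iff_isIso₁ _ hZ).1 (hg Z fun a n g => ?_)
    have key : ∀ (m : ℤ) (w : (E a)⟦m⟧ ⟶ Z), w = 0 := by
      intro m w
      have hwβ : w ≫ β = 0 := by
        obtain ⟨u₀, hu₀⟩ := (shiftFunctor D (1 : ℤ)).map_surjective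
          (((shiftFunctorAdd' D (m - 1) 1 m (by omega)).inv.app (E a)) ≫ w ≫ β)
        have hu0 : u₀ = 0 := by
          refine inj a (m - 1) u₀ ((shiftFunctor D (1 : ℤ)).map_injective ?_)
          have h31 : β ≫ φ⟦(1 : ℤ)⟧' = 0 := comp_distTriang_mor_zero₃₁ _ hZ
          rw [Functor.map_comp, hu₀, Functor.map_zero, Category.assoc, Category.assoc, h31, comp_zero, comp_zero]
        rw [← cancel_epi ((shiftFunctorAdd' D (m - 1) 1 m (by omega)).inv.app (E a)), comp_zero]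
        refine hu₀.symm.trans ?_
        rw [hu0, Functor.map_zero]
      obtain ⟨g₁, rfl⟩ : ∃ g₁ : (E a)⟦m⟧ ⟶ X, w = g₁ ≫ α := Triangle.coyoneda_exact₃ _ hZ w hwβ
      obtain ⟨g₂, rfl⟩ := surj a m g₁
      have h12 : φ ≫ α = 0 := comp_distTriang_mor_zero₁₂ _ hZ
      rw [Category.assoc, h12, comp_zero]
    obtain ⟨w, hw⟩ := (shiftFunctor D n).map_surjective ((shiftNegShift (E a) n).hom ≫ g)
    rw [key (-n) w, Functor.map_zero] at hw
    rw [← cancel_epi (shiftNegShift (E a) n).hom, comp_zero]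
    exact hw.symm
  refine ⟨K', f', fun n => i' n ≫ φ, ⟨inv φ ≫ c, ?_⟩,
    ⟨I₀ E X, fun k => k.1, fun k => k.2.1.down, ⟨Iso.refl _⟩⟩,
    fun n => ⟨I₁ E X (π E X n), fun k => k.1, fun k => k.2.1.down, y₁ E X (π E X n), z E X n, tri E X n⟩⟩
  have hd : Sigma.desc (fun n => i' n ≫ φ) = j ≫ φ := Sigma.hom_ext _ _ fun n => by
    rw [Sigma.ι_desc, ← hj, ← Category.assoc, Sigma.ι_desc]
  refine isomorphic_distinguished _ hT _ (Triangle.isoMk _ _ (Iso.refl _) (Iso.refl _) (asIso φ).symm ?_ ?_ ?_)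
  · exact (Category.comp_id _).trans (Category.id_comp _).symm
  · show Sigma.desc (fun n => i' n ≫ φ) ≫ inv φ = 𝟙 _ ≫ j
    rw [hd, Category.assoc, IsIso.hom_inv_id, Category.comp_id, Category.id_comp]
  · show (inv φ ≫ c) ≫ (shiftFunctor D (1 : ℤ)).map (𝟙 _) = inv φ ≫ c
    rw [CategoryTheory.Functor.map_id, Category.comp_id]

end Groth.Agent.Lib.CompactTower
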