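/-
Finite algebras over complete local rings.
-/
import Mathlib

open TensorProduct
universe u

namespace Groth.Agent.CompleteSemilocal


theorem isPrecomplete_finite {A : Type u} [CommRing A] (I : Ideal A) [IsAdicComplete I A] (M : Type u)
    [AddCommGroup M] [Module A M] [Module.Finite A M] : IsPrecomplete I M := by
  refine AdicCompletion.of_surjective_iff.mp fun y => ?_
  obtain ⟨t, rfl⟩ := AdicCompletion.ofTensorProduct_surjective_of_finite I M y
  induction t using TensorProduct.induction_on with
  | zero => exact ⟨0, by simp⟩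
  | tmul r x =>
    obtain ⟨a, rfl⟩ := AdicCompletion.of_surjective_iff.mpr (inferInstance : IsPrecomplete I A) r
    refine ⟨a • x, ?_⟩
    rw [AdicCompletion.ofTensorProduct_tmul, map_smul]
    ext n
    rfl
  | add s t hs ht =>
    obtain ⟨a, ha⟩ := hs
    obtain ⟨b, hb⟩ := ht
    exact ⟨a + b, by rw [map_add, map_add, ha, hb]⟩

theorem isAdicComplete_finite {A : Type u} [CommRing A] [IsNoetherianRing A] (I : Ideal A)
    [IsAdicComplete I A] (M : Type u) [AddCommGroup M] [Module A M] [Module.Finite A M] :
    IsAdicComplete I M :=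
  { toIsHausdorff := IsHausdorff.of_le_jacobson (I := I) (M := M) (IsAdicComplete.le_jacobson_bot I)
    toIsPrecomplete := isPrecomplete_finite I M }

theorem isAdicComplete_of_between {S : Type u} [CommRing S] (I J : Ideal S) (N : ℕ) (hN : J ^ N ≤ I)
    (hIJ : I ≤ J) [IsAdicComplete I S] : IsAdicComplete J S where
  haus' x hx := IsHausdorff.haus' (I := I) x fun n => (hx (N * n)).mono (Submodule.smul_mono_left (by
    rw [pow_mul]; exact Ideal.pow_right_mono hN n))
  prec' f hf := by
    have hg : ∀ {m n}, m ≤ n → f (N * m) ≡ f (N * n) [SMOD (I ^ m • ⊤ : Submodule S S)] := fun {m n} h =>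
      (hf (Nat.mul_le_mul_left N h)).mono (Submodule.smul_mono_left (by
        rw [pow_mul]; exact Ideal.pow_right_mono hN m))
    obtain ⟨L, hL⟩ := IsPrecomplete.prec' (fun n => f (N * n)) hg
    refine ⟨L, fun n => ?_⟩
    have h2 : f (N * n) ≡ L [SMOD (J ^ n • ⊤ : Submodule S S)] :=
      (hL n).mono (Submodule.smul_mono_left (Ideal.pow_right_mono hIJ n))
    rcases le_total n (N * n) with h | h
    · exact (hf h).trans h2
    · rcases Nat.eq_zero_or_pos N with rfl | hN0
      · have hI : I = ⊤ := top_le_iff.mp (by simpa using hN)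
        have hJ : J = ⊤ := top_le_iff.mp (hI ▸ hIJ)
        rw [hJ, Ideal.top_pow, Submodule.top_smul]
        exact SModEq.top
      · have : N * n = n := le_antisymm h (Nat.le_mul_of_pos_left n hN0)
        rwa [this] at h2

theorem exists_idem {S : Type u} [CommRing S] (I : Ideal S) [HenselianRing S I] (a : S)
    (ha : a * a - a ∈ I) : ∃ e : S, IsIdempotentElem e ∧ e - a ∈ I := by
  open Polynomial in
  obtain ⟨e, he, hea⟩ := HenselianRing.is_henselian (I := I) (X ^ 2 - X : S[X])
    (monic_X_pow_sub (degree_X_le.trans_lt (by norm_num))) a (by simpa [pow_two] using ha) (by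
      have h1 : (Ideal.Quotient.mk I a) * Ideal.Quotient.mk I a = Ideal.Quotient.mk I a := by
        rw [← map_mul]; exact Ideal.Quotient.eq.mpr ha
      simp only [derivative_sub, derivative_X_pow, derivative_X, eval_sub, eval_mul, eval_C, eval_pow,
        eval_X, eval_one, Nat.cast_ofNat, pow_one]
      refine IsUnit.of_mul_eq_one (Ideal.Quotient.mk I (2 * a - 1)) ?_
      rw [show (2 : ℕ) - 1 = 1 from rfl, pow_one]
      rw [map_sub, map_mul, map_one, map_ofNat]
      linear_combination (4 * h1))
  refine ⟨e, ?_, hea⟩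
  rw [Polynomial.IsRoot.def] at he
  simp only [Polynomial.eval_sub, Polynomial.eval_pow, Polynomial.eval_X] at he
  exact show e * e = e by linear_combination he

end Groth.Agent.CompleteSemilocal
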