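/-
Change of ideal of completeness.
-/
import Mathlib
import Groth.Agent.Lib.CompletionQuotients

open Pointwise
universe u

namespace Groth.Agent.CompletenessChange


theorem lift_split {R : Type u} [CommRing R] [IsNoetherianRing R] (I : Ideal R) (M N : Type u)
    [AddCommGroup M] [Module R M] [Module.Finite R M] [AddCommGroup N] [Module R N] [Module.Finite R N] (u : N →ₗ[R] M)
    (c : ℕ) (hc : ∀ (g : M →ₗ[R] N ⧸ (I ^ (c + 1) • ⊤ : Submodule R N)),
      ∃ φ : M →ₗ[R] N, ∀ x, (Submodule.Quotient.mk (φ x) : N ⧸ (I • ⊤ : Submodule R N)) =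
        Submodule.factor (Submodule.smul_mono_left (Ideal.pow_le_self c.succ_ne_zero)) (g x))
    (n : ℕ) (hn : c + 1 ≤ n) (s : (M ⧸ (I ^ n) • (⊤ : Submodule R M)) →ₗ[R] (N ⧸ (I ^ n) • (⊤ : Submodule R N)))
    (hs : ∀ x : N, s (Submodule.Quotient.mk (u x)) = Submodule.Quotient.mk x) :
    ∃ φ : M →ₗ[R] N, ∀ x, φ (u x) - x ∈ (I • ⊤ : Submodule R N) := by
  obtain ⟨φ, hφ⟩ := hc ((Submodule.factor (Submodule.smul_mono_left (Ideal.pow_le_pow_right hn))) ∘ₗ s ∘ₗ
    Submodule.mkQ _)
  refine ⟨φ, fun x => ?_⟩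
  rw [← Submodule.Quotient.eq, hφ]
  simp only [LinearMap.comp_apply, Submodule.mkQ_apply, hs]
  rfl

theorem series_limit {A : Type u} [CommRing A] (J : Ideal A) {M : Type u} [AddCommGroup M] [Module A M]
    [IsPrecomplete J M] (b : ℕ → M) (hb : ∀ n, b n ∈ (J ^ n • ⊤ : Submodule A M)) :
    ∃ L : M, ∀ n, (∑ m ∈ Finset.range n, b m) - L ∈ (J ^ n • ⊤ : Submodule A M) := by
  obtain ⟨L, hL⟩ := IsPrecomplete.prec' (I := J) (fun n => ∑ m ∈ Finset.range n, b m) (fun {m n} hmn => by
    rw [SModEq.sub_mem, ← Finset.sum_range_add_sum_Ico _ hmn, sub_add_cancel_left]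
    exact neg_mem (Submodule.sum_mem _ fun i hi =>
      Submodule.smul_mono_left (Ideal.pow_le_pow_right (Finset.mem_Ico.mp hi).1) (hb i)))
  exact ⟨L, fun n => SModEq.sub_mem.mp (hL n)⟩

theorem exists_combination {A : Type u} [CommRing A] {M : Type u} [AddCommGroup M] [Module A M] {g : ℕ}
    (e : Fin g → A) (K : Submodule A M) {x : M} (hx : x ∈ Ideal.span (Set.range e) • K) :
    ∃ y : Fin g → M, (∀ i, y i ∈ K) ∧ x = ∑ i, e i • y i := by
  induction hx using Submodule.smul_induction_on' with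
  | smul r hr m hm =>
    obtain ⟨a, rfl⟩ := (Submodule.mem_span_range_iff_exists_fun A).mp hr
    exact ⟨fun i => a i • m, fun i => K.smul_mem _ hm, by simp [Finset.sum_smul, smul_smul, mul_comm]⟩
  | add x _ y _ hx hy =>
    obtain ⟨a, ha, rfl⟩ := hx
    obtain ⟨b, hb, rfl⟩ := hy
    exact ⟨a + b, fun i => add_mem (ha i) (hb i), by simp [Finset.sum_add_distrib]⟩

theorem le_jacobson {A : Type u} [CommRing A] (I J : Ideal A) [IsAdicComplete I A]
    [IsAdicComplete (Ideal.map (Ideal.Quotient.mk I) J) (A ⧸ I)] : J ≤ (⊥ : Ideal A).jacobson := by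
  intro x hx
  rw [Ideal.mem_jacobson_bot]
  intro y
  have h1 : IsUnit (Ideal.Quotient.mk I (x * y + 1)) := by
    rw [map_add, map_mul, map_one]
    exact Ideal.mem_jacobson_bot.mp (IsAdicComplete.le_jacobson_bot (Ideal.map (Ideal.Quotient.mk I) J)
      (Ideal.mem_map_of_mem _ hx)) (Ideal.Quotient.mk I y)
  haveI := isLocalHom_of_le_jacobson_bot I (IsAdicComplete.le_jacobson_bot I)
  exact h1.of_map

theorem step {A : Type u} [CommRing A] [IsNoetherianRing A] (I J : Ideal A) [IsAdicComplete I A]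
    [IsAdicComplete (Ideal.map (Ideal.Quotient.mk I) J) (A ⧸ I)] (x : ℕ → A)
    (hx : ∀ {m n}, m ≤ n → x m - x n ∈ J ^ m) (k : ℕ) (Y : A) (hY : ∀ n, x n - Y ∈ J ^ n ⊔ I ^ k) :
    ∃ Y', Y' - Y ∈ I ^ k ∧ ∀ n, x n - Y' ∈ J ^ n ⊔ I ^ (k + 1) := by
  obtain ⟨g, e, he⟩ := Submodule.fg_iff_exists_fin_generating_family.mp (IsNoetherian.noetherian (I ^ k))
  obtain ⟨c, hc⟩ := Ideal.exists_pow_inf_eq_pow_smul J (I ^ k : Submodule A A)
  choose a ha r hr har using fun n => Submodule.mem_sup.mp (hY n)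
  have hd : ∀ n, r (n + c) - r (n + c + 1) ∈ Ideal.span (Set.range e) • (J ^ n • ⊤ : Submodule A A) := by
    intro n
    have h1 : r (n + c) - r (n + c + 1) ∈ (J ^ (n + c) • ⊤ ⊓ I ^ k : Submodule A A) := by
      refine ⟨?_, sub_mem (hr _) (hr _)⟩
      rw [Ideal.smul_top_eq_map, Algebra.algebraMap_self, Ideal.map_id, Submodule.restrictScalars_self]
      have : r (n + c) - r (n + c + 1) = (x (n + c) - x (n + c + 1)) - a (n + c) + a (n + c + 1) := by
        linear_combination har (n + c) - har (n + c + 1)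
      rw [this]
      exact add_mem (sub_mem (hx (Nat.le_succ _)) (ha _)) (Ideal.pow_le_pow_right (Nat.le_succ _) (ha _))
    rw [hc (n + c) (by omega), Nat.add_sub_cancel] at h1
    have h2 := Submodule.smul_mono le_rfl (inf_le_right : (J ^ c • ⊤ ⊓ I ^ k : Submodule A A) ≤ I ^ k) h1
    rw [show Ideal.span (Set.range e) = I ^ k from he]
    rw [smul_eq_mul, mul_comm] at h2
    rwa [Ideal.smul_top_eq_map, Algebra.algebraMap_self, Ideal.map_id, Submodule.restrictScalars_self, smul_eq_mul]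
  choose y hy hye using fun n => exists_combination e _ (hd n)
  choose Z hZ using fun i => series_limit (Ideal.map (Ideal.Quotient.mk I) J)
    (fun n => Ideal.Quotient.mk I (y n i)) (fun n => by
      have h := hy n i
      rw [Ideal.smul_top_eq_map, Algebra.algebraMap_self, Ideal.map_id, Submodule.restrictScalars_self] at h
      rw [Ideal.smul_top_eq_map, Algebra.algebraMap_self, Ideal.map_id, Submodule.restrictScalars_self,
        ← Ideal.map_pow]
      exact Ideal.mem_map_of_mem _ h)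
  choose z hz using fun i => Ideal.Quotient.mk_surjective (Z i)
  have htel : ∀ n, r c - r (n + c) = ∑ i, e i • ∑ m ∈ Finset.range n, y m i := by
    intro n
    induction n with
    | zero => simp
    | succ n ih =>
      simp only [Finset.sum_range_succ, smul_add, Finset.sum_add_distrib, ← hye, ← ih]
      rw [show n + 1 + c = n + c + 1 by omega]; abel
  have heI : ∀ i, e i ∈ I ^ k := fun i => he ▸ Submodule.subset_span (Set.mem_range_self i)
  refine ⟨Y + r c - ∑ i, e i • z i, ?_, fun n => ?_⟩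
  · rw [add_sub_assoc, add_sub_cancel_left]
    exact sub_mem (hr c) (Ideal.sum_mem _ fun i _ => Ideal.mul_mem_right _ _ (heI i))
  · have h1 : ∀ i, (∑ m ∈ Finset.range n, y m i) - z i ∈ J ^ n ⊔ I := fun i => by
      have h := hZ i n
      rw [Ideal.smul_top_eq_map, Algebra.algebraMap_self, Ideal.map_id, Submodule.restrictScalars_self,
        ← Ideal.map_pow, ← hz i, ← map_sum, ← map_sub, Ideal.mem_quotient_iff_mem_sup] at h
      exact h
    have h2 : x n - (Y + r c - ∑ i, e i • z i) = (x n - x (n + c)) + a (n + c) -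
        ∑ i, e i • ((∑ m ∈ Finset.range n, y m i) - z i) := by
      simp only [smul_sub, Finset.sum_sub_distrib, ← htel]
      linear_combination -(har (n + c))
    rw [h2]
    refine sub_mem (Submodule.mem_sup_left (add_mem (hx (Nat.le_add_right n c))
      (Ideal.pow_le_pow_right (Nat.le_add_right n c) (ha _)))) (Ideal.sum_mem _ fun i _ => ?_)
    obtain ⟨p, hp, q, hq, hpq⟩ := Submodule.mem_sup.mp (h1 i)
    rw [← hpq, smul_eq_mul, mul_add]
    exact Submodule.add_mem_sup (Ideal.mul_mem_left _ _ hp) (by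
      rw [pow_succ]; exact Ideal.mul_mem_mul (heI i) hq)

end Groth.Agent.CompletenessChange
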