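import Groth.Agent.Lib.RegularLocalBasic
import Mathlib.RingTheory.Regular.ProjectiveDimension
import Mathlib.RingTheory.Regular.Free
import Mathlib.RingTheory.Flat.Stability
import Mathlib.RingTheory.Flat.FaithfullyFlat.Algebra
import Mathlib.RingTheory.Ideal.AssociatedPrime.Finiteness
import Mathlib.CategoryTheory.Abelian.Injective.Dimension
import Mathlib.Algebra.Category.ModuleCat.EnoughInjectives
import Mathlib.Algebra.Module.Injective
import Mathlib.RingTheory.LocalRing.Module
import Mathlib.RingTheory.TensorProduct.Quotient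
import Mathlib.LinearAlgebra.FreeModule.PID
import Mathlib.RingTheory.Localization.AtPrime.Basic

/-!
# Serre's homological characterisation of regular local rings

Projective dimension is stated as `HasProjectiveDimensionLT (ModuleCat.of R M) n`.
-/

set_option autoImplicit false
set_option maxHeartbeats 400000
set_option synthInstance.maxHeartbeats 60000
set_option linter.unusedVariables false

universe u

open IsLocalRing CategoryTheory TensorProduct Pointwise

namespace Groth.Agent.RegLocal

section API

variable {R : Type u} [CommRing R]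

abbrev PdLT (R : Type u) [CommRing R] (M : Type u) [AddCommGroup M] [Module R M] (n : ℕ) : Prop :=
  HasProjectiveDimensionLT (ModuleCat.of R M) n

variable {M N : Type u} [AddCommGroup M] [Module R M] [AddCommGroup N] [Module R N]

lemma pdLT_congr (e : M ≃ₗ[R] N) {n : ℕ} (h : PdLT R M n) : PdLT R N n :=
  hasProjectiveDimensionLT_of_iso e.toModuleIso n

lemma pdLT_mono {n m : ℕ} (hnm : n ≤ m) (h : PdLT R M n) : PdLT R M m :=
  hasProjectiveDimensionLT_of_ge (ModuleCat.of R M) n m hnm

lemma pdLT_one_iff : PdLT R M 1 ↔ Module.Projective R M :=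
  projective_iff_hasProjectiveDimensionLT_one.symm.trans
    (IsProjective.iff_projective (R := R) M).symm

lemma pdLT_ker_iff {F : Type u} [AddCommGroup F] [Module R F] [Module.Projective R F]
    (f : F →ₗ[R] M) (hf : Function.Surjective f) (n : ℕ) :
    PdLT R M (n + 2) ↔ PdLT R (LinearMap.ker f) (n + 1) :=
  (LinearMap.shortExact_shortComplexKer hf).hasProjectiveDimensionLT_X₃_iff n
    ((IsProjective.iff_projective (R := R) F).mp inferInstance)

lemma free_of_pdLT_one [IsLocalRing R] [IsNoetherianRing R] [Module.Finite R M] (h : PdLT R M 1) :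
    Module.Free R M :=
  have := pdLT_one_iff.mp h
  have : Module.FinitePresentation R M := Module.finitePresentation_of_finite R M
  Module.free_of_flat_of_isLocalRing

end API

section Quot

variable {R : Type u} [CommRing R] {M : Type u} [AddCommGroup M] [Module R M]

lemma isSMulRegular_pi {x : R} (hx : IsSMulRegular R x) (r : ℕ) : IsSMulRegular (Fin r → R) x :=
  fun a b h => funext fun i => hx (congrFun h i)

lemma isSMulRegular_submodule {x : R} (N : Submodule R M) (hx : IsSMulRegular M x) :
    IsSMulRegular N x :=
  fun a b h => Subtype.ext (hx (congrArg Subtype.val h))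

/-- For `x` regular on `R` and on `M`, projective dimension is unchanged modulo `x`. -/
theorem pdLT_quotSMulTop_iff [IsLocalRing R] [IsNoetherianRing R] {x : R}
    (hxm : x ∈ maximalIdeal R) (hxR : IsSMulRegular R x) :
    ∀ (n : ℕ) (M : Type u) [AddCommGroup M] [Module R M] [Module.Finite R M],
      IsSMulRegular M x →
        (PdLT (R ⧸ Ideal.span {x}) (QuotSMulTop x M) (n + 1) ↔ PdLT R M (n + 1)) := by
  have hxloc := isLocalRing_quotient (I := Ideal.span {x}) ((Ideal.span_singleton_le_iff_mem _).mpr hxm)
  intro n
  induction n with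
  | zero =>
    intro M _ _ _ hxM
    have : Module.FinitePresentation R M := Module.finitePresentation_of_finite R M
    have hfin : Module.Finite (R ⧸ Ideal.span {x}) (QuotSMulTop x M) :=
      Module.Finite.of_restrictScalars_finite R _ _
    have hxj : x ∈ (⊥ : Ideal R).jacobson := maximalIdeal_le_jacobson _ hxm
    constructor
    · intro h
      have := (Module.free_quotSMulTop_iff_free R M hxj hxM).mp (free_of_pdLT_one h)
      exact pdLT_one_iff.mpr inferInstance
    · intro h
      have := (Module.free_quotSMulTop_iff_free R M hxj hxM).mpr (free_of_pdLT_one h)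
      exact pdLT_one_iff.mpr inferInstance
  | succ n ih =>
    intro M _ _ _ hxM
    obtain ⟨r, f, hf⟩ := Module.Finite.exists_fin' R M
    have hK : IsSMulRegular (LinearMap.ker f) x :=
      isSMulRegular_submodule _ (isSMulRegular_pi hxR r)
    let g : QuotSMulTop x (Fin r → R) →ₗ[R ⧸ Ideal.span {x}] QuotSMulTop x M :=
      (QuotSMulTop.map x f).extendScalarsOfSurjective Ideal.Quotient.mk_surjective
    let i : QuotSMulTop x (LinearMap.ker f) →ₗ[R ⧸ Ideal.span {x}] QuotSMulTop x (Fin r → R) :=
      (QuotSMulTop.map x (LinearMap.ker f).subtype).extendScalarsOfSurjective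
        Ideal.Quotient.mk_surjective
    have hg : Function.Surjective g := QuotSMulTop.map_surjective x hf
    have hexact : Function.Exact i g :=
      QuotSMulTop.map_exact x (LinearMap.exact_subtype_ker_map f) hf
    have hi : Function.Injective i := by
      rw [injective_iff_map_eq_zero]
      intro a ha
      obtain ⟨a, rfl⟩ := Submodule.Quotient.mk_surjective _ a
      have ha' : (Submodule.Quotient.mk (a : Fin r → R) : QuotSMulTop x (Fin r → R)) = 0 := ha
      rw [Submodule.Quotient.mk_eq_zero, Submodule.mem_smul_pointwise_iff_exists] at ha' ⊢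
      obtain ⟨b, -, hb⟩ := ha'
      have hfb : x • f b = x • (0 : M) := by rw [← map_smul, hb, smul_zero]; exact a.2
      exact ⟨⟨b, hxM hfb⟩, trivial, Subtype.ext hb⟩
    let e : QuotSMulTop x (LinearMap.ker f) ≃ₗ[R ⧸ Ideal.span {x}] LinearMap.ker g :=
      (LinearEquiv.ofInjective i hi).trans (LinearEquiv.ofEq _ _ hexact.linearMap_ker_eq.symm)
    rw [pdLT_ker_iff f hf, pdLT_ker_iff g hg, ← ih _ hK]
    exact ⟨pdLT_congr e.symm, pdLT_congr e⟩

end Quot

section GlobalDimension

variable {R : Type u} [CommRing R]

/-- Over a regular local ring finite modules have projective dimension at most the dimension. -/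
theorem pdLT_of_regular_finite :
    ∀ (d : ℕ) (R : Type u) [CommRing R] [IsRegularLocalRing R],
      (maximalIdeal R).spanFinrank = d →
      ∀ (M : Type u) [AddCommGroup M] [Module R M] [Module.Finite R M], PdLT R M (d + 1) := by
  intro d
  induction d with
  | zero =>
    intro R _ _ h M _ _ _
    rw [spanFinrank_maximalIdeal_eq_finrank_cotangentSpace, finrank_cotangentSpace_eq_zero_iff] at h
    letI := h.toField
    exact pdLT_one_iff.mpr (Module.Projective.of_free)
  | succ d ih =>
    intro R _ _ h M _ _ _
    have : IsDomain R := isDomain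
    obtain ⟨x, hx, hx2⟩ : ∃ x ∈ maximalIdeal R, x ∉ maximalIdeal R ^ 2 := by
      refine SetLike.not_le_iff_exists.mp fun hle => ?_
      have : maximalIdeal R = ⊥ := by
        refine Submodule.eq_bot_of_le_smul_of_le_jacobson_bot (maximalIdeal R) _
          (maximalIdeal R).fg_of_isNoetherianRing ?_ (maximalIdeal_le_jacobson _)
        rwa [smul_eq_mul, ← pow_two]
      rw [this] at h
      simp at h
    have hx0 : x ≠ 0 := fun e => hx2 (e ▸ Ideal.zero_mem _)
    have hxR : IsSMulRegular R x := fun a b e => mul_left_cancel₀ hx0 e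
    obtain ⟨hreg, hdim⟩ := quotient_singleton hx hx2
    have hd : (maximalIdeal (R ⧸ Ideal.span {x})).spanFinrank = d := by
      rw [dim_eq (R := R ⧸ Ideal.span {x}), dim_eq, h] at hdim
      norm_cast at hdim
      omega
    obtain ⟨r, f, hf⟩ := Module.Finite.exists_fin' R M
    have hK : IsSMulRegular (LinearMap.ker f) x :=
      isSMulRegular_submodule _ (isSMulRegular_pi hxR r)
    have : Module.Finite (R ⧸ Ideal.span {x}) (QuotSMulTop x (LinearMap.ker f)) :=
      Module.Finite.of_restrictScalars_finite R _ _
    exact (pdLT_ker_iff f hf d).mpr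
      ((pdLT_quotSMulTop_iff hx hxR d _ hK).mp (ih _ hd _))

open Limits in
/-- Auslander's criterion: injective dimension is tested on cyclic modules. -/
theorem hasInjectiveDimensionLT_of_quotients :
    ∀ (n : ℕ) (N : ModuleCat.{u} R),
      (∀ I : Ideal R, Subsingleton (Abelian.Ext (ModuleCat.of R (R ⧸ I)) N (n + 1))) →
      HasInjectiveDimensionLT N (n + 1) := by
  intro n
  induction n with
  | zero =>
    intro N h
    rw [← injective_iff_hasInjectiveDimensionLT_one]
    have : Module.Baer R N := by
      intro I g
      let S := (I.mkQ).shortComplexKer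
      have hS : S.ShortExact := LinearMap.shortExact_shortComplexKer I.mkQ_surjective
      let g' : S.X₁ ⟶ N := ModuleCat.ofHom (g.comp (LinearEquiv.ofEq _ _ I.ker_mkQ).toLinearMap)
      have h0 : hS.extClass.comp (Abelian.Ext.mk₀ g') (add_zero 1) = 0 :=
        (h I).elim _ _
      obtain ⟨y, hy⟩ := Abelian.Ext.contravariant_sequence_exact₁ hS N (Abelian.Ext.mk₀ g') rfl h0
      obtain ⟨k, rfl⟩ := (Abelian.Ext.mk₀_bijective _ _).2 y
      rw [Abelian.Ext.mk₀_comp_mk₀, (Abelian.Ext.mk₀_bijective _ _).1.eq_iff] at hy
      refine ⟨k.hom, fun a ha => ?_⟩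
      have := congrArg (fun q => q.hom ⟨a, I.ker_mkQ.symm ▸ ha⟩) hy
      exact this
    have := Module.Baer.injective this
    exact Module.injective_object_of_injective_module R N
  | succ n ih =>
    intro N h
    obtain ⟨⟨E, _, ι, hι⟩⟩ := EnoughInjectives.presentation N
    let S := ShortComplex.mk ι (cokernel.π ι) (cokernel.condition ι)
    have hS : S.ShortExact := { exact := ShortComplex.exact_cokernel ι }
    have hC : HasInjectiveDimensionLT S.X₃ (n + 1) := by
      refine ih _ fun I => ⟨fun a b => ?_⟩
      suffices ∀ e : Abelian.Ext (ModuleCat.of R (R ⧸ I)) S.X₃ (n + 1), e = 0 by rw [this a, this b]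
      intro e
      obtain ⟨e', rfl⟩ := Abelian.Ext.covariant_sequence_exact₃ _ hS e rfl ((h I).elim _ _)
      rw [(HasInjectiveDimensionLT.subsingleton E 1 (n + 1) (by omega) _).elim e' 0]
      simp
    exact (hS.hasInjectiveDimensionLT_X₃_iff n (by assumption)).mp hC

/-- Over a regular local ring every module has projective dimension at most the dimension. -/
theorem pdLT_of_regular [IsRegularLocalRing R] (d : ℕ) (hd : (maximalIdeal R).spanFinrank = d)
    (M : Type u) [AddCommGroup M] [Module R M] : PdLT R M (d + 1) := by
  refine HasProjectiveDimensionLT.mk fun i hi Y e => ?_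
  have hY : HasInjectiveDimensionLT Y (d + 1) :=
    hasInjectiveDimensionLT_of_quotients d Y fun I =>
      have := pdLT_of_regular_finite d R hd (R ⧸ I)
      HasProjectiveDimensionLT.subsingleton (ModuleCat.of R (R ⧸ I)) (d + 1) (d + 1) le_rfl Y
  exact e.eq_zero_of_hasInjectiveDimensionLT (d + 1) hi

end GlobalDimension

section FiniteProjDim

variable {R : Type u} [CommRing R] [IsLocalRing R] [IsNoetherianRing R]

/-- A surjection from a finite free module with kernel inside `m` times it. -/
theorem exists_minimal_cover (M : Type u) [AddCommGroup M] [Module R M] [Module.Finite R M] :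
    ∃ (r : ℕ) (f : (Fin r → R) →ₗ[R] M), Function.Surjective f ∧
      ∀ v ∈ LinearMap.ker f, ∀ i, v i ∈ maximalIdeal R := by
  classical
  have hex : ∃ r, ∃ f : (Fin r → R) →ₗ[R] M, Function.Surjective f :=
    Module.Finite.exists_fin' R M
  let r := Nat.find hex
  obtain ⟨f, hf⟩ := Nat.find_spec hex
  refine ⟨r, f, hf, fun v hv i => ?_⟩
  by_contra hvi
  have hu : IsUnit (v i) := by simpa using hvi
  obtain ⟨r', hr'⟩ : ∃ r', r = r' + 1 := ⟨r - 1, by have := i.2; omega⟩
  apply Nat.find_min hex (m := r') (by change r' < r; omega)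
  let e : Fin r' → Fin r := fun j => Fin.cast hr'.symm ((Fin.cast hr' i).succAbove j)
  refine ⟨Fintype.linearCombination R (fun j => f (Pi.single (e j) 1)), ?_⟩
  rw [← LinearMap.range_eq_top, Fintype.range_linearCombination, eq_top_iff,
    ← LinearMap.range_eq_top.mpr hf, LinearMap.range_eq_map,
    ← (Pi.basisFun R (Fin r)).span_eq, Submodule.map_span, Submodule.span_le]
  rintro _ ⟨_, ⟨k, rfl⟩, rfl⟩
  rw [Pi.basisFun_apply, SetLike.mem_coe]
  by_cases hk : k = i
  · subst hk
    have hv' : v = ∑ j, v j • Pi.single j (1 : R) := by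
      conv_lhs => rw [← (Pi.basisFun R (Fin r)).sum_repr v]
      simp
    have h0 : ∑ j, v j • f (Pi.single j (1 : R)) = 0 := by
      simp only [← map_smul, ← map_sum, ← hv', LinearMap.mem_ker.mp hv]
    rw [← Finset.add_sum_erase _ _ (Finset.mem_univ k), add_eq_zero_iff_eq_neg] at h0
    obtain ⟨u, hu'⟩ := hu
    rw [show f (Pi.single k 1) = (↑u⁻¹ : R) • (v k • f (Pi.single k 1)) by
      rw [← hu', smul_smul, Units.inv_mul, one_smul], h0]
    refine Submodule.smul_mem _ _ (neg_mem (Submodule.sum_mem _ fun j hj => Submodule.smul_mem _ _ ?_))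
    obtain ⟨j', hj'⟩ := Fin.exists_succAbove_eq (x := Fin.cast hr' j) (y := Fin.cast hr' k)
      (fun h => (Finset.mem_erase.mp hj).1 (Fin.cast_injective _ h))
    exact Submodule.subset_span ⟨j', by
      simp only [e, hj']; rfl⟩
  · obtain ⟨j', hj'⟩ := Fin.exists_succAbove_eq (x := Fin.cast hr' k) (y := Fin.cast hr' i)
      (fun h => hk (Fin.cast_injective _ h))
    exact Submodule.subset_span ⟨j', by
      simp only [e, hj']; rfl⟩

/-- In depth zero, finite projective dimension implies free. -/
theorem free_of_pdLT_of_socle {z : R} (hz : z ≠ 0) (hzm : ∀ a ∈ maximalIdeal R, z * a = 0) :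
    ∀ (n : ℕ) (M : Type u) [AddCommGroup M] [Module R M] [Module.Finite R M],
      PdLT R M (n + 1) → Module.Free R M := by
  intro n
  induction n with
  | zero => intro M _ _ _ h; exact free_of_pdLT_one h
  | succ n ih =>
    intro M _ _ _ h
    obtain ⟨r, f, hf, hker⟩ := exists_minimal_cover (R := R) M
    have := ih _ ((pdLT_ker_iff f hf n).mp h)
    have h0 : LinearMap.ker f = ⊥ := by
      rw [← Submodule.subsingleton_iff_eq_bot]
      by_contra hns
      rw [not_subsingleton_iff_nontrivial] at hns
      let b := Module.Free.chooseBasis R (LinearMap.ker f)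
      obtain ⟨j⟩ := b.index_nonempty
      have : z • b j = 0 := Subtype.ext (funext fun i => hzm _ (hker _ (b j).2 i))
      have := congrArg (fun q => b.repr q j) this
      simp [hz] at this
    exact Module.Free.of_equiv (LinearEquiv.ofBijective f ⟨LinearMap.ker_eq_bot.mp h0, hf⟩)

/-- If `x` is a nonzerodivisor in `m` with `R/x` regular then `R` is regular. -/
theorem regular_of_quotient {x : R} (hx : x ∈ maximalIdeal R) (hreg : x ∈ nonZeroDivisors R)
    [IsRegularLocalRing (R ⧸ Ideal.span ({x} : Set R))] : IsRegularLocalRing R := by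
  have hq := dim_eq (R := R ⧸ Ideal.span {x})
  have hd := ringKrullDim_quotient_span_singleton_succ_eq_ringKrullDim_of_mem_nonZeroDivisors hreg hx
  refine IsRegularLocalRing.of_spanFinrank_maximalIdeal_le R ?_
  rw [← hd, hq, ← Nat.cast_one (R := WithBot ℕ∞), ← Nat.cast_add, Nat.cast_le]
  classical
  let π := Ideal.Quotient.mk (Ideal.span {x})
  have hfg := (maximalIdeal (R ⧸ Ideal.span {x})).fg_of_isNoetherianRing
  obtain ⟨g, hg⟩ : ∃ g : Finset (R ⧸ Ideal.span {x}), g.card = (maximalIdeal (R ⧸ Ideal.span {x})).spanFinrank ∧ Ideal.span (g : Set (R ⧸ Ideal.span {x})) = maximalIdeal _ := by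
    refine ⟨(Submodule.FG.finite_generators hfg).toFinset, ?_, ?_⟩
    · rw [← Set.ncard_eq_toFinset_card _ (Submodule.FG.finite_generators hfg), Submodule.FG.generators_ncard hfg]
    · rw [Set.Finite.coe_toFinset]; exact Submodule.span_generators _
  let l : Finset R := g.image (Function.surjInv Ideal.Quotient.mk_surjective)
  have himg : π '' (l : Set R) = g := by
    simp only [l, Finset.coe_image, ← Set.image_comp]
    convert Set.image_id _
    funext z
    exact Function.surjInv_eq Ideal.Quotient.mk_surjective z
  have hm : maximalIdeal R = Ideal.span ((insert x l : Finset R) : Set R) := by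
    have h1 : (maximalIdeal R).map π = Ideal.span (g : Set (R ⧸ Ideal.span {x})) := by
      rw [hg.2]; exact map_maximalIdeal_quotient
    rw [Finset.coe_insert, Set.insert_eq, Ideal.span_union]
    have h2 := congrArg (Ideal.comap π) (h1.trans ((congrArg Ideal.span himg.symm).trans (Ideal.map_span π _).symm))
    rw [Ideal.comap_map_of_surjective' π Ideal.Quotient.mk_surjective, Ideal.comap_map_of_surjective' π Ideal.Quotient.mk_surjective, Ideal.mk_ker] at h2
    rw [sup_eq_left.mpr (by rw [Ideal.span_le]; simpa using hx)] at h2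
    rw [h2, sup_comm]
  rw [hm]
  refine (Submodule.spanFinrank_span_le_ncard_of_finite (Finset.finite_toSet _)).trans ?_
  rw [Set.ncard_coe_finset, ← hg.1]
  exact (Finset.card_insert_le _ _).trans (Nat.add_le_add_right Finset.card_image_le 1)

end FiniteProjDim

/-- Serre: finite projective dimension of the residue field implies regularity. -/
theorem regular_of_pdLT :
    ∀ (k : ℕ) (R : Type u) [CommRing R] [IsLocalRing R] [IsNoetherianRing R],
      (maximalIdeal R).spanFinrank ≤ k →
      ∀ n, PdLT R (maximalIdeal R) (n + 1) → IsRegularLocalRing R := by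
  classical
  intro k
  induction k with
  | zero =>
    intro R _ _ _ h n _
    refine IsRegularLocalRing.of_spanFinrank_maximalIdeal_le R ?_
    rw [Nat.le_zero.mp h]
    exact ringKrullDim_nonneg_of_nontrivial
  | succ k ih =>
    intro R _ _ _ hk n hn
    by_cases hm : maximalIdeal R = ⊥
    · refine IsRegularLocalRing.of_spanFinrank_maximalIdeal_le R ?_
      rw [hm]
      simpa using ringKrullDim_nonneg_of_nontrivial
    -- the maximal ideal contains a nonzerodivisor
    have hnd : ¬ Disjoint (maximalIdeal R : Set R) (nonZeroDivisors R) := by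
      intro hdis
      obtain ⟨z, hz, hz0⟩ := SetLike.exists_of_lt
        (Ideal.bot_lt_annihilator_of_disjoint_nonZeroDivisors hdis)
      have hzm : ∀ a ∈ maximalIdeal R, z * a = 0 := fun a ha =>
        congrArg Subtype.val (Module.mem_annihilator.mp hz ⟨a, ha⟩)
      have hnt : Nontrivial (ResidueField R) :=
        Ideal.Quotient.nontrivial_iff.mpr (maximalIdeal.isMaximal R).ne_top
      have hk : PdLT R (ResidueField R) (n + 2) := by
        refine (pdLT_ker_iff (maximalIdeal R).mkQ (Submodule.mkQ_surjective _) n).mpr ?_
        exact pdLT_congr (LinearEquiv.ofEq _ _ (maximalIdeal R).ker_mkQ.symm) hn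
      have : Module.Free R (ResidueField R) := free_of_pdLT_of_socle hz0 hzm (n + 1) _ hk
      apply hm
      rw [eq_bot_iff]
      intro a ha
      let b := Module.Free.chooseBasis R (ResidueField R)
      obtain ⟨j⟩ := b.index_nonempty
      have h0 : a • b j = 0 := by
        rw [Algebra.smul_def, show algebraMap R (ResidueField R) a = 0 from
          (IsLocalRing.residue_eq_zero_iff a).mpr ha, zero_mul]
      have := congrArg (fun q => b.repr q j) h0
      simpa using this
    obtain ⟨x, hx, hx'⟩ : ∃ x, x ∈ maximalIdeal R ∧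
        x ∉ ⋃ p ∈ insert (maximalIdeal R ^ 2) (associatedPrimes R R), (p : Set R) := by
      refine Set.not_subset.mp fun hle => ?_
      rw [Ideal.subset_union_prime_finite ((associatedPrimes.finite R R).insert _)
        (maximalIdeal R ^ 2) (maximalIdeal R ^ 2)] at hle
      · obtain ⟨p, hp, hle⟩ := hle
        rcases Set.mem_insert_iff.mp hp with rfl | hp
        · apply hm
          refine Submodule.eq_bot_of_le_smul_of_le_jacobson_bot (maximalIdeal R) _
            (maximalIdeal R).fg_of_isNoetherianRing ?_ (maximalIdeal_le_jacobson _)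
          rw [smul_eq_mul, ← pow_two]
          exact hle
        · apply hnd
          rw [Set.disjoint_left]
          intro a ha hreg
          have : a ∈ ⋃ p ∈ associatedPrimes R R, (p : Set R) :=
            Set.mem_iUnion₂_of_mem hp (hle ha)
          rw [biUnion_associatedPrimes_eq_compl_nonZeroDivisors] at this
          exact this hreg
      · intro p hp hne _
        rcases Set.mem_insert_iff.mp hp with rfl | hp
        · exact absurd rfl hne
        · exact IsAssociatedPrime.isPrime hp
    simp only [Set.mem_iUnion, Set.mem_insert_iff, SetLike.mem_coe, not_exists] at hx'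
    have hxnd : x ∈ nonZeroDivisors R := by
      by_contra h
      have : x ∈ (nonZeroDivisors R : Set R)ᶜ := h
      rw [← biUnion_associatedPrimes_eq_compl_nonZeroDivisors] at this
      simp only [Set.mem_iUnion] at this
      obtain ⟨p, hp, hxp⟩ := this
      exact hx' p (Or.inr hp) hxp
    have hxR : IsSMulRegular R x := Module.Flat.isSMulRegular_of_nonZeroDivisors hxnd
    have hx2 : x ∉ maximalIdeal R ^ 2 := hx' _ (Or.inl rfl)
    have hxloc := isLocalRing_quotient (I := Ideal.span {x})
      ((Ideal.span_singleton_le_iff_mem _).mpr hx)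
    -- complete `x` to minimal generators
    obtain ⟨-, t, hspan, hcard⟩ := exists_complement (fun _ : Unit => x) (fun _ => hx) (by
      rw [linearIndependent_unique_iff, Ne, Ideal.toCotangent_eq_zero]; exact hx2)
    have hrange : Set.range (fun _ : Unit => x) = {x} := Set.range_const
    rw [hrange, Ideal.span_union] at hspan
    rw [Fintype.card_unit] at hcard
    let J := Ideal.span (t : Set R)
    have hJm : J ≤ maximalIdeal R := hspan ▸ le_sup_right
    let q := Ideal.Quotient.mk (Ideal.span {x})
    have hmap : (maximalIdeal R).map q = maximalIdeal (R ⧸ Ideal.span {x}) :=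
      map_maximalIdeal_quotient
    -- the map from `m / x m` to the maximal ideal of `R / x`
    let p : QuotSMulTop x (maximalIdeal R) →ₗ[R] maximalIdeal (R ⧸ Ideal.span {x}) :=
      Submodule.liftQ _ (((Ideal.span {x}).mkQ.comp (maximalIdeal R).subtype).codRestrict
        ((maximalIdeal (R ⧸ Ideal.span {x})).restrictScalars R)
        (fun a => hmap ▸ Ideal.mem_map_of_mem q a.2)) (by
          rintro a ha
          obtain ⟨b, -, rfl⟩ := (Submodule.mem_smul_pointwise_iff_exists _ _ _).mp ha
          refine Subtype.ext ((Submodule.Quotient.mk_eq_zero _).mpr ?_)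
          exact Ideal.mul_mem_right _ _ (Ideal.mem_span_singleton_self x))
    let ψ : J →ₗ[R] maximalIdeal (R ⧸ Ideal.span {x}) :=
      p ∘ₗ (x • ⊤ : Submodule R (maximalIdeal R)).mkQ ∘ₗ Submodule.inclusion hJm
    have hψ : Function.Surjective ψ := by
      intro y
      have hy : (y : R ⧸ Ideal.span {x}) ∈ (maximalIdeal R).map q := by rw [hmap]; exact y.2
      obtain ⟨a, ha, hay⟩ := (Ideal.mem_map_iff_of_surjective q Ideal.Quotient.mk_surjective).mp hy
      rw [← hspan] at ha
      obtain ⟨a₁, ha₁, a₂, ha₂, rfl⟩ := Submodule.mem_sup.mp ha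
      refine ⟨⟨a₂, ha₂⟩, Subtype.ext ?_⟩
      rw [← hay, map_add, Ideal.Quotient.eq_zero_iff_mem.mpr ha₁, zero_add]
      rfl
    let φ : J →ₗ[R] QuotSMulTop x (maximalIdeal R) :=
      (x • ⊤ : Submodule R (maximalIdeal R)).mkQ ∘ₗ Submodule.inclusion hJm
    have hker : LinearMap.ker ψ ≤ LinearMap.ker φ := by
      intro a ha
      have h1 : (a : R) ∈ Ideal.span {x} :=
        (Submodule.Quotient.mk_eq_zero _).mp (congrArg Subtype.val ha)
      obtain ⟨c, hc⟩ := Ideal.mem_span_singleton'.mp h1
      have hcm : c ∈ maximalIdeal R := by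
        by_contra hcu
        obtain ⟨u, hu⟩ := (show IsUnit c by simpa using hcu)
        have hxJ : x ∈ J := by
          have : (↑u⁻¹ : R) * a = x := by rw [← hc, ← hu, Units.inv_mul_cancel_left]
          exact this ▸ J.mul_mem_left _ a.2
        have : maximalIdeal R = J := le_antisymm
          (hspan ▸ sup_le ((Ideal.span_singleton_le_iff_mem _).mpr hxJ) le_rfl) hJm
        have h2 : (maximalIdeal R).spanFinrank ≤ t.card := by
          rw [this]
          refine (Submodule.spanFinrank_span_le_ncard_of_finite (Finset.finite_toSet _)).trans ?_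
          rw [Set.ncard_coe_finset]
        omega
      refine (Submodule.Quotient.mk_eq_zero _).mpr ?_
      exact (Submodule.mem_smul_pointwise_iff_exists _ _ _).mpr
        ⟨⟨c, hcm⟩, trivial, Subtype.ext ((mul_comm x c).trans hc)⟩
    let s : maximalIdeal (R ⧸ Ideal.span {x}) →ₗ[R] QuotSMulTop x (maximalIdeal R) :=
      ((LinearMap.ker ψ).liftQ φ hker) ∘ₗ (ψ.quotKerEquivOfSurjective hψ).symm.toLinearMap
    have hps : ∀ y, p (s y) = y := by
      intro y
      obtain ⟨a, rfl⟩ := hψ y
      have : (ψ.quotKerEquivOfSurjective hψ).symm (ψ a) = Submodule.Quotient.mk a :=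
        (LinearEquiv.symm_apply_eq _).mpr rfl
      simp only [s, LinearMap.comp_apply, LinearEquiv.coe_toLinearMap, this,
        Submodule.liftQ_apply]
      rfl
    let p' := p.extendScalarsOfSurjective (S := R ⧸ Ideal.span {x}) Ideal.Quotient.mk_surjective
    let s' := s.extendScalarsOfSurjective (S := R ⧸ Ideal.span {x}) Ideal.Quotient.mk_surjective
    have hret : Retract (ModuleCat.of (R ⧸ Ideal.span {x}) (maximalIdeal (R ⧸ Ideal.span {x})))
        (ModuleCat.of (R ⧸ Ideal.span {x}) (QuotSMulTop x (maximalIdeal R))) :=
      ⟨ModuleCat.ofHom s', ModuleCat.ofHom p', by ext y; exact congrArg Subtype.val (hps y)⟩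
    have hpd := (pdLT_quotSMulTop_iff hx hxR n _
      (isSMulRegular_submodule (M := R) (maximalIdeal R) hxR)).mpr hn
    have hpd' : PdLT (R ⧸ Ideal.span {x}) (maximalIdeal (R ⧸ Ideal.span {x})) (n + 1) :=
      hret.hasProjectiveDimensionLT (n + 1)
    have hkq : (maximalIdeal (R ⧸ Ideal.span {x})).spanFinrank ≤ k := by
      rw [← hmap, ← hspan, Ideal.map_sup, Ideal.map_quotient_self, bot_sup_eq, Ideal.map_span,
        ← Finset.coe_image]
      refine (Submodule.spanFinrank_span_le_ncard_of_finite (Finset.finite_toSet _)).trans ?_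
      rw [Set.ncard_coe_finset]
      exact Finset.card_image_le.trans (by omega)
    have := ih _ hkq n hpd'
    exact regular_of_quotient hx hxnd

/-- Serre's criterion, stated with the residue field. -/
theorem regular_of_pdLT_residueField {R : Type u} [CommRing R] [IsLocalRing R] [IsNoetherianRing R]
    (n : ℕ) (h : PdLT R (ResidueField R) n) : IsRegularLocalRing R := by
  have h2 := (pdLT_ker_iff (maximalIdeal R).mkQ (Submodule.mkQ_surjective _) n).mp
    (pdLT_mono (show n ≤ n + 2 by omega) h)
  exact regular_of_pdLT _ R le_rfl n (pdLT_congr (LinearEquiv.ofEq _ _ (maximalIdeal R).ker_mkQ) h2)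

section BaseChange

variable {R S : Type u} [CommRing R] [CommRing S] [Algebra R S] [Module.Flat R S]

/-- The kernel commutes with flat base change. -/
noncomputable def kerBaseChangeEquiv {M F : Type u} [AddCommGroup M] [Module R M] [AddCommGroup F]
    [Module R F] (f : F →ₗ[R] M) (hf : Function.Surjective f) :
    S ⊗[R] LinearMap.ker f ≃ₗ[S] LinearMap.ker (f.baseChange S) :=
  (LinearEquiv.ofInjective ((LinearMap.ker f).subtype.baseChange S) (by
      rw [LinearMap.baseChange_eq_ltensor]
      exact Module.Flat.lTensor_preserves_injective_linearMap _ (Submodule.injective_subtype _))).trans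
    (LinearEquiv.ofEq _ _ (Function.Exact.linearMap_ker_eq (f := (LinearMap.ker f).subtype.baseChange S)
      (g := f.baseChange S) (by
        rw [LinearMap.baseChange_eq_ltensor, LinearMap.baseChange_eq_ltensor]
        exact lTensor_exact S (LinearMap.exact_subtype_ker_map f) hf)).symm)

theorem pdLT_baseChange [IsNoetherianRing R] :
    ∀ (n : ℕ) (M : Type u) [AddCommGroup M] [Module R M] [Module.Finite R M],
      PdLT R M (n + 1) → PdLT S (S ⊗[R] M) (n + 1) := by
  intro n
  induction n with
  | zero =>
    intro M _ _ _ h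
    have := pdLT_one_iff.mp h
    exact pdLT_one_iff.mpr inferInstance
  | succ n ih =>
    intro M _ _ _ h
    obtain ⟨r, f, hf⟩ := Module.Finite.exists_fin' R M
    have hfS : Function.Surjective (f.baseChange S) := by
      rw [LinearMap.baseChange_eq_ltensor]; exact LinearMap.lTensor_surjective S hf
    exact (pdLT_ker_iff (f.baseChange S) hfS n).mpr
      (pdLT_congr (kerBaseChangeEquiv f hf) (ih _ ((pdLT_ker_iff f hf n).mp h)))

theorem pdLT_descent [IsNoetherianRing R] [Module.FaithfullyFlat R S] :
    ∀ (n : ℕ) (M : Type u) [AddCommGroup M] [Module R M] [Module.Finite R M],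
      PdLT S (S ⊗[R] M) (n + 1) → PdLT R M (n + 1) := by
  intro n
  induction n with
  | zero =>
    intro M _ _ _ h
    have := pdLT_one_iff.mp h
    have : Module.Flat R M := (Module.Flat.iff_flat_tensorProduct R M S).mp inferInstance
    have : Module.FinitePresentation R M := Module.finitePresentation_of_finite R M
    exact pdLT_one_iff.mpr Module.Flat.projective_of_finitePresentation
  | succ n ih =>
    intro M _ _ _ h
    obtain ⟨r, f, hf⟩ := Module.Finite.exists_fin' R M
    have hfS : Function.Surjective (f.baseChange S) := by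
      rw [LinearMap.baseChange_eq_ltensor]; exact LinearMap.lTensor_surjective S hf
    exact (pdLT_ker_iff f hf n).mpr
      (ih _ (pdLT_congr (kerBaseChangeEquiv f hf).symm ((pdLT_ker_iff (f.baseChange S) hfS n).mp h)))

end BaseChange

/-- Regularity descends along flat local homomorphisms. -/
theorem regular_of_flat {R S : Type u} [CommRing R] [IsLocalRing R] [IsNoetherianRing R]
    [CommRing S] [IsRegularLocalRing S] [Algebra R S] [IsLocalHom (algebraMap R S)]
    [Module.Flat R S] : IsRegularLocalRing R :=
  have : Module.FaithfullyFlat R S := Module.FaithfullyFlat.of_flat_of_isLocalHom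
  regular_of_pdLT_residueField _
    (pdLT_descent (S := S) _ (ResidueField R) (pdLT_of_regular _ rfl _))

/-- A localization of a regular local ring at a prime is regular. -/
theorem regular_localization {R : Type u} [CommRing R] [IsRegularLocalRing R]
    (p : Ideal R) [p.IsPrime] (S : Type u) [CommRing S] [Algebra R S]
    [IsLocalization.AtPrime S p] : IsRegularLocalRing S := by
  have : Module.Flat R S := IsLocalization.flat S p.primeCompl
  have : IsLocalRing S := IsLocalization.AtPrime.isLocalRing S p
  have : IsNoetherianRing S := IsLocalization.isNoetherianRing p.primeCompl S inferInstance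
  refine regular_of_pdLT_residueField ((maximalIdeal R).spanFinrank + 1) ?_
  refine pdLT_congr ?_ (pdLT_baseChange (S := S) _ (R ⧸ p) (pdLT_of_regular _ rfl _))
  exact (Algebra.TensorProduct.quotIdealMapEquivTensorQuot S p).symm.toLinearEquiv.trans
    (Submodule.quotEquivOfEq _ _ (IsLocalization.AtPrime.map_eq_maximalIdeal p S))

end Groth.Agent.RegLocal
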