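/-
dimension and regularity of completions
-/
import Mathlib
import Groth.Agent.Lib.CompleteNoetherian
import Groth.Agent.Lib.RegularLocalSerre

open IsLocalRing

universe u

namespace Groth.Agent.CompletionDim


theorem completion_noetherian {A : Type u} [CommRing A] [IsLocalRing A] [IsNoetherianRing A] :
    IsNoetherianRing (AdicCompletion (maximalIdeal A) A) :=
  Groth.Agent.CplNoeth.isNoetherianRing_completion _

end Groth.Agent.CompletionDim
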