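/-
polynomials of unit content: regular with flat quotient
-/
import Mathlib

open TensorProduct MvPolynomial

universe u

namespace Groth.Agent.ContentUnitFlat


theorem mul_eq_zero_local {B : Type u} [CommRing B] [IsLocalRing B] {n : ℕ}
    (f g : MvPolynomial (Fin n) B) (hf : ∃ e, IsUnit (f.coeff e)) (hfg : f * g = 0) : g = 0 := by
  classical
  let ord : MonomialOrder (Fin n) := MonomialOrder.lex
  let C : Ideal B := Ideal.span (g.coeffs : Set B)
  have hCmem : ∀ b, g.coeff b ∈ C := by
    intro b
    by_cases hb : g.coeff b = 0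
    · rw [hb]; exact zero_mem _
    · exact Ideal.subset_span (MvPolynomial.coeff_mem_coeffs b hb)
  obtain ⟨e0, he0⟩ := hf
  let S := f.support.filter (fun e => IsUnit (f.coeff e))
  have hS : S.Nonempty := ⟨e0, Finset.mem_filter.mpr ⟨MvPolynomial.mem_support_iff.mpr he0.ne_zero, he0⟩⟩
  obtain ⟨e, heS, hemax⟩ := S.exists_max_image ord.toSyn hS
  have he : IsUnit (f.coeff e) := (Finset.mem_filter.mp heS).2
  have hd : ∀ d, g.coeff d ∈ IsLocalRing.maximalIdeal B * C := by
    by_contra hc
    push_neg at hc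
    obtain ⟨d0, hd0⟩ := hc
    let D := g.support.filter (fun d => g.coeff d ∉ IsLocalRing.maximalIdeal B * C)
    have hD : D.Nonempty := ⟨d0, Finset.mem_filter.mpr ⟨MvPolynomial.mem_support_iff.mpr (fun h => hd0 (by rw [h]; exact zero_mem _)), hd0⟩⟩
    obtain ⟨d, hdD, hdmax⟩ := D.exists_max_image ord.toSyn hD
    refine (Finset.mem_filter.mp hdD).2 ?_
    have hc := congrArg (MvPolynomial.coeff (e + d)) hfg
    rw [MvPolynomial.coeff_mul, MvPolynomial.coeff_zero,
      ← Finset.add_sum_erase _ _ (show (e, d) ∈ Finset.HasAntidiagonal.antidiagonal (e + d) by simp)] at hc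
    have hsum : ∑ x ∈ (Finset.HasAntidiagonal.antidiagonal (e + d)).erase (e, d), f.coeff x.1 * g.coeff x.2 ∈
        IsLocalRing.maximalIdeal B * C := by
      refine Ideal.sum_mem _ fun x hx => ?_
      obtain ⟨hne, hx⟩ := Finset.mem_erase.mp hx
      rw [Finset.HasAntidiagonal.mem_antidiagonal] at hx
      by_cases hu : IsUnit (f.coeff x.1)
      · refine Ideal.mul_mem_left _ _ ?_
        have h1 : ord.toSyn x.1 ≤ ord.toSyn e :=
          hemax _ (Finset.mem_filter.mpr ⟨MvPolynomial.mem_support_iff.mpr hu.ne_zero, hu⟩)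
        by_contra hg
        have h2 : ord.toSyn x.2 ≤ ord.toSyn d :=
          hdmax _ (Finset.mem_filter.mpr ⟨MvPolynomial.mem_support_iff.mpr (fun h => hg (by rw [h]; exact zero_mem _)), hg⟩)
        have hx' := congrArg ord.toSyn hx
        rw [map_add, map_add] at hx'
        have e1 : x.1 = e := ord.toSyn.injective (le_antisymm h1
          (le_of_add_le_add_right (hx'.ge.trans (add_le_add_right h2 _))))
        refine hne (Prod.ext e1 ?_)
        rw [e1] at hx
        exact add_left_cancel hx
      · exact Ideal.mul_mem_mul ((IsLocalRing.mem_maximalIdeal _).mpr hu) (hCmem _)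
    rw [add_eq_zero_iff_eq_neg] at hc
    have h3 : f.coeff e * g.coeff d ∈ IsLocalRing.maximalIdeal B * C := by rw [hc]; exact neg_mem hsum
    exact ((IsLocalRing.maximalIdeal B * C).unit_mul_mem_iff_mem he).mp h3
  have hC : C = ⊥ := by
    refine Submodule.eq_bot_of_le_smul_of_le_jacobson_bot (IsLocalRing.maximalIdeal B) C ?_ ?_ (IsLocalRing.maximalIdeal_le_jacobson _)
    · exact Submodule.fg_span g.coeffs.finite_toSet
    · refine Ideal.span_le.mpr fun b hb => ?_
      obtain ⟨d, -, rfl⟩ := MvPolynomial.mem_coeffs_iff.mp hb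
      exact hd d
  ext d
  rw [MvPolynomial.coeff_zero]
  simpa [hC] using hCmem d

theorem mul_eq_zero {B : Type u} [CommRing B] {n : ℕ} (f g : MvPolynomial (Fin n) B)
    (hf : Ideal.span (Set.range f.coeff) = ⊤) (hfg : f * g = 0) : g = 0 := by
  ext d
  rw [MvPolynomial.coeff_zero]
  refine eq_zero_of_localization (g.coeff d) fun m hm => ?_
  let φ := algebraMap B (Localization.AtPrime m)
  have h := mul_eq_zero_local (MvPolynomial.map φ f) (MvPolynomial.map φ g) ?_ (by rw [← map_mul, hfg, map_zero])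
  · have := congrArg (MvPolynomial.coeff d) h
    rwa [MvPolynomial.coeff_map, MvPolynomial.coeff_zero] at this
  · by_contra hc
    push_neg at hc
    refine hm.ne_top (top_le_iff.mp (hf ▸ Ideal.span_le.mpr ?_))
    rintro _ ⟨e, rfl⟩
    by_contra hem
    refine hc e ?_
    rw [MvPolynomial.coeff_map]
    exact IsLocalization.map_units (Localization.AtPrime m) (⟨f.coeff e, hem⟩ : m.primeCompl)

theorem regular_mod {A : Type u} [CommRing A] {n : ℕ} (f : MvPolynomial (Fin n) A)
    (hf : Ideal.span (Set.range f.coeff) = ⊤) (I : Ideal A) {g : MvPolynomial (Fin n) A}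
    (h : f * g ∈ I.map (C : A →+* MvPolynomial (Fin n) A)) : g ∈ I.map (C : A →+* MvPolynomial (Fin n) A) := by
  have hz : ∀ p, p ∈ I.map (C : A →+* MvPolynomial (Fin n) A) ↔ MvPolynomial.map (Ideal.Quotient.mk I) p = 0 := by
    intro p
    rw [MvPolynomial.mem_map_C_iff, MvPolynomial.ext_iff]
    exact forall_congr' fun m => by rw [MvPolynomial.coeff_map, MvPolynomial.coeff_zero, Ideal.Quotient.eq_zero_iff_mem]
  rw [hz] at h ⊢
  rw [map_mul] at h
  refine mul_eq_zero _ _ ?_ h
  rw [show Set.range (MvPolynomial.map (Ideal.Quotient.mk I) f).coeff = Ideal.Quotient.mk I '' Set.range f.coeff by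
    rw [← Set.range_comp]; congr 1, ← Ideal.map_span, hf, Ideal.map_top]

end Groth.Agent.ContentUnitFlat
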