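import Mathlib

/-!
The polar form of a cubic form; Eckardt points of smooth cubic surfaces and their involutions.
-/

namespace Groth.Agent.CubicPolar

open MvPolynomial

variable {K : Type*} [Field K] {n : ℕ}

lemma isHomogeneous_pderiv {f : MvPolynomial (Fin n) K} {d : ℕ} (hf : f.IsHomogeneous (d + 1))
    (i : Fin n) : (pderiv i f).IsHomogeneous d := by
  intro m hm
  rw [coeff_pderiv] at hm
  have h := hf (left_ne_zero_of_mul hm)
  rw [map_add, Finsupp.weight_single] at h
  simpa using h

lemma pderiv_comm' (i j : Fin n) (p : MvPolynomial (Fin n) K) :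
    pderiv i (pderiv j p) = pderiv j (pderiv i p) := by
  induction p using MvPolynomial.induction_on with
  | C a => simp
  | add p q hp hq => simp only [map_add, hp, hq]
  | mul_X p l hp =>
    simp only [pderiv_mul, map_add, pderiv_X, hp]
    by_cases h1 : i = l <;> by_cases h2 : j = l <;> simp [h1, h2]

lemma eval_of_isHomogeneous_zero {p : MvPolynomial (Fin n) K} (hp : p.IsHomogeneous 0)
    (u : Fin n → K) : eval u p = constantCoeff p := by
  have h := (totalDegree_eq_zero_iff_eq_C (p := p)).1 (Nat.le_zero.1 hp.totalDegree_le)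
  rw [h]
  simp

/-- The third derivatives. -/
noncomputable def kap (f : MvPolynomial (Fin n) K) (i j l : Fin n) : K :=
  constantCoeff (pderiv l (pderiv j (pderiv i f)))

/-- The symmetric trilinear polar form. -/
noncomputable def P3 (f : MvPolynomial (Fin n) K) (a b c : Fin n → K) : K :=
  (1 / 6) * ∑ i, ∑ j, ∑ l, a i * b j * c l * kap f i j l

variable (f : MvPolynomial (Fin n) K) (a a' b c : Fin n → K) (t : K)

lemma swap12 : P3 f a b c = P3 f b a c := by
  unfold P3
  rw [Finset.sum_comm]
  refine congrArg _ (Finset.sum_congr rfl fun j _ => Finset.sum_congr rfl fun i _ =>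
    Finset.sum_congr rfl fun l _ => ?_)
  rw [kap, kap, pderiv_comm' i j]
  ring

lemma swap23 : P3 f a b c = P3 f a c b := by
  unfold P3
  refine congrArg _ (Finset.sum_congr rfl fun i _ => ?_)
  rw [Finset.sum_comm]
  refine Finset.sum_congr rfl fun l _ => Finset.sum_congr rfl fun j _ => ?_
  rw [kap, kap, pderiv_comm' l j]
  ring

lemma add1 : P3 f (a + a') b c = P3 f a b c + P3 f a' b c := by
  simp only [P3, Pi.add_apply, add_mul, Finset.sum_add_distrib, mul_add]

lemma smul1 : P3 f (t • a) b c = t * P3 f a b c := by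
  simp only [P3, Pi.smul_apply, smul_eq_mul, Finset.mul_sum]
  exact Finset.sum_congr rfl fun i _ => Finset.sum_congr rfl fun j _ =>
    Finset.sum_congr rfl fun l _ => by ring

lemma add2 : P3 f b (a + a') c = P3 f b a c + P3 f b a' c := by
  rw [swap12, add1, swap12 f a, swap12 f a']

lemma smul2 : P3 f b (t • a) c = t * P3 f b a c := by
  rw [swap12, smul1, swap12 f a]

lemma add3 : P3 f b c (a + a') = P3 f b c a + P3 f b c a' := by
  rw [swap23, add2, swap23 f b a, swap23 f b a']

lemma smul3 : P3 f b c (t • a) = t * P3 f b c a := by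
  rw [swap23, smul2, swap23 f b a]

lemma neg1 : P3 f (-a) b c = - P3 f a b c := by
  rw [← neg_one_smul K a, smul1, neg_one_mul]

/-- The polar form as a linear functional in the first argument. -/
noncomputable def lin1 : (Fin n → K) →ₗ[K] K where
  toFun x := P3 f x b c
  map_add' x y := add1 f x y b c
  map_smul' t x := smul1 f x b c t

@[simp] lemma lin1_apply : lin1 f b c a = P3 f a b c := rfl

variable [CharZero K] (hf : f.IsHomogeneous 3)
include hf

lemma pderiv_eval (i : Fin n) (u : Fin n → K) :
    eval u (pderiv i f) = 3 * P3 f (Pi.single i 1) u u := by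
  have h2 : (pderiv i f).IsHomogeneous 2 := isHomogeneous_pderiv hf i
  have e1 := congrArg (eval u) h2.sum_X_mul_pderiv
  simp only [map_sum, map_mul, eval_X, nsmul_eq_mul, map_natCast, map_ofNat] at e1
  have e2 : ∀ j, eval u (pderiv j (pderiv i f)) = ∑ l, u l * kap f i j l := fun j => by
    have h1 : (pderiv j (pderiv i f)).IsHomogeneous 1 := isHomogeneous_pderiv h2 j
    have := congrArg (eval u) h1.sum_X_mul_pderiv
    simp only [map_sum, map_mul, eval_X, one_smul] at this
    rw [← this]
    exact Finset.sum_congr rfl fun l _ => by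
      rw [eval_of_isHomogeneous_zero (isHomogeneous_pderiv h1 l)]; rfl
  simp only [e2] at e1
  rw [P3, Finset.sum_eq_single i]
  · simp only [Pi.single_eq_same, one_mul]
    have : ∑ j, ∑ l, u j * u l * kap f i j l = ∑ j, u j * ∑ l, u l * kap f i j l :=
      Finset.sum_congr rfl fun j _ => by
        rw [Finset.mul_sum]; exact Finset.sum_congr rfl fun l _ => by ring
    rw [this, e1]
    push_cast
    ring
  · intro b _ hb
    simp [Pi.single_eq_of_ne hb]
  · simp

lemma eval_eq (u : Fin n → K) : eval u f = P3 f u u u := by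
  have e1 := congrArg (eval u) hf.sum_X_mul_pderiv
  simp only [map_sum, map_mul, eval_X, nsmul_eq_mul, map_natCast, map_ofNat, pderiv_eval f hf] at e1
  have e2 : ∑ i, u i * (3 * P3 f (Pi.single i 1) u u) = 3 * P3 f u u u := by
    have hu : u = ∑ i, u i • (Pi.single i (1 : K)) := pi_eq_sum_univ' u
    have := congrArg (lin1 f u u) hu
    simp only [map_sum, map_smul, lin1_apply, smul_eq_mul] at this
    rw [this, Finset.mul_sum]
    exact Finset.sum_congr rfl fun i _ => by ring
  rw [e2] at e1
  push_cast at e1
  linear_combination (-1 / 3 : K) * e1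

lemma eval_add_smul (u e : Fin n → K) (t : K) :
    eval (u + t • e) f = eval u f + 3 * t * P3 f u u e + 3 * t ^ 2 * P3 f u e e + t ^ 3 * eval e f := by
  simp only [eval_eq f hf, add1, add2, add3, smul1, smul2, smul3]
  rw [swap23 f u e u, swap12 f e u u, swap23 f u e u, swap12 f e u e, swap23 f e e u, swap12 f e u e]
  ring

lemma exists_ne_of_smooth (u : Fin n → K) (h : ∃ i, eval u (pderiv i f) ≠ 0) :
    ∃ x, P3 f x u u ≠ 0 := by
  obtain ⟨i, hi⟩ := h
  exact ⟨Pi.single i 1, fun h0 => hi (by rw [pderiv_eval f hf, h0, mul_zero])⟩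

end Groth.Agent.CubicPolar
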