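/-
Dedekind domain from unique factorisation of ideals
-/
import Mathlib

open Ideal nonZeroDivisors

universe u

namespace Groth.Agent.DedekindUniqueFactor


variable {R : Type u} [CommRing R] [IsDomain R]

theorem cancel (h : ∀ I : Ideal R, I ≠ ⊥ → ∃! s : Multiset (Ideal R), (∀ p ∈ s, p.IsPrime ∧ p ≠ ⊥) ∧ s.prod = I)
    {I J K : Ideal R} (hI : I ≠ ⊥) (hJ : J ≠ ⊥) (hK : K ≠ ⊥) (e : I * J = I * K) : J = K := by
  obtain ⟨sI, ⟨hsI, hpI⟩, -⟩ := h I hI
  obtain ⟨sJ, ⟨hsJ, hpJ⟩, -⟩ := h J hJ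
  obtain ⟨sK, ⟨hsK, hpK⟩, -⟩ := h K hK
  have hne : I * J ≠ ⊥ := by simp [Ideal.mul_eq_bot, hI, hJ]
  have e1 := (h (I * J) hne).unique (y₁ := sI + sJ) (y₂ := sI + sK)
    ⟨fun p hp => (Multiset.mem_add.mp hp).elim (hsI p) (hsJ p), by rw [Multiset.prod_add, hpI, hpJ]⟩
    ⟨fun p hp => (Multiset.mem_add.mp hp).elim (hsI p) (hsK p), by rw [Multiset.prod_add, hpI, hpK, e]⟩
  rw [← hpJ, ← hpK, add_left_cancel e1]

/-- An ideal dividing a principal ideal divides each element it contains. -/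
theorem exists_mul_eq {Q K : Ideal R} {c z : R} (hc : c ≠ 0) (hQK : Q * K = span {c})
    (hz : z ∈ Q) : ∃ J : Ideal R, span {z} = Q * J := by
  refine ⟨(span {z} * K).colon {c}, ?_⟩
  have hle : span {z} * K ≤ span {c} := by
    rw [← hQK]; exact Ideal.mul_mono_left ((span_singleton_le_iff_mem Q).mpr hz)
  have e1 : span {c} * (span {z} * K).colon {c} = span {z} * K := by
    apply le_antisymm
    · intro x hx
      obtain ⟨j, hj, rfl⟩ := mem_span_singleton_mul.mp hx
      have := Submodule.mem_colon_singleton.mp hj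
      simpa [smul_eq_mul, mul_comm] using this
    · intro x hx
      obtain ⟨j, rfl⟩ := mem_span_singleton.mp (hle hx)
      refine mem_span_singleton_mul.mpr ⟨j, ?_, rfl⟩
      apply Submodule.mem_colon_singleton.mpr
      simpa [smul_eq_mul, mul_comm] using hx
  have e2 : span {c} * span {z} = span {c} * (Q * (span {z} * K).colon {c}) := by
    rw [mul_left_comm (span {c}), e1, ← hQK]; ring
  exact (span_singleton_mul_right_inj hc).mp e2

theorem maximal_of_dvd (h : ∀ I : Ideal R, I ≠ ⊥ → ∃! s : Multiset (Ideal R), (∀ p ∈ s, p.IsPrime ∧ p ≠ ⊥) ∧ s.prod = I)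
    {Q K : Ideal R} {c : R} (hc : c ≠ 0) (hQ : Q.IsPrime) (hQK : Q * K = span {c}) :
    Q.IsMaximal := by
  have hQ0 : Q ≠ ⊥ := by
    rintro rfl
    exact hc (span_singleton_eq_bot.mp (by simpa using hQK.symm))
  refine Ideal.isMaximal_iff.mpr ⟨hQ.one_notMem, fun J a hQJ haQ haJ => ?_⟩
  have key : (Q ⊔ span {a}) ^ 2 = Q ^ 2 ⊔ span {a} ^ 2 := by
    have hI : Q ⊔ span {a} ≠ ⊥ := fun e => hQ0 (le_bot_iff.mp (e ▸ le_sup_left))
    have hK : Q ^ 2 ⊔ span {a} ^ 2 ≠ ⊥ := fun e =>
      pow_ne_zero 2 hQ0 (le_bot_iff.mp (e ▸ le_sup_left))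
    refine cancel h hI (pow_ne_zero 2 hI) hK ?_
    simp only [sq, Ideal.mul_sup, Ideal.sup_mul]
    have h1 : Q * (span {a} * Q) = Q * (Q * span {a}) := by ring
    have h2 : span {a} * (Q * Q) = Q * (Q * span {a}) := by ring
    have h3 : span {a} * (Q * span {a}) = Q * (span {a} * span {a}) := by ring
    have h4 : span {a} * (span {a} * Q) = Q * (span {a} * span {a}) := by ring
    simp only [h1, h2, h3, h4, sup_assoc, sup_comm, sup_left_comm, sup_idem, sup_left_idem]
  have hQle : Q ≤ Q * (Q ⊔ span {a}) := by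
    intro x hx
    have hax : x * a ∈ (Q ⊔ span {a}) ^ 2 := by
      rw [sq]; exact Ideal.mul_mem_mul (mem_sup_left hx) (mem_sup_right (mem_span_singleton_self a))
    rw [key] at hax
    obtain ⟨y, hy, w, hw, e⟩ := Submodule.mem_sup.mp hax
    rw [span_singleton_pow, mem_span_singleton] at hw
    obtain ⟨r, rfl⟩ := hw
    have hyQ : y ∈ Q := Ideal.pow_le_self two_ne_zero hy
    have hsub : a * (x - r * a) = y := by linear_combination -e
    have hxr : x - r * a ∈ Q := (hQ.mem_or_mem (hsub ▸ hyQ)).resolve_left haQ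
    have hr : r ∈ Q := (hQ.mem_or_mem (show r * a ∈ Q by simpa using Q.sub_mem hx hxr)).resolve_right haQ
    obtain ⟨L, hL⟩ := exists_mul_eq hc hQK hxr
    have hLQ : span {a} * L ≤ Q := by
      intro t ht
      have h1 : span {c} * (span {a} * L) ≤ span {c} * Q := by
        have : Q * (span {a} * L) ≤ Q * Q := by
          rw [mul_left_comm, ← hL, span_singleton_mul_span_singleton, hsub, ← sq]
          exact (span_singleton_le_iff_mem _).mpr hy
        rw [← hQK]
        calc Q * K * (span {a} * L) = K * (Q * (span {a} * L)) := by ring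
          _ ≤ K * (Q * Q) := Ideal.mul_mono_right this
          _ = Q * K * Q := by ring
      exact (span_singleton_mul_right_mono hc).mp h1 ht
    have hLQ' : L ≤ Q := (hQ.mul_le.mp hLQ).resolve_left
      (fun hh => haQ ((span_singleton_le_iff_mem Q).mp hh))
    have hx2 : x - r * a ∈ Q * (Q ⊔ span {a}) :=
      Ideal.mul_mono_right le_sup_left (Ideal.mul_mono_right hLQ' (hL ▸ mem_span_singleton_self _))
    have hra : r * a ∈ Q * (Q ⊔ span {a}) :=
      Ideal.mul_mem_mul hr (mem_sup_right (mem_span_singleton_self a))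
    simpa using Ideal.add_mem _ hx2 hra
  have htop : Q ⊔ span {a} = ⊤ := by
    refine cancel h hQ0 ?_ top_ne_bot (le_antisymm ?_ ?_)
    · exact fun e => hQ0 (le_bot_iff.mp (e ▸ le_sup_left))
    · rw [Ideal.mul_top]; exact Ideal.mul_le_left
    · rw [Ideal.mul_top]; exact hQle
  exact (htop ▸ sup_le hQJ ((span_singleton_le_iff_mem J).mpr haJ) : (⊤ : Ideal R) ≤ J) trivial

end Groth.Agent.DedekindUniqueFactor
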