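/-
Determinant of a polynomial in a matrix as a resultant.
-/
import Mathlib

open Polynomial
universe u

namespace Groth.Agent.DetAeval


theorem det_aeval_field {K : Type*} [Field K] [IsAlgClosed K] {ι : Type} [Fintype ι] [DecidableEq ι]
    (M : Matrix ι ι K) (P : K[X]) :
    (aeval M P).det = (M.charpoly.roots.map P.eval).prod := by
  have hcard : Multiset.card M.charpoly.roots = Fintype.card ι := by
    rw [← (IsAlgClosed.splits M.charpoly).natDegree_eq_card_roots, M.charpoly_natDegree_eq_dim]
  have hmul : ∀ P Q : K[X], (aeval M P).det = (M.charpoly.roots.map P.eval).prod →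
      (aeval M Q).det = (M.charpoly.roots.map Q.eval).prod →
      (aeval M (P * Q)).det = (M.charpoly.roots.map (P * Q).eval).prod := by
    intro P Q hP hQ
    rw [map_mul, Matrix.det_mul, hP, hQ, ← Multiset.prod_map_mul]
    simp
  have hC : ∀ c : K, (aeval M (C c)).det = (M.charpoly.roots.map (C c).eval).prod := by
    intro c
    simp [Matrix.algebraMap_eq_diagonal, Matrix.det_diagonal, hcard]
  have hlin : ∀ a : K, (aeval M (X - C a)).det = (M.charpoly.roots.map (X - C a).eval).prod := by
    intro a
    have h1 := M.eval_charpoly a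
    have h2 : M.charpoly.eval a = (M.charpoly.roots.map fun r => a - r).prod := by
      conv_lhs => rw [(IsAlgClosed.splits M.charpoly).eq_prod_roots_of_monic M.charpoly_monic]
      simp [eval_multiset_prod]
    have hs : Matrix.scalar ι a - M = -(aeval M (X - C a)) := by
      simp [Matrix.algebraMap_eq_diagonal, Matrix.scalar]
      
    rw [hs, Matrix.det_neg, h2] at h1
    simp only [eval_sub, eval_X, eval_C]
    have h3 : (M.charpoly.roots.map fun r => a - r).prod =
        (-1) ^ Fintype.card ι * (M.charpoly.roots.map fun r => r - a).prod := by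
      rw [← hcard, ← Multiset.card_map (fun r => r - a) M.charpoly.roots, ← Multiset.prod_map_neg,
        Multiset.map_map]
      simp [Function.comp_def]
    rw [h3] at h1
    exact (mul_left_cancel₀ (pow_ne_zero _ (neg_ne_zero.mpr one_ne_zero)) h1).symm
  rw [(IsAlgClosed.splits P).eq_prod_roots]
  refine hmul _ _ (hC _) ?_
  induction P.roots using Multiset.induction_on with
  | empty => simpa using hC 1
  | cons a s ih =>
    rw [Multiset.map_cons, Multiset.prod_cons]
    exact hmul _ _ (hlin a) ih

theorem det_aeval {R : Type u} [CommRing R] {ι : Type} [Fintype ι] [DecidableEq ι] (M : Matrix ι ι R)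
    (P : R[X]) (m : ℕ) (hm : P.natDegree ≤ m) :
    (aeval M P).det = resultant M.charpoly P (Fintype.card ι) m := by
  let U := MvPolynomial ((ι × ι) ⊕ Fin (m + 1)) ℤ
  let Mu : Matrix ι ι U := Matrix.of fun i j => MvPolynomial.X (Sum.inl (i, j))
  let Pu : U[X] := ∑ j : Fin (m + 1), C (MvPolynomial.X (Sum.inr j)) * X ^ (j : ℕ)
  have hPu : Pu.natDegree ≤ m := natDegree_sum_le_of_forall_le _ _ fun j _ =>
    (natDegree_C_mul_X_pow_le _ _).trans (Nat.le_of_lt_succ j.2)
  let K := AlgebraicClosure (FractionRing U)
  let φ : U →+* K := (algebraMap (FractionRing U) K).comp (algebraMap U (FractionRing U))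
  have hφ : Function.Injective φ :=
    (algebraMap (FractionRing U) K).injective.comp (IsFractionRing.injective U _)
  have hnat : ∀ {A B : Type u} [CommRing A] [CommRing B] (f : A →+* B) (N : Matrix ι ι A) (Q : A[X]),
      (aeval (N.map f) (Q.map f)).det = f (aeval N Q).det := by
    intro A B _ _ f N Q
    rw [RingHom.map_det]
    congr 1
    have : ((f.mapMatrix (m := ι)).comp (aeval N).toRingHom) =
        (aeval (N.map f)).toRingHom.comp (mapRingHom f) := by
      refine Polynomial.ringHom_ext (fun a => ?_) ?_
      · simp [Matrix.algebraMap_eq_diagonal, Matrix.diagonal_map]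
      · simp
    exact (RingHom.congr_fun this Q).symm
  have key : (aeval Mu Pu).det = resultant Mu.charpoly Pu (Fintype.card ι) m := by
    apply hφ
    rw [← resultant_map_map, ← Matrix.charpoly_map, RingHom.map_det]
    have hφn : φ.mapMatrix (aeval Mu Pu) = aeval (Mu.map φ) (Pu.map φ) := by
      have : ((φ.mapMatrix (m := ι)).comp (aeval Mu).toRingHom) =
          (aeval (Mu.map φ)).toRingHom.comp (mapRingHom φ) := by
        refine Polynomial.ringHom_ext (fun a => ?_) ?_
        · simp [Matrix.algebraMap_eq_diagonal, Matrix.diagonal_map]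
        · simp
      exact RingHom.congr_fun this Pu
    rw [hφn, det_aeval_field]
    have hd : (Mu.map φ).charpoly.natDegree = Fintype.card ι := Matrix.charpoly_natDegree_eq_dim _
    conv_rhs => rw [← hd]
    rw [resultant_eq_prod_eval _ _ _ (natDegree_map_le.trans hPu) (IsAlgClosed.splits _),
      (Matrix.charpoly_monic _).leadingCoeff, one_pow, one_mul]
  let f : U →+* R := (MvPolynomial.aeval (Sum.elim (fun ij : ι × ι => M ij.1 ij.2) fun j : Fin (m + 1) => P.coeff j)).toRingHom
  have hM : Mu.map f = M := by ext i j; exact MvPolynomial.aeval_X _ _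
  have hP : Pu.map f = P := by
    have h1 : Pu.map f = ∑ j : Fin (m + 1), C (P.coeff j) * X ^ (j : ℕ) := by
      simp only [Pu, Polynomial.map_sum, Polynomial.map_mul, Polynomial.map_C, Polynomial.map_pow, Polynomial.map_X]
      exact Finset.sum_congr rfl fun j _ => congrArg (fun c => C c * X ^ (j : ℕ)) (MvPolynomial.aeval_X _ _)
    rw [h1, Fin.sum_univ_eq_sum_range (fun j => C (P.coeff j) * X ^ j) (m + 1)]
    exact (P.as_sum_range_C_mul_X_pow' (Nat.lt_succ_of_le hm)).symm
  have hfn : f.mapMatrix (aeval Mu Pu) = aeval M P := by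
    have : ((f.mapMatrix (m := ι)).comp (aeval Mu).toRingHom) =
        (aeval (Mu.map f)).toRingHom.comp (mapRingHom f) := by
      refine Polynomial.ringHom_ext (fun a => ?_) ?_
      · simp [Matrix.algebraMap_eq_diagonal, Matrix.diagonal_map]
      · simp
    have := RingHom.congr_fun this Pu
    simpa [hM, hP] using this
  have := congrArg f key
  rwa [RingHom.map_det, hfn, ← resultant_map_map, ← Matrix.charpoly_map, hM, hP] at this

end Groth.Agent.DetAeval
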