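/-
direct sum devissages indexed by well ordered sets
-/
import Mathlib
import Groth.Prelude.Def_Found

open scoped Classical

universe u

namespace Groth.Agent.Devissage


theorem covBy_left_unique {S : Type u} [LinearOrder S] {a b c : S} (ha : a ⋖ c) (hb : b ⋖ c) : a = b := by
  rcases lt_trichotomy a b with h | h | h
  · exact absurd hb.1 (ha.2 h)
  · exact h
  · exact absurd ha.1 (hb.2 h)

theorem devissage_internal {R : Type u} [CommRing R] {M : Type u} [AddCommGroup M] [Module R M]
    {S : Type u} [LinearOrder S] [WellFoundedLT S] (Mf : S → Submodule R M) (hmono : Monotone Mf)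
    (hlim : ∀ s : S, Order.IsSuccPrelimit s → Mf s = ⨆ t : {t : S // t < s}, Mf t.1)
    (htop : (⨆ s, Mf s) = ⊤)
    (C : {p : S × S // p.1 ⋖ p.2} → Submodule R M)
    (hC : ∀ p, Mf p.1.1 ⊓ C p = ⊥ ∧ Mf p.1.1 ⊔ C p = Mf p.1.2) :
    DirectSum.IsInternal C := by
  classical
  rw [DirectSum.isInternal_submodule_iff_iSupIndep_and_iSup_eq_top]
  refine ⟨?_, ?_⟩
  · rw [iSupIndep_iff_finsetSum_eq_zero_imp_eq_zero]
    intro F
    induction F using Finset.strongInduction with
    | _ F ih =>
      intro v hv hsum i hi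
      obtain ⟨p, hp, hmax⟩ := F.exists_max_image (fun q => q.1.2) ⟨i, hi⟩
      have hrest : ∑ q ∈ F.erase p, v q ∈ Mf p.1.1 := by
        refine Submodule.sum_mem _ fun q hq => ?_
        obtain ⟨hne, hqF⟩ := Finset.mem_erase.mp hq
        have hlt : q.1.2 < p.1.2 := by
          refine lt_of_le_of_ne (hmax q hqF) fun heq => hne (Subtype.ext (Prod.ext ?_ heq))
          exact covBy_left_unique (heq ▸ q.2) p.2
        have hle : q.1.2 ≤ p.1.1 := le_of_not_gt fun hgt => p.2.2 hgt hlt
        exact hmono hle ((hC q).2 ▸ Submodule.mem_sup_right (hv q hqF))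
      have hs := Finset.add_sum_erase F v hp
      rw [hsum] at hs
      have hvp : v p = 0 := by
        have h1 : v p ∈ Mf p.1.1 := by
          rw [eq_neg_of_add_eq_zero_left hs]
          exact Submodule.neg_mem _ hrest
        exact (Submodule.eq_bot_iff _).mp (hC p).1 _ ⟨h1, hv p hp⟩
      rw [hvp, zero_add] at hs
      rcases eq_or_ne i p with rfl | hne
      · exact hvp
      · exact ih (F.erase p) (Finset.erase_ssubset hp) v (fun q hq => hv q (Finset.mem_of_mem_erase hq)) hs i
          (Finset.mem_erase.mpr ⟨hne, hi⟩)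
  · rw [eq_top_iff, ← htop, iSup_le_iff]
    intro t
    induction t using WellFoundedLT.induction with
    | _ t ih =>
      by_cases h : Order.IsSuccPrelimit t
      · rw [hlim t h]
        exact iSup_le fun s => ih s.1 s.2
      · obtain ⟨s, hs⟩ := Order.not_isSuccPrelimit_iff.mp h
        rw [← (hC ⟨(s, t), hs⟩).2]
        exact sup_le (ih s hs.1) (le_iSup C ⟨(s, t), hs⟩)

theorem compl_quot_equiv {R : Type u} [CommRing R] {M : Type u} [AddCommGroup M] [Module R M]
    (A B C : Submodule R M) (h1 : A ⊓ C = ⊥) (h2 : A ⊔ C = B) :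
    Nonempty (C ≃ₗ[R] ↥B ⧸ Submodule.comap B.subtype A) := by
  let g : C →ₗ[R] ↥B ⧸ Submodule.comap B.subtype A :=
    Submodule.mkQ _ ∘ₗ Submodule.inclusion (h2 ▸ le_sup_right)
  refine ⟨LinearEquiv.ofBijective g ⟨?_, ?_⟩⟩
  · rw [injective_iff_map_eq_zero]
    intro x hx
    simp only [g, LinearMap.comp_apply, Submodule.mkQ_apply, Submodule.Quotient.mk_eq_zero, Submodule.mem_comap] at hx
    exact Subtype.ext ((Submodule.eq_bot_iff _).mp h1 _ ⟨hx, x.2⟩)
  · intro y
    obtain ⟨⟨y, hy⟩, rfl⟩ := Submodule.Quotient.mk_surjective _ y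
    obtain ⟨a, ha, c, hc, rfl⟩ := Submodule.mem_sup.mp (h2.symm ▸ hy : y ∈ A ⊔ C)
    refine ⟨⟨c, hc⟩, ?_⟩
    simp only [g, LinearMap.comp_apply, Submodule.mkQ_apply, Submodule.Quotient.eq, Submodule.mem_comap]
    simpa using A.neg_mem ha

theorem countably_equiv {R : Type u} [CommRing R] {M N : Type u} [AddCommGroup M] [Module R M] [AddCommGroup N]
    [Module R N] (f : M →ₗ[R] N) (hf : Function.Surjective f) (h : CAlg.IsCountablyGenerated R M) :
    CAlg.IsCountablyGenerated R N := by
  obtain ⟨s, hs, hs'⟩ := h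
  exact ⟨f '' s, hs.image f, by rw [Submodule.span_image, hs', Submodule.map_top, LinearMap.range_eq_top.mpr hf]⟩

end Groth.Agent.Devissage
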