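import Mathlib

/-!
Central division algebras of prime degree `p` in characteristic `p`: inseparable elements.
-/

namespace Groth.Agent.DivIns

variable {K : Type*} [Field K] {A : Type*} [DivisionRing A] [Algebra K A]

lemma finrank_adjoin_eq [Algebra.IsCentral K A] [FiniteDimensional K A] {p : ℕ} (hp : p.Prime)
    (hA : Module.finrank K A = p ^ 2) (s : Set A) (hs : ∀ x ∈ s, ∀ y ∈ s, x * y = y * x)
    (hne : ∃ w ∈ s, w ∉ Set.range (algebraMap K A)) :
    Module.finrank K (Algebra.adjoin K s) = p := by
  let B := Algebra.adjoin K s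
  letI : CommRing B := { (inferInstance : Ring B) with
    mul_comm := fun x y => Subtype.ext ((Algebra.commute_of_mem_adjoin_of_forall_mem_commute y.2
      (fun b hb => (Algebra.commute_of_mem_adjoin_of_forall_mem_commute x.2
        (fun a ha => hs b hb a ha)).symm) : Commute (x : A) (y : A))) }
  have hdom : IsDomain B := inferInstance
  have hfld : IsField B := isField_of_isIntegral_of_isField' (R := K) (Field.toIsField K)
  letI := hfld.toField
  have hmul : Module.finrank K B * Module.finrank B A = p ^ 2 := by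
    rw [Module.finrank_mul_finrank, hA]
  obtain ⟨w, hw, hwK⟩ := hne
  have h1 : Module.finrank K B ≠ 1 := fun h => by
    have hb : B = ⊥ := Subalgebra.eq_bot_of_finrank_one h
    have := Algebra.subset_adjoin (R := K) hw
    change w ∈ B at this
    rw [hb, Algebra.mem_bot] at this
    exact hwK this
  obtain ⟨i, hi, hi'⟩ := (Nat.dvd_prime_pow hp).1 (Dvd.intro _ hmul)
  interval_cases i
  · exact absurd hi' h1
  · simpa using hi'
  · exfalso
    have htop : B = ⊤ := Subalgebra.toSubmodule_injective
      (Submodule.eq_top_of_finrank_eq (hi'.trans hA.symm))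
    have hc : ∀ a : A, a ∈ Subalgebra.center K A := fun a => Subalgebra.mem_center_iff.2 fun b => by
      have h := mul_comm (⟨b, by rw [htop]; trivial⟩ : B) ⟨a, by rw [htop]; trivial⟩
      exact congrArg Subtype.val h
    obtain ⟨c, hc'⟩ := Algebra.mem_bot.1 (Algebra.IsCentral.out (hc w))
    exact hwK ⟨c, hc'⟩

variable [Algebra.IsCentral K A] [FiniteDimensional K A] {p : ℕ} (hp : p.Prime)
  (hA : Module.finrank K A = p ^ 2)

include hp hA

lemma mem_adjoin_of_commute {w a : A} (hw : w ∉ Set.range (algebraMap K A))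
    (h : a * w = w * a) : a ∈ Algebra.adjoin K ({w} : Set A) := by
  have h1 := finrank_adjoin_eq hp hA {w} (by simp) ⟨w, rfl, hw⟩
  have h2 := finrank_adjoin_eq hp hA {w, a} (by simp [h]) ⟨w, by simp, hw⟩
  have h3 : Algebra.adjoin K ({w} : Set A) = Algebra.adjoin K {w, a} :=
    Subalgebra.eq_of_le_of_finrank_eq (Algebra.adjoin_mono (by simp)) (h1.trans h2.symm)
  rw [h3]
  exact Algebra.subset_adjoin (by simp)

lemma natDegree_minpoly {w : A} (hw : w ∉ Set.range (algebraMap K A)) :
    (minpoly K w).natDegree = p := by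
  have h := finrank_adjoin_eq hp hA {w} (by simp) ⟨w, rfl, hw⟩
  rw [Algebra.adjoin_singleton_eq_range_aeval] at h
  let e := (Ideal.quotientKerEquivRange (Polynomial.aeval (R := K) w))
  rw [← e.toLinearEquiv.finrank_eq] at h
  have e' : (Polynomial K ⧸ RingHom.ker (Polynomial.aeval (R := K) w)) ≃ₗ[K]
      (Polynomial K ⧸ Ideal.span {minpoly K w}) :=
    (Ideal.quotientEquivAlgOfEq K (minpoly.ker_aeval_eq_span_minpoly K w)).toLinearEquiv
  rw [e'.finrank_eq, finrank_quotient_span_eq_natDegree] at h
  exact h

/-- If conjugation by `z` moves `x` and `z ^ p` commutes with `x`, then `z` is inseparable. -/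
theorem not_isSeparable_of_pow_commute [CharP K p] {x z : A} (hzx : z * x ≠ x * z)
    (hcomm : z ^ p * x = x * z ^ p) : ¬ IsSeparable K z := by
  have hzK : z ∉ Set.range (algebraMap K A) := by
    rintro ⟨c, rfl⟩
    exact hzx (Algebra.commutes c x)
  have hzp : z ^ p ∈ Set.range (algebraMap K A) := by
    by_contra hne
    have h1 := mem_adjoin_of_commute hp hA hne (show x * z ^ p = z ^ p * x from hcomm.symm)
    have h2 := mem_adjoin_of_commute hp hA hne (show z * z ^ p = z ^ p * z from
      (Commute.self_pow z p).eq)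
    exact hzx (Algebra.commute_of_mem_adjoin_singleton_of_commute h1
      (Algebra.commute_of_mem_adjoin_self h2).symm).eq
  obtain ⟨c, hc⟩ := hzp
  have hmin : minpoly K z = Polynomial.X ^ p - Polynomial.C c := by
    refine Polynomial.eq_of_monic_of_dvd_of_natDegree_le
      (minpoly.monic (Algebra.IsIntegral.isIntegral z))
      (Polynomial.monic_X_pow_sub_C c hp.ne_zero)
      (minpoly.dvd K z (by simp [hc])) ?_ |>.symm
    rw [natDegree_minpoly hp hA hzK, Polynomial.natDegree_X_pow_sub_C]
  intro hsep
  have hsep' : (minpoly K z).Separable := hsep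
  rw [hmin, Polynomial.separable_def] at hsep'
  rw [Polynomial.derivative_sub, Polynomial.derivative_X_pow, Polynomial.derivative_C,
    CharP.cast_eq_zero K p] at hsep'
  simp only [Polynomial.C_0, zero_mul, sub_zero, isCoprime_zero_right] at hsep'
  exact Polynomial.not_isUnit_of_natDegree_pos _
    (by rw [Polynomial.natDegree_X_pow_sub_C]; exact hp.pos) hsep'

omit hp hA in
/-- Linearly independent elements give independent left-right multiplications. -/
lemma eq_zero_of_forall_sum_mul_mul {ι : Type*} (s : Finset ι) (v : ι → A)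
    (hv : LinearIndependent K v) (x : ι → A) (h : ∀ y : A, ∑ i ∈ s, x i * y * v i = 0) :
    ∀ i ∈ s, x i = 0 := by
  classical
  induction s using Finset.induction generalizing x with
  | empty => simp
  | @insert j s hj ih =>
    have hxj : x j = 0 := by
      by_contra hne
      let x' : ι → A := fun i => (x j)⁻¹ * x i
      have h' : ∀ y, ∑ i ∈ insert j s, x' i * y * v i = 0 := fun y => by
        simp only [x', mul_assoc, ← Finset.mul_sum]
        simp only [← mul_assoc]
        rw [h y, mul_zero]
      have hj1 : x' j = 1 := inv_mul_cancel₀ hne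
      have hcen : ∀ t, ∀ i ∈ s, x' i * t - t * x' i = 0 := fun t => ih _ fun y => by
        have e1 := h' (t * y)
        have e2 := congrArg (t * ·) (h' y)
        simp only [mul_zero, Finset.mul_sum] at e2
        rw [Finset.sum_insert hj, hj1] at e1 e2
        simp only [sub_mul, Finset.sum_sub_distrib, mul_assoc, one_mul] at e1 e2 ⊢
        have := sub_eq_zero.2 (e1.trans e2.symm)
        rwa [add_sub_add_left_eq_sub] at this
      have hK : ∀ i ∈ insert j s, ∃ c : K, algebraMap K A c = x' i := fun i hi => by
        rcases Finset.mem_insert.1 hi with rfl | hi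
        · exact ⟨1, by rw [map_one, hj1]⟩
        · exact Algebra.mem_bot.1 (Algebra.IsCentral.out (Subalgebra.mem_center_iff.2 fun t =>
            (sub_eq_zero.1 (hcen t i hi)).symm))
      choose! c hc using hK
      have hzero : ∑ i ∈ insert j s, c i • v i = 0 := by
        rw [← h' 1]
        exact Finset.sum_congr rfl fun i hi => by rw [Algebra.smul_def, hc i hi, mul_one]
      have := linearIndependent_iff'.1 hv _ c hzero j (Finset.mem_insert_self _ _)
      have h1 := hc j (Finset.mem_insert_self _ _)
      rw [this, map_zero, hj1] at h1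
      exact zero_ne_one h1
    intro i hi
    rcases Finset.mem_insert.1 hi with rfl | hi
    · exact hxj
    · refine ih x (fun y => ?_) i hi
      have := h y
      rwa [Finset.sum_insert hj, hxj, zero_mul, zero_mul, zero_add] at this

omit hp hA in
/-- Skolem–Noether for a field inside `A`: conjugate roots of one minimal polynomial. -/
lemma exists_conj {L : Type*} [Field L] [Algebra K L] [FiniteDimensional K L] (ι : L →ₐ[K] A)
    (e e' : L) (he' : Polynomial.aeval e' (minpoly K e) = 0) :
    ∃ z : A, z ≠ 0 ∧ z * ι e = ι e' * z := by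
  classical
  obtain ⟨g, hg⟩ : (Polynomial.X - Polynomial.C e') ∣ (minpoly K e).map (algebraMap K L) := by
    rw [Polynomial.dvd_iff_isRoot, Polynomial.IsRoot, Polynomial.eval_map]
    exact he'
  let Ψ : A → Polynomial L → A := fun y q => q.sum fun i c => ι c * y * ι e ^ i
  have hadd : ∀ y q₁ q₂, Ψ y (q₁ + q₂) = Ψ y q₁ + Ψ y q₂ := fun y q₁ q₂ =>
    Polynomial.sum_add_index _ _ _ (fun i => by simp) (fun i a b => by rw [map_add, add_mul, add_mul])
  have hmon : ∀ y i c, Ψ y (Polynomial.monomial i c) = ι c * y * ι e ^ i := fun y i c =>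
    Polynomial.sum_monomial_index c _ (by simp)
  have hkey : ∀ y q, Ψ y ((Polynomial.X - Polynomial.C e') * q) = Ψ y q * ι e - ι e' * Ψ y q := by
    intro y q
    induction q using Polynomial.induction_on' with
    | add q₁ q₂ h₁ h₂ => rw [mul_add, hadd, h₁, h₂, hadd, add_mul, mul_add]; abel
    | monomial i c =>
      rw [sub_mul, Polynomial.X_mul_monomial, Polynomial.C_mul_monomial, sub_eq_add_neg,
        ← map_neg, hadd, hmon, hmon, hmon, pow_succ, map_neg, map_mul]
      simp only [mul_assoc, neg_mul, sub_eq_add_neg]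
  have hf : ∀ y, Ψ y ((minpoly K e).map (algebraMap K L)) = 0 := fun y => by
    have h1 : Ψ y ((minpoly K e).map (algebraMap K L)) =
        y * Polynomial.aeval (ι e) (minpoly K e) := by
      induction (minpoly K e) using Polynomial.induction_on' with
      | add q₁ q₂ h₁ h₂ => rw [Polynomial.map_add, hadd, h₁, h₂, map_add, mul_add]
      | monomial i c =>
        rw [Polynomial.map_monomial, hmon, AlgHom.commutes, Polynomial.aeval_monomial,
          Algebra.commutes, mul_assoc]
    rw [h1, Polynomial.aeval_algHom_apply, minpoly.aeval, map_zero, mul_zero]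
  have hint := Algebra.IsIntegral.isIntegral (R := K) e
  have hgmon : g.Monic := (Polynomial.monic_X_sub_C e').of_mul_monic_left
    (hg ▸ (minpoly.monic hint).map _)
  have hgdeg : g.natDegree < (minpoly K e).natDegree := by
    rw [← Polynomial.natDegree_map (algebraMap K L) (p := minpoly K e), hg,
      Polynomial.natDegree_mul (Polynomial.X_sub_C_ne_zero e') hgmon.ne_zero,
      Polynomial.natDegree_X_sub_C]
    omega
  obtain ⟨y, hy⟩ : ∃ y, Ψ y g ≠ 0 := by
    by_contra hcon
    push Not at hcon
    have hli : LinearIndependent K fun i : Fin (minpoly K e).natDegree => ι e ^ (i : ℕ) := by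
      have h := (linearIndependent_pow (K := K) e).map' ι.toLinearMap
        (LinearMap.ker_eq_bot.2 ι.toRingHom.injective)
      simpa [Function.comp_def] using h
    have hz := eq_zero_of_forall_sum_mul_mul Finset.univ _ hli (fun i => ι (g.coeff (i : ℕ)))
      (fun y => by
        rw [Fin.sum_univ_eq_sum_range (fun i => ι (g.coeff i) * y * ι e ^ i),
          ← Polynomial.sum_over_range' g (f := fun i c => ι c * y * ι e ^ i) (fun i => by simp) _ hgdeg]
        exact hcon y)
      ⟨g.natDegree, hgdeg⟩ (Finset.mem_univ _)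
    simp [hgmon.coeff_natDegree] at hz
  refine ⟨Ψ y g, hy, ?_⟩
  have h := hkey y g
  rw [← hg, hf, eq_comm, sub_eq_zero] at h
  exact h

/-- A subfield of degree `p` with a nontrivial automorphism yields an inseparable element. -/
theorem exists_inseparable_of_automorphism [CharP K p] {L : Type*} [Field L] [Algebra K L]
    [FiniteDimensional K L] (hL : Module.finrank K L = p) (ι : L →ₐ[K] A) (σ : L ≃ₐ[K] L)
    (hσ : σ ≠ 1) : ∃ v : A, ¬ IsSeparable K v := by
  obtain ⟨e, he⟩ : ∃ e, σ e ≠ e := by
    by_contra h
    push Not at h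
    exact hσ (AlgEquiv.ext h)
  have heK : e ∉ Set.range (algebraMap K L) := by
    rintro ⟨c, rfl⟩
    exact he (σ.commutes c)
  have htop : IntermediateField.adjoin K ({e} : Set L) = ⊤ := by
    have h1 : Module.finrank K (IntermediateField.adjoin K ({e} : Set L)) ∣ p :=
      hL ▸ ⟨_, (Module.finrank_mul_finrank K (IntermediateField.adjoin K ({e} : Set L)) L).symm⟩
    rcases (Nat.dvd_prime hp).1 h1 with h | h
    · rw [IntermediateField.finrank_eq_one_iff, IntermediateField.adjoin_simple_eq_bot_iff,
        IntermediateField.mem_bot] at h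
      exact absurd h heK
    · exact IntermediateField.toSubalgebra_injective (Subalgebra.toSubmodule_injective
        (Submodule.eq_top_of_finrank_eq (h.trans hL.symm)))
  obtain ⟨z, hz0, hz⟩ := exists_conj ι e (σ e)
    (by rw [Polynomial.aeval_algEquiv, AlgHom.comp_apply, minpoly.aeval, map_zero])
  have hall : ∀ u : L, z * ι u = ι (σ u) * z := by
    intro u
    have hu : u ∈ IntermediateField.adjoin K ({e} : Set L) := htop ▸ IntermediateField.mem_top
    rw [← IntermediateField.mem_toSubalgebra,
      IntermediateField.adjoin_simple_toSubalgebra_of_isAlgebraic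
        (Algebra.IsAlgebraic.isAlgebraic e)] at hu
    induction hu using Algebra.adjoin_induction with
    | mem u hu => rw [Set.mem_singleton_iff] at hu; rw [hu, hz]
    | algebraMap c =>
      rw [AlgEquiv.commutes, AlgHom.commutes, Algebra.commutes]
    | add u w _ _ h₁ h₂ => rw [map_add, mul_add, h₁, h₂, map_add, map_add, add_mul]
    | mul u w _ _ h₁ h₂ =>
      rw [map_mul, ← mul_assoc, h₁, mul_assoc, h₂, ← mul_assoc, map_mul, map_mul]
  have hpow : ∀ j : ℕ, z ^ j * ι e = ι ((σ ^ j) e) * z ^ j := by
    intro j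
    induction j with
    | zero => simp
    | succ j ih =>
      rw [pow_succ' z, mul_assoc, ih, ← mul_assoc, hall, mul_assoc, pow_succ' σ,
        AlgEquiv.mul_apply]
  have hσp : σ ^ p = 1 := by
    have h1 := IntermediateField.finrank_fixedField_eq_card (F := K) (E := L) (Subgroup.zpowers σ)
    rw [Nat.card_zpowers] at h1
    have h2 : orderOf σ ∣ p := h1 ▸ hL ▸ ⟨_, (Module.finrank_mul_finrank K
      (IntermediateField.fixedField (Subgroup.zpowers σ)) L).symm.trans (mul_comm _ _)⟩
    exact orderOf_dvd_iff_pow_eq_one.1 h2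
  refine ⟨z, not_isSeparable_of_pow_commute hp hA (x := ι e) ?_ ?_⟩
  · rw [hz]
    exact fun h => he (ι.toRingHom.injective (mul_right_cancel₀ hz0 h))
  · rw [hpow p, hσp, AlgEquiv.one_apply]

omit hp in
/-- The characteristic two case. -/
theorem exists_inseparable_two [CharP K 2] (h2 : p = 2) : ∃ v : A, ¬ IsSeparable K v := by
  subst h2
  have hp2 : Nat.Prime 2 := Nat.prime_two
  obtain ⟨a, haK⟩ : ∃ a : A, a ∉ Set.range (algebraMap K A) := by
    by_contra h
    push Not at h
    have := LinearMap.finrank_le_finrank_of_surjective (f := Algebra.linearMap K A) h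
    rw [hA, Module.finrank_self] at this
    omega
  by_cases hsep : IsSeparable K a
  swap
  · exact ⟨a, hsep⟩
  have hint := Algebra.IsIntegral.isIntegral (R := K) a
  have hirr : Irreducible (minpoly K a) := minpoly.irreducible hint
  haveI : Fact (Irreducible (minpoly K a)) := ⟨hirr⟩
  let L := AdjoinRoot (minpoly K a)
  let pb := AdjoinRoot.powerBasis hirr.ne_zero
  haveI : FiniteDimensional K L := pb.finite
  have hL : Module.finrank K L = 2 := by
    rw [pb.finrank, AdjoinRoot.powerBasis_dim, natDegree_minpoly hp2 hA haK]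
  let ι : L →ₐ[K] A := pb.lift a (by
    rw [AdjoinRoot.minpoly_powerBasis_gen_of_monic (minpoly.monic hint)]
    exact minpoly.aeval K a)
  have hsep' : Algebra.IsSeparable K L := by
    have h1 : IsSeparable K (AdjoinRoot.root (minpoly K a)) := by
      unfold IsSeparable
      rw [AdjoinRoot.minpoly_root hirr.ne_zero, (minpoly.monic hint).leadingCoeff, inv_one,
        Polynomial.C_1, mul_one]
      exact hsep
    have h2 := (IntermediateField.isSeparable_adjoin_simple_iff_isSeparable K L).2 h1
    have h3 : IntermediateField.adjoin K ({AdjoinRoot.root (minpoly K a)} : Set L) = ⊤ :=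
      IntermediateField.toSubalgebra_injective (by
        rw [IntermediateField.adjoin_simple_toSubalgebra_of_isAlgebraic
          (Algebra.IsAlgebraic.isAlgebraic _), IntermediateField.top_toSubalgebra]
        exact AdjoinRoot.adjoinRoot_eq_top)
    rw [h3] at h2
    exact Algebra.IsSeparable.of_algHom K _
      (IntermediateField.topEquiv (F := K) (E := L)).symm.toAlgHom
  have : Algebra.IsQuadraticExtension K L := ⟨hL⟩
  have : Normal K L := Algebra.IsQuadraticExtension.normal K L
  have : IsGalois K L := IsGalois.mk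
  have hcard := IsGalois.card_aut_eq_finrank K L
  rw [hL] at hcard
  have : Nontrivial (L ≃ₐ[K] L) := Finite.one_lt_card_iff_nontrivial.1 (by omega)
  obtain ⟨σ, hσ⟩ := exists_ne (1 : L ≃ₐ[K] L)
  exact exists_inseparable_of_automorphism hp2 hA hL ι σ hσ

omit hp in
/-- The characteristic three case: Wedderburn's cyclicity argument. -/
theorem exists_inseparable_three [CharP K 3] (h3 : p = 3) : ∃ v : A, ¬ IsSeparable K v := by
  subst h3
  have hp3 : Nat.Prime 3 := Nat.prime_three
  obtain ⟨a, haK⟩ : ∃ a : A, a ∉ Set.range (algebraMap K A) := by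
    by_contra h
    push Not at h
    have := LinearMap.finrank_le_finrank_of_surjective (f := Algebra.linearMap K A) h
    rw [hA, Module.finrank_self] at this
    omega
  by_cases hsep : IsSeparable K a
  swap
  · exact ⟨a, hsep⟩
  have hint := Algebra.IsIntegral.isIntegral (R := K) a
  have hirr : Irreducible (minpoly K a) := minpoly.irreducible hint
  haveI : Fact (Irreducible (minpoly K a)) := ⟨hirr⟩
  let L := AdjoinRoot (minpoly K a)
  let pb := AdjoinRoot.powerBasis hirr.ne_zero
  haveI : FiniteDimensional K L := pb.finite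
  have hdeg := natDegree_minpoly hp3 hA haK
  have hL : Module.finrank K L = 3 := by rw [pb.finrank, AdjoinRoot.powerBasis_dim, hdeg]
  have hgen : (minpoly K pb.gen) = minpoly K a :=
    AdjoinRoot.minpoly_powerBasis_gen_of_monic (minpoly.monic hint)
  let ι : L →ₐ[K] A := pb.lift a (by rw [hgen]; exact minpoly.aeval K a)
  have hιgen : ι pb.gen = a := pb.lift_gen a _
  by_cases haut : ∃ σ : L ≃ₐ[K] L, σ ≠ 1
  · obtain ⟨σ, hσ⟩ := haut
    exact exists_inseparable_of_automorphism hp3 hA hL ι σ hσ
  push Not at haut
  have hroot : ∀ b : A, b * a = a * b → Polynomial.aeval b (minpoly K a) = 0 → b = a := by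
    intro b hb hb0
    have hmem := mem_adjoin_of_commute hp3 hA haK hb
    rw [Algebra.adjoin_singleton_eq_range_aeval] at hmem
    obtain ⟨q, hq⟩ := hmem
    let b' : L := Polynomial.aeval pb.gen q
    have hb' : ι b' = b := by rw [← Polynomial.aeval_algHom_apply, hιgen]; exact hq
    have hb'0 : Polynomial.aeval b' (minpoly K pb.gen) = 0 := by
      apply ι.toRingHom.injective
      change ι _ = ι _
      rw [← Polynomial.aeval_algHom_apply, hb', hgen, hb0, map_zero]
    let φ : L →ₐ[K] L := pb.lift b' hb'0
    have hφ : Function.Bijective φ :=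
      ⟨φ.toRingHom.injective, (LinearMap.injective_iff_surjective (f := φ.toLinearMap)).1
        φ.toRingHom.injective⟩
    have h1 : φ pb.gen = pb.gen := by
      have e : (AlgEquiv.ofBijective φ hφ) pb.gen = pb.gen :=
        (DFunLike.congr_fun (haut (AlgEquiv.ofBijective φ hφ)) pb.gen).trans rfl
      exact e
    rw [pb.lift_gen] at h1
    rw [← hb', h1, hιgen]
  -- coefficients of the minimal polynomial
  set f := minpoly K a with hf
  set t : A := algebraMap K A (-f.coeff 2) with ht
  set s : A := algebraMap K A (f.coeff 1) with hs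
  set c₀ : A := algebraMap K A (f.coeff 0) with hc₀
  have htc : ∀ x : A, t * x = x * t := Algebra.commutes _
  have hsc : ∀ x : A, s * x = x * s := Algebra.commutes _
  have heval : ∀ b : A, Polynomial.aeval b f = b * b * b - t * (b * b) + s * b + c₀ := by
    intro b
    rw [Polynomial.aeval_eq_sum_range, hdeg]
    simp only [Finset.sum_range_succ, Finset.sum_range_zero, zero_add, Algebra.smul_def, pow_zero,
      pow_one, mul_one]
    rw [show f.coeff 3 = 1 by rw [← hdeg]; exact (minpoly.monic hint).coeff_natDegree, map_one,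
      one_mul, ht, map_neg, neg_mul, ← hs, ← hc₀, pow_three', pow_two]
    abel
  have hfa : Polynomial.aeval a f = 0 := minpoly.aeval K a
  have hfderiv : 3 * (a * a) - 2 * (t * a) + s ≠ 0 := by
    intro h0
    have h1 : Polynomial.aeval a f.derivative = 0 := by
      rw [Polynomial.aeval_eq_sum_range' (n := 3)
        ((Polynomial.natDegree_derivative_le f).trans_lt (by omega))]
      simp only [Finset.sum_range_succ, Finset.sum_range_zero, zero_add, Algebra.smul_def,
        Polynomial.coeff_derivative, pow_zero, pow_one, mul_one, pow_two]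
      rw [show f.coeff (2 + 1) = 1 by
        rw [show (2 : ℕ) + 1 = 3 from rfl, ← hdeg]; exact (minpoly.monic hint).coeff_natDegree]
      rw [← h0, ht, hs]
      simp only [map_mul, map_add, map_one, map_neg, Nat.cast_zero, Nat.cast_one, Nat.cast_ofNat,
        map_ofNat, zero_add, one_mul, mul_one, map_zero]
      noncomm_ring
    have hne : f.derivative ≠ 0 := fun h => by
      have h2 : f.Separable := hsep
      rw [Polynomial.separable_def, h, isCoprime_zero_right] at h2
      exact Polynomial.not_isUnit_of_natDegree_pos _ (by omega) h2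
    have h3 := Polynomial.natDegree_le_natDegree (minpoly.degree_le_of_ne_zero K a hne h1)
    rw [← hf] at h3
    have h4 := Polynomial.natDegree_derivative_lt (p := f) (by omega)
    omega
  -- a conjugate not commuting with `a`
  obtain ⟨y, hy⟩ : ∃ y : A, y * a ≠ a * y := by
    by_contra h
    push Not at h
    obtain ⟨c, hc⟩ := Algebra.mem_bot.1 (Algebra.IsCentral.out (K := K) (Subalgebra.mem_center_iff.2 h))
    exact haK ⟨c, hc⟩
  have hy0 : y ≠ 0 := fun h => hy (by simp [h])
  have hconj : ∀ (u b : A), u ≠ 0 → Polynomial.aeval b f = 0 →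
      Polynomial.aeval (u * b * u⁻¹) f = 0 := by
    intro u b hu hb
    have hm : ∀ x w : A, u * x * u⁻¹ * (u * w * u⁻¹) = u * (x * w) * u⁻¹ := fun x w => by
      simp only [mul_assoc, inv_mul_cancel_left₀ hu]
    have hc : ∀ c : A, (∀ x, c * x = x * c) → ∀ x, c * (u * x * u⁻¹) = u * (c * x) * u⁻¹ :=
      fun c hc x => by rw [← mul_assoc, ← mul_assoc, hc u, mul_assoc u]
    have hc0' : c₀ = u * c₀ * u⁻¹ := by
      rw [← Algebra.commutes (f.coeff 0) u, mul_assoc, mul_inv_cancel₀ hu, mul_one]
    rw [heval] at hb ⊢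
    rw [hm, hm, hc t htc, hc s hsc]
    conv_lhs => rw [hc0']
    rw [← mul_zero u, ← zero_mul u⁻¹, ← hb]
    noncomm_ring
  set a' := y * a * y⁻¹
  have hfa' := hconj y a hy0 hfa
  have hne' : a' ≠ a := fun h => hy (by
    have := congrArg (· * y) h; simpa [a', mul_assoc, inv_mul_cancel₀ hy0] using this)
  have hz0 : a' - a ≠ 0 := sub_ne_zero.2 hne'
  set a₂ := (a' - a) * a' * (a' - a)⁻¹
  have hfa₂ := hconj _ _ hz0 hfa'
  have hza : a₂ * (a' - a) = (a' - a) * a' := by
    simp only [a₂, mul_assoc, inv_mul_cancel₀ hz0, mul_one]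
  have hg : a₂ * a₂ + (a - t) * a₂ + (a * a - t * a + s) = 0 := by
    have e : (a₂ * a₂ + (a - t) * a₂ + (a * a - t * a + s)) * (a' - a) = 0 := by
      rw [add_mul, add_mul, mul_assoc a₂, hza, ← mul_assoc, hza, mul_assoc (a - t), hza]
      have h1 := heval a'
      rw [hfa'] at h1
      have h2 := heval a
      rw [hfa] at h2
      have e2 : (a' - a) * a' * a' + (a - t) * ((a' - a) * a') +
          (a * a - t * a + s) * (a' - a) =
          (a' * a' * a' - t * (a' * a') + s * a' + c₀) - (a * a * a - t * (a * a) + s * a + c₀) := by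
        simp only [mul_sub, sub_mul, add_mul, ← mul_assoc]
        abel
      rw [e2, ← h1, ← h2, sub_self]
    exact (mul_eq_zero.1 e).resolve_right hz0
  have hncomm : a₂ * a ≠ a * a₂ := by
    intro h
    have h1 := hroot a₂ h hfa₂
    rw [h1] at hg
    refine hfderiv ?_
    rw [← hg]
    noncomm_ring
  have hs_eq : s = t * a + t * a₂ - a₂ * a₂ - a * a₂ - a * a := by
    rw [← sub_eq_zero, ← hg]; noncomm_ring
  have hta : ∀ x w : A, x * (t * w) = t * (x * w) := fun x w => by
    rw [← mul_assoc, ← htc x, mul_assoc]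
  -- `a₂ a (t - a - a₂) = -c₀`
  have hn₁ : (t * a₂ - a * a₂ - a₂ * a₂) * a = -c₀ := by
    have h2 := heval a
    rw [hfa, hs_eq] at h2
    rw [eq_neg_iff_add_eq_zero]
    conv_rhs => rw [h2]
    simp only [add_mul, sub_mul, mul_assoc]
    abel
  have hn₂ : a₂ * a * (t - a - a₂) = -c₀ := by
    have ha0 : a ≠ 0 := fun h => haK ⟨0, by rw [map_zero, h]⟩
    have ha₂0 : a₂ ≠ 0 := fun h => hncomm (by simp [h])
    have hc0c : ∀ x : A, x * -c₀ = -c₀ * x := fun x => by
      rw [mul_neg, neg_mul, hc₀, Algebra.commutes]
    have e1 : t * a₂ - a * a₂ - a₂ * a₂ = (t - a - a₂) * a₂ := by simp only [sub_mul]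
    rw [e1] at hn₁
    have h3 : a * (t - a - a₂) * a₂ = -c₀ := mul_right_cancel₀ ha0 (by
      rw [mul_assoc a, mul_assoc a, hn₁, hc0c])
    exact mul_right_cancel₀ ha₂0 (by rw [mul_assoc a₂, mul_assoc a₂, h3, hc0c])
  have hkey : a * a₂ * a + a₂ * a₂ * a = a₂ * a * a + a₂ * a * a₂ := by
    have h4 := hn₁.trans hn₂.symm
    simp only [sub_mul, mul_sub, mul_assoc, hta] at h4
    rw [← htc a, hta] at h4
    simp only [mul_assoc]
    rw [sub_sub, sub_sub] at h4
    exact sub_right_injective h4
  set z := a * a₂ - a₂ * a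
  have hz0' : z ≠ 0 := sub_ne_zero.2 (Ne.symm hncomm)
  have hz1 : z * a = a₂ * z := by
    simp only [z, sub_mul, mul_sub, ← mul_assoc]
    rw [sub_eq_sub_iff_add_eq_add]
    exact hkey.trans (add_comm _ _)
  have hz2 : z * a₂ = (t - a - a₂) * z := by
    have hc := hsc a₂
    rw [hs_eq] at hc
    rw [← sub_eq_zero] at hc
    simp only [add_mul, sub_mul, mul_add, mul_sub, mul_assoc, hta] at hc
    rw [← sub_eq_zero, sub_mul, sub_mul, ← hz1]
    simp only [z, add_mul, sub_mul, mul_sub, mul_assoc, hta]
    rw [← neg_eq_zero, ← hc]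
    abel
  have hz3 : z * (t - a - a₂) = a * z := by
    rw [mul_sub, mul_sub, hz1, hz2, ← htc]
    simp only [sub_mul]; abel
  refine ⟨z, not_isSeparable_of_pow_commute hp3 hA (x := a) ?_ ?_⟩
  · rw [hz1]
    exact fun h => hncomm (by rw [mul_right_cancel₀ hz0' h])
  · rw [pow_succ, pow_two, mul_assoc, hz1, ← mul_assoc, mul_assoc z, hz2, ← mul_assoc, hz3]
    simp only [mul_assoc]

end Groth.Agent.DivIns
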