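import Mathlib
import Groth.Agent.Lib.CubicPolar

/-!
Eckardt points of smooth cubic surfaces and their involutions.
-/

namespace Groth.Agent.Eckardt

open MvPolynomial CubicPolar

/-- A vector lying on three distinct lines of the surface. -/
def IsEck (f : MvPolynomial (Fin 4) ℂ) (e : Fin 4 → ℂ) : Prop :=
  ∃ U : Fin 3 → Submodule ℂ (Fin 4 → ℂ), Function.Injective U ∧
    ∀ i : Fin 3, Module.finrank ℂ ↥(U i) = 2 ∧ e ∈ U i ∧ ∀ u ∈ U i, eval u f = 0

/-- Smoothness. -/
def IsSm (f : MvPolynomial (Fin 4) ℂ) : Prop :=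
  ∀ v : Fin 4 → ℂ, v ≠ 0 → eval v f = 0 → ∃ i : Fin 4, eval v (pderiv i f) ≠ 0

/-- The involution conditions. -/
def IsInv (f : MvPolynomial (Fin 4) ℂ) (e : Fin 4 → ℂ) (A : Matrix (Fin 4) (Fin 4) ℂ) : Prop :=
  A * A = 1 ∧ Module.finrank ℂ ↥(LinearMap.ker (Matrix.toLin' A - LinearMap.id)) = 3 ∧
    A.mulVec e = -e ∧ ∃ c : ℂ, aeval (fun i : Fin 4 => ∑ j : Fin 4, C (A i j) * X j) f = C c * f

variable {f : MvPolynomial (Fin 4) ℂ}

lemma aeval_eq_iff (A : Matrix (Fin 4) (Fin 4) ℂ) (c : ℂ) :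
    aeval (fun i : Fin 4 => ∑ j : Fin 4, C (A i j) * X j) f = C c * f ↔
      ∀ u, eval (A.mulVec u) f = c * eval u f := by
  have key : ∀ u, eval u (aeval (fun i : Fin 4 => ∑ j : Fin 4, C (A i j) * X j) f) =
      eval (A.mulVec u) f := fun u => by
    rw [aeval_def, eval₂_comp_left (eval u)]
    have h1 : (eval u).comp (algebraMap ℂ (MvPolynomial (Fin 4) ℂ)) = RingHom.id ℂ := by
      ext x; simp
    rw [h1]
    congr 1
    funext i
    simp [Matrix.mulVec, dotProduct]
  constructor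
  · intro h u
    rw [← key, h, map_mul, eval_C]
  · intro h
    apply MvPolynomial.funext
    intro u
    rw [key, h, map_mul, eval_C]

lemma eq_zero_or_of_mul {V : Type*} [AddCommGroup V] [Module ℂ V] (φ ψ χ : V →ₗ[ℂ] ℂ)
    (h : ∀ x, φ x * ψ x * χ x = 0) : φ = 0 ∨ ψ = 0 ∨ χ = 0 := by
  classical
  by_contra hne
  simp only [not_or] at hne
  obtain ⟨hφ, hψ, hχ⟩ := hne
  obtain ⟨x, hx⟩ : ∃ x, φ x ≠ 0 := by
    by_contra hc; push Not at hc; exact hφ (LinearMap.ext hc)
  obtain ⟨y, hy⟩ : ∃ y, ψ y ≠ 0 := by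
    by_contra hc; push Not at hc; exact hψ (LinearMap.ext hc)
  obtain ⟨z, hz⟩ : ∃ z, χ z ≠ 0 := by
    by_contra hc; push Not at hc; exact hχ (LinearMap.ext hc)
  have two : ∃ p, φ p ≠ 0 ∧ ψ p ≠ 0 := by
    by_cases h1 : ψ x = 0
    · by_cases h2 : φ y = 0
      · exact ⟨x + y, by simp [map_add, hx, h2], by simp [map_add, h1, hy]⟩
      · exact ⟨y, h2, hy⟩
    · exact ⟨x, hx, h1⟩
  obtain ⟨p, hp1, hp2⟩ := two
  obtain ⟨t, ht⟩ := Infinite.exists_notMem_finset
    ({-(φ z / φ p), -(ψ z / ψ p), -(χ z / χ p)} : Finset ℂ)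
  simp only [Finset.mem_insert, Finset.mem_singleton, not_or] at ht
  rcases mul_eq_zero.1 (h (z + t • p)) with h12 | h3
  · rcases mul_eq_zero.1 h12 with h1 | h2
    · rw [map_add, map_smul, smul_eq_mul] at h1
      exact ht.1 (by field_simp; linear_combination h1)
    · rw [map_add, map_smul, smul_eq_mul] at h2
      exact ht.2.1 (by field_simp; linear_combination h2)
  · rw [map_add, map_smul, smul_eq_mul] at h3
    by_cases hp3 : χ p = 0
    · rw [hp3, mul_zero, add_zero] at h3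
      exact hz h3
    · exact ht.2.2 (by field_simp; linear_combination h3)

lemma pair_span_le {e e' : Fin 4 → ℂ} {U : Submodule ℂ (Fin 4 → ℂ)} (he : e ∈ U) (he' : e' ∈ U) :
    Submodule.span ℂ {e, e'} ≤ U := by
  rw [Submodule.span_le]
  intro x hx
  rcases hx with h | h
  · rw [h]; exact he
  · rw [Set.mem_singleton_iff.1 h]; exact he'

variable (hf : f.IsHomogeneous 3) (hsm : IsSm f) {e : Fin 4 → ℂ} (he : e ≠ 0) (hE : IsEck f e)
include hf he hE hsm

omit hsm he in
lemma eval_self : eval e f = 0 := by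
  obtain ⟨U, -, hU⟩ := hE
  exact (hU 0).2.2 e (hU 0).2.1

lemma exists_frame : ∃ (U : Fin 3 → Submodule ℂ (Fin 4 → ℂ)) (d0 d1 d2 : Fin 4 → ℂ) (a b s : ℂ),
    (∀ i, e ∈ U i ∧ ∀ u ∈ U i, eval u f = 0) ∧
    d0 ∈ U 0 ∧ d1 ∈ U 1 ∧ d2 ∈ U 2 ∧ a ≠ 0 ∧ b ≠ 0 ∧ d2 = a • d0 + b • d1 + s • e ∧
    (∀ i, ∀ u ∈ U i, P3 f u u e = 0 ∧ P3 f u e e = 0) ∧
    (∀ x y : ℂ, x • d0 + y • d1 = 0 → x = 0 ∧ y = 0) ∧
    ∀ h, P3 f h e e = 0 → ∃ x y z : ℂ, h = x • d0 + y • d1 + z • e := by
  classical
  have hfe := eval_self hf hE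
  obtain ⟨U, hinj, hU⟩ := hE
  have hline : ∀ i, ∀ u ∈ U i, P3 f u u e = 0 ∧ P3 f u e e = 0 := by
    intro i u hu
    have g : ∀ t : ℂ, 3 * t * P3 f u u e + 3 * t ^ 2 * P3 f u e e = 0 := fun t => by
      have := (hU i).2.2 (u + t • e) (add_mem hu ((U i).smul_mem t (hU i).2.1))
      rw [eval_add_smul f hf, hfe, (hU i).2.2 u hu] at this
      linear_combination this
    have g1 := g 1
    have g2 := g (-1)
    exact ⟨by linear_combination (1 / 6 : ℂ) * g1 - (1 / 6 : ℂ) * g2,
      by linear_combination (1 / 6 : ℂ) * g1 + (1 / 6 : ℂ) * g2⟩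
  have hd : ∀ i, ∃ d ∈ U i, d ∉ Submodule.span ℂ {e} := fun i => by
    by_contra hc
    push Not at hc
    have h1 := (hU i).1 ▸ Submodule.finrank_mono (show U i ≤ Submodule.span ℂ {e} from hc)
    rw [finrank_span_singleton he] at h1
    omega
  choose d hdU hde using hd
  have hUspan : ∀ i, U i = Submodule.span ℂ {e, d i} := fun i => by
    have hli : LinearIndependent ℂ ![e, d i] := by
      rw [LinearIndependent.pair_iff' he]
      exact fun t h => hde i (Submodule.mem_span_singleton.2 ⟨t, h⟩)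
    have hr : Module.finrank ℂ (Submodule.span ℂ {e, d i}) = 2 := by
      have := finrank_span_eq_card hli
      rw [show Set.range ![e, d i] = {e, d i} by ext z; simp [Fin.exists_fin_two, eq_comm]; tauto,
        Fintype.card_fin] at this
      exact this
    exact (Submodule.eq_of_le_of_finrank_eq (pair_span_le (hU i).2.1 (hdU i))
      (by rw [hr, (hU i).1])).symm
  set W := Submodule.span ℂ {e, d 0, d 1} with hW
  set H := LinearMap.ker (lin1 f e e) with hH
  have hWH : W ≤ H := by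
    rw [hW, Submodule.span_le]
    rintro x (rfl | rfl | rfl)
    · exact LinearMap.mem_ker.2 ((hline 0 _ (hU 0).2.1).2)
    · exact LinearMap.mem_ker.2 ((hline 0 _ (hdU 0)).2)
    · exact LinearMap.mem_ker.2 ((hline 1 _ (hdU 1)).2)
  have hlt : U 0 < W := by
    refine lt_of_le_of_ne ?_ fun heq => ?_
    · rw [hUspan 0, hW]
      exact Submodule.span_mono (by intro x hx; simp at hx ⊢; tauto)
    · have hd1 : d 1 ∈ U 0 := heq ▸ Submodule.subset_span (by simp)
      have := hinj (Submodule.eq_of_le_of_finrank_eq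
        (hUspan 1 ▸ pair_span_le (hU 0).2.1 hd1 : U 1 ≤ U 0) (by rw [(hU 0).1, (hU 1).1]))
      exact absurd this (by decide)
  have h3 : 3 ≤ Module.finrank ℂ W := by
    have := Submodule.finrank_lt_finrank_of_lt hlt
    rw [(hU 0).1] at this
    omega
  have hH3 : Module.finrank ℂ H ≤ 3 := by
    have hne : H ≠ ⊤ := fun h => by
      obtain ⟨x, hx⟩ := exists_ne_of_smooth f hf e (hsm e he hfe)
      exact hx (LinearMap.mem_ker.1 (show x ∈ H from h ▸ Submodule.mem_top))
    have := Submodule.finrank_lt hne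
    rw [Module.finrank_fintype_fun_eq_card, Fintype.card_fin] at this
    omega
  have hWeq : W = H := Submodule.eq_of_le_of_finrank_le hWH (hH3.trans h3)
  have hrep : ∀ h, P3 f h e e = 0 → ∃ x y z : ℂ, h = x • d 0 + y • d 1 + z • e := by
    intro h hh
    have : h ∈ W := hWeq ▸ LinearMap.mem_ker.2 hh
    rw [hW, Submodule.mem_span_triple] at this
    obtain ⟨p, q, r, hpqr⟩ := this
    exact ⟨q, r, p, by rw [← hpqr]; abel⟩
  obtain ⟨a, b, s, hd2⟩ := hrep (d 2) (hline 2 _ (hdU 2)).2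
  have hindep : ∀ x y : ℂ, x • d 0 + y • d 1 = 0 → x = 0 ∧ y = 0 := by
    have hli : LinearIndependent ℂ ![e, d 0, d 1] := by
      rw [linearIndependent_iff_card_le_finrank_span, Fintype.card_fin]
      refine h3.trans_eq ?_
      rw [hW]
      unfold Set.finrank
      rw [show Set.range ![e, d 0, d 1] = {e, d 0, d 1} by
        ext z; simp [Fin.exists_fin_succ, eq_comm]; tauto]
    intro x y hxy
    have := Fintype.linearIndependent_iff.1 hli ![0, x, y] (by simp [Fin.sum_univ_three, hxy])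
    exact ⟨this 1, this 2⟩
  refine ⟨U, d 0, d 1, d 2, a, b, s, fun i => (hU i).2, hdU 0, hdU 1, hdU 2, ?_, ?_, hd2, hline, hindep, hrep⟩
  · rintro rfl
    have h2 : d 2 ∈ U 1 := by
      rw [hd2, zero_smul, zero_add]
      exact add_mem ((U 1).smul_mem _ (hdU 1)) ((U 1).smul_mem _ (hU 1).2.1)
    have := hinj (Submodule.eq_of_le_of_finrank_eq
      (hUspan 2 ▸ pair_span_le (hU 1).2.1 h2 : U 2 ≤ U 1) (by rw [(hU 1).1, (hU 2).1]))
    exact absurd this (by decide)
  · rintro rfl
    have h2 : d 2 ∈ U 0 := by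
      rw [hd2, zero_smul, add_zero]
      exact add_mem ((U 0).smul_mem _ (hdU 0)) ((U 0).smul_mem _ (hU 0).2.1)
    have := hinj (Submodule.eq_of_le_of_finrank_eq
      (hUspan 2 ▸ pair_span_le (hU 0).2.1 h2 : U 2 ≤ U 0) (by rw [(hU 0).1, (hU 2).1]))
    exact absurd this (by decide)

lemma exists_M : ∃ (M : (Fin 4 → ℂ) →ₗ[ℂ] ℂ), M e = 2 ∧
    ∀ u, P3 f u u e = P3 f u e e * M u := by
  have hfe := eval_self hf hE
  obtain ⟨x, hx⟩ := exists_ne_of_smooth f hf e (hsm e he hfe)
  obtain ⟨U, d0, d1, d2, a, b, s, hU, hd0, hd1, hd2U, ha, hb, hd2, hline, hindep, hrep⟩ :=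
    exists_frame hf hsm he hE
  set w := (1 / (3 * P3 f x e e)) • x with hw
  have hw1 : P3 f w e e = 1 / 3 := by rw [hw, smul1]; field_simp
  have hee : P3 f e e e = 0 := by rw [← eval_eq f hf, hfe]
  have h01 : P3 f d0 d1 e = 0 := by
    have h2 := (hline 2 _ hd2U).1
    rw [hd2] at h2
    simp only [add1, add2, smul1, smul2, (hline 0 _ hd0).1, (hline 1 _ hd1).1, (hline 0 _ hd0).2,
      (hline 1 _ hd1).2, swap12 f e d0, swap12 f e d1, swap12 f d1 d0, hee] at h2
    have h2' : (2 * a * b) * P3 f d0 d1 e = 0 := by linear_combination h2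
    exact (mul_eq_zero.1 h2').resolve_left (by simp [ha, hb])
  have hQH : ∀ h, P3 f h e e = 0 → P3 f h h e = 0 := by
    intro h hh
    obtain ⟨p, q, r, rfl⟩ := hrep h hh
    simp only [add1, add2, smul1, smul2, (hline 0 _ hd0).1, (hline 1 _ hd1).1, (hline 0 _ hd0).2,
      (hline 1 _ hd1).2, swap12 f e d0, swap12 f e d1, swap12 f d1 d0, hee, h01]
    ring
  refine ⟨(6 : ℂ) • lin1 f w e - (9 * P3 f w w e) • lin1 f e e, ?_, fun u => ?_⟩
  · simp only [LinearMap.sub_apply, LinearMap.smul_apply, lin1_apply, smul_eq_mul, hee,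
      swap12 f e w e, hw1]
    ring
  · simp only [LinearMap.sub_apply, LinearMap.smul_apply, lin1_apply, smul_eq_mul]
    set l := 3 * P3 f u e e with hl
    have hh : P3 f (u + (-l) • w) e e = 0 := by rw [add1, smul1, hw1, hl]; ring
    have := hQH _ hh
    simp only [add1, add2, smul1, smul2, swap12 f w u e] at this
    rw [hl] at this
    linear_combination this

/-- The involution attached to an Eckardt point. -/
theorem exists_inv : ∃ (M : (Fin 4 → ℂ) →ₗ[ℂ] ℂ) (A : Matrix (Fin 4) (Fin 4) ℂ), M e = 2 ∧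
    (∀ u, P3 f u u e = P3 f u e e * M u) ∧ (∀ u, A.mulVec u = u - M u • e) ∧
    (∀ u, eval (A.mulVec u) f = eval u f) ∧ IsInv f e A ∧ ∀ B, IsInv f e B → B = A := by
  have hfe := eval_self hf hE
  obtain ⟨M, hMe, hM⟩ := exists_M hf hsm he hE
  let A := LinearMap.toMatrix' (LinearMap.id - M.smulRight e)
  have hA : ∀ u, A.mulVec u = u - M u • e := fun u => by
    rw [← Matrix.toLin'_apply, Matrix.toLin'_toMatrix']
    simp
  have hpres : ∀ u, eval (A.mulVec u) f = eval u f := fun u => by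
    rw [hA, sub_eq_add_neg, ← neg_smul, eval_add_smul f hf, hfe, hM u]
    ring
  refine ⟨M, A, hMe, hM, hA, hpres, ⟨?_, ?_, ?_, 1, ?_⟩, ?_⟩
  · apply Matrix.toLin'.injective
    refine LinearMap.ext fun u => ?_
    rw [Matrix.toLin'_mul, Matrix.toLin'_one, LinearMap.comp_apply, Matrix.toLin'_apply,
      Matrix.toLin'_apply, hA u, hA, map_sub, map_smul, hMe, LinearMap.id_apply]
    simp only [smul_eq_mul]
    module
  · have hk : LinearMap.ker (Matrix.toLin' A - LinearMap.id) = LinearMap.ker M := by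
      ext u
      simp [hA, sub_eq_zero, he]
    rw [hk]
    have hs : Function.Surjective M := fun t => ⟨(t / 2) • e, by rw [map_smul, hMe, smul_eq_mul]; ring⟩
    have := LinearMap.finrank_range_add_finrank_ker M
    rw [LinearMap.range_eq_top.2 hs, finrank_top, Module.finrank_self,
      Module.finrank_fintype_fun_eq_card, Fintype.card_fin] at this
    omega
  · rw [hA, hMe]
    module
  · rw [aeval_eq_iff]
    intro u
    rw [hpres, one_mul]
  rintro B ⟨-, hB3, hBe, c, hc⟩
  rw [aeval_eq_iff] at hc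
  set T := Matrix.toLin' B - LinearMap.id with hT
  have hrank : Module.finrank ℂ (LinearMap.range T) = 1 := by
    have := LinearMap.finrank_range_add_finrank_ker T
    rw [hB3, Module.finrank_fintype_fun_eq_card, Fintype.card_fin] at this
    omega
  have hTe : T e = (-2 : ℂ) • e := by
    rw [hT, LinearMap.sub_apply, Matrix.toLin'_apply, hBe, LinearMap.id_apply]
    module
  have hrange : LinearMap.range T = Submodule.span ℂ {e} :=
    (Submodule.eq_of_le_of_finrank_eq (by
      rw [Submodule.span_le, Set.singleton_subset_iff]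
      exact ⟨(-1 / 2 : ℂ) • e, by rw [map_smul, hTe, smul_smul]; norm_num⟩)
      (by rw [hrank, finrank_span_singleton he])).symm
  obtain ⟨φ, hφ⟩ := Submodule.exists_le_ker_of_notMem (p := (⊥ : Submodule ℂ (Fin 4 → ℂ)))
    (v := e) (by simpa using he)
  let N : (Fin 4 → ℂ) →ₗ[ℂ] ℂ := -((φ e)⁻¹ • (φ ∘ₗ T))
  have hN : ∀ u, B.mulVec u = u - N u • e := fun u => by
    obtain ⟨t, ht⟩ := Submodule.mem_span_singleton.1 (hrange ▸ LinearMap.mem_range_self T u)
    have hBu : B.mulVec u = u + t • e := by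
      rw [ht, hT, LinearMap.sub_apply, Matrix.toLin'_apply, LinearMap.id_apply]
      abel
    have : N u = -t := by
      simp only [N, LinearMap.neg_apply, LinearMap.smul_apply, LinearMap.comp_apply, ← ht, map_smul,
        smul_eq_mul]
      field_simp [hφ.1]
    rw [hBu, this]
    module
  have hNe : N e = 2 := by
    have := hN e
    rw [hBe] at this
    have : (N e - 2) • e = 0 := by
      have h2 := sub_eq_zero.2 this
      linear_combination (norm := module) h2
    exact sub_eq_zero.1 ((smul_eq_zero.1 this).resolve_right he)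
  have key : ∀ u : Fin 4 → ℂ, ∀ t : ℂ, eval u f + 3 * (-(N u + t)) * P3 f u u e +
      3 * (N u + t) ^ 2 * P3 f u e e =
      c * (eval u f + 3 * t * P3 f u u e + 3 * t ^ 2 * P3 f u e e) := by
    intro u t
    have := hc (u + t • e)
    rw [hN, map_add, map_smul, hNe, show u + t • e - (N u + t • (2 : ℂ)) • e = u + (-(N u + t)) • e by
      simp only [smul_eq_mul]; module, eval_add_smul f hf, eval_add_smul f hf, hfe] at this
    linear_combination this
  have hc1 : c = 1 := by
    obtain ⟨x, hx⟩ := exists_ne_of_smooth f hf e (hsm e he hfe)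
    have h0 := key x 0
    have h1 := key x 1
    have h2 := key x (-1)
    have : (1 - c) * (6 * P3 f x e e) = 0 := by linear_combination h1 + h2 - 2 * h0
    exact (sub_eq_zero.1 ((mul_eq_zero.1 this).resolve_right (by simp [hx]))).symm
  have hprod : ∀ u, N u * lin1 f e e u * (N - M) u = 0 := fun u => by
    have h0 := key u 0
    rw [hc1, hM u] at h0
    rw [LinearMap.sub_apply, lin1_apply]
    linear_combination (1 / 3 : ℂ) * h0
  have hNM : N = M := by
    rcases eq_zero_or_of_mul N (lin1 f e e) (N - M) hprod with h | h | h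
    · rw [h] at hNe; simp at hNe
    · obtain ⟨x, hx⟩ := exists_ne_of_smooth f hf e (hsm e he hfe)
      exact absurd (LinearMap.congr_fun h x) hx
    · exact sub_eq_zero.1 h
  exact Matrix.toLin'.injective (LinearMap.ext fun u => by
    rw [Matrix.toLin'_apply, Matrix.toLin'_apply, hN, hA, hNM])

/-- Points of the surface in the tangent plane at an Eckardt point lie on the three lines. -/
theorem mem_line (u : Fin 4 → ℂ) (hu : P3 f u e e = 0) (hfu : eval u f = 0) :
    ∀ e', e' = u → ∀ v ∈ Submodule.span ℂ {e, e'}, eval v f = 0 := by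
  rintro e' rfl
  have hfe := eval_self hf hE
  obtain ⟨U, d0, d1, d2, a, b, s, hU, hd0, hd1, hd2U, ha, hb, hd2, hline, hindep, hrep⟩ :=
    exists_frame hf hsm he hE
  suffices h : ∃ i, e' ∈ U i by
    obtain ⟨i, hi⟩ := h
    exact fun v hv => (hU i).2 v (pair_span_le (hU i).1 hi hv)
  have hee : P3 f e e e = 0 := by rw [← eval_eq f hf, hfe]
  have h000 : P3 f d0 d0 d0 = 0 := by rw [← eval_eq f hf, (hU 0).2 _ hd0]
  have h111 : P3 f d1 d1 d1 = 0 := by rw [← eval_eq f hf, (hU 1).2 _ hd1]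
  have he00 := (hline 0 _ hd0).1
  have he11 := (hline 1 _ hd1).1
  have hee0 := (hline 0 _ hd0).2
  have hee1 := (hline 1 _ hd1).2
  have he01 : P3 f d0 d1 e = 0 := by
    have h2 := (hline 2 _ hd2U).1
    rw [hd2] at h2
    simp only [add1, add2, smul1, smul2, he00, he11, hee0,
      hee1, swap12 f e d0, swap12 f e d1, swap12 f d1 d0, hee] at h2
    have h2' : (2 * a * b) * P3 f d0 d1 e = 0 := by linear_combination h2
    exact (mul_eq_zero.1 h2').resolve_left (by simp [ha, hb])
  have hexp : ∀ x y z : ℂ, eval (x • d0 + y • d1 + z • e) f =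
      3 * x * y * (x * P3 f d0 d0 d1 + y * P3 f d0 d1 d1) := fun x y z => by
    rw [eval_add_smul f hf, hfe, eval_add_smul f hf]
    simp only [eval_eq f hf, add1, add2, smul1, smul2, smul3, h000, h111, he00, he11, hee0, hee1,
      swap12 f d1 d0, he01]
    ring
  obtain ⟨x, y, z, hxyz⟩ := hrep e' hu
  rw [hxyz, hexp] at hfu
  have hrel : a * P3 f d0 d0 d1 + b * P3 f d0 d1 d1 = 0 := by
    have := (hU 2).2 d2 hd2U
    rw [hd2, hexp] at this
    exact (mul_eq_zero.1 this).resolve_left (by simp [ha, hb])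
  have hne : ¬ (P3 f d0 d0 d1 = 0 ∧ P3 f d0 d1 d1 = 0) := by
    rintro ⟨h1, h2⟩
    obtain ⟨w, hw⟩ := exists_ne_of_smooth f hf e (hsm e he hfe)
    obtain ⟨p, q, hpq, hroot⟩ : ∃ p q : ℂ, (p ≠ 0 ∨ q ≠ 0) ∧
        p ^ 2 * P3 f w d0 d0 + 2 * p * q * P3 f w d0 d1 + q ^ 2 * P3 f w d1 d1 = 0 := by
      by_cases hA : P3 f w d0 d0 = 0
      · exact ⟨1, 0, Or.inl one_ne_zero, by rw [hA]; ring⟩
      · obtain ⟨r, hr⟩ := IsAlgClosed.exists_eq_mul_self
          (P3 f w d0 d1 ^ 2 - P3 f w d0 d0 * P3 f w d1 d1)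
        refine ⟨(-P3 f w d0 d1 + r) / P3 f w d0 d0, 1, Or.inr one_ne_zero, ?_⟩
        field_simp
        linear_combination -hr
    set h := p • d0 + q • d1 with hh
    have hh0 : h ≠ 0 := fun h0 => by
      obtain ⟨hp, hq⟩ := hindep p q h0
      rcases hpq with h | h
      · exact h hp
      · exact h hq
    have hfh : eval h f = 0 := by
      have := hexp p q 0
      rw [zero_smul, add_zero, h1, h2] at this
      rw [hh, this]; ring
    obtain ⟨v, hv⟩ := exists_ne_of_smooth f hf h (hsm h hh0 hfh)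
    apply hv
    obtain ⟨x', y', z', hv'⟩ := hrep (v + (-(P3 f v e e / P3 f w e e)) • w) (by
      rw [add1, smul1]; field_simp; ring)
    have hvw : v = x' • d0 + y' • d1 + z' • e + (P3 f v e e / P3 f w e e) • w := by
      rw [← hv']; module
    rw [hvw]
    have e1 : ∀ u', P3 f u' h h = p ^ 2 * P3 f u' d0 d0 + 2 * p * q * P3 f u' d0 d1 +
        q ^ 2 * P3 f u' d1 d1 := fun u' => by
      simp only [hh, add2, add3, smul2, smul3, swap23 f u' d1 d0]
      ring
    simp only [add1, smul1, e1, h000, h111, h1, h2, swap12 f e d0, swap12 f e d1, swap23 f d0 e,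
      swap23 f d1 e, he00, he11, he01, swap12 f d1 d0, swap23 f d0 d1 d0]
    linear_combination (P3 f v e e / P3 f w e e) * hroot
  rcases eq_or_ne x 0 with rfl | hx
  · exact ⟨1, by rw [hxyz, zero_smul, zero_add]
                 exact add_mem ((U 1).smul_mem _ hd1) ((U 1).smul_mem _ (hU 1).1)⟩
  rcases eq_or_ne y 0 with rfl | hy
  · exact ⟨0, by rw [hxyz, zero_smul, add_zero]
                 exact add_mem ((U 0).smul_mem _ hd0) ((U 0).smul_mem _ (hU 0).1)⟩
  have h3 : x * P3 f d0 d0 d1 + y * P3 f d0 d1 d1 = 0 :=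
    (mul_eq_zero.1 hfu).resolve_left (by simp [hx, hy])
  have hprop : x * b = y * a := by
    by_contra hne'
    apply hne
    constructor
    · have : (x * b - y * a) * P3 f d0 d0 d1 = 0 := by linear_combination b * h3 - y * hrel
      exact (mul_eq_zero.1 this).resolve_left (sub_ne_zero.2 hne')
    · have : (x * b - y * a) * P3 f d0 d1 d1 = 0 := by linear_combination -a * h3 + x * hrel
      exact (mul_eq_zero.1 this).resolve_left (sub_ne_zero.2 hne')
  refine ⟨2, ?_⟩
  have : e' = (x / a) • d2 + (z - x / a * s) • e := by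
    rw [hxyz, hd2, show y = x / a * b by field_simp; linear_combination -hprop]
    match_scalars <;> field_simp <;> ring
  rw [this]
  exact add_mem ((U 2).smul_mem _ hd2U) ((U 2).smul_mem _ (hU 2).1)

omit hsm he in
lemma isEck_image {A : Matrix (Fin 4) (Fin 4) ℂ} (hA : A * A = 1)
    (hpres : ∀ u, eval (A.mulVec u) f = eval u f) (e₁ : Fin 4 → ℂ) (h1 : IsEck f e₁) :
    IsEck f (A.mulVec e₁) := by
  obtain ⟨U, hinj, hU⟩ := h1
  have hinvol : ∀ u, A.mulVec (A.mulVec u) = u := fun u => by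
    rw [Matrix.mulVec_mulVec, hA, Matrix.one_mulVec]
  let L : (Fin 4 → ℂ) ≃ₗ[ℂ] (Fin 4 → ℂ) :=
    LinearEquiv.ofInvolutive (Matrix.toLin' A) (fun u => by simp [hinvol])
  refine ⟨fun i => (U i).map L.toLinearMap, (Submodule.map_injective_of_injective L.injective).comp hinj,
    fun i => ⟨?_, Submodule.mem_map_of_mem (hU i).2.1, ?_⟩⟩
  · rw [← (hU i).1]
    exact (LinearEquiv.submoduleMap L (U i)).finrank_eq.symm
  · rintro _ ⟨v, hv, rfl⟩
    change eval (A.mulVec v) f = 0
    rw [hpres]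
    exact (hU i).2.2 v hv

/-- The involution of `e` on a second Eckardt point off its tangent plane. -/
theorem line_dichotomy {e' : Fin 4 → ℂ} (he' : e' ∉ Submodule.span ℂ {e}) (hE' : IsEck f e') :
    (∀ u ∈ Submodule.span ℂ {e, e'}, eval u f = 0) ∨
    ∃ (M : (Fin 4 → ℂ) →ₗ[ℂ] ℂ) (A : Matrix (Fin 4) (Fin 4) ℂ), IsInv f e A ∧
      (∀ B, IsInv f e B → B = A) ∧ (∀ u, eval (A.mulVec u) f = eval u f) ∧
      A.mulVec e' = e' - M e' • e ∧ M e' ≠ 0 ∧ A.mulVec e' ∉ Submodule.span ℂ {e} ∧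
      A.mulVec e' ∉ Submodule.span ℂ {e'} ∧ IsEck f (A.mulVec e') ∧
      (∀ u ∈ Submodule.span ℂ {e, e'}, eval u f = 0 → u ∈ Submodule.span ℂ {e} ∨
        u ∈ Submodule.span ℂ {e'} ∨ u ∈ Submodule.span ℂ {A.mulVec e'}) ∧
      ¬ ∀ u ∈ Submodule.span ℂ {e, e'}, eval u f = 0 := by
  obtain ⟨M, A, hMe, hM, hA, hpres, hinv, huniq⟩ := exists_inv hf hsm he hE
  have hfe := eval_self hf hE
  have hfe' := eval_self hf hE'
  by_cases hT : P3 f e' e e = 0
  · exact Or.inl (mem_line hf hsm he hE e' hT hfe' e' rfl)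
  have he'0 : e' ≠ 0 := fun h => he' (h ▸ zero_mem _)
  have hMe' : M e' ≠ 0 := fun h => by
    have h0 := hM e'
    rw [h, mul_zero] at h0
    refine hT ?_
    have hline := mem_line hf hsm he'0 hE' e (by rwa [swap12 f e e' e', swap23 f e' e e']) hfe e rfl
    have g : ∀ t : ℂ, 3 * t * P3 f e' e' e + 3 * t ^ 2 * P3 f e' e e = 0 := fun t => by
      have := hline (e' + t • e) (add_mem (Submodule.subset_span (by simp))
        (Submodule.smul_mem _ t (Submodule.subset_span (by simp))))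
      rw [eval_add_smul f hf, hfe, hfe'] at this
      linear_combination this
    linear_combination (1 / 6 : ℂ) * g 1 + (1 / 6 : ℂ) * g (-1)
  have hne1 : A.mulVec e' ∉ Submodule.span ℂ {e} := fun h => by
    rw [hA, Submodule.mem_span_singleton] at h
    obtain ⟨t, ht⟩ := h
    exact he' (Submodule.mem_span_singleton.2 ⟨t + M e', by rw [add_smul, ht]; abel⟩)
  have hne2 : A.mulVec e' ∉ Submodule.span ℂ {e'} := fun h => by
    rw [hA, Submodule.mem_span_singleton] at h
    obtain ⟨t, ht⟩ := h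
    have h2 : M e' • e = (1 - t) • e' := by rw [sub_smul, ht]; module
    by_cases h1 : 1 - t = 0
    · rw [h1, zero_smul, smul_eq_zero] at h2
      exact h2.elim hMe' he
    · exact he' (Submodule.mem_span_singleton.2 ⟨(1 - t)⁻¹ * M e', by
        rw [mul_smul, h2, smul_smul, inv_mul_cancel₀ h1, one_smul]⟩)
  refine Or.inr ⟨M, A, hinv, huniq, hpres, hA e', hMe', hne1, hne2,
    isEck_image hf hE hinv.1 hpres e' hE', fun u hu hfu => ?_, fun h => hT ?_⟩
  · obtain ⟨s, t, rfl⟩ := Submodule.mem_span_pair.1 hu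
    rcases eq_or_ne t 0 with rfl | ht
    · exact Or.inl (Submodule.mem_span_singleton.2 ⟨s, by simp⟩)
    rcases eq_or_ne s 0 with rfl | hs
    · exact Or.inr (Or.inl (Submodule.mem_span_singleton.2 ⟨t, by simp⟩))
    refine Or.inr (Or.inr (Submodule.mem_span_singleton.2 ⟨t, ?_⟩))
    rw [add_comm, eval_add_smul f hf, hfe, eval_eq f hf] at hfu
    simp only [smul1, smul2, smul3] at hfu
    rw [← eval_eq f hf, hfe', hM e'] at hfu
    have h4 : (3 * s * t * P3 f e' e e) * (t * M e' + s) = 0 := by linear_combination hfu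
    have h5 := (mul_eq_zero.1 h4).resolve_left (by simp [hs, ht, hT])
    rw [hA, smul_sub, smul_smul, show t * M e' = -s by linear_combination h5]
    module
  · have g : ∀ t : ℂ, 3 * t * P3 f e' e' e + 3 * t ^ 2 * P3 f e' e e = 0 := fun t => by
      have := h (e' + t • e) (add_mem (Submodule.subset_span (by simp))
        (Submodule.smul_mem _ t (Submodule.subset_span (by simp))))
      rw [eval_add_smul f hf, hfe, hfe'] at this
      linear_combination this
    linear_combination (1 / 6 : ℂ) * g 1 + (1 / 6 : ℂ) * g (-1)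

end Groth.Agent.Eckardt
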