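/-
Cardinality of ring epimorphisms.
-/
import Mathlib

open TensorProduct Cardinal
universe u

namespace Groth.Agent.EpiCard


theorem exists_data {R S : Type u} [CommRing R] [CommRing S] [Algebra R S] [Algebra.IsEpi R S] (s : S) :
    ∃ (n m : ℕ) (a b : Fin n → R) (C : Fin n → Fin m → R) (x : Fin n → S) (y : Fin m → S),
      ∑ i, a i • x i = 1 ∧ ∑ i, b i • x i = s ∧ (∀ j, ∑ i, C i j • x i = 0) ∧
        ∀ i, a i • s - b i • (1 : S) = ∑ j, C i j • y j := by
  let P : Submodule R S := Submodule.span R {1, s}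
  have hP : P.FG := Submodule.fg_span ((Set.finite_singleton s).insert 1)
  let e1 : P := ⟨1, Submodule.subset_span (Set.mem_insert _ _)⟩
  let es : P := ⟨s, Submodule.subset_span (Set.mem_insert_of_mem _ rfl)⟩
  let t : P ⊗[R] S := e1 ⊗ₜ s - es ⊗ₜ 1
  have ht : LinearMap.rTensor S P.subtype t = 0 := by
    simp only [t, map_sub, LinearMap.rTensor_tmul, Submodule.subtype_apply, e1, es]
    rw [(Algebra.isEpi_iff_forall_one_tmul_eq R S).mp inferInstance s, sub_self]
  obtain ⟨Q, hPQ, hQ, hQt⟩ := TensorProduct.eq_zero_of_fg_of_subtype_eq_zero hP ht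
  haveI : Module.Finite R Q := Module.Finite.iff_fg.mpr hQ
  obtain ⟨n, x, hx⟩ := Module.Finite.exists_fin (R := R) (M := Q)
  obtain ⟨a, ha⟩ := (Submodule.mem_span_range_iff_exists_fun R).mp
    (hx ▸ Submodule.mem_top (x := Submodule.inclusion hPQ e1))
  obtain ⟨b, hb⟩ := (Submodule.mem_span_range_iff_exists_fun R).mp
    (hx ▸ Submodule.mem_top (x := Submodule.inclusion hPQ es))
  have h0 : ∑ i, x i ⊗ₜ[R] (a i • s - b i • (1 : S)) = 0 := by
    rw [← hQt]
    simp only [t, map_sub, LinearMap.rTensor_tmul, ← ha, ← hb, sum_tmul, smul_tmul, tmul_sub]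
    exact Finset.sum_sub_distrib (G := Q ⊗[R] S) _ _
  obtain ⟨m, C, y, h1, h2⟩ := TensorProduct.vanishesTrivially_of_sum_tmul_eq_zero R hx h0
  refine ⟨n, m, a, b, C, fun i => (x i : S), y, ?_, ?_, fun j => ?_, h1⟩
  · simpa [e1] using congrArg Q.subtype ha
  · simpa [es] using congrArg Q.subtype hb
  · simpa using congrArg Q.subtype (h2 j)

end Groth.Agent.EpiCard
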