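/-
ring epimorphisms and universal injectivity: locality
-/
import Mathlib
import Groth.Prelude.Def_CAlgX

open TensorProduct

universe u

namespace Groth.Agent.EpiLocal


theorem assoc_natural {R S S' : Type u} [CommRing R] [CommRing S] [CommRing S'] [Algebra R S] [Algebra R S']
    [Algebra S S'] [IsScalarTower R S S'] {M : Type u} [AddCommGroup M] [Module S M] [Module R M]
    [IsScalarTower R S M] {N N' : Type u} [AddCommGroup N] [Module R N] [AddCommGroup N'] [Module R N']
    (f : N →ₗ[R] N') (x : (S' ⊗[S] M) ⊗[R] N) :
    AlgebraTensorModule.assoc R S S S' M N' (f.lTensor (S' ⊗[S] M) x) =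
      (AlgebraTensorModule.lTensor S M f).lTensor S' (AlgebraTensorModule.assoc R S S S' M N x) := by
  induction x with
  | zero => simp only [map_zero]
  | add a b ha hb => simp only [map_add, ha, hb]
  | tmul a b =>
    induction a with
    | zero => simp only [zero_tmul, map_zero]
    | add a c ha hc => simp only [add_tmul, map_add, ha, hc]
    | tmul s m => rfl

theorem epi_over_field {K F : Type u} [Field K] [CommRing F] [Algebra K F] [Algebra.IsEpi K F] :
    Function.Surjective (algebraMap K F) := by
  rcases subsingleton_or_nontrivial F with h | h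
  · exact fun x => ⟨0, Subsingleton.elim _ _⟩
  intro a
  by_contra ha
  let L : Submodule K F := Submodule.span K {(1 : F)}
  have haL : a ∉ L := by
    rw [Submodule.mem_span_singleton]
    rintro ⟨c, hc⟩
    exact ha ⟨c, by rw [← hc, Algebra.smul_def, mul_one]⟩
  obtain ⟨φ, hφa, hφL⟩ := Submodule.exists_dual_map_eq_bot_of_notMem haL inferInstance
  have hφ1 : φ 1 = 0 := by
    have : φ 1 ∈ L.map φ := Submodule.mem_map_of_mem (Submodule.mem_span_singleton_self _)
    rwa [hφL, Submodule.mem_bot] at this
  have h := congrArg ((TensorProduct.lid K F).toLinearMap ∘ₗ φ.rTensor F) ((Algebra.isEpi_iff_forall_one_tmul_eq K F).mp inferInstance a)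
  simp [hφ1] at h
  exact hφa (by simpa using h.symm)

theorem fiber_epi {R S : Type u} [CommRing R] [CommRing S] [Algebra R S] [Algebra.IsEpi R S]
    (p : Ideal R) [p.IsPrime] : Algebra.IsEpi p.ResidueField (p.Fiber S) := by
  rw [Algebra.isEpi_iff_forall_one_tmul_eq]
  intro x
  induction x using TensorProduct.induction_on with
  | zero => simp
  | add a b ha hb => rw [tmul_add, add_tmul, ha, hb]
  | tmul k s =>
    rw [show k ⊗ₜ[R] s = k • ((1 : p.ResidueField) ⊗ₜ[R] s) by rw [smul_tmul', smul_eq_mul, mul_one],
      tmul_smul, ← smul_tmul']
    congr 1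
    let i : S →ₗ[R] p.Fiber S := TensorProduct.mk R p.ResidueField S 1
    let j : S ⊗[R] S →ₗ[R] p.Fiber S ⊗[p.ResidueField] p.Fiber S :=
      TensorProduct.lift (LinearMap.mk₂ R (fun a b => i a ⊗ₜ[p.ResidueField] i b)
        (fun a b c => by simp [add_tmul]) (fun r a b => by simp [smul_tmul'])
        (fun a b c => by simp [tmul_add]) (fun r a b => by simp [tmul_smul]))
    exact congrArg j ((Algebra.isEpi_iff_forall_one_tmul_eq R S).mp inferInstance s)

theorem ui_restrict_of_localization {A As : Type u} [CommRing A] [CommRing As] [Algebra A As] (S : Submonoid A)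
    [IsLocalization S As] {M M' : Type u} [AddCommGroup M] [AddCommGroup M'] [Module As M] [Module As M']
    [Module A M] [Module A M'] [IsScalarTower A As M] [IsScalarTower A As M'] (f : M →ₗ[As] M') :
    CAlgX.UniversallyInjective A (f.restrictScalars A) ↔ CAlgX.UniversallyInjective As f := by
  constructor
  · intro h Q _ _
    letI : Module A Q := Module.compHom Q (algebraMap A As)
    haveI : IsScalarTower A As Q := IsScalarTower.of_algebraMap_smul (fun _ _ => rfl)
    have e : ∀ x, IsLocalization.moduleTensorEquiv S As M' Q (f.rTensor Q x) =
        (f.restrictScalars A).rTensor Q (IsLocalization.moduleTensorEquiv S As M Q x) := by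
      intro x
      induction x with
      | zero => simp
      | add a b ha hb => simp only [map_add, ha, hb]
      | tmul a b => rfl
    intro x y hxy
    refine (IsLocalization.moduleTensorEquiv S As M Q).injective (h Q ?_)
    rw [← e, ← e, hxy]
  · intro h Q _ _
    let Q' := As ⊗[A] Q
    let g : Q →ₗ[A] Q' := TensorProduct.mk A As Q 1
    have hinj : Function.Injective (g.lTensor M) := by
      haveI : IsLocalizedModule S g := inferInstance
      haveI : IsLocalizedModule S (LinearMap.id : M →ₗ[A] M) := by
        constructor
        · intro s
          rw [Module.End.isUnit_iff]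
          have hu := IsLocalization.map_units As s
          constructor
          · intro x y hxy
            simp only [Module.algebraMap_end_apply] at hxy
            rw [← algebraMap_smul As, ← algebraMap_smul As (s : A) y] at hxy
            exact hu.smul_left_cancel.mp hxy
          · intro x
            obtain ⟨u, hu⟩ := hu
            refine ⟨(↑u⁻¹ : As) • x, ?_⟩
            simp only [Module.algebraMap_end_apply]
            rw [← algebraMap_smul As, ← hu, smul_smul, Units.mul_inv, one_smul]
        · exact fun x => ⟨(x, 1), by simp⟩
        · exact fun {x y} hxy => ⟨1, by simpa using hxy⟩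
      intro x y hxy
      obtain ⟨s, hs⟩ := IsLocalizedModule.exists_of_eq (S := S) (f := TensorProduct.map LinearMap.id g) hxy
      rw [Submonoid.smul_def, Submonoid.smul_def, ← algebraMap_smul As, ← algebraMap_smul As (s : A) y] at hs
      exact (IsLocalization.map_units As s).smul_left_cancel.mp hs
    have e : ∀ x, IsLocalization.moduleTensorEquiv S As M' Q' (f.rTensor Q' x) =
        (f.restrictScalars A).rTensor Q' (IsLocalization.moduleTensorEquiv S As M Q' x) := by
      intro x
      induction x with
      | zero => simp
      | add a b ha hb => simp only [map_add, ha, hb]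
      | tmul a b => rfl
    intro x y hxy
    apply hinj
    obtain ⟨x', hx'⟩ := (IsLocalization.moduleTensorEquiv S As M Q').surjective (g.lTensor M x)
    obtain ⟨y', hy'⟩ := (IsLocalization.moduleTensorEquiv S As M Q').surjective (g.lTensor M y)
    rw [← hx', ← hy']
    refine congrArg _ (h Q' ((IsLocalization.moduleTensorEquiv S As M' Q').injective ?_))
    rw [e, e, hx', hy']
    simp only [← LinearMap.comp_apply, LinearMap.rTensor_comp_lTensor, ← LinearMap.lTensor_comp_rTensor]
    simp only [LinearMap.comp_apply, hxy]

end Groth.Agent.EpiLocal
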