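import Mathlib

/-!
# Dimension of affine algebras over a field

Monotonicity of the dimension under injective maps of affine algebras, the bound by the base in
the presence of finite fibres, and strictness for closed subsets missing all components.
-/

universe u

noncomputable section

namespace Groth.Agent.H8AffDim

variable {k : Type u} [Field k]

/-- A maximal ideal of an affine algebra over an algebraically closed field gives a point. -/
theorem exists_point [IsAlgClosed k] {A : Type u} [CommRing A] [Algebra k A]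
    [Algebra.FiniteType k A] (M : Ideal A) [M.IsMaximal] :
    ∃ x : A →ₐ[k] k, RingHom.ker x = M := by
  letI := Ideal.Quotient.field M
  haveI : Algebra.FiniteType k (A ⧸ M) :=
    Algebra.FiniteType.of_surjective (Ideal.Quotient.mkₐ k M) (Ideal.Quotient.mkₐ_surjective k M)
  haveI : Module.Finite k (A ⧸ M) := finite_of_finite_type_of_isJacobsonRing k (A ⧸ M)
  let e : k ≃ₐ[k] A ⧸ M := AlgEquiv.ofBijective (Algebra.ofId k (A ⧸ M))
    (IsAlgClosed.algebraMap_bijective_of_isIntegral (k := k) (K := A ⧸ M))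
  refine ⟨e.symm.toAlgHom.comp (Ideal.Quotient.mkₐ k M), ?_⟩
  ext a
  simp [RingHom.mem_ker, Ideal.Quotient.eq_zero_iff_mem]

/-- Points separate up to nilpotents. -/
theorem isNilpotent_of_points [IsAlgClosed k] {A : Type u} [CommRing A] [Algebra k A]
    [Algebra.FiniteType k A] {a : A} (h : ∀ x : A →ₐ[k] k, x a = 0) : IsNilpotent a := by
  haveI : IsJacobsonRing A := isJacobsonRing_of_finiteType (A := k)
  rw [← mem_nilradical]
  show a ∈ (⊥ : Ideal A).radical
  rw [Ideal.radical_eq_jacobson]
  refine Submodule.mem_sInf.mpr fun M hM => ?_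
  haveI := hM.2
  obtain ⟨x, hx⟩ := exists_point (k := k) M
  exact hx ▸ h x

/-- An affine algebra over an algebraically closed field with finitely many points has dimension zero. -/
theorem dim_zero_of_finite_points [IsAlgClosed k] {A : Type u} [CommRing A] [Algebra k A]
    [Algebra.FiniteType k A] [Finite (A →ₐ[k] k)] : Ring.KrullDimLE 0 A := by
  classical
  haveI : IsJacobsonRing A := isJacobsonRing_of_finiteType (A := k)
  haveI := Fintype.ofFinite (A →ₐ[k] k)
  refine Ring.krullDimLE_zero_iff.mpr fun P hP => ?_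
  let s : Finset (A →ₐ[k] k) := Finset.univ.filter fun x => P ≤ RingHom.ker x
  have hle : s.inf (fun x => RingHom.ker x) ≤ P := by
    intro a ha
    rw [← hP.isRadical.radical, Ideal.radical_eq_jacobson]
    refine Submodule.mem_sInf.mpr fun M hM => ?_
    haveI := hM.2
    obtain ⟨x, hx⟩ := exists_point (k := k) M
    have : s.inf (fun x => RingHom.ker x) ≤ RingHom.ker x :=
      Finset.inf_le (f := fun x : A →ₐ[k] k => RingHom.ker x) (by simp [s, hx, hM.1])
    exact hx ▸ this ha
  obtain ⟨x, hx, hxP⟩ := (Ideal.IsPrime.inf_le' hP).mp hle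
  have hPx : P ≤ RingHom.ker x := by simpa [s] using hx
  rw [le_antisymm hPx hxP]
  exact RingHom.ker_isMaximal_of_surjective x fun r => ⟨algebraMap k A r, x.commutes r⟩

/-- Lifting independent elements along a non-injective surjection of domains. -/
theorem exists_indep_succ {B C : Type u} [CommRing B] [IsDomain B] [Algebra k B] [CommRing C]
    [IsDomain C] [Algebra k C] (π : B →ₐ[k] C) (hπ : Function.Surjective π) {c : B} (hc0 : c ≠ 0)
    (hc : π c = 0) {n : ℕ} {g : MvPolynomial (Fin n) k →ₐ[k] C} (hg : Function.Injective g) :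
    ∃ f : MvPolynomial (Fin (n + 1)) k →ₐ[k] B, Function.Injective f := by
  choose y hy using fun i => hπ (g (MvPolynomial.X i))
  let φ : MvPolynomial (Fin n) k →ₐ[k] B := MvPolynomial.aeval y
  have hφ : π.comp φ = g := MvPolynomial.algHom_ext fun i => by simp [φ, hy]
  let ψ : Polynomial (MvPolynomial (Fin n) k) →ₐ[k] B :=
    Polynomial.eval₂AlgHom φ c fun _ => Commute.all _ _
  refine ⟨ψ.comp (MvPolynomial.finSuccEquiv k n).toAlgHom, ?_⟩
  suffices hψ : ∀ p, ψ p = 0 → p = 0 from fun a b hab =>
    (MvPolynomial.finSuccEquiv k n).injective ((injective_iff_map_eq_zero ψ).mpr hψ hab)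
  intro p hp
  by_contra hp0
  obtain ⟨q, hq, hnd⟩ := Polynomial.exists_eq_pow_rootMultiplicity_mul_and_not_dvd p hp0 0
  simp only [map_zero, sub_zero] at hq hnd
  have hψX : ψ Polynomial.X = c := by simp [ψ]
  have hq0 : ψ q = 0 := by
    rw [hq, map_mul, map_pow, hψX] at hp
    exact (mul_eq_zero.mp hp).resolve_left (pow_ne_zero _ hc0)
  have hk : ∀ p, π (ψ p) = g (p.coeff 0) := by
    intro p
    induction p using Polynomial.induction_on' with
    | add a b ha hb => simp [ha, hb]
    | monomial m a =>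
      rcases Nat.eq_zero_or_pos m with rfl | hm
      · simp [ψ, ← hφ]
      · simp [ψ, hc, zero_pow hm.ne', Polynomial.coeff_monomial, hm.ne']
  have h0 := hk q
  rw [hq0, map_zero] at h0
  exact hnd (Polynomial.X_dvd_iff.mpr ((injective_iff_map_eq_zero g).mp hg _ h0.symm))

/-- A chain of primes gives independent elements modulo its bottom. -/
theorem exists_indep_of_chain {B : Type u} [CommRing B] [Algebra k B]
    (l : LTSeries (PrimeSpectrum B)) :
    ∃ g : MvPolynomial (Fin l.length) k →ₐ[k] B ⧸ l.head.asIdeal, Function.Injective g := by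
  induction l using RelSeries.inductionOn with
  | singleton q =>
    haveI : IsEmpty (Fin (RelSeries.singleton {(a, b) : PrimeSpectrum B × PrimeSpectrum B | a < b} q).length) :=
      (inferInstance : IsEmpty (Fin 0))
    refine ⟨MvPolynomial.aeval isEmptyElim, ?_⟩
    exact algebraicIndependent_empty_type_iff.mpr
      (RingHom.injective (algebraMap k (B ⧸ q.asIdeal)))
  | cons l q lt ih =>
    obtain ⟨g, hg⟩ := ih
    have hle : q.asIdeal < l.head.asIdeal := lt
    obtain ⟨b, hb, hbq⟩ := SetLike.exists_of_lt hle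
    obtain ⟨f, hf⟩ : ∃ f : MvPolynomial (Fin (l.length + 1)) k →ₐ[k] B ⧸ q.asIdeal, Function.Injective f :=
      exists_indep_succ (Ideal.Quotient.factorₐ k hle.le) (Ideal.Quotient.factor_surjective hle.le)
        (c := Ideal.Quotient.mk _ b) (by simpa [Ideal.Quotient.eq_zero_iff_mem] using hbq)
        (by simpa [Ideal.Quotient.eq_zero_iff_mem] using hb) (g := g) hg
    simp only [RelSeries.head_cons]
    have he : (l.cons q lt).length = l.length + 1 := by simp
    rw [he]
    exact ⟨f, hf⟩

/-- The number of independent elements is bounded by the dimension. -/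
theorem natCast_le_dim {A : Type u} [CommRing A] [Algebra k A] [Algebra.FiniteType k A] {n : ℕ}
    (f : MvPolynomial (Fin n) k →ₐ[k] A) (hf : Function.Injective f) :
    (n : WithBot ℕ∞) ≤ ringKrullDim A := by
  obtain ⟨Q, hQ, hQc⟩ := Ideal.exists_comap_eq_of_mem_minimalPrimes_of_injective (f := f.toRingHom) hf
    (⊥ : Ideal (MvPolynomial (Fin n) k)) ⟨⟨Ideal.isPrime_bot, le_rfl⟩, fun _ _ _ => bot_le⟩
  haveI : Algebra.FiniteType k (A ⧸ Q) :=
    Algebra.FiniteType.of_surjective (Ideal.Quotient.mkₐ k Q) (Ideal.Quotient.mkₐ_surjective k Q)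
  have hf' : Function.Injective ((Ideal.Quotient.mkₐ k Q).comp f) := by
    refine (injective_iff_map_eq_zero _).mpr fun p hp => ?_
    have : p ∈ Q.comap f.toRingHom := by
      simpa [Ideal.Quotient.eq_zero_iff_mem] using hp
    rwa [hQc] at this
  obtain ⟨m, g, hg, hgint⟩ := exists_integral_inj_algHom_of_fg k (A ⧸ Q)
  letI := g.toRingHom.toAlgebra
  haveI : IsScalarTower k (MvPolynomial (Fin m) k) (A ⧸ Q) :=
    IsScalarTower.of_algebraMap_eq fun r => (g.commutes r).symm
  haveI : Algebra.IsIntegral (MvPolynomial (Fin m) k) (A ⧸ Q) := ⟨hgint⟩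
  haveI : FaithfulSMul (MvPolynomial (Fin m) k) (A ⧸ Q) :=
    (faithfulSMul_iff_algebraMap_injective _ _).mpr hg
  haveI : FaithfulSMul k (MvPolynomial (Fin m) k) :=
    (faithfulSMul_iff_algebraMap_injective _ _).mpr (RingHom.injective _)
  have h1 := trdeg_le_of_injective _ hf'
  rw [← trdeg_add_eq k (MvPolynomial (Fin m) k) (A := A ⧸ Q),
    trdeg_eq_zero (R := MvPolynomial (Fin m) k), add_zero,
    MvPolynomial.trdeg_of_isDomain, MvPolynomial.trdeg_of_isDomain] at h1
  have hnm : n ≤ m := by simpa using h1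
  refine le_trans (b := (m : WithBot ℕ∞)) ?_ (le_trans ?_ (ringKrullDim_quotient_le Q))
  · exact_mod_cast hnm
  have hdim : ringKrullDim (MvPolynomial (Fin m) k) = (m : WithBot ℕ∞) := by
    rw [MvPolynomial.ringKrullDim_of_isNoetherianRing, ringKrullDim_eq_zero_of_field]
    simp
  rw [← hdim]
  refine iSup_le fun l => ?_
  · obtain ⟨P, -, hP, hPc⟩ := Ideal.exists_ideal_over_prime_of_isIntegral (S := A ⧸ Q) l.head.asIdeal ⊥
      (by intro p hp
          obtain rfl : p = 0 := (injective_iff_map_eq_zero g).mp hg p hp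
          exact zero_mem _)
    haveI := hP
    haveI : P.LiesOver l.head.asIdeal := ⟨hPc.symm⟩
    obtain ⟨L, hL, -, -⟩ := Ideal.exists_ltSeries_of_hasGoingUp l P
    rw [← hL]
    exact Order.LTSeries.length_le_krullDim L

/-- The dimension does not go down along injective maps of affine algebras. -/
theorem dim_le_of_injective {A B : Type u} [CommRing A] [Algebra k A] [Algebra.FiniteType k A]
    [CommRing B] [Algebra k B] (o : B →ₐ[k] A) (ho : Function.Injective o) :
    ringKrullDim B ≤ ringKrullDim A := by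
  refine iSup_le fun l => ?_
  obtain ⟨P, hP, hPle⟩ := Ideal.exists_minimalPrimes_le (bot_le (a := l.head.asIdeal))
  haveI : P.IsPrime := hP.1.1
  obtain ⟨l', hl', hh⟩ : ∃ l' : LTSeries (PrimeSpectrum B), l.length ≤ l'.length ∧ l'.head.asIdeal = P := by
    rcases eq_or_lt_of_le hPle with h | h
    · exact ⟨l, le_rfl, h.symm⟩
    · exact ⟨l.cons ⟨P, inferInstance⟩ h, by simp, rfl⟩
  obtain ⟨g, hg⟩ := exists_indep_of_chain (k := k) l'
  obtain ⟨Q, hQ, hQc⟩ := Ideal.exists_comap_eq_of_mem_minimalPrimes_of_injective (f := o.toRingHom) ho P hP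
  have hPc : P = Q.comap o := hQc.symm
  haveI : Algebra.FiniteType k (A ⧸ Q) :=
    Algebra.FiniteType.of_surjective (Ideal.Quotient.mkₐ k Q) (Ideal.Quotient.mkₐ_surjective k Q)
  let i : B ⧸ l'.head.asIdeal →ₐ[k] A ⧸ Q :=
    Ideal.quotientMapₐ Q o (by rw [hh, hPc])
  have hi : Function.Injective i := by
    refine (injective_iff_map_eq_zero i).mpr fun b hb => ?_
    obtain ⟨b, rfl⟩ := Ideal.Quotient.mk_surjective b
    refine Ideal.Quotient.eq_zero_iff_mem.mpr ?_
    rw [hh, hPc]
    exact Ideal.mem_comap.mpr (Ideal.Quotient.eq_zero_iff_mem.mp (by simpa [i] using hb))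
  refine le_trans ?_ ((natCast_le_dim (i.comp g) (hi.comp hg)).trans (ringKrullDim_quotient_le Q))
  exact_mod_cast hl'

/-- An affine algebra has finite dimension. -/
theorem dim_ne_top {A : Type u} [CommRing A] [Algebra k A] [Algebra.FiniteType k A] :
    ringKrullDim A ≠ ⊤ := by
  obtain ⟨n, f, hf⟩ := Algebra.FiniteType.iff_quotient_mvPolynomial''.mp
    (inferInstance : Algebra.FiniteType k A)
  have h := ringKrullDim_le_of_surjective f.toRingHom hf
  rw [MvPolynomial.ringKrullDim_of_isNoetherianRing, ringKrullDim_eq_zero_of_field] at h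
  refine ne_top_of_le_ne_top ?_ h
  simp only [zero_add, Nat.card_eq_fintype_card, Fintype.card_fin]
  exact WithBot.coe_injective.ne (ENat.natCast_ne_top n)

/-- The dimension is bounded by that of the base when the closed fibres are finite. -/
theorem dim_le_of_finite_fibres [IsAlgClosed k] {A B : Type u} [CommRing A] [Algebra k A]
    [Algebra.FiniteType k A] [CommRing B] [Algebra k B] [Algebra.FiniteType k B] (o : B →ₐ[k] A)
    (h : ∀ p : A →ₐ[k] k, {p' : A →ₐ[k] k | p'.comp o = p.comp o}.Finite) :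
    ringKrullDim A ≤ ringKrullDim B := by
  haveI : IsNoetherianRing A := Algebra.FiniteType.isNoetherianRing k A
  haveI : IsNoetherianRing B := Algebra.FiniteType.isNoetherianRing k B
  rw [ringKrullDim_le_iff_isMaximal_height_le]
  intro M hM
  obtain ⟨p, rfl⟩ := exists_point (k := k) M
  letI := o.toRingHom.toAlgebra
  let w : Ideal B := (RingHom.ker p).comap (algebraMap B A)
  haveI : (RingHom.ker p).LiesOver w := ⟨rfl⟩
  have hwle : w.map (algebraMap B A) ≤ RingHom.ker p := Ideal.map_comap_le
  haveI hfin : Finite ((A ⧸ w.map (algebraMap B A)) →ₐ[k] k) := by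
    haveI : Finite {p' : A →ₐ[k] k // p'.comp o = p.comp o} := (h p).to_subtype
    refine Finite.of_injective (β := {p' : A →ₐ[k] k // p'.comp o = p.comp o})
      (fun q => ⟨q.comp (Ideal.Quotient.mkₐ k _), ?_⟩) fun q q' hq => ?_
    · refine AlgHom.ext fun b => ?_
      have hb : b - algebraMap k B (p (o b)) ∈ w := by
        show p (o _) = 0
        simp
      have := congrArg q (Ideal.Quotient.eq_zero_iff_mem.mpr (Ideal.mem_map_of_mem (algebraMap B A) hb))
      rw [map_zero, map_sub, map_sub, map_sub, sub_eq_zero] at this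
      refine (show q (Ideal.Quotient.mkₐ k _ (o b)) = _ from this).trans ?_
      show q (Ideal.Quotient.mkₐ k _ (o (algebraMap k B (p (o b))))) = p (o b)
      simp
    · exact AlgHom.cancel_right (Ideal.Quotient.mkₐ_surjective k _) |>.mp (congrArg Subtype.val hq)
  haveI : Algebra.FiniteType k (A ⧸ w.map (algebraMap B A)) :=
    Algebra.FiniteType.of_surjective (Ideal.Quotient.mkₐ k _) (Ideal.Quotient.mkₐ_surjective k _)
  haveI := dim_zero_of_finite_points (k := k) (A := A ⧸ w.map (algebraMap B A))
  haveI hprime : ((RingHom.ker p).map (Ideal.Quotient.mk (w.map (algebraMap B A)))).IsPrime :=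
    Ideal.map_isPrime_of_surjective Ideal.Quotient.mk_surjective (by rwa [Ideal.mk_ker])
  have h0 : ((RingHom.ker p).map (Ideal.Quotient.mk (w.map (algebraMap B A)))).height = 0 := by
    rw [Ideal.height_eq_zero_iff]
    exact Ideal.mem_minimalPrimes_of_krullDimLE_zero _
  have h1 := Ideal.height_le_height_add_of_liesOver w (RingHom.ker p)
  rw [h0, add_zero] at h1
  exact le_trans (WithBot.coe_le_coe.mpr h1) Ideal.height_le_ringKrullDim_of_isPrime

/-- A closed subset containing no component has smaller dimension. -/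
theorem dim_quotient_succ_le {R : Type u} [CommRing R] {I J : Ideal R} (hIJ : I ≤ J) (hJ : J ≠ ⊤)
    (h : ∀ P ∈ I.minimalPrimes, ¬ J ≤ P) :
    ringKrullDim (R ⧸ J) + 1 ≤ ringKrullDim (R ⧸ I) := by
  rw [ringKrullDim_quotient, ringKrullDim_quotient]
  haveI : Nonempty ↥(PrimeSpectrum.zeroLocus (R := R) J) := by
    obtain ⟨M, hM, hJM⟩ := Ideal.exists_le_maximal J hJ
    exact ⟨⟨⟨M, hM.isPrime⟩, hJM⟩⟩
  haveI : Nonempty ↥(PrimeSpectrum.zeroLocus (R := R) I) :=
    ⟨⟨(Classical.arbitrary ↥(PrimeSpectrum.zeroLocus (R := R) J)).1,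
      hIJ.trans (Classical.arbitrary ↥(PrimeSpectrum.zeroLocus (R := R) J)).2⟩⟩
  rw [Order.krullDim_eq_iSup_length, Order.krullDim_eq_iSup_length, ← WithBot.coe_one,
    ← WithBot.coe_add, WithBot.coe_le_coe, ENat.iSup_add]
  refine iSup_le fun l => ?_
  haveI := l.head.1.2
  have hJh : J ≤ l.head.1.asIdeal := l.head.2
  obtain ⟨P, hP, hPle⟩ := Ideal.exists_minimalPrimes_le (hIJ.trans hJh)
  haveI : P.IsPrime := hP.1.1
  have hlt : P < l.head.1.asIdeal := lt_of_le_of_ne hPle fun e => h P hP (e ▸ hJh)
  let L : LTSeries ↥(PrimeSpectrum.zeroLocus (R := R) I) :=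
    l.map (fun x => ⟨x.1, hIJ.trans x.2⟩) (fun _ _ hxy => hxy)
  refine le_trans ?_ (le_iSup _ (L.cons ⟨⟨P, inferInstance⟩, hP.1.2⟩ (by
    rw [show L.head = _ from LTSeries.head_map l _ _]; exact hlt)))
  simp [L]

end Groth.Agent.H8AffDim
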