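import Groth.Agent.Lib.H4SchTop
import Groth.Agent.Lib.H8AffDim
import Mathlib

/-! Algebraic lemmas for groupoids over a field: a field inside a finitely generated domain is
algebraic over the ground field; dimension versus transcendence degree; independent copies. -/

set_option autoImplicit false
set_option backward.isDefEq.respectTransparency.types false

universe u

open Polynomial

noncomputable section

namespace Groth.Agent.Lib.FieldRootsAlg

theorem exists_cyclo_coprime {K : Type u} [Field K] (g : K[X]) (hg : g ≠ 0) :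
    ∃ ℓ : ℕ, ℓ.Prime ∧ ∀ θ : AlgebraicClosure K, aeval θ g = 0 →
      aeval θ (∑ i ∈ Finset.range ℓ, (X : K[X]) ^ i) ≠ 0 := by
  classical
  by_contra hcon
  have hcon' : ∀ ℓ : ℕ, ℓ.Prime → ∃ θ : AlgebraicClosure K, aeval θ g = 0 ∧
      aeval θ (∑ i ∈ Finset.range ℓ, (X : K[X]) ^ i) = 0 := fun ℓ hℓ => by
    by_contra h
    exact hcon ⟨ℓ, hℓ, fun θ h1 h2 => h ⟨θ, h1, h2⟩⟩
  choose θ hθ1 hθ2 using hcon'
  have hgeom : ∀ ℓ hℓ, θ ℓ hℓ ^ ℓ = 1 ∧ (θ ℓ hℓ = 1 → (ℓ : AlgebraicClosure K) = 0) := fun ℓ hℓ => by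
    have h : ∑ i ∈ Finset.range ℓ, θ ℓ hℓ ^ i = 0 := by simpa using hθ2 ℓ hℓ
    refine ⟨?_, fun h1 => ?_⟩
    · have := geom_sum_mul (θ ℓ hℓ) ℓ
      rw [h, zero_mul] at this
      exact (sub_eq_zero.1 this.symm)
    · rw [h1] at h; simpa using h
  have hroot : ∀ ℓ hℓ, θ ℓ hℓ ∈ (g.map (algebraMap K (AlgebraicClosure K))).roots.toFinset := fun ℓ hℓ => by
    rw [Multiset.mem_toFinset, mem_roots (Polynomial.map_ne_zero hg), IsRoot, eval_map]
    exact hθ1 ℓ hℓ
  haveI : Infinite {ℓ : ℕ // ℓ.Prime} := Nat.infinite_setOf_prime.to_subtype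
  obtain ⟨⟨a, ha⟩, ⟨b, hb⟩, hne, hab⟩ := Finite.exists_ne_map_eq_of_infinite
    (fun l : {ℓ : ℕ // ℓ.Prime} => (⟨θ l.1 l.2, hroot l.1 l.2⟩ : {x // x ∈ (g.map (algebraMap K (AlgebraicClosure K))).roots.toFinset}))
  simp only [Subtype.mk.injEq] at hab
  have hne' : a ≠ b := fun e => hne (Subtype.ext e)
  have hco : a.Coprime b := (Nat.coprime_primes ha hb).2 hne'
  have h1 : θ a ha = 1 := by
    have e1 := (hgeom a ha).1
    have e2 := (hgeom b hb).1
    rw [← hab] at e2
    have := (pow_gcd_eq_one (a := θ a ha) (m := a) (n := b)).2 ⟨e1, e2⟩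
    rwa [hco.gcd_eq_one, pow_one] at this
  have za := (hgeom a ha).2 h1
  have zb := (hgeom b hb).2 (by rw [← hab]; exact h1)
  obtain ⟨p, hp⟩ := CharP.exists (AlgebraicClosure K)
  rw [CharP.cast_eq_zero_iff (AlgebraicClosure K) p] at za zb
  rcases (Nat.dvd_prime ha).1 za with h | h
  · exact CharP.char_ne_one (AlgebraicClosure K) p h
  · subst h
    exact hne' ((Nat.prime_dvd_prime_iff_eq ha hb).1 zb)

/-- a second copy of the ground field inside a finitely generated domain is algebraic over the first -/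
theorem isAlgebraic_of_domain {k A : Type u} [Field k] [CommRing A] [IsDomain A] [Algebra k A]
    [Algebra.FiniteType k A] (τ : k →+* A) (c : k) : IsAlgebraic k (τ c) := by
  classical
  by_contra hx
  have hx' : Transcendental k (τ c) := hx
  letI : Algebra k[X] A := (aeval (τ c)).toRingHom.toAlgebra
  haveI : IsScalarTower k k[X] A := IsScalarTower.of_algebraMap_eq fun r => ((aeval (τ c)).commutes r).symm
  haveI : Algebra.FiniteType k[X] A := Algebra.FiniteType.of_restrictScalars_finiteType k k[X] A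
  haveI : FaithfulSMul k[X] A :=
    (faithfulSMul_iff_algebraMap_injective _ _).2 (transcendental_iff_injective.1 hx')
  obtain ⟨f, hf, hsub⟩ := Groth.Agent.H4SchTop.exists_basicOpen_subset_range (R := k[X]) (S := A)
  have hg : f * (X - C c) ≠ 0 := mul_ne_zero hf (X_sub_C_ne_zero c)
  obtain ⟨ℓ, hℓ, hroots⟩ := exists_cyclo_coprime _ hg
  let Φ : k[X] := ∑ i ∈ Finset.range ℓ, X ^ i
  have hdeg : 0 < Φ.degree := by
    have : Φ.natDegree = ℓ - 1 := by
      obtain ⟨m, rfl⟩ : ∃ m, ℓ = m + 1 := ⟨ℓ - 1, by have := hℓ.two_le; omega⟩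
      refine natDegree_eq_of_le_of_coeff_ne_zero ?_ ?_
      · refine natDegree_sum_le_of_forall_le _ _ fun i hi => ?_
        have := Finset.mem_range.1 hi
        rw [natDegree_X_pow]; omega
      · simp [Φ, finsetSum_coeff, coeff_X_pow]
    refine natDegree_pos_iff_degree_pos.1 ?_
    have := hℓ.two_le; omega
  obtain ⟨θ, hθ⟩ := IsAlgClosed.exists_aeval_eq_zero (AlgebraicClosure k) Φ hdeg.ne'
  let P : Ideal k[X] := RingHom.ker (aeval θ).toRingHom
  haveI : P.IsPrime := RingHom.ker_isPrime _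
  have hfP : f ∉ P := fun h => hroots θ (by rw [map_mul, show aeval θ f = 0 from h, zero_mul]) hθ
  obtain ⟨Q, hQ, hQP⟩ := hsub P inferInstance hfP
  have hu : IsUnit (aeval (τ c) Φ) := by
    have e : aeval (τ c) Φ = τ (∑ i ∈ Finset.range ℓ, c ^ i) := by simp [Φ]
    rw [e]
    refine (IsUnit.mk0 _ ?_).map τ
    intro h0
    refine hroots (algebraMap k _ c) (by simp) ?_
    simp [Φ, ← map_pow, ← map_sum, h0]
  have hmem : Φ ∈ Q.comap (algebraMap k[X] A) := by rw [hQP]; exact hθ
  exact hQ.ne_top (Ideal.eq_top_of_isUnit_mem _ hmem hu)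

section Dim
variable {k B K : Type u} [Field k] [CommRing B] [Algebra k B] [Algebra.FiniteType k B] [Field K] [Algebra k K]

theorem natCast_le_dim_of_indep (φ : B →ₐ[k] K) (hfrac : ∀ z : K, ∃ a b : B, φ b ≠ 0 ∧ z * φ b = φ a)
    {n : ℕ} (y : Fin n → K) (hy : AlgebraicIndependent k y) : (n : WithBot ℕ∞) ≤ ringKrullDim B := by
  let A := φ.range
  haveI : Algebra.FiniteType k A := Algebra.FiniteType.of_surjective φ.rangeRestrict φ.rangeRestrict_surjective
  haveI : Algebra.IsAlgebraic A K := ⟨fun z => by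
    obtain ⟨a, b, hb, hab⟩ := hfrac z
    refine ⟨C (⟨φ b, b, rfl⟩ : A) * X - C (⟨φ a, a, rfl⟩ : A), fun h => ?_, ?_⟩
    · have h1 := congrArg (fun p => Polynomial.coeff p 1) h
      simp [coeff_C] at h1
      exact hb (congrArg Subtype.val h1)
    · simp only [map_sub, map_mul, aeval_C, aeval_X]
      show φ b * z - φ a = 0
      rw [mul_comm, hab, sub_self]⟩
  have htr : Algebra.trdeg k K = Algebra.trdeg k A := by
    rw [← trdeg_add_eq k A (A := K), trdeg_eq_zero (R := A) (A := K), add_zero]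
  obtain ⟨s, hs⟩ := exists_isTranscendenceBasis k A
  have hle : (n : Cardinal) ≤ Cardinal.mk s := by
    rw [hs.cardinalMk_eq_trdeg, ← htr]
    simpa using hy.lift_cardinalMk_le_trdeg
  have hcard : Cardinal.mk (ULift.{u} (Fin n)) ≤ Cardinal.mk s := by simpa using hle
  obtain ⟨e⟩ := (Cardinal.le_def _ _).1 hcard
  have hind : AlgebraicIndependent k (fun i : Fin n => ((e ⟨i⟩ : s) : A)) :=
    hs.1.comp (fun i : Fin n => e ⟨i⟩) (fun a b h => congrArg ULift.down (e.injective h))
  refine le_trans (Groth.Agent.H8AffDim.natCast_le_dim (MvPolynomial.aeval _) hind) ?_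
  exact ringKrullDim_le_of_surjective φ.rangeRestrict.toRingHom φ.rangeRestrict_surjective

omit [Algebra.FiniteType k B] in
theorem indep_of_chain (l : LTSeries (PrimeSpectrum B)) (φ : B →ₐ[k] K) (hker : ∀ b, φ b = 0 ↔ b ∈ l.head.asIdeal) :
    ∃ y : Fin l.length → K, AlgebraicIndependent k y := by
  obtain ⟨g, hg⟩ := Groth.Agent.H8AffDim.exists_indep_of_chain (k := k) l
  let ψ : B ⧸ l.head.asIdeal →ₐ[k] K := Ideal.Quotient.liftₐ _ φ fun b hb => (hker b).2 hb
  have hψ : Function.Injective ψ := by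
    refine (injective_iff_map_eq_zero _).2 fun b hb => ?_
    obtain ⟨b, rfl⟩ := Ideal.Quotient.mk_surjective b
    exact Ideal.Quotient.eq_zero_iff_mem.2 ((hker b).1 hb)
  refine ⟨fun i => ψ (g (MvPolynomial.X i)), ?_⟩
  show Function.Injective (MvPolynomial.aeval _)
  have : (MvPolynomial.aeval fun i => ψ (g (MvPolynomial.X i))) = ψ.comp g :=
    MvPolynomial.algHom_ext fun i => by simp
  rw [this]; exact hψ.comp hg

end Dim

section Copies
/-- a field, forgetting the algebra structures -/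
def Copy (α : Type u) : Type u := α

noncomputable instance (α : Type u) [Field α] : Field (Copy α) := ‹Field α›

theorem copy_isAlgClosed (α : Type u) [Field α] [IsAlgClosed α] : IsAlgClosed (Copy α) := ‹IsAlgClosed α›

variable {k K : Type u} [Field k] [Field K] [Algebra k K]

/-- two embeddings agreeing on algebraic elements, with independent images of a transcendence basis -/
theorem exists_copies {n : ℕ} (y : Fin n → K) (hy : AlgebraicIndependent k y) :
    ∃ (Ω : Type u) (_ : Field Ω) (a b : K →+* Ω), (∀ x : K, IsAlgebraic k x → a x = b x) ∧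
      (letI := a.toAlgebra; AlgebraicIndependent K (fun i => b (y i))) := by
  classical
  let k' : IntermediateField k K := algebraicClosure k K
  obtain ⟨t, hyt, ht⟩ := exists_isTranscendenceBasis_superset (R := k) (AlgebraicIndependent.to_subtype_range hy)
  haveI : Algebra.IsAlgebraic k k' := algebraicClosure.isAlgebraic k K
  have ht' : AlgebraicIndependent k' (Subtype.val : t → K) := ht.1.extendScalars (S := k')
  let Ω := AlgebraicClosure (FractionRing (MvPolynomial t K))
  let S := Algebra.adjoin k' (Set.range (Subtype.val : t → K))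
  let ι₀ : MvPolynomial t K →ₐ[K] Ω := IsScalarTower.toAlgHom K (MvPolynomial t K) Ω
  have hι₀ : Function.Injective ι₀ := by
    show Function.Injective (algebraMap (MvPolynomial t K) Ω)
    rw [IsScalarTower.algebraMap_eq (MvPolynomial t K) (FractionRing (MvPolynomial t K)) Ω]
    exact (algebraMap (FractionRing (MvPolynomial t K)) Ω).injective.comp (IsFractionRing.injective _ _)
  have hX : AlgebraicIndependent K (fun i : t => ι₀ (MvPolynomial.X i)) := by
    show Function.Injective (MvPolynomial.aeval _)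
    have : (MvPolynomial.aeval fun i : t => ι₀ (MvPolynomial.X i)) = ι₀ :=
      MvPolynomial.algHom_ext fun i => by simp
    rw [this]; exact hι₀
  have hX' : AlgebraicIndependent k' (fun i : t => ι₀ (MvPolynomial.X i)) :=
    hX.restrictScalars (algebraMap k' K).injective
  let φ : S →ₐ[k'] Ω := (MvPolynomial.aeval fun i : t => ι₀ (MvPolynomial.X i)).comp ht'.aevalEquiv.symm.toAlgHom
  have hφ : Function.Injective φ :=
    Function.Injective.comp (g := MvPolynomial.aeval fun i : t => ι₀ (MvPolynomial.X i)) hX' ht'.aevalEquiv.symm.injective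
  have htb : Algebra.IsAlgebraic S K := by
    haveI := ht.isAlgebraic
    have hle : Algebra.adjoin k (Set.range (Subtype.val : t → K)) ≤ S.restrictScalars k :=
      Algebra.adjoin_le (Algebra.subset_adjoin)
    exact ⟨fun z => IsAlgebraic.tower_top_of_subalgebra_le (B := S.restrictScalars k) hle (Algebra.IsAlgebraic.isAlgebraic (R := Algebra.adjoin k (Set.range (Subtype.val : t → K))) z)⟩
  haveI : IsAlgClosed (Copy Ω) := copy_isAlgClosed Ω
  letI : Algebra S (Copy Ω) := RingHom.toAlgebra (show S →+* Copy Ω from φ.toRingHom)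
  haveI : FaithfulSMul S (Copy Ω) := (faithfulSMul_iff_algebraMap_injective _ _).2 hφ
  let b : K →ₐ[S] Copy Ω := IsAlgClosed.lift
  refine ⟨Ω, inferInstance, algebraMap K Ω, (show K →+* Ω from b.toRingHom), fun x hx => ?_, ?_⟩
  · have hxk : x ∈ k' := mem_algebraicClosure_iff.2 hx
    have h1 := b.commutes (algebraMap k' S ⟨x, hxk⟩)
    exact (φ.commutes ⟨x, hxk⟩).symm.trans h1.symm
  · have hb : ∀ i : t, b i.1 = ι₀ (MvPolynomial.X i) := fun i => by
      have h1 := b.commutes (⟨i.1, Algebra.subset_adjoin ⟨i, rfl⟩⟩ : S)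
      refine h1.trans ?_
      show φ _ = _
      have e : ht'.aevalEquiv.symm ⟨i.1, Algebra.subset_adjoin ⟨i, rfl⟩⟩ = MvPolynomial.X i := by
        rw [AlgEquiv.symm_apply_eq]; apply Subtype.ext; simp
      simp [φ, e]
    have hsub : ∀ i, y i ∈ t := fun i => hyt ⟨i, rfl⟩
    have hcomp := hX.comp (fun i => (⟨y i, hsub i⟩ : t))
      (fun i j h => hy.injective (congrArg Subtype.val h))
    have he : (fun i => b.toRingHom (y i)) = (fun i : t => ι₀ (MvPolynomial.X i)) ∘ (fun i => (⟨y i, hsub i⟩ : t)) :=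
      funext fun i => hb ⟨y i, hsub i⟩
    have halg : ((algebraMap K Ω).toAlgebra : Algebra K Ω) = (inferInstance : Algebra K Ω) :=
      Algebra.algebra_ext _ _ fun _ => rfl
    rw [halg]
    exact he ▸ hcomp

end Copies

section Bound
variable {k κ Ω : Type u} [Field k] [Field κ] [Field Ω] [Algebra k κ] {K : Type u} [Field K] [Algebra K Ω]

/-- the algebraic closure inside `Ω` of `K` and the image of `κ` -/
def hull (ρ : κ →+* Ω) (T : Set κ) : IntermediateField K Ω :=
  (algebraicClosure (IntermediateField.adjoin K (ρ '' T)) Ω).restrictScalars K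

theorem mem_hull (ρ : κ →+* Ω) (T : Set κ) [Algebra k K] (hρ : ∀ x, ρ (algebraMap k κ x) = algebraMap K Ω (algebraMap k K x))
    (hT : Algebra.IsAlgebraic (Algebra.adjoin k T) κ) (z : κ) : ρ z ∈ hull (K := K) ρ T := by
  letI : Algebra k Ω := ((algebraMap K Ω).comp (algebraMap k K)).toAlgebra
  haveI : IsScalarTower k K Ω := IsScalarTower.of_algebraMap_eq fun _ => rfl
  let ρ' : κ →ₐ[k] Ω := { ρ with commutes' := hρ }
  let E := IntermediateField.adjoin K (ρ '' T)
  change ρ z ∈ algebraicClosure E Ω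
  rw [mem_algebraicClosure_iff]
  have hle : (Algebra.adjoin k T).map ρ' ≤ (E.toSubalgebra.restrictScalars k) := by
    rw [AlgHom.map_adjoin]
    exact Algebra.adjoin_le fun x hx => IntermediateField.subset_adjoin K _ hx
  let g : Algebra.adjoin k T →+* E :=
    (ρ'.toRingHom.comp (Algebra.adjoin k T).val.toRingHom).codRestrict E.toSubfield fun x => hle ⟨x.1, x.2, rfl⟩
  exact (hT.isAlgebraic z).ringHom_of_comp_eq (R := Algebra.adjoin k T) (A := κ) (S := E) (B := Ω)
    g ρ (fun a b h => Subtype.ext (ρ.injective (congrArg Subtype.val h))) (RingHom.ext fun x => rfl)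

theorem indep_le (ρ : κ →+* Ω) (T : Set κ) {n : ℕ} (z : Fin n → Ω) (hz : AlgebraicIndependent K z)
    (hmem : ∀ i, z i ∈ hull (K := K) ρ T) : (n : Cardinal) ≤ Cardinal.mk T := by
  let H := hull (K := K) ρ T
  have hTH : ∀ x ∈ ρ '' T, x ∈ H := fun x hx =>
    (algebraicClosure (IntermediateField.adjoin K (ρ '' T)) Ω).algebraMap_mem
      ⟨x, IntermediateField.subset_adjoin K _ hx⟩
  let S : Set H := Subtype.val ⁻¹' (ρ '' T)
  have hmap : (Algebra.adjoin K S).map H.val = Algebra.adjoin K (ρ '' T) := by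
    rw [AlgHom.map_adjoin]
    congr 1
    ext x
    constructor
    · rintro ⟨w, hw, rfl⟩; exact hw
    · intro hx; exact ⟨⟨x, hTH x hx⟩, hx, rfl⟩
  let f : Algebra.adjoin K S →+* Algebra.adjoin K (ρ '' T) :=
    (H.val.toRingHom.comp (Algebra.adjoin K S).val.toRingHom).codRestrict
      (Algebra.adjoin K (ρ '' T)).toSubsemiring fun x => by
      show _ ∈ Algebra.adjoin K (ρ '' T); rw [← hmap]; exact ⟨x.1, x.2, rfl⟩
  have hf : Function.Surjective f := fun y => by
    obtain ⟨w, hw, hwy⟩ : (y : Ω) ∈ (Algebra.adjoin K S).map H.val := by rw [hmap]; exact y.2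
    exact ⟨⟨w, hw⟩, Subtype.ext hwy⟩
  haveI : Algebra.IsAlgebraic (Algebra.adjoin K S) H := ⟨fun w => by
    have hw : IsAlgebraic (Algebra.adjoin K (ρ '' T)) (w : Ω) :=
      IntermediateField.isAlgebraic_adjoin_iff.1 (mem_algebraicClosure_iff.1 w.2)
    exact hw.of_ringHom_of_comp_eq f H.val.toRingHom hf Subtype.val_injective (RingHom.ext fun _ => rfl)⟩
  obtain ⟨s, hs, hsb⟩ := exists_isTranscendenceBasis_subset (R := K) S
  have h1 : AlgebraicIndependent K (fun i => (⟨z i, hmem i⟩ : H)) := AlgebraicIndependent.of_comp H.val hz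
  have h2 : (n : Cardinal) ≤ Algebra.trdeg K H := by simpa using h1.lift_cardinalMk_le_trdeg
  rw [← hsb.cardinalMk_eq_trdeg] at h2
  refine h2.trans ((Cardinal.mk_le_mk_of_subset hs).trans ?_)
  refine le_trans ?_ (Cardinal.mk_image_le (f := ρ) (s := T))
  exact Cardinal.mk_preimage_of_injective _ _ Subtype.val_injective

end Bound

end Groth.Agent.Lib.FieldRootsAlg
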