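import Groth.Prelude.Def_CohDer
import Mathlib

/-! Maps from compact objects into iterated extensions of coproducts factor through finite envelopes. -/

set_option autoImplicit false
set_option backward.isDefEq.respectTransparency.types false

universe v u

open CategoryTheory CategoryTheory.Limits CategoryTheory.Pretriangulated
open scoped ZeroObject

noncomputable section

namespace Groth.Agent.Lib.FinEnvelope

variable {D : Type u} [Category.{v} D] [Preadditive D] [HasCoproducts.{v} D]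

/-- projection of a coproduct onto a summand -/
def pr {κ : Type v} (Y : κ → D) (i : κ) : (∐ Y) ⟶ Y i := by
  classical exact Sigma.desc fun j => if h : j = i then eqToHom (congrArg Y h) else 0

theorem ι_pr_self {κ : Type v} (Y : κ → D) (i : κ) : Sigma.ι Y i ≫ pr Y i = 𝟙 _ := by
  classical simp [pr, Sigma.ι_desc]

theorem ι_pr_ne {κ : Type v} (Y : κ → D) {i j : κ} (h : j ≠ i) : Sigma.ι Y j ≫ pr Y i = 0 := by
  classical simp [pr, Sigma.ι_desc, h]

/-- the idempotent of a finite set of summands -/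
def et {κ : Type v} (Y : κ → D) (t : Finset κ) : (∐ Y) ⟶ ∐ Y := ∑ i ∈ t, pr Y i ≫ Sigma.ι Y i

theorem ι_et {κ : Type v} (Y : κ → D) (t : Finset κ) {i : κ} (h : i ∈ t) : Sigma.ι Y i ≫ et Y t = Sigma.ι Y i := by
  classical
  rw [et, Preadditive.comp_sum, Finset.sum_eq_single i]
  · rw [← Category.assoc, ι_pr_self, Category.id_comp]
  · intro j _ hj; rw [← Category.assoc, ι_pr_ne Y hj.symm, zero_comp]
  · intro h'; exact absurd h h'

theorem et_et {κ : Type v} (Y : κ → D) {t t' : Finset κ} (h : t ⊆ t') : et Y t ≫ et Y t' = et Y t := by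
  conv_lhs => rw [et, Preadditive.sum_comp]
  exact Finset.sum_congr rfl fun i hi => by rw [Category.assoc, ι_et Y t' (h hi)]

variable (D) in
/-- maps into coproducts factor through finitely many summands -/
def Small : ObjectProperty D := fun C =>
  ∀ ⦃κ : Type v⦄ (Y : κ → D) (f : C ⟶ ∐ Y), ∃ t : Finset κ, f ≫ et Y t = f

theorem small_of_compact {C : D} (h : CohDer.IsCompactObject C) : Small D C := by
  classical
  intro κ Y f
  obtain ⟨g, rfl⟩ := (h κ Y).2 f
  refine ⟨DFinsupp.support g, ?_⟩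
  have hg : CohDer.homSumToHomCoprod C Y g = ∑ i ∈ DFinsupp.support g, g i ≫ Sigma.ι Y i := by
    conv_lhs => rw [← DirectSum.sum_support_of g, map_sum]
    refine Finset.sum_congr rfl fun i _ => ?_
    simp only [CohDer.homSumToHomCoprod]
    erw [DirectSum.toAddMonoid_of]
    rfl
  rw [hg, Preadditive.sum_comp]
  exact Finset.sum_congr rfl fun i hi => by rw [Category.assoc, ι_et Y _ hi]

variable [HasZeroObject D] [HasShift D ℤ] [∀ n : ℤ, (shiftFunctor D n).Additive] [Pretriangulated D]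

instance : (Small D).IsClosedUnderIsomorphisms where
  of_iso := fun {C C'} e hC κ Y f => by
    obtain ⟨t, ht⟩ := hC Y (e.hom ≫ f)
    refine ⟨t, ?_⟩
    rw [← cancel_epi e.hom, ← Category.assoc]; exact ht

theorem small_shift {C : D} (hC : Small D C) (m : ℤ) {κ : Type v} (Y : κ → D) (f : C ⟶ (∐ Y)⟦m⟧) :
    ∃ t : Finset κ, f ≫ (et Y t)⟦m⟧' = f := by
  classical
  let Y' : κ → D := fun i => (Y i)⟦m⟧
  haveI : PreservesColimit (Discrete.functor Y) (shiftFunctor D m) := inferInstance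
  let e := PreservesCoproduct.iso (shiftFunctor D m) Y
  have he : ∀ i, (Sigma.ι Y i)⟦m⟧' = Sigma.ι Y' i ≫ e.inv := fun i => by
    simp [e, Y']
  obtain ⟨t, ht⟩ := hC Y' (f ≫ e.hom)
  refine ⟨t, ?_⟩
  have key : e.hom ≫ et Y' t = (et Y t)⟦m⟧' ≫ e.hom := by
    rw [← cancel_epi e.inv, Iso.inv_hom_id_assoc]
    refine Sigma.hom_ext _ _ fun i => ?_
    rw [← Category.assoc (f := Sigma.ι Y' i) (g := e.inv), ← he, ← Category.assoc, ← Functor.map_comp]
    by_cases hi : i ∈ t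
    · rw [ι_et Y' t hi, ι_et Y t hi, he, Category.assoc, Iso.inv_hom_id, Category.comp_id]
    · have h0 : ∀ {κ : Type v} (Z : κ → D) (t : Finset κ) (i : κ), i ∉ t → Sigma.ι Z i ≫ et Z t = 0 := by
        intro κ Z t i hi
        rw [et, Preadditive.comp_sum]
        refine Finset.sum_eq_zero fun j hj => ?_
        rw [← Category.assoc, ι_pr_ne Z (by rintro rfl; exact hi hj), zero_comp]
      rw [h0 Y' t i hi, h0 Y t i hi, Functor.map_zero, zero_comp]
  rw [← cancel_mono e.hom, Category.assoc, ← key, ← Category.assoc]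
  exact ht

instance : (Small D).IsStableUnderShift ℤ where
  isStableUnderShiftBy a := ObjectProperty.IsStableUnderShiftBy.mk fun X hX => by
    rw [ObjectProperty.prop_shift_iff]
    intro κ Y f
    -- move the map to `X`
    let φ : X ⟶ (∐ Y)⟦-a⟧ := (shiftShiftNeg X a).inv ≫ f⟦-a⟧'
    obtain ⟨t, ht⟩ := small_shift hX (-a) Y φ
    refine ⟨t, (shiftFunctor D (-a)).map_injective ?_⟩
    rw [Functor.map_comp, ← cancel_epi (shiftShiftNeg X a).inv, ← Category.assoc]
    exact ht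

instance : (Small D).IsTriangulatedClosed₂ := by
  apply ObjectProperty.IsTriangulatedClosed₂.mk'
  intro T hT h₁ h₃ κ Y f
  classical
  obtain ⟨t₁, ht₁⟩ := h₁ Y (T.mor₁ ≫ f)
  have hz : T.mor₁ ≫ (f - f ≫ et Y t₁) = 0 := by
    rw [Preadditive.comp_sub, ← Category.assoc, ht₁, sub_self]
  obtain ⟨g, hg⟩ := Triangle.yoneda_exact₂ _ hT _ hz
  obtain ⟨t₃, ht₃⟩ := h₃ Y g
  refine ⟨t₁ ∪ t₃, ?_⟩
  have hf : f = f ≫ et Y t₁ + T.mor₂ ≫ g := by rw [← hg]; abel
  have e1 : (f ≫ et Y t₁) ≫ et Y (t₁ ∪ t₃) = f ≫ et Y t₁ := by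
    rw [Category.assoc, et_et Y Finset.subset_union_left]
  have e2 : (T.mor₂ ≫ g) ≫ et Y (t₁ ∪ t₃) = T.mor₂ ≫ g := by
    conv_lhs => rw [Category.assoc, ← ht₃, Category.assoc, et_et Y Finset.subset_union_right, ht₃]
  conv_lhs => rw [hf]
  rw [Preadditive.add_comp, e1, e2]
  exact hf.symm

theorem small_zero : Small D (0 : D) := fun κ Y f => ⟨∅, (isZero_zero D).eq_of_src _ _⟩

/-- finite sums -/
def Fl {κ : Type v} (Y : κ → D) : List κ → D
  | [] => 0
  | a :: l => Y a ⊞ Fl Y l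

/-- inclusion of a finite sum -/
def Fj {κ : Type v} (Y : κ → D) : (l : List κ) → (Fl Y l ⟶ ∐ Y)
  | [] => 0
  | a :: l => biprod.desc (Sigma.ι Y a) (Fj Y l)

/-- projection onto a finite sum -/
def Fq {κ : Type v} (Y : κ → D) : (l : List κ) → ((∐ Y) ⟶ Fl Y l)
  | [] => 0
  | a :: l => biprod.lift (pr Y a) (Fq Y l)

theorem Fq_Fj {κ : Type v} (Y : κ → D) : ∀ l : List κ,
    Fq Y l ≫ Fj Y l = (l.map fun a => pr Y a ≫ Sigma.ι Y a).sum
  | [] => by
    simp only [Fq, List.map_nil, List.sum_nil]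
    exact zero_comp
  | a :: l => by
    simp only [Fq, Fj, List.map_cons, List.sum_cons, ← Fq_Fj Y l]
    exact biprod.lift_desc

theorem Fl_mem (P : ObjectProperty D) [P.IsTriangulatedClosed₂] [P.IsClosedUnderIsomorphisms]
    (h0 : P (0 : D)) {κ : Type v} (Y : κ → D) (hY : ∀ i, P (Y i)) : ∀ l, P (Fl Y l)
  | [] => h0
  | a :: l => P.ext_of_isTriangulatedClosed₂ _ (binaryBiproductTriangle_distinguished (Y a) (Fl Y l))
      (hY a) (Fl_mem P h0 Y hY l)

variable [IsTriangulated D] {ι : Type v} [Nonempty ι] (E : ι → D)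

abbrev Env (s : Finset ι) : ObjectProperty D := ObjectProperty.triangEnvelope (fun Y : D => ∃ i ∈ s, Y = E i)

theorem env_mono {s t : Finset ι} (h : s ⊆ t) {X : D} (hX : Env E s X) : Env E t X :=
  ObjectProperty.monotone_triangEnvelope (fun _ ⟨i, hi, e⟩ => ⟨i, h hi, e⟩) _ hX

theorem exists_finite_sum (hc : ∀ i, Small D (E i)) {κ : Type v} (a : κ → ι) (m : κ → ℤ) (t : Finset κ) :
    ∃ (s : Finset ι) (F : D) (j : F ⟶ ∐ (fun k => (shiftFunctor D (m k)).obj (E (a k))))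
      (q : (∐ fun k => (shiftFunctor D (m k)).obj (E (a k))) ⟶ F),
      Env E s F ∧ Small D F ∧ q ≫ j = et _ t := by
  classical
  let Y := fun k => (shiftFunctor D (m k)).obj (E (a k))
  let i₀ : ι := Classical.arbitrary ι
  let s : Finset ι := insert i₀ (t.image a)
  let P : ObjectProperty D := fun Z : D => ∃ i ∈ s, Z = E i
  haveI : ObjectProperty.Nonempty P := ⟨E i₀, i₀, Finset.mem_insert_self _ _, rfl⟩
  let Y' : {k // k ∈ t} → D := fun k => Y k.1
  have hP : ∀ k, k ∈ t → Env E s (Y k) := fun k hk =>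
    P.triangEnvelope.le_shift (m k) _
      (P.le_triangEnvelope _ ⟨a k, Finset.mem_insert_of_mem (Finset.mem_image_of_mem a hk), rfl⟩)
  have hS : ∀ k, Small D (Y k) := fun k => (Small D).le_shift (m k) _ (hc (a k))
  have hl : ∀ l : List κ, (∀ k ∈ l, k ∈ t) → Env E s (Fl Y l) := by
    intro l
    induction l with
    | nil => intro _; exact P.triangEnvelope.prop_zero
    | cons b l ih =>
      intro h
      exact P.triangEnvelope.ext_of_isTriangulatedClosed₂ _
        (binaryBiproductTriangle_distinguished (Y b) (Fl Y l)) (hP b (h b List.mem_cons_self))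
        (ih fun k hk => h k (List.mem_cons_of_mem _ hk))
  refine ⟨s, Fl Y t.toList, Fj Y t.toList, Fq Y t.toList, hl _ (fun k hk => Finset.mem_toList.mp hk),
    Fl_mem (Small D) small_zero Y hS _, ?_⟩
  rw [Fq_Fj, Finset.sum_map_toList]; rfl

theorem factors (hc : ∀ i, Small D (E i)) (K : ℕ → D) (f : ∀ n, K n ⟶ K (n + 1))
    (h0 : ∃ (κ : Type v) (a : κ → ι) (m : κ → ℤ), Nonempty (K 0 ≅ ∐ (fun k => (shiftFunctor D (m k)).obj (E (a k)))))
    (hstep : ∀ n, ∃ (κ : Type v) (a : κ → ι) (m : κ → ℤ) (y : (∐ fun k => (shiftFunctor D (m k)).obj (E (a k))) ⟶ K n)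
      (z : K (n + 1) ⟶ (shiftFunctor D (1 : ℤ)).obj (∐ fun k => (shiftFunctor D (m k)).obj (E (a k)))),
      Triangle.mk y (f n) z ∈ distinguishedTriangles) :
    ∀ (n : ℕ) (C : D), Small D C → ∀ φ : C ⟶ K n,
      ∃ (s : Finset ι) (E' : D) (g : C ⟶ E') (h : E' ⟶ K n), s.Nonempty ∧ Env E s E' ∧ g ≫ h = φ := by
  classical
  intro n
  induction n with
  | zero =>
    intro C hC φ
    obtain ⟨κ, a, m, ⟨e⟩⟩ := h0
    obtain ⟨t, ht⟩ := hC _ (φ ≫ e.hom)
    obtain ⟨s, F, j, q, hF, -, hjq⟩ := exists_finite_sum E hc a m t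
    refine ⟨insert (Classical.arbitrary ι) s, F, φ ≫ e.hom ≫ q, j ≫ e.inv, Finset.insert_nonempty _ _,
      env_mono E (Finset.subset_insert _ _) hF, ?_⟩
    rw [← cancel_mono e.hom]
    simp only [Category.assoc, Iso.inv_hom_id, Category.comp_id]
    rw [hjq, ← Category.assoc]; exact ht
  | succ n ih =>
    intro C hC φ
    obtain ⟨κ, a, m, y, z, hT⟩ := hstep n
    obtain ⟨t, ht⟩ := small_shift hC 1 _ (φ ≫ z)
    obtain ⟨s₁, F, j, q, hF, hFs, hjq⟩ := exists_finite_sum E hc a m t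
    let δ : C ⟶ F⟦(1 : ℤ)⟧ := (φ ≫ z) ≫ q⟦(1 : ℤ)⟧'
    obtain ⟨C', a', b', hT'⟩ := distinguished_cocone_triangle₂ δ
    have hδ : δ ≫ j⟦(1 : ℤ)⟧' = φ ≫ z := by
      rw [Category.assoc, ← Functor.map_comp, hjq]; exact ht
    obtain ⟨ψ, hψ₁, hψ₂⟩ : ∃ c : C' ⟶ K n, a' ≫ c = j ≫ y ∧ b' ≫ φ = c ≫ f n :=
      complete_distinguished_triangle_morphism₂ (Triangle.mk a' b' δ) (Triangle.mk y (f n) z)
        hT' hT j φ hδ
    have hC' : Small D C' := (Small D).ext_of_isTriangulatedClosed₂ _ hT' hFs hC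
    obtain ⟨s₂, E₂, g', h', hs₂, hE₂, hgh⟩ := ih C' hC' ψ
    obtain ⟨E₃, β, γ, hT''⟩ := distinguished_cocone_triangle (a' ≫ g')
    obtain ⟨ρ, hρ₁, hρ₂⟩ : ∃ c : C ⟶ E₃, b' ≫ c = g' ≫ β ∧ δ ≫ (𝟙 F)⟦(1 : ℤ)⟧' = c ≫ γ :=
      complete_distinguished_triangle_morphism (Triangle.mk a' b' δ)
      (Triangle.mk (a' ≫ g') β γ) hT' hT'' (𝟙 F) g' (Category.id_comp _).symm
    obtain ⟨σ, hσ₁, hσ₂⟩ : ∃ c : E₃ ⟶ K (n + 1), β ≫ c = h' ≫ f n ∧ γ ≫ j⟦(1 : ℤ)⟧' = c ≫ z :=
      complete_distinguished_triangle_morphism (Triangle.mk (a' ≫ g') β γ)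
      (Triangle.mk y (f n) z) hT'' hT j h' (by change (a' ≫ g') ≫ h' = j ≫ y; rw [Category.assoc, hgh]; exact hψ₁)
    clear hσ₂
    have hd : b' ≫ (φ - ρ ≫ σ) = 0 := by
      rw [Preadditive.comp_sub, hψ₂, ← Category.assoc, hρ₁, Category.assoc, hσ₁, ← Category.assoc, hgh, sub_self]
    obtain ⟨e, he⟩ : ∃ e : F⟦(1 : ℤ)⟧ ⟶ K (n + 1), φ - ρ ≫ σ = δ ≫ e := Triangle.yoneda_exact₃ _ hT' (φ - ρ ≫ σ) hd
    have hργ : ρ ≫ γ = δ := by
      rw [← hρ₂]; simp
    refine ⟨insert (Classical.arbitrary ι) (s₁ ∪ s₂), E₃, ρ, σ + γ ≫ e, Finset.insert_nonempty _ _, ?_, ?_⟩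
    · let P : ObjectProperty D := fun Z : D => ∃ i ∈ insert (Classical.arbitrary ι) (s₁ ∪ s₂), Z = E i
      haveI : ObjectProperty.Nonempty P := ⟨E (Classical.arbitrary ι), _, Finset.mem_insert_self _ _, rfl⟩
      exact P.triangEnvelope.ext_of_isTriangulatedClosed₃ _ hT''
        (env_mono E (Finset.subset_union_left.trans (Finset.subset_insert _ _)) hF)
        (env_mono E (Finset.subset_union_right.trans (Finset.subset_insert _ _)) hE₂)
    · rw [Preadditive.comp_add, ← Category.assoc ρ γ, hργ, ← he]; abel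

end Groth.Agent.Lib.FinEnvelope
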