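/-
finite flat = projective iff closed gen-stable sets are open
-/
import Mathlib

open Module TensorProduct

universe u

namespace Groth.Agent.FiniteFlatProjective


theorem exists_approx {R : Type u} [CommRing R] (M : Type u) [AddCommGroup M] [Module R M]
    [Module.Finite R M] [Module.Flat R M] (p : PrimeSpectrum R) :
    ∃ (g : (Fin (rankAtStalk M p) → R) →ₗ[R] M) (s : R), s ∉ p.asIdeal ∧ ∀ x : M, s • x ∈ LinearMap.range g := by
  classical
  haveI : Module.Free (Localization.AtPrime p.asIdeal) (LocalizedModule p.asIdeal.primeCompl M) :=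
    Module.free_of_flat_of_isLocalRing
  let b := Module.finBasis (Localization.AtPrime p.asIdeal) (LocalizedModule p.asIdeal.primeCompl M)
  have hex : ∀ i, ∃ (m : M) (t : p.asIdeal.primeCompl), b i = LocalizedModule.mk m t := fun i =>
    LocalizedModule.induction_on (fun m t => ⟨m, t, rfl⟩) (b i)
  choose m t hmt using hex
  let g := Fintype.linearCombination R (fun i : Fin (rankAtStalk M p) => m i)
  have hloc : ∀ x : M, ∃ u : p.asIdeal.primeCompl, (u : R) • x ∈ LinearMap.range g := by
    intro x
    have hx : LocalizedModule.mk x 1 ∈ LinearMap.range (LocalizedModule.map p.asIdeal.primeCompl g) := by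
      have htop : ⊤ ≤ LinearMap.range (LocalizedModule.map p.asIdeal.primeCompl g) := by
        rw [← b.span_eq, Submodule.span_le]
        rintro _ ⟨i, rfl⟩
        refine ⟨LocalizedModule.mk (Pi.single i 1) (t i), ?_⟩
        rw [LocalizedModule.map_mk, hmt]
        congr 1
        show (Fintype.linearCombination R fun j => m j) (Pi.single i 1) = m i
        rw [Fintype.linearCombination_apply]
        simp [Pi.single_apply, ite_smul]
      exact htop trivial
    obtain ⟨y, hy⟩ := hx
    induction y using LocalizedModule.induction_on with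
    | h c t' =>
      rw [LocalizedModule.map_mk, LocalizedModule.mk_eq] at hy
      obtain ⟨u, hu⟩ := hy
      refine ⟨u * t', ⟨(u : R) • c, ?_⟩⟩
      simp only [one_smul] at hu
      rw [map_smul, Submonoid.coe_mul, mul_smul]
      exact hu
  choose u hu using hloc
  obtain ⟨F, hF⟩ := Module.Finite.fg_top (R := R) (M := M)
  refine ⟨g, ∏ x ∈ F, (u x : R), fun h => ?_, fun x => ?_⟩
  · obtain ⟨x, -, hx⟩ := (p.2.prod_mem_iff).mp h
    exact (u x).2 hx
  · have hx : x ∈ Submodule.span R (F : Set M) := hF ▸ Submodule.mem_top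
    induction hx using Submodule.span_induction with
    | mem x hx =>
      obtain ⟨q, hq⟩ := Finset.dvd_prod_of_mem (fun x => (u x : R)) hx
      rw [show (∏ y ∈ F, (u y : R)) = q * u x by rw [mul_comm]; exact hq, mul_smul]
      exact Submodule.smul_mem _ _ (hu x)
    | zero => simp
    | add x y _ _ hx hy => rw [smul_add]; exact add_mem hx hy
    | smul r x _ hx => rw [smul_comm]; exact Submodule.smul_mem _ _ hx

theorem map_surjective_of_smul {R : Type u} [CommRing R] {M N : Type u} [AddCommGroup M] [Module R M]
    [AddCommGroup N] [Module R N] (g : N →ₗ[R] M) {S : Submonoid R} {s : R} (hs : s ∈ S)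
    (h : ∀ x : M, s • x ∈ LinearMap.range g) : Function.Surjective (LocalizedModule.map S g) := by
  intro y
  induction y using LocalizedModule.induction_on with
  | h x t =>
    obtain ⟨c, hc⟩ := h x
    refine ⟨LocalizedModule.mk c (t * ⟨s, hs⟩), ?_⟩
    rw [LocalizedModule.map_mk, hc, LocalizedModule.mk_eq]
    exact ⟨1, by simp [Submonoid.smul_def, mul_smul]⟩

theorem rank_le_of_surj {R : Type u} [CommRing R] (M : Type u) [AddCommGroup M] [Module R M]
    {k : ℕ} (g : (Fin k → R) →ₗ[R] M) (q : PrimeSpectrum R)
    (hg : Function.Surjective (LocalizedModule.map q.asIdeal.primeCompl g)) : rankAtStalk M q ≤ k := by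
  haveI : Nontrivial R := q.nontrivial
  have h1 : rankAtStalk (Fin k → R) q = k := by
    rw [rankAtStalk_eq_finrank_of_free, Pi.natCast_apply, Module.finrank_fin_fun, Nat.cast_id]
  have h2 : Module.finrank (Localization.AtPrime q.asIdeal) (LocalizedModule q.asIdeal.primeCompl M) ≤
      Module.finrank (Localization.AtPrime q.asIdeal) (LocalizedModule q.asIdeal.primeCompl (Fin k → R)) :=
    LinearMap.finrank_le_finrank_of_surjective hg
  exact le_of_le_of_eq h2 h1

theorem fp_of_rank_const {R : Type u} [CommRing R] (M : Type u) [AddCommGroup M] [Module R M]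
    [Module.Finite R M] [Module.Flat R M] {k : ℕ} (g : (Fin k → R) →ₗ[R] M) {s : R}
    (hg : ∀ x : M, s • x ∈ LinearMap.range g) (hk : ∀ q : PrimeSpectrum R, s ∉ q.asIdeal → rankAtStalk M q = k) :
    Module.FinitePresentation (Localization (Submonoid.powers s)) (LocalizedModule (Submonoid.powers s) M) := by
  have hsurj := map_surjective_of_smul g (S := Submonoid.powers s) (Submonoid.mem_powers s) hg
  have hinj : Function.Injective (LocalizedModule.map (Submonoid.powers s) g) := by
    rw [← LinearMap.ker_eq_bot, LinearMap.ker_eq_bot']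
    intro y hy
    induction y using LocalizedModule.induction_on with
    | h c t =>
      rw [LocalizedModule.map_mk, ← LocalizedModule.zero_mk t, LocalizedModule.mk_eq] at hy
      obtain ⟨⟨_, j, rfl⟩, hu⟩ := hy
      simp only [smul_zero, Submonoid.smul_def] at hu
      rw [← mul_smul, ← map_smul] at hu
      set d := (s ^ j * (t : R)) • c
      have hd : s ∈ Ideal.radical (LinearMap.toSpanSingleton R (Fin k → R) d).ker := by
        rw [Ideal.radical_eq_sInf, Ideal.mem_sInf]
        rintro q ⟨hq, hqp⟩
        by_contra hsq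
        haveI : Nontrivial R := (⟨q, hqp⟩ : PrimeSpectrum R).nontrivial
        have hgs := map_surjective_of_smul g (S := q.primeCompl) hsq hg
        haveI : Module.Free (Localization.AtPrime q) (LocalizedModule q.primeCompl M) :=
          Module.free_of_flat_of_isLocalRing
        haveI : Module.Free (Localization.AtPrime q) (LocalizedModule q.primeCompl (Fin k → R)) :=
          Module.free_of_flat_of_isLocalRing
        have hr : Module.finrank (Localization.AtPrime q) (LocalizedModule q.primeCompl M) =
            Module.finrank (Localization.AtPrime q) (LocalizedModule q.primeCompl (Fin k → R)) := by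
          have h1 : rankAtStalk (Fin k → R) (⟨q, hqp⟩ : PrimeSpectrum R) = k := by
            rw [rankAtStalk_eq_finrank_of_free, Pi.natCast_apply, Module.finrank_fin_fun, Nat.cast_id]
          exact (hk ⟨q, hqp⟩ hsq).trans h1.symm
        let e := LinearEquiv.ofFinrankEq _ _ hr
        have hi : Function.Injective (LocalizedModule.map q.primeCompl g) := by
          have := OrzechProperty.injective_of_surjective_endomorphism
            (e.toLinearMap ∘ₗ LocalizedModule.map q.primeCompl g) (e.surjective.comp hgs)
          exact fun a b hab => this (congrArg e hab)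
        have h0 : LocalizedModule.mk d (1 : q.primeCompl) = 0 :=
          hi (by rw [LocalizedModule.map_mk, hu, LocalizedModule.zero_mk, map_zero])
        rw [← LocalizedModule.zero_mk (1 : q.primeCompl), LocalizedModule.mk_eq] at h0
        obtain ⟨w, hw⟩ := h0
        refine w.2 (hq ?_)
        simpa [Submonoid.smul_def] using hw
      obtain ⟨n, hn⟩ := hd
      rw [← LocalizedModule.zero_mk t, LocalizedModule.mk_eq]
      refine ⟨⟨s ^ (n + j), n + j, rfl⟩, ?_⟩
      simp only [smul_zero, Submonoid.smul_def, smul_smul]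
      have hn' : (s ^ n) • d = 0 := by simpa using hn
      rw [show s ^ (n + j) * (t : R) = s ^ n * (s ^ j * (t : R)) by ring, mul_smul]
      exact hn'
  haveI : Module.FinitePresentation R (Fin k → R) := Module.finitePresentation_of_projective R _
  exact Module.FinitePresentation.of_equiv (LinearEquiv.ofBijective _ ⟨hinj, hsurj⟩)

theorem projective_of_stable {R : Type u} [CommRing R]
    (hZ : ∀ Z : Set (PrimeSpectrum R), IsClosed Z → StableUnderGeneralization Z → IsOpen Z)
    (M : Type u) [AddCommGroup M] [Module R M] [Module.Finite R M] [Module.Flat R M] :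
    Module.Projective R M := by
  have hlt : ∀ r, IsOpen {q : PrimeSpectrum R | rankAtStalk M q < r} := by
    intro r
    rw [isOpen_iff_forall_mem_open]
    intro p hp
    obtain ⟨g, s, hs, hg⟩ := exists_approx M p
    exact ⟨PrimeSpectrum.basicOpen s, fun q hq => lt_of_le_of_lt
      (rank_le_of_surj M g q (map_surjective_of_smul g hq hg)) hp, (PrimeSpectrum.basicOpen s).isOpen, hs⟩
  have hge : ∀ r, IsOpen {q : PrimeSpectrum R | r ≤ rankAtStalk M q} := by
    intro r
    refine hZ _ ⟨by simpa [Set.compl_setOf, not_le] using hlt r⟩ ?_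
    intro x y hyx hx
    show r ≤ rankAtStalk M y
    rw [rankAtStalk_eq_of_le_of_finite_of_flat M ((PrimeSpectrum.le_iff_specializes _ _).mpr hyx)]
    exact hx
  have hopen : ∀ k, IsOpen {q : PrimeSpectrum R | rankAtStalk M q = k} := by
    intro k
    have : {q : PrimeSpectrum R | rankAtStalk M q = k} =
        {q | rankAtStalk M q < k + 1} ∩ {q | k ≤ rankAtStalk M q} := by
      ext q; simp; omega
    rw [this]
    exact (hlt _).inter (hge k)
  let T : Set R := {s | Module.FinitePresentation (Localization (Submonoid.powers s)) (LocalizedModule (Submonoid.powers s) M)}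
  have hT : Ideal.span T = ⊤ := by
    by_contra hne
    obtain ⟨m, hm, hle⟩ := Ideal.exists_le_maximal _ hne
    let p : PrimeSpectrum R := ⟨m, hm.isPrime⟩
    obtain ⟨g, s, hs, hg⟩ := exists_approx M p
    obtain ⟨_, ⟨f, rfl⟩, hpf, hsub⟩ := PrimeSpectrum.isTopologicalBasis_basic_opens.exists_subset_of_mem_open
      (show p ∈ (PrimeSpectrum.basicOpen s : Set (PrimeSpectrum R)) ∩ {q | rankAtStalk M q = rankAtStalk M p} from ⟨hs, rfl⟩)
      ((PrimeSpectrum.basicOpen s).isOpen.inter (hopen _))
    have hsf : s * f ∈ T := fp_of_rank_const M g (s := s * f)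
      (fun x => by rw [mul_comm, mul_smul]; exact Submodule.smul_mem _ _ (hg x))
      (fun q hq => (hsub (show q ∈ (PrimeSpectrum.basicOpen f : Set (PrimeSpectrum R)) from
        fun h => hq (Ideal.mul_mem_left _ _ h))).2)
    exact (hm.isPrime.mem_or_mem (hle (Ideal.subset_span hsf))).elim hs hpf
  haveI : Module.FinitePresentation R M :=
    Module.FinitePresentation.of_localizationSpan T hT (fun r => r.2)
  exact Module.Flat.projective_of_finitePresentation

theorem open_of_projective {R : Type u} [CommRing R]
    (h : ∀ (M : Type u) [AddCommGroup M] [Module R M], Module.Finite R M → Module.Flat R M → Module.Projective R M)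
    (Z : Set (PrimeSpectrum R)) (hc : IsClosed Z) (hg : StableUnderGeneralization Z) : IsOpen Z := by
  obtain ⟨I, hI⟩ := (PrimeSpectrum.isClosed_iff_zeroLocus_ideal Z).mp hc
  let W : Submonoid R :=
    { carrier := {u | u - 1 ∈ I}
      one_mem' := by simp
      mul_mem' := fun {a b} ha hb => by
        show a * b - 1 ∈ I
        rw [show a * b - 1 = a * (b - 1) + (a - 1) by ring]
        exact add_mem (I.mul_mem_left _ hb) ha }
  let J : Ideal R := RingHom.ker (algebraMap R (Localization W))
  have hJ : ∀ a, a ∈ J ↔ ∃ u : W, (u : R) * a = 0 := fun a => by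
    rw [RingHom.mem_ker, IsLocalization.map_eq_zero_iff W]
  have key1 : ∀ q : Ideal R, q.IsPrime → I ≤ q → ∀ u : W, (u : R) ∉ q := by
    intro q hq hIq u hu
    exact hq.ne_top ((Ideal.eq_top_iff_one _).mpr (by simpa using q.sub_mem hu (hIq u.2)))
  have key2 : ∀ m : Ideal R, m.IsMaximal → ¬ I ≤ m → ∃ a ∈ J, a ∉ m := by
    intro m hm hIm
    by_contra hcon
    push_neg at hcon
    haveI := hm.isPrime
    let S' : Submonoid R := W ⊔ m.primeCompl
    have hd : Disjoint ((⊥ : Ideal R) : Set R) (S' : Set R) := by
      rw [Set.disjoint_left]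
      intro x hx hxS
      rw [Submodule.bot_coe, Set.mem_singleton_iff] at hx
      subst hx
      obtain ⟨a, ha, b, hb, e⟩ := Submonoid.mem_sup.mp hxS
      exact hb (hcon b ((hJ b).mpr ⟨⟨a, ha⟩, e⟩))
    obtain ⟨q, hq, -, hqd⟩ := Ideal.exists_le_prime_disjoint _ S' hd
    have hqm : q ≤ m := fun x hx => by
      by_contra hxm
      exact Set.disjoint_left.mp hqd hx ((le_sup_right : m.primeCompl ≤ S') hxm)
    have hne : q ⊔ I ≠ ⊤ := by
      intro e
      obtain ⟨x, hx, y, hy, exy⟩ := Submodule.mem_sup.mp ((Ideal.eq_top_iff_one _).mp e)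
      refine Set.disjoint_left.mp hqd hx ((le_sup_left : W ≤ S') ?_)
      show x - 1 ∈ I
      rw [← exy, show x - (x + y) = -y by ring]
      exact I.neg_mem hy
    obtain ⟨m', hm', hle⟩ := Ideal.exists_le_maximal _ hne
    have hm'Z : (⟨m', hm'.isPrime⟩ : PrimeSpectrum R) ∈ Z := by
      rw [hI]; exact le_sup_right.trans hle
    have hqZ : (⟨q, hq⟩ : PrimeSpectrum R) ∈ Z :=
      hg ((PrimeSpectrum.le_iff_specializes ⟨q, hq⟩ ⟨m', hm'.isPrime⟩).mp (le_sup_left.trans hle)) hm'Z
    rw [hI] at hqZ
    exact hIm (le_trans hqZ hqm)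
  haveI : Module.Flat R (R ⧸ J) := by
    refine Module.flat_of_localized_maximal _ fun m hm => ?_
    by_cases hIm : I ≤ m
    · have hbij : Function.Bijective (LocalizedModule.map m.primeCompl (Submodule.mkQ J)) := by
        refine ⟨?_, LocalizedModule.map_surjective _ _ J.mkQ_surjective⟩
        rw [← LinearMap.ker_eq_bot, LinearMap.ker_eq_bot']
        intro y hy
        induction y using LocalizedModule.induction_on with
        | h a t =>
          rw [LocalizedModule.map_mk, ← LocalizedModule.zero_mk t, LocalizedModule.mk_eq] at hy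
          obtain ⟨w, hw⟩ := hy
          simp only [smul_zero, Submonoid.smul_def, Submodule.mkQ_apply, ← Submodule.Quotient.mk_smul, Submodule.Quotient.mk_eq_zero] at hw
          obtain ⟨u, hu⟩ := (hJ _).mp hw
          rw [← LocalizedModule.zero_mk t, LocalizedModule.mk_eq]
          refine ⟨⟨(u : R) * w, m.primeCompl.mul_mem (key1 m hm.isPrime hIm u) w.2⟩, ?_⟩
          simp only [smul_zero, Submonoid.smul_def, smul_eq_mul] at hu ⊢
          linear_combination hu
      haveI : Module.Flat R (LocalizedModule m.primeCompl R) :=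
        Module.Flat.of_linearEquiv (IsLocalizedModule.linearEquiv m.primeCompl
          (LocalizedModule.mkLinearMap m.primeCompl R) (Algebra.linearMap R (Localization.AtPrime m)))
      exact Module.Flat.of_linearEquiv ((LinearEquiv.ofBijective _ hbij).restrictScalars R).symm
    · obtain ⟨a, haJ, ham⟩ := key2 m hm hIm
      haveI : Subsingleton (LocalizedModule m.primeCompl (R ⧸ J)) := by
        refine LocalizedModule.subsingleton_iff.mpr fun x => ⟨a, ham, ?_⟩
        obtain ⟨x, rfl⟩ := Ideal.Quotient.mk_surjective x
        rw [Algebra.smul_def, Ideal.Quotient.algebraMap_eq, Ideal.Quotient.eq_zero_iff_mem.mpr haJ, zero_mul]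
      infer_instance
  haveI := h (R ⧸ J) inferInstance inferInstance
  obtain ⟨σ, hσ⟩ := Module.projective_lifting_property (Submodule.mkQ J) LinearMap.id J.mkQ_surjective
  set a := σ 1
  have ha1 : a - 1 ∈ J := by
    rw [← Submodule.Quotient.eq J]
    exact LinearMap.congr_fun hσ 1
  have haJ : ∀ j ∈ J, j * a = 0 := by
    intro j hj
    rw [← smul_eq_mul, ← map_smul, Algebra.smul_def, mul_one, Ideal.Quotient.algebraMap_eq,
      Ideal.Quotient.eq_zero_iff_mem.mpr hj, map_zero]
  suffices Z = (PrimeSpectrum.basicOpen a : Set (PrimeSpectrum R)) by rw [this]; exact (PrimeSpectrum.basicOpen a).isOpen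
  ext q
  constructor
  · intro hq haq
    rw [hI] at hq
    obtain ⟨u, hu⟩ := (hJ _).mp ha1
    have : (u : R) ∈ q.asIdeal := by
      rw [show (u : R) = (u : R) * a by linear_combination -hu]
      exact q.asIdeal.mul_mem_left _ haq
    exact key1 _ q.2 hq u this
  · intro haq
    obtain ⟨m, hm, hle⟩ := Ideal.exists_le_maximal _ q.2.ne_top
    by_cases hIm : I ≤ m
    · exact hg ((PrimeSpectrum.le_iff_specializes q ⟨m, hm.isPrime⟩).mp hle)
        (show (⟨m, hm.isPrime⟩ : PrimeSpectrum R) ∈ Z by rw [hI]; exact hIm)
    · obtain ⟨b, hbJ, hbm⟩ := key2 m hm hIm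
      exact absurd (hle ((q.2.mem_or_mem (show b * a ∈ q.asIdeal by rw [haJ b hbJ]; exact zero_mem _)).resolve_right haq)) hbm

end Groth.Agent.FiniteFlatProjective
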