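/-
finite free resolutions over Noetherian rings
-/
import Mathlib

open CategoryTheory Limits

universe u

namespace Groth.Agent.FiniteFreeResolution


/-- a finitely generated module -/
structure FM (R : Type u) [CommRing R] where
  N : ModuleCat.{u} R
  fin : Module.Finite R N

variable {R : Type u} [CommRing R]

noncomputable def FM.k (Z : FM R) : ℕ :=
  haveI := Z.fin
  Classical.choose (Module.Finite.exists_fin' R Z.N)

noncomputable def FM.pi (Z : FM R) : (Fin Z.k → R) →ₗ[R] Z.N :=
  haveI := Z.fin
  Classical.choose (Classical.choose_spec (Module.Finite.exists_fin' R Z.N))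

theorem FM.pi_surj (Z : FM R) : Function.Surjective Z.pi :=
  haveI := Z.fin
  Classical.choose_spec (Classical.choose_spec (Module.Finite.exists_fin' R Z.N))

noncomputable def FM.next [IsNoetherianRing R] (Z : FM R) : FM R :=
  ⟨ModuleCat.of R (LinearMap.ker Z.pi), Module.Finite.iff_fg.mpr (IsNoetherian.noetherian _)⟩

noncomputable def syz [IsNoetherianRing R] (Z : FM R) : ℕ → FM R
  | 0 => Z
  | n + 1 => (syz Z n).next

noncomputable def cx [IsNoetherianRing R] (Z : FM R) : ChainComplex (ModuleCat.{u} R) ℕ :=
  ChainComplex.of (fun n => ModuleCat.of R (Fin (syz Z n).k → R))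
    (fun n => ModuleCat.ofHom ((LinearMap.ker (syz Z n).pi).subtype ∘ₗ (syz Z (n + 1)).pi))
    (fun n => by
      ext1
      refine LinearMap.ext fun x => ?_
      show ((syz Z (n + 1)).pi (((syz Z (n + 2)).pi x).1)).1 = 0
      have h := ((syz Z (n + 2)).pi x).2
      rw [LinearMap.mem_ker] at h
      rw [h]
      rfl)

theorem exists_res [IsNoetherianRing R] (Z : FM R) :
    ∃ F : ProjectiveResolution Z.N, ∀ n : ℕ, Module.Finite R (F.complex.X n) ∧ Module.Free R (F.complex.X n) := by
  have hd : ∀ n, (cx Z).d (n + 1) n =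
      ModuleCat.ofHom ((LinearMap.ker (syz Z n).pi).subtype ∘ₗ (syz Z (n + 1)).pi) := fun n => by
    simp [cx]
  have hproj : ∀ n, Projective ((cx Z).X n) := fun n => by
    show Projective (ModuleCat.of R (Fin (syz Z n).k → R))
    exact ModuleCat.projective_of_free (Pi.basisFun R _)
  have hw : (cx Z).d 1 0 ≫ ModuleCat.ofHom Z.pi = 0 := by
    rw [hd 0]
    ext1
    refine LinearMap.ext fun x => ?_
    exact LinearMap.mem_ker.mp ((syz Z 1).pi x).2
  refine ⟨{
    complex := cx Z
    projective := hproj
    π := (ChainComplex.toSingle₀Equiv _ _).symm ⟨ModuleCat.ofHom Z.pi, hw⟩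
    quasiIso := ⟨fun n => ?_⟩ }, fun n => ⟨?_, ?_⟩⟩
  · cases n with
    | zero =>
      rw [ChainComplex.quasiIsoAt₀_iff, ShortComplex.quasiIso_iff_of_zeros']
      · refine (ShortComplex.exact_and_epi_g_iff_of_iso (S₁ := ShortComplex.mk ((cx Z).d 1 0) (ModuleCat.ofHom Z.pi) hw) ?_).1 ⟨?_, ?_⟩
        · exact ShortComplex.isoMk (Iso.refl _) (Iso.refl _) (Iso.refl _) (by dsimp; exact (Category.id_comp _).trans (Category.comp_id _).symm) (by dsimp; exact (Category.id_comp _).trans ((ChainComplex.toSingle₀Equiv_symm_apply_f_zero _ hw).trans (Category.comp_id _).symm))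
        · rw [ShortComplex.moduleCat_exact_iff]
          intro x hx
          obtain ⟨y, hy⟩ := (syz Z 1).pi_surj ⟨x, hx⟩
          refine ⟨y, ?_⟩
          show ((cx Z).d (0 + 1) 0).hom y = x
          rw [hd 0]
          exact congrArg Subtype.val hy
        · exact (ModuleCat.epi_iff_surjective _).mpr Z.pi_surj
      all_goals rfl
    | succ n =>
      rw [quasiIsoAt_iff_exactAt']
      · rw [HomologicalComplex.exactAt_iff' _ (n + 1 + 1) (n + 1) n (by simp) (by simp), ShortComplex.moduleCat_exact_iff]
        intro x hx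
        have hx' : (syz Z (n + 1)).pi x = 0 := by
          have := hx
          change ((cx Z).d (n + 1) n).hom x = 0 at this
          rw [hd n] at this
          exact Subtype.ext this
        obtain ⟨y, hy⟩ := (syz Z (n + 1 + 1)).pi_surj ⟨x, hx'⟩
        refine ⟨y, ?_⟩
        show ((cx Z).d (n + 1 + 1) (n + 1)).hom y = x
        rw [hd (n + 1)]
        exact congrArg Subtype.val hy
      · exact ChainComplex.exactAt_succ_single_obj _ n
  · show Module.Finite R (Fin (syz Z n).k → R)
    infer_instance
  · show Module.Free R (Fin (syz Z n).k → R)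
    infer_instance

end Groth.Agent.FiniteFreeResolution
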