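/-
flat subalgebras of bounded cardinality
-/
import Mathlib

open Cardinal

universe u

namespace Groth.Agent.FlatClosure


theorem flat_closure_step {A B : Type u} [CommRing A] [CommRing B] [Algebra A B] [Module.Flat A B]
    (T : Subalgebra A B) (hT : #T ≤ max #A ℵ₀) :
    ∃ T' : Subalgebra A B, T ≤ T' ∧ #T' ≤ max #A ℵ₀ ∧
      ∀ (l : ℕ) (f : Fin l → A) (x : Fin l → B), (∀ i, x i ∈ T) → ∑ i, f i • x i = 0 →
        ∃ (k : ℕ) (a : Fin l → Fin k → A) (y : Fin k → B), (∀ j, y j ∈ T') ∧
          (∀ i, x i = ∑ j, a i j • y j) ∧ ∀ j, ∑ i, f i * a i j = 0 := by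
  have h : ∀ L : List (A × T), ∃ (k : ℕ) (a : Fin L.length → Fin k → A) (y : Fin k → B),
      ∑ i, (L.get i).1 • ((L.get i).2 : B) = 0 →
        (∀ i, ((L.get i).2 : B) = ∑ j, a i j • y j) ∧ ∀ j, ∑ i, (L.get i).1 * a i j = 0 := by
    intro L
    by_cases h0 : ∑ i, (L.get i).1 • ((L.get i).2 : B) = 0
    · obtain ⟨k, a, y, h1, h2⟩ := Module.Flat.iff_forall_isTrivialRelation.mp ‹Module.Flat A B› h0
      exact ⟨k, a, y, fun _ => ⟨h1, h2⟩⟩
    · exact ⟨0, fun _ j => j.elim0, fun j => j.elim0, fun hc => absurd hc h0⟩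
  choose k a y hy using h
  let W : Set B := Set.range (fun p : Σ L : List (A × T), Fin (k L) => y p.1 p.2)
  refine ⟨Algebra.adjoin A ((T : Set B) ∪ W), fun z hz => Algebra.subset_adjoin (Or.inl hz), ?_, ?_⟩
  · refine (Algebra.cardinalMk_adjoin_le A _).trans ?_
    have hA : #(A × T) ≤ max #A ℵ₀ := by
      rw [Cardinal.mk_prod, Cardinal.lift_id, Cardinal.lift_id]
      exact (Cardinal.mul_le_max _ _).trans (max_le (max_le (le_max_left _ _) hT) (le_max_right _ _))
    have hL : #(List (A × T)) ≤ max #A ℵ₀ :=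
      (Cardinal.mk_list_le_max _).trans (max_le (le_max_right _ _) hA)
    have hW : #W ≤ max #A ℵ₀ := by
      refine Cardinal.mk_range_le.trans ?_
      rw [Cardinal.mk_sigma]
      refine (Cardinal.sum_le_sum _ (fun _ => ℵ₀) fun L => ?_).trans ?_
      · exact (Cardinal.mk_le_aleph0)
      · rw [Cardinal.sum_const, Cardinal.lift_uzero, Cardinal.lift_aleph0]
        exact (Cardinal.mul_le_max _ _).trans (max_le (max_le hL (le_max_right _ _)) (le_max_right _ _))
    have hU : #(((T : Set B) ∪ W : Set B)) ≤ max #A ℵ₀ := by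
      refine (Cardinal.mk_union_le _ _).trans ((Cardinal.add_le_max _ _).trans ?_)
      exact max_le (max_le hT hW) (le_max_right _ _)
    exact max_le (max_le (le_max_left _ _) hU) (le_max_right _ _)
  · intro l f x hx h0
    let L : List (A × T) := List.ofFn fun i => (f i, ⟨x i, hx i⟩)
    have hl : L.length = l := List.length_ofFn
    have e : ∀ i : Fin L.length, L.get i = (f (Fin.cast hl i), ⟨x (Fin.cast hl i), hx _⟩) := fun i =>
      List.get_ofFn _ i
    have hsum : ∑ i, (L.get i).1 • ((L.get i).2 : B) = 0 := by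
      simp only [e]
      rw [← h0]
      exact Fintype.sum_equiv (finCongr hl) _ _ (fun i => rfl)
    obtain ⟨h1, h2⟩ := hy L hsum
    refine ⟨k L, fun i => a L (Fin.cast hl.symm i), y L,
      fun j => Algebra.subset_adjoin (Or.inr ⟨⟨L, j⟩, rfl⟩), fun i => ?_, fun j => ?_⟩
    · have := h1 (Fin.cast hl.symm i)
      rw [e] at this
      simpa using this
    · rw [← h2 j]
      simp only [e]
      exact (Fintype.sum_equiv (finCongr hl) _ _ (fun i => rfl)).symm

end Groth.Agent.FlatClosure
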