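import Mathlib
import Groth.Agent.Lib.CubicPolar

/-!
Flexes of smooth plane cubics and their involutions.
-/

namespace Groth.Agent.FlexInv

open MvPolynomial CubicPolar

/-- A flex: some line through the point meets the curve only there. -/
def IsFlex (f : MvPolynomial (Fin 3) ℂ) (v : Fin 3 → ℂ) : Prop :=
  ∃ w : Fin 3 → ℂ, LinearIndependent ℂ ![v, w] ∧ ∀ t : ℂ, eval (v + t • w) f = t ^ 3 * eval w f

/-- Smoothness. -/
def IsSm (f : MvPolynomial (Fin 3) ℂ) : Prop :=
  ∀ v : Fin 3 → ℂ, v ≠ 0 → eval v f = 0 → ∃ i : Fin 3, eval v (pderiv i f) ≠ 0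

variable {f : MvPolynomial (Fin 3) ℂ} (hf : f.IsHomogeneous 3) (hsm : IsSm f)
  {e : Fin 3 → ℂ} (he : e ≠ 0) (hE : IsFlex f e) (hfe : eval e f = 0)
include hf hsm he hE hfe

lemma exists_frame : ∃ w : Fin 3 → ℂ, P3 f e e w = 0 ∧ P3 f e w w = 0 ∧ eval w f ≠ 0 ∧
    ∀ h, P3 f h e e = 0 → ∃ x y : ℂ, h = x • e + y • w := by
  obtain ⟨w, hli, hw⟩ := hE
  have g : ∀ t : ℂ, 3 * t * P3 f e e w + 3 * t ^ 2 * P3 f e w w = 0 := fun t => by
    have := hw t
    rw [eval_add_smul f hf, hfe] at this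
    linear_combination this
  have hA : P3 f e e w = 0 := by linear_combination (1 / 6 : ℂ) * g 1 - (1 / 6 : ℂ) * g (-1)
  have hB : P3 f e w w = 0 := by linear_combination (1 / 6 : ℂ) * g 1 + (1 / 6 : ℂ) * g (-1)
  have hee : P3 f e e e = 0 := by rw [← eval_eq f hf, hfe]
  obtain ⟨x0, hx0⟩ := exists_ne_of_smooth f hf e (hsm e he hfe)
  set H := LinearMap.ker (lin1 f e e) with hH
  have hle : Submodule.span ℂ (Set.range ![e, w]) ≤ H := by
    rw [Submodule.span_le]
    rintro _ ⟨i, rfl⟩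
    fin_cases i
    · exact LinearMap.mem_ker.2 hee
    · apply LinearMap.mem_ker.2
      change P3 f w e e = 0
      rw [swap12, swap23, hA]
  have hne : H ≠ ⊤ := fun h =>
    hx0 (LinearMap.mem_ker.1 (show x0 ∈ H from h ▸ Submodule.mem_top))
  have hH2 : Module.finrank ℂ H ≤ 2 := by
    have := Submodule.finrank_lt hne
    rw [Module.finrank_fintype_fun_eq_card, Fintype.card_fin] at this
    omega
  have hr : Module.finrank ℂ (Submodule.span ℂ (Set.range ![e, w])) = 2 := by
    rw [finrank_span_eq_card hli, Fintype.card_fin]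
  have heq := Submodule.eq_of_le_of_finrank_le hle (hH2.trans hr.ge)
  have hrep : ∀ h, P3 f h e e = 0 → ∃ x y : ℂ, h = x • e + y • w := by
    intro h hh
    have : h ∈ Submodule.span ℂ (Set.range ![e, w]) := heq ▸ LinearMap.mem_ker.2 hh
    rw [Submodule.mem_span_range_iff_exists_fun] at this
    obtain ⟨c, hc⟩ := this
    exact ⟨c 0, c 1, by rw [← hc]; simp [Fin.sum_univ_two]⟩
  refine ⟨w, hA, hB, fun hfw => ?_, hrep⟩
  -- otherwise the tangent line is a component and carries a singular point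
  have hww : P3 f w w w = 0 := by rw [← eval_eq f hf, hfw]
  obtain ⟨p, q, hpq, hroot⟩ : ∃ p q : ℂ, (p ≠ 0 ∨ q ≠ 0) ∧
      p ^ 2 * P3 f x0 e e + 2 * p * q * P3 f x0 e w + q ^ 2 * P3 f x0 w w = 0 := by
    obtain ⟨r, hr⟩ := IsAlgClosed.exists_eq_mul_self (P3 f x0 e w ^ 2 - P3 f x0 e e * P3 f x0 w w)
    refine ⟨(-P3 f x0 e w + r) / P3 f x0 e e, 1, Or.inr one_ne_zero, ?_⟩
    field_simp
    linear_combination -hr
  set h := p • e + q • w with hh
  have hh0 : h ≠ 0 := fun h0 => by
    have := Fintype.linearIndependent_iff.1 hli ![p, q] (by simpa [Fin.sum_univ_two] using h0)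
    rcases hpq with hp | hq
    · exact hp (this 0)
    · exact hq (this 1)
  have hfh : eval h f = 0 := by
    rw [hh, eval_add_smul f hf, eval_eq f hf (p • e)]
    simp only [smul1, smul2, smul3, hee, hA, hB, hfw]
    ring
  obtain ⟨v, hv⟩ := exists_ne_of_smooth f hf h (hsm h hh0 hfh)
  apply hv
  obtain ⟨x', y', hv'⟩ := hrep (v + (-(P3 f v e e / P3 f x0 e e)) • x0) (by
    rw [add1, smul1]; field_simp; ring)
  have hvw : v = x' • e + y' • w + (P3 f v e e / P3 f x0 e e) • x0 := by rw [← hv']; module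
  rw [hvw]
  have e1 : ∀ u', P3 f u' h h = p ^ 2 * P3 f u' e e + 2 * p * q * P3 f u' e w +
      q ^ 2 * P3 f u' w w := fun u' => by
    simp only [hh, add2, add3, smul2, smul3, swap23 f u' w e]
    ring
  simp only [add1, smul1, e1, hee, hA, hB, hww, swap12 f w e, swap23 f e w e]
  linear_combination (P3 f v e e / P3 f x0 e e) * hroot

/-- Points of the curve on the tangent line at a flex are proportional to it. -/
lemma mem_span_of_tangent (u : Fin 3 → ℂ) (hu : P3 f u e e = 0) (hfu : eval u f = 0) :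
    u ∈ Submodule.span ℂ {e} := by
  obtain ⟨w, hA, hB, hfw, hrep⟩ := exists_frame hf hsm he hE hfe
  obtain ⟨x, y, rfl⟩ := hrep u hu
  have hee : P3 f e e e = 0 := by rw [← eval_eq f hf, hfe]
  rw [eval_add_smul f hf, eval_eq f hf (x • e)] at hfu
  simp only [smul1, smul2, smul3, hee, hA, hB] at hfu
  have hy : y ^ 3 * eval w f = 0 := by linear_combination hfu
  rw [mul_eq_zero, pow_eq_zero_iff three_ne_zero] at hy
  rw [hy.resolve_right hfw, zero_smul, add_zero]
  exact Submodule.smul_mem _ _ (Submodule.mem_span_singleton_self e)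

/-- The involution centred at a flex. -/
theorem exists_inv : ∃ (M : (Fin 3 → ℂ) →ₗ[ℂ] ℂ) (A : Matrix (Fin 3) (Fin 3) ℂ),
    (∀ u, P3 f u u e = P3 f u e e * M u) ∧ (∀ u, A.mulVec u = u - M u • e) ∧
    A * A = 1 ∧ (∀ u, eval (A.mulVec u) f = eval u f) := by
  obtain ⟨w, hA, hB, hfw, hrep⟩ := exists_frame hf hsm he hE hfe
  obtain ⟨x, hx⟩ := exists_ne_of_smooth f hf e (hsm e he hfe)
  set z := (1 / (3 * P3 f x e e)) • x with hz
  have hz1 : P3 f z e e = 1 / 3 := by rw [hz, smul1]; field_simp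
  have hee : P3 f e e e = 0 := by rw [← eval_eq f hf, hfe]
  have hQH : ∀ h, P3 f h e e = 0 → P3 f h h e = 0 := by
    intro h hh
    obtain ⟨p, q, rfl⟩ := hrep h hh
    simp only [add1, add2, smul1, smul2, hee, swap12 f w e, swap23 f e w e, hA,
      swap23 f w w e, hB]
    ring
  let M : (Fin 3 → ℂ) →ₗ[ℂ] ℂ := (6 : ℂ) • lin1 f z e - (9 * P3 f z z e) • lin1 f e e
  have hMe : M e = 2 := by
    simp only [M, LinearMap.sub_apply, LinearMap.smul_apply, lin1_apply, smul_eq_mul, hee,
      swap12 f e z e, hz1]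
    ring
  have hM : ∀ u, P3 f u u e = P3 f u e e * M u := fun u => by
    simp only [M, LinearMap.sub_apply, LinearMap.smul_apply, lin1_apply, smul_eq_mul]
    set l := 3 * P3 f u e e with hl
    have hh : P3 f (u + (-l) • z) e e = 0 := by rw [add1, smul1, hz1, hl]; ring
    have := hQH _ hh
    simp only [add1, add2, smul1, smul2, swap12 f z u e] at this
    rw [hl] at this
    linear_combination this
  let A := LinearMap.toMatrix' (LinearMap.id - M.smulRight e)
  have hA' : ∀ u, A.mulVec u = u - M u • e := fun u => by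
    rw [← Matrix.toLin'_apply, Matrix.toLin'_toMatrix']
    simp
  refine ⟨M, A, hM, hA', ?_, fun u => ?_⟩
  · apply Matrix.toLin'.injective
    refine LinearMap.ext fun u => ?_
    rw [Matrix.toLin'_mul, Matrix.toLin'_one, LinearMap.comp_apply, Matrix.toLin'_apply,
      Matrix.toLin'_apply, hA' u, hA', map_sub, map_smul, hMe, LinearMap.id_apply]
    simp only [smul_eq_mul]
    module
  · rw [hA', sub_eq_add_neg, ← neg_smul, eval_add_smul f hf, hfe, hM u]
    ring

/-- The third point on the line through two flexes is a flex. -/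
theorem exists_third {e' : Fin 3 → ℂ} (he' : e' ∉ Submodule.span ℂ {e}) (hE' : IsFlex f e')
    (hfe' : eval e' f = 0) : ∃ e'' : Fin 3 → ℂ, e'' ≠ 0 ∧ IsFlex f e'' ∧ eval e'' f = 0 ∧
    e'' ∉ Submodule.span ℂ {e} ∧ e'' ∉ Submodule.span ℂ {e'} ∧ e'' ∈ Submodule.span ℂ {e, e'} ∧
    ∀ u ∈ Submodule.span ℂ {e, e'}, eval u f = 0 →
      u ∈ Submodule.span ℂ {e} ∨ u ∈ Submodule.span ℂ {e'} ∨ u ∈ Submodule.span ℂ {e''} := by
  obtain ⟨M, A, hM, hA, hAA, hpres⟩ := exists_inv hf hsm he hE hfe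
  have he'0 : e' ≠ 0 := fun h => he' (h ▸ zero_mem _)
  have hT : P3 f e' e e ≠ 0 := fun h => he' (mem_span_of_tangent hf hsm he hE hfe e' h hfe')
  have hMe' : M e' ≠ 0 := fun h => by
    have h0 := hM e'
    rw [h, mul_zero] at h0
    have := mem_span_of_tangent hf hsm he'0 hE' hfe' e (by rwa [swap12, swap23]) hfe
    obtain ⟨t, ht⟩ := Submodule.mem_span_singleton.1 this
    exact he' (Submodule.mem_span_singleton.2 ⟨t⁻¹, by
      rw [← ht, smul_smul, inv_mul_cancel₀ (fun h0 => he (by rw [← ht, h0, zero_smul])), one_smul]⟩)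
  have hAAu : ∀ u, A.mulVec (A.mulVec u) = u := fun u => by
    rw [Matrix.mulVec_mulVec, hAA, Matrix.one_mulVec]
  refine ⟨A.mulVec e', fun h => he'0 (by rw [← hAAu e', h, Matrix.mulVec_zero]), ?_,
    by rw [hpres, hfe'], fun h => ?_, fun h => ?_, ?_, fun u hu hfu => ?_⟩
  · obtain ⟨w, hli, hw⟩ := hE'
    refine ⟨A.mulVec w, ?_, fun t => ?_⟩
    · rw [LinearIndependent.pair_iff]
      intro s t hst
      refine LinearIndependent.pair_iff.1 hli s t ?_
      have := congrArg (fun x => A.mulVec x) hst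
      simpa only [Matrix.mulVec_add, Matrix.mulVec_smul, hAAu, Matrix.mulVec_zero] using this
    · rw [← Matrix.mulVec_smul, ← Matrix.mulVec_add, hpres, hpres, hw]
  · rw [hA, Submodule.mem_span_singleton] at h
    obtain ⟨t, ht⟩ := h
    exact he' (Submodule.mem_span_singleton.2 ⟨t + M e', by rw [add_smul, ht]; abel⟩)
  · rw [hA, Submodule.mem_span_singleton] at h
    obtain ⟨t, ht⟩ := h
    have h2 : M e' • e = (1 - t) • e' := by rw [sub_smul, ht]; module
    by_cases h1 : 1 - t = 0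
    · rw [h1, zero_smul, smul_eq_zero] at h2
      exact h2.elim hMe' he
    · exact he' (Submodule.mem_span_singleton.2 ⟨(1 - t)⁻¹ * M e', by
        rw [mul_smul, h2, smul_smul, inv_mul_cancel₀ h1, one_smul]⟩)
  · rw [hA]
    exact sub_mem (Submodule.subset_span (by simp))
      (Submodule.smul_mem _ _ (Submodule.subset_span (by simp)))
  · obtain ⟨s, t, rfl⟩ := Submodule.mem_span_pair.1 hu
    rcases eq_or_ne t 0 with rfl | ht
    · exact Or.inl (Submodule.mem_span_singleton.2 ⟨s, by simp⟩)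
    rcases eq_or_ne s 0 with rfl | hs
    · exact Or.inr (Or.inl (Submodule.mem_span_singleton.2 ⟨t, by simp⟩))
    refine Or.inr (Or.inr (Submodule.mem_span_singleton.2 ⟨t, ?_⟩))
    rw [add_comm, eval_add_smul f hf, hfe, eval_eq f hf] at hfu
    simp only [smul1, smul2, smul3] at hfu
    rw [← eval_eq f hf, hfe', hM e'] at hfu
    have h4 : (3 * s * t * P3 f e' e e) * (t * M e' + s) = 0 := by linear_combination hfu
    have h5 := (mul_eq_zero.1 h4).resolve_left (by simp [hs, ht, hT])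
    rw [hA, smul_sub, smul_smul, show t * M e' = -s by linear_combination h5]
    module

end Groth.Agent.FlexInv
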