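/-
finite free resolutions at associated primes split
-/
import Mathlib

open IsLocalRing Matrix

universe u

namespace Groth.Agent.FreeResolutionRank


theorem inj_split {A : Type u} [CommRing A] [IsLocalRing A] {z : A} (hz0 : z ≠ 0)
    (hz : ∀ a ∈ maximalIdeal A, a * z = 0) {a b : ℕ} (f : (Fin a → A) →ₗ[A] (Fin b → A))
    (hf : Function.Injective f) : ∃ g : (Fin b → A) →ₗ[A] (Fin a → A), g ∘ₗ f = LinearMap.id := by
  classical
  let M : Matrix (Fin b) (Fin a) A := LinearMap.toMatrix' f
  have hM : ∀ v, M.mulVec v = f v := fun v => LinearMap.toMatrix'_mulVec f v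
  let Mk := M.map (residue A)
  have hinj : Function.Injective Mk.mulVecLin := by
    rw [← LinearMap.ker_eq_bot, LinearMap.ker_eq_bot']
    intro w hw
    choose v hv using fun i => residue_surjective (w i)
    have hmem : ∀ i, f v i ∈ maximalIdeal A := by
      intro i
      rw [← residue_eq_zero_iff, ← hM, RingHom.map_mulVec]
      rw [show (residue A) ∘ v = w from funext hv]
      exact congrFun hw i
    have hzv : z • v = 0 := hf (by
      rw [map_smul, map_zero]
      funext i
      rw [Pi.smul_apply, smul_eq_mul, mul_comm, hz _ (hmem i), Pi.zero_apply])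
    funext i
    rw [Pi.zero_apply, ← hv i, residue_eq_zero_iff]
    by_contra hu
    obtain ⟨u, hu⟩ := IsLocalRing.notMem_maximalIdeal.mp hu
    have h1 := congrFun hzv i
    rw [Pi.smul_apply, smul_eq_mul, Pi.zero_apply, ← hu] at h1
    exact hz0 (by simpa using h1)
  obtain ⟨L, hL⟩ := Mk.mulVecLin.exists_leftInverse_of_injective (LinearMap.ker_eq_bot.mpr hinj)
  choose L' hL' using fun i j => residue_surjective (LinearMap.toMatrix' L i j)
  let N : Matrix (Fin a) (Fin b) A := Matrix.of L'
  have hN : N.map (residue A) = LinearMap.toMatrix' L := by ext i j; exact hL' i j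
  have hdet : IsUnit (N * M).det := by
    rw [← IsLocalRing.notMem_maximalIdeal, ← residue_eq_zero_iff, RingHom.map_det]
    rw [show (residue A).mapMatrix (N * M) = 1 from ?_]
    · simp
    · have h := congrArg LinearMap.toMatrix' hL
      rw [LinearMap.toMatrix'_comp, LinearMap.toMatrix'_id, ← Matrix.toLin'_apply', LinearMap.toMatrix'_toLin'] at h
      rw [← h, ← hN]
      exact Matrix.map_mul
  refine ⟨(((N * M)⁻¹) * N).mulVecLin, LinearMap.ext fun v => ?_⟩
  rw [LinearMap.comp_apply, Matrix.mulVecLin_apply, ← hM, Matrix.mulVec_mulVec, Matrix.mul_assoc,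
    Matrix.nonsing_inv_mul _ hdet, Matrix.one_mulVec, LinearMap.id_apply]

theorem range_step {A : Type u} [CommRing A] [IsLocalRing A] {z : A} (hz0 : z ≠ 0)
    (hz : ∀ a ∈ maximalIdeal A, a * z = 0) {a b : ℕ} (f : (Fin a → A) →ₗ[A] (Fin b → A))
    {k : ℕ} (C : Submodule A (Fin a → A)) (hC : IsCompl (LinearMap.ker f) C)
    [Module.Free A (LinearMap.ker f)] [Module.Finite A (LinearMap.ker f)]
    (hk : Module.finrank A (LinearMap.ker f) = k) :
    ∃ D, IsCompl (LinearMap.range f) D ∧ Module.Free A (LinearMap.range f) ∧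
      Module.Finite A (LinearMap.range f) ∧ Module.finrank A (LinearMap.range f) = a - k := by
  haveI : Module.Finite A C := Module.Finite.of_surjective (C.linearProjOfIsCompl _ hC.symm)
    (Submodule.linearProjOfIsCompl_surjective _)
  haveI : Module.Projective A C := Module.Projective.of_split C.subtype (C.linearProjOfIsCompl _ hC.symm)
    (LinearMap.ext fun x => Submodule.linearProjOfIsCompl_apply_left hC.symm x)
  haveI : Module.Free A C := Module.free_of_flat_of_isLocalRing
  let B := (Module.finBasis A C).equivFun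
  let h : (Fin (Module.finrank A C) → A) →ₗ[A] (Fin b → A) := f ∘ₗ C.subtype ∘ₗ B.symm.toLinearMap
  have hh : Function.Injective h := by
    rw [← LinearMap.ker_eq_bot, LinearMap.ker_eq_bot']
    intro v hv
    have : (B.symm v : Fin a → A) ∈ LinearMap.ker f ⊓ C := ⟨hv, (B.symm v).2⟩
    rw [hC.inf_eq_bot, Submodule.mem_bot, Submodule.coe_eq_zero, LinearEquiv.map_eq_zero_iff] at this
    exact this
  have hrange : LinearMap.range h = LinearMap.range f := by
    apply le_antisymm
    · rintro _ ⟨v, rfl⟩
      exact ⟨_, rfl⟩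
    · rintro _ ⟨x, rfl⟩
      obtain ⟨u, hu, c, hc, rfl⟩ := Submodule.mem_sup.mp (show x ∈ LinearMap.ker f ⊔ C from hC.sup_eq_top ▸ Submodule.mem_top)
      exact ⟨B ⟨c, hc⟩, by simp [h, map_add, LinearMap.mem_ker.mp hu]⟩
  obtain ⟨g, hg⟩ := inj_split hz0 hz h hh
  have hgh : ∀ v, g (h v) = v := LinearMap.congr_fun hg
  haveI : Module.Free A (LinearMap.range h) := Module.Free.of_equiv (LinearEquiv.ofInjective h hh)
  refine ⟨LinearMap.ker g, ?_, hrange ▸ inferInstance, hrange ▸ inferInstance, ?_⟩
  · rw [← hrange]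
    constructor
    · rw [Submodule.disjoint_def]
      rintro _ ⟨v, rfl⟩ hx
      rw [LinearMap.mem_ker, hgh] at hx
      rw [hx, map_zero]
    · rw [codisjoint_iff, Submodule.eq_top_iff']
      intro x
      exact Submodule.mem_sup.mpr ⟨h (g x), ⟨_, rfl⟩, x - h (g x), by rw [LinearMap.mem_ker, map_sub, hgh, sub_self], by abel⟩
  · rw [← hrange, ← (LinearEquiv.ofInjective h hh).finrank_eq, Module.finrank_fin_fun]
    have h1 := (Submodule.prodEquivOfIsCompl _ _ hC).finrank_eq
    rw [Module.finrank_prod, Module.finrank_fin_fun, hk] at h1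
    omega

theorem map_exact {R : Type u} [CommRing R] (S : Submonoid R) (A : Type u) [CommRing A] [Algebra R A]
    [IsLocalization S A] {a b c : ℕ} (M : Matrix (Fin a) (Fin b) R) (N : Matrix (Fin b) (Fin c) R)
    (h : LinearMap.ker M.mulVecLin = LinearMap.range N.mulVecLin) :
    LinearMap.ker (M.map (algebraMap R A)).mulVecLin = LinearMap.range (N.map (algebraMap R A)).mulVecLin := by
  classical
  apply le_antisymm
  · intro x hx
    obtain ⟨s, hs⟩ := IsLocalization.exist_integer_multiples_of_finite S x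
    choose v hv using hs
    have hv' : algebraMap R A ∘ v = (algebraMap R A s) • x := funext fun i => (hv i).trans (Algebra.smul_def _ _)
    have h0 : ∀ i, algebraMap R A (M.mulVec v i) = 0 := fun i => by
      rw [RingHom.map_mulVec, hv', Matrix.mulVec_smul, show (M.map (algebraMap R A)).mulVec x = 0 from hx, smul_zero]
      rfl
    choose t ht using fun i => (IsLocalization.map_eq_zero_iff S A _).mp (h0 i)
    let T : S := ∏ i, t i
    have hT : (T : R) • v ∈ LinearMap.ker M.mulVecLin := by
      rw [LinearMap.mem_ker, map_smul]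
      funext i
      obtain ⟨d, hd⟩ := Finset.dvd_prod_of_mem t (Finset.mem_univ i)
      simp [T, hd, mul_assoc, mul_left_comm _ (d : R), ht i]
    rw [h] at hT
    obtain ⟨w, hw⟩ := hT
    obtain ⟨u, hu⟩ := IsLocalization.map_units A (T * s)
    refine ⟨(↑u⁻¹ : A) • (algebraMap R A ∘ w), ?_⟩
    have h1 : (N.map (algebraMap R A)).mulVec (algebraMap R A ∘ w) = (u : A) • x := by
      funext i
      rw [← RingHom.map_mulVec, show N.mulVec w = (T : R) • v from hw, hu, Submonoid.coe_mul, map_mul, mul_smul, ← hv']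
      simp
    rw [map_smul, Matrix.mulVecLin_apply, h1, smul_smul, Units.inv_mul, one_smul]
  · rintro _ ⟨y, rfl⟩
    have : M * N = 0 := by
      ext i j
      have hm : N.mulVecLin (Pi.single j 1) ∈ LinearMap.ker M.mulVecLin := h ▸ ⟨_, rfl⟩
      have := congrFun (LinearMap.mem_ker.mp hm) i
      simpa [Matrix.mul_apply, Matrix.mulVec, dotProduct] using this
    rw [LinearMap.mem_ker, Matrix.mulVecLin_apply, Matrix.mulVecLin_apply, Matrix.mulVec_mulVec,
      ← Matrix.map_mul, this, Matrix.map_zero _ (map_zero _), Matrix.zero_mulVec]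

theorem exists_killed {R : Type u} [CommRing R] [IsNoetherianRing R] (p : Ideal R) [p.IsPrime]
    (hp : p ∈ associatedPrimes R R) :
    ∃ z : Localization.AtPrime p, z ≠ 0 ∧ ∀ a ∈ maximalIdeal (Localization.AtPrime p), a * z = 0 := by
  obtain ⟨-, x, hx⟩ := isAssociatedPrime_iff.mp hp
  have hmem : ∀ r, r ∈ p ↔ r * x = 0 := fun r => by rw [hx, Submodule.mem_colon_singleton]; simp
  refine ⟨algebraMap R _ x, fun h => ?_, fun a ha => ?_⟩
  · obtain ⟨s, hs⟩ := (IsLocalization.map_eq_zero_iff p.primeCompl _ _).mp h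
    exact s.2 ((hmem _).mpr hs)
  · rw [← Localization.AtPrime.map_eq_maximalIdeal] at ha
    induction ha using Submodule.span_induction with
    | mem y hy =>
      obtain ⟨r, hr, rfl⟩ := hy
      rw [← map_mul, (hmem r).mp hr, map_zero]
    | zero => rw [zero_mul]
    | add y y' _ _ hy hy' => rw [add_mul, hy, hy', add_zero]
    | smul c y _ hy => rw [smul_eq_mul, mul_assoc, hy, mul_zero]

theorem ranks {R : Type u} [CommRing R] [IsNoetherianRing R] (e : ℕ) (n : ℕ → ℕ)
    (A : (i : ℕ) → Matrix (Fin (n i)) (Fin (n (i + 1))) R)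
    (hA : ∀ i, i + 2 ≤ e → LinearMap.ker (A i).mulVecLin = LinearMap.range (A (i + 1)).mulVecLin)
    (hlast : LinearMap.ker (A (e - 1)).mulVecLin = ⊥) :
    ∀ d i, i + d + 1 = e → ∃ ρ : ℕ, ∀ (p : Ideal R) [p.IsPrime], p ∈ associatedPrimes R R →
      ∃ D, IsCompl (LinearMap.range ((A i).map (algebraMap R (Localization.AtPrime p))).mulVecLin) D ∧
        Module.Free (Localization.AtPrime p) (LinearMap.range ((A i).map (algebraMap R (Localization.AtPrime p))).mulVecLin) ∧
        Module.finrank (Localization.AtPrime p) (LinearMap.range ((A i).map (algebraMap R (Localization.AtPrime p))).mulVecLin) = ρ := by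
  intro d
  induction d with
  | zero =>
    intro i hi
    refine ⟨n (i + 1), fun p _ hp => ?_⟩
    obtain ⟨z, hz0, hz⟩ := exists_killed p hp
    have hker : LinearMap.ker ((A i).map (algebraMap R (Localization.AtPrime p))).mulVecLin = ⊥ := by
      have h0 : LinearMap.ker (A i).mulVecLin = LinearMap.range (0 : Matrix (Fin (n (i + 1))) (Fin 0) R).mulVecLin := by
        rw [show i = e - 1 by omega, hlast]; simp
      rw [map_exact p.primeCompl (Localization.AtPrime p) _ _ h0, Matrix.map_zero _ (map_zero _)]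
      simp
    let f := ((A i).map (algebraMap R (Localization.AtPrime p))).mulVecLin
    haveI : Module.Free (Localization.AtPrime p) (LinearMap.ker f) := by
      haveI : Subsingleton (LinearMap.ker f) := Submodule.subsingleton_iff_eq_bot.mpr hker
      exact Module.Free.of_subsingleton _ _
    obtain ⟨D, h1, h2, -, h3⟩ := range_step hz0 hz f (k := 0) ⊤ (hker ▸ isCompl_bot_top)
      (by rw [show LinearMap.ker f = ⊥ from hker]; simp)
    exact ⟨D, h1, h2, by simpa using h3⟩
  | succ d ih =>
    intro i hi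
    obtain ⟨ρ, hρ⟩ := ih (i + 1) (by omega)
    refine ⟨n (i + 1) - ρ, fun p _ hp => ?_⟩
    obtain ⟨z, hz0, hz⟩ := exists_killed p hp
    obtain ⟨C, hC, hfree, hr⟩ := hρ p hp
    let f := ((A i).map (algebraMap R (Localization.AtPrime p))).mulVecLin
    have hker : LinearMap.ker f = LinearMap.range ((A (i+1)).map (algebraMap R (Localization.AtPrime p))).mulVecLin :=
      map_exact p.primeCompl (Localization.AtPrime p) _ _ (hA i (by omega))
    haveI : Module.Free (Localization.AtPrime p) (LinearMap.ker f) := by rw [hker]; exact hfree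
    haveI : Module.Finite (Localization.AtPrime p) (LinearMap.ker f) := by rw [hker]; infer_instance
    obtain ⟨D, h1, h2, -, h3⟩ := range_step hz0 hz f (k := ρ) C (by rw [hker]; exact hC) (by rw [hker]; exact hr)
    exact ⟨D, h1, h2, h3⟩

theorem compl_dichotomy {A : Type u} [CommRing A] [IsLocalRing A] (K C : Submodule A (Fin 1 → A))
    (h : IsCompl K C) : K = ⊥ ∨ K = ⊤ := by
  obtain ⟨k, hk, c, hc, hkc⟩ := Submodule.mem_sup.mp (show (fun _ => (1 : A)) ∈ K ⊔ C from h.sup_eq_top ▸ Submodule.mem_top)
  have key : ∀ (W : Submodule A (Fin 1 → A)) (w : Fin 1 → A), w ∈ W → IsUnit (w 0) → W = ⊤ := by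
    intro W w hw hu
    obtain ⟨u, hu⟩ := hu
    refine Submodule.eq_top_iff'.mpr fun x => ?_
    rw [show x = (x 0 * (↑u⁻¹ : A)) • w from funext fun i => by
      rw [Subsingleton.elim i 0, Pi.smul_apply, smul_eq_mul, mul_assoc, ← hu, Units.inv_mul, mul_one]]
    exact W.smul_mem _ hw
  rcases IsLocalRing.isUnit_or_isUnit_of_add_one (show k 0 + c 0 = 1 from congrFun hkc 0) with hu | hu
  · exact Or.inr (key K k hk hu)
  · refine Or.inl ?_
    have := h.inf_eq_bot
    rwa [key C c hc hu, inf_top_eq] at this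

end Groth.Agent.FreeResolutionRank
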