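import Groth.Prelude.Def_W4bk4goldsch23FF
import Mathlib

/-!
Places of a function field of one variable: valuation lemmas, places from valuation rings,
finiteness of residue fields.
-/

open FunFld WithZero

namespace Groth.Agent.FF

variable {k K : Type*} [Field k] [Field K] [Algebra k K]

section basic
variable (P : Place k K)

lemma val_ne_zero {x : K} (hx : x ≠ 0) : P.1 x ≠ 0 := (Valuation.ne_zero_iff _).2 hx

lemma val_const {c : k} (hc : c ≠ 0) : P.1 (algebraMap k K c) = 1 := by
  have h0 : P.1 (algebraMap k K c) ≠ 0 := val_ne_zero P (by simpa using hc)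
  refine le_antisymm (P.2.1 c) ?_
  have h := P.2.1 c⁻¹
  rw [map_inv₀, map_inv₀] at h
  exact (inv_le_one₀ (zero_lt_iff.2 h0)).1 h

lemma val_eq_exp {x : K} (hx : x ≠ 0) : P.1 x = exp (-P.ord x) := by
  simp [Place.ord, exp_log (val_ne_zero P hx)]

lemma ord_zero : P.ord 0 = 0 := by simp [Place.ord]

lemma ord_one : P.ord 1 = 0 := by simp [Place.ord]

lemma ord_const (c : k) : P.ord (algebraMap k K c) = 0 := by
  rcases eq_or_ne c 0 with rfl | hc
  · simp [Place.ord]
  · simp [Place.ord, val_const P hc]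

lemma ord_mul {x y : K} (hx : x ≠ 0) (hy : y ≠ 0) : P.ord (x * y) = P.ord x + P.ord y := by
  simp only [Place.ord, map_mul, log_mul (val_ne_zero P hx) (val_ne_zero P hy)]
  ring

lemma ord_inv (x : K) : P.ord x⁻¹ = -P.ord x := by
  simp [Place.ord, map_inv₀]

lemma ord_div {x y : K} (hx : x ≠ 0) (hy : y ≠ 0) : P.ord (x / y) = P.ord x - P.ord y := by
  rw [div_eq_mul_inv, ord_mul P hx (inv_ne_zero hy), ord_inv, sub_eq_add_neg]

lemma ord_pow (x : K) (n : ℕ) : P.ord (x ^ n) = n * P.ord x := by
  simp [Place.ord, map_pow, log_pow]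

lemma ord_zpow (x : K) (n : ℤ) : P.ord (x ^ n) = n * P.ord x := by
  simp [Place.ord, map_zpow₀, log_zpow]

lemma ord_neg (x : K) : P.ord (-x) = P.ord x := by simp [Place.ord]

lemma ord_prod {ι : Type*} (s : Finset ι) (f : ι → K) (hf : ∀ i ∈ s, f i ≠ 0) :
    P.ord (∏ i ∈ s, f i) = ∑ i ∈ s, P.ord (f i) := by
  induction s using Finset.cons_induction with
  | empty => simp [ord_one]
  | cons a s ha ih =>
    rw [Finset.prod_cons, Finset.sum_cons, ord_mul P (hf a (by simp))
      (Finset.prod_ne_zero_iff.2 fun i hi => hf i (by simp [hi])), ih fun i hi => hf i (by simp [hi])]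

lemma val_le_exp_iff {x : K} (hx : x ≠ 0) {n : ℤ} : P.1 x ≤ exp n ↔ -n ≤ P.ord x := by
  rw [val_eq_exp P hx, exp_le_exp]; omega

lemma val_le_one_iff {x : K} (hx : x ≠ 0) : P.1 x ≤ 1 ↔ 0 ≤ P.ord x := by
  simpa [exp_zero] using val_le_exp_iff P hx (n := 0)

lemma val_lt_one_iff {x : K} (hx : x ≠ 0) : P.1 x < 1 ↔ 0 < P.ord x := by
  rw [val_eq_exp P hx]
  conv_lhs => rw [← exp_zero (M := ℤ), exp_lt_exp]
  omega

lemma val_eq_one_iff {x : K} (hx : x ≠ 0) : P.1 x = 1 ↔ P.ord x = 0 := by
  rw [val_eq_exp P hx]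
  conv_lhs => rw [← exp_zero (M := ℤ), exp_inj]
  omega

lemma le_exp_pred_iff {a : ℤᵐ⁰} {n : ℤ} : a ≤ exp (n - 1) ↔ a < exp n := by
  rcases eq_or_ne a 0 with rfl | h
  · simp
  · rw [← log_le_iff_le_exp h, ← log_lt_iff_lt_exp h]; omega

lemma exists_unif : ∃ t : K, P.1 t = exp (-1 : ℤ) := P.2.2 _

lemma exists_val (n : ℤ) : ∃ t : K, P.1 t = exp n := P.2.2 _

lemma exists_ord (n : ℤ) : ∃ t : K, t ≠ 0 ∧ P.ord t = n := by
  obtain ⟨t, ht⟩ := exists_val P (-n)
  refine ⟨t, fun h => exp_ne_zero (a := -n) (by simp [← ht, h]), ?_⟩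
  simp [Place.ord, ht]

lemma ord_add_ge {x y : K} (hx : x ≠ 0) (hy : y ≠ 0) (hxy : x + y ≠ 0) :
    min (P.ord x) (P.ord y) ≤ P.ord (x + y) := by
  have h := P.1.map_add x y
  rw [val_eq_exp P hx, val_eq_exp P hy, val_eq_exp P hxy, le_max_iff, exp_le_exp, exp_le_exp] at h
  omega

lemma mem_O {x : K} : x ∈ P.O ↔ P.1 x ≤ 1 := P.1.mem_valuationSubring_iff x

end basic

lemma ext_of_val_eq {P Q : Place k K} (h : ∀ x, P.1 x = Q.1 x) : P = Q :=
  Subtype.ext (Valuation.ext h)

/-- A place is determined by its valuation ring, and valuation rings of distinct places are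
incomparable. -/
lemma eq_of_forall_le_one {P Q : Place k K} (h : ∀ x, P.1 x ≤ 1 → Q.1 x ≤ 1) : P = Q := by
  obtain ⟨t, ht0, ht⟩ := exists_ord P 1
  have hunit : ∀ u : K, u ≠ 0 → P.ord u = 0 → Q.ord u = 0 := by
    intro u hu h0
    have h1 := h u ((val_le_one_iff P hu).2 h0.ge)
    have h2 := h u⁻¹ ((val_le_one_iff P (inv_ne_zero hu)).2 (by rw [ord_inv]; omega))
    rw [val_le_one_iff Q hu] at h1
    rw [val_le_one_iff Q (inv_ne_zero hu), ord_inv] at h2
    omega
  have key : ∀ x : K, x ≠ 0 → Q.ord x = P.ord x * Q.ord t := by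
    intro x hx
    have := hunit (x * t ^ (-P.ord x)) (mul_ne_zero hx (zpow_ne_zero _ ht0))
      (by rw [ord_mul P hx (zpow_ne_zero _ ht0), ord_zpow, ht]; ring)
    rw [ord_mul Q hx (zpow_ne_zero _ ht0), ord_zpow] at this
    linarith
  obtain ⟨s, hs0, hs⟩ := exists_ord Q 1
  have hge : 0 ≤ Q.ord t := (val_le_one_iff Q ht0).1 (h t ((val_le_one_iff P ht0).2 (by omega)))
  have h1 : Q.ord t = 1 := Int.eq_one_of_mul_eq_one_left hge (by rw [← key s hs0, hs])
  refine ext_of_val_eq fun x => ?_
  rcases eq_or_ne x 0 with rfl | hx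
  · simp
  · rw [val_eq_exp P hx, val_eq_exp Q hx, key x hx, h1, mul_one]

lemma exists_not_le_one {P Q : Place k K} (h : P ≠ Q) : ∃ x, P.1 x ≤ 1 ∧ 1 < Q.1 x := by
  by_contra hc
  push Not at hc
  exact h (eq_of_forall_le_one hc)

section indep

variable {x : K}

lemma aeval_eq_zero_iff (hx : Transcendental k x) {p : Polynomial k} :
    Polynomial.aeval x p = 0 ↔ p = 0 :=
  ⟨fun h => (transcendental_iff.1 hx) p h, by rintro rfl; simp⟩

/-- Elements of a subalgebra `R ∋ x` which are independent modulo `x R` are independent over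
`k[x]`. -/
lemma coeff_eq_zero_of_mod (hx : Transcendental k x) (R : Subalgebra k K) (hxR : x ∈ R)
    {ι : Type*} (s : Finset ι) (w : ι → K) (hw : ∀ i, w i ∈ R)
    (hmod : ∀ c : ι → k, (∃ r ∈ R, ∑ i ∈ s, c i • w i = x * r) → ∀ i ∈ s, c i = 0)
    (p : ι → Polynomial k) (hp : ∑ i ∈ s, Polynomial.aeval x (p i) * w i = 0) :
    ∀ i ∈ s, p i = 0 := by
  have hx0 : x ≠ 0 := fun h => hx (h ▸ isAlgebraic_zero)
  suffices ∀ (n : ℕ) (p : ι → Polynomial k), ∑ i ∈ s, Polynomial.aeval x (p i) * w i = 0 →
      ∀ i ∈ s, (p i).coeff n = 0 from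
    fun i hi => Polynomial.ext fun n => by simpa using this n p hp i hi
  intro n
  induction n with
  | zero =>
    intro p hp
    refine hmod (fun i => (p i).coeff 0)
      ⟨-∑ i ∈ s, Polynomial.aeval x (p i).divX * w i,
        neg_mem (sum_mem fun i _ => mul_mem ?_ (hw i)), ?_⟩
    · exact Algebra.adjoin_le (by simpa using hxR) (Polynomial.aeval_mem_adjoin_singleton k x)
    · rw [← sub_eq_zero, ← hp, mul_neg, sub_neg_eq_add, Finset.mul_sum,
        ← Finset.sum_add_distrib]
      refine Finset.sum_congr rfl fun i _ => ?_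
      have h := congrArg (Polynomial.aeval x) (Polynomial.X_mul_divX_add (p i))
      simp only [map_add, map_mul, Polynomial.aeval_X, Polynomial.aeval_C] at h
      rw [← h, Algebra.smul_def]; ring
  | succ n ih =>
    intro p hp i hi
    have h0 : ∀ j ∈ s, (p j).coeff 0 = 0 := by
      refine hmod (fun i => (p i).coeff 0)
        ⟨-∑ i ∈ s, Polynomial.aeval x (p i).divX * w i,
          neg_mem (sum_mem fun i _ => mul_mem ?_ (hw i)), ?_⟩
      · exact Algebra.adjoin_le (by simpa using hxR) (Polynomial.aeval_mem_adjoin_singleton k x)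
      · rw [← sub_eq_zero, ← hp, mul_neg, sub_neg_eq_add, Finset.mul_sum,
          ← Finset.sum_add_distrib]
        refine Finset.sum_congr rfl fun i _ => ?_
        have h := congrArg (Polynomial.aeval x) (Polynomial.X_mul_divX_add (p i))
        simp only [map_add, map_mul, Polynomial.aeval_X, Polynomial.aeval_C] at h
        rw [← h, Algebra.smul_def]; ring
    have hd : x * ∑ j ∈ s, Polynomial.aeval x (p j).divX * w j = 0 := by
      rw [← hp, Finset.mul_sum]
      refine Finset.sum_congr rfl fun j hj => ?_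
      conv_rhs => rw [← Polynomial.X_mul_divX_add (p j)]
      simp [h0 j hj]; ring
    have := ih (fun j => (p j).divX) ((mul_eq_zero.1 hd).resolve_left hx0) i hi
    simpa [Polynomial.coeff_divX] using this

lemma linearIndependent_of_mod (hx : Transcendental k x) (R : Subalgebra k K) (hxR : x ∈ R)
    {ι : Type*} (w : ι → K) (hw : ∀ i, w i ∈ R)
    (hmod : ∀ (s : Finset ι) (c : ι → k), (∃ r ∈ R, ∑ i ∈ s, c i • w i = x * r) → ∀ i ∈ s, c i = 0) :
    LinearIndependent (IntermediateField.adjoin k ({x} : Set K)) w := by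
  classical
  rw [linearIndependent_iff']
  intro s g hg i hi
  have hg' : ∀ j, ∃ r q : Polynomial k, Polynomial.aeval x q ≠ 0 ∧
      (g j : K) * Polynomial.aeval x q = Polynomial.aeval x r := by
    intro j
    obtain ⟨r, q, h⟩ := (IntermediateField.mem_adjoin_simple_iff k (g j : K)).1 (g j).2
    by_cases hq : Polynomial.aeval x q = 0
    · exact ⟨0, 1, by simp, by simp [h, hq]⟩
    · exact ⟨r, q, hq, by rw [h, div_mul_cancel₀ _ hq]⟩
  choose r q hq hr using hg'
  have := coeff_eq_zero_of_mod hx R hxR s w hw (hmod s)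
    (fun j => r j * ∏ l ∈ s.erase j, q l) ?_ i hi
  · rw [mul_eq_zero, Finset.prod_eq_zero_iff] at this
    rcases this with h | ⟨l, _, h⟩
    · have h2 := hr i
      rw [h, map_zero, mul_eq_zero] at h2
      exact Subtype.ext (h2.resolve_right (hq i))
    · exact absurd (by simp [h]) (hq l)
  · have : (∏ l ∈ s, Polynomial.aeval x (q l)) * ∑ j ∈ s, g j • w j = 0 := by rw [hg, mul_zero]
    rw [← this, Finset.mul_sum]
    refine Finset.sum_congr rfl fun j hj => ?_
    rw [map_mul, map_prod, ← hr j, ← Finset.mul_prod_erase s _ hj,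
      IntermediateField.smul_def, smul_eq_mul]
    ring

/-- `R/xR` is finite over `k`, of dimension at most `[K : k(x)]`. -/
lemma finite_quotient_mulLeft (hx : Transcendental k x) (R : Subalgebra k K) (hxR : x ∈ R)
    [FiniteDimensional (IntermediateField.adjoin k ({x} : Set K)) K] :
    FiniteDimensional k (R ⧸ LinearMap.range (LinearMap.mulLeft k (⟨x, hxR⟩ : R))) ∧
    Module.finrank k (R ⧸ LinearMap.range (LinearMap.mulLeft k (⟨x, hxR⟩ : R))) ≤
      Module.finrank (IntermediateField.adjoin k ({x} : Set K)) K := by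
  set M := LinearMap.range (LinearMap.mulLeft k (⟨x, hxR⟩ : R))
  let b := Module.Basis.ofVectorSpace k (R ⧸ M)
  choose w hw using fun i => Submodule.mkQ_surjective M (b i)
  have hli : LinearIndependent (IntermediateField.adjoin k ({x} : Set K))
      (fun i => (w i : K)) := by
    refine linearIndependent_of_mod hx R hxR _ (fun i => (w i).2) fun s c ⟨r, hr, h⟩ => ?_
    refine linearIndependent_iff'.1 b.linearIndependent s c ?_
    have hmem : ∑ i ∈ s, c i • w i ∈ M := ⟨⟨r, hr⟩, Subtype.ext (by simpa using h.symm)⟩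
    have h2 := (Submodule.Quotient.mk_eq_zero M).2 hmem
    rw [← Submodule.mkQ_apply, map_sum] at h2
    simpa [hw] using h2
  have : Finite _ := hli.finite
  have := Fintype.ofFinite (Module.Basis.ofVectorSpaceIndex k (R ⧸ M))
  exact ⟨Module.Finite.of_basis b,
    (Module.finrank_eq_card_basis b).le.trans hli.fintype_card_le_finrank⟩

end indep

section ff

variable (hK : IsFunctionField k K)
include hK

lemma transcendental_of_not_mem {x : K} (h : x ∉ Set.range (algebraMap k K)) :
    Transcendental k x := fun ha => h (hK.2 x ha)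

lemma transcendental_of_ord_ne_zero {P : Place k K} {x : K} (h : P.ord x ≠ 0) :
    Transcendental k x :=
  transcendental_of_not_mem hK fun ⟨c, hc⟩ => h (hc ▸ ord_const P c)

lemma trdeg_le_one : Algebra.trdeg k K ≤ 1 := by
  obtain ⟨⟨x₀, hx₀, hfin⟩, -⟩ := hK
  have : Algebra.IsAlgebraic (IntermediateField.adjoin k ({x₀} : Set K)) K :=
    Algebra.IsAlgebraic.of_finite _ _
  have : Algebra.IsAlgebraic (Algebra.adjoin k ({x₀} : Set K)) K := by
    rwa [← IntermediateField.isAlgebraic_adjoin_iff_top]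
  simpa using Algebra.IsAlgebraic.trdeg_le_cardinalMk k (s := ({x₀} : Set K)) (A := K)

theorem finiteDimensional_adjoin_of_transcendental {x : K} (hx : Transcendental k x) :
    FiniteDimensional (IntermediateField.adjoin k ({x} : Set K)) K := by
  have hle := trdeg_le_one hK
  have hind : AlgebraicIndependent k (fun _ : Unit => x) :=
    algebraicIndependent_unique_type_iff.2 hx
  have hle' : Cardinal.lift.{0} (Algebra.trdeg k K) ≤ Cardinal.lift (Cardinal.mk Unit) := by
    simpa using hle
  have hb := (hind.isTranscendenceBasis_of_lift_trdeg_le_of_finite hle').isAlgebraic_field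
  rw [show (Set.range fun _ : Unit => x) = {x} by ext; simp] at hb
  obtain ⟨⟨x₀, hx₀, hfin⟩, -⟩ := hK
  let L := IntermediateField.adjoin k ({x} : Set K)
  let bs := Module.finBasis (IntermediateField.adjoin k ({x₀} : Set K)) K
  let S : Set K := insert x₀ (Set.range bs)
  have : Finite S := (Set.finite_range bs).insert x₀ |>.to_subtype
  have hfd : FiniteDimensional L (IntermediateField.adjoin L S) :=
    IntermediateField.finiteDimensional_adjoin fun y _ => (hb.isAlgebraic y).isIntegral
  have htop : IntermediateField.adjoin L S = ⊤ := by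
    rw [eq_top_iff]
    intro y _
    have h0 : IntermediateField.adjoin k ({x₀} : Set K) ≤
        (IntermediateField.adjoin L S).restrictScalars k := by
      rw [IntermediateField.adjoin_simple_le_iff]
      exact IntermediateField.subset_adjoin L S (Set.mem_insert _ _)
    rw [← bs.sum_repr y]
    refine sum_mem fun i _ => ?_
    rw [IntermediateField.smul_def, smul_eq_mul]
    exact mul_mem (h0 (bs.repr y i).2)
      (IntermediateField.subset_adjoin L S (Set.mem_insert_of_mem _ ⟨i, rfl⟩))
  rw [htop] at hfd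
  exact IntermediateField.topEquiv.toLinearEquiv.finiteDimensional

end ff

section residue

variable (P : Place k K)

/-- The valuation ring of a place as a subalgebra. -/
def OAlg : Subalgebra k K where
  __ := P.O.toSubring
  algebraMap_mem' c := P.2.1 c

lemma mem_OAlg {x : K} : x ∈ OAlg P ↔ P.1 x ≤ 1 := Iff.rfl

end residue

section ofValuationSubring

variable (hK : IsFunctionField k K) (B : ValuationSubring K) (hkB : ∀ c : k, algebraMap k K c ∈ B)

include hK hkB

lemma isNoetherianRing_valuationSubring : IsNoetherianRing B := by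
  let R : Subalgebra k K := { __ := B.toSubring, algebraMap_mem' := hkB }
  refine isNoetherianRing_iff_ideal_fg B |>.2 fun I => ?_
  rcases eq_or_ne I ⊥ with rfl | hI
  · exact Submodule.fg_bot
  obtain ⟨a, haI, ha0⟩ := Submodule.exists_mem_ne_zero_of_ne_bot hI
  by_cases hu : IsUnit a
  · rw [Ideal.eq_top_of_isUnit_mem I haI hu]; exact ⟨{1}, by simp⟩
  have hx : Transcendental k (a : K) := by
    refine transcendental_of_not_mem hK fun ⟨c, hc⟩ => hu ?_
    have hc0 : c ≠ 0 := fun h => ha0 (Subtype.ext (by simp [← hc, h]))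
    exact IsUnit.of_mul_eq_one ⟨algebraMap k K c⁻¹, hkB _⟩
      (Subtype.ext (by simp [← hc, mul_inv_cancel₀ ((map_ne_zero (algebraMap k K)).2 hc0)]))
  have := finiteDimensional_adjoin_of_transcendental hK hx
  set M := LinearMap.range (LinearMap.mulLeft k (⟨(a : K), a.2⟩ : R))
  have hfin := (finite_quotient_mulLeft hx R a.2).1
  let φ : R →+* B :=
    { toFun := fun r => ⟨(r : K), r.2⟩
      map_one' := rfl
      map_mul' := fun _ _ => rfl
      map_zero' := rfl
      map_add' := fun _ _ => rfl }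
  let Ik : Submodule k (R ⧸ M) :=
    Submodule.map M.mkQ ((I.comap φ : Submodule R R).restrictScalars k)
  obtain ⟨T, hT⟩ := (Submodule.fg_top Ik).2 (IsNoetherian.noetherian Ik)
  have hTmem : ∀ z : Ik, ∃ r : R, φ r ∈ I ∧ M.mkQ r = z := fun z => z.2
  choose f hfI hf using hTmem
  classical
  refine ⟨insert a (T.image fun z => φ (f z)), le_antisymm ?_ ?_⟩
  · rw [Submodule.span_le]
    intro r hr
    simp only [Finset.coe_insert, Set.mem_insert_iff, Finset.coe_image, Set.mem_image] at hr
    rcases hr with rfl | ⟨z, _, rfl⟩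
    exacts [haI, hfI z]
  · intro r hr
    let r' : R := ⟨(r : K), r.2⟩
    have hzr : (⟨M.mkQ r', ⟨r', hr, rfl⟩⟩ : Ik) ∈ Submodule.span k (T : Set Ik) := by
      rw [hT]; exact Submodule.mem_top
    obtain ⟨c, -, hc⟩ := Submodule.mem_span_finset.1 hzr
    have h2 : M.mkQ (r' - ∑ z ∈ T, c z • f z) = 0 := by
      rw [map_sub, map_sum]
      simp only [map_smul, hf]
      rw [sub_eq_zero]
      simpa using (congrArg Subtype.val hc).symm
    obtain ⟨s, hs⟩ := (Submodule.Quotient.mk_eq_zero M).1 h2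
    have hr_eq : r = φ s * a + ∑ z ∈ T, φ (algebraMap k R (c z)) * φ (f z) := by
      have h3 : r' = s * ⟨(a : K), a.2⟩ + ∑ z ∈ T, algebraMap k R (c z) * f z := by
        rw [mul_comm]
        simp only [← Algebra.smul_def]
        exact sub_eq_iff_eq_add.1 hs.symm
      have h4 : φ r' = r := rfl
      rw [← h4, h3, map_add, map_mul, map_sum]
      simp only [map_mul]
      rfl
    rw [hr_eq]
    refine add_mem (Ideal.mul_mem_left _ _ (Ideal.subset_span (by simp))) (sum_mem fun z hz => ?_)
    exact Ideal.mul_mem_left _ _ (Ideal.subset_span (by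
      simp only [Finset.coe_insert, Set.mem_insert_iff, Finset.coe_image, Set.mem_image]
      exact Or.inr ⟨z, hz, rfl⟩))

/-- Every nontrivial valuation ring containing the constants comes from a place. -/
theorem exists_place_of_valuationSubring (hB : B ≠ ⊤) :
    ∃ P : Place k K, P.O = B := by
  have := isNoetherianRing_valuationSubring hK B hkB
  have : IsPrincipalIdealRing B := by
    have h := (IsBezout.TFAE (R := B)).out 0 1
    exact h.1 inferInstance
  have hnf : ¬ IsField B := by
    intro hf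
    apply hB
    rw [eq_top_iff]
    intro x _
    rcases B.mem_or_inv_mem x with h | h
    · exact h
    · rcases eq_or_ne x 0 with rfl | hx
      · exact B.zero_mem
      obtain ⟨y, hy⟩ := hf.mul_inv_cancel (a := (⟨x⁻¹, h⟩ : B)) (by simpa [Subtype.ext_iff])
      have hy' : x⁻¹ * (y : K) = 1 := congrArg Subtype.val hy
      have : x = (y : K) := inv_mul_eq_one₀ hx |>.1 hy'
      exact this ▸ y.2
  have : IsDiscreteValuationRing B :=
    { not_a_field' := IsLocalRing.isField_iff_maximalIdeal_eq.not.1 hnf }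
  let v := (IsDiscreteValuationRing.maximalIdeal B).valuation K
  let P : Place k K := ⟨v, fun c => (IsDiscreteValuationRing.maximalIdeal B).valuation_le_one
    (⟨_, hkB c⟩ : B), (IsDiscreteValuationRing.maximalIdeal B).valuation_surjective K⟩
  refine ⟨P, ValuationSubring.ext _ _ fun x => ⟨fun hx => ?_, fun hx => ?_⟩⟩
  · rcases B.mem_or_inv_mem x with h | h
    · exact h
    rcases eq_or_ne x 0 with rfl | hx0
    · exact B.zero_mem
    by_contra hnot
    have hnu : (⟨x⁻¹, h⟩ : B) ∈ (IsDiscreteValuationRing.maximalIdeal B).asIdeal := by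
      change _ ∈ IsLocalRing.maximalIdeal B
      rw [IsLocalRing.mem_maximalIdeal, mem_nonunits_iff]
      intro hu
      obtain ⟨y, hy⟩ := hu.exists_right_inv
      have hy' : x⁻¹ * (y : K) = 1 := congrArg Subtype.val hy
      exact hnot ((inv_mul_eq_one₀ hx0 |>.1 hy') ▸ y.2)
    have h1 : v x⁻¹ < 1 :=
      ((IsDiscreteValuationRing.maximalIdeal B).valuation_lt_one_iff_mem (K := K) (⟨x⁻¹, h⟩ : B)).2 hnu
    rw [map_inv₀, inv_lt_one₀ (zero_lt_iff.2 ((Valuation.ne_zero_iff _).2 hx0))] at h1
    exact not_lt.2 ((mem_O P).1 hx) h1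
  · exact (mem_O P).2 ((IsDiscreteValuationRing.maximalIdeal B).valuation_le_one (⟨x, hx⟩ : B))

end ofValuationSubring

section places

variable (hK : IsFunctionField k K)
include hK

/-- An ideal `≠ ⊤` of a subalgebra, with a nonzero element, lies in the centre of some place. -/
theorem exists_place_center (A : Subalgebra k K) (I : Ideal A) (hI : I ≠ ⊤)
    {a : A} (ha : a ∈ I) (ha0 : a ≠ 0) :
    ∃ P : Place k K, (∀ x ∈ A, P.1 x ≤ 1) ∧ ∀ x ∈ I, P.1 (x : K) < 1 := by
  obtain ⟨B, hAB, hIB⟩ := Ideal.image_subset_nonunits_valuationSubring (A := A.toSubring) I hI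
  have hkB : ∀ c, algebraMap k K c ∈ B := fun c => hAB (A.algebraMap_mem c)
  have hnu : ∀ x ∈ I, (x : K) ≠ 0 → (x : K)⁻¹ ∉ B := fun x hx hx0 =>
    ((B.mem_nonunits_iff_or).1 (hIB ⟨x, hx, rfl⟩)).resolve_left hx0
  have hB : B ≠ ⊤ := fun h =>
    hnu a ha (fun h0 => ha0 (Subtype.ext h0)) (h ▸ ValuationSubring.mem_top _)
  obtain ⟨P, rfl⟩ := exists_place_of_valuationSubring hK B hkB hB
  refine ⟨P, fun x hx => (mem_O P).1 (hAB hx), fun x hx => ?_⟩
  rcases eq_or_ne (x : K) 0 with h0 | h0
  · simp [h0]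
  have h2 := hnu x hx h0
  rw [mem_O, map_inv₀, inv_le_one₀ (zero_lt_iff.2 (val_ne_zero P h0)), not_le] at h2
  exact h2

theorem exists_zero {x : K} (hx : Transcendental k x) : ∃ P : Place k K, 0 < P.ord x := by
  let A := Algebra.adjoin k ({x} : Set K)
  let a : A := ⟨x, Algebra.self_mem_adjoin_singleton k x⟩
  have hx0 : x ≠ 0 := fun h => hx (h ▸ isAlgebraic_zero)
  have hI : Ideal.span {a} ≠ ⊤ := by
    rw [Ne, Ideal.span_singleton_eq_top]
    intro hu
    obtain ⟨⟨y, hy⟩, h⟩ := hu.exists_right_inv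
    obtain ⟨p, hp⟩ := (Algebra.adjoin_singleton_eq_range_aeval k x).le hy
    change Polynomial.aeval x p = y at hp
    have h' : x * y = 1 := congrArg Subtype.val h
    rw [← hp] at h'
    have h2 := (aeval_eq_zero_iff hx (p := Polynomial.X * p - 1)).1 (by simp [h'])
    simpa using congrArg (Polynomial.eval 0) h2
  obtain ⟨P, -, hP⟩ := exists_place_center hK A _ hI (Ideal.mem_span_singleton_self a)
    (by simpa [a, Subtype.ext_iff] using hx0)
  exact ⟨P, (val_lt_one_iff P hx0).1 (hP a (Ideal.mem_span_singleton_self a))⟩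

theorem exists_pole {x : K} (hx : Transcendental k x) : ∃ P : Place k K, P.ord x < 0 := by
  obtain ⟨P, hP⟩ := exists_zero hK (x := x⁻¹) (fun h => hx (by simpa using h.inv))
  exact ⟨P, by rw [ord_inv] at hP; omega⟩

end places

end Groth.Agent.FF
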