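import Groth.Agent.Lib.FunFldA

/-!
Weak approximation, finiteness of zeros, `deg (div x) = 0`, `L(D)`, Riemann's inequality.
-/

open FunFld WithZero

namespace Groth.Agent.FF

variable {k K : Type*} [Field k] [Field K] [Algebra k K]

section rel

variable {V : Type*} [AddCommGroup V] [Module k V]

/-- The quotient `B / (A ∩ B)` of two subspaces. -/
abbrev relQ (A B : Submodule k V) := B ⧸ A.comap B.subtype

/-- `dim B / (A ∩ B)`. -/
noncomputable def relDim (A B : Submodule k V) : ℕ := Module.finrank k (relQ A B)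

lemma rel_of_map {W : Type*} [AddCommGroup W] [Module k W] [FiniteDimensional k W]
    (A B : Submodule k V) (f : B →ₗ[k] W) (h : LinearMap.ker f ≤ A.comap B.subtype) :
    FiniteDimensional k (relQ A B) ∧ relDim A B ≤ Module.finrank k W := by
  let g : (B ⧸ LinearMap.ker f) →ₗ[k] relQ A B := Submodule.mapQ _ _ LinearMap.id h
  have hg : Function.Surjective g := fun y => by
    obtain ⟨b, rfl⟩ := Submodule.mkQ_surjective _ y
    exact ⟨Submodule.Quotient.mk b, rfl⟩
  have : FiniteDimensional k (B ⧸ LinearMap.ker f) :=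
    f.quotKerEquivRange.symm.finiteDimensional
  exact ⟨Module.Finite.of_surjective g hg, (LinearMap.finrank_le_finrank_of_surjective hg).trans
    (f.quotKerEquivRange.finrank_eq.le.trans (Submodule.finrank_le _))⟩

lemma rel_of_surjective {W : Type*} [AddCommGroup W] [Module k W]
    (A B : Submodule k V) (f : B →ₗ[k] W) (h : LinearMap.ker f = A.comap B.subtype)
    (hf : Function.Surjective f) :
    Nonempty (relQ A B ≃ₗ[k] W) :=
  ⟨(Submodule.quotEquivOfEq _ _ h.symm).trans (f.quotKerEquivOfSurjective hf)⟩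

lemma rel_trans {A B C : Submodule k V} (hAB : A ≤ B) (hBC : B ≤ C)
    [FiniteDimensional k (relQ A B)] [FiniteDimensional k (relQ B C)] :
    FiniteDimensional k (relQ A C) ∧ relDim A C = relDim A B + relDim B C := by
  let i : relQ A B →ₗ[k] relQ A C := Submodule.mapQ _ _ (Submodule.inclusion hBC) (fun x hx => hx)
  have hi : Function.Injective i := by
    rw [← LinearMap.ker_eq_bot, Submodule.eq_bot_iff]
    intro y hy
    obtain ⟨b, rfl⟩ := Submodule.mkQ_surjective _ y
    have hy' : (Submodule.Quotient.mk (Submodule.inclusion hBC b) : relQ A C) = 0 := hy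
    refine (Submodule.Quotient.mk_eq_zero _).2 ?_
    have h5 := (Submodule.Quotient.mk_eq_zero _).1 hy'
    exact h5
  let g : relQ A C →ₗ[k] relQ B C := Submodule.mapQ _ _ LinearMap.id (fun x hx => hAB hx)
  have hg : Function.Surjective g := fun y => by
    obtain ⟨b, rfl⟩ := Submodule.mkQ_surjective _ y
    exact ⟨Submodule.Quotient.mk b, rfl⟩
  have hker : LinearMap.ker g = LinearMap.range i := by
    ext y
    obtain ⟨c, rfl⟩ := Submodule.mkQ_surjective _ y
    constructor
    · intro hc
      have hc'' : (Submodule.Quotient.mk c : relQ B C) = 0 := hc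
      have hc' := (Submodule.Quotient.mk_eq_zero _).1 hc''
      rw [Submodule.mem_comap] at hc'
      exact ⟨Submodule.Quotient.mk ⟨c, hc'⟩, rfl⟩
    · rintro ⟨z, hz⟩
      obtain ⟨b, rfl⟩ := Submodule.mkQ_surjective _ z
      rw [LinearMap.mem_ker, ← hz]
      exact (Submodule.Quotient.mk_eq_zero _).2 b.2
  have hfk : FiniteDimensional k (LinearMap.ker g) := by rw [hker]; infer_instance
  have : FiniteDimensional k (relQ A C ⧸ LinearMap.ker g) :=
    (g.quotKerEquivOfSurjective hg).symm.finiteDimensional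
  have hfin : FiniteDimensional k (relQ A C) := Module.Finite.of_submodule_quotient (LinearMap.ker g)
  refine ⟨hfin, ?_⟩
  have h2 := LinearMap.finrank_range_add_finrank_ker g
  rw [LinearMap.range_eq_top.2 hg, finrank_top, hker, LinearMap.finrank_range_of_inj hi] at h2
  unfold relDim
  omega

/-- Bounding `B/A` by finitely many local quotients. -/
lemma rel_le_sum {ι : Type*} [Fintype ι] (A B : Submodule k V) (Ai Bi : ι → Submodule k V)
    (hle : ∀ i, B ≤ Bi i) (hfin : ∀ i, FiniteDimensional k (relQ (Ai i) (Bi i)))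
    (hker : ∀ b ∈ B, (∀ i, b ∈ Ai i) → b ∈ A) :
    FiniteDimensional k (relQ A B) ∧ relDim A B ≤ ∑ i, relDim (Ai i) (Bi i) := by
  let f : B →ₗ[k] (∀ i, relQ (Ai i) (Bi i)) := LinearMap.pi fun i =>
    (Submodule.mkQ _).comp (Submodule.inclusion (hle i))
  obtain ⟨h1, h2⟩ := rel_of_map A B f (fun y hy => hker y y.2 fun i =>
    have h := congrFun (LinearMap.mem_ker.1 hy) i
    (Submodule.Quotient.mk_eq_zero ((Ai i).comap (Bi i).subtype)).1 h)
  exact ⟨h1, h2.trans_eq (Module.finrank_pi_fintype k)⟩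

/-- If a map surjects onto finitely many local quotients, their dimensions are bounded. -/
lemma sum_relDim_le {ι : Type*} [Fintype ι] {U : Type*} [AddCommGroup U] [Module k U]
    (g : U →ₗ[k] V) (M : Submodule k U) [FiniteDimensional k (U ⧸ M)]
    (Ai Bi : ι → Submodule k V) (hfin : ∀ i, FiniteDimensional k (relQ (Ai i) (Bi i)))
    (hle : ∀ u i, g u ∈ Bi i) (hM : ∀ u ∈ M, ∀ i, g u ∈ Ai i)
    (hsurj : ∀ v : ι → V, (∀ i, v i ∈ Bi i) → ∃ u, ∀ i, g u - v i ∈ Ai i) :
    ∑ i, relDim (Ai i) (Bi i) ≤ Module.finrank k (U ⧸ M) := by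
  let f : U →ₗ[k] (∀ i, relQ (Ai i) (Bi i)) := LinearMap.pi fun i =>
    (Submodule.mkQ _).comp (g.codRestrict (Bi i) fun u => hle u i)
  have hker : M ≤ LinearMap.ker f := fun u hu => by
    rw [LinearMap.mem_ker]
    funext i
    exact (Submodule.Quotient.mk_eq_zero ((Ai i).comap (Bi i).subtype)).2 (hM u hu i)
  have hs : Function.Surjective (M.liftQ f hker) := by
    intro w
    choose v hv using fun i => Submodule.mkQ_surjective _ (w i)
    obtain ⟨u, hu⟩ := hsurj (fun i => (v i : V)) (fun i => (v i).2)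
    refine ⟨Submodule.Quotient.mk u, ?_⟩
    funext i
    rw [← hv i]
    exact (Submodule.Quotient.eq ((Ai i).comap (Bi i).subtype)).2 (hu i)
  exact (Module.finrank_pi_fintype k).symm.trans_le
    (LinearMap.finrank_le_finrank_of_surjective hs)

/-- If `B` surjects onto finitely many local quotients with kernel `A`, dimensions add up. -/
lemma rel_eq_sum {ι : Type*} [Fintype ι] (A B : Submodule k V) (Ai Bi : ι → Submodule k V)
    (hle : ∀ i, B ≤ Bi i) (hfin : ∀ i, FiniteDimensional k (relQ (Ai i) (Bi i)))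
    (hker : ∀ b ∈ B, (∀ i, b ∈ Ai i) → b ∈ A) (hA : ∀ i, A ⊓ B ≤ Ai i)
    (hsurj : ∀ v : ι → V, (∀ i, v i ∈ Bi i) → ∃ b ∈ B, ∀ i, b - v i ∈ Ai i) :
    FiniteDimensional k (relQ A B) ∧ relDim A B = ∑ i, relDim (Ai i) (Bi i) := by
  obtain ⟨h1, h2⟩ := rel_le_sum A B Ai Bi hle hfin hker
  refine ⟨h1, le_antisymm h2 ?_⟩
  exact sum_relDim_le B.subtype (A.comap B.subtype) Ai Bi hfin (fun u i => hle i u.2)
    (fun u hu i => hA i ⟨hu, u.2⟩)
    (fun v hv => let ⟨b, hb, h⟩ := hsurj v hv; ⟨⟨b, hb⟩, h⟩)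

end rel

section local_

variable (P : Place k K)

/-- `F P m` is the set of elements with order at least `-m` at `P`. -/
def F (m : ℤ) : Submodule k K where
  carrier := {x | P.1 x ≤ exp m}
  add_mem' {x y} hx hy := (P.1.map_add x y).trans (max_le hx hy)
  zero_mem' := by simp
  smul_mem' c x hx := by
    rw [Set.mem_setOf_eq, Algebra.smul_def, map_mul]
    exact (mul_le_mul' (P.2.1 c) hx).trans_eq (one_mul _)

lemma mem_F {m : ℤ} {x : K} : x ∈ F P m ↔ P.1 x ≤ exp m := Iff.rfl

lemma F_mono {a b : ℤ} (h : a ≤ b) : F P a ≤ F P b :=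
  fun _ hx => le_trans hx (exp_le_exp.2 h)

/-- The residue map on the valuation ring, as a `k`-linear map. -/
noncomputable def residueLin : OAlg P →ₗ[k] IsLocalRing.ResidueField P.O where
  toFun x := IsLocalRing.residue P.O ⟨x, x.2⟩
  map_add' x y := map_add (IsLocalRing.residue P.O) ⟨x, x.2⟩ ⟨y, y.2⟩
  map_smul' c x :=
    (congrArg (IsLocalRing.residue P.O) (a₂ := c • (⟨x, x.2⟩ : P.O))
      (Subtype.ext (Algebra.smul_def c (x : K)))).trans rfl

lemma residueLin_eq_zero_iff (x : OAlg P) : residueLin P x = 0 ↔ P.1 (x : K) < 1 := by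
  change IsLocalRing.residue P.O ⟨x, x.2⟩ = 0 ↔ _
  rw [IsLocalRing.residue_eq_zero_iff, ← ValuationSubring.coe_mem_nonunits_iff,
    ValuationSubring.mem_nonunits_iff,
    ← (P.1.isEquiv_valuation_valuationSubring).lt_one_iff_lt_one]

lemma residueLin_surjective : Function.Surjective (residueLin P) := fun r => by
  obtain ⟨u, rfl⟩ := IsLocalRing.residue_surjective r
  exact ⟨⟨u, u.2⟩, rfl⟩

lemma rel_succ (m : ℤ) :
    Nonempty (relQ (F P (m - 1)) (F P m) ≃ₗ[k] IsLocalRing.ResidueField P.O) := by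
  obtain ⟨t, ht⟩ := exists_val P (-m)
  have hmem : ∀ x : F P m, t * (x : K) ∈ P.O := fun x => by
    rw [mem_O, map_mul, ht]
    refine (mul_le_mul' le_rfl x.2).trans (le_of_eq ?_)
    rw [← exp_add, neg_add_cancel, exp_zero]
  let f : F P m →ₗ[k] IsLocalRing.ResidueField P.O :=
    (residueLin P).comp <| LinearMap.codRestrict (Subalgebra.toSubmodule (OAlg P))
      ((LinearMap.mulLeft k t).comp (F P m).subtype) hmem
  refine rel_of_surjective _ _ f ?_ ?_
  · ext x
    rw [LinearMap.mem_ker, Submodule.mem_comap, mem_F, le_exp_pred_iff]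
    refine (residueLin_eq_zero_iff P ⟨t * x, hmem x⟩).trans ?_
    rw [map_mul, ht]
    rw [exp_neg, inv_mul_lt_iff₀ exp_pos]
    simp
  · intro r
    obtain ⟨u, rfl⟩ := residueLin_surjective P r
    have ht0 : t ≠ 0 := fun h => exp_ne_zero (a := -m) (by simp [← ht, h])
    have hu : t⁻¹ * (u : K) ∈ F P m := by
      rw [mem_F, map_mul, map_inv₀, ht, exp_neg, inv_inv]
      exact mul_le_of_le_one_right' u.2
    refine ⟨⟨_, hu⟩, ?_⟩
    exact congrArg (residueLin P) (Subtype.ext (mul_inv_cancel_left₀ ht0 _))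

end local_

section ff

variable (hK : IsFunctionField k K)
include hK

theorem finiteDimensional_residueField (P : Place k K) :
    FiniteDimensional k (IsLocalRing.ResidueField P.O) := by
  obtain ⟨t, ht0, ht⟩ := exists_ord P 1
  have htr : Transcendental k t := transcendental_of_ord_ne_zero hK (P := P) (by omega)
  have htO : t ∈ OAlg P := (val_le_one_iff P ht0).2 (by omega)
  have := finiteDimensional_adjoin_of_transcendental hK htr
  have := (finite_quotient_mulLeft htr (OAlg P) htO).1
  have hle : LinearMap.range (LinearMap.mulLeft k (⟨t, htO⟩ : OAlg P)) ≤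
      LinearMap.ker (residueLin P) := by
    rintro _ ⟨y, rfl⟩
    rw [LinearMap.mem_ker, residueLin_eq_zero_iff]
    change P.1 (t * (y : K)) < 1
    rw [map_mul]
    exact lt_of_le_of_lt (mul_le_of_le_one_right' y.2) ((val_lt_one_iff P ht0).2 (by omega))
  refine Module.Finite.of_surjective (Submodule.liftQ _ (residueLin P) hle) fun r => ?_
  obtain ⟨u, rfl⟩ := residueLin_surjective P r
  exact ⟨Submodule.Quotient.mk u, rfl⟩

theorem deg_pos (P : Place k K) : 0 < P.deg := by
  have := finiteDimensional_residueField hK P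
  exact Module.finrank_pos

theorem deg_eq_one [IsAlgClosed k] (P : Place k K) : P.deg = 1 := by
  have := finiteDimensional_residueField hK P
  have hfin : @Module.Finite k (IsLocalRing.ResidueField P.O) _ _ Algebra.toModule := this
  have : Algebra.IsIntegral k (IsLocalRing.ResidueField P.O) := Algebra.IsIntegral.of_finite _ _
  have hb := IsAlgClosed.algebraMap_bijective_of_isIntegral
    (k := k) (K := IsLocalRing.ResidueField P.O)
  exact (LinearEquiv.ofBijective (Algebra.linearMap k _) hb).finrank_eq.symm.trans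
    (Module.finrank_self k)

theorem relF (P : Place k K) (a : ℤ) (n : ℕ) :
    FiniteDimensional k (relQ (F P a) (F P (a + n))) ∧
      relDim (F P a) (F P (a + n)) = n * P.deg := by
  induction n with
  | zero =>
    obtain ⟨hfin, hle⟩ := rel_of_map (k := k) (W := (⊥ : Submodule k K))
      (F P a) (F P (a + (0 : ℕ))) 0 (fun x _ => by
        have := x.2
        simpa [mem_F] using this)
    exact ⟨hfin, by rw [finrank_bot] at hle; omega⟩
  | succ n ih =>
    obtain ⟨h1, h2⟩ := ih
    obtain ⟨e⟩ := rel_succ P (a + (n + 1 : ℕ))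
    have hs : (a + (n + 1 : ℕ) : ℤ) - 1 = a + n := by push_cast; ring
    rw [hs] at e
    have := finiteDimensional_residueField hK P
    have h3 := e.symm.finiteDimensional
    obtain ⟨h4, h5⟩ := rel_trans (F_mono P (by omega : a ≤ a + n))
      (F_mono P (by omega : a + (n : ℤ) ≤ a + (n + 1 : ℕ)))
    refine ⟨h4, h5.trans ?_⟩
    rw [h2, add_one_mul, relDim, e.finrank_eq]
    rfl

theorem relF' (P : Place k K) {a b : ℤ} (h : a ≤ b) :
    FiniteDimensional k (relQ (F P a) (F P b)) ∧
      (relDim (F P a) (F P b) : ℤ) = (b - a) * P.deg := by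
  obtain ⟨n, rfl⟩ : ∃ n : ℕ, b = a + n := ⟨(b - a).toNat, by omega⟩
  exact ⟨(relF hK P a n).1, by rw [(relF hK P a n).2]; push_cast; ring⟩

end ff

section approx

lemma exists_big (P : Place k K) (S : Finset (Place k K)) :
    ∃ z : K, z ≠ 0 ∧ P.ord z < 0 ∧ ∀ Q ∈ S, Q ≠ P → 0 < Q.ord z := by
  classical
  induction S using Finset.induction with
  | empty =>
    obtain ⟨z, hz0, hz⟩ := exists_ord P (-1)
    exact ⟨z, hz0, by omega, by simp⟩
  | @insert R S hR ih =>
    obtain ⟨z, hz0, hzP, hz⟩ := ih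
    by_cases hRP : R = P
    · refine ⟨z, hz0, hzP, fun Q hQ hne => hz Q ?_ hne⟩
      simpa [hRP, hne] using hQ
    obtain ⟨a, ha1, ha2⟩ := exists_not_le_one (P := R) (Q := P) hRP
    obtain ⟨b, hb1, hb2⟩ := exists_not_le_one (P := P) (Q := R) (Ne.symm hRP)
    have ha0 : a ≠ 0 := fun h => by simp [h] at ha2
    have hb0 : b ≠ 0 := fun h => by simp [h] at hb2
    rw [val_le_one_iff R ha0] at ha1
    rw [val_le_one_iff P hb0] at hb1
    rw [← not_le, val_le_one_iff P ha0] at ha2
    rw [← not_le, val_le_one_iff R hb0] at hb2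
    let y := a / b
    have hy0 : y ≠ 0 := div_ne_zero ha0 hb0
    have hyP : P.ord y < 0 := by simp only [y, ord_div P ha0 hb0]; omega
    have hyR : 0 < R.ord y := by simp only [y, ord_div R ha0 hb0]; omega
    rcases lt_trichotomy (R.ord z) 0 with hzR | hzR | hzR
    · obtain ⟨M, hM⟩ : ∃ M : ℕ, ∀ Q ∈ insert R S, (|Q.ord y| : ℤ) ≤ M :=
        ⟨∑ Q ∈ insert R S, (Q.ord y).natAbs, fun Q hQ => by
          rw [Int.abs_eq_natAbs]
          exact_mod_cast Finset.single_le_sum (f := fun Q : Place k K => (Q.ord y).natAbs)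
            (fun _ _ => Nat.zero_le _) hQ⟩
      let w := z ^ (M + 1)
      have hw0 : w ≠ 0 := pow_ne_zero _ hz0
      have hone : ∀ Q : Place k K, 0 < Q.ord z → 1 + w ≠ 0 ∧ Q.ord (1 + w) = 0 := by
        intro Q hQ
        have hlt : Q.1 w < Q.1 1 := by
          rw [map_one, val_lt_one_iff Q hw0, ord_pow]
          exact mul_pos (by omega) hQ
        have hv := Q.1.map_add_eq_of_lt_left hlt
        rw [map_one] at hv
        have hne : 1 + w ≠ 0 := fun h => by simp [h] at hv
        exact ⟨hne, (val_eq_one_iff Q hne).1 hv⟩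
      have htwo : ∀ Q : Place k K, Q.ord z < 0 → 1 + w ≠ 0 ∧ Q.ord (1 + w) = Q.ord w := by
        intro Q hQ
        have hlt : Q.1 1 < Q.1 w := by
          rw [map_one, ← not_le, val_le_one_iff Q hw0, ord_pow, not_le]
          exact mul_neg_of_pos_of_neg (by omega) hQ
        have hv := Q.1.map_add_eq_of_lt_right hlt
        have hne : 1 + w ≠ 0 := fun h => by
          rw [h, map_zero] at hv; exact val_ne_zero Q hw0 hv.symm
        refine ⟨hne, ?_⟩
        unfold Place.ord
        rw [hv]
      have hne := (htwo R hzR).1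
      refine ⟨w * y / (1 + w), div_ne_zero (mul_ne_zero hw0 hy0) hne, ?_, ?_⟩
      · rw [ord_div P (mul_ne_zero hw0 hy0) hne, ord_mul P hw0 hy0, (htwo P hzP).2]; omega
      · intro Q hQ hQP
        rw [ord_div Q (mul_ne_zero hw0 hy0) hne, ord_mul Q hw0 hy0]
        rcases Finset.mem_insert.1 hQ with rfl | hQS
        · rw [(htwo Q hzR).2]; omega
        · rw [(hone Q (hz Q hQS hQP)).2, ord_pow]
          have := hM Q hQ
          rw [abs_le] at this
          have h1 := hz Q hQS hQP
          push_cast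
          nlinarith
    · obtain ⟨M, hM⟩ : ∃ M : ℕ, ∀ Q ∈ insert R S, (|Q.ord y| : ℤ) ≤ M :=
        ⟨∑ Q ∈ insert R S, (Q.ord y).natAbs, fun Q hQ => by
          rw [Int.abs_eq_natAbs]
          exact_mod_cast Finset.single_le_sum (f := fun Q : Place k K => (Q.ord y).natAbs)
            (fun _ _ => Nat.zero_le _) hQ⟩
      refine ⟨z ^ (M + 1) * y, mul_ne_zero (pow_ne_zero _ hz0) hy0, ?_, ?_⟩
      · rw [ord_mul P (pow_ne_zero _ hz0) hy0, ord_pow]; push_cast; nlinarith
      · intro Q hQ hQP
        rw [ord_mul Q (pow_ne_zero _ hz0) hy0, ord_pow]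
        rcases Finset.mem_insert.1 hQ with rfl | hQS
        · rw [hzR]; omega
        · have := hM Q hQ
          rw [abs_le] at this
          have h1 := hz Q hQS hQP
          push_cast
          nlinarith
    · exact ⟨z, hz0, hzP, fun Q hQ hne => (Finset.mem_insert.1 hQ).elim
        (fun h => h ▸ hzR) (fun h => hz Q h hne)⟩

lemma exists_idem (P : Place k K) (S : Finset (Place k K)) (N : ℕ) :
    ∃ e : K, P.1 (e - 1) ≤ exp (-(N : ℤ)) ∧ ∀ Q ∈ S, Q ≠ P → Q.1 e ≤ exp (-(N : ℤ)) := by
  obtain ⟨z, hz0, hzP, hz⟩ := exists_big P S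
  let w := z ^ (N + 1)
  have hw0 : w ≠ 0 := pow_ne_zero _ hz0
  have hltP : P.1 1 < P.1 w := by
    rw [map_one, ← not_le, val_le_one_iff P hw0, ord_pow, not_le]
    exact mul_neg_of_pos_of_neg (by omega) hzP
  have hvP := P.1.map_add_eq_of_lt_right hltP
  have hne : 1 + w ≠ 0 := fun h => by rw [h, map_zero] at hvP; exact val_ne_zero P hw0 hvP.symm
  refine ⟨w / (1 + w), ?_, fun Q hQ hne' => ?_⟩
  · rw [show w / (1 + w) - 1 = -(1 + w)⁻¹ by field_simp; ring, Valuation.map_neg, map_inv₀, hvP,
      ← map_inv₀, val_le_exp_iff P (inv_ne_zero hw0), ord_inv, ord_pow]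
    push_cast
    nlinarith
  · have hlt : Q.1 w < Q.1 1 := by
      rw [map_one, val_lt_one_iff Q hw0, ord_pow]
      exact mul_pos (by omega) (hz Q hQ hne')
    have hv := Q.1.map_add_eq_of_lt_left hlt
    rw [map_div₀, hv, map_one, div_one, val_le_exp_iff Q hw0, ord_pow]
    have := hz Q hQ hne'
    push_cast
    nlinarith

/-- Weak approximation. -/
theorem approx (S : Finset (Place k K)) (a : Place k K → K) (n : Place k K → ℤ) :
    ∃ x : K, ∀ P ∈ S, P.1 (x - a P) ≤ exp (n P) := by
  classical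
  obtain ⟨N, hN⟩ : ∃ N : ℕ, ∀ P ∈ S, ∀ Q ∈ S, -(Q.ord (a P)) - n Q ≤ N := by
    refine ⟨∑ P ∈ S, ∑ Q ∈ S, (-(Q.ord (a P)) - n Q).natAbs, fun P hP Q hQ => ?_⟩
    have h1 := Finset.single_le_sum (f := fun P : Place k K => ∑ Q ∈ S, (-(Q.ord (a P)) - n Q).natAbs)
      (fun _ _ => Nat.zero_le _) hP
    have h2 := Finset.single_le_sum (f := fun Q : Place k K => (-(Q.ord (a P)) - n Q).natAbs)
      (fun _ _ => Nat.zero_le _) hQ
    beta_reduce at h1 h2
    omega
  choose e he1 he2 using fun P : Place k K => exists_idem P S N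
  refine ⟨∑ P ∈ S, a P * e P, fun Q hQ => ?_⟩
  have key : ∑ P ∈ S, a P * e P - a Q =
      ∑ P ∈ S, a P * (if P = Q then e P - 1 else e P) := by
    have h1 : ∀ P ∈ S, a P * (if P = Q then e P - 1 else e P) =
        a P * e P - (if P = Q then a P else 0) := fun P _ => by split_ifs <;> ring
    rw [Finset.sum_congr rfl h1, Finset.sum_sub_distrib, Finset.sum_ite_eq' S Q a, if_pos hQ]
  rw [key]
  refine Valuation.map_sum_le _ fun P hP => ?_
  rw [map_mul]
  have hb : Q.1 (if P = Q then e P - 1 else e P) ≤ exp (-(N : ℤ)) := by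
    split_ifs with h
    · subst h; exact he1 P
    · exact he2 P Q hQ (Ne.symm h)
  rcases eq_or_ne (a P) 0 with h0 | h0
  · simp [h0]
  refine (mul_le_mul' le_rfl hb).trans ?_
  rw [val_eq_exp Q h0, ← exp_add, exp_le_exp]
  have := hN P hP Q hQ
  omega

end approx

section divisors

lemma deg_add (D E : Divisor k K) : (D + E).deg = D.deg + E.deg :=
  Finsupp.sum_add_index' (fun _ => by simp) (fun _ _ _ => by ring)

lemma deg_zero : (0 : Divisor k K).deg = 0 := Finsupp.sum_zero_index

lemma deg_neg (D : Divisor k K) : (-D).deg = -D.deg := by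
  have := deg_add D (-D)
  rw [add_neg_cancel, deg_zero] at this
  linarith

lemma deg_sub (D E : Divisor k K) : (D - E).deg = D.deg - E.deg := by
  rw [sub_eq_add_neg, deg_add, deg_neg, sub_eq_add_neg]

lemma deg_nsmul (n : ℕ) (D : Divisor k K) : (n • D).deg = n * D.deg := by
  induction n with
  | zero => simp [deg_zero]
  | succ n ih => rw [succ_nsmul, deg_add, ih]; push_cast; ring

lemma deg_single (P : Place k K) (n : ℤ) : Divisor.deg (Finsupp.single P n) = n * P.deg :=
  Finsupp.sum_single_index (by simp)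

lemma deg_eq_sum (D : Divisor k K) {S : Finset (Place k K)} (h : D.support ⊆ S) :
    D.deg = ∑ P ∈ S, D P * P.deg :=
  Finsupp.sum_of_support_subset D h _ (fun _ _ => by simp)

lemma deg_nonneg {D : Divisor k K} (h : 0 ≤ D) : 0 ≤ D.deg :=
  Finset.sum_nonneg fun P _ => mul_nonneg (h P) (Int.natCast_nonneg _)

lemma deg_mono {D E : Divisor k K} (h : D ≤ E) : D.deg ≤ E.deg := by
  have := deg_nonneg (sub_nonneg.2 h)
  rw [deg_sub] at this
  linarith

end divisors

section ffdiv

variable (hK : IsFunctionField k K)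
include hK

/-- The zeros of a transcendental `x`, counted with orders and degrees, number at most
`[K : k(x)]`. -/
theorem sum_ord_le_finrank {x : K} (hx : Transcendental k x) (S : Finset (Place k K))
    (hS : ∀ P ∈ S, 0 < P.ord x) :
    ∑ P ∈ S, P.ord x * (P.deg : ℤ) ≤
      Module.finrank (IntermediateField.adjoin k ({x} : Set K)) K := by
  have := finiteDimensional_adjoin_of_transcendental hK hx
  have hx0 : x ≠ 0 := fun h => hx (h ▸ isAlgebraic_zero)
  let R : Subalgebra k K := ⨅ P : S, OAlg (P : Place k K)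
  have hR : ∀ y, y ∈ R ↔ ∀ P : S, (P : Place k K).1 y ≤ 1 := fun y => by
    simp only [R, Algebra.mem_iInf, mem_OAlg]
  have hxR : x ∈ R := (hR x).2 fun P => (val_le_one_iff _ hx0).2 (hS P P.2).le
  obtain ⟨hfin, hle⟩ := finite_quotient_mulLeft hx R hxR
  have hW := fun P : S => relF' hK (P : Place k K)
    (a := -(P : Place k K).ord x) (b := 0) (by have := hS P P.2; omega)
  have h2 := (sum_relDim_le R.val.toLinearMap
    (LinearMap.range (LinearMap.mulLeft k (⟨x, hxR⟩ : R)))
    (fun P : S => F (P : Place k K) (-(P : Place k K).ord x)) (fun P : S => F (P : Place k K) 0)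
    (fun P => (hW P).1) ?_ ?_ ?_).trans hle
  · calc ∑ P ∈ S, P.ord x * (P.deg : ℤ)
          = ∑ P : S, (P : Place k K).ord x * ((P : Place k K).deg : ℤ) :=
        (Finset.sum_coe_sort S fun P => P.ord x * (P.deg : ℤ)).symm
      _ = ((∑ P : S, relDim (F (P : Place k K) (-(P : Place k K).ord x))
            (F (P : Place k K) 0) : ℕ) : ℤ) := by
        push_cast
        exact Finset.sum_congr rfl fun P _ => by rw [(hW P).2]; ring
      _ ≤ _ := by exact_mod_cast h2
  · intro y P
    rw [mem_F, exp_zero]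
    exact (hR _).1 y.2 P
  · rintro _ ⟨y, rfl⟩ P
    rw [mem_F]
    change (P : Place k K).1 (x * (y : K)) ≤ exp _
    rw [map_mul, val_eq_exp _ hx0]
    exact mul_le_of_le_one_right' ((hR _).1 y.2 P)
  · intro v hv
    classical
    obtain ⟨z, hz⟩ := approx S (fun Q => if h : Q ∈ S then v ⟨Q, h⟩ else 0)
      (fun Q => -Q.ord x)
    have hzR : z ∈ R := (hR z).2 fun P => by
      have h1 := hz P P.2
      rw [dif_pos P.2] at h1
      have h2 : (P : Place k K).1 (z - v P) ≤ exp (0 : ℤ) :=
        h1.trans (exp_le_exp.2 (by have := hS P P.2; omega))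
      have h3 : (P : Place k K).1 (v P) ≤ exp (0 : ℤ) := hv P
      have h4 := ((P : Place k K).1.map_add (z - v P) (v P)).trans (max_le h2 h3)
      simpa using h4
    refine ⟨⟨z, hzR⟩, fun P => ?_⟩
    have h1 := hz P P.2
    rw [dif_pos P.2] at h1
    exact h1

lemma finite_zeros (x : K) : {P : Place k K | 0 < P.ord x}.Finite := by
  by_contra h
  obtain ⟨P, hP⟩ := Set.Infinite.nonempty h
  have hx := transcendental_of_ord_ne_zero hK (P := P) (x := x) (ne_of_gt hP)
  obtain ⟨S, hS, hcard⟩ := Set.Infinite.exists_subset_card_eq h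
    (Module.finrank (IntermediateField.adjoin k ({x} : Set K)) K + 1)
  have h1 := sum_ord_le_finrank hK hx S (fun Q hQ => hS hQ)
  have h2 : ∑ Q ∈ S, (1 : ℤ) ≤ ∑ Q ∈ S, Q.ord x * (Q.deg : ℤ) := Finset.sum_le_sum fun Q hQ => by
    have a1 : 0 < Q.ord x := hS hQ
    have a2 := deg_pos hK Q
    exact one_le_mul_of_one_le_of_one_le (by omega) (by omega)
  simp only [Finset.sum_const, hcard, nsmul_one] at h2
  push_cast at h2
  omega

theorem finite_support_ord (x : K) : (Function.support fun P : Place k K => P.ord x).Finite := by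
  refine ((finite_zeros hK x).union (finite_zeros hK x⁻¹)).subset fun P hP => ?_
  simp only [Set.mem_union, Set.mem_setOf_eq, ord_inv, Function.mem_support] at *
  omega

lemma div_apply (x : K) (P : Place k K) : div k x P = P.ord x := by
  rw [FunFld.div, dif_pos (finite_support_ord hK x)]; rfl

lemma div_zero' : div k (0 : K) = 0 := by
  ext P; simp [div_apply hK, ord_zero]

lemma div_mul {x y : K} (hx : x ≠ 0) (hy : y ≠ 0) : div k (x * y) = div k x + div k y := by
  ext P; simp [div_apply hK, ord_mul P hx hy]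

lemma div_inv (x : K) : div k x⁻¹ = -div k x := by
  ext P; simp [div_apply hK, ord_inv]

lemma div_one : div k (1 : K) = 0 := by
  ext P; simp [div_apply hK, ord_one]

lemma div_const (c : k) : div k (algebraMap k K c) = 0 := by
  ext P; simp [div_apply hK, ord_const]

lemma div_pow (x : K) (n : ℕ) : div k (x ^ n) = n • div k x := by
  ext P; simp [div_apply hK, ord_pow]

lemma mem_L_iff {D : Divisor k K} {x : K} (hx : x ≠ 0) : x ∈ L D ↔ 0 ≤ div k x + D := by
  refine forall_congr' fun P => ?_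
  rw [val_le_exp_iff P hx]
  simp only [Finsupp.coe_add, Pi.add_apply, Finsupp.coe_zero, Pi.zero_apply, div_apply hK]
  omega

omit hK in
lemma L_mono {D E : Divisor k K} (h : D ≤ E) : L D ≤ L E :=
  fun _ hx P => le_trans (hx P) (exp_le_exp.2 (h P))

omit hK in
lemma L_le_F (D : Divisor k K) (P : Place k K) : L D ≤ F P (D P) := fun _ hy => hy P

theorem rel_L {D E : Divisor k K} (h : D ≤ E) :
    FiniteDimensional k (relQ (L D) (L E)) ∧ (relDim (L D) (L E) : ℤ) ≤ E.deg - D.deg := by
  let S := (E - D).support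
  have hW := fun P : S => relF' hK (P : Place k K) (h P)
  obtain ⟨h1, h2⟩ := rel_le_sum (L D) (L E) (fun P : S => F (P : Place k K) (D P))
    (fun P : S => F (P : Place k K) (E P)) (fun P => L_le_F E P) (fun P => (hW P).1)
    (fun y hy hyA P => by
      by_cases hP : P ∈ S
      · exact hyA ⟨P, hP⟩
      · have hDE : D P = E P := by
          have := Finsupp.notMem_support_iff.1 hP
          simp only [Finsupp.coe_sub, Pi.sub_apply] at this
          omega
        rw [hDE]; exact hy P)
  refine ⟨h1, le_trans (Int.ofNat_le.2 h2) (le_of_eq ?_)⟩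
  rw [← deg_sub, deg_eq_sum _ (Finset.Subset.refl S), ← Finset.sum_coe_sort S]
  push_cast
  exact Finset.sum_congr rfl fun P _ => by rw [(hW P).2, Pi.sub_apply]

theorem L_zero : L (0 : Divisor k K) = LinearMap.range (Algebra.linearMap k K) := by
  ext x
  constructor
  · intro hx
    by_contra hne
    obtain ⟨P, hP⟩ := exists_pole hK (transcendental_of_not_mem hK (x := x) hne)
    have := hx P
    have hx0 : x ≠ 0 := fun h => hne ⟨0, by simp [h]⟩
    rw [Finsupp.coe_zero, Pi.zero_apply, val_le_exp_iff P hx0] at this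
    omega
  · rintro ⟨c, rfl⟩ P
    rw [Finsupp.coe_zero, Pi.zero_apply, exp_zero]
    exact P.2.1 c

theorem ell_zero : ell (0 : Divisor k K) = 1 := by
  rw [ell, L_zero hK, LinearMap.finrank_range_of_inj (FaithfulSMul.algebraMap_injective k K),
    Module.finrank_self]

theorem finiteDimensional_L (D : Divisor k K) : FiniteDimensional k (L D) := by
  have h0 : D ⊓ 0 ≤ 0 := inf_le_right
  have hfin0 : FiniteDimensional k (L (0 : Divisor k K)) := by rw [L_zero hK]; infer_instance
  have hfin : FiniteDimensional k (L (D ⊓ 0)) :=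
    Submodule.finiteDimensional_of_le (L_mono h0)
  have := (rel_L hK (inf_le_left : D ⊓ 0 ≤ D)).1
  have : FiniteDimensional k ((L (D ⊓ 0)).comap (L D).subtype) :=
    (Submodule.comapSubtypeEquivOfLe (L_mono inf_le_left)).symm.finiteDimensional
  exact Module.Finite.of_submodule_quotient ((L (D ⊓ 0)).comap (L D).subtype)

theorem ell_mono {D E : Divisor k K} (h : D ≤ E) : ell D ≤ ell E :=
  have := finiteDimensional_L hK E
  Submodule.finrank_mono (L_mono h)

theorem ell_le_ell_add {D E : Divisor k K} (h : D ≤ E) :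
    (ell E : ℤ) ≤ ell D + (E.deg - D.deg) := by
  obtain ⟨_, h2⟩ := rel_L hK h
  have := finiteDimensional_L hK E
  have h3 := Submodule.finrank_quotient_add_finrank ((L D).comap (L E).subtype)
  rw [(Submodule.comapSubtypeEquivOfLe (L_mono h)).finrank_eq] at h3
  unfold relDim relQ at h2
  simp only [ell]
  omega

/-- The divisor of zeros. -/
noncomputable def zeroDiv (x : K) : Divisor k K := div k x ⊔ 0

lemma zeroDiv_apply (x : K) (P : Place k K) : zeroDiv (k := k) x P = max (P.ord x) 0 := by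
  simp [zeroDiv, div_apply hK]

lemma div_eq_zero_sub (x : K) : div k x = zeroDiv x - zeroDiv x⁻¹ := by
  ext P
  simp only [Finsupp.coe_sub, Pi.sub_apply, zeroDiv_apply hK, ord_inv, div_apply hK]
  omega

lemma zeroDiv_nonneg (x : K) : 0 ≤ zeroDiv (k := k) x := le_sup_right

theorem deg_zeroDiv_le {x : K} (hx : Transcendental k x) :
    (zeroDiv (k := k) x).deg ≤ Module.finrank (IntermediateField.adjoin k ({x} : Set K)) K := by
  have hS : ∀ P ∈ (zeroDiv (k := k) x).support, 0 < P.ord x := fun P hP => by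
    rw [Finsupp.mem_support_iff, zeroDiv_apply hK] at hP
    omega
  refine le_trans (le_of_eq ?_) (sum_ord_le_finrank hK hx _ hS)
  rw [deg_eq_sum _ (Finset.Subset.refl _)]
  exact Finset.sum_congr rfl fun P hP => by rw [zeroDiv_apply hK, max_eq_left (hS P hP).le]

omit hK in
lemma linearIndependent_pow_mul {x : K} (hx : Transcendental k x) {ι : Type*} {u : ι → K}
    (hu : LinearIndependent (IntermediateField.adjoin k ({x} : Set K)) u) (m : ℕ) :
    LinearIndependent k fun p : Fin m × ι => x ^ (p.1 : ℕ) * u p.2 := by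
  let xK : IntermediateField.adjoin k ({x} : Set K) :=
    ⟨x, IntermediateField.mem_adjoin_simple_self k x⟩
  have hpow : LinearIndependent k fun i : Fin m => xK ^ (i : ℕ) := by
    apply LinearIndependent.of_comp
      (IntermediateField.adjoin k ({x} : Set K)).val.toLinearMap
    have h := ((Polynomial.basisMonomials k).linearIndependent.map'
      (Polynomial.aeval x).toLinearMap
      (LinearMap.ker_eq_bot.2 (transcendental_iff_injective.1 hx))).comp
      (fun i : Fin m => (i : ℕ)) Fin.val_injective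
    rw [show ((IntermediateField.adjoin k ({x} : Set K)).val.toLinearMap ∘
        fun i : Fin m => xK ^ (i : ℕ)) =
        ((Polynomial.aeval x).toLinearMap ∘ Polynomial.basisMonomials k) ∘
          fun i : Fin m => (i : ℕ) from by funext i; simp [xK]]
    exact h
  have := linearIndependent_smul hpow hu
  rw [show (fun p : Fin m × ι => x ^ (p.1 : ℕ) * u p.2) =
    fun p : Fin m × ι => xK ^ (p.1 : ℕ) • u p.2 from by
      funext p; simp [xK, IntermediateField.smul_def]]
  exact this

/-- Lower bound for `ℓ(l (x)_∞ + C)`. -/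
theorem exists_basis_bound {x : K} (hx : Transcendental k x) :
    ∃ C : Divisor k K, 0 ≤ C ∧ ∀ l : ℕ,
      (Module.finrank (IntermediateField.adjoin k ({x} : Set K)) K : ℤ) * (l + 1) ≤
        ell (l • zeroDiv x⁻¹ + C) := by
  classical
  have := finiteDimensional_adjoin_of_transcendental hK hx
  let b := Module.finBasis (IntermediateField.adjoin k ({x} : Set K)) K
  let C : Divisor k K := ∑ j, zeroDiv (b j)⁻¹
  have hC : 0 ≤ C := fun P => by
    simp only [C, Finsupp.coe_finsetSum, Finset.sum_apply, zeroDiv_apply hK, Finsupp.coe_zero,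
      Pi.zero_apply]
    exact Finset.sum_nonneg fun j _ => le_max_right _ _
  refine ⟨C, hC, fun l => ?_⟩
  have hx0 : x ≠ 0 := fun h => hx (h ▸ isAlgebraic_zero)
  let w : Fin (l + 1) × Fin _ → K := fun p => x ^ (p.1 : ℕ) * b p.2
  have hmem : ∀ p, w p ∈ L (l • zeroDiv x⁻¹ + C) := fun p => by
    have hw : w p ≠ 0 := mul_ne_zero (pow_ne_zero _ hx0) (b.ne_zero _)
    rw [mem_L_iff hK hw, div_mul hK (pow_ne_zero _ hx0) (b.ne_zero _), div_pow hK]
    intro P
    simp only [Finsupp.coe_add, Pi.add_apply, Finsupp.coe_zero, Pi.zero_apply, Finsupp.coe_smul,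
      nsmul_eq_mul, Pi.mul_apply, Pi.natCast_apply, div_apply hK, zeroDiv_apply hK, ord_inv, C,
      Finsupp.coe_finsetSum, Finset.sum_apply]
    have h1 : max (-P.ord (b p.2)) 0 ≤ ∑ j, max (-P.ord (b j)) 0 :=
      Finset.single_le_sum (f := fun j => max (-P.ord (b j)) 0)
        (fun _ _ => le_max_right _ _) (Finset.mem_univ p.2)
    have h2 : (p.1 : ℕ) ≤ l := Nat.lt_succ_iff.1 p.1.2
    have h3 : (0 : ℤ) ≤ ((p.1 : ℕ) : ℤ) * P.ord x + (l : ℤ) * max (-P.ord x) 0 := by
      rcases le_total 0 (P.ord x) with h | h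
      · rw [max_eq_right (by omega)]; positivity
      · rw [max_eq_left (by omega)]
        have : (0 : ℤ) ≤ ((l : ℤ) - (p.1 : ℕ)) * -P.ord x := mul_nonneg (by omega) (by omega)
        linarith
    omega
  have hli : LinearIndependent k w := linearIndependent_pow_mul hx b.linearIndependent _
  have := finiteDimensional_L hK (l • zeroDiv x⁻¹ + C)
  let M := L (l • zeroDiv x⁻¹ + C)
  let w' : Fin (l + 1) × Fin (Module.finrank (IntermediateField.adjoin k ({x} : Set K)) K) → M :=
    fun p => ⟨w p, hmem p⟩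
  have hw' : M.subtype ∘ w' = w := rfl
  have hli' : LinearIndependent k w' := LinearIndependent.of_comp M.subtype (by rw [hw']; exact hli)
  have h := hli'.fintype_card_le_finrank
  rw [Fintype.card_prod, Fintype.card_fin, Fintype.card_fin] at h
  rw [ell]
  calc _ = (((l + 1) * Module.finrank (IntermediateField.adjoin k ({x} : Set K)) K : ℕ) : ℤ) := by
        push_cast; ring
    _ ≤ _ := Int.ofNat_le.2 h

theorem deg_zeroDiv_inv {x : K} (hx : Transcendental k x) :
    (zeroDiv (k := k) x⁻¹).deg = Module.finrank (IntermediateField.adjoin k ({x} : Set K)) K := by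
  set n := Module.finrank (IntermediateField.adjoin k ({x} : Set K)) K
  have hx' : Transcendental k x⁻¹ := fun h => hx (by simpa using h.inv)
  have hadj : IntermediateField.adjoin k ({x⁻¹} : Set K) = IntermediateField.adjoin k {x} := by
    refine le_antisymm ?_ ?_ <;> rw [IntermediateField.adjoin_simple_le_iff]
    · exact inv_mem (IntermediateField.mem_adjoin_simple_self k x)
    · simpa using inv_mem (IntermediateField.mem_adjoin_simple_self k x⁻¹)
  refine le_antisymm ?_ ?_
  · have := deg_zeroDiv_le hK hx'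
    rwa [hadj] at this
  by_contra hlt
  push Not at hlt
  obtain ⟨C, hC, h⟩ := exists_basis_bound hK hx
  have h1 : (n : ℤ) * (((C.deg.toNat + 1 : ℕ) : ℤ) + 1) ≤ _ := h (C.deg.toNat + 1)
  set A := zeroDiv (k := k) x⁻¹
  have hA : 0 ≤ A := zeroDiv_nonneg hK _
  have h2 := ell_le_ell_add hK (D := 0) (E := (C.deg.toNat + 1) • A + C)
    (add_nonneg (nsmul_nonneg hA _) hC)
  rw [ell_zero hK, deg_zero, deg_add, deg_nsmul] at h2
  have hcd := deg_nonneg hC
  push_cast [Int.toNat_of_nonneg hcd] at h1 h2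
  have := deg_nonneg hA
  nlinarith [mul_le_mul_of_nonneg_left (show A.deg + 1 ≤ (n : ℤ) by omega) (show (0:ℤ) ≤ C.deg + 1 by omega)]

theorem deg_div (x : K) : (div k x).deg = 0 := by
  by_cases hx : x ∈ Set.range (algebraMap k K)
  · obtain ⟨c, rfl⟩ := hx
    rw [div_const hK, deg_zero]
  have ht := transcendental_of_not_mem hK hx
  have ht' : Transcendental k x⁻¹ := fun h => ht (by simpa using h.inv)
  have hadj : IntermediateField.adjoin k ({x⁻¹} : Set K) = IntermediateField.adjoin k {x} := by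
    refine le_antisymm ?_ ?_ <;> rw [IntermediateField.adjoin_simple_le_iff]
    · exact inv_mem (IntermediateField.mem_adjoin_simple_self k x)
    · simpa using inv_mem (IntermediateField.mem_adjoin_simple_self k x⁻¹)
  have h1 := deg_zeroDiv_inv hK ht
  have h2 := deg_zeroDiv_inv hK ht'
  rw [inv_inv, hadj] at h2
  rw [div_eq_zero_sub hK, deg_sub, h1, h2, sub_self]

theorem deg_zeroDiv {x : K} (hx : Transcendental k x) :
    (zeroDiv (k := k) x).deg = Module.finrank (IntermediateField.adjoin k ({x} : Set K)) K := by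
  have h := deg_div hK x
  rw [div_eq_zero_sub hK, deg_sub, deg_zeroDiv_inv hK hx] at h
  omega

theorem deg_nonneg_of_L_ne_bot {D : Divisor k K} (h : L D ≠ ⊥) : 0 ≤ D.deg := by
  obtain ⟨x, hx, hx0⟩ := Submodule.exists_mem_ne_zero_of_ne_bot h
  have := deg_nonneg ((mem_L_iff hK hx0).1 hx)
  rwa [deg_add, deg_div hK, zero_add] at this

theorem L_eq_bot_of_deg_neg {D : Divisor k K} (h : D.deg < 0) : L D = ⊥ := by
  by_contra hne
  exact not_le.2 h (deg_nonneg_of_L_ne_bot hK hne)

theorem ell_eq_zero_of_deg_neg {D : Divisor k K} (h : D.deg < 0) : ell D = 0 := by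
  rw [ell, L_eq_bot_of_deg_neg hK h, finrank_bot]

lemma mul_mem_L_iff {x : K} (hx : x ≠ 0) (D : Divisor k K) (y : K) :
    y ∈ L (D + div k x) ↔ x * y ∈ L D := by
  rcases eq_or_ne y 0 with rfl | hy
  · simp
  rw [mem_L_iff hK hy, mem_L_iff hK (mul_ne_zero hx hy), div_mul hK hx hy]
  rw [show div k y + (D + div k x) = div k x + div k y + D by abel]

theorem L_map_mul {x : K} (hx : x ≠ 0) (D : Divisor k K) :
    (L (D + div k x)).map (LinearMap.mulLeft k x) = L D := by
  ext y
  constructor
  · rintro ⟨z, hz, rfl⟩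
    exact (mul_mem_L_iff hK hx D z).1 hz
  · intro hy
    refine ⟨x⁻¹ * y, (mul_mem_L_iff hK hx D _).2 ?_, mul_inv_cancel_left₀ hx y⟩
    rwa [mul_inv_cancel_left₀ hx]

theorem ell_add_div {x : K} (hx : x ≠ 0) (D : Divisor k K) : ell (D + div k x) = ell D := by
  rw [ell, ell, ← L_map_mul hK hx D]
  exact (Submodule.equivMapOfInjective _ (mul_right_injective₀ hx) _).finrank_eq

theorem exists_div_of_ell_pos {D : Divisor k K} (h : 0 < ell D) :
    ∃ f : K, f ≠ 0 ∧ 0 ≤ div k f + D := by
  have hne : L D ≠ ⊥ := fun hb => by rw [ell, hb, finrank_bot] at h; omega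
  obtain ⟨x, hx, hx0⟩ := Submodule.exists_mem_ne_zero_of_ne_bot hne
  exact ⟨x, hx0, (mem_L_iff hK hx0).1 hx⟩

/-- `δ(D) = deg D + 1 - ℓ(D)` is monotone. -/
theorem delta_mono {D E : Divisor k K} (h : D ≤ E) :
    D.deg + 1 - (ell D : ℤ) ≤ E.deg + 1 - ell E := by
  have := ell_le_ell_add hK h
  omega

theorem exists_delta_bound :
    ∃ B : ℤ, ∀ D : Divisor k K, D.deg + 1 - (ell D : ℤ) ≤ B := by
  obtain ⟨x, hx, -⟩ := hK.1
  obtain ⟨C, hC, h⟩ := exists_basis_bound hK hx
  have hA := deg_zeroDiv_inv hK hx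
  set A := zeroDiv (k := k) x⁻¹ with hAdef
  set n := Module.finrank (IntermediateField.adjoin k ({x} : Set K)) K
  have := finiteDimensional_adjoin_of_transcendental hK hx
  have hn : 0 < n := Module.finrank_pos
  have hl : ∀ l : ℕ, (n : ℤ) * (l + 1) - C.deg ≤ ell (l • A) := fun l => by
    have h1 := ell_le_ell_add hK (le_add_of_nonneg_right (a := l • A) hC)
    rw [deg_add] at h1
    have := h l
    omega
  refine ⟨C.deg + 1, fun D => ?_⟩
  set D' := D ⊔ 0
  have hD' : 0 ≤ D' := le_sup_right
  set l := (C.deg + D'.deg).toNat + 1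
  have h1 : 0 < ell (l • A - D') := by
    have h2 := ell_le_ell_add hK (sub_le_self (l • A) hD')
    rw [deg_sub] at h2
    have := hl l
    have hl2 : C.deg + D'.deg < l := by
      simp only [l]; push_cast; omega
    nlinarith
  obtain ⟨f, hf0, hf⟩ := exists_div_of_ell_pos hK h1
  have h3 : D ≤ l • A + div k f := by
    refine le_sup_left.trans (le_of_sub_nonneg ?_ : D' ≤ l • A + div k f)
    rwa [show l • A + div k f - D' = div k f + (l • A - D') by abel]
  have h4 := delta_mono hK h3
  rw [deg_add, deg_div hK, ell_add_div hK hf0, deg_nsmul, hA] at h4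
  have := hl l
  linarith

theorem bddAbove_delta :
    BddAbove (Set.range fun D : Divisor k K => (D.deg + 1 - (ell D : ℤ)).toNat) := by
  obtain ⟨B, hB⟩ := exists_delta_bound hK
  exact ⟨B.toNat, by rintro _ ⟨D, rfl⟩; exact Int.toNat_le_toNat (hB D)⟩

theorem delta_le_genus (D : Divisor k K) : D.deg + 1 - (ell D : ℤ) ≤ genus k K :=
  (Int.self_le_toNat _).trans (Int.ofNat_le.2 (le_csSup (bddAbove_delta hK) ⟨D, rfl⟩))

theorem exists_delta_eq_genus : ∃ D : Divisor k K, D.deg + 1 - (ell D : ℤ) = genus k K := by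
  have hne : (Set.range fun D : Divisor k K => (D.deg + 1 - (ell D : ℤ)).toNat).Nonempty :=
    Set.range_nonempty _
  obtain ⟨D, hD⟩ := Nat.sSup_mem hne (bddAbove_delta hK)
  change _ = genus k K at hD
  simp only at hD
  rcases le_or_gt 0 (D.deg + 1 - (ell D : ℤ)) with h | h
  · exact ⟨D, by omega⟩
  · refine ⟨0, ?_⟩
    rw [deg_zero, ell_zero hK]
    omega

theorem exists_delta_eq_of_deg_large :
    ∃ c : ℤ, ∀ D : Divisor k K, c ≤ D.deg → D.deg + 1 - (ell D : ℤ) = genus k K := by
  obtain ⟨D₀, h0⟩ := exists_delta_eq_genus hK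
  refine ⟨D₀.deg + genus k K, fun D hD => le_antisymm (delta_le_genus hK D) ?_⟩
  have h1 : 0 < ell (D - D₀) := by
    have := delta_le_genus hK (D - D₀)
    rw [deg_sub] at this
    omega
  obtain ⟨f, hf0, hf⟩ := exists_div_of_ell_pos hK h1
  have h3 : D₀ ≤ D + div k f := le_of_sub_nonneg (by
    rwa [show D + div k f - D₀ = div k f + (D - D₀) by abel])
  have h4 := delta_mono hK h3
  rw [deg_add, deg_div hK, ell_add_div hK hf0] at h4
  omega

theorem exists_eq_div_of_genus_zero (hg : genus k K = 0) {D : Divisor k K} (hD : D.deg = 0) :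
    ∃ f : K, f ≠ 0 ∧ div k f = D := by
  have h1 : 0 < ell D := by
    have := delta_le_genus hK D
    omega
  obtain ⟨f, hf0, hf⟩ := exists_div_of_ell_pos hK h1
  refine ⟨f⁻¹, inv_ne_zero hf0, ?_⟩
  have h0 : div k f + D = 0 := by
    refine le_antisymm (fun P => ?_) hf
    by_contra hP
    push Not at hP
    have h2 : (div k f + D).deg = 0 := by rw [deg_add, deg_div hK, hD, add_zero]
    have hmem : P ∈ (div k f + D).support := by
      rw [Finsupp.mem_support_iff]; simp only [Finsupp.coe_zero, Pi.zero_apply] at hP; omega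
    rw [deg_eq_sum _ (Finset.Subset.refl _)] at h2
    have := (Finset.sum_eq_zero_iff_of_nonneg
      (fun Q _ => mul_nonneg (hf Q) (Int.natCast_nonneg _))).1 h2 P hmem
    simp only [Finsupp.coe_zero, Pi.zero_apply] at hP
    have := deg_pos hK P
    simp_all
  rw [div_inv hK, neg_eq_iff_add_eq_zero, h0]

end ffdiv

end Groth.Agent.FF
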