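import Groth.Agent.Lib.FunFldB

/-!
Adeles, Weil differentials, the Riemann-Roch theorem.
-/

open FunFld WithZero

namespace Groth.Agent.FF

variable {k K : Type*} [Field k] [Field K] [Algebra k K]

lemma rel_comap {V V' : Type*} [AddCommGroup V] [Module k V] [AddCommGroup V'] [Module k V']
    (p : V' →ₗ[k] V) (hp : Function.Surjective p) (A B : Submodule k V) :
    Nonempty (relQ (A.comap p) (B.comap p) ≃ₗ[k] relQ A B) := by
  refine rel_of_surjective _ _
    ((Submodule.mkQ _).comp (LinearMap.codRestrict B (p.comp (B.comap p).subtype) fun x => x.2)) ?_ ?_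
  · ext x
    rw [LinearMap.mem_ker, LinearMap.comp_apply, Submodule.mkQ_apply,
      Submodule.Quotient.mk_eq_zero]
    rfl
  · intro y
    obtain ⟨b, rfl⟩ := Submodule.mkQ_surjective _ y
    obtain ⟨v, hv⟩ := hp b
    refine ⟨⟨v, show p v ∈ B by rw [hv]; exact b.2⟩, ?_⟩
    exact congrArg (A.comap B.subtype).mkQ (Subtype.ext hv)

/-- Adding `R` to both sides cuts the quotient down by `(B ∩ R)/(A ∩ R)`. -/
lemma rel_sup {V U : Type*} [AddCommGroup V] [Module k V] [AddCommGroup U] [Module k U]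
    (d : U →ₗ[k] V) (hd : Function.Injective d) (A B : Submodule k V) (hAB : A ≤ B)
    [FiniteDimensional k (relQ A B)] :
    FiniteDimensional k (relQ (A ⊔ LinearMap.range d) (B ⊔ LinearMap.range d)) ∧
      (relDim (A ⊔ LinearMap.range d) (B ⊔ LinearMap.range d) : ℤ) =
        (relDim A B : ℤ) - relDim (A.comap d) (B.comap d) := by
  set R := LinearMap.range d
  let g : relQ A B →ₗ[k] relQ (A ⊔ R) (B ⊔ R) :=
    Submodule.mapQ _ _ (Submodule.inclusion le_sup_left)
      (fun x hx => Submodule.mem_sup_left (T := R) hx)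
  have hg : Function.Surjective g := by
    intro y
    obtain ⟨⟨z, hz⟩, rfl⟩ := Submodule.mkQ_surjective _ y
    obtain ⟨b, hb, r, hr, rfl⟩ := Submodule.mem_sup.1 hz
    refine ⟨Submodule.Quotient.mk ⟨b, hb⟩, ?_⟩
    refine (Submodule.Quotient.eq ((A ⊔ R).comap (B ⊔ R).subtype)).2 ?_
    change b - (b + r) ∈ A ⊔ R
    rw [sub_add_cancel_left]
    exact Submodule.mem_sup_right (neg_mem hr)
  let c : B.comap d →ₗ[k] B := LinearMap.codRestrict B (d.comp (B.comap d).subtype) fun x => x.2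
  let i : relQ (A.comap d) (B.comap d) →ₗ[k] relQ A B := Submodule.mapQ _ _ c (fun x hx => hx)
  have hi : Function.Injective i := by
    rw [← LinearMap.ker_eq_bot, Submodule.eq_bot_iff]
    intro y hy
    obtain ⟨b, rfl⟩ := Submodule.mkQ_surjective _ y
    have hy' : (Submodule.Quotient.mk (c b) : relQ A B) = 0 := hy
    refine (Submodule.Quotient.mk_eq_zero _).2 ?_
    have h5 := (Submodule.Quotient.mk_eq_zero _).1 hy'
    exact h5
  have hker : LinearMap.ker g = LinearMap.range i := by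
    ext y
    obtain ⟨b, rfl⟩ := Submodule.mkQ_surjective _ y
    constructor
    · intro hy
      have hy' : (Submodule.Quotient.mk (Submodule.inclusion (le_sup_left (b := R)) b) :
          relQ (A ⊔ R) (B ⊔ R)) = 0 := hy
      have h5 := (Submodule.Quotient.mk_eq_zero _).1 hy'
      obtain ⟨a, ha, r, ⟨u, rfl⟩, hsum⟩ := Submodule.mem_sup.1 h5
      have hsum' : a + d u = (b : V) := hsum
      have hu : d u ∈ B := by
        rw [show d u = (b : V) - a by rw [← hsum']; abel]
        exact sub_mem b.2 (hAB ha)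
      refine ⟨Submodule.Quotient.mk ⟨u, hu⟩, ?_⟩
      refine (Submodule.Quotient.eq (A.comap B.subtype)).2 ?_
      change d u - (b : V) ∈ A
      rw [← hsum']; simpa using ha
    · rintro ⟨z, hz⟩
      obtain ⟨u, rfl⟩ := Submodule.mkQ_surjective _ z
      rw [LinearMap.mem_ker, ← hz]
      refine (Submodule.Quotient.mk_eq_zero ((A ⊔ R).comap (B ⊔ R).subtype)).2 ?_
      exact Submodule.mem_sup_right ⟨(u : U), rfl⟩
  refine ⟨Module.Finite.of_surjective g hg, ?_⟩
  have h2 := LinearMap.finrank_range_add_finrank_ker g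
  rw [LinearMap.range_eq_top.2 hg, finrank_top, hker, LinearMap.finrank_range_of_inj hi] at h2
  unfold relDim
  omega

lemma eq_of_le_of_deg_eq (hK : IsFunctionField k K) {C E : Divisor k K} (hle : C ≤ E)
    (hdeg : E.deg ≤ C.deg) : C = E := by
  classical
  refine le_antisymm hle fun P => ?_
  by_contra hP
  push Not at hP
  have h1 : Finsupp.single P 1 ≤ E - C := by
    intro Q
    rw [Finsupp.coe_sub, Pi.sub_apply, Finsupp.single_apply]
    split_ifs with h
    · subst h; omega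
    · linarith [hle Q]
  have h2 := deg_mono h1
  rw [deg_single, deg_sub] at h2
  have := deg_pos hK P
  omega

lemma eq_neg_div_of_deg_zero (hK : IsFunctionField k K) {D : Divisor k K} {f : K}
    (hf : 0 ≤ div k f + D) (hD : D.deg ≤ 0) : div k f + D = 0 := by
  refine (eq_of_le_of_deg_eq hK hf ?_).symm
  rw [deg_add, deg_div hK, deg_zero, zero_add]
  exact hD

section adele

lemma mem_AD {D : Divisor k K} {a : Place k K → K} :
    a ∈ AD D ↔ ∀ P, P.1 (a P) ≤ exp (D P) := Iff.rfl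

lemma mem_adele {a : Place k K → K} :
    a ∈ adele k K ↔ {P : Place k K | ¬ P.1 (a P) ≤ 1}.Finite := Filter.eventually_cofinite

lemma AD_mono {D E : Divisor k K} (h : D ≤ E) : AD D ≤ AD E :=
  fun _ ha P => (ha P).trans (exp_le_exp.2 (h P))

lemma AD_le_adele (D : Divisor k K) : AD D ≤ adele k K := fun a ha => by
  rw [mem_adele]
  refine D.support.finite_toSet.subset fun P hP => ?_
  rw [Finset.mem_coe, Finsupp.mem_support_iff]
  intro h
  exact hP (by simpa [h] using ha P)

lemma AD_sup (D E : Divisor k K) : AD (D ⊔ E) = AD D ⊔ AD E := by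
  classical
  refine le_antisymm (fun a ha => ?_) (sup_le (AD_mono le_sup_left) (AD_mono le_sup_right))
  rw [Submodule.mem_sup]
  refine ⟨fun P => if E P ≤ D P then a P else 0, fun P => ?_,
    fun P => if E P ≤ D P then 0 else a P, fun P => ?_, ?_⟩
  · dsimp only
    have h := ha P
    rw [Finsupp.sup_apply] at h
    split_ifs with hc
    · exact h.trans (exp_le_exp.2 (sup_le le_rfl hc))
    · simp
  · dsimp only
    have h := ha P
    rw [Finsupp.sup_apply] at h
    split_ifs with hc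
    · simp
    · exact h.trans (exp_le_exp.2 (sup_le (by omega) le_rfl))
  · funext P
    simp only [Pi.add_apply]
    split_ifs <;> simp

lemma diag_injective (P : Place k K) : Function.Injective (diag k K) :=
  fun x y h => congrFun h P

lemma diag_apply (x : K) (P : Place k K) : diag k K x P = x := rfl

variable (hK : IsFunctionField k K)
include hK

lemma nonempty_place : Nonempty (Place k K) := by
  obtain ⟨x, hx, -⟩ := hK.1
  exact ⟨(exists_zero hK hx).choose⟩

lemma diag_mem_adele (x : K) : diag k K x ∈ adele k K := by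
  rw [mem_adele]
  refine (finite_zeros hK x⁻¹).subset fun P hP => ?_
  simp only [Set.mem_setOf_eq, diag_apply] at hP ⊢
  rw [ord_inv]
  have hx : x ≠ 0 := fun h => hP (by simp [h])
  rw [val_le_one_iff P hx] at hP
  omega

lemma smul_mem_adele (x : K) : ∀ a ∈ adele k K, x • a ∈ adele k K := by
  intro a ha
  rw [mem_adele] at ha ⊢
  refine (ha.union (mem_adele.1 (diag_mem_adele hK x))).subset fun P hP => ?_
  by_contra h
  simp only [Set.mem_union, Set.mem_setOf_eq, not_or, not_not, diag_apply] at h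
  exact hP (by
    rw [Pi.smul_apply, smul_eq_mul, map_mul]
    exact mul_le_one' h.2 h.1)

theorem rel_AD {D E : Divisor k K} (h : D ≤ E) :
    FiniteDimensional k (relQ (AD D) (AD E)) ∧ (relDim (AD D) (AD E) : ℤ) = E.deg - D.deg := by
  classical
  let S := (E - D).support
  let pr := fun P : S => (LinearMap.proj (P : Place k K) : (Place k K → K) →ₗ[k] K)
  have hW := fun P : S => relF' hK (P : Place k K) (h P)
  have he : ∀ P : S, Nonempty (relQ ((F (P : Place k K) (D P)).comap (pr P))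
      ((F (P : Place k K) (E P)).comap (pr P)) ≃ₗ[k]
      relQ (F (P : Place k K) (D P)) (F (P : Place k K) (E P))) := fun P =>
    rel_comap (pr P) (fun v => ⟨fun _ => v, rfl⟩) _ _
  have hfin : ∀ P : S, FiniteDimensional k (relQ ((F (P : Place k K) (D P)).comap (pr P))
      ((F (P : Place k K) (E P)).comap (pr P))) := fun P => by
    have := (hW P).1
    exact (he P).some.symm.finiteDimensional
  obtain ⟨h1, h2⟩ := rel_eq_sum (AD D) (AD E)
    (fun P : S => (F (P : Place k K) (D P)).comap (pr P))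
    (fun P : S => (F (P : Place k K) (E P)).comap (pr P))
    (fun P a ha => ha P) hfin
    (fun a ha haA P => by
      by_cases hP : P ∈ S
      · exact haA ⟨P, hP⟩
      · have hDE : D P = E P := by
          have := Finsupp.notMem_support_iff.1 hP
          simp only [Finsupp.coe_sub, Pi.sub_apply] at this
          omega
        rw [hDE]; exact ha P)
    (fun P a ha => ha.1 P)
    (fun v hv => by
      refine ⟨fun Q => if hQ : Q ∈ S then v ⟨Q, hQ⟩ Q else 0, fun Q => ?_, fun P => ?_⟩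
      · dsimp only
        split_ifs with hQ
        · exact hv ⟨Q, hQ⟩
        · simp
      · change (P : Place k K).1 _ ≤ exp _
        simp [pr, P.2])
  refine ⟨h1, ?_⟩
  rw [h2, ← deg_sub, deg_eq_sum _ (Finset.Subset.refl S), ← Finset.sum_coe_sort S]
  push_cast
  refine Finset.sum_congr rfl fun P _ => ?_
  rw [Pi.sub_apply, relDim, (he P).some.finrank_eq, ← relDim, (hW P).2]

theorem rel_AD_sup {D E : Divisor k K} (h : D ≤ E) :
    FiniteDimensional k (relQ (AD D ⊔ LinearMap.range (diag k K))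
        (AD E ⊔ LinearMap.range (diag k K))) ∧
      (relDim (AD D ⊔ LinearMap.range (diag k K)) (AD E ⊔ LinearMap.range (diag k K)) : ℤ) =
        (E.deg + 1 - ell E) - (D.deg + 1 - ell D) := by
  obtain ⟨P₀⟩ := nonempty_place hK
  obtain ⟨h1, h2⟩ := rel_AD hK h
  obtain ⟨h3, h4⟩ := rel_sup (diag k K) (diag_injective P₀) (AD D) (AD E) (AD_mono h)
  refine ⟨h3, h4.trans ?_⟩
  have e1 : (AD D).comap (diag k K) = L D := rfl
  have e2 : (AD E).comap (diag k K) = L E := rfl
  rw [e1, e2, h2]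
  have := finiteDimensional_L hK E
  have h5 := Submodule.finrank_quotient_add_finrank ((L D).comap (L E).subtype)
  rw [(Submodule.comapSubtypeEquivOfLe (L_mono h)).finrank_eq] at h5
  unfold relDim relQ
  simp only [ell]
  omega

lemma range_diag_le_adele : LinearMap.range (diag k K) ≤ adele k K := by
  rintro _ ⟨x, rfl⟩
  exact diag_mem_adele hK x

lemma AD_sup_diag_le_adele (D : Divisor k K) :
    AD D ⊔ LinearMap.range (diag k K) ≤ adele k K :=
  sup_le (AD_le_adele D) (range_diag_le_adele hK)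

theorem adele_eq_of_delta_eq {D : Divisor k K} (hD : D.deg + 1 - (ell D : ℤ) = genus k K) :
    AD D ⊔ LinearMap.range (diag k K) = adele k K := by
  classical
  refine le_antisymm (AD_sup_diag_le_adele hK D) fun a ha => ?_
  let T := (mem_adele.1 ha).toFinset
  let E : Divisor k K := D ⊔ Finsupp.onFinset T
    (fun P => if P ∈ T then max 0 (log (P.1 (a P))) else 0) (fun P hP => by
      by_contra h; exact hP (if_neg h)) ⊔ 0
  have hDE : D ≤ E := le_sup_left.trans le_sup_left
  have haE : a ∈ AD E := fun P => by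
    by_cases hP : P ∈ T
    · refine le_exp_of_log_le (le_trans ?_ (show max 0 (log (P.1 (a P))) ≤ E P from ?_))
      · exact le_max_right _ _
      · simp [E, hP]
    · have h1 : P.1 (a P) ≤ 1 := by simpa [T] using hP
      refine h1.trans ?_
      have h2 : (0 : ℤ) ≤ E P := (le_sup_right : (0 : Divisor k K) ≤ E) P
      simpa using exp_le_exp.2 h2
  obtain ⟨hfin, hdim⟩ := rel_AD_sup hK hDE
  have hle := delta_le_genus hK E
  have hmono := delta_mono hK hDE
  have h0 : relDim (AD D ⊔ LinearMap.range (diag k K)) (AD E ⊔ LinearMap.range (diag k K)) = 0 := by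
    omega
  have := Module.finrank_zero_iff.1 h0
  have h6 := Subsingleton.elim (Submodule.Quotient.mk (⟨a, Submodule.mem_sup_left haE⟩ :
    ↥(AD E ⊔ LinearMap.range (diag k K))) : relQ (AD D ⊔ LinearMap.range (diag k K))
      (AD E ⊔ LinearMap.range (diag k K))) 0
  have h7 := (Submodule.Quotient.mk_eq_zero _).1 h6
  exact h7

theorem exists_ge_delta_eq (D : Divisor k K) :
    ∃ E, D ≤ E ∧ E.deg + 1 - (ell E : ℤ) = genus k K := by
  obtain ⟨D₀, h0⟩ := exists_delta_eq_genus hK
  refine ⟨D ⊔ D₀, le_sup_left, ?_⟩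
  have := delta_mono hK (le_sup_right : D₀ ≤ D ⊔ D₀)
  have := delta_le_genus hK (D ⊔ D₀)
  omega

theorem rel_adele (D : Divisor k K) :
    FiniteDimensional k (relQ (AD D ⊔ LinearMap.range (diag k K)) (adele k K)) ∧
      (relDim (AD D ⊔ LinearMap.range (diag k K)) (adele k K) : ℤ) =
        (genus k K : ℤ) - (D.deg + 1 - ell D) := by
  obtain ⟨E, hDE, hE⟩ := exists_ge_delta_eq hK D
  have := rel_AD_sup hK hDE
  rw [adele_eq_of_delta_eq hK hE, hE] at this
  exact this

theorem finrank_adele_quotient_ADK (D : Divisor k K) :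
    FiniteDimensional k (↥(adele k K) ⧸ ADK D) ∧
      (Module.finrank k (↥(adele k K) ⧸ ADK D) : ℤ) = (genus k K : ℤ) - (D.deg + 1 - ell D) :=
  rel_adele hK D

theorem finrank_WD (D : Divisor k K) :
    FiniteDimensional k (WD D) ∧
      (Module.finrank k (WD D) : ℤ) = (genus k K : ℤ) - (D.deg + 1 - ell D) := by
  obtain ⟨h1, h2⟩ := finrank_adele_quotient_ADK hK D
  have e := Submodule.dualQuotEquivDualAnnihilator (ADK D)
  refine ⟨e.finiteDimensional, ?_⟩
  rw [WD, ← e.finrank_eq, Subspace.dual_finrank_eq, h2]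

end adele

section weil

lemma mem_WD {D : Divisor k K} {ω : Module.Dual k (adele k K)} :
    ω ∈ WD D ↔ ∀ a : adele k K, (a : Place k K → K) ∈ AD D ⊔ LinearMap.range (diag k K) → ω a = 0 :=
  Submodule.mem_dualAnnihilator _

lemma WD_anti {D E : Divisor k K} (h : D ≤ E) : WD E ≤ WD D := fun _ hω =>
  mem_WD.2 fun a ha => mem_WD.1 hω a (sup_le_sup_right (AD_mono h) _ ha)

lemma mulW_apply (x : K) (hx : ∀ a ∈ adele k K, x • a ∈ adele k K)
    (ω : Module.Dual k (adele k K)) (a : adele k K) :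
    mulW x hx ω a = ω ⟨x • (a : Place k K → K), hx _ a.2⟩ := rfl

/-- `x` maps `A(E) + K` into `A(F) + K` when it maps `A(E)` into `A(F)`. -/
lemma smul_mem_sup {x : K} {E F : Divisor k K} (h : ∀ a ∈ AD E, x • a ∈ AD F)
    {a : Place k K → K} (ha : a ∈ AD E ⊔ LinearMap.range (diag k K)) :
    x • a ∈ AD F ⊔ LinearMap.range (diag k K) := by
  obtain ⟨b, hb, _, ⟨y, rfl⟩, rfl⟩ := Submodule.mem_sup.1 ha
  rw [smul_add]
  exact Submodule.add_mem_sup (h b hb) ⟨x * y, rfl⟩

theorem mulW_mem_WD {C D : Divisor k K} {x : K} (hxD : x ∈ L D)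
    (hx : ∀ a ∈ adele k K, x • a ∈ adele k K) {ω : Module.Dual k (adele k K)} (hω : ω ∈ WD C) :
    mulW x hx ω ∈ WD (C - D) := by
  refine mem_WD.2 fun a ha => ?_
  rw [mulW_apply]
  refine mem_WD.1 hω _ (smul_mem_sup (fun b hb P => ?_) ha)
  rw [Pi.smul_apply, smul_eq_mul, map_mul]
  refine (mul_le_mul' (hxD P) (hb P)).trans_eq ?_
  rw [← exp_add, Finsupp.coe_sub, Pi.sub_apply, add_sub_cancel]

variable (hK : IsFunctionField k K)
include hK

/-- `x ω` with the proof that `x` preserves adeles filled in. -/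
noncomputable def W (ω : Module.Dual k (adele k K)) : K →ₗ[k] Module.Dual k (adele k K) where
  toFun x := mulW x (smul_mem_adele hK x) ω
  map_add' x y := by
    ext a
    rw [LinearMap.add_apply, mulW_apply, mulW_apply, mulW_apply, ← map_add]
    congr 1
    exact Subtype.ext (add_smul x y (a : Place k K → K))
  map_smul' c x := by
    ext a
    rw [RingHom.id_apply, LinearMap.smul_apply, mulW_apply, mulW_apply, ← map_smul]
    congr 1
    exact Subtype.ext (smul_assoc c x (a : Place k K → K))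

lemma W_apply (ω : Module.Dual k (adele k K)) (x : K) :
    W hK ω x = mulW x (smul_mem_adele hK x) ω := rfl

lemma W_W (ω : Module.Dual k (adele k K)) (x y : K) : W hK (W hK ω x) y = W hK ω (x * y) := by
  ext a
  simp only [W_apply, mulW_apply]
  congr 1
  exact Subtype.ext (mul_smul x y (a : Place k K → K)).symm

lemma W_one (ω : Module.Dual k (adele k K)) : W hK ω 1 = ω := by
  ext a
  rw [W_apply, mulW_apply]
  congr 1
  exact Subtype.ext (one_smul K (a : Place k K → K))

lemma W_zero (x : K) : W hK 0 x = 0 := rfl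

lemma W_injective {ω : Module.Dual k (adele k K)} (h0 : ω ≠ 0) : Function.Injective (W hK ω) := by
  rw [← LinearMap.ker_eq_bot, Submodule.eq_bot_iff]
  intro x hx
  by_contra hne
  rw [LinearMap.mem_ker] at hx
  apply h0
  rw [← W_one hK ω, ← mul_inv_cancel₀ hne, ← W_W hK, hx, W_zero]

theorem exists_isDivOf {ω : Module.Dual k (adele k K)} (hω : IsWeil ω) (h0 : ω ≠ 0) :
    ∃ C : Divisor k K, IsDivOf ω C := by
  obtain ⟨c, hc⟩ := exists_delta_eq_of_deg_large hK
  have hbd : ∀ E : Divisor k K, ω ∈ WD E → E.deg < c := by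
    intro E hE
    by_contra hge
    push Not at hge
    obtain ⟨h1, h2⟩ := finrank_WD hK E
    have h3 := hc E hge
    have h4 : Module.finrank k (WD E) = 0 := by omega
    rw [Submodule.finrank_eq_zero] at h4
    exact h0 (by simpa [h4] using hE)
  obtain ⟨D, hD⟩ := hω
  obtain ⟨_, ⟨C, hC, rfl⟩, hmax⟩ := Int.exists_greatest_of_bdd
    (P := fun n => ∃ E : Divisor k K, ω ∈ WD E ∧ E.deg = n)
    ⟨c, by rintro _ ⟨E, hE, rfl⟩; exact (hbd E hE).le⟩ ⟨_, D, hD, rfl⟩
  refine ⟨C, fun E => ⟨fun hE => ?_, fun hle => WD_anti hle hC⟩⟩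
  have hsup : ω ∈ WD (C ⊔ E) := by
    refine mem_WD.2 fun a ha => ?_
    rw [AD_sup, sup_assoc] at ha
    obtain ⟨b, hb, b', hb', hbb⟩ := Submodule.mem_sup.1 ha
    have h1 : b ∈ adele k K := AD_le_adele C hb
    have h2 : b' ∈ adele k K := AD_sup_diag_le_adele hK E hb'
    have e : a = (⟨b, h1⟩ : adele k K) + ⟨b', h2⟩ := Subtype.ext hbb.symm
    rw [e, map_add, mem_WD.1 hC _ (Submodule.mem_sup_left hb), mem_WD.1 hE _ hb', add_zero]
  have := eq_of_le_of_deg_eq hK (le_sup_left : C ≤ C ⊔ E) (hmax _ ⟨_, hsup, rfl⟩)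
  exact le_sup_right.trans this.ge

lemma smul_mem_AD_iff {x : K} (hx : x ≠ 0) {E : Divisor k K} {a : Place k K → K} :
    x • a ∈ AD (E - div k x) ↔ a ∈ AD E := by
  refine forall_congr' fun P => ?_
  rw [Pi.smul_apply, smul_eq_mul, map_mul, val_eq_exp P hx, Finsupp.coe_sub, Pi.sub_apply,
    div_apply hK, sub_eq_add_neg, add_comm (E P), exp_add]
  exact mul_le_mul_iff_right₀ exp_pos

theorem W_mem_WD_iff {x : K} (hx : x ≠ 0) {ω : Module.Dual k (adele k K)} {E : Divisor k K} :
    W hK ω x ∈ WD E ↔ ω ∈ WD (E - div k x) := by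
  constructor
  · intro h
    refine mem_WD.2 fun a ha => ?_
    have h1 : x⁻¹ • (a : Place k K → K) ∈ AD E ⊔ LinearMap.range (diag k K) :=
      smul_mem_sup (fun b hb => (smul_mem_AD_iff hK hx).1 (by rwa [smul_inv_smul₀ hx])) ha
    have h2 := mem_WD.1 h ⟨_, smul_mem_adele hK x⁻¹ _ a.2⟩ h1
    rw [W_apply, mulW_apply] at h2
    simpa [smul_inv_smul₀ hx] using h2
  · intro h
    refine mem_WD.2 fun a ha => ?_
    rw [W_apply, mulW_apply]
    exact mem_WD.1 h _ (smul_mem_sup (fun b hb => (smul_mem_AD_iff hK hx).2 hb) ha)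

theorem isDivOf_W {x : K} (hx : x ≠ 0) {ω : Module.Dual k (adele k K)} {C : Divisor k K}
    (hω : IsDivOf ω C) : IsDivOf (W hK ω x) (C + div k x) := fun E => by
  rw [W_mem_WD_iff hK hx, hω, sub_le_iff_le_add]

omit hK in
lemma IsDivOf.mem {ω : Module.Dual k (adele k K)} {C : Divisor k K} (hω : IsDivOf ω C) :
    ω ∈ WD C := (hω C).2 le_rfl

omit hK in
lemma IsDivOf.isWeil {ω : Module.Dual k (adele k K)} {C : Divisor k K} (hω : IsDivOf ω C) :
    IsWeil ω := ⟨C, IsDivOf.mem hω⟩

lemma IsDivOf.ne_zero {ω : Module.Dual k (adele k K)} {C : Divisor k K} (hω : IsDivOf ω C) :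
    ω ≠ 0 := by
  rintro rfl
  obtain ⟨P⟩ := nonempty_place hK
  have := (hω (C + Finsupp.single P 1)).1 (zero_mem _)
  simpa using this P

lemma W_mem_of_mem_L {ω : Module.Dual k (adele k K)} {C : Divisor k K} (hω : ω ∈ WD C)
    {D : Divisor k K} {x : K} (hx : x ∈ L (C - D)) : W hK ω x ∈ WD D := by
  have h := mulW_mem_WD hx (smul_mem_adele hK x) hω
  rw [sub_sub_cancel] at h
  exact h

theorem exists_W_eq {ω₁ ω₂ : Module.Dual k (adele k K)} (h₁ : IsWeil ω₁) (h0 : ω₁ ≠ 0)
    (h₂ : IsWeil ω₂) : ∃ x : K, W hK ω₁ x = ω₂ := by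
  rcases eq_or_ne ω₂ 0 with rfl | h0'
  · exact ⟨0, map_zero _⟩
  obtain ⟨C₁, hC₁⟩ := exists_isDivOf hK h₁ h0
  obtain ⟨C₂, hC₂⟩ := exists_isDivOf hK h₂ h0'
  obtain ⟨P⟩ := nonempty_place hK
  have hP := deg_pos hK P
  set N : ℕ := (3 * (genus k K : ℤ) + |C₁.deg| + |C₂.deg|).toNat + 1
  set B : Divisor k K := Finsupp.single P (N : ℤ)
  have hB : (N : ℤ) ≤ B.deg := by
    rw [deg_single]; exact le_mul_of_one_le_right (by omega) (by omega)
  obtain ⟨hfin, hdim⟩ := finrank_WD hK (-B)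
  rw [deg_neg, ell_eq_zero_of_deg_neg hK (D := -B) (by rw [deg_neg]; omega)] at hdim
  have hL1 := delta_le_genus hK (C₁ + B)
  have hL2 := delta_le_genus hK (C₂ + B)
  rw [deg_add] at hL1 hL2
  have hf1 := finiteDimensional_L hK (C₁ + B)
  have hf2 := finiteDimensional_L hK (C₂ + B)
  let U₁ := (L (C₁ + B)).map (W hK ω₁)
  let U₂ := (L (C₂ + B)).map (W hK ω₂)
  have hU₁ : U₁ ≤ WD (-B) := by
    rintro _ ⟨x, hx, rfl⟩
    exact W_mem_of_mem_L hK (IsDivOf.mem hC₁) (by rwa [sub_neg_eq_add])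
  have hU₂ : U₂ ≤ WD (-B) := by
    rintro _ ⟨x, hx, rfl⟩
    exact W_mem_of_mem_L hK (IsDivOf.mem hC₂) (by rwa [sub_neg_eq_add])
  have hd1 : Module.finrank k U₁ = ell (C₁ + B) :=
    (Submodule.equivMapOfInjective _ (W_injective hK h0) _).finrank_eq.symm
  have hd2 : Module.finrank k U₂ = ell (C₂ + B) :=
    (Submodule.equivMapOfInjective _ (W_injective hK h0') _).finrank_eq.symm
  have h3 : Module.finrank k ↥(U₁ ⊔ U₂) ≤ Module.finrank k (WD (-B)) :=
    Submodule.finrank_mono (sup_le hU₁ hU₂)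
  have h4 := Submodule.finrank_sup_add_finrank_inf_eq U₁ U₂
  have hne : U₁ ⊓ U₂ ≠ ⊥ := by
    intro h
    rw [h, finrank_bot] at h4
    have := abs_le.1 (le_refl |C₁.deg|)
    have := abs_le.1 (le_refl |C₂.deg|)
    omega
  obtain ⟨η, ⟨⟨x, -, hx⟩, ⟨y, -, hy⟩⟩, hη⟩ := Submodule.exists_mem_ne_zero_of_ne_bot hne
  have hy0 : y ≠ 0 := fun h => hη (by rw [← hy, h, map_zero])
  refine ⟨x * y⁻¹, ?_⟩
  rw [← W_W hK, hx, ← hy, W_W hK, mul_inv_cancel₀ hy0, W_one]

theorem exists_weil : ∃ ω : Module.Dual k (adele k K), IsWeil ω ∧ ω ≠ 0 := by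
  obtain ⟨P⟩ := nonempty_place hK
  have hP := deg_pos hK P
  set D : Divisor k K := Finsupp.single P (-2)
  have hD : D.deg ≤ -2 := by rw [deg_single]; omega
  obtain ⟨hfin, hdim⟩ := finrank_WD hK D
  rw [ell_eq_zero_of_deg_neg hK (D := D) (by omega)] at hdim
  have hne : WD D ≠ ⊥ := by
    intro h; rw [h, finrank_bot] at hdim; omega
  obtain ⟨ω, hω, h0⟩ := Submodule.exists_mem_ne_zero_of_ne_bot hne
  exact ⟨ω, ⟨D, hω⟩, h0⟩

theorem exists_canonical : ∃ C : Divisor k K, IsCanonical k K C := by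
  obtain ⟨ω, hω, h0⟩ := exists_weil hK
  obtain ⟨C, hC⟩ := exists_isDivOf hK hω h0
  exact ⟨C, ω, h0, hC⟩

theorem existsUnique_W {ω : Module.Dual k (adele k K)} {C : Divisor k K} (hω : IsDivOf ω C)
    {D : Divisor k K} {ω' : Module.Dual k (adele k K)} (hω' : ω' ∈ WD D) :
    ∃! x : K, x ∈ L (C - D) ∧ W hK ω x = ω' := by
  obtain ⟨x, hx⟩ := exists_W_eq hK (IsDivOf.isWeil hω) (IsDivOf.ne_zero hK hω) ⟨D, hω'⟩
  refine ⟨x, ⟨?_, hx⟩, fun y hy => W_injective hK (IsDivOf.ne_zero hK hω) (hy.2.trans hx.symm)⟩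
  rcases eq_or_ne x 0 with rfl | hx0
  · exact zero_mem _
  rw [mem_L_iff hK hx0]
  have h1 : D - div k x ≤ C := (hω _).1 ((W_mem_WD_iff hK hx0).1 (hx ▸ hω'))
  rw [show div k x + (C - D) = C - (D - div k x) by abel]
  exact sub_nonneg.2 h1

theorem ell_sub_eq {C : Divisor k K} (hC : IsCanonical k K C) (D : Divisor k K) :
    (ell (C - D) : ℤ) = (genus k K : ℤ) - (D.deg + 1 - ell D) := by
  obtain ⟨ω, h0, hω⟩ := hC
  rw [← (finrank_WD hK D).2]
  have h1 : (L (C - D)).map (W hK ω) = WD D := by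
    refine le_antisymm ?_ fun ω' hω' => ?_
    · rintro _ ⟨x, hx, rfl⟩
      exact W_mem_of_mem_L hK (IsDivOf.mem hω) hx
    · obtain ⟨x, ⟨hxL, hx⟩, -⟩ := existsUnique_W hK hω hω'
      exact ⟨x, hxL, hx⟩
  rw [← h1, ell]
  exact_mod_cast (Submodule.equivMapOfInjective _ (W_injective hK h0) _).finrank_eq

/-- The Riemann-Roch theorem. -/
theorem riemann_roch {C : Divisor k K} (hC : IsCanonical k K C) (D : Divisor k K) :
    (ell D : ℤ) = D.deg + 1 - genus k K + ell (C - D) := by
  have := ell_sub_eq hK hC D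
  omega

theorem canonical_facts {C : Divisor k K} (hC : IsCanonical k K C) :
    ell C = genus k K ∧ C.deg = 2 * (genus k K : ℤ) - 2 := by
  have h1 := riemann_roch hK hC 0
  rw [ell_zero hK, deg_zero, sub_zero] at h1
  have h2 := riemann_roch hK hC C
  rw [sub_self, ell_zero hK] at h2
  omega

theorem ell_eq_of_deg_ge {D : Divisor k K} (h : 2 * (genus k K : ℤ) - 1 ≤ D.deg) :
    (ell D : ℤ) = D.deg + 1 - genus k K := by
  obtain ⟨C, hC⟩ := exists_canonical hK
  have h1 := riemann_roch hK hC D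
  have h2 := (canonical_facts hK hC).2
  rw [ell_eq_zero_of_deg_neg hK (D := C - D) (by rw [deg_sub]; omega)] at h1
  omega

theorem isCanonical_add_div {C : Divisor k K} (hC : IsCanonical k K C) {x : K} (hx : x ≠ 0) :
    IsCanonical k K (C + div k x) := by
  obtain ⟨ω, h0, hω⟩ := hC
  exact ⟨W hK ω x, fun h => hx (W_injective hK h0 (by rw [h, map_zero])), isDivOf_W hK hx hω⟩

theorem isCanonical_of_ell_deg {C : Divisor k K} (h1 : ell C = genus k K)
    (h2 : C.deg = 2 * (genus k K : ℤ) - 2) : IsCanonical k K C := by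
  obtain ⟨C₀, hC₀⟩ := exists_canonical hK
  have hd := (canonical_facts hK hC₀).2
  have h3 := riemann_roch hK hC₀ C
  obtain ⟨f, hf0, hf⟩ := exists_div_of_ell_pos hK (D := C₀ - C) (by omega)
  have h4 := eq_neg_div_of_deg_zero hK hf (by rw [deg_sub]; omega)
  have h5 : C = C₀ + div k f := by
    rw [← sub_eq_zero, ← neg_eq_zero, ← h4]; abel
  exact h5 ▸ isCanonical_add_div hK hC₀ hf0

theorem exists_eq_add_div_of_canonical {C₁ C₂ : Divisor k K} (h₁ : IsCanonical k K C₁)
    (h₂ : IsCanonical k K C₂) : ∃ x : K, x ≠ 0 ∧ C₂ = C₁ + div k x := by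
  obtain ⟨ω₁, h01, hω₁⟩ := h₁
  obtain ⟨ω₂, h02, hω₂⟩ := h₂
  obtain ⟨x, hx⟩ := exists_W_eq hK (IsDivOf.isWeil hω₁) h01 (IsDivOf.isWeil hω₂)
  have hx0 : x ≠ 0 := fun h => h02 (by rw [← hx, h, map_zero])
  have h := isDivOf_W hK hx0 hω₁
  rw [hx] at h
  refine ⟨x, hx0, le_antisymm ?_ ?_⟩
  · exact (h _).1 (IsDivOf.mem hω₂)
  · exact (hω₂ _).1 (IsDivOf.mem h)

end weil

end Groth.Agent.FF
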