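import Groth.Agent.Lib.FunFldC

/-!
Rational function fields, algebraically closed constants, small genus, gap numbers.
-/

open FunFld WithZero

namespace Groth.Agent.FF

variable {k K : Type*} [Field k] [Field K] [Algebra k K]

/-- Elements with distinct orders at a place are linearly independent. -/
lemma linearIndependent_of_ord (P : Place k K) {ι : Type*} (f : ι → K) (h0 : ∀ i, f i ≠ 0)
    (hinj : Function.Injective fun i => P.ord (f i)) : LinearIndependent k f := by
  classical
  rw [linearIndependent_iff']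
  intro s g hg i hi
  by_contra hgi
  let t := s.filter fun j => g j ≠ 0
  obtain ⟨j, hj, hmin⟩ := t.exists_min_image (fun j => P.ord (f j))
    ⟨i, Finset.mem_filter.2 ⟨hi, hgi⟩⟩
  have hjs := (Finset.mem_filter.1 hj).1
  have hgj := (Finset.mem_filter.1 hj).2
  have hval : ∀ l, g l ≠ 0 → P.1 (g l • f l) = P.1 (f l) := fun l hl => by
    rw [Algebra.smul_def, map_mul, val_const P hl, one_mul]
  have hsum : P.1 (∑ l ∈ s, g l • f l) = P.1 (g j • f j) := by
    refine Valuation.map_sum_eq_of_lt _ hjs fun l hl => ?_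
    rw [Finset.mem_sdiff, Finset.mem_singleton] at hl
    rcases eq_or_ne (g l) 0 with h | h
    · rw [h, zero_smul, map_zero, hval j hgj]
      exact zero_lt_iff.2 (val_ne_zero P (h0 j))
    · rw [hval j hgj, hval l h, val_eq_exp P (h0 l), val_eq_exp P (h0 j), exp_lt_exp]
      have h1 := hmin l (Finset.mem_filter.2 ⟨hl.1, h⟩)
      have h2 : P.ord (f l) ≠ P.ord (f j) := fun e => hl.2 (hinj e)
      omega
  rw [hg, map_zero, hval j hgj] at hsum
  exact val_ne_zero P (h0 j) hsum.symm

section rational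

variable (hK : IsFunctionField k K)
include hK

lemma exists_single_of_effective_deg_one {E : Divisor k K} (hE : 0 ≤ E) (hd : E.deg = 1) :
    ∃ P : Place k K, E = Finsupp.single P 1 ∧ P.deg = 1 := by
  classical
  obtain ⟨P, hP⟩ : ∃ P, 0 < E P := by
    by_contra h
    push Not at h
    have h0 : E = 0 := le_antisymm h hE
    rw [h0, deg_zero] at hd
    omega
  have h1 : Finsupp.single P 1 ≤ E := by
    intro Q
    rw [Finsupp.single_apply]
    split_ifs with h
    · subst h; omega
    · exact hE Q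
  have h2 := deg_mono h1
  rw [deg_single, hd] at h2
  have := deg_pos hK P
  have hdeg : P.deg = 1 := by omega
  exact ⟨P, (eq_of_le_of_deg_eq hK h1 (by rw [deg_single, hdeg, hd]; norm_num)).symm, hdeg⟩

lemma adjoin_eq_top_of_finrank {x : K}
    (h : Module.finrank (IntermediateField.adjoin k ({x} : Set K)) K = 1) :
    IntermediateField.adjoin k ({x} : Set K) = ⊤ := by
  obtain ⟨v, hv0, hv⟩ := finrank_eq_one_iff'.1 h
  obtain ⟨c₁, hc₁⟩ := hv 1
  rw [eq_top_iff]
  intro y _
  obtain ⟨c, rfl⟩ := hv y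
  have h1 : (c₁ : K) * v = 1 := hc₁
  have h2 : v = (c₁ : K)⁻¹ := eq_inv_of_mul_eq_one_right h1
  rw [IntermediateField.smul_def, smul_eq_mul, h2]
  exact mul_mem c.2 (inv_mem c₁.2)

lemma zeroDiv_inv_eq_single {x : K} {P : Place k K} (hP : P.ord x = -1)
    (hQ : ∀ Q : Place k K, Q ≠ P → 0 ≤ Q.ord x) :
    zeroDiv (k := k) x⁻¹ = Finsupp.single P 1 := by
  classical
  ext Q
  rw [zeroDiv_apply hK, ord_inv, Finsupp.single_apply]
  split_ifs with h
  · subst h; omega
  · have := hQ Q (Ne.symm h); omega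

theorem adjoin_eq_top_of_simple_pole {x : K} {P : Place k K} (hd : P.deg = 1) (hP : P.ord x = -1)
    (hQ : ∀ Q : Place k K, Q ≠ P → 0 ≤ Q.ord x) :
    IntermediateField.adjoin k ({x} : Set K) = ⊤ := by
  refine adjoin_eq_top_of_finrank hK ?_
  have h := deg_zeroDiv_inv hK (transcendental_of_ord_ne_zero hK (P := P) (x := x) (by omega))
  rw [zeroDiv_inv_eq_single hK hP hQ, deg_single, hd] at h
  omega

theorem rational_facts {x : K} (hx : IntermediateField.adjoin k ({x} : Set K) = ⊤) :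
    genus k K = 0 ∧ ∃ P : Place k K, P.deg = 1 ∧ P.ord x = -1 ∧
      ∀ Q : Place k K, Q ≠ P → 0 ≤ Q.ord x := by
  classical
  have htr : Transcendental k x := by
    intro halg
    obtain ⟨⟨y, hy, -⟩, -⟩ := hK
    have h1 := (IntermediateField.isAlgebraic_adjoin_iff_isAlgebraic k K (S := ({x} : Set K))).2
      (fun z hz => by rw [Set.mem_singleton_iff] at hz; exact hz ▸ halg)
    rw [hx] at h1
    exact hy ((h1.isAlgebraic ⟨y, IntermediateField.mem_top⟩).algHom (IntermediateField.val ⊤))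
  have hn : Module.finrank (IntermediateField.adjoin k ({x} : Set K)) K = 1 := by
    rw [hx]; exact IntermediateField.finrank_top
  have hA : (zeroDiv (k := k) x⁻¹).deg = 1 := by rw [deg_zeroDiv_inv hK htr, hn]; norm_num
  obtain ⟨P, hP, hdeg⟩ := exists_single_of_effective_deg_one hK (zeroDiv_nonneg hK _) hA
  have hord : ∀ Q : Place k K, max (-Q.ord x) 0 = if P = Q then 1 else 0 := fun Q => by
    rw [← Finsupp.single_apply, ← hP, zeroDiv_apply hK, ord_inv]
  have hPx : P.ord x = -1 := by have := hord P; rw [if_pos rfl] at this; omega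
  have hQx : ∀ Q : Place k K, Q ≠ P → 0 ≤ Q.ord x := fun Q hQ => by
    have := hord Q; rw [if_neg (Ne.symm hQ)] at this; omega
  refine ⟨?_, P, hdeg, hPx, hQx⟩
  obtain ⟨c, hc⟩ := exists_delta_eq_of_deg_large hK
  set l := c.toNat
  have hx0 : x ≠ 0 := fun h => htr (h ▸ isAlgebraic_zero)
  let v : Fin (l + 1) → K := fun i => x ^ (i : ℕ)
  have hli : LinearIndependent k v := linearIndependent_of_ord P v (fun i => pow_ne_zero _ hx0)
    (fun i j h => Fin.ext (by simp only [v, ord_pow, hPx] at h; omega))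
  have hmem : ∀ i, v i ∈ L (Finsupp.single P (l : ℤ)) := fun i => by
    rw [mem_L_iff hK (pow_ne_zero _ hx0)]
    intro Q
    rw [Finsupp.coe_add, Pi.add_apply, div_apply hK, ord_pow, Finsupp.single_apply,
      Finsupp.coe_zero, Pi.zero_apply]
    have := i.2
    split_ifs with h
    · subst h; rw [hPx]; omega
    · have := hQx Q (Ne.symm h); positivity
  have := finiteDimensional_L hK (Finsupp.single P (l : ℤ))
  have h1 : Submodule.span k (Set.range v) ≤ L (Finsupp.single P (l : ℤ)) :=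
    Submodule.span_le.2 (Set.range_subset_iff.2 hmem)
  have h2 := Submodule.finrank_mono h1
  rw [finrank_span_eq_card hli, Fintype.card_fin] at h2
  have h3 := hc (Finsupp.single P (l : ℤ)) (by rw [deg_single, hdeg]; omega)
  rw [deg_single, hdeg, ell] at h3
  omega

theorem exists_simple_pole_of_genus_zero (hg : genus k K = 0) {P : Place k K} (hd : P.deg = 1) :
    ∃ t : K, P.ord t = -1 ∧ ∀ Q : Place k K, Q ≠ P → 0 ≤ Q.ord t := by
  classical
  have h2 := delta_le_genus hK (Finsupp.single P (1 : ℤ))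
  rw [deg_single, hd] at h2
  have := finiteDimensional_L hK (Finsupp.single P (1 : ℤ))
  have hlt : L (0 : Divisor k K) ≠ L (Finsupp.single P (1 : ℤ)) := fun h => by
    rw [ell, ← h, ← ell, ell_zero hK] at h2; omega
  obtain ⟨t, ht, ht0⟩ := SetLike.exists_of_lt
    (lt_of_le_of_ne (L_mono (Finsupp.single_nonneg.2 zero_le_one)) hlt)
  have htne : t ≠ 0 := fun h => ht0 (h ▸ zero_mem _)
  have h3 := (mem_L_iff hK htne).1 ht
  have hQ : ∀ Q : Place k K, Q ≠ P → 0 ≤ Q.ord t := fun Q hQ => by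
    have := h3 Q
    rw [Finsupp.coe_add, Pi.add_apply, div_apply hK, Finsupp.single_eq_of_ne hQ,
      Finsupp.coe_zero, Pi.zero_apply] at this
    omega
  refine ⟨t, ?_, hQ⟩
  have h4 := h3 P
  rw [Finsupp.coe_add, Pi.add_apply, div_apply hK, Finsupp.single_eq_same,
      Finsupp.coe_zero, Pi.zero_apply] at h4
  by_contra hne
  refine ht0 ((mem_L_iff hK htne).2 fun Q => ?_)
  rw [add_zero, div_apply hK, Finsupp.coe_zero, Pi.zero_apply]
  rcases eq_or_ne Q P with rfl | h
  · omega
  · exact hQ Q h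

theorem eq_of_single_sub_single_eq_div (hg : 0 < genus k K) {P P' : Place k K} (hP' : P'.deg = 1)
    {x : K} (h : Finsupp.single P 1 - Finsupp.single P' 1 = div k x) : P = P' := by
  classical
  by_contra hne
  have hord : ∀ Q, Q.ord x = (if P = Q then 1 else 0) - (if P' = Q then 1 else 0) := fun Q => by
    rw [← div_apply hK, ← h, Finsupp.coe_sub, Pi.sub_apply, Finsupp.single_apply,
      Finsupp.single_apply]
  have h2 := adjoin_eq_top_of_simple_pole hK hP' (x := x)
    (by rw [hord, if_neg hne, if_pos rfl]; norm_num)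
    (fun Q hQ => by rw [hord, if_neg (Ne.symm hQ)]; split_ifs <;> norm_num)
  have := (rational_facts hK h2).1
  omega

theorem existsUnique_point_of_genus_one (hg : genus k K = 1) {P₀ : Place k K} (hP : P₀.deg = 1)
    {D : Divisor k K} (hD : D.deg = 0) :
    ∃! P : Place k K, P.deg = 1 ∧
      ∃ x : K, x ≠ 0 ∧ D = Finsupp.single P 1 - Finsupp.single P₀ 1 + div k x := by
  have hd : (D + Finsupp.single P₀ 1).deg = 1 := by rw [deg_add, hD, deg_single, hP]; norm_num
  have h1 := ell_eq_of_deg_ge hK (D := D + Finsupp.single P₀ 1) (by rw [hd, hg]; norm_num)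
  rw [hd, hg] at h1
  obtain ⟨f, hf0, hf⟩ := exists_div_of_ell_pos hK (D := D + Finsupp.single P₀ 1) (by omega)
  obtain ⟨P, hPeq, hPd⟩ := exists_single_of_effective_deg_one hK hf
    (by rw [deg_add, deg_div hK, hd, zero_add])
  refine ⟨P, ⟨hPd, f⁻¹, inv_ne_zero hf0, ?_⟩, ?_⟩
  · rw [← hPeq, div_inv hK]; abel
  · rintro Q ⟨hQd, x, hx0, hx⟩
    refine eq_of_single_sub_single_eq_div hK (by omega) hPd (x := (f * x)⁻¹) ?_
    rw [div_inv hK, div_mul hK hf0 hx0, ← hPeq, hx]
    abel

theorem genus_one_L (hg : genus k K = 1) {P : Place k K} (hP : P.deg = 1) {n : ℕ} (hn : 1 ≤ n) :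
    ell (Finsupp.single P (n : ℤ)) = n := by
  have h1 := ell_eq_of_deg_ge hK (D := Finsupp.single P (n : ℤ))
    (by rw [deg_single, hP, hg]; push_cast; omega)
  rw [deg_single, hP, hg] at h1
  omega

theorem exists_ord_eq_genus_one (hg : genus k K = 1) {P : Place k K} (hP : P.deg = 1) {n : ℕ}
    (hn : 2 ≤ n) :
    ∃ x ∈ L (Finsupp.single P (n : ℤ)), P.ord x = -(n : ℤ) := by
  classical
  obtain ⟨m, rfl⟩ : ∃ m, n = m + 1 := ⟨n - 1, by omega⟩
  have := finiteDimensional_L hK (Finsupp.single P ((m + 1 : ℕ) : ℤ))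
  have hlt : L (Finsupp.single P (m : ℤ)) ≠ L (Finsupp.single P ((m + 1 : ℕ) : ℤ)) := fun h => by
    have e1 := genus_one_L hK hg hP (n := m) (by omega)
    have e2 := genus_one_L hK hg hP (n := m + 1) (by omega)
    rw [ell, h, ← ell] at e1
    omega
  obtain ⟨x, hx, hxn⟩ := SetLike.exists_of_lt (lt_of_le_of_ne
    (L_mono (Finsupp.single_le_single.2 (by omega))) hlt)
  have hx0 : x ≠ 0 := fun h => hxn (h ▸ zero_mem _)
  refine ⟨x, hx, ?_⟩
  have h4 := (mem_L_iff hK hx0).1 hx
  by_contra hne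
  refine hxn ((mem_L_iff hK hx0).2 fun Q => ?_)
  have h5 := h4 Q
  simp only [Finsupp.coe_add, Pi.add_apply, div_apply hK, Finsupp.single_apply,
    Finsupp.coe_zero, Pi.zero_apply] at h5 ⊢
  split_ifs at h5 ⊢ with h
  · subst h; push_cast at hne h5 ⊢; omega
  · exact h5

omit hK in
lemma mem_L_single_mul {P : Place k K} {a b : ℤ} {x y : K} (hx : x ∈ L (Finsupp.single P a))
    (hy : y ∈ L (Finsupp.single P b)) : x * y ∈ L (Finsupp.single P (a + b)) := fun Q => by
  rw [map_mul, Finsupp.single_add, Finsupp.coe_add, Pi.add_apply, exp_add]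
  exact mul_le_mul' (hx Q) (hy Q)

omit hK in
lemma one_mem_L_single (P : Place k K) : (1 : K) ∈ L (Finsupp.single P (0 : ℤ)) := fun Q => by
  simp

omit hK in
lemma pow_mem_L_single {P : Place k K} {a : ℤ} {x : K} (hx : x ∈ L (Finsupp.single P a)) (n : ℕ) :
    x ^ n ∈ L (Finsupp.single P ((n : ℤ) * a)) := by
  induction n with
  | zero => simpa using one_mem_L_single P
  | succ n ih =>
    rw [pow_succ, show ((n + 1 : ℕ) : ℤ) * a = n * a + a by push_cast; ring]
    exact mem_L_single_mul ih hx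

theorem genus_one_basis (hg : genus k K = 1) {P : Place k K} (hP : P.deg = 1)
    {f g : K} (hf : f ∈ L (Finsupp.single P 2)) (hf2 : P.ord f = -2)
    (hgm : g ∈ L (Finsupp.single P 3)) (hg3 : P.ord g = -3) {n : ℕ} (hn : 2 ≤ n) :
    LinearIndependent k (Sum.elim (fun i : Fin (n / 2 + 1) => f ^ (i : ℕ))
      (fun i : Fin ((n - 1) / 2) => f ^ (i : ℕ) * g)) ∧
    Submodule.span k (Set.range (Sum.elim (fun i : Fin (n / 2 + 1) => f ^ (i : ℕ))
      (fun i : Fin ((n - 1) / 2) => f ^ (i : ℕ) * g))) = L (Finsupp.single P (n : ℤ)) := by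
  have hf0 : f ≠ 0 := fun h => by rw [h, ord_zero] at hf2; omega
  have hg0 : g ≠ 0 := fun h => by rw [h, ord_zero] at hg3; omega
  have hli : LinearIndependent k (Sum.elim (fun i : Fin (n / 2 + 1) => f ^ (i : ℕ))
      (fun i : Fin ((n - 1) / 2) => f ^ (i : ℕ) * g)) := by
    refine linearIndependent_of_ord P _ ?_ ?_
    · rintro (i | i)
      · exact pow_ne_zero _ hf0
      · exact mul_ne_zero (pow_ne_zero _ hf0) hg0
    · rintro (i | i) (j | j) h <;>
        simp only [Sum.elim_inl, Sum.elim_inr, ord_mul P (pow_ne_zero _ hf0) hg0, ord_pow, hf2,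
          hg3] at h
      · exact congrArg _ (Fin.ext (by omega))
      · omega
      · omega
      · exact congrArg _ (Fin.ext (by omega))
  refine ⟨hli, ?_⟩
  have := finiteDimensional_L hK (Finsupp.single P (n : ℤ))
  refine Submodule.eq_of_le_of_finrank_eq (Submodule.span_le.2 (Set.range_subset_iff.2 ?_)) ?_
  · rintro (i | i)
    · refine L_mono ?_ (pow_mem_L_single hf (i : ℕ))
      exact Finsupp.single_le_single.2 (by omega)
    · refine L_mono ?_ (mem_L_single_mul (pow_mem_L_single hf (i : ℕ)) hgm)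
      exact Finsupp.single_le_single.2 (by omega)
  · rw [finrank_span_eq_card hli, Fintype.card_sum, Fintype.card_fin, Fintype.card_fin, ← ell,
      genus_one_L hK hg hP (by omega)]
    omega

theorem genus_one_weierstrass (hg : genus k K = 1) {P₀ : Place k K} (hP : P₀.deg = 1) :
    ∃ x y : K, x ∈ L (Finsupp.single P₀ 2) ∧ y ∈ L (Finsupp.single P₀ 3) ∧
      P₀.ord x = -2 ∧ P₀.ord y = -3 ∧ IntermediateField.adjoin k ({x, y} : Set K) = ⊤ ∧
      ∃ f g : Polynomial k, f.natDegree ≤ 1 ∧ g.natDegree = 3 ∧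
        y ^ 2 + Polynomial.aeval x f * y + Polynomial.aeval x g = 0 := by
  classical
  obtain ⟨x, hx, hx2⟩ := exists_ord_eq_genus_one hK hg hP (n := 2) le_rfl
  obtain ⟨y, hy, hy3⟩ := exists_ord_eq_genus_one hK hg hP (n := 3) (by omega)
  push_cast at hx hx2 hy hy3
  refine ⟨x, y, hx, hy, hx2, hy3, ?_, ?_⟩
  · have htx := transcendental_of_ord_ne_zero hK (P := P₀) (x := x) (by omega)
    have hty := transcendental_of_ord_ne_zero hK (P := P₀) (x := y) (by omega)
    have hfx := finiteDimensional_adjoin_of_transcendental hK htx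
    have hpole : ∀ (z : K) (m : ℕ), z ∈ L (Finsupp.single P₀ (m : ℤ)) → P₀.ord z = -(m : ℤ) →
        zeroDiv (k := k) z⁻¹ = Finsupp.single P₀ (m : ℤ) := by
      intro z m hz hzo
      rcases eq_or_ne z 0 with rfl | hz0
      · ext Q; simp only [zeroDiv_apply hK, inv_zero, ord_zero]
        rw [ord_zero] at hzo
        rw [show (m : ℤ) = 0 by omega]; simp
      ext Q
      have h := (mem_L_iff hK hz0).1 hz Q
      simp only [Finsupp.coe_add, Pi.add_apply, div_apply hK, Finsupp.single_apply,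
        Finsupp.coe_zero, Pi.zero_apply] at h
      rw [zeroDiv_apply hK, ord_inv, Finsupp.single_apply]
      split_ifs at h ⊢ with hc
      · subst hc; omega
      · omega
    have h2 := deg_zeroDiv_inv hK htx
    rw [hpole x 2 hx hx2, deg_single, hP] at h2
    have h3 := deg_zeroDiv_inv hK hty
    rw [hpole y 3 hy hy3, deg_single, hP] at h3
    set M := IntermediateField.adjoin k ({x, y} : Set K)
    have hxM : IntermediateField.adjoin k ({x} : Set K) ≤ M :=
      IntermediateField.adjoin.mono k _ _ (by simp)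
    have hyM : IntermediateField.adjoin k ({y} : Set K) ≤ M :=
      IntermediateField.adjoin.mono k _ _ (by simp)
    have d1 := IntermediateField.finrank_dvd_of_le_left hxM
    have d2 := IntermediateField.finrank_dvd_of_le_left hyM
    rw [show Module.finrank (IntermediateField.adjoin k ({x} : Set K)) K = 2 by omega] at d1
    rw [show Module.finrank (IntermediateField.adjoin k ({y} : Set K)) K = 3 by omega] at d2
    have h1 : Module.finrank M K = 1 := Nat.dvd_one.1 ((Nat.dvd_sub d2 d1).trans (by norm_num))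
    exact IntermediateField.finrank_eq_one_iff_eq_top.1 h1
  · have hx0 : x ≠ 0 := fun h => by rw [h, ord_zero] at hx2; omega
    have hy0 : y ≠ 0 := fun h => by rw [h, ord_zero] at hy3; omega
    have h6 := (genus_one_basis hK hg hP hx hx2 hy hy3 (n := 6) (by norm_num)).2
    have hmem : y ^ 2 ∈ L (Finsupp.single P₀ ((6 : ℕ) : ℤ)) := by
      simpa using pow_mem_L_single hy 2
    rw [← h6, Submodule.mem_span_range_iff_exists_fun] at hmem
    obtain ⟨c, hc⟩ := hmem
    rw [Fintype.sum_sum_type] at hc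
    simp only [Sum.elim_inl, Sum.elim_inr] at hc
    have hc' : (∑ i : Fin 4, c (Sum.inl i) • x ^ (i : ℕ)) +
        (∑ i : Fin 2, c (Sum.inr i) • (x ^ (i : ℕ) * y)) = y ^ 2 := hc
    simp only [Fin.sum_univ_four, Fin.sum_univ_two, Fin.val_zero, Fin.val_one, Fin.val_two,
      pow_zero, pow_one, Algebra.smul_def, mul_one, one_mul] at hc'
    rw [show ((3 : Fin 4) : ℕ) = 3 from rfl] at hc'
    have hlead : c (Sum.inl 3) ≠ 0 := by
      intro h0
      rw [h0, map_zero, zero_mul, add_zero] at hc'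
      have hv : P₀.1 (y ^ 2) ≤ exp (5 : ℤ) := by
        rw [← hc']
        have e1 : P₀.1 x ≤ exp (2 : ℤ) := by rw [val_eq_exp P₀ hx0, hx2]; norm_num
        have e2 : P₀.1 y ≤ exp (3 : ℤ) := by rw [val_eq_exp P₀ hy0, hy3]; norm_num
        have e0 : ∀ (a : k) (z : K) (u : ℤ), P₀.1 z ≤ exp u → u ≤ 5 →
            P₀.1 (algebraMap k K a * z) ≤ exp (5 : ℤ) := fun a z u hz hu => by
          rw [map_mul]
          exact ((mul_le_mul' (P₀.2.1 a) hz).trans_eq (one_mul _)).trans (exp_le_exp.2 hu)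
        refine Valuation.map_add_le _ (Valuation.map_add_le _ (Valuation.map_add_le _ ?_ ?_) ?_)
          (Valuation.map_add_le _ ?_ ?_)
        · have := e0 (c (Sum.inl 0)) 1 0 (by simp) (by norm_num); simpa using this
        · exact e0 _ _ _ e1 (by norm_num)
        · refine e0 _ _ 4 ?_ (by norm_num)
          rw [map_pow, val_eq_exp P₀ hx0, hx2, ← exp_nsmul]; norm_num
        · exact e0 _ _ _ e2 (by norm_num)
        · refine e0 _ _ 5 ?_ le_rfl
          rw [map_mul, show (5 : ℤ) = 2 + 3 from rfl, exp_add]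
          exact mul_le_mul' e1 e2
      rw [map_pow, val_eq_exp P₀ hy0, hy3, ← exp_nsmul, exp_le_exp] at hv
      norm_num at hv
    refine ⟨-(Polynomial.C (c (Sum.inr 1)) * Polynomial.X + Polynomial.C (c (Sum.inr 0))),
      -(Polynomial.C (c (Sum.inl 3)) * Polynomial.X ^ 3 +
        Polynomial.C (c (Sum.inl 2)) * Polynomial.X ^ 2 +
        Polynomial.C (c (Sum.inl 1)) * Polynomial.X + Polynomial.C (c (Sum.inl 0))), ?_, ?_, ?_⟩
    · rw [Polynomial.natDegree_neg]; exact Polynomial.natDegree_linear_le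
    · rw [Polynomial.natDegree_neg]; exact Polynomial.natDegree_cubic hlead
    · simp only [map_neg, map_add, map_mul, map_pow, Polynomial.aeval_X, Polynomial.aeval_C]
      linear_combination -hc'

end rational

section algClosed

variable [IsAlgClosed k] (hK : IsFunctionField k K)
include hK

lemma exists_const {P : Place k K} {f : K} (hf : P.1 f ≤ 1) :
    ∃ c : k, P.1 (f - algebraMap k K c) < 1 := by
  have := finiteDimensional_residueField hK P
  have hsurj : Function.Surjective (LinearMap.toSpanSingleton k _ (residueLin P 1)) := by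
    have h1 : residueLin P 1 ≠ 0 := by
      rw [Ne, residueLin_eq_zero_iff]; simp
    intro r
    obtain ⟨c, hc⟩ := (finrank_eq_one_iff_of_nonzero' _ h1).1 (deg_eq_one hK P) r
    exact ⟨c, hc⟩
  obtain ⟨c, hc⟩ := hsurj (residueLin P ⟨f, hf⟩)
  refine ⟨c, ?_⟩
  have h2 : residueLin P (⟨f, hf⟩ - c • 1) = 0 := by
    rw [map_sub, map_smul, sub_eq_zero]; exact hc.symm
  rw [residueLin_eq_zero_iff] at h2
  simpa [Algebra.smul_def] using h2

lemma deg_single' (P : Place k K) (n : ℤ) : Divisor.deg (Finsupp.single P n) = n := by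
  rw [deg_single, deg_eq_one hK P, Nat.cast_one, mul_one]

lemma ell_le_pred_add_one (D : Divisor k K) (P : Place k K) :
    (ell D : ℤ) ≤ ell (D - Finsupp.single P 1) + 1 := by
  have h := ell_le_ell_add hK (sub_le_self D (Finsupp.single_nonneg.2 (zero_le_one (α := ℤ))) :
    D - Finsupp.single P 1 ≤ D)
  rw [deg_sub, deg_single' hK] at h
  omega

lemma ell_le_deg_add_one {D : Divisor k K} (h : -1 ≤ D.deg) : (ell D : ℤ) ≤ D.deg + 1 := by
  obtain ⟨P⟩ := nonempty_place hK
  generalize hm : (D.deg + 1).toNat = m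
  induction m generalizing D with
  | zero => rw [ell_eq_zero_of_deg_neg hK (D := D) (by omega)]; omega
  | succ m ih =>
    have h1 := ell_le_pred_add_one hK D P
    have h2 := ih (D := D - Finsupp.single P 1) (by rw [deg_sub, deg_single' hK]; omega)
      (by rw [deg_sub, deg_single' hK]; omega)
    rw [deg_sub, deg_single' hK] at h2
    omega

lemma ell_le_deg_of_genus_pos (hg : 0 < genus k K) {D : Divisor k K} (h : 1 ≤ D.deg) :
    (ell D : ℤ) ≤ D.deg := by
  classical
  obtain ⟨P⟩ := nonempty_place hK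
  generalize hm : (D.deg - 1).toNat = m
  induction m generalizing D with
  | zero =>
    have hd : D.deg = 1 := by omega
    by_contra hlt
    push Not at hlt
    rw [hd] at hlt
    obtain ⟨f, hf0, hf⟩ := exists_div_of_ell_pos hK (D := D) (by omega)
    obtain ⟨Q, hQ, hQd⟩ := exists_single_of_effective_deg_one hK hf
      (by rw [deg_add, deg_div hK, hd, zero_add])
    have h2 : 2 ≤ ell (Finsupp.single Q (1 : ℤ)) := by
      rw [← hQ, add_comm, ell_add_div hK hf0]; omega
    have h3 := finiteDimensional_L hK (Finsupp.single Q (1 : ℤ))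
    have hlt2 : L (0 : Divisor k K) ≠ L (Finsupp.single Q (1 : ℤ)) := fun h => by
      rw [ell, ← h, ← ell, ell_zero hK] at h2; omega
    obtain ⟨t, ht, ht0⟩ := SetLike.exists_of_lt
      (lt_of_le_of_ne (L_mono (Finsupp.single_nonneg.2 zero_le_one)) hlt2)
    have htne : t ≠ 0 := fun h => ht0 (h ▸ zero_mem _)
    have h4 := (mem_L_iff hK htne).1 ht
    have hQ' : ∀ R : Place k K, R ≠ Q → 0 ≤ R.ord t := fun R hR => by
      have := h4 R
      rw [Finsupp.coe_add, Pi.add_apply, div_apply hK, Finsupp.single_eq_of_ne hR,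
        Finsupp.coe_zero, Pi.zero_apply] at this
      omega
    have h5 := h4 Q
    rw [Finsupp.coe_add, Pi.add_apply, div_apply hK, Finsupp.single_eq_same,
      Finsupp.coe_zero, Pi.zero_apply] at h5
    have hQt : Q.ord t = -1 := by
      by_contra hne
      refine ht0 ((mem_L_iff hK htne).2 fun R => ?_)
      rw [add_zero, div_apply hK, Finsupp.coe_zero, Pi.zero_apply]
      rcases eq_or_ne R Q with rfl | hR
      · omega
      · exact hQ' R hR
    have := (rational_facts hK (adjoin_eq_top_of_simple_pole hK hQd hQt hQ')).1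
    omega
  | succ m ih =>
    have h1 := ell_le_pred_add_one hK D P
    have h2 := ih (D := D - Finsupp.single P 1) (by rw [deg_sub, deg_single' hK]; omega)
      (by rw [deg_sub, deg_single' hK]; omega)
    rw [deg_sub, deg_single' hK] at h2
    omega

theorem ell_sub_single_lt (hg : 0 < genus k K) {D : Divisor k K}
    (hD : 2 * (genus k K : ℤ) ≤ D.deg ∨ IsCanonical k K D) (P : Place k K) :
    ell (D - Finsupp.single P 1) < ell D := by
  rcases hD with h | h
  · have h1 := ell_eq_of_deg_ge hK (D := D) (by omega)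
    have h2 := ell_eq_of_deg_ge hK (D := D - Finsupp.single P 1)
      (by rw [deg_sub, deg_single' hK]; omega)
    rw [deg_sub, deg_single' hK] at h2
    omega
  · have h1 := riemann_roch hK h (D - Finsupp.single P 1)
    obtain ⟨h2, h3⟩ := canonical_facts hK h
    have h4 := ell_le_deg_of_genus_pos hK hg (D := Finsupp.single P (1 : ℤ))
      (by rw [deg_single' hK])
    rw [deg_single' hK] at h4
    rw [sub_sub_cancel, deg_sub, deg_single' hK] at h1
    omega

/-- Gap numbers at `P`. -/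
def gaps (P : Place k K) : Set ℕ :=
  {m | 1 ≤ m ∧ L (Finsupp.single P (m : ℤ)) = L (Finsupp.single P ((m : ℤ) - 1))}

lemma exists_ord_of_not_gap {P : Place k K} {m : ℕ}
    (h : L (Finsupp.single P (m : ℤ)) ≠ L (Finsupp.single P ((m : ℤ) - 1))) :
    ∃ f ∈ L (Finsupp.single P (m : ℤ)), f ≠ 0 ∧ P.ord f = -(m : ℤ) := by
  classical
  obtain ⟨f, hf, hfn⟩ := SetLike.exists_of_lt (lt_of_le_of_ne
    (L_mono (Finsupp.single_le_single.2 (by omega))) h.symm)
  have hf0 : f ≠ 0 := fun h => hfn (h ▸ zero_mem _)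
  refine ⟨f, hf, hf0, ?_⟩
  have h4 := (mem_L_iff hK hf0).1 hf
  by_contra hne
  refine hfn ((mem_L_iff hK hf0).2 fun Q => ?_)
  have h5 := h4 Q
  simp only [Finsupp.coe_add, Pi.add_apply, div_apply hK, Finsupp.single_apply,
    Finsupp.coe_zero, Pi.zero_apply] at h5 ⊢
  split_ifs at h5 ⊢ with hc
  · subst hc; omega
  · exact h5

lemma sub_mem_gaps {P : Place k K} {n m : ℕ} (hn : n ∈ gaps P) (hm : 1 ≤ m) (hmn : m < n)
    (h : m ∉ gaps P) : n - m ∈ gaps P := by
  refine ⟨by omega, ?_⟩
  by_contra h2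
  have h1 : L (Finsupp.single P (m : ℤ)) ≠ L (Finsupp.single P ((m : ℤ) - 1)) :=
    fun e => h ⟨hm, e⟩
  obtain ⟨f, hf, hf0, hfo⟩ := exists_ord_of_not_gap hK h1
  obtain ⟨g, hg, hg0, hgo⟩ := exists_ord_of_not_gap hK h2
  have hmem := mem_L_single_mul hf hg
  rw [show ((m : ℤ) + ((n - m : ℕ) : ℤ)) = (n : ℤ) by omega, hn.2] at hmem
  have h3 := hmem P
  rw [Finsupp.single_eq_same, val_le_exp_iff P (mul_ne_zero hf0 hg0),
    ord_mul P hf0 hg0, hfo, hgo] at h3
  omega

theorem sub_one_le_two_mul_ncard {P : Place k K} {n : ℕ} (hn : n ∈ gaps P) :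
    n - 1 ≤ 2 * Set.ncard {m : ℕ | m ∈ gaps P ∧ m < n} := by
  classical
  set G := (Finset.Ico 1 n).filter fun m => m ∈ gaps P
  have hG : {m : ℕ | m ∈ gaps P ∧ m < n} = ↑G := by
    ext m
    simp only [G, Finset.coe_filter, Finset.mem_Ico, Set.mem_setOf_eq]
    exact ⟨fun h => ⟨⟨h.1.1, h.2⟩, h.1⟩, fun h => ⟨h.2, h.1.2⟩⟩
  rw [hG, Set.ncard_coe_finset]
  have hsub : Finset.Ico 1 n ⊆ G ∪ G.image (fun m => n - m) := by
    intro m hm
    rw [Finset.mem_Ico] at hm
    rw [Finset.mem_union]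
    by_cases hg : m ∈ gaps P
    · exact Or.inl (Finset.mem_filter.2 ⟨Finset.mem_Ico.2 hm, hg⟩)
    · refine Or.inr (Finset.mem_image.2 ⟨n - m, Finset.mem_filter.2
        ⟨Finset.mem_Ico.2 ⟨by omega, by omega⟩, sub_mem_gaps hK hn hm.1 hm.2 hg⟩, by omega⟩)
  have h1 := (Finset.card_le_card hsub).trans (Finset.card_union_le _ _)
  have h2 := Finset.card_image_le (s := G) (f := fun m => n - m)
  rw [Nat.card_Ico] at h1
  omega

lemma ell_single_add_ncard (P : Place k K) (n : ℕ) :
    ell (Finsupp.single P (n : ℤ)) + Set.ncard {m : ℕ | m ∈ gaps P ∧ m ≤ n} = n + 1 := by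
  classical
  induction n with
  | zero =>
    rw [Nat.cast_zero, Finsupp.single_zero, ell_zero hK]
    have : {m : ℕ | m ∈ gaps P ∧ m ≤ 0} = ∅ :=
      Set.eq_empty_of_forall_notMem fun m hm => by have := hm.1.1; have := hm.2; omega
    rw [this, Set.ncard_empty]
  | succ n ih =>
    have hfin : {m : ℕ | m ∈ gaps P ∧ m ≤ n}.Finite :=
      (Set.finite_Iic n).subset fun m hm => hm.2
    have h1 := ell_le_pred_add_one hK (Finsupp.single P ((n + 1 : ℕ) : ℤ)) P
    rw [← Finsupp.single_sub, show ((n + 1 : ℕ) : ℤ) - 1 = n by push_cast; ring] at h1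
    have h2 := ell_mono hK (Finsupp.single_le_single.2
      (show (n : ℤ) ≤ ((n + 1 : ℕ) : ℤ) by push_cast; omega) :
        Finsupp.single P (n : ℤ) ≤ Finsupp.single P ((n + 1 : ℕ) : ℤ))
    have hfinL := finiteDimensional_L hK (Finsupp.single P ((n + 1 : ℕ) : ℤ))
    by_cases hg : n + 1 ∈ gaps P
    · have he : {m : ℕ | m ∈ gaps P ∧ m ≤ n + 1} = insert (n + 1) {m : ℕ | m ∈ gaps P ∧ m ≤ n} := by
        ext m
        simp only [Set.mem_setOf_eq, Set.mem_insert_iff]
        constructor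
        · rintro ⟨h, h'⟩
          rcases Nat.lt_or_eq_of_le h' with h'' | h''
          · exact Or.inr ⟨h, by omega⟩
          · exact Or.inl h''
        · rintro (rfl | ⟨h, h'⟩)
          · exact ⟨hg, le_rfl⟩
          · exact ⟨h, by omega⟩
      rw [he, Set.ncard_insert_of_notMem (fun h => by have := h.2; omega) hfin]
      have hL := hg.2
      rw [show ((n + 1 : ℕ) : ℤ) - 1 = n by push_cast; ring] at hL
      have : ell (Finsupp.single P ((n + 1 : ℕ) : ℤ)) = ell (Finsupp.single P (n : ℤ)) := by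
        rw [ell, ell, hL]
      omega
    · have he : {m : ℕ | m ∈ gaps P ∧ m ≤ n + 1} = {m : ℕ | m ∈ gaps P ∧ m ≤ n} := by
        ext m
        simp only [Set.mem_setOf_eq]
        constructor
        · rintro ⟨h, h'⟩
          exact ⟨h, Nat.le_of_lt_succ (lt_of_le_of_ne h' fun e => hg (by rwa [e] at h))⟩
        · rintro ⟨h, h'⟩
          exact ⟨h, by omega⟩
      rw [he]
      have hne : ell (Finsupp.single P ((n + 1 : ℕ) : ℤ)) ≠ ell (Finsupp.single P (n : ℤ)) := by
        intro e
        refine hg ⟨by omega, ?_⟩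
        rw [show ((n + 1 : ℕ) : ℤ) - 1 = n by push_cast; ring]
        exact (Submodule.eq_of_le_of_finrank_eq (L_mono (Finsupp.single_le_single.2
          (by push_cast; omega))) e.symm).symm
      omega

lemma exists_gap_gt (P : Place k K) {n : ℕ}
    (h : Set.ncard {m : ℕ | m ∈ gaps P ∧ m ≤ n} < genus k K) :
    ∃ l, l ∈ gaps P ∧ n < l ∧ ∀ m, m ∈ gaps P → m < l → m ≤ n := by
  classical
  have hex : ∃ l, l ∈ gaps P ∧ n < l := by
    by_contra hne
    push Not at hne
    set M := max n (2 * genus k K)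
    have he : {m : ℕ | m ∈ gaps P ∧ m ≤ n} = {m : ℕ | m ∈ gaps P ∧ m ≤ M} :=
      Set.ext fun m => ⟨fun hm => ⟨hm.1, hm.2.trans (le_max_left _ _)⟩,
        fun hm => ⟨hm.1, hne m hm.1⟩⟩
    have h1 := ell_single_add_ncard hK P M
    have h2 := ell_eq_of_deg_ge hK (D := Finsupp.single P (M : ℤ))
      (by rw [deg_single' hK]; omega)
    rw [deg_single' hK] at h2
    rw [he] at h
    omega
  refine ⟨Nat.find hex, (Nat.find_spec hex).1, (Nat.find_spec hex).2, fun m hm hml => ?_⟩
  by_contra hmn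
  exact Nat.find_min hex hml ⟨hm, by omega⟩

theorem le_ncard_gaps (P : Place k K) {l : ℕ} (hlg : l ≤ genus k K) :
    l ≤ Set.ncard {m : ℕ | m ∈ gaps P ∧ m ≤ 2 * l - 1} := by
  by_contra h
  push Not at h
  obtain ⟨L₀, hL, hlt, hmin⟩ := exists_gap_gt hK P (n := 2 * l - 1) (by omega)
  have h1 := sub_one_le_two_mul_ncard hK hL
  have h2 : {m : ℕ | m ∈ gaps P ∧ m < L₀} = {m : ℕ | m ∈ gaps P ∧ m ≤ 2 * l - 1} :=
    Set.ext fun m => ⟨fun hm => ⟨hm.1, hmin m hm.1 hm.2⟩, fun hm => ⟨hm.1, by have := hm.2; omega⟩⟩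
  rw [h2] at h1
  omega

theorem two_mul_ell_le (P : Place k K) {n : ℕ} (hn : (n : ℤ) ≤ 2 * (genus k K : ℤ) - 2) :
    2 * ell (Finsupp.single P (n : ℤ)) ≤ n + 2 := by
  have h1 := ell_single_add_ncard hK P n
  by_cases hc : Set.ncard {m : ℕ | m ∈ gaps P ∧ m ≤ n} < genus k K
  · obtain ⟨L₀, hL, hlt, hmin⟩ := exists_gap_gt hK P hc
    have h3 := sub_one_le_two_mul_ncard hK hL
    have h2 : {m : ℕ | m ∈ gaps P ∧ m < L₀} = {m : ℕ | m ∈ gaps P ∧ m ≤ n} :=
      Set.ext fun m => ⟨fun hm => ⟨hm.1, hmin m hm.1 hm.2⟩, fun hm => ⟨hm.1, by have := hm.2; omega⟩⟩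
    rw [h2] at h3
    omega
  · omega

end algClosed

end Groth.Agent.FF
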