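import Groth.Agent.Lib.FunFldD

/-!
Linear series: vanishing ranks, weights, the Plücker bound in genus zero, chains of limit series.
-/

open FunFld WithZero

namespace Groth.Agent.FF

section sums

lemma two_mul_sum_sub (r d : ℕ) (h : r ≤ d) :
    2 * ∑ n ∈ Finset.range d, (r - n) = r * (r + 1) := by
  induction r generalizing d with
  | zero => simp
  | succ r ih =>
    obtain ⟨d, rfl⟩ : ∃ e, d = e + 1 := ⟨d - 1, by omega⟩
    rw [Finset.sum_range_succ', mul_add]
    simp only [Nat.succ_sub_succ]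
    rw [ih d (by omega), Nat.sub_zero]
    ring

lemma sum_jumps (a : ℕ → ℤ) (N : ℕ) :
    ∑ n ∈ Finset.range N, (n : ℤ) * (a n - a (n + 1)) + (N : ℤ) * a N =
      ∑ n ∈ Finset.range N, a (n + 1) := by
  induction N with
  | zero => simp
  | succ N ih =>
    rw [Finset.sum_range_succ, Finset.sum_range_succ, ← ih]
    push_cast
    ring

end sums

section det

open Polynomial Matrix

variable {k : Type*} [Field k]

/-- The Wronskian matrix of a family of polynomials. -/
noncomputable def wrMatrix {r : ℕ} (p : Fin r → Polynomial k) :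
    Matrix (Fin r) (Fin r) (Polynomial k) :=
  Matrix.of fun i j => Polynomial.derivative^[(j : ℕ)] (p i)

lemma det_wrMatrix_combination {r : ℕ} (p q : Fin r → Polynomial k) (M : Matrix (Fin r) (Fin r) k)
    (h : ∀ i, q i = ∑ l, Polynomial.C (M i l) * p l) :
    (wrMatrix q).det = Polynomial.C M.det * (wrMatrix p).det := by
  have e : wrMatrix q = M.map Polynomial.C * wrMatrix p := by
    ext1 i j
    simp only [wrMatrix, Matrix.mul_apply, Matrix.map_apply, Matrix.of_apply, h,
      Polynomial.iterate_derivative_sum, Polynomial.iterate_derivative_C_mul]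
  rw [e, Matrix.det_mul]
  congr 1
  exact (RingHom.map_det Polynomial.C M).symm

lemma pow_dvd_det_wrMatrix {r : ℕ} (p : Fin r → Polynomial k) (c : k) (o : Fin r → ℕ)
    (h : ∀ i, (X - C c) ^ o i ∣ p i) :
    (X - C c) ^ (∑ i, o i - ∑ i : Fin r, (i : ℕ)) ∣ (wrMatrix p).det := by
  rw [Matrix.det_apply]
  refine Finset.dvd_sum fun σ _ => ?_
  rw [Units.smul_def, zsmul_eq_mul]
  refine dvd_mul_of_dvd_right ?_ _
  have h1 : ∀ i, (X - C c) ^ (o (σ i) - (i : ℕ)) ∣ wrMatrix p (σ i) i := fun i =>
    Polynomial.pow_sub_dvd_iterate_derivative_of_pow_dvd (i : ℕ) (h (σ i))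
  refine dvd_trans ?_ (Finset.prod_dvd_prod_of_dvd _ _ fun i _ => h1 i)
  rw [Finset.prod_pow_eq_pow_sum]
  refine pow_dvd_pow _ ?_
  rw [← Equiv.sum_comp σ o]
  have : ∑ i, o (σ i) ≤ ∑ i, (o (σ i) - (i : ℕ)) + ∑ i : Fin r, (i : ℕ) := by
    rw [← Finset.sum_add_distrib]
    exact Finset.sum_le_sum fun i _ => by omega
  omega

lemma det_descFactorial_ne_zero [CharZero k] {r : ℕ} (a : Fin r → ℕ) (ha : Function.Injective a) :
    (Matrix.of fun i j : Fin r => ((a i).descFactorial (j : ℕ) : k)).det ≠ 0 := by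
  have e : (Matrix.of fun i j : Fin r => ((a i).descFactorial (j : ℕ) : k)) =
      Matrix.of fun i j : Fin r => ((descPochhammer k (j : ℕ))).eval ((a i : ℕ) : k) := by
    ext1 i j
    simp [descPochhammer_eval_eq_descFactorial]
  rw [e, ← Matrix.det_eval_matrixOfPolynomials_eq_det_vandermonde (fun i => ((a i : ℕ) : k))
    (fun j : Fin r => descPochhammer k (j : ℕ))
    (fun j => descPochhammer_natDegree k j) (fun j => monic_descPochhammer k j)]
  exact Matrix.det_vandermonde_ne_zero_iff.2 (Nat.cast_injective.comp ha)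

lemma coeff_prod_top {ι : Type*} (s : Finset ι) (f : ι → Polynomial k) (m : ι → ℕ)
    (h : ∀ i ∈ s, (f i).natDegree ≤ m i) :
    (∏ i ∈ s, f i).coeff (∑ i ∈ s, m i) = ∏ i ∈ s, (f i).coeff (m i) := by
  induction s using Finset.cons_induction with
  | empty => simp
  | cons a s ha ih =>
    rw [Finset.prod_cons, Finset.sum_cons, Finset.prod_cons,
      Polynomial.coeff_mul_add_eq_of_natDegree_le (h a (by simp))
        ((Polynomial.natDegree_prod_le _ _).trans (Finset.sum_le_sum fun i hi => h i (by simp [hi]))),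
      ih fun i hi => h i (by simp [hi])]

lemma det_wrMatrix_ne_zero [CharZero k] {r : ℕ} (p : Fin r → Polynomial k) (hp : ∀ i, p i ≠ 0)
    (hinj : Function.Injective fun i => (p i).natDegree) :
    (wrMatrix p).det ≠ 0 ∧
      (wrMatrix p).det.natDegree ≤ ∑ i, (p i).natDegree - ∑ i : Fin r, (i : ℕ) := by
  set T := ∑ i, (p i).natDegree - ∑ i : Fin r, (i : ℕ)
  have hentry : ∀ i j : Fin r, (wrMatrix p i j).natDegree ≤ (p i).natDegree - (j : ℕ) := fun i j =>
    Polynomial.natDegree_iterate_derivative (p i) j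
  have hzero : ∀ σ : Equiv.Perm (Fin r), (∃ i : Fin r, (p (σ i)).natDegree < (i : ℕ)) →
      ∏ i, wrMatrix p (σ i) i = 0 := fun σ ⟨i, hi⟩ =>
    Finset.prod_eq_zero (Finset.mem_univ i) (Polynomial.iterate_derivative_eq_zero hi)
  have hT : ∀ σ : Equiv.Perm (Fin r), (∀ i : Fin r, (i : ℕ) ≤ (p (σ i)).natDegree) →
      T = ∑ i, ((p (σ i)).natDegree - (i : ℕ)) := fun σ hσ => by
    simp only [T]
    rw [← Equiv.sum_comp σ fun i => (p i).natDegree, Finset.sum_tsub_distrib _ fun i _ => hσ i]
  have hterm : ∀ σ : Equiv.Perm (Fin r), (∏ i, wrMatrix p (σ i) i).natDegree ≤ T ∧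
      (∏ i, wrMatrix p (σ i) i).coeff T =
        ∏ i : Fin r, (((p (σ i)).natDegree.descFactorial (i : ℕ) : k) * (p (σ i)).leadingCoeff) := by
    intro σ
    by_cases hσ : ∃ i : Fin r, (p (σ i)).natDegree < (i : ℕ)
    · rw [hzero σ hσ]
      obtain ⟨i, hi⟩ := hσ
      refine ⟨by simp, ?_⟩
      rw [Polynomial.coeff_zero, Finset.prod_eq_zero (Finset.mem_univ i)]
      rw [Nat.descFactorial_eq_zero_iff_lt.2 hi, Nat.cast_zero, zero_mul]
    · push Not at hσ
      rw [hT σ hσ]
      refine ⟨(Polynomial.natDegree_prod_le _ _).trans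
        (Finset.sum_le_sum fun i _ => hentry _ _), ?_⟩
      rw [coeff_prod_top _ _ (fun i : Fin r => (p (σ i)).natDegree - (i : ℕ))
        fun i _ => hentry _ _]
      refine Finset.prod_congr rfl fun i _ => ?_
      simp only [wrMatrix, Matrix.of_apply]
      rw [Polynomial.coeff_iterate_derivative, Nat.sub_add_cancel (hσ i), nsmul_eq_mul]
      rfl
  have hcoeff : (wrMatrix p).det.coeff T =
      (Matrix.of fun i j : Fin r => ((p i).natDegree.descFactorial (j : ℕ) : k)).det *
        ∏ i, (p i).leadingCoeff := by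
    rw [Matrix.det_apply, Polynomial.finset_sum_coeff, Matrix.det_apply, Finset.sum_mul]
    refine Finset.sum_congr rfl fun σ _ => ?_
    rw [Polynomial.coeff_smul, (hterm σ).2, smul_mul_assoc]
    congr 1
    rw [Finset.prod_mul_distrib]
    congr 1
    exact Equiv.prod_comp σ fun i => (p i).leadingCoeff
  refine ⟨fun h => ?_, ?_⟩
  · rw [h, Polynomial.coeff_zero] at hcoeff
    exact mul_ne_zero (det_descFactorial_ne_zero _ hinj)
      (Finset.prod_ne_zero_iff.2 fun i _ => Polynomial.leadingCoeff_ne_zero.2 (hp i)) hcoeff.symm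
  · rw [Matrix.det_apply]
    refine Polynomial.natDegree_sum_le_of_forall_le _ _ fun σ _ => ?_
    exact (Polynomial.natDegree_smul_le _ _).trans (hterm σ).1

end det

variable {k K : Type*} [Field k] [Field K] [Algebra k K]

/-- `dim V(-jP)`. -/
noncomputable def rk (V : Submodule k K) (D : Divisor k K) (P : Place k K) (j : ℤ) : ℕ :=
  Module.finrank k ↥(V ⊓ L (D - Finsupp.single P j))

/-- `∑_{j=1}^d dim V(-jP)`. -/
noncomputable def wsum (V : Submodule k K) (D : Divisor k K) (P : Place k K) (d : ℕ) : ℕ :=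
  ∑ n ∈ Finset.range d, rk V D P ((n : ℤ) + 1)

/-- Twice the ramification weight: `2 ∑ j dim V(-jP) - r(r+1)`. -/
noncomputable def wt (V : Submodule k K) (D : Divisor k K) (P : Place k K) (d r : ℕ) : ℤ :=
  2 * (wsum V D P d : ℤ) - (r : ℤ) * ((r : ℤ) + 1)

/-- A linear series of degree `d` and dimension `r`. -/
structure IsSeries (hK : IsFunctionField k K) (D : Divisor k K) (V : Submodule k K) (d r : ℕ) :
    Prop where
  hD : D.deg = d
  hV : V ≤ L D
  hr : Module.finrank k ↥V = r + 1

section series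

variable [IsAlgClosed k] {hK : IsFunctionField k K}
variable {D : Divisor k K} {V : Submodule k K} {d r : ℕ} (hs : IsSeries hK D V d r)
include hs

lemma finiteDimensional_series : FiniteDimensional k V :=
  have := finiteDimensional_L hK D
  Submodule.finiteDimensional_of_le hs.hV

lemma rk_zero (P : Place k K) : rk V D P 0 = r + 1 := by
  rw [rk, Finsupp.single_zero, sub_zero, inf_eq_left.2 hs.hV, hs.hr]

lemma rk_le (P : Place k K) (j : ℤ) : rk V D P j ≤ r + 1 := by
  have := finiteDimensional_series hs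
  exact (Submodule.finrank_mono inf_le_left).trans hs.hr.le

lemma rk_anti (P : Place k K) {i j : ℤ} (h : i ≤ j) : rk V D P j ≤ rk V D P i := by
  have := finiteDimensional_series hs
  exact Submodule.finrank_mono
    (inf_le_inf_left _ (L_mono (sub_le_sub_left (Finsupp.single_le_single.2 h) D)))

lemma rk_drop (P : Place k K) (j : ℤ) : rk V D P j ≤ rk V D P (j + 1) + 1 := by
  have hfV := finiteDimensional_series hs
  set A := L (D - Finsupp.single P j)
  set B := L (D - Finsupp.single P (j + 1))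
  have hA := finiteDimensional_L hK (D - Finsupp.single P j)
  have hle : B ≤ A := L_mono (sub_le_sub_left (Finsupp.single_le_single.2 (by omega)) D)
  have hfB : FiniteDimensional k B := finiteDimensional_L hK (D - Finsupp.single P (j + 1))
  have h1 := Submodule.finrank_sup_add_finrank_inf_eq (V ⊓ A) B
  have h2 : Module.finrank k ↥((V ⊓ A) ⊔ B) ≤ Module.finrank k A :=
    Submodule.finrank_mono (sup_le inf_le_right hle)
  have h3 : (V ⊓ A) ⊓ B = V ⊓ B := by rw [inf_assoc, inf_eq_right.2 hle]
  rw [h3] at h1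
  have h4 := ell_le_pred_add_one hK (D - Finsupp.single P j) P
  rw [sub_sub, ← Finsupp.single_add] at h4
  simp only [rk, ell, A, B] at *
  omega

lemma rk_eq_zero (P : Place k K) {j : ℤ} (h : (d : ℤ) < j) : rk V D P j = 0 := by
  rw [rk, L_eq_bot_of_deg_neg hK (by rw [deg_sub, deg_single' hK, hs.hD]; omega), inf_bot_eq,
    finrank_bot]

lemma exists_ord_of_rk_lt (P : Place k K) (n : ℕ) (h : rk V D P ((n : ℤ) + 1) < rk V D P n) :
    ∃ f ∈ V, f ≠ 0 ∧ P.ord f + D P = n := by
  classical
  have hne : ¬ (V ⊓ L (D - Finsupp.single P (n : ℤ)) ≤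
      V ⊓ L (D - Finsupp.single P ((n : ℤ) + 1))) := fun hle => by
    have := finiteDimensional_series hs
    exact not_le.2 h (Submodule.finrank_mono hle)
  obtain ⟨f, ⟨hfV, hf⟩, hf1⟩ := SetLike.not_le_iff_exists.1 hne
  have hf0 : f ≠ 0 := fun h => hf1 (h ▸ zero_mem _)
  refine ⟨f, hfV, hf0, ?_⟩
  have h2 := (mem_L_iff hK hf0).1 hf
  by_contra hn
  refine hf1 ⟨hfV, (mem_L_iff hK hf0).2 fun Q => ?_⟩
  have h3 := h2 Q
  simp only [Finsupp.coe_add, Finsupp.coe_sub, Pi.add_apply, Pi.sub_apply, div_apply hK,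
    Finsupp.single_apply, Finsupp.coe_zero, Pi.zero_apply] at h3 ⊢
  split_ifs at h3 ⊢ with hc
  · subst hc; omega
  · exact h3

/-- An adapted basis at `P`: elements with the distinct vanishing orders. -/
lemma exists_adapted (P : Place k K) :
    ∃ (f : Fin (r + 1) → K) (o : Fin (r + 1) → ℕ), Function.Injective o ∧
      (∀ i, f i ∈ V ∧ f i ≠ 0 ∧ P.ord (f i) + D P = o i) ∧
      ∑ i, o i = wsum V D P d ∧ LinearIndependent k f ∧ Submodule.span k (Set.range f) = V := by
  classical
  let a : ℕ → ℤ := fun n => rk V D P n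
  set J := (Finset.range (d + 1)).filter fun n : ℕ => rk V D P ((n : ℤ) + 1) < rk V D P n
  have ha : ∀ n ∈ Finset.range (d + 1), a n - a (n + 1) = if n ∈ J then 1 else 0 := by
    intro n hn
    have h1 := rk_drop hs P n
    have h2 := rk_anti hs P (show (n : ℤ) ≤ (n : ℤ) + 1 by omega)
    simp only [a, J, Finset.mem_filter, hn, true_and]
    push_cast
    split_ifs with h <;> omega
  have hlast : a (d + 1) = 0 := by
    simp only [a]
    exact_mod_cast rk_eq_zero hs P (j := ((d + 1 : ℕ) : ℤ)) (by push_cast; omega)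
  have hcard : J.card = r + 1 := by
    have h1 : ∑ n ∈ Finset.range (d + 1), (a n - a (n + 1)) = ((r + 1 : ℕ) : ℤ) := by
      rw [Finset.sum_range_sub', hlast, sub_zero]
      simp only [a, Nat.cast_zero, rk_zero hs P]
    rw [Finset.sum_congr rfl ha, Finset.sum_ite_mem, Finset.inter_eq_right.2
      (Finset.filter_subset _ _), Finset.sum_const, nsmul_one] at h1
    exact_mod_cast h1
  have hsum : (∑ n ∈ J, (n : ℤ)) = wsum V D P d := by
    have h1 := sum_jumps a (d + 1)
    rw [hlast, mul_zero, add_zero, Finset.sum_range_succ (fun n => a (n + 1)), hlast, add_zero] at h1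
    have e1 : ∑ n ∈ Finset.range (d + 1), (n : ℤ) * (a n - a (n + 1)) = ∑ n ∈ J, (n : ℤ) := by
      rw [Finset.sum_congr rfl fun n hn => by rw [ha n hn, mul_ite, mul_one, mul_zero],
        Finset.sum_ite_mem, Finset.inter_eq_right.2 (Finset.filter_subset _ _)]
    rw [← e1, h1, wsum]
    push_cast
    rfl
  let o : Fin (r + 1) → ℕ := fun i => ((J.equivFinOfCardEq hcard).symm i : ℕ)
  have ho : ∀ i, o i ∈ J := fun i => ((J.equivFinOfCardEq hcard).symm i).2
  choose f hfV hf0 hford using fun i =>
    exists_ord_of_rk_lt hs P (o i) (Finset.mem_filter.1 (ho i)).2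
  have hoinj : Function.Injective o :=
    Subtype.val_injective.comp (J.equivFinOfCardEq hcard).symm.injective
  have hli : LinearIndependent k f := linearIndependent_of_ord P f hf0 (fun i j h => hoinj (by
    have h1 := hford i; have h2 := hford j; simp only at h; omega))
  refine ⟨f, o, hoinj, fun i => ⟨hfV i, hf0 i, hford i⟩, ?_, hli, ?_⟩
  · have h2 : ∑ i, (o i : ℤ) = ∑ n ∈ J, (n : ℤ) := by
      rw [← Finset.sum_coe_sort J]
      exact Equiv.sum_comp (J.equivFinOfCardEq hcard).symm fun x : J => ((x : ℕ) : ℤ)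
    rw [hsum] at h2
    exact_mod_cast h2
  · have := finiteDimensional_series hs
    exact Submodule.eq_of_le_of_finrank_eq (Submodule.span_le.2 (Set.range_subset_iff.2 hfV))
      (by rw [finrank_span_eq_card hli, Fintype.card_fin, hs.hr])

lemma rk_pair_le {P Q : Place k K} (hPQ : P ≠ Q) {i j : ℤ} (hij : (d : ℤ) + 1 ≤ i + j) :
    rk V D P i + rk V D Q j ≤ r + 1 := by
  classical
  have := finiteDimensional_series hs
  have hbot : (V ⊓ L (D - Finsupp.single P i)) ⊓ (V ⊓ L (D - Finsupp.single Q j)) = ⊥ := by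
    rw [Submodule.eq_bot_iff]
    rintro f ⟨⟨-, hfP⟩, -, hfQ⟩
    have hmem : f ∈ L (D - Finsupp.single P i - Finsupp.single Q j) := fun R => by
      rcases eq_or_ne R P with rfl | hR
      · have := hfP R
        simp only [Finsupp.coe_sub, Pi.sub_apply, Finsupp.single_eq_same,
          Finsupp.single_eq_of_ne hPQ, sub_zero] at this ⊢
        exact this
      · have := hfQ R
        simp only [Finsupp.coe_sub, Pi.sub_apply, Finsupp.single_eq_of_ne hR, sub_zero] at this ⊢
        exact this
    rwa [L_eq_bot_of_deg_neg hK (by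
      rw [deg_sub, deg_sub, deg_single' hK, deg_single' hK, hs.hD]; omega),
      Submodule.mem_bot] at hmem
  have h1 := Submodule.finrank_sup_add_finrank_inf_eq (V ⊓ L (D - Finsupp.single P i))
    (V ⊓ L (D - Finsupp.single Q j))
  rw [hbot, finrank_bot, add_zero] at h1
  have h2 : Module.finrank k ↥((V ⊓ L (D - Finsupp.single P i)) ⊔
      (V ⊓ L (D - Finsupp.single Q j))) ≤ Module.finrank k V :=
    Submodule.finrank_mono (sup_le inf_le_left inf_le_left)
  rw [hs.hr] at h2
  simp only [rk]
  omega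

lemma wsum_pair_le {P Q : Place k K} (hPQ : P ≠ Q) :
    wsum V D P d + wsum V D Q d ≤ (r + 1) * d := by
  simp only [wsum]
  rw [← Finset.sum_range_reflect (fun n : ℕ => rk V D Q ((n : ℤ) + 1)) d,
    ← Finset.sum_add_distrib]
  refine (Finset.sum_le_card_nsmul _ _ (r + 1) fun n hn => rk_pair_le hs hPQ ?_).trans
    (by rw [Finset.card_range, smul_eq_mul, mul_comm])
  rw [Finset.mem_range] at hn
  omega

lemma sub_le_rk (P : Place k K) (n : ℕ) : r + 1 ≤ rk V D P (n : ℤ) + n := by
  induction n with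
  | zero => simp [rk_zero hs P]
  | succ n ih => have := rk_drop hs P n; push_cast; omega

lemma dim_le_deg : r ≤ d := by
  obtain ⟨P⟩ := nonempty_place hK
  have h1 := sub_le_rk hs P (d + 1)
  rw [rk_eq_zero hs P (by push_cast; omega)] at h1
  omega

lemma wt_nonneg (P : Place k K) : 0 ≤ wt V D P d r := by
  have h1 := two_mul_sum_sub r d (dim_le_deg hs)
  have h2 : ∑ n ∈ Finset.range d, (r - n) ≤ wsum V D P d := Finset.sum_le_sum fun n _ => by
    have := sub_le_rk hs P (n + 1); push_cast at this; omega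
  have h3 : ((r * (r + 1) : ℕ) : ℤ) ≤ 2 * (wsum V D P d : ℤ) := by omega
  simp only [wt]; push_cast at h3; linarith

lemma sub_le_rk_cusp {Q : Place k K} (hc : r ≤ rk V D Q 2) (n : ℕ) :
    r ≤ rk V D Q ((n : ℤ) + 2) + n := by
  induction n with
  | zero => simpa using hc
  | succ n ih =>
    have := rk_drop hs Q ((n : ℤ) + 2)
    rw [show ((n + 1 : ℕ) : ℤ) + 2 = (n : ℤ) + 2 + 1 by push_cast; ring]
    omega

lemma two_mul_le_wt_cusp {Q : Place k K} (hc : r ≤ rk V D Q 2) :
    2 * (r : ℤ) ≤ wt V D Q d r := by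
  rcases Nat.eq_zero_or_pos r with rfl | hr
  · simpa using wt_nonneg hs Q
  have hd : r + 1 ≤ d := by
    by_contra hlt
    have hd' := dim_le_deg hs
    have h1 := sub_le_rk_cusp hs hc (r - 1)
    rw [rk_eq_zero hs Q (by omega)] at h1
    omega
  have h1 := two_mul_sum_sub (r + 1) d hd
  have h2 : ∑ n ∈ Finset.range d, (r + 1 - n) ≤ wsum V D Q d + 1 := by
    obtain ⟨e, rfl⟩ : ∃ e, d = e + 1 := ⟨d - 1, by omega⟩
    simp only [wsum]
    rw [Finset.sum_range_succ', Finset.sum_range_succ' (fun n : ℕ => rk V D Q ((n : ℤ) + 1))]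
    have h3 : ∑ n ∈ Finset.range e, (r + 1 - (n + 1)) ≤
        ∑ n ∈ Finset.range e, rk V D Q (((n + 1 : ℕ) : ℤ) + 1) := Finset.sum_le_sum fun n _ => by
      have := sub_le_rk_cusp hs hc n
      rw [show ((n + 1 : ℕ) : ℤ) + 1 = (n : ℤ) + 2 by push_cast; ring]
      omega
    have h4 := rk_anti hs Q (show (1 : ℤ) ≤ 2 by norm_num)
    simp only [Nat.cast_zero, zero_add, Nat.sub_zero]
    omega
  have h3 : (((r + 1) * (r + 1 + 1) : ℕ) : ℤ) ≤ 2 * (wsum V D Q d : ℤ) + 2 := by omega
  simp only [wt]; push_cast at h3; linarith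

lemma wt_pair_le {P Q : Place k K} (hPQ : P ≠ Q) :
    wt V D P d r + wt V D Q d r ≤ 2 * ((r : ℤ) + 1) * ((d : ℤ) - r) := by
  have h : ((wsum V D P d + wsum V D Q d : ℕ) : ℤ) ≤ (((r + 1) * d : ℕ) : ℤ) :=
    Int.ofNat_le.2 (wsum_pair_le hs hPQ)
  simp only [wt]; push_cast at h; linarith

lemma wsum_le_of_genus_pos (hg : 0 < genus k K) (P : Place k K) :
    wt V D P d r ≤ 2 * ((r : ℤ) + 1) * ((d : ℤ) - r) - 2 * r := by
  rcases Nat.eq_zero_or_pos r with rfl | hr
  · have h2 : wsum V D P d ≤ d := (Finset.sum_le_card_nsmul _ _ 1 fun n _ => rk_le hs P _).trans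
      (by simp)
    simp only [wt]; push_cast; linarith [Int.ofNat_le.2 h2]
  have hd : r + 1 ≤ d := by
    have h1 := ell_le_deg_of_genus_pos hK hg (D := D) (by rw [hs.hD]; have := dim_le_deg hs; omega)
    have hfL := finiteDimensional_L hK D
    have h2 := Submodule.finrank_mono hs.hV
    rw [hs.hr] at h2
    rw [hs.hD] at h1
    simp only [ell] at h1
    omega
  have hb : ∀ n ∈ Finset.range d,
      rk V D P ((n : ℤ) + 1) ≤ if n + 1 = d then 1 else min (r + 1) (d - (n + 1)) := by
    intro n hn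
    rw [Finset.mem_range] at hn
    have hfL := finiteDimensional_L hK (D - Finsupp.single P ((n : ℤ) + 1))
    have h2 : rk V D P ((n : ℤ) + 1) ≤ ell (D - Finsupp.single P ((n : ℤ) + 1)) :=
      Submodule.finrank_mono inf_le_right
    split_ifs with h
    · have h1 := ell_le_deg_add_one hK (D := D - Finsupp.single P ((n : ℤ) + 1))
        (by rw [deg_sub, deg_single' hK, hs.hD]; omega)
      rw [deg_sub, deg_single' hK, hs.hD] at h1
      omega
    · have h1 := ell_le_deg_of_genus_pos hK hg (D := D - Finsupp.single P ((n : ℤ) + 1))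
        (by rw [deg_sub, deg_single' hK, hs.hD]; omega)
      rw [deg_sub, deg_single' hK, hs.hD] at h1
      exact le_min (rk_le hs P _) (by omega)
  have h1 : wsum V D P d ≤ _ := Finset.sum_le_sum hb
  obtain ⟨e, rfl⟩ : ∃ e, d = e + 1 := ⟨d - 1, by omega⟩
  rw [Finset.sum_range_succ, if_pos rfl] at h1
  have h2 : ∑ n ∈ Finset.range e, (if n + 1 = e + 1 then 1 else min (r + 1) (e + 1 - (n + 1))) =
      ∑ n ∈ Finset.range e, min (r + 1) (n + 1) := by
    rw [← Finset.sum_range_reflect (fun n => min (r + 1) (n + 1)) e]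
    refine Finset.sum_congr rfl fun n hn => ?_
    rw [Finset.mem_range] at hn
    rw [if_neg (by omega)]
    congr 1
    omega
  rw [h2] at h1
  have h3 : ∑ n ∈ Finset.range e, min (r + 1) (n + 1) + ∑ n ∈ Finset.range e, (r - n) =
      e * (r + 1) := by
    rw [← Finset.sum_add_distrib, Finset.sum_congr rfl
      (fun n _ => show min (r + 1) (n + 1) + (r - n) = r + 1 by omega),
      Finset.sum_const, Finset.card_range, smul_eq_mul]
  have h4 := two_mul_sum_sub r e (by omega)
  have h5 : ((2 * wsum V D P (e + 1) + r * (r + 1) : ℕ) : ℤ) ≤ ((2 * (e * (r + 1)) + 2 : ℕ) : ℤ) :=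
    Int.ofNat_le.2 (by omega)
  simp only [wt]; push_cast at h5 ⊢; linarith

lemma compat_wsum {K' : Type*} [Field K'] [Algebra k K'] {hK' : IsFunctionField k K'}
    {D' : Divisor k K'} {V' : Submodule k K'} (_hs' : IsSeries hK' D' V' d r)
    {B : Place k K} {A : Place k K'}
    (hc : ∀ m : ℕ, m ≤ d + 1 → rk V D B (m : ℤ) + rk V' D' A ((d : ℤ) + 1 - m) = r + 1) :
    wt V D B d r + wt V' D' A d r = 2 * ((r : ℤ) + 1) * ((d : ℤ) - r) := by
  have h : wsum V D B d + wsum V' D' A d = (r + 1) * d := by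
    simp only [wsum]
    rw [← Finset.sum_range_reflect (fun n : ℕ => rk V' D' A ((n : ℤ) + 1)) d,
      ← Finset.sum_add_distrib, Finset.sum_congr rfl (g := fun _ => r + 1), Finset.sum_const,
      Finset.card_range, smul_eq_mul, mul_comm]
    intro n hn
    rw [Finset.mem_range] at hn
    have := hc (n + 1) (by omega)
    rw [show ((d - 1 - n : ℕ) : ℤ) + 1 = (d : ℤ) + 1 - ((n + 1 : ℕ) : ℤ) by omega]
    push_cast at this ⊢
    exact this
  have h' : ((wsum V D B d + wsum V' D' A d : ℕ) : ℤ) = (((r + 1) * d : ℕ) : ℤ) := by rw [h]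
  simp only [wt]; push_cast at h'; linarith

section plucker

variable [CharZero k]

lemma ord_aeval {Pinf P : Place k K} {t : K} (ht : Pinf.ord t = -1)
    (htQ : ∀ Q : Place k K, Q ≠ Pinf → 0 ≤ Q.ord t) {p : Polynomial k} (hp : p ≠ 0) :
    Pinf.ord (Polynomial.aeval t p) = -(p.natDegree : ℤ) ∧
      (P ≠ Pinf → ∃ c : k, Pinf ≠ P ∧ 0 < P.ord (t - algebraMap k K c) ∧
        P.ord (Polynomial.aeval t p) = (p.rootMultiplicity c : ℤ)) := by
  classical
  have htr := transcendental_of_ord_ne_zero hK (P := Pinf) (x := t) (by omega)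
  have hne : ∀ c : k, t - algebraMap k K c ≠ 0 := fun c h => htr (by
    rw [sub_eq_zero.1 h]; exact isAlgebraic_algebraMap c)
  have hinf : ∀ c : k, Pinf.ord (t - algebraMap k K c) = -1 := fun c => by
    have ht0 : t ≠ 0 := fun h => by rw [h, ord_zero] at ht; omega
    have hlt : Pinf.1 (-(algebraMap k K c)) < Pinf.1 t := by
      rw [Valuation.map_neg]
      refine (Pinf.2.1 c).trans_lt ?_
      rw [val_eq_exp Pinf ht0, ht]
      simpa using exp_lt_exp.2 (show (0 : ℤ) < 1 by norm_num)
    have h := Pinf.1.map_add_eq_of_lt_left hlt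
    rw [← sub_eq_add_neg] at h
    rw [← ht]; unfold Place.ord; rw [h]
  have hfac : Polynomial.aeval t p = algebraMap k K p.leadingCoeff *
      (p.roots.map fun c => t - algebraMap k K c).prod := by
    conv_lhs => rw [(IsAlgClosed.splits p).eq_prod_roots]
    rw [map_mul, Polynomial.aeval_C, map_multiset_prod, Multiset.map_map]
    congr 2
    exact Multiset.map_congr rfl fun c _ => by simp
  have hordprod : ∀ (Q : Place k K) (s : Multiset k),
      Q.ord ((s.map fun c => t - algebraMap k K c).prod) =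
        (s.map fun c => Q.ord (t - algebraMap k K c)).sum := fun Q s => by
    induction s using Multiset.induction with
    | empty => simp [ord_one]
    | cons a s ih =>
      rw [Multiset.map_cons, Multiset.prod_cons, Multiset.map_cons, Multiset.sum_cons,
        ord_mul Q (hne a) (Multiset.prod_ne_zero fun h => by
          obtain ⟨c, -, hc⟩ := Multiset.mem_map.1 h; exact hne c hc), ih]
  have hord : ∀ Q : Place k K, Q.ord (Polynomial.aeval t p) =
      (p.roots.map fun c => Q.ord (t - algebraMap k K c)).sum := fun Q => by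
    rw [hfac, ord_mul Q (by simpa using hp) (Multiset.prod_ne_zero fun h => by
          obtain ⟨c, -, hc⟩ := Multiset.mem_map.1 h; exact hne c hc), ord_const, zero_add,
      hordprod]
  refine ⟨?_, fun hP => ?_⟩
  · rw [hord, Multiset.map_congr rfl (fun c _ => hinf c), Multiset.map_const', Multiset.sum_replicate,
      (IsAlgClosed.splits p).natDegree_eq_card_roots, nsmul_eq_mul, mul_neg_one]
  have hval : P.1 t ≤ 1 := by
    rcases eq_or_ne t 0 with h | h
    · simp [h]
    · exact (val_le_one_iff P h).2 (htQ P hP)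
  obtain ⟨c, hc⟩ := exists_const hK hval
  have hc' := (val_lt_one_iff P (hne c)).1 hc
  have hval1 : ∀ e : k, e ≠ c → P.ord (t - algebraMap k K e) = 0 := fun e he => by
    have hlt : P.1 (t - algebraMap k K c) < P.1 (algebraMap k K (c - e)) := by
      rwa [val_const P (sub_ne_zero.2 (Ne.symm he))]
    have h := P.1.map_add_eq_of_lt_right hlt
    rw [map_sub, sub_add_sub_cancel, ← map_sub, val_const P (sub_ne_zero.2 (Ne.symm he))] at h
    exact (val_eq_one_iff P (hne e)).1 h
  have hord1 : P.ord (t - algebraMap k K c) = 1 := by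
    have hzd : (zeroDiv (k := k) (t - algebraMap k K c)⁻¹) = Finsupp.single Pinf 1 := by
      refine zeroDiv_inv_eq_single hK (hinf c) fun Q hQ => ?_
      rcases eq_or_ne t 0 with h | h
      · rw [h, ord_zero] at ht; omega
      refine (val_le_one_iff Q (hne c)).1 ?_
      exact Q.1.map_sub_le ((val_le_one_iff Q h).2 (htQ Q hQ)) (Q.2.1 c)
    have htr2 := transcendental_of_ord_ne_zero hK (P := Pinf) (x := t - algebraMap k K c)
      (by rw [hinf c]; omega)
    have h1 := deg_zeroDiv_inv hK htr2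
    rw [hzd, deg_single' hK] at h1
    have h2 := sum_ord_le_finrank hK htr2 {P} (fun Q hQ => by
      rw [Finset.mem_singleton] at hQ; exact hQ ▸ hc')
    rw [Finset.sum_singleton, deg_eq_one hK P] at h2
    omega
  refine ⟨c, Ne.symm hP, hc', ?_⟩
  rw [hord, ← Polynomial.count_roots]
  generalize p.roots = s
  induction s using Multiset.induction with
  | empty => simp
  | cons a s ih =>
    rw [Multiset.map_cons, Multiset.sum_cons, Multiset.count_cons, ih]
    by_cases ha : a = c
    · subst ha; rw [hord1, if_pos rfl]; push_cast; ring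
    · rw [hval1 a ha, if_neg (Ne.symm ha)]; simp

/-- The Plücker bound in genus zero. -/
theorem plucker (hg : genus k K = 0) (S : Finset (Place k K)) :
    ∑ P ∈ S, wt V D P d r ≤ 2 * ((r : ℤ) + 1) * ((d : ℤ) - r) := by
  classical
  obtain ⟨Pinf⟩ := nonempty_place hK
  obtain ⟨t, ht, htQ⟩ := exists_simple_pole_of_genus_zero hK hg (deg_eq_one hK Pinf)
  have ht0 : t ≠ 0 := fun h => by rw [h, ord_zero] at ht; omega
  obtain ⟨h, hh0, hh⟩ := exists_eq_div_of_genus_zero hK hg
    (D := D - Finsupp.single Pinf (d : ℤ)) (by rw [deg_sub, deg_single' hK, hs.hD, sub_self])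
  have hLd : L (Finsupp.single Pinf (d : ℤ)) ≤
      Submodule.span k (Set.range fun i : Fin (d + 1) => t ^ (i : ℕ)) := by
    have hli := linearIndependent_of_ord (k := k) Pinf (fun i : Fin (d + 1) => t ^ (i : ℕ))
      (fun i => pow_ne_zero _ ht0)
      (fun i j h => Fin.ext (by simp only [ord_pow, ht] at h; omega))
    have hmem : ∀ i : Fin (d + 1), t ^ (i : ℕ) ∈ L (Finsupp.single Pinf (d : ℤ)) := fun i => by
      rw [mem_L_iff hK (pow_ne_zero _ ht0)]
      intro Q
      simp only [Finsupp.coe_add, Pi.add_apply, div_apply hK, ord_pow, Finsupp.single_apply,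
        Finsupp.coe_zero, Pi.zero_apply]
      have := i.2
      split_ifs with hc
      · subst hc; rw [ht]; omega
      · have := htQ Q (Ne.symm hc); positivity
    have := finiteDimensional_L hK (Finsupp.single Pinf (d : ℤ))
    refine ge_of_eq (Submodule.eq_of_le_of_finrank_le
      (Submodule.span_le.2 (Set.range_subset_iff.2 hmem)) ?_)
    rw [finrank_span_eq_card hli, Fintype.card_fin]
    have h2 := ell_le_deg_add_one hK (D := Finsupp.single Pinf (d : ℤ))
      (by rw [deg_single' hK]; omega)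
    rw [deg_single' hK, ell] at h2
    omega
  have hpoly : ∀ f ∈ V, ∃ p : Polynomial k, Polynomial.aeval t p = f * h := fun f hf => by
    have hm : f * h ∈ L (Finsupp.single Pinf (d : ℤ)) := by
      have h1 := (mul_mem_L_iff hK hh0 (Finsupp.single Pinf (d : ℤ)) f).1
        (by rw [hh, add_sub_cancel]; exact hs.hV hf)
      rwa [mul_comm] at h1
    obtain ⟨c, hc⟩ := (Submodule.mem_span_range_iff_exists_fun k).1 (hLd hm)
    exact ⟨∑ i : Fin (d + 1), Polynomial.C (c i) * Polynomial.X ^ (i : ℕ), by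
      rw [← hc]; simp [Algebra.smul_def]⟩
  have hinj : Function.Injective (Polynomial.aeval (R := k) t) :=
    transcendental_iff_injective.1 (transcendental_of_ord_ne_zero hK (P := Pinf) (by omega))
  obtain ⟨f₀, o₀, ho₀, hf₀, hsum₀, hli₀, hspan₀⟩ := exists_adapted hs Pinf
  choose p hp using fun i => hpoly (f₀ i) (hf₀ i).1
  have hp0 : ∀ i, p i ≠ 0 := fun i h => by
    have h1 := hp i
    rw [h, map_zero] at h1
    exact mul_ne_zero (hf₀ i).2.1 hh0 h1.symm
  have hdeg : ∀ i, ((p i).natDegree : ℤ) = d - o₀ i := fun i => by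
    have h1 := (ord_aeval hs (P := Pinf) ht htQ (hp0 i)).1
    rw [hp i, ord_mul Pinf (hf₀ i).2.1 hh0] at h1
    have h2 : Pinf.ord h = D Pinf - d := by
      rw [← div_apply hK, hh]; simp
    have := (hf₀ i).2.2
    omega
  obtain ⟨hW, hWdeg⟩ := det_wrMatrix_ne_zero p hp0 (fun i j he => ho₀ (by
    have := hdeg i; have := hdeg j; simp only at he; omega))
  set W := (wrMatrix p).det with hWdef
  set R : ℕ := ∑ i : Fin (r + 1), (i : ℕ)
  have hR : 2 * (R : ℤ) = (r : ℤ) * ((r : ℤ) + 1) := by
    simp only [R]; rw [Fin.sum_univ_eq_sum_range (fun i => i), ← Finset.sum_range_reflect]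
    simp only [Nat.add_sub_cancel]
    rw [Finset.sum_range_succ, Nat.sub_self, add_zero]
    have h := congrArg (Nat.cast (R := ℤ)) (two_mul_sum_sub r r le_rfl)
    push_cast at h ⊢
    exact h
  -- every finite point
  have hpt : ∀ P ∈ S.erase Pinf, ∃ c : k, 0 < P.ord (t - algebraMap k K c) ∧
      wt V D P d r ≤ 2 * (Polynomial.rootMultiplicity c W : ℤ) := by
    intro P hP
    have hPne := (Finset.mem_erase.1 hP).1
    obtain ⟨f, o, -, hf, hsum, -, hspan⟩ := exists_adapted hs P
    choose q hq using fun i => hpoly (f i) (hf i).1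
    have hq0 : ∀ i, q i ≠ 0 := fun i h => by
      have h1 := hq i
      rw [h, map_zero] at h1
      exact mul_ne_zero (hf i).2.1 hh0 h1.symm
    choose c hc1 hc2 hc3 using fun i => (ord_aeval hs (P := P) ht htQ (hq0 i)).2 hPne
    have hcu : ∀ i, c i = c 0 := fun i => by
      by_contra hne
      have hlt : P.1 (algebraMap k K (c 0 - c i)) < 1 := by
        rw [show algebraMap k K (c 0 - c i) =
          (t - algebraMap k K (c i)) - (t - algebraMap k K (c 0)) by rw [map_sub]; ring]
        have hv : ∀ l, P.1 (t - algebraMap k K (c l)) < 1 := fun l =>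
          (val_lt_one_iff P (fun h0 => by
            have := hc2 l; rw [h0, ord_zero] at this; omega)).2 (hc2 l)
        exact (P.1.map_sub _ _).trans_lt (max_lt (hv i) (hv 0))
      rw [val_const P (sub_ne_zero.2 (Ne.symm hne))] at hlt
      exact lt_irrefl _ hlt
    refine ⟨c 0, hc2 0, ?_⟩
    have hdiv : ∀ i, (Polynomial.X - Polynomial.C (c 0)) ^ o i ∣ q i := fun i => by
      refine (Polynomial.le_rootMultiplicity_iff (hq0 i)).1 ?_
      have h1 := hc3 i
      rw [hcu i, hq i, ord_mul P (hf i).2.1 hh0] at h1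
      have h2 : P.ord h = D P := by
        rw [← div_apply hK, hh, Finsupp.coe_sub, Pi.sub_apply, Finsupp.single_eq_of_ne hPne,
          sub_zero]
      have := (hf i).2.2
      omega
    have hcomb : ∀ i, ∃ N : Fin (r + 1) → k, p i = ∑ l, Polynomial.C (N l) * q l := fun i => by
      obtain ⟨N, hN⟩ := (Submodule.mem_span_range_iff_exists_fun k).1
        (hspan.symm ▸ (hf₀ i).1 : f₀ i ∈ Submodule.span k (Set.range f))
      refine ⟨N, hinj ?_⟩
      rw [hp i, ← hN, Finset.sum_mul, map_sum]
      exact Finset.sum_congr rfl fun l _ => by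
        rw [map_mul, Polynomial.aeval_C, hq l, Algebra.smul_def, mul_assoc]
    choose N hN using hcomb
    have hWq : W = Polynomial.C (Matrix.det (Matrix.of N)) * (wrMatrix q).det :=
      det_wrMatrix_combination q p (Matrix.of N) (fun i => hN i)
    have hd : (Polynomial.X - Polynomial.C (c 0)) ^ (∑ i, o i - R) ∣ W :=
      hWq ▸ dvd_mul_of_dvd_right (pow_dvd_det_wrMatrix q _ o hdiv) _
    have := (Polynomial.le_rootMultiplicity_iff hW).2 hd
    rw [hsum] at this
    simp only [wt]
    omega
  choose c hc hcw using hpt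
  have hsumle : ∑ P ∈ S.erase Pinf, wt V D P d r ≤ 2 * (W.natDegree : ℤ) := by
    rw [← Finset.sum_attach]
    refine (Finset.sum_le_sum fun P _ => hcw P.1 P.2).trans ?_
    rw [← Finset.mul_sum]
    refine mul_le_mul_of_nonneg_left ?_ (by norm_num)
    have hcinj : Function.Injective fun P : S.erase Pinf => c P.1 P.2 := by
      intro P Q he
      by_contra hne
      simp only at he
      have hQt := hc Q.1 Q.2
      rw [← he] at hQt
      have htr2 := transcendental_of_ord_ne_zero hK (P := Q.1) (ne_of_gt hQt)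
      have h1 := sum_ord_le_finrank hK htr2 {P.1, Q.1} (fun R hR => by
        rcases Finset.mem_insert.1 hR with rfl | hR
        · exact hc P.1 P.2
        · rw [Finset.mem_singleton] at hR; exact hR ▸ hQt)
      rw [Finset.sum_pair (fun h => hne (Subtype.ext h)), deg_eq_one hK, deg_eq_one hK] at h1
      have h2 := deg_zeroDiv_inv hK htr2
      rw [zeroDiv_inv_eq_single hK (P := Pinf) ?_ ?_, deg_single' hK] at h2
      · have := hc P.1 P.2
        omega
      · have hlt : Pinf.1 (-(algebraMap k K (c P.1 P.2))) < Pinf.1 t := by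
          rw [Valuation.map_neg]
          refine (Pinf.2.1 _).trans_lt ?_
          rw [val_eq_exp Pinf ht0, ht]
          simpa using exp_lt_exp.2 (show (0 : ℤ) < 1 by norm_num)
        have h := Pinf.1.map_add_eq_of_lt_left hlt
        rw [← sub_eq_add_neg] at h
        rw [← ht]; unfold Place.ord; rw [h]
      · intro R hR
        refine (val_le_one_iff R (fun h0 => by rw [h0, ord_zero] at hQt; omega)).1 ?_
        exact R.1.map_sub_le ((val_le_one_iff R ht0).2 (htQ R hR)) (R.2.1 _)
    have hnat : ∑ P ∈ (S.erase Pinf).attach, W.rootMultiplicity (c P.1 P.2) ≤ W.natDegree := by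
      rw [← Finset.sum_image (f := fun e => W.rootMultiplicity e) (g := fun P : S.erase Pinf => c P.1 P.2)
        hcinj.injOn]
      refine le_trans ?_ (Polynomial.card_roots' W)
      simp only [← Polynomial.count_roots]
      refine (Finset.sum_le_sum_of_subset (Finset.subset_union_left (s₂ := W.roots.toFinset))).trans
        (le_of_eq (Multiset.sum_count_eq_card fun a ha => ?_))
      exact Finset.mem_union_right _ (Multiset.mem_toFinset.2 ha)
    exact_mod_cast hnat
  have hdeg' : 2 * (W.natDegree : ℤ) ≤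
      2 * ((r : ℤ) + 1) * ((d : ℤ) - r) - wt V D Pinf d r := by
    have h1 : ((∑ i, (p i).natDegree : ℕ) : ℤ) = ((r : ℤ) + 1) * d - wsum V D Pinf d := by
      rw [← hsum₀]; push_cast
      rw [Finset.sum_congr rfl fun i _ => hdeg i, Finset.sum_sub_distrib]
      simp
    have h2 : R ≤ ∑ i, (p i).natDegree := by
      by_contra hlt
      push Not at hlt
      have h3 := Int.ofNat_lt.2 hlt
      have h4 := wt_nonneg hs Pinf
      simp only [wt] at h4
      obtain ⟨Q, hQ⟩ : ∃ Q : Place k K, Q ≠ Pinf := by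
        obtain ⟨Q, hQ⟩ := exists_zero hK (transcendental_of_ord_ne_zero hK (P := Pinf) (x := t) (by omega))
        exact ⟨Q, fun e => by rw [e, ht] at hQ; omega⟩
      have h6 := wt_pair_le hs hQ
      have h7 := wt_nonneg hs Q
      simp only [wt] at h6 h7
      linarith
    have h3 := Int.ofNat_le.2 hWdeg
    rw [Nat.cast_sub h2, h1] at h3
    simp only [wt]
    linarith
  have hpinf := wt_nonneg hs Pinf
  by_cases hmem : Pinf ∈ S
  · rw [← Finset.add_sum_erase S _ hmem]; omega
  · rw [Finset.erase_eq_of_notMem hmem] at hsumle; omega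

end plucker

end series

section chain

lemma chain_total {N : ℕ} (U Z : Fin (N + 1) → ℤ) (M : ℤ) (hU0 : U 0 = 0)
    (hZN : Z (Fin.last N) = 0) (hl : ∀ l : Fin N, Z l.castSucc + U l.succ = M) :
    ∑ i, (U i + Z i) = (N : ℤ) * M := by
  rw [Finset.sum_add_distrib, Fin.sum_univ_succ U, Fin.sum_univ_castSucc Z, hU0, hZN, zero_add,
    add_zero, ← Finset.sum_add_distrib]
  rw [Finset.sum_congr rfl fun l _ => (show U l.succ + Z l.castSucc = M by rw [add_comm]; exact hl l)]
  simp

end chain

end Groth.Agent.FF
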