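import Groth.Agent.Lib.FunFldE

/-!
Chains of limit linear series: the abstract inequalities.
-/

open FunFld WithZero

namespace Groth.Agent.FF

section chain

variable {N : ℕ}

lemma chain_extra_le (U Z X : Fin (N + 1) → ℤ) (M : ℤ) (hU0 : U 0 = 0) (hZN : Z (Fin.last N) = 0)
    (hl : ∀ l : Fin N, Z l.castSucc + U l.succ = M) (hle : ∀ i, U i + Z i + X i ≤ M) :
    ∑ i, X i ≤ M := by
  have h1 := chain_total U Z M hU0 hZN hl
  have h2 : ∑ i, (U i + Z i + X i) ≤ ((N : ℤ) + 1) * M :=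
    (Finset.sum_le_card_nsmul _ _ M fun i _ => hle i).trans (le_of_eq (by simp))
  rw [Finset.sum_add_distrib, h1] at h2
  linarith

lemma chain_others_le (U Z X : Fin (N + 1) → ℤ) (M : ℤ) (hU0 : U 0 = 0) (hZN : Z (Fin.last N) = 0)
    (hl : ∀ l : Fin N, Z l.castSucc + U l.succ = M) (hle : ∀ i, U i + Z i + X i ≤ M)
    (i : Fin (N + 1)) : ∑ j ∈ Finset.univ.erase i, X j ≤ U i + Z i := by
  have h1 := chain_total U Z M hU0 hZN hl
  have h2 : ∑ j ∈ Finset.univ.erase i, (U j + Z j + X j) ≤ (N : ℤ) * M :=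
    (Finset.sum_le_card_nsmul _ _ M fun j _ => hle j).trans (le_of_eq (by simp))
  rw [Finset.sum_add_distrib] at h2
  rw [← Finset.add_sum_erase _ _ (Finset.mem_univ i)] at h1
  linarith

end chain

variable {k : Type*} [Field k] [IsAlgClosed k] [CharZero k]

lemma two_dvd_mul_succ (r : ℕ) : 2 * (r * (r + 1) / 2) = r * (r + 1) :=
  Nat.mul_div_cancel' (even_iff_two_dvd.1 (Nat.even_mul_succ_self r))

section rationalChain

variable {N : ℕ} {Z : Fin (N + 1) → Type*} [∀ i, Field (Z i)] [∀ i, Algebra k (Z i)]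
variable {hZ : ∀ i, IsFunctionField k (Z i)} {d r : ℕ}
variable {D : ∀ i, Divisor k (Z i)} {V : ∀ i, Submodule k (Z i)}
variable (hs : ∀ i, IsSeries (hZ i) (D i) (V i) d r)
variable {A B : ∀ i, Place k (Z i)}

/-- Weight of the left node. -/
noncomputable def nodeL (V : ∀ i, Submodule k (Z i)) (D : ∀ i, Divisor k (Z i))
    (A : ∀ i, Place k (Z i)) (d r : ℕ) (i : Fin (N + 1)) : ℤ :=
  if 0 < (i : ℕ) then wt (V i) (D i) (A i) d r else 0

/-- Weight of the right node. -/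
noncomputable def nodeR (V : ∀ i, Submodule k (Z i)) (D : ∀ i, Divisor k (Z i))
    (B : ∀ i, Place k (Z i)) (d r : ℕ) (i : Fin (N + 1)) : ℤ :=
  if (i : ℕ) < N then wt (V i) (D i) (B i) d r else 0

include hs

omit [CharZero k] in
lemma node_compat
    (hcomp : ∀ (l : Fin N) (m : ℕ), m ≤ d + 1 →
      rk (V l.castSucc) (D l.castSucc) (B l.castSucc) (m : ℤ) +
        rk (V l.succ) (D l.succ) (A l.succ) ((d : ℤ) + 1 - m) = r + 1) (l : Fin N) :
    nodeR V D B d r l.castSucc + nodeL V D A d r l.succ =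
      2 * ((r : ℤ) + 1) * ((d : ℤ) - r) := by
  rw [nodeR, nodeL, if_pos (by simp), if_pos (by simp)]
  exact compat_wsum (hs l.castSucc) (hs l.succ) (hcomp l)

lemma node_ineq (hrat : ∀ i, genus k (Z i) = 0)
    (hAB : ∀ i : Fin (N + 1), 0 < (i : ℕ) → (i : ℕ) < N → A i ≠ B i) (i : Fin (N + 1))
    (E : Finset (Place k (Z i))) (hEA : 0 < (i : ℕ) → A i ∉ E) (hEB : (i : ℕ) < N → B i ∉ E) :
    nodeL V D A d r i + nodeR V D B d r i + ∑ P ∈ E, wt (V i) (D i) P d r ≤
      2 * ((r : ℤ) + 1) * ((d : ℤ) - r) := by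
  classical
  by_cases h0 : 0 < (i : ℕ) <;> by_cases hN : (i : ℕ) < N
  · have h := plucker (hs i) (hrat i) (insert (A i) (insert (B i) E))
    rw [Finset.sum_insert (by simp [hEA h0, hAB i h0 hN]), Finset.sum_insert (hEB hN)] at h
    simp only [nodeL, nodeR, if_pos h0, if_pos hN]
    linarith
  · have h := plucker (hs i) (hrat i) (insert (A i) E)
    rw [Finset.sum_insert (hEA h0)] at h
    simp only [nodeL, nodeR, if_pos h0, if_neg hN]
    linarith
  · have h := plucker (hs i) (hrat i) (insert (B i) E)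
    rw [Finset.sum_insert (hEB hN)] at h
    simp only [nodeL, nodeR, if_neg h0, if_pos hN]
    linarith
  · have h := plucker (hs i) (hrat i) E
    simp only [nodeL, nodeR, if_neg h0, if_neg hN]
    linarith

end rationalChain

section chainTail

variable {n : ℕ} {U : Fin (n + 1) → Type*} [∀ l, Field (U l)] [∀ l, Algebra k (U l)]
variable {hU : ∀ l, IsFunctionField k (U l)} {d r : ℕ}
variable {D : ∀ l, Divisor k (U l)} {V : ∀ l, Submodule k (U l)}
variable (hs : ∀ l, IsSeries (hU l) (D l) (V l) d r)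
variable {A B : ∀ l, Place k (U l)}

include hs

omit [CharZero k] in
lemma wt_A_mono
    (hAB : ∀ l : Fin (n + 1), 0 < (l : ℕ) → (l : ℕ) < n → A l ≠ B l)
    (hcomp : ∀ (l : Fin n) (m : ℕ), m ≤ d + 1 →
      rk (V l.castSucc) (D l.castSucc) (B l.castSucc) (m : ℤ) +
        rk (V l.succ) (D l.succ) (A l.succ) ((d : ℤ) + 1 - m) = r + 1)
    (i : ℕ) (hi : 1 ≤ i) (j : ℕ) (hij : i ≤ j) (hj : j < n + 1) :
    wt (V ⟨i, by omega⟩) (D ⟨i, by omega⟩) (A ⟨i, by omega⟩) d r ≤
      wt (V ⟨j, hj⟩) (D ⟨j, hj⟩) (A ⟨j, hj⟩) d r := by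
  induction j, hij using Nat.le_induction with
  | base => exact le_rfl
  | succ j hij ih =>
    refine (ih (by omega)).trans ?_
    have h1 := compat_wsum (hs _) (hs _) (hcomp ⟨j, by omega⟩)
    have h2 := wt_pair_le (hs ⟨j, by omega⟩) (hAB ⟨j, by omega⟩ (by simp; omega) (by simp; omega))
    have e1 : (Fin.castSucc (⟨j, by omega⟩ : Fin n)) = ⟨j, by omega⟩ := rfl
    have e2 : (Fin.succ (⟨j, by omega⟩ : Fin n)) = ⟨j + 1, hj⟩ := rfl
    rw [e2] at h1
    simp only [Fin.castSucc_mk] at h1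
    linarith

end chainTail

end Groth.Agent.FF
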