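import Groth.Prelude.Def_Red2
import Mathlib.Algebra.Ring.ULift
import Mathlib.Data.Int.Cast.Lemmas
import Mathlib.CategoryTheory.Monoidal.Cartesian.Over
import Mathlib.AlgebraicGeometry.Pullbacks
import Mathlib.LinearAlgebra.SymmetricAlgebra.Basic

/-! Points of the additive group are global functions, additively and naturally. -/

set_option backward.isDefEq.respectTransparency false
set_option backward.isDefEq.respectTransparency.types false

set_option synthInstance.maxHeartbeats 100000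

universe u

open CategoryTheory CategoryTheory.Limits MonoidalCategory CartesianMonoidalCategory MonObj AlgebraicGeometry Opposite

noncomputable section

namespace Groth.Agent.Lib.GaPts

abbrev Co : Type u := SymmetricAlgebra (ULift.{u} ℤ) (ULift.{u} ℤ)

abbrev baseZ : Scheme.{u} := Spec (CommRingCat.of (ULift.{u} ℤ))

abbrev toBaseZ (S : Scheme.{u}) : S ⟶ baseZ := Limits.IsTerminal.from specULiftZIsTerminal S

abbrev gen : Co.{u} := SymmetricAlgebra.ι (ULift.{u} ℤ) (ULift.{u} ℤ) (ULift.up 1)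

abbrev coIso : Γ(Spec (CommRingCat.of Co.{u}), ⊤) ≅ CommRingCat.of Co.{u} :=
  Scheme.ΓSpecIso (CommRingCat.of Co.{u})

theorem ringHom_ext_gen {R : Type u} [CommRing R] {f g : Co.{u} →+* R} (h : f gen = g gen) : f = g := by
  have hfg : f.comp (algebraMap (ULift.{u} ℤ) Co.{u}) = g.comp (algebraMap (ULift.{u} ℤ) Co.{u}) := by
    ext ⟨n⟩
    have : (ULift.up n : ULift.{u} ℤ) = ((n : ℤ) : ULift.{u} ℤ) := by ext; simp
    rw [this, map_intCast, map_intCast]
  refine RingHom.ext fun a => ?_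
  induction a using SymmetricAlgebra.induction with
  | algebraMap r => exact congrArg (fun φ => φ r) hfg
  | «ι» n =>
    have e : SymmetricAlgebra.ι (ULift.{u} ℤ) (ULift.{u} ℤ) n =
        algebraMap (ULift.{u} ℤ) Co.{u} n * gen.{u} := by
      rw [← Algebra.smul_def, ← map_smul]; congr 1; ext; simp
    rw [e, map_mul, map_mul, h]
    exact congrArg (fun r => r * g gen) (congrArg (fun φ => φ n) hfg)
  | mul a b ha hb => rw [map_mul, map_mul, ha, hb]
  | add a b ha hb => rw [map_add, map_add, ha, hb]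

theorem exists_ringHom {R : Type u} [CommRing R] (v : R) : ∃ f : Co.{u} →+* R, f gen = v := by
  letI : Algebra (ULift.{u} ℤ) R :=
    ((Int.castRingHom R).comp (ULift.ringEquiv : ULift.{u} ℤ ≃+* ℤ).toRingHom).toAlgebra
  refine ⟨(SymmetricAlgebra.lift (@LinearMap.toSpanSingleton (ULift.{u} ℤ) R _ _ Algebra.toModule v)).toRingHom, ?_⟩
  change SymmetricAlgebra.lift (@LinearMap.toSpanSingleton (ULift.{u} ℤ) R _ _ Algebra.toModule v) gen = v
  rw [SymmetricAlgebra.lift_ι_apply]
  exact @one_smul (ULift.{u} ℤ) R _ (Algebra.toModule (R := ULift.{u} ℤ) (A := R)).toMulAction v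

variable {S : Scheme.{u}} {T T' : Over S}

abbrev specPt (t : T ⟶ Red.Ga S) : T.left ⟶ Spec (CommRingCat.of Co.{u}) :=
  t.left ≫ pullback.fst Red.GaZ.hom (toBaseZ S)

def ringHomOfPt (t : T ⟶ Red.Ga S) : Co.{u} →+* Γ(T.left, ⊤) := (coIso.inv ≫ (specPt t).appTop).hom

theorem ringHomOfPt_gen (t : T ⟶ Red.Ga S) : ringHomOfPt t gen = Red.gaFn t := rfl

theorem gaFn_injective : Function.Injective (fun t : T ⟶ Red.Ga S => Red.gaFn t) := by
  intro t t' h
  have hr : ringHomOfPt t = ringHomOfPt t' := ringHom_ext_gen h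
  ext1
  apply pullback.hom_ext
  · refine ((ΓSpec.adjunction.homEquiv T.left (op (CommRingCat.of Co.{u}))).symm.injective ?_)
    rw [Adjunction.homEquiv_counit, Adjunction.homEquiv_counit, ΓSpec.adjunction_counit_app]
    change (coIso.inv ≫ (specPt t).appTop).op = (coIso.inv ≫ (specPt t').appTop).op
    congr 1
    ext1
    exact hr
  · exact (Over.w t).trans (Over.w t').symm

theorem exists_pt (v : Γ(T.left, ⊤)) : ∃ t : T ⟶ Red.Ga S, Red.gaFn t = v := by
  obtain ⟨f, hf⟩ := exists_ringHom v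
  let m : T.left ⟶ Spec (CommRingCat.of Co.{u}) :=
    ΓSpec.adjunction.homEquiv T.left (op (CommRingCat.of Co.{u})) (CommRingCat.ofHom f).op
  refine ⟨Over.homMk (pullback.lift m T.hom (specULiftZIsTerminal.hom_ext _ _)) (pullback.lift_snd _ _ _), ?_⟩
  have h1 : coIso.inv ≫ m.appTop = CommRingCat.ofHom f := ΓSpecIso_inv_ΓSpec_adjunction_homEquiv _
  change (pullback.lift m T.hom _ ≫ pullback.fst _ _).appTop (coIso.inv gen) = v
  rw [pullback.lift_fst]
  exact (congrArg (fun φ => (ConcreteCategory.hom φ) gen) h1).trans hf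

theorem appTop_comp_apply {X Y Z : Scheme.{u}} (f : X ⟶ Y) (g : Y ⟶ Z) (z : Γ(Z, ⊤)) :
    (f ≫ g).appTop z = f.appTop (g.appTop z) := by
  rw [Scheme.Hom.comp_appTop]; rfl

theorem gaFn_comp (g : T' ⟶ T) (t : T ⟶ Red.Ga S) : Red.gaFn (g ≫ t) = g.left.appTop (Red.gaFn t) := by
  change ((g ≫ t).left ≫ pullback.fst _ _).appTop Red.gaCoord = _
  rw [Over.comp_left, Category.assoc, appTop_comp_apply]
  rfl

theorem pullback_map_left_fst {X Y : Over baseZ.{u}} (g : X ⟶ Y) :
    ((Over.pullback (toBaseZ S)).map g).left ≫ pullback.fst Y.hom (toBaseZ S) =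
      pullback.fst X.hom (toBaseZ S) ≫ g.left := by
  dsimp only [Over.pullback]
  exact pullback.lift_fst _ _ _

theorem specMap_appTop_coIso_inv {R : CommRingCat.{u}} (φ : CommRingCat.of Co.{u} ⟶ R) (c : Co.{u}) :
    (Spec.map φ).appTop (coIso.inv c) = (Scheme.ΓSpecIso R).inv (φ c) := by
  have h := congrArg (fun ψ => (ConcreteCategory.hom ψ) c) (Scheme.ΓSpecIso_inv_naturality φ)
  exact h.symm

def pairPt (t t' : T ⟶ Red.Ga S) : T.left ⟶ (Red.GaZ ⊗ Red.GaZ).left :=
  (lift t t').left ≫ (Functor.LaxMonoidal.μ (Over.pullback (toBaseZ S)) Red.GaZ Red.GaZ).left ≫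
    pullback.fst (Red.GaZ ⊗ Red.GaZ).hom (toBaseZ S)

theorem specPt_mul (t t' : T ⟶ Red.Ga S) : specPt (t * t') = pairPt t t' ≫ μ[Red.GaZ].left := by
  have h1 : t * t' = lift t t' ≫ μ[Red.Ga S] := Hom.mul_def t t'
  have h2 : μ[Red.Ga S] = Functor.LaxMonoidal.μ (Over.pullback (toBaseZ S)) Red.GaZ Red.GaZ ≫
      (Over.pullback (toBaseZ S)).map μ[Red.GaZ] := rfl
  have h3 := pullback_map_left_fst (S := S) μ[Red.GaZ]
  rw [specPt, pairPt, h1, h2, Over.comp_left, Over.comp_left]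
  simp only [Category.assoc]
  exact _ ≫= (_ ≫= h3)

theorem pairPt_fst (t t' : T ⟶ Red.Ga S) :
    pairPt t t' ≫ pullback.fst Red.GaZ.hom Red.GaZ.hom = specPt t := by
  rw [pairPt, Category.assoc, Category.assoc, Over.μ_pullback_left_fst_fst, ← Category.assoc]
  congr 1
  rw [← Over.fst_left, ← Over.comp_left, lift_fst]

theorem pairPt_snd (t t' : T ⟶ Red.Ga S) :
    pairPt t t' ≫ pullback.snd Red.GaZ.hom Red.GaZ.hom = specPt t' := by
  rw [pairPt, Category.assoc, Category.assoc, Over.μ_pullback_left_fst_snd, ← Category.assoc]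
  congr 1
  rw [← Over.snd_left, ← Over.comp_left, lift_snd]

theorem mul_appTop_gen : μ[Red.GaZ].left.appTop (coIso.inv gen.{u}) =
    (pullback.fst Red.GaZ.hom Red.GaZ.hom).appTop (coIso.inv gen) +
      (pullback.snd Red.GaZ.hom Red.GaZ.hom).appTop (coIso.inv gen) := by
  let CC : Type u := TensorProduct (ULift.{u} ℤ) Co.{u} Co.{u}
  let iL : Co.{u} →+* CC := Algebra.TensorProduct.includeLeftRingHom
  let iR : Co.{u} →+* CC :=
    ((Algebra.TensorProduct.includeRight (R := ULift.{u} ℤ) (A := Co.{u}) (B := Co.{u}) :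
      Co.{u} →ₐ[ULift.{u} ℤ] CC) : Co.{u} →+* CC)
  let fC : Spec (CommRingCat.of Co.{u}) ⟶ baseZ.{u} :=
    Spec.map (CommRingCat.ofHom (algebraMap (ULift.{u} ℤ) Co.{u}))
  let psi := pullbackSpecIso (ULift.{u} ℤ) Co.{u} Co.{u}
  have hfst : pullback.fst fC fC = psi.hom ≫ Spec.map (CommRingCat.ofHom (R := Co.{u}) (S := CC) iL) := by
    rw [← pullbackSpecIso_inv_fst, Iso.hom_inv_id_assoc]
  have hsnd : pullback.snd fC fC = psi.hom ≫ Spec.map (CommRingCat.ofHom (R := Co.{u}) (S := CC) iR) := by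
    rw [← pullbackSpecIso_inv_snd, Iso.hom_inv_id_assoc]
  have hc : (CommRingCat.ofHom (R := Co.{u}) (S := CC) (Bialgebra.comulAlgHom (ULift.{u} ℤ) Co.{u}).toRingHom) gen.{u} =
      (CommRingCat.ofHom (R := Co.{u}) (S := CC) iL) gen.{u} +
        (CommRingCat.ofHom (R := Co.{u}) (S := CC) iR) gen.{u} := by
    change Coalgebra.comul (R := ULift.{u} ℤ) gen.{u} = _
    rw [SymmetricAlgebra.comul_ι]
    rfl
  change (psi.hom ≫ Spec.map (CommRingCat.ofHom (R := Co.{u}) (S := CC) (Bialgebra.comulAlgHom (ULift.{u} ℤ) Co.{u}).toRingHom)).appTop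
      (coIso.inv gen) =
    (pullback.fst fC fC).appTop (coIso.inv gen) + (pullback.snd fC fC).appTop (coIso.inv gen)
  rw [hfst, hsnd, appTop_comp_apply, appTop_comp_apply, appTop_comp_apply,
    specMap_appTop_coIso_inv, specMap_appTop_coIso_inv, specMap_appTop_coIso_inv, hc, map_add, map_add]

theorem gaFn_mul (t t' : T ⟶ Red.Ga S) : Red.gaFn (t * t') = Red.gaFn t + Red.gaFn t' := by
  have e1 : Red.gaFn (t * t') = (pairPt t t').appTop (μ[Red.GaZ].left.appTop (coIso.inv gen)) := by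
    change (specPt (t * t')).appTop (coIso.inv gen) = _
    rw [specPt_mul]
    exact appTop_comp_apply _ _ _
  rw [e1]
  erw [mul_appTop_gen]
  refine (map_add (pairPt t t').appTop.hom _ _).trans ?_
  exact congrArg₂ (· + ·)
    ((appTop_comp_apply _ _ _).symm.trans
      (congrArg (fun m : T.left ⟶ Spec (CommRingCat.of Co.{u}) => m.appTop (coIso.inv gen.{u})) (pairPt_fst t t')))
    ((appTop_comp_apply _ _ _).symm.trans
      (congrArg (fun m : T.left ⟶ Spec (CommRingCat.of Co.{u}) => m.appTop (coIso.inv gen.{u})) (pairPt_snd t t')))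

theorem gaFn_one : Red.gaFn (1 : T ⟶ Red.Ga S) = 0 := by
  have h := gaFn_mul (1 : T ⟶ Red.Ga S) 1
  rw [show (1 : T ⟶ Red.Ga S) * (1 : T ⟶ Red.Ga S) = 1 from _root_.one_mul (1 : T ⟶ Red.Ga S)] at h
  exact left_eq_add.mp h

end Groth.Agent.Lib.GaPts
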