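import Groth.Agent.Lib.GammaFilCongr

/-!
Divisibility of `γ^p (x · γ^d n)` by `γ^d n` for an element `n` with `γ^j n = 0`, `j > d`.
-/

namespace Groth.Agent.GammaD

open MvPolynomial Finset LambdaRing Groth.Agent.AdamsSp Groth.Agent.GammaN Groth.Agent.GammaM
  Groth.Agent.GammaV Groth.Agent.GammaU

universe u v w

section Lines

variable {ι : Type w}

/-- The Adams operations of a polynomial ring generated by line elements. -/
noncomputable def psiL (k : ℕ) : MvPolynomial ι ℚ →+ MvPolynomial ι ℚ :=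
  if k = 0 then 0 else (expand k : MvPolynomial ι ℚ →ₐ[ℚ] _).toAddMonoidHom

lemma psiL_apply {k : ℕ} (hk : 1 ≤ k) (z : MvPolynomial ι ℚ) : psiL k z = expand k z := by
  rw [psiL, if_neg (by omega)]
  rfl

lemma psiL_one : (psiL 1 : MvPolynomial ι ℚ →+ MvPolynomial ι ℚ) = AddMonoidHom.id _ := by
  refine AddMonoidHom.ext fun z => ?_
  rw [psiL_apply le_rfl, expand_one]
  rfl

noncomputable local instance instOpsL : LambdaOps (MvPolynomial ι ℚ) := opsOfAdams psiL psiL_one

lemma adams_L {k : ℕ} (hk : 1 ≤ k) (z : MvPolynomial ι ℚ) : adamsOp k z = expand k z := by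
  rw [← psiL_apply hk]
  exact adamsOp_opsOfAdams psiL psiL_one k hk z

lemma isSpecial_L : IsSpecial (MvPolynomial ι ℚ) := by
  refine isSpecial (fun k hk => ?_) (fun k hk x y => ?_) (fun k k' hk hk' x => ?_)
  · rw [adams_L hk, map_one]
  · rw [adams_L hk, adams_L hk, adams_L hk, map_mul]
  · rw [adams_L hk, adams_L hk', adams_L (Nat.mul_pos hk hk'), expand_mul]

lemma qg_line (i : ι) (N : ℕ) (hN : 1 ≤ N) :
    qg ((X i : MvPolynomial ι ℚ) - 1) N = ((X i : MvPolynomial ι ℚ) - 1) ^ N := by
  obtain ⟨M, rfl⟩ : ∃ M, N = M + 1 := ⟨N - 1, by omega⟩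
  have h := add_pow (X i : MvPolynomial ι ℚ) (-1) (M + 1)
  have h0 := add_pow (1 : MvPolynomial ι ℚ) (-1) (M + 1)
  rw [add_neg_cancel, zero_pow M.succ_ne_zero, Finset.sum_range_succ'] at h0
  rw [← sub_eq_add_neg, Finset.sum_range_succ'] at h
  rw [qg, h, ← sub_zero (∑ k ∈ range (M + 1), _ + _), h0, add_sub_add_comm, ← Finset.sum_sub_distrib]
  simp only [pow_zero, Nat.choose_zero_right, sub_self, add_zero]
  refine Finset.sum_bij (fun k _ => k - 1) (fun k hk => by
      simp only [Finset.mem_Icc] at hk; simp only [Finset.mem_range]; omega)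
    (fun a ha b hb h => by simp only [Finset.mem_Icc] at ha hb; omega)
    (fun b hb => ⟨b + 1, by
      simp only [Finset.mem_range] at hb; simp only [Finset.mem_Icc]; omega, rfl⟩) (fun k hk => ?_)
  obtain ⟨j, rfl⟩ : ∃ j, k = j + 1 := ⟨k - 1, by simp only [Finset.mem_Icc] at hk; omega⟩
  rw [Nat.add_sub_cancel, adams_L (by omega), map_sub, map_one, expand_X]
  ring

lemma gamma_line (i : ι) (n : ℕ) :
    gamma n ((X i : MvPolynomial ι ℚ) - 1) = if n = 0 then 1 else if n = 1 then X i - 1 else 0 := by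
  set z : MvPolynomial ι ℚ := X i - 1 with hz
  rw [gamma_eq_E]
  refine E_eq_of_rel (a := fun n => if n = 0 then 1 else if n = 1 then z else 0) (by simp) n fun m _ => ?_
  rw [AdamsSp.Rel, Finset.sum_congr rfl (g := fun j : Fin (m + 1) =>
    (-1 : MvPolynomial ι ℚ) ^ (j : ℕ) * z ^ ((j : ℕ) + 1) *
      (if m - (j : ℕ) = 0 then 1 else if m - (j : ℕ) = 1 then z else 0)) fun j _ => by
    rw [hz, qg_line i _ (by omega)]]
  rcases m with _ | m
  · simp
  · rw [Fin.sum_univ_castSucc, Fin.sum_univ_castSucc, Finset.sum_eq_zero fun j _ => by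
      simp only [Fin.val_castSucc]
      rw [if_neg (by omega), if_neg (by omega), mul_zero]]
    simp only [Fin.val_castSucc, Fin.val_last, Nat.sub_self, show m + 1 - m = 1 by omega, if_pos,
      if_neg (show ¬ (m + 1 + 1 = 1) by omega), if_neg (show ¬ (m + 1 + 1 = 0) by omega),
      if_neg (show ¬ (1 = 0) by omega)]
    ring

lemma gamma_sum_lines (s : Finset ι) (n : ℕ) :
    gamma n (∑ i ∈ s, ((X i : MvPolynomial ι ℚ) - 1)) =
      ∑ t ∈ s.powersetCard n, ∏ i ∈ t, ((X i : MvPolynomial ι ℚ) - 1) := by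
  classical
  induction s using Finset.induction generalizing n with
  | empty =>
    rcases n with _ | n
    · simp [gamma_zero]
    · rw [Finset.sum_empty, GammaF.gamma_zero_elt _ (by omega), Finset.powersetCard_eq_empty.2 (by simp),
        Finset.sum_empty]
  | insert a s ha ih =>
    rw [Finset.sum_insert ha, gamma_add]
    rcases n with _ | n
    · simp [gamma_zero]
    · rw [Finset.sum_range_succ', Finset.sum_range_succ', Finset.sum_eq_zero fun j _ => by
        rw [gamma_line, if_neg (by omega), if_neg (by omega), zero_mul], zero_add, gamma_line, gamma_line,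
        if_neg (by omega), if_pos rfl, if_pos rfl, one_mul, Nat.sub_zero, show n + 1 - (0 + 1) = n by omega,
        ih, ih, Finset.powersetCard_succ_insert ha, Finset.sum_union, Finset.mul_sum, add_comm]
      · rw [Finset.sum_image fun x hx y hy h => ?_]
        · exact congrArg _ (Finset.sum_congr rfl fun t ht => by
            rw [Finset.prod_insert fun h => ha ((Finset.mem_powersetCard.1 ht).1 h)])
        · have hx' : a ∉ x := fun h => ha ((Finset.mem_powersetCard.1 hx).1 h)
          have hy' : a ∉ y := fun h => ha ((Finset.mem_powersetCard.1 hy).1 h)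
          rw [← Finset.erase_insert hx', ← Finset.erase_insert hy', h]
      · rw [Finset.disjoint_left]
        intro t ht ht'
        obtain ⟨w, -, rfl⟩ := Finset.mem_image.1 ht'
        exact ha ((Finset.mem_powersetCard.1 ht).1 (Finset.mem_insert_self _ _))

end Lines

section Natural

variable {S : Type u} {T : Type v} [CommRing S] [CommRing T] (φ : S →+* T)

lemma map_addV (a b : ℕ → S) (n : ℕ) : φ (addV a b n) = addV (φ ∘ a) (φ ∘ b) n := by
  simp [addV, map_sum]

lemma map_zeroV (n : ℕ) : φ (zeroV n) = zeroV n := by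
  simp only [zeroV]; split_ifs <;> simp

lemma map_nsmulV (a : ℕ → S) (k : ℕ) : φ ∘ nsmulV a k = nsmulV (φ ∘ a) k := by
  induction k with
  | zero => funext n; exact map_zeroV φ n
  | succ k ih => funext n; simp [nsmulV, map_addV, ih]

lemma map_sumV (a : ℕ → ℕ → S) (k : ℕ) : φ ∘ sumV a k = sumV (fun j => φ ∘ a j) k := by
  induction k with
  | zero => funext n; exact map_zeroV φ n
  | succ k ih => funext n; simp [sumV, map_addV, ih]

lemma map_aeval' {ι : Type*} (v : ι → S) (p : MvPolynomial ι ℤ) :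
    φ (aeval v p) = aeval (fun i => φ (v i)) p := by
  rw [aeval_def, aeval_def, eval₂_comp_left φ]
  congr 1
  exact RingHom.ext_int _ _

lemma map_compV (a : ℕ → S) (i : ℕ) : φ ∘ compV a i = compV (φ ∘ a) i := by
  funext n
  simp only [Function.comp_apply, compV, map_aeval']

lemma map_gammaV (a : ℕ → S) (i : ℕ) : φ ∘ gammaV a i = gammaV (φ ∘ a) i := by
  rw [gammaV, gammaV, map_sumV]
  simp [map_nsmulV, map_compV]

lemma map_ofGamma (g : ℕ → S) : φ ∘ ofGamma g = ofGamma (φ ∘ g) := by
  funext n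
  induction n using Nat.strong_induction_on with
  | _ n ih =>
    rcases n with _ | m
    · simp [ofGamma]
    · simp only [Function.comp_apply] at ih ⊢
      rw [ofGamma, ofGamma, map_sub, map_sum]
      simp only [Function.comp_apply, map_mul, map_natCast]
      congr 1
      exact Finset.sum_congr rfl fun j _ => by rw [ih _ (by omega)]

lemma map_mulV (a b : ℕ → S) : φ ∘ mulV a b = mulV (φ ∘ a) (φ ∘ b) := by
  funext n
  simp only [Function.comp_apply, mulV, map_aeval']
  congr 2
  funext i
  rcases i with i | i <;> rfl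

lemma map_gammaOf' (a : ℕ → S) (i : ℕ) : φ (gammaOf a i) = gammaOf (φ ∘ a) i := by
  unfold gammaOf
  split_ifs <;> simp [map_sum]

end Natural

section Zero

attribute [local instance] instOpsL

variable {S : Type u} [CommRing S]

/-- Universal vanishing: `λ^k (γ^(i+1) u) = 0` when `γ^(j+1) u = 0` for all `j ≥ e`, `i ≥ e`. -/
lemma gammaV_eq_zero (g : ℕ → S) (e : ℕ) (hg : ∀ j, e ≤ j → g j = 0) (i : ℕ) (hi : e ≤ i) (k : ℕ)
    (hk : 1 ≤ k) : gammaV (ofGamma g) i k = 0 := by
  classical
  let g0 : ℕ → MvPolynomial (Fin e) ℤ := fun j => if h : j < e then X ⟨j, h⟩ else 0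
  let uu : MvPolynomial (Fin e) ℚ := ∑ t : Fin e, ((X t : MvPolynomial (Fin e) ℚ) - 1)
  let ev : MvPolynomial (Fin e) ℤ →+* MvPolynomial (Fin e) ℚ :=
    eval₂Hom (Int.castRingHom _) fun j => gamma ((j : ℕ) + 1) uu
  let shift : MvPolynomial (Fin e) ℚ →ₐ[ℚ] MvPolynomial (Fin e) ℚ := aeval fun t => X t - 1
  have hγ : ∀ j : ℕ, gamma j uu = shift (esymm (Fin e) ℚ j) := fun j => by
    rw [gamma_sum_lines, esymm, map_sum]
    exact Finset.sum_congr rfl fun t _ => by simp [shift, map_prod]
  have hev : Function.Injective ev := by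
    have h1 : Function.Injective shift := by
      intro a b hab
      have hcomp : (aeval fun t : Fin e => (X t : MvPolynomial (Fin e) ℚ) + 1).comp shift =
          AlgHom.id ℚ _ := by
        refine MvPolynomial.algHom_ext fun t => ?_
        simp [shift]
      have := congrArg (aeval fun t : Fin e => (X t : MvPolynomial (Fin e) ℚ) + 1) hab
      rwa [← AlgHom.comp_apply, ← AlgHom.comp_apply, hcomp] at this
    have h2 := esymmAlgHom_injective (σ := Fin e) ℚ (n := e) (by simp)
    have h3 : ev = (shift.toRingHom.comp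
        ((Subalgebra.val _).comp (esymmAlgHom (Fin e) ℚ e)).toRingHom).comp
          (MvPolynomial.map (Int.castRingHom ℚ)) :=
      MvPolynomial.ringHom_ext (fun r => by simp [ev]) fun j => by
        simp [ev, hγ, esymmAlgHom_apply]
    rw [h3]
    exact (h1.comp (Subtype.val_injective.comp h2)).comp
      (MvPolynomial.map_injective _ Int.cast_injective)
  have hg0 : ∀ n, ev (g0 n) = gamma (n + 1) uu := fun n => by
    simp only [g0]
    split_ifs with h
    · simp [ev]
    · rw [map_zero, gamma_sum_lines, Finset.powersetCard_eq_empty.2 (by simp; omega), Finset.sum_empty]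
  have h0 : gammaV (ofGamma g0) i k = 0 := by
    apply hev
    rw [is_gammaV isSpecial_L (is_ofGamma hg0) i k, map_zero, ← hg0 i]
    simp only [g0, dif_neg (show ¬ i < e by omega), map_zero]
    rw [lam_zero_elt, if_neg (by omega)]
  let φ : MvPolynomial (Fin e) ℤ →+* S := eval₂Hom (Int.castRingHom S) fun j => g j
  have hφ : φ ∘ g0 = g := by
    funext n
    simp only [Function.comp_apply, g0]
    split_ifs with h
    · simp [φ]
    · rw [map_zero, hg n (by omega)]
  have := congrArg φ h0
  rwa [map_zero, show φ (gammaV (ofGamma g0) i k) = (φ ∘ gammaV (ofGamma g0) i) k from rfl,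
    map_gammaV, map_ofGamma, hφ] at this

lemma mulV_eq_zero (a b : ℕ → S) (h : (∀ k, 1 ≤ k → a k = 0) ∨ ∀ k, 1 ≤ k → b k = 0) (n : ℕ)
    (hn : 1 ≤ n) : mulV a b n = 0 := by
  have hw := (exists_isMulPoly n).choose_spec.2
  rw [mulV, aeval_def, eval₂_eq]
  refine Finset.sum_eq_zero fun d hd => ?_
  have hd' := hw (mem_support_iff.1 hd)
  suffices ∃ s ∈ d.support, (Sum.elim (fun k : Fin n => a ((k : ℕ) + 1))
      (fun k : Fin n => b ((k : ℕ) + 1))) s = 0 by
    obtain ⟨s, hs, hs0⟩ := this
    rw [Finset.prod_eq_zero hs (by rw [hs0, zero_pow (Finsupp.mem_support_iff.1 hs)]), mul_zero]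
  by_contra hne
  push Not at hne
  rw [Finsupp.weight_apply, Finsupp.sum] at hd'
  rcases h with ha | hb
  · have := congrArg Prod.fst hd'
    rw [Prod.fst_sum, Finset.sum_eq_zero fun s hs => ?_] at this
    · simp only at this; omega
    · rcases s with s | s
      · exact absurd (ha _ (by omega)) (hne _ hs)
      · simp
  · have := congrArg Prod.snd hd'
    rw [Prod.snd_sum, Finset.sum_eq_zero fun s hs => ?_] at this
    · simp only at this; omega
    · rcases s with s | s
      · simp
      · exact absurd (hb _ (by omega)) (hne _ hs)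

end Zero

section Dvd

variable {R : Type w} {B : Type v} [CommRing B]

/-- Kill the variables `(r₀, j)`, `d - 1 ≤ j`. -/
noncomputable def killHom (r₀ : R) (d : ℕ) :
    MvPolynomial (R × ℕ) (MvPolynomial ℕ ℤ) →ₐ[MvPolynomial ℕ ℤ] MvPolynomial (R × ℕ) (MvPolynomial ℕ ℤ) :=
  open scoped Classical in
  aeval fun p : R × ℕ => if p.1 = r₀ ∧ d - 1 ≤ p.2 then 0
    else (X p : MvPolynomial (R × ℕ) (MvPolynomial ℕ ℤ))

open scoped Classical in
lemma evK_mem_mul (b : ℕ → B) (g : R × ℕ → B) (D : MvPolynomial (R × ℕ) (MvPolynomial ℕ ℤ))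
    (r₀ : R) (d N : ℕ) (hd : 1 ≤ d) (hg : ∀ j, d ≤ j → g (r₀, j) = 0)
    (hkill : killHom r₀ d D = 0)
    (hw : ∀ μ : R × ℕ →₀ ℕ, wt μ < N → eval₂ (Int.castRingHom B) b (D.coeff μ) = 0) :
    evK b g D ∈ Ideal.span {g (r₀, d - 1)} * Wid g (N - d) := by
  let P : R × ℕ → Prop := fun p => p.1 = r₀ ∧ d - 1 ≤ p.2
  set σ := killHom r₀ d with hσ
  have hsup : ∀ μ ∈ D.support, ∃ p ∈ μ.support, P p := by
    intro μ hμ
    by_contra hne
    push Not at hne
    refine mem_support_iff.1 hμ ?_
    have hmono : ∀ (ν : R × ℕ →₀ ℕ) (c : MvPolynomial ℕ ℤ), σ (monomial ν c) =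
        if ∀ p ∈ ν.support, ¬ P p then monomial ν c else 0 := by
      intro ν c
      rw [hσ, killHom, aeval_monomial, Finsupp.prod]
      split_ifs with hν
      · rw [Finset.prod_congr rfl fun p hp => by rw [if_neg (hν p hp)]]
        rw [monomial_eq, Finsupp.prod, MvPolynomial.algebraMap_eq]
      · push Not at hν
        obtain ⟨p, hp, hP⟩ := hν
        rw [Finset.prod_eq_zero hp (by rw [if_pos hP, zero_pow (Finsupp.mem_support_iff.1 hp)]), mul_zero]
    have h0 := congrArg (coeff μ) hkill
    rw [← support_sum_monomial_coeff D, map_sum, coeff_sum] at h0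
    simp only [hmono] at h0
    rw [Finset.sum_eq_single μ, if_pos hne, coeff_monomial, if_pos rfl, coeff_zero] at h0
    · exact h0
    · intro ν _ hν
      split_ifs
      · rw [coeff_monomial, if_neg hν]
      · rw [coeff_zero]
    · exact fun h => absurd hμ h
  rw [← D.support_sum_monomial_coeff, map_sum]
  refine sum_mem fun μ hμ => ?_
  rw [evK, eval₂Hom_monomial]
  rcases Nat.lt_or_ge (wt μ) N with hμN | hμN
  · rw [coe_eval₂Hom, hw μ hμN, zero_mul]
    exact zero_mem _
  refine Ideal.mul_mem_left _ _ ?_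
  obtain ⟨⟨r, j⟩, hp, hP₁, hP₂⟩ := hsup μ hμ
  simp only at hP₁ hP₂
  subst hP₁
  rcases Nat.lt_or_ge j d with hj | hj
  · obtain rfl : j = d - 1 := by omega
    have hle : Finsupp.single (r, d - 1) 1 ≤ μ :=
      Finsupp.single_le_iff.2 (Nat.one_le_iff_ne_zero.2 (Finsupp.mem_support_iff.1 hp))
    obtain ⟨ν, rfl⟩ : ∃ ν, μ = Finsupp.single (r, d - 1) 1 + ν :=
      ⟨μ - Finsupp.single (r, d - 1) 1, (add_tsub_cancel_of_le hle).symm⟩
    rw [Finsupp.prod_add_index' (by simp) (fun _ _ _ => pow_add _ _ _),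
      Finsupp.prod_single_index (by simp), pow_one]
    refine Ideal.mul_mem_mul (Ideal.mem_span_singleton_self _) (Ideal.subset_span ⟨ν, ?_, rfl⟩)
    rw [wt_add, wt_single] at hμN
    change N ≤ 1 * (d - 1 + 1) + wt ν at hμN
    omega
  · rw [Finsupp.prod, Finset.prod_eq_zero hp (by
      rw [hg j hj, zero_pow (Finsupp.mem_support_iff.1 hp)])]
    exact zero_mem _

variable [LambdaOps B]

theorem main {K : Type u} [CommRing K] [BinomialRing K] [Algebra K B] (hB : IsSpecial B)
    (hlam : ∀ (n : ℕ) (κ : K), LambdaOps.lam n (algebraMap K B κ) = algebraMap K B (Ring.choose κ n))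
    (x : R → B) (r₀ : R) (d : ℕ) (hd : 1 ≤ d) (hx : ∀ j, d ≤ j → gamma (j + 1) (x r₀) = 0)
    (κ : K) (l : List (R × ℕ)) (i : ℕ) (hi : 1 ≤ i) :
    gamma i (algebraMap K B κ * (((r₀, d - 1) :: l).map fun p => gamma (p.2 + 1) (x p.1)).prod) ∈
        Ideal.span {gamma (d - 1 + 1) (x r₀)} *
          Wid (fun p : R × ℕ => gamma (p.2 + 1) (x p.1))
            (max i (((r₀, d - 1) :: l).map fun p => p.2 + 1).sum - d) ∧
      ((((r₀, d - 1) :: l).map fun p => p.2 + 1).sum = i →
        gamma i (algebraMap K B κ * (((r₀, d - 1) :: l).map fun p => gamma (p.2 + 1) (x p.1)).prod) -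
            (-1) ^ (i - 1) * ((i - 1).factorial : B) *
              (algebraMap K B κ * (((r₀, d - 1) :: l).map fun p => gamma (p.2 + 1) (x p.1)).prod) ∈
          Ideal.span {gamma (d - 1 + 1) (x r₀)} *
            Wid (fun p : R × ℕ => gamma (p.2 + 1) (x p.1)) (i + 1 - d)) := by
  classical
  set L := (r₀, d - 1) :: l with hL
  set m := (L.map fun p => p.2 + 1).sum with hm
  have hl : 1 ≤ m := by rw [hm, hL, List.map_cons, List.sum_cons]; omega
  let b : ℕ → B := fun n => algebraMap K B (Ring.choose κ n)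
  have hT := is_term hB b (algebraMap K B κ) (fun n => (hlam n κ).symm) x L
  have hG := fun c : ℕ => is_term isSpecial_model (fun n => LambdaOps.lam n (c : MvPowerSeries (R × ℕ) ℚ))
    (c : MvPowerSeries (R × ℕ) ℚ) (fun _ => rfl) xgen L
  have hge : ∀ c : ℕ, Ge m ((c : MvPowerSeries (R × ℕ) ℚ) *
      (L.map fun p => gamma (p.2 + 1) (xgen p.1)).prod) := by
    intro c
    have h1 : ∀ L : List (R × ℕ), Ge (L.map fun p => p.2 + 1).sum
        ((L.map fun p => gamma (p.2 + 1) (xgen p.1)).prod) := by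
      intro L
      induction L with
      | nil => exact ge_zero _
      | cons p L ih =>
        rw [List.map_cons, List.sum_cons, List.map_cons, List.prod_cons]
        exact ((ge_gamma (ge_one_xgen p.1) (ge_zero _) _ (by omega)).mono (le_max_left _ _)).mul ih
    simpa [hm] using (ge_zero (c : MvPowerSeries (R × ℕ) ℚ)).mul (h1 L)
  have hcoef : ∀ (D : MvPolynomial (R × ℕ) (MvPolynomial ℕ ℤ)) (N : ℕ),
      (∀ c : ℕ, Ge N (theta (spec c D))) → ∀ μ : R × ℕ →₀ ℕ, wt μ < N →
        eval₂ (Int.castRingHom B) b (D.coeff μ) = 0 := by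
    intro D N hD μ hμ
    have h0 : eval₂ (Int.castRingHom K) (fun n => Ring.choose κ n) (D.coeff μ) = 0 :=
      eval_choose_eq_zero _ (fun c => by
        have := coeff_eq_zero_of_ge _ N (hD c) μ hμ
        rwa [spec, coeff_map] at this) κ
    have h1 := congrArg (algebraMap K B) h0
    rw [map_zero, eval₂_comp_left] at h1
    rw [← h1]
    congr 1
    exact RingHom.ext_int _ _
  let σ := killHom r₀ d
  have hkillV : ∀ k, 1 ≤ k → σ (mulV kV (lV L) k) = 0 := by
    intro k hk
    change (σ.toRingHom ∘ mulV kV (lV L)) k = 0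
    rw [map_mulV]
    refine mulV_eq_zero _ _ (Or.inr fun j hj => ?_) k hk
    rw [hL, lV, map_mulV]
    refine mulV_eq_zero _ _ (Or.inl fun j' hj' => ?_) j hj
    rw [map_gammaV, xV, map_ofGamma]
    refine gammaV_eq_zero _ (d - 1) (fun q hq => ?_) _ le_rfl j' hj'
    show σ (X (r₀, q)) = 0
    simp only [σ, killHom, aeval_X]
    rw [if_pos ⟨trivial, hq⟩]
  let D := gammaOf (mulV kV (lV L)) i
  have hkillD : σ D = 0 := by
    change σ.toRingHom D = 0
    rw [map_gammaOf', gammaOf, if_neg (by omega)]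
    refine Finset.sum_eq_zero fun j _ => ?_
    have h := hkillV (j + 1) (by omega)
    simp only [Function.comp_apply, AlgHom.toRingHom_eq_coe, RingHom.coe_coe, h, mul_zero]
  refine ⟨?_, fun hmi => ?_⟩
  · rw [← map_gammaOf hT i]
    refine evK_mem_mul b (fun p => gamma (p.2 + 1) (x p.1)) D r₀ d (max i m) hd hx hkillD
      (hcoef D (max i m) fun c => ?_)
    rw [theta_spec, map_gammaOf (hG c) i]
    exact ge_gamma ((hge c).mono hl) (hge c) i hi
  · let Z : MvPolynomial (R × ℕ) (MvPolynomial ℕ ℤ) := mulV kV (lV L) 1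
    let D' := D - (-1) ^ (i - 1) * ((i - 1).factorial : MvPolynomial (R × ℕ) (MvPolynomial ℕ ℤ)) * Z
    have e : evK b (fun p => gamma (p.2 + 1) (x p.1)) D' =
        gamma i (algebraMap K B κ * (L.map fun p => gamma (p.2 + 1) (x p.1)).prod) -
          (-1) ^ (i - 1) * ((i - 1).factorial : B) *
            (algebraMap K B κ * (L.map fun p => gamma (p.2 + 1) (x p.1)).prod) := by
      simp only [D', D, Z, map_sub, map_mul, map_pow, map_neg, map_one, map_natCast, map_gammaOf hT i,
        hT 1, LambdaOps.lam_one]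
    rw [← e]
    refine evK_mem_mul b (fun p => gamma (p.2 + 1) (x p.1)) D' r₀ d (i + 1) hd hx ?_
      (hcoef D' (i + 1) fun c => ?_)
    · change σ D' = 0
      simp only [D', Z, map_sub, map_mul, hkillD, hkillV 1 le_rfl, mul_zero, sub_zero]
    rw [theta_spec]
    simp only [D', D, Z, map_sub, map_mul, map_pow, map_neg, map_one, map_natCast, map_gammaOf (hG c) i,
      hG c 1, LambdaOps.lam_one]
    have := gamma_congr (by omega : 1 ≤ i) ((hge c).mono hmi.ge)
    convert this using 3
    simp

end Dvd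

section Rank

variable {A : Type v} [CommRing A] [LambdaOps A]

omit [LambdaOps A] in
lemma coeff_one_sub_X_pow (d n : ℕ) (hn : d ≤ n) :
    PowerSeries.coeff n ((1 - PowerSeries.X : PowerSeries A) ^ d) = if n = d then (-1) ^ d else 0 := by
  induction d generalizing n with
  | zero => simp [PowerSeries.coeff_one]
  | succ d ih =>
    obtain ⟨m, rfl⟩ : ∃ m, n = m + 1 := ⟨n - 1, by omega⟩
    rw [pow_succ', sub_mul, one_mul, map_sub, PowerSeries.coeff_succ_X_mul, ih _ (by omega),
      ih _ (by omega), if_neg (by omega)]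
    by_cases h : m = d
    · subst h; simp [pow_succ]
    · simp [h]

lemma gamma_rank (hA : IsSpecial A) (N : A) (d : ℕ) (hN : ∀ k, d < k → LambdaOps.lam k N = 0) :
    (∀ j, d < j → gamma j (N - (d : A)) = 0) ∧
      gamma d (N - (d : A)) = (-1) ^ d * ∑ k ∈ range (d + 1), (-1) ^ k * LambdaOps.lam k N := by
  have hmul : ∀ x y : A, gammaSeries (x + y) = gammaSeries x * gammaSeries y := fun x y => by
    ext n
    rw [coeff_gammaSeries, gamma_add, PowerSeries.coeff_mul,
      Finset.Nat.sum_antidiagonal_eq_sum_range_succ_mk]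
    simp only [coeff_gammaSeries]
  have h1 : gammaSeries (1 : A) = PowerSeries.mk 1 := by
    ext n
    rw [coeff_gammaSeries, PowerSeries.coeff_mk]
    rcases n with _ | n
    · exact gamma_zero _
    · rw [GammaV.gamma_succ, Finset.sum_range_succ', Finset.sum_eq_zero fun j _ => by
        rw [hA.lam_one_eq_zero _ (by omega), mul_zero]]
      simp [LambdaOps.lam_one]
  have hc : ∀ c : ℕ, gammaSeries (c : A) = PowerSeries.mk 1 ^ c := by
    intro c
    induction c with
    | zero =>
      ext n
      rw [Nat.cast_zero, coeff_gammaSeries, pow_zero, PowerSeries.coeff_one]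
      rcases n with _ | n
      · simp [gamma_zero]
      · rw [GammaF.gamma_zero_elt _ (by omega), if_neg (by omega)]
    | succ c ih => rw [Nat.cast_succ, hmul, ih, h1, pow_succ]
  have hN' : gammaSeries N =
      ∑ k ∈ range (d + 1), PowerSeries.C (LambdaOps.lam k N) * sig A ^ k := by
    ext n
    rw [map_sum]
    have h := coeff_subst_sig (lamSeries N) n (n + d + 1) (by omega) 0
    simp only [pow_zero, mul_one] at h
    rw [gammaSeries, h, ← Finset.sum_subset (s₁ := range (d + 1))
      (s₂ := range (n + d + 1)) (by intro a; simp; omega) fun k _ hk => ?_]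
    · exact Finset.sum_congr rfl fun k _ => by rw [PowerSeries.coeff_C_mul, lamSeries, PowerSeries.coeff_mk]
    · rw [lamSeries, PowerSeries.coeff_mk, hN k (by simp at hk; omega), zero_mul]
  have hinv : ∀ k, (PowerSeries.mk 1 : PowerSeries A) ^ k * (1 - PowerSeries.X) ^ k = 1 := fun k => by
    rw [← mul_pow, PowerSeries.mk_one_mul_one_sub_eq_one, one_pow]
  have hser : gammaSeries (N - (d : A)) = ∑ k ∈ range (d + 1),
      PowerSeries.C (LambdaOps.lam k N) * (PowerSeries.X ^ k * (1 - PowerSeries.X) ^ (d - k)) := by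
    have h2 := hmul (N - (d : A)) (d : A)
    rw [sub_add_cancel, hc] at h2
    have h3 := congrArg (· * (1 - PowerSeries.X) ^ d) h2.symm
    simp only [mul_assoc, hinv, mul_one] at h3
    rw [h3, hN', Finset.sum_mul]
    refine Finset.sum_congr rfl fun k hk => ?_
    have hkd : k ≤ d := by simp only [Finset.mem_range] at hk; omega
    rw [show (1 - PowerSeries.X : PowerSeries A) ^ d =
      (1 - PowerSeries.X) ^ k * (1 - PowerSeries.X) ^ (d - k) by rw [← pow_add]; congr 1; omega,
      sig, mul_pow, show ∀ a b c e f : PowerSeries A, a * (b * c) * (e * f) = a * (b * f) * (c * e) by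
        intros; ring, hinv, mul_one]
  refine ⟨fun j hj => ?_, ?_⟩
  · rw [← coeff_gammaSeries, hser, map_sum]
    refine Finset.sum_eq_zero fun k hk => ?_
    simp only [Finset.mem_range] at hk
    rw [PowerSeries.coeff_C_mul, PowerSeries.coeff_X_pow_mul', if_pos (by omega),
      coeff_one_sub_X_pow _ _ (by omega), if_neg (by omega), mul_zero]
  · rw [← coeff_gammaSeries, hser, map_sum, Finset.mul_sum]
    refine Finset.sum_congr rfl fun k hk => ?_
    simp only [Finset.mem_range] at hk
    rw [PowerSeries.coeff_C_mul, PowerSeries.coeff_X_pow_mul', if_pos (by omega),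
      coeff_one_sub_X_pow _ _ le_rfl, if_pos rfl, show (-1 : A) ^ d = (-1) ^ (d - k) * (-1) ^ k by
        rw [← pow_add]; congr 1; omega, mul_comm, mul_assoc, ← mul_assoc ((-1 : A) ^ k), ← pow_add,
      ← two_mul, pow_mul, neg_one_sq, one_pow, one_mul]

end Rank

section Fil

variable {A : Type v} [CommRing A] [LambdaOps A] {K : Type u} [CommRing K] [LambdaOps K]
  [BinomialRing K] [Algebra K A] (ε : A →ₐ[K] K)

/-- The γ-operations of `w · γ^d n` are multiples of `γ^d n`, the cofactor having the expected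
filtration degree, with known leading term. -/
theorem gamma_mul_fil (hKb : IsBinomial K) (hA : IsSpecial A) (hε : IsAugLambdaAlg K A ε) (d : ℕ)
    (hd : 1 ≤ d) (n : A) (hn : ε n = 0) (hn' : ∀ j, d < j → gamma j n = 0) (m : ℕ) (w : A)
    (hw : w ∈ gammaFil (ε : A →+* K) m) :
    (∀ j, 1 ≤ j → gamma j (w * gamma d n) ∈
        Ideal.span {gamma d n} * gammaFil (ε : A →+* K) (max j (d + m) - d)) ∧
      gamma (d + m) (w * gamma d n) -
          (-1 : A) ^ (d + m - 1) * ((d + m - 1).factorial : A) * (w * gamma d n) ∈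
        Ideal.span {gamma d n} * gammaFil (ε : A →+* K) (m + 1) := by
  set E := Ideal.span {gamma d n}
  let r₀ : {a : A // (ε : A →+* K) a = 0} := ⟨n, hn⟩
  have hW := fun N => Ideal.mul_mono_right (I := E)
    (GammaF.Wid_le_fil (ε : A →+* K) (fun a : {a : A // (ε : A →+* K) a = 0} => (a : A)) (fun a => a.2) N)
  have hanti : ∀ a b, a ≤ b → E * gammaFil (ε : A →+* K) b ≤ E * gammaFil (ε : A →+* K) a :=
    fun a b h => Ideal.mul_mono_right (GammaF.fil_anti _ h)
  have hd1 : d - 1 + 1 = d := by omega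
  have hmain := fun κ l => main hA (GammaF.lam_algebraMap ε hKb hε)
    (fun a : {a : A // (ε : A →+* K) a = 0} => (a : A)) r₀ d hd (fun j hj => hn' _ (by omega)) κ l
  have hW' : ∀ N, Ideal.span {gamma (d - 1 + 1) (r₀ : A)} *
      Wid (fun p : {a : A // (ε : A →+* K) a = 0} × ℕ => gamma (p.2 + 1) (p.1 : A)) N ≤
        E * gammaFil (ε : A →+* K) N := fun N => by
    rw [hd1]
    exact hW N
  have hz' := GammaF.fil_le_closure ε m hw
  clear hw
  induction hz' using AddSubmonoid.closure_induction with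
  | mem z hz =>
    obtain ⟨κ, l, hl, rfl⟩ := hz
    have hprod : algebraMap K A κ * (l.map fun p => gamma (p.2 + 1) (p.1 : A)).prod * gamma d n =
        algebraMap K A κ * (((r₀, d - 1) :: l).map fun p => gamma (p.2 + 1) (p.1 : A)).prod := by
      rw [List.map_cons, List.prod_cons, hd1, mul_assoc, mul_comm (List.prod _)]
    have hsum : (((r₀, d - 1) :: l).map fun p => p.2 + 1).sum = d + (l.map fun p => p.2 + 1).sum := by
      rw [List.map_cons, List.sum_cons, hd1]
    have h1 := fun j hj => hW' _ (hmain κ l j hj).1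
    simp only [hsum] at h1
    rw [hprod]
    refine ⟨fun j hj => hanti _ _ (by omega) (h1 j hj), ?_⟩
    rcases eq_or_lt_of_le hl with he | he
    · have h2 := hW' _ ((hmain κ l (d + m) (by omega)).2 (by rw [hsum, he]))
      exact hanti (m + 1) _ (by omega) h2
    · refine sub_mem (hanti (m + 1) _ (by omega) (h1 (d + m) (by omega))) (Ideal.mul_mem_left _ _ ?_)
      have hfil : algebraMap K A κ * (l.map fun p => gamma (p.2 + 1) (p.1 : A)).prod ∈
          gammaFil (ε : A →+* K) (m + 1) := GammaF.gens_subset_fil ε (m + 1) ⟨κ, l, he, rfl⟩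
      rw [← hprod, mul_comm (_ * _) (gamma d n)]
      exact Ideal.mul_mem_mul (Ideal.mem_span_singleton_self (gamma d n)) hfil
  | zero =>
    refine ⟨fun j hj => ?_, ?_⟩
    · rw [zero_mul, GammaF.gamma_zero_elt j hj]; exact zero_mem _
    · rw [zero_mul, GammaF.gamma_zero_elt _ (by omega), mul_zero, sub_zero]; exact zero_mem _
  | add x y _ _ ihx ihy =>
    obtain ⟨hx1, hx2⟩ := ihx
    obtain ⟨hy1, hy2⟩ := ihy
    have hE : ∀ {z a}, z ∈ E * gammaFil (ε : A →+* K) a → z ∈ gammaFil (ε : A →+* K) (d + a) := by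
      intro z a hz
      refine (Ideal.mul_le.2 fun e he f hf => ?_) hz
      obtain ⟨c, rfl⟩ := Ideal.mem_span_singleton.1 he
      rw [mul_assoc]
      exact GammaF.fil_mul _ (GammaF.gamma_mem_fil _ hn d) (Ideal.mul_mem_left _ _ hf)
    have hEmul : ∀ {z z' a b}, z ∈ E * gammaFil (ε : A →+* K) a → z' ∈ gammaFil (ε : A →+* K) b →
        z * z' ∈ E * gammaFil (ε : A →+* K) (a + b) := by
      intro z z' a b hz hz'
      obtain ⟨f, hf, rfl⟩ := Ideal.mem_span_singleton_mul.1 hz
      rw [mul_assoc]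
      exact Ideal.mul_mem_mul (Ideal.mem_span_singleton_self _) (GammaF.fil_mul _ hf hz')
    refine ⟨fun j hj => ?_, ?_⟩
    · rw [add_mul, gamma_add]
      refine sum_mem fun k hk => ?_
      have hk' := Finset.mem_range.1 hk
      rcases Nat.eq_zero_or_pos k with rfl | hk0
      · rw [gamma_zero, one_mul, Nat.sub_zero]
        exact hy1 j hj
      rcases Nat.eq_zero_or_pos (j - k) with h | h
      · rw [h, gamma_zero, mul_one]
        exact hanti _ _ (by omega) (hx1 k hk0)
      · exact hanti _ _ (by omega) (hEmul (hx1 k hk0) (hE (hy1 (j - k) h)))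
    · obtain ⟨q, hq⟩ : ∃ q, d + m = q + 1 := ⟨d + m - 1, by omega⟩
      have hmid : ∑ k ∈ range q, gamma (k + 1) (x * gamma d n) * gamma (q + 1 - (k + 1)) (y * gamma d n) ∈
          E * gammaFil (ε : A →+* K) (m + 1) := by
        refine sum_mem fun k hk => ?_
        have hk' := Finset.mem_range.1 hk
        exact hanti _ _ (by omega) (hEmul (hx1 (k + 1) (by omega)) (hE (hy1 (q + 1 - (k + 1)) (by omega))))
      rw [hq] at hx2 hy2 ⊢
      rw [add_mul, gamma_add, Finset.sum_range_succ, Finset.sum_range_succ', Nat.sub_self, Nat.sub_zero,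
        gamma_zero, gamma_zero, mul_one, one_mul]
      have := add_mem (add_mem hmid hx2) hy2
      convert this using 1
      ring

omit [LambdaOps A] in
/-- Cancelling `γ^d n`. -/
theorem cofactor {E : A} (hnzd : E ∈ nonZeroDivisors A) {q : A} {I : Ideal A}
    (h : E * q ∈ Ideal.span {E} * I) : q ∈ I := by
  obtain ⟨f, hf, h'⟩ := Ideal.mem_span_singleton_mul.1 h
  rwa [← mul_cancel_left_mem_nonZeroDivisors hnzd |>.1 h']

end Fil

end Groth.Agent.GammaD
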