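import Groth.Agent.Lib.GammaUniv

/-!
Extension of identities from the model to all special λ-rings; composition of Adams operations.
-/

namespace Groth.Agent.GammaX

open MvPolynomial Finset LambdaRing Groth.Agent.AdamsSp Groth.Agent.GammaN Groth.Agent.GammaM
  Groth.Agent.GammaV Groth.Agent.GammaU

universe u v

variable {R : Type u}

/-- Evaluation of a universal expression at elements of a λ-ring. -/
noncomputable def evG {B : Type v} [CommRing B] [LambdaOps B] (x : R → B) :
    MvPolynomial (R × ℕ) ℤ →+* B :=
  eval₂Hom (Int.castRingHom B) fun p => gamma (p.2 + 1) (x p.1)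

theorem ext_model {p q : MvPolynomial (R × ℕ) ℤ} (h : theta p = theta q) : p = q := by
  ext μ
  have := coeff_eq_zero_of_ge (p - q) (wt μ + 1) (by rw [map_sub, h, sub_self]; exact ge_zero' _) μ
    (by omega)
  rwa [coeff_sub, sub_eq_zero] at this

/-- The vector of `-f`. -/
def negV {S : Type u} [CommRing S] (a : ℕ → S) : ℕ → S
  | 0 => 1
  | n + 1 => -∑ j : Fin (n + 1), a ((j : ℕ) + 1) * negV a (n - j)
decreasing_by omega

lemma is_negV {S : Type u} [CommRing S] {B : Type v} [CommRing B] [LambdaOps B] {e : S →+* B}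
    {a : ℕ → S} {f : B} (ha : Is e a f) : Is e (negV a) (-f) := by
  intro n
  induction n using Nat.strong_induction_on with
  | _ n ih =>
    rcases n with _ | m
    · rw [negV, map_one, LambdaOps.lam_zero]
    · have h := LambdaOps.lam_add (m + 1) f (-f)
      rw [add_neg_cancel, lam_zero_elt, if_neg (by omega), Finset.sum_range_succ', LambdaOps.lam_zero,
        one_mul, Nat.sub_zero] at h
      rw [negV, map_neg, map_sum, neg_eq_iff_add_eq_zero, h, Finset.sum_congr rfl
        (g := fun j : Fin (m + 1) => LambdaOps.lam ((j : ℕ) + 1) f * LambdaOps.lam (m - j) (-f))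
        (fun j _ => by rw [map_mul, ha, ih _ (by omega)]),
        Fin.sum_univ_eq_sum_range (fun j => LambdaOps.lam (j + 1) f * LambdaOps.lam (m - j) (-f))]
      refine congrArg₂ _ (Finset.sum_congr rfl fun j _ => ?_) rfl
      rw [Nat.add_sub_add_right]

/-- The vector of `(-1)^m f`. -/
def signV {S : Type u} [CommRing S] (a : ℕ → S) (m : ℕ) : ℕ → S :=
  if Even m then a else negV a

lemma is_signV {S : Type u} [CommRing S] {B : Type v} [CommRing B] [LambdaOps B] {e : S →+* B}
    {a : ℕ → S} {f : B} (ha : Is e a f) (m : ℕ) : Is e (signV a m) ((-1) ^ m * f) := by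
  rw [signV]
  split_ifs with h
  · rwa [h.neg_one_pow, one_mul]
  · rw [(Nat.not_even_iff_odd.1 h).neg_one_pow, neg_one_mul]
    exact is_negV ha

/-- The vector of the power sum `W a n`. -/
noncomputable def WV {S : Type u} [CommRing S] (a : ℕ → ℕ → S) : ℕ → (ℕ → S)
  | 0 => zeroV
  | m + 1 => signV (addV (nsmulV (a (m + 1)) (m + 1))
      (negV (sumV (fun i => if h : i < m then signV (mulV (WV a (i + 1)) (a (m - i))) i else zeroV) m))) m
decreasing_by omega

lemma is_WV {S : Type u} [CommRing S] {B : Type v} [CommRing B] [LambdaOps B] (hB : IsSpecial B)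
    {e : S →+* B} {a : ℕ → ℕ → S} {f : ℕ → B} (ha : ∀ j, Is e (a j) (f j)) (n : ℕ) :
    Is e (WV a n) (W f n) := by
  induction n using Nat.strong_induction_on with
  | _ n ih =>
    rcases n with _ | m
    · rw [WV, W]; exact is_zeroV
    · rw [WV, W, Fin.sum_univ_eq_sum_range (fun i => (-1 : B) ^ i * W f (i + 1) * f (m - i)),
        sub_eq_add_neg]
      refine is_signV ?_ m
      refine is_addV ?_ (is_negV ?_)
      · have := is_nsmulV (ha (m + 1)) (m + 1)
        rwa [Nat.cast_succ] at this
      · rw [Finset.sum_congr rfl (g := fun i => if i < m then (-1 : B) ^ i * (W f (i + 1) * f (m - i)) else 0)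
          (fun i hi => by rw [if_pos (Finset.mem_range.1 hi), mul_assoc])]
        refine is_sumV (fun i => ?_) m
        split_ifs with h
        · exact is_signV (is_mulV hB (ih _ (by omega)) (ha _)) i
        · exact is_zeroV

theorem adams_adams {B : Type u} [CommRing B] [LambdaOps B] (hB : IsSpecial B) (k k' : ℕ)
    (hk : 1 ≤ k) (hk' : 1 ≤ k') (x : B) : adamsOp k (adamsOp k' x) = adamsOp (k * k') x := by
  let T : ℕ → MvPolynomial (Unit × ℕ) ℤ := ofGamma fun n => X ((), n)
  let V := WV (fun j => compV T j) k'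
  have hT : ∀ {C : Type u} [CommRing C] [LambdaOps C] (y : Unit → C), Is (evG y) T (y ()) :=
    fun y => is_ofGamma fun n => by simp [evG]
  have hev : ∀ {C : Type u} [CommRing C] [LambdaOps C], IsSpecial C → ∀ (y : Unit → C),
      evG y (W V k) = adamsOp k (adamsOp k' (y ())) ∧
        evG y (W T (k * k')) = adamsOp (k * k') (y ()) := by
    intro C _ _ hC y
    constructor
    · rw [map_W, adamsOp_eq_W _ k hk, adamsOp_eq_W (y ()) k' hk']
      exact W_congr _ _ k fun i _ => is_WV hC (fun j => is_compV hC (hT y) j) k' i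
    · rw [map_W, adamsOp_eq_W _ (k * k') (Nat.mul_pos hk hk')]
      exact W_congr _ _ _ fun i _ => hT y i
  have heq : W V k = W T (k * k') := by
    apply ext_model
    have hm : (theta : MvPolynomial (Unit × ℕ) ℤ →+* _) = evG (fun r => xgen r) := rfl
    have hev' : ∀ (y : Unit → MvPowerSeries (Unit × ℕ) ℚ),
        evG y (W V k) = adamsOp k (adamsOp k' (y ())) ∧
          evG y (W T (k * k')) = adamsOp (k * k') (y ()) := by
      intro y
      have hT' : Is (evG y) T (y ()) := is_ofGamma fun n => by simp [evG]
      constructor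
      · rw [map_W, adamsOp_eq_W _ k hk, adamsOp_eq_W (y ()) k' hk']
        exact W_congr _ _ k fun i _ => is_WV isSpecial_model (fun j => is_compV isSpecial_model hT' j) k' i
      · rw [map_W, adamsOp_eq_W _ (k * k') (Nat.mul_pos hk hk')]
        exact W_congr _ _ _ fun i _ => hT' i
    rw [hm, (hev' _).1, (hev' _).2, adams_model hk, adams_model hk', adams_model (Nat.mul_pos hk hk')]
    ext d
    rw [coeff_psi hk, coeff_psi hk', coeff_psi (Nat.mul_pos hk hk'), Nat.cast_mul, mul_pow, mul_assoc]
  have := (hev hB fun _ => x).1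
  rw [heq, (hev hB fun _ => x).2] at this
  exact this.symm

end Groth.Agent.GammaX
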