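import Groth.Agent.Lib.GammaFilCongr

/-!
An upper bound for the γ-filtration from a multiplicative filtration containing the γ-operations
of generators.
-/

namespace Groth.Agent.GammaF

open Finset LambdaRing Groth.Agent.GammaN Groth.Agent.GammaM Groth.Agent.GammaV Groth.Agent.GammaU

universe u v

variable {A : Type v} [CommRing A] [LambdaOps A] {K : Type u} [CommRing K]

lemma monomial_mem {R : Type*} (g : R × ℕ → A) (W : ℕ → Ideal A) (h0 : W 0 = ⊤)
    (hmul : ∀ a b x y, x ∈ W a → y ∈ W b → x * y ∈ W (a + b)) (hg : ∀ p, g p ∈ W (p.2 + 1))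
    (μ : R × ℕ →₀ ℕ) : μ.prod (fun p k => g p ^ k) ∈ W (wt μ) := by
  classical
  induction μ using Finsupp.induction with
  | zero => simp [h0, wt_zero]
  | single_add a k μ ha hk ih =>
    rw [Finsupp.prod_add_index' (by simp) (fun _ _ _ => pow_add _ _ _), Finsupp.prod_single_index (by simp),
      wt_add, wt_single]
    refine hmul _ _ _ _ ?_ ih
    change g a ^ k ∈ W (k * (a.2 + 1))
    clear ha ih hk
    induction k with
    | zero => simp [h0]
    | succ k ihk =>
      rw [pow_succ, Nat.succ_mul]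
      exact hmul _ _ _ _ ihk (hg a)

lemma Wid_le {R : Type*} (g : R × ℕ → A) (W : ℕ → Ideal A) (h0 : W 0 = ⊤)
    (hanti : ∀ a b, a ≤ b → W b ≤ W a) (hmul : ∀ a b x y, x ∈ W a → y ∈ W b → x * y ∈ W (a + b))
    (hg : ∀ p, g p ∈ W (p.2 + 1)) (n : ℕ) : Wid g n ≤ W n :=
  Ideal.span_le.2 fun _ ⟨μ, hμ, hm⟩ => hm ▸ hanti _ _ hμ (monomial_mem g W h0 hmul hg μ)

variable [LambdaOps K] [BinomialRing K] [Algebra K A]

theorem gammaFil_le (hKb : IsBinomial K) (hA : IsSpecial A) (ε : A →ₐ[K] K)
    (hε : IsAugLambdaAlg K A ε) (W : ℕ → Ideal A) (h0 : W 0 = ⊤)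
    (hanti : ∀ a b, a ≤ b → W b ≤ W a) (hmul : ∀ a b x y, x ∈ W a → y ∈ W b → x * y ∈ W (a + b))
    (T : Set A) (hT : ∀ t ∈ T, ε t = 0) (hTW : ∀ t ∈ T, ∀ j, gamma (j + 1) t ∈ W (j + 1))
    (hgen : Algebra.adjoin K {y | ∃ t ∈ T, ∃ j, y = gamma (j + 1) t} = ⊤) (k : ℕ) :
    gammaFil (ε : A →+* K) k ≤ W k := by
  let M : List (T × ℕ) → A := fun l => (l.map fun p => gamma (p.2 + 1) (p.1 : A)).prod
  set S := Submodule.span K {y | ∃ l : List (T × ℕ), l ≠ [] ∧ y = M l} with hS
  have hSmul : ∀ x ∈ S, ∀ y ∈ S, x * y ∈ S := by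
    intro x hx y hy
    refine (Submodule.mul_le.2 (fun a ha b hb => ?_)) (Submodule.mul_mem_mul hx hy)
    induction ha using Submodule.span_induction with
    | mem a ha =>
      induction hb using Submodule.span_induction with
      | mem b hb =>
        obtain ⟨l, hl, rfl⟩ := ha
        obtain ⟨l', -, rfl⟩ := hb
        exact Submodule.subset_span ⟨l ++ l', by simp [hl], by simp [M]⟩
      | zero => simp
      | add b b' _ _ h h' => rw [mul_add]; exact add_mem h h'
      | smul c b _ h => rw [mul_smul_comm]; exact S.smul_mem c h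
    | zero => simp
    | add a a' _ _ h h' => rw [add_mul]; exact add_mem h h'
    | smul c a _ h => rw [smul_mul_assoc]; exact S.smul_mem c h
  have hgamma0 : ∀ t ∈ T, ∀ j, ε (gamma (j + 1) t) = 0 := fun t ht j => by
    rw [show ε (gamma (j + 1) t) = (ε : A →+* K) (gamma (j + 1) t) from rfl,
      map_gamma (ε : A →+* K) t 0 (fun n => by
        change ε (LambdaOps.lam n t) = _
        rw [hε.map_lam, hT t ht]) (j + 1), gamma_zero_elt _ (by omega)]
  have hdec : ∀ w : A, w - algebraMap K A (ε w) ∈ S := by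
    intro w
    have hw : w ∈ Algebra.adjoin K {y | ∃ t ∈ T, ∃ j, y = gamma (j + 1) t} := hgen ▸ Algebra.mem_top
    induction hw using Algebra.adjoin_induction with
    | mem y hy =>
      obtain ⟨t, ht, j, rfl⟩ := hy
      rw [hgamma0 t ht j, map_zero, sub_zero]
      exact Submodule.subset_span ⟨[(⟨t, ht⟩, j)], by simp, by simp [M]⟩
    | algebraMap r => simp
    | add a b _ _ ha hb =>
      rw [map_add, map_add, add_sub_add_comm]
      exact add_mem ha hb
    | mul a b _ _ ha hb =>
      rw [map_mul, map_mul, show a * b - algebraMap K A (ε a) * algebraMap K A (ε b) =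
        (a - algebraMap K A (ε a)) * (b - algebraMap K A (ε b)) + ε a • (b - algebraMap K A (ε b)) +
          ε b • (a - algebraMap K A (ε a)) by simp only [Algebra.smul_def]; ring]
      exact add_mem (add_mem (hSmul _ ha _ hb) (S.smul_mem _ hb)) (S.smul_mem _ ha)
  have hwid := Wid_le (fun p : T × ℕ => gamma (p.2 + 1) (p.1 : A)) W h0 hanti hmul
    (fun p => hTW p.1 p.1.2 p.2)
  have hz : ∀ z ∈ S, ∀ (κ : K) (i : ℕ), 1 ≤ i → gamma i (κ • z) ∈ W i := by
    intro z hz
    induction hz using Submodule.span_induction with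
    | mem z hz =>
      obtain ⟨l, hl, rfl⟩ := hz
      intro κ i hi
      have hlw : 1 ≤ (l.map fun p => p.2 + 1).sum := by
        rcases l with _ | ⟨p, l⟩
        · exact absurd rfl hl
        · simp only [List.map_cons, List.sum_cons]; omega
      rw [Algebra.smul_def]
      exact hanti _ _ (le_max_left _ _) (hwid _ (GammaU.main hA (lam_algebraMap ε hKb hε)
        (fun t : T => (t : A)) κ l hlw i hi).1)
    | zero =>
      intro κ i hi
      rw [smul_zero, gamma_zero_elt i hi]
      exact zero_mem _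
    | add a b _ _ ha hb =>
      intro κ i hi
      rw [smul_add]
      have := gamma_add_mem W hmul (fun a b h x hx => hanti a b h hx) 0
        (x := κ • a) (y := κ • b)
        (fun i hi => by rw [Nat.max_eq_left (Nat.zero_le i)]; exact ha κ i hi)
        (fun i hi => by rw [Nat.max_eq_left (Nat.zero_le i)]; exact hb κ i hi) i hi
      rwa [Nat.max_eq_left (Nat.zero_le i)] at this
    | smul c a _ h =>
      intro κ i hi
      rw [smul_smul]
      exact h (κ * c) i hi
  refine Ideal.span_le.2 ?_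
  rintro _ ⟨l, hl, hw, rfl⟩
  refine hanti _ _ hw ?_
  clear hw
  induction l with
  | nil => simp [h0]
  | cons p l ih =>
    rw [List.map_cons, List.map_cons, List.sum_cons, List.prod_cons]
    refine hmul _ _ _ _ ?_ (ih fun q hq => hl q (List.mem_cons_of_mem _ hq))
    obtain ⟨r, z⟩ := p
    rcases Nat.eq_zero_or_pos r with rfl | hr
    · simp [h0]
    · have h1 := hdec z
      rw [show ε z = 0 from hl (r, z) List.mem_cons_self, map_zero, sub_zero] at h1
      simpa using hz z h1 1 r hr

end Groth.Agent.GammaF
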