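import Groth.Agent.Lib.GammaUniv

/-!
The γ-filtration of an augmented special λ-algebra over a binomial ring:
`γ^m z ≡ (-1)^(m-1) (m-1)! z mod Fil^(m+1)` on `Fil^m`.
-/

namespace Groth.Agent.GammaF

open Finset LambdaRing Groth.Agent.GammaN Groth.Agent.GammaM Groth.Agent.GammaV Groth.Agent.GammaU

universe u v

lemma gamma_zero_elt {A : Type v} [CommRing A] [LambdaOps A] (i : ℕ) (hi : 1 ≤ i) :
    gamma i (0 : A) = 0 := by
  obtain ⟨j, rfl⟩ : ∃ j, i = j + 1 := ⟨i - 1, by omega⟩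
  rw [gamma_succ]
  refine Finset.sum_eq_zero fun k _ => ?_
  rw [lam_zero_elt, if_neg (by omega), mul_zero]

/-- Additivity of a bound on all γ-operations along a multiplicative filtration. -/
lemma gamma_add_mem {A : Type v} [CommRing A] [LambdaOps A] {S : Type*} [SetLike S A]
    [AddSubmonoidClass S A] (F : ℕ → S) (hmul : ∀ a b x y, x ∈ F a → y ∈ F b → x * y ∈ F (a + b))
    (hanti : ∀ a b, a ≤ b → ∀ x ∈ F b, x ∈ F a) (m : ℕ) {x y : A}
    (hx : ∀ i, 1 ≤ i → gamma i x ∈ F (max i m)) (hy : ∀ i, 1 ≤ i → gamma i y ∈ F (max i m))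
    (i : ℕ) (hi : 1 ≤ i) : gamma i (x + y) ∈ F (max i m) := by
  rw [gamma_add]
  refine sum_mem fun j hj => ?_
  have hj' := Finset.mem_range.1 hj
  rcases Nat.eq_zero_or_pos j with rfl | hj0
  · rw [gamma_zero, one_mul, Nat.sub_zero]
    exact hy i hi
  rcases Nat.eq_zero_or_pos (i - j) with h | h
  · rw [h, gamma_zero, mul_one]
    exact hanti _ _ (by omega) _ (hx j hj0)
  · exact hanti _ _ (by omega) _ (hmul _ _ _ _ (hx j hj0) (hy (i - j) h))

variable {A : Type v} [CommRing A] [LambdaOps A] {K : Type u} [CommRing K]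

section Basic

variable (ε : A →+* K)

lemma fil_anti {a b : ℕ} (h : a ≤ b) : gammaFil ε b ≤ gammaFil ε a :=
  Ideal.span_mono fun _ ⟨l, h1, h2, h3⟩ => ⟨l, h1, h.trans h2, h3⟩

lemma fil_mul {a b : ℕ} {x y : A} (hx : x ∈ gammaFil ε a) (hy : y ∈ gammaFil ε b) :
    x * y ∈ gammaFil ε (a + b) := by
  refine (show gammaFil ε a * gammaFil ε b ≤ gammaFil ε (a + b) from ?_) (Ideal.mul_mem_mul hx hy)
  unfold gammaFil
  rw [Ideal.span_mul_span']
  refine Ideal.span_mono ?_
  rintro _ ⟨_, ⟨l, h1, h2, rfl⟩, _, ⟨l', h1', h2', rfl⟩, rfl⟩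
  refine ⟨l ++ l', fun p hp => ?_, ?_, by simp⟩
  · rcases List.mem_append.1 hp with hp | hp
    exacts [h1 p hp, h1' p hp]
  · rw [List.map_append, List.sum_append]
    omega

lemma fil_zero : gammaFil ε 0 = ⊤ :=
  (Ideal.eq_top_iff_one _).2 (Ideal.subset_span ⟨[], by simp, by simp, by simp⟩)

lemma gamma_mem_fil {x : A} (hx : ε x = 0) (r : ℕ) : gamma r x ∈ gammaFil ε r :=
  Ideal.subset_span ⟨[(r, x)], by simpa using hx, by simp, by simp⟩

lemma monomial_mem_fil {R : Type*} (x : R → A) (hx : ∀ r, ε (x r) = 0) (μ : R × ℕ →₀ ℕ) :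
    μ.prod (fun p k => gamma (p.2 + 1) (x p.1) ^ k) ∈ gammaFil ε (wt μ) := by
  classical
  induction μ using Finsupp.induction with
  | zero => simp [fil_zero, wt_zero]
  | single_add a k μ ha hk ih =>
    rw [Finsupp.prod_add_index' (by simp) (fun _ _ _ => pow_add _ _ _), Finsupp.prod_single_index (by simp),
      wt_add, wt_single]
    refine fil_mul ε ?_ ih
    change gamma (a.2 + 1) (x a.1) ^ k ∈ gammaFil ε (k * (a.2 + 1))
    clear ha ih hk
    induction k with
    | zero => simp [fil_zero]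
    | succ k ihk =>
      rw [pow_succ, Nat.succ_mul]
      exact fil_mul ε ihk (gamma_mem_fil ε (hx a.1) _)

lemma Wid_le_fil {R : Type*} (x : R → A) (hx : ∀ r, ε (x r) = 0) (n : ℕ) :
    Wid (fun p : R × ℕ => gamma (p.2 + 1) (x p.1)) n ≤ gammaFil ε n :=
  Ideal.span_le.2 fun _ ⟨μ, hμ, hm⟩ => hm ▸ fil_anti ε hμ (monomial_mem_fil ε x hx μ)

lemma exists_list (l : List (ℕ × A)) (hl : ∀ p ∈ l, ε p.2 = 0) :
    ∃ l' : List ({a : A // ε a = 0} × ℕ), (l'.map fun p => p.2 + 1).sum = (l.map Prod.fst).sum ∧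
      (l'.map fun p => gamma (p.2 + 1) (p.1 : A)).prod = (l.map fun p => gamma p.1 p.2).prod := by
  induction l with
  | nil => exact ⟨[], rfl, rfl⟩
  | cons p l ih =>
    obtain ⟨l', h1, h2⟩ := ih fun q hq => hl q (List.mem_cons_of_mem _ hq)
    obtain ⟨_ | r, a⟩ := p
    · exact ⟨l', by simp [h1], by simp [h2, gamma_zero]⟩
    · exact ⟨(⟨a, hl _ (List.mem_cons_self)⟩, r) :: l', by simp [h1], by simp [h2]⟩

end Basic

variable [LambdaOps K] [BinomialRing K] [Algebra K A] (ε : A →ₐ[K] K)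

/-- The scalar multiples of products of γ-operations, of weight at least `m`. -/
def gens (m : ℕ) : Set A :=
  {z | ∃ (κ : K) (l : List ({a : A // (ε : A →+* K) a = 0} × ℕ)), m ≤ (l.map fun p => p.2 + 1).sum ∧
    z = algebraMap K A κ * (l.map fun p => gamma (p.2 + 1) (p.1 : A)).prod}

omit [LambdaOps K] [BinomialRing K] in
lemma gens_subset_fil (m : ℕ) : gens ε m ⊆ gammaFil (ε : A →+* K) m := by
  rintro _ ⟨κ, l, hl, rfl⟩
  refine Ideal.mul_mem_left _ _ (Ideal.subset_span ⟨l.map (fun p => (p.2 + 1, (p.1 : A))), ?_, ?_, ?_⟩)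
  · intro p hp
    obtain ⟨q, -, rfl⟩ := List.mem_map.1 hp
    exact q.1.2
  · rw [List.map_map]
    exact hl
  · rw [List.map_map]
    rfl

omit [LambdaOps K] [BinomialRing K] in
lemma fil_le_closure (m : ℕ) {z : A} (hz : z ∈ gammaFil (ε : A →+* K) m) :
    z ∈ AddSubmonoid.closure (gens ε m) := by
  have hsmul : ∀ (a z : A), z ∈ AddSubmonoid.closure (gens ε m) →
      a * z ∈ AddSubmonoid.closure (gens ε m) := by
    intro a z hz
    induction hz using AddSubmonoid.closure_induction with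
    | mem z hz =>
      obtain ⟨κ, l, hl, rfl⟩ := hz
      set M := (l.map fun p => gamma (p.2 + 1) (p.1 : A)).prod
      have he : (ε : A →+* K) (a * algebraMap K A κ - algebraMap K A (ε (a * algebraMap K A κ))) = 0 := by
        simp
      have hsplit : a * (algebraMap K A κ * M) = algebraMap K A (ε (a * algebraMap K A κ)) * M +
          algebraMap K A 1 * ((a * algebraMap K A κ - algebraMap K A (ε (a * algebraMap K A κ))) * M) := by
        rw [map_one, one_mul]
        ring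
      rw [hsplit]
      refine add_mem (AddSubmonoid.subset_closure ⟨_, l, hl, rfl⟩)
        (AddSubmonoid.subset_closure ⟨1, (⟨_, he⟩, 0) :: l, ?_, ?_⟩)
      · simp only [List.map_cons, List.sum_cons]
        omega
      · simp [M, gamma_one]
    | zero => simp
    | add x y _ _ hx hy => rw [mul_add]; exact add_mem hx hy
  simp only [gammaFil, Ideal.span] at hz
  induction hz using Submodule.span_induction with
  | mem z hz =>
    obtain ⟨l, h1, h2, rfl⟩ := hz
    obtain ⟨l', h1', h2'⟩ := exists_list (ε : A →+* K) l h1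
    exact AddSubmonoid.subset_closure ⟨1, l', h1' ▸ h2, by rw [map_one, one_mul, h2']⟩
  | zero => exact zero_mem _
  | add x y _ _ hx hy => exact add_mem hx hy
  | smul a x _ hx => exact hsmul a x hx

lemma lam_algebraMap (hKb : IsBinomial K) (hε : IsAugLambdaAlg K A ε) (n : ℕ) (κ : K) :
    LambdaOps.lam n (algebraMap K A κ) = algebraMap K A (Ring.choose κ n) := by
  rw [← hε.isLambdaAlg n κ, hKb n κ]

theorem gamma_fil (hKb : IsBinomial K) (hA : IsSpecial A) (hε : IsAugLambdaAlg K A ε)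
    (m : ℕ) (hm : 1 ≤ m) (z : A) (hz : z ∈ gammaFil (ε : A →+* K) m) :
    (∀ i, 1 ≤ i → gamma i z ∈ gammaFil (ε : A →+* K) (max i m)) ∧
      gamma m z - (-1 : A) ^ (m - 1) * ((m - 1).factorial : A) * z ∈ gammaFil (ε : A →+* K) (m + 1) := by
  have hmain := fun (κ : K) (l : List ({a : A // (ε : A →+* K) a = 0} × ℕ)) hl i hi =>
    GammaU.main hA (lam_algebraMap ε hKb hε) (fun a : {a : A // (ε : A →+* K) a = 0} => (a : A)) κ l hl i hi
  have hW := fun n => Wid_le_fil (ε : A →+* K) (fun a : {a : A // (ε : A →+* K) a = 0} => (a : A))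
    (fun a => a.2) n
  have hz' := fil_le_closure ε m hz
  clear hz
  induction hz' using AddSubmonoid.closure_induction with
  | mem z hz =>
    obtain ⟨κ, l, hl, rfl⟩ := hz
    refine ⟨fun i hi => fil_anti _ (max_le_max le_rfl hl) (hW _ (hmain κ l (hm.trans hl) i hi).1), ?_⟩
    rcases eq_or_lt_of_le hl with he | he
    · exact hW _ ((hmain κ l (hm.trans hl) m hm).2 he.symm)
    · refine sub_mem (fil_anti _ (by omega) (hW _ (hmain κ l (hm.trans hl) m hm).1))
        (Ideal.mul_mem_left _ _ ?_)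
      exact gens_subset_fil ε (m + 1) ⟨κ, l, he, rfl⟩
  | zero =>
    refine ⟨fun i hi => ?_, ?_⟩
    · rw [gamma_zero_elt i hi]; exact zero_mem _
    · rw [gamma_zero_elt m hm, mul_zero, sub_zero]; exact zero_mem _
  | add x y hx' hy' ihx ihy =>
    have hin : ∀ w ∈ AddSubmonoid.closure (gens ε m), w ∈ gammaFil (ε : A →+* K) m := fun w hw =>
      (AddSubmonoid.closure_le (S := (gammaFil (ε : A →+* K) m).toAddSubmonoid)).2
        (gens_subset_fil ε m) hw
    obtain ⟨hx1, hx2⟩ := ihx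
    obtain ⟨hy1, hy2⟩ := ihy
    refine ⟨gamma_add_mem (gammaFil (ε : A →+* K)) (fun a b x y => fil_mul _)
      (fun a b h x hx => fil_anti _ h hx) m hx1 hy1, ?_⟩
    obtain ⟨j, rfl⟩ : ∃ j, m = j + 1 := ⟨m - 1, by omega⟩
    rw [gamma_add, Finset.sum_range_succ, Finset.sum_range_succ', Nat.sub_self, Nat.sub_zero,
      gamma_zero, gamma_zero, mul_one, one_mul]
    have hmid : ∑ i ∈ range j, gamma (i + 1) x * gamma (j + 1 - (i + 1)) y ∈
        gammaFil (ε : A →+* K) (j + 1 + 1) := by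
      refine sum_mem fun i hi => ?_
      have hi' := Finset.mem_range.1 hi
      exact fil_anti _ (by omega) (fil_mul _ (hx1 (i + 1) (by omega)) (hy1 (j + 1 - (i + 1)) (by omega)))
    have := add_mem (add_mem hmid hx2) hy2
    convert this using 1
    ring

end Groth.Agent.GammaF
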