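import Groth.Agent.Lib.GammaNewton

/-!
The graded model of a special λ-ring: power series with weights, `ψ^k` acting by `k ^ weight`,
leading terms of the γ-operations.
-/

namespace Groth.Agent.GammaM

open MvPowerSeries Finset LambdaRing Groth.Agent.AdamsSp Groth.Agent.GammaN

universe u

/-- A weight on the variables. -/
class Wt (σ : Type u) where
  /-- the weight -/
  w : σ → ℕ

variable {σ : Type u} [Wt σ]

/-- The weight of an exponent. -/
noncomputable def wt (d : σ →₀ ℕ) : ℕ := Finsupp.weight Wt.w d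

lemma wt_add (a b : σ →₀ ℕ) : wt (a + b) = wt a + wt b := map_add _ _ _

lemma wt_zero : wt (0 : σ →₀ ℕ) = 0 := map_zero _

lemma wt_single (s : σ) (n : ℕ) : wt (Finsupp.single s n) = n * Wt.w s := by
  simp [wt, Finsupp.weight_apply, Finsupp.sum_single_index]

/-- The Adams operations of the model. -/
noncomputable def psi (k : ℕ) : MvPowerSeries σ ℚ →+ MvPowerSeries σ ℚ :=
  if k = 0 then 0 else (rescale fun s : σ => (k : ℚ) ^ Wt.w s).toAddMonoidHom

lemma psi_apply {k : ℕ} (hk : 1 ≤ k) (z : MvPowerSeries σ ℚ) :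
    psi k z = rescale (fun s : σ => (k : ℚ) ^ Wt.w s) z := by
  rw [psi, if_neg (by omega)]
  rfl

lemma coeff_psi {k : ℕ} (hk : 1 ≤ k) (z : MvPowerSeries σ ℚ) (d : σ →₀ ℕ) :
    coeff d (psi k z) = (k : ℚ) ^ wt d * coeff d z := by
  rw [psi_apply hk, coeff_rescale]
  congr 1
  rw [wt, Finsupp.weight_apply, Finsupp.prod, Finsupp.sum, ← Finset.prod_pow_eq_pow_sum]
  refine Finset.prod_congr rfl fun s _ => ?_
  rw [smul_eq_mul, mul_comm, pow_mul]

lemma psi_one : (psi 1 : MvPowerSeries σ ℚ →+ MvPowerSeries σ ℚ) = AddMonoidHom.id _ := by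
  ext z d
  rw [coeff_psi le_rfl]
  simp

noncomputable instance instOps : LambdaOps (MvPowerSeries σ ℚ) := opsOfAdams psi psi_one

lemma adams_model {k : ℕ} (hk : 1 ≤ k) (z : MvPowerSeries σ ℚ) : adamsOp k z = psi k z :=
  adamsOp_opsOfAdams psi psi_one k hk z

theorem isSpecial_model : IsSpecial (MvPowerSeries σ ℚ) := by
  refine isSpecial (fun k hk => ?_) (fun k hk x y => ?_) (fun k k' hk hk' x => ?_)
  · rw [adams_model hk, psi_apply hk, map_one]
  · rw [adams_model hk, adams_model hk, adams_model hk, psi_apply hk, psi_apply hk, psi_apply hk,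
      map_mul]
  · ext d
    rw [adams_model hk, adams_model hk', adams_model (Nat.mul_pos hk hk'), coeff_psi hk, coeff_psi hk',
      coeff_psi (Nat.mul_pos hk hk'), Nat.cast_mul, mul_pow, mul_assoc]

/-- Weight at least `n`. -/
def Ge (n : ℕ) (z : MvPowerSeries σ ℚ) : Prop := ∀ d : σ →₀ ℕ, wt d < n → coeff d z = 0

/-- The part of weight `n`. -/
noncomputable def top (n : ℕ) (z : MvPowerSeries σ ℚ) : MvPowerSeries σ ℚ :=
  fun d => if wt d = n then coeff d z else 0

lemma coeff_top (n : ℕ) (z : MvPowerSeries σ ℚ) (d : σ →₀ ℕ) :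
    coeff d (top n z) = if wt d = n then coeff d z else 0 := rfl

lemma ge_zero (z : MvPowerSeries σ ℚ) : Ge 0 z := fun _ h => absurd h (by omega)

lemma ge_zero' (n : ℕ) : Ge n (0 : MvPowerSeries σ ℚ) := fun _ _ => map_zero _

lemma Ge.mono {m n : ℕ} {z : MvPowerSeries σ ℚ} (h : Ge n z) (hm : m ≤ n) : Ge m z :=
  fun d hd => h d (by omega)

lemma Ge.sum {ι : Type*} (s : Finset ι) {f : ι → MvPowerSeries σ ℚ} {n : ℕ}
    (h : ∀ i ∈ s, Ge n (f i)) : Ge n (∑ i ∈ s, f i) := fun d hd => by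
  rw [map_sum]
  exact Finset.sum_eq_zero fun i hi => h i hi d hd

lemma Ge.mul {a b : ℕ} {x y : MvPowerSeries σ ℚ} (hx : Ge a x) (hy : Ge b y) : Ge (a + b) (x * y) := by
  classical
  intro d hd
  rw [coeff_mul]
  refine Finset.sum_eq_zero fun p hp => ?_
  have h := HasAntidiagonal.mem_antidiagonal.1 hp
  rw [← h, wt_add] at hd
  rcases Nat.lt_or_ge (wt p.1) a with ha | ha
  · rw [hx _ ha, zero_mul]
  · rw [hy _ (by omega), mul_zero]

lemma Ge.C_mul {n : ℕ} {z : MvPowerSeries σ ℚ} (h : Ge n z) (r : ℚ) : Ge n (C r * z) := fun d hd => by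
  rw [coeff_C_mul, h d hd, mul_zero]

lemma top_mul {a b : ℕ} {x y : MvPowerSeries σ ℚ} (hx : Ge a x) (hy : Ge b y) :
    top (a + b) (x * y) = top a x * top b y := by
  classical
  ext d
  rw [coeff_top, coeff_mul, coeff_mul]
  split_ifs with hd
  · refine Finset.sum_congr rfl fun p hp => ?_
    have h := HasAntidiagonal.mem_antidiagonal.1 hp
    rw [← h, wt_add] at hd
    rw [coeff_top, coeff_top]
    rcases lt_trichotomy (wt p.1) a with ha | ha | ha
    · rw [hx _ ha, if_neg (by omega), zero_mul, zero_mul]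
    · rw [if_pos ha, if_pos (by omega)]
    · rw [hy _ (by omega), if_neg (by omega : ¬ wt p.1 = a), zero_mul, mul_zero]
  · symm
    refine Finset.sum_eq_zero fun p hp => ?_
    have h := HasAntidiagonal.mem_antidiagonal.1 hp
    rw [← h, wt_add] at hd
    rw [coeff_top, coeff_top]
    by_cases ha : wt p.1 = a
    · rw [if_neg (by omega : ¬ wt p.2 = b), mul_zero]
    · rw [if_neg ha, zero_mul]

lemma top_sum {ι : Type*} (s : Finset ι) (f : ι → MvPowerSeries σ ℚ) (n : ℕ) :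
    top n (∑ i ∈ s, f i) = ∑ i ∈ s, top n (f i) := by
  ext d
  simp only [coeff_top, map_sum]
  split_ifs <;> simp

lemma top_C_mul (r : ℚ) (z : MvPowerSeries σ ℚ) (n : ℕ) : top n (C r * z) = C r * top n z := by
  ext d
  simp only [coeff_top, coeff_C_mul]
  split_ifs <;> simp

lemma top_eq_zero {n m : ℕ} {z : MvPowerSeries σ ℚ} (h : Ge m z) (hn : n < m) : top n z = 0 := by
  ext d
  rw [coeff_top]
  split_ifs with hd
  · rw [h d (by omega), map_zero]
  · rw [map_zero]

lemma top_one : top 0 (1 : MvPowerSeries σ ℚ) = 1 := by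
  classical
  ext d
  rw [coeff_top, coeff_one]
  by_cases hd : d = 0
  · subst hd; simp [wt_zero]
  · simp [hd]

lemma ge_succ_of_top {n : ℕ} {z : MvPowerSeries σ ℚ} (h : Ge n z) (ht : top n z = 0) : Ge (n + 1) z := by
  intro d hd
  rcases Nat.lt_or_ge (wt d) n with h1 | h1
  · exact h d h1
  · have := congrArg (coeff d) ht
    rwa [coeff_top, if_pos (by omega), map_zero] at this

lemma neg_one_pow_eq (i : ℕ) : ((-1 : MvPowerSeries σ ℚ)) ^ i = C ((-1) ^ i) := by simp

lemma ge_top_E (q : ℕ → MvPowerSeries σ ℚ) (hq : ∀ i, Ge i (q i)) (n : ℕ) :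
    Ge n (E q n) ∧ top n (E q n) = E (fun i => top i (q i)) n := by
  induction n using Nat.strong_induction_on with
  | _ n ih =>
    rcases n with _ | m
    · rw [E, E]
      exact ⟨ge_zero _, top_one⟩
    · have hmem : ∀ i : Fin (m + 1), Ge (m + 1) (q ((i : ℕ) + 1) * E q (m - i)) := fun i => by
        have := (hq ((i : ℕ) + 1)).mul (ih (m - i) (by omega)).1
        rwa [show (i : ℕ) + 1 + (m - i) = m + 1 by omega] at this
      rw [E, E, MvPowerSeries.algebraMap_apply, Algebra.algebraMap_self, RingHom.id_apply]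
      simp only [neg_one_pow_eq, mul_assoc]
      refine ⟨(Ge.sum _ fun i _ => (hmem i).C_mul _).C_mul _, ?_⟩
      rw [top_C_mul, top_sum]
      refine congrArg _ (Finset.sum_congr rfl fun i _ => ?_)
      rw [top_C_mul]
      congr 1
      have h := top_mul (hq ((i : ℕ) + 1)) (ih (m - i) (by omega)).1
      rw [show (i : ℕ) + 1 + (m - i) = m + 1 by omega] at h
      rw [h, (ih (m - i) (by omega)).2]

lemma ge_E_of_ge (q : ℕ → MvPowerSeries σ ℚ) (m n : ℕ) (hn : 1 ≤ n)
    (hq : ∀ i, 1 ≤ i → Ge m (q i)) : Ge m (E q n) := by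
  obtain ⟨j, rfl⟩ : ∃ j, n = j + 1 := ⟨n - 1, by omega⟩
  rw [E, MvPowerSeries.algebraMap_apply, Algebra.algebraMap_self, RingHom.id_apply]
  simp only [neg_one_pow_eq, mul_assoc]
  refine (Ge.sum _ fun i _ => Ge.C_mul ?_ _).C_mul _
  have := (hq ((i : ℕ) + 1) (by omega)).mul (ge_zero (E q (j - i)))
  rwa [add_zero] at this

lemma coeff_qg (z : MvPowerSeries σ ℚ) (N : ℕ) (d : σ →₀ ℕ) :
    coeff d (qg z N) =
      (∑ k ∈ Finset.Icc 1 N, (-1 : ℚ) ^ (N - k) * (N.choose k : ℚ) * (k : ℚ) ^ wt d) * coeff d z := by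
  rw [qg, map_sum, Finset.sum_mul]
  refine Finset.sum_congr rfl fun k hk => ?_
  have hk1 : 1 ≤ k := (Finset.mem_Icc.1 hk).1
  rw [adams_model hk1, show ((-1 : MvPowerSeries σ ℚ)) ^ (N - k) * (N.choose k : MvPowerSeries σ ℚ) =
    C ((-1) ^ (N - k) * (N.choose k : ℚ)) by simp, coeff_C_mul, coeff_psi hk1, ← mul_assoc]

lemma diff_pow (N m : ℕ) (hm : 1 ≤ m) (hmN : m ≤ N) :
    ∑ k ∈ Finset.Icc 1 N, (-1 : ℚ) ^ (N - k) * (N.choose k : ℚ) * (k : ℚ) ^ m =
      if m = N then (N.factorial : ℚ) else 0 := by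
  have h := fwdDiff_iter_eq_sum_shift (1 : ℚ) (fun r : ℚ => r ^ m) N 0
  have hL : (fwdDiff (1 : ℚ))^[N] (fun r : ℚ => r ^ m) 0 = if m = N then (N.factorial : ℚ) else 0 := by
    split_ifs with he
    · subst he
      rw [fwdDiff_iter_eq_factorial]
      rfl
    · rw [fwdDiff_iter_pow_eq_zero_of_lt (by omega)]
      rfl
  rw [hL] at h
  rw [h, Finset.range_eq_Ico, Finset.sum_eq_sum_Ico_succ_bot (by omega), zero_nsmul, zero_add,
    zero_pow (by omega), smul_zero, zero_add, show Finset.Ico (0 + 1) (N + 1) = Finset.Icc 1 N by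
      ext x; simp [Nat.lt_succ_iff]]
  refine Finset.sum_congr rfl fun k _ => ?_
  rw [zsmul_eq_mul, nsmul_eq_mul, mul_one]
  push_cast
  rw [zero_add]

lemma ge_qg_self {z : MvPowerSeries σ ℚ} (h1 : Ge 1 z) (N : ℕ) : Ge N (qg z N) := fun d hd => by
  rw [coeff_qg]
  rcases Nat.eq_zero_or_pos (wt d) with h0 | h0
  · rw [h1 d (by omega), mul_zero]
  · rw [diff_pow N (wt d) h0 hd.le, if_neg (by omega), zero_mul]

lemma ge_qg {z : MvPowerSeries σ ℚ} {m : ℕ} (hm : Ge m z) (N : ℕ) : Ge m (qg z N) := fun d hd => by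
  rw [coeff_qg, hm d hd, mul_zero]

lemma top_qg {z : MvPowerSeries σ ℚ} (h1 : Ge 1 z) (N : ℕ) :
    top N (qg z N) = C (N.factorial : ℚ) * top N z := by
  ext d
  rw [coeff_C_mul, coeff_top, coeff_top]
  split_ifs with hd
  · rw [coeff_qg]
    rcases Nat.eq_zero_or_pos (wt d) with h0 | h0
    · rw [h1 d (by omega), mul_zero, mul_zero]
    · rw [diff_pow N (wt d) h0 hd.le, if_pos hd]
  · rw [mul_zero]

theorem ge_gamma {z : MvPowerSeries σ ℚ} (h1 : Ge 1 z) {m : ℕ} (hm : Ge m z) (n : ℕ) (hn : 1 ≤ n) :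
    Ge (max n m) (gamma n z) := by
  rw [gamma_eq_E]
  intro d hd
  rcases Nat.lt_or_ge (wt d) n with h | h
  · exact (ge_top_E (qg z) (ge_qg_self h1) n).1 d h
  · exact ge_E_of_ge (qg z) m n hn (fun i _ => ge_qg hm i) d (by omega)

theorem top_gamma {z : MvPowerSeries σ ℚ} (h1 : Ge 1 z) (n : ℕ) :
    top n (gamma n z) = E (fun i => C (i.factorial : ℚ) * top i z) n := by
  rw [gamma_eq_E, (ge_top_E (qg z) (ge_qg_self h1) n).2]
  exact E_congr _ _ n fun i _ _ => top_qg h1 i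

theorem gamma_congr {z : MvPowerSeries σ ℚ} {m : ℕ} (hm1 : 1 ≤ m) (hm : Ge m z) :
    Ge (m + 1) (gamma m z - C ((-1) ^ (m - 1) * ((m - 1).factorial : ℚ)) * z) := by
  have hg : Ge m (gamma m z) := (ge_gamma (hm.mono hm1) hm m hm1).mono (le_max_left _ _)
  refine ge_succ_of_top (fun d hd => by rw [map_sub, hg d hd, coeff_C_mul, hm d hd, mul_zero, sub_zero]) ?_
  obtain ⟨j, rfl⟩ : ∃ j, m = j + 1 := ⟨m - 1, by omega⟩
  have ht : top (j + 1) (gamma (j + 1) z) = C ((-1) ^ j * (j.factorial : ℚ)) * top (j + 1) z := by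
    rw [top_gamma (hm.mono hm1), E, Fin.sum_univ_castSucc,
      Finset.sum_eq_zero (fun i _ => by
        simp [top_eq_zero hm (show (i : ℕ) + 1 < j + 1 by omega)]), zero_add]
    simp only [Fin.val_last, Nat.sub_self, MvPowerSeries.algebraMap_apply, Algebra.algebraMap_self, RingHom.id_apply,
      neg_one_pow_eq]
    rw [show E (fun i => C (i.factorial : ℚ) * top i z) 0 = 1 by rw [E], mul_one, ← mul_assoc,
      ← mul_assoc, ← map_mul, ← map_mul]
    congr 2
    rw [Nat.factorial_succ]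
    push_cast
    field_simp
  ext d
  rw [coeff_top, map_zero]
  split_ifs with hd
  · have := congrArg (coeff d) ht
    rw [coeff_top, if_pos hd, coeff_C_mul, coeff_top, if_pos hd] at this
    rw [map_sub, this, coeff_C_mul, Nat.add_sub_cancel, sub_self]
  · rfl

end Groth.Agent.GammaM
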