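import Groth.Agent.Lib.LambdaRat

/-!
`γ_u = λ_(u/(1-u))`: additivity and Newton identities for the γ-operations.
-/

namespace Groth.Agent.GammaN

open PowerSeries Finset LambdaRing Groth.Agent.AdamsSp

universe u v

variable {K : Type u} [CommRing K] [LambdaOps K]

/-- The series `u/(1-u)`. -/
noncomputable def sig (K : Type u) [CommRing K] : PowerSeries K := X * PowerSeries.mk 1

lemma hasSubst_sig : HasSubst (sig K) :=
  HasSubst.of_constantCoeff_zero' (by simp [sig])

lemma coeff_sig_pow_mul (k e n : ℕ) :
    coeff n (sig K ^ k * PowerSeries.mk 1 ^ e) =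
      if k + e = 0 then (if n = 0 then 1 else 0)
      else if k ≤ n then ((n + e - 1).choose (k + e - 1) : K) else 0 := by
  rw [sig, mul_pow, mul_assoc, ← pow_add, coeff_X_pow_mul']
  rcases Nat.eq_zero_or_pos (k + e) with h | h
  · obtain ⟨rfl, rfl⟩ : k = 0 ∧ e = 0 := by omega
    simp [coeff_one]
  · rw [if_neg (by omega : k + e ≠ 0)]
    split_ifs with hk
    · obtain ⟨d, hd⟩ : ∃ d, k + e = d + 1 := ⟨k + e - 1, by omega⟩
      rw [hd, mk_one_pow_eq_mk_choose_add, coeff_mk, show d + (n - k) = n + e - 1 by omega,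
        Nat.add_sub_cancel]
    · rfl

lemma coeff_subst_sig (f : PowerSeries K) (n N : ℕ) (hN : n < N) (e : ℕ) :
    coeff n (f.subst (sig K) * PowerSeries.mk 1 ^ e) =
      ∑ k ∈ range N, coeff k f * coeff n (sig K ^ k * PowerSeries.mk 1 ^ e) := by
  have hs : ∀ m, m ≤ n → coeff m (f.subst (sig K)) = ∑ k ∈ range N, coeff k f * coeff m (sig K ^ k) := by
    intro m hm
    rw [coeff_subst' hasSubst_sig]
    refine (finsum_eq_sum_of_support_subset _ ?_).trans (Finset.sum_congr rfl fun k _ => smul_eq_mul _ _)
    intro k hk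
    simp only [Function.mem_support, ne_eq, smul_eq_mul] at hk
    simp only [coe_range, Set.mem_Iio]
    by_contra hle
    apply hk
    have := coeff_sig_pow_mul (K := K) k 0 m
    rw [pow_zero, mul_one, if_neg (by omega), if_neg (by omega)] at this
    rw [this, mul_zero]
  rw [PowerSeries.coeff_mul]
  simp only [PowerSeries.coeff_mul n (sig K ^ _), Finset.mul_sum]
  rw [Finset.sum_comm]
  refine Finset.sum_congr rfl fun p hp => ?_
  rw [hs p.1 (by have := (HasAntidiagonal.mem_antidiagonal).1 hp; omega), Finset.sum_mul]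
  exact Finset.sum_congr rfl fun k _ => by ring

/-- The series of the γ-operations. -/
noncomputable def gammaSeries (x : K) : PowerSeries K := (lamSeries x).subst (sig K)

lemma coeff_gammaSeries (x : K) (n : ℕ) : coeff n (gammaSeries x) = gamma n x := by
  have h := coeff_subst_sig (lamSeries x) n (n + 1) (by omega) 0
  simp only [pow_zero, mul_one] at h
  rw [gammaSeries, h, gamma]
  rcases Nat.eq_zero_or_pos n with rfl | hn
  · simp [lamSeries, LambdaOps.lam_zero]
  rw [if_neg (by omega)]
  refine Finset.sum_congr rfl fun j hj => ?_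
  have hc := coeff_sig_pow_mul (K := K) j 0 n
  rw [pow_zero, mul_one] at hc
  rw [hc, lamSeries, coeff_mk, mul_comm]
  simp only [Finset.mem_range] at hj
  rcases Nat.eq_zero_or_pos j with rfl | hj0
  · simp [show n ≠ 0 by omega]
  · rw [if_neg (by omega), if_pos (by omega), if_neg (by omega), Nat.add_zero, Nat.add_zero]

lemma gamma_zero (x : K) : gamma 0 x = 1 := by simp [gamma]

lemma gamma_one (x : K) : gamma 1 x = x := by
  simp [gamma, Finset.sum_range_succ, LambdaOps.lam_one]

lemma gamma_add (n : ℕ) (x y : K) :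
    gamma n (x + y) = ∑ i ∈ range (n + 1), gamma i x * gamma (n - i) y := by
  have hl : lamSeries (x + y) = lamSeries x * lamSeries y := by
    ext m
    rw [PowerSeries.coeff_mul, Finset.Nat.sum_antidiagonal_eq_sum_range_succ_mk, lamSeries,
      PowerSeries.coeff_mk, LambdaOps.lam_add]
    refine Finset.sum_congr rfl fun i _ => ?_
    simp [lamSeries]
  rw [← coeff_gammaSeries, gammaSeries, hl, subst_mul hasSubst_sig, PowerSeries.coeff_mul,
    Finset.Nat.sum_antidiagonal_eq_sum_range_succ_mk]
  refine Finset.sum_congr rfl fun i _ => ?_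
  rw [← gammaSeries, ← gammaSeries, coeff_gammaSeries, coeff_gammaSeries]

/-- The power sums belonging to the γ-operations: iterated differences of the Adams operations. -/
noncomputable def qg (x : K) (N : ℕ) : K :=
  ∑ k ∈ Finset.Icc 1 N, (-1) ^ (N - k) * (N.choose k : K) * adamsOp k x

lemma rel_gamma (x : K) (m : ℕ) : AdamsSp.Rel (fun n => gamma n x) (qg x) m := by
  have hD : derivative K (lamSeries x) =
      PowerSeries.mk (fun i => (-1) ^ i * adamsOp (i + 1) x) * lamSeries x := by
    have : PowerSeries.mk (fun i => (-1) ^ i * adamsOp (i + 1) x) = logDerivSeries x := by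
      ext i
      rw [coeff_mk, adamsOp, ← mul_assoc, ← mul_pow, neg_mul_neg, one_mul, one_pow, one_mul]
    rw [this, logDerivSeries, mul_assoc, mul_comm ((lamSeries x).invOfUnit 1), lamSeries_mul_inv,
      mul_one]
  have hs : derivative K (sig K) = PowerSeries.mk 1 ^ 2 := by
    ext n
    rw [coeff_derivative, show (2 : ℕ) = 1 + 1 from rfl, mk_one_pow_eq_mk_choose_add, coeff_mk,
      sig, coeff_succ_X_mul]
    simp [add_comm]
  set D' := (PowerSeries.mk (fun i => (-1) ^ i * adamsOp (i + 1) x)).subst (sig K) *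
    PowerSeries.mk 1 ^ 2 with hD'
  have hΓ : derivative K (gammaSeries x) = D' * gammaSeries x := by
    rw [gammaSeries, derivative_subst hasSubst_sig, hs, hD, subst_mul hasSubst_sig, hD']
    ring
  have hc : ∀ i, coeff i D' = (-1) ^ i * qg x (i + 1) := by
    intro i
    rw [hD', coeff_subst_sig _ i (i + 1) (by omega) 2, qg, Finset.mul_sum]
    refine Finset.sum_bij (fun k _ => k + 1) (fun k hk => by
      simp only [Finset.mem_range] at hk; simp only [Finset.mem_Icc]; omega)
      (fun a _ b _ h => by omega) (fun b hb => ⟨b - 1, by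
        simp only [Finset.mem_Icc] at hb; simp only [Finset.mem_range]; omega, by
        simp only [Finset.mem_Icc] at hb; omega⟩) (fun k hk => ?_)
    simp only [Finset.mem_range] at hk
    rw [coeff_mk, coeff_sig_pow_mul, if_neg (by omega), if_pos (by omega),
      show i + 2 - 1 = i + 1 by omega, show k + 2 - 1 = k + 1 by omega]
    have h1 : (-1 : K) ^ i * (-1) ^ (i + 1 - (k + 1)) = (-1) ^ k := by
      rw [← pow_add, show i + (i + 1 - (k + 1)) = k + 2 * (i - k) by omega, pow_add, pow_mul]
      simp
    rw [← h1]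
    ring
  have hm := congrArg (coeff m) hΓ
  rw [coeff_derivative, PowerSeries.coeff_mul, Finset.Nat.sum_antidiagonal_eq_sum_range_succ_mk,
    coeff_gammaSeries, mul_comm] at hm
  simp only [coeff_gammaSeries, hc] at hm
  rw [AdamsSp.Rel, hm, Fin.sum_univ_eq_sum_range (fun i => (-1 : K) ^ i * qg x (i + 1) * gamma (m - i) x)]

lemma gamma_eq_E [Algebra ℚ K] (x : K) (n : ℕ) : gamma n x = E (qg x) n :=
  (E_eq_of_rel (a := fun n => gamma n x) (gamma_zero x) n fun m _ => rel_gamma x m).symm

lemma map_gamma {A : Type v} [CommRing A] [LambdaOps A] (f : K →+* A) (x : K) (y : A)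
    (hf : ∀ n, f (LambdaOps.lam n x) = LambdaOps.lam n y) (n : ℕ) :
    f (gamma n x) = gamma n y := by
  unfold gamma
  split_ifs with h
  · simp
  · rw [map_sum]
    refine Finset.sum_congr rfl fun j _ => ?_
    rw [map_mul, map_natCast]
    split_ifs with hj
    · simp
    · rw [hf]

end Groth.Agent.GammaN
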