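import Groth.Agent.Lib.AdamsSpecial

/-!
Existence and weights of the universal polynomials of λ-rings.
-/

namespace Groth.Agent.AdamsSp

open MvPolynomial Finset LambdaRing

universe u v

lemma esymm_map_reindex {α β : Type*} [Fintype α] [CommRing β] (f : α → β) (τ : α ≃ α) (n : ℕ) :
    ((Finset.univ : Finset α).val.map (fun a => f (τ a))).esymm n =
      ((Finset.univ : Finset α).val.map f).esymm n := by
  conv_rhs => rw [← Multiset.map_univ_val_equiv τ, Multiset.map_map]
  rfl

lemma map_multiset_esymm {α β γ : Type*} [CommRing β] [CommRing γ] (g : β →+* γ) (f : α → β)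
    (s : Multiset α) (n : ℕ) : g ((s.map f).esymm n) = (s.map fun a => g (f a)).esymm n := by
  simp [Multiset.esymm, Multiset.powersetCard_map, Multiset.map_map, map_multiset_sum,
    map_multiset_prod, Function.comp_def]

lemma exists_esymm_eq {A : Type u} [CommRing A] (n : ℕ) (g : MvPolynomial (Fin n) A)
    (hg : g.IsSymmetric) :
    ∃ p, aeval (R := A) (fun i : Fin n => esymm (Fin n) A ((i : ℕ) + 1)) p = g := by
  obtain ⟨p, hp⟩ := esymmAlgHom_fin_surjective A (n := n) (m := n) le_rfl ⟨g, hg⟩
  exact ⟨p, by rw [← esymmAlgHom_apply, hp]⟩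

lemma exists_esymm_two {A : Type u} [CommRing A] (n : ℕ) (F : MvPolynomial (Fin n ⊕ Fin n) A)
    (h1 : ∀ σ : Equiv.Perm (Fin n), rename (Sum.map σ id) F = F)
    (h2 : ∀ σ : Equiv.Perm (Fin n), rename (Sum.map id σ) F = F) :
    ∃ P, aeval (R := A) (Sum.elim (fun k : Fin n => rename Sum.inl (esymm (Fin n) A ((k : ℕ) + 1)))
      (fun k : Fin n => rename Sum.inr (esymm (Fin n) A ((k : ℕ) + 1)))) P = F := by
  classical
  set Θ := aeval (R := A) (Sum.elim (fun k : Fin n => rename Sum.inl (esymm (Fin n) A ((k : ℕ) + 1)))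
      (fun k : Fin n => rename Sum.inr (esymm (Fin n) A ((k : ℕ) + 1))))
  set e := sumAlgEquiv A (Fin n) (Fin n)
  set θ := aeval (R := A) (fun i : Fin n => esymm (Fin n) A ((i : ℕ) + 1))
  set Ψ := aeval (R := MvPolynomial (Fin n) A)
    (fun i : Fin n => esymm (Fin n) (MvPolynomial (Fin n) A) ((i : ℕ) + 1)) with hΨ
  have hl : ∀ p : MvPolynomial (Fin n) A, e (rename Sum.inl p) = map (C : A →+* _) p := fun p => by
    induction p using MvPolynomial.induction_on with
    | C a => simp [e]
    | add p q hp hq => simp [hp, hq]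
    | mul_X p l hp => simp [hp, e]
  have hr : ∀ p : MvPolynomial (Fin n) A, e (rename Sum.inr p) = C p := fun p => by
    induction p using MvPolynomial.induction_on with
    | C a => simp [e]
    | add p q hp hq => simp [hp, hq]
    | mul_X p l hp => simp [hp, e]
  have hcomp : ∀ p, e (Θ p) = Ψ (map (θ : MvPolynomial (Fin n) A →+* _) (e p)) := fun p => by
    induction p using MvPolynomial.induction_on with
    | C a => simp [e, Θ, Ψ, θ]
    | add p q hp hq => simp [hp, hq]
    | mul_X p l hp =>
      rw [map_mul Θ, map_mul e, map_mul e p, map_mul (MvPolynomial.map _), map_mul Ψ, hp]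
      congr 1
      rcases l with l | l
      · simp only [Θ, aeval_X, Sum.elim_inl, hl]
        simp [e, Ψ, map_esymm]
      · simp only [Θ, aeval_X, Sum.elim_inr, hr]
        simp [e, Ψ, θ]
  have hσl : ∀ (σ : Equiv.Perm (Fin n)) p, e (rename (Sum.map σ id) p) = rename σ (e p) := by
    intro σ p
    induction p using MvPolynomial.induction_on with
    | C a => simp [e]
    | add p q hp hq => simp [hp, hq]
    | mul_X p l hp => rcases l with l | l <;> simp [hp, e]
  have hσr : ∀ (σ : Equiv.Perm (Fin n)) p, e (rename (Sum.map id σ) p) =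
      map (rename σ : MvPolynomial (Fin n) A →ₐ[A] _).toRingHom (e p) := by
    intro σ p
    induction p using MvPolynomial.induction_on with
    | C a => simp [e]
    | add p q hp hq => simp [hp, hq]
    | mul_X p l hp => rcases l with l | l <;> simp [hp, e]
  obtain ⟨p, hp⟩ := exists_esymm_eq n (e F) fun σ => by rw [← hσl, h1]
  rw [← hΨ] at hp
  have hps : ∀ σ : Equiv.Perm (Fin n),
      map (rename σ : MvPolynomial (Fin n) A →ₐ[A] _).toRingHom p = p := by
    intro σ
    apply esymm_injective n (MvPolynomial (Fin n) A)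
    change Ψ _ = Ψ _
    rw [hp]
    conv_rhs => rw [← h2 σ, hσr, ← hp]
    have hcm : Ψ.toRingHom.comp (map (rename σ : MvPolynomial (Fin n) A →ₐ[A] _).toRingHom) =
        (map (rename σ : MvPolynomial (Fin n) A →ₐ[A] _).toRingHom).comp Ψ.toRingHom :=
      MvPolynomial.ringHom_ext (fun a => by simp [Ψ]) (fun i => by simp [Ψ, map_esymm])
    exact RingHom.congr_fun hcm p
  have hc : ∀ d, ∃ q, θ q = coeff d p := fun d => exists_esymm_eq n _ fun σ => by
    conv_rhs => rw [← hps σ, coeff_map]
    rfl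
  choose q hq using hc
  refine ⟨e.symm (∑ d ∈ p.support, monomial d (q d)), e.injective ?_⟩
  rw [hcomp, AlgEquiv.apply_symm_apply, map_sum]
  simp only [map_monomial, RingHom.coe_coe, hq]
  rw [support_sum_monomial_coeff, hp]

lemma mulGen_symm_left (n : ℕ) (σ : Equiv.Perm (Fin n)) :
    rename (Sum.map σ id) (mulGen n n) = mulGen n n := by
  rw [mulGen, ← RingHom.coe_coe, map_multiset_esymm]
  conv_rhs => rw [← esymm_map_reindex _ (Equiv.prodCongr σ (Equiv.refl _))]
  simp

lemma mulGen_symm_right (n : ℕ) (σ : Equiv.Perm (Fin n)) :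
    rename (Sum.map id σ) (mulGen n n) = mulGen n n := by
  rw [mulGen, ← RingHom.coe_coe, map_multiset_esymm]
  conv_rhs => rw [← esymm_map_reindex _ (Equiv.prodCongr (Equiv.refl _) σ)]
  simp

lemma compGen_symm (N i j : ℕ) : (compGen N i j).IsSymmetric := by
  classical
  intro σ
  have h : ((Finset.univ : Finset (Fin N)).powersetCard i).map
      (Finset.mapEmbedding σ.toEmbedding).toEmbedding = Finset.univ.powersetCard i := by
    rw [← Finset.powersetCard_map, Finset.map_univ_equiv]
  rw [compGen, ← RingHom.coe_coe, map_multiset_esymm]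
  conv_rhs => rw [← h, Finset.map_val, Multiset.map_map]
  simp [Function.comp_def, Finset.mapEmbedding_apply]

section Homog

variable {ι M : Type*} [AddCommMonoid M] {w : ι → M}

lemma isHomog_int (p : MvPolynomial ι ℤ) (m : M)
    (h : IsWeightedHomogeneous w (aeval X p : MvPolynomial ι ℚ) m) : IsWeightedHomogeneous w p m := by
  intro d hd
  have : (aeval X p : MvPolynomial ι ℚ) = map (Int.castRingHom ℚ) p := by
    clear h hd
    induction p using MvPolynomial.induction_on with
    | C r => simp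
    | add p q hp hq => simp [hp, hq]
    | mul_X p l hp => simp [hp]
  apply h
  rw [this, coeff_map]
  simpa using hd

lemma isHomog_C_mul {m : M} {p : MvPolynomial ι ℚ} (hp : IsWeightedHomogeneous w p m) (r : ℚ) :
    IsWeightedHomogeneous w (C r * p) m := hp.C_mul r

lemma isHomog_E (q : ℕ → MvPolynomial ι ℚ) (w1 : M)
    (hq : ∀ k, IsWeightedHomogeneous w (q k) (k • w1)) (n : ℕ) :
    IsWeightedHomogeneous w (E q n) (n • w1) := by
  induction n using Nat.strong_induction_on with
  | _ n ih =>
    rcases n with _ | m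
    · rw [E, zero_smul]
      exact isWeightedHomogeneous_one ℚ w
    · rw [E, algebraMap_eq]
      refine IsWeightedHomogeneous.C_mul (IsWeightedHomogeneous.sum _ _ _ fun i _ => ?_) _
      rw [mul_assoc, show ((-1 : MvPolynomial ι ℚ)) ^ (i : ℕ) = C ((-1) ^ (i : ℕ)) by simp]
      refine IsWeightedHomogeneous.C_mul ?_ _
      have h := (hq ((i : ℕ) + 1)).mul (ih (m - i) (by omega))
      rwa [← add_smul, show (i : ℕ) + 1 + (m - i) = m + 1 by omega] at h

lemma isHomog_W (e : ℕ → MvPolynomial ι ℚ) (w1 : M)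
    (he : ∀ k, IsWeightedHomogeneous w (e k) (k • w1)) (n : ℕ) :
    IsWeightedHomogeneous w (W e n) (n • w1) := by
  induction n using Nat.strong_induction_on with
  | _ n ih =>
    rcases n with _ | m
    · rw [W]
      exact isWeightedHomogeneous_zero ℚ w _
    · rw [W, show ((-1 : MvPolynomial ι ℚ)) ^ m = C ((-1) ^ m) by simp,
        show ((m : MvPolynomial ι ℚ) + 1) = C ((m : ℚ) + 1) by simp]
      refine IsWeightedHomogeneous.C_mul (IsWeightedHomogeneous.sub ((he (m + 1)).C_mul _)
        (IsWeightedHomogeneous.sum _ _ _ fun i _ => ?_)) _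
      rw [mul_assoc, show ((-1 : MvPolynomial ι ℚ)) ^ (i : ℕ) = C ((-1) ^ (i : ℕ)) by simp]
      refine IsWeightedHomogeneous.C_mul ?_ _
      have h := (ih ((i : ℕ) + 1) (by omega)).mul (he (m - i))
      rwa [← add_smul, show (i : ℕ) + 1 + (m - i) = m + 1 by omega] at h

lemma isHomog_eX {n : ℕ} (emb : Fin n → ι) (w1 : M)
    (hw : ∀ t : Fin n, w (emb t) = ((t : ℕ) + 1) • w1) (k : ℕ) :
    IsWeightedHomogeneous w (eX n emb k) (k • w1) := by
  simp only [eX]
  split_ifs with h h'
  · have := isWeightedHomogeneous_X ℚ w (emb ⟨k - 1, by omega⟩)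
    rwa [hw, show (k - 1 : ℕ) + 1 = k by omega] at this
  · subst h'
    rw [zero_smul]
    exact isWeightedHomogeneous_one ℚ w
  · exact isWeightedHomogeneous_zero ℚ w _

end Homog

theorem exists_isMulPoly (n : ℕ) : ∃ P, IsMulPoly n P := by
  obtain ⟨P, hP⟩ := exists_esymm_two n (mulGen n n) (mulGen_symm_left n) (mulGen_symm_right n)
  refine ⟨P, hP, isHomog_int _ _ ?_⟩
  rw [mulPoly_eq n P hP]
  have h := isHomog_E (w := Sum.elim (fun k : Fin n => (((k : ℕ) + 1, 0) : ℕ × ℕ))
      (fun k : Fin n => ((0, (k : ℕ) + 1) : ℕ × ℕ)))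
    (fun k => W (eX n (Sum.inl : Fin n → Fin n ⊕ Fin n)) k *
      W (eX n (Sum.inr : Fin n → Fin n ⊕ Fin n)) k) ((1, 0) + (0, 1)) (fun k => by
      rw [smul_add]
      exact (isHomog_W _ _ (isHomog_eX _ (1, 0) fun t => by simp) k).mul
        (isHomog_W _ _ (isHomog_eX _ (0, 1) fun t => by simp) k)) n
  simpa using h

theorem exists_isCompPoly (i j : ℕ) : ∃ Q, IsCompPoly i j Q := by
  obtain ⟨Q, hQ⟩ := exists_esymm_eq (i * j) _ (compGen_symm (i * j) i j)
  refine ⟨Q, hQ, isHomog_int _ _ ?_⟩
  rw [compPoly_eq i j Q hQ]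
  have h := isHomog_E (w := fun k : Fin (i * j) => (k : ℕ) + 1)
    (fun k => E (fun l => W (eX (i * j) (id : Fin (i * j) → Fin (i * j))) (l * k)) i) i (fun k => by
      have h := isHomog_E (w := fun k : Fin (i * j) => (k : ℕ) + 1)
        (fun l => W (eX (i * j) (id : Fin (i * j) → Fin (i * j))) (l * k)) k (fun l => by
          have h := isHomog_W _ _ (isHomog_eX (w := fun k : Fin (i * j) => (k : ℕ) + 1)
            (id : Fin (i * j) → Fin (i * j)) 1 fun t => by simp) (l * k)
          simpa using h) i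
      simpa [mul_comm] using h) j
  simpa [mul_comm] using h

end Groth.Agent.AdamsSp
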