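import Groth.Agent.Lib.GammaNewton
import Groth.Agent.Lib.LambdaPoly

/-!
λ-vectors: the sequence `n ↦ λ^n f` computed universally, compatibly with ring maps.
-/

namespace Groth.Agent.GammaV

open MvPolynomial Finset LambdaRing Groth.Agent.AdamsSp Groth.Agent.GammaN

universe u v

lemma lam_zero_elt {B : Type u} [CommRing B] [LambdaOps B] (n : ℕ) :
    LambdaOps.lam n (0 : B) = if n = 0 then 1 else 0 := by
  have h1 : lamSeries (0 : B) * lamSeries (0 : B) = lamSeries (0 : B) := by
    ext m
    rw [PowerSeries.coeff_mul, Finset.Nat.sum_antidiagonal_eq_sum_range_succ_mk, lamSeries,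
      PowerSeries.coeff_mk]
    conv_rhs => rw [← add_zero (0 : B), LambdaOps.lam_add]
    refine Finset.sum_congr rfl fun i _ => ?_
    simp
  have h2 : lamSeries (0 : B) = 1 := by
    have := congrArg (· * (lamSeries (0 : B)).invOfUnit 1) h1
    simpa [mul_assoc, lamSeries_mul_inv] using this
  have := congrArg (PowerSeries.coeff n) h2
  rw [lamSeries, PowerSeries.coeff_mk, PowerSeries.coeff_one] at this
  exact this

lemma lam_natCast {B : Type u} [CommRing B] [LambdaOps B] (hB : IsSpecial B) (c n : ℕ) :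
    LambdaOps.lam n (c : B) = (c.choose n : B) := by
  induction c generalizing n with
  | zero =>
    rw [Nat.cast_zero, lam_zero_elt]
    rcases n with _ | n <;> simp
  | succ c ih =>
    rw [Nat.cast_succ, LambdaOps.lam_add]
    rcases n with _ | n
    · simp [LambdaOps.lam_zero]
    · rw [Finset.sum_range_succ, Finset.sum_range_succ, Nat.sub_self, LambdaOps.lam_zero, mul_one,
        Finset.sum_eq_zero (fun i hi => by
          rw [hB.lam_one_eq_zero _ (by simp only [Finset.mem_range] at hi; omega), mul_zero]),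
        zero_add, show n + 1 - n = 1 by omega, LambdaOps.lam_one, mul_one, ih, ih, Nat.choose_succ_succ,
        Nat.cast_add]

variable {S : Type u} [CommRing S]

/-- `a` computes the λ-operations of `f` under the evaluation `e`. -/
def Is {B : Type v} [CommRing B] [LambdaOps B] (e : S →+* B) (a : ℕ → S) (f : B) : Prop :=
  ∀ n, e (a n) = LambdaOps.lam n f

/-- The vector of `0`. -/
def zeroV : ℕ → S := fun n => if n = 0 then 1 else 0

/-- The vector of `1`. -/
def oneV : ℕ → S := fun n => if n ≤ 1 then 1 else 0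

/-- The vector of a sum. -/
def addV (a b : ℕ → S) : ℕ → S := fun n => ∑ i ∈ range (n + 1), a i * b (n - i)

/-- The vector of a natural multiple. -/
def nsmulV (a : ℕ → S) : ℕ → (ℕ → S)
  | 0 => zeroV
  | k + 1 => addV (nsmulV a k) a

/-- The vector of a finite sum over `range`. -/
def sumV (a : ℕ → ℕ → S) : ℕ → (ℕ → S)
  | 0 => zeroV
  | k + 1 => addV (sumV a k) (a k)

/-- The universal polynomial `P_n`. -/
noncomputable def Pn (n : ℕ) : MvPolynomial (Fin n ⊕ Fin n) ℤ := (exists_isMulPoly n).choose

/-- The universal polynomial `Q_{i,j}`. -/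
noncomputable def Qn (i j : ℕ) : MvPolynomial (Fin (i * j)) ℤ := (exists_isCompPoly i j).choose

/-- The vector of a product. -/
noncomputable def mulV (a b : ℕ → S) : ℕ → S := fun n =>
  aeval (Sum.elim (fun k : Fin n => a ((k : ℕ) + 1)) (fun k : Fin n => b ((k : ℕ) + 1))) (Pn n)

/-- The vector of `λ^i`. -/
noncomputable def compV (a : ℕ → S) (i : ℕ) : ℕ → S := fun j =>
  aeval (fun k : Fin (i * j) => a ((k : ℕ) + 1)) (Qn i j)

/-- The γ-operations from a vector. -/
def gammaOf (a : ℕ → S) (i : ℕ) : S :=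
  if i = 0 then 1 else ∑ j ∈ range i, ((i - 1).choose j : S) * a (j + 1)

/-- The vector of the γ-operation `γ^(i+1)`. -/
noncomputable def gammaV (a : ℕ → S) (i : ℕ) : ℕ → S :=
  sumV (fun j => nsmulV (compV a (j + 1)) (i.choose j)) (i + 1)

/-- The vector with prescribed γ-operations. -/
def ofGamma (g : ℕ → S) : ℕ → S
  | 0 => 1
  | n + 1 => g n - ∑ j : Fin n, (n.choose (j : ℕ) : S) * ofGamma g ((j : ℕ) + 1)
decreasing_by omega

variable {B : Type v} [CommRing B] [LambdaOps B] {e : S →+* B}

lemma is_zeroV : Is e (zeroV : ℕ → S) 0 := fun n => by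
  rw [lam_zero_elt, zeroV]
  split_ifs <;> simp

lemma is_oneV (hB : IsSpecial B) : Is e (oneV : ℕ → S) 1 := fun n => by
  simp only [oneV]
  split_ifs with h
  · interval_cases n
    · rw [map_one, LambdaOps.lam_zero]
    · rw [map_one, LambdaOps.lam_one]
  · rw [map_zero, hB.lam_one_eq_zero n (by omega)]

lemma is_addV {a b : ℕ → S} {f g : B} (ha : Is e a f) (hb : Is e b g) : Is e (addV a b) (f + g) :=
  fun n => by
    rw [addV, map_sum, LambdaOps.lam_add]
    exact Finset.sum_congr rfl fun i _ => by rw [map_mul, ha, hb]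

lemma is_nsmulV {a : ℕ → S} {f : B} (ha : Is e a f) (k : ℕ) : Is e (nsmulV a k) ((k : B) * f) := by
  induction k with
  | zero => simpa [nsmulV] using is_zeroV
  | succ k ih =>
    rw [nsmulV, Nat.cast_succ, add_mul, one_mul]
    exact is_addV ih ha

lemma is_sumV {a : ℕ → ℕ → S} {f : ℕ → B} (ha : ∀ j, Is e (a j) (f j)) (k : ℕ) :
    Is e (sumV a k) (∑ j ∈ range k, f j) := by
  induction k with
  | zero => simpa [sumV] using is_zeroV
  | succ k ih =>
    rw [sumV, Finset.sum_range_succ]
    exact is_addV ih (ha k)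

lemma map_aeval_int {ι : Type*} (v : ι → S) (p : MvPolynomial ι ℤ) :
    e (aeval v p) = aeval (fun i => e (v i)) p := by
  rw [aeval_def, aeval_def, eval₂_comp_left e]
  congr 1
  exact RingHom.ext_int _ _

lemma is_mulV (hB : IsSpecial B) {a b : ℕ → S} {f g : B} (ha : Is e a f) (hb : Is e b g) :
    Is e (mulV a b) (f * g) := fun n => by
  rw [mulV, map_aeval_int, hB.lam_mul n (Pn n) (exists_isMulPoly n).choose_spec]
  congr 2
  funext i
  rcases i with i | i <;> simp [ha _, hb _]

lemma is_compV (hB : IsSpecial B) {a : ℕ → S} {f : B} (ha : Is e a f) (i : ℕ) :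
    Is e (compV a i) (LambdaOps.lam i f) := fun n => by
  rw [compV, map_aeval_int, hB.lam_lam i n (Qn i n) (exists_isCompPoly i n).choose_spec]
  congr 2
  funext k
  rw [ha]

lemma gamma_succ (i : ℕ) (f : B) :
    gamma (i + 1) f = ∑ j ∈ range (i + 1), (i.choose j : B) * LambdaOps.lam (j + 1) f := by
  rw [gamma, if_neg (by omega), Finset.sum_range_succ']
  simp

lemma map_gammaOf {a : ℕ → S} {f : B} (ha : Is e a f) (i : ℕ) : e (gammaOf a i) = gamma i f := by
  rcases i with _ | i
  · simp [gammaOf, gamma]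
  · rw [gamma_succ, gammaOf, if_neg (by omega), map_sum, Nat.add_sub_cancel]
    exact Finset.sum_congr rfl fun j _ => by rw [map_mul, map_natCast, ha]

lemma is_gammaV (hB : IsSpecial B) {a : ℕ → S} {f : B} (ha : Is e a f) (i : ℕ) :
    Is e (gammaV a i) (gamma (i + 1) f) := by
  rw [gamma_succ]
  exact is_sumV (fun j => is_nsmulV (is_compV hB ha (j + 1)) (i.choose j)) (i + 1)

lemma is_ofGamma {g : ℕ → S} {f : B} (hg : ∀ n, e (g n) = gamma (n + 1) f) : Is e (ofGamma g) f := by
  intro n
  induction n using Nat.strong_induction_on with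
  | _ n ih =>
    rcases n with _ | m
    · rw [ofGamma, map_one, LambdaOps.lam_zero]
    · rw [ofGamma, map_sub, hg, gamma_succ, map_sum, Finset.sum_range_succ, Nat.choose_self,
        Nat.cast_one, one_mul, Finset.sum_congr rfl (g := fun j : Fin m =>
          (m.choose (j : ℕ) : B) * LambdaOps.lam ((j : ℕ) + 1) f) (fun j _ => by
          rw [map_mul, map_natCast, ih _ (by omega)]),
        Fin.sum_univ_eq_sum_range (fun j => (m.choose j : B) * LambdaOps.lam (j + 1) f)]
      ring

end Groth.Agent.GammaV
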