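import Groth.Agent.Lib.GammaModel
import Groth.Agent.Lib.GammaVec

/-!
Universal identity behind the γ-filtration: `γ^i(κ ∏ γ^(r_j) x_j)` is a combination of monomials
in the `γ^r x_j` of weight at least `max i (∑ r_j)`, with known leading term.
-/

namespace Groth.Agent.GammaU

open MvPolynomial Finset LambdaRing Groth.Agent.AdamsSp Groth.Agent.GammaN Groth.Agent.GammaM
  Groth.Agent.GammaV
open scoped TensorProduct

universe u v w

variable {R : Type w}

instance instWt : Wt (R × ℕ) := ⟨fun p => p.2 + 1⟩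

/-- The span of monomials of weight at least `n`. -/
def Wid {A : Type v} [CommRing A] (g : R × ℕ → A) (n : ℕ) : Ideal A :=
  Ideal.span {m | ∃ μ : R × ℕ →₀ ℕ, n ≤ wt μ ∧ m = μ.prod fun p k => g p ^ k}

/-- The generators of the model. -/
noncomputable def xgen (r : R) : MvPowerSeries (R × ℕ) ℚ :=
  open scoped Classical in
  fun d => if ∃ i, d = Finsupp.single (r, i) 1 then ((wt d).factorial : ℚ)⁻¹ else 0

/-- The formal power sums. -/
noncomputable def qX (r : R) (N : ℕ) : MvPolynomial (R × ℕ) ℚ :=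
  if N = 0 then 0 else X (r, N - 1)

lemma ge_one_xgen (r : R) : Ge 1 (xgen r) := by
  classical
  intro d hd
  change (if ∃ i, d = Finsupp.single (r, i) 1 then ((wt d).factorial : ℚ)⁻¹ else 0) = 0
  rw [if_neg]
  rintro ⟨i, rfl⟩
  rw [wt_single] at hd
  change 1 * (i + 1) < 1 at hd
  omega

lemma top_xgen (r : R) (N : ℕ) (hN : 1 ≤ N) :
    MvPowerSeries.C (N.factorial : ℚ) * top N (xgen r) = ((qX r N : MvPolynomial (R × ℕ) ℚ) :
      MvPowerSeries (R × ℕ) ℚ) := by
  classical
  ext d
  rw [MvPowerSeries.coeff_C_mul, coeff_top, MvPolynomial.coeff_coe, qX, if_neg (show N ≠ 0 by omega),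
    MvPolynomial.coeff_X]
  have hc : MvPowerSeries.coeff d (xgen r) =
      if ∃ i, d = Finsupp.single (r, i) 1 then ((wt d).factorial : ℚ)⁻¹ else 0 := rfl
  by_cases hd : Finsupp.single (r, N - 1) 1 = d
  · subst hd
    have hw : wt (Finsupp.single ((r, N - 1) : R × ℕ) 1) = N := by
      rw [wt_single]; change 1 * (N - 1 + 1) = N; omega
    rw [if_pos hw, hc, if_pos ⟨_, rfl⟩, hw, if_pos rfl,
      mul_inv_cancel₀ (Nat.cast_ne_zero.2 N.factorial_ne_zero)]
  · rw [if_neg hd]
    split_ifs with hw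
    · rw [hc, if_neg, mul_zero]
      rintro ⟨i, rfl⟩
      rw [wt_single] at hw
      change 1 * (i + 1) = N at hw
      exact hd (by rw [show N - 1 = i by omega])
    · rw [mul_zero]

/-- The leading term map. -/
noncomputable def Lead : MvPolynomial (R × ℕ) ℚ →ₐ[ℚ] MvPolynomial (R × ℕ) ℚ :=
  aeval fun p => E (qX p.1) (p.2 + 1)

lemma rel_W {S : Type u} [CommRing S] (a : ℕ → S) (h0 : a 0 = 1) (m : ℕ) : Rel a (W a) m := by
  rw [AdamsSp.Rel, Fin.sum_univ_castSucc]
  simp only [Fin.val_castSucc, Fin.val_last, Nat.sub_self, h0, mul_one]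
  conv_rhs => rw [W.eq_def a (m + 1)]
  simp only
  rw [← mul_assoc, ← mul_pow, neg_mul_neg, one_mul, one_pow, one_mul, add_sub_cancel]

lemma lead_injective : Function.Injective (Lead : MvPolynomial (R × ℕ) ℚ →ₐ[ℚ] _) := by
  let gs : R → ℕ → MvPolynomial (R × ℕ) ℚ := fun r n => if n = 0 then 1 else X (r, n - 1)
  let back : MvPolynomial (R × ℕ) ℚ →ₐ[ℚ] MvPolynomial (R × ℕ) ℚ :=
    aeval fun p => W (gs p.1) (p.2 + 1)
  have h : back.comp Lead = AlgHom.id ℚ _ := by
    refine MvPolynomial.algHom_ext fun p => ?_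
    simp only [AlgHom.comp_apply, Lead, aeval_X, AlgHom.id_apply]
    rw [show back (E (qX p.1) (p.2 + 1)) = E (fun N => back (qX p.1 N)) (p.2 + 1) from
        map_E back.toRingHom _ _,
      E_congr _ (W (gs p.1)) _ fun N hN _ => by
        simp only [qX, back]
        rw [if_neg (by omega), aeval_X, show N - 1 + 1 = N by omega],
      E_eq_of_rel (a := gs p.1) (by simp [gs]) _ fun m _ => rel_W _ (by simp [gs]) m]
    simp [gs]
  intro a b hab
  have := congrArg back hab
  rwa [← AlgHom.comp_apply, ← AlgHom.comp_apply, h] at this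

/-- Evaluation in the model. -/
noncomputable def theta : MvPolynomial (R × ℕ) ℤ →+* MvPowerSeries (R × ℕ) ℚ :=
  eval₂Hom (Int.castRingHom _) fun p => gamma (p.2 + 1) (xgen p.1)

lemma theta_monomial_one (μ : R × ℕ →₀ ℕ) :
    Ge (wt μ) (theta (monomial μ 1)) ∧
      top (wt μ) (theta (monomial μ 1)) =
        ((Lead (monomial μ 1) : MvPolynomial (R × ℕ) ℚ) : MvPowerSeries (R × ℕ) ℚ) := by
  classical
  have hX : ∀ p : R × ℕ, Ge (p.2 + 1) (theta (X p)) ∧ top (p.2 + 1) (theta (X p)) =
      ((Lead (X p) : MvPolynomial (R × ℕ) ℚ) : MvPowerSeries (R × ℕ) ℚ) := by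
    intro p
    rw [theta, eval₂Hom_X', Lead, aeval_X]
    refine ⟨(ge_gamma (ge_one_xgen p.1) (ge_zero _) _ (by omega)).mono (le_max_left _ _), ?_⟩
    rw [top_gamma (ge_one_xgen p.1),
      show ((E (qX p.1) (p.2 + 1) : MvPolynomial (R × ℕ) ℚ) : MvPowerSeries (R × ℕ) ℚ) =
        E (fun N => MvPolynomial.coeToMvPowerSeries.ringHom (qX p.1 N)) (p.2 + 1) from
        map_E (MvPolynomial.coeToMvPowerSeries.ringHom :
          MvPolynomial (R × ℕ) ℚ →+* MvPowerSeries (R × ℕ) ℚ) _ _]
    exact E_congr _ _ _ fun N hN _ => top_xgen p.1 N hN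
  induction μ using Finsupp.induction with
  | zero =>
    rw [wt_zero, show (monomial (0 : R × ℕ →₀ ℕ) (1 : ℤ)) = 1 from rfl,
      show (monomial (0 : R × ℕ →₀ ℕ) (1 : ℚ)) = 1 from rfl, map_one, map_one, MvPolynomial.coe_one]
    exact ⟨ge_zero _, top_one⟩
  | single_add a k μ _ _ ih =>
    have hk : ∀ k : ℕ, Ge (k * (a.2 + 1)) (theta (X a) ^ k) ∧
        top (k * (a.2 + 1)) (theta (X a) ^ k) =
          ((Lead (X a) ^ k : MvPolynomial (R × ℕ) ℚ) : MvPowerSeries (R × ℕ) ℚ) := by
      intro k
      induction k with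
      | zero => rw [zero_mul, pow_zero, pow_zero, MvPolynomial.coe_one]; exact ⟨ge_zero _, top_one⟩
      | succ k ihk =>
        rw [add_mul, one_mul, pow_succ, pow_succ]
        exact ⟨ihk.1.mul (hX a).1, by
          rw [top_mul ihk.1 (hX a).1, ihk.2, (hX a).2, MvPolynomial.coe_mul]⟩
    rw [wt_add, wt_single, monomial_single_add, monomial_single_add, map_mul, map_pow, map_mul, map_pow]
    exact ⟨(hk k).1.mul ih.1, by
      rw [MvPolynomial.coe_mul]
      exact (top_mul (hk k).1 ih.1).trans (congrArg₂ (· * ·) (hk k).2 ih.2)⟩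

/-- The leading terms are independent: `theta` detects weights. -/
theorem coeff_eq_zero_of_ge (p : MvPolynomial (R × ℕ) ℤ) (n : ℕ) (h : Ge n (theta p))
    (μ : R × ℕ →₀ ℕ) (hμ : wt μ < n) : p.coeff μ = 0 := by
  classical
  induction hm : wt μ using Nat.strong_induction_on generalizing μ with
  | _ m ih =>
    subst hm
    set m := wt μ with hm
    have hcast : ∀ (z : ℤ) (ν : R × ℕ →₀ ℕ),
        theta (monomial ν z) = MvPowerSeries.C (z : ℚ) * theta (monomial ν 1) := fun z ν => by
      rw [show monomial ν z = C z * monomial ν 1 by rw [C_mul_monomial, mul_one], map_mul]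
      simp [theta]
    have h0 : top m (theta p) = 0 := top_eq_zero h hμ
    rw [← support_sum_monomial_coeff p, map_sum, top_sum] at h0
    let q : MvPolynomial (R × ℕ) ℚ :=
      ∑ ν ∈ p.support.filter (fun ν => wt ν = m), monomial ν ((p.coeff ν : ℤ) : ℚ)
    have hq : ((Lead q : MvPolynomial (R × ℕ) ℚ) : MvPowerSeries (R × ℕ) ℚ) = 0 := by
      rw [← h0, map_sum, ← MvPolynomial.coeToMvPowerSeries.ringHom_apply, map_sum, Finset.sum_filter]
      refine Finset.sum_congr rfl fun ν hν => ?_
      rcases lt_trichotomy (wt ν) m with hν' | hν' | hν'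
      · rw [if_neg (by omega)]
        exact absurd (ih (wt ν) hν' ν (by omega) rfl) (mem_support_iff.1 hν)
      · rw [if_pos hν', MvPolynomial.coeToMvPowerSeries.ringHom_apply, hcast, top_C_mul, ← hν',
          (theta_monomial_one ν).2, show monomial ν ((p.coeff ν : ℤ) : ℚ) =
            C ((p.coeff ν : ℤ) : ℚ) * monomial ν 1 by rw [C_mul_monomial, mul_one], map_mul,
          MvPolynomial.coe_mul, MvPolynomial.algHom_C, MvPolynomial.algebraMap_eq, MvPolynomial.coe_C]
      · rw [if_neg (by omega), hcast, top_C_mul, top_eq_zero (theta_monomial_one ν).1 hν', mul_zero]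
    have hq0 : q = 0 := lead_injective (by
      rw [map_zero]
      apply MvPolynomial.coe_injective
      simpa using hq)
    by_contra hne
    have := congrArg (coeff μ) hq0
    rw [coeff_sum, Finset.sum_eq_single μ (fun b _ hb => by rw [coeff_monomial, if_neg hb])
      (fun hnot => absurd (Finset.mem_filter.2 ⟨mem_support_iff.2 hne, hm.symm⟩) hnot)] at this
    simp [hne] at this

/-- Polynomials vanishing at the binomial coefficients of all natural numbers vanish on those of
any element of a binomial ring. -/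
theorem eval_choose_eq_zero {K : Type u} [CommRing K] [BinomialRing K] (p : MvPolynomial ℕ ℤ)
    (hp : ∀ c : ℕ, eval₂ (Int.castRingHom ℤ) (fun n => (c.choose n : ℤ)) p = 0) (κ : K) :
    eval₂ (Int.castRingHom K) (fun n => Ring.choose κ n) p = 0 := by
  let : IsAddTorsionFree K := BinomialRing.toIsAddTorsionFree
  let L := ℚ ⊗[ℤ] K
  let f : K →+* L := (Algebra.TensorProduct.includeRight : K →ₐ[ℤ] L).toRingHom
  have hf : Function.Injective f :=
    Algebra.TensorProduct.includeRight_injective (fun a b h => by simpa using h)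
  let b : ℕ → Polynomial ℚ := fun n => Polynomial.C ((n.factorial : ℚ)⁻¹) * descPochhammer ℚ n
  have hq : eval₂ (Int.castRingHom (Polynomial ℚ)) b p = 0 := by
    refine Polynomial.eq_zero_of_infinite_isRoot _ (Set.Infinite.mono ?_
      (Set.infinite_range_of_injective (Nat.cast_injective (R := ℚ))))
    rintro _ ⟨c, rfl⟩
    have hh := congrArg (Int.castRingHom ℚ) (hp c)
    rw [eval₂_comp_left, map_zero] at hh
    rw [Set.mem_setOf_eq, Polynomial.IsRoot, ← Polynomial.coe_evalRingHom, eval₂_comp_left]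
    convert hh using 2
    · exact RingHom.ext_int _ _
    · funext n
      simp only [Function.comp_apply, b, Polynomial.coe_evalRingHom, Polynomial.eval_mul,
        Polynomial.eval_C, descPochhammer_eval_eq_descFactorial, Nat.descFactorial_eq_factorial_mul_choose]
      push_cast
      rw [← mul_assoc, inv_mul_cancel₀ (Nat.cast_ne_zero.2 n.factorial_ne_zero), one_mul]
      simp
  apply hf
  have hh := congrArg (Polynomial.aeval (f κ) : Polynomial ℚ →ₐ[ℚ] L).toRingHom hq
  rw [eval₂_comp_left, map_zero] at hh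
  rw [map_zero, ← hh, eval₂_comp_left]
  congr 1
  · exact RingHom.ext_int _ _
  · funext n
    have h1 := congrArg (Algebra.TensorProduct.includeRight : K →ₐ[ℤ] L)
      (Ring.descPochhammer_eq_factorial_smul_choose κ n)
    rw [← Polynomial.aeval_eq_smeval, map_nsmul, ← Polynomial.aeval_algHom_apply,
      ← Polynomial.aeval_map_algebraMap ℚ, descPochhammer_map] at h1
    simp only [Function.comp_apply, b, AlgHom.toRingHom_eq_coe, RingHom.coe_coe, map_mul,
      Polynomial.aeval_C]
    change f (Ring.choose κ n) = _ * Polynomial.aeval ((Algebra.TensorProduct.includeRight : K →ₐ[ℤ] L) κ) _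
    rw [h1, nsmul_eq_mul, ← mul_assoc, ← map_natCast (algebraMap ℚ L), ← map_mul,
      inv_mul_cancel₀ (Nat.cast_ne_zero.2 n.factorial_ne_zero), map_one, one_mul]
    rfl

section Main

variable {B : Type v} [CommRing B]

/-- Evaluation with a scalar sequence `b` and values `g` of the variables. -/
noncomputable def evK (b : ℕ → B) (g : R × ℕ → B) :
    MvPolynomial (R × ℕ) (MvPolynomial ℕ ℤ) →+* B :=
  eval₂Hom (eval₂Hom (Int.castRingHom B) b) g

/-- The vector of the scalar. -/
noncomputable def kV : ℕ → MvPolynomial (R × ℕ) (MvPolynomial ℕ ℤ) := fun n => C (X n)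

/-- The vector of the generator `r`. -/
noncomputable def xV (r : R) : ℕ → MvPolynomial (R × ℕ) (MvPolynomial ℕ ℤ) :=
  ofGamma fun n => X (r, n)

/-- The vector of a product of γ-operations of generators. -/
noncomputable def lV : List (R × ℕ) → (ℕ → MvPolynomial (R × ℕ) (MvPolynomial ℕ ℤ))
  | [] => oneV
  | p :: l => mulV (gammaV (xV p.1) p.2) (lV l)

variable [LambdaOps B]

lemma is_term (hB : IsSpecial B) (b : ℕ → B) (κ : B) (hb : ∀ n, b n = LambdaOps.lam n κ)
    (x : R → B) (l : List (R × ℕ)) :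
    Is (evK b fun p => gamma (p.2 + 1) (x p.1)) (mulV kV (lV l))
      (κ * (l.map fun p => gamma (p.2 + 1) (x p.1)).prod) := by
  refine is_mulV hB (fun n => by simp [evK, kV, hb]) ?_
  induction l with
  | nil => simpa [lV] using is_oneV hB
  | cons p l ih =>
    rw [lV, List.map_cons, List.prod_cons]
    exact is_mulV hB (is_gammaV hB (is_ofGamma fun n => by simp [evK]) p.2) ih

omit [LambdaOps B] in
lemma evK_mem_Wid (b : ℕ → B) (g : R × ℕ → B) (D : MvPolynomial (R × ℕ) (MvPolynomial ℕ ℤ)) (N : ℕ)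
    (h : ∀ μ : R × ℕ →₀ ℕ, wt μ < N → eval₂ (Int.castRingHom B) b (D.coeff μ) = 0) :
    evK b g D ∈ Wid g N := by
  rw [← D.support_sum_monomial_coeff, map_sum]
  refine sum_mem fun μ _ => ?_
  rw [evK, eval₂Hom_monomial]
  rcases Nat.lt_or_ge (wt μ) N with hμ | hμ
  · rw [coe_eval₂Hom, h μ hμ, zero_mul]
    exact zero_mem _
  · exact Ideal.mul_mem_left _ _ (Ideal.subset_span ⟨μ, hμ, rfl⟩)

/-- Specialisation of the scalar to a natural number. -/
noncomputable def spec (c : ℕ) :
    MvPolynomial (R × ℕ) (MvPolynomial ℕ ℤ) →+* MvPolynomial (R × ℕ) ℤ :=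
  MvPolynomial.map (eval₂Hom (Int.castRingHom ℤ) fun n => (c.choose n : ℤ))

lemma theta_spec (c : ℕ) (D : MvPolynomial (R × ℕ) (MvPolynomial ℕ ℤ)) :
    theta (spec c D) =
      evK (fun n => LambdaOps.lam n (c : MvPowerSeries (R × ℕ) ℚ)) (fun p => gamma (p.2 + 1) (xgen p.1)) D := by
  have h : (theta (R := R)).comp (spec c) =
      evK (fun n => LambdaOps.lam n (c : MvPowerSeries (R × ℕ) ℚ))
        (fun p => gamma (p.2 + 1) (xgen p.1)) := by
    refine MvPolynomial.ringHom_ext (fun q => ?_) (fun p => by simp [theta, spec, evK])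
    simp only [RingHom.comp_apply, spec, map_C, theta, eval₂Hom_C, evK, coe_eval₂Hom]
    rw [show (Int.castRingHom (MvPowerSeries (R × ℕ) ℚ))
        (eval₂ (Int.castRingHom ℤ) (fun n => (c.choose n : ℤ)) q) = _ from eval₂_comp_left _ _ _ _]
    congr 1
    funext n
    simp [lam_natCast isSpecial_model]
  exact RingHom.congr_fun h D

theorem main {K : Type u} [CommRing K] [BinomialRing K] [Algebra K B] (hB : IsSpecial B)
    (hlam : ∀ (n : ℕ) (κ : K), LambdaOps.lam n (algebraMap K B κ) = algebraMap K B (Ring.choose κ n))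
    (x : R → B) (κ : K) (l : List (R × ℕ)) (hl : 1 ≤ (l.map fun p => p.2 + 1).sum) (i : ℕ)
    (hi : 1 ≤ i) :
    gamma i (algebraMap K B κ * (l.map fun p => gamma (p.2 + 1) (x p.1)).prod) ∈
        Wid (fun p : R × ℕ => gamma (p.2 + 1) (x p.1)) (max i (l.map fun p => p.2 + 1).sum) ∧
      ((l.map fun p => p.2 + 1).sum = i →
        gamma i (algebraMap K B κ * (l.map fun p => gamma (p.2 + 1) (x p.1)).prod) -
            (-1) ^ (i - 1) * ((i - 1).factorial : B) *
              (algebraMap K B κ * (l.map fun p => gamma (p.2 + 1) (x p.1)).prod) ∈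
          Wid (fun p : R × ℕ => gamma (p.2 + 1) (x p.1)) (i + 1)) := by
  set m := (l.map fun p => p.2 + 1).sum with hm
  let b : ℕ → B := fun n => algebraMap K B (Ring.choose κ n)
  have hT := is_term hB b (algebraMap K B κ) (fun n => (hlam n κ).symm) x l
  have hG := fun c : ℕ => is_term isSpecial_model (fun n => LambdaOps.lam n (c : MvPowerSeries (R × ℕ) ℚ))
    (c : MvPowerSeries (R × ℕ) ℚ) (fun _ => rfl) xgen l
  have hge : ∀ c : ℕ, Ge m ((c : MvPowerSeries (R × ℕ) ℚ) *
      (l.map fun p => gamma (p.2 + 1) (xgen p.1)).prod) := by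
    intro c
    have h1 : Ge m ((l.map fun p => gamma (p.2 + 1) (xgen p.1)).prod) := by
      rw [hm]
      clear hm hT hG hl
      induction l with
      | nil => exact ge_zero _
      | cons p l ih =>
        rw [List.map_cons, List.sum_cons, List.map_cons, List.prod_cons]
        exact ((ge_gamma (ge_one_xgen p.1) (ge_zero _) _ (by omega)).mono (le_max_left _ _)).mul ih
    simpa using (ge_zero (c : MvPowerSeries (R × ℕ) ℚ)).mul h1
  have hcoef : ∀ (D : MvPolynomial (R × ℕ) (MvPolynomial ℕ ℤ)) (N : ℕ),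
      (∀ c : ℕ, Ge N (theta (spec c D))) → ∀ μ : R × ℕ →₀ ℕ, wt μ < N →
        eval₂ (Int.castRingHom B) b (D.coeff μ) = 0 := by
    intro D N hD μ hμ
    have h0 : eval₂ (Int.castRingHom K) (fun n => Ring.choose κ n) (D.coeff μ) = 0 :=
      eval_choose_eq_zero _ (fun c => by
        have := coeff_eq_zero_of_ge _ N (hD c) μ hμ
        rwa [spec, coeff_map] at this) κ
    have h1 := congrArg (algebraMap K B) h0
    rw [map_zero, eval₂_comp_left] at h1
    rw [← h1]
    congr 1
    exact RingHom.ext_int _ _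
  let D := gammaOf (mulV kV (lV l)) i
  refine ⟨?_, fun hmi => ?_⟩
  · rw [← map_gammaOf hT i]
    refine evK_mem_Wid _ _ _ _ (hcoef D _ fun c => ?_)
    rw [theta_spec, map_gammaOf (hG c) i]
    exact ge_gamma ((hge c).mono hl) (hge c) i hi
  · let Z : MvPolynomial (R × ℕ) (MvPolynomial ℕ ℤ) := mulV kV (lV l) 1
    let D' := D - (-1) ^ (i - 1) * ((i - 1).factorial : MvPolynomial (R × ℕ) (MvPolynomial ℕ ℤ)) * Z
    have e : evK b (fun p => gamma (p.2 + 1) (x p.1)) D' =
        gamma i (algebraMap K B κ * (l.map fun p => gamma (p.2 + 1) (x p.1)).prod) -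
          (-1) ^ (i - 1) * ((i - 1).factorial : B) *
            (algebraMap K B κ * (l.map fun p => gamma (p.2 + 1) (x p.1)).prod) := by
      simp only [D', D, Z, map_sub, map_mul, map_pow, map_neg, map_one, map_natCast, map_gammaOf hT i,
        hT 1, LambdaOps.lam_one]
    rw [← e]
    refine evK_mem_Wid _ _ _ _ (hcoef D' _ fun c => ?_)
    rw [theta_spec]
    simp only [D', D, Z, map_sub, map_mul, map_pow, map_neg, map_one, map_natCast, map_gammaOf (hG c) i,
      hG c 1, LambdaOps.lam_one]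
    have := gamma_congr (by omega : 1 ≤ i) ((hge c).mono hmi.ge)
    convert this using 3
    simp

end Main

end Groth.Agent.GammaU
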