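/-
Injective dimension is tested on the residue field.
-/
import Mathlib
import Groth.Prelude.Def_CAlg
import Groth.Agent.Lib.RegularLocalSerre

open CategoryTheory
universe u

namespace Groth.Agent.InjDimResidue


variable {R : Type u} [CommRing R] [IsLocalRing R] [IsNoetherianRing R]

theorem vanish_middle {M : ModuleCat.{u} R} {A B C : Type u} [AddCommGroup A] [Module R A] [AddCommGroup B]
    [Module R B] [AddCommGroup C] [Module R C] (f : A →ₗ[R] B) (g : B →ₗ[R] C) (hf : Function.Injective f)
    (hg : Function.Surjective g) (hfg : Function.Exact f g) (i : ℕ)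
    (hA : Subsingleton (Abelian.Ext (ModuleCat.of R A) M i))
    (hC : Subsingleton (Abelian.Ext (ModuleCat.of R C) M i)) :
    Subsingleton (Abelian.Ext (ModuleCat.of R B) M i) := by
  let S : ShortComplex (ModuleCat.{u} R) := ShortComplex.mk (ModuleCat.ofHom f) (ModuleCat.ofHom g)
    (by ext x; exact hfg.apply_apply_eq_zero x)
  have hS : S.ShortExact :=
    { exact := (ShortComplex.ShortExact.moduleCat_exact_iff_function_exact S).mpr hfg
      mono_f := (ModuleCat.mono_iff_injective _).mpr hf
      epi_g := (ModuleCat.epi_iff_surjective _).mpr hg }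
  refine subsingleton_of_forall_eq 0 fun e => ?_
  obtain ⟨e', he'⟩ := Abelian.Ext.contravariant_sequence_exact₂ hS M e (hA.elim _ _)
  rw [← he', hC.elim e' 0, Abelian.Ext.comp_zero]

theorem vanish_of_residueField (M : Type u) [AddCommGroup M] [Module R M] [Module.Finite R M] (N : ℕ)
    (h : ∀ i, N ≤ i → Subsingleton (Abelian.Ext (ModuleCat.of R (IsLocalRing.ResidueField R)) (ModuleCat.of R M) i)) :
    ∀ (p : Ideal R), p.IsPrime → ∀ i, N ≤ i → Subsingleton (Abelian.Ext (ModuleCat.of R (R ⧸ p)) (ModuleCat.of R M) i) := by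
  intro p
  induction p using WellFoundedGT.induction with
  | ind p IH =>
  intro hp i hi
  by_cases hmax : p = IsLocalRing.maximalIdeal R
  · subst hmax
    exact h i hi
  · obtain ⟨x, hxm, hxp⟩ := SetLike.exists_of_lt (lt_of_le_of_ne (IsLocalRing.le_maximalIdeal hp.ne_top) hmax)
    -- vanishing for modules killed by `p + (x)`
    have hJ : ∀ j, N ≤ j → Subsingleton (Abelian.Ext (ModuleCat.of R (R ⧸ (p ⊔ Ideal.span {x}))) (ModuleCat.of R M) j) := by
      intro j hj
      refine IsNoetherianRing.induction_on_isQuotientEquivQuotientPrime R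
        (M := R ⧸ (p ⊔ Ideal.span {x})) inferInstance
        (motive := fun Q _ _ _ => (∀ a ∈ p ⊔ Ideal.span {x}, ∀ z : Q, a • z = 0) →
          Subsingleton (Abelian.Ext (ModuleCat.of R Q) (ModuleCat.of R M) j)) ?_ ?_ ?_ ?_
      · intro Q _ _ _ _ _
        refine subsingleton_of_forall_eq 0 fun e => ?_
        rw [← Abelian.Ext.mk₀_id_comp e,
          (ModuleCat.isZero_of_subsingleton (ModuleCat.of R Q)).eq_of_src (𝟙 _) 0, Abelian.Ext.mk₀_zero,
          Abelian.Ext.zero_comp]
      · intro Q _ _ _ q e hk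
        have hle : p ⊔ Ideal.span {x} ≤ q.1 := fun a ha => by
          have := congrArg e (hk a ha (e.symm (Submodule.Quotient.mk 1)))
          rw [map_smul, e.apply_symm_apply, map_zero, ← Submodule.Quotient.mk_smul, smul_eq_mul, mul_one,
            Submodule.Quotient.mk_eq_zero] at this
          exact this
        have hlt : p < q.1 := lt_of_lt_of_le (left_lt_sup.mpr fun hle' => hxp (hle' (Ideal.mem_span_singleton_self x))) hle
        haveI := IH q.1 hlt q.2 j hj
        refine subsingleton_of_forall_eq 0 fun z => ?_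
        rw [← Abelian.Ext.mk₀_id_comp z, show (𝟙 (ModuleCat.of R Q)) = e.toModuleIso.hom ≫ e.toModuleIso.inv from e.toModuleIso.hom_inv_id.symm,
          ← Abelian.Ext.mk₀_comp_mk₀, Abelian.Ext.comp_assoc_of_second_deg_zero]
        rw [Subsingleton.elim ((Abelian.Ext.mk₀ e.toModuleIso.inv).comp z (zero_add j)) 0, Abelian.Ext.comp_zero]
      · intro N₁ _ _ _ N₂ _ _ _ N₃ _ _ _ f g hf hg hfg h1 h3 hk
        refine vanish_middle f g hf hg hfg j (h1 fun a ha z => hf (by rw [map_smul, map_zero, hk a ha]))
          (h3 fun a ha z => ?_)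
        obtain ⟨w, rfl⟩ := hg z
        rw [← map_smul, hk a ha, map_zero]
      · intro a ha z
        obtain ⟨z, rfl⟩ := Submodule.Quotient.mk_surjective _ z
        rw [← Submodule.Quotient.mk_smul, Submodule.Quotient.mk_eq_zero]
        exact Ideal.mul_mem_right _ _ ha
    -- multiplication by x
    let mulx : (R ⧸ p) →ₗ[R] (R ⧸ p) := x • LinearMap.id
    let g : (R ⧸ p) →ₗ[R] (R ⧸ (p ⊔ Ideal.span {x})) := Submodule.factor le_sup_left
    have hinj : Function.Injective mulx := by
      rw [injective_iff_map_eq_zero]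
      intro z hz
      obtain ⟨r, rfl⟩ := Submodule.Quotient.mk_surjective _ z
      simp only [mulx, LinearMap.smul_apply, LinearMap.id_apply] at hz
      rw [← Submodule.Quotient.mk_smul, Submodule.Quotient.mk_eq_zero, smul_eq_mul] at hz
      exact (Submodule.Quotient.mk_eq_zero _).mpr ((hp.mem_or_mem hz).resolve_left hxp)
    have hex : Function.Exact mulx g := by
      intro z
      obtain ⟨r, rfl⟩ := Submodule.Quotient.mk_surjective _ z
      constructor
      · intro hz
        have hz' : r ∈ p ⊔ Ideal.span {x} := (Submodule.Quotient.mk_eq_zero _).mp hz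
        obtain ⟨a, ha, b, hb, rfl⟩ := Submodule.mem_sup.mp hz'
        obtain ⟨c, rfl⟩ := Ideal.mem_span_singleton.mp hb
        refine ⟨Submodule.Quotient.mk c, ?_⟩
        simp only [mulx, LinearMap.smul_apply, LinearMap.id_apply]
        rw [← Submodule.Quotient.mk_smul, Submodule.Quotient.eq, smul_eq_mul]
        simpa using neg_mem ha
      · rintro ⟨w, hw⟩
        obtain ⟨c, rfl⟩ := Submodule.Quotient.mk_surjective _ w
        rw [← hw]
        show Submodule.factor (le_sup_left (b := Ideal.span {x})) (x • Submodule.Quotient.mk c) = 0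
        rw [← Submodule.Quotient.mk_smul]
        exact (Submodule.Quotient.mk_eq_zero _).mpr (Submodule.mem_sup_right (Ideal.mul_mem_right _ _ (Ideal.mem_span_singleton_self x)))
    let S : ShortComplex (ModuleCat.{u} R) := ShortComplex.mk (ModuleCat.ofHom mulx) (ModuleCat.ofHom g)
      (ModuleCat.hom_ext (LinearMap.ext fun z => hex.apply_apply_eq_zero z))
    have hS : S.ShortExact :=
      { exact := (ShortComplex.ShortExact.moduleCat_exact_iff_function_exact S).mpr hex
        mono_f := (ModuleCat.mono_iff_injective _).mpr hinj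
        epi_g := (ModuleCat.epi_iff_surjective _).mpr (Submodule.factor_surjective (le_sup_left : p ≤ p ⊔ Ideal.span {x})) }
    have hsurj : ∀ e : Abelian.Ext (ModuleCat.of R (R ⧸ p)) (ModuleCat.of R M) i, ∃ e', x • e' = e := by
      intro e
      obtain ⟨e', he'⟩ := Abelian.Ext.contravariant_sequence_exact₁ hS (ModuleCat.of R M) e rfl
        ((hJ (1 + i) (by omega)).elim _ _)
      refine ⟨e', ?_⟩
      rw [← he', show ShortComplex.f S = x • 𝟙 (ModuleCat.of R (R ⧸ p)) from rfl, Abelian.Ext.mk₀_smul,
        Abelian.Ext.smul_comp, Abelian.Ext.mk₀_id_comp]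
    refine subsingleton_of_forall_eq 0 fun e => ?_
    have htop : (⊤ : Submodule R (Abelian.Ext (ModuleCat.of R (R ⧸ p)) (ModuleCat.of R M) i)) = ⊥ := by
      refine Submodule.eq_bot_of_le_smul_of_le_jacobson_bot (Ideal.span {x}) _ Module.Finite.fg_top ?_ ?_
      · intro z _
        obtain ⟨z', rfl⟩ := hsurj z
        exact Submodule.smul_mem_smul (Ideal.mem_span_singleton_self x) trivial
      · rw [Ideal.span_singleton_le_iff_mem]
        exact IsLocalRing.maximalIdeal_le_jacobson _ hxm
    exact (Submodule.mem_bot R).mp (htop ▸ Submodule.mem_top)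

theorem vanish_finite (M : Type u) [AddCommGroup M] [Module R M] [Module.Finite R M] (N : ℕ)
    (h : ∀ i, N ≤ i → Subsingleton (Abelian.Ext (ModuleCat.of R (IsLocalRing.ResidueField R)) (ModuleCat.of R M) i))
    (I : Ideal R) (i : ℕ) (hi : N ≤ i) : Subsingleton (Abelian.Ext (ModuleCat.of R (R ⧸ I)) (ModuleCat.of R M) i) := by
  refine IsNoetherianRing.induction_on_isQuotientEquivQuotientPrime R (M := R ⧸ I) inferInstance
    (motive := fun Q _ _ _ => Subsingleton (Abelian.Ext (ModuleCat.of R Q) (ModuleCat.of R M) i)) ?_ ?_ ?_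
  · intro Q _ _ _ _
    refine subsingleton_of_forall_eq 0 fun e => ?_
    rw [← Abelian.Ext.mk₀_id_comp e,
      (ModuleCat.isZero_of_subsingleton (ModuleCat.of R Q)).eq_of_src (𝟙 _) 0, Abelian.Ext.mk₀_zero,
      Abelian.Ext.zero_comp]
  · intro Q _ _ _ q e
    haveI := vanish_of_residueField M N h q.1 q.2 i hi
    refine subsingleton_of_forall_eq 0 fun z => ?_
    rw [← Abelian.Ext.mk₀_id_comp z, show (𝟙 (ModuleCat.of R Q)) = e.toModuleIso.hom ≫ e.toModuleIso.inv from e.toModuleIso.hom_inv_id.symm,
      ← Abelian.Ext.mk₀_comp_mk₀, Abelian.Ext.comp_assoc_of_second_deg_zero]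
    rw [Subsingleton.elim ((Abelian.Ext.mk₀ e.toModuleIso.inv).comp z (zero_add i)) 0, Abelian.Ext.comp_zero]
  · intro N₁ _ _ _ N₂ _ _ _ N₃ _ _ _ f g hf hg hfg h1 h3
    exact vanish_middle f g hf hg hfg i h1 h3

end Groth.Agent.InjDimResidue
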