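/-
Gorenstein rings and quotients by non-zero-divisors.
-/
import Mathlib
import Groth.Prelude.Def_CAlg
import Groth.Agent.Lib.RegularLocalSerre
import Groth.Agent.Lib.InjDimResidue

open CategoryTheory
open Groth.Agent.InjDimResidue
universe u

namespace Groth.Agent.GorensteinQuotient


abbrev InjD (R M : Type u) [CommRing R] [AddCommGroup M] [Module R M] (n : ℕ) : Prop :=
  HasInjectiveDimensionLT (ModuleCat.of R M) n

section
variable {R : Type u} [CommRing R] {M N P : Type u} [AddCommGroup M] [AddCommGroup N] [AddCommGroup P]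
  [Module R M] [Module R N] [Module R P]

theorem shortExact_mk (f : M →ₗ[R] N) (g : N →ₗ[R] P) (hf : Function.Injective f)
    (hg : Function.Surjective g) (hfg : Function.Exact f g) :
    (ShortComplex.mk (ModuleCat.ofHom f) (ModuleCat.ofHom g)
      (by ext x; exact hfg.apply_apply_eq_zero x) : ShortComplex (ModuleCat.{u} R)).ShortExact :=
  { exact := (ShortComplex.ShortExact.moduleCat_exact_iff_function_exact _).mpr hfg
    mono_f := (ModuleCat.mono_iff_injective _).mpr hf
    epi_g := (ModuleCat.epi_iff_surjective _).mpr hg }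

theorem injD_one_iff : InjD R M 1 ↔ Module.Injective R M := by
  constructor
  · intro h
    haveI : Injective (ModuleCat.of R M) := by
      rwa [injective_iff_hasInjectiveDimensionLT_one]
    exact Module.injective_module_of_injective_object R M
  · intro h
    have := Module.injective_object_of_injective_module R M
    show HasInjectiveDimensionLT _ 1
    rwa [← injective_iff_hasInjectiveDimensionLT_one]

theorem exists_embedding (R M : Type u) [CommRing R] [AddCommGroup M] [Module R M] :
    ∃ (E : Type u) (_ : AddCommGroup E) (_ : Module R E) (ι : M →ₗ[R] E),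
      Function.Injective ι ∧ Module.Injective R E := by
  obtain ⟨⟨E, hE, ι, hι⟩⟩ := EnoughInjectives.presentation (ModuleCat.of R M)
  exact ⟨E, inferInstance, inferInstance, ι.hom, (ModuleCat.mono_iff_injective ι).mp hι,
    Module.injective_module_of_injective_object R E⟩

theorem divisible_of_injective {f : R} (hf : IsSMulRegular R f) [Module.Injective R M] (m : M) :
    ∃ m', f • m' = m := by
  obtain ⟨h, hh⟩ := Module.Injective.out (LinearMap.toSpanSingleton R R f)
    (fun a b hab => hf (by simpa [smul_eq_mul, mul_comm] using hab))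
    (LinearMap.toSpanSingleton R M m)
  refine ⟨h 1, ?_⟩
  have := hh 1
  simpa [LinearMap.toSpanSingleton_apply, ← map_smul, smul_eq_mul] using this

end

variable {R : Type u} [CommRing R] {f : R}

set_option quotPrecheck false in
local notation "S" => R ⧸ Ideal.span {f}

theorem injective_torsionBy {E : Type u} [AddCommGroup E] [Module R E] [Module.Injective R E] :
    Module.Injective (R ⧸ Ideal.span {f}) (Submodule.torsionBy R E f) := by
  refine Module.Baer.injective ?_
  intro J g
  let q : R →+* S := Ideal.Quotient.mk _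
  let l : (J.comap q) →ₗ[R] J :=
    { toFun := fun a => ⟨q a, a.2⟩
      map_add' := fun a b => Subtype.ext (map_add q _ _)
      map_smul' := fun r a => Subtype.ext (by simp [q, Algebra.smul_def, smul_eq_mul]) }
  obtain ⟨h, hh⟩ := Module.Baer.of_injective ‹Module.Injective R E› (J.comap q)
    ((Submodule.torsionBy R E f).subtype ∘ₗ (g.restrictScalars R) ∘ₗ l)
  have hmem : h 1 ∈ Submodule.torsionBy R E f := by
    rw [Submodule.mem_torsionBy_iff, ← map_smul, smul_eq_mul, mul_one]
    have hfm : f ∈ J.comap q := by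
      rw [Ideal.mem_comap, show q f = 0 from Ideal.Quotient.eq_zero_iff_mem.mpr (Ideal.mem_span_singleton_self f)]
      exact zero_mem _
    have hl : l ⟨f, hfm⟩ = 0 := Subtype.ext (Ideal.Quotient.eq_zero_iff_mem.mpr (Ideal.mem_span_singleton_self f))
    rw [hh f hfm]
    simp [hl]
  refine ⟨LinearMap.toSpanSingleton _ _ ⟨h 1, hmem⟩, fun x hx => ?_⟩
  obtain ⟨a, rfl⟩ := Ideal.Quotient.mk_surjective x
  apply Subtype.ext
  have := hh a hx
  simp only [LinearMap.coe_comp, Function.comp_apply, Submodule.coe_subtype,
    LinearMap.restrictScalars_apply] at this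
  rw [LinearMap.toSpanSingleton_apply]
  change a • h 1 = _
  rw [← map_smul, smul_eq_mul, mul_one, this]
  rfl

/-- The map induced on `f`-torsion, linear over the quotient. -/
def torMap {M N : Type u} [AddCommGroup M] [Module R M] [AddCommGroup N] [Module R N]
    (φ : M →ₗ[R] N) : Submodule.torsionBy R M f →ₗ[S] Submodule.torsionBy R N f :=
  LinearMap.extendScalarsOfSurjective Ideal.Quotient.mk_surjective
    (φ.restrict (fun x hx => by
      rw [Submodule.mem_torsionBy_iff] at hx ⊢
      rw [← map_smul, hx, map_zero]))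

theorem torMap_coe {M N : Type u} [AddCommGroup M] [Module R M] [AddCommGroup N] [Module R N]
    (φ : M →ₗ[R] N) (x : Submodule.torsionBy R M f) : (torMap φ x : N) = φ x := rfl

theorem injD_torsionBy :
    ∀ (n : ℕ) (M : Type u) [AddCommGroup M] [Module R M], IsSMulRegular R f → (∀ m : M, ∃ m', f • m' = m) →
      InjD R M (n + 1) → InjD (R ⧸ Ideal.span {f}) (Submodule.torsionBy R M f) (n + 1) := by
  intro n
  induction n with
  | zero =>
    intro M _ _ hf _ h
    have := injD_one_iff.mp h
    exact injD_one_iff.mpr injective_torsionBy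
  | succ n ih =>
    intro M _ _ hf hdiv h
    obtain ⟨E, _, _, ι, hι, hE⟩ := exists_embedding R M
    let π : E →ₗ[R] E ⧸ LinearMap.range ι := (LinearMap.range ι).mkQ
    have hπ : Function.Surjective π := Submodule.mkQ_surjective _
    have hex : Function.Exact ι π := LinearMap.exact_map_mkQ_range ι
    have hC : InjD R (E ⧸ LinearMap.range ι) (n + 1) := by
      haveI := injD_one_iff.mpr hE
      exact (shortExact_mk ι π hι hπ hex).hasInjectiveDimensionLT_X₃ (n + 1)
        (hasInjectiveDimensionLT_of_ge (ModuleCat.of R E) 1 (n + 1) (by omega)) h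
    have hCdiv : ∀ c : E ⧸ LinearMap.range ι, ∃ c', f • c' = c := fun c => by
      obtain ⟨e, rfl⟩ := hπ c
      obtain ⟨e', rfl⟩ := divisible_of_injective hf e
      exact ⟨π e', (map_smul π f e').symm⟩
    have hs : Function.Surjective (torMap (f := f) π) := by
      rintro ⟨c, hc⟩
      obtain ⟨e, rfl⟩ := hπ c
      rw [Submodule.mem_torsionBy_iff, ← map_smul] at hc
      obtain ⟨m, hm⟩ := (hex _).mp hc
      obtain ⟨m', rfl⟩ := hdiv m
      refine ⟨⟨e - ι m', ?_⟩, Subtype.ext ?_⟩
      · rw [Submodule.mem_torsionBy_iff, smul_sub, ← map_smul, hm, sub_self]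
      · rw [torMap_coe, map_sub, hex.apply_apply_eq_zero, sub_zero]
    have hi : Function.Injective (torMap (f := f) ι) := fun a b hab =>
      Subtype.ext (hι (congrArg Subtype.val hab))
    have he : Function.Exact (torMap (f := f) ι) (torMap (f := f) π) := by
      rintro ⟨e, he⟩
      constructor
      · intro h0
        obtain ⟨m, rfl⟩ := (hex e).mp (congrArg Subtype.val h0)
        refine ⟨⟨m, ?_⟩, rfl⟩
        rw [Submodule.mem_torsionBy_iff] at he ⊢
        exact hι (by rw [map_smul, he, map_zero])
      · rintro ⟨m, hm⟩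
        rw [← hm]
        exact Subtype.ext (hex.apply_apply_eq_zero _)
    haveI : InjD S (Submodule.torsionBy R E f) 1 := injD_one_iff.mpr injective_torsionBy
    exact (shortExact_mk _ _ hi hs he).hasInjectiveDimensionLT_X₁ (n + 1)
      (ih _ hf hCdiv hC)
      (hasInjectiveDimensionLT_of_ge (ModuleCat.of S (Submodule.torsionBy R E f)) 1 (n + 1 + 1) (by omega))

theorem injD_quotient (hf : IsSMulRegular R f) (n : ℕ) (h : InjD R R (n + 2)) :
    InjD (R ⧸ Ideal.span {f}) (R ⧸ Ideal.span {f}) (n + 1) := by
  classical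
  obtain ⟨E, _, _, ι, hι, hE⟩ := exists_embedding R R
  let π : E →ₗ[R] E ⧸ LinearMap.range ι := (LinearMap.range ι).mkQ
  have hπ : Function.Surjective π := Submodule.mkQ_surjective _
  have hex : Function.Exact ι π := LinearMap.exact_map_mkQ_range ι
  have hC : InjD R (E ⧸ LinearMap.range ι) (n + 1) := by
    haveI := injD_one_iff.mpr hE
    exact (shortExact_mk ι π hι hπ hex).hasInjectiveDimensionLT_X₃ (n + 1)
      (hasInjectiveDimensionLT_of_ge (ModuleCat.of R E) 1 (n + 1) (by omega)) h
  have hCdiv : ∀ c : E ⧸ LinearMap.range ι, ∃ c', f • c' = c := fun c => by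
    obtain ⟨e, rfl⟩ := hπ c
    obtain ⟨e', rfl⟩ := divisible_of_injective hf e
    exact ⟨π e', (map_smul π f e').symm⟩
  let C := Submodule.torsionBy R (E ⧸ LinearMap.range ι) f
  have lift : ∀ c : C, ∃ er : E × R, π er.1 = c ∧ ι er.2 = f • er.1 := fun c => by
    obtain ⟨e, he⟩ := hπ (c : E ⧸ LinearMap.range ι)
    have hc := (Submodule.mem_torsionBy_iff _ _).mp c.2
    rw [← he, ← map_smul] at hc
    obtain ⟨r, hr⟩ := (hex _).mp hc
    exact ⟨(e, r), he, hr⟩
  choose er her hr using lift
  let φ₀ : C → S := fun c => Ideal.Quotient.mk _ (er c).2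
  have key : ∀ (c : C) (e : E) (r : R), π e = c → ι r = f • e → φ₀ c = Ideal.Quotient.mk _ r := by
    intro c e r he hre
    have : π ((er c).1 - e) = 0 := by rw [map_sub, her, he, sub_self]
    obtain ⟨t, ht⟩ := (hex _).mp this
    rw [Ideal.Quotient.eq, Ideal.mem_span_singleton']
    refine ⟨t, hι ?_⟩
    rw [map_sub, hr, hre, ← smul_sub, ← ht, ← map_smul, mul_comm t f, smul_eq_mul]
  let φR : C →ₗ[R] S :=
    { toFun := φ₀
      map_add' := fun a b => by
        rw [key (a + b) ((er a).1 + (er b).1) ((er a).2 + (er b).2) (by simp [her]) (by simp [hr])]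
        exact map_add _ _ _
      map_smul' := fun s a => by
        rw [key (s • a) (s • (er a).1) (s * (er a).2) (by simp [her])
          (by rw [← smul_eq_mul, map_smul, hr, smul_comm]), RingHom.id_apply]
        simp [φ₀, Algebra.smul_def] }
  let φ : C →ₗ[S] S := LinearMap.extendScalarsOfSurjective Ideal.Quotient.mk_surjective φR
  have hs : Function.Surjective φ := fun s => by
    obtain ⟨r, rfl⟩ := Ideal.Quotient.mk_surjective s
    obtain ⟨e, he⟩ := divisible_of_injective hf (ι r)
    refine ⟨⟨π e, ?_⟩, key _ e r rfl he.symm⟩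
    rw [Submodule.mem_torsionBy_iff, ← map_smul, he, hex.apply_apply_eq_zero]
  have hi : Function.Injective (torMap (f := f) π) := by
    rw [injective_iff_map_eq_zero]
    rintro ⟨e, he⟩ h0
    obtain ⟨t, rfl⟩ := (hex e).mp (congrArg Subtype.val h0)
    rw [Submodule.mem_torsionBy_iff, ← map_smul, map_eq_zero_iff _ hι] at he
    have : t = 0 := hf (by simpa using he)
    subst this
    exact Subtype.ext (map_zero ι)
  have he : Function.Exact (torMap (f := f) π) φ := by
    intro c
    constructor
    · intro h0
      change φ₀ c = 0 at h0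
      rw [Ideal.Quotient.eq_zero_iff_mem, Ideal.mem_span_singleton'] at h0
      obtain ⟨t, ht⟩ := h0
      refine ⟨⟨(er c).1 - ι t, ?_⟩, Subtype.ext ?_⟩
      · rw [Submodule.mem_torsionBy_iff, smul_sub, ← map_smul, ← hr, ← ht, smul_eq_mul, mul_comm, sub_self]
      · rw [torMap_coe, map_sub, her, hex.apply_apply_eq_zero, sub_zero]
    · rintro ⟨⟨e, he⟩, rfl⟩
      change φ₀ _ = 0
      rw [key _ e 0 rfl (by rw [map_zero]; exact ((Submodule.mem_torsionBy_iff _ _).mp he).symm), map_zero]
  haveI : InjD S (Submodule.torsionBy R E f) 1 := injD_one_iff.mpr injective_torsionBy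
  exact (shortExact_mk _ _ hi hs he).hasInjectiveDimensionLT_X₃ (n + 1)
    (injD_torsionBy n _ hf hCdiv hC)
    (hasInjectiveDimensionLT_of_ge (ModuleCat.of S (Submodule.torsionBy R E f)) 1 (n + 1 + 1) (by omega))

theorem injD_restrict_one (N : Type u) [AddCommGroup N] [Module R N] [Module (R ⧸ Ideal.span {f}) N]
      [IsScalarTower R (R ⧸ Ideal.span {f}) N] (hf : IsSMulRegular R f)
      (h : InjD (R ⧸ Ideal.span {f}) N 1) : InjD R N 2 := by
  have hN := injD_one_iff.mp h
  obtain ⟨E, _, _, ι, hι, hE⟩ := exists_embedding R N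
  have hmem : ∀ x, ι x ∈ Submodule.torsionBy R E f := fun x => by
    rw [Submodule.mem_torsionBy_iff, ← map_smul, ← algebraMap_smul S f x,
      show algebraMap R S f = 0 from Ideal.Quotient.eq_zero_iff_mem.mpr (Ideal.mem_span_singleton_self f),
      zero_smul, map_zero]
  let ι' : N →ₗ[S] Submodule.torsionBy R E f :=
    LinearMap.extendScalarsOfSurjective Ideal.Quotient.mk_surjective (ι.codRestrict _ hmem)
  obtain ⟨r, hr⟩ := hN.out ι' (fun a b hab => hι (congrArg Subtype.val hab)) LinearMap.id
  have hT : InjD R (Submodule.torsionBy R E f) 2 := by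
    haveI := injD_one_iff.mpr hE
    refine (shortExact_mk (Submodule.torsionBy R E f).subtype (f • LinearMap.id)
      Subtype.val_injective (fun e => divisible_of_injective hf e) ?_).hasInjectiveDimensionLT_X₁ 1
      (injD_one_iff.mpr hE) (hasInjectiveDimensionLT_of_ge (ModuleCat.of R E) 1 2 (by omega))
    intro e
    simp [Submodule.mem_torsionBy_iff]
  let ret : Retract (ModuleCat.of R N) (ModuleCat.of R (Submodule.torsionBy R E f)) :=
    { i := ModuleCat.ofHom (ι'.restrictScalars R)
      r := ModuleCat.ofHom (r.restrictScalars R)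
      retract := by ext x; exact hr x }
  exact @Retract.hasInjectiveDimensionLT _ _ _ _ _ ret 2 hT

theorem injD_restrict :
    ∀ (n : ℕ) (N : Type u) [AddCommGroup N] [Module R N] [Module (R ⧸ Ideal.span {f}) N]
      [IsScalarTower R (R ⧸ Ideal.span {f}) N], IsSMulRegular R f →
      InjD (R ⧸ Ideal.span {f}) N (n + 1) → InjD R N (n + 2) := by
  intro n
  induction n with
  | zero => exact fun N _ _ _ _ hf h => injD_restrict_one N hf h
  | succ n ih =>
    intro N _ _ _ _ hf h
    obtain ⟨E, _, _, ι, hι, hE⟩ := exists_embedding S N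
    letI : Module R E := Module.compHom E (algebraMap R S)
    haveI : IsScalarTower R S E := IsScalarTower.of_algebraMap_smul fun _ _ => rfl
    let π : E →ₗ[S] E ⧸ LinearMap.range ι := (LinearMap.range ι).mkQ
    have hπ : Function.Surjective π := Submodule.mkQ_surjective _
    have hex : Function.Exact ι π := LinearMap.exact_map_mkQ_range ι
    have hC : InjD S (E ⧸ LinearMap.range ι) (n + 1) := by
      haveI := injD_one_iff.mpr hE
      exact (shortExact_mk ι π hι hπ hex).hasInjectiveDimensionLT_X₃ (n + 1)
        (hasInjectiveDimensionLT_of_ge (ModuleCat.of S E) 1 (n + 1) (by omega)) h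
    have hE' : InjD R E 2 := by
      exact injD_restrict_one E hf (injD_one_iff.mpr hE)
    exact (shortExact_mk (ι.restrictScalars R) (π.restrictScalars R) hι hπ hex).hasInjectiveDimensionLT_X₁
      (n + 2) (ih _ hf hC) (hasInjectiveDimensionLT_of_ge (ModuleCat.of R E) 2 (n + 3) (by omega))

end Groth.Agent.GorensteinQuotient
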