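import Mathlib
import Groth.Prelude.Def_CAlg

/-! Ext-free depth theory: regular sequences in an ideal on finite modules over Noetherian rings. -/

universe u v w

open RingTheory.Sequence Pointwise Submodule

namespace Groth.Agent.H2Depth

variable {R : Type u} [CommRing R]

/-- there is a weakly regular sequence of length `k` inside `I`. -/
def HasReg (I : Ideal R) (M : Type v) [AddCommGroup M] [Module R M] (k : ℕ) : Prop :=
  ∃ rs : List R, rs.length = k ∧ IsWeaklyRegular M rs ∧ ∀ r ∈ rs, r ∈ I

/-- no element of `I` is regular on `M`. -/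
def NoReg (I : Ideal R) (M : Type v) [AddCommGroup M] [Module R M] : Prop :=
  ∀ r ∈ I, ¬ IsSMulRegular M r

variable {M : Type v} [AddCommGroup M] [Module R M]

lemma HasReg.zero (I : Ideal R) : HasReg I M 0 :=
  ⟨[], rfl, IsWeaklyRegular.nil R M, by simp⟩

lemma HasReg.cons {I : Ideal R} {k : ℕ} {r : R} (hr : r ∈ I) (hreg : IsSMulRegular M r)
    (h : HasReg I (QuotSMulTop r M) k) : HasReg I M (k + 1) := by
  obtain ⟨rs, rfl, hrs, hmem⟩ := h
  exact ⟨r :: rs, rfl, hrs.cons hreg, by simpa [hr] using hmem⟩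

lemma HasReg.exists_cons {I : Ideal R} {k : ℕ} (h : HasReg I M (k + 1)) :
    ∃ r ∈ I, IsSMulRegular M r ∧ HasReg I (QuotSMulTop r M) k := by
  obtain ⟨_ | ⟨r, rs⟩, hlen, hrs, hmem⟩ := h
  · simp at hlen
  · rw [isWeaklyRegular_cons_iff] at hrs
    exact ⟨r, hmem r (by simp), hrs.1, rs, by simpa using hlen, hrs.2,
      fun x hx => hmem x (by simp [hx])⟩

lemma HasReg.congr {M' : Type w} [AddCommGroup M'] [Module R M'] (e : M ≃ₗ[R] M') {I : Ideal R}
    {k : ℕ} (h : HasReg I M k) : HasReg I M' k := by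
  obtain ⟨rs, hl, hrs, hmem⟩ := h
  exact ⟨rs, hl, (e.isWeaklyRegular_congr rs).1 hrs, hmem⟩

lemma HasReg.mono {I : Ideal R} {k j : ℕ} (h : HasReg I M k) (hj : j ≤ k) : HasReg I M j := by
  obtain ⟨rs, rfl, hrs, hmem⟩ := h
  refine ⟨rs.take j, by simp [hj], ?_, fun r hr => hmem r (List.mem_of_mem_take hr)⟩
  rw [← List.take_append_drop j rs, isWeaklyRegular_append_iff] at hrs
  exact hrs.1

/-- `(M/xM)/z ≅ (M/zM)/x`. -/
noncomputable def quotSwap (M : Type v) [AddCommGroup M] [Module R M] (x z : R) :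
    QuotSMulTop z (QuotSMulTop x M) ≃ₗ[R] QuotSMulTop x (QuotSMulTop z M) :=
  let e : ∀ a b : R, QuotSMulTop b (QuotSMulTop a M) ≃ₗ[R]
      M ⧸ (a • (⊤ : Submodule R M) ⊔ b • (⊤ : Submodule R M)) := fun a b =>
    Submodule.quotEquivOfEq _ _ (by rw [map_pointwise_smul, Submodule.map_top, range_mkQ]) ≪≫ₗ
      quotientQuotientEquivQuotientSup (a • (⊤ : Submodule R M)) (b • (⊤ : Submodule R M))
  e x z ≪≫ₗ Submodule.quotEquivOfEq _ _ (sup_comm _ _) ≪≫ₗ (e z x).symm

lemma mk_eq_zero_iff_exists {x : R} {u : M} :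
    (Submodule.Quotient.mk u : QuotSMulTop x M) = 0 ↔ ∃ w, x • w = u := by
  rw [Submodule.Quotient.mk_eq_zero, Submodule.mem_smul_pointwise_iff_exists]
  simp

lemma isSMulRegular_quot_iff {x r : R} :
    IsSMulRegular (QuotSMulTop x M) r ↔ ∀ u w : M, r • u = x • w → ∃ w', x • w' = u := by
  rw [isSMulRegular_iff_right_eq_zero_of_smul]
  constructor
  · intro h u w huw
    exact mk_eq_zero_iff_exists.1 (h _ (by rw [← Submodule.Quotient.mk_smul]; exact mk_eq_zero_iff_exists.2 ⟨w, huw.symm⟩))
  · intro h m hm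
    obtain ⟨u, rfl⟩ := Submodule.Quotient.mk_surjective _ m
    rw [← Submodule.Quotient.mk_smul] at hm
    obtain ⟨w, hw⟩ := mk_eq_zero_iff_exists.1 hm
    exact mk_eq_zero_iff_exists.2 (h u w hw.symm)

/-- if `z` is regular on `M` and on `M/xM`, and `x` is regular on `M`, then `x` is regular on `M/zM`. -/
lemma regular_swap {x z : R} (hx : IsSMulRegular M x)
    (hzx : IsSMulRegular (QuotSMulTop x M) z) : IsSMulRegular (QuotSMulTop z M) x := by
  rw [isSMulRegular_quot_iff] at hzx ⊢
  intro u w huw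
  obtain ⟨w', hw'⟩ := hzx w u huw.symm
  refine ⟨w', hx ?_⟩
  simp only
  rw [huw, smul_comm, hw']

variable [IsNoetherianRing R]

lemma exists_notMem_of_hasRegElem (I : Ideal R) {r : R} (hr : r ∈ I) (hreg : IsSMulRegular M r) :
    ∀ p ∈ associatedPrimes R M, ¬ I ≤ p := by
  intro p hp hle
  have : r ∈ ⋃ p ∈ associatedPrimes R M, (p : Set R) := Set.mem_biUnion hp (hle hr)
  rw [biUnion_associatedPrimes_eq_compl_regular] at this
  exact this hreg

lemma exists_regular_of_forall_not_le [Module.Finite R M] (I : Ideal R)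
    (h : ∀ p ∈ associatedPrimes R M, ¬ I ≤ p) : ∃ r ∈ I, IsSMulRegular M r := by
  by_contra hc
  push Not at hc
  have hfin := associatedPrimes.finite R M
  have hsub : (I : Set R) ⊆ ⋃ p ∈ hfin.toFinset, ((p : Ideal R) : Set R) := by
    intro r hr
    have : r ∈ ⋃ p ∈ associatedPrimes R M, (p : Set R) := by
      rw [biUnion_associatedPrimes_eq_compl_regular]; exact hc r hr
    simpa using this
  obtain ⟨p, hp, hle⟩ := (Ideal.subset_union_prime (f := fun p : Ideal R => p) ⊥ ⊥
    (fun p hp _ _ => (hfin.mem_toFinset.1 hp).isPrime)).1 hsub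
  exact h p (hfin.mem_toFinset.1 hp) hle

/-- a witness that no element of `I` is regular: `u ≠ 0` killed by `I`. -/
lemma exists_killed_of_noReg [Module.Finite R M] {I : Ideal R} (h : NoReg I M) :
    ∃ u : M, u ≠ 0 ∧ ∀ r ∈ I, r • u = 0 := by
  by_contra hc
  push Not at hc
  obtain ⟨r, hr, hreg⟩ := exists_regular_of_forall_not_le (M := M) I (fun p hp hle => by
    obtain ⟨hprime, u, rfl⟩ := isAssociatedPrime_iff.1 hp
    have hu : u ≠ 0 := by
      rintro rfl
      exact hprime.ne_top ((Ideal.eq_top_iff_one _).2 (Submodule.mem_colon_singleton.2 (by simp)))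
    obtain ⟨r, hr, hne⟩ := hc u hu
    exact hne (by simpa using Submodule.mem_colon_singleton.1 (hle hr)))
  exact h r hr hreg

/-- depth zero of `M/xM` does not depend on the regular element `x ∈ I`. -/
lemma noReg_quot [Module.Finite R M] {I : Ideal R} {x y : R} (hx : IsSMulRegular M x) (hxI : x ∈ I)
    (hy : IsSMulRegular M y) (hyI : y ∈ I) (h : NoReg I (QuotSMulTop x M)) :
    NoReg I (QuotSMulTop y M) := by
  obtain ⟨m, hm, hIm⟩ := exists_killed_of_noReg h
  obtain ⟨u, rfl⟩ := Submodule.Quotient.mk_surjective _ m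
  have hI : ∀ r ∈ I, ∃ w, x • w = r • u := fun r hr => by
    have := hIm r hr
    rwa [← Submodule.Quotient.mk_smul, mk_eq_zero_iff_exists] at this
  obtain ⟨w, hw⟩ := hI y hyI
  intro r hr hreg
  rw [isSMulRegular_quot_iff] at hreg
  obtain ⟨a, ha⟩ := hI r hr
  obtain ⟨w', hw'⟩ := hreg w a (hx (by
    show x • r • w = x • y • a
    rw [smul_comm x r, hw, smul_comm x y, ha, smul_comm]))
  exact hm (mk_eq_zero_iff_exists.2 ⟨w', hy (show y • x • w' = y • u by rw [smul_comm, hw', hw])⟩)

/-- exchange lemma. -/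
theorem HasReg.quot {I : Ideal R} : ∀ {k : ℕ} {M : Type v} [AddCommGroup M] [Module R M]
    [Module.Finite R M] {x : R}, x ∈ I → IsSMulRegular M x → HasReg I M (k + 1) →
    HasReg I (QuotSMulTop x M) k := by
  intro k
  induction k with
  | zero => intros; exact HasReg.zero I
  | succ k ih =>
    intro M _ _ _ x hxI hx h
    obtain ⟨y, hyI, hy, hrest⟩ := h.exists_cons
    obtain ⟨r, hr, hry, -⟩ := hrest.exists_cons
    have hxq : ¬ NoReg I (QuotSMulTop x M) := fun hn => noReg_quot hx hxI hy hyI hn r hr hry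
    simp only [NoReg, not_forall, not_not] at hxq
    obtain ⟨s, hs, hsx⟩ := hxq
    -- simultaneous regular element
    obtain ⟨z, hz, hzreg⟩ := exists_regular_of_forall_not_le
      (M := M × QuotSMulTop x M × QuotSMulTop y M) I (fun p hp hle => by
        rw [associatedPrimes.prod, associatedPrimes.prod] at hp
        rcases hp with hp | hp | hp
        · exact exists_notMem_of_hasRegElem I hxI hx p hp hle
        · exact exists_notMem_of_hasRegElem I hs hsx p hp hle
        · exact exists_notMem_of_hasRegElem I hr hry p hp hle)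
    have hz1 : IsSMulRegular M z := fun a b hab =>
      congrArg Prod.fst (hzreg (a₁ := (a, 0, 0)) (a₂ := (b, 0, 0)) (Prod.ext hab rfl))
    have hz2 : IsSMulRegular (QuotSMulTop x M) z := fun a b hab =>
      congrArg (fun t => t.2.1) (hzreg (a₁ := ((0 : M), a, (0 : QuotSMulTop y M))) (a₂ := (0, b, 0))
        (Prod.ext rfl (Prod.ext hab rfl)))
    have hz3 : IsSMulRegular (QuotSMulTop y M) z := fun a b hab =>
      congrArg (fun t => t.2.2) (hzreg (a₁ := ((0 : M), (0 : QuotSMulTop x M), a)) (a₂ := (0, 0, b))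
        (Prod.ext rfl (Prod.ext rfl hab)))
    have h1 : HasReg I (QuotSMulTop z (QuotSMulTop y M)) k := ih hz hz3 hrest
    have h2 : HasReg I (QuotSMulTop z M) (k + 1) :=
      HasReg.cons hyI (regular_swap hy hz3 |> fun h => h) (h1.congr (quotSwap M y z))
    have h3 : HasReg I (QuotSMulTop x (QuotSMulTop z M)) k := ih hxI (regular_swap hx hz2) h2
    exact HasReg.cons hz hz2 (h3.congr (quotSwap M z x))

/-- a sequence shorter than another extends to that length. -/
theorem HasReg.extend {I : Ideal R} : ∀ {rs : List R} {M : Type v} [AddCommGroup M] [Module R M]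
    [Module.Finite R M] {k : ℕ}, IsWeaklyRegular M rs → (∀ r ∈ rs, r ∈ I) →
    HasReg I M (rs.length + k) → HasReg I (M ⧸ (Ideal.ofList rs • ⊤ : Submodule R M)) k := by
  intro rs
  induction rs with
  | nil =>
    intro M _ _ _ k _ _ h
    refine HasReg.congr (Submodule.quotEquivOfEqBot _ (by simp)).symm ?_
    simpa using h
  | cons r rs ih =>
    intro M _ _ _ k hrs hmem h
    rw [isWeaklyRegular_cons_iff] at hrs
    rw [List.length_cons, add_right_comm] at h
    exact (ih hrs.2 (fun x hx => hmem x (by simp [hx])) (h.quot (hmem r (by simp)) hrs.1)).congr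
      (quotOfListConsSMulTopEquivQuotSMulTopInner M r rs).symm

/-- a maximal regular sequence computes the depth. -/
theorem length_le_of_noReg [Module.Finite R M] {I : Ideal R} {rs : List R} (hrs : IsWeaklyRegular M rs)
    (hmem : ∀ r ∈ rs, r ∈ I) (hmax : NoReg I (M ⧸ (Ideal.ofList rs • ⊤ : Submodule R M))) {k : ℕ}
    (h : HasReg I M k) : k ≤ rs.length := by
  by_contra hc
  obtain ⟨r, hr, hreg, -⟩ :=
    (HasReg.extend (k := 1) hrs hmem (h.mono (by omega))).exists_cons
  exact hmax r hr hreg

theorem idealDepth_eq_length [Module.Finite R M] {I : Ideal R} (hIM : I • (⊤ : Submodule R M) ≠ ⊤)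
    {rs : List R} (hrs : IsWeaklyRegular M rs)
    (hmem : ∀ r ∈ rs, r ∈ I) (hmax : NoReg I (M ⧸ (Ideal.ofList rs • ⊤ : Submodule R M))) :
    LocCoh.idealDepth I M = rs.length := by
  rw [LocCoh.idealDepth, if_neg hIM]
  refine le_antisymm (iSup₂_le fun ss hss => Nat.cast_le.2 ?_) (le_iSup₂_of_le rs ⟨hrs, hmem⟩ le_rfl)
  exact length_le_of_noReg hrs hmem hmax ⟨ss, rfl, hss.1, hss.2⟩

lemma le_idealDepth {I : Ideal R} {k : ℕ} (h : HasReg I M k) : (k : ℕ∞) ≤ LocCoh.idealDepth I M := by
  rw [LocCoh.idealDepth]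
  split
  · exact le_top
  · obtain ⟨rs, rfl, hrs, hmem⟩ := h
    exact le_iSup₂_of_le rs ⟨hrs, hmem⟩ le_rfl

/-- every regular sequence in `I` extends to a maximal one when `IM ≠ M`. -/
theorem exists_maximal [Module.Finite R M] {I : Ideal R} (hIM : I • (⊤ : Submodule R M) ≠ ⊤)
    {rs : List R} (hrs : IsWeaklyRegular M rs) (hmem : ∀ r ∈ rs, r ∈ I) :
    ∃ ss : List R, rs <+: ss ∧ IsWeaklyRegular M ss ∧ (∀ r ∈ ss, r ∈ I) ∧
      NoReg I (M ⧸ (Ideal.ofList ss • ⊤ : Submodule R M)) := by
  obtain ⟨J, hJ⟩ : ∃ J, J = Ideal.ofList rs := ⟨_, rfl⟩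
  induction J using WellFoundedGT.induction generalizing rs with
  | _ J ih =>
    by_cases hc : NoReg I (M ⧸ (Ideal.ofList rs • ⊤ : Submodule R M))
    · exact ⟨rs, List.prefix_refl rs, hrs, hmem, hc⟩
    simp only [NoReg, not_forall, not_not] at hc
    obtain ⟨r, hr, hreg⟩ := hc
    have hsr : IsWeaklyRegular M (rs ++ [r]) := by
      rw [isWeaklyRegular_append_iff, isWeaklyRegular_singleton_iff]
      exact ⟨hrs, hreg⟩
    have hlt : J < Ideal.ofList (rs ++ [r]) := by
      rw [hJ, Ideal.ofList_append, Ideal.ofList_singleton]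
      refine lt_of_le_of_ne le_sup_left fun h => ?_
      have hr0 : r ∈ Ideal.ofList rs := h ▸ Ideal.mem_sup_right (Ideal.mem_span_singleton_self r)
      apply hIM
      have htop : (Ideal.ofList rs • ⊤ : Submodule R M) = ⊤ := by
        rw [← Submodule.Quotient.subsingleton_iff]
        refine ⟨fun a b => hreg ?_⟩
        obtain ⟨a, rfl⟩ := Submodule.Quotient.mk_surjective _ a
        obtain ⟨b, rfl⟩ := Submodule.Quotient.mk_surjective _ b
        show r • _ = r • _
        rw [← Submodule.Quotient.mk_smul, ← Submodule.Quotient.mk_smul, Submodule.Quotient.eq]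
        exact Submodule.sub_mem _ (Submodule.smul_mem_smul hr0 trivial) (Submodule.smul_mem_smul hr0 trivial)
      exact top_le_iff.1 (htop.ge.trans (Submodule.smul_mono_left (Ideal.span_le.2 hmem)))
    obtain ⟨ss, h1, h2, h3, h4⟩ := ih _ hlt hsr (by simpa [or_imp, forall_and, hr] using hmem) rfl
    exact ⟨ss, (List.prefix_append rs [r]).trans h1, h2, h3, h4⟩

theorem exists_idealDepth_eq [Module.Finite R M] {I : Ideal R} (hIM : I • (⊤ : Submodule R M) ≠ ⊤) :
    ∃ ss : List R, IsWeaklyRegular M ss ∧ (∀ r ∈ ss, r ∈ I) ∧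
      NoReg I (M ⧸ (Ideal.ofList ss • ⊤ : Submodule R M)) ∧ LocCoh.idealDepth I M = ss.length := by
  obtain ⟨ss, -, h1, h2, h3⟩ := exists_maximal hIM (IsWeaklyRegular.nil R M) (by simp)
  exact ⟨ss, h1, h2, h3, idealDepth_eq_length hIM h1 h2 h3⟩

theorem hasReg_iff_le_idealDepth [Module.Finite R M] {I : Ideal R}
    (hIM : I • (⊤ : Submodule R M) ≠ ⊤) {k : ℕ} :
    HasReg I M k ↔ (k : ℕ∞) ≤ LocCoh.idealDepth I M := by
  refine ⟨le_idealDepth, fun h => ?_⟩
  obtain ⟨ss, h1, h2, -, h4⟩ := exists_idealDepth_eq hIM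
  exact HasReg.mono ⟨ss, rfl, h1, h2⟩ (Nat.cast_le.1 (h4 ▸ h))

lemma smul_top_quot_ne_top {I : Ideal R} {x : R} (hx : x ∈ I) (hIM : I • (⊤ : Submodule R M) ≠ ⊤) :
    I • (⊤ : Submodule R (QuotSMulTop x M)) ≠ ⊤ := by
  intro h
  apply hIM
  have h' := congrArg (Submodule.comap (Submodule.mkQ (x • (⊤ : Submodule R M)))) h
  rw [← range_mkQ (x • (⊤ : Submodule R M)), ← Submodule.map_top, ← map_smul'',
    comap_map_mkQ, Submodule.map_top, range_mkQ, comap_top, sup_eq_right.2 ?_] at h'
  · exact h'
  · intro m hm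
    obtain ⟨w, -, rfl⟩ := (Submodule.mem_smul_pointwise_iff_exists _ _ _).1 hm
    exact Submodule.smul_mem_smul hx trivial

theorem idealDepth_quotSMulTop_add_one [Module.Finite R M] {I : Ideal R}
    (hIM : I • (⊤ : Submodule R M) ≠ ⊤) {x : R} (hx : x ∈ I) (hreg : IsSMulRegular M x) :
    LocCoh.idealDepth I (QuotSMulTop x M) + 1 = LocCoh.idealDepth I M := by
  obtain ⟨ss, h1, h2, h3, h4⟩ := exists_idealDepth_eq (smul_top_quot_ne_top hx hIM)
  rw [h4, idealDepth_eq_length hIM (h1.cons hreg) (by simpa [hx] using h2)]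
  · simp
  · intro r hr hc
    exact h3 r hr (((quotOfListConsSMulTopEquivQuotSMulTopInner M x ss).isSMulRegular_congr r).1 hc)


section Local

variable [IsLocalRing R]

/-- depth is at most the dimension of every associated prime. -/
theorem hasReg_le_dim_quotient : ∀ {k : ℕ} {M : Type v} [AddCommGroup M] [Module R M]
    [Module.Finite R M], HasReg (IsLocalRing.maximalIdeal R) M k →
    ∀ p ∈ associatedPrimes R M, (k : WithBot ℕ∞) ≤ ringKrullDim (R ⧸ p) := by
  intro k
  induction k with
  | zero =>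
    intro M _ _ _ _ p hp
    have := Ideal.Quotient.nontrivial_iff.2 hp.isPrime.ne_top
    exact_mod_cast ringKrullDim_nonneg_of_nontrivial
  | succ k ih =>
    intro M _ _ _ h p hp
    obtain ⟨x, hx, hreg, hrest⟩ := h.exists_cons
    obtain ⟨hprime, u, hu⟩ := isAssociatedPrime_iff.1 hp
    let N : Submodule R M :=
      { carrier := {m | ∀ r ∈ p, r • m = 0}
        add_mem' := fun {a b} ha hb r hr => by simp [smul_add, ha r hr, hb r hr]
        zero_mem' := fun r _ => smul_zero r
        smul_mem' := fun c m hm r hr => by rw [smul_comm, hm r hr, smul_zero] }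
    have hN : N ≠ ⊥ := by
      intro h
      have huN : u ∈ N := fun r hr => by
        rw [hu] at hr; simpa using Submodule.mem_colon_singleton.1 hr
      rw [h, Submodule.mem_bot] at huN
      subst huN
      exact hprime.ne_top ((Ideal.eq_top_iff_one _).2 (hu ▸ Submodule.mem_colon_singleton.2 (by simp)))
    obtain ⟨n, hnN, hn⟩ : ∃ n ∈ N, (Submodule.Quotient.mk n : QuotSMulTop x M) ≠ 0 := by
      by_contra hc
      push Not at hc
      refine hN (Submodule.eq_bot_of_le_smul_of_le_jacobson_bot (Ideal.span {x}) N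
        (IsNoetherian.noetherian N) (fun m hm => ?_) ?_)
      · obtain ⟨w, rfl⟩ := mk_eq_zero_iff_exists.1 (hc m hm)
        refine Submodule.smul_mem_smul (Ideal.mem_span_singleton_self x) fun r hr => hreg ?_
        show x • r • w = x • 0
        rw [smul_comm, hm r hr, smul_zero]
      · rw [IsLocalRing.jacobson_eq_maximalIdeal ⊥ bot_ne_top]
        exact (Ideal.span_singleton_le_iff_mem _).2 hx
    obtain ⟨q, hq, hle⟩ := exists_le_isAssociatedPrime_of_isNoetherianRing R _ hn
    have hpq : p ⊔ Ideal.span {x} ≤ q := by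
      refine sup_le (fun r hr => hle ?_) ((Ideal.span_singleton_le_iff_mem _).2 (hle ?_))
      · rw [Submodule.mem_colon_singleton, ← Submodule.Quotient.mk_smul, hnN r hr]
        exact Submodule.zero_mem _
      · rw [Submodule.mem_colon_singleton, ← Submodule.Quotient.mk_smul, Submodule.mem_bot, mk_eq_zero_iff_exists]
        exact ⟨n, rfl⟩
    have hxp : x ∉ p := fun h => exists_notMem_of_hasRegElem (Ideal.span {x})
      (Ideal.mem_span_singleton_self x) hreg p hp ((Ideal.span_singleton_le_iff_mem _).2 h)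
    haveI := hprime
    haveI := Ideal.Quotient.nontrivial_iff.2 hprime.ne_top
    haveI : IsLocalRing (R ⧸ p) := IsLocalRing.of_surjective' (Ideal.Quotient.mk p) Ideal.Quotient.mk_surjective
    have hlt := (ringKrullDim_quotient_span_singleton_succ_eq_ringKrullDim (R := R ⧸ p)
      (x := Ideal.Quotient.mk p x) ?_ ?_)
    · rw [← hlt, Nat.cast_add, Nat.cast_one]
      refine add_le_add ((ih hrest q hq).trans ?_) le_rfl
      refine le_of_le_of_eq (ringKrullDim_le_of_surjective
        (Ideal.Quotient.factor hpq) (Ideal.Quotient.factor_surjective _)) ?_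
      rw [← Set.image_singleton, ← Ideal.map_span]
      exact (ringKrullDim_eq_of_ringEquiv (DoubleQuot.quotQuotEquivQuotSup p (Ideal.span {x}))).symm
    · exact IsSMulRegular.of_ne_zero (fun h => hxp (Ideal.Quotient.eq_zero_iff_mem.1 h))
    · rw [← IsLocalRing.map_maximalIdeal_of_surjective (Ideal.Quotient.mk p) Ideal.Quotient.mk_surjective]
      exact Ideal.mem_map_of_mem _ hx

/-- If `depth M ≥ n` then a list in `m` cutting the support down by its length is regular. -/
theorem isWeaklyRegular_of_supportDim_add_le : ∀ {l : List R} {M : Type v} [AddCommGroup M] [Module R M]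
    [Module.Finite R M] {n : ℕ}, (∀ r ∈ l, r ∈ IsLocalRing.maximalIdeal R) →
    HasReg (IsLocalRing.maximalIdeal R) M n →
    Module.supportDim R (M ⧸ (Ideal.ofList l • ⊤ : Submodule R M)) + (l.length : WithBot ℕ∞) ≤ n →
    IsWeaklyRegular M l := by
  intro l
  induction l with
  | nil => intros; exact IsWeaklyRegular.nil R _
  | cons x l ih =>
    intro M _ _ _ n hmem hM hdim
    rcases subsingleton_or_nontrivial M with hs | hs
    · exact (isWeaklyRegular_iff_Fin M _).2 fun i a b _ => Subsingleton.elim a b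
    rw [Module.supportDim_eq_of_equiv (quotOfListConsSMulTopEquivQuotSMulTopInner M x l),
      List.length_cons, Nat.cast_add, Nat.cast_one, ← add_assoc] at hdim
    have hxm : x ∈ IsLocalRing.maximalIdeal R := hmem x (by simp)
    have hstep : ∀ {l : List R} {N : Type v} [AddCommGroup N] [Module R N] [Module.Finite R N],
        (∀ r ∈ l, r ∈ IsLocalRing.maximalIdeal R) → Module.supportDim R N ≤
        Module.supportDim R (N ⧸ (Ideal.ofList l • ⊤ : Submodule R N)) + (l.length : WithBot ℕ∞) := by
      intro l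
      induction l with
      | nil =>
        intro N _ _ _ _
        rw [Module.supportDim_eq_of_equiv (Submodule.quotEquivOfEqBot _ (by simp))]
        simp
      | cons y l ih2 =>
        intro N _ _ _ h
        refine (Module.supportDim_le_supportDim_quotSMulTop_succ (h y (by simp))).trans ?_
        rw [Module.supportDim_eq_of_equiv (quotOfListConsSMulTopEquivQuotSMulTopInner N y l),
          List.length_cons, Nat.cast_add, Nat.cast_one, ← add_assoc]
        exact add_le_add (ih2 fun r hr => h r (by simp [hr])) le_rfl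
    have hq : Module.supportDim R (QuotSMulTop x M) + 1 ≤ n :=
      (add_le_add (hstep fun r hr => hmem r (by simp [hr])) le_rfl).trans hdim
    obtain _ | m := n
    · exfalso
      haveI : Nontrivial (QuotSMulTop x M) := nontrivial_quotSMulTop_of_mem_maximalIdeal M hxm
      have h0 : (0 : WithBot ℕ∞) ≤ Module.supportDim R (QuotSMulTop x M) :=
        Order.krullDim_nonneg_iff.2 (Module.nonempty_support_iff.2 inferInstance).to_subtype
      have := (add_le_add h0 le_rfl).trans hq
      rw [zero_add] at this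
      norm_num at this
    rw [Nat.cast_add, Nat.cast_one, ENat.WithBot.add_le_add_one_right_iff] at hq
    have hx : IsSMulRegular M x := by
      by_contra hc
      have : x ∈ ⋃ p ∈ associatedPrimes R M, (p : Set R) := by
        rw [biUnion_associatedPrimes_eq_compl_regular]; exact hc
      simp only [Set.mem_iUnion, SetLike.mem_coe, exists_prop] at this
      obtain ⟨p, hp, hxp⟩ := this
      have hp' := hp.isPrime
      have h1 : ringKrullDim (R ⧸ p) ≤ Module.supportDim R (QuotSMulTop x M) := by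
        rw [← Module.supportDim_quotient_eq_ringKrullDim]
        refine Order.krullDim_le_of_strictMono (fun q => ⟨q.1, ?_⟩) (fun a b h => h)
        have hq' := q.2
        rw [Module.mem_support_iff_of_finite, Ideal.annihilator_quotient] at hq'
        rw [Module.support_quotSMulTop]
        obtain ⟨u, hu⟩ := (isAssociatedPrime_iff.1 hp).2
        refine ⟨(Module.mem_support_iff_of_finite).2 (le_trans ?_ hq'), ?_⟩
        · intro r hr
          rw [hu, Submodule.mem_colon_singleton, Module.mem_annihilator.1 hr]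
          exact Submodule.zero_mem _
        · simpa [PrimeSpectrum.mem_zeroLocus] using hq' hxp
      have h2 := (hasReg_le_dim_quotient hM p hp).trans h1
      have := lt_of_le_of_lt (h2.trans hq) (show (m : WithBot ℕ∞) < ((m + 1 : ℕ) : WithBot ℕ∞) by exact_mod_cast Nat.lt_succ_self m)
      exact lt_irrefl _ this
    refine IsWeaklyRegular.cons hx (ih (n := m) (fun r hr => hmem r (by simp [hr])) (hM.quot hxm hx) ?_)
    rw [Nat.cast_add, Nat.cast_one, ENat.WithBot.add_le_add_one_right_iff] at hdim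
    exact hdim

theorem supportDim_add_length_le_of_radical {l : List R} (n : ℕ)
    (hrad : (Ideal.ofList l).radical = IsLocalRing.maximalIdeal R) (hlen : l.length ≤ n) :
    Module.supportDim R (R ⧸ (Ideal.ofList l • ⊤ : Submodule R R)) + (l.length : WithBot ℕ∞) ≤ n := by
  rw [Ideal.smul_eq_mul, Ideal.mul_top]
  have h0 : Module.supportDim R (R ⧸ Ideal.ofList l) ≤ 0 := by
    rw [Module.supportDim_quotient_eq_ringKrullDim]
    have : Ring.KrullDimLE 0 (R ⧸ Ideal.ofList l) := Ring.krullDimLE_zero_iff.2 fun P hP => by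
      refine Ideal.isMaximal_iff.2 ⟨fun h => hP.ne_top ((Ideal.eq_top_iff_one _).2 h), fun J z hPJ hz hzJ => ?_⟩
      obtain ⟨z, rfl⟩ := Ideal.Quotient.mk_surjective z
      by_cases hzu : IsUnit z
      · exact (Ideal.eq_top_iff_one J).1 (Ideal.eq_top_of_isUnit_mem _ hzJ (hzu.map _))
      · have : z ∈ (Ideal.ofList l).radical := hrad ▸ hzu
        obtain ⟨N, hN⟩ := this
        exact absurd (hP.mem_of_pow_mem N (by rw [← map_pow, Ideal.Quotient.eq_zero_iff_mem.2 hN]; exact P.zero_mem)) hz
    exact Ring.krullDimLE_iff.1 this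
  exact (add_le_add h0 le_rfl).trans (by rw [zero_add]; exact_mod_cast hlen)

theorem isWeaklyRegular_sop {R : Type u} [CommRing R] [LocCoh.IsCohenMacaulayLocalRing R] {n : ℕ}
    (hdim : ringKrullDim R = n) {l : List R} (hlen : l.length ≤ n)
    (hrad : (Ideal.ofList l).radical = IsLocalRing.maximalIdeal R) : IsWeaklyRegular R l := by
  have hd : LocCoh.depth R R = (n : ℕ∞) := by
    have := LocCoh.IsCohenMacaulayLocalRing.supportDim_eq_depth (R := R)
    rw [Module.supportDim_self_eq_ringKrullDim, hdim] at this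
    exact_mod_cast this.symm
  refine isWeaklyRegular_of_supportDim_add_le (n := n) (fun r hr => hrad ▸ Ideal.le_radical (Ideal.subset_span hr))
    ((hasReg_iff_le_idealDepth ?_).2 hd.ge) (supportDim_add_length_le_of_radical n hrad hlen)
  rw [Ideal.smul_eq_mul, Ideal.mul_top]
  exact (IsLocalRing.maximalIdeal.isMaximal R).ne_top

end Local

end Groth.Agent.H2Depth
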