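/-
Gorenstein local rings are Cohen-Macaulay; injective dimension equals dimension.
-/
import Mathlib
import Groth.Prelude.Def_CAlg
import Groth.Agent.Lib.RegularLocalSerre
import Groth.Agent.Lib.InjDimResidue
import Groth.Agent.Lib.GorensteinQuotient
import Groth.Agent.Lib.H2Depth

open CategoryTheory
open Groth.Agent.InjDimResidue
open Groth.Agent.GorensteinQuotient
open Pointwise
universe u

namespace Groth.Agent.GorensteinCM


variable {A : Type u} [CommRing A] [IsLocalRing A] [IsNoetherianRing A]

theorem injD_descend {u : A} (hu0 : u ≠ 0) (hu : ∀ r ∈ IsLocalRing.maximalIdeal A, r • u = 0) :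
    ∀ n, InjD A A (n + 1) → InjD A A 1 := by
  intro n
  induction n with
  | zero => exact id
  | succ n ih =>
    intro h
    refine ih (Groth.Agent.RegLocal.hasInjectiveDimensionLT_of_quotients n _ fun I =>
      vanish_finite A (n + 1) (fun i hi => ?_) I (n + 1) le_rfl)
    rcases Nat.lt_or_ge i (n + 2) with hlt | hge
    · obtain rfl : i = n + 1 := by omega
      let φ : IsLocalRing.ResidueField A →ₗ[A] A :=
        Submodule.liftQ (IsLocalRing.maximalIdeal A) (LinearMap.toSpanSingleton A A u)
          (fun r hr => by simpa using hu r hr)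
      have hφ : Function.Injective φ := by
        rw [← LinearMap.ker_eq_bot]
        change LinearMap.ker (Submodule.liftQ _ (LinearMap.toSpanSingleton A A u) _) = ⊥
        refine Submodule.ker_liftQ_eq_bot _ _ _ fun r hr => ?_
        by_contra hc
        obtain ⟨s, hs⟩ := (IsLocalRing.notMem_maximalIdeal.mp hc)
        apply hu0
        rw [LinearMap.mem_ker, LinearMap.toSpanSingleton_apply, ← hs] at hr
        simpa [← smul_assoc, smul_eq_mul] using congrArg (fun z => (↑s⁻¹ : A) • z) hr
      have hS := shortExact_mk φ (LinearMap.range φ).mkQ hφ (Submodule.mkQ_surjective _)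
        (LinearMap.exact_map_mkQ_range φ)
      refine subsingleton_of_forall_eq 0 fun e => ?_
      have h2 := h.subsingleton _ _ (n + 2) le_rfl (ModuleCat.of A (A ⧸ LinearMap.range φ))
      obtain ⟨e', rfl⟩ := Abelian.Ext.contravariant_sequence_exact₁ hS (ModuleCat.of A A) e
        (show 1 + (n + 1) = n + 2 by omega) (h2.elim _ _)
      haveI : Projective (ModuleCat.of A A) :=
        (IsProjective.iff_projective _).mp inferInstance
      rw [Abelian.Ext.eq_zero_of_projective e', Abelian.Ext.comp_zero]
    · exact h.subsingleton _ _ i hge _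

theorem isArtinian_of_injective {u : A} (hu0 : u ≠ 0) (hu : ∀ r ∈ IsLocalRing.maximalIdeal A, r • u = 0)
    (hA : Module.Injective A A) : IsArtinianRing A := by
  let ann : Ideal A → Ideal A := fun I => Module.annihilator A I
  have key : ∀ I : Ideal A, ∀ a : A, a ∉ I → ∃ c ∈ ann I, c * a ≠ 0 := by
    intro I a ha
    let v : A →ₗ[A] A ⧸ I := LinearMap.toSpanSingleton A _ (Submodule.Quotient.mk a)
    have hker : LinearMap.ker v ≤ LinearMap.ker (LinearMap.toSpanSingleton A A u) := by
      intro r hr
      have hr' : r * a ∈ I := by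
        rw [LinearMap.mem_ker, LinearMap.toSpanSingleton_apply, ← Submodule.Quotient.mk_smul] at hr
        exact (Submodule.Quotient.mk_eq_zero I).mp hr
      have : r ∈ IsLocalRing.maximalIdeal A := fun hu' => ha (by
        obtain ⟨s, rfl⟩ := hu'
        simpa [← mul_assoc] using I.mul_mem_left (↑s⁻¹ : A) hr')
      simpa using hu r this
    obtain ⟨h, hh⟩ := hA.out ((LinearMap.ker v).liftQ v le_rfl)
      (LinearMap.ker_eq_bot.mp (Submodule.ker_liftQ_eq_bot _ _ _ le_rfl))
      ((LinearMap.ker v).liftQ (LinearMap.toSpanSingleton A A u) hker)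
    have hua : h (Submodule.Quotient.mk a) = u := by
      have := hh (Submodule.Quotient.mk 1)
      rw [Submodule.liftQ_apply, Submodule.liftQ_apply] at this
      simpa [v, LinearMap.toSpanSingleton_apply] using this
    refine ⟨h (Submodule.Quotient.mk 1), ?_, ?_⟩
    · rw [Module.mem_annihilator]
      rintro ⟨i, hi⟩
      apply Subtype.ext
      change h (Submodule.Quotient.mk 1) * i = 0
      rw [mul_comm, ← smul_eq_mul, ← map_smul, ← Submodule.Quotient.mk_smul, smul_eq_mul, mul_one,
        (Submodule.Quotient.mk_eq_zero _).mpr hi, map_zero]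
    · rw [mul_comm, ← smul_eq_mul, ← map_smul, ← Submodule.Quotient.mk_smul, smul_eq_mul, mul_one, hua]
      exact hu0
  have hanti : StrictAnti ann := by
    intro I J hIJ
    refine lt_of_le_of_ne (fun c hc => ?_) fun heq => ?_
    · rw [Module.mem_annihilator] at hc ⊢
      exact fun i => Subtype.ext (congrArg (fun z : J => (z : A)) (hc ⟨(i : A), hIJ.le i.2⟩) :)
    · obtain ⟨a, haJ, haI⟩ := SetLike.exists_of_lt hIJ
      obtain ⟨c, hc, hca⟩ := key I a haI
      rw [← heq, Module.mem_annihilator] at hc
      exact hca (congrArg Subtype.val (hc ⟨a, haJ⟩))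
  haveI : WellFoundedLT (Ideal A) := hanti.wellFoundedLT
  exact isArtinian_iff A A |>.mpr IsWellFounded.wf

theorem dim_zero_of_noReg (h : Groth.Agent.H2Depth.NoReg (IsLocalRing.maximalIdeal A) A) (n : ℕ)
    (hn : InjD A A (n + 1)) : InjD A A 1 ∧ ringKrullDim A = 0 := by
  obtain ⟨u, hu0, hu⟩ := Groth.Agent.H2Depth.exists_killed_of_noReg h
  haveI := isArtinian_of_injective hu0 hu (injD_one_iff.mp (injD_descend hu0 hu n hn))
  exact ⟨injD_descend hu0 hu n hn, ringKrullDimZero_iff_ringKrullDim_eq_zero.mp inferInstance⟩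

theorem injD_self_of_quotient {f : A} (hf : f ∈ IsLocalRing.maximalIdeal A) (hreg : IsSMulRegular A f)
    (n : ℕ) (h : InjD (A ⧸ Ideal.span {f}) (A ⧸ Ideal.span {f}) (n + 1)) : InjD A A (n + 2) := by
  have hQ : InjD A (A ⧸ Ideal.span {f}) (n + 2) := injD_restrict (f := f) n (A ⧸ Ideal.span {f}) hreg h
  refine Groth.Agent.RegLocal.hasInjectiveDimensionLT_of_quotients (n + 1) _ fun I =>
    vanish_finite A (n + 2) (fun i hi => subsingleton_of_forall_eq 0 fun e => ?_) I (n + 1 + 1) le_rfl
  let m : A →ₗ[A] A := f • LinearMap.id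
  have hS := shortExact_mk m (Ideal.span {f}).mkQ (fun a b hab => hreg (by simpa [m] using hab))
    (Submodule.mkQ_surjective _) (fun a => by
      rw [Submodule.mkQ_apply, Submodule.Quotient.mk_eq_zero, Ideal.mem_span_singleton']
      simp [m, mul_comm, eq_comm])
  have h0 := hQ.subsingleton _ _ i hi (ModuleCat.of A (IsLocalRing.ResidueField A))
  obtain ⟨e', rfl⟩ := Abelian.Ext.covariant_sequence_exact₂ _ hS e (h0.elim _ _)
  have hk : f ∈ Module.annihilator A (ModuleCat.of A (IsLocalRing.ResidueField A)) := by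
    rw [Module.mem_annihilator]
    intro x
    change f • (x : IsLocalRing.ResidueField A) = 0
    rw [Algebra.smul_def, IsLocalRing.ResidueField.algebraMap_eq, (IsLocalRing.residue_eq_zero_iff f).mpr hf, zero_mul]
  have hz := Abelian.Ext.postcomp_smul_id_eq_zero_of_mem_annihilator (M := ModuleCat.of A A) hk i
  exact DFunLike.congr_fun (congrArg AddCommGrpCat.Hom.hom hz) e'

theorem gor_seq : ∀ (n : ℕ) (A : Type u) [CommRing A] [IsLocalRing A] [IsNoetherianRing A],
    InjD A A (n + 1) → ∃ d : ℕ, d ≤ n ∧ InjD A A (d + 1) ∧ ringKrullDim A = d ∧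
      Groth.Agent.H2Depth.HasReg (IsLocalRing.maximalIdeal A) A d := by
  intro n
  induction n with
  | zero =>
    intro A _ _ _ h
    by_cases hN : Groth.Agent.H2Depth.NoReg (IsLocalRing.maximalIdeal A) A
    · exact ⟨0, le_rfl, h, by simpa using (dim_zero_of_noReg hN 0 h).2, Groth.Agent.H2Depth.HasReg.zero _⟩
    · simp only [Groth.Agent.H2Depth.NoReg, not_forall, not_not] at hN
      obtain ⟨f, hf, hreg⟩ := hN
      haveI := injD_one_iff.mp h
      obtain ⟨g, hg⟩ := divisible_of_injective hreg (1 : A)
      exact absurd (IsUnit.of_mul_eq_one g hg) hf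
  | succ n ih =>
    intro A _ _ _ h
    by_cases hN : Groth.Agent.H2Depth.NoReg (IsLocalRing.maximalIdeal A) A
    · exact ⟨0, Nat.zero_le _, (dim_zero_of_noReg hN (n + 1) h).1,
        by simpa using (dim_zero_of_noReg hN (n + 1) h).2, Groth.Agent.H2Depth.HasReg.zero _⟩
    simp only [Groth.Agent.H2Depth.NoReg, not_forall, not_not] at hN
    obtain ⟨f, hf, hreg⟩ := hN
    haveI : Nontrivial (A ⧸ Ideal.span {f}) := Submodule.Quotient.nontrivial_iff.mpr fun h =>
      (IsLocalRing.maximalIdeal.isMaximal A).ne_top (top_le_iff.mp (h ▸ (Ideal.span_singleton_le_iff_mem _).mpr hf))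
    haveI : IsLocalRing (A ⧸ Ideal.span {f}) := IsLocalRing.of_surjective' _ Ideal.Quotient.mk_surjective
    obtain ⟨d, hdn, hdinj, hd, rs, hlen, hrs, hmem⟩ := ih (A ⧸ Ideal.span {f}) (injD_quotient hreg n h)
    refine ⟨d + 1, by omega, injD_self_of_quotient hf hreg d hdinj, ?_, ?_⟩
    · rw [← ringKrullDim_quotient_span_singleton_succ_eq_ringKrullDim hreg hf, hd]
      norm_cast
    · refine Groth.Agent.H2Depth.HasReg.cons hf hreg (Groth.Agent.H2Depth.HasReg.congr
        (Submodule.quotEquivOfEq (Ideal.span {f}) (f • (⊤ : Submodule A A))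
          (by simp [← Submodule.ideal_span_singleton_smul])) ?_)
      choose s hs using fun r : A ⧸ Ideal.span {f} => Ideal.Quotient.mk_surjective r
      refine ⟨rs.map s, by simpa using hlen, ?_, ?_⟩
      · rw [← RingTheory.Sequence.isWeaklyRegular_map_algebraMap_iff (A ⧸ Ideal.span {f})]
        simpa [List.map_map, Function.comp_def, hs] using hrs
      · intro r hr
        obtain ⟨q, hq, rfl⟩ := List.mem_map.mp hr
        have := hmem q hq
        intro hu
        apply this
        rw [← hs q]
        exact hu.map _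

theorem injD_localization {A : Type u} [CommRing A] (S : Submonoid A) (n : ℕ) :
    (InjD (Localization S) (Localization S) (n + 1)) ↔
      HasInjectiveDimensionLT ((ModuleCat.of A A).localizedModule S) (n + 1) := by
  let g : A →ₗ[A] (ModuleCat.of A A).localizedModule S := (ModuleCat.of A A).localizedModuleMkLinearMap S
  haveI : IsLocalizedModule S g := ModuleCat.localizedModule_isLocalizedModule _ S
  let e : (ModuleCat.of A A).localizedModule S ≅ ModuleCat.of (Localization S) (Localization S) :=
    (LinearEquiv.extendScalarsOfIsLocalization S (Localization S)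
      (IsLocalizedModule.linearEquiv S g
        (Algebra.linearMap A (Localization S)))).toModuleIso
  exact ⟨fun h => @hasInjectiveDimensionLT_of_iso _ _ _ _ _ e.symm (n + 1) h,
    fun h => @hasInjectiveDimensionLT_of_iso _ _ _ _ _ e (n + 1) h⟩

end Groth.Agent.GorensteinCM
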