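/-
Ext from a quotient ring and flat base change: tools for Gorenstein rings in flat families.
-/
import Mathlib
import Groth.Prelude.Def_CAlg
import Groth.Agent.Lib.InjDimResidue
import Groth.Agent.Lib.RegularLocalSerre
import Groth.Agent.Lib.GorensteinQuotient
import Groth.Agent.Lib.H2Depth
import Groth.Agent.Lib.GorensteinCM

open CategoryTheory
open Groth.Agent.InjDimResidue
open Groth.Agent.GorensteinQuotient
open Groth.Agent.GorensteinCM
open TensorProduct
universe u

namespace Groth.Agent.GorensteinFlatBase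

/-- Positive-degree vanishing of Ext from `B/J`. -/
abbrev Acy {B : Type u} [CommRing B] (J : Ideal B) (M : Type u) [AddCommGroup M] [Module B M] : Prop :=
  ∀ i : ℕ, 1 ≤ i → Subsingleton (Abelian.Ext (ModuleCat.of B (B ⧸ J)) (ModuleCat.of B M) i)

/-- The `J`-torsion. -/
abbrev T {B : Type u} [CommRing B] (J : Ideal B) (M : Type u) [AddCommGroup M] [Module B M] :
    Submodule B M := Submodule.torsionBySet B M J

section
variable {B : Type u} [CommRing B] {J : Ideal B}

theorem mem_T {M : Type u} [AddCommGroup M] [Module B M] (x : M) :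
    x ∈ T J M ↔ ∀ a ∈ J, a • x = 0 := by
  simp [T, Submodule.mem_torsionBySet_iff]

/-- The map induced on torsion. -/
def tmap {M N : Type u} [AddCommGroup M] [Module B M] [AddCommGroup N] [Module B N] (φ : M →ₗ[B] N) :
    T J M →ₗ[B ⧸ J] T J N :=
  LinearMap.extendScalarsOfSurjective Ideal.Quotient.mk_surjective
    (φ.restrict (fun x hx => by
      rw [mem_T] at hx ⊢
      intro a ha
      rw [← map_smul, hx a ha, map_zero]))

theorem tmap_coe {M N : Type u} [AddCommGroup M] [Module B M] [AddCommGroup N] [Module B N] (φ : M →ₗ[B] N)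
    (x : T J M) : (tmap φ x : N) = φ x := rfl

theorem injective_T {E : Type u} [AddCommGroup E] [Module B E] (hE : Module.Injective B E) :
    Module.Injective (B ⧸ J) (T J E) := by
  refine Module.Baer.injective ?_
  intro K g
  let q : B →+* B ⧸ J := Ideal.Quotient.mk _
  let l : (K.comap q) →ₗ[B] K :=
    { toFun := fun a => ⟨q a, a.2⟩
      map_add' := fun a b => Subtype.ext (map_add q _ _)
      map_smul' := fun r a => Subtype.ext (by simp [q, Algebra.smul_def, smul_eq_mul]) }
  obtain ⟨h, hh⟩ := Module.Baer.of_injective hE (K.comap q)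
    ((T J E).subtype ∘ₗ (g.restrictScalars B) ∘ₗ l)
  have hmem : h 1 ∈ T J E := by
    rw [mem_T]
    intro a ha
    rw [← map_smul, smul_eq_mul, mul_one]
    have hfm : a ∈ K.comap q := by
      rw [Ideal.mem_comap, show q a = 0 from Ideal.Quotient.eq_zero_iff_mem.mpr ha]
      exact zero_mem _
    have hl : l ⟨a, hfm⟩ = 0 := Subtype.ext (Ideal.Quotient.eq_zero_iff_mem.mpr ha)
    rw [hh a hfm]
    simp [hl]
  refine ⟨LinearMap.toSpanSingleton _ _ ⟨h 1, hmem⟩, fun x hx => ?_⟩
  obtain ⟨a, rfl⟩ := Ideal.Quotient.mk_surjective x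
  apply Subtype.ext
  have := hh a hx
  simp only [LinearMap.coe_comp, Function.comp_apply, Submodule.coe_subtype,
    LinearMap.restrictScalars_apply] at this
  rw [LinearMap.toSpanSingleton_apply]
  change a • h 1 = _
  rw [← map_smul, smul_eq_mul, mul_one, this]
  rfl

theorem ext_injective_zero {E : Type u} [AddCommGroup E] [Module B E] (hE : Module.Injective B E)
    (N : ModuleCat.{u} B) (i : ℕ) (hi : 1 ≤ i) : Subsingleton (Abelian.Ext N (ModuleCat.of B E) i) := by
  have := injD_one_iff.mpr hE
  exact HasInjectiveDimensionLT.subsingleton (ModuleCat.of B E) 1 i hi N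

/-- An embedding into an injective, with everything we know about it. -/
theorem exists_step {M : Type u} [AddCommGroup M] [Module B M] (hM : Acy J M) :
    ∃ (E C : Type u) (_ : AddCommGroup E) (_ : Module B E) (_ : AddCommGroup C) (_ : Module B C)
      (ι : M →ₗ[B] E) (π : E →ₗ[B] C),
      Function.Injective ι ∧ Function.Surjective π ∧ Function.Exact ι π ∧ Module.Injective B E ∧ Acy J C ∧
      Function.Injective (tmap (J := J) ι) ∧ Function.Surjective (tmap (J := J) π) ∧
      Function.Exact (tmap (J := J) ι) (tmap (J := J) π) := by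
  obtain ⟨E, _, _, ι, hι, hE⟩ := exists_embedding B M
  let π : E →ₗ[B] E ⧸ LinearMap.range ι := (LinearMap.range ι).mkQ
  have hπ : Function.Surjective π := Submodule.mkQ_surjective _
  have hex : Function.Exact ι π := LinearMap.exact_map_mkQ_range ι
  have hS := shortExact_mk ι π hι hπ hex
  refine ⟨E, E ⧸ LinearMap.range ι, inferInstance, inferInstance, inferInstance, inferInstance, ι, π,
    hι, hπ, hex, hE, ?_, ?_, ?_, ?_⟩
  · intro i hi
    refine subsingleton_of_forall_eq 0 fun e => ?_
    obtain ⟨e', rfl⟩ := Abelian.Ext.covariant_sequence_exact₃ _ hS e rfl ((hM (i + 1) (by omega)).elim _ _)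
    rw [(ext_injective_zero hE _ i hi).elim e' 0, Abelian.Ext.zero_comp]
  · exact fun a b hab => Subtype.ext (hι (congrArg Subtype.val hab))
  · rintro ⟨c, hc⟩
    let g : B ⧸ J →ₗ[B] E ⧸ LinearMap.range ι := Submodule.liftQ J (LinearMap.toSpanSingleton B _ c)
      (fun a ha => by simpa using (mem_T c).mp hc a ha)
    obtain ⟨y, hy⟩ := Abelian.Ext.covariant_sequence_exact₃ _ hS (Abelian.Ext.mk₀ (ModuleCat.ofHom g))
      (show 0 + 1 = 1 from rfl) ((hM 1 le_rfl).elim _ _)
    obtain ⟨k, rfl⟩ := (Abelian.Ext.mk₀_bijective _ _).2 y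
    rw [Abelian.Ext.mk₀_comp_mk₀, (Abelian.Ext.mk₀_bijective _ _).1.eq_iff] at hy
    have h1 : π (k.hom (Submodule.Quotient.mk 1)) = c := by
      have := congrArg (fun q => q.hom (Submodule.Quotient.mk (1 : B))) hy
      refine this.trans ?_
      change g (Submodule.Quotient.mk 1) = c
      exact (Submodule.liftQ_apply J _ (1 : B)).trans (one_smul B c)
    refine ⟨⟨k.hom (Submodule.Quotient.mk 1), ?_⟩, Subtype.ext h1⟩
    rw [mem_T]
    intro a ha
    rw [← map_smul, ← Submodule.Quotient.mk_smul, smul_eq_mul, mul_one,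
      (Submodule.Quotient.mk_eq_zero J).mpr ha, map_zero]
  · rintro ⟨e, he⟩
    constructor
    · intro h0
      obtain ⟨m, rfl⟩ := (hex e).mp (congrArg Subtype.val h0)
      refine ⟨⟨m, ?_⟩, rfl⟩
      rw [mem_T] at he ⊢
      exact fun a ha => hι (by rw [map_smul, he a ha, map_zero])
    · rintro ⟨m, hm⟩
      rw [← hm]
      exact Subtype.ext (hex.apply_apply_eq_zero _)

theorem injD_T :
    ∀ (n : ℕ) (M : Type u) [AddCommGroup M] [Module B M], Acy J M → InjD B M (n + 1) →
      InjD (B ⧸ J) (T J M) (n + 1) := by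
  intro n
  induction n with
  | zero =>
    intro M _ _ _ h
    exact injD_one_iff.mpr (injective_T (injD_one_iff.mp h))
  | succ n ih =>
    intro M _ _ hM h
    obtain ⟨E, C, _, _, _, _, ι, π, hι, hπ, hex, hE, hC, hi, hs, he⟩ := exists_step hM
    have hC' : InjD B C (n + 1) := by
      have := injD_one_iff.mpr hE
      exact (shortExact_mk ι π hι hπ hex).hasInjectiveDimensionLT_X₃ (n + 1)
        (hasInjectiveDimensionLT_of_ge (ModuleCat.of B E) 1 (n + 1) (by omega)) h
    have : InjD (B ⧸ J) (T J E) 1 := injD_one_iff.mpr (injective_T hE)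
    exact (shortExact_mk _ _ hi hs he).hasInjectiveDimensionLT_X₁ (n + 1) (ih C hC hC')
      (hasInjectiveDimensionLT_of_ge (ModuleCat.of (B ⧸ J) (T J E)) 1 (n + 1 + 1) (by omega))

theorem T_injective_split {M E C : Type u} [AddCommGroup M] [Module B M] [AddCommGroup E] [Module B E]
    [AddCommGroup C] [Module B C] (ι : M →ₗ[B] E) (π : E →ₗ[B] C)
    (hi : Function.Injective (tmap (J := J) ι)) (hs : Function.Surjective (tmap (J := J) π))
    (he : Function.Exact (tmap (J := J) ι) (tmap (J := J) π)) (hT : Module.Injective (B ⧸ J) (T J M))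
    (hE : Module.Injective B E) :
    Module.Injective (B ⧸ J) (T J C) ∧
      ∃ s : T J C →ₗ[B ⧸ J] T J E, ∀ c, tmap π (s c) = c := by
  obtain ⟨r, hr⟩ := hT.out (tmap ι) hi LinearMap.id
  constructor
  · have h1 : InjD (B ⧸ J) (T J C) 1 := by
      refine (shortExact_mk _ _ hi hs he).hasInjectiveDimensionLT_X₃ 1
        (injD_one_iff.mpr (injective_T hE)) ?_
      have := injD_one_iff.mpr hT
      exact hasInjectiveDimensionLT_of_ge (ModuleCat.of (B ⧸ J) (T J M)) 1 2 (by omega)
    exact injD_one_iff.mp h1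
  · let p : T J E →ₗ[B ⧸ J] T J E := LinearMap.id - (tmap ι) ∘ₗ r
    have hker : LinearMap.ker (tmap (J := J) π) ≤ LinearMap.ker p := by
      intro x hx
      obtain ⟨m, rfl⟩ := (he x).mp hx
      simp only [LinearMap.mem_ker, p, LinearMap.sub_apply, LinearMap.id_coe, id_eq,
        LinearMap.coe_comp, Function.comp_apply, hr, sub_self]
    refine ⟨((LinearMap.ker (tmap (J := J) π)).liftQ p hker) ∘ₗ
      ((tmap (J := J) π).quotKerEquivOfSurjective hs).symm.toLinearMap, fun c => ?_⟩
    obtain ⟨x, rfl⟩ := hs c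
    rw [LinearMap.coe_comp, Function.comp_apply, LinearEquiv.coe_coe,
      show ((tmap (J := J) π).quotKerEquivOfSurjective hs).symm (tmap π x) = Submodule.Quotient.mk x from
        (LinearEquiv.symm_apply_eq _).mpr rfl, Submodule.liftQ_apply]
    simp [p, he.apply_apply_eq_zero]

theorem ext_vanish_of_T_injective :
    ∀ (i : ℕ) (M : Type u) [AddCommGroup M] [Module B M], Acy J M → Module.Injective (B ⧸ J) (T J M) →
      ∀ (N : Type u) [AddCommGroup N] [Module B N], (∀ a ∈ J, ∀ z : N, a • z = 0) →
        Subsingleton (Abelian.Ext (ModuleCat.of B N) (ModuleCat.of B M) (i + 1)) := by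
  intro i
  induction i with
  | zero =>
    intro M _ _ hM hT N _ _ hN
    obtain ⟨E, C, _, _, _, _, ι, π, hι, hπ, hex, hE, hC, hi, hs, he⟩ := exists_step hM
    have hS := shortExact_mk ι π hι hπ hex
    refine subsingleton_of_forall_eq 0 fun e => ?_
    obtain ⟨y, rfl⟩ := Abelian.Ext.covariant_sequence_exact₁ _ hS e
      ((ext_injective_zero hE _ 1 le_rfl).elim _ _) (show 0 + 1 = 1 from rfl)
    obtain ⟨g, rfl⟩ := (Abelian.Ext.mk₀_bijective _ _).2 y
    obtain ⟨-, s, hsec⟩ := T_injective_split ι π hi hs he hT hE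
    let g' : N →ₗ[B] T J C := LinearMap.codRestrict _ g.hom (fun x => by
      rw [mem_T]
      intro a ha
      rw [← map_smul, hN a ha x, map_zero])
    let l : N →ₗ[B] E := (T J E).subtype ∘ₗ (s.restrictScalars B) ∘ₗ g'
    have hl : g = ModuleCat.ofHom l ≫ ModuleCat.ofHom π := by
      ext x
      exact (congrArg Subtype.val (hsec (g' x))).symm
    rw [hl, ← Abelian.Ext.mk₀_comp_mk₀, Abelian.Ext.comp_assoc_of_second_deg_zero]
    exact (congrArg (fun z => (Abelian.Ext.mk₀ (ModuleCat.ofHom l)).comp z (zero_add 1))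
      hS.comp_extClass).trans (by simp)
  | succ i ih =>
    intro M _ _ hM hT N _ _ hN
    obtain ⟨E, C, _, _, _, _, ι, π, hι, hπ, hex, hE, hC, hi, hs, he⟩ := exists_step hM
    have hS := shortExact_mk ι π hι hπ hex
    refine subsingleton_of_forall_eq 0 fun e => ?_
    obtain ⟨y, rfl⟩ := Abelian.Ext.covariant_sequence_exact₁ _ hS e
      ((ext_injective_zero hE _ _ (by omega)).elim _ _) rfl
    have hTC := (T_injective_split ι π hi hs he hT hE).1
    rw [(ih C hC hTC N hN).elim y 0, Abelian.Ext.zero_comp]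

theorem ext_vanish_of_T :
    ∀ (n : ℕ) (M : Type u) [AddCommGroup M] [Module B M], Acy J M → InjD (B ⧸ J) (T J M) (n + 1) →
      ∀ (N : Type u) [AddCommGroup N] [Module B N], (∀ a ∈ J, ∀ z : N, a • z = 0) → ∀ i, n + 1 ≤ i →
        Subsingleton (Abelian.Ext (ModuleCat.of B N) (ModuleCat.of B M) i) := by
  intro n
  induction n with
  | zero =>
    intro M _ _ hM h N _ _ hN i hi
    obtain ⟨j, rfl⟩ : ∃ j, i = j + 1 := ⟨i - 1, by omega⟩
    exact ext_vanish_of_T_injective j M hM (injD_one_iff.mp h) N hN
  | succ n ih =>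
    intro M _ _ hM h N _ _ hN i hi
    obtain ⟨j, rfl⟩ : ∃ j, i = j + 1 := ⟨i - 1, by omega⟩
    obtain ⟨E, C, _, _, _, _, ι, π, hι, hπ, hex, hE, hC, hinj, hs, he⟩ := exists_step hM
    have hTC : InjD (B ⧸ J) (T J C) (n + 1) := by
      have := injD_one_iff.mpr (injective_T (J := J) hE)
      exact (shortExact_mk _ _ hinj hs he).hasInjectiveDimensionLT_X₃ (n + 1)
        (hasInjectiveDimensionLT_of_ge (ModuleCat.of (B ⧸ J) (T J E)) 1 (n + 1) (by omega)) h
    have hS := shortExact_mk ι π hι hπ hex
    refine subsingleton_of_forall_eq 0 fun e => ?_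
    obtain ⟨y, rfl⟩ := Abelian.Ext.covariant_sequence_exact₁ _ hS e
      ((ext_injective_zero hE _ _ (by omega)).elim _ _) rfl
    rw [(ih C hC hTC N hN j (by omega)).elim y 0, Abelian.Ext.zero_comp]

end

section Shift
variable {R : Type u} [CommRing R] {K P M : Type u} [AddCommGroup K] [Module R K] [AddCommGroup P]
  [Module R P] [AddCommGroup M] [Module R M] {ι : K →ₗ[R] P} {π : P →ₗ[R] M}

theorem ext_proj_zero [Module.Projective R P] (N : ModuleCat.{u} R) (i : ℕ) :
    Subsingleton (Abelian.Ext (ModuleCat.of R P) N (i + 1)) := by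
  have : Projective (ModuleCat.of R P) := (IsProjective.iff_projective P).mp inferInstance
  exact subsingleton_of_forall_eq 0 fun e => e.eq_zero_of_projective

theorem shift_iff [Module.Projective R P] (hι : Function.Injective ι) (hπ : Function.Surjective π)
    (hex : Function.Exact ι π) (N : ModuleCat.{u} R) (i : ℕ) :
    Subsingleton (Abelian.Ext (ModuleCat.of R K) N (i + 1)) ↔
      Subsingleton (Abelian.Ext (ModuleCat.of R M) N (i + 2)) := by
  have hS := shortExact_mk ι π hι hπ hex
  constructor
  · intro h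
    refine subsingleton_of_forall_eq 0 fun e => ?_
    obtain ⟨y, rfl⟩ := Abelian.Ext.contravariant_sequence_exact₃ hS N e
      ((ext_proj_zero N (i + 1)).elim _ _) (show 1 + (i + 1) = i + 2 by omega)
    rw [h.elim y 0, Abelian.Ext.comp_zero]
  · intro h
    refine subsingleton_of_forall_eq 0 fun e => ?_
    obtain ⟨y, rfl⟩ := Abelian.Ext.contravariant_sequence_exact₁ hS N e
      (show 1 + (i + 1) = i + 2 by omega) (h.elim _ _)
    rw [(ext_proj_zero N i).elim y 0, Abelian.Ext.comp_zero]

theorem ext_one_iff [Module.Projective R P] (hι : Function.Injective ι) (hπ : Function.Surjective π)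
    (hex : Function.Exact ι π) (N : Type u) [AddCommGroup N] [Module R N] :
    Subsingleton (Abelian.Ext (ModuleCat.of R M) (ModuleCat.of R N) 1) ↔
      Function.Surjective (ι.lcomp R N) := by
  have hS := shortExact_mk ι π hι hπ hex
  constructor
  · intro h g
    obtain ⟨y, hy⟩ := Abelian.Ext.contravariant_sequence_exact₁ hS (ModuleCat.of R N)
      (Abelian.Ext.mk₀ (ModuleCat.ofHom g)) (show 1 + 0 = 1 from rfl) (h.elim _ _)
    obtain ⟨k, rfl⟩ := (Abelian.Ext.mk₀_bijective _ _).2 y
    rw [Abelian.Ext.mk₀_comp_mk₀, (Abelian.Ext.mk₀_bijective _ _).1.eq_iff] at hy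
    exact ⟨k.hom, congrArg ModuleCat.Hom.hom hy⟩
  · intro h
    refine subsingleton_of_forall_eq 0 fun e => ?_
    obtain ⟨y, rfl⟩ := Abelian.Ext.contravariant_sequence_exact₃ hS (ModuleCat.of R N) e
      ((ext_proj_zero _ 0).elim _ _) (show 1 + 0 = 1 from rfl)
    obtain ⟨g, rfl⟩ := (Abelian.Ext.mk₀_bijective _ _).2 y
    obtain ⟨k, hk⟩ := h g.hom
    have hg : g = ModuleCat.ofHom ι ≫ ModuleCat.ofHom k := by
      ext x
      exact (congrArg (fun z : K →ₗ[R] N => z x) hk).symm
    rw [hg, ← Abelian.Ext.mk₀_comp_mk₀]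
    exact hS.extClass_comp_assoc _

end Shift

theorem ext_baseChange {A B : Type u} [CommRing A] [IsNoetherianRing A] [CommRing B] [Algebra A B]
    [Module.Flat A B] :
    ∀ (i : ℕ) (M : Type u) [AddCommGroup M] [Module A M] [Module.Finite A M],
      (Subsingleton (Abelian.Ext (ModuleCat.of A M) (ModuleCat.of A A) (i + 1)) →
        Subsingleton (Abelian.Ext (ModuleCat.of B (B ⊗[A] M)) (ModuleCat.of B (B ⊗[A] A)) (i + 1))) ∧
      (Module.FaithfullyFlat A B →
        Subsingleton (Abelian.Ext (ModuleCat.of B (B ⊗[A] M)) (ModuleCat.of B (B ⊗[A] A)) (i + 1)) →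
          Subsingleton (Abelian.Ext (ModuleCat.of A M) (ModuleCat.of A A) (i + 1))) := by
  intro i
  induction i with
  | zero =>
    intro M _ _ _
    obtain ⟨r, π, hπ⟩ := Module.Finite.exists_fin' A M
    let ι := (LinearMap.ker π).subtype
    have hι : Function.Injective ι := Subtype.val_injective
    have hex : Function.Exact ι π := LinearMap.exact_subtype_ker_map π
    have hι' : Function.Injective (ι.baseChange B) := Module.Flat.lTensor_preserves_injective_linearMap ι hι
    have hπ' : Function.Surjective (π.baseChange B) := LinearMap.lTensor_surjective B hπ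
    have hex' : Function.Exact (ι.baseChange B) (π.baseChange B) := lTensor_exact B hex hπ
    rw [ext_one_iff hι hπ hex, ext_one_iff hι' hπ' hex']
    haveI : Module.FinitePresentation A (LinearMap.ker π) := Module.finitePresentation_of_finite A _
    have bK := Module.FinitePresentation.isBaseChange_map A (LinearMap.ker π) A B
    have bP := Module.FinitePresentation.isBaseChange_map A (Fin r → A) A B
    have hcomm : ∀ φ : (Fin r → A) →ₗ[A] A,
        ((ι.baseChange B).lcomp B (B ⊗[A] A)) (LinearMap.baseChangeHom A B _ A φ) =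
          LinearMap.baseChangeHom A B _ A (ι.lcomp A A φ) := fun φ => by
      ext x; simp
    constructor
    · intro h g
      induction g using bK.inductionOn with
      | zero => exact ⟨0, map_zero _⟩
      | tmul x =>
        obtain ⟨φ, rfl⟩ := h x
        exact ⟨_, hcomm φ⟩
      | smul b x hx => obtain ⟨y, rfl⟩ := hx; exact ⟨b • y, map_smul _ _ _⟩
      | add x y hx hy => obtain ⟨x, rfl⟩ := hx; obtain ⟨y, rfl⟩ := hy; exact ⟨x + y, map_add _ _ _⟩
    · intro _ h
      rw [← Module.FaithfullyFlat.lTensor_surjective_iff_surjective A B]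
      intro z
      obtain ⟨y, hy⟩ := h (bK.equiv z)
      refine ⟨bP.equiv.symm y, bK.equiv.injective ?_⟩
      rw [← hy]
      have key : bK.equiv.toLinearMap ∘ₗ ((ι.lcomp A A).baseChange B) =
          ((ι.baseChange B).lcomp B (B ⊗[A] A)) ∘ₗ bP.equiv.toLinearMap := by
        refine TensorProduct.AlgebraTensorModule.curry_injective (LinearMap.ext_ring (LinearMap.ext fun φ => ?_))
        ext x
        simp [IsBaseChange.equiv_tmul]
      have := LinearMap.congr_fun key (bP.equiv.symm y)
      simp only [LinearMap.coe_comp, Function.comp_apply, LinearEquiv.coe_coe, LinearEquiv.apply_symm_apply] at this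
      exact this
  | succ i ih =>
    intro M _ _ _
    obtain ⟨r, π, hπ⟩ := Module.Finite.exists_fin' A M
    let ι := (LinearMap.ker π).subtype
    have hι : Function.Injective ι := Subtype.val_injective
    have hex : Function.Exact ι π := LinearMap.exact_subtype_ker_map π
    have hι' : Function.Injective (ι.baseChange B) := Module.Flat.lTensor_preserves_injective_linearMap ι hι
    have hπ' : Function.Surjective (π.baseChange B) := LinearMap.lTensor_surjective B hπ
    have hex' : Function.Exact (ι.baseChange B) (π.baseChange B) := lTensor_exact B hex hπ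
    rw [← shift_iff hι hπ hex, ← shift_iff hι' hπ' hex']
    exact ih (LinearMap.ker π)

end Groth.Agent.GorensteinFlatBase
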