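/-
Gorenstein property along flat local homomorphisms.
-/
import Mathlib
import Groth.Prelude.Def_CAlg
import Groth.Agent.Lib.InjDimResidue
import Groth.Agent.Lib.RegularLocalSerre
import Groth.Agent.Lib.GorensteinQuotient
import Groth.Agent.Lib.H2Depth
import Groth.Agent.Lib.GorensteinCM
import Groth.Agent.Lib.GorensteinFlatBase

open CategoryTheory
open Groth.Agent.InjDimResidue
open Groth.Agent.GorensteinQuotient
open Groth.Agent.GorensteinCM
open Groth.Agent.GorensteinFlatBase
open TensorProduct
open Limits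
universe u

namespace Groth.Agent.GorensteinFlat


theorem injD_ringEquiv {R R' : Type u} [CommRing R] [CommRing R'] (e : R ≃+* R') :
    ∀ (n : ℕ) (X : ModuleCat.{u} R'), HasInjectiveDimensionLT X (n + 1) →
      HasInjectiveDimensionLT
        ((ModuleCat.restrictScalarsEquivalenceOfRingEquiv e).functor.obj X) (n + 1) := by
  intro n
  induction n with
  | zero =>
    intro X h
    rw [← injective_iff_hasInjectiveDimensionLT_one] at h ⊢
    exact ((ModuleCat.restrictScalarsEquivalenceOfRingEquiv e).map_injective_iff X).mpr h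
  | succ n ih =>
    intro X h
    obtain ⟨⟨I, hI, ι, hι⟩⟩ := EnoughInjectives.presentation X
    let S := ShortComplex.mk ι (cokernel.π ι) (cokernel.condition ι)
    have hS : S.ShortExact := { exact := ShortComplex.exact_cokernel ι }
    have hS' := hS.map_of_exact (ModuleCat.restrictScalarsEquivalenceOfRingEquiv e).functor
    have hI' : Injective (S.map (ModuleCat.restrictScalarsEquivalenceOfRingEquiv e).functor).X₂ :=
      ((ModuleCat.restrictScalarsEquivalenceOfRingEquiv e).map_injective_iff I).mpr hI
    exact (hS'.hasInjectiveDimensionLT_X₃_iff n hI').mp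
      (ih _ ((hS.hasInjectiveDimensionLT_X₃_iff n hI).mpr h))

theorem injD_of_ringEquiv {R R' : Type u} [CommRing R] [CommRing R'] (e : R ≃+* R') (n : ℕ)
    (h : InjD R' R' (n + 1)) : InjD R R (n + 1) := by
  let X := (ModuleCat.restrictScalarsEquivalenceOfRingEquiv e).functor.obj (ModuleCat.of R' R')
  have hX : HasInjectiveDimensionLT X (n + 1) := injD_ringEquiv e n _ h
  let eX : X ≅ ModuleCat.of R R :=
    LinearEquiv.toModuleIso
      ({ e.symm.toAddEquiv with
         map_smul' := fun r x => by
           have key : ∀ z : R', e.symm (e r * z) = r * e.symm z := fun z => by rw [map_mul, e.symm_apply_apply]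
           exact key x } : X ≃ₗ[R] R)
  exact hasInjectiveDimensionLT_of_iso eX (n + 1)

theorem injD_congr {R M N : Type u} [CommRing R] [AddCommGroup M] [Module R M] [AddCommGroup N] [Module R N]
    (e : M ≃ₗ[R] N) (n : ℕ) (h : InjD R M n) : InjD R N n :=
  @hasInjectiveDimensionLT_of_iso _ _ _ _ _ e.toModuleIso n h

theorem ext_iso {R : Type u} [CommRing R] {X X' Y Y' : ModuleCat.{u} R} (eX : X ≅ X') (eY : Y ≅ Y')
    (i : ℕ) (h : Subsingleton (Abelian.Ext X Y i)) : Subsingleton (Abelian.Ext X' Y' i) := by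
  refine subsingleton_of_forall_eq 0 fun e => ?_
  have key : e = ((Abelian.Ext.mk₀ eX.inv).comp
      (((Abelian.Ext.mk₀ eX.hom).comp e (zero_add i)).comp (Abelian.Ext.mk₀ eY.inv) (add_zero i))
        (zero_add i)).comp (Abelian.Ext.mk₀ eY.hom) (add_zero i) := by
    simp
  rw [key, h.elim (((Abelian.Ext.mk₀ eX.hom).comp e (zero_add i)).comp (Abelian.Ext.mk₀ eY.inv) (add_zero i)) 0]
  simp

theorem flat_gorenstein :
    ∀ (d : ℕ) (A B : Type u) [CommRing A] [IsLocalRing A] [IsNoetherianRing A] [CommRing B] [IsLocalRing B]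
      [IsNoetherianRing B] [Algebra A B] [IsLocalHom (algebraMap A B)] [Module.Flat A B],
      InjD A A (d + 1) → ringKrullDim A = d →
      ((∃ n, InjD B B (n + 1)) ↔
        ∃ n, InjD (B ⧸ (IsLocalRing.maximalIdeal A).map (algebraMap A B))
          (B ⧸ (IsLocalRing.maximalIdeal A).map (algebraMap A B)) (n + 1)) := by
  intro d
  induction d with
  | zero =>
    intro A B _ _ _ _ _ _ _ _ _ hA hdim
    let J := (IsLocalRing.maximalIdeal A).map (algebraMap A B)
    have hAi := injD_one_iff.mp hA
    haveI : Ring.KrullDimLE 0 A := by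
      rw [Ring.krullDimLE_iff, hdim]
    obtain ⟨p, hp⟩ := associatedPrimes.nonempty A A
    have hpm : p = IsLocalRing.maximalIdeal A := by
      haveI := hp.isPrime
      exact IsLocalRing.eq_maximalIdeal inferInstance
    obtain ⟨-, u, hu⟩ := isAssociatedPrime_iff.mp hp
    have huk : ∀ r ∈ IsLocalRing.maximalIdeal A, r • u = 0 := fun r hr => by
      rw [← hpm, hu, Submodule.mem_colon_singleton] at hr
      simpa using hr
    have hu0 : u ≠ 0 := by
      intro h0
      subst h0
      exact hp.isPrime.ne_top ((Ideal.eq_top_iff_one _).mpr (hu ▸ Submodule.mem_colon_singleton.mpr (by simp)))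
    let φ₀ : (A ⧸ IsLocalRing.maximalIdeal A) →ₗ[A] A :=
      Submodule.liftQ (IsLocalRing.maximalIdeal A) (LinearMap.toSpanSingleton A A u)
        (fun r hr => by simpa using huk r hr)
    have hφ₀ : Function.Injective φ₀ := by
      rw [← LinearMap.ker_eq_bot]
      change LinearMap.ker (Submodule.liftQ _ (LinearMap.toSpanSingleton A A u) _) = ⊥
      refine Submodule.ker_liftQ_eq_bot _ _ _ fun r hr => ?_
      by_contra hc
      obtain ⟨s, hs⟩ := (IsLocalRing.notMem_maximalIdeal.mp hc)
      apply hu0
      rw [LinearMap.mem_ker, LinearMap.toSpanSingleton_apply, ← hs] at hr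
      simpa [← smul_assoc, smul_eq_mul] using congrArg (fun z => (↑s⁻¹ : A) • z) hr
    let v : (A ⧸ IsLocalRing.maximalIdeal A) →ₗ[A] ((A ⧸ IsLocalRing.maximalIdeal A) →ₗ[A] A) :=
      Submodule.liftQ (IsLocalRing.maximalIdeal A) (LinearMap.toSpanSingleton A _ φ₀)
        (fun r hr => by
          rw [LinearMap.mem_ker, LinearMap.toSpanSingleton_apply]
          refine LinearMap.ext fun x => ?_
          obtain ⟨a, rfl⟩ := Submodule.Quotient.mk_surjective _ x
          change r • (φ₀ (Submodule.Quotient.mk a)) = 0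
          rw [Submodule.liftQ_apply, LinearMap.toSpanSingleton_apply, smul_comm, huk r hr, smul_zero])
    have hv : Function.Bijective v := by
      constructor
      · intro a b hab
        obtain ⟨a, rfl⟩ := Submodule.Quotient.mk_surjective _ a
        obtain ⟨b, rfl⟩ := Submodule.Quotient.mk_surjective _ b
        have := LinearMap.congr_fun hab (Submodule.Quotient.mk 1)
        simp only [v, Submodule.liftQ_apply, LinearMap.toSpanSingleton_apply, LinearMap.smul_apply] at this
        rw [← map_smul, ← map_smul, ← Submodule.Quotient.mk_smul, ← Submodule.Quotient.mk_smul,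
          smul_eq_mul, smul_eq_mul, mul_one, mul_one] at this
        exact hφ₀ this
      · intro ψ
        obtain ⟨h, hh⟩ := hAi.out φ₀ hφ₀ ψ
        refine ⟨Submodule.Quotient.mk (h 1), LinearMap.ext fun x => ?_⟩
        rw [← hh x, Submodule.liftQ_apply, LinearMap.toSpanSingleton_apply, LinearMap.smul_apply,
          smul_eq_mul]
        conv_rhs => rw [← mul_one (φ₀ x), ← smul_eq_mul, map_smul, smul_eq_mul]
        ring
    haveI : Module.FinitePresentation A ((A ⧸ IsLocalRing.maximalIdeal A)) := Module.finitePresentation_of_finite A _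
    have bC := Module.FinitePresentation.isBaseChange_map A ((A ⧸ IsLocalRing.maximalIdeal A)) A B
    let q : (B ⊗[A] (A ⧸ IsLocalRing.maximalIdeal A)) ≃ₗ[B] (B ⧸ J) :=
      (Algebra.TensorProduct.quotIdealMapEquivTensorQuot B (IsLocalRing.maximalIdeal A)).symm.toLinearEquiv
    let rid : (B ⊗[A] A) ≃ₗ[B] B := TensorProduct.AlgebraTensorModule.rid A B B
    have hacy : Acy J B := by
      intro i hi
      obtain ⟨j, rfl⟩ : ∃ j, i = j + 1 := ⟨i - 1, by omega⟩
      exact ext_iso q.toModuleIso rid.toModuleIso _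
        ((ext_baseChange (B := B) j ((A ⧸ IsLocalRing.maximalIdeal A))).1
          (hA.subsingleton _ _ (j + 1) (by omega) _))
    let e1 : T J B ≃ₗ[B] ((B ⧸ J) →ₗ[B] B) :=
      { toFun := fun x => Submodule.liftQ J (LinearMap.toSpanSingleton B B x)
          (fun a ha => by simpa using (mem_T (x : B)).mp x.2 a ha)
        invFun := fun g => ⟨g (Submodule.Quotient.mk 1), by
          rw [mem_T]; intro a ha
          rw [← map_smul, ← Submodule.Quotient.mk_smul, smul_eq_mul, mul_one,
            (Submodule.Quotient.mk_eq_zero J).mpr ha, map_zero]⟩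
        map_add' := fun x y => Submodule.linearMap_qext _ (LinearMap.ext fun b => smul_add b (x : B) y)
        map_smul' := fun c x => Submodule.linearMap_qext _ (LinearMap.ext fun b => smul_comm b c (x : B))
        left_inv := fun x => Subtype.ext (one_smul B (x : B))
        right_inv := fun g => Submodule.linearMap_qext _ (LinearMap.ext_ring (one_smul B _)) }
    let eT : (B ⧸ J) ≃ₗ[B] T J B :=
      q.symm ≪≫ₗ (LinearEquiv.ofBijective v hv).baseChange A B ≪≫ₗ bC.equiv ≪≫ₗ
        LinearEquiv.arrowCongr q rid ≪≫ₗ e1.symm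
    let eT' : (B ⧸ J) ≃ₗ[B ⧸ J] T J B :=
      LinearEquiv.ofBijective (LinearMap.extendScalarsOfSurjective Ideal.Quotient.mk_surjective eT.toLinearMap)
        eT.bijective
    constructor
    · rintro ⟨n, hn⟩
      exact ⟨n, injD_congr eT'.symm _ (injD_T n B hacy hn)⟩
    · rintro ⟨n, hn⟩
      have hT : InjD (B ⧸ J) (T J B) (n + 1) := injD_congr eT' _ hn
      refine ⟨n + 1, Groth.Agent.RegLocal.hasInjectiveDimensionLT_of_quotients (n + 1) _ fun I =>
        vanish_finite B (n + 1) (fun i hi => ext_vanish_of_T n B hacy hT _ (fun a ha z => ?_) i hi) I _ (by omega)⟩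
      have : a ∈ IsLocalRing.maximalIdeal B := by
        refine (?_ : J ≤ IsLocalRing.maximalIdeal B) ha
        exact (Ideal.map_le_iff_le_comap.mpr fun a ha => map_nonunit (algebraMap A B) a ha)
      rw [Algebra.smul_def, IsLocalRing.ResidueField.algebraMap_eq, (IsLocalRing.residue_eq_zero_iff a).mpr this, zero_mul]
  | succ d ih =>
    intro A B _ _ _ _ _ _ _ _ _ hA hdim
    obtain ⟨f, hf, hreg⟩ : ∃ f ∈ IsLocalRing.maximalIdeal A, IsSMulRegular A f := by
      by_contra hc
      push Not at hc
      have := (dim_zero_of_noReg (n := d + 1) hc hA).2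
      rw [this] at hdim
      have : (0 : ℕ) = d + 1 := by exact_mod_cast hdim
      omega
    let I := Ideal.span {f}
    let J := (IsLocalRing.maximalIdeal A).map (algebraMap A B)
    haveI : Nontrivial (A ⧸ I) := Submodule.Quotient.nontrivial_iff.mpr fun h =>
      (IsLocalRing.maximalIdeal.isMaximal A).ne_top (top_le_iff.mp (h ▸ (Ideal.span_singleton_le_iff_mem _).mpr hf))
    haveI : IsLocalRing (A ⧸ I) := IsLocalRing.of_surjective' _ Ideal.Quotient.mk_surjective
    have hfB : algebraMap A B f ∈ IsLocalRing.maximalIdeal B := map_nonunit _ _ hf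
    have hregB : IsSMulRegular B (algebraMap A B f) := by
      have h1 : Function.Injective ((f • (LinearMap.id : A →ₗ[A] A)).lTensor B) :=
        Module.Flat.lTensor_preserves_injective_linearMap _ (fun a b h => hreg (by simpa using h))
      intro a b hab
      have : ((f • (LinearMap.id : A →ₗ[A] A)).lTensor B) (a ⊗ₜ 1) = ((f • (LinearMap.id : A →ₗ[A] A)).lTensor B) (b ⊗ₜ 1) := by
        simp only [LinearMap.lTensor_tmul, LinearMap.smul_apply, LinearMap.id_coe, id_eq]
        rw [← TensorProduct.smul_tmul, ← TensorProduct.smul_tmul, Algebra.smul_def, Algebra.smul_def]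
        exact congrArg (fun z => z ⊗ₜ[A] (1 : A)) hab
      simpa using congrArg (TensorProduct.rid A B) (h1 this)
    have hIB : I.map (algebraMap A B) = Ideal.span {algebraMap A B f} := by
      rw [Ideal.map_span, Set.image_singleton]
    haveI : Nontrivial (B ⧸ I.map (algebraMap A B)) := Submodule.Quotient.nontrivial_iff.mpr fun h =>
      (IsLocalRing.maximalIdeal.isMaximal B).ne_top (top_le_iff.mp
        (h ▸ hIB ▸ (Ideal.span_singleton_le_iff_mem _).mpr hfB))
    haveI : IsLocalRing (B ⧸ I.map (algebraMap A B)) := IsLocalRing.of_surjective' _ Ideal.Quotient.mk_surjective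
    haveI : IsLocalHom (algebraMap (A ⧸ I) (B ⧸ I.map (algebraMap A B))) := by
      constructor
      intro x hx
      obtain ⟨a, rfl⟩ := Ideal.Quotient.mk_surjective x
      by_contra hu
      have ha : a ∈ IsLocalRing.maximalIdeal A := fun h => hu (h.map _)
      have hb : IsUnit (Ideal.Quotient.mk (I.map (algebraMap A B)) (algebraMap A B a)) := hx
      haveI := IsLocalHom.of_surjective (Ideal.Quotient.mk (I.map (algebraMap A B))) Ideal.Quotient.mk_surjective
      exact (map_nonunit (algebraMap A B) a ha) (isUnit_of_map_unit _ _ hb)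
    haveI : Module.Flat (A ⧸ I) (B ⧸ I.map (algebraMap A B)) := by
      let e : ((A ⧸ I) ⊗[A] B) ≃ₗ[A] (B ⧸ I.map (algebraMap A B)) :=
        TensorProduct.comm A _ _ ≪≫ₗ
          (Algebra.TensorProduct.quotIdealMapEquivTensorQuot B I).symm.toLinearEquiv.restrictScalars A
      let e' : ((A ⧸ I) ⊗[A] B) →ₗ[A ⧸ I] (B ⧸ I.map (algebraMap A B)) :=
        LinearMap.extendScalarsOfSurjective (R := A) (S := A ⧸ I) Ideal.Quotient.mk_surjective e.toLinearMap
      exact Module.Flat.of_linearEquiv (LinearEquiv.ofBijective e' e.bijective).symm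
    have hdim' : ringKrullDim (A ⧸ I) = d := by
      have := ringKrullDim_quotient_span_singleton_succ_eq_ringKrullDim hreg hf
      rw [hdim, Nat.cast_add, Nat.cast_one] at this
      exact ENat.WithBot.add_one_cancel.mp this
    have key := ih (A ⧸ I) (B ⧸ I.map (algebraMap A B)) (injD_quotient hreg d hA) hdim'
    let e1 : (B ⧸ I.map (algebraMap A B)) ⧸ (IsLocalRing.maximalIdeal (A ⧸ I)).map
        (algebraMap (A ⧸ I) (B ⧸ I.map (algebraMap A B))) ≃+* B ⧸ J :=
      (Ideal.quotEquivOfEq (by
        rw [← IsLocalRing.map_maximalIdeal_of_surjective (Ideal.Quotient.mk I) Ideal.Quotient.mk_surjective,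
          Ideal.map_map, Ideal.map_map]
        rfl)).trans (DoubleQuot.quotQuotEquivQuotOfLE
          (Ideal.map_mono ((Ideal.span_singleton_le_iff_mem _).mpr hf) : I.map (algebraMap A B) ≤ J))
    let e2 := Ideal.quotEquivOfEq hIB
    constructor
    · rintro ⟨n, hn⟩
      obtain ⟨k, hk⟩ := key.mp ⟨n, injD_of_ringEquiv e2 n (injD_quotient hregB n
        (hasInjectiveDimensionLT_of_ge (ModuleCat.of B B) (n + 1) (n + 2) (by omega)))⟩
      exact ⟨k, injD_of_ringEquiv e1.symm k hk⟩
    · rintro ⟨n, hn⟩
      obtain ⟨k, hk⟩ := key.mpr ⟨n, injD_of_ringEquiv e1 n hn⟩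
      exact ⟨k + 1, injD_self_of_quotient hfB hregB k (injD_of_ringEquiv e2.symm k hk)⟩

theorem gor_iff (A : Type u) [CommRing A] [IsLocalRing A] [IsNoetherianRing A] :
    LocCoh.IsGorensteinLocalRing A ↔ ∃ n, InjD A A (n + 1) := by
  constructor
  · intro h
    obtain ⟨n, hn⟩ := h.exists_hasInjectiveDimensionLT
    exact ⟨n, hasInjectiveDimensionLT_of_ge (ModuleCat.of A A) n (n + 1) (by omega)⟩
  · rintro ⟨n, hn⟩
    exact { exists_hasInjectiveDimensionLT := ⟨n + 1, hn⟩ }

end Groth.Agent.GorensteinFlat
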