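/-
Gorenstein rings: localisation, polynomial rings, field extensions.
-/
import Mathlib
import Groth.Prelude.Def_CAlg
import Groth.Agent.Lib.InjDimResidue
import Groth.Agent.Lib.RegularLocalSerre
import Groth.Agent.Lib.GorensteinQuotient
import Groth.Agent.Lib.H2Depth
import Groth.Agent.Lib.GorensteinCM
import Groth.Agent.Lib.GorensteinFlatBase
import Groth.Agent.Lib.GorensteinFlat

open CategoryTheory
open Groth.Agent.GorensteinQuotient
open Groth.Agent.GorensteinCM
open Groth.Agent.GorensteinFlat
open TensorProduct
open Polynomial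
open IntermediateField
universe u

namespace Groth.Agent.GorensteinRings


theorem gor_of_ringEquiv {R R' : Type u} [CommRing R] [CommRing R'] (e : R ≃+* R')
    (h : LocCoh.IsGorensteinLocalRing R') : LocCoh.IsGorensteinLocalRing R := by
  haveI : IsLocalRing R := e.symm.isLocalRing
  haveI : IsNoetherianRing R := isNoetherianRing_of_ringEquiv R' e.symm
  obtain ⟨n, hn⟩ := (gor_iff R').mp h
  exact (gor_iff R).mpr ⟨n, injD_of_ringEquiv e n hn⟩

theorem gor_atPrime_of_atPrime_map {R : Type u} [CommRing R] (M : Submonoid R) (S : Type u) [CommRing S]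
    [Algebra R S] [IsLocalization M S] (P : Ideal S) [P.IsPrime]
    (h : LocCoh.IsGorensteinLocalRing (Localization.AtPrime (P.comap (algebraMap R S)))) :
    LocCoh.IsGorensteinLocalRing (Localization.AtPrime P) := by
  haveI := IsLocalization.isLocalization_isLocalization_atPrime_isLocalization M
    (Localization.AtPrime P) P
  exact gor_of_ringEquiv (IsLocalization.algEquiv (P.comap (algebraMap R S)).primeCompl
    (Localization.AtPrime P) (Localization.AtPrime (P.comap (algebraMap R S)))).toRingEquiv h

theorem gorRing_localization {R : Type u} [CommRing R] [hR : LocCoh.IsGorensteinRing R] (M : Submonoid R)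
    (S : Type u) [CommRing S] [Algebra R S] [IsLocalization M S] : LocCoh.IsGorensteinRing S := by
  haveI := IsLocalization.isNoetherianRing M S inferInstance
  exact { isGorensteinLocalRing_localization := fun P _ =>
    gor_atPrime_of_atPrime_map M S P (hR.isGorensteinLocalRing_localization _) }

theorem gorRing_of_ringEquiv {R R' : Type u} [CommRing R] [CommRing R'] (e : R ≃+* R')
    (h : LocCoh.IsGorensteinRing R') : LocCoh.IsGorensteinRing R := by
  letI := e.symm.toRingHom.toAlgebra
  haveI : IsLocalization (⊥ : Submonoid R') R' := IsLocalization.self bot_le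
  haveI : IsLocalization (⊥ : Submonoid R') R :=
    IsLocalization.isLocalization_of_algEquiv (⊥ : Submonoid R')
      (S := R') (P := R) (AlgEquiv.ofRingEquiv (f := e.symm) (fun x => rfl))
  exact gorRing_localization (⊥ : Submonoid R') R

theorem gorRing_of_local {R : Type u} [CommRing R] [IsNoetherianRing R]
    (h : ∀ (p : Ideal R) [p.IsPrime], LocCoh.IsGorensteinLocalRing (Localization.AtPrime p)) :
    LocCoh.IsGorensteinRing R :=
  { isGorensteinLocalRing_localization := h }

theorem gorRing_field (k : Type u) [Field k] : LocCoh.IsGorensteinRing k := by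
  refine gorRing_of_local fun p hp => ?_
  haveI : IsRegularLocalRing (Localization.AtPrime p) := isRegularRing_iff.mp inferInstance p
  exact { exists_hasInjectiveDimensionLT := by
            refine ⟨(IsLocalRing.maximalIdeal (Localization.AtPrime p)).spanFinrank + 1, ?_⟩
            refine Groth.Agent.RegLocal.hasInjectiveDimensionLT_of_quotients _ _ fun I => ?_
            have := Groth.Agent.RegLocal.pdLT_of_regular_finite
              (IsLocalRing.maximalIdeal (Localization.AtPrime p)).spanFinrank (Localization.AtPrime p) rfl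
              (Localization.AtPrime p ⧸ I)
            exact HasProjectiveDimensionLT.subsingleton (ModuleCat.of _ (Localization.AtPrime p ⧸ I)) _ _ le_rfl _ }

theorem gor_of_regular (A : Type u) [CommRing A] [IsRegularLocalRing A] : LocCoh.IsGorensteinLocalRing A := by
  refine { exists_hasInjectiveDimensionLT := ⟨(IsLocalRing.maximalIdeal A).spanFinrank + 1, ?_⟩ }
  refine Groth.Agent.RegLocal.hasInjectiveDimensionLT_of_quotients _ _ fun I => ?_
  have := Groth.Agent.RegLocal.pdLT_of_regular_finite (IsLocalRing.maximalIdeal A).spanFinrank A rfl (A ⧸ I)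
  exact HasProjectiveDimensionLT.subsingleton (ModuleCat.of A (A ⧸ I)) _ _ le_rfl _

/-- Localisation of a quotient is the quotient of the localisation. -/
theorem exists_atPrime_quotient_equiv {B C : Type u} [CommRing B] [CommRing C] (π : B →+* C)
    (hπ : Function.Surjective π) (P : Ideal C) [P.IsPrime] :
    Nonempty (Localization.AtPrime P ≃+* (Localization.AtPrime (P.comap π) ⧸
      (RingHom.ker π).map (algebraMap B (Localization.AtPrime (P.comap π))))) := by
  have hT : Submonoid.map π (P.comap π).primeCompl = P.primeCompl := by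
    ext x
    constructor
    · rintro ⟨b, hb, rfl⟩; exact hb
    · intro hx
      obtain ⟨b, rfl⟩ := hπ x
      exact ⟨b, hx, rfl⟩
  haveI : IsLocalization ((P.comap π).primeCompl.map π) (Localization.AtPrime P) := by
    rw [hT]; infer_instance
  have h1 := IsLocalization.map_surjective_of_surjective (P.comap π).primeCompl
    (Localization.AtPrime (P.comap π)) (Localization.AtPrime P) hπ
  refine ⟨((Ideal.quotEquivOfEq ?_).trans (RingHom.quotientKerEquivOfSurjective h1)).symm⟩
  exact (IsLocalization.ker_map (M := (P.comap π).primeCompl) (S := Localization.AtPrime (P.comap π))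
    (Localization.AtPrime P) π rfl).symm

theorem gor_atPrime_of_flat {A B C : Type u} [CommRing A] [IsLocalRing A] [CommRing B] [IsNoetherianRing B]
    [Algebra A B] [Module.Flat A B] [CommRing C] (hA : LocCoh.IsGorensteinLocalRing A)
    (π : B →+* C) (hπ : Function.Surjective π)
    (hker : RingHom.ker π = (IsLocalRing.maximalIdeal A).map (algebraMap A B))
    (P : Ideal C) [P.IsPrime] :
    LocCoh.IsGorensteinLocalRing (Localization.AtPrime (P.comap π)) ↔
      LocCoh.IsGorensteinLocalRing (Localization.AtPrime P) := by
  haveI := hA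
  haveI : Module.Flat B (Localization.AtPrime (P.comap π)) :=
    IsLocalization.flat _ (P.comap π).primeCompl
  haveI : Module.Flat A (Localization.AtPrime (P.comap π)) :=
    Module.Flat.trans A B _
  have hle : (IsLocalRing.maximalIdeal A).map (algebraMap A B) ≤ P.comap π := by
    rw [← hker]
    exact Ideal.comap_mono bot_le
  haveI : IsLocalHom (algebraMap A (Localization.AtPrime (P.comap π))) := by
    constructor
    intro a ha
    by_contra hc
    rw [IsScalarTower.algebraMap_apply A B (Localization.AtPrime (P.comap π))] at ha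
    exact (IsLocalization.AtPrime.isUnit_to_map_iff _ (P.comap π) _).mp ha
      (hle (Ideal.mem_map_of_mem _ hc))
  obtain ⟨e⟩ := exists_atPrime_quotient_equiv π hπ P
  let e' := e.trans (Ideal.quotEquivOfEq (show (RingHom.ker π).map
      (algebraMap B (Localization.AtPrime (P.comap π))) = (IsLocalRing.maximalIdeal A).map
      (algebraMap A (Localization.AtPrime (P.comap π))) by
    rw [hker, Ideal.map_map, ← IsScalarTower.algebraMap_eq]))
  haveI : Nontrivial (Localization.AtPrime (P.comap π) ⧸ (IsLocalRing.maximalIdeal A).map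
      (algebraMap A (Localization.AtPrime (P.comap π)))) := e'.symm.toEquiv.nontrivial
  haveI : IsLocalRing (Localization.AtPrime (P.comap π) ⧸ (IsLocalRing.maximalIdeal A).map
      (algebraMap A (Localization.AtPrime (P.comap π)))) := e'.isLocalRing
  constructor
  · intro h
    obtain ⟨n, hn⟩ := (gor_iff _).mp h
    obtain ⟨m, hm⟩ := (gor_iff A).mp hA
    obtain ⟨d, -, hd, hdim, -⟩ := gor_seq m A hm
    exact gor_of_ringEquiv e' ((gor_iff _).mpr ((flat_gorenstein d A _ hd hdim).mp ⟨n, hn⟩))
  · intro h
    obtain ⟨n, hn⟩ := (gor_iff _).mp (gor_of_ringEquiv e'.symm h)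
    obtain ⟨m, hm⟩ := (gor_iff A).mp hA
    obtain ⟨d, -, hd, hdim, -⟩ := gor_seq m A hm
    exact (gor_iff _).mpr ((flat_gorenstein d A _ hd hdim).mpr ⟨n, hn⟩)

theorem gor_atPrime_congr {R : Type u} [CommRing R] {P Q : Ideal R} [P.IsPrime] [Q.IsPrime] (h : P = Q)
    (hP : LocCoh.IsGorensteinLocalRing (Localization.AtPrime P)) :
    LocCoh.IsGorensteinLocalRing (Localization.AtPrime Q) := by
  subst h
  exact hP

theorem gorRing_polynomial (R : Type u) [CommRing R] [hR : LocCoh.IsGorensteinRing R] :
    LocCoh.IsGorensteinRing R[X] := by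
  refine gorRing_of_local fun p hp => ?_
  let q := Ideal.comap Polynomial.C p
  let S := (Localization.AtPrime q)[X]
  let pc := Submonoid.map Polynomial.C.toMonoidHom q.primeCompl
  let : Algebra R[X] S := Polynomial.algebra R (Localization.AtPrime q)
  have : IsLocalization pc S := Polynomial.isLocalization _ _
  let pS := p.map (algebraMap R[X] S)
  have disj : Disjoint (pc : Set R[X]) (p : Set R[X]) := by
    simpa [pc, q] using! Set.disjoint_image_left.mpr
      (Set.disjoint_compl_left_iff_subset.mpr (fun _ a ↦ a))
  have : pS.IsPrime := IsLocalization.isPrime_of_isPrime_disjoint pc _ _ ‹_› disj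
  have : IsLocalization.AtPrime (Localization.AtPrime pS) p := by
    convert IsLocalization.isLocalization_isLocalization_atPrime_isLocalization pc
      (Localization.AtPrime pS) pS
    exact (IsLocalization.under_map_of_isPrime_disjoint pc _ ‹_› disj).symm
  refine gor_of_ringEquiv (R' := Localization.AtPrime pS) ((IsLocalization.algEquiv p.primeCompl
    (Localization.AtPrime p) (Localization.AtPrime pS)).toRingEquiv) ?_
  have eq : Ideal.comap Polynomial.C pS = IsLocalRing.maximalIdeal (Localization.AtPrime q) := by
    rw [← IsLocalization.map_under q.primeCompl _ (Ideal.comap Polynomial.C pS),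
      ← IsLocalization.map_under q.primeCompl _ (IsLocalRing.maximalIdeal (Localization.AtPrime q))]
    simp only [Ideal.comap_comap, S, pS]
    rw [← Polynomial.algebraMap_eq (R := Localization.AtPrime q),
      ← IsScalarTower.algebraMap_eq R (Localization.AtPrime q) (Localization.AtPrime q)[X],
      IsScalarTower.algebraMap_eq R R[X] (Localization.AtPrime q)[X], ← Ideal.comap_comap,
      ← Ideal.under_def R[X], IsLocalization.under_map_of_isPrime_disjoint pc _ ‹_› disj]
    simp [q, IsLocalization.AtPrime.under_maximalIdeal (Localization.AtPrime q) q]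
  let π : S →+* (IsLocalRing.ResidueField (Localization.AtPrime q))[X] :=
    Polynomial.mapRingHom (IsLocalRing.residue _)
  have hπ : Function.Surjective π := Polynomial.map_surjective _ IsLocalRing.residue_surjective
  have hker : RingHom.ker π = (IsLocalRing.maximalIdeal (Localization.AtPrime q)).map
      (algebraMap (Localization.AtPrime q) S) := by
    rw [Polynomial.ker_mapRingHom, IsLocalRing.ker_residue]
    rfl
  have hle : RingHom.ker π ≤ pS := by
    rw [hker, Ideal.map_le_iff_le_comap]
    exact eq.ge
  haveI : (pS.map π).IsPrime := Ideal.map_isPrime_of_surjective hπ hle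
  have hcm : (pS.map π).comap π = pS := by
    rw [Ideal.comap_map_of_surjective π hπ, sup_eq_left]
    exact hle
  have hreg : IsRegularLocalRing (Localization.AtPrime (pS.map π)) := isRegularRing_iff.mp inferInstance _
  have := (gor_atPrime_of_flat (hR.isGorensteinLocalRing_localization q) π hπ hker (pS.map π)).mpr
    (gor_of_regular _)
  exact gor_atPrime_congr hcm this

theorem gorRing_quotient_of_regular {B C : Type u} [CommRing B] [CommRing C] [hB : LocCoh.IsGorensteinRing B]
    (π : B →+* C) (hπ : Function.Surjective π) (f : B) (hf : IsSMulRegular B f)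
    (hker : RingHom.ker π = Ideal.span {f}) : LocCoh.IsGorensteinRing C := by
  haveI := isNoetherianRing_of_surjective B C π hπ
  refine gorRing_of_local fun P _ => ?_
  obtain ⟨e⟩ := exists_atPrime_quotient_equiv π hπ P
  haveI := hB.isGorensteinLocalRing_localization (P.comap π)
  let g := algebraMap B (Localization.AtPrime (P.comap π)) f
  have hg : g ∈ IsLocalRing.maximalIdeal (Localization.AtPrime (P.comap π)) := by
    rw [← Localization.AtPrime.map_eq_maximalIdeal]
    refine Ideal.mem_map_of_mem _ ?_
    rw [Ideal.mem_comap]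
    have : f ∈ RingHom.ker π := hker ▸ Ideal.mem_span_singleton_self f
    rw [RingHom.mem_ker] at this
    rw [this]
    exact zero_mem _
  have hreg : IsSMulRegular (Localization.AtPrime (P.comap π)) g := by
    rw [isSMulRegular_iff_right_eq_zero_of_smul]
    intro x hx
    obtain ⟨b, s, rfl⟩ := IsLocalization.exists_mk'_eq (P.comap π).primeCompl x
    change algebraMap B (Localization.AtPrime (P.comap π)) f * IsLocalization.mk' _ b s = 0 at hx
    rw [← IsLocalization.mk'_one (M := (P.comap π).primeCompl) (Localization.AtPrime (P.comap π)),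
      ← IsLocalization.mk'_mul, IsLocalization.mk'_eq_zero_iff] at hx
    obtain ⟨m, hm⟩ := hx
    rw [IsLocalization.mk'_eq_zero_iff]
    refine ⟨m, hf ?_⟩
    simpa [smul_eq_mul, mul_left_comm] using hm
  haveI : Nontrivial (Localization.AtPrime (P.comap π) ⧸ Ideal.span {g}) :=
    Submodule.Quotient.nontrivial_iff.mpr fun h =>
      (IsLocalRing.maximalIdeal.isMaximal _).ne_top (top_le_iff.mp (h ▸ (Ideal.span_singleton_le_iff_mem _).mpr hg))
  haveI : IsLocalRing (Localization.AtPrime (P.comap π) ⧸ Ideal.span {g}) :=
    IsLocalRing.of_surjective' _ Ideal.Quotient.mk_surjective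
  refine gor_of_ringEquiv (e.trans (Ideal.quotEquivOfEq (by rw [hker, Ideal.map_span, Set.image_singleton]))) ?_
  obtain ⟨n, hn⟩ := (gor_iff (Localization.AtPrime (P.comap π))).mp inferInstance
  exact (gor_iff _).mpr ⟨n, injD_quotient hreg n
    (hasInjectiveDimensionLT_of_ge (ModuleCat.of _ (Localization.AtPrime (P.comap π))) (n + 1) (n + 2) (by omega))⟩

theorem gorRing_adjoinRoot (R : Type u) [CommRing R] [LocCoh.IsGorensteinRing R] (f : R[X]) (hf : f.Monic) :
    LocCoh.IsGorensteinRing (AdjoinRoot f) := by
  haveI := gorRing_polynomial R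
  refine gorRing_quotient_of_regular (AdjoinRoot.mk f) AdjoinRoot.mk_surjective f
    (fun a b hab => (hf.isRegular.left hab : _)) ?_
  ext x
  rw [RingHom.mem_ker, AdjoinRoot.mk_eq_zero, Ideal.mem_span_singleton]

theorem gorRing_tensor_simple {k : Type u} [Field k] {L : Type u} [Field L] [Algebra k L] (a : L)
    (ha : k⟮a⟯ = ⊤) (R : Type u) [CommRing R] [Algebra k R] [LocCoh.IsGorensteinRing R] :
    LocCoh.IsGorensteinRing (L ⊗[k] R) := by
  haveI : Nontrivial L := inferInstance
  let e₀ : k⟮a⟯ ≃ₐ[k] L := (IntermediateField.equivOfEq ha).trans IntermediateField.topEquiv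
  by_cases h : IsIntegral k a
  · let e₁ : AdjoinRoot (minpoly k a) ≃ₐ[k] L :=
      (IntermediateField.adjoinRootEquivAdjoin k h).trans e₀
    let q : (R ⊗[k] k)[X] := (minpoly k a).map Algebra.TensorProduct.includeRight.toRingHom
    haveI : LocCoh.IsGorensteinRing (R ⊗[k] k) :=
      gorRing_of_ringEquiv (Algebra.TensorProduct.rid k k R).toRingEquiv inferInstance
    haveI := gorRing_adjoinRoot (R ⊗[k] k) q ((minpoly.monic h).map _)
    have e₂ : R ⊗[k] AdjoinRoot (minpoly k a) ≃ₐ[R] AdjoinRoot q := AdjoinRoot.tensorAlgEquiv _ q rfl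
    exact gorRing_of_ringEquiv ((Algebra.TensorProduct.congr e₁.symm AlgEquiv.refl).trans
      (Algebra.TensorProduct.comm k _ R) |>.toRingEquiv.trans e₂.toRingEquiv) inferInstance
  · have htr : Transcendental k a := fun hal => h hal.isIntegral
    letI : Algebra k[X] L := (Polynomial.aeval a).toRingHom.toAlgebra
    haveI : IsScalarTower k k[X] L := IsScalarTower.of_algebraMap_eq fun x => ((Polynomial.aeval a).commutes x).symm
    haveI : FaithfulSMul k[X] L := (faithfulSMul_iff_algebraMap_injective _ _).mpr (transcendental_iff_injective.mp htr)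
    haveI : IsFractionRing k[X] L := by
      refine IsFractionRing.of_field k[X] L fun z => ?_
      have hz : z ∈ k⟮a⟯ := ha ▸ IntermediateField.mem_top
      obtain ⟨r, s, hrs⟩ := IntermediateField.mem_adjoin_simple_iff k z |>.mp hz
      exact ⟨r, s, hrs⟩
    haveI : LocCoh.IsGorensteinRing (k[X] ⊗[k] R) :=
      gorRing_of_ringEquiv ((Algebra.TensorProduct.comm k k[X] R).toRingEquiv.trans
        (polyEquivTensor k R).symm.toRingEquiv) (gorRing_polynomial R)
    haveI : LocCoh.IsGorensteinRing ((k[X] ⊗[k] R) ⊗[k[X]] L) :=
      gorRing_localization (Algebra.algebraMapSubmonoid (k[X] ⊗[k] R) (nonZeroDivisors k[X]))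
        ((k[X] ⊗[k] R) ⊗[k[X]] L)
    refine gorRing_of_ringEquiv (R' := (k[X] ⊗[k] R) ⊗[k[X]] L) ?_ inferInstance
    exact (Algebra.TensorProduct.cancelBaseChange k k[X] k[X] L R).symm.toRingEquiv.trans
      (Algebra.TensorProduct.comm k[X] L (k[X] ⊗[k] R)).toRingEquiv

end Groth.Agent.GorensteinRings
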