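/-
Gorenstein local rings and fibres of flat algebras; field extensions.
-/
import Mathlib
import Groth.Prelude.Def_CAlg
import Groth.Prelude.Def_Found
import Groth.Agent.Lib.GorensteinQuotient
import Groth.Agent.Lib.GorensteinFlat
import Groth.Agent.Lib.GorensteinRings
import Groth.Agent.S0344
import Groth.Agent.S8948

open Groth.Agent.GorensteinQuotient
open Groth.Agent.GorensteinFlat
open Groth.Agent.GorensteinRings
open TensorProduct
universe u

namespace Groth.Agent.GorensteinFibres


theorem gor_atPrime_iff_fiber {B D : Type u} [CommRing B] [IsNoetherianRing B] [CommRing D] [IsNoetherianRing D]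
    [Algebra B D] [Module.Flat B D] (p : Ideal B) [p.IsPrime] (P : Ideal (p.Fiber D)) [P.IsPrime] :
    LocCoh.IsGorensteinLocalRing
        (Localization.AtPrime (P.comap (Algebra.TensorProduct.includeRight : D →ₐ[B] p.Fiber D))) ↔
      (LocCoh.IsGorensteinLocalRing (Localization.AtPrime p) ∧
        LocCoh.IsGorensteinLocalRing (Localization.AtPrime P)) := by
  let r := P.comap (Algebra.TensorProduct.includeRight : D →ₐ[B] p.Fiber D)
  have hcomp : r.comap (algebraMap B D) = p := by
    change Ideal.comap (algebraMap B D) (Ideal.comap (Algebra.TensorProduct.includeRight : D →ₐ[B] p.Fiber D).toRingHom P) = p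
    rw [Ideal.comap_comap, show (Algebra.TensorProduct.includeRight : D →ₐ[B] p.Fiber D).toRingHom.comp (algebraMap B D)
        = algebraMap B (p.Fiber D) from RingHom.ext fun x => (Algebra.TensorProduct.includeRight : D →ₐ[B] p.Fiber D).commutes x]
    exact (Ideal.over_def P p).symm
  haveI : r.LiesOver p := ⟨hcomp.symm⟩
  letI : Algebra (Localization.AtPrime p) (Localization.AtPrime r) :=
    Localization.AtPrime.algebraOfLiesOver p r
  haveI : IsScalarTower B (Localization.AtPrime p) (Localization.AtPrime r) :=
    IsScalarTower.of_algebraMap_eq fun x => by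
      rw [RingHom.algebraMap_toAlgebra]
      exact (Localization.localRingHom_to_map p r (algebraMap B D) (Ideal.over_def r p) x).symm
  haveI : Module.Flat B (Localization.AtPrime r) := by
    haveI : Module.Flat D (Localization.AtPrime r) := IsLocalization.flat _ r.primeCompl
    exact Module.Flat.trans B D _
  haveI : Module.Flat (Localization.AtPrime p) (Localization.AtPrime r) :=
    (Module.flat_iff_of_isLocalization (Localization.AtPrime p) p.primeCompl _).mpr inferInstance
  haveI : IsLocalHom (algebraMap (Localization.AtPrime p) (Localization.AtPrime r)) := by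
    rw [RingHom.algebraMap_toAlgebra]
    exact Localization.isLocalHom_localRingHom p r _ (Ideal.over_def r p)
  have hJ : (p.map (algebraMap B D)).map (algebraMap D (Localization.AtPrime r)) =
      (IsLocalRing.maximalIdeal (Localization.AtPrime p)).map
        (algebraMap (Localization.AtPrime p) (Localization.AtPrime r)) := by
    rw [← Localization.AtPrime.map_eq_maximalIdeal, Ideal.map_map, Ideal.map_map,
      ← IsScalarTower.algebraMap_eq, ← IsScalarTower.algebraMap_eq]
  let e := (Ideal.Fiber.algEquivAux₂ p P).toRingEquiv.trans (Ideal.quotEquivOfEq hJ)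
  rw [Groth.Agent.S0344.result (Localization.AtPrime p) (Localization.AtPrime r)]
  exact and_congr_right fun _ => ⟨gor_of_ringEquiv e, gor_of_ringEquiv e.symm⟩

theorem exists_fiber_prime {B D : Type u} [CommRing B] [CommRing D] [Algebra B D] (q : PrimeSpectrum D) :
    ∃ P : Ideal ((q.asIdeal.comap (algebraMap B D)).Fiber D), ∃ _ : P.IsPrime,
      P.comap (Algebra.TensorProduct.includeRight : D →ₐ[B] _) = q.asIdeal := by
  let p : PrimeSpectrum B := PrimeSpectrum.comap (algebraMap B D) q
  let x := PrimeSpectrum.preimageEquivFiber B D p ⟨q, rfl⟩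
  refine ⟨x.asIdeal, x.isPrime, ?_⟩
  have := (PrimeSpectrum.preimageEquivFiber B D p).symm_apply_apply ⟨q, rfl⟩
  exact congrArg PrimeSpectrum.asIdeal (congrArg Subtype.val this)

theorem noetherian_tensor_fg (k k' B : Type u) [Field k] [Field k'] [Algebra k k']
    (hfg : ∃ s : Finset k', IntermediateField.adjoin k (s : Set k') = ⊤)
    [CommRing B] [IsNoetherianRing B] [Algebra k B] : IsNoetherianRing (B ⊗[k] k') := by
  haveI : Algebra.EssFiniteType k k' := IntermediateField.fg_top_iff.mp hfg
  exact Algebra.EssFiniteType.isNoetherianRing B (B ⊗[k] k')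

theorem gorRing_fiber_tensor (k k' B : Type u) [Field k] [Field k'] [Algebra k k'] [CommRing B] [Algebra k B]
    (p : Ideal B) [p.IsPrime]
    (h : LocCoh.IsGorensteinRing (p.ResidueField ⊗[k] k')) :
    LocCoh.IsGorensteinRing (p.Fiber (B ⊗[k] k')) :=
  gorRing_of_ringEquiv (Algebra.TensorProduct.cancelBaseChange k B B p.ResidueField k').toRingEquiv h

theorem gorRing_of_regular (R : Type u) [CommRing R] [IsNoetherianRing R] [IsRegularRing R] :
    LocCoh.IsGorensteinRing R := by
  refine gorRing_of_local fun p hp => ?_
  haveI : IsRegularLocalRing (Localization.AtPrime p) := isRegularRing_iff.mp inferInstance p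
  exact gor_of_regular _

theorem gorRing_fiber_baseChange {B R C : Type u} [CommRing B] [CommRing R] [CommRing C] [Algebra B R] [Algebra B C]
    (p0 : Ideal R) [p0.IsPrime] (K0 : Type u) [Field K0] [Algebra B K0] [Algebra K0 p0.ResidueField]
    [IsScalarTower B K0 p0.ResidueField]
    (h : LocCoh.IsGorensteinRing (p0.ResidueField ⊗[K0] (K0 ⊗[B] C))) :
    LocCoh.IsGorensteinRing (p0.Fiber (R ⊗[B] C)) := by
  refine gorRing_of_ringEquiv (R' := p0.ResidueField ⊗[K0] (K0 ⊗[B] C)) ?_ h
  exact (Algebra.TensorProduct.cancelBaseChange B R R p0.ResidueField C).toRingEquiv.trans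
    (Algebra.TensorProduct.cancelBaseChange B K0 K0 p0.ResidueField C).symm.toRingEquiv

end Groth.Agent.GorensteinFibres
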