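/-
The graded category: submodules, quotients, shifts, cofree injectives
-/
import Groth.Prelude.Def_GrLC
import Mathlib

set_option autoImplicit false
open DirectSum

universe u

namespace Groth.Agent.GrStarBasic

/-- the cofree graded module on a module -/
def Co {ι : Type} {σ : Type u} (_𝒜 : ι → σ) (I : Type u) [AddCommGroup I] : Type u :=
  ι →₀ I


section Internal

variable {ι : Type} [DecidableEq ι] {N : Type u} [AddCommGroup N]

/-- a criterion for an internal direct sum -/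
theorem isInternal_of (𝒩 : ι → AddSubgroup N) (hs : ∀ x : N, x ∈ AddSubmonoid.closure (⋃ g, (𝒩 g : Set N)))
    (hi : ∀ (s : Finset ι) (y : ι → N), (∀ g, y g ∈ 𝒩 g) → ∑ g ∈ s, y g = 0 → ∀ g ∈ s, y g = 0) :
    DirectSum.IsInternal 𝒩 := by
  classical
  constructor
  · suffices key : ∀ x, DirectSum.coeAddMonoidHom 𝒩 x = 0 → x = 0 by
      intro x y hxy
      rw [← sub_eq_zero]
      exact key _ (by rw [map_sub, hxy, sub_self])
    intro x hx
    rw [DirectSum.coeAddMonoidHom_eq_dfinsuppSum, DFinsupp.sum] at hx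
    refine DFinsupp.ext fun g => Subtype.ext ?_
    show (x g : N) = 0
    by_cases hg : g ∈ DFinsupp.support x
    · exact hi _ (fun g => (x g : N)) (fun g => (x g).2) hx g hg
    · rw [DFinsupp.notMem_support_iff] at hg; rw [hg]; rfl
  · intro x
    induction hs x using AddSubmonoid.closure_induction with
    | mem y hy =>
      obtain ⟨g, hg⟩ := Set.mem_iUnion.mp hy
      exact ⟨DirectSum.of (fun g => 𝒩 g) g ⟨y, hg⟩, DirectSum.coeAddMonoidHom_of 𝒩 _ _⟩
    | zero => exact ⟨0, map_zero _⟩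
    | add a b _ _ ha hb =>
      obtain ⟨a', ha⟩ := ha
      obtain ⟨b', hb⟩ := hb
      exact ⟨a' + b', by rw [map_add, ha, hb]⟩

end Internal

variable {ι : Type} [AddCommGroup ι] [DecidableEq ι]
variable {R : Type u} [CommRing R] {σ : Type u} [SetLike σ R] [AddSubgroupClass σ R] (𝒜 : ι → σ) [GradedRing 𝒜]

section Proj

variable {M : Type u} [AddCommGroup M] {τ : Type u} [SetLike τ M] [AddSubgroupClass τ M]
  (ℳ : ι → τ) [Decomposition ℳ]

/-- the component of degree `g` -/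
def pr (g : ι) : M →+ M where
  toFun x := (decompose ℳ x g : M)
  map_zero' := by simp
  map_add' x y := by simp [decompose_add]

omit [AddCommGroup ι] in
theorem pr_mem (g : ι) (x : M) : pr ℳ g x ∈ ℳ g := (decompose ℳ x g).2

omit [AddCommGroup ι] in
theorem pr_same {g : ι} {x : M} (hx : x ∈ ℳ g) : pr ℳ g x = x := decompose_of_mem_same ℳ hx

omit [AddCommGroup ι] in
theorem pr_ne {g h : ι} {x : M} (hx : x ∈ ℳ g) (hne : g ≠ h) : pr ℳ h x = 0 :=
  decompose_of_mem_ne ℳ hx hne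

omit [AddCommGroup ι] in
theorem sum_pr (x : M) [(i : ι) → (y : ℳ i) → Decidable (y ≠ 0)] :
    ∑ g ∈ DFinsupp.support (decompose ℳ x), pr ℳ g x = x :=
  DirectSum.sum_support_decompose ℳ x

omit [AddCommGroup ι] in
theorem eq_of_pr {x y : M} (h : ∀ g, pr ℳ g x = pr ℳ g y) : x = y :=
  (decompose ℳ).injective (DFinsupp.ext fun g => Subtype.ext (h g))

omit [AddCommGroup ι] in
theorem eq_zero_of_sum {s : Finset ι} {y : ι → M} (hy : ∀ g, y g ∈ ℳ g) (h : ∑ g ∈ s, y g = 0) :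
    ∀ g ∈ s, y g = 0 := fun g hg => by
  have := congrArg (pr ℳ g) h
  rwa [map_sum, map_zero, Finset.sum_eq_single g (fun b _ hb => pr_ne ℳ (hy b) hb)
    (fun hn => absurd hg hn), pr_same ℳ (hy g)] at this

variable [Module R M] [SetLike.GradedSMul 𝒜 ℳ]

theorem smul_mem {i j : ι} {a : R} {x : M} (ha : a ∈ 𝒜 i) (hx : x ∈ ℳ j) : a • x ∈ ℳ (i + j) :=
  SetLike.GradedSMul.smul_mem (B := ℳ) ha hx

theorem pr_smul_left {i : ι} {a : R} (ha : a ∈ 𝒜 i) (x : M) (g : ι) :
    pr ℳ g (a • x) = a • pr ℳ (g - i) x := by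
  classical
  induction x using DirectSum.Decomposition.inductionOn ℳ with
  | zero => simp
  | @homogeneous j y =>
    have hm := smul_mem 𝒜 ℳ ha y.2
    by_cases h : i + j = g
    · subst h; rw [pr_same ℳ hm, add_sub_cancel_left, pr_same ℳ y.2]
    · rw [pr_ne ℳ hm h, pr_ne ℳ y.2 (fun e => h (by rw [e, add_sub_cancel])), smul_zero]
  | add y z hy hz => simp [smul_add, hy, hz]

theorem pr_smul_right {j : ι} {x : M} (hx : x ∈ ℳ j) (r : R) (g : ι) :
    pr ℳ g (r • x) = pr 𝒜 (g - j) r • x := by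
  classical
  induction r using DirectSum.Decomposition.inductionOn 𝒜 with
  | zero => simp
  | @homogeneous i a =>
    have hm := smul_mem 𝒜 ℳ a.2 hx
    by_cases h : i + j = g
    · subst h; rw [pr_same ℳ hm, add_sub_cancel_right, pr_same 𝒜 a.2]
    · rw [pr_ne ℳ hm h, pr_ne 𝒜 a.2 (fun e => h (by rw [e, sub_add_cancel])), zero_smul]
  | add a b ha hb => simp [add_smul, ha, hb]

omit [AddCommGroup ι] [Module R M] [SetLike.GradedSMul 𝒜 ℳ] in
theorem closure_pieces (x : M) : x ∈ AddSubmonoid.closure (⋃ g, (ℳ g : Set M)) := by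
  classical
  rw [← sum_pr ℳ x]
  exact sum_mem fun g _ => AddSubmonoid.subset_closure (Set.mem_iUnion.mpr ⟨g, pr_mem ℳ g x⟩)

/-- additive maps from a graded group are determined on homogeneous elements -/
theorem hom_ext {N : Type*} [AddCommGroup N] [Module R N] {f f' : M →ₗ[R] N}
    (h : ∀ g, ∀ x ∈ ℳ g, f x = f' x) : f = f' := by
  refine LinearMap.ext fun x => ?_
  induction x using DirectSum.Decomposition.inductionOn ℳ with
  | zero => simp
  | @homogeneous j y => exact h j _ y.2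
  | add y z hy hz => simp [hy, hz]

end Proj

section Maps

variable {M : Type u} [AddCommGroup M] [Module R M] {τ : Type u} [SetLike τ M] [AddSubgroupClass τ M]
  {ℳ : ι → τ} [Decomposition ℳ]
  {N : Type u} [AddCommGroup N] [Module R N] {τ' : Type u} [SetLike τ' N] [AddSubgroupClass τ' N]
  {𝒩 : ι → τ'} [Decomposition 𝒩]

omit [AddCommGroup ι] in
theorem map_pr {f : M →ₗ[R] N} (hf : GrLC.IsGrHom ℳ 𝒩 f) (g : ι) (x : M) :
    f (pr ℳ g x) = pr 𝒩 g (f x) := by
  classical
  induction x using DirectSum.Decomposition.inductionOn ℳ with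
  | zero => simp
  | @homogeneous j y =>
    by_cases h : j = g
    · subst h; rw [pr_same ℳ y.2, pr_same 𝒩 (hf j _ y.2)]
    · rw [pr_ne ℳ y.2 h, pr_ne 𝒩 (hf j _ y.2) h, map_zero]
  | add y z hy hz => simp [hy, hz]

omit [AddCommGroup ι] in
theorem ker_homogeneous {f : M →ₗ[R] N} (hf : GrLC.IsGrHom ℳ 𝒩 f) :
    (LinearMap.ker f).IsHomogeneous ℳ := fun g x hx => by
  show f (pr ℳ g x) = 0
  rw [map_pr hf, LinearMap.mem_ker.mp hx, map_zero]

omit [AddCommGroup ι] in
theorem exists_preimage {f : M →ₗ[R] N} (hf : GrLC.IsGrHom ℳ 𝒩 f) {g : ι} {y : N} (hy : y ∈ 𝒩 g)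
    (h : y ∈ LinearMap.range f) : ∃ x ∈ ℳ g, f x = y := by
  obtain ⟨x, rfl⟩ := h
  exact ⟨pr ℳ g x, pr_mem ℳ g x, by rw [map_pr hf, pr_same 𝒩 hy]⟩

end Maps

theorem range_homogeneous {M : Type u} [AddCommGroup M] [Module R M] {τ : Type u} [SetLike τ M]
    [AddSubgroupClass τ M] {ℳ : ι → τ} (hsp : ∀ x : M, x ∈ AddSubmonoid.closure (⋃ g, (ℳ g : Set M)))
    {N : Type u} [AddCommGroup N] [Module R N] {τ' : Type u} [SetLike τ' N] [AddSubgroupClass τ' N]
    {𝒩 : ι → τ'} [Decomposition 𝒩] {f : M →ₗ[R] N} (hf : GrLC.IsGrHom ℳ 𝒩 f) :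
    (LinearMap.range f).IsHomogeneous 𝒩 := by
  classical
  rintro g _ ⟨x, rfl⟩
  show pr 𝒩 g (f x) ∈ LinearMap.range f
  induction hsp x using AddSubmonoid.closure_induction with
  | mem y hy =>
    obtain ⟨j, hj⟩ := Set.mem_iUnion.mp hy
    by_cases h : j = g
    · subst h; rw [pr_same 𝒩 (hf j y hj)]; exact ⟨y, rfl⟩
    · rw [pr_ne 𝒩 (hf j y hj) h]; exact zero_mem _
  | zero => simp
  | add a b _ _ ha hb => rw [map_add, map_add]; exact add_mem ha hb

theorem quotGr_closure (m : HomogeneousIdeal 𝒜) (x : R ⧸ m.toIdeal) :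
    x ∈ AddSubmonoid.closure (⋃ g, (GrLC.quotGr 𝒜 m g : Set (R ⧸ m.toIdeal))) := by
  classical
  obtain ⟨r, rfl⟩ := Ideal.Quotient.mk_surjective x
  rw [← sum_pr 𝒜 r, map_sum]
  exact sum_mem fun g _ => AddSubmonoid.subset_closure
    (Set.mem_iUnion.mpr ⟨g, pr 𝒜 g r, pr_mem 𝒜 g r, rfl⟩)

section Build

variable {M : Type u} [AddCommGroup M] [Module R M] {τ : Type u} [SetLike τ M] [AddSubgroupClass τ M]
  (ℳ : ι → τ) [Decomposition ℳ] [SetLike.GradedSMul 𝒜 ℳ]

/-- the pieces of a submodule -/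
def subGr (P : Submodule R M) : ι → AddSubgroup P :=
  fun g => (AddSubgroup.ofClass (ℳ g)).comap P.subtype.toAddMonoidHom

omit [AddCommGroup ι] [Decomposition ℳ] in
theorem mem_subGr {P : Submodule R M} {g : ι} {x : P} : x ∈ subGr ℳ P g ↔ (x : M) ∈ ℳ g := Iff.rfl

omit [AddCommGroup ι] in
theorem subGr_isInternal {P : Submodule R M} (hP : P.IsHomogeneous ℳ) : IsInternal (subGr ℳ P) := by
  classical
  refine isInternal_of _ (fun x => ?_) fun s y hy h g hg => Subtype.ext ?_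
  · have hx : x = ∑ g ∈ DFinsupp.support (decompose ℳ (x : M)), (⟨pr ℳ g x.1, hP g x.2⟩ : P) :=
      Subtype.ext (by rw [Submodule.coe_sum]; exact (sum_pr ℳ (x : M)).symm)
    rw [hx]
    exact sum_mem fun g _ => AddSubmonoid.subset_closure
      (Set.mem_iUnion.mpr ⟨g, show pr ℳ g x.1 ∈ ℳ g from pr_mem ℳ g _⟩)
  · refine eq_zero_of_sum ℳ (y := fun g => (y g : M)) hy ?_ g hg
    rw [← Submodule.coe_sum, h, Submodule.coe_zero]

/-- a homogeneous submodule as a graded module -/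
noncomputable def subMod {P : Submodule R M} (hP : P.IsHomogeneous ℳ) : GrLC.GMod.{u} 𝒜 :=
  letI := (subGr_isInternal ℳ hP).chooseDecomposition
  haveI : SetLike.GradedSMul 𝒜 (subGr ℳ P) :=
    ⟨fun {i j a x} ha hx => smul_mem 𝒜 ℳ ha hx⟩
  GrLC.GMod.of 𝒜 P (subGr ℳ P)

theorem subtype_grHom {P : Submodule R M} (hP : P.IsHomogeneous ℳ) :
    GrLC.IsGrHom (subMod 𝒜 ℳ hP).gr ℳ P.subtype := fun _ _ h => h

/-- the pieces of a quotient -/
def quoGr (P : Submodule R M) : ι → AddSubgroup (M ⧸ P) :=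
  fun g => (AddSubgroup.ofClass (ℳ g)).map P.mkQ.toAddMonoidHom

omit [AddCommGroup ι] in
theorem quoGr_isInternal {P : Submodule R M} (hP : P.IsHomogeneous ℳ) : IsInternal (quoGr ℳ P) := by
  classical
  refine isInternal_of _ (fun x => ?_) fun s y hy h g hg => ?_
  · obtain ⟨x, rfl⟩ := P.mkQ_surjective x
    rw [← sum_pr ℳ x, map_sum]
    exact sum_mem fun g _ => AddSubmonoid.subset_closure
      (Set.mem_iUnion.mpr ⟨g, pr ℳ g x, pr_mem ℳ g x, rfl⟩)
  · choose z hz hzy using hy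
    have hmem : ∑ g ∈ s, z g ∈ P := by
      rw [← Submodule.Quotient.mk_eq_zero, ← Submodule.mkQ_apply, map_sum]
      exact (Finset.sum_congr rfl fun g _ => hzy g).trans h
    have hg2 : pr ℳ g (∑ g ∈ s, z g) ∈ P := hP g hmem
    rw [map_sum, Finset.sum_eq_single g (fun b _ hb => pr_ne ℳ (hz b) hb)
      (fun hn => absurd hg hn), pr_same ℳ (hz g)] at hg2
    rw [← hzy g]
    exact (Submodule.Quotient.mk_eq_zero _).mpr hg2

/-- the quotient by a homogeneous submodule as a graded module -/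
noncomputable def quoMod {P : Submodule R M} (hP : P.IsHomogeneous ℳ) : GrLC.GMod.{u} 𝒜 :=
  letI := (quoGr_isInternal ℳ hP).chooseDecomposition
  haveI : SetLike.GradedSMul 𝒜 (quoGr ℳ P) :=
    ⟨fun {i j a x} ha hx => by
      obtain ⟨z, hz, rfl⟩ := hx
      exact ⟨a • z, smul_mem 𝒜 ℳ ha hz, map_smul P.mkQ a z⟩⟩
  GrLC.GMod.of 𝒜 (M ⧸ P) (quoGr ℳ P)

theorem mkQ_grHom {P : Submodule R M} (hP : P.IsHomogeneous ℳ) :
    GrLC.IsGrHom ℳ (quoMod 𝒜 ℳ hP).gr P.mkQ := fun _ m h => ⟨m, h, rfl⟩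

/-- maps out of a quotient -/
theorem liftQ_grHom {P : Submodule R M} (hP : P.IsHomogeneous ℳ) {N : Type u} [AddCommGroup N] [Module R N]
    {τ' : Type u} [SetLike τ' N] [AddSubgroupClass τ' N] {𝒩 : ι → τ'} {f : M →ₗ[R] N}
    (hf : GrLC.IsGrHom ℳ 𝒩 f) (h : P ≤ LinearMap.ker f) :
    GrLC.IsGrHom (quoMod 𝒜 ℳ hP).gr 𝒩 (P.liftQ f h) := by
  rintro g _ ⟨m, hm, rfl⟩
  exact hf g m hm

/-- the shifted pieces -/
def shGr (d : ι) : ι → AddSubgroup M := fun g => AddSubgroup.ofClass (ℳ (g + d))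

theorem shGr_isInternal (d : ι) : IsInternal (shGr ℳ d) := by
  classical
  refine isInternal_of _ (fun x => ?_) fun s y hy h g hg => ?_
  · rw [← sum_pr ℳ x]
    refine sum_mem fun g _ => AddSubmonoid.subset_closure (Set.mem_iUnion.mpr ⟨g - d, ?_⟩)
    show pr ℳ g x ∈ ℳ (g - d + d)
    rw [sub_add_cancel]; exact pr_mem ℳ g x
  · have h2 : ∑ g ∈ s.image (· + d), y (g - d) = 0 := by
      rw [Finset.sum_image fun a _ b _ e => add_right_cancel e]
      simpa [add_sub_cancel_right] using h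
    have := eq_zero_of_sum ℳ (y := fun g => y (g - d)) (fun g => by
      have := hy (g - d)
      change y (g - d) ∈ ℳ (g - d + d) at this
      rwa [sub_add_cancel] at this) h2 (g + d) (Finset.mem_image_of_mem _ hg)
    simpa [add_sub_cancel_right] using this

/-- the shifted graded module -/
noncomputable def shMod (d : ι) : GrLC.GMod.{u} 𝒜 :=
  letI := (shGr_isInternal ℳ d).chooseDecomposition
  haveI : SetLike.GradedSMul 𝒜 (shGr ℳ d) :=
    ⟨fun {i j a x} ha hx => by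
      have := smul_mem 𝒜 ℳ ha (show x ∈ ℳ (j + d) from hx)
      show a • x ∈ ℳ ((i +ᵥ j) + d)
      rwa [vadd_eq_add, add_assoc]⟩
  GrLC.GMod.of 𝒜 M (shGr ℳ d)

end Build

section Cofree

variable (I : Type u) [AddCommGroup I] [Module R I]

noncomputable instance coAcg : AddCommGroup (Co 𝒜 I) := inferInstanceAs (AddCommGroup (ι →₀ I))

/-- the action of a homogeneous element -/
noncomputable def coAct (i : ι) : ↥(𝒜 i) →+ AddMonoid.End (ι →₀ I) where
  toFun r := Finsupp.liftAddHom fun g => (Finsupp.singleAddHom (i + g)).comp (DistribSMul.toAddMonoidHom I (r : R))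
  map_zero' := by
    refine Finsupp.addHom_ext fun g x => (Finsupp.liftAddHom_apply_single _ g x).trans ?_
    simp
    rfl
  map_add' a b := by
    refine Finsupp.addHom_ext fun g x => (Finsupp.liftAddHom_apply_single _ g x).trans ?_
    show _ = (Finsupp.liftAddHom fun h : ι => (Finsupp.singleAddHom (i + h)).comp (DistribSMul.toAddMonoidHom I (a : R))) (Finsupp.single g x) + (Finsupp.liftAddHom fun h : ι => (Finsupp.singleAddHom (i + h)).comp (DistribSMul.toAddMonoidHom I (b : R))) (Finsupp.single g x)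
    refine Eq.trans ?_ (congrArg₂ (· + ·) (Finsupp.liftAddHom_apply_single (fun h : ι => (Finsupp.singleAddHom (i + h)).comp (DistribSMul.toAddMonoidHom I (a : R))) g x) (Finsupp.liftAddHom_apply_single (fun h : ι => (Finsupp.singleAddHom (i + h)).comp (DistribSMul.toAddMonoidHom I (b : R))) g x)).symm
    simp [add_smul]

theorem coAct_single {i : ι} (r : 𝒜 i) (g : ι) (x : I) :
    coAct 𝒜 I i r (Finsupp.single g x) = Finsupp.single (i + g) ((r : R) • x) :=
  Finsupp.liftAddHom_apply_single _ g x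

/-- the action of the ring -/
noncomputable def coRingHom : R →+* AddMonoid.End (ι →₀ I) :=
  (DirectSum.toSemiring (coAct 𝒜 I)
    (Finsupp.addHom_ext fun g x => by
      refine (coAct_single 𝒜 I _ g x).trans ?_
      rw [SetLike.coe_gOne, zero_add, one_smul]
      rfl)
    (fun {i j} a b => Finsupp.addHom_ext fun g x => by
      refine (coAct_single 𝒜 I _ g x).trans ?_
      show _ = coAct 𝒜 I i a (coAct 𝒜 I j b (Finsupp.single g x))
      rw [coAct_single, coAct_single, SetLike.coe_gMul, mul_smul, add_assoc])).comp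
    (DirectSum.decomposeRingEquiv 𝒜).toRingHom

noncomputable instance coMod : Module R (Co 𝒜 I) :=
  Module.compHom (ι →₀ I) (coRingHom 𝒜 I)

/-- the element `x` in degree `g` -/
noncomputable def coSingle (g : ι) : I →+ Co 𝒜 I := Finsupp.singleAddHom g

theorem smul_coSingle {i : ι} {a : R} (ha : a ∈ 𝒜 i) (g : ι) (x : I) :
    a • coSingle 𝒜 I g x = coSingle 𝒜 I (i + g) (a • x) := by
  show coRingHom 𝒜 I a (Finsupp.single g x) = Finsupp.single (i + g) (a • x)
  simp only [coRingHom, RingHom.comp_apply]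
  rw [show (DirectSum.decomposeRingEquiv 𝒜).toRingHom a = decompose 𝒜 a from rfl,
    decompose_of_mem 𝒜 ha]
  refine Eq.trans ?_ (coAct_single 𝒜 I ⟨a, ha⟩ g x)
  exact congrArg (fun f : AddMonoid.End (ι →₀ I) => f (Finsupp.single g x)) (DirectSum.toSemiring_of _ _ _ _ _)

/-- the grading of the cofree module -/
noncomputable def coGr (g : ι) : AddSubgroup (Co 𝒜 I) := (coSingle 𝒜 I g).range

theorem coGr_isInternal : IsInternal (coGr 𝒜 I) := by
  classical
  refine isInternal_of _ (fun x => ?_) fun s y hy h g hg => ?_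
  · induction x using Finsupp.induction with
    | zero => exact zero_mem _
    | single_add g a f _ _ ih =>
      exact add_mem (AddSubmonoid.subset_closure (Set.mem_iUnion.mpr ⟨g, a, rfl⟩)) ih
  · choose z hz using hy
    have h1 : (∑ b ∈ s, (Finsupp.single b (z b) : ι →₀ I)) = 0 :=
      (Finset.sum_congr rfl fun b _ => hz b).trans h
    have h2 := congrArg (fun f : ι →₀ I => f g) h1
    simp only [Finsupp.coe_finset_sum, Finset.sum_apply, Finsupp.single_apply, Finsupp.coe_zero,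
      Pi.zero_apply, Finset.sum_ite_eq', hg, if_true] at h2
    rw [← hz g, h2, map_zero]

noncomputable instance coDec : Decomposition (coGr 𝒜 I) := (coGr_isInternal 𝒜 I).chooseDecomposition

instance coGSMul : SetLike.GradedSMul 𝒜 (coGr 𝒜 I) :=
  ⟨fun {i j a x} ha hx => by
    obtain ⟨y, rfl⟩ := hx
    exact ⟨a • y, (smul_coSingle 𝒜 I ha j y).symm⟩⟩

theorem co_induction {p : Co 𝒜 I → Prop} (x : Co 𝒜 I) (h0 : p 0) (hadd : ∀ a b, p a → p b → p (a + b))
    (hs : ∀ g y, p (coSingle 𝒜 I g y)) : p x :=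
  Finsupp.induction_linear (motive := p) x h0 hadd hs

/-- the counit, additive -/
noncomputable def coEpsAdd : Co 𝒜 I →+ I := Finsupp.liftAddHom (fun _ : ι => AddMonoidHom.id I)

theorem coEpsAdd_single (g : ι) (x : I) : coEpsAdd 𝒜 I (coSingle 𝒜 I g x) = x :=
  Finsupp.liftAddHom_apply_single (fun _ : ι => AddMonoidHom.id I) g x

/-- the counit -/
noncomputable def coEps : Co 𝒜 I →ₗ[R] I where
  toFun := coEpsAdd 𝒜 I
  map_add' x y := map_add _ x y
  map_smul' r x := by
    induction r using DirectSum.Decomposition.inductionOn 𝒜 with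
    | zero => simp
    | @homogeneous i a =>
      refine co_induction 𝒜 I (p := fun x => coEpsAdd 𝒜 I ((a : R) • x) = (RingHom.id R) (a : R) • coEpsAdd 𝒜 I x) x ?_ (fun x y hx hy => ?_) fun g y => ?_
      · show coEpsAdd 𝒜 I ((a : R) • (0 : Co 𝒜 I)) = (a : R) • coEpsAdd 𝒜 I 0
        rw [smul_zero, map_zero, smul_zero]
      · simp only [smul_add, map_add, hx, hy, RingHom.id_apply]
      · rw [smul_coSingle 𝒜 I a.2, coEpsAdd_single, coEpsAdd_single, RingHom.id_apply]
    | add a b ha hb => simp only [add_smul, map_add, ha, hb, RingHom.id_apply]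

theorem coEps_single (g : ι) (x : I) : coEps 𝒜 I (coSingle 𝒜 I g x) = x := coEpsAdd_single 𝒜 I g x

variable {M : Type u} [AddCommGroup M] [Module R M] {τ : Type u} [SetLike τ M] [AddSubgroupClass τ M]
  (ℳ : ι → τ) [Decomposition ℳ] [SetLike.GradedSMul 𝒜 ℳ]

/-- the graded map adjoint to a linear map -/
noncomputable def coLiftAdd (φ : M →ₗ[R] I) : M →+ Co 𝒜 I :=
  (DirectSum.toAddMonoid fun g => (coSingle 𝒜 I g).comp (φ.toAddMonoidHom.comp (AddSubgroupClass.subtype (ℳ g)))).comp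
    (decomposeAddEquiv ℳ).toAddMonoidHom

omit [SetLike.GradedSMul 𝒜 ℳ] in
theorem coLiftAdd_of_mem (φ : M →ₗ[R] I) {g : ι} {x : M} (hx : x ∈ ℳ g) :
    coLiftAdd 𝒜 I ℳ φ x = coSingle 𝒜 I g (φ x) := by
  simp [coLiftAdd, decompose_of_mem ℳ hx]

/-- the graded map adjoint to a linear map -/
noncomputable def coLift (φ : M →ₗ[R] I) : M →ₗ[R] Co 𝒜 I where
  toFun := coLiftAdd 𝒜 I ℳ φ
  map_add' x y := map_add _ x y
  map_smul' r x := by
    induction r using DirectSum.Decomposition.inductionOn 𝒜 with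
    | zero => simp
    | @homogeneous i a =>
      induction x using DirectSum.Decomposition.inductionOn ℳ with
      | zero => simp
      | @homogeneous g y =>
        rw [RingHom.id_apply, coLiftAdd_of_mem 𝒜 I ℳ φ (smul_mem 𝒜 ℳ a.2 y.2),
          coLiftAdd_of_mem 𝒜 I ℳ φ y.2, smul_coSingle 𝒜 I a.2, map_smul]
      | add x y hx hy => simp only [smul_add, map_add, hx, hy, RingHom.id_apply]
    | add a b ha hb => simp only [add_smul, map_add, ha, hb, RingHom.id_apply]

theorem coLift_grHom (φ : M →ₗ[R] I) : GrLC.IsGrHom ℳ (coGr 𝒜 I) (coLift 𝒜 I ℳ φ) :=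
  fun _ x hx => ⟨φ x, (coLiftAdd_of_mem 𝒜 I ℳ φ hx).symm⟩

theorem coLift_injective {φ : M →ₗ[R] I} (hφ : Function.Injective φ) :
    Function.Injective (coLift 𝒜 I ℳ φ) := by
  refine (injective_iff_map_eq_zero _).mpr fun x hx => eq_of_pr ℳ fun g => ?_
  rw [map_zero]
  have h1 := map_pr (coLift_grHom 𝒜 I ℳ φ) g x
  rw [hx, map_zero] at h1
  have h2 := congrArg (coEps 𝒜 I) h1
  rw [show coLift 𝒜 I ℳ φ (pr ℳ g x) = coSingle 𝒜 I g (φ (pr ℳ g x)) from
    coLiftAdd_of_mem 𝒜 I ℳ φ (pr_mem ℳ g x), coEps_single, map_zero] at h2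
  exact hφ (by rw [h2, map_zero])

theorem coEps_coLift (φ : M →ₗ[R] I) : coEps 𝒜 I ∘ₗ coLift 𝒜 I ℳ φ = φ :=
  hom_ext ℳ fun g x hx => by
    rw [LinearMap.comp_apply, show coLift 𝒜 I ℳ φ x = coSingle 𝒜 I g (φ x) from
      coLiftAdd_of_mem 𝒜 I ℳ φ hx, coEps_single]

theorem co_starInj [hI : Module.Injective R I] : GrLC.IsStarInj 𝒜 (coGr 𝒜 I) := by
  intro A B f hf hinj g hg
  obtain ⟨ψ, hψ⟩ := hI.out f hinj (coEps 𝒜 I ∘ₗ g)
  refine ⟨coLift 𝒜 I B.gr ψ, coLift_grHom 𝒜 I B.gr ψ, hom_ext A.gr fun j x hx => ?_⟩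
  obtain ⟨z, hz⟩ := hg j x hx
  rw [LinearMap.comp_apply, show coLift 𝒜 I B.gr ψ (f x) = coSingle 𝒜 I j (ψ (f x)) from
    coLiftAdd_of_mem 𝒜 I B.gr ψ (hf j x hx), hψ x, LinearMap.comp_apply, ← hz, coEps_single]

/-- the cofree graded module, bundled -/
noncomputable def coObj : GrLC.GMod.{u} 𝒜 := GrLC.GMod.of 𝒜 (Co 𝒜 I) (coGr 𝒜 I)

end Cofree

end Groth.Agent.GrStarBasic
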