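/-
*Essential extensions, *injective envelopes and resolutions
-/
import Groth.Prelude.Def_GrLC
import Groth.Prelude.Def_Wider
import Groth.Agent.Lib.GrStarBasic
import Groth.Agent.Lib.InjHullBasic
import Mathlib

set_option autoImplicit false
open DirectSum
open Groth.Agent.GrStarBasic

universe u

namespace Groth.Agent.GrStarHull

variable {ι : Type} [AddCommGroup ι] [DecidableEq ι]
variable {R : Type u} [CommRing R] {σ : Type u} [SetLike σ R] [AddSubgroupClass σ R] {𝒜 : ι → σ} [GradedRing 𝒜]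
variable {M : Type u} [AddCommGroup M] [Module R M] {τ : Type u} [SetLike τ M] [AddSubgroupClass τ M]
  {ℳ : ι → τ}
variable {N : Type u} [AddCommGroup N] [Module R N] {τ' : Type u} [SetLike τ' N] [AddSubgroupClass τ' N]
  {𝒩 : ι → τ'} [Decomposition 𝒩] [SetLike.GradedSMul 𝒜 𝒩]

variable (𝒜 𝒩) in
/-- every nonzero homogeneous element has a nonzero homogeneous multiple in `P` -/
def EssH (P : Submodule R N) : Prop :=
  ∀ g, ∀ x ∈ 𝒩 g, x ≠ 0 → ∃ i, ∃ r ∈ 𝒜 i, r • x ∈ P ∧ r • x ≠ 0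

theorem span_singleton_homogeneous (𝒜 : ι → σ) [GradedRing 𝒜] [SetLike.GradedSMul 𝒜 𝒩] {g : ι} {x : N} (hx : x ∈ 𝒩 g) :
    (R ∙ x).IsHomogeneous 𝒩 := fun j y hy => by
  obtain ⟨r, rfl⟩ := Submodule.mem_span_singleton.mp hy
  show pr 𝒩 j (r • x) ∈ R ∙ x
  rw [pr_smul_right 𝒜 𝒩 hx]
  exact Submodule.smul_mem _ _ (Submodule.mem_span_singleton_self x)

theorem essH_of_essential {P : Submodule R N} (hP : P.IsHomogeneous 𝒩)
    (h : ∀ Q : Submodule R N, Q.IsHomogeneous 𝒩 → Q ≠ ⊥ → Q ⊓ P ≠ ⊥) : EssH 𝒜 𝒩 P := by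
  classical
  intro g x hx hx0
  obtain ⟨y, ⟨hy1, hy2⟩, hy0⟩ := Submodule.exists_mem_ne_zero_of_ne_bot
    (h _ (span_singleton_homogeneous 𝒜 hx) (by simpa using hx0))
  obtain ⟨r, rfl⟩ := Submodule.mem_span_singleton.mp hy1
  obtain ⟨j, hj⟩ : ∃ j, pr 𝒩 j (r • x) ≠ 0 := by
    by_contra hc
    push Not at hc
    exact hy0 (eq_of_pr 𝒩 fun j => by rw [hc j, map_zero])
  refine ⟨j - g, pr 𝒜 (j - g) r, pr_mem 𝒜 _ r, ?_⟩
  rw [← pr_smul_right 𝒜 𝒩 hx]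
  exact ⟨hP j hy2, hj⟩

/-- graded essential implies essential -/
theorem ess_of_essH {P : Submodule R N} (h : EssH 𝒜 𝒩 P) : IH.Ess P := by
  classical
  have key : ∀ (s : Finset ι) (y : ι → N), (∀ g, y g ∈ 𝒩 g) → (∃ g ∈ s, y g ≠ 0) →
      ∃ (i : ι) (r : R), r ∈ 𝒜 i ∧ (∀ g ∈ s, r • y g ∈ P) ∧ ∃ g ∈ s, r • y g ≠ 0 := by
    intro s
    induction s using Finset.induction_on with
    | empty => rintro y - ⟨g, hg, -⟩; exact absurd hg (Finset.notMem_empty g)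
    | insert a s ha ih =>
      intro y hy hne
      by_cases hs : ∃ g ∈ s, y g ≠ 0
      · obtain ⟨i, r, hr, hP, g1, hg1, hn1⟩ := ih y hy hs
        by_cases hra : r • y a ∈ P
        · exact ⟨i, r, hr, fun g hg => (Finset.mem_insert.mp hg).elim (fun e => e ▸ hra) (hP g),
            g1, Finset.mem_insert_of_mem hg1, hn1⟩
        · obtain ⟨j, t, ht, htP, htne⟩ := h (i + a) (r • y a) (smul_mem 𝒜 𝒩 hr (hy a))
            (fun e => hra (e ▸ zero_mem P))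
          refine ⟨j + i, t * r, SetLike.mul_mem_graded ht hr, fun g hg => ?_, a, Finset.mem_insert_self a s, ?_⟩
          · rw [mul_smul]
            rcases Finset.mem_insert.mp hg with e | hg
            · exact e ▸ htP
            · exact P.smul_mem t (hP g hg)
          · rwa [mul_smul]
      · obtain ⟨g, hg, hgn⟩ := hne
        have hga : g = a := (Finset.mem_insert.mp hg).resolve_right fun hgs => hs ⟨g, hgs, hgn⟩
        subst hga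
        obtain ⟨i, r, hr, hP, hn⟩ := h g (y g) (hy g) hgn
        push Not at hs
        refine ⟨i, r, hr, fun g' hg' => ?_, g, Finset.mem_insert_self g s, hn⟩
        rcases Finset.mem_insert.mp hg' with e | hg'
        · exact e ▸ hP
        · rw [hs g' hg', smul_zero]; exact zero_mem P
  intro x hx
  have hne : ∃ g ∈ DFinsupp.support (decompose 𝒩 x), pr 𝒩 g x ≠ 0 := by
    by_contra hc
    push Not at hc
    exact hx ((sum_pr 𝒩 x).symm.trans (Finset.sum_eq_zero hc))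
  obtain ⟨i, r, hr, hP, g, hg, hn⟩ := key _ (fun g => pr 𝒩 g x) (fun g => pr_mem 𝒩 g x) hne
  refine ⟨r, ?_, fun e => hn ?_⟩
  · rw [← sum_pr 𝒩 x, Finset.smul_sum]
    exact sum_mem hP
  · have e1 := pr_smul_left 𝒜 𝒩 hr x (g + i)
    rw [e, map_zero, add_sub_cancel_right] at e1
    exact e1.symm

theorem essH_of_isStarEss (hsp : ∀ x : M, x ∈ AddSubmonoid.closure (⋃ g, (ℳ g : Set M)))
    {f : M →ₗ[R] N} (hf : GrLC.IsStarEss ℳ 𝒩 f) : EssH 𝒜 𝒩 (LinearMap.range f) :=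
  essH_of_essential (range_homogeneous hsp hf.grHom) hf.essential

theorem ess_of_isStarEss (𝒜 : ι → σ) [GradedRing 𝒜] [SetLike.GradedSMul 𝒜 𝒩]
    (hsp : ∀ x : M, x ∈ AddSubmonoid.closure (⋃ g, (ℳ g : Set M)))
    {f : M →ₗ[R] N} (hf : GrLC.IsStarEss ℳ 𝒩 f) : IH.Ess (LinearMap.range f) :=
  ess_of_essH (essH_of_isStarEss (𝒜 := 𝒜) hsp hf)

variable {P : Type u} [AddCommGroup P] [Module R P] {τ'' : Type u} [SetLike τ'' P] [AddSubgroupClass τ'' P]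
  {ℰ : ι → τ''} [Decomposition ℰ] [SetLike.GradedSMul 𝒜 ℰ]

theorem isGrHom_comp {A B C : Type u} [AddCommGroup A] [Module R A] [AddCommGroup B] [Module R B]
    [AddCommGroup C] [Module R C] {α β γ : Type u} [SetLike α A] [AddSubgroupClass α A] [SetLike β B]
    [AddSubgroupClass β B] [SetLike γ C] [AddSubgroupClass γ C] {𝒳 : ι → α} {𝒴 : ι → β} {𝒵 : ι → γ}
    {f : B →ₗ[R] C} {e : A →ₗ[R] B} (hf : GrLC.IsGrHom 𝒴 𝒵 f) (he : GrLC.IsGrHom 𝒳 𝒴 e) :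
    GrLC.IsGrHom 𝒳 𝒵 (f ∘ₗ e) := fun g x hx => hf g _ (he g x hx)

omit [SetLike.GradedSMul 𝒜 ℰ] [SetLike.GradedSMul 𝒜 𝒩] [GradedRing 𝒜] in
theorem symm_grHom {e : N ≃ₗ[R] P} (he : GrLC.IsGrHom 𝒩 ℰ e.toLinearMap) :
    GrLC.IsGrHom ℰ 𝒩 e.symm.toLinearMap := fun g y hy => by
  obtain ⟨x, hx, rfl⟩ := exists_preimage he hy ⟨e.symm y, e.apply_symm_apply y⟩
  show e.symm (e x) ∈ 𝒩 g
  rw [e.symm_apply_apply]; exact hx

variable (𝒩) in
theorem toAddSubgroup_decomp : IsInternal (fun g => AddSubgroup.ofClass (𝒩 g)) := by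
  classical
  exact isInternal_of _ (fun x => closure_pieces 𝒩 x) fun s y hy h => eq_zero_of_sum 𝒩 hy h

variable (𝒜 𝒩) in
/-- bundle with pieces turned into subgroups -/
noncomputable def bundle : GrLC.GMod.{u} 𝒜 :=
  letI := (toAddSubgroup_decomp 𝒩).chooseDecomposition
  haveI : SetLike.GradedSMul 𝒜 (fun g => AddSubgroup.ofClass (𝒩 g)) := ⟨fun {i j a x} ha hx => smul_mem 𝒜 𝒩 ha hx⟩
  GrLC.GMod.of 𝒜 N (fun g => AddSubgroup.ofClass (𝒩 g))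

/-- extension of homogeneous maps to a *injective module -/
theorem extend (hI : GrLC.IsStarInj 𝒜 ℰ) [Decomposition ℳ] [SetLike.GradedSMul 𝒜 ℳ] {f : M →ₗ[R] N}
    (hf : GrLC.IsGrHom ℳ 𝒩 f) (hinj : Function.Injective f) {g : M →ₗ[R] P} (hg : GrLC.IsGrHom ℳ ℰ g) :
    ∃ h : N →ₗ[R] P, GrLC.IsGrHom 𝒩 ℰ h ∧ h ∘ₗ f = g :=
  hI (bundle 𝒜 ℳ) (bundle 𝒜 𝒩) f hf hinj g hg

theorem extend' (hI : GrLC.IsStarInj 𝒜 ℰ) {f : M →ₗ[R] N} [Decomposition ℳ] [SetLike.GradedSMul 𝒜 ℳ]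
    (hf : GrLC.IsGrHom ℳ 𝒩 f) {g : M →ₗ[R] P} (hg : GrLC.IsGrHom ℳ ℰ g)
    (hk : LinearMap.ker f ≤ LinearMap.ker g) :
    ∃ h : N →ₗ[R] P, GrLC.IsGrHom 𝒩 ℰ h ∧ h ∘ₗ f = g := by
  have hker := ker_homogeneous hf
  let Q := quoMod 𝒜 ℳ hker
  let f' : Q.carrier →ₗ[R] N := (LinearMap.ker f).liftQ f le_rfl
  let g' : Q.carrier →ₗ[R] P := (LinearMap.ker f).liftQ g hk
  obtain ⟨h, hh, e⟩ := extend (ℳ := Q.gr) hI (f := f') (liftQ_grHom 𝒜 ℳ hker hf le_rfl)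
    (LinearMap.ker_eq_bot.mp (Submodule.ker_liftQ_eq_bot' _ _ rfl)) (g := g') (liftQ_grHom 𝒜 ℳ hker hg hk)
  exact ⟨h, hh, LinearMap.ext fun x => LinearMap.congr_fun e ((LinearMap.ker f).mkQ x)⟩

theorem starInj_of_retract (hI : GrLC.IsStarInj 𝒜 ℰ) {i : N →ₗ[R] P} (hi : GrLC.IsGrHom 𝒩 ℰ i)
    {p : P →ₗ[R] N} (hp : GrLC.IsGrHom ℰ 𝒩 p) (hpi : ∀ x, p (i x) = x) : GrLC.IsStarInj 𝒜 𝒩 := by
  intro A B f hf hinj g hg
  obtain ⟨h, hh, e⟩ := hI A B f hf hinj (i ∘ₗ g) (isGrHom_comp hi hg)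
  refine ⟨p ∘ₗ h, isGrHom_comp hp hh, LinearMap.ext fun x => ?_⟩
  rw [LinearMap.comp_apply, LinearMap.comp_apply, show h (f x) = i (g x) from LinearMap.congr_fun e x, hpi]

/-- a *injective with an essential injective map into a graded module: surjective -/
theorem surjective_of_ess (hI : GrLC.IsStarInj 𝒜 ℰ) {f : P →ₗ[R] N} (hf : GrLC.IsStarEss ℰ 𝒩 f) :
    Function.Surjective f := by
  have hid : GrLC.IsGrHom ℰ ℰ (LinearMap.id : P →ₗ[R] P) := fun g m hm => hm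
  obtain ⟨p, hp, e⟩ := extend hI hf.grHom hf.injective hid
  intro y
  have hbot : LinearMap.ker p = ⊥ := by
    by_contra hne
    refine hf.essential _ (ker_homogeneous hp) hne ((Submodule.eq_bot_iff _).mpr ?_)
    rintro z ⟨hz, x, rfl⟩
    rw [show x = p (f x) from (LinearMap.congr_fun e x).symm, show p (f x) = 0 from hz, map_zero]
  exact ⟨p y, LinearMap.ker_eq_bot.mp hbot (LinearMap.congr_fun e (p y))⟩

/-- enough *injectives -/
theorem exists_starInj_embedding [Decomposition ℳ] [SetLike.GradedSMul 𝒜 ℳ] :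
    ∃ (J : GrLC.GMod.{u} 𝒜) (j : M →ₗ[R] J.carrier),
      GrLC.IsGrHom ℳ J.gr j ∧ Function.Injective j ∧ GrLC.IsStarInj 𝒜 J.gr := by
  obtain ⟨I, _, _, e, he, hI⟩ := IH.exists_injective_embedding R M
  exact ⟨coObj 𝒜 I, coLift 𝒜 I ℳ e, coLift_grHom 𝒜 I ℳ e, coLift_injective 𝒜 I ℳ he, co_starInj (hI := hI) 𝒜 I⟩

theorem iSup_homogeneous {c : Set (Submodule R N)} (hc : ∀ Q ∈ c, Q.IsHomogeneous 𝒩) :
    (sSup c).IsHomogeneous 𝒩 := fun g x hx => by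
  show pr 𝒩 g x ∈ sSup c
  rw [sSup_eq_iSup'] at hx ⊢
  induction hx using Submodule.iSup_induction' with
  | mem Q y hy => exact Submodule.mem_iSup_of_mem Q (hc Q.1 Q.2 g hy)
  | zero => rw [map_zero]; exact zero_mem _
  | add a b _ _ ha hb => rw [map_add]; exact add_mem ha hb

variable (hN : GrLC.IsStarInj 𝒜 𝒩)
include hN

/-- inside a *injective every homogeneous submodule has a *injective envelope, a direct summand -/
theorem exists_hull_summand {S : Submodule R N} (hS : S.IsHomogeneous 𝒩) :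
    ∃ (E Q : Submodule R N) (hE : E.IsHomogeneous 𝒩), S ≤ E ∧ Q.IsHomogeneous 𝒩 ∧ IsCompl E Q ∧
      GrLC.IsStarInj 𝒜 (subMod 𝒜 𝒩 hE).gr ∧ (∀ g, ∀ x ∈ E, x ∈ 𝒩 g → x ≠ 0 → ∃ i, ∃ r ∈ 𝒜 i, r • x ∈ S ∧ r • x ≠ 0) := by
  classical
  let C : Set (Submodule R N) := {E | E.IsHomogeneous 𝒩 ∧ S ≤ E ∧
    ∀ g, ∀ x ∈ E, x ∈ 𝒩 g → x ≠ 0 → ∃ i, ∃ r ∈ 𝒜 i, r • x ∈ S ∧ r • x ≠ 0}
  obtain ⟨E, hSE, hEmax⟩ := zorn_le_nonempty₀ C (fun c hc hchain y hy => by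
    refine ⟨sSup c, ⟨iSup_homogeneous fun Q hQ => (hc hQ).1, (hc hy).2.1.trans (le_sSup hy),
      fun g x hx hxg hx0 => ?_⟩, fun z hz => le_sSup hz⟩
    obtain ⟨Q, hQ, hxQ⟩ := (Submodule.mem_sSup_of_directed ⟨y, hy⟩ hchain.directedOn).mp hx
    exact (hc hQ).2.2 g x hxQ hxg hx0) S
    ⟨hS, le_rfl, fun g x hx _ hx0 => ⟨0, 1, SetLike.one_mem_graded 𝒜, by rwa [one_smul], by rwa [one_smul]⟩⟩
  obtain ⟨hE, hSE', hEess⟩ := hEmax.prop
  let D : Set (Submodule R N) := {Q | Q.IsHomogeneous 𝒩 ∧ Q ⊓ E = ⊥}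
  obtain ⟨Q, -, hQmax⟩ := zorn_le_nonempty₀ D (fun c hc hchain y hy => by
    refine ⟨sSup c, ⟨iSup_homogeneous fun Q hQ => (hc hQ).1, (Submodule.eq_bot_iff _).mpr ?_⟩,
      fun z hz => le_sSup hz⟩
    rintro x ⟨hx, hxE⟩
    obtain ⟨Q, hQ, hxQ⟩ := (Submodule.mem_sSup_of_directed ⟨y, hy⟩ hchain.directedOn).mp hx
    exact (Submodule.eq_bot_iff _).mp (hc hQ).2 x ⟨hxQ, hxE⟩) ⊥
    ⟨fun g x hx => by rw [(Submodule.mem_bot R).mp hx]; simp, bot_inf_eq E⟩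
  obtain ⟨hQ, hQE⟩ := hQmax.prop
  -- `E` is *essential in `N / Q`
  let B := quoMod 𝒜 𝒩 hQ
  let A := subMod 𝒜 𝒩 hE
  let mk : N →ₗ[R] B.carrier := Q.mkQ
  have hmk : GrLC.IsGrHom 𝒩 B.gr mk := mkQ_grHom 𝒜 𝒩 hQ
  let f : A.carrier →ₗ[R] B.carrier := mk ∘ₗ E.subtype
  have hfgr : GrLC.IsGrHom A.gr B.gr f := fun g x hx => hmk g _ hx
  have hfinj : Function.Injective f := (injective_iff_map_eq_zero _).mpr fun (x : ↥E) hx =>
    Subtype.ext ((Submodule.eq_bot_iff _).mp hQE x.1 ⟨(Submodule.Quotient.mk_eq_zero Q).mp hx, x.2⟩)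
  have hess : ∀ P : Submodule R B.carrier, P.IsHomogeneous B.gr → P ≠ ⊥ → P ⊓ LinearMap.range f ≠ ⊥ := by
    intro P hP hP0 hbot
    let W : Submodule R N := Submodule.comap mk P
    have hW : W.IsHomogeneous 𝒩 := fun g x hx => by
      show mk (pr 𝒩 g x) ∈ P
      rw [map_pr hmk]
      exact hP g hx
    have hWE : W ⊓ E = ⊥ := (Submodule.eq_bot_iff _).mpr fun x hx => by
      have : (Q.mkQ x : B.carrier) ∈ P ⊓ LinearMap.range f := ⟨hx.1, ⟨⟨x, hx.2⟩, rfl⟩⟩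
      rw [hbot] at this
      exact (Submodule.eq_bot_iff _).mp hQE x
        ⟨(Submodule.Quotient.mk_eq_zero Q).mp ((Submodule.mem_bot R).mp this), hx.2⟩
    have hle : W ≤ Q := hQmax.le_of_ge ⟨hW, hWE⟩ fun x hx => by
      show (Q.mkQ x : B.carrier) ∈ P
      rw [show Q.mkQ x = 0 from (Submodule.Quotient.mk_eq_zero Q).mpr hx]; exact P.zero_mem
    refine hP0 ((Submodule.eq_bot_iff _).mpr fun z hz => ?_)
    obtain ⟨x, rfl⟩ := Q.mkQ_surjective z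
    exact (Submodule.Quotient.mk_eq_zero Q).mpr (hle hz)
  obtain ⟨φ, hφgr, hφ⟩ := extend (ℳ := A.gr) (𝒩 := B.gr) hN hfgr hfinj (g := E.subtype) (subtype_grHom 𝒜 𝒩 hE)
  have hφinj : Function.Injective φ := by
    rw [← LinearMap.ker_eq_bot]
    by_contra hne
    refine hess _ (ker_homogeneous hφgr) hne ((Submodule.eq_bot_iff _).mpr ?_)
    rintro z ⟨hz, (x : ↥E), rfl⟩
    have : (x : N) = 0 := (LinearMap.congr_fun hφ x).symm.trans hz
    rw [show x = 0 from Subtype.ext this]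
    exact map_zero f
  have hrange : LinearMap.range φ = E := by
    refine le_antisymm (hEmax.le_of_ge ⟨range_homogeneous (closure_pieces B.gr) hφgr, ?_, ?_⟩ ?_) ?_
    · intro x hx; exact ⟨f ⟨x, hSE' hx⟩, LinearMap.congr_fun hφ ⟨x, hSE' hx⟩⟩
    · intro g y hy hyg hy0
      obtain ⟨z, hz, rfl⟩ := exists_preimage hφgr hyg hy
      have hz0 : z ≠ 0 := fun e => hy0 (by rw [e, map_zero])
      obtain ⟨i, r, hr, ⟨(x : ↥E), hx⟩, hrz⟩ := essH_of_essential (𝒜 := 𝒜) (range_homogeneous (closure_pieces A.gr) hfgr) hess g z hz hz0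
      have e1 : r • φ z = (x : N) := by rw [← map_smul, ← hx]; exact LinearMap.congr_fun hφ x
      have hne : (x : N) ≠ 0 := fun e => hrz (hφinj (by rw [map_smul, map_zero, e1, e]))
      obtain ⟨j, t, ht, htS, htne⟩ := hEess (i + g) x x.2 (e1 ▸ smul_mem 𝒜 𝒩 hr hyg) hne
      exact ⟨j + i, t * r, SetLike.mul_mem_graded ht hr, by rwa [mul_smul, e1], by rwa [mul_smul, e1]⟩
    · intro x hx; exact ⟨f ⟨x, hx⟩, LinearMap.congr_fun hφ ⟨x, hx⟩⟩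
    · intro x hx; exact ⟨f ⟨x, hx⟩, LinearMap.congr_fun hφ ⟨x, hx⟩⟩
  let p : N →ₗ[R] A.carrier :=
    LinearMap.codRestrict E (φ ∘ₗ mk) fun x => hrange.le ⟨Q.mkQ x, rfl⟩
  have hpgr : GrLC.IsGrHom 𝒩 A.gr p := fun g x hx => hφgr g _ (mkQ_grHom 𝒜 𝒩 hQ g x hx)
  have hpi : ∀ x : ↥E, p (x : N) = x := fun x => Subtype.ext (LinearMap.congr_fun hφ x)
  refine ⟨E, Q, hE, hSE', hQ, ⟨disjoint_iff.mpr (inf_comm E Q ▸ hQE), codisjoint_iff.mpr (Submodule.eq_top_iff'.mpr fun x => ?_)⟩,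
    starInj_of_retract (ℰ := 𝒩) (𝒩 := A.gr) hN (subtype_grHom 𝒜 𝒩 hE) hpgr hpi, hEess⟩
  obtain ⟨(y : ↥E), hy⟩ : ∃ y, y = p x := ⟨_, rfl⟩
  have hyv : (y : N) = φ (mk x) := congrArg (fun t : ↥E => (t : N)) hy
  have e1 : φ (mk (y : N)) = φ (mk x) := (LinearMap.congr_fun hφ y).trans hyv
  have e2 : x - (y : N) ∈ Q := (Submodule.Quotient.mk_eq_zero Q).mp (by
    show Q.mkQ (x - (y : N)) = 0
    rw [map_sub, sub_eq_zero]; exact (hφinj e1).symm)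
  exact Submodule.mem_sup.mpr ⟨_, y.2, _, e2, add_sub_cancel _ _⟩

/-- envelope of the image of a map into a *injective -/
theorem exists_hull_of_map (hsp : ∀ x : M, x ∈ AddSubmonoid.closure (⋃ g, (ℳ g : Set M)))
    {j : M →ₗ[R] N} (hj : GrLC.IsGrHom ℳ 𝒩 j) (hinj : Function.Injective j) :
    ∃ (X : GrLC.GMod.{u} 𝒜) (f : M →ₗ[R] X.carrier) (ψ : X.carrier →ₗ[R] N) (Q : Submodule R N),
      GrLC.IsStarInjHull 𝒜 ℳ X.gr f ∧ Function.Injective ψ ∧ GrLC.IsGrHom X.gr 𝒩 ψ ∧ ψ ∘ₗ f = j ∧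
        Q.IsHomogeneous 𝒩 ∧ IsCompl (LinearMap.range ψ) Q := by
  classical
  obtain ⟨E, Q, hE, hle, hQ, hc, hinjE, hess⟩ := exists_hull_summand hN (range_homogeneous hsp hj)
  let f : M →ₗ[R] (subMod 𝒜 𝒩 hE).carrier := LinearMap.codRestrict E j fun x => hle ⟨x, rfl⟩
  refine ⟨subMod 𝒜 𝒩 hE, f, E.subtype,
    Q, ⟨⟨?_, fun g x hx => hj g x hx, fun P hP hP0 => ?_⟩, hinjE⟩, Subtype.val_injective,
    subtype_grHom 𝒜 𝒩 hE, LinearMap.ext fun x => rfl, hQ, by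
      show IsCompl (LinearMap.range E.subtype) Q
      rw [show LinearMap.range E.subtype = E from Submodule.range_subtype E]; exact hc⟩
  · intro a b h; exact hinj (congrArg Subtype.val h)
  obtain ⟨x, hx, hx0⟩ := Submodule.exists_mem_ne_zero_of_ne_bot hP0
  obtain ⟨g, hg⟩ : ∃ g, pr (subMod 𝒜 𝒩 hE).gr g x ≠ 0 := by
    by_contra hc
    push Not at hc
    exact hx0 (eq_of_pr (subMod 𝒜 𝒩 hE).gr fun g => by rw [hc g, map_zero])
  have hm := pr_mem (subMod 𝒜 𝒩 hE).gr g x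
  have hgP : pr (subMod 𝒜 𝒩 hE).gr g x ∈ P := hP g hx
  obtain ⟨y, hy⟩ : ∃ y : ↥E, y = pr (subMod 𝒜 𝒩 hE).gr g x := ⟨_, rfl⟩
  rw [← hy] at hm hgP hg
  obtain ⟨i, r, -, ⟨m, hm2⟩, hne⟩ := hess g y.1 y.2 hm (fun e => hg (Subtype.ext e))
  intro hb
  refine hne ?_
  have hmem : r • y ∈ P ⊓ LinearMap.range f := ⟨P.smul_mem r hgP, m, Subtype.ext hm2⟩
  have hz := (Submodule.eq_bot_iff _).mp hb _ hmem
  exact congrArg Subtype.val hz

omit hN in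
/-- envelopes are unique -/
theorem hull_unique [Decomposition ℳ] [SetLike.GradedSMul 𝒜 ℳ] {f₁ : M →ₗ[R] N} {f₂ : M →ₗ[R] P}
    (h₁ : GrLC.IsStarInjHull 𝒜 ℳ 𝒩 f₁) (h₂ : GrLC.IsStarInjHull 𝒜 ℳ ℰ f₂) :
    ∃ β : N ≃ₗ[R] P, GrLC.IsGrHom 𝒩 ℰ β.toLinearMap ∧ β.toLinearMap ∘ₗ f₁ = f₂ := by
  obtain ⟨h, hh, e⟩ := extend h₂.starInj h₁.grHom h₁.injective h₂.grHom
  have hinj : Function.Injective h :=
    IH.injective_of_comp (ess_of_isStarEss 𝒜 (closure_pieces ℳ) h₁.toIsStarEss) (e.symm ▸ h₂.injective)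
  have hess : GrLC.IsStarEss 𝒩 ℰ h := ⟨hinj, hh, fun P hP hP0 hb => h₂.essential P hP hP0 (by
    rw [← le_bot_iff, ← hb]
    refine inf_le_inf_left P ?_
    rw [← e]; exact LinearMap.range_comp_le_range f₁ h)⟩
  exact ⟨LinearEquiv.ofBijective h ⟨hinj, surjective_of_ess h₁.starInj hess⟩, hh, e⟩

end Groth.Agent.GrStarHull

namespace Groth.Agent.GrStarHull

variable {ι : Type} [AddCommGroup ι] [DecidableEq ι]
variable {R : Type u} [CommRing R] {σ : Type u} [SetLike σ R] [AddSubgroupClass σ R] (𝒜 : ι → σ) [GradedRing 𝒜]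
variable {M : Type u} [AddCommGroup M] [Module R M] {τ : Type u} [SetLike τ M] [AddSubgroupClass τ M]
  (ℳ : ι → τ) [Decomposition ℳ] [SetLike.GradedSMul 𝒜 ℳ]

/-- *injective iff no proper *essential extension -/
theorem starInj_iff : GrLC.IsStarInj 𝒜 ℳ ↔
    ∀ (N : GrLC.GMod.{u} 𝒜) (f : M →ₗ[R] N.carrier), GrLC.IsStarEss ℳ N.gr f → Function.Surjective f := by
  refine ⟨fun h N f hf => surjective_of_ess h hf, fun h => ?_⟩
  obtain ⟨J, j, hj, hinj, hJ⟩ := exists_starInj_embedding (𝒜 := 𝒜) (ℳ := ℳ)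
  obtain ⟨X, f, ψ, Q, hX, -⟩ := exists_hull_of_map hJ (closure_pieces ℳ) hj hinj
  let e := LinearEquiv.ofBijective f ⟨hX.injective, h X f hX.toIsStarEss⟩
  exact starInj_of_retract (ℰ := X.gr) hX.starInj (i := f) hX.grHom (p := e.symm.toLinearMap)
    (symm_grHom (𝒩 := ℳ) (e := e) hX.grHom) e.symm_apply_apply

/-- one step of a resolution: a graded module and a map to it -/
structure Step where
  X : GrLC.GMod.{u} 𝒜
  C : GrLC.GMod.{u} 𝒜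
  q : X.carrier →ₗ[R] C.carrier
  q_gr : GrLC.IsGrHom X.gr C.gr q
  q_surj : Function.Surjective q
  inj : GrLC.IsStarInj 𝒜 X.gr

variable {𝒜} in
/-- embed a graded module and take the cokernel -/
theorem exists_step (Z : GrLC.GMod.{u} 𝒜) : ∃ (S : Step 𝒜) (j : Z.carrier →ₗ[R] S.X.carrier),
    GrLC.IsGrHom Z.gr S.X.gr j ∧ Function.Injective j ∧ LinearMap.ker S.q = LinearMap.range j := by
  obtain ⟨J, j, hj, hinj, hJ⟩ := exists_starInj_embedding (𝒜 := 𝒜) (ℳ := Z.gr)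
  have hP := range_homogeneous (closure_pieces Z.gr) hj
  exact ⟨⟨J, quoMod 𝒜 J.gr hP, (LinearMap.range j).mkQ, mkQ_grHom 𝒜 J.gr hP,
    Submodule.mkQ_surjective _, hJ⟩, j, hj, hinj, Submodule.ker_mkQ _⟩

/-- iterated steps -/
noncomputable def steps : ℕ → Step 𝒜
  | 0 => (exists_step (bundle 𝒜 ℳ)).choose
  | n + 1 => (exists_step (steps n).C).choose

theorem exists_res : Nonempty (GrLC.StarInjRes 𝒜 ℳ) := by
  obtain ⟨h1, h2, h3⟩ := (exists_step (bundle 𝒜 ℳ)).choose_spec.choose_spec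
  let j : ∀ n, (steps 𝒜 ℳ n).C.carrier →ₗ[R] (steps 𝒜 ℳ (n + 1)).X.carrier :=
    fun n => (exists_step (steps 𝒜 ℳ n).C).choose_spec.choose
  have hj : ∀ n, GrLC.IsGrHom (steps 𝒜 ℳ n).C.gr (steps 𝒜 ℳ (n + 1)).X.gr (j n) ∧ Function.Injective (j n) ∧
      LinearMap.ker (steps 𝒜 ℳ (n + 1)).q = LinearMap.range (j n) :=
    fun n => (exists_step (steps 𝒜 ℳ n).C).choose_spec.choose_spec
  exact ⟨
    { X := fun n => (steps 𝒜 ℳ n).X
      d := fun n => j n ∘ₗ (steps 𝒜 ℳ n).q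
      ε := (exists_step (bundle 𝒜 ℳ)).choose_spec.choose
      d_grHom := fun n g x hx => (hj n).1 g _ ((steps 𝒜 ℳ n).q_gr g x hx)
      ε_grHom := h1
      ε_injective := h2
      exact_zero := by rw [LinearMap.ker_comp, LinearMap.ker_eq_bot.mpr (hj 0).2.1]; exact h3
      exact_succ := fun n => by
        rw [LinearMap.ker_comp, LinearMap.ker_eq_bot.mpr (hj (n + 1)).2.1,
          LinearMap.range_comp_of_range_eq_top _ (LinearMap.range_eq_top.mpr (steps 𝒜 ℳ n).q_surj)]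
        exact (hj n).2.2
      starInj := fun n => (steps 𝒜 ℳ n).inj }⟩

end Groth.Agent.GrStarHull
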