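/-
*Indecomposable *injectives; gradings of local cohomology computed from a resolution
-/
import Groth.Prelude.Def_GrLC
import Groth.Agent.Lib.GrStarBasic
import Groth.Agent.Lib.GrStarHull
import Mathlib

set_option autoImplicit false
open DirectSum
open Groth.Agent.GrStarBasic Groth.Agent.GrStarHull

universe u

namespace Groth.Agent.GrStarPrime

variable {ι : Type} [AddCommGroup ι] [DecidableEq ι]
variable {R : Type u} [CommRing R] {σ : Type u} [SetLike σ R] [AddSubgroupClass σ R] {𝒜 : ι → σ} [GradedRing 𝒜]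
variable {E : Type u} [AddCommGroup E] [Module R E] {τ : Type u} [SetLike τ E] [AddSubgroupClass τ E]
  {𝓔 : ι → τ} [Decomposition 𝓔] [SetLike.GradedSMul 𝒜 𝓔]

theorem quotGr_shift_closure (q : HomogeneousIdeal 𝒜) (g₀ : ι) (x : R ⧸ q.toIdeal) :
    x ∈ AddSubmonoid.closure (⋃ j, (GrLC.quotGr 𝒜 q (j - g₀) : Set (R ⧸ q.toIdeal))) := by
  refine AddSubmonoid.closure_mono ?_ (quotGr_closure 𝒜 q x)
  intro y hy
  obtain ⟨g, hg⟩ := Set.mem_iUnion.mp hy
  exact Set.mem_iUnion.mpr ⟨g + g₀, by rwa [add_sub_cancel_right]⟩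

variable (p : HomogeneousIdeal 𝒜) [hp : p.toIdeal.IsPrime] {e : (R ⧸ p.toIdeal) →ₗ[R] E}
  (he : GrLC.IsStarEss (GrLC.quotGr 𝒜 p) 𝓔 e)
include he hp

theorem apply_mk (r : R) : e (Ideal.Quotient.mk p.toIdeal r) = r • e (Ideal.Quotient.mk p.toIdeal 1) := by
  rw [← map_smul, Algebra.smul_def, Ideal.Quotient.algebraMap_eq, ← map_mul, mul_one]

theorem smul_eq_zero_range {r : R} {s : R ⧸ p.toIdeal} (h : r • e s = 0) (hs : s ≠ 0) : r ∈ p.toIdeal := by
  rw [← map_smul] at h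
  have h0 : r • s = 0 := he.injective (h.trans (map_zero e).symm)
  obtain ⟨s, rfl⟩ := Ideal.Quotient.mk_surjective s
  rw [Algebra.smul_def, Ideal.Quotient.algebraMap_eq, ← map_mul, Ideal.Quotient.eq_zero_iff_mem] at h0
  exact (hp.mem_or_mem h0).resolve_right fun hh => hs (Ideal.Quotient.eq_zero_iff_mem.mpr hh)

theorem smul_range_zero {r : R} (hr : r ∈ p.toIdeal) (s : R ⧸ p.toIdeal) : r • e s = 0 := by
  obtain ⟨s, rfl⟩ := Ideal.Quotient.mk_surjective s
  rw [← map_smul, Algebra.smul_def, Ideal.Quotient.algebraMap_eq, ← map_mul,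
    Ideal.Quotient.eq_zero_iff_mem.mpr (Ideal.mul_mem_right s _ hr), map_zero]

/-- the only prime annihilator is `p` -/
theorem eq_of_prime_colon {y : E} {q : Ideal R} [q.IsPrime] (hq : ∀ r, r ∈ q ↔ r • y = 0) : q = p.toIdeal := by
  have hy : y ≠ 0 := fun h => Ideal.IsPrime.ne_top ‹q.IsPrime› ((Ideal.eq_top_iff_one q).mpr ((hq 1).mpr (by rw [h, smul_zero])))
  obtain ⟨r, ⟨s, hs⟩, hne⟩ := ess_of_isStarEss 𝒜 (quotGr_closure 𝒜 p) he y hy
  have hrq : r ∉ q := fun h => hne ((hq r).mp h)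
  have hs0 : s ≠ 0 := fun h => hne (by rw [← hs, h, map_zero])
  ext a
  constructor
  · intro ha
    refine smul_eq_zero_range p he (s := s) ?_ hs0
    rw [hs, smul_comm, (hq a).mp ha, smul_zero]
  · intro ha
    have : a • r • y = 0 := hs ▸ smul_range_zero p he ha s
    rw [← mul_smul] at this
    exact ((‹q.IsPrime›).mem_or_mem ((hq _).mpr this)).resolve_right hrq

theorem gam_eq_top [IsNoetherianRing R] : GrLC.gam p.toIdeal E = ⊤ := by
  refine eq_top_iff.mpr fun x _ => ?_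
  haveI : Module.Finite R ↥(R ∙ x) := Module.Finite.iff_fg.mpr (Submodule.fg_span_singleton x)
  have hrad : p.toIdeal ≤ (Module.annihilator R ↥(R ∙ x)).radical := by
    rw [← Ideal.sInf_minimalPrimes]
    refine le_sInf fun q hq => ?_
    obtain ⟨hqp, y, hy⟩ :=
      (isAssociatedPrime_iff).mp (Module.associatedPrimes.minimalPrimes_annihilator_subset_associatedPrimes R ↥(R ∙ x) hq)
    haveI := hqp
    refine (eq_of_prime_colon p he (y := (y : E)) (q := q) fun r => ?_).ge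
    rw [hy, Submodule.mem_colon_singleton, Submodule.mem_bot, ← Submodule.coe_smul, ZeroMemClass.coe_eq_zero]
  obtain ⟨n, hn⟩ := Ideal.exists_pow_le_of_le_radical_of_fg hrad (IsNoetherian.noetherian _)
  exact ⟨n, fun r hr => congrArg Subtype.val
    (Module.mem_annihilator.mp (hn hr) ⟨x, Submodule.mem_span_singleton_self x⟩)⟩

theorem starIndec : GrLC.IsStarIndec R 𝓔 := by
  have h1 : e (Ideal.Quotient.mk p.toIdeal 1) ≠ 0 := fun h => by
    have := he.injective (h.trans (map_zero e).symm)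
    rw [Ideal.Quotient.eq_zero_iff_mem] at this
    exact hp.ne_top ((Ideal.eq_top_iff_one _).mpr this)
  refine ⟨⟨_, 0, h1⟩, fun P Q hP hQ hc => ?_⟩
  by_contra hne
  push Not at hne
  obtain ⟨y, ⟨hyP, s, rfl⟩, hy0⟩ := Submodule.exists_mem_ne_zero_of_ne_bot (he.essential P hP hne.1)
  obtain ⟨z, ⟨hzQ, t, rfl⟩, hz0⟩ := Submodule.exists_mem_ne_zero_of_ne_bot (he.essential Q hQ hne.2)
  obtain ⟨s, rfl⟩ := Ideal.Quotient.mk_surjective s
  obtain ⟨t, rfl⟩ := Ideal.Quotient.mk_surjective t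
  have hm : t • e (Ideal.Quotient.mk p.toIdeal s) ∈ P ⊓ Q := by
    refine ⟨P.smul_mem t hyP, ?_⟩
    rw [apply_mk p he s, smul_comm, ← apply_mk p he t]
    exact Q.smul_mem s hzQ
  rw [hc.inf_eq_bot, Submodule.mem_bot] at hm
  exact hz0 ((apply_mk p he t).trans
    (smul_range_zero p he (smul_eq_zero_range p he hm fun h => hy0 (by rw [h, map_zero])) _))

theorem smul_bijective (hI : GrLC.IsStarInj 𝒜 𝓔) {g : ι} {r : R} (hr : r ∈ 𝒜 g) (hrp : r ∉ p.toIdeal) :
    Function.Bijective (fun x : E => r • x) := by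
  let μ : E →ₗ[R] (shMod 𝒜 𝓔 g).carrier :=
    { toFun := fun x => r • x, map_add' := smul_add r, map_smul' := fun a x => smul_comm r a x }
  have hμ : GrLC.IsGrHom 𝓔 (shMod 𝒜 𝓔 g).gr μ := fun h x hx => by
    show r • x ∈ 𝓔 (h + g)
    rw [add_comm h g]; exact smul_mem 𝒜 𝓔 hr hx
  have hinj : Function.Injective μ := by
    rw [← LinearMap.ker_eq_bot]
    by_contra hne
    refine he.essential _ (ker_homogeneous hμ) hne ((Submodule.eq_bot_iff _).mpr ?_)
    rintro z ⟨hz, s, rfl⟩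
    by_contra h0
    exact hrp (smul_eq_zero_range p he (r := r) hz fun h => h0 (by rw [h, map_zero]))
  refine ⟨hinj, ?_⟩
  have hid : GrLC.IsGrHom 𝓔 𝓔 (LinearMap.id : E →ₗ[R] E) := fun _ _ h => h
  obtain ⟨π, hπ, hπμ⟩ := extend hI hμ hinj hid
  let π' : E →ₗ[R] E := π
  have hk : LinearMap.ker π' = ⊥ := by
    by_contra hne
    refine he.essential _ ?_ hne ((Submodule.eq_bot_iff _).mpr ?_)
    · intro h x hx
      show π' (pr 𝓔 h x) = 0
      have hm : π' (pr 𝓔 h x) = pr 𝓔 (h - g) (π' x) := by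
        clear hx
        induction x using DirectSum.Decomposition.inductionOn 𝓔 with
        | zero => simp
        | @homogeneous j y =>
          have h2 : π' (y : E) ∈ 𝓔 (j - g) :=
            hπ (j - g) (y : E) (show (y : E) ∈ 𝓔 (j - g + g) by rw [sub_add_cancel]; exact y.2)
          by_cases hj : j = h
          · subst hj; rw [pr_same 𝓔 y.2, pr_same 𝓔 h2]
          · rw [pr_ne 𝓔 y.2 hj, map_zero, pr_ne 𝓔 h2 (fun e => hj (by simpa using e))]
        | add a b ha hb => simp [ha, hb]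
      rw [hm, LinearMap.mem_ker.mp hx, map_zero]
    · rintro z ⟨hz, s, rfl⟩
      by_contra h0
      have e1 : r • π' (e s) = 0 := by rw [LinearMap.mem_ker.mp hz, smul_zero]
      have e2 : e s = 0 := by
        have := LinearMap.congr_fun hπμ (e s)
        rw [← map_smul] at e1
        exact this.symm.trans e1
      exact h0 e2
  intro y
  exact ⟨π' y, LinearMap.ker_eq_bot.mp hk (LinearMap.congr_fun hπμ (π' y))⟩

end Groth.Agent.GrStarPrime

namespace Groth.Agent.GrStarPrime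

variable {ι : Type} [AddCommGroup ι] [DecidableEq ι]
variable {R : Type u} [CommRing R] {σ : Type u} [SetLike σ R] [AddSubgroupClass σ R] {𝒜 : ι → σ} [GradedRing 𝒜]
variable {E : Type u} [AddCommGroup E] [Module R E] {τ : Type u} [SetLike τ E] [AddSubgroupClass τ E]
  {𝓔 : ι → τ} [Decomposition 𝓔] [SetLike.GradedSMul 𝒜 𝓔]

/-- a compatible linear order on a finite free grading group -/
theorem exists_order (ι : Type) [AddCommGroup ι] [d : DecidableEq ι] [Module.Free ℤ ι] [Module.Finite ℤ ι] :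
    ∃ l : LinearOrder ι, l.toDecidableEq = d ∧ @IsOrderedCancelAddMonoid ι _ l.toPartialOrder.toPreorder := by
  classical
  let b := Module.Free.chooseBasis ℤ ι
  let eqv := Fintype.equivFin (Module.Free.ChooseBasisIndex ℤ ι)
  let f : ι → Lex (Fin (Fintype.card (Module.Free.ChooseBasisIndex ℤ ι)) → ℤ) :=
    fun x => toLex ((b.reindex eqv).equivFun x)
  have hf : Function.Injective f := fun x y h => (b.reindex eqv).equivFun.injective (toLex.injective h)
  refine ⟨LinearOrder.lift' f hf, Subsingleton.elim _ _, ?_⟩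
  letI := LinearOrder.lift' f hf
  exact Function.Injective.isOrderedCancelAddMonoid f (fun x y => by
    show toLex ((b.reindex eqv).equivFun (x + y)) = _
    rw [map_add]; rfl) (fun {x y} => Iff.rfl)

/-- annihilator of an element -/
def ann (R : Type u) [CommRing R] {E : Type u} [AddCommGroup E] [Module R E] (x : E) : Ideal R :=
  LinearMap.ker (LinearMap.toSpanSingleton R E x)

theorem mem_ann {x : E} {r : R} : r ∈ ann R x ↔ r • x = 0 := Iff.rfl

theorem ann_homogeneous {g : ι} {x : E} (hx : x ∈ 𝓔 g) : (ann R x).IsHomogeneous 𝒜 := fun i r hr => by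
  show pr 𝒜 i r • x = 0
  have := pr_smul_right 𝒜 𝓔 hx r (i + g)
  rw [add_sub_cancel_right, mem_ann.mp hr, map_zero] at this
  exact this.symm

theorem exists_prime_ann [Module.Free ℤ ι] [Module.Finite ℤ ι] [IsNoetherianRing R] [Nontrivial E] :
    ∃ (q : HomogeneousIdeal 𝒜) (g : ι) (x : E), x ∈ 𝓔 g ∧ q.toIdeal.IsPrime ∧ ann R x = q.toIdeal := by
  classical
  let S : Set (Ideal R) := {I | ∃ g, ∃ x ∈ 𝓔 g, x ≠ 0 ∧ ann R x = I}
  have hne : S.Nonempty := by
    obtain ⟨y, hy⟩ := exists_ne (0 : E)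
    obtain ⟨g, hg⟩ : ∃ g, pr 𝓔 g y ≠ 0 := by
      by_contra hc
      push Not at hc
      exact hy (eq_of_pr 𝓔 fun g => by rw [hc g, map_zero])
    exact ⟨_, g, _, pr_mem 𝓔 g y, hg, rfl⟩
  obtain ⟨q, ⟨g, x, hx, hx0, hq⟩, hmax⟩ := set_has_maximal_iff_noetherian.mpr ‹IsNoetherianRing R› S hne
  refine ⟨⟨q, hq ▸ ann_homogeneous hx⟩, g, x, hx, ?_, hq⟩
  have hhom : Ideal.IsHomogeneous 𝒜 q := hq ▸ ann_homogeneous (𝒜 := 𝒜) hx
  obtain ⟨l, hd, hl⟩ := exists_order ι
  subst hd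
  letI := l
  haveI := hl
  show Ideal.IsPrime q
  refine Ideal.IsHomogeneous.isPrime_of_homogeneous_mem_or_mem hhom
    (fun h => hx0 ?_) ?_
  · have : (1 : R) ∈ ann R x := by rw [hq, h]; exact Submodule.mem_top
    simpa [mem_ann] using this
  · intro a b ha _ hab
    obtain ⟨i, hi⟩ := ha
    refine or_iff_not_imp_left.mpr fun hna => ?_
    have hax : a • x ≠ 0 := fun h => hna (hq ▸ mem_ann.mpr h)
    have hle : q ≤ ann R (a • x) := fun c hc => by
      have : c • x = 0 := mem_ann.mp (hq.symm ▸ hc)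
      rw [mem_ann, smul_comm, this, smul_zero]
    have heq : q = ann R (a • x) := le_antisymm hle
      (not_lt_iff_le_imp_ge.mp (hmax _ ⟨i + g, a • x, smul_mem 𝒜 𝓔 hi hx, hax, rfl⟩) hle)
    rw [heq, mem_ann, ← mul_smul, mul_comm]
    exact mem_ann.mp (hq.symm ▸ hab)

/-- the map from `R ⧸ q` given by a homogeneous element with annihilator `q` -/
theorem exists_map (q : HomogeneousIdeal 𝒜) {g₀ : ι} {m : E} (hm : m ∈ 𝓔 g₀) (hann : ann R m = q.toIdeal) :
    ∃ f : (R ⧸ q.toIdeal) →ₗ[R] E, GrLC.IsGrHom (fun j => GrLC.quotGr 𝒜 q (j - g₀)) 𝓔 f ∧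
      Function.Injective f ∧ f 1 = m := by
  refine ⟨Submodule.liftQ q.toIdeal (LinearMap.toSpanSingleton R E m) hann.ge, ?_, ?_, one_smul R m⟩
  · rintro j _ ⟨r, hr, rfl⟩
    show r • m ∈ 𝓔 j
    have := smul_mem 𝒜 𝓔 (show r ∈ 𝒜 (j - g₀) from hr) hm
    rwa [sub_add_cancel] at this
  · exact LinearMap.ker_eq_bot.mp (Submodule.ker_liftQ_eq_bot _ _ _ hann.le)

theorem exists_hull_of_indec [Module.Free ℤ ι] [Module.Finite ℤ ι] [IsNoetherianRing R]
    (hI : GrLC.IsStarInj 𝒜 𝓔) (hind : GrLC.IsStarIndec R 𝓔) :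
    ∃ (q : HomogeneousIdeal 𝒜) (g₀ : ι) (f : (R ⧸ q.toIdeal) →ₗ[R] E),
      q.toIdeal.IsPrime ∧ GrLC.IsStarInjHull 𝒜 (fun j : ι => GrLC.quotGr 𝒜 q (j - g₀)) 𝓔 f := by
  haveI := hind.1
  obtain ⟨q, g, x, hx, hq, hann⟩ := exists_prime_ann (𝒜 := 𝒜) (𝓔 := 𝓔)
  obtain ⟨f, hf, hfinj, hf1⟩ := exists_map q hx hann
  refine ⟨q, g, f, hq, ⟨⟨hfinj, hf, fun P hP hP0 => ?_⟩, hI⟩⟩
  obtain ⟨E', Q, hE', hle, hQ, hc, -, hess⟩ := exists_hull_summand hI (range_homogeneous (quotGr_shift_closure q g) hf)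
  have hQ0 : Q = ⊥ := (hind.2 E' Q hE' hQ hc).resolve_left fun h => by
    have h1 : x ∈ E' := hle ⟨1, hf1⟩
    rw [h, Submodule.mem_bot] at h1
    exact hq.ne_top ((Ideal.eq_top_iff_one _).mpr (hann ▸ mem_ann.mpr (by rw [h1, smul_zero])))
  have htop : E' = ⊤ := by simpa [hQ0] using hc.sup_eq_top
  classical
  obtain ⟨y, hy, hy0⟩ := Submodule.exists_mem_ne_zero_of_ne_bot hP0
  obtain ⟨j, hj⟩ : ∃ j, pr 𝓔 j y ≠ 0 := by
    by_contra hc
    push Not at hc
    exact hy0 (eq_of_pr 𝓔 fun g => by rw [hc g, map_zero])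
  obtain ⟨i, r, -, hr, hne⟩ := hess j _ (htop ▸ Submodule.mem_top) (pr_mem 𝓔 j y) hj
  intro hb
  exact hne ((Submodule.eq_bot_iff _).mp hb _ ⟨P.smul_mem r (hP j hy), hr⟩)

section H

variable {M : Type u} [AddCommGroup M] [Module R M] {τ' : Type u} [SetLike τ' M] [AddSubgroupClass τ' M]
  {ℳ : ι → τ'} [Decomposition ℳ] [SetLike.GradedSMul 𝒜 ℳ] (I : GrLC.StarInjRes 𝒜 ℳ) (a : HomogeneousIdeal 𝒜)

theorem pow_homogeneous (n : ℕ) : (a.toIdeal ^ n).IsHomogeneous 𝒜 := by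
  induction n with
  | zero =>
    rw [pow_zero, Ideal.one_eq_top]
    exact Ideal.IsHomogeneous.top 𝒜
  | succ n ih => rw [pow_succ]; exact ih.mul a.isHomogeneous

omit [Decomposition ℳ] [SetLike.GradedSMul 𝒜 ℳ] in
theorem gam_homogeneous : (GrLC.gam a.toIdeal E).IsHomogeneous 𝓔 := by
  classical
  rintro g x ⟨n, hn⟩
  refine ⟨n, fun r hr => ?_⟩
  show r • pr 𝓔 g x = 0
  rw [← sum_pr 𝒜 r, Finset.sum_smul]
  refine Finset.sum_eq_zero fun i _ => ?_
  have := pr_smul_left 𝒜 𝓔 (pr_mem 𝒜 i r) x (g + i)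
  rw [add_sub_cancel_right] at this
  rw [← this]
  exact (congrArg _ (hn _ (pow_homogeneous a n i hr))).trans (map_zero _)

theorem cocyc_homogeneous (i : ℕ) : (I.cocyc a i).IsHomogeneous (I.X i).gr := fun g x hx =>
  ⟨gam_homogeneous a g hx.1, ker_homogeneous (I.d_grHom i) g hx.2⟩

theorem cobdy_homogeneous (i : ℕ) : (I.cobdy a i).IsHomogeneous (I.X i).gr := by
  cases i with
  | zero =>
    intro g x hx
    rw [show x = 0 from (Submodule.mem_bot R).mp hx]
    simp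
  | succ n =>
    rintro g _ ⟨y, hy, rfl⟩
    show pr (I.X (n + 1)).gr g (I.d n y) ∈ I.cobdy a (n + 1)
    rw [← map_pr (I.d_grHom n)]
    exact ⟨_, gam_homogeneous a g hy, rfl⟩

theorem hgr_isInternal (i : ℕ) : IsInternal (I.Hgr a i) := by
  let Z := subMod 𝒜 (I.X i).gr (cocyc_homogeneous I a i)
  let sb : Z.carrier →ₗ[R] (I.X i).carrier := (I.cocyc a i).subtype
  have hsb : GrLC.IsGrHom Z.gr (I.X i).gr sb := subtype_grHom 𝒜 (I.X i).gr (cocyc_homogeneous I a i)
  let B : Submodule R Z.carrier := (I.cobdy a i).comap sb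
  have hB : B.IsHomogeneous Z.gr := fun g x hx => by
    show sb (pr Z.gr g x) ∈ I.cobdy a i
    rw [map_pr hsb]
    exact cobdy_homogeneous I a i g hx
  have e : I.Hgr a i = quoGr Z.gr B := by
    funext g
    ext x
    exact ⟨fun ⟨z, hz, hx⟩ => ⟨z, hz, hx⟩, fun ⟨z, hz, hx⟩ => ⟨z, hz, hx⟩⟩
  rw [e]
  exact quoGr_isInternal Z.gr hB

end H

end Groth.Agent.GrStarPrime
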