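/-
Heights of primes and their homogeneous cores in a ℤ-graded ring; dimension of a *local ring
-/
import Groth.Prelude.Def_GrLC
import Groth.Agent.S7719
import Mathlib

set_option autoImplicit false
open DirectSum LaurentPolynomial

universe u

namespace Groth.Agent.GrCoreHeight

variable {R : Type u} [CommRing R] {σ : Type u} [SetLike σ R] [AddSubgroupClass σ R] (𝒜 : ℤ → σ) [GradedRing 𝒜]

section Gap

variable {F : Type u} [Field F] (ψ : R →+* F)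

/-- degree `n` fractions of homogeneous elements with nonzero image -/
def Frac (n : ℤ) (z : F) : Prop :=
  ∃ (i j : ℤ) (a b : R), a ∈ 𝒜 i ∧ b ∈ 𝒜 j ∧ ψ b ≠ 0 ∧ i = n + j ∧ z = ψ a / ψ b

/-- nonzero homogeneous image -/
def HomNZ (b : R) : Prop := SetLike.IsHomogeneousElem 𝒜 b ∧ ψ b ≠ 0

theorem homNZ_mul {b b' : R} (h : HomNZ 𝒜 ψ b) (h' : HomNZ 𝒜 ψ b') : HomNZ 𝒜 ψ (b * b') := by
  obtain ⟨⟨i, hi⟩, hb⟩ := h
  obtain ⟨⟨j, hj⟩, hb'⟩ := h'
  exact ⟨⟨i + j, SetLike.mul_mem_graded hi hj⟩, by rw [map_mul]; exact mul_ne_zero hb hb'⟩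

theorem homNZ_one : HomNZ 𝒜 ψ 1 := ⟨⟨0, SetLike.one_mem_graded 𝒜⟩, by rw [map_one]; exact one_ne_zero⟩

theorem frac_mul {n m : ℤ} {z w : F} (hz : Frac 𝒜 ψ n z) (hw : Frac 𝒜 ψ m w) : Frac 𝒜 ψ (n + m) (z * w) := by
  obtain ⟨i, j, a, b, ha, hb, hb0, rfl, rfl⟩ := hz
  obtain ⟨i', j', a', b', ha', hb', hb0', rfl, rfl⟩ := hw
  refine ⟨_, j + j', a * a', b * b', SetLike.mul_mem_graded ha ha', SetLike.mul_mem_graded hb hb',
    by rw [map_mul]; exact mul_ne_zero hb0 hb0', by ring, ?_⟩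
  rw [map_mul, map_mul, div_mul_div_comm]

theorem frac_add {n : ℤ} {z w : F} (hz : Frac 𝒜 ψ n z) (hw : Frac 𝒜 ψ n w) : Frac 𝒜 ψ n (z + w) := by
  obtain ⟨i, j, a, b, ha, hb, hb0, rfl, rfl⟩ := hz
  obtain ⟨i', j', a', b', ha', hb', hb0', rfl, rfl⟩ := hw
  refine ⟨n + (j + j'), j + j', a * b' + b * a', b * b', ?_, SetLike.mul_mem_graded hb hb',
    by rw [map_mul]; exact mul_ne_zero hb0 hb0', rfl, ?_⟩
  · have h1 := SetLike.mul_mem_graded (A := 𝒜) ha hb'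
    have h2 := SetLike.mul_mem_graded (A := 𝒜) hb ha'
    rw [show n + j + j' = n + (j + j') by ring] at h1
    rw [show j + (n + j') = n + (j + j') by ring] at h2
    exact add_mem h1 h2
  · rw [map_add, map_mul, map_mul, map_mul, div_add_div _ _ hb0 hb0']

theorem frac_neg {n : ℤ} {z : F} (hz : Frac 𝒜 ψ n z) : Frac 𝒜 ψ n (-z) := by
  obtain ⟨i, j, a, b, ha, hb, hb0, rfl, rfl⟩ := hz
  exact ⟨_, j, -a, b, neg_mem ha, hb, hb0, rfl, by rw [map_neg, neg_div]⟩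

theorem frac_inv {n : ℤ} {z : F} (hz : Frac 𝒜 ψ n z) (h0 : z ≠ 0) : Frac 𝒜 ψ (-n) z⁻¹ := by
  obtain ⟨i, j, a, b, ha, hb, hb0, rfl, rfl⟩ := hz
  exact ⟨j, n + j, b, a, hb, ha, fun h => h0 (by rw [h, zero_div]), by ring, by rw [inv_div]⟩

theorem frac_one : Frac 𝒜 ψ 0 1 :=
  ⟨0, 0, 1, 1, SetLike.one_mem_graded 𝒜, SetLike.one_mem_graded 𝒜, by rw [map_one]; exact one_ne_zero,
    (add_zero 0).symm, by rw [map_one, div_one]⟩

theorem frac_zero (n : ℤ) : Frac 𝒜 ψ n 0 :=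
  ⟨n + 0, 0, 0, 1, zero_mem _, SetLike.one_mem_graded 𝒜, by rw [map_one]; exact one_ne_zero, rfl,
    by rw [map_zero, zero_div]⟩

theorem frac_pow {n : ℤ} {z : F} (hz : Frac 𝒜 ψ n z) : ∀ l : ℕ, Frac 𝒜 ψ (l * n) (z ^ l)
  | 0 => by rw [Nat.cast_zero, zero_mul, pow_zero]; exact frac_one 𝒜 ψ
  | l + 1 => by
    rw [Nat.cast_succ, add_mul, one_mul, pow_succ]
    exact frac_mul 𝒜 ψ (frac_pow hz l) hz

theorem frac_zpow {n : ℤ} {z : F} (hz : Frac 𝒜 ψ n z) (h0 : z ≠ 0) (l : ℤ) : Frac 𝒜 ψ (l * n) (z ^ l) := by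
  obtain ⟨m, rfl | rfl⟩ := l.eq_nat_or_neg
  · rw [zpow_natCast]; exact frac_pow 𝒜 ψ hz m
  · rw [zpow_neg, zpow_natCast, neg_mul]
    exact frac_inv 𝒜 ψ (frac_pow 𝒜 ψ hz m) (pow_ne_zero m h0)

/-- the degree zero subfield -/
def K0 : Subfield F where
  carrier := {z | Frac 𝒜 ψ 0 z}
  mul_mem' h h' := by simpa using frac_mul 𝒜 ψ h h'
  one_mem' := frac_one 𝒜 ψ
  add_mem' h h' := frac_add 𝒜 ψ h h'
  zero_mem' := frac_zero 𝒜 ψ 0
  neg_mem' h := frac_neg 𝒜 ψ h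
  inv_mem' z h := by
    rcases eq_or_ne z 0 with rfl | h0
    · rw [inv_zero]; exact h
    · simpa using frac_inv 𝒜 ψ h h0

/-- the possible degrees -/
def degs : AddSubgroup ℤ where
  carrier := {n | ∃ z, z ≠ 0 ∧ Frac 𝒜 ψ n z}
  add_mem' := fun ⟨z, hz, h⟩ ⟨w, hw, h'⟩ => ⟨z * w, mul_ne_zero hz hw, frac_mul 𝒜 ψ h h'⟩
  zero_mem' := ⟨1, one_ne_zero, frac_one 𝒜 ψ⟩
  neg_mem' := fun ⟨z, hz, h⟩ => ⟨z⁻¹, inv_ne_zero hz, frac_inv 𝒜 ψ h hz⟩

/-- there is no prime strictly between two comparable primes with the same homogeneous elements -/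
theorem no_gap_aux {q Q P : Ideal R} [q.IsPrime] [Q.IsPrime] [P.IsPrime] (hker : RingHom.ker ψ = q)
    (hqQ : q ≤ Q) (hQP : Q ≤ P) (hhom : ∀ x, SetLike.IsHomogeneousElem 𝒜 x → x ∈ P → x ∈ q) : Q = q ∨ Q = P := by
  classical
  by_contra hne
  push Not at hne
  obtain ⟨hne1, hne2⟩ := hne
  obtain ⟨d, hd⟩ := Int.subgroup_cyclic (degs 𝒜 ψ)
  obtain ⟨t, ht0, ht⟩ : d ∈ degs 𝒜 ψ := hd ▸ AddSubgroup.subset_closure (Set.mem_singleton d)
  let φ : (K0 𝒜 ψ)[T;T⁻¹] →+* F := LaurentPolynomial.eval₂ (K0 𝒜 ψ).subtype (Units.mk0 t ht0)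
  have hφ : ∀ (c : K0 𝒜 ψ) (l : ℤ), φ (C c * T l) = (c : F) * t ^ l := fun c l => by
    simp [φ, map_mul, Units.val_zpow_eq_zpow_val]
  -- homogeneous images and their inverses are monomials
  have hfrac : ∀ (n : ℤ) (z : F), Frac 𝒜 ψ n z → z ∈ φ.range := by
    intro n z hz
    rcases eq_or_ne z 0 with rfl | h0
    · exact zero_mem _
    have hn : n ∈ degs 𝒜 ψ := ⟨z, h0, hz⟩
    rw [hd, AddSubgroup.mem_closure_singleton] at hn
    obtain ⟨l, hl⟩ := hn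
    have hc : Frac 𝒜 ψ 0 (z * (t ^ l)⁻¹) := by
      have := frac_mul 𝒜 ψ hz (frac_inv 𝒜 ψ (frac_zpow 𝒜 ψ ht ht0 l) (zpow_ne_zero l ht0))
      rwa [← smul_eq_mul, hl, add_neg_cancel] at this
    refine ⟨C (⟨_, hc⟩ : K0 𝒜 ψ) * T l, ?_⟩
    rw [hφ]
    exact inv_mul_cancel_right₀ (zpow_ne_zero l ht0) z
  have hψ : ∀ r, ψ r ∈ φ.range := fun r => by
    rw [← sum_support_decompose 𝒜 r, map_sum]
    exact Subring.sum_mem _ fun i _ => hfrac i _ ⟨i, 0, _, 1, (decompose 𝒜 r i).2, SetLike.one_mem_graded 𝒜,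
      by rw [map_one]; exact one_ne_zero, (add_zero i).symm, by rw [map_one, div_one]⟩
  -- every element of the range is a fraction
  have hrange : ∀ f, ∃ s b, HomNZ 𝒜 ψ b ∧ φ f = ψ s / ψ b := by
    intro f
    induction f using LaurentPolynomial.induction_on' with
    | add f g hf hg =>
      obtain ⟨s, b, hb, hs⟩ := hf
      obtain ⟨s', b', hb', hs'⟩ := hg
      refine ⟨s * b' + b * s', b * b', homNZ_mul 𝒜 ψ hb hb', ?_⟩
      rw [map_add, hs, hs', map_add, map_mul, map_mul, map_mul, div_add_div _ _ hb.2 hb'.2]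
    | C_mul_T l c =>
      obtain ⟨i, j, a, b, ha, hb, hb0, -, he⟩ := frac_mul 𝒜 ψ (show Frac 𝒜 ψ 0 (c : F) from c.2) (frac_zpow 𝒜 ψ ht ht0 l)
      exact ⟨a, b, ⟨⟨j, hb⟩, hb0⟩, (hφ c l).trans he⟩
  have hnotmem : ∀ (P' : Ideal R), P' ≤ P → ∀ b, HomNZ 𝒜 ψ b → b ∉ P' := fun P' hP' b hb h =>
    hb.2 (RingHom.mem_ker.mp (hker.ge (hhom b hb.1 (hP' h))))
  let hat : ∀ (P' : Ideal R), Ideal (K0 𝒜 ψ)[T;T⁻¹] := fun P' =>
    { carrier := {f | ∃ s ∈ P', ∃ b, HomNZ 𝒜 ψ b ∧ φ f = ψ s / ψ b}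
      add_mem' := by
        rintro f g ⟨s, hs, b, hb, h⟩ ⟨s', hs', b', hb', h'⟩
        refine ⟨s * b' + b * s', P'.add_mem (P'.mul_mem_right _ hs) (P'.mul_mem_left _ hs'), b * b',
          homNZ_mul 𝒜 ψ hb hb', ?_⟩
        rw [map_add, h, h', map_add, map_mul, map_mul, map_mul, div_add_div _ _ hb.2 hb'.2]
      zero_mem' := ⟨0, P'.zero_mem, 1, homNZ_one 𝒜 ψ, by rw [map_zero, map_zero, zero_div]⟩
      smul_mem' := by
        rintro g f ⟨s, hs, b, hb, h⟩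
        obtain ⟨s', b', hb', h'⟩ := hrange g
        refine ⟨s' * s, P'.mul_mem_left _ hs, b' * b, homNZ_mul 𝒜 ψ hb' hb, ?_⟩
        rw [smul_eq_mul, map_mul, h, h', map_mul, map_mul, div_mul_div_comm] }
  have hback : ∀ (P' : Ideal R) [P'.IsPrime], q ≤ P' → P' ≤ P → ∀ f s b, HomNZ 𝒜 ψ b → φ f = ψ s / ψ b →
      f ∈ hat P' → s ∈ P' := by
    rintro P' _ hq' hP' f s b hb h ⟨s', hs', b', hb', h'⟩
    rw [h, div_eq_div_iff hb.2 hb'.2, ← map_mul, ← map_mul] at h'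
    have : s * b' - s' * b ∈ P' := hq' (hker.le (RingHom.mem_ker.mpr (by rw [map_sub, h', sub_self])))
    have h2 : s * b' ∈ P' := by simpa using P'.add_mem this (P'.mul_mem_right b hs')
    exact ((‹P'.IsPrime›.mem_or_mem h2).resolve_right (hnotmem P' hP' b' hb'))
  have hprime : ∀ (P' : Ideal R) [P'.IsPrime], q ≤ P' → P' ≤ P → (hat P').IsPrime := by
    intro P' _ hq' hP'
    refine ⟨fun htop => ?_, fun {f g} hfg => ?_⟩
    · exact ‹P'.IsPrime›.ne_top ((Ideal.eq_top_iff_one _).mpr (hback P' hq' hP' 1 1 1 (homNZ_one 𝒜 ψ)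
        (by rw [map_one, map_one, div_one]) (htop ▸ Submodule.mem_top)))
    · obtain ⟨s, b, hb, hf⟩ := hrange f
      obtain ⟨s', b', hb', hg⟩ := hrange g
      rcases ‹P'.IsPrime›.mem_or_mem (hback P' hq' hP' (f * g) (s * s') (b * b') (homNZ_mul 𝒜 ψ hb hb')
        (by rw [map_mul, hf, hg, map_mul, map_mul, div_mul_div_comm]) hfg) with h | h
      · exact Or.inl ⟨s, h, b, hb, hf⟩
      · exact Or.inr ⟨s', h, b', hb', hg⟩
  have hlt : ∀ (P₁ P₂ : Ideal R) [P₁.IsPrime], q ≤ P₁ → P₁ < P₂ → P₂ ≤ P → hat P₁ < hat P₂ := by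
    intro P₁ P₂ _ hq' hlt hP'
    have hle : hat P₁ ≤ hat P₂ := by
      intro f hf
      obtain ⟨s, hs, b, hb, h⟩ := hf
      exact ⟨s, hlt.le hs, b, hb, h⟩
    refine lt_of_le_of_ne hle fun he => ?_
    obtain ⟨r, hr, hr1⟩ := SetLike.exists_of_lt hlt
    obtain ⟨f, hf⟩ := hψ r
    have h1 : φ f = ψ r / ψ 1 := by rw [hf, map_one, div_one]
    exact hr1 (hback P₁ hq' (hlt.le.trans hP') f r 1 (homNZ_one 𝒜 ψ) h1
      (he ▸ ⟨r, hr, 1, homNZ_one 𝒜 ψ, h1⟩))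
  let inc := algebraMap (Polynomial (K0 𝒜 ψ)) (K0 𝒜 ψ)[T;T⁻¹]
  have hinj : ∀ I J : Ideal (K0 𝒜 ψ)[T;T⁻¹], I < J → I.comap inc < J.comap inc := fun I J h =>
    lt_of_le_of_ne (Ideal.comap_mono h.le) fun e => h.ne (by
      rw [← IsLocalization.map_under (Submonoid.powers (Polynomial.X : (Polynomial (K0 𝒜 ψ)))) (K0 𝒜 ψ)[T;T⁻¹] I,
        ← IsLocalization.map_under (Submonoid.powers (Polynomial.X : (Polynomial (K0 𝒜 ψ)))) (K0 𝒜 ψ)[T;T⁻¹] J]
      exact congrArg _ e)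
  haveI := hprime Q hqQ hQP
  haveI := hprime P (hqQ.trans hQP) le_rfl
  have h1 := hinj _ _ (hlt q Q le_rfl (lt_of_le_of_ne hqQ (Ne.symm hne1)) hQP)
  have h2 := hinj _ _ (hlt Q P hqQ (lt_of_le_of_ne hQP hne2) le_rfl)
  have hmax : ((hat Q).comap inc).IsMaximal :=
    IsPrime.to_maximal_ideal (fun h => absurd (h ▸ h1) not_lt_bot)
  exact h2.ne (hmax.eq_of_le (Ideal.IsPrime.ne_top inferInstance) h2.le)

end Gap

/-- there is no prime strictly between a prime and its homogeneous core -/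
theorem no_gap {Q P : Ideal R} [Q.IsPrime] [P.IsPrime] (h1 : (P.homogeneousCore 𝒜).toIdeal ≤ Q) (h2 : Q ≤ P) :
    Q = (P.homogeneousCore 𝒜).toIdeal ∨ Q = P := by
  haveI : (P.homogeneousCore 𝒜).toIdeal.IsPrime := Ideal.IsPrime.homogeneousCore inferInstance
  refine no_gap_aux 𝒜 ((algebraMap (R ⧸ (P.homogeneousCore 𝒜).toIdeal) (FractionRing (R ⧸ (P.homogeneousCore 𝒜).toIdeal))).comp
    (Ideal.Quotient.mk _)) ?_ h1 h2 fun x hx hxP => Ideal.mem_homogeneousCore_of_homogeneous_of_mem hx hxP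
  rw [← RingHom.comap_ker, (RingHom.injective_iff_ker_eq_bot _).mp (IsFractionRing.injective _ _),
    ← RingHom.ker_eq_comap_bot, Ideal.mk_ker]

theorem height_le_core_add_one (P : Ideal R) [P.IsPrime] :
    P.height ≤ (P.homogeneousCore 𝒜).toIdeal.height + 1 := by
  suffices H : ∀ (n : ℕ) (P : Ideal R) [P.IsPrime], (P.homogeneousCore 𝒜).toIdeal.height ≤ n → P.height ≤ n + 1 by
    generalize hh : (P.homogeneousCore 𝒜).toIdeal.height = h
    induction h using ENat.recTopCoe with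
    | top => rw [top_add]; exact le_top
    | coe n => exact H n P hh.le
  intro n
  induction n using Nat.strong_induction_on with
  | _ n ih =>
    intro P _ hn
    rw [show ((n : ℕ∞) + 1) = ((n + 1 : ℕ) : ℕ∞) from (Nat.cast_succ n).symm, Ideal.height_le_iff]
    intro Q hQ hQP
    haveI : (Q.homogeneousCore 𝒜).toIdeal.IsPrime := Ideal.IsPrime.homogeneousCore hQ
    haveI : (P.homogeneousCore 𝒜).toIdeal.IsPrime := Ideal.IsPrime.homogeneousCore inferInstance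
    have hle : (Q.homogeneousCore 𝒜).toIdeal ≤ (P.homogeneousCore 𝒜).toIdeal := Ideal.homogeneousCore_mono 𝒜 hQP.le
    rcases eq_or_lt_of_le hle with he | hlt
    · rcases no_gap 𝒜 (Q := Q) (P := P) (he ▸ Ideal.toIdeal_homogeneousCore_le 𝒜 Q) hQP.le with h | h
      · rw [h]; exact hn.trans_lt (by exact_mod_cast n.lt_succ_self)
      · exact absurd h hQP.ne
    · have h1 := (Ideal.height_add_one_le_of_lt_of_isPrime hlt).trans hn
      obtain ⟨m, hm⟩ := ENat.ne_top_iff_exists.mp (ne_top_of_le_ne_top (ENat.coe_ne_top n) (le_self_add.trans h1))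
      rw [← hm] at h1
      have hmn : m + 1 ≤ n := by exact_mod_cast h1
      exact (ih m (by omega) Q hm.ge).trans_lt (by exact_mod_cast (by omega : m + 1 < n + 1))

theorem exists_coatom_ge [IsNoetherianRing R] {J : HomogeneousIdeal 𝒜} (hJ : J ≠ ⊤) :
    ∃ n : HomogeneousIdeal 𝒜, IsCoatom n ∧ J ≤ n := by
  obtain ⟨I, ⟨⟨n, hn, hJn, rfl⟩, hmax⟩⟩ : ∃ I, Maximal (fun I => ∃ n : HomogeneousIdeal 𝒜, n ≠ ⊤ ∧ J ≤ n ∧ n.toIdeal = I) I := by
    obtain ⟨I, hI, hmax⟩ := set_has_maximal_iff_noetherian.mpr ‹IsNoetherianRing R›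
      {I : Ideal R | ∃ n : HomogeneousIdeal 𝒜, n ≠ ⊤ ∧ J ≤ n ∧ n.toIdeal = I} ⟨_, J, hJ, le_rfl, rfl⟩
    exact ⟨I, hI, fun I' hI' hle => not_not.mp fun hne => hmax I' hI' (lt_of_le_of_ne hle fun e => hne e.ge)⟩
  refine ⟨n, ⟨hn, fun k hk => by_contra fun hk' => ?_⟩, hJn⟩
  have := hmax ⟨k, hk', hJn.trans hk.le, rfl⟩ (hk.le)
  exact hk.not_ge this

variable {𝒜}

/-- in a positively graded *local ring the dimension is the height of the *maximal ideal -/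
theorem height_eq_dim {R : Type u} [CommRing R] [IsNoetherianRing R] {𝒜 : ℤ → AddSubgroup R} [GradedRing 𝒜]
    (hpos : ∀ n : ℤ, n < 0 → 𝒜 n = ⊥) {m : HomogeneousIdeal 𝒜} (hm : GrLC.IsStarLocal 𝒜 m) :
    ((m.toIdeal.height : ℕ∞) : WithBot ℕ∞) = ringKrullDim R := by
  classical
  haveI hmp : m.toIdeal.IsPrime := Groth.Agent.S7719.result R 𝒜 m hm.1
  have hplus : ∀ i : ℤ, i ≠ 0 → ∀ x ∈ 𝒜 i, x ∈ m.toIdeal := by
    intro i hi x hx
    rcases lt_or_gt_of_ne hi with hi | hi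
    · rw [hpos i hi, AddSubgroup.mem_bot] at hx
      rw [hx]; exact zero_mem _
    by_contra hxm
    let J : HomogeneousIdeal 𝒜 := ⟨Ideal.span {x}, Ideal.homogeneous_span 𝒜 _ (by rintro z (rfl : z = x); exact ⟨i, hx⟩)⟩
    have htop : m ⊔ J = ⊤ := hm.1.2 _ (lt_of_le_of_ne le_sup_left fun e => hxm (by
      have : J ≤ m := e ▸ le_sup_right
      exact this (Ideal.mem_span_singleton_self x)))
    have h1 : (1 : R) ∈ m.toIdeal ⊔ Ideal.span {x} := by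
      have : (1 : R) ∈ (m ⊔ J).toIdeal := by rw [htop]; simp
      rwa [HomogeneousIdeal.toIdeal_sup] at this
    obtain ⟨a, ha, z, hz, haz⟩ := Submodule.mem_sup.mp h1
    obtain ⟨c, rfl⟩ := Ideal.mem_span_singleton.mp hz
    have h2 : ((decompose 𝒜 (x * c)) 0 : R) = x * (decompose 𝒜 c (0 - i) : R) := by
      have := coe_decompose_mul_add_of_left_mem 𝒜 (b := c) (j := 0 - i) hx
      rwa [add_sub_cancel] at this
    have h3 : (decompose 𝒜 c (0 - i) : R) = 0 := by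
      have h := (decompose 𝒜 c (0 - i)).2
      exact (AddSubgroup.eq_bot_iff_forall _).mp (hpos (0 - i) (by omega)) _ h
    rw [h3, mul_zero] at h2
    have h4 : ((decompose 𝒜 (1 : R)) 0 : R) = 1 := decompose_of_mem_same 𝒜 (SetLike.one_mem_graded 𝒜)
    rw [← haz, decompose_add, DFinsupp.add_apply, AddSubgroup.coe_add, h2, add_zero, haz] at h4
    exact hmp.ne_top ((Ideal.eq_top_iff_one _).mpr (h4 ▸ m.isHomogeneous 0 ha))
  refine le_antisymm (Ideal.height_le_ringKrullDim_of_ne_top hmp.ne_top) ?_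
  rw [ringKrullDim_le_iff_isMaximal_height_le]
  intro M hM
  refine WithBot.coe_le_coe.mpr ?_
  haveI : (M.homogeneousCore 𝒜).toIdeal.IsPrime := Ideal.IsPrime.homogeneousCore hM.isPrime
  obtain ⟨n, hn, hle⟩ := exists_coatom_ge 𝒜 (J := M.homogeneousCore 𝒜) fun h =>
    Ideal.IsPrime.ne_top ‹_› (by rw [h]; simp)
  rw [hm.2 n hn] at hle
  rcases eq_or_lt_of_le (show (M.homogeneousCore 𝒜).toIdeal ≤ m.toIdeal from hle) with he | hlt
  · refine le_of_eq (congrArg Ideal.height ?_)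
    have hmM : m.toIdeal ≤ M := he ▸ Ideal.toIdeal_homogeneousCore_le 𝒜 M
    refine le_antisymm (fun r hr => ?_) hmM
    have h0 : r - (decompose 𝒜 r 0 : R) ∈ m.toIdeal := by
      rw [m.isHomogeneous.mem_iff]
      intro i
      rcases eq_or_ne i 0 with rfl | hi
      · rw [decompose_sub, DirectSum.sub_apply, AddSubgroupClass.coe_sub, decompose_coe, DirectSum.of_eq_same, sub_self]
        exact zero_mem _
      · exact hplus i hi _ ((decompose 𝒜 (r - (decompose 𝒜 r 0 : R)) i).2)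
    have h00 : (decompose 𝒜 r 0 : R) ∈ m.toIdeal := by
      rw [← he]
      exact Ideal.mem_homogeneousCore_of_homogeneous_of_mem ⟨0, (decompose 𝒜 r 0).2⟩
        (by simpa using M.sub_mem hr (hmM h0))
    simpa using m.toIdeal.add_mem h0 h00
  · exact (height_le_core_add_one 𝒜 M).trans (Ideal.height_add_one_le_of_lt_of_isPrime hlt)

end Groth.Agent.GrCoreHeight
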