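/-
Graded free modules and homogeneous minimal generators
-/
import Groth.Prelude.Def_GrSyz
import Mathlib

set_option autoImplicit false
open DirectSum

universe u

namespace Groth.Agent.GrFreeGraded

variable {k R : Type u} [CommRing k] [CommRing R] [Algebra k R] (𝒜 : ℤ → Submodule k R) [GradedAlgebra 𝒜]

section Module

variable {M : Type u} [AddCommGroup M] [Module k M] [Module R M] (ℳ : ℤ → Submodule k M)
  [Decomposition ℳ]

/-- the component of degree `n` -/
def proj (n : ℤ) (x : M) : M := (decompose ℳ x n : M)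

theorem proj_mem (n : ℤ) (x : M) : proj ℳ n x ∈ ℳ n := (decompose ℳ x n).2

theorem proj_same {n : ℤ} {x : M} (hx : x ∈ ℳ n) : proj ℳ n x = x := decompose_of_mem_same ℳ hx

theorem proj_ne {n m : ℤ} {x : M} (hx : x ∈ ℳ n) (h : n ≠ m) : proj ℳ m x = 0 :=
  decompose_of_mem_ne ℳ hx h

theorem proj_add (n : ℤ) (x y : M) : proj ℳ n (x + y) = proj ℳ n x + proj ℳ n y := by
  simp [proj, decompose_add]

theorem proj_zero (n : ℤ) : proj ℳ n (0 : M) = 0 := by simp [proj]

theorem proj_sum {α : Type*} (n : ℤ) (s : Finset α) (f : α → M) :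
    proj ℳ n (∑ a ∈ s, f a) = ∑ a ∈ s, proj ℳ n (f a) := by
  classical
  induction s using Finset.induction with
  | empty => simp [proj_zero]
  | insert a s ha ih => rw [Finset.sum_insert ha, Finset.sum_insert ha, proj_add, ih]

theorem eq_of_proj {x y : M} (h : ∀ n, proj ℳ n x = proj ℳ n y) : x = y := by
  classical
  refine (decompose ℳ).injective (DFinsupp.ext fun n => Subtype.ext (h n))

variable [SetLike.GradedSMul 𝒜 ℳ]

theorem smul_mem {i j : ℤ} {a : R} {x : M} (ha : a ∈ 𝒜 i) (hx : x ∈ ℳ j) : a • x ∈ ℳ (i + j) :=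
  SetLike.GradedSMul.smul_mem (B := ℳ) ha hx

theorem proj_smul_left {i : ℤ} {a : R} (ha : a ∈ 𝒜 i) (x : M) (n : ℤ) :
    proj ℳ n (a • x) = a • proj ℳ (n - i) x := by
  classical
  induction x using DirectSum.Decomposition.inductionOn ℳ with
  | zero => simp [proj_zero]
  | @homogeneous j y =>
    have hm := smul_mem 𝒜 ℳ ha y.2
    by_cases h : i + j = n
    · subst h; rw [proj_same ℳ hm, show i + j - i = j by omega, proj_same ℳ y.2]
    · rw [proj_ne ℳ hm h, proj_ne ℳ y.2 (by omega), smul_zero]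
  | add y z hy hz => simp [smul_add, proj_add, hy, hz]

theorem proj_smul_right {j : ℤ} {x : M} (hx : x ∈ ℳ j) (r : R) (n : ℤ) :
    proj ℳ n (r • x) = proj 𝒜 (n - j) r • x := by
  classical
  induction r using DirectSum.Decomposition.inductionOn 𝒜 with
  | zero => simp [proj_zero]
  | @homogeneous i a =>
    have hm := smul_mem 𝒜 ℳ a.2 hx
    by_cases h : i + j = n
    · subst h; rw [proj_same ℳ hm, show i + j - j = i by omega, proj_same 𝒜 a.2]
    · rw [proj_ne ℳ hm h, proj_ne 𝒜 a.2 (by omega), zero_smul]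
  | add a b ha hb => simp [add_smul, proj_add, ha, hb]

end Module

section Hom

variable {M N : Type u} [AddCommGroup M] [Module k M] [Module R M] [AddCommGroup N] [Module k N]
  [Module R N] (ℳ : ℤ → Submodule k M) [Decomposition ℳ] (𝒩 : ℤ → Submodule k N) [Decomposition 𝒩]

/-- a linear map which preserves degrees -/
def IsGr (f : M →ₗ[R] N) : Prop := ∀ (n : ℤ), ∀ x ∈ ℳ n, f x ∈ 𝒩 n

variable {ℳ 𝒩} {f : M →ₗ[R] N} (hf : IsGr ℳ 𝒩 f)
include hf

theorem IsGr.map_proj (n : ℤ) (x : M) : f (proj ℳ n x) = proj 𝒩 n (f x) := by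
  classical
  induction x using DirectSum.Decomposition.inductionOn ℳ with
  | zero => simp [proj_zero]
  | @homogeneous j y =>
    by_cases h : j = n
    · subst h; rw [proj_same ℳ y.2, proj_same 𝒩 (hf j _ y.2)]
    · rw [proj_ne ℳ y.2 h, proj_ne 𝒩 (hf j _ y.2) h, map_zero]
  | add y z hy hz => simp [proj_add, hy, hz]

theorem IsGr.ker_proj (n : ℤ) {x : M} (hx : x ∈ LinearMap.ker f) : proj ℳ n x ∈ LinearMap.ker f := by
  rw [LinearMap.mem_ker] at hx ⊢
  rw [hf.map_proj, hx, proj_zero]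

theorem IsGr.range_proj (n : ℤ) {y : N} (hy : y ∈ LinearMap.range f) :
    proj 𝒩 n y ∈ LinearMap.range f := by
  obtain ⟨x, rfl⟩ := hy
  exact ⟨proj ℳ n x, hf.map_proj n x⟩

/-- homogeneous elements of the image have homogeneous preimages -/
theorem IsGr.exists_preimage {n : ℤ} {y : N} (hy : y ∈ 𝒩 n) (h : y ∈ LinearMap.range f) :
    ∃ x ∈ ℳ n, f x = y := by
  obtain ⟨x, rfl⟩ := h
  exact ⟨proj ℳ n x, proj_mem ℳ n x, by rw [hf.map_proj, proj_same 𝒩 hy]⟩

end Hom

section Free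

/-- the grading of a free module with a basis of given degrees -/
def fGr {r : ℕ} (δ : Fin r → ℤ) : ℤ → Submodule k (Fin r → R) :=
  fun n => Submodule.pi Set.univ fun b => 𝒜 (n - δ b)

theorem mem_fGr {r : ℕ} {δ : Fin r → ℤ} {n : ℤ} {v : Fin r → R} :
    v ∈ fGr 𝒜 δ n ↔ ∀ b, v b ∈ 𝒜 (n - δ b) := by simp [fGr]

theorem fGr_isInternal {r : ℕ} (δ : Fin r → ℤ) : DirectSum.IsInternal (fGr 𝒜 δ) := by
  classical
  constructor
  · suffices key : ∀ x, DirectSum.coeAddMonoidHom (fGr 𝒜 δ) x = 0 → x = 0 by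
      intro x y hxy
      rw [← sub_eq_zero]
      exact key _ (by rw [map_sub, hxy, sub_self])
    intro x hx
    refine DFinsupp.ext fun n => Subtype.ext (funext fun b => ?_)
    show (x n : Fin r → R) b = 0
    have e : (∑ m ∈ DFinsupp.support x, ((x m : Fin r → R) b)) = 0 := by
      have h2 := congrFun hx b
      rw [DirectSum.coeAddMonoidHom_eq_dfinsuppSum, DFinsupp.sum, Finset.sum_apply] at h2
      exact h2
    have e2 := congrArg (proj 𝒜 (n - δ b)) e
    rw [proj_sum, proj_zero, Finset.sum_eq_single n] at e2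
    · rwa [proj_same 𝒜 ((mem_fGr 𝒜).mp (x n).2 b)] at e2
    · intro m _ hm
      exact proj_ne 𝒜 ((mem_fGr 𝒜).mp (x m).2 b) (by omega)
    · intro hn
      rw [DFinsupp.notMem_support_iff] at hn
      simp [hn, proj_zero]
  · intro v
    have hv : v = ∑ b, Pi.single b (v b) := (Finset.univ_sum_single v).symm
    rw [hv]
    refine (AddMonoidHom.mem_mrange (f := DirectSum.coeAddMonoidHom (fGr 𝒜 δ))).mp ?_
    refine sum_mem fun b _ => ?_
    generalize v b = a
    induction a using DirectSum.Decomposition.inductionOn 𝒜 with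
    | zero => simp
    | @homogeneous i a =>
      refine ⟨DirectSum.of (fun m => fGr 𝒜 δ m) (i + δ b) ⟨Pi.single b (a : R), ?_⟩, ?_⟩
      · rw [mem_fGr]
        intro c
        by_cases h : c = b
        · subst h; rw [Pi.single_eq_same, show i + δ c - δ c = i by omega]; exact a.2
        · rw [Pi.single_eq_of_ne h]; exact Submodule.zero_mem _
      · exact DirectSum.coeAddMonoidHom_of (fGr 𝒜 δ) _ _
    | add a c ha hc => rw [Pi.single_add]; exact add_mem ha hc

noncomputable instance fGrDecomposition {r : ℕ} (δ : Fin r → ℤ) :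
    DirectSum.Decomposition (fGr 𝒜 δ) := (fGr_isInternal 𝒜 δ).chooseDecomposition

instance fGrGradedSMul {r : ℕ} (δ : Fin r → ℤ) : SetLike.GradedSMul 𝒜 (fGr 𝒜 δ) :=
  ⟨fun {i j a v} ha hv => by
    rw [mem_fGr] at hv ⊢
    intro b
    have := SetLike.mul_mem_graded ha (hv b)
    rw [vadd_eq_add, show i + j - δ b = i + (j - δ b) by omega]
    exact this⟩

theorem single_mem {r : ℕ} (δ : Fin r → ℤ) (b : Fin r) : (Pi.single b 1 : Fin r → R) ∈ fGr 𝒜 δ (δ b) := by
  rw [mem_fGr]
  intro c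
  by_cases h : c = b
  · subst h; rw [Pi.single_eq_same, sub_self]; exact SetLike.one_mem_graded 𝒜
  · rw [Pi.single_eq_of_ne h]; exact Submodule.zero_mem _

theorem proj_fGr {r : ℕ} (δ : Fin r → ℤ) (n : ℤ) (v : Fin r → R) (b : Fin r) :
    proj (fGr 𝒜 δ) n v b = proj 𝒜 (n - δ b) (v b) := by
  classical
  induction v using DirectSum.Decomposition.inductionOn (fGr 𝒜 δ) with
  | zero => simp [proj_zero]
  | @homogeneous j y =>
    by_cases h : j = n
    · subst h; rw [proj_same _ y.2, proj_same 𝒜 ((mem_fGr 𝒜).mp y.2 b)]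
    · rw [proj_ne _ y.2 h, proj_ne 𝒜 ((mem_fGr 𝒜).mp y.2 b) (by omega)]; rfl
  | add y z hy hz => simp [proj_add, hy, hz]

variable {M : Type u} [AddCommGroup M] [Module k M] [Module R M] (ℳ : ℤ → Submodule k M)
  [Decomposition ℳ] [SetLike.GradedSMul 𝒜 ℳ]

theorem isGr_lc {r : ℕ} {δ : Fin r → ℤ} {g : Fin r → M} (hg : ∀ b, g b ∈ ℳ (δ b)) :
    IsGr (fGr 𝒜 δ) ℳ (Fintype.linearCombination R g) := by
  intro n v hv
  rw [Fintype.linearCombination_apply]
  refine sum_mem fun b _ => ?_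
  have := smul_mem 𝒜 ℳ ((mem_fGr 𝒜).mp hv b) (hg b)
  rwa [sub_add_cancel] at this

end Free

theorem mulVecLin_eq {r s : ℕ} (d : Matrix (Fin r) (Fin s) R) :
    Matrix.mulVecLin d = Fintype.linearCombination R (fun b a => d a b) := by
  refine LinearMap.ext fun v => funext fun a => ?_
  simp [Matrix.mulVec, dotProduct, Fintype.linearCombination_apply, Finset.sum_apply, mul_comm]

theorem isGr_mulVec {r s : ℕ} {δ : Fin r → ℤ} {ε : Fin s → ℤ} {d : Matrix (Fin r) (Fin s) R}
    (hd : ∀ a b, d a b ∈ 𝒜 (ε b - δ a)) :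
    IsGr (fGr 𝒜 ε) (fGr 𝒜 δ) (Matrix.mulVecLin d) := by
  rw [mulVecLin_eq]
  exact isGr_lc 𝒜 (fGr 𝒜 δ) fun b => (mem_fGr 𝒜).mpr fun a => hd a b

end Groth.Agent.GrFreeGraded
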