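/-
Bilinear forms with no common zero: integrality of x_i y_j, 1-generic bound
-/
import Mathlib

set_option autoImplicit false
universe u v
open MvPolynomial IsLocalRing

namespace Groth.Agent.SegreBilinear


/-- An element lying in every valuation subring containing the base is integral. -/
theorem isIntegral_of_valuation {R K : Type*} [CommRing R] [Field K] [Algebra R K] (x : K)
    (h : ∀ V : ValuationSubring K, (∀ r, algebraMap R K r ∈ V) → x ∈ V) : IsIntegral R x := by
  by_contra hx
  have : IsIntegrallyClosedIn (integralClosure R K).toSubring K :=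
    (Subring.isIntegrallyClosedIn_iff).mpr fun {y} hy => isIntegral_trans (R := R) (A := integralClosure R K) y hy
  obtain ⟨V, hV, hxV⟩ := Subring.exists_le_valuationSubring_of_isIntegrallyClosedIn
    (R := (integralClosure R K).toSubring) (x := x) hx
  exact hxV (h V fun r => hV ((integralClosure R K).algebraMap_mem r))

/-- The value of the bilinear forms with coefficients `c`. -/
def bil {k A : Type*} [CommSemiring k] [CommSemiring A] [Algebra k A] {a b m : ℕ}
    (c : Fin m → Fin a → Fin b → k) (x : Fin a → A) (y : Fin b → A) (l : Fin m) : A :=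
  ∑ i, ∑ j, algebraMap k A (c l i j) * (x i * y j)

theorem map_bil {k A B : Type*} [CommSemiring k] [CommSemiring A] [Algebra k A] [CommSemiring B]
    [Algebra k B] {a b m : ℕ} (f : A →ₐ[k] B) (c : Fin m → Fin a → Fin b → k) (x : Fin a → A)
    (y : Fin b → A) (l : Fin m) : f (bil c x y l) = bil c (f ∘ x) (f ∘ y) l := by
  simp [bil]

/-- `c` has no common zero with nonzero components, in any field over `k`. -/
def Nondeg {k : Type u} [CommRing k] {a b m : ℕ} (c : Fin m → Fin a → Fin b → k) : Prop :=
  ∀ (L : Type u) [Field L] [Algebra k L] (x : Fin a → L) (y : Fin b → L),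
    (∀ l, bil c x y l = 0) → x = 0 ∨ y = 0

theorem mem_of_nondeg {k K : Type u} [Field k] [Field K] [Algebra k K] {a b m : ℕ}
    (c : Fin m → Fin a → Fin b → k) (hc : Nondeg c) (x : Fin a → K) (y : Fin b → K)
    (V : ValuationSubring K) (hk : ∀ r, algebraMap k K r ∈ V) (hφ : ∀ l, bil c x y l ∈ V)
    (i : Fin a) (j : Fin b) : x i * y j ∈ V := by
  classical
  haveI : Nonempty (Fin a) := ⟨i⟩
  haveI : Nonempty (Fin b) := ⟨j⟩
  obtain ⟨i₀, hi₀⟩ := Finite.exists_max (fun i => V.valuation (x i))
  obtain ⟨j₀, hj₀⟩ := Finite.exists_max (fun j => V.valuation (y j))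
  by_contra hij
  have hxy : (1 : V.ValueGroup) < V.valuation (x i₀ * y j₀) := by
    rw [← ValuationSubring.valuation_le_one_iff, not_le] at hij
    refine lt_of_lt_of_le hij ?_
    rw [map_mul, map_mul]
    exact mul_le_mul' (hi₀ i) (hj₀ j)
  have hx0 : x i₀ ≠ 0 := fun h => by simp [h] at hxy
  have hy0 : y j₀ ≠ 0 := fun h => by simp [h] at hxy
  have hu : ∀ i, x i / x i₀ ∈ V := fun i => by
    rw [← ValuationSubring.valuation_le_one_iff, map_div₀]
    exact div_le_one_of_le₀ (hi₀ i) zero_le'
  have hv : ∀ j, y j / y j₀ ∈ V := fun j => by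
    rw [← ValuationSubring.valuation_le_one_iff, map_div₀]
    exact div_le_one_of_le₀ (hj₀ j) zero_le'
  letI : Algebra k V := ((algebraMap k K).codRestrict V.toSubring hk).toAlgebra
  letI : Algebra k (ResidueField V) := ((residue V).comp (algebraMap k V)).toAlgebra
  let ι : V →ₐ[k] K := { V.subtype with commutes' := fun r => rfl }
  let ρ : V →ₐ[k] ResidueField V := { residue V with commutes' := fun r => rfl }
  let u : Fin a → V := fun i => ⟨_, hu i⟩
  let w : Fin b → V := fun j => ⟨_, hv j⟩
  have hzero : ∀ l, bil c (ρ ∘ u) (ρ ∘ w) l = 0 := fun l => by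
    rw [← map_bil]
    refine (residue_eq_zero_iff _).mpr ?_
    apply (ValuationSubring.valuation_lt_one_iff _ _).mpr
    have e : ι (bil c u w l) = bil c x y l / (x i₀ * y j₀) := by
      rw [map_bil, bil, bil, Finset.sum_div]
      refine Finset.sum_congr rfl fun i _ => ?_
      rw [Finset.sum_div]
      refine Finset.sum_congr rfl fun j _ => ?_
      show _ * (x i / x i₀ * (y j / y j₀)) = _
      field_simp
    show V.valuation (ι (bil c u w l)) < 1
    rw [e, map_div₀, div_lt_one₀ (lt_trans zero_lt_one hxy)]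
    exact lt_of_le_of_lt ((V.valuation_le_one_iff _).mpr (hφ l)) hxy
  rcases hc (ResidueField V) (ρ ∘ u) (ρ ∘ w) hzero with h | h
  · have h1 : u i₀ = 1 := Subtype.ext (div_self hx0)
    have := congrFun h i₀
    simp [h1] at this
  · have h1 : w j₀ = 1 := Subtype.ext (div_self hy0)
    have := congrFun h j₀
    simp [h1] at this

theorem isIntegral_of_nondeg {k K R : Type u} [Field k] [Field K] [Algebra k K] [CommRing R]
    [Algebra R K] {a b m : ℕ}
    (c : Fin m → Fin a → Fin b → k) (hc : Nondeg c) (x : Fin a → K) (y : Fin b → K)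
    (hk : ∀ r, algebraMap k K r ∈ (algebraMap R K).range)
    (hφ : ∀ l, bil c x y l ∈ (algebraMap R K).range) (i : Fin a) (j : Fin b) :
    IsIntegral R (x i * y j) := by
  refine isIntegral_of_valuation _ fun V hV => mem_of_nondeg c hc x y V ?_ ?_ i j
  · intro r; obtain ⟨s, hs⟩ := hk r; exact hs ▸ hV s
  · intro r; obtain ⟨s, hs⟩ := hφ r; exact hs ▸ hV s

/-- Over an algebraically closed field it is enough to have no rational common zero. -/
theorem nondeg_of_algClosed {k : Type u} [Field k] [IsAlgClosed k] {a b m : ℕ}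
    (c : Fin m → Fin a → Fin b → k)
    (h : ∀ (x : Fin a → k) (y : Fin b → k), (∀ l, bil c x y l = 0) → x = 0 ∨ y = 0) :
    Nondeg c := by
  classical
  intro L _ _ x y hz
  by_contra hne
  rw [not_or] at hne
  obtain ⟨i, hi⟩ := Function.ne_iff.mp hne.1
  obtain ⟨j, hj⟩ := Function.ne_iff.mp hne.2
  let S : Set L := Set.range x ∪ Set.range y ∪ {(x i)⁻¹, (y j)⁻¹}
  let A : Subalgebra k L := Algebra.adjoin k S
  haveI : Algebra.FiniteType k A :=
    (Subalgebra.fg_iff_finiteType A).mp (Subalgebra.fg_adjoin_finset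
      (Finset.univ.image x ∪ Finset.univ.image y ∪ {(x i)⁻¹, (y j)⁻¹}) |> fun h => by
        simpa [A, S] using h)
  obtain ⟨M, hM⟩ := Ideal.exists_maximal A
  haveI := hM
  letI := Ideal.Quotient.field M
  haveI : Algebra.FiniteType k (A ⧸ M) :=
    Algebra.FiniteType.of_surjective (Ideal.Quotient.mkₐ k M) Ideal.Quotient.mk_surjective
  haveI : Module.Finite k (A ⧸ M) := finite_of_finite_type_of_isJacobsonRing k (A ⧸ M)
  let e : k ≃ₐ[k] (A ⧸ M) := AlgEquiv.ofBijective (Algebra.ofId k (A ⧸ M))
    (IsAlgClosed.algebraMap_bijective_of_isIntegral (k := k) (K := A ⧸ M))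
  let f : A →ₐ[k] k := e.symm.toAlgHom.comp (Ideal.Quotient.mkₐ k M)
  let X : Fin a → A := fun i => ⟨x i, Algebra.subset_adjoin (by simp [S])⟩
  let Y : Fin b → A := fun j => ⟨y j, Algebra.subset_adjoin (by simp [S])⟩
  have h0 : ∀ l, bil c X Y l = 0 := fun l => Subtype.ext (by
    show A.val (bil c X Y l) = 0
    rw [map_bil]; exact hz l)
  rcases h (f ∘ X) (f ∘ Y) (fun l => by rw [← map_bil, h0, map_zero]) with h1 | h1
  · let z : A := ⟨(x i)⁻¹, Algebra.subset_adjoin (by simp [S])⟩
    have : z * X i = 1 := Subtype.ext (inv_mul_cancel₀ hi)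
    have h2 := congrArg f this
    rw [map_mul, map_one, show f (X i) = 0 from congrFun h1 i, mul_zero] at h2
    exact zero_ne_one h2
  · let z : A := ⟨(y j)⁻¹, Algebra.subset_adjoin (by simp [S])⟩
    have : z * Y j = 1 := Subtype.ext (inv_mul_cancel₀ hj)
    have h2 := congrArg f this
    rw [map_mul, map_one, show f (Y j) = 0 from congrFun h1 j, mul_zero] at h2
    exact zero_ne_one h2

/-- The convolution forms. -/
def conv (k : Type u) [CommRing k] (a b : ℕ) : Fin (a + b - 1) → Fin a → Fin b → k :=
  fun l i j => if (i : ℕ) + j = l then 1 else 0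

/-- The polynomial with given coefficients. -/
noncomputable def toP {A : Type*} [CommRing A] {a : ℕ} (x : Fin a → A) : Polynomial A :=
  ∑ i, Polynomial.C (x i) * Polynomial.X ^ (i : ℕ)

theorem coeff_toP {A : Type*} [CommRing A] {a : ℕ} (x : Fin a → A) (n : ℕ) :
    (toP x).coeff n = if h : n < a then x ⟨n, h⟩ else 0 := by
  simp only [toP, Polynomial.finset_sum_coeff, Polynomial.coeff_C_mul_X_pow]
  split_ifs with h
  · rw [Finset.sum_eq_single ⟨n, h⟩] <;> simp_all [Fin.ext_iff, eq_comm]
  · exact Finset.sum_eq_zero fun i _ => if_neg (by have := i.isLt; omega)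

theorem coeff_toP_mul {A : Type*} [CommRing A] {k : Type u} [CommRing k] [Algebra k A] {a b : ℕ}
    (x : Fin a → A) (y : Fin b → A) (l : Fin (a + b - 1)) :
    (toP x * toP y).coeff l = bil (conv k a b) x y l := by
  rw [toP, toP, Finset.sum_mul_sum, bil]
  simp only [conv, Polynomial.finsetSum_coeff]
  refine Finset.sum_congr rfl fun i _ => Finset.sum_congr rfl fun j _ => ?_
  rw [show Polynomial.C (x i) * Polynomial.X ^ (i : ℕ) * (Polynomial.C (y j) * Polynomial.X ^ (j : ℕ))
    = Polynomial.C (x i * y j) * Polynomial.X ^ ((i : ℕ) + j) by rw [map_mul, pow_add]; ring,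
    Polynomial.coeff_C_mul_X_pow]
  split_ifs with h1 h2 h2 <;> first | omega | simp

theorem nondeg_conv (k : Type u) [CommRing k] (a b : ℕ) : Nondeg (conv k a b) := by
  intro L _ _ x y h
  have h0 : toP x * toP y = 0 := by
    ext n
    by_cases hn : n < a + b - 1
    · rw [show n = ((⟨n, hn⟩ : Fin (a+b-1)) : ℕ) from rfl, coeff_toP_mul (k := k), h]; simp
    · rw [Polynomial.coeff_mul, Polynomial.coeff_zero]
      refine Finset.sum_eq_zero fun p hp => ?_
      rw [Finset.HasAntidiagonal.mem_antidiagonal] at hp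
      rw [coeff_toP, coeff_toP]
      split_ifs <;> first | omega | simp
  rcases mul_eq_zero.mp h0 with h1 | h1
  · left; funext i; simpa [coeff_toP] using congrArg (fun p => Polynomial.coeff p i) h1
  · right; funext i; simpa [coeff_toP] using congrArg (fun p => Polynomial.coeff p i) h1

/-- Over an algebraically closed field every polynomial of small degree is a product. -/
theorem exists_mul_eq {k : Type u} [Field k] [IsAlgClosed k] :
    ∀ (a b : ℕ) (p : Polynomial k), p.natDegree ≤ a + b →
      ∃ q r : Polynomial k, q.natDegree ≤ a ∧ r.natDegree ≤ b ∧ q * r = p := by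
  intro a
  induction a with
  | zero => exact fun b p hp => ⟨1, p, by simp, by omega, one_mul p⟩
  | succ a ih =>
    intro b p hp
    by_cases hd : p.natDegree = 0
    · exact ⟨p, 1, by omega, by simp, mul_one p⟩
    · obtain ⟨z, hz⟩ := IsAlgClosed.exists_root p
        (fun h => hd (Polynomial.natDegree_eq_of_degree_eq_some h))
      obtain ⟨p', rfl⟩ := Polynomial.dvd_iff_isRoot.mpr hz
      have hp' : p' ≠ 0 := fun h => hd (by simp [h])
      have hX : (Polynomial.X - Polynomial.C z).natDegree = 1 := Polynomial.natDegree_X_sub_C z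
      rw [Polynomial.natDegree_mul (Polynomial.X_sub_C_ne_zero z) hp', hX] at hp
      obtain ⟨q, r, hq, hr, e⟩ := ih b p' (by omega)
      refine ⟨(Polynomial.X - Polynomial.C z) * q, r, ?_, hr, by rw [mul_assoc, e]⟩
      refine le_trans Polynomial.natDegree_mul_le ?_
      omega

theorem surj_conv {k : Type u} [Field k] [IsAlgClosed k] {a b : ℕ} (ha : 1 ≤ a) (hb : 1 ≤ b)
    (z : Fin (a + b - 1) → k) : ∃ x : Fin a → k, ∃ y : Fin b → k, bil (conv k a b) x y = z := by
  obtain ⟨q, r, hq, hr, e⟩ := exists_mul_eq (a - 1) (b - 1) (toP z) (by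
    rw [Polynomial.natDegree_le_iff_coeff_eq_zero]
    intro n hn
    rw [coeff_toP, dif_neg (by omega)])
  refine ⟨fun i => q.coeff i, fun j => r.coeff j, funext fun l => ?_⟩
  have eq : ∀ {c : ℕ} (q : Polynomial k), 1 ≤ c → q.natDegree ≤ c - 1 →
      toP (fun i : Fin c => q.coeff i) = q := fun {c} q hc hq => by
    ext n
    rw [coeff_toP]
    split_ifs with h
    · rfl
    · exact (Polynomial.coeff_eq_zero_of_natDegree_lt (by omega)).symm
  rw [← coeff_toP_mul, eq q ha hq, eq r hb hr, e, coeff_toP, dif_pos l.isLt]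

/-- `x ⊗ y` algebra: generic bilinear values in the polynomial ring are independent. -/
theorem algebraicIndependent_conv {k : Type u} [Field k] [IsAlgClosed k] {a b : ℕ} (ha : 1 ≤ a)
    (hb : 1 ≤ b) :
    AlgebraicIndependent k (bil (conv k a b) (fun i => (X (Sum.inl i) : MvPolynomial (Fin a ⊕ Fin b) k))
      (fun j => X (Sum.inr j))) := by
  rw [algebraicIndependent_iff]
  intro p hp
  refine MvPolynomial.funext fun z => ?_
  obtain ⟨x, y, rfl⟩ := surj_conv ha hb z
  have := congrArg (aeval (Sum.elim x y) : MvPolynomial (Fin a ⊕ Fin b) k →ₐ[k] k) hp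
  rw [map_zero, ← AlgHom.comp_apply, comp_aeval] at this
  simp only [map_bil, Function.comp_def, aeval_X, Sum.elim_inl, Sum.elim_inr] at this
  simpa [← aeval_eq_eval] using this

theorem card_le {k : Type u} [Field k] [IsAlgClosed k] {a b m : ℕ} (ha : 1 ≤ a) (hb : 1 ≤ b)
    (c : Fin m → Fin a → Fin b → k)
    (h : ∀ (x : Fin a → k) (y : Fin b → k), (∀ l, bil c x y l = 0) → x = 0 ∨ y = 0) :
    a + b ≤ m + 1 := by
  let P := MvPolynomial (Fin a ⊕ Fin b) k
  let K := FractionRing P
  let x : Fin a → K := fun i => algebraMap P K (X (Sum.inl i))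
  let y : Fin b → K := fun j => algebraMap P K (X (Sum.inr j))
  let s : Set K := Set.range (bil c x y)
  let R := Algebra.adjoin k s
  let C : Subalgebra k K := (integralClosure R K).restrictScalars k
  have hint : ∀ i j, x i * y j ∈ C := fun i j => by
    refine isIntegral_of_nondeg (R := R) c (nondeg_of_algClosed c h) x y
      (fun r => ⟨⟨_, R.algebraMap_mem r⟩, rfl⟩)
      (fun l => ⟨⟨_, Algebra.subset_adjoin ⟨l, rfl⟩⟩, rfl⟩) i j
  have hz : ∀ l, bil (conv k a b) x y l ∈ C := fun l =>
    sum_mem fun i _ => sum_mem fun j _ => mul_mem (C.algebraMap_mem _) (hint i j)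
  have hind : AlgebraicIndependent k (bil (conv k a b) x y) := by
    have := (algebraicIndependent_conv (k := k) ha hb).map'
      (f := IsScalarTower.toAlgHom k P K) (IsFractionRing.injective P K)
    convert this using 1
    funext l
    exact (map_bil (IsScalarTower.toAlgHom k P K) _ _ _ l).symm
  let zC : Fin (a + b - 1) → C := fun l => ⟨_, hz l⟩
  have hind' : AlgebraicIndependent k zC := AlgebraicIndependent.of_comp C.val hind
  let sC : Set C := C.val ⁻¹' s
  haveI : Algebra.IsAlgebraic (Algebra.adjoin k sC) C := by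
    refine ⟨fun z => ?_⟩
    have hz' : IsIntegral R (z : K) := z.2
    obtain ⟨p, hp, hpz⟩ := hz'
    have hs : (Algebra.adjoin k sC).map C.val = R := by
      rw [AlgHom.map_adjoin, Set.image_preimage_eq_of_subset]
      intro w hw
      exact ⟨⟨w, isIntegral_algebraMap (R := R) (A := K) (x := ⟨w, Algebra.subset_adjoin hw⟩)⟩, rfl⟩
    let e : Algebra.adjoin k sC →+* R :=
      ((C.val : C →+* K).comp (Algebra.adjoin k sC).subtype).codRestrict R fun w =>
        hs ▸ Subalgebra.mem_map.mpr ⟨w.1, w.2, rfl⟩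
    have hsurj : Function.Surjective e := fun r => by
      have : (r : K) ∈ (Algebra.adjoin k sC).map C.val := hs.symm ▸ r.2
      obtain ⟨w, hw, e'⟩ := Subalgebra.mem_map.mp this
      exact ⟨⟨w, hw⟩, Subtype.ext e'⟩
    obtain ⟨q, hq, -, hqm⟩ := Polynomial.lifts_and_degree_eq_and_monic
      ((Polynomial.lifts_iff_coeff_lifts _).mpr fun n => hsurj (p.coeff n)) hp
    refine IsIntegral.isAlgebraic ⟨q, hqm, ?_⟩
    refine Subtype.val_injective ?_
    show C.val (Polynomial.eval₂ _ z q) = 0
    rw [← AlgHom.coe_toRingHom, Polynomial.hom_eval₂]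
    rw [← hq, Polynomial.eval₂_map] at hpz
    exact hpz
  have hfin : sC.Finite := (Set.finite_range _).preimage Subtype.val_injective.injOn
  have h1 := hind'.lift_cardinalMk_le_trdeg
  have h2 : Cardinal.mk sC ≤ (m : Cardinal.{u}) := by
    refine le_trans (Cardinal.mk_preimage_of_injective _ _ Subtype.val_injective) ?_
    have := Cardinal.mk_range_le_lift (f := bil c x y)
    simpa [s] using this
  have h3 := (Algebra.IsAlgebraic.trdeg_le_cardinalMk (R := k) (s := sC)).trans h2
  have h4 := h1.trans (Cardinal.lift_le.mpr h3)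
  simp only [Cardinal.mk_fin, Cardinal.lift_natCast, Nat.cast_le] at h4
  omega

end Groth.Agent.SegreBilinear
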