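/-
Segre products: finiteness, graded Noether normalisation, dimension
-/
import Groth.Prelude.Def_GrSeg
import Groth.Agent.Lib.SegreBilinear
import Mathlib

set_option autoImplicit false
universe u v
open scoped TensorProduct
open DirectSum Groth.Agent.SegreBilinear

namespace Groth.Agent.GrSegreDim


/-! ### dimension of integral extensions -/

theorem dim_le_of_integral {A B : Type*} [CommRing A] [CommRing B] [Algebra A B] [Algebra.IsIntegral A B] :
    ringKrullDim B ≤ ringKrullDim A := by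
  refine Order.krullDim_le_of_strictMono (fun p => p.comap (algebraMap A B)) fun p q hpq => ?_
  show (p.comap (algebraMap A B)).asIdeal < (q.comap (algebraMap A B)).asIdeal
  obtain ⟨x, hxq, hxp⟩ := SetLike.exists_of_lt (show p.asIdeal < q.asIdeal from hpq)
  exact Ideal.comap_lt_comap_of_integral_mem_sdiff (le_of_lt hpq) ⟨hxq, hxp⟩ (Algebra.IsIntegral.isIntegral x)

theorem dim_le_of_integral_injective {A B : Type*} [CommRing A] [CommRing B] [Algebra A B]
    [Algebra.IsIntegral A B] (h : Function.Injective (algebraMap A B)) :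
    ringKrullDim A ≤ ringKrullDim B := by
  have key : ∀ (n : ℕ) (l : LTSeries (PrimeSpectrum A)), l.length = n →
      ∃ L : LTSeries (PrimeSpectrum B), L.length = n ∧ L.last.comap (algebraMap A B) = l.last := by
    intro n
    induction n with
    | zero =>
      intro l _
      obtain ⟨Q, -, hQ, e⟩ := Ideal.exists_ideal_over_prime_of_isIntegral l.last.asIdeal (⊥ : Ideal B)
        (by
          intro x hx
          have : algebraMap A B x = 0 := hx
          rw [(injective_iff_map_eq_zero _).mp h x this]; exact zero_mem _)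
      exact ⟨RelSeries.singleton _ ⟨Q, hQ⟩, rfl, PrimeSpectrum.ext e⟩
    | succ n ih =>
      intro l hl
      obtain ⟨L, hL, e⟩ := ih l.eraseLast (by simp [hl])
      have hlt : l.eraseLast.last < l.last := l.eraseLast_last_rel_last (by omega)
      obtain ⟨Q, hQ1, hQ, eQ⟩ := Ideal.exists_ideal_over_prime_of_isIntegral l.last.asIdeal L.last.asIdeal
        (by
          have h' : L.last.asIdeal.comap (algebraMap A B) = l.eraseLast.last.asIdeal :=
            congrArg PrimeSpectrum.asIdeal e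
          rw [h']; exact le_of_lt hlt)
      have hQlt : L.last < (⟨Q, hQ⟩ : PrimeSpectrum B) := by
        refine lt_of_le_of_ne hQ1 fun hh => hlt.ne ?_
        rw [← e, hh]; exact PrimeSpectrum.ext eQ
      refine ⟨L.snoc ⟨Q, hQ⟩ hQlt, by simp [hL], ?_⟩
      rw [RelSeries.last_snoc]; exact PrimeSpectrum.ext eQ
  rw [ringKrullDim, ringKrullDim, Order.krullDim, Order.krullDim]
  refine iSup_le fun l => ?_
  obtain ⟨L, hL, -⟩ := key _ l rfl
  exact le_iSup_of_le L (by rw [hL])

/-- The product of a list of values. -/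
def mon {α R : Type*} [MulOneClass R] (f : α → R) (L : List α) : R := (L.map f).prod

/-! ### graded lemmas -/

section Graded
variable {k R : Type u} [Field k] [CommRing R] [Algebra k R] (𝒜 : ℤ → Submodule k R) [GradedAlgebra 𝒜]

theorem mon_mem {c : ℕ} (f : Fin c → R) (d : ℕ) (hf : ∀ i, f i ∈ 𝒜 d) (L : List (Fin c)) :
    mon f L ∈ 𝒜 ((L.length * d : ℕ) : ℤ) := by
  induction L with
  | nil => simpa [mon] using SetLike.one_mem_graded 𝒜
  | cons a L ih =>
    have := SetLike.mul_mem_graded (hf a) ih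
    rw [show mon f (a :: L) = f a * mon f L by simp [mon]]
    convert this using 2
    push_cast [List.length_cons]; ring

theorem smul_piece {M : Type u} [AddCommGroup M] [Module R M] [Module k M] [IsScalarTower k R M]
    (ℳ : ℤ → AddSubgroup M) [SetLike.GradedSMul 𝒜 ℳ] (c : k) {n : ℤ} {x : M} (hx : x ∈ ℳ n) :
    c • x ∈ ℳ n := by
  have h : algebraMap k R c ∈ 𝒜 0 := SetLike.algebraMap_mem_graded 𝒜 c
  have := SetLike.GradedSMul.smul_mem (B := ℳ) h hx
  rwa [zero_vadd, algebraMap_smul] at this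

theorem proj_smul {M : Type u} [AddCommGroup M] [Module R M] [Module k M] [IsScalarTower k R M]
    (ℳ : ℤ → AddSubgroup M) [Decomposition ℳ] [SetLike.GradedSMul 𝒜 ℳ] (c : k) (x : M) (n : ℤ) :
    (decompose ℳ (c • x) n : M) = c • (decompose ℳ x n : M) := by
  classical
  induction x using DirectSum.Decomposition.inductionOn ℳ with
  | zero => simp
  | @homogeneous i m =>
    by_cases hi : i = n
    · subst hi
      rw [decompose_of_mem_same ℳ m.2, decompose_of_mem_same ℳ (smul_piece 𝒜 ℳ c m.2)]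
    · rw [decompose_of_mem_ne ℳ m.2 hi, decompose_of_mem_ne ℳ (smul_piece 𝒜 ℳ c m.2) hi, smul_zero]
  | add a b ha hb => simp [smul_add, decompose_add, ha, hb]

/-- Homogeneous `k`-spanning sets restrict to each degree. -/
theorem piece_le_span {M : Type u} [AddCommGroup M] [Module R M] [Module k M] [IsScalarTower k R M]
    (ℳ : ℤ → AddSubgroup M) [Decomposition ℳ] [SetLike.GradedSMul 𝒜 ℳ]
    (s : ℤ → Set M) (hs : ∀ n, ∀ x ∈ s n, x ∈ ℳ n) (htop : Submodule.span k (⋃ n, s n) = ⊤)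
    (n : ℤ) {x : M} (hx : x ∈ ℳ n) : x ∈ Submodule.span k (s n) := by
  classical
  have h : ∀ y ∈ Submodule.span k (⋃ n, s n), (decompose ℳ y n : M) ∈ Submodule.span k (s n) := by
    intro y hy
    induction hy using Submodule.span_induction with
    | mem y hy =>
      obtain ⟨m, hm⟩ := Set.mem_iUnion.mp hy
      by_cases hmn : m = n
      · subst hmn; rw [decompose_of_mem_same ℳ (hs m y hm)]; exact Submodule.subset_span hm
      · rw [decompose_of_mem_ne ℳ (hs m y hm) hmn]; exact zero_mem _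
    | zero => simp
    | add a b _ _ ha hb => rw [decompose_add]; exact add_mem ha hb
    | smul c a _ ha => rw [proj_smul 𝒜]; exact Submodule.smul_mem _ _ ha
  have := h x (htop ▸ Submodule.mem_top)
  rwa [decompose_of_mem_same ℳ hx] at this

end Graded

/-- `R` is spanned by monomials in the `f i` times finitely many homogeneous elements. -/
def GoodSys {k M R : Type u} [Field k] [CommRing R] [Algebra k R] [AddCommGroup M] [Module R M]
    [Module k M] {τ : Type u} [SetLike τ M] (ℳ : ℤ → τ) (d : ℕ) {c : ℕ} (f : Fin c → R) : Prop :=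
  ∃ U : Finset (ℤ × M), (∀ u ∈ U, u.2 ∈ ℳ u.1) ∧
    Submodule.span k {x : M | ∃ u ∈ U, ∃ L : List (Fin c), x = mon f L • u.2} = ⊤

section SegreFinite

variable {k R S T M N P : Type u} [Field k] [CommRing R] [CommRing S] [CommRing T]
  [Algebra k R] [Algebra k S] [Algebra k T]
  [AddCommGroup M] [Module R M] [Module k M] [IsScalarTower k R M]
  [AddCommGroup N] [Module S N] [Module k N] [IsScalarTower k S N]
  [AddCommGroup P] [Module T P] [Module k P] [IsScalarTower k T P]

/-- The Segre product of finite modules is finite over the algebra generated by the products. -/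
theorem segre_finite (𝒜 : ℤ → Submodule k R) [GradedAlgebra 𝒜] (ℬ : ℤ → Submodule k S) [GradedAlgebra ℬ]
    (ψ : T →ₐ[k] R ⊗[k] S) (ℳ : ℤ → AddSubgroup M) [Decomposition ℳ] [SetLike.GradedSMul 𝒜 ℳ]
    (𝒩 : ℤ → AddSubgroup N) [Decomposition 𝒩] [SetLike.GradedSMul ℬ 𝒩]
    (φ : P →ₗ[k] M ⊗[k] N) (hφ : Function.Injective φ)
    (hsmul : ∀ (t : T) (p : P), φ (t • p) = GrSeg.act k R S M N (ψ t) (φ p))
    (hrange : LinearMap.range φ = ⨆ n : ℤ, GrSeg.segrePiece k ℳ 𝒩 n)
    {d : ℕ} (hd : 0 < d) {c e : ℕ} (f : Fin c → R) (g : Fin e → S) (hf : ∀ i, f i ∈ 𝒜 d)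
    (hg : ∀ j, g j ∈ ℬ d) (t : Fin c → Fin e → T) (ht : ∀ i j, ψ (t i j) = f i ⊗ₜ g j)
    (hM : GoodSys (k := k) ℳ d f) (hN : GoodSys (k := k) 𝒩 d g) :
    Module.Finite (Algebra.adjoin k (Set.range fun q : Fin c × Fin e => t q.1 q.2)) P := by
  classical
  obtain ⟨U, hU, hUtop⟩ := hM
  obtain ⟨V, hV, hVtop⟩ := hN
  let B := Algebra.adjoin k (Set.range fun q : Fin c × Fin e => t q.1 q.2)
  let D : ℕ := U.sum (fun u => u.1.natAbs) + V.sum (fun v => v.1.natAbs)
  have hD : ∀ u ∈ U, ∀ v ∈ V, u.1.natAbs + v.1.natAbs ≤ D := fun u hu v hv =>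
    add_le_add (Finset.single_le_sum (f := fun u : ℤ × M => u.1.natAbs) (fun _ _ => Nat.zero_le _) hu)
      (Finset.single_le_sum (f := fun v : ℤ × N => v.1.natAbs) (fun _ _ => Nat.zero_le _) hv)
  let Z : Set (M ⊗[k] N) := {z | ∃ u ∈ U, ∃ v ∈ V, ∃ L : List (Fin c), ∃ L' : List (Fin e),
    L.length ≤ D ∧ L'.length ≤ D ∧ z = (mon f L • u.2) ⊗ₜ (mon g L' • v.2)}
  have hZ : Z.Finite := by
    have h1 := ((U.finite_toSet.prod V.finite_toSet).prod
      ((List.finite_length_le (Fin c) D).prod (List.finite_length_le (Fin e) D))).image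
      (fun q : ((ℤ × M) × (ℤ × N)) × List (Fin c) × List (Fin e) =>
        ((mon f q.2.1 • q.1.1.2) ⊗ₜ[k] (mon g q.2.2 • q.1.2.2)))
    refine h1.subset ?_
    rintro z ⟨u, hu, v, hv, L, L', hL, hL', rfl⟩
    exact ⟨⟨⟨u, v⟩, L, L'⟩, ⟨⟨hu, hv⟩, hL, hL'⟩, rfl⟩
  let W : Submodule B P := Submodule.span B (φ ⁻¹' Z)
  suffices hW : W = ⊤ by
    exact ⟨hW ▸ Submodule.fg_span (hZ.preimage hφ.injOn)⟩
  rw [eq_top_iff]
  intro p _
  -- each generator of a piece comes from `W`
  have key : ∀ (n : ℤ), ∀ z ∈ GrSeg.segrePiece k ℳ 𝒩 n, ∀ p, φ p = z → p ∈ W := by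
    intro n
    let Wk : Submodule k P := W.restrictScalars k
    suffices hle : GrSeg.segrePiece k ℳ 𝒩 n ≤ Wk.map φ by
      intro z hz p hp
      obtain ⟨q, hq, e⟩ := hle hz
      exact hφ (hp.trans e.symm) ▸ hq
    rw [GrSeg.segrePiece, Submodule.span_le]
    rintro _ ⟨a, ha, b, hb, rfl⟩
    let sM : ℤ → Set M := fun n => {x | ∃ u ∈ U, ∃ L : List (Fin c), ((L.length * d : ℕ) : ℤ) + u.1 = n ∧ x = mon f L • u.2}
    let sN : ℤ → Set N := fun n => {x | ∃ u ∈ V, ∃ L : List (Fin e), ((L.length * d : ℕ) : ℤ) + u.1 = n ∧ x = mon g L • u.2}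
    have hsM : ∀ n, ∀ x ∈ sM n, x ∈ ℳ n := by
      rintro n x ⟨u, hu, L, rfl, rfl⟩
      exact SetLike.GradedSMul.smul_mem (B := ℳ) (mon_mem 𝒜 f d hf L) (hU u hu)
    have hsN : ∀ n, ∀ x ∈ sN n, x ∈ 𝒩 n := by
      rintro n x ⟨u, hu, L, rfl, rfl⟩
      exact SetLike.GradedSMul.smul_mem (B := 𝒩) (mon_mem ℬ g d hg L) (hV u hu)
    have haS : a ∈ Submodule.span k (sM n) := piece_le_span 𝒜 ℳ sM hsM (eq_top_iff.mpr (by
      rw [← hUtop]; refine Submodule.span_mono ?_
      rintro x ⟨u, hu, L, rfl⟩; exact Set.mem_iUnion.mpr ⟨_, u, hu, L, rfl, rfl⟩)) n ha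
    have hbS : b ∈ Submodule.span k (sN n) := piece_le_span ℬ 𝒩 sN hsN (eq_top_iff.mpr (by
      rw [← hVtop]; refine Submodule.span_mono ?_
      rintro x ⟨u, hu, L, rfl⟩; exact Set.mem_iUnion.mpr ⟨_, u, hu, L, rfl, rfl⟩)) n hb
    clear ha hb
    induction haS using Submodule.span_induction with
    | zero => rw [TensorProduct.zero_tmul]; exact zero_mem _
    | add _ _ _ _ h1 h2 => rw [TensorProduct.add_tmul]; exact add_mem h1 h2
    | smul r x _ h1 => rw [← TensorProduct.smul_tmul']; exact Submodule.smul_mem _ r h1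
    | mem x hx =>
      induction hbS using Submodule.span_induction with
      | zero => rw [TensorProduct.tmul_zero]; exact zero_mem _
      | add _ _ _ _ h1 h2 => rw [TensorProduct.tmul_add]; exact add_mem h1 h2
      | smul r x _ h1 => rw [TensorProduct.tmul_smul]; exact Submodule.smul_mem _ r h1
      | mem y hy =>
        obtain ⟨u, hu, L, hLn, rfl⟩ := hx
        obtain ⟨v, hv, L', hL'n, rfl⟩ := hy
        -- strip the common part
        have main : ∀ (L : List (Fin c)) (L' : List (Fin e)),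
            ((L.length * d : ℕ) : ℤ) + u.1 = ((L'.length * d : ℕ) : ℤ) + v.1 →
            ∃ q ∈ W, φ q = (mon f L • u.2) ⊗ₜ (mon g L' • v.2) := by
          intro L
          induction L with
          | nil =>
            intro L' hdeg
            have hL' : L'.length ≤ D := by
              have := hD u hu v hv
              have h1 : L'.length ≤ L'.length * d := Nat.le_mul_of_pos_right _ hd
              simp only [List.length_nil, Nat.zero_mul, Nat.cast_zero, zero_add] at hdeg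
              omega
            have hr : (mon f [] • u.2) ⊗ₜ (mon g L' • v.2) ∈ LinearMap.range φ := by
              rw [hrange]
              refine Submodule.mem_iSup_of_mem (((([] : List (Fin c)).length * d : ℕ) : ℤ) + u.1) (Submodule.subset_span ⟨_, ?_, _, ?_, rfl⟩)
              · exact SetLike.GradedSMul.smul_mem (B := ℳ) (mon_mem 𝒜 f d hf []) (hU u hu)
              · rw [hdeg]; exact SetLike.GradedSMul.smul_mem (B := 𝒩) (mon_mem ℬ g d hg L') (hV v hv)
            obtain ⟨q, hq⟩ := hr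
            exact ⟨q, Submodule.subset_span (show φ q ∈ Z from hq ▸ ⟨u, hu, v, hv, [], L', Nat.zero_le _, hL', rfl⟩), hq⟩
          | cons i L ih =>
            intro L' hdeg
            cases L' with
            | nil =>
              have hL' : (i :: L).length ≤ D := by
                have := hD u hu v hv
                have h1 : (i :: L).length ≤ (i :: L).length * d := Nat.le_mul_of_pos_right _ hd
                simp only [List.length_nil, Nat.zero_mul, Nat.cast_zero, zero_add] at hdeg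
                omega
              have hr : (mon f (i :: L) • u.2) ⊗ₜ (mon g [] • v.2) ∈ LinearMap.range φ := by
                rw [hrange]
                refine Submodule.mem_iSup_of_mem ((((i :: L).length * d : ℕ) : ℤ) + u.1) (Submodule.subset_span ⟨_, ?_, _, ?_, rfl⟩)
                · exact SetLike.GradedSMul.smul_mem (B := ℳ) (mon_mem 𝒜 f d hf _) (hU u hu)
                · rw [hdeg]; exact SetLike.GradedSMul.smul_mem (B := 𝒩) (mon_mem ℬ g d hg []) (hV v hv)
              obtain ⟨q, hq⟩ := hr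
              exact ⟨q, Submodule.subset_span (show φ q ∈ Z from hq ▸ ⟨u, hu, v, hv, _, [], hL', Nat.zero_le _, rfl⟩), hq⟩
            | cons j L' =>
              obtain ⟨q, hq, eq⟩ := ih L' (by
                simp only [List.length_cons, Nat.add_one_mul, Nat.cast_add] at hdeg ⊢
                linarith)
              refine ⟨t i j • q, W.smul_mem (⟨t i j, Algebra.subset_adjoin ⟨(i, j), rfl⟩⟩ : B) hq, ?_⟩
              rw [hsmul, ht, eq, GrSeg.act_tmul, smul_smul, smul_smul]
              simp [mon]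
        obtain ⟨q, hq, e⟩ := main L L' (hLn.trans hL'n.symm)
        exact ⟨q, hq, e⟩
  have hp : φ p ∈ ⨆ n : ℤ, GrSeg.segrePiece k ℳ 𝒩 n := hrange ▸ LinearMap.mem_range_self φ p
  suffices ∀ z ∈ (⨆ n : ℤ, GrSeg.segrePiece k ℳ 𝒩 n), ∀ p, φ p = z → p ∈ W from this _ hp p rfl
  intro z hz
  induction hz using Submodule.iSup_induction' with
  | mem n z hz => exact key n z hz
  | zero => intro p hp; rw [hφ (hp.trans (map_zero φ).symm)]; exact W.zero_mem
  | add a b ha hb h1 h2 =>
    intro p hp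
    have ha' : a ∈ LinearMap.range φ := hrange ▸ ha
    obtain ⟨pa, hpa⟩ := ha'
    have hb' : φ (p - pa) = b := by rw [map_sub, hp, hpa, add_sub_cancel_left]
    rw [show p = pa + (p - pa) by abel]
    exact W.add_mem (h1 pa hpa) (h2 _ hb')

end SegreFinite

section Systems
variable {k R : Type u} [Field k] [CommRing R] [Algebra k R] (𝒜 : ℤ → Submodule k R) [GradedAlgebra 𝒜]

/-- Every element is a span of homogeneous elements. -/
theorem mem_span_homogeneous {M : Type u} [AddCommGroup M] [Module k M] (ℳ : ℤ → AddSubgroup M)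
    [Decomposition ℳ] (x : M) : x ∈ Submodule.span k (⋃ n, (ℳ n : Set M)) := by
  classical
  induction x using DirectSum.Decomposition.inductionOn ℳ with
  | zero => exact zero_mem _
  | @homogeneous i m => exact Submodule.subset_span (Set.mem_iUnion.mpr ⟨i, m.2⟩)
  | add a b ha hb => exact add_mem ha hb

/-- A finitely generated graded module over a finite extension of `k[f]` is a good system. -/
theorem goodSys_module {M : Type u} [AddCommGroup M] [Module R M] [Module k M] [IsScalarTower k R M]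
    (ℳ : ℤ → AddSubgroup M) [Decomposition ℳ] [SetLike.GradedSMul 𝒜 ℳ] [Module.Finite R M]
    {d c : ℕ} (f : Fin c → R) (hR : GoodSys (k := k) (fun n => 𝒜 n) d f) :
    GoodSys (k := k) ℳ d f := by
  classical
  obtain ⟨U, hU, hUtop⟩ := hR
  obtain ⟨s, hs⟩ := Module.Finite.fg_top (R := R) (M := M)
  let G : Finset (ℤ × M) := s.biUnion fun m => (decompose ℳ m).support.image fun i => (i, (decompose ℳ m i : M))
  refine ⟨(U ×ˢ G).image fun q => (q.1.1 + q.2.1, q.1.2 • q.2.2), ?_, ?_⟩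
  · intro w hw
    obtain ⟨⟨u, g⟩, hq, rfl⟩ := Finset.mem_image.mp hw
    obtain ⟨hu, hg⟩ := Finset.mem_product.mp hq
    obtain ⟨m, -, hg⟩ := Finset.mem_biUnion.mp hg
    obtain ⟨i, -, rfl⟩ := Finset.mem_image.mp hg
    exact SetLike.GradedSMul.smul_mem (B := ℳ) (hU u hu) (decompose ℳ m i).2
  · rw [eq_top_iff]
    rintro x -
    have hG : Submodule.span R ((fun g : ℤ × M => g.2) '' (G : Set (ℤ × M))) = ⊤ := by
      rw [eq_top_iff, ← hs, Submodule.span_le]
      intro m hm
      rw [← DirectSum.sum_support_decompose ℳ m]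
      exact Submodule.sum_mem _ fun i hi => Submodule.subset_span
        ⟨(i, (decompose ℳ m i : M)), Finset.mem_biUnion.mpr ⟨m, hm, Finset.mem_image.mpr ⟨i, hi, rfl⟩⟩, rfl⟩
    have hx : x ∈ Submodule.span R ((fun g : ℤ × M => g.2) '' (G : Set (ℤ × M))) := hG ▸ Submodule.mem_top
    induction hx using Submodule.span_induction with
    | zero => exact zero_mem _
    | add a b _ _ ha hb => exact add_mem ha hb
    | mem y hy =>
      obtain ⟨g, hg, rfl⟩ := hy
      have h1 : (1 : R) ∈ Submodule.span k {x : R | ∃ u ∈ U, ∃ L : List (Fin c), x = mon f L • u.2} :=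
        hUtop ▸ Submodule.mem_top
      show g.2 ∈ _
      rw [← one_smul R g.2]
      generalize (1 : R) = r at h1
      induction h1 using Submodule.span_induction with
      | zero => rw [zero_smul]; exact zero_mem _
      | add a b _ _ ha hb => rw [add_smul]; exact add_mem ha hb
      | smul a b _ hb => rw [smul_assoc]; exact Submodule.smul_mem _ _ hb
      | mem z hz =>
        obtain ⟨u, hu, L, rfl⟩ := hz
        refine Submodule.subset_span ⟨(u.1 + g.1, u.2 • g.2), ?_, L, ?_⟩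
        · exact Finset.mem_image.mpr ⟨(u, g), Finset.mem_product.mpr ⟨hu, hg⟩, rfl⟩
        · simp [smul_smul]
    | smul r a hh ha =>
      clear hh
      induction ha using Submodule.span_induction with
      | zero => rw [smul_zero]; exact zero_mem _
      | add a b _ _ ha hb => rw [smul_add]; exact add_mem ha hb
      | smul c a _ ha => rw [smul_comm]; exact Submodule.smul_mem _ _ ha
      | mem z hz =>
        obtain ⟨w, hw, L, rfl⟩ := hz
        obtain ⟨⟨u, g⟩, hq, rfl⟩ := Finset.mem_image.mp hw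
        obtain ⟨hu, hg⟩ := Finset.mem_product.mp hq
        have h1 : r * mon f L * u.2 ∈ Submodule.span k {x : R | ∃ u ∈ U, ∃ L : List (Fin c), x = mon f L • u.2} :=
          hUtop ▸ Submodule.mem_top
        rw [smul_smul, smul_smul]
        generalize r * mon f L * u.2 = y at h1
        induction h1 using Submodule.span_induction with
        | zero => rw [zero_smul]; exact zero_mem _
        | add a b _ _ ha hb => rw [add_smul]; exact add_mem ha hb
        | smul a b _ hb => rw [smul_assoc]; exact Submodule.smul_mem _ _ hb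
        | mem z hz =>
          obtain ⟨u', hu', L', rfl⟩ := hz
          refine Submodule.subset_span ⟨(u'.1 + g.1, u'.2 • g.2), ?_, L', ?_⟩
          · exact Finset.mem_image.mpr ⟨(u', g), Finset.mem_product.mpr ⟨hu', hg⟩, rfl⟩
          · simp [smul_smul]

/-- Homogeneous elements whose ideal has finite colength give a good system. -/
theorem goodSys_ring (hpos : ∀ n : ℤ, n < 0 → 𝒜 n = ⊥) {d : ℕ} (hd : 0 < d) {c : ℕ} (f : Fin c → R)
    (hf : ∀ i, f i ∈ 𝒜 d) [Module.Finite k (R ⧸ Ideal.span (Set.range f))] :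
    GoodSys (k := k) (fun n => 𝒜 n) d f := by
  classical
  let I := Ideal.span (Set.range f)
  obtain ⟨s, hs⟩ := Module.Finite.fg_top (R := k) (M := R ⧸ I)
  choose lift hlift using fun y : R ⧸ I => Ideal.Quotient.mk_surjective y
  let G : Finset (ℤ × R) := (s.image lift).biUnion fun m =>
    (decompose 𝒜 m).support.image fun i => (i, (decompose 𝒜 m i : R))
  refine ⟨G, ?_, ?_⟩
  · intro g hg
    obtain ⟨m, -, hg⟩ := Finset.mem_biUnion.mp hg
    obtain ⟨i, -, rfl⟩ := Finset.mem_image.mp hg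
    exact (decompose 𝒜 m i).2
  let W := Submodule.span k {x : R | ∃ u ∈ G, ∃ L : List (Fin c), x = mon f L • u.2}
  have hGW : ∀ g ∈ G, ∀ i, g.1 = i → g.2 ∈ W := fun g hg _ _ =>
    Submodule.subset_span ⟨g, hg, [], by simp [mon]⟩
  -- modulo `I` everything is spanned by the homogeneous representatives
  have hmod : ∀ r : R, ∃ w ∈ W, r - w ∈ I := by
    intro r
    have hr : Ideal.Quotient.mk I r ∈ Submodule.span k (s : Set (R ⧸ I)) := hs ▸ Submodule.mem_top
    suffices ∀ y ∈ Submodule.span k (s : Set (R ⧸ I)), ∀ r, Ideal.Quotient.mk I r = y → ∃ w ∈ W, r - w ∈ I from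
      this _ hr r rfl
    intro y hy
    induction hy using Submodule.span_induction with
    | zero => exact fun r hr => ⟨0, zero_mem _, by simpa [Ideal.Quotient.eq_zero_iff_mem] using hr⟩
    | add a b _ _ ha hb =>
      intro r hr
      obtain ⟨ra, rfl⟩ := Ideal.Quotient.mk_surjective a
      obtain ⟨rb, rfl⟩ := Ideal.Quotient.mk_surjective b
      obtain ⟨wa, hwa, ea⟩ := ha ra rfl
      obtain ⟨wb, hwb, eb⟩ := hb rb rfl
      refine ⟨wa + wb, add_mem hwa hwb, ?_⟩
      rw [← map_add, Ideal.Quotient.eq] at hr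
      have := I.add_mem hr (I.add_mem ea eb)
      convert this using 1; ring
    | smul a b _ hb =>
      intro r hr
      obtain ⟨rb, rfl⟩ := Ideal.Quotient.mk_surjective b
      obtain ⟨wb, hwb, eb⟩ := hb rb rfl
      refine ⟨a • wb, W.smul_mem a hwb, ?_⟩
      rw [← Ideal.Quotient.mkₐ_eq_mk k, ← map_smul, Ideal.Quotient.mkₐ_eq_mk, Ideal.Quotient.eq] at hr
      have := I.add_mem hr (Submodule.smul_of_tower_mem I a eb)
      convert this using 1
      rw [smul_sub]; ring
    | mem y hy =>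
      intro r hr
      refine ⟨lift y, ?_, Ideal.Quotient.eq.mp (hr.trans (hlift y).symm)⟩
      rw [← DirectSum.sum_support_decompose 𝒜 (lift y)]
      exact Submodule.sum_mem _ fun i hi => hGW (i, _) (Finset.mem_biUnion.mpr
        ⟨lift y, Finset.mem_image_of_mem _ hy, Finset.mem_image.mpr ⟨i, hi, rfl⟩⟩) i rfl
  have hfW : ∀ i, ∀ w ∈ W, f i * w ∈ W := by
    intro i w hw
    induction hw using Submodule.span_induction with
    | zero => rw [mul_zero]; exact zero_mem _
    | add a b _ _ ha hb => rw [mul_add]; exact add_mem ha hb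
    | smul a b _ hb => rw [mul_smul_comm]; exact W.smul_mem a hb
    | mem z hz =>
      obtain ⟨u, hu, L, rfl⟩ := hz
      exact Submodule.subset_span ⟨u, hu, i :: L, by simp [mon, mul_assoc]⟩
  have hWproj : ∀ (n : ℤ), ∀ w ∈ W, (decompose 𝒜 w n : R) ∈ W := by
    intro n w hw
    induction hw using Submodule.span_induction with
    | zero => simp
    | add a b _ _ ha hb => rw [decompose_add]; exact add_mem ha hb
    | smul a b _ hb => rw [decompose_smul]; exact W.smul_mem a hb
    | mem z hz =>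
      obtain ⟨u, hu, L, rfl⟩ := hz
      obtain ⟨m, -, hg⟩ := Finset.mem_biUnion.mp hu
      obtain ⟨i, -, rfl⟩ := Finset.mem_image.mp hg
      have hm : mon f L * (decompose 𝒜 m i : R) ∈ 𝒜 (((L.length * d : ℕ) : ℤ) + i) :=
        SetLike.mul_mem_graded (mon_mem 𝒜 f d hf L) (decompose 𝒜 m i).2
      by_cases hn : ((L.length * d : ℕ) : ℤ) + i = n
      · subst hn; rw [smul_eq_mul, decompose_of_mem_same 𝒜 hm]; exact Submodule.subset_span ⟨_, hu, L, rfl⟩
      · rw [smul_eq_mul, decompose_of_mem_ne 𝒜 hm hn]; exact zero_mem _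
  have hpiece : ∀ (N : ℕ), ∀ n : ℤ, n < N → ∀ a ∈ 𝒜 n, a ∈ W := by
    intro N
    induction N with
    | zero => intro n hn a ha; rw [hpos n hn] at ha; rw [(Submodule.mem_bot k).mp ha]; exact zero_mem _
    | succ N ih =>
      intro n hn a ha
      obtain ⟨w, hw, hI⟩ := hmod a
      obtain ⟨r, hr⟩ := (Ideal.mem_span_range_iff_exists_fun).mp hI
      have h2 : (decompose 𝒜 (a - w) n : R) ∈ W := by
        rw [← hr, decompose_sum, DFinsupp.finsetSum_apply, Submodule.coe_sum]
        refine Submodule.sum_mem _ fun i _ => ?_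
        have := coe_decompose_mul_add_of_right_mem 𝒜 (i := n - d) (a := r i) (hf i)
        rw [sub_add_cancel] at this
        rw [this, mul_comm]
        exact hfW i _ (ih (n - d) (by omega) _ (decompose 𝒜 (r i) (n - d)).2)
      rw [decompose_sub, DFinsupp.sub_apply, Submodule.coe_sub, decompose_of_mem_same 𝒜 ha] at h2
      simpa using W.add_mem h2 (hWproj n w hw)
  rw [eq_top_iff]
  intro x _
  rw [← DirectSum.sum_support_decompose 𝒜 x]
  exact Submodule.sum_mem _ fun i _ => hpiece (i.natAbs + 1) i (by omega) _ (decompose 𝒜 x i).2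

end Systems

section Normalisation
variable {k R : Type u} [Field k] [CommRing R] [Algebra k R] (𝒜 : ℤ → Submodule k R) [GradedAlgebra 𝒜]

/-- A prime containing all the elements of positive degree. -/
def Pl (q : Ideal R) : Prop := ∀ n : ℤ, 0 < n → ∀ x ∈ 𝒜 n, x ∈ q

theorem exists_scalar (hpos : ∀ n : ℤ, n < 0 → 𝒜 n = ⊥) (h0 : 𝒜 0 = Submodule.span k {(1 : R)})
    (q : Ideal R) (hq : Pl 𝒜 q) (x : R) : ∃ c : k, x - algebraMap k R c ∈ q := by
  classical
  induction x using DirectSum.Decomposition.inductionOn 𝒜 with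
  | zero => exact ⟨0, by simp⟩
  | @homogeneous i m =>
    rcases lt_trichotomy i 0 with h | h | h
    · refine ⟨0, ?_⟩
      have := (hpos i h).le m.2
      rw [(Submodule.mem_bot k).mp this]; simp
    · subst h
      obtain ⟨c, hc⟩ := Submodule.mem_span_singleton.mp (h0.le m.2)
      exact ⟨c, by rw [← hc, Algebra.algebraMap_eq_smul_one]; simp⟩
    · exact ⟨0, by simpa using hq i h _ m.2⟩
  | add a b ha hb =>
    obtain ⟨ca, ha⟩ := ha
    obtain ⟨cb, hb⟩ := hb
    exact ⟨ca + cb, by rw [map_add]; simpa [add_sub_add_comm] using q.add_mem ha hb⟩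

theorem isMaximal_of_pl (hpos : ∀ n : ℤ, n < 0 → 𝒜 n = ⊥) (h0 : 𝒜 0 = Submodule.span k {(1 : R)})
    (q : Ideal R) [hqp : q.IsPrime] (hq : Pl 𝒜 q) : q.IsMaximal := by
  refine ⟨⟨hqp.ne_top, fun J hJ => ?_⟩⟩
  obtain ⟨x, hxJ, hxq⟩ := SetLike.exists_of_lt hJ
  obtain ⟨c, hc⟩ := exists_scalar 𝒜 hpos h0 q hq x
  have hc0 : c ≠ 0 := fun h => hxq (by simpa [h] using hc)
  refine Ideal.eq_top_of_isUnit_mem _ (x := algebraMap k R c) ?_ ((IsUnit.mk0 c hc0).map _)
  simpa using J.sub_mem hxJ (hJ.le hc)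

theorem sup_ne_top (hpos : ∀ n : ℤ, n < 0 → 𝒜 n = ⊥) (q : Ideal R) (hqh : q.IsHomogeneous 𝒜)
    (hq : q ≠ ⊤) : q ⊔ Ideal.span (⋃ n ∈ Set.Ioi (0 : ℤ), (𝒜 n : Set R)) ≠ ⊤ := by
  classical
  intro h
  obtain ⟨a, ha, b, hb, hab⟩ := Submodule.mem_sup.mp ((Ideal.eq_top_iff_one _).mp h)
  have hb0 : ∀ y ∈ Ideal.span (⋃ n ∈ Set.Ioi (0 : ℤ), (𝒜 n : Set R)), ∀ r : R,
      (decompose 𝒜 (r * y) 0 : R) = 0 := by
    intro y hy
    induction hy using Submodule.span_induction with
    | zero => simp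
    | add a b _ _ ha hb => intro r; rw [mul_add, decompose_add, DFinsupp.add_apply, Submodule.coe_add, ha r, hb r, add_zero]
    | smul a b _ hb => intro r; rw [smul_eq_mul, ← mul_assoc]; exact hb _
    | mem y hy =>
      intro r
      obtain ⟨n, hn, hy⟩ := Set.mem_iUnion₂.mp hy
      have e := coe_decompose_mul_add_of_right_mem 𝒜 (i := -n) (a := r) hy
      rw [neg_add_cancel] at e
      rw [e]
      have := (hpos (-n) (by have := Set.mem_Ioi.mp hn; omega)).le (decompose 𝒜 r (-n)).2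
      rw [(Submodule.mem_bot k).mp this, zero_mul]
  refine hq ((Ideal.eq_top_iff_one _).mpr ?_)
  have h1 : (decompose 𝒜 (1 : R) 0 : R) = 1 := decompose_of_mem_same 𝒜 (SetLike.one_mem_graded 𝒜)
  rw [← h1, ← hab, decompose_add, DFinsupp.add_apply, Submodule.coe_add, ← one_mul b, hb0 b hb 1, add_zero]
  exact hqh 0 ha

theorem isHomogeneous_minimalPrime (I : Ideal R) (hI : I.IsHomogeneous 𝒜) (q : Ideal R)
    (hq : q ∈ I.minimalPrimes) : q.IsHomogeneous 𝒜 := by
  classical
  have h1 : (q.homogeneousCore 𝒜).toIdeal.IsPrime := hq.1.1.homogeneousCore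
  have h2 : I ≤ (q.homogeneousCore 𝒜).toIdeal := by
    rw [← hI.toIdeal_homogeneousCore_eq_self]
    exact (Ideal.homogeneousCore_mono 𝒜 hq.1.2)
  have h3 := hq.2 ⟨h1, h2⟩ (Ideal.toIdeal_homogeneousCore_le 𝒜 q)
  exact le_antisymm (Ideal.toIdeal_homogeneousCore_le 𝒜 q) h3 ▸ (q.homogeneousCore 𝒜).isHomogeneous

theorem exists_avoid (hpos : ∀ n : ℤ, n < 0 → 𝒜 n = ⊥) (Q : Finset (Ideal R))
    (hp : ∀ q ∈ Q, q.IsPrime) (hh : ∀ q ∈ Q, q.IsHomogeneous 𝒜) (hn : ∀ q ∈ Q, ¬ Pl 𝒜 q)
    (hinc : ∀ q ∈ Q, ∀ q' ∈ Q, q' ≤ q → q' = q) :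
    ∃ D : ℕ, 0 < D ∧ ∃ f ∈ 𝒜 (D : ℤ), ∀ q ∈ Q, f ∉ q := by
  classical
  have hsel : ∀ q ∈ Q, ∃ m : ℕ, 0 < m ∧ ∃ a ∈ 𝒜 (m : ℤ), a ∉ q ∧ ∀ q' ∈ Q, q' ≠ q → a ∈ q' := by
    intro q hq
    have hgen : ∀ F : Finset (Ideal R), F ⊆ Q → q ∉ F →
        ∃ m : ℕ, 0 < m ∧ ∃ a ∈ 𝒜 (m : ℤ), a ∉ q ∧ ∀ q' ∈ F, a ∈ q' := by
      intro F
      induction F using Finset.induction with
      | empty =>
        intro _ _
        have := hn q hq
        simp only [Pl, not_forall] at this
        obtain ⟨n, hn0, x, hx, hxq⟩ := this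
        lift n to ℕ using hn0.le with m
        exact ⟨m, by exact_mod_cast hn0, x, hx, hxq, by simp⟩
      | insert p F hpF ih =>
        intro hFQ hqF
        obtain ⟨m, hm, a, ha, haq, haF⟩ := ih ((Finset.subset_insert p F).trans hFQ) (fun h => hqF (Finset.mem_insert_of_mem h))
        have hpQ := hFQ (Finset.mem_insert_self p F)
        have hpq : ¬ p ≤ q := fun h => hqF (hinc q hq p hpQ h ▸ Finset.mem_insert_self p F)
        obtain ⟨x, hxp, hxq⟩ := SetLike.not_le_iff_exists.mp hpq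
        obtain ⟨i, hi⟩ : ∃ i, (decompose 𝒜 x i : R) ∉ q := by
          by_contra h
          push_neg at h
          refine hxq ?_
          rw [← DirectSum.sum_support_decompose 𝒜 x]
          exact q.sum_mem fun i _ => h i
        have hi0 : 0 ≤ i := by
          by_contra h
          have := (hpos i (not_le.mp h)).le (decompose 𝒜 x i).2
          exact hi (by rw [(Submodule.mem_bot k).mp this]; exact zero_mem _)
        obtain ⟨j, rfl⟩ := Int.eq_ofNat_of_zero_le hi0
        refine ⟨m + j, by omega, a * (decompose 𝒜 x j : R), ?_, ?_, ?_⟩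
        · push_cast; exact SetLike.mul_mem_graded ha (decompose 𝒜 x j).2
        · exact fun h => ((hp q hq).mem_or_mem h).elim haq hi
        · intro q' hq'
          rcases Finset.mem_insert.mp hq' with rfl | hq'
          · exact q'.mul_mem_left _ (hh q' hpQ j hxp)
          · exact q'.mul_mem_right _ (haF q' hq')
    obtain ⟨m, hm, a, ha, haq, hall⟩ := hgen (Q.erase q) (Finset.erase_subset _ _) (Finset.notMem_erase _ _)
    exact ⟨m, hm, a, ha, haq, fun q' h1 h2 => hall q' (Finset.mem_erase.mpr ⟨h2, h1⟩)⟩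
  choose m hm a ha haq hother using hsel
  refine ⟨∏ q : Q, m q.1 q.2, Finset.prod_pos fun q _ => hm _ q.2,
    ∑ q : Q, a q.1 q.2 ^ ((∏ q : Q, m q.1 q.2) / m q.1 q.2), ?_, ?_⟩
  · refine Submodule.sum_mem _ fun q _ => ?_
    have := SetLike.pow_mem_graded ((∏ q : Q, m q.1 q.2) / m q.1 q.2) (ha _ q.2)
    convert this using 2
    rw [nsmul_eq_mul]
    norm_cast
    exact (Nat.div_mul_cancel (Finset.dvd_prod_of_mem (fun q : Q => m q.1 q.2) (Finset.mem_univ q))).symm
  · intro q hq hmem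
    rw [← Finset.add_sum_erase _ _ (Finset.mem_univ (⟨q, hq⟩ : Q))] at hmem
    have hrest : ∑ x ∈ Finset.univ.erase (⟨q, hq⟩ : Q),
        a x.1 x.2 ^ ((∏ q : Q, m q.1 q.2) / m x.1 x.2) ∈ q := by
      refine q.sum_mem fun x hx => Ideal.pow_mem_of_mem q (hother _ x.2 q hq fun h => ?_) _ ?_
      · exact Finset.ne_of_mem_erase hx (Subtype.ext h.symm)
      · exact Nat.div_pos (Nat.le_of_dvd (Finset.prod_pos fun q _ => hm _ q.2)
          (Finset.dvd_prod_of_mem (fun q : Q => m q.1 q.2) (Finset.mem_univ x))) (hm _ x.2)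
    exact haq q hq ((hp q hq).mem_of_pow_mem _ ((q.add_mem_iff_left hrest).mp hmem))

theorem exists_sop [IsNoetherianRing R] (hpos : ∀ n : ℤ, n < 0 → 𝒜 n = ⊥)
    (h0 : 𝒜 0 = Submodule.span k {(1 : R)}) :
    ∀ (n : ℕ) (I : Ideal R), I.IsHomogeneous 𝒜 →
      (∀ l : LTSeries (PrimeSpectrum R), I ≤ l.head.asIdeal → l.length ≤ n) →
      ∃ L : List (ℕ × R), L.length ≤ n ∧ (∀ x ∈ L, 0 < x.1 ∧ x.2 ∈ 𝒜 (x.1 : ℤ)) ∧
        ∀ p : Ideal R, p.IsPrime → I ≤ p → (∀ x ∈ L, x.2 ∈ p) → Pl 𝒜 p := by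
  classical
  intro n
  induction n with
  | zero =>
    intro I hI hdim
    refine ⟨[], le_rfl, by simp, fun p hp hIp _ => ?_⟩
    obtain ⟨q, hq, hqp⟩ := Ideal.exists_minimalPrimes_le hIp
    intro m hm x hx
    refine hqp ?_
    by_contra hxq
    obtain ⟨M, hM, hle⟩ := Ideal.exists_le_maximal _
      (sup_ne_top 𝒜 hpos q (isHomogeneous_minimalPrime 𝒜 I hI q hq) hq.1.1.ne_top)
    have hlt : (⟨q, hq.1.1⟩ : PrimeSpectrum R) < ⟨M, hM.isPrime⟩ := by
      refine lt_of_le_of_ne (le_sup_left.trans hle) fun h => hxq ?_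
      have hxM : x ∈ M := hle (Ideal.mem_sup_right (Ideal.subset_span (Set.mem_iUnion₂.mpr ⟨m, hm, hx⟩)))
      have e : q = M := congrArg PrimeSpectrum.asIdeal h
      rw [e]; exact hxM
    have := hdim ((RelSeries.singleton _ (⟨M, hM.isPrime⟩ : PrimeSpectrum R)).cons ⟨q, hq.1.1⟩ hlt)
      (by show I ≤ q; exact hq.1.2)
    simp [RelSeries.cons, RelSeries.append] at this
  | succ n ih =>
    intro I hI hdim
    have hfin : I.minimalPrimes.Finite := I.finite_minimalPrimes_of_isNoetherianRing R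
    let Q := hfin.toFinset.filter fun q => ¬ Pl 𝒜 q
    have hQ : ∀ q ∈ Q, q ∈ I.minimalPrimes ∧ ¬ Pl 𝒜 q := fun q hq => by simpa [Q] using hq
    obtain ⟨D, hD, f, hf, havoid⟩ := exists_avoid 𝒜 hpos Q (fun q hq => (hQ q hq).1.1.1)
      (fun q hq => isHomogeneous_minimalPrime 𝒜 I hI q (hQ q hq).1) (fun q hq => (hQ q hq).2)
      (fun q hq q' hq' h => le_antisymm h ((hQ q hq).1.2 ⟨(hQ q' hq').1.1.1, (hQ q' hq').1.1.2⟩ h))
    have hI' : (I ⊔ Ideal.span {f}).IsHomogeneous 𝒜 :=
      hI.sup (Ideal.homogeneous_span 𝒜 _ (by rintro x rfl; exact ⟨_, hf⟩))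
    obtain ⟨L, hL, hLh, hLp⟩ := ih (I ⊔ Ideal.span {f}) hI' (by
      intro l hl
      haveI := l.head.isPrime
      obtain ⟨q, hq, hqp⟩ := Ideal.exists_minimalPrimes_le (le_sup_left.trans hl)
      by_cases hqf : f ∈ q
      · have hPl : Pl 𝒜 q := by
          by_contra h
          exact havoid q (by simp [Q, hq, h]) hqf
        haveI := hq.1.1
        have hmax := isMaximal_of_pl 𝒜 hpos h0 q hPl
        by_contra hlen
        have hlt : l.head < l.toFun ⟨1, by omega⟩ := l.strictMono (show (0 : Fin (l.length + 1)) < ⟨1, by omega⟩ by simp [Fin.lt_def])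
        have : q < (l.toFun ⟨1, by omega⟩).asIdeal := lt_of_le_of_lt hqp hlt
        exact (l.toFun ⟨1, by omega⟩).isPrime.ne_top (hmax.1.2 _ this)
      · have hlt : (⟨q, hq.1.1⟩ : PrimeSpectrum R) < l.head :=
          lt_of_le_of_ne hqp fun h => hqf (by
            have : f ∈ l.head.asIdeal := hl (Ideal.mem_sup_right (Ideal.mem_span_singleton_self f))
            rwa [← h] at this)
        have := hdim (l.cons ⟨q, hq.1.1⟩ hlt) (by rw [RelSeries.head_cons]; exact hq.1.2)
        simp at this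
        omega)
    refine ⟨(D, f) :: L, by simpa using hL, ?_, fun p hp hIp hall => ?_⟩
    · intro x hx
      rcases List.mem_cons.mp hx with rfl | hx
      · exact ⟨hD, hf⟩
      · exact hLh x hx
    · refine hLp p hp (sup_le hIp ?_) fun x hx => hall x (List.mem_cons_of_mem _ hx)
      rw [Ideal.span_le, Set.singleton_subset_iff]
      exact hall _ List.mem_cons_self

theorem exists_common_degree (hpos : ∀ n : ℤ, n < 0 → 𝒜 n = ⊥)
    (h0 : 𝒜 0 = Submodule.span k {(1 : R)}) [Algebra.FiniteType k R] (r : ℕ) (hr : ringKrullDim R ≤ r) :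
    ∃ d : ℕ, 0 < d ∧ ∀ e : ℕ, 0 < e → d ∣ e →
      ∃ c : ℕ, c ≤ r ∧ ∃ f : Fin c → R, (∀ i, f i ∈ 𝒜 (e : ℤ)) ∧
        Module.Finite k (R ⧸ Ideal.span (Set.range f)) := by
  classical
  haveI : IsNoetherianRing R := Algebra.FiniteType.isNoetherianRing k R
  obtain ⟨L, hL, hLh, hLp⟩ := exists_sop 𝒜 hpos h0 r ⊥ (Ideal.IsHomogeneous.bot 𝒜) fun l _ => by
    have := (le_iSup (fun l : LTSeries (PrimeSpectrum R) => (l.length : WithBot ℕ∞)) l).trans hr
    exact_mod_cast this
  refine ⟨∏ i : Fin L.length, (L.get i).1, Finset.prod_pos fun i _ => (hLh _ (L.get_mem i)).1, fun e he hde => ?_⟩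
  have hdvd : ∀ i : Fin L.length, (L.get i).1 ∣ e := fun i =>
    (Finset.dvd_prod_of_mem (fun i => (L.get i).1) (Finset.mem_univ i)).trans hde
  let f : Fin L.length → R := fun i => (L.get i).2 ^ (e / (L.get i).1)
  refine ⟨L.length, hL, f, fun i => ?_, ?_⟩
  · have := SetLike.pow_mem_graded (e / (L.get i).1) (hLh _ (L.get_mem i)).2
    convert this using 2
    rw [nsmul_eq_mul]
    norm_cast
    exact (Nat.div_mul_cancel (hdvd i)).symm
  · let I := Ideal.span (Set.range f)
    haveI : Algebra.FiniteType k (R ⧸ I) :=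
      Algebra.FiniteType.of_surjective (Ideal.Quotient.mkₐ k I) Ideal.Quotient.mk_surjective
    haveI : Algebra.IsIntegral k (R ⧸ I) := by
      refine ⟨fun y => ?_⟩
      obtain ⟨x, rfl⟩ := Ideal.Quotient.mk_surjective y
      have hrad : ∀ n : ℤ, 0 < n → ∀ x ∈ 𝒜 n, x ∈ I.radical := by
        intro n hn x hx
        rw [Ideal.radical_eq_sInf]
        refine Ideal.mem_sInf.mpr fun {p} hp => hLp p hp.2 bot_le (fun z hz => ?_) n hn x hx
        obtain ⟨i, rfl⟩ := List.get_of_mem hz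
        exact hp.2.mem_of_pow_mem _ (hp.1 (Ideal.subset_span ⟨i, rfl⟩))
      have hnil : ∀ c, x - algebraMap k R c ∈ I.radical → IsIntegral k (Ideal.Quotient.mk I x) := by
        intro c hc
        obtain ⟨N, hN⟩ := hc
        refine ⟨(Polynomial.X - Polynomial.C c) ^ (N + 1), (Polynomial.monic_X_sub_C c).pow _, ?_⟩
        rw [Polynomial.eval₂_pow, Polynomial.eval₂_sub, Polynomial.eval₂_X, Polynomial.eval₂_C,
          show algebraMap k (R ⧸ I) c = Ideal.Quotient.mk I (algebraMap k R c) from rfl, ← map_sub, ← map_pow,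
          Ideal.Quotient.eq_zero_iff_mem, pow_succ]
        exact I.mul_mem_right _ hN
      obtain ⟨c, hc⟩ := exists_scalar 𝒜 hpos h0 I.radical hrad x
      exact hnil c hc
    exact Algebra.IsIntegral.finite

theorem independent_of_goodSys {d : ℕ} {r c : ℕ} (hc : c ≤ r) (f : Fin c → R) (hr : ringKrullDim R = r)
    (hG : GoodSys (k := k) (fun n => 𝒜 n) d f) :
    c = r ∧ Function.Injective (MvPolynomial.aeval f : MvPolynomial (Fin c) k →ₐ[k] R) := by
  classical
  obtain ⟨U, -, hU⟩ := hG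
  let φ : MvPolynomial (Fin c) k →ₐ[k] R := MvPolynomial.aeval f
  let A := MvPolynomial (Fin c) k ⧸ RingHom.ker φ
  letI : Algebra A R := (Ideal.Quotient.lift (RingHom.ker φ) φ.toRingHom fun x hx => hx).toAlgebra
  have hinj : Function.Injective (algebraMap A R) :=
    RingHom.lift_injective_of_ker_le_ideal _ _ le_rfl
  have hk : ∀ a : k, algebraMap A R (Ideal.Quotient.mk _ (MvPolynomial.C a)) = algebraMap k R a := fun a => by
    show φ (MvPolynomial.C a) = _
    simp [φ]
  haveI : Module.Finite A R := by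
    refine ⟨⟨U.image Prod.snd, ?_⟩⟩
    rw [eq_top_iff]
    intro x _
    have hx : x ∈ Submodule.span k {x : R | ∃ u ∈ U, ∃ L : List (Fin c), x = mon f L • u.2} := hU ▸ Submodule.mem_top
    induction hx using Submodule.span_induction with
    | zero => exact zero_mem _
    | add a b _ _ ha hb => exact add_mem (ha trivial) (hb trivial)
    | smul a b _ hb =>
      rw [Algebra.smul_def, ← hk, ← Algebra.smul_def]
      exact Submodule.smul_mem _ _ (hb trivial)
    | mem z hz =>
      obtain ⟨u, hu, L, rfl⟩ := hz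
      have e : mon f L = algebraMap A R (Ideal.Quotient.mk _ (mon MvPolynomial.X L)) := by
        show _ = φ (mon MvPolynomial.X L)
        simp [mon, φ, map_list_prod, Function.comp_def]
      rw [smul_eq_mul, e, ← Algebra.smul_def]
      exact Submodule.smul_mem _ _ (Submodule.subset_span (Finset.mem_image_of_mem _ hu))
  haveI : Algebra.IsIntegral A R := Algebra.IsIntegral.of_finite A R
  have hdim : (r : WithBot ℕ∞) ≤ ringKrullDim A := hr ▸ dim_le_of_integral (A := A) (B := R)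
  have hpoly : ringKrullDim (MvPolynomial (Fin c) k) = c := by
    rw [MvPolynomial.ringKrullDim_of_isNoetherianRing, ringKrullDim_eq_zero_of_field, Nat.card_fin, zero_add]
  have hle : ringKrullDim A ≤ c := hpoly ▸ ringKrullDim_quotient_le _
  have hcr : c = r := by
    have : r ≤ c := by exact_mod_cast hdim.trans hle
    omega
  refine ⟨hcr, (injective_iff_map_eq_zero _).mpr fun p hp => by_contra fun hp0 => ?_⟩
  have h1 : ringKrullDim (MvPolynomial (Fin c) k ⧸ Ideal.span {p}) + 1 ≤ c :=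
    hpoly ▸ ringKrullDim_quotient_succ_le_of_nonZeroDivisor (mem_nonZeroDivisors_of_ne_zero hp0)
  have h2 : ringKrullDim A ≤ ringKrullDim (MvPolynomial (Fin c) k ⧸ Ideal.span {p}) :=
    ringKrullDim_le_of_surjective (Ideal.Quotient.factor (Ideal.span_le.mpr (by simpa [φ] using hp)))
      (Ideal.Quotient.factor_surjective _)
  have h3 : (r : WithBot ℕ∞) + 1 ≤ c :=
    le_trans (by gcongr; exact hdim.trans h2) h1
  have h4 : r + 1 ≤ c := by exact_mod_cast h3
  omega

end Normalisation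

section Rows

/-- Reinterpret a grading by subspaces as a grading by subgroups. -/
@[reducible] def decompAdd {k R : Type u} [Field k] [CommRing R] [Algebra k R] (𝒜 : ℤ → Submodule k R)
    [GradedAlgebra 𝒜] : Decomposition (fun n => (𝒜 n).toAddSubgroup) where
  decompose' := fun x => decompose 𝒜 x
  left_inv x := (decompose 𝒜).symm_apply_apply x
  right_inv x := (decompose 𝒜).apply_symm_apply x

variable {k R S T : Type u} [Field k] [CommRing R] [CommRing S] [CommRing T]
  [Algebra k R] [Algebra k S] [Algebra k T]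
  (𝒜 : ℤ → Submodule k R) [GradedAlgebra 𝒜] (ℬ : ℤ → Submodule k S) [GradedAlgebra ℬ]
  (𝒯 : ℤ → Submodule k T) [GradedAlgebra 𝒯] (ψ : T →ₐ[k] R ⊗[k] S)

theorem exists_t (hdegT : ∀ n : ℤ, (𝒯 n).map ψ.toLinearMap = GrSeg.segrePiece k 𝒜 ℬ n)
    {d c e : ℕ} (f : Fin c → R) (g : Fin e → S) (hf : ∀ i, f i ∈ 𝒜 d) (hg : ∀ j, g j ∈ ℬ d) :
    ∃ t : Fin c → Fin e → T, ∀ i j, ψ (t i j) = f i ⊗ₜ g j := by
  have h : ∀ i j, ∃ x, ψ x = f i ⊗ₜ g j := fun i j => by
    have : f i ⊗ₜ g j ∈ (𝒯 d).map ψ.toLinearMap := by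
      rw [hdegT]; exact Submodule.subset_span ⟨_, hf i, _, hg j, rfl⟩
    obtain ⟨x, -, hx⟩ := this
    exact ⟨x, hx⟩
  choose t ht using h
  exact ⟨t, ht⟩

theorem range_ring (hdegT : ∀ n : ℤ, (𝒯 n).map ψ.toLinearMap = GrSeg.segrePiece k 𝒜 ℬ n) :
    LinearMap.range ψ.toLinearMap = ⨆ n : ℤ, GrSeg.segrePiece k (fun n => (𝒜 n).toAddSubgroup) (fun n => (ℬ n).toAddSubgroup) n := by
  have e : ∀ n : ℤ, GrSeg.segrePiece k (fun n => (𝒜 n).toAddSubgroup) (fun n => (ℬ n).toAddSubgroup) n =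
    GrSeg.segrePiece k 𝒜 ℬ n := fun n => rfl
  simp only [e, ← hdegT, ← Submodule.map_iSup]
  rw [(DirectSum.Decomposition.isInternal 𝒯).submodule_iSup_eq_top, Submodule.map_top]

theorem act_eq_mul (x y : R ⊗[k] S) : GrSeg.act k R S R S x y = x * y := by
  induction x with
  | zero => simp
  | add a b ha hb => simp [add_mul, ha, hb]
  | tmul r s =>
    induction y with
    | zero => simp
    | add a b ha hb => simp [mul_add, ha, hb]
    | tmul m n => rw [GrSeg.act_tmul, Algebra.TensorProduct.tmul_mul_tmul, smul_eq_mul, smul_eq_mul]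

theorem ring_finite (hψ : Function.Injective ψ)
    (hdegT : ∀ n : ℤ, (𝒯 n).map ψ.toLinearMap = GrSeg.segrePiece k 𝒜 ℬ n)
    {d : ℕ} (hd : 0 < d) {c e : ℕ} (f : Fin c → R) (g : Fin e → S) (hf : ∀ i, f i ∈ 𝒜 d)
    (hg : ∀ j, g j ∈ ℬ d) (t : Fin c → Fin e → T) (ht : ∀ i j, ψ (t i j) = f i ⊗ₜ g j)
    (hR : GoodSys (k := k) (fun n => 𝒜 n) d f) (hS : GoodSys (k := k) (fun n => ℬ n) d g) :
    Module.Finite (Algebra.adjoin k (Set.range fun q : Fin c × Fin e => t q.1 q.2)) T := by
  letI := decompAdd 𝒜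
  letI := decompAdd ℬ
  haveI : SetLike.GradedSMul 𝒜 (fun n => (𝒜 n).toAddSubgroup) := ⟨fun _ _ _ _ hi hj => SetLike.mul_mem_graded (A := 𝒜) hi hj⟩
  haveI : SetLike.GradedSMul ℬ (fun n => (ℬ n).toAddSubgroup) := ⟨fun _ _ _ _ hi hj => SetLike.mul_mem_graded (A := ℬ) hi hj⟩
  refine segre_finite (P := T) 𝒜 ℬ ψ (fun n => (𝒜 n).toAddSubgroup) (fun n => (ℬ n).toAddSubgroup)
    ψ.toLinearMap hψ (fun t p => ?_) (range_ring 𝒜 ℬ 𝒯 ψ hdegT) hd f g hf hg t ht hR hS
  rw [act_eq_mul]
  exact map_mul ψ t p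

omit [GradedAlgebra 𝒯] in
theorem exists_systems (hposR : ∀ n : ℤ, n < 0 → 𝒜 n = ⊥) (h0R : 𝒜 0 = Submodule.span k {(1 : R)})
    (hposS : ∀ n : ℤ, n < 0 → ℬ n = ⊥) (h0S : ℬ 0 = Submodule.span k {(1 : S)})
    [Algebra.FiniteType k R] [Algebra.FiniteType k S] (r s : ℕ) (hr : ringKrullDim R ≤ r) (hs : ringKrullDim S ≤ s) :
    ∃ d : ℕ, 0 < d ∧ ∃ c e : ℕ, c ≤ r ∧ e ≤ s ∧ ∃ (f : Fin c → R) (g : Fin e → S),
      (∀ i, f i ∈ 𝒜 d) ∧ (∀ j, g j ∈ ℬ d) ∧ GoodSys (k := k) (fun n => 𝒜 n) d f ∧ GoodSys (k := k) (fun n => ℬ n) d g := by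
  obtain ⟨dR, hdR, HR⟩ := exists_common_degree 𝒜 hposR h0R r hr
  obtain ⟨dS, hdS, HS⟩ := exists_common_degree ℬ hposS h0S s hs
  obtain ⟨c, hc, f, hf, hfq⟩ := HR (dR * dS) (Nat.mul_pos hdR hdS) (dvd_mul_right _ _)
  obtain ⟨e, he, g, hg, hgq⟩ := HS (dR * dS) (Nat.mul_pos hdR hdS) (dvd_mul_left _ _)
  exact ⟨dR * dS, Nat.mul_pos hdR hdS, c, e, hc, he, f, g, hf, hg,
    goodSys_ring 𝒜 hposR (Nat.mul_pos hdR hdS) f hf, goodSys_ring ℬ hposS (Nat.mul_pos hdR hdS) g hg⟩

theorem exists_dim_bound (k R : Type u) [Field k] [CommRing R] [Algebra k R] [Algebra.FiniteType k R] :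
    ∃ r : ℕ, ringKrullDim R ≤ r := by
  obtain ⟨n, π, hπ⟩ := Algebra.FiniteType.iff_quotient_mvPolynomial''.mp ‹Algebra.FiniteType k R›
  refine ⟨n, (ringKrullDim_le_of_surjective π.toRingHom hπ).trans ?_⟩
  rw [MvPolynomial.ringKrullDim_of_isNoetherianRing, ringKrullDim_eq_zero_of_field, Nat.card_fin, zero_add]

end Rows

end Groth.Agent.GrSegreDim
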