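import Mathlib
import Groth.Agent.Lib.H2Depth

/-! More on depth: change of rings, localization, the CM dimension formula. -/

universe u v w x

open RingTheory.Sequence Pointwise Submodule

namespace Groth.Agent.H2DepthMore

open Groth.Agent.H2Depth

variable {R : Type u} [CommRing R] {M : Type v} [AddCommGroup M] [Module R M]

/-- regular sequences go up along a flat base change. -/
lemma hasReg_baseChange {S : Type w} [CommRing S] [Algebra R S] [Module.Flat R S]
    {N : Type x} [AddCommGroup N] [Module R N] [Module S N] [IsScalarTower R S N]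
    {f : M →ₗ[R] N} (hf : IsBaseChange S f) {I : Ideal R} {J : Ideal S}
    (hIJ : ∀ r ∈ I, algebraMap R S r ∈ J) {k : ℕ} (h : HasReg I M k) : HasReg J N k := by
  obtain ⟨rs, rfl, hrs, hmem⟩ := h
  refine ⟨rs.map (algebraMap R S), by simp, hrs.of_flat_of_isBaseChange hf, fun r hr => ?_⟩
  obtain ⟨a, ha, rfl⟩ := List.mem_map.1 hr
  exact hIJ a (hmem a ha)

lemma hasReg_localization {I p : Ideal R} [p.IsPrime] (hIp : I ≤ p) {k : ℕ} (h : HasReg I M k) :
    HasReg (IsLocalRing.maximalIdeal (Localization.AtPrime p))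
      (LocalizedModule p.primeCompl M) k :=
  haveI := IsLocalization.flat (Localization.AtPrime p) p.primeCompl
  hasReg_baseChange (IsLocalizedModule.isBaseChange p.primeCompl (Localization.AtPrime p)
      (LocalizedModule.mkLinearMap p.primeCompl M))
    (fun r hr => (IsLocalization.AtPrime.to_map_mem_maximal_iff _ p r).2 (hIp hr)) h

lemma mem_support_of_mem_associatedPrimes [IsNoetherianRing R] [Module.Finite R M] {p : Ideal R}
    (hp : p ∈ associatedPrimes R M) : ⟨p, hp.isPrime⟩ ∈ Module.support R M := by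
  rw [Module.mem_support_iff_of_finite]
  obtain ⟨u, hu⟩ := (isAssociatedPrime_iff.1 hp).2
  intro r hr
  show r ∈ p
  rw [hu, Submodule.mem_colon_singleton, Module.mem_annihilator.1 hr]
  exact Submodule.zero_mem _

lemma dim_le_supportDim_of_mem_support {p : PrimeSpectrum R} [Module.Finite R M]
    (hp : p ∈ Module.support R M) : ringKrullDim (R ⧸ p.asIdeal) ≤ Module.supportDim R M := by
  rw [← Module.supportDim_quotient_eq_ringKrullDim]
  refine Order.krullDim_le_of_strictMono (fun q => ⟨q.1, ?_⟩) (fun a b h => h)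
  have hq := q.2
  rw [Module.mem_support_iff_of_finite, Ideal.annihilator_quotient] at hq
  rw [Module.mem_support_iff_of_finite] at hp ⊢
  exact hp.trans hq

lemma mem_support_quot_iff [Module.Finite R M] (I : Ideal R) (p : PrimeSpectrum R) :
    p ∈ Module.support R (M ⧸ (I • (⊤ : Submodule R M))) ↔ p ∈ Module.support R M ∧ I ≤ p.asIdeal := by
  rw [Module.support_quotient]
  exact Iff.rfl

lemma exists_associatedPrime_of_noReg [IsNoetherianRing R] [Module.Finite R M] {I : Ideal R}
    (h : NoReg I M) : ∃ p ∈ associatedPrimes R M, I ≤ p := by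
  by_contra hc
  push Not at hc
  obtain ⟨r, hr, hreg⟩ := exists_regular_of_forall_not_le (M := M) I hc
  exact h r hr hreg

lemma noReg_of_killed {I : Ideal R} {u : M} (hu : u ≠ 0) (h : ∀ r ∈ I, r • u = 0) : NoReg I M :=
  fun r hr hreg => hu (hreg (show r • u = r • 0 by rw [h r hr, smul_zero]))

section Local

variable [IsNoetherianRing R] [IsLocalRing R] [Module.Finite R M]

lemma smul_top_ne_top [Nontrivial M] {I : Ideal R} (hI : I ≤ IsLocalRing.maximalIdeal R) :
    I • (⊤ : Submodule R M) ≠ ⊤ := fun h =>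
  Submodule.top_ne_ideal_smul_of_le_jacobson_annihilator (M := M)
    (hI.trans (IsLocalRing.maximalIdeal_le_jacobson _)) h.symm

/-- depth of the quotient by a regular sequence. -/
lemma hasReg_quot_ofList {rs : List R} (hrs : IsWeaklyRegular M rs)
    (hmem : ∀ r ∈ rs, r ∈ IsLocalRing.maximalIdeal R) {d : ℕ}
    (h : HasReg (IsLocalRing.maximalIdeal R) M d) :
    HasReg (IsLocalRing.maximalIdeal R) (M ⧸ (Ideal.ofList rs • ⊤ : Submodule R M)) (d - rs.length) := by
  by_cases hle : rs.length ≤ d
  · exact HasReg.extend hrs hmem (by rwa [Nat.add_sub_cancel' hle])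
  · rw [Nat.sub_eq_zero_of_le (by omega)]; exact HasReg.zero _

set_option maxHeartbeats 800000 in
/-- CM modules: `dim M = dim M/IM + depth_I M`, with a witnessing sequence. -/
theorem exists_seq_cm [Nontrivial M] {d : ℕ} (hdim : Module.supportDim R M = d)
    (hdep : HasReg (IsLocalRing.maximalIdeal R) M d) {I : Ideal R}
    (hI : I ≤ IsLocalRing.maximalIdeal R) :
    ∃ rs : List R, IsWeaklyRegular M rs ∧ (∀ r ∈ rs, r ∈ I) ∧ rs.length ≤ d ∧
      LocCoh.idealDepth I M = rs.length ∧
      Module.supportDim R (M ⧸ (Ideal.ofList rs • ⊤ : Submodule R M)) = ((d - rs.length : ℕ) : WithBot ℕ∞) ∧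
      Module.supportDim R (M ⧸ (I • (⊤ : Submodule R M))) = ((d - rs.length : ℕ) : WithBot ℕ∞) := by
  obtain ⟨rs, hrs, hmem, hmax, hdepth⟩ := exists_idealDepth_eq (smul_top_ne_top (M := M) hI)
  have hmem' : ∀ r ∈ rs, r ∈ IsLocalRing.maximalIdeal R := fun r hr => hI (hmem r hr)
  have hreg : IsRegular M rs := IsRegular.of_isWeaklyRegular_of_mem_maximalIdeal M hmem' hrs
  haveI := hreg.quot_ofList_smul_nontrivial
  have hadd := Module.supportDim_add_length_eq_supportDim_of_isRegular rs hreg
  rw [hdim] at hadd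
  obtain ⟨q, hq, hIq⟩ := exists_associatedPrime_of_noReg hmax
  have hlow := hasReg_le_dim_quotient (hasReg_quot_ofList hrs hmem' hdep) q hq
  have hqs := mem_support_of_mem_associatedPrimes hq
  have hup := dim_le_supportDim_of_mem_support hqs
  have hle : rs.length ≤ d := by
    by_contra hlt
    have h0 : (0 : WithBot ℕ∞) ≤ Module.supportDim R (M ⧸ (Ideal.ofList rs • ⊤ : Submodule R M)) :=
      le_trans (by exact_mod_cast Nat.zero_le _) (hlow.trans hup)
    have := (add_le_add h0 (le_refl (rs.length : WithBot ℕ∞))).trans hadd.le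
    rw [zero_add] at this
    exact hlt (by exact_mod_cast this)
  have heq : Module.supportDim R (M ⧸ (Ideal.ofList rs • ⊤ : Submodule R M)) = ((d - rs.length : ℕ) : WithBot ℕ∞) := by
    refine le_antisymm ((ENat.WithBot.add_le_add_natCast_right_iff (c := rs.length)).1 ?_) (hlow.trans hup)
    rw [hadd, ← Nat.cast_add, Nat.sub_add_cancel hle]
  have hle' : (Ideal.ofList rs • ⊤ : Submodule R M) ≤ I • ⊤ :=
    Submodule.smul_mono_left (Ideal.span_le.2 hmem)
  refine ⟨rs, hrs, hmem, hle, hdepth, heq, le_antisymm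
    ((Module.supportDim_le_of_surjective (Submodule.factor hle') (Submodule.factor_surjective hle')).trans heq.le) ?_⟩
  obtain ⟨qq, hqq⟩ : ∃ qq : PrimeSpectrum R, qq = ⟨q, hq.isPrime⟩ := ⟨_, rfl⟩
  have hIqq : I ≤ qq.asIdeal := by rw [hqq]; exact hIq
  rw [← hqq] at hqs
  have hqM : qq ∈ Module.support R M := by
    have := (mem_support_quot_iff (M := M) (Ideal.ofList rs) qq).1 hqs
    exact this.1
  have hI2 : qq ∈ Module.support R (M ⧸ (I • (⊤ : Submodule R M))) :=
    (mem_support_quot_iff (M := M) I qq).2 ⟨hqM, hIqq⟩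
  have h3 := dim_le_supportDim_of_mem_support hI2
  rw [hqq] at h3
  exact hlow.trans h3

end Local

end Groth.Agent.H2DepthMore
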