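/-
Segre products of graded modules: dimension
-/
import Groth.Prelude.Def_GrSeg
import Groth.Prelude.Def_GrLC
import Groth.Prelude.Def_CAlg
import Groth.Agent.Lib.GrSegreDim
import Groth.Agent.Lib.SegreBilinear
import Groth.Agent.Lib.H2Depth
import Groth.Agent.Lib.H2DepthMore
import Mathlib

set_option autoImplicit false
open Groth.Agent.GrSegreDim Groth.Agent.SegreBilinear
universe u v
open scoped TensorProduct
open DirectSum

namespace Groth.Agent.GrSegreModuleDim


/-! ### dimension of a module finite over a subalgebra -/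

theorem supportDim_eq_quot {A R M : Type u} [CommRing A] [IsNoetherianRing A] [CommRing R] [Algebra A R]
    [AddCommGroup M] [Module A M] [Module R M] [IsScalarTower A R M] [Module.Finite A M] :
    Module.Finite A (R ⧸ Module.annihilator R M) ∧
      Module.supportDim R M = ringKrullDim (A ⧸ Module.annihilator A M) := by
  haveI : Module.Finite R M := Module.Finite.of_restrictScalars_finite A R M
  let J := Module.annihilator R M
  let ψ : (R ⧸ J) →ₗ[A] Module.End A M :=
    Submodule.liftQ (J.restrictScalars A) (Algebra.lsmul A A M).toLinearMap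
      (fun r hr => LinearMap.ext fun m => Module.mem_annihilator.mp hr m) ∘ₗ
      (Submodule.Quotient.restrictScalarsEquiv A J).symm.toLinearMap
  have hψ : ∀ r, ψ (Ideal.Quotient.mk J r) = Algebra.lsmul A A M r := fun r => by
    simp [ψ]
    rfl
  have hinj : Function.Injective ψ := by
    refine (injective_iff_map_eq_zero _).mpr fun x hx => ?_
    obtain ⟨r, rfl⟩ := Ideal.Quotient.mk_surjective x
    rw [hψ] at hx
    exact Ideal.Quotient.eq_zero_iff_mem.mpr (Module.mem_annihilator.mpr fun m => LinearMap.congr_fun hx m)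
  haveI : Module.Finite A (Module.End A M) := by
    obtain ⟨n, p, hp⟩ := Module.Finite.exists_fin' A M
    haveI : IsNoetherian A M := isNoetherian_of_isNoetherianRing_of_finite A M
    exact Module.Finite.of_injective
      (LinearMap.pi fun i : Fin n => LinearMap.applyₗ (p (Pi.single i 1)))
      ((injective_iff_map_eq_zero _).mpr fun e he => (LinearMap.cancel_right hp).mp
        ((Pi.basisFun A (Fin n)).ext fun i => by simpa using congrFun he i))
  haveI hfin : Module.Finite A (R ⧸ J) := Module.Finite.of_injective ψ hinj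
  refine ⟨hfin, ?_⟩
  rw [Module.supportDim_eq_ringKrullDim_quotient_annihilator]
  let π : A →+* R ⧸ J := algebraMap A (R ⧸ J)
  have hker : ∀ a, π a = 0 ↔ a ∈ Module.annihilator A M := fun a => by
    show Ideal.Quotient.mk J (algebraMap A R a) = 0 ↔ _
    rw [Ideal.Quotient.eq_zero_iff_mem, Module.mem_annihilator, Module.mem_annihilator]
    simp only [algebraMap_smul]
  let π' : (A ⧸ Module.annihilator A M) →+* R ⧸ J :=
    Ideal.Quotient.lift _ π fun a ha => (hker a).mpr ha
  letI := π'.toAlgebra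
  haveI : IsScalarTower A (A ⧸ Module.annihilator A M) (R ⧸ J) :=
    IsScalarTower.of_algebraMap_eq fun a => rfl
  haveI : Module.Finite (A ⧸ Module.annihilator A M) (R ⧸ J) :=
    Module.Finite.of_restrictScalars_finite A _ _
  haveI : Algebra.IsIntegral (A ⧸ Module.annihilator A M) (R ⧸ J) := Algebra.IsIntegral.of_finite _ _
  have h : Function.Injective (algebraMap (A ⧸ Module.annihilator A M) (R ⧸ J)) := by
    refine (injective_iff_map_eq_zero _).mpr fun x hx => ?_
    obtain ⟨a, rfl⟩ := Ideal.Quotient.mk_surjective x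
    exact Ideal.Quotient.eq_zero_iff_mem.mpr ((hker a).mp hx)
  exact le_antisymm dim_le_of_integral (dim_le_of_integral_injective h)

section Graded
variable {k R : Type u} [Field k] [CommRing R] [Algebra k R] (𝒜 : ℤ → Submodule k R) [GradedAlgebra 𝒜]
  {M : Type u} [AddCommGroup M] [Module R M] (ℳ : ℤ → AddSubgroup M) [Decomposition ℳ]
  [SetLike.GradedSMul 𝒜 ℳ]

theorem proj_smul_piece (r : R) {n : ℤ} {x : M} (hx : x ∈ ℳ n) (i : ℤ) :
    (decompose ℳ (r • x) (i + n) : M) = (decompose 𝒜 r i : R) • x := by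
  classical
  induction r using DirectSum.Decomposition.inductionOn 𝒜 with
  | zero => simp
  | @homogeneous j a =>
    have hm : (a : R) • x ∈ ℳ (j + n) := SetLike.GradedSMul.smul_mem (B := ℳ) a.2 hx
    by_cases h : j = i
    · subst h; rw [decompose_of_mem_same ℳ hm, decompose_of_mem_same 𝒜 a.2]
    · rw [decompose_of_mem_ne ℳ hm (by omega), decompose_of_mem_ne 𝒜 a.2 h, zero_smul]
  | add a b ha hb => simp [add_smul, decompose_add, ha, hb]

theorem proj_smul_left {d : ℤ} {a : R} (ha : a ∈ 𝒜 d) (x : M) (n : ℤ) :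
    (decompose ℳ (a • x) n : M) = a • (decompose ℳ x (n - d) : M) := by
  classical
  induction x using DirectSum.Decomposition.inductionOn ℳ with
  | zero => simp
  | @homogeneous j m =>
    have hm : a • (m : M) ∈ ℳ (d + j) := SetLike.GradedSMul.smul_mem (B := ℳ) ha m.2
    by_cases h : j = n - d
    · subst h
      rw [show d + (n - d) = n by omega] at hm
      rw [decompose_of_mem_same ℳ hm, decompose_of_mem_same ℳ m.2]
    · rw [decompose_of_mem_ne ℳ hm (by omega), decompose_of_mem_ne ℳ m.2 h, smul_zero]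
  | add p q hp hq => simp [smul_add, decompose_add, hp, hq]

theorem torsionOf_isHomogeneous {n : ℤ} {x : M} (hx : x ∈ ℳ n) :
    (Ideal.torsionOf R M x).IsHomogeneous 𝒜 := by
  intro i r hr
  rw [Ideal.mem_torsionOf_iff] at hr ⊢
  rw [← proj_smul_piece 𝒜 ℳ r hx i, hr]
  simp

include ℳ in
theorem annihilator_isHomogeneous : (Module.annihilator R M).IsHomogeneous 𝒜 := by
  intro i r hr
  rw [Module.mem_annihilator] at hr ⊢
  intro m
  induction m using DirectSum.Decomposition.inductionOn ℳ with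
  | zero => simp
  | @homogeneous j m => rw [← proj_smul_piece 𝒜 ℳ r m.2 i, hr]; simp
  | add a b ha hb => rw [smul_add, ha, hb, add_zero]

end Graded

section Sop
variable {k R : Type u} [Field k] [CommRing R] [Algebra k R] (𝒜 : ℤ → Submodule k R) [GradedAlgebra 𝒜]

/-- The ideal of positive degree elements. -/
def mR : Ideal R := Ideal.span (⋃ n ∈ Set.Ioi (0 : ℤ), (𝒜 n : Set R))

omit [GradedAlgebra 𝒜] in
theorem pl_iff (q : Ideal R) : Pl 𝒜 q ↔ mR 𝒜 ≤ q := by
  rw [mR, Ideal.span_le, Set.iUnion₂_subset_iff]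
  exact ⟨fun h n hn x hx => h n hn x hx, fun h n hn x hx => h n hn hx⟩

theorem mR_isMaximal (hpos : ∀ n : ℤ, n < 0 → 𝒜 n = ⊥) (h0 : 𝒜 0 = Submodule.span k {(1 : R)})
    [Nontrivial R] : (mR 𝒜).IsMaximal := by
  have hne : mR 𝒜 ≠ ⊤ := by
    have := sup_ne_top 𝒜 hpos ⊥ (Ideal.IsHomogeneous.bot 𝒜) bot_ne_top
    rwa [bot_sup_eq] at this
  refine ⟨⟨hne, fun J hJ => ?_⟩⟩
  obtain ⟨x, hxJ, hxq⟩ := SetLike.exists_of_lt hJ
  obtain ⟨c, hc⟩ := exists_scalar 𝒜 hpos h0 (mR 𝒜) ((pl_iff 𝒜 _).mpr le_rfl) x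
  have hc0 : c ≠ 0 := fun h => hxq (by simpa [h] using hc)
  refine Ideal.eq_top_of_isUnit_mem _ (x := algebraMap k R c) ?_ ((IsUnit.mk0 c hc0).map _)
  simpa using J.sub_mem hxJ (hJ.le hc)

theorem le_mR (hpos : ∀ n : ℤ, n < 0 → 𝒜 n = ⊥) (h0 : 𝒜 0 = Submodule.span k {(1 : R)})
    (q : Ideal R) (hqh : q.IsHomogeneous 𝒜) (hq : q ≠ ⊤) : q ≤ mR 𝒜 := by
  haveI : Nontrivial R := nontrivial_of_ne (0 : R) 1 fun h =>
    hq ((Ideal.eq_top_iff_one _).mpr (h ▸ q.zero_mem))
  have h := sup_ne_top 𝒜 hpos q hqh hq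
  have := (mR_isMaximal 𝒜 hpos h0).eq_of_le h (le_sup_right (a := q))
  rw [this]; exact le_sup_left

/-- Homogeneous systems of parameters, measured at the irrelevant ideal. -/
theorem exists_sop_local [IsNoetherianRing R] (hpos : ∀ n : ℤ, n < 0 → 𝒜 n = ⊥)
    (h0 : 𝒜 0 = Submodule.span k {(1 : R)}) :
    ∀ (n : ℕ) (I : Ideal R), I.IsHomogeneous 𝒜 →
      (∀ l : LTSeries (PrimeSpectrum R), I ≤ l.head.asIdeal → l.last.asIdeal ≤ mR 𝒜 → l.length ≤ n) →
      ∃ L : List (ℕ × R), L.length ≤ n ∧ (∀ x ∈ L, 0 < x.1 ∧ x.2 ∈ 𝒜 (x.1 : ℤ)) ∧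
        ∀ p : Ideal R, p.IsPrime → I ≤ p → (∀ x ∈ L, x.2 ∈ p) → Pl 𝒜 p := by
  classical
  intro n
  induction n with
  | zero =>
    intro I hI hdim
    refine ⟨[], le_rfl, by simp, fun p hp hIp _ => ?_⟩
    haveI : Nontrivial R := nontrivial_of_ne (0 : R) 1 fun h =>
      hp.ne_top ((Ideal.eq_top_iff_one _).mpr (h ▸ p.zero_mem))
    haveI := mR_isMaximal 𝒜 hpos h0
    obtain ⟨q, hq, hqp⟩ := Ideal.exists_minimalPrimes_le hIp
    intro m hm x hx
    refine hqp ?_
    by_contra hxq
    have hle := le_mR 𝒜 hpos h0 q (isHomogeneous_minimalPrime 𝒜 I hI q hq) hq.1.1.ne_top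
    have hlt : (⟨q, hq.1.1⟩ : PrimeSpectrum R) < ⟨mR 𝒜, inferInstance⟩ := by
      refine lt_of_le_of_ne hle fun h => hxq ?_
      have e : q = mR 𝒜 := congrArg PrimeSpectrum.asIdeal h
      exact e ▸ (pl_iff 𝒜 _).mpr le_rfl m hm x hx
    have := hdim ((RelSeries.singleton _ (⟨mR 𝒜, inferInstance⟩ : PrimeSpectrum R)).cons ⟨q, hq.1.1⟩ hlt)
      (by show I ≤ q; exact hq.1.2) (by simp [RelSeries.cons, RelSeries.last, RelSeries.append, Fin.append, Fin.addCases] <;> exact le_rfl)
    simp [RelSeries.cons, RelSeries.append] at this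
  | succ n ih =>
    intro I hI hdim
    have hfin : I.minimalPrimes.Finite := I.finite_minimalPrimes_of_isNoetherianRing R
    let Q := hfin.toFinset.filter fun q => ¬ Pl 𝒜 q
    have hQ : ∀ q ∈ Q, q ∈ I.minimalPrimes ∧ ¬ Pl 𝒜 q := fun q hq => by simpa [Q] using hq
    obtain ⟨D, hD, f, hf, havoid⟩ := exists_avoid 𝒜 hpos Q (fun q hq => (hQ q hq).1.1.1)
      (fun q hq => isHomogeneous_minimalPrime 𝒜 I hI q (hQ q hq).1) (fun q hq => (hQ q hq).2)
      (fun q hq q' hq' h => le_antisymm h ((hQ q hq).1.2 ⟨(hQ q' hq').1.1.1, (hQ q' hq').1.1.2⟩ h))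
    have hI' : (I ⊔ Ideal.span {f}).IsHomogeneous 𝒜 :=
      hI.sup (Ideal.homogeneous_span 𝒜 _ (by rintro x rfl; exact ⟨_, hf⟩))
    obtain ⟨L, hL, hLh, hLp⟩ := ih (I ⊔ Ideal.span {f}) hI' (by
      intro l hl hlast
      haveI := l.head.isPrime
      obtain ⟨q, hq, hqp⟩ := Ideal.exists_minimalPrimes_le (le_sup_left.trans hl)
      by_cases hqf : f ∈ q
      · have hPl : Pl 𝒜 q := by
          by_contra h
          exact havoid q (by simp [Q, hq, h]) hqf
        haveI := hq.1.1
        have hmax := isMaximal_of_pl 𝒜 hpos h0 q hPl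
        by_contra hlen
        have hlt : l.head < l.toFun ⟨1, by omega⟩ := l.strictMono (show (0 : Fin (l.length + 1)) < ⟨1, by omega⟩ by simp [Fin.lt_def])
        have : q < (l.toFun ⟨1, by omega⟩).asIdeal := lt_of_le_of_lt hqp hlt
        exact (l.toFun ⟨1, by omega⟩).isPrime.ne_top (hmax.1.2 _ this)
      · have hlt : (⟨q, hq.1.1⟩ : PrimeSpectrum R) < l.head :=
          lt_of_le_of_ne hqp fun h => hqf (by
            have : f ∈ l.head.asIdeal := hl (Ideal.mem_sup_right (Ideal.mem_span_singleton_self f))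
            rwa [← h] at this)
        have := hdim (l.cons ⟨q, hq.1.1⟩ hlt) (by rw [RelSeries.head_cons]; exact hq.1.2)
          (by rw [RelSeries.last_cons]; exact hlast)
        simp at this
        omega)
    refine ⟨(D, f) :: L, by simpa using hL, ?_, fun p hp hIp hall => ?_⟩
    · intro x hx
      rcases List.mem_cons.mp hx with rfl | hx
      · exact ⟨hD, hf⟩
      · exact hLh x hx
    · refine hLp p hp (sup_le hIp ?_) fun x hx => hall x (List.mem_cons_of_mem _ hx)
      rw [Ideal.span_le, Set.singleton_subset_iff]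
      exact hall _ List.mem_cons_self

theorem exists_system (hpos : ∀ n : ℤ, n < 0 → 𝒜 n = ⊥)
    (h0 : 𝒜 0 = Submodule.span k {(1 : R)}) [Algebra.FiniteType k R] (I : Ideal R)
    (hI : I.IsHomogeneous 𝒜) (n : ℕ)
    (hn : ∀ l : LTSeries (PrimeSpectrum R), I ≤ l.head.asIdeal → l.last.asIdeal ≤ mR 𝒜 → l.length ≤ n) :
    ∃ d : ℕ, 0 < d ∧ ∀ e : ℕ, 0 < e → d ∣ e →
      ∃ c : ℕ, c ≤ n ∧ ∃ f : Fin c → R, (∀ i, f i ∈ 𝒜 (e : ℤ)) ∧
        Module.Finite k (R ⧸ (I ⊔ Ideal.span (Set.range f))) := by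
  classical
  haveI : IsNoetherianRing R := Algebra.FiniteType.isNoetherianRing k R
  obtain ⟨L, hL, hLh, hLp⟩ := exists_sop_local 𝒜 hpos h0 n I hI hn
  refine ⟨∏ i : Fin L.length, (L.get i).1, Finset.prod_pos fun i _ => (hLh _ (L.get_mem i)).1, fun e he hde => ?_⟩
  have hdvd : ∀ i : Fin L.length, (L.get i).1 ∣ e := fun i =>
    (Finset.dvd_prod_of_mem (fun i => (L.get i).1) (Finset.mem_univ i)).trans hde
  let f : Fin L.length → R := fun i => (L.get i).2 ^ (e / (L.get i).1)
  refine ⟨L.length, hL, f, fun i => ?_, ?_⟩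
  · have := SetLike.pow_mem_graded (e / (L.get i).1) (hLh _ (L.get_mem i)).2
    convert this using 2
    rw [nsmul_eq_mul]
    norm_cast
    exact (Nat.div_mul_cancel (hdvd i)).symm
  · let J := I ⊔ Ideal.span (Set.range f)
    haveI : Algebra.FiniteType k (R ⧸ J) :=
      Algebra.FiniteType.of_surjective (Ideal.Quotient.mkₐ k J) Ideal.Quotient.mk_surjective
    have hrad : ∀ n : ℤ, 0 < n → ∀ x ∈ 𝒜 n, x ∈ J.radical := by
      intro n hn x hx
      rw [Ideal.radical_eq_sInf]
      refine Ideal.mem_sInf.mpr fun {p} hp => hLp p hp.2 (le_sup_left.trans hp.1) (fun z hz => ?_) n hn x hx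
      obtain ⟨i, rfl⟩ := List.get_of_mem hz
      exact hp.2.mem_of_pow_mem _ (hp.1 (Ideal.mem_sup_right (Ideal.subset_span ⟨i, rfl⟩)))
    haveI : Algebra.IsIntegral k (R ⧸ J) := by
      refine ⟨fun y => ?_⟩
      obtain ⟨x, rfl⟩ := Ideal.Quotient.mk_surjective y
      obtain ⟨c, N, hN⟩ := exists_scalar 𝒜 hpos h0 J.radical hrad x
      refine ⟨(Polynomial.X - Polynomial.C c) ^ (N + 1), (Polynomial.monic_X_sub_C c).pow _, ?_⟩
      rw [Polynomial.eval₂_pow, Polynomial.eval₂_sub, Polynomial.eval₂_X, Polynomial.eval₂_C,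
        show algebraMap k (R ⧸ J) c = Ideal.Quotient.mk J (algebraMap k R c) from rfl, ← map_sub, ← map_pow,
        Ideal.Quotient.eq_zero_iff_mem, pow_succ]
      exact J.mul_mem_right _ hN
    exact Algebra.IsIntegral.finite


/-- Elements are spanned by lifts of a spanning set modulo `J`, up to `FM`. -/
theorem mem_sup_of_gens {k R M : Type u} [Field k] [CommRing R] [Algebra k R] [AddCommGroup M] [Module R M]
    [Module k M] [IsScalarTower k R M] (J : Ideal R) (W : Submodule k M) (FM : Submodule R M)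
    (hJ : ∀ j ∈ J, ∀ m : M, j • m ∈ FM) (s : Set (R ⧸ J)) (hs : Submodule.span k s = ⊤)
    (lift : R ⧸ J → R) (hlift : ∀ y, Ideal.Quotient.mk J (lift y) = y)
    (t : Set M) (ht : Submodule.span R t = ⊤) (hgen : ∀ y ∈ s, ∀ m ∈ t, lift y • m ∈ W) (x : M) :
    x ∈ W ⊔ FM.restrictScalars k := by
  have hJm : ∀ j ∈ J, ∀ m : M, j • m ∈ W ⊔ FM.restrictScalars k := fun j hj m =>
    Submodule.mem_sup_right (hJ j hj m)
  have hrm : ∀ m ∈ t, ∀ y ∈ Submodule.span k s, ∀ r, Ideal.Quotient.mk J r = y →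
      r • m ∈ W ⊔ FM.restrictScalars k := by
    intro m hm y hy
    induction hy using Submodule.span_induction with
    | zero => exact fun r hr => hJm r (Ideal.Quotient.eq_zero_iff_mem.mp hr) m
    | add a b _ _ ha hb =>
      intro r hr
      obtain ⟨ra, rfl⟩ := Ideal.Quotient.mk_surjective a
      obtain ⟨rb, rfl⟩ := Ideal.Quotient.mk_surjective b
      rw [← map_add, Ideal.Quotient.eq] at hr
      have e : r • m = ra • m + rb • m + (r - (ra + rb)) • m := by rw [sub_smul, add_smul]; abel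
      rw [e]
      exact add_mem (add_mem (ha ra rfl) (hb rb rfl)) (hJm _ hr m)
    | smul a b _ hb =>
      intro r hr
      obtain ⟨rb, rfl⟩ := Ideal.Quotient.mk_surjective b
      rw [← Ideal.Quotient.mkₐ_eq_mk k, ← map_smul, Ideal.Quotient.mkₐ_eq_mk, Ideal.Quotient.eq] at hr
      have e : r • m = a • (rb • m) + (r - a • rb) • m := by rw [sub_smul, smul_assoc]; abel
      rw [e]
      exact add_mem (Submodule.smul_mem _ a (hb rb rfl)) (hJm _ hr m)
    | mem y hy =>
      intro r hr
      have e : r • m = lift y • m + (r - lift y) • m := by rw [sub_smul]; abel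
      rw [e]
      exact add_mem (Submodule.mem_sup_left (hgen y hy m hm))
        (hJm _ (Ideal.Quotient.eq.mp (hr.trans (hlift y).symm)) m)
  have hx : x ∈ Submodule.span R t := ht ▸ Submodule.mem_top
  suffices ∀ r : R, r • x ∈ W ⊔ FM.restrictScalars k by simpa using this 1
  induction hx using Submodule.span_induction with
  | zero => intro r; simp
  | add a b _ _ ha hb => intro r; rw [smul_add]; exact add_mem (ha r) (hb r)
  | smul a b _ hb => intro r; rw [smul_smul]; exact hb _
  | mem m hm => exact fun r => hrm m hm _ (hs ▸ Submodule.mem_top) r rfl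

set_option maxHeartbeats 1000000 in
/-- Systems for a finite graded module. -/
theorem goodSys_mod (hpos : ∀ n : ℤ, n < 0 → 𝒜 n = ⊥)
    {M : Type u} [AddCommGroup M] [Module R M] [Module k M] [IsScalarTower k R M]
    (ℳ : ℤ → AddSubgroup M) [Decomposition ℳ] [SetLike.GradedSMul 𝒜 ℳ] [Module.Finite R M]
    {d : ℕ} (hd : 0 < d) {c : ℕ} (f : Fin c → R) (hf : ∀ i, f i ∈ 𝒜 d)
    [Module.Finite k (R ⧸ (Module.annihilator R M ⊔ Ideal.span (Set.range f)))] :
    GoodSys (k := k) ℳ d f := by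
  classical
  let J := Module.annihilator R M ⊔ Ideal.span (Set.range f)
  obtain ⟨s, hs⟩ := Module.Finite.fg_top (R := k) (M := R ⧸ J)
  obtain ⟨t, ht⟩ := Module.Finite.fg_top (R := R) (M := M)
  choose lift hlift using fun y : R ⧸ J => Ideal.Quotient.mk_surjective y
  -- homogeneous generators
  let G0 : Finset (ℤ × M) := t.biUnion fun m => (decompose ℳ m).support.image fun i => (i, (decompose ℳ m i : M))
  let G : Finset (ℤ × M) := (s.image lift ×ˢ t).biUnion fun q =>
    (decompose ℳ (q.1 • q.2)).support.image fun i => (i, (decompose ℳ (q.1 • q.2) i : M))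
  refine ⟨G, ?_, ?_⟩
  · intro g hg
    obtain ⟨m, -, hg⟩ := Finset.mem_biUnion.mp hg
    obtain ⟨i, -, rfl⟩ := Finset.mem_image.mp hg
    exact (decompose ℳ (m.1 • m.2) i).2
  let W := Submodule.span k {x : M | ∃ u ∈ G, ∃ L : List (Fin c), x = mon f L • u.2}
  let FM : Submodule R M := Ideal.span (Set.range f) • ⊤
  have hGW : ∀ g ∈ G, g.2 ∈ W := fun g hg =>
    Submodule.subset_span ⟨g, hg, [], by simp [mon]⟩
  have hmod : ∀ x : M, x ∈ W ⊔ FM.restrictScalars k := by
    refine mem_sup_of_gens J W FM (fun j hj m => ?_) (s : Set (R ⧸ J)) hs lift hlift (t : Set M) ht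
      (fun y hy m hm => ?_)
    · obtain ⟨a, ha, b, hb, rfl⟩ := Submodule.mem_sup.mp hj
      rw [add_smul, Module.mem_annihilator.mp ha m, zero_add]
      exact Submodule.smul_mem_smul hb Submodule.mem_top
    · rw [← DirectSum.sum_support_decompose ℳ (lift y • m)]
      exact Submodule.sum_mem _ fun i hi => hGW (i, _) (Finset.mem_biUnion.mpr
        ⟨(lift y, m), Finset.mem_product.mpr ⟨Finset.mem_image_of_mem _ hy, hm⟩,
          Finset.mem_image.mpr ⟨i, hi, rfl⟩⟩)
  -- lower bound on the degrees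
  obtain ⟨N0, hN0⟩ : ∃ N0 : ℤ, ∀ g ∈ G0, N0 ≤ g.1 := by
    obtain ⟨b, hb⟩ := (G0.image Prod.fst).bddBelow
    exact ⟨b, fun g hg => hb (Finset.mem_coe.mpr (Finset.mem_image_of_mem _ hg))⟩
  have hlow : ∀ n : ℤ, n < N0 → ∀ x : M, (decompose ℳ x n : M) = 0 := by
    intro n hn x
    have hx : x ∈ Submodule.span R (t : Set M) := ht ▸ Submodule.mem_top
    suffices ∀ r : R, (decompose ℳ (r • x) n : M) = 0 by simpa using this 1
    induction hx using Submodule.span_induction with
    | zero => intro r; simp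
    | add a b _ _ ha hb => intro r; simp [smul_add, decompose_add, ha r, hb r]
    | smul a b _ hb => intro r; rw [smul_smul]; exact hb _
    | mem m hm =>
      intro r
      rw [← DirectSum.sum_support_decompose ℳ m, Finset.smul_sum, decompose_sum, DFinsupp.finsetSum_apply,
        AddSubgroup.val_finsetSum]
      refine Finset.sum_eq_zero fun i hi => ?_
      have hg : N0 ≤ i := hN0 (i, (decompose ℳ m i : M)) (Finset.mem_biUnion.mpr ⟨m, hm, Finset.mem_image.mpr ⟨i, hi, rfl⟩⟩)
      have := proj_smul_piece 𝒜 ℳ r (decompose ℳ m i).2 (n - i)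
      rw [sub_add_cancel] at this
      rw [this, (Submodule.mem_bot k).mp ((hpos (n - i) (by omega)).le (decompose 𝒜 r (n - i)).2), zero_smul]
  have hfW : ∀ i, ∀ w ∈ W, f i • w ∈ W := by
    intro i w hw
    induction hw using Submodule.span_induction with
    | zero => rw [smul_zero]; exact zero_mem _
    | add a b _ _ ha hb => rw [smul_add]; exact add_mem ha hb
    | smul a b _ hb => rw [smul_comm]; exact W.smul_mem a hb
    | mem z hz =>
      obtain ⟨u, hu, L, rfl⟩ := hz
      exact Submodule.subset_span ⟨u, hu, i :: L, by simp [mon, smul_smul]⟩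
  have hWproj : ∀ (n : ℤ), ∀ w ∈ W, (decompose ℳ w n : M) ∈ W := by
    intro n w hw
    induction hw using Submodule.span_induction with
    | zero => simp
    | add a b _ _ ha hb => rw [decompose_add]; exact add_mem ha hb
    | smul a b _ hb => rw [proj_smul 𝒜]; exact W.smul_mem a hb
    | mem z hz =>
      obtain ⟨u, hu, L, rfl⟩ := hz
      obtain ⟨m, -, hg⟩ := Finset.mem_biUnion.mp hu
      obtain ⟨i, -, rfl⟩ := Finset.mem_image.mp hg
      have hm : mon f L • (decompose ℳ (m.1 • m.2) i : M) ∈ ℳ (((L.length * d : ℕ) : ℤ) + i) :=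
        SetLike.GradedSMul.smul_mem (B := ℳ) (mon_mem 𝒜 f d hf L) (decompose ℳ (m.1 • m.2) i).2
      by_cases hn : ((L.length * d : ℕ) : ℤ) + i = n
      · subst hn; rw [decompose_of_mem_same ℳ hm]; exact Submodule.subset_span ⟨_, hu, L, rfl⟩
      · rw [decompose_of_mem_ne ℳ hm hn]; exact zero_mem _
  have hpiece : ∀ (N : ℕ), ∀ n : ℤ, n < N0 + N → ∀ x : M, (decompose ℳ x n : M) ∈ W := by
    intro N
    induction N with
    | zero => intro n hn x; rw [hlow n (by simpa using hn) x]; exact zero_mem _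
    | succ N ih =>
      intro n hn x
      obtain ⟨w, hw, z, hz, rfl⟩ := Submodule.mem_sup.mp (hmod x)
      rw [decompose_add, DirectSum.add_apply, AddSubgroup.coe_add]
      refine add_mem (hWproj n w hw) ?_
      have hz' : z ∈ Ideal.span (Set.range f) • (⊤ : Submodule R M) := hz
      clear hz
      refine Submodule.smul_induction_on hz' (fun a ha y _ => ?_) (fun a b ha hb => ?_)
      · clear hmod
        induction ha using Submodule.span_induction generalizing y with
        | zero => simp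
        | add a b _ _ ha hb =>
          rw [add_smul, decompose_add, DirectSum.add_apply, AddSubgroup.coe_add]
          exact add_mem (ha y trivial) (hb y trivial)
        | smul r a _ ha => rw [smul_eq_mul, mul_comm, ← smul_smul]; exact ha (r • y) trivial
        | mem a ha =>
          obtain ⟨i, rfl⟩ := ha
          rw [proj_smul_left 𝒜 ℳ (hf i)]
          exact hfW i _ (ih _ (by push_cast at hn; omega) y)
      · rw [decompose_add, DirectSum.add_apply, AddSubgroup.coe_add]; exact add_mem ha hb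
  rw [eq_top_iff]
  intro x _
  rw [← DirectSum.sum_support_decompose ℳ x]
  exact Submodule.sum_mem _ fun i _ => hpiece ((i - N0).toNat + 1) i (by push_cast; omega) x

end Sop

section Free
variable {k R M : Type u} [Field k] [CommRing R] [Algebra k R] [AddCommGroup M] [Module R M]

/-- `x` has free orbit under the subalgebra generated by the `f i`. -/
def Free' (k : Type u) [Field k] {R M : Type u} [CommRing R] [Algebra k R] [AddCommGroup M] [Module R M]
    {c : ℕ} (f : Fin c → R) (x : M) : Prop :=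
  ∀ p : MvPolynomial (Fin c) k, MvPolynomial.aeval f p • x = 0 → p = 0

theorem module_data {τ : Type u} [SetLike τ M] (ℳ : ℤ → τ) [Module k M] [IsScalarTower k R M]
    {d c : ℕ} (f : Fin c → R) (hG : GoodSys (k := k) ℳ d f) (r : ℕ) (hr : Module.supportDim R M = r) :
    r ≤ c ∧
    (c ≤ r → ∀ p : MvPolynomial (Fin c) k, (∀ m : M, MvPolynomial.aeval f p • m = 0) → p = 0) ∧
    (∀ (q : Ideal R), q.IsPrime → Module.annihilator R M ≤ q → ∀ p : MvPolynomial (Fin c) k, p ≠ 0 →
      MvPolynomial.aeval f p ∈ q → ringKrullDim (R ⧸ q) + 1 ≤ c) ∧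
    (c = 0 → IsArtinian R M) := by
  classical
  obtain ⟨U, -, hU⟩ := hG
  let A := MvPolynomial (Fin c) k
  letI : Algebra A R := (MvPolynomial.aeval f : A →ₐ[k] R).toRingHom.toAlgebra
  letI : Module A M := Module.compHom M (algebraMap A R)
  haveI : IsScalarTower A R M := IsScalarTower.of_algebraMap_smul fun _ _ => rfl
  haveI : Module.Finite A M := by
    refine ⟨⟨U.image Prod.snd, ?_⟩⟩
    rw [eq_top_iff]
    rintro x -
    have hx : x ∈ Submodule.span k {x : M | ∃ u ∈ U, ∃ L : List (Fin c), x = mon f L • u.2} := hU ▸ Submodule.mem_top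
    induction hx using Submodule.span_induction with
    | zero => exact zero_mem _
    | add a b _ _ ha hb => exact add_mem ha hb
    | smul a b _ hb =>
      have e : a • b = (MvPolynomial.C a : A) • b := by
        show _ = MvPolynomial.aeval f (MvPolynomial.C a) • b
        rw [MvPolynomial.aeval_C, algebraMap_smul]
      rw [e]
      exact Submodule.smul_mem _ _ hb
    | mem z hz =>
      obtain ⟨u, hu, L, rfl⟩ := hz
      have e : mon f L • u.2 = (mon MvPolynomial.X L : A) • u.2 := by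
        show _ = MvPolynomial.aeval f (mon MvPolynomial.X L) • u.2
        simp [mon, map_list_prod, Function.comp_def]
      rw [e]
      exact Submodule.smul_mem _ _ (Submodule.subset_span (Finset.mem_image_of_mem _ hu))
  obtain ⟨hfin, hdim⟩ := supportDim_eq_quot (A := A) (R := R) (M := M)
  have hA : ringKrullDim A = c := by
    rw [MvPolynomial.ringKrullDim_of_isNoetherianRing, ringKrullDim_eq_zero_of_field, Nat.card_fin, zero_add]
  have hsmall : ∀ (I : Ideal A) (p : A), p ∈ I → p ≠ 0 → ringKrullDim (A ⧸ I) + 1 ≤ c := fun I p hp hp0 => by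
    refine le_trans ?_ (hA ▸ ringKrullDim_quotient_succ_le_of_nonZeroDivisor (mem_nonZeroDivisors_of_ne_zero hp0))
    gcongr
    exact ringKrullDim_le_of_surjective (Ideal.Quotient.factor ((Ideal.span_singleton_le_iff_mem _).mpr hp))
      (Ideal.Quotient.factor_surjective _)
  have h1 : (r : WithBot ℕ∞) ≤ c := by rw [← hr, hdim, ← hA]; exact ringKrullDim_quotient_le _
  refine ⟨by exact_mod_cast h1, fun hc p hp => ?_, fun q hq hqM p hp0 hpq => ?_, fun hc => ?_⟩
  · by_contra hp0
    have := hsmall (Module.annihilator A M) p (Module.mem_annihilator.mpr hp) hp0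
    rw [← hdim, hr] at this
    have : r + 1 ≤ c := by exact_mod_cast this
    omega
  · haveI : Module.Finite A (R ⧸ q) :=
      Module.Finite.of_surjective (Ideal.Quotient.factorₐ A hqM).toLinearMap (Ideal.Quotient.factor_surjective hqM)
    obtain ⟨-, hdq⟩ := supportDim_eq_quot (A := A) (R := R) (M := R ⧸ q)
    rw [← Module.supportDim_quotient_eq_ringKrullDim, hdq]
    refine hsmall _ p (Module.mem_annihilator.mpr fun m => ?_) hp0
    obtain ⟨m, rfl⟩ := Ideal.Quotient.mk_surjective m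
    rw [Algebra.smul_def]
    show Ideal.Quotient.mk q (MvPolynomial.aeval f p) * _ = 0
    rw [Ideal.Quotient.eq_zero_iff_mem.mpr hpq, zero_mul]
  · subst hc
    haveI : IsArtinianRing A := (MvPolynomial.isEmptyRingEquiv k (Fin 0)).symm.surjective.isArtinianRing
    haveI : IsArtinian A M := inferInstance
    exact isArtinian_of_tower A inferInstance

theorem exists_free {τ : Type u} [SetLike τ M] (ℳ : ℤ → τ) [Module k M] [IsScalarTower k R M]
    {d c : ℕ} (f : Fin c → R) (hG : GoodSys (k := k) ℳ d f)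
    (hfaith : ∀ p : MvPolynomial (Fin c) k, (∀ m : M, MvPolynomial.aeval f p • m = 0) → p = 0) :
    ∃ n : ℤ, ∃ x ∈ ℳ n, Free' k f x := by
  classical
  obtain ⟨U, hU, hUtop⟩ := hG
  by_contra h
  push_neg at h
  have h' : ∀ u : U, ∃ p : MvPolynomial (Fin c) k, MvPolynomial.aeval f p • u.1.2 = 0 ∧ p ≠ 0 := fun u => by
    have := h u.1.1 u.1.2 (hU _ u.2)
    simpa [Free'] using this
  choose p hp hp0 using h'
  refine (Finset.prod_ne_zero_iff.mpr fun u _ => hp0 u) (hfaith (∏ u : U, p u) fun m => ?_)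
  have hm : m ∈ Submodule.span k {x : M | ∃ u ∈ U, ∃ L : List (Fin c), x = mon f L • u.2} := hUtop ▸ Submodule.mem_top
  induction hm using Submodule.span_induction with
  | zero => simp
  | add a b _ _ ha hb => rw [smul_add, ha, hb, add_zero]
  | smul a b _ hb => rw [smul_comm, hb, smul_zero]
  | mem z hz =>
    obtain ⟨u, hu, L, rfl⟩ := hz
    rw [← Finset.prod_erase_mul _ _ (Finset.mem_univ (⟨u, hu⟩ : U)), map_mul, smul_smul,
      mul_comm, ← mul_assoc, ← smul_smul, hp, smul_zero]

variable (𝒜 : ℤ → Submodule k R) [GradedAlgebra 𝒜]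

omit [GradedAlgebra 𝒜] in
theorem free_succ (ℳ : ℤ → AddSubgroup M) [SetLike.GradedSMul 𝒜 ℳ]
    (hstd : Ideal.span (⋃ n ∈ Set.Ioi (0 : ℤ), (𝒜 n : Set R)) = Ideal.span ((𝒜 1 : Submodule k R) : Set R))
    {d c : ℕ} (hd : 0 < d) (hc : 0 < c) (f : Fin c → R) (hf : ∀ i, f i ∈ 𝒜 d) {n : ℤ}
    (h : ∃ x ∈ ℳ n, Free' k f x) : ∃ x ∈ ℳ (n + 1), Free' k f x := by
  classical
  obtain ⟨x, hx, hfree⟩ := h
  by_contra hno
  push_neg at hno
  have hy : ∀ y ∈ Ideal.span ((𝒜 1 : Submodule k R) : Set R), ∃ p : MvPolynomial (Fin c) k,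
      p ≠ 0 ∧ MvPolynomial.aeval f p • (y • x) = 0 := by
    intro y hy
    induction hy using Submodule.span_induction with
    | zero => exact ⟨1, one_ne_zero, by simp⟩
    | add a b _ _ ha hb =>
      obtain ⟨p, hp0, hp⟩ := ha
      obtain ⟨q, hq0, hq⟩ := hb
      refine ⟨p * q, mul_ne_zero hp0 hq0, ?_⟩
      rw [add_smul, smul_add, map_mul]
      rw [show (MvPolynomial.aeval f p * MvPolynomial.aeval f q) • (a • x) = 0 by
          rw [mul_comm, ← smul_smul, hp, smul_zero],
        show (MvPolynomial.aeval f p * MvPolynomial.aeval f q) • (b • x) = 0 by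
          rw [← smul_smul, hq, smul_zero], add_zero]
    | smul r a _ ha =>
      obtain ⟨p, hp0, hp⟩ := ha
      exact ⟨p, hp0, by rw [smul_eq_mul, ← smul_smul, smul_comm, hp, smul_zero]⟩
    | mem a ha =>
      have hmem : a • x ∈ ℳ (n + 1) := by
        rw [add_comm]; exact SetLike.GradedSMul.smul_mem (B := ℳ) (show a ∈ 𝒜 1 from ha) hx
      have := hno _ hmem
      simp only [Free', not_forall] at this
      obtain ⟨p, hp, hp0⟩ := this
      exact ⟨p, hp0, hp⟩
  obtain ⟨p, hp0, hp⟩ := hy (f ⟨0, hc⟩) (hstd ▸ Ideal.subset_span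
    (Set.mem_iUnion₂.mpr ⟨(d : ℤ), show (0 : ℤ) < d by exact_mod_cast hd, hf _⟩))
  have := hfree (p * MvPolynomial.X ⟨0, hc⟩) (by rw [map_mul, MvPolynomial.aeval_X, ← smul_smul]; exact hp)
  exact mul_ne_zero hp0 (MvPolynomial.X_ne_zero _) this

end Free

section Main
variable {k R S T M N P : Type u} [Field k] [CommRing R] [CommRing S] [CommRing T]
  [Algebra k R] [Algebra k S] [Algebra k T]
  [AddCommGroup M] [Module R M] [Module k M] [IsScalarTower k R M]
  [AddCommGroup N] [Module S N] [Module k N] [IsScalarTower k S N]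
  [AddCommGroup P] [Module T P] [Module k P] [IsScalarTower k T P]

theorem segre_dim (𝒜 : ℤ → Submodule k R) [GradedAlgebra 𝒜] (ℬ : ℤ → Submodule k S) [GradedAlgebra ℬ]
    (𝒯 : ℤ → Submodule k T) [GradedAlgebra 𝒯] (ψ : T →ₐ[k] R ⊗[k] S) (hT : GrSeg.IsSegreRing 𝒜 ℬ 𝒯 ψ)
    (ℳ : ℤ → AddSubgroup M) [Decomposition ℳ] [SetLike.GradedSMul 𝒜 ℳ]
    (𝒩 : ℤ → AddSubgroup N) [Decomposition 𝒩] [SetLike.GradedSMul ℬ 𝒩]
    (𝒬 : ℤ → AddSubgroup P) [Decomposition 𝒬] (φ : P →ₗ[k] M ⊗[k] N) (hP : GrSeg.IsSegreMod ψ ℳ 𝒩 𝒬 φ)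
    {d : ℕ} (hd : 0 < d) {c e : ℕ} (hc : 1 ≤ c) (he : 1 ≤ e) (f : Fin c → R) (g : Fin e → S)
    (hf : ∀ i, f i ∈ 𝒜 d) (hg : ∀ j, g j ∈ ℬ d)
    (hM : GoodSys (k := k) ℳ d f) (hN : GoodSys (k := k) 𝒩 d g)
    {n : ℤ} (x : M) (hx : x ∈ ℳ n) (hxf : Free' k f x) (y : N) (hy : y ∈ 𝒩 n) (hyf : Free' k g y) :
    Module.supportDim T P = ((c + e - 1 : ℕ) : WithBot ℕ∞) := by
  classical
  obtain ⟨t, ht⟩ := exists_t 𝒜 ℬ 𝒯 ψ hT.2 f g hf hg
  have hψ := hT.1
  have hrange : LinearMap.range φ = ⨆ n : ℤ, GrSeg.segrePiece k ℳ 𝒩 n := by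
    apply le_antisymm
    · rintro _ ⟨p, rfl⟩
      have hp := mem_span_homogeneous (k := k) 𝒬 p
      refine (Submodule.map_span_le φ _ _).mpr ?_ (Submodule.mem_map_of_mem hp)
      intro z hz
      obtain ⟨n, hz⟩ := Set.mem_iUnion.mp hz
      refine Submodule.mem_iSup_of_mem n ?_
      rw [← SetLike.mem_coe, ← hP.image_piece]
      exact ⟨z, hz, rfl⟩
    · refine iSup_le fun n z hz => ?_
      rw [← SetLike.mem_coe, ← hP.image_piece] at hz
      obtain ⟨w, -, rfl⟩ := hz
      exact LinearMap.mem_range_self φ w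
  haveI hPB := segre_finite 𝒜 ℬ ψ ℳ 𝒩 φ hP.injective hP.map_smul hrange hd f g hf hg t ht hM hN
  let P0 := MvPolynomial (Fin c ⊕ Fin e) k
  let K := FractionRing P0
  let Z := MvPolynomial (Fin (c + e - 1)) k
  let X0 : Fin c → P0 := fun i => MvPolynomial.X (Sum.inl i)
  let Y0 : Fin e → P0 := fun j => MvPolynomial.X (Sum.inr j)
  let z0 : Fin (c + e - 1) → P0 := bil (conv k c e) X0 Y0
  let zT : Fin (c + e - 1) → T := fun l => ∑ i, ∑ j, algebraMap k T (conv k c e l i j) * t i j
  let Φ : P0 →ₐ[k] R ⊗[k] S :=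
    MvPolynomial.aeval (Sum.elim (fun i => f i ⊗ₜ[k] (1 : S)) (fun j => (1 : R) ⊗ₜ[k] g j))
  have hXv : ∀ q, Φ (MvPolynomial.X q) =
      Sum.elim (fun i => f i ⊗ₜ[k] (1 : S)) (fun j => (1 : R) ⊗ₜ[k] g j) q := fun q => MvPolynomial.aeval_X _ q
  have hΦX : ∀ i j, Φ (X0 i * Y0 j) = ψ (t i j) := fun i j => by
    rw [map_mul, hXv, hXv, ht, Sum.elim_inl, Sum.elim_inr, Algebra.TensorProduct.tmul_mul_tmul, one_mul, mul_one]
  have hΦz : ∀ l, Φ (z0 l) = ψ (zT l) := fun l => by
    simp only [z0, zT, bil, map_sum, map_mul, AlgHom.commutes]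
    simp only [← map_mul, hΦX]
  letI : Algebra Z T := (MvPolynomial.aeval zT : Z →ₐ[k] T).toRingHom.toAlgebra
  have hcomm : ∀ p : Z, ψ (algebraMap Z T p) = Φ (MvPolynomial.aeval z0 p) := fun p => by
    show ψ (MvPolynomial.aeval zT p) = _
    rw [← AlgHom.comp_apply, ← AlgHom.comp_apply Φ, MvPolynomial.comp_aeval, MvPolynomial.comp_aeval]
    simp only [hΦz]
  have hgen : ∀ i j, IsIntegral Z (t i j) := by
    intro i j
    letI : Algebra Z K := ((algebraMap P0 K).comp (MvPolynomial.aeval z0 : Z →ₐ[k] P0).toRingHom).toAlgebra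
    obtain ⟨p, hp, hpe⟩ := isIntegral_of_nondeg (R := Z) (conv k c e) (nondeg_conv k c e)
      (fun i => algebraMap P0 K (X0 i)) (fun j => algebraMap P0 K (Y0 j))
      (fun a => ⟨MvPolynomial.C a, by
        show algebraMap P0 K (MvPolynomial.aeval z0 (MvPolynomial.C a)) = _
        rw [MvPolynomial.aeval_C, ← IsScalarTower.algebraMap_apply]⟩)
      (fun l => ⟨MvPolynomial.X l, by
        show algebraMap P0 K (MvPolynomial.aeval z0 (MvPolynomial.X l)) = _
        rw [MvPolynomial.aeval_X]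
        exact (map_bil (IsScalarTower.toAlgHom k P0 K) _ _ _ l)⟩) i j
    refine ⟨p, hp, hψ ?_⟩
    have h1 : Polynomial.eval₂ (MvPolynomial.aeval z0 : Z →ₐ[k] P0).toRingHom (X0 i * Y0 j) p = 0 := by
      refine IsFractionRing.injective P0 K ?_
      rw [Polynomial.hom_eval₂, map_zero, map_mul]
      exact hpe
    have h2 := congrArg Φ.toRingHom h1
    rw [Polynomial.hom_eval₂, map_zero] at h2
    rw [map_zero, ← AlgHom.coe_toRingHom, Polynomial.hom_eval₂, show (ψ : T →+* R ⊗[k] S).comp (algebraMap Z T) =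
      Φ.toRingHom.comp (MvPolynomial.aeval z0 : Z →ₐ[k] P0).toRingHom from RingHom.ext hcomm]
    show Polynomial.eval₂ _ (ψ (t i j)) p = 0
    rw [← hΦX]
    exact h2
  haveI : IsScalarTower k Z T := IsScalarTower.of_algebraMap_eq fun a => by
    show _ = MvPolynomial.aeval zT (algebraMap k Z a)
    rw [AlgHom.commutes]
  letI : Module Z P := Module.compHom P (algebraMap Z T)
  haveI : IsScalarTower Z T P := IsScalarTower.of_algebraMap_smul fun _ _ => rfl
  let S0 : Set T := Set.range fun q : Fin c × Fin e => t q.1 q.2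
  let B' : Subalgebra Z T := Algebra.adjoin Z S0
  haveI : Module.Finite Z B' := Module.Finite.iff_fg.mpr
    (fg_adjoin_of_finite (Set.finite_range _) (by rintro _ ⟨⟨i, j⟩, rfl⟩; exact hgen i j))
  haveI : Module.Finite B' P := by
    obtain ⟨s, hs⟩ := hPB.fg_top
    refine ⟨⟨s, ?_⟩⟩
    rw [eq_top_iff]
    rintro p -
    have hp : p ∈ Submodule.span (Algebra.adjoin k S0) (s : Set P) := hs ▸ Submodule.mem_top
    induction hp using Submodule.span_induction with
    | zero => exact zero_mem _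
    | add a b _ _ ha hb => exact add_mem ha hb
    | smul a b _ hb =>
      have hle : Algebra.adjoin k S0 ≤ B'.restrictScalars k := Algebra.adjoin_le Algebra.subset_adjoin
      exact Submodule.smul_mem (Submodule.span B' (s : Set P)) ⟨a.1, hle a.2⟩ hb
    | mem z hz => exact Submodule.subset_span hz
  haveI : Module.Finite Z P := Module.Finite.trans B' P
  rw [(supportDim_eq_quot (A := Z) (R := T) (M := P)).2]
  have hann : Module.annihilator Z P = ⊥ := by
    rw [eq_bot_iff]
    intro p hp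
    rw [Ideal.mem_bot]
    have hxy : x ⊗ₜ[k] y ∈ LinearMap.range φ := by
      rw [hrange]; exact Submodule.mem_iSup_of_mem n (Submodule.subset_span ⟨x, hx, y, hy, rfl⟩)
    obtain ⟨w, hw⟩ := hxy
    have h1 : GrSeg.act k R S M N (Φ (MvPolynomial.aeval z0 p)) (x ⊗ₜ[k] y) = 0 := by
      rw [← hcomm, ← hw, ← hP.map_smul, algebraMap_smul, Module.mem_annihilator.mp hp w, map_zero]
    let lu : MvPolynomial (Fin c) k →ₗ[k] M :=
      ((LinearMap.toSpanSingleton R M x).restrictScalars k).comp (MvPolynomial.aeval f).toLinearMap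
    let lv : MvPolynomial (Fin e) k →ₗ[k] N :=
      ((LinearMap.toSpanSingleton S N y).restrictScalars k).comp (MvPolynomial.aeval g).toLinearMap
    have hlu : Function.Injective lu := (injective_iff_map_eq_zero _).mpr fun q hq => hxf q hq
    have hlv : Function.Injective lv := (injective_iff_map_eq_zero _).mpr fun q hq => hyf q hq
    let E := MvPolynomial.tensorEquivSum k (Fin c) (Fin e) k
    have e1 : Φ.comp E.toAlgHom = Algebra.TensorProduct.map (MvPolynomial.aeval f) (MvPolynomial.aeval g) := by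
      ext i
      · show Φ (E (MvPolynomial.X i ⊗ₜ 1)) = _
        rw [MvPolynomial.tensorEquivSum_X_tmul_one, hXv]; simp
      · show Φ (E (1 ⊗ₜ MvPolynomial.X i)) = _
        rw [MvPolynomial.tensorEquivSum_one_tmul_X, hXv]; simp
    have key : ∀ q, GrSeg.act k R S M N (Φ (E q)) (x ⊗ₜ[k] y) = TensorProduct.map lu lv q := fun q => by
      rw [show Φ (E q) = _ from AlgHom.congr_fun e1 q]
      induction q with
      | zero => simp
      | add a b ha hb => rw [map_add, map_add, LinearMap.add_apply, ha, hb, map_add]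
      | tmul a b => rw [Algebra.TensorProduct.map_tmul, GrSeg.act_tmul]; rfl
    have h2 : E.symm (MvPolynomial.aeval z0 p) = 0 := by
      refine TensorProduct.map_injective_of_flat_flat _ _ hlu hlv ?_
      rw [← key, AlgEquiv.apply_symm_apply, h1, map_zero]
    have h0 : MvPolynomial.aeval z0 p = 0 := by
      simpa using congrArg E h2
    let L := AlgebraicClosure k
    have hL := algebraicIndependent_conv (k := L) hc he
    refine MvPolynomial.map_injective (algebraMap k L) (algebraMap k L).injective ?_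
    rw [map_zero]
    refine (algebraicIndependent_iff.mp hL) _ ?_
    rw [MvPolynomial.aeval_map_algebraMap]
    let ι : P0 →ₐ[k] MvPolynomial (Fin c ⊕ Fin e) L :=
      MvPolynomial.mapAlgHom (Algebra.ofId k L)
    have := congrArg ι h0
    rw [map_zero, ← AlgHom.comp_apply, MvPolynomial.comp_aeval] at this
    rw [← this]
    congr 2
    funext l
    have hι : ∀ q, ι (MvPolynomial.X q) = MvPolynomial.X q := fun q => MvPolynomial.map_X _ q
    simp only [z0, X0, Y0, map_bil, Function.comp_def, hι]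
    simp [bil, conv, apply_ite]
  rw [hann, ringKrullDim_eq_of_ringEquiv (RingEquiv.quotientBot Z),
    MvPolynomial.ringKrullDim_of_isNoetherianRing, ringKrullDim_eq_zero_of_field, Nat.card_fin, zero_add]

theorem chain_le_supportDim {R M : Type u} [CommRing R] [AddCommGroup M] [Module R M] [Module.Finite R M]
    {r : ℕ} (hr : Module.supportDim R M = r) (l : LTSeries (PrimeSpectrum R))
    (hl : Module.annihilator R M ≤ l.head.asIdeal) : l.length ≤ r := by
  let l' : LTSeries (Module.support R M) :=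
    { length := l.length
      toFun := fun i => ⟨l i, by
        rw [Module.support_eq_zeroLocus]
        exact fun a ha => (show l.head ≤ l i from l.monotone (Fin.zero_le i)) (hl ha)⟩
      step := fun i => l.step i }
  have := (le_iSup (fun l : LTSeries (Module.support R M) => (l.length : WithBot ℕ∞)) l').trans (le_of_eq hr)
  exact_mod_cast this

theorem systems (𝒜 : ℤ → Submodule k R) [GradedAlgebra 𝒜] (ℬ : ℤ → Submodule k S) [GradedAlgebra ℬ]
    (hposR : ∀ n : ℤ, n < 0 → 𝒜 n = ⊥) (h0R : 𝒜 0 = Submodule.span k {(1 : R)}) [Algebra.FiniteType k R]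
    (hposS : ∀ n : ℤ, n < 0 → ℬ n = ⊥) (h0S : ℬ 0 = Submodule.span k {(1 : S)}) [Algebra.FiniteType k S]
    (ℳ : ℤ → AddSubgroup M) [Decomposition ℳ] [SetLike.GradedSMul 𝒜 ℳ] [Module.Finite R M]
    (𝒩 : ℤ → AddSubgroup N) [Decomposition 𝒩] [SetLike.GradedSMul ℬ 𝒩] [Module.Finite S N]
    (r s : ℕ) (hr : Module.supportDim R M = r) (hs : Module.supportDim S N = s) :
    ∃ d : ℕ, 0 < d ∧ ∃ (f : Fin r → R) (g : Fin s → S), (∀ i, f i ∈ 𝒜 d) ∧ (∀ j, g j ∈ ℬ d) ∧
      GoodSys (k := k) ℳ d f ∧ GoodSys (k := k) 𝒩 d g := by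
  obtain ⟨dR, hdR, HR⟩ := exists_system 𝒜 hposR h0R _ (annihilator_isHomogeneous 𝒜 ℳ) r
    fun l hl _ => chain_le_supportDim hr l hl
  obtain ⟨dS, hdS, HS⟩ := exists_system ℬ hposS h0S _ (annihilator_isHomogeneous ℬ 𝒩) s
    fun l hl _ => chain_le_supportDim hs l hl
  have hd := Nat.mul_pos hdR hdS
  obtain ⟨c, hc, f, hf, hfq⟩ := HR (dR * dS) hd (dvd_mul_right _ _)
  obtain ⟨e, he, g, hg, hgq⟩ := HS (dR * dS) hd (dvd_mul_left _ _)
  have hM := goodSys_mod 𝒜 hposR ℳ hd f hf
  have hN := goodSys_mod ℬ hposS 𝒩 hd g hg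
  obtain rfl : c = r := le_antisymm hc (module_data ℳ f hM r hr).1
  obtain rfl : e = s := le_antisymm he (module_data 𝒩 g hN s hs).1
  exact ⟨dR * dS, hd, f, g, hf, hg, hM, hN⟩

theorem free_of_cm (𝒜 : ℤ → Submodule k R) [GradedAlgebra 𝒜]
    (hposR : ∀ n : ℤ, n < 0 → 𝒜 n = ⊥) (h0R : 𝒜 0 = Submodule.span k {(1 : R)}) [Algebra.FiniteType k R]
    (ℳ : ℤ → AddSubgroup M) [Decomposition ℳ] [SetLike.GradedSMul 𝒜 ℳ] [Module.Finite R M]
    (r : ℕ) (hr : Module.supportDim R M = r)
    (hcm : ∀ (q : Ideal R) [q.IsPrime], Subsingleton (LocalizedModule q.primeCompl M) ∨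
      LocCoh.IsCohenMacaulayModule (Localization.AtPrime q) (LocalizedModule q.primeCompl M))
    {d : ℕ} (f : Fin r → R) (hM : GoodSys (k := k) ℳ d f) {n : ℤ} (x : M) (hx : x ∈ ℳ n) (hx0 : x ≠ 0) :
    Free' k f x := by
  classical
  intro p hp
  by_contra hp0
  haveI : IsNoetherianRing R := Algebra.FiniteType.isNoetherianRing k R
  let I := Ideal.torsionOf R M x
  have hIne : I ≠ ⊤ := fun h => hx0 ((Ideal.torsionOf_eq_top_iff (R := R) x).mp h)
  obtain ⟨q, hq⟩ := Ideal.nonempty_minimalPrimes hIne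
  haveI := hq.1.1
  have hAq : Module.annihilator R M ≤ q :=
    le_trans (fun a ha => (Ideal.mem_torsionOf_iff x a).mpr (Module.mem_annihilator.mp ha x)) hq.1.2
  have hqm : q ≤ mR 𝒜 :=
    le_mR 𝒜 hposR h0R q (isHomogeneous_minimalPrime 𝒜 I (torsionOf_isHomogeneous 𝒜 ℳ hx) q hq) hq.1.1.ne_top
  have hassI : q ∈ associatedPrimes R (R ⧸ I) := by
    refine Module.associatedPrimes.minimalPrimes_annihilator_subset_associatedPrimes R (R ⧸ I) ?_
    rwa [Ideal.annihilator_quotient]
  let ι : (R ⧸ I) →ₗ[R] M := I.liftQ (LinearMap.toSpanSingleton R M x) (fun a ha => ha)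
  have hι : Function.Injective ι := by
    exact LinearMap.ker_eq_bot.mp (Submodule.ker_liftQ_eq_bot _ _ _ fun a ha => ha)
  have hass : q ∈ associatedPrimes R M := associatedPrimes.subset_of_injective hι hassI
  have hdimq := (module_data ℳ f hM r hr).2.2.1 q inferInstance hAq p hp0
    (hq.1.2 ((Ideal.mem_torsionOf_iff x _).mpr hp))
  haveI : Nontrivial R := nontrivial_of_ne (0 : R) 1 fun h =>
    hq.1.1.ne_top ((Ideal.eq_top_iff_one _).mpr (h ▸ q.zero_mem))
  haveI := mR_isMaximal 𝒜 hposR h0R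
  let Rm := Localization.AtPrime (mR 𝒜)
  let Mm := LocalizedModule (mR 𝒜).primeCompl M
  let Q : Ideal Rm := q.map (algebraMap R Rm)
  have hdisj : Disjoint ((mR 𝒜).primeCompl : Set R) (q : Set R) :=
    Set.disjoint_left.mpr fun a ha haq => ha (hqm haq)
  have hQp : Q.IsPrime := IsLocalization.isPrime_of_isPrime_disjoint (mR 𝒜).primeCompl Rm q inferInstance hdisj
  have hQc : Q.comap (algebraMap R Rm) = q :=
    IsLocalization.comap_map_of_isPrime_disjoint (mR 𝒜).primeCompl Rm inferInstance hdisj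
  have hQass : Q ∈ associatedPrimes Rm Mm := by
    apply Module.associatedPrimes.mem_associatedPrimes_of_comap_mem_associatedPrimes_of_isLocalizedModule
      (mR 𝒜).primeCompl (LocalizedModule.mkLinearMap (mR 𝒜).primeCompl M)
    rwa [hQc]
  haveI : Nontrivial Mm := by
    refine not_subsingleton_iff_nontrivial.mp fun h => ?_
    exact associatedPrimes.eq_empty_of_subsingleton (R := Rm) (M := Mm) |>.le hQass
  have hcm' := (hcm (mR 𝒜)).resolve_left (not_subsingleton Mm)
  have hne : (IsLocalRing.maximalIdeal Rm) • (⊤ : Submodule Rm Mm) ≠ ⊤ :=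
    Groth.Agent.H2DepthMore.smul_top_ne_top le_rfl
  obtain ⟨ss, hs1, hs2, -, hs4⟩ := Groth.Agent.H2Depth.exists_idealDepth_eq hne
  have hH : Module.supportDim Rm Mm = (ss.length : WithBot ℕ∞) := by
    have := hcm'
    rw [LocCoh.IsCohenMacaulayModule, LocCoh.depth, hs4] at this
    exact this
  have hle := Groth.Agent.H2Depth.hasReg_le_dim_quotient (R := Rm) (M := Mm) ⟨ss, rfl, hs1, hs2⟩ Q hQass
  have hdimQ : ringKrullDim (Rm ⧸ Q) ≤ ringKrullDim (R ⧸ q) := by
    rw [ringKrullDim_quotient, ringKrullDim_quotient]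
    refine Order.krullDim_le_of_strictMono
      (fun P => ⟨(P.1 : PrimeSpectrum Rm).comap (algebraMap R Rm), ?_⟩) fun P P' h => ?_
    · intro a ha
      exact P.2 (Ideal.mem_map_of_mem _ ha)
    · show (P.1.asIdeal.comap (algebraMap R Rm)) < P'.1.asIdeal.comap (algebraMap R Rm)
      refine lt_of_le_of_ne (Ideal.comap_mono h.le) fun e => h.ne (Subtype.ext (PrimeSpectrum.ext ?_))
      exact (IsLocalization.orderEmbedding (mR 𝒜).primeCompl Rm).injective e
  -- the local dimension is at least `r`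
  obtain ⟨d', hd', H⟩ := exists_system 𝒜 hposR h0R _ (annihilator_isHomogeneous 𝒜 ℳ) ss.length
    (fun l hl hlast => by
      refine chain_le_supportDim hH
        { length := l.length
          toFun := fun i => (⟨(l i).asIdeal.map (algebraMap R Rm), IsLocalization.isPrime_of_isPrime_disjoint
            (mR 𝒜).primeCompl Rm _ (l i).isPrime (Set.disjoint_left.mpr fun a ha hai => ha (hlast
              ((show l i ≤ l.last from l.monotone (Fin.le_last i)) hai)))⟩ : PrimeSpectrum Rm)
          step := fun i => ?_ } ?_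
      · have hd : ∀ j, Disjoint ((mR 𝒜).primeCompl : Set R) ((l j).asIdeal : Set R) := fun j =>
          Set.disjoint_left.mpr fun a ha hai => ha (hlast ((show l j ≤ l.last from l.monotone (Fin.le_last j)) hai))
        refine lt_of_le_of_ne (Ideal.map_mono (le_of_lt (l.step i))) fun e => ?_
        have e' := congrArg (Ideal.comap (algebraMap R Rm)) e
        have h1 := IsLocalization.comap_map_of_isPrime_disjoint (mR 𝒜).primeCompl Rm (l i.castSucc).isPrime (hd _)
        have h2 := IsLocalization.comap_map_of_isPrime_disjoint (mR 𝒜).primeCompl Rm (l i.succ).isPrime (hd _)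
        exact (ne_of_lt (l.step i)) (PrimeSpectrum.ext (h1.symm.trans (e'.trans h2)))
      · intro z hz
        obtain ⟨a, s, rfl⟩ := IsLocalization.exists_mk'_eq (mR 𝒜).primeCompl z
        have hd0 : Disjoint ((mR 𝒜).primeCompl : Set R) (l.head.asIdeal : Set R) :=
          Set.disjoint_left.mpr fun b hb hbi => hb (hlast ((show l.head ≤ l.last from l.monotone (Fin.zero_le _)) hbi))
        show IsLocalization.mk' Rm a s ∈ l.head.asIdeal.map (algebraMap R Rm)
        refine (IsLocalization.mk'_mem_iff).mpr (Ideal.mem_map_of_mem _ ?_)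
        obtain ⟨T0, hT0⟩ := Module.Finite.fg_top (R := R) (M := M)
        have hk : ∀ m : M, ∃ u : (mR 𝒜).primeCompl, (u : R) • (a • m) = 0 := fun m => by
          have := Module.mem_annihilator.mp hz (LocalizedModule.mk m 1)
          rw [IsLocalization.mk'_eq_mul_mk'_one, mul_comm, ← smul_smul] at this
          have h2 := congrArg (fun w => algebraMap R Rm (s : R) • w) this
          simp only [smul_zero, smul_smul, ← map_mul] at h2
          rw [← mul_assoc, IsLocalization.mul_mk'_eq_mk'_of_mul, mul_one, IsLocalization.mk'_self, one_mul,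
            algebraMap_smul, LocalizedModule.smul'_mk] at h2
          obtain ⟨u, hu⟩ := IsLocalizedModule.exists_of_eq (S := (mR 𝒜).primeCompl)
            (f := LocalizedModule.mkLinearMap (mR 𝒜).primeCompl M) (x₁ := a • m) (x₂ := 0) (by
              rw [map_zero]; exact h2)
          exact ⟨u, by simpa [Submonoid.smul_def] using hu⟩
        choose u hu using hk
        have hua : (∏ m ∈ T0, (u m : R)) * a ∈ Module.annihilator R M := by
          rw [← Submodule.annihilator_top, ← hT0, Submodule.mem_annihilator_span]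
          rintro ⟨m, hm⟩
          rw [← Finset.prod_erase_mul _ _ hm, mul_assoc, ← smul_smul, ← smul_smul, hu, smul_zero]
        refine ((l.head.isPrime.mem_or_mem (hl hua)).resolve_left fun h => ?_)
        exact Set.disjoint_left.mp hd0 (Submonoid.prod_mem _ fun m _ => (u m).2) h)
  obtain ⟨c', hc', f', hf', hfq'⟩ := H d' hd' dvd_rfl
  have hrc := (module_data ℳ f' (goodSys_mod 𝒜 hposR ℳ hd' f' hf') r hr).1
  have h3 : (ss.length : WithBot ℕ∞) + 1 ≤ r := le_trans (by gcongr; exact hle.trans hdimQ) hdimq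
  have h4 : ss.length + 1 ≤ r := by exact_mod_cast h3
  omega

end Main

end Groth.Agent.GrSegreModuleDim
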