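/-
standard graded generation, Segre module rows
-/
import Groth.Prelude.Def_GrSeg
import Groth.Prelude.Def_GrLC
import Groth.Prelude.Def_CAlg
import Groth.Agent.Lib.GrSegreDim
import Groth.Agent.Lib.GrSegreModuleDim
import Mathlib

set_option autoImplicit false
open Groth.Agent.GrSegreDim Groth.Agent.GrSegreModuleDim
universe u v
open scoped TensorProduct
open DirectSum

namespace Groth.Agent.GrSegreStd


theorem piece_induction {R σ : Type u} [CommRing R] [SetLike σ R] [AddSubgroupClass σ R] (𝒜 : ℤ → σ)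
    [GradedRing 𝒜]
    (hstd : Ideal.span (⋃ n ∈ Set.Ioi (0 : ℤ), (𝒜 n : Set R)) = Ideal.span (𝒜 1 : Set R))
    {n : ℤ} (hn : 0 ≤ n) {p : R → Prop} (h0 : p 0) (hadd : ∀ x y, p x → p y → p (x + y))
    (hmul : ∀ x ∈ 𝒜 1, ∀ y ∈ 𝒜 n, p (x * y)) {a : R} (ha : a ∈ 𝒜 (n + 1)) : p a := by
  classical
  have hmem : a ∈ Ideal.span (𝒜 1 : Set R) :=
    hstd ▸ Ideal.subset_span (Set.mem_iUnion₂.mpr ⟨n + 1, show (0 : ℤ) < n + 1 by omega, ha⟩)
  suffices ∀ r : R, p ((decompose 𝒜 (r * a) (n + 1) : R)) by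
    have h := this 1
    rwa [one_mul, decompose_of_mem_same 𝒜 ha] at h
  clear ha
  induction hmem using Submodule.span_induction with
  | zero => intro r; simpa using h0
  | add x y _ _ hx hy => intro r; rw [mul_add, decompose_add, DirectSum.add_apply, AddMemClass.coe_add]; exact hadd _ _ (hx r) (hy r)
  | smul s x _ hx => intro r; rw [smul_eq_mul, ← mul_assoc]; exact hx _
  | mem x hx =>
    intro r
    rw [coe_decompose_mul_add_of_right_mem 𝒜 hx, mul_comm]
    exact hmul x hx _ (decompose 𝒜 r n).2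

/-- Products of homogeneous elements generate the higher pieces. -/
theorem piece_add_induction {R σ : Type u} [CommRing R] [SetLike σ R] [AddSubgroupClass σ R] (𝒜 : ℤ → σ)
    [GradedRing 𝒜]
    (hstd : Ideal.span (⋃ n ∈ Set.Ioi (0 : ℤ), (𝒜 n : Set R)) = Ideal.span (𝒜 1 : Set R))
    (m : ℕ) {n : ℤ} (hn : 0 ≤ n) {p : R → Prop} (h0 : p 0) (hadd : ∀ x y, p x → p y → p (x + y))
    (hmul : ∀ x ∈ 𝒜 (m : ℤ), ∀ y ∈ 𝒜 n, p (x * y)) {a : R} (ha : a ∈ 𝒜 (n + m)) : p a := by
  induction m generalizing n with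
  | zero =>
    simp only [Nat.cast_zero, add_zero] at ha
    have := hmul 1 (SetLike.one_mem_graded 𝒜) a ha
    rwa [one_mul] at this
  | succ m ih =>
    rw [show n + ((m + 1 : ℕ) : ℤ) = (n + 1) + m by push_cast; ring] at ha
    refine ih (n := n + 1) (by omega) (fun x hx y hy => ?_) ha
    refine piece_induction 𝒜 hstd hn (p := fun y => p (x * y)) (by simpa using h0)
      (fun a b ha hb => by rw [mul_add]; exact hadd _ _ ha hb) (fun u hu w hw => ?_) hy
    rw [← mul_assoc]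
    refine hmul _ ?_ w hw
    push_cast
    exact SetLike.mul_mem_graded hx hu

theorem inverse_mem {k R M : Type u} [CommRing R] [AddCommGroup M] [Module R M] [Field k] [Algebra k R]
    (𝒜 : ℤ → Submodule k R) [GradedAlgebra 𝒜] (ℳ : ℤ → AddSubgroup M) [Decomposition ℳ]
    [SetLike.GradedSMul 𝒜 ℳ] {d : ℤ} {f : R} (hf : f ∈ 𝒜 d) (hinj : Function.Injective (fun x : M => f • x))
    {n : ℤ} {x : M} (hx : f • x ∈ ℳ n) : x ∈ ℳ (n - d) := by
  classical
  have h : (decompose ℳ (f • x) n : M) = f • (decompose ℳ x (n - d) : M) := proj_smul_left 𝒜 ℳ hf x n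
  rw [decompose_of_mem_same ℳ hx] at h
  rw [hinj h]
  exact (decompose ℳ x (n - d)).2


end Groth.Agent.GrSegreStd
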