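import Mathlib

/-! Long exact sequence in the second variable for `Ext R (ModuleCat R) i` (the left-derived `Ext`),
natural in both variables. Everything is stated in the opposite category, before `unop`. -/

universe u

open CategoryTheory CategoryTheory.Limits Opposite HomologicalComplex

namespace Groth.Agent.H2ExtLES

variable (R : Type u) [CommRing R]

/-- `X ↦ op Hom(X, Y)`. -/
noncomputable abbrev homF (Y : ModuleCat.{u} R) : ModuleCat.{u} R ⥤ (ModuleCat.{u} R)ᵒᵖ :=
  ((linearYoneda R (ModuleCat.{u} R)).obj Y).rightOp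

variable {R}

/-- post-composition by `g`. -/
noncomputable abbrev homMap {A B : ModuleCat.{u} R} (g : A ⟶ B) : homF R B ⟶ homF R A :=
  NatTrans.rightOp ((linearYoneda R (ModuleCat.{u} R)).map g)

lemma homMap_comp {A B C : ModuleCat.{u} R} (f : A ⟶ B) (g : B ⟶ C) :
    homMap (f ≫ g) = homMap g ≫ homMap f := by
  ext X
  apply Quiver.Hom.unop_inj
  ext (x : X ⟶ A)
  rfl

lemma homMap_zero {A B : ModuleCat.{u} R} : homMap (0 : A ⟶ B) = 0 := by
  ext X
  apply Quiver.Hom.unop_inj
  ext x
  simp

/-- the short complex `Hom(P, S)` in the opposite category. -/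
noncomputable def hseq (S : ShortComplex (ModuleCat.{u} R)) (K : ChainComplex (ModuleCat.{u} R) ℕ) :
    ShortComplex (ChainComplex (ModuleCat.{u} R)ᵒᵖ ℕ) :=
  ShortComplex.mk ((NatTrans.mapHomologicalComplex (homMap S.g) _).app K)
    ((NatTrans.mapHomologicalComplex (homMap S.f) _).app K) (by
      rw [← NatTrans.comp_app, ← NatTrans.mapHomologicalComplex_comp, ← homMap_comp, S.zero,
        homMap_zero]
      ext i : 1
      simp only [NatTrans.mapHomologicalComplex_app_f, NatTrans.app_zero, HomologicalComplex.zero_f]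
      rfl)

lemma homSeq_shortExact {S : ShortComplex (ModuleCat.{u} R)} (hS : S.ShortExact)
    (P : ModuleCat.{u} R) [Projective P] :
    (ShortComplex.mk (((linearYoneda R (ModuleCat.{u} R)).map S.f).app (op P))
      (((linearYoneda R (ModuleCat.{u} R)).map S.g).app (op P)) (by
        ext (x : P ⟶ S.X₁)
        show (x ≫ S.f) ≫ S.g = 0
        rw [Category.assoc, S.zero, Limits.comp_zero])).ShortExact := by
  have hm := hS.mono_f
  have he := hS.epi_g
  refine { exact := ?_, mono_f := ?_, epi_g := ?_ }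
  · rw [ShortComplex.moduleCat_exact_iff]
    intro (x : P ⟶ S.X₂) (hx : x ≫ S.g = 0)
    exact ⟨hS.fIsKernel.lift (KernelFork.ofι x hx), Fork.IsLimit.lift_ι hS.fIsKernel⟩
  · rw [ModuleCat.mono_iff_injective]
    intro (a : P ⟶ S.X₁) (b : P ⟶ S.X₁) (h : a ≫ S.f = b ≫ S.f)
    exact (cancel_mono S.f).1 h
  · rw [ModuleCat.epi_iff_surjective]
    intro (y : P ⟶ S.X₃)
    exact ⟨Projective.factorThru y S.g, (Projective.factorThru_comp y S.g :)⟩

lemma hseq_shortExact {S : ShortComplex (ModuleCat.{u} R)} (hS : S.ShortExact)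
    (K : ChainComplex (ModuleCat.{u} R) ℕ) [∀ n, Projective (K.X n)] : (hseq S K).ShortExact := by
  refine HomologicalComplex.shortExact_of_degreewise_shortExact _ fun j => ?_
  exact (homSeq_shortExact hS (K.X j)).op

lemma hrel (i : ℕ) : (ComplexShape.down ℕ).Rel (i + 1) i := rfl

/-- `op (Ext^i(X, Y))`. -/
noncomputable abbrev L (i : ℕ) (Y X : ModuleCat.{u} R) : (ModuleCat.{u} R)ᵒᵖ :=
  ((homF R Y).leftDerived i).obj X

/-- functoriality in the second variable. -/
noncomputable abbrev mapY (i : ℕ) {A B : ModuleCat.{u} R} (g : A ⟶ B) (X : ModuleCat.{u} R) :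
    L i B X ⟶ L i A X :=
  (NatTrans.leftDerived (homMap g) i).app X

/-- functoriality in the first variable. -/
noncomputable abbrev mapX (i : ℕ) (Y : ModuleCat.{u} R) {X X' : ModuleCat.{u} R} (f : X ⟶ X') :
    L i Y X ⟶ L i Y X' :=
  ((homF R Y).leftDerived i).map f

/-- the chosen complex `Hom(P_X, Y)`. -/
noncomputable abbrev cx (Y X : ModuleCat.{u} R) : ChainComplex (ModuleCat.{u} R)ᵒᵖ ℕ :=
  ((homF R Y).mapHomologicalComplex _).obj (projectiveResolution X).complex

/-- comparison with the chosen resolution. -/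
noncomputable def isoL (i : ℕ) (Y X : ModuleCat.{u} R) : L i Y X ≅ (cx Y X).homology i :=
  (projectiveResolution X).isoLeftDerivedObj (homF R Y) i

/-- connecting map on complexes. -/
noncomputable def delta0 {S : ShortComplex (ModuleCat.{u} R)} (hS : S.ShortExact) (i : ℕ)
    (X : ModuleCat.{u} R) : (cx S.X₁ X).homology (i + 1) ⟶ (cx S.X₃ X).homology i :=
  (hseq_shortExact hS (projectiveResolution X).complex).δ (i + 1) i (hrel i)

/-- `homMap` on the chosen complexes. -/
noncomputable abbrev cxY {A B : ModuleCat.{u} R} (g : A ⟶ B) (X : ModuleCat.{u} R) :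
    cx B X ⟶ cx A X :=
  (NatTrans.mapHomologicalComplex (homMap g) _).app (projectiveResolution X).complex

/-- functoriality on the chosen complexes. -/
noncomputable abbrev cxX (Y : ModuleCat.{u} R) {X X' : ModuleCat.{u} R} (f : X ⟶ X') :
    cx Y X ⟶ cx Y X' :=
  ((homF R Y).mapHomologicalComplex _).map
    (ProjectiveResolution.lift f (projectiveResolution X) (projectiveResolution X'))

/-- connecting map. -/
noncomputable def delta {S : ShortComplex (ModuleCat.{u} R)} (hS : S.ShortExact) (i : ℕ)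
    (X : ModuleCat.{u} R) : L (i + 1) S.X₁ X ⟶ L i S.X₃ X :=
  (isoL (i + 1) S.X₁ X).hom ≫ delta0 hS i X ≫ (isoL i S.X₃ X).inv

lemma mapX_eq (i : ℕ) (Y : ModuleCat.{u} R) {X X' : ModuleCat.{u} R} (f : X ⟶ X') :
    mapX i Y f = (isoL i Y X).hom ≫ homologyMap (cxX Y f) i ≫ (isoL i Y X').inv :=
  Functor.leftDerived_map_eq (homF R Y) i f _ (ProjectiveResolution.lift_commutes f _ _)

lemma mapY_eq (i : ℕ) {A B : ModuleCat.{u} R} (g : A ⟶ B) (X : ModuleCat.{u} R) :
    mapY i g X = (isoL i B X).hom ≫ homologyMap (cxY g X) i ≫ (isoL i A X).inv :=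
  ProjectiveResolution.leftDerived_app_eq _ _ _

lemma delta_natural_left {S : ShortComplex (ModuleCat.{u} R)} (hS : S.ShortExact) (i : ℕ)
    {X X' : ModuleCat.{u} R} (f : X ⟶ X') :
    delta hS i X ≫ mapX i S.X₃ f = mapX (i + 1) S.X₁ f ≫ delta hS i X' := by
  let φ := ProjectiveResolution.lift f (projectiveResolution X) (projectiveResolution X')
  let Φ : hseq S (projectiveResolution X).complex ⟶ hseq S (projectiveResolution X').complex :=
    { τ₁ := ((homF R S.X₃).mapHomologicalComplex _).map φ
      τ₂ := ((homF R S.X₂).mapHomologicalComplex _).map φ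
      τ₃ := ((homF R S.X₁).mapHomologicalComplex _).map φ
      comm₁₂ := (NatTrans.mapHomologicalComplex (homMap S.g) _).naturality φ
      comm₂₃ := (NatTrans.mapHomologicalComplex (homMap S.f) _).naturality φ }
  have h : delta0 hS i X ≫ homologyMap (cxX S.X₃ f) i = homologyMap (cxX S.X₁ f) (i + 1) ≫ delta0 hS i X' :=
    HomologicalComplex.HomologySequence.δ_naturality Φ (hseq_shortExact hS _) (hseq_shortExact hS _) (i + 1) i (hrel i)
  rw [mapX_eq, mapX_eq, delta, delta]
  simp only [Category.assoc, Iso.inv_hom_id_assoc]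
  rw [reassoc_of% h]

lemma delta_natural_right {S T : ShortComplex (ModuleCat.{u} R)} (hS : S.ShortExact)
    (hT : T.ShortExact) (ψ : S ⟶ T) (i : ℕ) (X : ModuleCat.{u} R) :
    delta hT i X ≫ mapY i ψ.τ₃ X = mapY (i + 1) ψ.τ₁ X ≫ delta hS i X := by
  let Φ : hseq T (projectiveResolution X).complex ⟶ hseq S (projectiveResolution X).complex :=
    { τ₁ := (NatTrans.mapHomologicalComplex (homMap ψ.τ₃) _).app _
      τ₂ := (NatTrans.mapHomologicalComplex (homMap ψ.τ₂) _).app _
      τ₃ := (NatTrans.mapHomologicalComplex (homMap ψ.τ₁) _).app _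
      comm₁₂ := by
        simp only [hseq, ← NatTrans.comp_app, ← NatTrans.mapHomologicalComplex_comp, ← homMap_comp,
          ψ.comm₂₃]
      comm₂₃ := by
        simp only [hseq, ← NatTrans.comp_app, ← NatTrans.mapHomologicalComplex_comp, ← homMap_comp,
          ψ.comm₁₂] }
  have h : delta0 hT i X ≫ homologyMap (cxY ψ.τ₃ X) i = homologyMap (cxY ψ.τ₁ X) (i + 1) ≫ delta0 hS i X :=
    HomologicalComplex.HomologySequence.δ_naturality Φ (hseq_shortExact hT _) (hseq_shortExact hS _) (i + 1) i (hrel i)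
  rw [mapY_eq, mapY_eq, delta, delta]
  simp only [Category.assoc, Iso.inv_hom_id_assoc]
  rw [reassoc_of% h]

lemma mapY_comp_zero {S : ShortComplex (ModuleCat.{u} R)} (i : ℕ) (X : ModuleCat.{u} R) :
    mapY i S.g X ≫ mapY i S.f X = 0 := by
  rw [mapY_eq, mapY_eq]
  simp only [Category.assoc, Iso.inv_hom_id_assoc]
  have h : homologyMap (cxY S.g X) i ≫ homologyMap (cxY S.f X) i = 0 := by
    rw [← homologyMap_comp]
    exact (congrArg (homologyMap · i) (hseq S (projectiveResolution X).complex).zero).trans (homologyMap_zero ..)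
  rw [reassoc_of% h, zero_comp, comp_zero]

lemma exact₂ {S : ShortComplex (ModuleCat.{u} R)} (hS : S.ShortExact) (i : ℕ) (X : ModuleCat.{u} R) :
    (ShortComplex.mk (mapY i S.g X) (mapY i S.f X) (mapY_comp_zero i X)).Exact := by
  refine ShortComplex.exact_of_iso ?_
    ((hseq_shortExact hS (projectiveResolution X).complex).homology_exact₂ i)
  refine ShortComplex.isoMk (isoL i S.X₃ X).symm
    (isoL i S.X₂ X).symm
    (isoL i S.X₁ X).symm ?_ ?_
  all_goals
    simp only [Iso.symm_hom, mapY_eq]
    exact Iso.inv_hom_id_assoc _ _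

lemma mapY_comp_delta {S : ShortComplex (ModuleCat.{u} R)} (hS : S.ShortExact) (i : ℕ)
    (X : ModuleCat.{u} R) : mapY (i + 1) S.f X ≫ delta hS i X = 0 := by
  rw [mapY_eq, delta]
  simp only [Category.assoc, Iso.inv_hom_id_assoc]
  have h : homologyMap (cxY S.f X) (i + 1) ≫ delta0 hS i X = 0 :=
    (hseq_shortExact hS (projectiveResolution X).complex).comp_δ (i + 1) i (hrel i)
  rw [reassoc_of% h, zero_comp, comp_zero]

lemma delta_comp_mapY {S : ShortComplex (ModuleCat.{u} R)} (hS : S.ShortExact) (i : ℕ)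
    (X : ModuleCat.{u} R) : delta hS i X ≫ mapY i S.g X = 0 := by
  rw [mapY_eq, delta]
  simp only [Category.assoc, Iso.inv_hom_id_assoc]
  have h : delta0 hS i X ≫ homologyMap (cxY S.g X) i = 0 :=
    (hseq_shortExact hS (projectiveResolution X).complex).δ_comp (i + 1) i (hrel i)
  rw [reassoc_of% h, zero_comp, comp_zero]

lemma exact₁ {S : ShortComplex (ModuleCat.{u} R)} (hS : S.ShortExact) (i : ℕ) (X : ModuleCat.{u} R) :
    (ShortComplex.mk (delta hS i X) (mapY i S.g X) (delta_comp_mapY hS i X)).Exact := by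
  refine ShortComplex.exact_of_iso ?_
    ((hseq_shortExact hS (projectiveResolution X).complex).homology_exact₁ (i + 1) i (hrel i))
  refine ShortComplex.isoMk (isoL (i + 1) S.X₁ X).symm
    (isoL i S.X₃ X).symm
    (isoL i S.X₂ X).symm ?_ ?_
  all_goals
    simp only [Iso.symm_hom, mapY_eq, delta]
    exact Iso.inv_hom_id_assoc _ _

lemma exact₃ {S : ShortComplex (ModuleCat.{u} R)} (hS : S.ShortExact) (i : ℕ) (X : ModuleCat.{u} R) :
    (ShortComplex.mk (mapY (i + 1) S.f X) (delta hS i X) (mapY_comp_delta hS i X)).Exact := by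
  refine ShortComplex.exact_of_iso ?_
    ((hseq_shortExact hS (projectiveResolution X).complex).homology_exact₃ (i + 1) i (hrel i))
  refine ShortComplex.isoMk (isoL (i + 1) S.X₂ X).symm
    (isoL (i + 1) S.X₁ X).symm
    (isoL i S.X₃ X).symm ?_ ?_
  all_goals
    simp only [Iso.symm_hom, mapY_eq, delta]
    exact Iso.inv_hom_id_assoc _ _

/-- `Ext^{i+1}(X, I) = 0` for injective `I`. -/
lemma isZero_of_injective (I : ModuleCat.{u} R) [Injective I] (i : ℕ) (X : ModuleCat.{u} R) :
    IsZero (L (i + 1) I X) := by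
  refine IsZero.of_iso ?_ ((projectiveResolution X).isoLeftDerivedObj (homF R I) (i + 1))
  erw [← HomologicalComplex.exactAt_iff_isZero_homology]
  have hP := (projectiveResolution X).complex_exactAt_succ i
  rw [HomologicalComplex.exactAt_iff' _ (i + 2) (i + 1) i (by simp) (by simp)] at hP ⊢
  refine ShortComplex.Exact.op (S := ShortComplex.mk
    (((linearYoneda R (ModuleCat.{u} R)).obj I).map ((projectiveResolution X).complex.d (i + 1) i).op)
    (((linearYoneda R (ModuleCat.{u} R)).obj I).map ((projectiveResolution X).complex.d (i + 2) (i + 1)).op)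
    (by
      rw [← Functor.map_comp, ← op_comp, HomologicalComplex.d_comp_d]
      ext (x : (projectiveResolution X).complex.X i ⟶ I)
      show (0 : (projectiveResolution X).complex.X (i + 2) ⟶ (projectiveResolution X).complex.X i) ≫ x = 0
      exact Limits.zero_comp)) ?_
  rw [ShortComplex.moduleCat_exact_iff]
  intro (x : (projectiveResolution X).complex.X (i + 1) ⟶ I)
    (hx : (projectiveResolution X).complex.d (i + 2) (i + 1) ≫ x = 0)
  exact ⟨hP.descToInjective x hx, hP.comp_descToInjective x hx⟩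

variable (R) in
theorem homF_preservesFiniteColimits (Y : ModuleCat.{u} R) : PreservesFiniteColimits (homF R Y) := by
  have : PreservesFiniteLimits ((linearYoneda R (ModuleCat.{u} R)).obj Y) := by
    have e : yoneda.obj Y ≅ (linearYoneda R (ModuleCat.{u} R)).obj Y ⋙ forget (ModuleCat.{u} R) :=
      NatIso.ofComponents (fun X => Iso.refl _) (fun f => by ext x; rfl)
    refine ⟨fun J _ _ => ⟨fun {K} => ?_⟩⟩
    have : PreservesLimit K ((linearYoneda R (ModuleCat.{u} R)).obj Y ⋙ forget (ModuleCat.{u} R)) :=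
      preservesLimit_of_natIso K e
    exact preservesLimit_of_reflects_of_preserves _ (forget (ModuleCat.{u} R))
  exact preservesFiniteColimits_rightOp _

/-- `op (Ext^0(X, Y)) → op Hom(X, Y)`. -/
noncomputable abbrev zeroMap (Y X : ModuleCat.{u} R) : L 0 Y X ⟶ (homF R Y).obj X :=
  (homF R Y).fromLeftDerivedZero.app X

theorem isIso_zeroMap (Y X : ModuleCat.{u} R) : IsIso (zeroMap Y X) :=
  have := homF_preservesFiniteColimits R Y
  inferInstance

lemma zeroMap_natural_left (Y : ModuleCat.{u} R) {X X' : ModuleCat.{u} R} (f : X ⟶ X') :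
    mapX 0 Y f ≫ zeroMap Y X' = zeroMap Y X ≫ (homF R Y).map f :=
  (homF R Y).fromLeftDerivedZero.naturality f

lemma zeroMap_natural_right {A B : ModuleCat.{u} R} (g : A ⟶ B) (X : ModuleCat.{u} R) :
    mapY 0 g X ≫ zeroMap A X = zeroMap B X ≫ (homMap g).app X := by
  rw [zeroMap, zeroMap, (projectiveResolution X).fromLeftDerivedZero_eq,
    (projectiveResolution X).fromLeftDerivedZero_eq, mapY_eq]
  simp only [isoL, Category.assoc]
  erw [Iso.inv_hom_id_assoc]
  congr 1
  have h1 : homologyMap (cxY g X) 0 ≫ (ChainComplex.isoHomologyι₀ (cx A X)).hom =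
      (ChainComplex.isoHomologyι₀ (cx B X)).hom ≫ opcyclesMap (cxY g X) 0 :=
    HomologicalComplex.homologyι_naturality (cxY g X) 0
  have h2 : opcyclesMap (cxY g X) 0 ≫ (projectiveResolution X).fromLeftDerivedZero' (homF R A) =
      (projectiveResolution X).fromLeftDerivedZero' (homF R B) ≫ (homMap g).app X := by
    rw [← cancel_epi (HomologicalComplex.pOpcycles _ _)]
    erw [p_opcyclesMap_assoc, ProjectiveResolution.pOpcycles_comp_fromLeftDerivedZero',
      ProjectiveResolution.pOpcycles_comp_fromLeftDerivedZero'_assoc]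
    exact ((homMap g).naturality ((projectiveResolution X).π.f 0)).symm
  exact ((Category.assoc _ _ _).symm.trans (congrArg (· ≫ _) h1)).trans
    ((Category.assoc _ _ _).trans ((congrArg (_ ≫ ·) h2).trans (Category.assoc _ _ _).symm))

end Groth.Agent.H2ExtLES
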