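import Mathlib
import Groth.Prelude.Def_Wider
import Groth.Prelude.Def_DRing3
import Groth.Agent.Lib.H2ExtLES

/-! Basic API for local cohomology `LocCoh.H`: long exact sequence, vanishing on injectives,
`H⁰ = Γ_I`, power torsion, linearity. -/

universe u

open CategoryTheory CategoryTheory.Limits Opposite

namespace Groth.Agent.H2LC

open Groth.Agent.H2ExtLES

variable {R : Type u} [CommRing R] (I : Ideal R)

/-- the functorial map. -/
noncomputable abbrev cmap (i : ℕ) {A B : ModuleCat.{u} R} (g : A ⟶ B) :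
    (localCohomology I i).obj A →ₗ[R] (localCohomology I i).obj B :=
  ((localCohomology I i).map g).hom

/-- the diagram whose colimit is `H^i_I`. -/
noncomputable abbrev diag (i : ℕ) : ℕᵒᵖᵒᵖ ⥤ ModuleCat.{u} R ⥤ ModuleCat.{u} R :=
  localCohomology.diagram (localCohomology.idealPowersDiagram I) i

/-- `R ⧸ I^n`. -/
noncomputable abbrev quotObj (n : ℕᵒᵖᵒᵖ) : ModuleCat.{u} R :=
  (localCohomology.ringModIdeals (localCohomology.idealPowersDiagram I)).obj (unop n)

/-- `Ext^i(R/I^n, M)`. -/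
noncomputable abbrev St (i : ℕ) (n : ℕᵒᵖᵒᵖ) (M : ModuleCat.{u} R) : ModuleCat.{u} R :=
  ((diag I i).obj n).obj M

/-- transition maps. -/
noncomputable abbrev trans (i : ℕ) {n m : ℕᵒᵖᵒᵖ} (w : n ⟶ m) (M : ModuleCat.{u} R) :
    St I i n M ⟶ St I i m M :=
  ((diag I i).map w).app M

/-- the map from the `n`-th stage. -/
noncomputable abbrev ins (i : ℕ) (n : ℕᵒᵖᵒᵖ) (M : ModuleCat.{u} R) :
    St I i n M ⟶ (localCohomology I i).obj M :=
  (colimit.ι (diag I i) n).app M

/-- colimit cocone evaluated at a module. -/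
noncomputable abbrev coconeAt (i : ℕ) (M : ModuleCat.{u} R) :
    Cocone (diag I i ⋙ (evaluation _ _).obj M) :=
  ((evaluation _ _).obj M).mapCocone (colimit.cocone (diag I i))

instance : PreservesFilteredColimitsOfSize.{0, 0} (forget (ModuleCat.{u} R)) :=
  preservesFilteredColimitsOfSize_of_univLE.{u, u} _

/-- it is a colimit. -/
noncomputable def isColimitAt (i : ℕ) (M : ModuleCat.{u} R) : IsColimit (coconeAt I i M) :=
  isColimitOfPreserves _ (colimit.isColimit _)

lemma exists_rep (i : ℕ) {M : ModuleCat.{u} R} (x : (localCohomology I i).obj M) :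
    ∃ (n : ℕᵒᵖᵒᵖ) (y : St I i n M), ins I i n M y = x :=
  Concrete.isColimit_exists_rep _ (isColimitAt I i M) x

lemma rep_eq_zero (i : ℕ) {M : ModuleCat.{u} R} {n : ℕᵒᵖᵒᵖ} (y : St I i n M)
    (h : ins I i n M y = 0) : ∃ (m : ℕᵒᵖᵒᵖ) (w : n ⟶ m), trans I i w M y = 0 := by
  obtain ⟨m, w, w', hw⟩ := (Concrete.isColimit_rep_eq_iff_exists (diag I i ⋙ (evaluation _ _).obj M)
    (isColimitAt I i M) y (0 : St I i n M)).1 (by rw [map_zero]; exact h)
  exact ⟨m, w, hw.trans (map_zero _)⟩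

@[simp] lemma trans_ins (i : ℕ) {n m : ℕᵒᵖᵒᵖ} (w : n ⟶ m) (M : ModuleCat.{u} R) :
    trans I i w M ≫ ins I i m M = ins I i n M :=
  (coconeAt I i M).w w

lemma trans_ins_apply (i : ℕ) {n m : ℕᵒᵖᵒᵖ} (w : n ⟶ m) (M : ModuleCat.{u} R) (y : St I i n M) :
    ins I i m M (trans I i w M y) = ins I i n M y :=
  congrArg (fun t => t y) (congrArg ModuleCat.Hom.hom (trans_ins I i w M)) |>.trans rfl

lemma ins_natural (i : ℕ) (n : ℕᵒᵖᵒᵖ) {A B : ModuleCat.{u} R} (g : A ⟶ B) :
    ((diag I i).obj n).map g ≫ ins I i n B = ins I i n A ≫ (localCohomology I i).map g :=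
  (colimit.ι (diag I i) n).naturality g

lemma ins_natural_apply (i : ℕ) (n : ℕᵒᵖᵒᵖ) {A B : ModuleCat.{u} R} (g : A ⟶ B) (y : St I i n A) :
    ins I i n B (((diag I i).obj n).map g y) = cmap I i g (ins I i n A y) :=
  congrArg (fun t => t y) (congrArg ModuleCat.Hom.hom (ins_natural I i n g)) |>.trans rfl

variable {I} {S : ShortComplex (ModuleCat.{u} R)}

/-- stagewise connecting map. -/
noncomputable abbrev dStage (hS : S.ShortExact) (i : ℕ) (n : ℕᵒᵖᵒᵖ) :
    St I i n S.X₃ ⟶ St I (i + 1) n S.X₁ :=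
  (delta hS i (quotObj I n)).unop

lemma dStage_trans (hS : S.ShortExact) (i : ℕ) {n m : ℕᵒᵖᵒᵖ} (w : n ⟶ m) :
    trans I i w S.X₃ ≫ dStage hS i m = dStage hS i n ≫ trans I (i + 1) w S.X₁ :=
  congrArg Quiver.Hom.unop
    (delta_natural_left hS i ((localCohomology.ringModIdeals (localCohomology.idealPowersDiagram I)).map w.unop))

/-- connecting map. -/
noncomputable def dMap (hS : S.ShortExact) (i : ℕ) :
    (localCohomology I i).obj S.X₃ →ₗ[R] (localCohomology I (i + 1)).obj S.X₁ :=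
  ((isColimitAt I i S.X₃).desc
    { pt := (localCohomology I (i + 1)).obj S.X₁
      ι :=
        { app := fun n => dStage hS i n ≫ ins I (i + 1) n S.X₁
          naturality := fun n m w => by
            show trans I i w S.X₃ ≫ dStage hS i m ≫ ins I (i + 1) m S.X₁ = _ ≫ 𝟙 _
            rw [Category.comp_id, ← Category.assoc, dStage_trans, Category.assoc, trans_ins] } }).hom

lemma dMap_ins (hS : S.ShortExact) (i : ℕ) (n : ℕᵒᵖᵒᵖ) :
    ins I i n S.X₃ ≫ ModuleCat.ofHom (dMap hS i) = dStage hS i n ≫ ins I (i + 1) n S.X₁ :=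
  (isColimitAt I i S.X₃).fac _ n

lemma dMap_ins_apply (hS : S.ShortExact) (i : ℕ) (n : ℕᵒᵖᵒᵖ) (y : St I i n S.X₃) :
    dMap hS i (ins I i n S.X₃ y) = ins I (i + 1) n S.X₁ (dStage hS i n y) :=
  congrArg (fun t => t y) (congrArg ModuleCat.Hom.hom (dMap_ins hS i n)) |>.trans rfl

lemma stage_exact₂ (hS : S.ShortExact) (i : ℕ) (n : ℕᵒᵖᵒᵖ) :
    Function.Exact (((diag I i).obj n).map S.f).hom (((diag I i).obj n).map S.g).hom :=
  (ShortComplex.ShortExact.moduleCat_exact_iff_function_exact _).1 (exact₂ hS i (quotObj I n)).unop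

theorem exact_map (hS : S.ShortExact) (i : ℕ) : Function.Exact (cmap I i S.f) (cmap I i S.g) := by
  intro x
  constructor
  · intro hx
    obtain ⟨n, y, rfl⟩ := exists_rep I i x
    rw [← ins_natural_apply] at hx
    obtain ⟨m, w, hw⟩ := rep_eq_zero I i _ hx
    have hnat : ((diag I i).obj m).map S.g (trans I i w S.X₂ y) = trans I i w S.X₃ (((diag I i).obj n).map S.g y) :=
      congrArg (fun t => t y) (congrArg ModuleCat.Hom.hom (((diag I i).map w).naturality S.g).symm)
    obtain ⟨z, hz⟩ := (stage_exact₂ hS i m _).1 (hnat.trans hw)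
    exact ⟨ins I i m S.X₁ z, by rw [← ins_natural_apply]; exact (congrArg (ins I i m S.X₂) hz).trans (trans_ins_apply I i w _ y)⟩
  · rintro ⟨z, rfl⟩
    obtain ⟨n, y, rfl⟩ := exists_rep I i z
    rw [← ins_natural_apply, ← ins_natural_apply]
    have : ((diag I i).obj n).map S.g (((diag I i).obj n).map S.f y) = 0 :=
      (stage_exact₂ hS i n).apply_apply_eq_zero y
    rw [this, map_zero]

theorem exact_map_dMap (hS : S.ShortExact) (i : ℕ) :
    Function.Exact (cmap I i S.g) (dMap hS i) := by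
  have hst : ∀ n, Function.Exact (((diag I i).obj n).map S.g).hom (dStage hS i n).hom := fun n =>
    (ShortComplex.ShortExact.moduleCat_exact_iff_function_exact _).1 (exact₁ hS i (quotObj I n)).unop
  intro x
  constructor
  · intro hx
    obtain ⟨n, y, rfl⟩ := exists_rep I i x
    rw [dMap_ins_apply] at hx
    obtain ⟨m, w, hw⟩ := rep_eq_zero I (i + 1) _ hx
    have hnat : dStage hS i m (trans I i w S.X₃ y) = trans I (i + 1) w S.X₁ (dStage hS i n y) :=
      congrArg (fun t => t y) (congrArg ModuleCat.Hom.hom (dStage_trans hS i w))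
    obtain ⟨z, hz⟩ := (hst m _).1 (hnat.trans hw)
    exact ⟨ins I i m S.X₂ z, by rw [← ins_natural_apply]; exact (congrArg (ins I i m S.X₃) hz).trans (trans_ins_apply I i w _ y)⟩
  · rintro ⟨z, rfl⟩
    obtain ⟨n, y, rfl⟩ := exists_rep I i z
    rw [← ins_natural_apply, dMap_ins_apply]
    have : dStage hS i n (((diag I i).obj n).map S.g y) = 0 := (hst n).apply_apply_eq_zero y
    rw [this, map_zero]

theorem exact_dMap_map (hS : S.ShortExact) (i : ℕ) :
    Function.Exact (dMap hS i) (cmap I (i + 1) S.f) := by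
  have hst : ∀ n, Function.Exact (dStage hS i n).hom (((diag I (i + 1)).obj n).map S.f).hom := fun n =>
    (ShortComplex.ShortExact.moduleCat_exact_iff_function_exact _).1 (exact₃ hS i (quotObj I n)).unop
  intro x
  constructor
  · intro hx
    obtain ⟨n, y, rfl⟩ := exists_rep I (i + 1) x
    rw [← ins_natural_apply] at hx
    obtain ⟨m, w, hw⟩ := rep_eq_zero I (i + 1) _ hx
    have hnat : ((diag I (i + 1)).obj m).map S.f (trans I (i + 1) w S.X₁ y) =
        trans I (i + 1) w S.X₂ (((diag I (i + 1)).obj n).map S.f y) :=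
      congrArg (fun t => t y) (congrArg ModuleCat.Hom.hom (((diag I (i + 1)).map w).naturality S.f).symm)
    obtain ⟨z, hz⟩ := (hst m _).1 (hnat.trans hw)
    exact ⟨ins I i m S.X₃ z, by rw [dMap_ins_apply]; exact (congrArg (ins I (i + 1) m S.X₁) hz).trans (trans_ins_apply I (i + 1) w _ y)⟩
  · rintro ⟨z, rfl⟩
    obtain ⟨n, y, rfl⟩ := exists_rep I i z
    rw [dMap_ins_apply, ← ins_natural_apply]
    have : ((diag I (i + 1)).obj n).map S.f (dStage hS i n y) = 0 := (hst n).apply_apply_eq_zero y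
    rw [this, map_zero]

theorem dMap_natural {T : ShortComplex (ModuleCat.{u} R)} (hS : S.ShortExact) (hT : T.ShortExact)
    (ψ : S ⟶ T) (i : ℕ) (x : (localCohomology I i).obj S.X₃) :
    dMap hT i (cmap I i ψ.τ₃ x) = cmap I (i + 1) ψ.τ₁ (dMap hS i x) := by
  obtain ⟨n, y, rfl⟩ := exists_rep I i x
  rw [← ins_natural_apply, dMap_ins_apply, dMap_ins_apply, ← ins_natural_apply]
  refine congrArg (ins I (i + 1) n T.X₁) ?_
  exact congrArg (fun t => t y) (congrArg ModuleCat.Hom.hom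
    (congrArg Quiver.Hom.unop (delta_natural_right hS hT ψ i (quotObj I n))))

/-- `H^{i+1}` of an injective module vanishes. -/
theorem subsingleton_of_injective (E : ModuleCat.{u} R) [Injective E] (i : ℕ) :
    Subsingleton ((localCohomology I (i + 1)).obj E) := by
  refine ⟨fun a b => ?_⟩
  obtain ⟨n, y, rfl⟩ := exists_rep I (i + 1) a
  obtain ⟨m, z, rfl⟩ := exists_rep I (i + 1) b
  have h : ∀ n, Subsingleton (St I (i + 1) n E) := fun n =>
    ModuleCat.subsingleton_of_isZero (isZero_of_injective E i (quotObj I n)).unop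
  rw [@Subsingleton.elim _ (h n) y 0, @Subsingleton.elim _ (h m) z 0, map_zero, map_zero]

/-! ### degree zero -/

/-- `Hom(R/I^n, M) ≅ Ext^0(R/I^n, M)`. -/
noncomputable def z0 (n : ℕᵒᵖᵒᵖ) (M : ModuleCat.{u} R) :
    ModuleCat.of R (quotObj I n ⟶ M) ≅ St I 0 n M :=
  haveI := isIso_zeroMap M (quotObj I n)
  (asIso (zeroMap M (quotObj I n))).unop

/-- value at `1`. -/
noncomputable def evalOne (n : ℕᵒᵖᵒᵖ) (M : ModuleCat.{u} R) :
    ModuleCat.of R (quotObj I n ⟶ M) →ₗ[R] M where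
  toFun φ := φ.hom (Submodule.Quotient.mk 1)
  map_add' _ _ := rfl
  map_smul' _ _ := rfl

/-- stage version of `H⁰ → Γ_I`. -/
noncomputable def v0 (n : ℕᵒᵖᵒᵖ) (M : ModuleCat.{u} R) : St I 0 n M →ₗ[R] M :=
  evalOne n M ∘ₗ (z0 n M).inv.hom

lemma v0_trans {n m : ℕᵒᵖᵒᵖ} (w : n ⟶ m) (M : ModuleCat.{u} R) (y : St I 0 n M) :
    v0 m M (trans I 0 w M y) = v0 n M y := by
  set f := (localCohomology.ringModIdeals (localCohomology.idealPowersDiagram I)).map w.unop
  have h := congrArg Quiver.Hom.unop (zeroMap_natural_left M f)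
  obtain ⟨φ, rfl⟩ : ∃ φ, (z0 n M).hom φ = y := ⟨(z0 n M).inv y, by simp⟩
  have h1 : trans I 0 w M ((z0 n M).hom φ) = (z0 m M).hom (f ≫ φ) :=
    congrArg (fun t => t φ) (congrArg ModuleCat.Hom.hom h)
  simp only [h1, v0, LinearMap.comp_apply, Iso.hom_inv_id_apply]
  show (f ≫ φ).hom (Submodule.Quotient.mk 1) = φ.hom (Submodule.Quotient.mk 1)
  rfl

lemma v0_natural (n : ℕᵒᵖᵒᵖ) {A B : ModuleCat.{u} R} (g : A ⟶ B) (y : St I 0 n A) :
    v0 n B (((diag I 0).obj n).map g y) = g.hom (v0 n A y) := by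
  have h := congrArg Quiver.Hom.unop (zeroMap_natural_right g (quotObj I n))
  obtain ⟨φ, rfl⟩ : ∃ φ, (z0 n A).hom φ = y := ⟨(z0 n A).inv y, by simp⟩
  have h1 : ((diag I 0).obj n).map g ((z0 n A).hom φ) = (z0 n B).hom (φ ≫ g) :=
    (congrArg (fun t => t φ) (congrArg ModuleCat.Hom.hom h))
  simp only [h1, v0, LinearMap.comp_apply, Iso.hom_inv_id_apply]
  rfl

lemma v0_injective (n : ℕᵒᵖᵒᵖ) (M : ModuleCat.{u} R) : Function.Injective (v0 (I := I) n M) := by
  intro a b h
  obtain ⟨φ, rfl⟩ : ∃ φ, (z0 n M).hom φ = a := ⟨(z0 n M).inv a, by simp⟩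
  obtain ⟨χ, rfl⟩ : ∃ χ, (z0 n M).hom χ = b := ⟨(z0 n M).inv b, by simp⟩
  simp only [v0, LinearMap.comp_apply, Iso.hom_inv_id_apply] at h
  congr 1
  apply ModuleCat.hom_ext
  apply Submodule.linearMap_qext
  exact LinearMap.ext_ring h

/-- `H^0_I(M) → M`. -/
noncomputable def toMod (M : ModuleCat.{u} R) : (localCohomology I 0).obj M →ₗ[R] M :=
  ((isColimitAt I 0 M).desc
    { pt := M
      ι :=
        { app := fun n => ModuleCat.ofHom (v0 n M)
          naturality := fun n m w => by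
            ext y
            exact v0_trans w M y } }).hom

lemma toMod_ins (n : ℕᵒᵖᵒᵖ) (M : ModuleCat.{u} R) (y : St I 0 n M) :
    toMod M (ins I 0 n M y) = v0 n M y :=
  have h : ins I 0 n M ≫ ModuleCat.ofHom (toMod M) = ModuleCat.ofHom (v0 n M) :=
    (isColimitAt I 0 M).fac _ n
  congrArg (fun t => t y) (congrArg ModuleCat.Hom.hom h)

theorem toMod_injective (M : ModuleCat.{u} R) : Function.Injective (toMod (I := I) M) := by
  rw [injective_iff_map_eq_zero]
  intro x hx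
  obtain ⟨n, y, rfl⟩ := exists_rep I 0 x
  rw [toMod_ins] at hx
  rw [(injective_iff_map_eq_zero _).1 (v0_injective n M) y hx, map_zero]

theorem range_toMod (M : ModuleCat.{u} R) :
    LinearMap.range (toMod (I := I) M) = DRing.torsionSub I M := by
  ext m
  constructor
  · rintro ⟨x, rfl⟩
    obtain ⟨n, y, rfl⟩ := exists_rep I 0 x
    rw [toMod_ins]
    refine ⟨unop (unop n), fun a ha => ?_⟩
    rw [v0, LinearMap.comp_apply]
    show a • ((z0 n M).inv y).hom (Submodule.Quotient.mk 1) = 0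
    obtain ⟨φ, hφ⟩ : ∃ φ : (R ⧸ I ^ (unop (unop n))) →ₗ[R] M, φ = ((z0 n M).inv y).hom := ⟨_, rfl⟩
    show a • ((z0 n M).inv y).hom.toFun (Submodule.Quotient.mk 1) = 0
    have h1 : a • φ (Submodule.Quotient.mk 1) = 0 := by
      rw [← φ.map_smul, ← Submodule.Quotient.mk_smul, smul_eq_mul, mul_one,
        (Submodule.Quotient.mk_eq_zero _).2 ha, map_zero]
    subst hφ
    exact h1
  · rintro ⟨n, hn⟩
    let ψ : quotObj I (op (op n)) ⟶ M := ModuleCat.ofHom (Submodule.liftQ (I ^ n) (LinearMap.toSpanSingleton R M m) fun a ha => hn a ha)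
    refine ⟨ins I 0 (op (op n)) M ((z0 (op (op n)) M).hom ψ), ?_⟩
    simp only [toMod_ins, v0, LinearMap.comp_apply, Iso.hom_inv_id_apply]
    show ψ.hom (Submodule.Quotient.mk 1) = m
    exact one_smul R m

theorem toMod_natural {A B : ModuleCat.{u} R} (g : A ⟶ B) (x : (localCohomology I 0).obj A) :
    toMod B (cmap I 0 g x) = g.hom (toMod A x) := by
  obtain ⟨n, y, rfl⟩ := exists_rep I 0 x
  rw [← ins_natural_apply, toMod_ins, toMod_ins, v0_natural]

/-- `H⁰_I(M) ≅ Γ_I(M)`. -/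
noncomputable def torsionEquiv (M : Type u) [AddCommGroup M] [Module R M] :
    LocCoh.H I 0 M ≃ₗ[R] DRing.torsionSub I M :=
  (LinearEquiv.ofInjective (toMod (ModuleCat.of R M)) (toMod_injective _)) ≪≫ₗ
    LinearEquiv.ofEq _ _ (range_toMod _)

end Groth.Agent.H2LC
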