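import Mathlib
import Groth.Agent.Lib.H2LCBase
import Groth.Agent.Lib.H2Depth

/-! Dimension shifting for local cohomology: linearity, power torsion, torsion modules are acyclic,
vanishing below the depth and non-vanishing at the depth. -/

universe u

open CategoryTheory CategoryTheory.Limits Pointwise

namespace Groth.Agent.H2LC

variable {R : Type u} [CommRing R] {I : Ideal R}

/-- short complex of linear maps. -/
noncomputable abbrev lseq {A B C : Type u} [AddCommGroup A] [Module R A] [AddCommGroup B] [Module R B]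
    [AddCommGroup C] [Module R C] (f : A →ₗ[R] B) (g : B →ₗ[R] C) (h : g ∘ₗ f = 0) :
    ShortComplex (ModuleCat.{u} R) :=
  ShortComplex.mk (ModuleCat.ofHom f) (ModuleCat.ofHom g) (by ext x; exact congr($h x))

lemma lseq_shortExact {A B C : Type u} [AddCommGroup A] [Module R A] [AddCommGroup B] [Module R B]
    [AddCommGroup C] [Module R C] {f : A →ₗ[R] B} {g : B →ₗ[R] C} (hf : Function.Injective f)
    (hg : Function.Surjective g) (hfg : Function.Exact f g) :
    (lseq f g hfg.linearMap_comp_eq_zero).ShortExact :=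
  { exact := (ShortComplex.ShortExact.moduleCat_exact_iff_function_exact _).2 hfg
    mono_f := (ModuleCat.mono_iff_injective _).2 hf
    epi_g := (ModuleCat.epi_iff_surjective _).2 hg }

/-- the sequence `M → E → E/M` for the chosen injective `E ⊇ M`. -/
noncomputable def envSeq (M : ModuleCat.{u} R) : ShortComplex (ModuleCat.{u} R) :=
  ShortComplex.mk (Injective.ι M) (cokernel.π (Injective.ι M)) (cokernel.condition _)

lemma envSeq_shortExact (M : ModuleCat.{u} R) : (envSeq M).ShortExact :=
  { exact := ShortComplex.exact_cokernel (Injective.ι M)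
    mono_f := inferInstanceAs (Mono (Injective.ι M))
    epi_g := inferInstanceAs (Epi (cokernel.π (Injective.ι M))) }

instance (M : ModuleCat.{u} R) : Injective (envSeq M).X₂ :=
  inferInstanceAs (Injective (Injective.under M))

theorem dMap_surjective {S : ShortComplex (ModuleCat.{u} R)} (hS : S.ShortExact) (i : ℕ)
    (h : Subsingleton ((localCohomology I (i + 1)).obj S.X₂)) :
    Function.Surjective (dMap (I := I) hS i) := fun x =>
  (exact_dMap_map hS i x).1 (Subsingleton.elim _ _)

theorem dMap_injective {S : ShortComplex (ModuleCat.{u} R)} (hS : S.ShortExact) (i : ℕ)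
    (h : Subsingleton ((localCohomology I i).obj S.X₂)) :
    Function.Injective (dMap (I := I) hS i) := by
  rw [injective_iff_map_eq_zero]
  intro x hx
  obtain ⟨y, rfl⟩ := (exact_map_dMap hS i x).1 hx
  rw [Subsingleton.elim y 0, map_zero]

theorem envSeq_dMap_surjective (M : ModuleCat.{u} R) (i : ℕ) :
    Function.Surjective (dMap (I := I) (envSeq_shortExact M) i) :=
  dMap_surjective _ i (subsingleton_of_injective _ i)

/-- `H^i` is `R`-linear in the module. -/
theorem cmap_smul (i : ℕ) : ∀ {A B : ModuleCat.{u} R} (c : R) (f : A ⟶ B)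
    (x : (localCohomology I i).obj A), cmap I i (c • f) x = c • cmap I i f x := by
  induction i with
  | zero =>
    intro A B c f x
    apply toMod_injective B
    rw [map_smul, toMod_natural, toMod_natural]
    rfl
  | succ i ih =>
    intro A B c f x
    obtain ⟨q, rfl⟩ := envSeq_dMap_surjective A i x
    haveI hm : Mono (Injective.ι A) := (envSeq_shortExact A).mono_f
    let φ : Injective.under A ⟶ Injective.under B := Injective.factorThru (f ≫ Injective.ι B) (Injective.ι A)
    have hφ : Injective.ι A ≫ φ = f ≫ Injective.ι B := Injective.comp_factorThru (f ≫ Injective.ι B) (Injective.ι A)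
    let ψ : cokernel (Injective.ι A) ⟶ cokernel (Injective.ι B) := cokernel.desc (Injective.ι A) (φ ≫ cokernel.π (Injective.ι B))
      (by rw [reassoc_of% hφ, cokernel.condition, comp_zero])
    let Φ : envSeq A ⟶ envSeq B :=
      { τ₁ := f, τ₂ := φ, τ₃ := ψ, comm₁₂ := hφ.symm, comm₂₃ := (cokernel.π_desc _ _ _).symm }
    let Φc : envSeq A ⟶ envSeq B :=
      { τ₁ := c • f, τ₂ := c • φ, τ₃ := c • ψ
        comm₁₂ := (Linear.smul_comp _ _ _ c f (Injective.ι B)).trans ((congrArg (c • ·) hφ.symm).trans (Linear.comp_smul _ _ _ (Injective.ι A) c φ).symm)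
        comm₂₃ := (Linear.smul_comp _ _ _ c φ (cokernel.π (Injective.ι B))).trans ((congrArg (c • ·) (cokernel.π_desc _ _ _).symm).trans (Linear.comp_smul _ _ _ (cokernel.π (Injective.ι A)) c ψ).symm) }
    have h1 : dMap (envSeq_shortExact B) i (cmap I i ψ q) = cmap I (i + 1) f (dMap (envSeq_shortExact A) i q) :=
      dMap_natural (envSeq_shortExact A) (envSeq_shortExact B) Φ i q
    have h2 : dMap (envSeq_shortExact B) i (cmap I i (c • ψ) q) = cmap I (i + 1) (c • f) (dMap (envSeq_shortExact A) i q) :=
      dMap_natural (envSeq_shortExact A) (envSeq_shortExact B) Φc i q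
    exact h2.symm.trans ((congrArg _ (ih c ψ q)).trans ((map_smul _ c _).trans (congrArg (c • ·) h1)))

theorem cmap_smul_id (i : ℕ) (c : R) (A : ModuleCat.{u} R) (x : (localCohomology I i).obj A) :
    cmap I i (c • 𝟙 A) x = c • x := by
  rw [cmap_smul]
  simp [cmap]

/-- local cohomology is `I`-power torsion. -/
theorem isPowerTorsion (i : ℕ) : ∀ M : ModuleCat.{u} R,
    LocCoh.IsPowerTorsion I ((localCohomology I i).obj M) := by
  induction i with
  | zero =>
    intro M x
    have h : toMod M x ∈ DRing.torsionSub I M := range_toMod (I := I) M ▸ LinearMap.mem_range_self _ x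
    obtain ⟨n, hn⟩ := h
    exact ⟨n, fun a ha => toMod_injective M (by rw [map_smul, hn a ha, map_zero])⟩
  | succ i ih =>
    intro M x
    obtain ⟨q, rfl⟩ := envSeq_dMap_surjective M i x
    obtain ⟨n, hn⟩ := ih _ q
    exact ⟨n, fun a ha => (map_smul (dMap (envSeq_shortExact M) i) a q).symm.trans ((congrArg _ (hn a ha)).trans (map_zero _))⟩

theorem subsingleton_H0_iff (M : Type u) [AddCommGroup M] [Module R M] :
    Subsingleton (LocCoh.H I 0 M) ↔ DRing.torsionSub I M = ⊥ := by
  rw [← Submodule.subsingleton_iff_eq_bot]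
  exact (torsionEquiv (I := I) M).subsingleton_congr

theorem isPowerTorsion_iff (M : Type u) [AddCommGroup M] [Module R M] :
    LocCoh.IsPowerTorsion I M ↔ DRing.torsionSub I M = ⊤ :=
  ⟨fun h => eq_top_iff.2 fun m _ => h m, fun h m => (h ▸ Submodule.mem_top : m ∈ DRing.torsionSub I M)⟩

variable [IsNoetherianRing R]

/-- the torsion part of an injective module is injective. -/
theorem injective_torsionSub (E : Type u) [AddCommGroup E] [Module R E] [hE : Module.Injective R E] :
    Module.Injective R (DRing.torsionSub I E) := by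
  refine Module.Baer.injective fun J f => ?_
  have hBE : Module.Baer R E := Module.Baer.of_injective hE
  -- a single power kills the image
  have hk : ∃ k : ℕ, ∀ a ∈ I ^ k, ∀ j : J, a • f j = 0 := by
    haveI : Module.Finite R J := Module.Finite.iff_fg.2 (IsNoetherian.noetherian J)
    obtain ⟨s, hs⟩ := Module.Finite.fg_top (R := R) (M := J)
    classical
    choose n hn using fun j : J => (f j).2
    refine ⟨s.sup n, fun a ha j => ?_⟩
    have hj : j ∈ Submodule.span R (s : Set J) := hs ▸ Submodule.mem_top
    induction hj using Submodule.span_induction with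
    | mem j hj => exact Subtype.ext (hn j a (Ideal.pow_le_pow_right (Finset.le_sup (f := n) hj) ha))
    | zero => rw [map_zero, smul_zero]
    | add x y _ _ hx hy => rw [map_add, smul_add, hx, hy, add_zero]
    | smul c x _ hx => rw [map_smul, smul_comm, hx, smul_zero]
  obtain ⟨k, hk⟩ := hk
  obtain ⟨c, hc⟩ := Ideal.exists_pow_inf_eq_pow_smul I (J : Submodule R R)
  set m := k + c
  have hvan : ∀ j : J, (j : R) ∈ I ^ m → f j = 0 := by
    intro j hj
    have h1 : (j : R) ∈ I ^ m • (⊤ : Submodule R R) ⊓ J := ⟨by simpa [Ideal.smul_eq_mul] using hj, j.2⟩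
    rw [hc m (Nat.le_add_left _ _), Nat.add_sub_cancel] at h1
    have h2 : (j : R) ∈ (I ^ k • (⊤ : Submodule R J)).map J.subtype := by
      rw [Submodule.map_smul'', Submodule.map_top, Submodule.range_subtype]
      exact Submodule.smul_mono le_rfl inf_le_right h1
    obtain ⟨j', hj', hjj⟩ := h2
    rw [← Subtype.ext hjj]
    refine Submodule.smul_induction_on hj' (fun a ha x _ => ?_) (fun x y hx hy => ?_)
    · rw [map_smul, hk a ha]
    · rw [map_add, hx, hy, add_zero]
  -- extend on `J/(J ∩ I^m) → R/I^m`
  let p : J →ₗ[R] R ⧸ (I ^ m) := (I ^ m).mkQ ∘ₗ J.subtype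
  let f0 : J ⧸ LinearMap.ker p →ₗ[R] E := (LinearMap.ker p).liftQ ((DRing.torsionSub I E).subtype ∘ₗ f) (by
    intro j hj
    rw [LinearMap.mem_ker]
    have : f j = 0 := hvan j ((Submodule.Quotient.mk_eq_zero _).1 (LinearMap.mem_ker.1 hj))
    simp [this])
  obtain ⟨g, hg⟩ := hE.out ((LinearMap.ker p).liftQ p le_rfl)
    (LinearMap.ker_eq_bot.1 (Submodule.ker_liftQ_eq_bot _ _ _ le_rfl)) f0
  refine ⟨LinearMap.codRestrict _ (g ∘ₗ (I ^ m).mkQ) (fun r => ⟨m, fun a ha => ?_⟩), fun x hx => ?_⟩
  · rw [LinearMap.comp_apply, ← map_smul, ← map_smul]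
    rw [show (I ^ m).mkQ (a • r) = 0 from (Submodule.Quotient.mk_eq_zero _).2 (Ideal.mul_mem_right _ _ ha), map_zero]
  · exact Subtype.ext (hg (Submodule.Quotient.mk ⟨x, hx⟩))

/-- a torsion module embeds in a torsion injective module. -/
theorem exists_torsion_injective (N : Type u) [AddCommGroup N] [Module R N] (hN : LocCoh.IsPowerTorsion I N) :
    ∃ (E : Type u) (_ : AddCommGroup E) (_ : Module R E) (_ : Module.Injective R E ∧ LocCoh.IsPowerTorsion I E)
      (j : N →ₗ[R] E), Function.Injective j := by
  let E0 := Injective.under (ModuleCat.of R N)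
  haveI : Module.Injective R E0 :=
    Module.injective_module_of_injective_object R E0 (inj := inferInstanceAs (Injective (Injective.under (ModuleCat.of R N))))
  refine ⟨DRing.torsionSub I E0, inferInstance, inferInstance,
    ⟨injective_torsionSub E0, fun e => ?_⟩,
    LinearMap.codRestrict _ (Injective.ι (ModuleCat.of R N)).hom (fun x => ?_), ?_⟩
  · obtain ⟨n, hn⟩ := e.2
    exact ⟨n, fun a ha => Subtype.ext (hn a ha)⟩
  · obtain ⟨n, hn⟩ := hN x
    exact ⟨n, fun a ha => by rw [← map_smul, hn a ha, map_zero]⟩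
  · intro a b h
    exact (ModuleCat.mono_iff_injective _).1 inferInstance (congrArg Subtype.val h)

/-- power-torsion modules are acyclic. -/
theorem subsingleton_of_isPowerTorsion (i : ℕ) : ∀ (N : Type u) [AddCommGroup N] [Module R N],
    LocCoh.IsPowerTorsion I N → Subsingleton (LocCoh.H I (i + 1) N) := by
  induction i with
  | zero =>
    intro N _ _ hN
    obtain ⟨E, _, _, hE, j, hj⟩ := exists_torsion_injective N hN
    have hSE := lseq_shortExact hj (Submodule.mkQ_surjective _) (LinearMap.exact_map_mkQ_range j)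
    haveI : Injective (ModuleCat.of R E) := Module.injective_object_of_injective_module R E (inj := hE.1)
    refine ⟨fun a b => ?_⟩
    obtain ⟨q, rfl⟩ := dMap_surjective hSE 0 (subsingleton_of_injective (ModuleCat.of R E) 0) a
    obtain ⟨q', rfl⟩ := dMap_surjective hSE 0 (subsingleton_of_injective (ModuleCat.of R E) 0) b
    have hz : ∀ q, dMap hSE 0 q = 0 := fun q => by
      refine (exact_map_dMap hSE 0 q).2 ?_
      obtain ⟨e, he⟩ := Submodule.mkQ_surjective _ (toMod _ q)
      have he' : e ∈ LinearMap.range (toMod (I := I) (ModuleCat.of R E)) := by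
        rw [range_toMod]; exact (hE.2 e)
      obtain ⟨y, hy⟩ := he'
      exact ⟨y, toMod_injective _ (by rw [toMod_natural, hy]; exact he)⟩
    rw [hz, hz]
  | succ i ih =>
    intro N _ _ hN
    obtain ⟨E, _, _, hE, j, hj⟩ := exists_torsion_injective N hN
    have hSE := lseq_shortExact hj (Submodule.mkQ_surjective _) (LinearMap.exact_map_mkQ_range j)
    haveI : Injective (ModuleCat.of R E) := Module.injective_object_of_injective_module R E (inj := hE.1)
    haveI := ih (E ⧸ LinearMap.range j) (fun e => by
      obtain ⟨e, rfl⟩ := Submodule.mkQ_surjective _ e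
      obtain ⟨n, hn⟩ := hE.2 e
      exact ⟨n, fun a ha => by rw [← map_smul, hn a ha, map_zero]⟩)
    exact (dMap_surjective hSE (i + 1) (subsingleton_of_injective (ModuleCat.of R E) _)).subsingleton

omit [IsNoetherianRing R] in
lemma quotSMulTop_shortExact {M : Type u} [AddCommGroup M] [Module R M] {x : R} (hx : IsSMulRegular M x) :
    ∃ h : Function.Exact (x • (LinearMap.id : M →ₗ[R] M)) (Submodule.mkQ (x • (⊤ : Submodule R M))),
      (lseq (x • (LinearMap.id : M →ₗ[R] M)) (Submodule.mkQ (x • (⊤ : Submodule R M))) h.linearMap_comp_eq_zero).ShortExact := by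
  have h : Function.Exact (x • (LinearMap.id : M →ₗ[R] M)) (Submodule.mkQ (x • (⊤ : Submodule R M))) := by
    intro m
    exact H2Depth.mk_eq_zero_iff_exists
  exact ⟨h, lseq_shortExact (fun a b h => hx h) (Submodule.mkQ_surjective _) h⟩

/-- vanishing below a regular sequence. -/
theorem subsingleton_of_hasReg : ∀ {k : ℕ} {M : Type u} [AddCommGroup M] [Module R M],
    H2Depth.HasReg I M k → ∀ i, i < k → Subsingleton (LocCoh.H I i M) := by
  intro k
  induction k with
  | zero => intro M _ _ _ i hi; exact absurd hi (Nat.not_lt_zero i)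
  | succ k ih =>
    intro M _ _ h i hi
    obtain ⟨x, hxI, hx, hrest⟩ := h.exists_cons
    obtain _ | i := i
    · rw [subsingleton_H0_iff, eq_bot_iff]
      rintro m ⟨n, hn⟩
      exact (Submodule.mem_bot R).2 ((hx.pow n).right_eq_zero_of_smul (hn _ (Ideal.pow_mem_pow hxI n)))
    · obtain ⟨he, hS⟩ := quotSMulTop_shortExact hx
      haveI := ih hrest i (by omega)
      have hinj : ∀ y : LocCoh.H I (i + 1) M, x • y = 0 → y = 0 := by
        intro y hy
        have h0 : cmap I (i + 1) (ModuleCat.ofHom (x • (LinearMap.id : M →ₗ[R] M))) y = 0 := by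
          rw [show ModuleCat.ofHom (x • (LinearMap.id : M →ₗ[R] M)) = x • 𝟙 (ModuleCat.of R M) from rfl, cmap_smul_id, hy]
        obtain ⟨q, hq⟩ := (exact_dMap_map hS i y).1 h0
        rw [← hq, @Subsingleton.elim (LocCoh.H I i (QuotSMulTop x M)) _ q 0]
        exact map_zero _
      refine ⟨fun a b => ?_⟩
      have hz : ∀ y : LocCoh.H I (i + 1) M, y = 0 := fun y => by
        obtain ⟨n, hn⟩ := isPowerTorsion (I := I) (i + 1) (ModuleCat.of R M) y
        induction n generalizing y with
        | zero => simpa using hn 1 (by simp)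
        | succ n ihn =>
          refine hinj y (ihn (x • y) fun a ha => ?_)
          rw [smul_smul]
          exact hn _ (pow_succ I n ▸ Ideal.mul_mem_mul ha hxI)
      rw [hz a, hz b]

omit [IsNoetherianRing R] in
theorem torsionSub_ne_bot_of_killed {M : Type u} [AddCommGroup M] [Module R M] {m : M} (hm : m ≠ 0)
    (h : ∀ a ∈ I, a • m = 0) : DRing.torsionSub I M ≠ ⊥ := fun hb =>
  hm ((Submodule.mem_bot R).1 (hb ▸ (⟨1, by simpa using h⟩ : m ∈ DRing.torsionSub I M)))

/-- non-vanishing at the depth. -/
theorem nontrivial_of_maximal : ∀ {rs : List R} {M : Type u} [AddCommGroup M] [Module R M]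
    [Module.Finite R M], RingTheory.Sequence.IsWeaklyRegular M rs → (∀ r ∈ rs, r ∈ I) →
    H2Depth.NoReg I (M ⧸ (Ideal.ofList rs • ⊤ : Submodule R M)) →
    Nontrivial (LocCoh.H I rs.length M) := by
  intro rs
  induction rs with
  | nil =>
    intro M _ _ _ _ _ hmax
    rw [List.length_nil, ← not_subsingleton_iff_nontrivial, subsingleton_H0_iff]
    obtain ⟨u, hu, hku⟩ := H2Depth.exists_killed_of_noReg hmax
    obtain ⟨u, rfl⟩ := Submodule.Quotient.mk_surjective _ u
    refine torsionSub_ne_bot_of_killed (m := u) (fun h => hu (by rw [h]; rfl)) fun a ha => ?_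
    have := hku a ha
    rw [← Submodule.Quotient.mk_smul, Submodule.Quotient.mk_eq_zero] at this
    simpa using this
  | cons x rs ih =>
    intro M _ _ _ hrs hmem hmax
    have hrs' := (RingTheory.Sequence.isWeaklyRegular_cons_iff M x rs).1 hrs
    haveI := ih hrs'.2 (fun r hr => hmem r (by simp [hr])) (fun r hr hc => hmax r hr
      (((Submodule.quotOfListConsSMulTopEquivQuotSMulTopInner M x rs).isSMulRegular_congr r).2 hc))
    obtain ⟨he, hS⟩ := quotSMulTop_shortExact hrs'.1
    have hsub : Subsingleton (LocCoh.H I rs.length M) :=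
      subsingleton_of_hasReg (k := rs.length + 1) ⟨x :: rs, rfl, hrs, hmem⟩ _ (Nat.lt_succ_self _)
    exact (dMap_injective hS rs.length hsub).nontrivial

end Groth.Agent.H2LC
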