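import Mathlib
import Groth.Prelude.Def_Wider
import Groth.Prelude.Def_DRing3
import Groth.Agent.Lib.H2LCShift

/-! Cohomological dimension of local cohomology: subadditivity, number of generators, direct sums,
Grothendieck vanishing for arbitrary modules. -/

universe u

open CategoryTheory CategoryTheory.Limits Pointwise

namespace Groth.Agent.H2LC

variable {R : Type u} [CommRing R] {I : Ideal R}

section pieces

variable {A B C : Type u} [AddCommGroup A] [Module R A] [AddCommGroup B] [Module R B]
  [AddCommGroup C] [Module R C] {f : A →ₗ[R] B} {g : B →ₗ[R] C}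

theorem subsingleton_mid (hf : Function.Injective f) (hg : Function.Surjective g)
    (hfg : Function.Exact f g) (i : ℕ) (hA : Subsingleton (LocCoh.H I i A))
    (hC : Subsingleton (LocCoh.H I i C)) : Subsingleton (LocCoh.H I i B) := by
  have hS := lseq_shortExact hf hg hfg
  have hz : ∀ x : LocCoh.H I i B, x = 0 := fun x => by
    obtain ⟨y, rfl⟩ := (exact_map hS i x).1 (Subsingleton.elim _ _)
    rw [@Subsingleton.elim _ hA y 0]
    exact map_zero _
  exact ⟨fun a b => (hz a).trans (hz b).symm⟩

theorem subsingleton_right (hf : Function.Injective f) (hg : Function.Surjective g)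
    (hfg : Function.Exact f g) (i : ℕ) (hB : Subsingleton (LocCoh.H I i B))
    (hA : Subsingleton (LocCoh.H I (i + 1) A)) : Subsingleton (LocCoh.H I i C) := by
  have hS := lseq_shortExact hf hg hfg
  have hz : ∀ x : LocCoh.H I i C, x = 0 := fun x => by
    obtain ⟨y, rfl⟩ := (exact_map_dMap hS i x).1 (@Subsingleton.elim _ hA _ _)
    rw [@Subsingleton.elim _ hB y 0]
    exact map_zero _
  exact ⟨fun a b => (hz a).trans (hz b).symm⟩

theorem subsingleton_left (hf : Function.Injective f) (hg : Function.Surjective g)
    (hfg : Function.Exact f g) (i : ℕ) (hC : Subsingleton (LocCoh.H I i C))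
    (hB : Subsingleton (LocCoh.H I (i + 1) B)) : Subsingleton (LocCoh.H I (i + 1) A) :=
  (dMap_surjective (lseq_shortExact hf hg hfg) i hB).subsingleton

/-- `H¹(A) = 0` iff `Γ` is right exact on the sequence, given `H¹(B) = 0`. -/
theorem subsingleton_H1_iff (hf : Function.Injective f) (hg : Function.Surjective g)
    (hfg : Function.Exact f g) (hB : Subsingleton (LocCoh.H I 1 B)) :
    Subsingleton (LocCoh.H I 1 A) ↔
      ∀ c ∈ DRing.torsionSub I C, ∃ b ∈ DRing.torsionSub I B, g b = c := by
  have hS := lseq_shortExact hf hg hfg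
  constructor
  · intro h c hc
    rw [← range_toMod (ModuleCat.of R C)] at hc
    obtain ⟨x, rfl⟩ := hc
    obtain ⟨y, rfl⟩ := (exact_map_dMap hS 0 x).1 (@Subsingleton.elim _ h _ _)
    exact ⟨toMod (ModuleCat.of R B) y, range_toMod (I := I) (ModuleCat.of R B) ▸
      LinearMap.mem_range_self _ y, (toMod_natural (ModuleCat.ofHom g) y).symm⟩
  · intro h
    have hz : ∀ a : LocCoh.H I 1 A, a = 0 := fun a => by
      obtain ⟨x, rfl⟩ := dMap_surjective hS 0 hB a
      refine (exact_map_dMap hS 0 x).2 ?_
      obtain ⟨b, hb, hgb⟩ := h (toMod (ModuleCat.of R C) x)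
        (range_toMod (I := I) (ModuleCat.of R C) ▸ LinearMap.mem_range_self _ x)
      rw [← range_toMod (ModuleCat.of R B)] at hb
      obtain ⟨y, rfl⟩ := hb
      exact ⟨y, toMod_injective _ ((toMod_natural (ModuleCat.ofHom g) y).trans hgb)⟩
    exact ⟨fun a b => (hz a).trans (hz b).symm⟩

theorem subsingleton_of_surjective (g : B →ₗ[R] C) (hg : Function.Surjective g) (i : ℕ)
    (hB : Subsingleton (LocCoh.H I i B)) (hK : Subsingleton (LocCoh.H I (i + 1) (LinearMap.ker g))) :
    Subsingleton (LocCoh.H I i C) :=
  subsingleton_right (LinearMap.ker g).injective_subtype hg (LinearMap.exact_subtype_ker_map g) i hB hK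

end pieces

/-- an element of `I` acting injectively on `H^i(M)` forces it to vanish. -/
theorem subsingleton_of_smul_injective {M : Type u} [AddCommGroup M] [Module R M] {x : R}
    (hxI : x ∈ I) (i : ℕ) (hinj : ∀ y : LocCoh.H I i M, x • y = 0 → y = 0) :
    Subsingleton (LocCoh.H I i M) := by
  have hz : ∀ y : LocCoh.H I i M, y = 0 := fun y => by
    obtain ⟨n, hn⟩ := isPowerTorsion (I := I) i (ModuleCat.of R M) y
    induction n generalizing y with
    | zero => simpa using hn 1 (by simp)
    | succ n ihn =>
      refine hinj y (ihn (x • y) fun a ha => ?_)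
      rw [smul_smul]
      exact hn _ (pow_succ I n ▸ Ideal.mul_mem_mul ha hxI)
  exact ⟨fun a b => (hz a).trans (hz b).symm⟩

theorem subsingleton_of_bijective_smul {M : Type u} [AddCommGroup M] [Module R M] {x : R}
    (hxI : x ∈ I) (hx : Function.Bijective fun m : M => x • m) (i : ℕ) :
    Subsingleton (LocCoh.H I i M) := by
  refine subsingleton_of_smul_injective hxI i fun y hy => ?_
  let e : M ≃ₗ[R] M := LinearEquiv.ofBijective (x • (LinearMap.id : M →ₗ[R] M)) hx
  have h1 : cmap I i (ModuleCat.ofHom e.symm.toLinearMap) (cmap I i (ModuleCat.ofHom e.toLinearMap) y) = y := by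
    rw [← LinearMap.comp_apply, ← ModuleCat.hom_comp, ← Functor.map_comp]
    have : ModuleCat.ofHom e.toLinearMap ≫ ModuleCat.ofHom e.symm.toLinearMap = 𝟙 _ := by
      ext m; exact e.symm_apply_apply m
    rw [this, CategoryTheory.Functor.map_id]
    rfl
  have h2 : cmap I i (ModuleCat.ofHom e.toLinearMap) y = 0 :=
    (cmap_smul_id i x (ModuleCat.of R M) y).trans hy
  rw [h2, map_zero] at h1
  exact h1.symm

theorem subsingleton_of_subsingleton {M : Type u} [AddCommGroup M] [Module R M] [Subsingleton M]
    (i : ℕ) : Subsingleton (LocCoh.H I i M) := by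
  have hz : ∀ y : LocCoh.H I i M, y = 0 := fun y => by
    have h1 : cmap I i (𝟙 (ModuleCat.of R M)) y = y := by
      simp [cmap]
    rw [show (𝟙 (ModuleCat.of R M)) = (0 : R) • 𝟙 (ModuleCat.of R M) from by
      ext m; exact Subsingleton.elim (α := M) _ _, cmap_smul_id, zero_smul] at h1
    exact h1.symm
  exact ⟨fun a b => (hz a).trans (hz b).symm⟩

theorem isPowerTorsion_torsionSub (M : Type u) [AddCommGroup M] [Module R M] :
    LocCoh.IsPowerTorsion I (DRing.torsionSub I M) := fun e => by
  obtain ⟨n, hn⟩ := e.2
  exact ⟨n, fun a ha => Subtype.ext (hn a ha)⟩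

variable [IsNoetherianRing R]

theorem torsionSub_quot_eq_bot (M : Type u) [AddCommGroup M] [Module R M] :
    DRing.torsionSub I (M ⧸ DRing.torsionSub I M) = ⊥ := by
  rw [eq_bot_iff]
  rintro q ⟨n, hn⟩
  obtain ⟨m, rfl⟩ := Submodule.Quotient.mk_surjective _ q
  have hm : ∀ a ∈ I ^ n, a • m ∈ DRing.torsionSub I M := fun a ha => by
    rw [← Submodule.Quotient.mk_eq_zero, Submodule.Quotient.mk_smul]
    exact hn a ha
  obtain ⟨s, hs⟩ : (I ^ n).FG := IsNoetherian.noetherian _
  have hm' : ∀ a ∈ s, ∃ k : ℕ, ∀ b ∈ I ^ k, b • a • m = 0 := fun a ha =>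
    hm a (hs ▸ Ideal.subset_span ha)
  classical
  choose k hk using hm'
  rw [Submodule.mem_bot, Submodule.Quotient.mk_eq_zero]
  refine ⟨n + s.attach.sup (fun a => k a.1 a.2), fun c hc => ?_⟩
  rw [pow_add] at hc
  refine Submodule.mul_induction_on hc (fun a ha b hb => ?_) (fun p q hp hq => by rw [add_smul, hp, hq, add_zero])
  rw [← hs] at ha
  induction ha using Submodule.span_induction with
  | mem a ha =>
    rw [mul_comm, mul_smul]
    exact hk a ha b (Ideal.pow_le_pow_right
      (Finset.le_sup (f := fun a : s => k a.1 a.2) (Finset.mem_attach _ ⟨a, ha⟩)) hb)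
  | zero => rw [zero_mul, zero_smul]
  | add x y _ _ hx hy => rw [add_mul, add_smul, hx, hy, add_zero]
  | smul r x _ hx => rw [smul_eq_mul, mul_assoc, mul_smul, hx, smul_zero]

variable {J : Ideal R}

omit [IsNoetherianRing R] in
theorem torsionSub_sup_le (M : Type u) [AddCommGroup M] [Module R M] :
    DRing.torsionSub (I ⊔ J) M ≤ DRing.torsionSub J M := by
  rintro m ⟨n, hn⟩
  exact ⟨n, fun a ha => hn a (Ideal.pow_right_mono le_sup_right n ha)⟩

omit [IsNoetherianRing R] in
theorem torsionSub_sup_eq {M : Type u} [AddCommGroup M] [Module R M]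
    (hM : LocCoh.IsPowerTorsion J M) : DRing.torsionSub (I ⊔ J) M = DRing.torsionSub I M := by
  refine le_antisymm ?_ ?_
  · rintro m ⟨n, hn⟩
    exact ⟨n, fun a ha => hn a (Ideal.pow_right_mono le_sup_left n ha)⟩
  · rintro m ⟨n, hn⟩
    obtain ⟨k, hk⟩ := hM m
    refine ⟨n + k, fun a ha => ?_⟩
    obtain ⟨b, hb, c, hc, rfl⟩ := Submodule.mem_sup.1 (Ideal.sup_pow_add_le_pow_sup_pow ha)
    rw [add_smul, hn b hb, hk c hc, add_zero]

/-- on `J`-torsion modules, support in `I` and in `I ⊔ J` agree. -/
theorem subsingleton_sup_iff (i : ℕ) : ∀ (N : Type u) [AddCommGroup N] [Module R N],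
    LocCoh.IsPowerTorsion J N →
      (Subsingleton (LocCoh.H (I ⊔ J) i N) ↔ Subsingleton (LocCoh.H I i N)) := by
  induction i with
  | zero =>
    intro N _ _ hN
    rw [subsingleton_H0_iff, subsingleton_H0_iff, torsionSub_sup_eq hN]
  | succ i ih =>
    intro N _ _ hN
    obtain ⟨E, _, _, hE, j, hj⟩ := exists_torsion_injective (I := J) N hN
    haveI : Injective (ModuleCat.of R E) := Module.injective_object_of_injective_module R E (inj := hE.1)
    have hQ : LocCoh.IsPowerTorsion J (E ⧸ LinearMap.range j) := fun e => by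
      obtain ⟨e, rfl⟩ := Submodule.mkQ_surjective _ e
      obtain ⟨n, hn⟩ := hE.2 e
      exact ⟨n, fun a ha => by rw [← map_smul, hn a ha, map_zero]⟩
    have hmk := LinearMap.exact_map_mkQ_range j
    have hsj := Submodule.mkQ_surjective (LinearMap.range j)
    obtain _ | i := i
    · rw [subsingleton_H1_iff hj hsj hmk (subsingleton_of_injective _ 0),
        subsingleton_H1_iff hj hsj hmk (subsingleton_of_injective _ 0),
        torsionSub_sup_eq hQ, torsionSub_sup_eq hE.2]
    · have e : ∀ K : Ideal R, Subsingleton (LocCoh.H K (i + 1 + 1) N) ↔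
          Subsingleton (LocCoh.H K (i + 1) (E ⧸ LinearMap.range j)) := fun K =>
        ⟨fun h => subsingleton_right hj hsj hmk _ (subsingleton_of_injective _ _) h,
          fun h => subsingleton_left hj hsj hmk _ h (subsingleton_of_injective _ _)⟩
      rw [e, e, ih _ hQ]

/-- if all `H^q_J(M)` vanish then so does `H^i` with larger support. -/
theorem subsingleton_sup_of_forall (i : ℕ) : ∀ (M : Type u) [AddCommGroup M] [Module R M],
    (∀ q, Subsingleton (LocCoh.H J q M)) → Subsingleton (LocCoh.H (I ⊔ J) i M) := by
  induction i with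
  | zero =>
    intro M _ _ hM
    have h := (subsingleton_H0_iff M).1 (hM 0)
    rw [subsingleton_H0_iff, eq_bot_iff, ← h]
    exact torsionSub_sup_le M
  | succ i ih =>
    intro M _ _ hM
    let E0 := Injective.under (ModuleCat.of R M)
    haveI : Injective (ModuleCat.of R E0) := inferInstanceAs (Injective (Injective.under (ModuleCat.of R M)))
    haveI hE0 : Module.Injective R E0 := Module.injective_module_of_injective_object R E0
    haveI := injective_torsionSub (I := J) (E0 : Type u)
    haveI : Injective (ModuleCat.of R (DRing.torsionSub J E0)) := Module.injective_object_of_injective_module R _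
    have hT1 := (DRing.torsionSub J (E0 : Type u)).injective_subtype
    have hT2 := Submodule.mkQ_surjective (DRing.torsionSub J (E0 : Type u))
    have hT3 := LinearMap.exact_subtype_mkQ (DRing.torsionSub J (E0 : Type u))
    let j : M →ₗ[R] (E0 : Type u) ⧸ DRing.torsionSub J E0 :=
      (DRing.torsionSub J (E0 : Type u)).mkQ ∘ₗ (Injective.ι (ModuleCat.of R M)).hom
    have hι : Function.Injective (Injective.ι (ModuleCat.of R M)).hom :=
      (ModuleCat.mono_iff_injective _).1 inferInstance
    have hj : Function.Injective j := by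
      rw [injective_iff_map_eq_zero]
      intro m hm
      obtain ⟨n, hn⟩ := (Submodule.Quotient.mk_eq_zero _).1 hm
      have : m ∈ DRing.torsionSub J M := ⟨n, fun a ha => hι (by rw [map_smul, hn a ha, map_zero])⟩
      rwa [(subsingleton_H0_iff M).1 (hM 0), Submodule.mem_bot] at this
    have hq : ∀ K : Ideal R, ∀ q, Subsingleton (LocCoh.H K (q + 1) ((E0 : Type u) ⧸ DRing.torsionSub J E0)) :=
      fun K q => subsingleton_right hT1 hT2 hT3 _ (subsingleton_of_injective _ q) (subsingleton_of_injective _ _)
    have hq0 : ∀ q, Subsingleton (LocCoh.H J q ((E0 : Type u) ⧸ DRing.torsionSub J E0)) := by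
      rintro (_ | q)
      · exact (subsingleton_H0_iff _).2 (torsionSub_quot_eq_bot _)
      · exact hq J q
    refine subsingleton_left hj (Submodule.mkQ_surjective _) (LinearMap.exact_map_mkQ_range j) i
      (ih _ fun q => ?_) (hq _ i)
    exact subsingleton_right hj (Submodule.mkQ_surjective _) (LinearMap.exact_map_mkQ_range j) q
      (hq0 q) (hM _)

theorem cdLE_sup {a b : ℕ} (hI : LocCoh.CdLE R I a) (hJ : LocCoh.CdLE R J b) :
    LocCoh.CdLE R (I ⊔ J) (a + b) := by
  suffices ∀ (m : ℕ) (M : Type u) [AddCommGroup M] [Module R M],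
      (∀ q, m < q → Subsingleton (LocCoh.H J q M)) →
        ∀ i, a + m < i → Subsingleton (LocCoh.H (I ⊔ J) i M) from
    fun M _ _ i hi => this b M (hJ M) i hi
  intro m
  induction m with
  | zero =>
    intro M _ _ hM i hi
    have hT := isPowerTorsion_torsionSub (I := J) M
    have h1 := (DRing.torsionSub J M).injective_subtype
    have h2 := Submodule.mkQ_surjective (DRing.torsionSub J M)
    have h3 := LinearMap.exact_subtype_mkQ (DRing.torsionSub J M)
    refine subsingleton_mid h1 h2 h3 i ((subsingleton_sup_iff i _ hT).2 (hI _ i (by omega))) ?_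
    refine subsingleton_sup_of_forall i _ ?_
    rintro (_ | q)
    · exact (subsingleton_H0_iff _).2 (torsionSub_quot_eq_bot _)
    · exact subsingleton_right h1 h2 h3 _ (hM _ q.succ_pos) (subsingleton_of_isPowerTorsion _ _ hT)
  | succ m ih =>
    intro M _ _ hM i hi
    obtain ⟨i, rfl⟩ := Nat.exists_eq_succ_of_ne_zero (show i ≠ 0 by omega)
    let E0 := Injective.under (ModuleCat.of R M)
    haveI : Injective (ModuleCat.of R E0) := inferInstanceAs (Injective (Injective.under (ModuleCat.of R M)))
    have hι : Function.Injective (Injective.ι (ModuleCat.of R M)).hom :=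
      (ModuleCat.mono_iff_injective _).1 inferInstance
    have h3 := LinearMap.exact_map_mkQ_range (Injective.ι (ModuleCat.of R M)).hom
    refine subsingleton_left hι (Submodule.mkQ_surjective _) h3 i (ih _ (fun q hq => ?_) i (by omega))
      (subsingleton_of_injective (ModuleCat.of R E0) i)
    obtain ⟨q, rfl⟩ := Nat.exists_eq_succ_of_ne_zero (show q ≠ 0 by omega)
    exact subsingleton_right hι (Submodule.mkQ_surjective _) h3 _
      (subsingleton_of_injective (ModuleCat.of R E0) q) (hM _ (by omega))

omit [IsNoetherianRing R] in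
theorem cdLE_of_forall_succ {d : ℕ}
    (h : ∀ (M : Type u) [AddCommGroup M] [Module R M], Subsingleton (LocCoh.H I (d + 1) M)) :
    LocCoh.CdLE R I d := by
  suffices ∀ (k : ℕ) (M : Type u) [AddCommGroup M] [Module R M], Subsingleton (LocCoh.H I (d + 1 + k) M) by
    intro M _ _ i hi
    obtain ⟨k, rfl⟩ := Nat.exists_eq_add_of_le (show d + 1 ≤ i by omega)
    exact this k M
  intro k
  induction k with
  | zero => exact h
  | succ k ih =>
    intro M _ _
    let E0 := Injective.under (ModuleCat.of R M)
    haveI : Injective (ModuleCat.of R E0) := inferInstanceAs (Injective (Injective.under (ModuleCat.of R M)))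
    exact subsingleton_left ((ModuleCat.mono_iff_injective (Injective.ι (ModuleCat.of R M))).1 inferInstance)
      (Submodule.mkQ_surjective _) (LinearMap.exact_map_mkQ_range _) (d + 1 + k) (ih _)
      (subsingleton_of_injective (ModuleCat.of R E0) _)

/-- a torsion-free quotient of an injective is uniquely divisible. -/
theorem bijective_smul_quot_torsion {E : Type u} [AddCommGroup E] [Module R E] [hE : Module.Injective R E]
    (x : R) (N : Submodule R E) :
    Function.Bijective fun m : (E ⧸ N) ⧸ DRing.torsionSub (Ideal.span {x}) (E ⧸ N) => x • m := by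
  constructor
  · intro a b h
    have h0 : x • (a - b) = 0 := by rw [smul_sub, sub_eq_zero]; exact h
    have : a - b ∈ DRing.torsionSub (Ideal.span {x}) ((E ⧸ N) ⧸ DRing.torsionSub (Ideal.span {x}) (E ⧸ N)) := by
      refine ⟨1, fun c hc => ?_⟩
      rw [pow_one, Ideal.mem_span_singleton'] at hc
      obtain ⟨c, rfl⟩ := hc
      rw [mul_smul, h0, smul_zero]
    rwa [torsionSub_quot_eq_bot, Submodule.mem_bot, sub_eq_zero] at this
  · intro q
    obtain ⟨q, rfl⟩ := Submodule.Quotient.mk_surjective _ q
    obtain ⟨e, rfl⟩ := Submodule.Quotient.mk_surjective _ q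
    obtain ⟨n, hn⟩ := monotone_stabilizes_iff_noetherian.2 ‹IsNoetherianRing R›
      ⟨fun n => LinearMap.ker (LinearMap.toSpanSingleton R R (x ^ n)), monotone_nat_of_le_succ fun n r hr => by
        rw [LinearMap.mem_ker, LinearMap.toSpanSingleton_apply, smul_eq_mul] at hr ⊢
        rw [pow_succ, ← mul_assoc, hr, zero_mul]⟩
    let f := LinearMap.toSpanSingleton R R (x ^ (n + 1))
    have hker : LinearMap.ker f ≤ LinearMap.ker (LinearMap.toSpanSingleton R E (x ^ n • e)) := fun r hr => by
      rw [← show _ = LinearMap.ker f from hn (n + 1) n.le_succ] at hr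
      have hr' : r * x ^ n = 0 := hr
      rw [LinearMap.mem_ker, LinearMap.toSpanSingleton_apply, smul_smul, hr', zero_smul]
    obtain ⟨g, hg⟩ := hE.out ((LinearMap.ker f).liftQ f le_rfl)
      (LinearMap.ker_eq_bot.1 (Submodule.ker_liftQ_eq_bot _ _ _ le_rfl)) ((LinearMap.ker f).liftQ _ hker)
    refine ⟨Submodule.Quotient.mk (Submodule.Quotient.mk (g 1)), ?_⟩
    have h1 : x ^ (n + 1) • g 1 = x ^ n • e := by
      have := hg (Submodule.Quotient.mk 1)
      simp only [Submodule.liftQ_apply, LinearMap.toSpanSingleton_apply, one_smul, f] at this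
      rw [← this, ← map_smul, smul_eq_mul, mul_one]
    show x • Submodule.Quotient.mk (Submodule.Quotient.mk (g 1)) = _
    rw [← Submodule.Quotient.mk_smul, ← Submodule.Quotient.mk_smul, Submodule.Quotient.eq]
    refine ⟨n, fun c hc => ?_⟩
    rw [Ideal.span_singleton_pow, Ideal.mem_span_singleton'] at hc
    obtain ⟨c, rfl⟩ := hc
    rw [mul_smul, smul_sub, ← Submodule.Quotient.mk_smul, ← Submodule.Quotient.mk_smul, smul_smul,
      ← pow_succ, h1, sub_self, smul_zero]

theorem cdLE_span_singleton (x : R) : LocCoh.CdLE R (Ideal.span {x}) 1 := by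
  refine cdLE_of_forall_succ fun M _ _ => ?_
  let E0 := Injective.under (ModuleCat.of R M)
  haveI : Injective (ModuleCat.of R E0) := inferInstanceAs (Injective (Injective.under (ModuleCat.of R M)))
  haveI : Module.Injective R E0 := Module.injective_module_of_injective_object R E0
  refine subsingleton_left ((ModuleCat.mono_iff_injective (Injective.ι (ModuleCat.of R M))).1 inferInstance)
    (Submodule.mkQ_surjective _) (LinearMap.exact_map_mkQ_range _) 1 ?_
    (subsingleton_of_injective (ModuleCat.of R E0) _)
  let Q := (E0 : Type u) ⧸ LinearMap.range (Injective.ι (ModuleCat.of R M)).hom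
  exact subsingleton_mid (DRing.torsionSub (Ideal.span {x}) Q).injective_subtype
    (Submodule.mkQ_surjective _) (LinearMap.exact_subtype_mkQ _) 1
    (subsingleton_of_isPowerTorsion 0 _ (isPowerTorsion_torsionSub Q))
    (subsingleton_of_bijective_smul (Ideal.mem_span_singleton_self x)
      (bijective_smul_quot_torsion (E := (E0 : Type u)) x _) 1)

theorem cdLE_span_finset (s : Finset R) : LocCoh.CdLE R (Ideal.span (s : Set R)) s.card := by
  classical
  induction s using Finset.induction_on with
  | empty =>
    intro M _ _ i hi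
    obtain ⟨i, rfl⟩ := Nat.exists_eq_succ_of_ne_zero (show i ≠ 0 by omega)
    refine subsingleton_of_isPowerTorsion i M fun m => ⟨1, fun a ha => ?_⟩
    rw [Finset.coe_empty, Ideal.span_empty, pow_one, Ideal.mem_bot] at ha
    rw [ha, zero_smul]
  | @insert x t hx ih =>
    rw [Finset.coe_insert, Ideal.span_insert, Finset.card_insert_of_notMem hx, add_comm t.card]
    exact cdLE_sup (cdLE_span_singleton x) ih

omit [IsNoetherianRing R] in
theorem cdLE_mono {d e : ℕ} (h : LocCoh.CdLE R I d) (hde : d ≤ e) : LocCoh.CdLE R I e :=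
  fun M _ _ i hi => h M i (lt_of_le_of_lt hde hi)

/-! ### direct sums -/

omit [IsNoetherianRing R] in
theorem exists_injective_embedding (M : Type u) [AddCommGroup M] [Module R M] :
    ∃ (E : Type u) (_ : AddCommGroup E) (_ : Module R E) (_ : Module.Injective R E) (f : M →ₗ[R] E),
      Function.Injective f :=
  let E0 : ModuleCat.{u} R := Injective.under (ModuleCat.of R M)
  haveI : Injective (ModuleCat.of R E0) := inferInstanceAs (Injective (Injective.under (ModuleCat.of R M)))
  ⟨(E0 : Type u), inferInstance, inferInstance,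
    Module.injective_module_of_injective_object R _, (Injective.ι (ModuleCat.of R M)).hom,
    (ModuleCat.mono_iff_injective _).1 inferInstance⟩

theorem injective_dfinsupp {ι : Type u} (E : ι → Type u) [∀ j, AddCommGroup (E j)]
    [∀ j, Module R (E j)] [hE : ∀ j, Module.Injective R (E j)] :
    Module.Injective R (Π₀ j, E j) := by
  classical
  refine Module.Baer.injective fun K f => ?_
  haveI : Module.Finite R K := Module.Finite.iff_fg.2 (IsNoetherian.noetherian K)
  obtain ⟨t, ht⟩ := Module.Finite.fg_top (R := R) (M := K)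
  set S : Finset ι := t.biUnion fun k => (f k).support
  have hsupp : ∀ k : K, ∀ j ∉ S, f k j = 0 := by
    intro k j hj
    have hk : k ∈ Submodule.span R (t : Set K) := ht ▸ Submodule.mem_top
    induction hk using Submodule.span_induction with
    | mem k hk =>
      by_contra hne
      exact hj (Finset.mem_biUnion.2 ⟨k, hk, DFinsupp.mem_support_iff.2 hne⟩)
    | zero => simp
    | add a b _ _ ha hb => simp [ha, hb]
    | smul c a _ ha => simp [ha]
  choose g hg using fun j => Module.Baer.of_injective (hE j) K (DFinsupp.lapply j ∘ₗ f)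
  refine ⟨∑ j ∈ S, DFinsupp.lsingle j ∘ₗ g j, fun x hx => ?_⟩
  ext j
  rw [LinearMap.sum_apply, DFinsupp.finsetSum_apply]
  by_cases hj : j ∈ S
  · rw [Finset.sum_eq_single j (fun b _ hb => by simp [DFinsupp.lsingle_apply, DFinsupp.single_eq_of_ne hb.symm])
      (fun h => absurd hj h)]
    simp [hg j x hx]
  · rw [Finset.sum_eq_zero (fun b hb => ?_), hsupp ⟨x, hx⟩ j hj]
    have : j ≠ b := fun h => hj (h ▸ hb)
    simp [DFinsupp.lsingle_apply, DFinsupp.single_eq_of_ne this]

omit [IsNoetherianRing R] in
theorem torsionSub_dfinsupp_iff {ι : Type u} {E : ι → Type u} [∀ j, AddCommGroup (E j)]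
    [∀ j, Module R (E j)] (z : Π₀ j, E j) :
    z ∈ DRing.torsionSub I (Π₀ j, E j) ↔ ∀ j, z j ∈ DRing.torsionSub I (E j) := by
  classical
  refine ⟨fun h j => DRing.map_mem_torsionSub I (DFinsupp.lapply j) h, fun h => ?_⟩
  choose n hn using h
  refine ⟨z.support.sup n, fun a ha => ?_⟩
  ext j
  rw [DFinsupp.smul_apply, DFinsupp.zero_apply]
  by_cases hj : j ∈ z.support
  · exact hn j a (Ideal.pow_le_pow_right (Finset.le_sup hj) ha)
  · rw [DFinsupp.notMem_support_iff.1 hj, smul_zero]

theorem subsingleton_dfinsupp (i : ℕ) : ∀ {ι : Type u} (M : ι → Type u) [∀ j, AddCommGroup (M j)]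
    [∀ j, Module R (M j)], (∀ j, Subsingleton (LocCoh.H I i (M j))) →
      Subsingleton (LocCoh.H I i (Π₀ j, M j)) := by
  induction i with
  | zero =>
    intro ι M _ _ h
    rw [subsingleton_H0_iff, eq_bot_iff]
    intro z hz
    rw [Submodule.mem_bot]
    ext j
    have := (torsionSub_dfinsupp_iff z).1 hz j
    rwa [(subsingleton_H0_iff _).1 (h j), Submodule.mem_bot] at this
  | succ i ih =>
    intro ι M _ _ h
    classical
    choose E acg mE hE f hf using fun j => exists_injective_embedding (R := R) (M j)
    haveI := injective_dfinsupp (R := R) E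
    haveI : Injective (ModuleCat.of R (Π₀ j, E j)) := Module.injective_object_of_injective_module R _
    haveI : ∀ j, Injective (ModuleCat.of R (E j)) := fun j => Module.injective_object_of_injective_module R (E j) (inj := hE j)
    let g : ∀ j, E j →ₗ[R] E j ⧸ LinearMap.range (f j) := fun j => (LinearMap.range (f j)).mkQ
    let F := DFinsupp.mapRange.linearMap f
    let G := DFinsupp.mapRange.linearMap g
    have hF : Function.Injective F := fun a b hab => by
      ext j; exact hf j congr($hab j)
    have hG : Function.Surjective G :=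
      (DFinsupp.mapRange_surjective _ (fun j => map_zero (g j))).2 fun j => Submodule.mkQ_surjective _
    have hFG : Function.Exact F G := by
      intro z
      constructor
      · intro hz
        have hz' : ∀ j, ∃ m, f j m = z j := fun j =>
          (Submodule.Quotient.mk_eq_zero _).1 (congr($hz j) : g j (z j) = 0)
        choose m hm using hz'
        refine ⟨DFinsupp.mk z.support (fun j => m j), ?_⟩
        ext j
        by_cases hj : j ∈ z.support
        · simp [F, DFinsupp.mk_apply, hj, hm, -DFinsupp.mem_support_toFun, -DFinsupp.mem_support_iff]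
        · simp [F, DFinsupp.mk_apply, hj, DFinsupp.notMem_support_iff.1 hj,
            -DFinsupp.mem_support_toFun, -DFinsupp.mem_support_iff]
      · rintro ⟨m, rfl⟩
        ext j
        exact (Submodule.Quotient.mk_eq_zero _).2 (LinearMap.mem_range_self _ _)
    have hex : ∀ j, Function.Exact (f j) (g j) := fun j => LinearMap.exact_map_mkQ_range _
    obtain _ | i := i
    · rw [subsingleton_H1_iff hF hG hFG (subsingleton_of_injective _ 0)]
      intro c hc
      have hc' := (torsionSub_dfinsupp_iff c).1 hc
      choose b hb hgb using fun j => (subsingleton_H1_iff (hf j) (Submodule.mkQ_surjective _) (hex j)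
        (subsingleton_of_injective _ 0)).1 (h j) (c j) (hc' j)
      refine ⟨DFinsupp.mk c.support (fun j => b j), (torsionSub_dfinsupp_iff _).2 fun j => ?_, ?_⟩
      · rw [DFinsupp.mk_apply]
        split
        · exact hb j
        · exact Submodule.zero_mem _
      · ext j
        by_cases hj : j ∈ c.support
        · simp [G, DFinsupp.mk_apply, hj, -DFinsupp.mem_support_toFun, -DFinsupp.mem_support_iff]
          exact hgb j
        · simp [G, DFinsupp.mk_apply, hj, DFinsupp.notMem_support_iff.1 hj,
            -DFinsupp.mem_support_toFun, -DFinsupp.mem_support_iff]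
    · refine subsingleton_left hF hG hFG _ (ih _ fun j => ?_) (subsingleton_of_injective _ _)
      exact subsingleton_right (hf j) (Submodule.mkQ_surjective _) (hex j) _
        (subsingleton_of_injective _ _) (h j)

/-! ### Grothendieck vanishing -/

omit [IsNoetherianRing R] in
lemma lt_of_succ_le {a b : WithBot ℕ∞} {n : ℕ} (h : a + 1 ≤ b) (hb : b < (↑(n + 1) : WithBot ℕ∞)) :
    a < (n : WithBot ℕ∞) := by
  by_contra hc
  have h1 : ((n : WithBot ℕ∞) + 1) ≤ a + 1 := add_le_add (not_lt.1 hc) le_rfl
  rw [Nat.cast_succ] at hb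
  exact absurd (h1.trans h) (not_le.2 hb)

omit [IsNoetherianRing R] in
lemma subsingleton_of_supportDim_lt_zero {M : Type u} [AddCommGroup M] [Module R M]
    (h : Module.supportDim R M < ((0 : ℕ) : WithBot ℕ∞)) : Subsingleton M := by
  refine not_nontrivial_iff_subsingleton.1 fun hM => ?_
  obtain ⟨a, ha⟩ := WithBot.ne_bot_iff_exists.1 (Module.supportDim_ne_bot_of_nontrivial R M)
  rw [← ha, Nat.cast_zero] at h
  exact absurd (WithBot.coe_lt_coe.1 h) (not_lt.2 bot_le)

theorem subsingleton_of_supportDim_lt_finite (i : ℕ) : ∀ (M : Type u) [AddCommGroup M] [Module R M]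
    [Module.Finite R M], Module.supportDim R M < (i : WithBot ℕ∞) → Subsingleton (LocCoh.H I i M) := by
  induction i with
  | zero =>
    intro M _ _ _ h
    haveI := subsingleton_of_supportDim_lt_zero h
    exact subsingleton_of_subsingleton 0
  | succ i ih =>
    intro M _ _ hfin
    induction hfin using IsNoetherianRing.induction_on_isQuotientEquivQuotientPrime R with
    | subsingleton N => exact fun _ => subsingleton_of_subsingleton _
    | quotient N p e =>
      intro hN
      by_cases hIp : I ≤ p.1
      · refine subsingleton_of_isPowerTorsion i N fun m => ⟨1, fun a ha => e.injective ?_⟩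
        rw [map_smul, map_zero]
        rw [pow_one] at ha
        obtain ⟨r, hr⟩ := Submodule.Quotient.mk_surjective _ (e m)
        rw [← hr, ← Submodule.Quotient.mk_smul, Submodule.Quotient.mk_eq_zero]
        exact p.1.mul_mem_right r (hIp ha)
      · obtain ⟨x, hxI, hxp⟩ := SetLike.not_le_iff_exists.1 hIp
        have hann : Module.annihilator R N = p.1 := by
          rw [e.annihilator_eq, Ideal.annihilator_quotient]
        have hdim : Module.supportDim R (QuotSMulTop x N) + 1 ≤ Module.supportDim R N :=
          Module.supportDim_quotSMulTop_succ_le_of_notMem_minimalPrimes fun q hq => by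
            rw [hann, Ideal.minimalPrimes_eq_subsingleton_self, Set.mem_singleton_iff] at hq
            exact hq ▸ hxp
        have hx : IsSMulRegular N x := by
          rw [isSMulRegular_iff_right_eq_zero_of_smul]
          intro m hm
          apply e.injective
          rw [map_zero]
          have h0 : x • e m = 0 := by rw [← map_smul, hm, map_zero]
          obtain ⟨r, hr⟩ := Submodule.Quotient.mk_surjective _ (e m)
          rw [← hr, ← Submodule.Quotient.mk_smul, Submodule.Quotient.mk_eq_zero] at h0
          rw [← hr, Submodule.Quotient.mk_eq_zero]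
          exact (p.2.mem_or_mem h0).resolve_left hxp
        obtain ⟨he, hS⟩ := quotSMulTop_shortExact hx
        haveI := ih (QuotSMulTop x N) (lt_of_succ_le hdim hN)
        refine subsingleton_of_smul_injective hxI _ fun y hy => ?_
        have h0 : cmap I (i + 1) (ModuleCat.ofHom (x • (LinearMap.id : N →ₗ[R] N))) y = 0 :=
          (cmap_smul_id (i + 1) x (ModuleCat.of R N) y).trans hy
        obtain ⟨q, hq⟩ := (exact_dMap_map hS i y).1 h0
        rw [← hq, @Subsingleton.elim (LocCoh.H I i (QuotSMulTop x N)) _ q 0]
        exact map_zero _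
    | exact N₁ N₂ N₃ f g hf hg hfg h₁ h₃ =>
      intro hN
      exact subsingleton_mid hf hg hfg _
        (h₁ (lt_of_le_of_lt (Module.supportDim_le_of_injective f hf) hN))
        (h₃ (lt_of_le_of_lt (Module.supportDim_le_of_surjective g hg) hN))

omit [IsNoetherianRing R] in
theorem supportDim_dfinsupp_le {ι : Type u} (M : ι → Type u) [∀ j, AddCommGroup (M j)]
    [∀ j, Module R (M j)] {d : WithBot ℕ∞} (S : Set (PrimeSpectrum R)) (hS : Order.krullDim S ≤ d)
    (h : ∀ j, Module.support R (M j) ⊆ S) : Module.supportDim R (Π₀ j, M j) ≤ d := by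
  refine le_trans (Order.krullDim_le_of_strictMono (fun p => (⟨p.1, ?_⟩ : S)) fun {_ _} h => h) hS
  obtain ⟨z, hz⟩ := Module.mem_support_iff'.1 p.2
  by_contra hp
  classical
  have hkill : ∀ j, ∃ r ∉ p.1.asIdeal, r • z j = 0 := fun j =>
    Module.notMem_support_iff'.1 (fun hj => hp (h j hj)) (z j)
  choose r hr hrz using hkill
  refine hz (∏ j ∈ z.support, r j) (fun hmem => ?_) ?_
  · obtain ⟨j, -, hj⟩ := p.1.2.prod_mem_iff.1 hmem
    exact hr j hj
  · ext j
    rw [DFinsupp.smul_apply, DFinsupp.zero_apply]
    by_cases hj : j ∈ z.support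
    · rw [← Finset.prod_erase_mul _ _ hj, mul_smul, hrz, smul_zero]
    · rw [DFinsupp.notMem_support_iff.1 hj, smul_zero]

theorem exists_cdLE : ∃ n, LocCoh.CdLE R I n := by
  obtain ⟨s, hs⟩ : I.FG := IsNoetherian.noetherian I
  exact ⟨s.card, hs ▸ cdLE_span_finset s⟩

/-- Grothendieck vanishing. -/
theorem subsingleton_of_supportDim_lt {M : Type u} [AddCommGroup M] [Module R M] {i : ℕ}
    (h : Module.supportDim R M < (i : WithBot ℕ∞)) : Subsingleton (LocCoh.H I i M) := by
  obtain ⟨n, hn⟩ := exists_cdLE (I := I)
  suffices ∀ (k i : ℕ), n < i + k → ∀ (M : Type u) [AddCommGroup M] [Module R M],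
      Module.supportDim R M < (i : WithBot ℕ∞) → Subsingleton (LocCoh.H I i M) from
    this (n + 1) i (by omega) M h
  intro k
  induction k with
  | zero => exact fun i hi M _ _ _ => hn M i (by simpa using hi)
  | succ k ih =>
    intro i hi M _ _ hM
    classical
    let C : M → Submodule R M := fun m => Submodule.span R ({m} : Set M)
    haveI : ∀ m, Module.Finite R (C m) := fun m => Module.Finite.span_singleton R m
    let π : (Π₀ m, C m) →ₗ[R] M := DFinsupp.lsum ℕ fun m => (Submodule.span R ({m} : Set M)).subtype
    have hπ : Function.Surjective π := fun m =>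
      ⟨DFinsupp.single m ⟨m, Submodule.mem_span_singleton_self m⟩, by simp [π]⟩
    have hsub : ∀ m, Module.support R (C m) ⊆ Module.support R M := fun m =>
      Module.support_subset_of_injective _ (Submodule.span R ({m} : Set M)).injective_subtype
    have hD := supportDim_dfinsupp_le (fun m => C m) (Module.support R M) le_rfl hsub
    refine subsingleton_of_surjective π hπ i
      (subsingleton_dfinsupp i (fun m => C m) fun m => subsingleton_of_supportDim_lt_finite i (C m)
        (lt_of_le_of_lt (Module.supportDim_le_of_injective _ (Submodule.span R ({m} : Set M)).injective_subtype) hM))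
      (ih (i + 1) (by omega) _ ?_)
    refine lt_of_le_of_lt ((Module.supportDim_le_of_injective _ (LinearMap.ker π).injective_subtype).trans hD)
      (hM.trans_le (by exact_mod_cast i.le_succ))

/-- vanishing on `R` controls the cohomological dimension. -/
theorem cdLE_of_self {d : ℕ} (h : ∀ i, d < i → Subsingleton (LocCoh.H I i R)) : LocCoh.CdLE R I d := by
  obtain ⟨n, hn⟩ := exists_cdLE (I := I)
  suffices ∀ (k i : ℕ), n < i + k → d < i → ∀ (M : Type u) [AddCommGroup M] [Module R M],
      Subsingleton (LocCoh.H I i M) from fun M _ _ i hi => this (n + 1) i (by omega) hi M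
  intro k
  induction k with
  | zero => exact fun i hi _ M _ _ => hn M i (by simpa using hi)
  | succ k ih =>
    intro i hi hdi M _ _
    classical
    let π : (Π₀ _ : M, R) →ₗ[R] M := DFinsupp.lsum ℕ fun m => LinearMap.toSpanSingleton R M m
    have hπ : Function.Surjective π := fun m => ⟨DFinsupp.single m 1, by simp [π]⟩
    exact subsingleton_of_surjective π hπ i
      (subsingleton_dfinsupp i (fun _ : M => R) fun _ => h i hdi) (ih (i + 1) (by omega) (by omega) _)

end Groth.Agent.H2LC
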