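import Mathlib
import Groth.Prelude.Def_Wider
import Groth.Prelude.Def_DRing3
import Groth.Agent.Lib.H2LCCd

/-! Acyclicity criteria for local cohomology and independence of the base ring. -/

universe u

open CategoryTheory CategoryTheory.Limits Pointwise

namespace Groth.Agent.H2LC

variable {R : Type u} [CommRing R] [IsNoetherianRing R]

theorem acyclic_sup {I J : Ideal R} {E : Type u} [AddCommGroup E] [Module R E]
    (hJ : ∀ q, Subsingleton (LocCoh.H J (q + 1) E))
    (hI : ∀ q, Subsingleton (LocCoh.H I (q + 1) (DRing.torsionSub J E))) (q : ℕ) :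
    Subsingleton (LocCoh.H (I ⊔ J) (q + 1) E) := by
  have hT := isPowerTorsion_torsionSub (I := J) E
  have h1 := (DRing.torsionSub J E).injective_subtype
  have h2 := Submodule.mkQ_surjective (DRing.torsionSub J E)
  have h3 := LinearMap.exact_subtype_mkQ (DRing.torsionSub J E)
  refine subsingleton_mid h1 h2 h3 _ ((subsingleton_sup_iff _ _ hT).2 (hI q))
    (subsingleton_sup_of_forall _ _ ?_)
  rintro (_ | q)
  · exact (subsingleton_H0_iff _).2 (torsionSub_quot_eq_bot _)
  · exact subsingleton_right h1 h2 h3 _ (hJ q) (subsingleton_of_isPowerTorsion _ _ hT)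

theorem acyclic_span_singleton {E : Type u} [AddCommGroup E] [Module R E] (x : R)
    (h : ∀ e : E, ∃ (e' : E) (n : ℕ), x ^ n • (x • e' - e) = 0) (q : ℕ) :
    Subsingleton (LocCoh.H (Ideal.span {x}) (q + 1) E) := by
  refine subsingleton_mid (DRing.torsionSub (Ideal.span {x}) E).injective_subtype
    (Submodule.mkQ_surjective _) (LinearMap.exact_subtype_mkQ _) _
    (subsingleton_of_isPowerTorsion q _ (isPowerTorsion_torsionSub E))
    (subsingleton_of_bijective_smul (Ideal.mem_span_singleton_self x) ⟨?_, ?_⟩ _)
  · intro a b hab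
    have h0 : x • (a - b) = 0 := by rw [smul_sub, sub_eq_zero]; exact hab
    have : a - b ∈ DRing.torsionSub (Ideal.span {x}) (E ⧸ DRing.torsionSub (Ideal.span {x}) E) := by
      refine ⟨1, fun c hc => ?_⟩
      rw [pow_one, Ideal.mem_span_singleton'] at hc
      obtain ⟨c, rfl⟩ := hc
      rw [mul_smul, h0, smul_zero]
    rwa [torsionSub_quot_eq_bot, Submodule.mem_bot, sub_eq_zero] at this
  · intro e
    obtain ⟨e, rfl⟩ := Submodule.Quotient.mk_surjective _ e
    obtain ⟨e', n, hn⟩ := h e
    refine ⟨Submodule.Quotient.mk e', ?_⟩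
    show x • Submodule.Quotient.mk e' = _
    rw [← Submodule.Quotient.mk_smul, Submodule.Quotient.eq]
    refine ⟨n, fun c hc => ?_⟩
    rw [Ideal.span_singleton_pow, Ideal.mem_span_singleton'] at hc
    obtain ⟨c, rfl⟩ := hc
    rw [mul_smul, hn, smul_zero]

/-- injective modules are divisible up to torsion. -/
theorem exists_divide {E : Type u} [AddCommGroup E] [Module R E] [hE : Module.Injective R E]
    (x : R) (e : E) : ∃ (e' : E) (n : ℕ), x ^ n • (x • e' - e) = 0 := by
  obtain ⟨n, hn⟩ := monotone_stabilizes_iff_noetherian.2 ‹IsNoetherianRing R›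
    ⟨fun n => LinearMap.ker (LinearMap.toSpanSingleton R R (x ^ n)), monotone_nat_of_le_succ fun n r hr => by
      rw [LinearMap.mem_ker, LinearMap.toSpanSingleton_apply, smul_eq_mul] at hr ⊢
      rw [pow_succ, ← mul_assoc, hr, zero_mul]⟩
  let f := LinearMap.toSpanSingleton R R (x ^ (n + 1))
  have hker : LinearMap.ker f ≤ LinearMap.ker (LinearMap.toSpanSingleton R E (x ^ n • e)) := fun r hr => by
    rw [← show _ = LinearMap.ker f from hn (n + 1) n.le_succ] at hr
    have hr' : r * x ^ n = 0 := hr
    rw [LinearMap.mem_ker, LinearMap.toSpanSingleton_apply, smul_smul, hr', zero_smul]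
  obtain ⟨g, hg⟩ := hE.out ((LinearMap.ker f).liftQ f le_rfl)
    (LinearMap.ker_eq_bot.1 (Submodule.ker_liftQ_eq_bot _ _ _ le_rfl)) ((LinearMap.ker f).liftQ _ hker)
  refine ⟨g 1, n, ?_⟩
  have := hg (Submodule.Quotient.mk 1)
  simp only [Submodule.liftQ_apply, LinearMap.toSpanSingleton_apply, one_smul, f] at this
  rw [smul_sub, ← this, smul_smul, ← pow_succ, ← map_smul, smul_eq_mul, mul_one, sub_self]

section tower

variable {R' : Type u} [CommRing R'] [Algebra R R']

/-- torsion for an extended ideal. -/
theorem mem_torsionSub_map_iff {I : Ideal R} {M' : Type u} [AddCommGroup M'] [Module R' M'] [Module R M']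
    [IsScalarTower R R' M'] (m : M') :
    m ∈ DRing.torsionSub (I.map (algebraMap R R')) M' ↔ m ∈ DRing.torsionSub I M' := by
  refine exists_congr fun n => ⟨fun h a ha => ?_, fun h a ha => ?_⟩
  · rw [← algebraMap_smul R' a m]
    exact h _ (by rw [← Ideal.map_pow]; exact Ideal.mem_map_of_mem _ ha)
  · rw [← Ideal.map_pow] at ha
    refine Submodule.span_induction (p := fun y _ => y • m = 0) ?_ (zero_smul _ _)
      (fun a b _ _ ha hb => by rw [add_smul, ha, hb, add_zero])
      (fun c y _ hy => by rw [smul_eq_mul, mul_smul, hy, smul_zero]) ha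
    rintro _ ⟨b, hb, rfl⟩
    rw [algebraMap_smul]
    exact h b hb

variable [IsNoetherianRing R']

/-- an injective module over an algebra is acyclic over the base. -/
theorem acyclic_injective_tower (I : Ideal R) (E' : Type u) [AddCommGroup E'] [Module R' E'] [Module R E']
    [IsScalarTower R R' E'] [hE : Module.Injective R' E'] (q : ℕ) :
    Subsingleton (LocCoh.H I (q + 1) E') := by
  obtain ⟨s, rfl⟩ : I.FG := IsNoetherian.noetherian I
  classical
  induction s using Finset.induction_on generalizing E' q with
  | empty =>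
    refine subsingleton_of_isPowerTorsion q E' fun m => ⟨1, fun a ha => ?_⟩
    rw [Finset.coe_empty, Ideal.span_empty, pow_one, Ideal.mem_bot] at ha
    rw [ha, zero_smul]
  | @insert x t hx ih =>
    rw [Finset.coe_insert, Ideal.span_insert, sup_comm]
    refine acyclic_sup (fun q => acyclic_span_singleton x (fun e => ?_) q) (fun q => ?_) q
    · obtain ⟨e', n, h⟩ := exists_divide (E := E') (algebraMap R R' x) e
      exact ⟨e', n, by rwa [← map_pow, algebraMap_smul, algebraMap_smul] at h⟩
    · haveI := injective_torsionSub (I := (Ideal.span {x}).map (algebraMap R R')) E'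
      let T' := DRing.torsionSub ((Ideal.span {x}).map (algebraMap R R')) E'
      have e : T'.restrictScalars R = DRing.torsionSub (Ideal.span {x}) E' := by
        ext m; exact mem_torsionSub_map_iff m
      rw [← e]
      exact ih T' (q := q)

omit [IsNoetherianRing R] [IsNoetherianRing R'] in
lemma exists_addEquiv_of_surjective {A B A' B' : Type u} [AddCommGroup A] [AddCommGroup B]
    [AddCommGroup A'] [AddCommGroup B'] (d : A →+ B) (d' : A' →+ B') (e : A ≃+ A')
    (hd : Function.Surjective d) (hd' : Function.Surjective d') (hk : ∀ a, d a = 0 ↔ d' (e a) = 0) :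
    ∃ φ : B ≃+ B', ∀ a, φ (d a) = d' (e a) := by
  choose s hs using hd
  have hwd : ∀ a, d' (e (s (d a))) = d' (e a) := fun a => by
    rw [← sub_eq_zero, ← map_sub, ← map_sub, ← hk, map_sub, hs, sub_self]
  refine ⟨AddEquiv.ofBijective (AddMonoidHom.mk' (fun b => d' (e (s b))) fun b c => ?_) ⟨?_, ?_⟩, hwd⟩
  · conv_lhs => rw [← hs b, ← hs c, ← map_add, hwd, map_add, map_add]
  · rw [injective_iff_map_eq_zero]
    intro b hb
    rw [← hs b]
    exact (hk _).2 hb
  · intro b'
    obtain ⟨a', rfl⟩ := hd' b'
    exact ⟨d (e.symm a'), (hwd _).trans (by rw [e.apply_symm_apply])⟩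

/-- degree zero of independence of base. -/
theorem exists_baseEquiv_zero (I : Ideal R) (M' : Type u) [AddCommGroup M'] [Module R' M'] [Module R M']
    [IsScalarTower R R' M'] :
    ∃ φ : LocCoh.H (I.map (algebraMap R R')) 0 M' ≃+ LocCoh.H I 0 M',
      (∀ x, toMod (ModuleCat.of R M') (φ x) = toMod (ModuleCat.of R' M') x) ∧
      ∀ (r : R) (x : LocCoh.H (I.map (algebraMap R R')) 0 M'), φ (algebraMap R R' r • x) = r • φ x := by
  let e1 := (torsionEquiv (I := I.map (algebraMap R R')) M').toAddEquiv
  let e2 := (torsionEquiv (I := I) M').toAddEquiv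
  let e : DRing.torsionSub (I.map (algebraMap R R')) M' ≃+ DRing.torsionSub I M' :=
    { toFun := fun m => ⟨m.1, (mem_torsionSub_map_iff m.1).1 m.2⟩
      invFun := fun m => ⟨m.1, (mem_torsionSub_map_iff (R' := R') m.1).2 m.2⟩
      map_add' := fun _ _ => rfl }
  refine ⟨e1.trans (e.trans e2.symm), fun x => ?_, fun r x => ?_⟩
  · exact congrArg Subtype.val ((torsionEquiv (I := I) M').apply_symm_apply (e (e1 x)))
  · apply toMod_injective (ModuleCat.of R M')
    refine Eq.trans ?_ (map_smul (toMod (ModuleCat.of R M')) r _).symm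
    exact (congrArg Subtype.val ((torsionEquiv (I := I) M').apply_symm_apply (e (e1 (algebraMap R R' r • x))))).trans
      ((map_smul (toMod (ModuleCat.of R' M')) (algebraMap R R' r) x).trans
        ((algebraMap_smul R' r (toMod (ModuleCat.of R' M') x : M')).trans (congrArg (r • ·)
          (congrArg Subtype.val ((torsionEquiv (I := I) M').apply_symm_apply (e (e1 x)))).symm)))

/-- positive degrees of independence of base. -/
theorem exists_baseEquiv_succ (I : Ideal R) (i : ℕ) : ∀ (M' : Type u) [AddCommGroup M'] [Module R' M']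
    [Module R M'] [IsScalarTower R R' M'],
    ∃ φ : LocCoh.H (I.map (algebraMap R R')) (i + 1) M' ≃+ LocCoh.H I (i + 1) M',
      ∀ (r : R) (x : LocCoh.H (I.map (algebraMap R R')) (i + 1) M'), φ (algebraMap R R' r • x) = r • φ x := by
  induction i with
  | zero =>
    intro M' _ _ _ _
    obtain ⟨E, _, _, hE, f, hf⟩ := exists_injective_embedding (R := R') M'
    letI : Module R E := Module.compHom E (algebraMap R R')
    haveI : IsScalarTower R R' E := IsScalarTower.of_algebraMap_smul fun r e => rfl
    haveI : Injective (ModuleCat.of R' E) := Module.injective_object_of_injective_module R' E (inj := hE)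
    let g := (LinearMap.range f).mkQ
    have hS' := lseq_shortExact hf (Submodule.mkQ_surjective _) (LinearMap.exact_map_mkQ_range f)
    have hS := lseq_shortExact (f := f.restrictScalars R) (g := g.restrictScalars R) hf
      (Submodule.mkQ_surjective _) (LinearMap.exact_map_mkQ_range f)
    obtain ⟨eQ, heQ, heQl⟩ := exists_baseEquiv_zero (R' := R') I (E ⧸ LinearMap.range f)
    obtain ⟨eE, heE, -⟩ := exists_baseEquiv_zero (R' := R') I E
    have hnat : ∀ y, cmap I 0 (ModuleCat.ofHom (g.restrictScalars R)) (eE y) =
        eQ (cmap (I.map (algebraMap R R')) 0 (ModuleCat.ofHom g) y) := fun y => by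
      apply toMod_injective (ModuleCat.of R (E ⧸ LinearMap.range f))
      rw [heQ]
      exact (toMod_natural (ModuleCat.ofHom (g.restrictScalars R)) _).trans
        ((congrArg g (heE y)).trans (toMod_natural (ModuleCat.ofHom g) y).symm)
    obtain ⟨φ, hφ⟩ := exists_addEquiv_of_surjective
      (dMap (I := I.map (algebraMap R R')) hS' 0).toAddMonoidHom (dMap (I := I) hS 0).toAddMonoidHom eQ
      (dMap_surjective hS' 0 (subsingleton_of_injective (ModuleCat.of R' E) 0))
      (dMap_surjective hS 0 (acyclic_injective_tower (R' := R') I E 0)) (fun a => by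
        constructor
        · intro ha
          obtain ⟨y, rfl⟩ := (exact_map_dMap hS' 0 a).1 ha
          exact (exact_map_dMap hS 0 _).2 ⟨eE y, hnat y⟩
        · intro ha
          obtain ⟨y, hy⟩ := (exact_map_dMap hS 0 (eQ a)).1 ha
          refine (exact_map_dMap hS' 0 a).2 ⟨eE.symm y, eQ.injective ?_⟩
          exact ((hnat (eE.symm y)).symm.trans (by rw [eE.apply_symm_apply])).trans hy)
    refine ⟨φ, fun r x => ?_⟩
    obtain ⟨a, rfl⟩ := dMap_surjective hS' 0 (subsingleton_of_injective (ModuleCat.of R' E) 0) x
    exact (congrArg φ (map_smul (dMap hS' 0) (algebraMap R R' r) a).symm).trans ((hφ _).trans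
      ((congrArg (dMap hS 0) (heQl r a)).trans ((map_smul (dMap hS 0) r (eQ a)).trans
        (congrArg (r • ·) (hφ a).symm))))
  | succ i ih =>
    intro M' _ _ _ _
    obtain ⟨E, _, _, hE, f, hf⟩ := exists_injective_embedding (R := R') M'
    letI : Module R E := Module.compHom E (algebraMap R R')
    haveI : IsScalarTower R R' E := IsScalarTower.of_algebraMap_smul fun r e => rfl
    haveI : Injective (ModuleCat.of R' E) := Module.injective_object_of_injective_module R' E (inj := hE)
    let g := (LinearMap.range f).mkQ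
    have hS' := lseq_shortExact hf (Submodule.mkQ_surjective _) (LinearMap.exact_map_mkQ_range f)
    have hS := lseq_shortExact (f := f.restrictScalars R) (g := g.restrictScalars R) hf
      (Submodule.mkQ_surjective _) (LinearMap.exact_map_mkQ_range f)
    obtain ⟨eQ, heQl⟩ := ih (E ⧸ LinearMap.range f)
    have hi' := dMap_injective (I := I.map (algebraMap R R')) hS' (i + 1) (subsingleton_of_injective (ModuleCat.of R' E) i)
    have hi := dMap_injective (I := I) hS (i + 1) (acyclic_injective_tower (R' := R') I E i)
    obtain ⟨φ, hφ⟩ := exists_addEquiv_of_surjective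
      (dMap (I := I.map (algebraMap R R')) hS' (i + 1)).toAddMonoidHom (dMap (I := I) hS (i + 1)).toAddMonoidHom eQ
      (dMap_surjective hS' _ (subsingleton_of_injective (ModuleCat.of R' E) _))
      (dMap_surjective hS _ (acyclic_injective_tower (R' := R') I E _)) (fun a => by
        constructor
        · intro ha
          rw [hi' (ha.trans (map_zero _).symm), map_zero, map_zero]
        · intro ha
          rw [eQ.injective ((hi (ha.trans (map_zero _).symm)).trans (map_zero _).symm), map_zero])
    refine ⟨φ, fun r x => ?_⟩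
    obtain ⟨a, rfl⟩ := dMap_surjective hS' _ (subsingleton_of_injective (ModuleCat.of R' E) (i + 1)) x
    exact (congrArg φ (map_smul (dMap hS' (i + 1)) (algebraMap R R' r) a).symm).trans ((hφ _).trans
      ((congrArg (dMap hS (i + 1)) (heQl r a)).trans ((map_smul (dMap hS (i + 1)) r (eQ a)).trans
        (congrArg (r • ·) (hφ a).symm))))

/-- independence of the base. -/
theorem exists_baseEquiv (I : Ideal R) (i : ℕ) (M' : Type u) [AddCommGroup M'] [Module R' M'] [Module R M']
    [IsScalarTower R R' M'] : ∃ φ : LocCoh.H (I.map (algebraMap R R')) i M' ≃+ LocCoh.H I i M',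
      ∀ (r : R) (x : LocCoh.H (I.map (algebraMap R R')) i M'), φ (algebraMap R R' r • x) = r • φ x := by
  obtain _ | i := i
  · obtain ⟨φ, -, h⟩ := exists_baseEquiv_zero (R' := R') I M'
    exact ⟨φ, h⟩
  · exact exists_baseEquiv_succ I i M'

end tower

/-- radical invariance of vanishing and of injectivity-type facts: torsion only depends on the radical. -/
theorem torsionSub_eq_of_radical {I J : Ideal R} (h : I.radical = J.radical) (M : Type u) [AddCommGroup M]
    [Module R M] : DRing.torsionSub I M = DRing.torsionSub J M := by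
  suffices ∀ {I J : Ideal R}, I ≤ J.radical → DRing.torsionSub J M ≤ DRing.torsionSub I M from
    le_antisymm (this (Ideal.le_radical.trans h.ge)) (this (Ideal.le_radical.trans h.le))
  intro I J hle m hm
  obtain ⟨n, hn⟩ := hm
  obtain ⟨k, hk⟩ := Ideal.exists_pow_le_of_le_radical_of_fg hle (IsNoetherian.noetherian I)
  refine ⟨k * n, fun a ha => hn a (Ideal.pow_right_mono hk n ?_)⟩
  rwa [← pow_mul]

/-- local cohomology only depends on the radical. -/
theorem exists_radicalEquiv {I J : Ideal R} (h : I.radical = J.radical) (i : ℕ) :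
    ∀ (M : Type u) [AddCommGroup M] [Module R M], Nonempty (LocCoh.H I i M ≃ₗ[R] LocCoh.H J i M) := by
  suffices ∀ i (M : Type u) [AddCommGroup M] [Module R M],
      ∃ φ : LocCoh.H I i M ≃ₗ[R] LocCoh.H J i M,
        ∀ h0 : i = 0, ∀ x, toMod (ModuleCat.of R M) (h0 ▸ φ x : LocCoh.H J 0 M) =
          toMod (ModuleCat.of R M) (h0 ▸ x : LocCoh.H I 0 M) from
    fun M _ _ => ⟨(this i M).choose⟩
  intro i
  induction i with
  | zero =>
    intro M _ _
    refine ⟨(torsionEquiv M).trans ((LinearEquiv.ofEq _ _ (torsionSub_eq_of_radical h M)).trans (torsionEquiv M).symm), ?_⟩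
    intro _ x
    exact congrArg Subtype.val ((torsionEquiv (I := J) M).apply_symm_apply
      (LinearEquiv.ofEq _ _ (torsionSub_eq_of_radical h M) (torsionEquiv M x)))
  | succ i ih =>
    intro M _ _
    obtain ⟨E, _, _, hE, f, hf⟩ := exists_injective_embedding (R := R) M
    haveI : Injective (ModuleCat.of R E) := Module.injective_object_of_injective_module R E (inj := hE)
    have hS := lseq_shortExact hf (Submodule.mkQ_surjective _) (LinearMap.exact_map_mkQ_range f)
    obtain ⟨eQ, heQ⟩ := ih (E ⧸ LinearMap.range f)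
    have sI := dMap_surjective (I := I) hS i (subsingleton_of_injective (ModuleCat.of R E) i)
    have sJ := dMap_surjective (I := J) hS i (subsingleton_of_injective (ModuleCat.of R E) i)
    have hk : LinearMap.ker (dMap (I := I) hS i) = LinearMap.ker (dMap (I := J) hS i ∘ₗ eQ.toLinearMap) := by
      ext a
      rw [LinearMap.mem_ker, LinearMap.mem_ker, LinearMap.comp_apply]
      obtain _ | i := i
      · obtain ⟨eE, heE⟩ : ∃ eE : LocCoh.H I 0 E ≃ₗ[R] LocCoh.H J 0 E,
            ∀ y, toMod (ModuleCat.of R E) (eE y) = toMod (ModuleCat.of R E) y :=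
          ⟨(torsionEquiv E).trans ((LinearEquiv.ofEq _ _ (torsionSub_eq_of_radical h E)).trans (torsionEquiv E).symm),
            fun y => congrArg Subtype.val ((torsionEquiv (I := J) E).apply_symm_apply
              (LinearEquiv.ofEq _ _ (torsionSub_eq_of_radical h E) (torsionEquiv E y)))⟩
        have hnat : ∀ y, cmap J 0 (ModuleCat.ofHom (LinearMap.range f).mkQ) (eE y) =
            eQ (cmap I 0 (ModuleCat.ofHom (LinearMap.range f).mkQ) y) := fun y => by
          apply toMod_injective (ModuleCat.of R (E ⧸ LinearMap.range f))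
          exact ((toMod_natural _ _).trans (congrArg _ (heE y))).trans
            ((toMod_natural (ModuleCat.ofHom (LinearMap.range f).mkQ) y).symm.trans (heQ rfl _).symm)
        constructor
        · intro ha
          obtain ⟨y, rfl⟩ := (exact_map_dMap hS 0 a).1 ha
          exact (exact_map_dMap hS 0 _).2 ⟨eE y, hnat y⟩
        · intro ha
          obtain ⟨y, hy⟩ := (exact_map_dMap hS 0 (eQ a)).1 ha
          refine (exact_map_dMap hS 0 a).2 ⟨eE.symm y, eQ.injective ?_⟩
          exact ((hnat (eE.symm y)).symm.trans (by rw [eE.apply_symm_apply])).trans hy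
      · have i1 := dMap_injective (I := I) hS (i + 1) (subsingleton_of_injective (ModuleCat.of R E) i)
        have i2 := dMap_injective (I := J) hS (i + 1) (subsingleton_of_injective (ModuleCat.of R E) i)
        exact ⟨fun ha => by rw [i1 (ha.trans (map_zero _).symm), map_zero, map_zero],
          fun ha => by rw [eQ.injective ((i2 (ha.trans (map_zero _).symm)).trans (map_zero _).symm), map_zero]⟩
    refine ⟨((dMap (I := I) hS i).quotKerEquivOfSurjective sI).symm.trans ((Submodule.quotEquivOfEq _ _ hk).trans
      ((dMap (I := J) hS i ∘ₗ eQ.toLinearMap).quotKerEquivOfSurjective (sJ.comp eQ.surjective))), ?_⟩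
    intro h0
    exact absurd h0 (Nat.succ_ne_zero i)

end Groth.Agent.H2LC
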