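import Mathlib
import Groth.Prelude.Def_Wider
import Groth.Prelude.Def_DRing3
import Groth.Agent.Lib.H2LCBaseChange

/-! Flat base change for local cohomology. -/

universe u

open CategoryTheory CategoryTheory.Limits Pointwise TensorProduct

namespace Groth.Agent.H2LC

variable {R : Type u} [CommRing R] {R' : Type u} [CommRing R'] [Algebra R R'] [Module.Flat R R']

theorem baseChange_exact {A B C : Type u} [AddCommGroup A] [Module R A] [AddCommGroup B] [Module R B]
    [AddCommGroup C] [Module R C] {f : A →ₗ[R] B} {g : B →ₗ[R] C} (h : Function.Exact f g) :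
    Function.Exact (f.baseChange R') (g.baseChange R') := by
  rw [LinearMap.baseChange_eq_ltensor, LinearMap.baseChange_eq_ltensor]
  exact Module.Flat.lTensor_exact R' h

theorem baseChange_injective {A B : Type u} [AddCommGroup A] [Module R A] [AddCommGroup B] [Module R B]
    {f : A →ₗ[R] B} (h : Function.Injective f) : Function.Injective (f.baseChange R') := by
  rw [LinearMap.baseChange_eq_ltensor]
  exact Module.Flat.lTensor_preserves_injective_linearMap f h

omit [Module.Flat R R'] in
theorem baseChange_surjective {A B : Type u} [AddCommGroup A] [Module R A] [AddCommGroup B] [Module R B]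
    {f : A →ₗ[R] B} (h : Function.Surjective f) : Function.Surjective (f.baseChange R') := by
  rw [LinearMap.baseChange_eq_ltensor]
  exact LinearMap.lTensor_surjective R' h

omit [Module.Flat R R'] in
theorem baseChange_smul_id {M : Type u} [AddCommGroup M] [Module R M] (a : R) (z : R' ⊗[R] M) :
    (a • (LinearMap.id : M →ₗ[R] M)).baseChange R' z = algebraMap R R' a • z := by
  induction z using TensorProduct.induction_on with
  | zero => rw [map_zero, smul_zero]
  | tmul c m => rw [LinearMap.baseChange_tmul, LinearMap.smul_apply, LinearMap.id_apply, algebraMap_smul, TensorProduct.tmul_smul]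
  | add x y hx hy => rw [map_add, hx, hy, smul_add]

/-- elements killed by finitely many scalars come from the corresponding torsion. -/
theorem mem_range_of_killed_finset {M : Type u} [AddCommGroup M] [Module R M] (t : Finset R) :
    ∀ z : R' ⊗[R] M, (∀ a ∈ t, algebraMap R R' a • z = 0) →
      z ∈ LinearMap.range ((Submodule.torsionBySet R M (t : Set R)).subtype.baseChange R') := by
  classical
  induction t using Finset.induction_on with
  | empty =>
    intro z _
    have e : Submodule.torsionBySet R M ((∅ : Finset R) : Set R) = ⊤ := by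
      refine eq_top_iff.2 fun m _ => (Submodule.mem_torsionBySet_iff _ _).2 fun a => ?_
      exact absurd a.2 (by simp)
    exact baseChange_surjective (fun m => ⟨⟨m, e ▸ Submodule.mem_top⟩, rfl⟩) z
  | @insert a t ha ih =>
    intro z hz
    set K := Submodule.torsionBySet R M (t : Set R)
    obtain ⟨w, rfl⟩ := ih z fun b hb => hz b (Finset.mem_insert_of_mem hb)
    have h0 : (a • (LinearMap.id : K →ₗ[R] K)).baseChange R' w = 0 := by
      apply baseChange_injective K.injective_subtype
      rw [baseChange_smul_id, map_smul, map_zero]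
      exact hz a (Finset.mem_insert_self a t)
    obtain ⟨v, rfl⟩ := ((baseChange_exact (LinearMap.exact_subtype_ker_map _)) w).1 h0
    let j : LinearMap.ker (a • (LinearMap.id : K →ₗ[R] K)) →ₗ[R]
        Submodule.torsionBySet R M ((insert a t : Finset R) : Set R) :=
      LinearMap.codRestrict _ (K.subtype ∘ₗ Submodule.subtype _) fun x =>
        (Submodule.mem_torsionBySet_iff _ _).2 fun ⟨b, hb⟩ => by
          rcases Finset.mem_insert.1 hb with rfl | hb
          · exact congrArg Subtype.val (LinearMap.mem_ker.1 x.2)
          · exact (Submodule.mem_torsionBySet_iff _ _).1 x.1.2 ⟨b, hb⟩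
    refine ⟨j.baseChange R' v, ?_⟩
    rw [← LinearMap.comp_apply, ← LinearMap.baseChange_comp, ← LinearMap.comp_apply, ← LinearMap.baseChange_comp]
    rfl

variable [IsNoetherianRing R]

theorem range_baseChange_torsion (I : Ideal R) (M : Type u) [AddCommGroup M] [Module R M] :
    LinearMap.range ((DRing.torsionSub I M).subtype.baseChange R') =
      DRing.torsionSub (I.map (algebraMap R R')) (R' ⊗[R] M) := by
  refine le_antisymm ?_ fun z hz => ?_
  · rintro _ ⟨w, rfl⟩
    induction w using TensorProduct.induction_on with
    | zero => rw [map_zero]; exact Submodule.zero_mem _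
    | tmul c m =>
      rw [LinearMap.baseChange_tmul, mem_torsionSub_map_iff]
      obtain ⟨n, hn⟩ := m.2
      refine ⟨n, fun a ha => ?_⟩
      rw [← TensorProduct.tmul_smul, Submodule.coe_subtype, hn a ha, TensorProduct.tmul_zero]
    | add x y hx hy => rw [map_add]; exact Submodule.add_mem _ hx hy
  · obtain ⟨n, hn⟩ := (mem_torsionSub_map_iff z).1 hz
    obtain ⟨t, ht⟩ : (I ^ n).FG := IsNoetherian.noetherian _
    obtain ⟨w, rfl⟩ := mem_range_of_killed_finset t z fun a ha => by
      rw [algebraMap_smul]; exact hn a (ht ▸ Ideal.subset_span ha)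
    have hle : Submodule.torsionBySet R M (t : Set R) ≤ DRing.torsionSub I M := fun m hm => by
      refine ⟨n, fun a ha => ?_⟩
      rw [← ht] at ha
      induction ha using Submodule.span_induction with
      | mem a ha => exact (Submodule.mem_torsionBySet_iff _ _).1 hm ⟨a, ha⟩
      | zero => exact zero_smul R m
      | add p q _ _ hp hq => rw [add_smul, hp, hq, add_zero]
      | smul c p _ hp => rw [smul_eq_mul, mul_smul, hp, smul_zero]
    refine ⟨(Submodule.inclusion hle).baseChange R' w, ?_⟩
    rw [← LinearMap.comp_apply, ← LinearMap.baseChange_comp]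
    rfl

/-- `R' ⊗ Γ_I M ≅ Γ_{IR'}(R' ⊗ M)`. -/
noncomputable def torsionBaseChange (I : Ideal R) (M : Type u) [AddCommGroup M] [Module R M] :
    R' ⊗[R] DRing.torsionSub I M ≃ₗ[R'] DRing.torsionSub (I.map (algebraMap R R')) (R' ⊗[R] M) :=
  (LinearEquiv.ofInjective _ (baseChange_injective (DRing.torsionSub I M).injective_subtype)).trans
    (LinearEquiv.ofEq _ _ (range_baseChange_torsion I M))

omit [Module.Flat R R'] [IsNoetherianRing R] in
theorem subsingleton_congr {I : Ideal R} {A B : Type u} [AddCommGroup A] [Module R A] [AddCommGroup B]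
    [Module R B] (e : A ≃ₗ[R] B) (i : ℕ) (h : Subsingleton (LocCoh.H I i A)) :
    Subsingleton (LocCoh.H I i B) :=
  ((localCohomology I i).mapIso e.toModuleIso).toLinearEquiv.symm.toEquiv.subsingleton

variable [IsNoetherianRing R']

/-- flat base change of an injective module is acyclic. -/
theorem acyclic_baseChange_injective (I : Ideal R) (E : Type u) [AddCommGroup E] [Module R E]
    [hE : Module.Injective R E] (q : ℕ) :
    Subsingleton (LocCoh.H (I.map (algebraMap R R')) (q + 1) (R' ⊗[R] E)) := by
  obtain ⟨s, rfl⟩ : I.FG := IsNoetherian.noetherian I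
  classical
  induction s using Finset.induction_on generalizing E q with
  | empty =>
    refine subsingleton_of_isPowerTorsion q (R' ⊗[R] E) fun m => ⟨1, fun a ha => ?_⟩
    rw [Finset.coe_empty, Ideal.span_empty, Ideal.map_bot, pow_one, Ideal.mem_bot] at ha
    rw [ha, zero_smul]
  | @insert x t hx ih =>
    rw [Finset.coe_insert, Ideal.span_insert, sup_comm, Ideal.map_sup]
    refine acyclic_sup (fun q => ?_) (fun q => ?_) q
    · rw [Ideal.map_span, Set.image_singleton]
      refine acyclic_span_singleton (algebraMap R R' x) (fun z => ?_) q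
      induction z using TensorProduct.induction_on with
      | zero => exact ⟨0, 0, by simp⟩
      | tmul c e =>
        obtain ⟨e', n, h⟩ := exists_divide (E := E) x e
        refine ⟨c ⊗ₜ e', n, ?_⟩
        rw [← map_pow, algebraMap_smul, algebraMap_smul, ← TensorProduct.tmul_smul, ← TensorProduct.tmul_sub,
          ← TensorProduct.tmul_smul, h, TensorProduct.tmul_zero]
      | add a b ha hb =>
        obtain ⟨a', n, hn⟩ := ha
        obtain ⟨b', m, hm⟩ := hb
        refine ⟨a' + b', n + m, ?_⟩
        rw [show algebraMap R R' x • (a' + b') - (a + b) = (algebraMap R R' x • a' - a) + (algebraMap R R' x • b' - b) by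
          rw [smul_add]; abel, smul_add, pow_add, mul_smul, mul_smul, hm, smul_zero, smul_comm, hn, smul_zero, add_zero]
    · haveI := injective_torsionSub (I := Ideal.span {x}) E
      exact subsingleton_congr (torsionBaseChange (R' := R') (Ideal.span {x}) E) (q + 1)
        (ih (DRing.torsionSub (Ideal.span {x}) E) (q := q))

omit [Module.Flat R R'] [IsNoetherianRing R] [IsNoetherianRing R'] in
theorem exists_linearEquiv_of_surjective {S : Type u} [CommRing S] {A B A' B' : Type u} [AddCommGroup A]
    [Module S A] [AddCommGroup B] [Module S B] [AddCommGroup A'] [Module S A'] [AddCommGroup B'] [Module S B']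
    (d : A →ₗ[S] B) (d' : A' →ₗ[S] B') (e : A ≃ₗ[S] A') (hd : Function.Surjective d)
    (hd' : Function.Surjective d') (hk : ∀ a, d a = 0 ↔ d' (e a) = 0) :
    Nonempty (B ≃ₗ[S] B') := by
  have : LinearMap.ker d = LinearMap.ker (d' ∘ₗ e.toLinearMap) := by ext a; exact hk a
  exact ⟨(d.quotKerEquivOfSurjective hd).symm.trans ((Submodule.quotEquivOfEq _ _ this).trans
    ((d' ∘ₗ e.toLinearMap).quotKerEquivOfSurjective (hd'.comp e.surjective)))⟩

/-- degree zero flat base change. -/
theorem exists_flatEquiv_zero (I : Ideal R) (M : Type u) [AddCommGroup M] [Module R M] :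
    ∃ φ : R' ⊗[R] LocCoh.H I 0 M ≃ₗ[R'] LocCoh.H (I.map (algebraMap R R')) 0 (R' ⊗[R] M),
      ∀ z, toMod (ModuleCat.of R' (R' ⊗[R] M)) (φ z) = (toMod (I := I) (ModuleCat.of R M)).baseChange R' z := by
  refine ⟨((torsionEquiv (I := I) M).baseChange R R').trans ((torsionBaseChange I M).trans
    (torsionEquiv (I := I.map (algebraMap R R')) (R' ⊗[R] M)).symm), fun z => ?_⟩
  refine (congrArg Subtype.val ((torsionEquiv (I := I.map (algebraMap R R')) (R' ⊗[R] M)).apply_symm_apply _)).trans ?_
  show (DRing.torsionSub I M).subtype.baseChange R' (((torsionEquiv (I := I) M).baseChange R R') z) = _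
  induction z using TensorProduct.induction_on with
  | zero => simp
  | tmul c m => rfl
  | add x y hx hy => rw [map_add, map_add, map_add, hx, hy]

/-- flat base change. -/
theorem exists_flatEquiv (I : Ideal R) (i : ℕ) : ∀ (M : Type u) [AddCommGroup M] [Module R M],
    Nonempty (R' ⊗[R] LocCoh.H I i M ≃ₗ[R'] LocCoh.H (I.map (algebraMap R R')) i (R' ⊗[R] M)) := by
  induction i with
  | zero =>
    intro M _ _
    obtain ⟨φ, -⟩ := exists_flatEquiv_zero (R' := R') I M
    exact ⟨φ⟩
  | succ i ih =>
    intro M _ _
    obtain ⟨E, _, _, hE, f, hf⟩ := exists_injective_embedding (R := R) M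
    haveI : Injective (ModuleCat.of R E) := Module.injective_object_of_injective_module R E (inj := hE)
    have hg := Submodule.mkQ_surjective (LinearMap.range f)
    have hfg := LinearMap.exact_map_mkQ_range f
    have hS := lseq_shortExact hf hg hfg
    have hS' := lseq_shortExact (baseChange_injective (R' := R') hf) (baseChange_surjective (R' := R') hg)
      (baseChange_exact (R' := R') hfg)
    have hd : Function.Surjective ((dMap (I := I) hS i).baseChange R') :=
      baseChange_surjective (dMap_surjective hS i (subsingleton_of_injective (ModuleCat.of R E) i))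
    have hd' : Function.Surjective (dMap (I := I.map (algebraMap R R')) hS' i) :=
      dMap_surjective hS' i (acyclic_baseChange_injective (R' := R') I E i)
    obtain _ | i := i
    · obtain ⟨eQ, heQ⟩ := exists_flatEquiv_zero (R' := R') I (E ⧸ LinearMap.range f)
      obtain ⟨eE, heE⟩ := exists_flatEquiv_zero (R' := R') I E
      have hnat : ∀ y, cmap (I.map (algebraMap R R')) 0
          (ModuleCat.ofHom ((LinearMap.range f).mkQ.baseChange R')) (eE y) =
          eQ ((cmap I 0 (ModuleCat.ofHom (LinearMap.range f).mkQ)).baseChange R' y) := fun y => by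
        apply toMod_injective (ModuleCat.of R' (R' ⊗[R] (E ⧸ LinearMap.range f)))
        refine (toMod_natural (ModuleCat.ofHom ((LinearMap.range f).mkQ.baseChange R')) _).trans ?_
        refine (congrArg ((LinearMap.range f).mkQ.baseChange R') (heE y)).trans ?_
        refine Eq.trans ?_ (heQ _).symm
        induction y using TensorProduct.induction_on with
        | zero => simp
        | tmul c m =>
          simp only [LinearMap.baseChange_tmul]
          exact congrArg (c ⊗ₜ[R] ·) (toMod_natural (ModuleCat.ofHom (LinearMap.range f).mkQ) m).symm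
        | add x y hx hy => rw [map_add, map_add, map_add, map_add, hx, hy]
      refine exists_linearEquiv_of_surjective _ _ eQ hd hd' fun a => ⟨fun ha => ?_, fun ha => ?_⟩
      · obtain ⟨y, rfl⟩ := (baseChange_exact (R' := R') (exact_map_dMap (I := I) hS 0) a).1 ha
        exact (exact_map_dMap hS' 0 _).2 ⟨eE y, hnat y⟩
      · obtain ⟨y, hy⟩ := (exact_map_dMap hS' 0 (eQ a)).1 ha
        refine (baseChange_exact (R' := R') (exact_map_dMap (I := I) hS 0) a).2 ⟨eE.symm y, eQ.injective ?_⟩
        exact ((hnat (eE.symm y)).symm.trans (by rw [eE.apply_symm_apply])).trans hy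
    · obtain ⟨eQ⟩ := ih (E ⧸ LinearMap.range f) |>.map id
      have h1 : Function.Injective ((dMap (I := I) hS (i + 1)).baseChange R') :=
        baseChange_injective (dMap_injective hS (i + 1) (subsingleton_of_injective (ModuleCat.of R E) i))
      have h2 := dMap_injective (I := I.map (algebraMap R R')) hS' (i + 1)
        (acyclic_baseChange_injective (R' := R') I E i)
      refine exists_linearEquiv_of_surjective _ _ eQ hd hd' fun a => ⟨fun ha => ?_, fun ha => ?_⟩
      · rw [h1 (ha.trans (map_zero _).symm), map_zero, map_zero]
      · rw [eQ.injective ((h2 (ha.trans (map_zero _).symm)).trans (map_zero _).symm), map_zero]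

end Groth.Agent.H2LC
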