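import Mathlib
import Groth.Prelude.Def_Wider

/-! Melkersson's lemma: a power-torsion module with Artinian `a`-socle is Artinian. -/

universe u v

namespace Groth.Agent.H2Artinian

variable {R : Type u} [CommRing R] {M : Type v} [AddCommGroup M] [Module R M]

/-- one element case: `M` is `x`-power torsion and `M[x]` is Artinian. -/
theorem isArtinian_of_torsion_elem (x : R) (hM : ∀ m : M, ∃ n : ℕ, x ^ n • m = 0)
    (hA : IsArtinian R (Submodule.torsionBy R M x)) : IsArtinian R M := by
  rw [← monotone_stabilizes_iff_artinian]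
  intro N
  let D : ℕ → ℕ → Submodule R (Submodule.torsionBy R M x) := fun k j =>
    { carrier := {s | ∃ z ∈ OrderDual.ofDual (N k), x ^ (j + 1) • z = 0 ∧ x ^ j • z = (s : M)}
      zero_mem' := ⟨0, Submodule.zero_mem _, smul_zero _, by simp⟩
      add_mem' := by
        rintro a b ⟨z, hz, h1, h2⟩ ⟨w, hw, h3, h4⟩
        exact ⟨z + w, Submodule.add_mem _ hz hw, by rw [smul_add, h1, h3, add_zero],
          by rw [smul_add, h2, h4]; rfl⟩
      smul_mem' := by
        rintro c a ⟨z, hz, h1, h2⟩
        exact ⟨c • z, Submodule.smul_mem _ c hz, by rw [smul_comm, h1, smul_zero],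
          by rw [smul_comm, h2]; rfl⟩ }
  have hk : ∀ {k k'} j, k ≤ k' → D k' j ≤ D k j := fun j h s ⟨z, hz, h1, h2⟩ =>
    ⟨z, N.monotone h hz, h1, h2⟩
  have hj : ∀ k {j j'}, j ≤ j' → D k j' ≤ D k j := by
    intro k j j' h
    obtain ⟨t, rfl⟩ := Nat.exists_eq_add_of_le h
    rintro s ⟨z, hz, h1, h2⟩
    refine ⟨x ^ t • z, Submodule.smul_mem _ _ hz, ?_, ?_⟩
    · rw [smul_smul, ← pow_add, show j + 1 + t = j + t + 1 by omega, h1]
    · rw [smul_smul, ← pow_add, h2]
  obtain ⟨-, ⟨⟨k0, j0⟩, rfl⟩, hmin⟩ :=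
    (wellFounded_lt (α := Submodule R (Submodule.torsionBy R M x))).has_min
      (Set.range fun p : ℕ × ℕ => D p.1 p.2) (Set.range_nonempty _)
  have hst : ∀ j, ∃ K, ∀ k, K ≤ k → D k j = D K j := fun j => by
    obtain ⟨K, hK⟩ := monotone_stabilizes_iff_artinian.2 hA
      ⟨fun k => OrderDual.toDual (D k j), fun a b h => hk j h⟩
    exact ⟨K, fun k h => (hK k h).symm⟩
  choose Kf hKf using hst
  let K := max k0 ((Finset.range j0).sup Kf)
  have hD : ∀ k, K ≤ k → ∀ j, D k j = D K j := by
    intro k hkK j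
    by_cases h : j < j0
    · have h' : Kf j ≤ K := le_max_of_le_right (Finset.le_sup (f := Kf) (Finset.mem_range.2 h))
      rw [hKf j k (h'.trans hkK), hKf j K h']
    · push Not at h
      have e : ∀ k', k0 ≤ k' → D k' j = D k0 j0 := fun k' hk' =>
        (eq_of_le_of_not_lt ((hk j hk').trans (hj k0 h))
          (hmin _ ⟨(k', j), rfl⟩))
      rw [e k ((le_max_left _ _).trans hkK), e K (le_max_left _ _)]
  refine ⟨K, fun k hkK => le_antisymm (N.monotone hkK) ?_⟩
  show OrderDual.ofDual (N K) ≤ OrderDual.ofDual (N k)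
  intro z hz
  obtain ⟨n, hn⟩ := hM z
  induction n generalizing z with
  | zero => rw [pow_zero, one_smul] at hn; rw [hn]; exact Submodule.zero_mem _
  | succ n ih =>
    have hs : x ^ n • z ∈ Submodule.torsionBy R M x := by
      rw [Submodule.mem_torsionBy_iff, smul_smul, ← pow_succ', hn]
    have : (⟨_, hs⟩ : Submodule.torsionBy R M x) ∈ D K n := ⟨z, hz, hn, rfl⟩
    rw [← hD k hkK n] at this
    obtain ⟨w, hw, -, hw2⟩ := this
    have h := ih (Submodule.sub_mem _ hz ((N.monotone hkK) hw)) (by rw [smul_sub, hw2, sub_self])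
    simpa using Submodule.add_mem _ h hw

theorem isArtinian_of_torsion_list (l : List R) : ∀ {M : Type v} [AddCommGroup M] [Module R M],
    (∀ x ∈ l, ∀ m : M, ∃ n : ℕ, x ^ n • m = 0) →
    IsArtinian R (Submodule.torsionBySet R M {x | x ∈ l}) → IsArtinian R M := by
  induction l with
  | nil =>
    intro M _ _ _ hA
    have e : Submodule.torsionBySet R M {x | x ∈ ([] : List R)} = ⊤ := by
      refine eq_top_iff.2 fun m _ => (Submodule.mem_torsionBySet_iff _ _).2 fun a => ?_
      exact absurd a.2 (by simp)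
    rw [e] at hA
    exact isArtinian_of_linearEquiv (Submodule.topEquiv (R := R) (M := M))
  | cons x l ih =>
    intro M _ _ hM hA
    refine isArtinian_of_torsion_elem x (hM x (by simp)) (ih (fun y hy m => ?_) ?_)
    · obtain ⟨n, hn⟩ := hM y (by simp [hy]) m.1
      exact ⟨n, Subtype.ext hn⟩
    · let f : Submodule.torsionBySet R (Submodule.torsionBy R M x) {y | y ∈ l} →ₗ[R]
          Submodule.torsionBySet R M {y | y ∈ x :: l} :=
        LinearMap.codRestrict _ ((Submodule.torsionBy R M x).subtype ∘ₗ Submodule.subtype _) fun m =>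
          (Submodule.mem_torsionBySet_iff _ _).2 fun ⟨a, ha⟩ => by
            rcases List.mem_cons.1 ha with rfl | h
            · exact m.1.2
            · exact congrArg Subtype.val ((Submodule.mem_torsionBySet_iff _ _).1 m.2 ⟨a, h⟩)
      exact isArtinian_of_injective f fun a b h =>
        Subtype.ext (Subtype.ext (congrArg Subtype.val h :))

theorem isArtinian_of_torsionBy {a : Ideal R} (ha : a.FG) (hM : LocCoh.IsPowerTorsion a M)
    (hA : IsArtinian R (LocCoh.torsionBy a M)) : IsArtinian R M := by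
  obtain ⟨s, rfl⟩ := ha
  refine isArtinian_of_torsion_list s.toList (fun x hx m => ?_) ?_
  · obtain ⟨n, hn⟩ := hM m
    exact ⟨n, hn _ (Ideal.pow_mem_pow (Ideal.subset_span (Finset.mem_toList.1 hx)) n)⟩
  · refine isArtinian_of_le (t := LocCoh.torsionBy (Ideal.span (s : Set R)) M) fun m hm => ?_
    rw [Submodule.mem_torsionBySet_iff] at hm ⊢
    rintro ⟨a, ha⟩
    induction ha using Submodule.span_induction with
    | mem a ha => exact hm ⟨a, Finset.mem_toList.2 ha⟩
    | zero => exact zero_smul R m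
    | add p q _ _ hp hq => exact (add_smul p q m).trans (by rw [hp, hq, add_zero])
    | smul c p _ hp => exact (mul_smul c p m).trans (by rw [hp, smul_zero])

end Groth.Agent.H2Artinian
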