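import Mathlib
import Groth.Prelude.Def_Wider
import Groth.Prelude.Def_DRing3
import Groth.Agent.Lib.H2LCCd
import Groth.Agent.Lib.H2Artinian
import Groth.Agent.Lib.H2Depth
import Groth.Agent.S0817

/-! Grothendieck non-vanishing in the top degree. -/

universe u

open CategoryTheory CategoryTheory.Limits Pointwise TensorProduct

namespace Groth.Agent.H2LC

variable {R : Type u} [CommRing R]

/-- not a sum of two proper submodules. -/
def SumIrred {H : Type u} [AddCommGroup H] [Module R H] (S : Submodule R H) : Prop :=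
  ∀ A B : Submodule R H, A ≤ S → B ≤ S → A ⊔ B = S → A = S ∨ B = S

theorem exists_sumIrred_decomp {H : Type u} [AddCommGroup H] [Module R H] [IsArtinian R H]
    (N : Submodule R H) : ∃ T : Finset (Submodule R H), (∀ S ∈ T, SumIrred S) ∧ T.sup id = N := by
  classical
  induction N using WellFoundedLT.induction with
  | _ N ih =>
    by_cases hN : SumIrred N
    · exact ⟨{N}, by simpa using hN, by simp⟩
    · simp only [SumIrred, not_forall, not_or] at hN
      obtain ⟨A, B, hA, hB, hAB, hAne, hBne⟩ := hN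
      obtain ⟨T₁, h1, h1'⟩ := ih A (lt_of_le_of_ne hA hAne)
      obtain ⟨T₂, h2, h2'⟩ := ih B (lt_of_le_of_ne hB hBne)
      refine ⟨T₁ ∪ T₂, fun S hS => ?_, by rw [Finset.sup_union, h1', h2', hAB]⟩
      rcases Finset.mem_union.1 hS with h | h
      exacts [h1 S h, h2 S h]

/-- the nilpotent-acting elements. -/
def nilIdeal {H : Type u} [AddCommGroup H] [Module R H] (S : Submodule R H) : Ideal R :=
  (Module.annihilator R S).radical

theorem smul_eq_or_mem_nilIdeal {H : Type u} [AddCommGroup H] [Module R H] [IsArtinian R H]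
    {S : Submodule R H} (hS : SumIrred S) (a : R) : a • S = S ∨ a ∈ nilIdeal S := by
  obtain ⟨k, hk⟩ := monotone_stabilizes_iff_artinian.2 ‹IsArtinian R H›
    ⟨fun n => OrderDual.toDual (a ^ n • S), monotone_nat_of_le_succ fun n => by
      rintro _ ⟨s, hs, rfl⟩
      refine ⟨a • s, S.smul_mem a hs, ?_⟩
      show a ^ n • a • s = a ^ (n + 1) • s
      rw [smul_smul, ← pow_succ]⟩
  let K : Submodule R H := S ⊓ LinearMap.ker (a ^ k • (LinearMap.id : H →ₗ[R] H))
  have hle : a ^ k • S ≤ S := fun _ ⟨s, hs, e⟩ => e ▸ S.smul_mem _ hs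
  have hsum : a ^ k • S ⊔ K = S := by
    refine le_antisymm (sup_le hle inf_le_left) fun s hs => ?_
    have h2 : a ^ k • S = a ^ (k + k) • S := hk (k + k) (Nat.le_add_left _ _)
    have : a ^ k • s ∈ a ^ (k + k) • S := h2 ▸ Submodule.smul_mem_pointwise_smul s (a ^ k) S hs
    obtain ⟨t, ht, hts⟩ := this
    refine Submodule.mem_sup.2 ⟨a ^ k • t, Submodule.smul_mem_pointwise_smul t (a ^ k) S ht, s - a ^ k • t,
      ⟨S.sub_mem hs (S.smul_mem _ ht), ?_⟩, add_sub_cancel _ _⟩
    show a ^ k • (s - a ^ k • t) = 0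
    rw [smul_sub, smul_smul, ← pow_add, sub_eq_zero]
    exact hts.symm
  rcases hS _ _ hle inf_le_left hsum with h | h
  · refine Or.inl (le_antisymm (fun _ ⟨s, hs, e⟩ => e ▸ S.smul_mem _ hs) ?_)
    have h1 : a ^ k • S = a ^ (k + 1) • S := hk (k + 1) k.le_succ
    intro s hs
    rw [← h, h1] at hs
    obtain ⟨t, ht, rfl⟩ := hs
    refine ⟨a ^ k • t, S.smul_mem _ ht, ?_⟩
    show a • a ^ k • t = a ^ (k + 1) • t
    rw [smul_smul, ← pow_succ']
  · refine Or.inr ⟨k, Module.mem_annihilator.2 fun s => Subtype.ext ?_⟩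
    have hs : (s : H) ∈ K := (SetLike.ext_iff.1 h (s : H)).2 s.2
    exact hs.2

theorem nilIdeal_isPrime {H : Type u} [AddCommGroup H] [Module R H] [IsArtinian R H]
    {S : Submodule R H} (hS : SumIrred S) (hne : S ≠ ⊥) : (nilIdeal S).IsPrime := by
  refine ⟨?_, fun {a b} hab => ?_⟩
  · rw [Ne, nilIdeal, Ideal.radical_eq_top, Ideal.eq_top_iff_one, Module.mem_annihilator]
    intro h
    exact hne ((Submodule.eq_bot_iff _).2 fun s hs => by
      simpa using congrArg Subtype.val (h ⟨s, hs⟩))
  · rcases smul_eq_or_mem_nilIdeal hS a with ha | ha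
    · refine Or.inr ?_
      obtain ⟨n, hn⟩ := hab
      have hsurj : ∀ (n : ℕ) (s : S), ∃ t : S, a ^ n • t = s := by
        intro n
        induction n with
        | zero => exact fun s => ⟨s, by simp⟩
        | succ n ih =>
          intro s
          obtain ⟨t, rfl⟩ := ih s
          have : (t : H) ∈ a • S := (SetLike.ext_iff.1 ha (t : H)).2 t.2
          obtain ⟨u, hu, hut⟩ := this
          refine ⟨⟨u, hu⟩, ?_⟩
          rw [pow_succ, mul_smul]
          exact congrArg (a ^ n • ·) (Subtype.ext hut)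
      refine ⟨n, Module.mem_annihilator.2 fun s => ?_⟩
      obtain ⟨t, rfl⟩ := hsurj n s
      rw [smul_smul, ← mul_pow, mul_comm b a]
      exact Module.mem_annihilator.1 hn t
    · exact Or.inl ha

variable [IsNoetherianRing R] [IsLocalRing R]

local notation "𝔪" => IsLocalRing.maximalIdeal R

/-- in an Artinian module over a local ring a general element `x` has `H ⧸ xH` killed by a power of `𝔪`. -/
theorem exists_smul_top_ge {H : Type u} [AddCommGroup H] [Module R H] [IsArtinian R H]
    (P : Finset (Ideal R)) (hP : ∀ p ∈ P, p.IsPrime ∧ p ≠ 𝔪) :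
    ∃ x ∈ 𝔪, (∀ p ∈ P, x ∉ p) ∧ ∃ N : ℕ, (𝔪 ^ N • ⊤ : Submodule R H) ≤ x • ⊤ := by
  classical
  obtain ⟨N, hN⟩ := monotone_stabilizes_iff_artinian.2 ‹IsArtinian R H›
    ⟨fun n => OrderDual.toDual (𝔪 ^ n • ⊤ : Submodule R H), monotone_nat_of_le_succ fun n =>
      Submodule.smul_mono_left (Ideal.pow_le_pow_right n.le_succ)⟩
  set H0 : Submodule R H := 𝔪 ^ N • ⊤
  obtain ⟨T, hT, hsup⟩ := exists_sumIrred_decomp H0
  let G := T.filter fun S => S ≠ ⊥ ∧ nilIdeal S ≠ 𝔪
  let P' := P ∪ G.image nilIdeal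
  have hP' : ∀ p ∈ P', p.IsPrime ∧ p ≠ 𝔪 := by
    intro p hp
    rcases Finset.mem_union.1 hp with h | h
    · exact hP p h
    · obtain ⟨S, hS, rfl⟩ := Finset.mem_image.1 h
      rw [Finset.mem_filter] at hS
      exact ⟨nilIdeal_isPrime (hT S hS.1) hS.2.1, hS.2.2⟩
  have hnot : ¬ ((𝔪 : Set R) ⊆ ⋃ p ∈ (P' : Set (Ideal R)), (id p : Set R)) := by
    intro hsub
    obtain ⟨p, hp, hle⟩ := (Ideal.subset_union_prime (f := id) ⊥ ⊥ fun p hp _ _ => (hP' p hp).1).1 hsub
    exact (hP' p hp).2 (((IsLocalRing.maximalIdeal.isMaximal R).eq_of_le (hP' p hp).1.ne_top hle).symm)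
  obtain ⟨x, hx, hxP⟩ := Set.not_subset.1 hnot
  simp only [Set.mem_iUnion, id_eq, SetLike.mem_coe, not_exists] at hxP
  refine ⟨x, hx, fun p hp => hxP p (Finset.mem_union_left _ hp), N, ?_⟩
  have hbad : ∀ S ∈ T \ G, ∃ k, 𝔪 ^ k • S = ⊥ := by
    intro S hS
    rw [Finset.mem_sdiff, Finset.mem_filter] at hS
    by_cases h0 : S = ⊥
    · exact ⟨0, by rw [h0, Submodule.smul_bot]⟩
    · have hnil : nilIdeal S = 𝔪 := by
        by_contra hc
        exact hS.2 ⟨hS.1, h0, hc⟩
      obtain ⟨k, hk⟩ := Ideal.exists_pow_le_of_le_radical_of_fg hnil.ge (IsNoetherian.noetherian _)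
      refine ⟨k, le_bot_iff.1 (Submodule.smul_le.2 fun a ha s hs => (Submodule.mem_bot R).2 ?_)⟩
      exact congrArg Subtype.val (Module.mem_annihilator.1 (hk ha) ⟨s, hs⟩)
  choose! k hk using hbad
  have key : ∀ k', (∀ S ∈ T \ G, k S ≤ k') → 𝔪 ^ k' • H0 ≤ x • ⊤ := by
    intro k' hk'
    rw [← hsup, Finset.sup_id_eq_sSup, sSup_eq_iSup, Submodule.smul_iSup]
    refine iSup_le fun S => ?_
    rw [Submodule.smul_iSup]
    refine iSup_le fun hS => ?_
    by_cases hG : S ∈ G
    · have h1 : x • S = S := (smul_eq_or_mem_nilIdeal (hT S hS) x).resolve_right fun h =>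
        hxP (nilIdeal S) (Finset.mem_union_right _ (Finset.mem_image_of_mem _ hG)) h
      calc 𝔪 ^ k' • S ≤ S := Submodule.smul_le_right
        _ = x • S := h1.symm
        _ ≤ x • ⊤ := fun _ ⟨s, _, e⟩ => ⟨s, trivial, e⟩
    · have hSd : S ∈ T \ G := Finset.mem_sdiff.2 ⟨hS, hG⟩
      exact le_trans (le_trans (Submodule.smul_mono_left (Ideal.pow_le_pow_right (hk' S hSd))) (hk S hSd).le) bot_le
  have := key ((T \ G).sup k) fun S hS => Finset.le_sup hS
  rw [← Submodule.mul_smul, ← pow_add] at this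
  have e : (𝔪 ^ N • ⊤ : Submodule R H) = 𝔪 ^ ((T \ G).sup k + N) • ⊤ := hN _ (Nat.le_add_left _ _)
  exact (le_of_eq e).trans this

omit [IsLocalRing R] in
/-- a finite module maps non-trivially to `R ⧸ p` for `p` in its support. -/
theorem exists_hom_quotient {M : Type u} [AddCommGroup M] [Module R M] [Module.Finite R M]
    {p : PrimeSpectrum R} (hp : p ∈ Module.support R M) : ∃ f : M →ₗ[R] R ⧸ p.asIdeal, f ≠ 0 := by
  let K := p.asIdeal.ResidueField
  haveI := (Module.mem_support_iff_nontrivial_residueField_tensorProduct p).1 hp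
  obtain ⟨v, hv⟩ := exists_ne (0 : K ⊗[R] M)
  obtain ⟨φ, hφ⟩ := Module.Projective.exists_dual_ne_zero K hv
  let g : M →ₗ[R] K := φ.restrictScalars R ∘ₗ TensorProduct.mk R K M 1
  have hg : g ≠ 0 := by
    intro h0
    apply hφ
    clear hv hφ
    induction v using TensorProduct.induction_on with
    | zero => exact map_zero φ
    | tmul c m =>
      have h1 : φ (1 ⊗ₜ[R] m) = 0 := congrArg (fun l => l m) h0
      rw [show c ⊗ₜ[R] m = c • ((1 : K) ⊗ₜ[R] m) by rw [TensorProduct.smul_tmul', smul_eq_mul, mul_one],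
        map_smul, h1, smul_zero]
    | add v w hv hw => rw [map_add, hv, hw, add_zero]
  obtain ⟨t, ht⟩ := Module.Finite.fg_top (R := R) (M := M)
  classical
  obtain ⟨b, hb⟩ := IsLocalization.exist_integer_multiples_of_finset (nonZeroDivisors (R ⧸ p.asIdeal))
    (t.image g)
  let ι : (R ⧸ p.asIdeal) →ₗ[R] K := (Algebra.linearMap (R ⧸ p.asIdeal) K).restrictScalars R
  have hι : Function.Injective ι := Ideal.injective_algebraMap_quotient_residueField _
  let g' : M →ₗ[R] K := (LinearMap.lsmul (R ⧸ p.asIdeal) K (b : R ⧸ p.asIdeal)).restrictScalars R ∘ₗ g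
  have hrange : ∀ m, g' m ∈ LinearMap.range ι := by
    intro m
    have hm : m ∈ Submodule.span R (t : Set M) := ht ▸ Submodule.mem_top
    refine (Submodule.span_le.2 ?_ hm : m ∈ (LinearMap.range ι).comap g')
    intro a ha
    obtain ⟨c, hc⟩ := hb (g a) (Finset.mem_image_of_mem g ha)
    exact ⟨c, hc⟩
  refine ⟨(LinearEquiv.ofInjective ι hι).symm.toLinearMap ∘ₗ LinearMap.codRestrict _ g' hrange, fun h => hg ?_⟩
  ext m
  have h0 : g' m = 0 := by
    have := congrArg (fun f => ((LinearEquiv.ofInjective ι hι) (f m)).1) h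
    simpa using this
  have hb0 : algebraMap (R ⧸ p.asIdeal) K (b : R ⧸ p.asIdeal) ≠ 0 :=
    (map_ne_zero_iff _ hι).2 (nonZeroDivisors.ne_zero b.2)
  rw [LinearMap.comp_apply] at h0
  have h1 : (b : R ⧸ p.asIdeal) • g m = 0 := h0
  rw [Algebra.smul_def, mul_eq_zero] at h1
  exact h1.resolve_left hb0

omit [IsLocalRing R] in
/-- a prime of the support realising the dimension. -/
theorem exists_prime_supportDim {M : Type u} [AddCommGroup M] [Module R M] [Module.Finite R M] {n : ℕ}
    (hn : Module.supportDim R M = n) :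
    ∃ p : PrimeSpectrum R, p ∈ Module.support R M ∧ Module.supportDim R (R ⧸ p.asIdeal) = n := by
  obtain ⟨l, hl⟩ := Order.le_krullDim_iff.1 hn.ge
  refine ⟨l.head.1, l.head.2, le_antisymm ?_ ?_⟩
  · refine le_trans ?_ hn.le
    refine Order.krullDim_le_of_strictMono (fun q => (⟨q.1, ?_⟩ : Module.support R M)) fun {_ _} h => h
    rw [Module.mem_support_iff_of_finite]
    have h1 := Module.mem_support_iff_of_finite.1 q.2
    rw [Ideal.annihilator_quotient] at h1
    exact (Module.mem_support_iff_of_finite.1 l.head.2).trans h1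
  · have hmem : ∀ i, (l i).1 ∈ Module.support R (R ⧸ l.head.1.asIdeal) := fun i => by
      rw [Module.mem_support_iff_of_finite, Ideal.annihilator_quotient]
      exact LTSeries.head_le l i
    exact Order.le_krullDim_iff.2 ⟨⟨l.length, fun i => ⟨(l i).1, hmem i⟩, fun i => l.step i⟩, hl⟩

omit [IsLocalRing R] in
/-- multiplication by a parameter is surjective on the top local cohomology. -/
theorem smul_surjective_top {I : Ideal R} {M : Type u} [AddCommGroup M] [Module R M] [Module.Finite R M]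
    {n : ℕ} (hn : Module.supportDim R M = n) {x : R} (hn1 : 1 ≤ n)
    (hx : ∀ q ∈ (Module.annihilator R M).minimalPrimes, x ∉ q) :
    Function.Surjective fun y : LocCoh.H I n M => x • y := by
  let f : M →ₗ[R] M := x • LinearMap.id
  have hdim := Module.supportDim_quotSMulTop_succ_le_of_notMem_minimalPrimes hx
  rw [hn] at hdim
  obtain ⟨k, rfl⟩ := Nat.exists_eq_succ_of_ne_zero (show n ≠ 0 by omega)
  have hlt : Module.supportDim R (M ⧸ LinearMap.range f) < ((k + 1 : ℕ) : WithBot ℕ∞) := by
    have hsub : x • (⊤ : Submodule R M) ≤ LinearMap.range f := fun _ ⟨z, _, e⟩ => ⟨z, e⟩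
    refine lt_of_le_of_lt (Module.supportDim_le_of_surjective (Submodule.factor hsub) (Submodule.factor_surjective hsub))
      (lt_of_succ_le hdim (by exact_mod_cast (k + 1).lt_succ_self))
  have hS1 := lseq_shortExact (LinearMap.ker f.rangeRestrict).injective_subtype f.surjective_rangeRestrict
    (LinearMap.exact_subtype_ker_map f.rangeRestrict)
  have hS2 := lseq_shortExact (LinearMap.range f).injective_subtype (Submodule.mkQ_surjective _)
    (LinearMap.exact_subtype_mkQ _)
  intro y
  obtain ⟨z, hz⟩ := (exact_map hS2 (k + 1) y).1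
    (@Subsingleton.elim _ (subsingleton_of_supportDim_lt hlt) _ _)
  obtain ⟨w, rfl⟩ := (exact_map_dMap hS1 (k + 1) z).1 (@Subsingleton.elim _
    (subsingleton_of_supportDim_lt (lt_of_le_of_lt
      ((Module.supportDim_le_of_injective _ (LinearMap.ker f.rangeRestrict).injective_subtype).trans hn.le)
      (by exact_mod_cast (k + 1).lt_succ_self))) _ _)
  refine ⟨w, ?_⟩
  show x • w = y
  rw [← hz, ← cmap_smul_id (k + 1) x (ModuleCat.of R M) w, ← LinearMap.comp_apply (g := cmap I (k + 1) _),
    ← ModuleCat.hom_comp, ← Functor.map_comp]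
  rfl

/-- in positive degree the top cohomology is killed by no power of the maximal ideal unless zero. -/
theorem subsingleton_of_killed {M : Type u} [AddCommGroup M] [Module R M] [Module.Finite R M]
    {k N : ℕ} (hn : Module.supportDim R M = ((k + 1 : ℕ) : WithBot ℕ∞))
    (h : ∀ a ∈ 𝔪 ^ N, ∀ z : LocCoh.H 𝔪 (k + 1) M, a • z = 0) :
    Subsingleton (LocCoh.H 𝔪 (k + 1) M) := by
  classical
  have hfin := Ideal.finite_minimalPrimes_of_isNoetherianRing R (Module.annihilator R M)
  have hne : ∀ q ∈ (Module.annihilator R M).minimalPrimes, q ≠ 𝔪 := by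
    intro q hq hqm
    have hzero : Module.supportDim R M ≤ 0 := by
      rw [Module.supportDim_eq_ringKrullDim_quotient_annihilator]
      rw [ringKrullDim_quotient]
      refine Order.krullDim_nonpos_iff_forall_isMax.2 fun a b _ => ?_
      have key : ∀ c : PrimeSpectrum.zeroLocus ((Module.annihilator R M : Ideal R) : Set R), c.1.asIdeal = 𝔪 :=
        fun c => le_antisymm (IsLocalRing.le_maximalIdeal c.1.2.ne_top)
          (hqm ▸ hq.2 ⟨c.1.2, c.2⟩ (hqm ▸ IsLocalRing.le_maximalIdeal c.1.2.ne_top))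
      exact (Subtype.ext (PrimeSpectrum.ext ((key b).trans (key a).symm))).le
    rw [hn] at hzero
    exact absurd hzero (not_le.2 (by exact_mod_cast k.succ_pos))
  have hnot : ¬ ((𝔪 : Set R) ⊆ ⋃ q ∈ (hfin.toFinset : Set (Ideal R)), (id q : Set R)) := by
    intro hsub
    obtain ⟨q, hq, hle⟩ := (Ideal.subset_union_prime (f := id) ⊥ ⊥ fun q hq _ _ => (hfin.mem_toFinset.1 hq).isPrime).1 hsub
    exact hne q (hfin.mem_toFinset.1 hq)
      (((IsLocalRing.maximalIdeal.isMaximal R).eq_of_le (hfin.mem_toFinset.1 hq).isPrime.ne_top hle).symm)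
  obtain ⟨x, hx, hxP⟩ := Set.not_subset.1 hnot
  simp only [Set.mem_iUnion, id_eq, SetLike.mem_coe, not_exists] at hxP
  have hs : Function.Surjective fun y : LocCoh.H 𝔪 (k + 1) M => x • y :=
    smul_surjective_top hn (Nat.le_add_left 1 k) fun q hq => hxP q (hfin.mem_toFinset.2 hq)
  have hpow : ∀ (j : ℕ) (z : LocCoh.H 𝔪 (k + 1) M), ∃ w, x ^ j • w = z := by
    intro j
    induction j with
    | zero => exact fun z => ⟨z, by simp⟩
    | succ j ihj =>
      intro z
      obtain ⟨w, rfl⟩ := ihj z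
      obtain ⟨u, rfl⟩ := hs w
      exact ⟨u, by rw [pow_succ, mul_smul]⟩
  have hz : ∀ z : LocCoh.H 𝔪 (k + 1) M, z = 0 := fun z => by
    obtain ⟨w, rfl⟩ := hpow N z
    exact h _ (Ideal.pow_mem_pow hx N) w
  exact ⟨fun a b => (hz a).trans (hz b).symm⟩

/-- the top local cohomology is not zero. -/
theorem nontrivial_H_top : ∀ (n : ℕ) (M : Type u) [AddCommGroup M] [Module R M] [Module.Finite R M],
    Module.supportDim R M = n → Nontrivial (LocCoh.H 𝔪 n M) := by
  intro n
  induction n with
  | zero =>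
    intro M _ _ _ hM
    haveI : Nontrivial M := by
      rw [← Module.supportDim_ne_bot_iff_nontrivial R, hM]; simp
    rw [← not_subsingleton_iff_nontrivial, subsingleton_H0_iff]
    have hsupp := support_of_supportDim_eq_zero (R := R) (N := M) hM
    rw [Module.support_eq_zeroLocus, PrimeSpectrum.zeroLocus_eq_iff] at hsupp
    obtain ⟨k, hk⟩ := Ideal.exists_pow_le_of_le_radical_of_fg
      (le_of_le_of_eq Ideal.le_radical hsupp.symm) (IsNoetherian.noetherian 𝔪)
    intro hb
    obtain ⟨m, hm⟩ := exists_ne (0 : M)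
    exact hm ((Submodule.mem_bot R).1 (hb ▸ (⟨k, fun a ha => Module.mem_annihilator.1 (hk ha) m⟩ :
      m ∈ DRing.torsionSub 𝔪 M)))
  | succ n ih =>
    intro M _ _ _ hM
    obtain ⟨p, hp, hdim⟩ := exists_prime_supportDim hM
    suffices hS : Nontrivial (LocCoh.H 𝔪 (n + 1) (R ⧸ p.asIdeal)) by
      rw [← not_subsingleton_iff_nontrivial] at hS ⊢
      intro h
      apply hS
      obtain ⟨f, hf⟩ := exists_hom_quotient hp
      have hhi : ∀ (N : Type u) [AddCommGroup N] [Module R N],
          Module.supportDim R N ≤ ((n + 1 : ℕ) : WithBot ℕ∞) → Subsingleton (LocCoh.H 𝔪 (n + 1 + 1) N) :=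
        fun N _ _ hN => subsingleton_of_supportDim_lt (lt_of_le_of_lt hN (by exact_mod_cast (n + 1).lt_succ_self))
      have hA : Subsingleton (LocCoh.H 𝔪 (n + 1) (LinearMap.range f)) :=
        subsingleton_of_surjective f.rangeRestrict f.surjective_rangeRestrict _ h
          (hhi _ ((Module.supportDim_le_of_injective _ (LinearMap.ker f.rangeRestrict).injective_subtype).trans hM.le))
      refine subsingleton_mid (LinearMap.range f).injective_subtype (Submodule.mkQ_surjective _)
        (LinearMap.exact_subtype_mkQ _) _ hA (subsingleton_of_supportDim_lt ?_)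
      obtain ⟨m, hm⟩ := DFunLike.ne_iff.1 hf
      obtain ⟨a, ha⟩ := Submodule.Quotient.mk_surjective _ (f m)
      have hap : a ∉ p.asIdeal := fun h => hm (ha.symm.trans ((Submodule.Quotient.mk_eq_zero _).2 h))
      have hmins : ∀ q ∈ (Module.annihilator R (R ⧸ p.asIdeal)).minimalPrimes, a ∉ q := by
        intro q hq
        rw [Ideal.annihilator_quotient, Ideal.minimalPrimes_eq_subsingleton_self, Set.mem_singleton_iff] at hq
        exact hq ▸ hap
      have hle := Module.supportDim_quotSMulTop_succ_le_of_notMem_minimalPrimes hmins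
      rw [hdim] at hle
      refine lt_of_le_of_lt ?_ (lt_of_succ_le hle (by exact_mod_cast (n + 1).lt_succ_self) |>.trans_le le_rfl)
      have hsub : a • (⊤ : Submodule R (R ⧸ p.asIdeal)) ≤ LinearMap.range f := by
        rintro _ ⟨z, -, rfl⟩
        obtain ⟨z, rfl⟩ := Submodule.Quotient.mk_surjective _ z
        refine ⟨z • m, ?_⟩
        show f (z • m) = a • Submodule.Quotient.mk z
        rw [map_smul, ← ha, ← Submodule.Quotient.mk_smul, ← Submodule.Quotient.mk_smul, smul_eq_mul, smul_eq_mul, mul_comm]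
      exact Module.supportDim_le_of_surjective (Submodule.factor hsub) (Submodule.factor_surjective hsub)
    -- the domain case
    set S := R ⧸ p.asIdeal
    haveI : IsArtinian R (LocCoh.H 𝔪 n S) := Groth.Agent.S0817.result R S n
    obtain ⟨x, hxm, hxP, N, hN⟩ := exists_smul_top_ge (H := LocCoh.H 𝔪 n S) {p.asIdeal} (by
      intro q hq
      rw [Finset.mem_singleton] at hq
      refine ⟨hq ▸ p.2, fun h => ?_⟩
      rw [hq] at h
      have h0 : Module.supportDim R S ≤ 0 := by
        rw [Module.supportDim_quotient_eq_ringKrullDim]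
        haveI : p.asIdeal.IsMaximal := h ▸ IsLocalRing.maximalIdeal.isMaximal R
        letI := Ideal.Quotient.field p.asIdeal
        exact (ringKrullDim_eq_zero_of_field _).le
      rw [hdim] at h0
      exact absurd h0 (not_le.2 (by exact_mod_cast n.succ_pos)))
    have hxp : x ∉ p.asIdeal := hxP _ (Finset.mem_singleton_self _)
    have hx : IsSMulRegular S x := by
      rw [isSMulRegular_iff_right_eq_zero_of_smul]
      intro m hm
      obtain ⟨r, rfl⟩ := Submodule.Quotient.mk_surjective _ m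
      rw [← Submodule.Quotient.mk_smul, Submodule.Quotient.mk_eq_zero] at hm
      rw [Submodule.Quotient.mk_eq_zero]
      exact (p.2.mem_or_mem hm).resolve_left hxp
    have hann : x ∈ (Module.annihilator R S).jacobson := by
      rw [IsLocalRing.jacobson_eq_maximalIdeal _ (by rw [Ideal.annihilator_quotient]; exact p.2.ne_top)]
      exact hxm
    have hq : Module.supportDim R (QuotSMulTop x S) = n := by
      have h1 := Module.supportDim_quotSMulTop_succ_eq_supportDim_mem_jacobson hx hann
      rw [hdim, Nat.cast_succ] at h1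
      exact ENat.WithBot.add_one_cancel.1 h1
    obtain ⟨he, hSS⟩ := quotSMulTop_shortExact hx
    obtain hn0 | hn0 := Nat.eq_zero_or_pos n
    · subst hn0
      haveI := ih _ hq
      refine (dMap_injective hSS 0 ((subsingleton_H0_iff S).2 (eq_bot_iff.2 ?_))).nontrivial
      rintro s ⟨k, hk⟩
      exact (Submodule.mem_bot R).2 ((hx.pow k).right_eq_zero_of_smul (hk _ (Ideal.pow_mem_pow hxm k)))
    · rw [← not_subsingleton_iff_nontrivial]
      intro hz
      obtain ⟨k, rfl⟩ := Nat.exists_eq_succ_of_ne_zero hn0.ne'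
      -- then the degree `k+1` cohomology of `S/xS` is killed by `𝔪 ^ N`
      have hkill : ∀ a ∈ 𝔪 ^ N, ∀ z : LocCoh.H 𝔪 (k + 1) (QuotSMulTop x S), a • z = 0 := by
        intro a ha z
        obtain ⟨y, hy⟩ := (exact_map_dMap hSS (k + 1) z).1 (@Subsingleton.elim _ hz _ _)
        obtain ⟨w, -, hw⟩ := hN (Submodule.smul_mem_smul ha (Submodule.mem_top : y ∈ ⊤))
        rw [← hy]
        refine (map_smul (cmap 𝔪 (k + 1) _) a y).symm.trans ?_
        refine (congrArg _ hw.symm).trans ?_
        refine (congrArg _ (cmap_smul_id (k + 1) x (ModuleCat.of R S) w).symm).trans ?_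
        exact (exact_map hSS (k + 1) _).2 ⟨w, rfl⟩
      exact absurd (subsingleton_of_killed hq hkill) (not_subsingleton_iff_nontrivial.2 (ih _ hq))

end Groth.Agent.H2LC
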