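import Mathlib
import Groth.Prelude.Def_Wider
import Groth.Prelude.Def_DRing3
import Groth.Agent.Lib.H2LCBaseChange
import Groth.Agent.Lib.H2LCTop
import Groth.Agent.S0817

/-! Comparison of top local cohomology for nested supports in a local ring. -/

universe u

open CategoryTheory CategoryTheory.Limits Pointwise

namespace Groth.Agent.H2LC

variable {R : Type u} [CommRing R] [IsNoetherianRing R]

/-- on `J`-torsion modules `H_I = H_{I ⊔ J}`. -/
theorem exists_supEquiv {I J : Ideal R} (i : ℕ) :
    ∀ (M : Type u) [AddCommGroup M] [Module R M], LocCoh.IsPowerTorsion J M →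
      Nonempty (LocCoh.H (I ⊔ J) i M ≃ₗ[R] LocCoh.H I i M) := by
  suffices ∀ i (M : Type u) [AddCommGroup M] [Module R M], LocCoh.IsPowerTorsion J M →
      ∃ φ : LocCoh.H (I ⊔ J) i M ≃ₗ[R] LocCoh.H I i M,
        ∀ h0 : i = 0, ∀ x, toMod (ModuleCat.of R M) (h0 ▸ φ x : LocCoh.H I 0 M) =
          toMod (ModuleCat.of R M) (h0 ▸ x : LocCoh.H (I ⊔ J) 0 M) from
    fun M _ _ hM => ⟨(this i M hM).choose⟩
  intro i
  induction i with
  | zero =>
    intro M _ _ hM
    refine ⟨(torsionEquiv M).trans ((LinearEquiv.ofEq _ _ (torsionSub_sup_eq hM)).trans (torsionEquiv M).symm), ?_⟩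
    intro _ x
    exact congrArg Subtype.val ((torsionEquiv (I := I) M).apply_symm_apply
      (LinearEquiv.ofEq _ _ (torsionSub_sup_eq hM) (torsionEquiv M x)))
  | succ i ih =>
    intro M _ _ hM
    obtain ⟨E, _, _, hE, f, hf⟩ := exists_torsion_injective (I := J) M hM
    haveI : Injective (ModuleCat.of R E) := Module.injective_object_of_injective_module R E (inj := hE.1)
    have hS := lseq_shortExact hf (Submodule.mkQ_surjective _) (LinearMap.exact_map_mkQ_range f)
    have hQ : LocCoh.IsPowerTorsion J (E ⧸ LinearMap.range f) := fun e => by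
      obtain ⟨e, rfl⟩ := Submodule.mkQ_surjective _ e
      obtain ⟨n, hn⟩ := hE.2 e
      exact ⟨n, fun a ha => by rw [← map_smul, hn a ha, map_zero]⟩
    obtain ⟨eQ, heQ⟩ := ih (E ⧸ LinearMap.range f) hQ
    have sI := dMap_surjective (I := I ⊔ J) hS i (subsingleton_of_injective (ModuleCat.of R E) i)
    have sJ := dMap_surjective (I := I) hS i (subsingleton_of_injective (ModuleCat.of R E) i)
    have hk : LinearMap.ker (dMap (I := I ⊔ J) hS i) = LinearMap.ker (dMap (I := I) hS i ∘ₗ eQ.toLinearMap) := by
      ext a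
      rw [LinearMap.mem_ker, LinearMap.mem_ker, LinearMap.comp_apply]
      obtain _ | i := i
      · obtain ⟨eE, heE⟩ : ∃ eE : LocCoh.H (I ⊔ J) 0 E ≃ₗ[R] LocCoh.H I 0 E,
            ∀ y, toMod (ModuleCat.of R E) (eE y) = toMod (ModuleCat.of R E) y :=
          ⟨(torsionEquiv E).trans ((LinearEquiv.ofEq _ _ (torsionSub_sup_eq hE.2)).trans (torsionEquiv E).symm),
            fun y => congrArg Subtype.val ((torsionEquiv (I := I) E).apply_symm_apply
              (LinearEquiv.ofEq _ _ (torsionSub_sup_eq hE.2) (torsionEquiv E y)))⟩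
        have hnat : ∀ y, cmap I 0 (ModuleCat.ofHom (LinearMap.range f).mkQ) (eE y) =
            eQ (cmap (I ⊔ J) 0 (ModuleCat.ofHom (LinearMap.range f).mkQ) y) := fun y => by
          apply toMod_injective (ModuleCat.of R (E ⧸ LinearMap.range f))
          exact ((toMod_natural _ _).trans (congrArg _ (heE y))).trans
            ((toMod_natural (ModuleCat.ofHom (LinearMap.range f).mkQ) y).symm.trans (heQ rfl _).symm)
        constructor
        · intro ha
          obtain ⟨y, rfl⟩ := (exact_map_dMap hS 0 a).1 ha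
          exact (exact_map_dMap hS 0 _).2 ⟨eE y, hnat y⟩
        · intro ha
          obtain ⟨y, hy⟩ := (exact_map_dMap hS 0 (eQ a)).1 ha
          refine (exact_map_dMap hS 0 a).2 ⟨eE.symm y, eQ.injective ?_⟩
          exact ((hnat (eE.symm y)).symm.trans (by rw [eE.apply_symm_apply])).trans hy
      · have i1 := dMap_injective (I := I ⊔ J) hS (i + 1) (subsingleton_of_injective (ModuleCat.of R E) i)
        have i2 := dMap_injective (I := I) hS (i + 1) (subsingleton_of_injective (ModuleCat.of R E) i)
        exact ⟨fun ha => by rw [i1 (ha.trans (map_zero _).symm), map_zero, map_zero],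
          fun ha => by rw [eQ.injective ((i2 (ha.trans (map_zero _).symm)).trans (map_zero _).symm), map_zero]⟩
    refine ⟨((dMap (I := I ⊔ J) hS i).quotKerEquivOfSurjective sI).symm.trans ((Submodule.quotEquivOfEq _ _ hk).trans
      ((dMap (I := I) hS i ∘ₗ eQ.toLinearMap).quotKerEquivOfSurjective (sJ.comp eQ.surjective))), ?_⟩
    intro h0
    exact absurd h0 (Nat.succ_ne_zero i)

variable [IsLocalRing R]

local notation "𝔪" => IsLocalRing.maximalIdeal R

/-- inverting an element of the maximal ideal drops the dimension. -/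
theorem supportDim_away_lt {M : Type u} [AddCommGroup M] [Module R M] [Module.Finite R M] {x : R}
    (hx : x ∈ 𝔪) {n : ℕ} (hn : Module.supportDim R M ≤ n) :
    Module.supportDim (Localization.Away x) (LocalizedModule (Submonoid.powers x) M) <
      ((n : ℕ) : WithBot ℕ∞) := by
  by_contra hc
  obtain ⟨l, hl⟩ := Order.le_krullDim_iff.1 (not_lt.1 hc)
  let g : PrimeSpectrum (Localization.Away x) → PrimeSpectrum R :=
    PrimeSpectrum.comap (algebraMap R (Localization.Away x))
  have hg : ∀ i, g (l i).1 ∈ Module.support R M := fun i => by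
    rw [Module.mem_support_iff_of_finite]
    intro r hr
    refine Module.mem_support_iff_of_finite.1 (l i).2 (Module.mem_annihilator.2 fun z => ?_)
    induction z using LocalizedModule.induction_on with
    | _ m s =>
      rw [algebraMap_smul, LocalizedModule.smul'_mk, Module.mem_annihilator.1 hr m, LocalizedModule.zero_mk]
  have hlt : ∀ i j, i < j → g (l i).1 < g (l j).1 := fun i j h => by
    have hinj : Function.Injective g :=
      PrimeSpectrum.localization_comap_injective (Localization.Away x) (Submonoid.powers x)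
    have hle : g (l i).1 ≤ g (l j).1 := Ideal.comap_mono (Subtype.coe_le_coe.2 (l.strictMono h).le)
    exact lt_of_le_of_ne hle fun e => (l.strictMono h).ne (Subtype.ext (hinj e))
  let l' : LTSeries (Module.support R M) :=
    ⟨l.length, fun i => ⟨g (l i).1, hg i⟩, fun i => hlt _ _ i.castSucc_lt_succ⟩
  have hm : IsLocalRing.closedPoint R ∈ Module.support R M :=
    Module.mem_support_mono (IsLocalRing.le_maximalIdeal (g (l 0).1).2.ne_top) (hg 0)
  have hlast : l'.last < (⟨IsLocalRing.closedPoint R, hm⟩ : Module.support R M) := by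
    refine lt_of_le_of_ne (IsLocalRing.le_maximalIdeal (g (l (Fin.last _)).1).2.ne_top) fun e => ?_
    have hxl : x ∈ (g (l (Fin.last _)).1).asIdeal := by
      rw [show g (l (Fin.last _)).1 = IsLocalRing.closedPoint R from congrArg Subtype.val e]
      exact hx
    exact (l (Fin.last _)).1.2.ne_top (Ideal.eq_top_of_isUnit_mem _ hxl
      (IsLocalization.Away.algebraMap_isUnit x))
  have := (Order.LTSeries.length_le_krullDim (l'.snoc _ hlast)).trans hn
  have h2 : (l'.snoc _ hlast).length = n + 1 := by
    rw [RelSeries.snoc_length]; exact congrArg (· + 1) hl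
  rw [h2] at this
  exact absurd this (not_le.2 (by exact_mod_cast n.lt_succ_self))

/-- `H^{n}_a` is assembled from `H^{n}_{a ⊔ (x)}`. -/
theorem exists_pieces {M : Type u} [AddCommGroup M] [Module R M] [Module.Finite R M] {a : Ideal R} {x : R}
    (hx : x ∈ 𝔪) {n : ℕ} (hn : Module.supportDim R M ≤ ((n + 1 : ℕ) : WithBot ℕ∞)) :
    Nonempty (LocCoh.H (a ⊔ Ideal.span {x}) (n + 1) (DRing.torsionSub (Ideal.span {x}) M) ≃ₗ[R]
      LocCoh.H a (n + 1) (DRing.torsionSub (Ideal.span {x}) M)) ∧
    ∃ φ : LocCoh.H (a ⊔ Ideal.span {x}) (n + 1) (M ⧸ DRing.torsionSub (Ideal.span {x}) M) →ₗ[R]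
      LocCoh.H a (n + 1) (M ⧸ DRing.torsionSub (Ideal.span {x}) M), Function.Surjective φ := by
  refine ⟨exists_supEquiv _ _ (isPowerTorsion_torsionSub M), ?_⟩
  set N := M ⧸ DRing.torsionSub (Ideal.span {x}) M
  let L := LocalizedModule (Submonoid.powers x) N
  let ι : N →ₗ[R] L := LocalizedModule.mkLinearMap (Submonoid.powers x) N
  have hι : Function.Injective ι := by
    rw [injective_iff_map_eq_zero]
    intro m hm
    obtain ⟨⟨_, k, rfl⟩, hk⟩ := (IsLocalizedModule.eq_zero_iff (Submonoid.powers x) ι).1 hm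
    have hk' : x ^ k • m = 0 := hk
    have : m ∈ DRing.torsionSub (Ideal.span {x}) N := ⟨k, fun c hc => by
      rw [Ideal.span_singleton_pow, Ideal.mem_span_singleton'] at hc
      obtain ⟨c, rfl⟩ := hc
      rw [mul_smul, hk', smul_zero]⟩
    rwa [torsionSub_quot_eq_bot, Submodule.mem_bot] at this
  have hC : LocCoh.IsPowerTorsion (Ideal.span {x}) (L ⧸ LinearMap.range ι) := by
    intro z
    obtain ⟨z, rfl⟩ := Submodule.Quotient.mk_surjective _ z
    induction z using LocalizedModule.induction_on with
    | _ m s =>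
      obtain ⟨k, hk⟩ := s.2
      refine ⟨k, fun c hc => ?_⟩
      rw [Ideal.span_singleton_pow, Ideal.mem_span_singleton'] at hc
      obtain ⟨c, rfl⟩ := hc
      rw [← Submodule.Quotient.mk_smul, Submodule.Quotient.mk_eq_zero, mul_smul]
      refine Submodule.smul_mem _ _ ⟨m, ?_⟩
      have hk' : x ^ k = (s : R) := hk
      rw [hk', LocalizedModule.smul'_mk, LocalizedModule.mkLinearMap_apply]
      exact LocalizedModule.mk_cancel_common_right (1 : Submonoid.powers x) s m ▸ (by rw [one_mul]; rfl)
  have hbij : Function.Bijective fun z : L => x • z := by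
    have hu := IsLocalizedModule.map_units ι ⟨x, Submonoid.mem_powers x⟩
    exact (Module.End.isUnit_iff _).1 hu
  haveI : IsNoetherianRing (Localization.Away x) := IsLocalization.isNoetherianRing (Submonoid.powers x) _ inferInstance
  have hLa : Subsingleton (LocCoh.H a (n + 1) L) := by
    obtain ⟨φ, -⟩ := exists_baseEquiv (R' := Localization.Away x) a (n + 1) L
    haveI : Subsingleton (LocCoh.H (a.map (algebraMap R (Localization.Away x))) (n + 1) L) :=
      subsingleton_of_supportDim_lt (supportDim_away_lt (M := N) hx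
        ((Module.supportDim_le_of_surjective _ (Submodule.mkQ_surjective _)).trans hn))
    exact φ.symm.toEquiv.subsingleton
  have hS := lseq_shortExact hι (Submodule.mkQ_surjective _) (LinearMap.exact_map_mkQ_range ι)
  have hLx : ∀ i, Subsingleton (LocCoh.H (a ⊔ Ideal.span {x}) i L) := fun i =>
    subsingleton_of_bijective_smul (Ideal.mem_sup_right (Ideal.mem_span_singleton_self x)) hbij i
  let d := LinearEquiv.ofBijective (dMap (I := a ⊔ Ideal.span {x}) hS n)
    ⟨dMap_injective hS n (hLx n), dMap_surjective hS n (hLx _)⟩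
  obtain ⟨e⟩ := exists_supEquiv (I := a) n (L ⧸ LinearMap.range ι) hC
  exact ⟨dMap (I := a) hS n ∘ₗ e.toLinearMap ∘ₗ d.symm.toLinearMap,
    (dMap_surjective hS n hLa).comp (e.surjective.comp d.symm.surjective)⟩

/-- Artinianness of the top local cohomology. -/
theorem isArtinian_H_dim (a : Ideal R) : ∀ (M : Type u) [AddCommGroup M] [Module R M] [Module.Finite R M]
    (n : ℕ), Module.supportDim R M ≤ n → IsArtinian R (LocCoh.H a n M) := by
  induction a using WellFoundedGT.induction with
  | _ a ih =>
    intro M _ _ _ n hn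
    by_cases htop : a = ⊤
    · subst htop
      haveI : Subsingleton (LocCoh.H (⊤ : Ideal R) n M) :=
        subsingleton_of_bijective_smul (x := 1) Submodule.mem_top (by simp only [one_smul]; exact Function.bijective_id) n
      exact inferInstance
    by_cases ham : a = 𝔪
    · subst ham; exact Groth.Agent.S0817.result R M n
    obtain ⟨x, hx, hxa⟩ := SetLike.exists_of_lt (lt_of_le_of_ne (IsLocalRing.le_maximalIdeal htop) ham)
    have hlt : a < a ⊔ Ideal.span {x} := lt_of_le_of_ne le_sup_left fun h =>
      hxa (h ▸ Ideal.mem_sup_right (Ideal.mem_span_singleton_self x))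
    obtain _ | k := n
    · haveI : IsArtinian R (LocCoh.H 𝔪 0 M) := Groth.Agent.S0817.result R M 0
      have htor : ∀ m : M, m ∈ DRing.torsionSub 𝔪 M := by
        rcases subsingleton_or_nontrivial M with hM | hM
        · intro m; rw [Subsingleton.elim m 0]; exact Submodule.zero_mem _
        have h0 : Module.supportDim R M = 0 := by
          refine le_antisymm hn ?_
          obtain ⟨e, he⟩ := WithBot.ne_bot_iff_exists.1 (Module.supportDim_ne_bot_of_nontrivial R M)
          rw [← he]; exact WithBot.coe_le_coe.2 bot_le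
        have hsupp := support_of_supportDim_eq_zero (R := R) (N := M) h0
        rw [Module.support_eq_zeroLocus, PrimeSpectrum.zeroLocus_eq_iff] at hsupp
        obtain ⟨k, hk⟩ := Ideal.exists_pow_le_of_le_radical_of_fg
          (le_of_le_of_eq Ideal.le_radical hsupp.symm) (IsNoetherian.noetherian 𝔪)
        exact fun m => ⟨k, fun c hc => Module.mem_annihilator.1 (hk hc) m⟩
      haveI : IsArtinian R M := isArtinian_of_linearEquiv ((torsionEquiv (I := 𝔪) M).trans
        ((LinearEquiv.ofEq _ _ (eq_top_iff.2 fun m _ => htor m)).trans Submodule.topEquiv))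
      exact isArtinian_of_linearEquiv (torsionEquiv (I := a) M).symm
    · obtain ⟨⟨e⟩, φ, hφ⟩ := exists_pieces (M := M) (a := a) hx hn
      haveI := ih _ hlt (DRing.torsionSub (Ideal.span {x}) M) (k + 1)
        ((Module.supportDim_le_of_injective _ (Submodule.injective_subtype _)).trans hn)
      haveI := ih _ hlt (M ⧸ DRing.torsionSub (Ideal.span {x}) M) (k + 1)
        ((Module.supportDim_le_of_surjective _ (Submodule.mkQ_surjective _)).trans hn)
      haveI h1 : IsArtinian R (LocCoh.H a (k + 1) (DRing.torsionSub (Ideal.span {x}) M)) := isArtinian_of_linearEquiv e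
      haveI h2 : IsArtinian R (LocCoh.H a (k + 1) (M ⧸ DRing.torsionSub (Ideal.span {x}) M)) :=
        isArtinian_of_surjective _ φ hφ
      have hS := lseq_shortExact (DRing.torsionSub (Ideal.span {x}) M).injective_subtype
        (Submodule.mkQ_surjective _) (LinearMap.exact_subtype_mkQ _)
      exact isArtinian_of_range_eq_ker _ _ (LinearMap.exact_iff.1 (exact_map hS (k + 1))).symm

/-- vanishing in the top degree passes to smaller supports. -/
theorem subsingleton_of_le {b : Ideal R} (hb : b ≤ 𝔪) {n : ℕ}
    (h : ∀ (M : Type u) [AddCommGroup M] [Module R M] [Module.Finite R M],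
      Module.supportDim R M ≤ n → Subsingleton (LocCoh.H b n M)) :
    ∀ (a : Ideal R), a ≤ b → ∀ (M : Type u) [AddCommGroup M] [Module R M] [Module.Finite R M],
      Module.supportDim R M ≤ n → Subsingleton (LocCoh.H a n M) := by
  intro a
  induction a using WellFoundedGT.induction with
  | _ a ih =>
    intro hab M _ _ _ hn
    by_cases hEq : a = b
    · subst hEq; exact h M hn
    obtain _ | k := n
    · haveI := h M hn
      have hle : DRing.torsionSub b M ≤ DRing.torsionSub a M := fun m ⟨j, hj⟩ =>
        ⟨j, fun c hc => hj c (Ideal.pow_right_mono hab j hc)⟩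
      rcases subsingleton_or_nontrivial M with hM | hM
      · exact subsingleton_of_subsingleton 0
      · exfalso
        obtain ⟨e, he⟩ := WithBot.ne_bot_iff_exists.1 (Module.supportDim_ne_bot_of_nontrivial R M)
        have h0 : Module.supportDim R M = 0 :=
          le_antisymm hn (by rw [← he]; exact WithBot.coe_le_coe.2 bot_le)
        have hsupp := support_of_supportDim_eq_zero (R := R) (N := M) h0
        rw [Module.support_eq_zeroLocus, PrimeSpectrum.zeroLocus_eq_iff] at hsupp
        obtain ⟨j, hj⟩ := Ideal.exists_pow_le_of_le_radical_of_fg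
          (hb.trans (le_of_le_of_eq Ideal.le_radical hsupp.symm)) (IsNoetherian.noetherian b)
        obtain ⟨m, hm⟩ := exists_ne (0 : M)
        have := (subsingleton_H0_iff M).1 (h M hn)
        exact hm ((Submodule.mem_bot R).1 (this ▸ (⟨j, fun c hc => Module.mem_annihilator.1 (hj hc) m⟩ :
          m ∈ DRing.torsionSub b M)))
    · obtain ⟨x, hx, hxa⟩ := SetLike.exists_of_lt (lt_of_le_of_ne hab hEq)
      have hlt : a < a ⊔ Ideal.span {x} := lt_of_le_of_ne le_sup_left fun h =>
        hxa (h ▸ Ideal.mem_sup_right (Ideal.mem_span_singleton_self x))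
      have hle : a ⊔ Ideal.span {x} ≤ b := sup_le hab ((Ideal.span_singleton_le_iff_mem b).2 hx)
      obtain ⟨⟨e⟩, φ, hφ⟩ := exists_pieces (M := M) (a := a) (hb hx) hn
      haveI := ih _ hlt hle (DRing.torsionSub (Ideal.span {x}) M)
        ((Module.supportDim_le_of_injective _ (Submodule.injective_subtype _)).trans hn)
      haveI := ih _ hlt hle (M ⧸ DRing.torsionSub (Ideal.span {x}) M)
        ((Module.supportDim_le_of_surjective _ (Submodule.mkQ_surjective _)).trans hn)
      exact subsingleton_mid (DRing.torsionSub (Ideal.span {x}) M).injective_subtype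
        (Submodule.mkQ_surjective _) (LinearMap.exact_subtype_mkQ _) _ e.symm.toEquiv.subsingleton
        hφ.subsingleton

/-- monotonicity of top-degree vanishing on the ring. -/
theorem subsingleton_H_dim_of_le {a b : Ideal R} (hab : a ≤ b) (hb : b ≤ 𝔪) {d : ℕ}
    (hd : ringKrullDim R = d) (h : Subsingleton (LocCoh.H b d R)) : Subsingleton (LocCoh.H a d R) := by
  refine subsingleton_of_le hb (fun M _ _ _ _ => ?_) a hab R (le_of_eq ((Module.supportDim_self_eq_ringKrullDim R).trans hd))
  obtain ⟨k, π, hπ⟩ := Module.Finite.exists_fin' R M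
  refine subsingleton_of_surjective π hπ d ?_ (subsingleton_of_supportDim_lt
    (lt_of_le_of_lt ((Module.supportDim_le_ringKrullDim R _).trans hd.le) (by exact_mod_cast d.lt_succ_self)))
  clear hπ π
  induction k with
  | zero => exact subsingleton_of_subsingleton d
  | succ k ihk =>
    let e : (R × (Fin k → R)) ≃ₗ[R] (Fin (k + 1) → R) := Fin.consLinearEquiv R fun _ => R
    have : Subsingleton (LocCoh.H b d (R × (Fin k → R))) :=
      subsingleton_mid (f := LinearMap.inl R R (Fin k → R)) (g := LinearMap.snd R R (Fin k → R))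
        LinearMap.inl_injective LinearMap.snd_surjective (fun z => by
          constructor
          · intro hz; exact ⟨z.1, Prod.ext rfl hz.symm⟩
          · rintro ⟨w, rfl⟩; rfl) d h ihk
    exact ((localCohomology b d).mapIso e.toModuleIso).toLinearEquiv.symm.toEquiv.subsingleton

omit [IsNoetherianRing R] in
/-- a prime just below the maximal ideal. -/
theorem ringKrullDim_quotient_eq_one {q : Ideal R} [hq : q.IsPrime] (hne : q ≠ 𝔪)
    (hmax : ∀ r : Ideal R, r.IsPrime → q < r → r = 𝔪) : ringKrullDim (R ⧸ q) = 1 := by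
  have hqm : q ≤ 𝔪 := IsLocalRing.le_maximalIdeal hq.ne_top
  rw [ringKrullDim_quotient]
  refine le_antisymm ?_ ?_
  · rw [Order.krullDim_le_one_iff]
    intro z
    by_cases h : z.1.asIdeal = q
    · exact Or.inl fun w _ => h.le.trans w.2
    · refine Or.inr fun w hzw => ?_
      have hz : z.1.asIdeal = 𝔪 := hmax _ z.1.2 (lt_of_le_of_ne z.2 (Ne.symm h))
      exact (IsLocalRing.le_maximalIdeal w.1.2.ne_top).trans hz.ge
  · exact Order.one_le_krullDim_iff.2 ⟨⟨⟨q, hq⟩, le_refl q⟩, ⟨IsLocalRing.closedPoint R, hqm⟩,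
      lt_of_le_of_ne hqm fun h => hne (congrArg (fun z : PrimeSpectrum.zeroLocus (q : Set R) => z.1.asIdeal) h)⟩

/-- above an ideal of positive dimension lies a prime of dimension one. -/
theorem exists_prime_dim_one {I : Ideal R} (h : 0 < ringKrullDim (R ⧸ I)) :
    ∃ q : Ideal R, q.IsPrime ∧ I ≤ q ∧ ringKrullDim (R ⧸ q) = 1 := by
  rw [ringKrullDim_quotient, Order.krullDim_pos_iff] at h
  obtain ⟨a, b, hab⟩ := h
  have ha : a.1.asIdeal ≠ 𝔪 := fun e => by
    have h1 : b.1.asIdeal ≤ a.1.asIdeal := e ▸ IsLocalRing.le_maximalIdeal b.1.2.ne_top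
    exact hab.not_ge h1
  obtain ⟨q, ⟨hq, hIq, hqm⟩, hmax⟩ := (wellFounded_gt (α := Ideal R)).has_min
    {q : Ideal R | q.IsPrime ∧ I ≤ q ∧ q ≠ 𝔪} ⟨a.1.asIdeal, a.1.2, a.2, ha⟩
  exact ⟨q, hq, hIq, ringKrullDim_quotient_eq_one hqm fun r hr hqr => by
    by_contra hne; exact hmax r ⟨hr, hIq.trans hqr.le, hne⟩ hqr⟩

omit [IsLocalRing R] in
/-- vanishing on a module propagates to top dimensional primes of its support. -/
theorem subsingleton_quotient_prime {I : Ideal R} {d : ℕ} (hd : ringKrullDim R ≤ d) {M : Type u}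
    [AddCommGroup M] [Module R M] [Module.Finite R M] (h : Subsingleton (LocCoh.H I d M))
    {p : PrimeSpectrum R} (hp : p ∈ Module.support R M) : Subsingleton (LocCoh.H I d (R ⧸ p.asIdeal)) := by
  obtain ⟨f, hf⟩ := exists_hom_quotient hp
  have hall : ∀ (N : Type u) [AddCommGroup N] [Module R N], Module.supportDim R N < ((d + 1 : ℕ) : WithBot ℕ∞) :=
    fun N _ _ => lt_of_le_of_lt ((Module.supportDim_le_ringKrullDim R N).trans hd) (by exact_mod_cast d.lt_succ_self)
  have hA : Subsingleton (LocCoh.H I d (LinearMap.range f)) :=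
    subsingleton_of_surjective f.rangeRestrict f.surjective_rangeRestrict _ h
      (subsingleton_of_supportDim_lt (hall _))
  refine subsingleton_mid (LinearMap.range f).injective_subtype (Submodule.mkQ_surjective _)
    (LinearMap.exact_subtype_mkQ _) _ hA (subsingleton_of_supportDim_lt ?_)
  obtain ⟨m, hm⟩ := DFunLike.ne_iff.1 hf
  obtain ⟨a, ha⟩ := Submodule.Quotient.mk_surjective _ (f m)
  have hap : a ∉ p.asIdeal := fun h => hm (ha.symm.trans ((Submodule.Quotient.mk_eq_zero _).2 h))
  have hmins : ∀ q ∈ (Module.annihilator R (R ⧸ p.asIdeal)).minimalPrimes, a ∉ q := by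
    intro q hq
    rw [Ideal.annihilator_quotient, Ideal.minimalPrimes_eq_subsingleton_self, Set.mem_singleton_iff] at hq
    exact hq ▸ hap
  have hle := Module.supportDim_quotSMulTop_succ_le_of_notMem_minimalPrimes hmins
  refine lt_of_le_of_lt ?_ (lt_of_succ_le hle (hall _))
  have hsub : a • (⊤ : Submodule R (R ⧸ p.asIdeal)) ≤ LinearMap.range f := by
    rintro _ ⟨z, -, rfl⟩
    obtain ⟨z, rfl⟩ := Submodule.Quotient.mk_surjective _ z
    refine ⟨z • m, ?_⟩
    show f (z • m) = a • Submodule.Quotient.mk z
    rw [map_smul, ← ha, ← Submodule.Quotient.mk_smul, ← Submodule.Quotient.mk_smul, smul_eq_mul, smul_eq_mul, mul_comm]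
  exact Module.supportDim_le_of_surjective (Submodule.factor hsub) (Submodule.factor_surjective hsub)

end Groth.Agent.H2LC
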