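import Mathlib
import Groth.Prelude.Def_CAlg
import Groth.Prelude.Def_Wider
import Groth.Agent.Lib.H2Depth
import Groth.Agent.Lib.H2DepthMore
import Groth.Agent.Lib.H2LCShift
import Groth.Agent.Lib.H2LCCd

/-! Depth and localisation: `depth_I M = inf_{p ⊇ I} depth M_p`; depth via vanishing of local cohomology. -/

universe u v

open CategoryTheory Pointwise RingTheory.Sequence

namespace Groth.Agent.H2DepthLocal

open Groth.Agent.H2Depth Groth.Agent.H2DepthMore Groth.Agent.H2LC

variable {R : Type u} [CommRing R] [IsNoetherianRing R] {M : Type v} [AddCommGroup M] [Module R M]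
  [Module.Finite R M]

omit [IsNoetherianRing R] [Module.Finite R M] in
/-- clearing denominators in `JM_p`. -/
lemma exists_smul_mem {p : Ideal R} [p.IsPrime] (J : Ideal R) {z : LocalizedModule p.primeCompl M}
    (hz : z ∈ (J.map (algebraMap R (Localization.AtPrime p))) • (⊤ : Submodule (Localization.AtPrime p) (LocalizedModule p.primeCompl M))) :
    ∃ s ∈ p.primeCompl, ∃ w ∈ (J • ⊤ : Submodule R M), s • z = LocalizedModule.mkLinearMap p.primeCompl M w := by
  set A := Localization.AtPrime p
  set j := LocalizedModule.mkLinearMap p.primeCompl M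
  refine Submodule.smul_induction_on hz (fun a ha x _ => ?_) (fun x y hx hy => ?_)
  · obtain ⟨⟨⟨b, hb⟩, t⟩, ht⟩ := (IsLocalization.mem_map_algebraMap_iff p.primeCompl A).1 ha
    obtain ⟨⟨m, u⟩, hu⟩ := IsLocalizedModule.surj p.primeCompl j x
    refine ⟨(t : R) * u, p.primeCompl.mul_mem t.2 u.2, b • m, Submodule.smul_mem_smul hb trivial, ?_⟩
    have hu' : (u : R) • x = j m := hu
    rw [map_smul, ← hu', mul_smul, ← algebraMap_smul A b, ← ht, ← algebraMap_smul A (t : R), ← algebraMap_smul A (u : R),
      ← algebraMap_smul A (u : R) x, smul_smul, smul_smul, smul_smul]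
    congr 1
    ring
  · obtain ⟨s, hs, w, hw, e⟩ := hx
    obtain ⟨s', hs', w', hw', e'⟩ := hy
    refine ⟨s * s', p.primeCompl.mul_mem hs hs', s' • w + s • w', Submodule.add_mem _ (Submodule.smul_mem _ _ hw) (Submodule.smul_mem _ _ hw'), ?_⟩
    rw [map_add, map_smul, map_smul, ← e, ← e', smul_add, smul_smul, smul_smul, mul_comm s' s]

/-- a regular sequence with an associated prime of the quotient computes the depth there. -/
theorem depth_eq_length_of_ass {rs : List R} (hrs : IsWeaklyRegular M rs) {p : Ideal R} [hp' : p.IsPrime]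
    (hp : p ∈ associatedPrimes R (M ⧸ (Ideal.ofList rs • ⊤ : Submodule R M))) (hmem : ∀ r ∈ rs, r ∈ p) :
    LocCoh.depth (Localization.AtPrime p) (LocalizedModule p.primeCompl M) = rs.length := by
  set A := Localization.AtPrime p
  set N := LocalizedModule p.primeCompl M
  set j := LocalizedModule.mkLinearMap p.primeCompl M
  haveI : IsNoetherianRing A := IsLocalization.isNoetherianRing p.primeCompl _ inferInstance
  haveI := IsLocalization.flat A p.primeCompl
  have hsupp : (⟨p, hp'⟩ : PrimeSpectrum R) ∈ Module.support R M :=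
    ((mem_support_quot_iff _ _).1 (mem_support_of_mem_associatedPrimes hp)).1
  haveI : Nontrivial N := hsupp
  have hreg : IsWeaklyRegular N (rs.map (algebraMap R A)) :=
    hrs.of_flat_of_isBaseChange (IsLocalizedModule.isBaseChange p.primeCompl A j)
  have hmem' : ∀ r ∈ rs.map (algebraMap R A), r ∈ IsLocalRing.maximalIdeal A := fun r hr => by
    obtain ⟨a, ha, rfl⟩ := List.mem_map.1 hr
    exact (IsLocalization.AtPrime.to_map_mem_maximal_iff _ p a).2 (hmem a ha)
  rw [LocCoh.depth, idealDepth_eq_length (smul_top_ne_top le_rfl) hreg hmem' ?_, List.length_map]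
  obtain ⟨u, hu⟩ := (isAssociatedPrime_iff.1 hp).2
  obtain ⟨m, rfl⟩ := Submodule.Quotient.mk_surjective _ u
  have hann : ∀ r : R, r ∈ p ↔ r • m ∈ (Ideal.ofList rs • ⊤ : Submodule R M) := fun r => by
    rw [hu, Submodule.mem_colon_singleton, Submodule.mem_bot, ← Submodule.Quotient.mk_smul, Submodule.Quotient.mk_eq_zero]
  have hofl : Ideal.ofList (rs.map (algebraMap R A)) = (Ideal.ofList rs).map (algebraMap R A) :=
    (Ideal.map_ofList _ _).symm
  refine noReg_of_killed (u := Submodule.Quotient.mk (j m)) ?_ ?_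
  · intro h0
    rw [Submodule.Quotient.mk_eq_zero, hofl] at h0
    obtain ⟨s, hs, w, hw, e⟩ := exists_smul_mem _ h0
    rw [← map_smul, ← sub_eq_zero, ← map_sub, IsLocalizedModule.eq_zero_iff p.primeCompl j] at e
    obtain ⟨c, hc⟩ := e
    have hc' : (c : R) • (s • m - w) = 0 := hc
    rw [smul_sub, sub_eq_zero, smul_smul] at hc'
    have : (c : R) * s ∈ p := (hann _).2 (hc' ▸ Submodule.smul_mem _ _ hw)
    exact (p.primeCompl.mul_mem c.2 hs) this
  · intro r hr
    rw [← Localization.AtPrime.map_eq_maximalIdeal] at hr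
    rw [← Submodule.Quotient.mk_smul, Submodule.Quotient.mk_eq_zero, hofl]
    refine Submodule.span_induction (p := fun r _ => r • j m ∈ ((Ideal.ofList rs).map (algebraMap R A)) • (⊤ : Submodule A N))
      ?_ (by rw [zero_smul]; exact Submodule.zero_mem _) (fun a b _ _ ha hb => by rw [add_smul]; exact Submodule.add_mem _ ha hb)
      (fun c a _ ha => by rw [smul_eq_mul, mul_smul]; exact Submodule.smul_mem _ c ha) hr
    rintro _ ⟨a, ha, rfl⟩
    rw [algebraMap_smul, ← map_smul]
    refine Submodule.smul_induction_on ((hann a).1 ha) (fun b hb x _ => ?_) (fun x y hx hy => by rw [map_add]; exact Submodule.add_mem _ hx hy)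
    rw [map_smul, ← algebraMap_smul A b]
    exact Submodule.smul_mem_smul (Ideal.mem_map_of_mem _ hb) Submodule.mem_top

omit [IsNoetherianRing R] [Module.Finite R M] in
lemma depth_eq_top_of_subsingleton {p : Ideal R} [p.IsPrime] (h : Subsingleton (LocalizedModule p.primeCompl M)) :
    LocCoh.depth (Localization.AtPrime p) (LocalizedModule p.primeCompl M) = ⊤ := by
  rw [LocCoh.depth, LocCoh.idealDepth, if_pos (Subsingleton.elim _ _)]

theorem idealDepth_le_depth {I p : Ideal R} [p.IsPrime] (hIp : I ≤ p) :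
    LocCoh.idealDepth I M ≤ LocCoh.depth (Localization.AtPrime p) (LocalizedModule p.primeCompl M) := by
  by_cases hIM : I • (⊤ : Submodule R M) = ⊤
  · have hs : (⟨p, ‹_›⟩ : PrimeSpectrum R) ∉ Module.support R M := fun h => by
      have hq : (⟨p, ‹_›⟩ : PrimeSpectrum R) ∈ Module.support R (M ⧸ (I • ⊤ : Submodule R M)) :=
        (mem_support_quot_iff I _).2 ⟨h, hIp⟩
      haveI := Submodule.Quotient.subsingleton_iff.2 hIM
      rw [Module.support_eq_empty] at hq
      exact hq
    rw [depth_eq_top_of_subsingleton (Module.notMem_support_iff.1 hs)]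
    exact le_top
  · obtain ⟨ss, h1, h2, -, h4⟩ := exists_idealDepth_eq hIM
    rw [h4]
    exact le_idealDepth (hasReg_localization hIp ⟨ss, rfl, h1, h2⟩)

theorem exists_prime_depth_eq {I : Ideal R} (hIM : I • (⊤ : Submodule R M) ≠ ⊤) :
    ∃ p : PrimeSpectrum R, I ≤ p.asIdeal ∧ p ∈ Module.support R M ∧
      LocCoh.depth (Localization.AtPrime p.asIdeal) (LocalizedModule p.asIdeal.primeCompl M) =
        LocCoh.idealDepth I M := by
  obtain ⟨ss, h1, h2, h3, h4⟩ := exists_idealDepth_eq hIM
  obtain ⟨p, hp, hIp⟩ := exists_associatedPrime_of_noReg h3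
  haveI := hp.isPrime
  exact ⟨⟨p, hp.isPrime⟩, hIp, ((mem_support_quot_iff _ _).1 (mem_support_of_mem_associatedPrimes hp)).1,
    by rw [h4]; exact depth_eq_length_of_ass h1 hp fun r hr => hIp (h2 r hr)⟩

theorem idealDepth_eq_iInf (I : Ideal R) : LocCoh.idealDepth I M = ⨅ (p : PrimeSpectrum R) (_ : I ≤ p.asIdeal),
    LocCoh.depth (Localization.AtPrime p.asIdeal) (LocalizedModule p.asIdeal.primeCompl M) := by
  refine le_antisymm (le_iInf₂ fun p hp => idealDepth_le_depth hp) ?_
  by_cases hIM : I • (⊤ : Submodule R M) = ⊤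
  · rw [LocCoh.idealDepth, if_pos hIM]; exact le_top
  · obtain ⟨p, hIp, -, hp⟩ := exists_prime_depth_eq hIM
    exact (iInf₂_le p hIp).trans hp.le

section LC

variable {M : Type u} [AddCommGroup M] [Module R M] [Module.Finite R M]

/-- depth via vanishing of local cohomology, with no hypothesis on `IM`. -/
theorem le_idealDepth_iff {I : Ideal R} {k : ℕ} :
    (k : ℕ∞) ≤ LocCoh.idealDepth I M ↔ ∀ i < k, Subsingleton (LocCoh.H I i M) := by
  by_cases hIM : I • (⊤ : Submodule R M) = ⊤
  · rw [LocCoh.idealDepth, if_pos hIM]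
    refine iff_of_true le_top fun i _ => ?_
    obtain ⟨r, hr, hrm⟩ := Submodule.exists_mem_and_smul_eq_self_of_fg_of_le_smul I (⊤ : Submodule R M)
      Module.Finite.fg_top (by rw [hIM])
    refine subsingleton_of_bijective_smul hr ?_ i
    rw [show (fun m : M => r • m) = id from funext fun m => hrm m trivial]
    exact Function.bijective_id
  · obtain ⟨ss, h1, h2, h3, h4⟩ := exists_idealDepth_eq hIM
    rw [h4, Nat.cast_le]
    refine ⟨fun hk i hi => subsingleton_of_hasReg ⟨ss, rfl, h1, h2⟩ i (hi.trans_le hk), fun h => ?_⟩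
    by_contra hc
    exact not_subsingleton_iff_nontrivial.2 (nontrivial_of_maximal h1 h2 h3) (h _ (not_le.1 hc))

end LC

end Groth.Agent.H2DepthLocal
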