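import Mathlib.RingTheory.RegularLocalRing.Defs
import Mathlib.RingTheory.KrullDimension.Regular
import Mathlib.RingTheory.Regular.RegularSequence
import Mathlib.RingTheory.Ideal.Cotangent
import Mathlib.RingTheory.Ideal.KrullsHeightTheorem
import Mathlib.RingTheory.Ideal.MinimalPrime.Localization
import Mathlib.LinearAlgebra.Dimension.Finrank
import Mathlib.RingTheory.Flat.Basic

/-!
# Basic theory of regular local rings

* quotients by part of a regular system of parameters are regular;
* regular local rings are domains;
* regular systems of parameters are regular sequences.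
-/

set_option autoImplicit false
set_option maxHeartbeats 400000

universe u

open IsLocalRing

namespace Groth.Agent.RegLocal

variable {R : Type u} [CommRing R]

/-- A regular local ring has natural-number dimension equal to the span finrank of the maximal ideal. -/
lemma dim_eq [IsRegularLocalRing R] :
    ringKrullDim R = ((maximalIdeal R).spanFinrank : WithBot ℕ∞) :=
  ((isRegularLocalRing_iff R).mp inferInstance).symm

lemma isLocalRing_quotient [IsLocalRing R] {I : Ideal R} (hI : I ≤ maximalIdeal R) :
    IsLocalRing (R ⧸ I) :=
  have : Nontrivial (R ⧸ I) := Ideal.Quotient.nontrivial_iff.mpr fun h =>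
    (maximalIdeal.isMaximal R).ne_top (top_le_iff.mp (h ▸ hI))
  IsLocalRing.of_surjective' (Ideal.Quotient.mk I) Ideal.Quotient.mk_surjective

lemma map_maximalIdeal_quotient [IsLocalRing R] {I : Ideal R} [IsLocalRing (R ⧸ I)] :
    (maximalIdeal R).map (Ideal.Quotient.mk I) = maximalIdeal (R ⧸ I) :=
  IsLocalRing.map_maximalIdeal_of_surjective _ Ideal.Quotient.mk_surjective

/-- If `s ∪ t` generates the maximal ideal with `s.card + t.card ≤ dim R`, then `R/(s)` is
regular and its dimension plus `s.card` is `dim R`. -/
theorem quotient_span [IsRegularLocalRing R] (s t : Finset R)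
    (hspan : Ideal.span ((s : Set R) ∪ (t : Set R)) = maximalIdeal R)
    (hcard : s.card + t.card ≤ (maximalIdeal R).spanFinrank) :
    IsRegularLocalRing (R ⧸ Ideal.span (s : Set R)) ∧
      ringKrullDim (R ⧸ Ideal.span (s : Set R)) = (t.card : WithBot ℕ∞) ∧
      s.card + t.card = (maximalIdeal R).spanFinrank := by
  classical
  have hs : Ideal.span (s : Set R) ≤ maximalIdeal R :=
    hspan ▸ Ideal.span_mono Set.subset_union_left
  have hloc := isLocalRing_quotient hs
  set π := Ideal.Quotient.mk (Ideal.span (s : Set R)) with hπ
  have h1 : (maximalIdeal (R ⧸ Ideal.span (s : Set R))).spanFinrank ≤ t.card := by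
    have : maximalIdeal (R ⧸ Ideal.span (s : Set R)) = Ideal.span ↑(t.image π) := by
      rw [← map_maximalIdeal_quotient, ← hspan, Ideal.span_union, Ideal.map_sup,
        Ideal.map_quotient_self, bot_sup_eq, Ideal.map_span, Finset.coe_image]
    rw [this]
    refine (Submodule.spanFinrank_span_le_ncard_of_finite (Finset.finite_toSet _)).trans ?_
    rw [Set.ncard_coe_finset]
    exact Finset.card_image_le
  have h2 := ringKrullDim_le_spanFinrank_maximalIdeal (R := R ⧸ Ideal.span (s : Set R))
  have h3 : ringKrullDim R ≤ ringKrullDim (R ⧸ Ideal.span (s : Set R)) + s.card :=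
    ringKrullDim_le_ringKrullDim_quotient_add_card (R := R) s fun x hx => by
      rw [IsLocalRing.ringJacobson_eq_maximalIdeal]
      exact hs (Ideal.subset_span hx)
  rw [dim_eq] at h3
  -- a natural number for the dimension of the quotient
  obtain ⟨e, he⟩ : ∃ e : ℕ, ringKrullDim (R ⧸ Ideal.span (s : Set R)) = (e : WithBot ℕ∞) := by
    obtain ⟨a, ha⟩ := WithBot.ne_bot_iff_exists.mp
      (ringKrullDim_ne_bot (R := R ⧸ Ideal.span (s : Set R)))
    rw [← ha] at h2 ⊢
    have h2' : a ≤ ((maximalIdeal (R ⧸ Ideal.span (s : Set R))).spanFinrank : ℕ∞) :=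
      WithBot.coe_le_coe.mp h2
    obtain ⟨e, rfl⟩ := ENat.ne_top_iff_exists.mp (ne_top_of_le_ne_top (ENat.coe_ne_top _) h2')
    exact ⟨e, rfl⟩
  rw [he] at h2 h3 ⊢
  norm_cast at h2 h3
  refine ⟨IsRegularLocalRing.of_spanFinrank_maximalIdeal_le _ ?_, ?_, ?_⟩
  · rw [he]; norm_cast; omega
  · norm_cast; omega
  · omega

/-- Elements of `m` with linearly independent classes in the cotangent space extend to a
regular system of parameters. -/
theorem exists_complement [IsLocalRing R] [IsNoetherianRing R] [DecidableEq R]
    {ι : Type*} [Fintype ι] (f : ι → R) (hf : ∀ i, f i ∈ maximalIdeal R)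
    (hli : LinearIndependent (ResidueField R)
      (fun i => (maximalIdeal R).toCotangent ⟨f i, hf i⟩)) :
    Function.Injective f ∧ ∃ t : Finset R,
      Ideal.span (Set.range f ∪ (t : Set R)) = maximalIdeal R ∧
      Fintype.card ι + t.card = (maximalIdeal R).spanFinrank := by
  classical
  refine ⟨fun i j h => hli.injective (congrArg (maximalIdeal R).toCotangent (Subtype.ext h)), ?_⟩
  let b := Module.Basis.sumExtend hli
  have : Fintype (Module.Basis.sumExtendIndex hli) :=
    @Fintype.sumRight ι _ (FiniteDimensional.fintypeBasisIndex b)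
  choose g hg using (maximalIdeal R).toCotangent_surjective
  let t : Finset R := Finset.univ.image fun j : Module.Basis.sumExtendIndex hli => (g (b (Sum.inr j)) : R)
  have hcard : Fintype.card ι + Fintype.card (Module.Basis.sumExtendIndex hli)
      = (maximalIdeal R).spanFinrank := by
    rw [← Fintype.card_sum, spanFinrank_maximalIdeal_eq_finrank_cotangentSpace,
      Module.finrank_eq_card_basis b]
  have hspan : Ideal.span (Set.range f ∪ (t : Set R)) = maximalIdeal R := by
    let S : Set (maximalIdeal R) :=
      Set.range (Sum.elim (fun i => (⟨f i, hf i⟩ : maximalIdeal R)) (fun j => g (b (Sum.inr j))))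
    have hS : Submodule.span R S = ⊤ := by
      rw [← CotangentSpace.span_image_eq_top_iff, ← b.span_eq]
      congr 1
      rw [← Set.range_comp]
      congr 1
      funext x
      rcases x with i | j
      · simp [b, Module.Basis.sumExtend, Module.Basis.coe_extend, Equiv.Set.sumDiffSubset]
        rfl
      · simp [hg]
    have := congrArg (Submodule.map (maximalIdeal R).subtype) hS
    rw [Submodule.map_span, Submodule.map_top, Submodule.range_subtype] at this
    refine Eq.trans ?_ this
    congr 1
    simp only [S, ← Set.range_comp, Set.Sum.elim_range, Set.image_union, t, Finset.coe_image,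
      Finset.coe_univ, Set.image_univ]
    rfl
  refine ⟨t, hspan, ?_⟩
  have h1 : t.card ≤ Fintype.card (Module.Basis.sumExtendIndex hli) := Finset.card_image_le
  have h2 : (maximalIdeal R).spanFinrank ≤ Fintype.card ι + t.card := by
    conv_lhs => rw [← hspan, show Set.range f = ((Finset.univ.image f : Finset R) : Set R) by simp,
      ← Finset.coe_union]
    refine (Submodule.spanFinrank_span_le_ncard_of_finite (Finset.finite_toSet _)).trans ?_
    rw [Set.ncard_coe_finset]
    exact (Finset.card_union_le _ _).trans (Nat.add_le_add_right Finset.card_image_le _)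
  omega

/-- Quotient by elements with independent classes in the cotangent space. -/
theorem quotient_of_linearIndependent [IsRegularLocalRing R]
    {ι : Type*} [Fintype ι] (f : ι → R) (hf : ∀ i, f i ∈ maximalIdeal R)
    (hli : LinearIndependent (ResidueField R)
      (fun i => (maximalIdeal R).toCotangent ⟨f i, hf i⟩)) :
    IsRegularLocalRing (R ⧸ Ideal.span (Set.range f)) ∧
      ringKrullDim (R ⧸ Ideal.span (Set.range f)) + (Fintype.card ι : WithBot ℕ∞) =
        ringKrullDim R := by
  classical
  obtain ⟨hinj, t, hspan, hcard⟩ := exists_complement f hf hli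
  have hrange : Set.range f = ((Finset.univ.image f : Finset R) : Set R) := by simp
  rw [hrange] at hspan ⊢
  have hc : (Finset.univ.image f).card = Fintype.card ι := Finset.card_image_of_injective _ hinj
  obtain ⟨h1, h2, h3⟩ := quotient_span _ t hspan (by rw [hc]; exact hcard.le)
  refine ⟨h1, ?_⟩
  rw [h2, dim_eq, ← hcard, Nat.cast_add, add_comm]

/-- Quotient by an element of `m \ m ^ 2`. -/
theorem quotient_singleton [IsRegularLocalRing R] {x : R} (hx : x ∈ maximalIdeal R)
    (hx2 : x ∉ maximalIdeal R ^ 2) :
    IsRegularLocalRing (R ⧸ Ideal.span {x}) ∧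
      ringKrullDim (R ⧸ Ideal.span {x}) + 1 = ringKrullDim R := by
  have := quotient_of_linearIndependent (fun _ : Unit => x) (fun _ => hx) (by
    rw [linearIndependent_unique_iff, Ne, Ideal.toCotangent_eq_zero]
    exact hx2)
  have e : Set.range (fun _ : Unit => x) = {x} := Set.range_const
  rw [e] at this
  simpa using this

/-- A regular local ring is a domain. -/
theorem isDomain [IsRegularLocalRing R] : IsDomain R := by
  suffices H : ∀ (n : ℕ) (R : Type u) [CommRing R] [IsRegularLocalRing R],
      (maximalIdeal R).spanFinrank = n → IsDomain R from H _ R rfl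
  intro n
  induction n with
  | zero =>
    intro R _ _ h
    rw [spanFinrank_maximalIdeal_eq_finrank_cotangentSpace, finrank_cotangentSpace_eq_zero_iff] at h
    exact h.isDomain
  | succ n ih =>
    intro R _ _ h
    have hdim : ringKrullDim R = ((n + 1 : ℕ) : WithBot ℕ∞) := by rw [dim_eq, h]
    have hfin := minimalPrimes.finite_of_isNoetherianRing R
    obtain ⟨x, hx, hx'⟩ : ∃ x, x ∈ maximalIdeal R ∧
        x ∉ ⋃ p ∈ insert (maximalIdeal R ^ 2) (minimalPrimes R), (p : Set R) := by
      refine Set.not_subset.mp fun hle => ?_
      rw [Ideal.subset_union_prime_finite (hfin.insert _) (maximalIdeal R ^ 2)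
        (maximalIdeal R ^ 2)] at hle
      · obtain ⟨p, hp, hle⟩ := hle
        rcases Set.mem_insert_iff.mp hp with rfl | hp
        · have : maximalIdeal R = ⊥ := by
            refine Submodule.eq_bot_of_le_smul_of_le_jacobson_bot (maximalIdeal R) _
              (maximalIdeal R).fg_of_isNoetherianRing ?_ (maximalIdeal_le_jacobson _)
            rw [smul_eq_mul, ← pow_two]
            exact hle
          rw [this] at h
          simp at h
        · have hp' : p.IsPrime := hp.1.1
          have e : maximalIdeal R = p := le_antisymm hle (le_maximalIdeal hp'.ne_top)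
          have h0 := maximalIdeal_height_eq_ringKrullDim (R := R)
          rw [e, Ideal.height_eq_zero_iff.mpr hp, hdim] at h0
          norm_cast at h0
      · intro p hp hne _
        rcases Set.mem_insert_iff.mp hp with rfl | hp
        · exact absurd rfl hne
        · exact hp.1.1
    simp only [Set.mem_iUnion, Set.mem_insert_iff, SetLike.mem_coe, not_exists] at hx'
    obtain ⟨hreg, hd⟩ := quotient_singleton hx (hx' _ (Or.inl rfl))
    have hdom : IsDomain (R ⧸ Ideal.span {x}) := by
      refine ih _ ?_
      rw [dim_eq (R := R ⧸ Ideal.span {x}), hdim] at hd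
      norm_cast at hd
      omega
    have hprime : (Ideal.span {x}).IsPrime := Ideal.Quotient.isDomain_iff_prime _ |>.mp hdom
    obtain ⟨p, hp, hpx⟩ := Ideal.exists_minimalPrimes_le (J := Ideal.span {x}) (bot_le (a := Ideal.span {x}))
    have hp' : p.IsPrime := hp.1.1
    have hxp : x ∉ p := hx' p (Or.inr hp)
    have : p = ⊥ := by
      refine Submodule.eq_bot_of_le_smul_of_le_jacobson_bot (maximalIdeal R) _
        p.fg_of_isNoetherianRing ?_ (maximalIdeal_le_jacobson _)
      intro y hy
      obtain ⟨a, rfl⟩ := Ideal.mem_span_singleton'.mp (hpx hy)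
      rw [mul_comm]
      exact Ideal.mul_mem_mul hx ((hp'.mem_or_mem hy).resolve_right hxp)
    subst this
    exact IsDomain.of_bot_isPrime R

/-- A list of elements which generates the maximal ideal with the minimal length is a regular
sequence, and so is each of its initial segments. -/
theorem isRegular_of_span_eq [IsRegularLocalRing R] (rs ts : List R)
    (hspan : Ideal.ofList (rs ++ ts) = maximalIdeal R)
    (hlen : rs.length + ts.length ≤ (maximalIdeal R).spanFinrank) :
    RingTheory.Sequence.IsRegular R rs := by
  classical
  have hmem : ∀ r ∈ rs, r ∈ maximalIdeal R := fun r hr =>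
    hspan ▸ Ideal.subset_span (List.mem_append_left _ hr)
  rw [IsLocalRing.isRegular_iff_isWeaklyRegular_of_subset_maximalIdeal hmem,
    RingTheory.Sequence.isWeaklyRegular_iff]
  intro i hi
  have hJ : (Ideal.ofList (rs.take i) • (⊤ : Submodule R R)) = Ideal.ofList (rs.take i) := by simp
  let a : Finset R := (rs.take i).toFinset
  let b : Finset R := ((rs.drop i) ++ ts).toFinset
  have ha : Ideal.span (a : Set R) = Ideal.ofList (rs.take i) := by
    simp [a, Ideal.ofList, List.coe_toFinset]
  have hab : Ideal.span ((a : Set R) ∪ (b : Set R)) = maximalIdeal R := by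
    rw [← hspan]
    simp only [a, b, List.coe_toFinset, Ideal.ofList]
    congr 1
    conv_rhs => rw [← List.take_append_drop i rs, List.append_assoc]
    ext z
    simp
  have hca : a.card ≤ i := (List.toFinset_card_le _).trans (by simp)
  have hcb : b.card ≤ rs.length - i + ts.length := (List.toFinset_card_le _).trans (by simp)
  obtain ⟨hreg, hdim, htot⟩ := quotient_span a b hab (by omega)
  have : IsDomain (R ⧸ Ideal.span (a : Set R)) := isDomain
  have hne : Ideal.Quotient.mk (Ideal.span (a : Set R)) rs[i] ≠ 0 := by
    intro h0
    rw [Ideal.Quotient.eq_zero_iff_mem, ha] at h0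
    let b' : Finset R := ((rs.drop (i + 1)) ++ ts).toFinset
    have hab' : Ideal.span ((a : Set R) ∪ (b' : Set R)) = maximalIdeal R := by
      refine le_antisymm (le_of_le_of_eq (Ideal.span_mono (Set.union_subset_union_right _ ?_)) hab) ?_
      · intro z hz
        simp only [b', b, Finset.mem_coe, List.mem_toFinset, List.mem_append] at hz ⊢
        rcases hz with h | h
        · exact Or.inl (List.drop_subset_drop_left _ (Nat.le_succ i) h)
        · exact Or.inr h
      · rw [← hab, Ideal.span_le]
        rintro z (hz | hz)
        · exact Ideal.subset_span (Or.inl hz)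
        · simp only [b, List.coe_toFinset, Set.mem_ofPred_eq, List.mem_append,
            List.drop_eq_getElem_cons hi, List.mem_cons] at hz
          rcases hz with (rfl | hz) | hz
          · exact Ideal.span_mono Set.subset_union_left (ha ▸ h0)
          · exact Ideal.subset_span (Or.inr (by simp [b', hz]))
          · exact Ideal.subset_span (Or.inr (by simp [b', hz]))
    have hcb' : b'.card ≤ rs.length - (i + 1) + ts.length :=
      (List.toFinset_card_le _).trans (by simp)
    obtain ⟨-, -, htot'⟩ := quotient_span a b' hab' (by omega)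
    omega
  rw [isSMulRegular_iff_right_eq_zero_of_smul]
  intro y hy
  obtain ⟨y, rfl⟩ := Submodule.Quotient.mk_surjective _ y
  rw [← Submodule.Quotient.mk_smul, Submodule.Quotient.mk_eq_zero, hJ, ← ha,
    smul_eq_mul, ← Ideal.Quotient.eq_zero_iff_mem, map_mul, mul_eq_zero] at hy
  rw [Submodule.Quotient.mk_eq_zero, hJ, ← ha, ← Ideal.Quotient.eq_zero_iff_mem]
  exact hy.resolve_left hne

end Groth.Agent.RegLocal
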