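import Mathlib
import Groth.Prelude.Def_CAlg
import Groth.Agent.Lib.H2Depth
import Groth.Agent.Lib.H2DepthMore
import Groth.Agent.Lib.H2DepthLocal
import Groth.Agent.Lib.RegularLocalBasic

/-! Ischebeck's lemma and Rees for weakly regular sequences. -/

universe u v

open CategoryTheory Abelian RingTheory.Sequence Pointwise

namespace Groth.Agent.H2Ischebeck

open Groth.Agent.H2Depth Groth.Agent.H2DepthMore

variable {R : Type u} [CommRing R] [IsNoetherianRing R]

theorem isRegular_of_weakly {M : Type v} [AddCommGroup M] [Module R M] {I : Ideal R}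
    (hIM : I • (⊤ : Submodule R M) ≠ ⊤) {rs : List R} (hrs : IsWeaklyRegular M rs) (hmem : ∀ r ∈ rs, r ∈ I) :
    IsRegular M rs :=
  ⟨hrs, fun h => hIM (top_le_iff.1 (h.le.trans (Submodule.smul_mono_left (Ideal.span_le.2 hmem))))⟩

/-- Ext vanishing below the depth along an ideal. -/
theorem subsingleton_ext_of_hasReg {M : Type u} [AddCommGroup M] [Module R M] [Module.Finite R M] {I : Ideal R}
    (hIM : I • (⊤ : Submodule R M) ≠ ⊤) {k : ℕ} (h : HasReg I M k) {N : Type u} [AddCommGroup N] [Module R N]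
    [Module.Finite R N] (hN : Module.support R N ⊆ PrimeSpectrum.zeroLocus I) (i : ℕ) (hi : i < k) :
    Subsingleton (Ext (ModuleCat.of R N) (ModuleCat.of R M) i) := by
  obtain ⟨rs, rfl, hrs, hmem⟩ := h
  exact ModuleCat.subsingleton_ext_of_exists_isRegular I (ModuleCat.of R N) hN (ModuleCat.of R M) hIM.lt_top rs hmem
    (isRegular_of_weakly hIM hrs hmem) i hi

variable [IsLocalRing R]

/-- `depth_J M ≥ depth M - dim R/J`. -/
theorem hasReg_of_dim_quotient {M : Type v} [AddCommGroup M] [Module R M] [Module.Finite R M] [Nontrivial M]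
    {J : Ideal R} (hJ : J ≤ IsLocalRing.maximalIdeal R) {d i : ℕ}
    (hM : HasReg (IsLocalRing.maximalIdeal R) M d) (hdim : ringKrullDim (R ⧸ J) + (i : WithBot ℕ∞) < d) :
    HasReg J M (i + 1) := by
  have hJM : J • (⊤ : Submodule R M) ≠ ⊤ := smul_top_ne_top hJ
  obtain ⟨ss, -, h1, h2, h3⟩ := exists_maximal hJM (IsWeaklyRegular.nil R M) (by simp)
  refine HasReg.mono ⟨ss, rfl, h1, h2⟩ ?_
  by_contra hlt
  obtain ⟨p, hp, hJp⟩ := exists_associatedPrime_of_noReg h3
  have hd := hasReg_le_dim_quotient (hasReg_quot_ofList h1 (fun r hr => hJ (h2 r hr)) hM) p hp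
  have hle : (((d - ss.length : ℕ) : WithBot ℕ∞)) + (i : WithBot ℕ∞) ≤ ringKrullDim (R ⧸ J) + (i : WithBot ℕ∞) := by
    gcongr
    exact hd.trans (ringKrullDim_le_of_surjective _ (Ideal.Quotient.factor_surjective hJp))
  have h4 : (((d - ss.length + i : ℕ) : WithBot ℕ∞)) < d := by
    push_cast
    exact hle.trans_lt hdim
  have h5 : d - ss.length + i < d := by exact_mod_cast h4
  omega

theorem ext_subsingleton_of_supportDim {M N : Type u} [AddCommGroup M] [Module R M] [Module.Finite R M]
    [AddCommGroup N] [Module R N] [Module.Finite R N] {d i : ℕ}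
    (hM : HasReg (IsLocalRing.maximalIdeal R) M d) (hdim : Module.supportDim R N + (i : WithBot ℕ∞) < d) :
    Subsingleton (Ext (ModuleCat.of R N) (ModuleCat.of R M) i) := by
  rcases subsingleton_or_nontrivial N with hN | hN
  · have : Limits.IsZero (ModuleCat.of R N) := ModuleCat.isZero_of_subsingleton _
    have h0 : ∀ a : Ext (ModuleCat.of R N) (ModuleCat.of R M) i, a = 0 := fun a => by
      rw [← Ext.mk₀_id_comp a, this.eq_of_src (𝟙 _) 0, Ext.mk₀_zero, Ext.zero_comp]
    exact ⟨fun a b => (h0 a).trans (h0 b).symm⟩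
  rcases subsingleton_or_nontrivial M with hM' | hM'
  · have : Limits.IsZero (ModuleCat.of R M) := ModuleCat.isZero_of_subsingleton _
    have h0 : ∀ a : Ext (ModuleCat.of R N) (ModuleCat.of R M) i, a = 0 := fun a => by
      rw [← Ext.comp_mk₀_id a, this.eq_of_src (𝟙 _) 0, Ext.mk₀_zero, Ext.comp_zero]
    exact ⟨fun a b => (h0 a).trans (h0 b).symm⟩
  rw [Module.supportDim_eq_ringKrullDim_quotient_annihilator] at hdim
  have hA : Module.annihilator R N ≠ ⊤ := by
    rw [Ne, Submodule.annihilator_top.symm, Submodule.annihilator_eq_top_iff]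
    exact top_ne_bot
  have hJ := IsLocalRing.le_maximalIdeal hA
  exact subsingleton_ext_of_hasReg (smul_top_ne_top hJ) (hasReg_of_dim_quotient hJ hM hdim)
    (by rw [Module.support_eq_zeroLocus]) i (Nat.lt_succ_self i)

theorem hasReg_of_regularLocal {R : Type u} [CommRing R] [IsRegularLocalRing R] :
    ∃ n : ℕ, ringKrullDim R = n ∧ HasReg (IsLocalRing.maximalIdeal R) R n := by
  obtain ⟨s, hs1, hs2⟩ := Submodule.FG.exists_span_finset_card_eq_spanFinrank (IsNoetherian.noetherian (IsLocalRing.maximalIdeal R))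
  refine ⟨(IsLocalRing.maximalIdeal R).spanFinrank, IsRegularLocalRing.spanFinrank_maximalIdeal.symm, ?_⟩
  have hsp : Ideal.ofList s.toList = IsLocalRing.maximalIdeal R := by
    rw [Ideal.ofList, ← hs2]; simp
  exact ⟨s.toList, by simp [hs1], RegLocal.isRegular_of_span_eq s.toList [] (by simpa using hsp) (by simp [hs1]) |>.1,
    fun r hr => hsp ▸ Ideal.subset_span hr⟩

end Groth.Agent.H2Ischebeck
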