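import Mathlib
import Groth.Prelude.Def_Wider
import Groth.Prelude.Def_DRing3
import Groth.Prelude.Def_W4bk5brsh16IT
import Groth.Agent.Lib.H2LCCd

/-! The ideal transform `LocCoh.DT`. -/

universe u

open CategoryTheory CategoryTheory.Limits Opposite Pointwise

namespace Groth.Agent.H2LC

variable {R : Type u} [CommRing R] (I : Ideal R)

/-- index. -/
abbrev idx (n : ℕ) : ℕᵒᵖᵒᵖ := op (op n)

/-- colimit cocone of the ideal transform at a module. -/
noncomputable abbrev dtCocone (M : ModuleCat.{u} R) :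
    Cocone (LocCoh.transformDiagram I ⋙ (evaluation _ _).obj M) :=
  ((evaluation _ _).obj M).mapCocone (colimit.cocone (LocCoh.transformDiagram I))

/-- it is a colimit. -/
noncomputable def isColimitDT (M : ModuleCat.{u} R) : IsColimit (dtCocone I M) :=
  isColimitOfPreserves _ (colimit.isColimit _)

/-- the class of `f : I^n → M`. -/
noncomputable def dtMk (n : ℕ) {M : Type u} [AddCommGroup M] [Module R M] (f : ↥(I ^ n) →ₗ[R] M) :
    LocCoh.DT I M :=
  ((colimit.ι (LocCoh.transformDiagram I) (idx n)).app (ModuleCat.of R M)).hom (ModuleCat.ofHom f)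

variable {I}

lemma dtMk_add (n : ℕ) {M : Type u} [AddCommGroup M] [Module R M] (f g : ↥(I ^ n) →ₗ[R] M) :
    dtMk I n (f + g) = dtMk I n f + dtMk I n g :=
  map_add ((colimit.ι (LocCoh.transformDiagram I) (idx n)).app (ModuleCat.of R M)).hom
    (ModuleCat.ofHom f) (ModuleCat.ofHom g)

lemma dtMk_smul (n : ℕ) {M : Type u} [AddCommGroup M] [Module R M] (c : R) (f : ↥(I ^ n) →ₗ[R] M) :
    dtMk I n (c • f) = c • dtMk I n f :=
  map_smul ((colimit.ι (LocCoh.transformDiagram I) (idx n)).app (ModuleCat.of R M)).hom c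
    (ModuleCat.ofHom f)

lemma dtMk_zero (n : ℕ) (M : Type u) [AddCommGroup M] [Module R M] :
    dtMk I n (0 : ↥(I ^ n) →ₗ[R] M) = 0 :=
  map_zero ((colimit.ι (LocCoh.transformDiagram I) (idx n)).app (ModuleCat.of R M)).hom

lemma dtMk_sub (n : ℕ) {M : Type u} [AddCommGroup M] [Module R M] (f g : ↥(I ^ n) →ₗ[R] M) :
    dtMk I n (f - g) = dtMk I n f - dtMk I n g :=
  map_sub ((colimit.ι (LocCoh.transformDiagram I) (idx n)).app (ModuleCat.of R M)).hom
    (ModuleCat.ofHom f) (ModuleCat.ofHom g)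

/-- restriction to a smaller power. -/
noncomputable abbrev restr {M : Type u} [AddCommGroup M] [Module R M] {n m : ℕ} (h : n ≤ m)
    (f : ↥(I ^ n) →ₗ[R] M) : ↥(I ^ m) →ₗ[R] M :=
  f ∘ₗ Submodule.inclusion (Ideal.pow_le_pow_right h)

lemma dtMk_restr {M : Type u} [AddCommGroup M] [Module R M] {n m : ℕ} (h : n ≤ m)
    (f : ↥(I ^ n) →ₗ[R] M) : dtMk I m (restr h f) = dtMk I n f := by
  have := (dtCocone I (ModuleCat.of R M)).w ((homOfLE h).op.op : idx n ⟶ idx m)
  exact (congrArg (fun t => t (ModuleCat.ofHom f)) (congrArg ModuleCat.Hom.hom this)).trans rfl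

lemma exists_dtMk {M : Type u} [AddCommGroup M] [Module R M] (x : LocCoh.DT I M) :
    ∃ (n : ℕ) (f : ↥(I ^ n) →ₗ[R] M), dtMk I n f = x := by
  obtain ⟨⟨⟨n⟩⟩, y, hy⟩ := Concrete.isColimit_exists_rep _ (isColimitDT I (ModuleCat.of R M)) x
  exact ⟨n, y.hom, hy⟩

lemma dtMk_eq_zero_iff {M : Type u} [AddCommGroup M] [Module R M] {n : ℕ} (f : ↥(I ^ n) →ₗ[R] M) :
    dtMk I n f = 0 ↔ ∃ (m : ℕ) (h : n ≤ m), restr h f = 0 := by
  refine ⟨fun h => ?_, fun ⟨m, h, e⟩ => by rw [← dtMk_restr h, e, dtMk_zero]⟩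
  let F := LocCoh.transformDiagram I ⋙ (evaluation _ _).obj (ModuleCat.of R M)
  let y : F.obj (idx n) := ModuleCat.ofHom f
  obtain ⟨⟨⟨m⟩⟩, w, w', hw⟩ := (Concrete.isColimit_rep_eq_iff_exists F
    (isColimitDT I (ModuleCat.of R M)) y (0 : F.obj (idx n))).1 (by rw [map_zero]; exact h)
  refine ⟨m, w.unop.unop.le, ?_⟩
  exact congrArg ModuleCat.Hom.hom (hw.trans (map_zero _))

lemma dtMk_eq_of_forall {M : Type u} [AddCommGroup M] [Module R M] {n k m : ℕ} (hn : n ≤ m) (hk : k ≤ m)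
    (f : ↥(I ^ n) →ₗ[R] M) (g : ↥(I ^ k) →ₗ[R] M)
    (h : ∀ (a : R) (ha : a ∈ I ^ m), f ⟨a, Ideal.pow_le_pow_right hn ha⟩ = g ⟨a, Ideal.pow_le_pow_right hk ha⟩) :
    dtMk I n f = dtMk I k g := by
  rw [← dtMk_restr hn, ← dtMk_restr hk]
  congr 1
  ext ⟨a, ha⟩
  exact h a ha

lemma dtMk_natural {M N : Type u} [AddCommGroup M] [Module R M] [AddCommGroup N] [Module R N]
    (e : M →ₗ[R] N) {n : ℕ} (f : ↥(I ^ n) →ₗ[R] M) :
    ((LocCoh.idealTransform I).map (ModuleCat.ofHom e)).hom (dtMk I n f) = dtMk I n (e ∘ₗ f) :=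
  (congrArg (fun t => t (ModuleCat.ofHom f)) (congrArg ModuleCat.Hom.hom
    ((colimit.ι (LocCoh.transformDiagram I) (idx n)).naturality (ModuleCat.ofHom e)))).symm.trans rfl

lemma toDT_apply {M : Type u} [AddCommGroup M] [Module R M] (m : M) :
    LocCoh.toDT I M m = dtMk I 0 (LinearMap.toSpanSingleton R M m ∘ₗ (I ^ 0).subtype) := rfl

lemma toDT_natural {M N : Type u} [AddCommGroup M] [Module R M] [AddCommGroup N] [Module R N]
    (e : M →ₗ[R] N) (m : M) :
    ((LocCoh.idealTransform I).map (ModuleCat.ofHom e)).hom (LocCoh.toDT I M m) = LocCoh.toDT I N (e m) := by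
  rw [toDT_apply, toDT_apply, dtMk_natural]
  congr 1
  ext a
  exact map_smul e _ _

theorem toDT_eq_zero_iff {M : Type u} [AddCommGroup M] [Module R M] (m : M) :
    LocCoh.toDT I M m = 0 ↔ m ∈ DRing.torsionSub I M := by
  rw [toDT_apply, dtMk_eq_zero_iff]
  constructor
  · rintro ⟨k, h, e⟩
    exact ⟨k, fun a ha => LinearMap.congr_fun e ⟨a, ha⟩⟩
  · rintro ⟨k, hk⟩
    exact ⟨k, Nat.zero_le k, LinearMap.ext fun a => hk a a.2⟩

variable [IsNoetherianRing R]

lemma exists_killed_range {N : Type u} [AddCommGroup N] [Module R N] {n : ℕ} (f : ↥(I ^ n) →ₗ[R] N)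
    (P : Submodule R N) (hP : ∀ x, ∃ k : ℕ, ∀ a ∈ I ^ k, a • f x ∈ P) :
    ∃ k : ℕ, ∀ x, ∀ a ∈ I ^ k, a • f x ∈ P := by
  haveI : Module.Finite R ↥(I ^ n) := Module.Finite.iff_fg.2 (IsNoetherian.noetherian _)
  obtain ⟨t, ht⟩ := Module.Finite.fg_top (R := R) (M := ↥(I ^ n))
  classical
  choose k hk using hP
  refine ⟨t.sup k, fun x a ha => ?_⟩
  have hx : x ∈ Submodule.span R (t : Set ↥(I ^ n)) := ht ▸ Submodule.mem_top
  induction hx using Submodule.span_induction with
  | mem x hx => exact hk x a (Ideal.pow_le_pow_right (Finset.le_sup hx) ha)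
  | zero => rw [map_zero, smul_zero]; exact P.zero_mem
  | add x y _ _ hx hy => rw [map_add, smul_add]; exact P.add_mem hx hy
  | smul c x _ hx => rw [map_smul, smul_comm]; exact P.smul_mem c hx

lemma map_pow_add_mem {N : Type u} [AddCommGroup N] [Module R N] {n k : ℕ} (f : ↥(I ^ n) →ₗ[R] N)
    (P : Submodule R N) (hk : ∀ x, ∀ a ∈ I ^ k, a • f x ∈ P) (a : R) (ha : a ∈ I ^ (n + k)) :
    f ⟨a, Ideal.pow_le_pow_right (Nat.le_add_right n k) ha⟩ ∈ P := by
  obtain ⟨b, hb⟩ : ∃ b : ↥(I ^ n), b ∈ (I ^ k • ⊤ : Submodule R ↥(I ^ n)) ∧ (b : R) = a := by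
    have h1 : a ∈ (I ^ k • ⊤ : Submodule R ↥(I ^ n)).map (I ^ n).subtype := by
      rw [Submodule.map_smul'', Submodule.map_top, Submodule.range_subtype, smul_eq_mul, ← pow_add, add_comm]
      exact ha
    obtain ⟨b, hb, e⟩ := h1
    exact ⟨b, hb, e⟩
  rw [show (⟨a, _⟩ : ↥(I ^ n)) = b from Subtype.ext hb.2.symm]
  refine Submodule.smul_induction_on hb.1 (fun c hc x _ => ?_) (fun x y hx hy => ?_)
  · rw [map_smul]; exact hk x c hc
  · rw [map_add]; exact P.add_mem hx hy

theorem dtMk_eq_zero_of_torsion {N : Type u} [AddCommGroup N] [Module R N] {n : ℕ} (f : ↥(I ^ n) →ₗ[R] N)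
    (hf : ∀ x, f x ∈ DRing.torsionSub I N) : dtMk I n f = 0 := by
  obtain ⟨k, hk⟩ := exists_killed_range f ⊥ fun x => by
    obtain ⟨k, hk⟩ := hf x
    exact ⟨k, fun a ha => (Submodule.mem_bot R).2 (hk a ha)⟩
  rw [dtMk_eq_zero_iff]
  exact ⟨n + k, Nat.le_add_right n k, LinearMap.ext fun a =>
    (Submodule.mem_bot R).1 (map_pow_add_mem f ⊥ hk a a.2)⟩

theorem subsingleton_DT {N : Type u} [AddCommGroup N] [Module R N] (hN : LocCoh.IsPowerTorsion I N) :
    Subsingleton (LocCoh.DT I N) := by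
  have hz : ∀ x : LocCoh.DT I N, x = 0 := fun x => by
    obtain ⟨n, f, rfl⟩ := exists_dtMk x
    exact dtMk_eq_zero_of_torsion f fun y => hN _
  exact ⟨fun a b => (hz a).trans (hz b).symm⟩

theorem torsionSub_DT (M : Type u) [AddCommGroup M] [Module R M] :
    DRing.torsionSub I (LocCoh.DT I M) = ⊥ := by
  rw [eq_bot_iff]
  rintro x ⟨k, hk⟩
  rw [Submodule.mem_bot]
  obtain ⟨n, f, rfl⟩ := exists_dtMk x
  have h1 : ∀ a ∈ I ^ k, ∃ m, n ≤ m ∧ ∀ (b : R) (hb : b ∈ I ^ n), b ∈ I ^ m → f (a • ⟨b, hb⟩) = 0 := by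
    intro a ha
    have := hk a ha
    rw [← dtMk_smul, dtMk_eq_zero_iff] at this
    obtain ⟨m, hm, e⟩ := this
    refine ⟨m, hm, fun b hb hb' => ?_⟩
    rw [map_smul]
    exact LinearMap.congr_fun e ⟨b, hb'⟩
  obtain ⟨s, hs⟩ : (I ^ k).FG := IsNoetherian.noetherian _
  classical
  choose! m hnm hm using h1
  let M0 := max n (s.sup m)
  rw [dtMk_eq_zero_iff]
  refine ⟨k + M0, le_add_left (le_max_left _ _), LinearMap.ext fun ⟨c, hc⟩ => ?_⟩
  show f ⟨c, _⟩ = 0
  have key : ∀ c ∈ I ^ k * I ^ M0, ∃ hc' : c ∈ I ^ n, f ⟨c, hc'⟩ = 0 := by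
    intro c hc
    refine Submodule.mul_induction_on hc (fun a ha b hb => ?_) (fun x y ⟨hxn, hx⟩ ⟨hyn, hy⟩ => ?_)
    · have hbn : b ∈ I ^ n := Ideal.pow_le_pow_right (le_max_left _ _) hb
      refine ⟨(I ^ n).mul_mem_left a hbn, ?_⟩
      rw [show (⟨a * b, (I ^ n).mul_mem_left a hbn⟩ : ↥(I ^ n)) = a • ⟨b, hbn⟩ from Subtype.ext rfl]
      rw [← hs] at ha
      induction ha using Submodule.span_induction with
      | mem a ha =>
        refine hm a (hs ▸ Ideal.subset_span ha) b hbn (Ideal.pow_le_pow_right ?_ hb)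
        exact le_max_of_le_right (Finset.le_sup ha)
      | zero => rw [zero_smul, map_zero]
      | add x y _ _ hx hy => rw [add_smul, map_add, hx, hy, add_zero]
      | smul r x _ hx => rw [smul_eq_mul, mul_smul, map_smul, hx, smul_zero]
    · refine ⟨(I ^ n).add_mem hxn hyn, ?_⟩
      rw [show (⟨x + y, _⟩ : ↥(I ^ n)) = ⟨x, hxn⟩ + ⟨y, hyn⟩ from rfl, map_add, hx, hy, add_zero]
  obtain ⟨h', h''⟩ := key c (by rw [← pow_add]; exact hc)
  exact h''

/-- a map with power-torsion kernel and cokernel induces an iso of ideal transforms. -/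
theorem bijective_DT_map {M M' : Type u} [AddCommGroup M] [Module R M] [AddCommGroup M'] [Module R M']
    (e : M →ₗ[R] M') (hker : LinearMap.ker e ≤ DRing.torsionSub I M)
    (hcoker : LocCoh.IsPowerTorsion I (M' ⧸ LinearMap.range e)) :
    Function.Bijective ((LocCoh.idealTransform I).map (ModuleCat.ofHom e)).hom := by
  constructor
  · rw [injective_iff_map_eq_zero]
    intro x hx
    obtain ⟨n, f, rfl⟩ := exists_dtMk x
    rw [dtMk_natural, dtMk_eq_zero_iff] at hx
    obtain ⟨m, hm, he⟩ := hx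
    rw [← dtMk_restr hm]
    exact dtMk_eq_zero_of_torsion _ fun y => hker (LinearMap.congr_fun he y)
  · intro x
    obtain ⟨n, f, rfl⟩ := exists_dtMk x
    obtain ⟨k, hk⟩ := exists_killed_range f (LinearMap.range e) fun y => by
      obtain ⟨k, hk⟩ := hcoker (Submodule.Quotient.mk (f y))
      exact ⟨k, fun a ha => (Submodule.Quotient.mk_eq_zero _).1 ((Submodule.Quotient.mk_smul _ _ _).trans (hk a ha))⟩
    set p := n + k
    let fp : ↥(I ^ p) →ₗ[R] M' := restr (Nat.le_add_right n k) f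
    have hfp : ∀ a, fp a ∈ LinearMap.range e := fun a => map_pow_add_mem f _ hk a a.2
    haveI : Module.Finite R ↥(I ^ p) := Module.Finite.iff_fg.2 (IsNoetherian.noetherian _)
    obtain ⟨t, ht⟩ := Module.Finite.fg_top (R := R) (M := ↥(I ^ p))
    choose g hg using hfp
    classical
    let W : Submodule R (↥(I ^ p) × M) := Submodule.span R ((fun a => (a, g a)) '' (t : Set ↥(I ^ p)))
    haveI : Module.Finite R W :=
      Module.Finite.iff_fg.2 (Submodule.fg_span (t.finite_toSet.image _))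
    have hW : ∀ w ∈ W, e w.2 = fp w.1 := by
      intro w hw
      induction hw using Submodule.span_induction with
      | mem w hw => obtain ⟨a, _, rfl⟩ := hw; exact hg a
      | zero => exact (map_zero e).trans (map_zero fp).symm
      | add x y _ _ hx hy => rw [Prod.snd_add, Prod.fst_add, map_add, map_add, hx, hy]
      | smul c x _ hx => rw [Prod.smul_snd, Prod.smul_fst, map_smul, map_smul, hx]
    let π : W →ₗ[R] ↥(I ^ p) := LinearMap.fst R _ _ ∘ₗ W.subtype
    have hπ : Function.Surjective π := by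
      rw [← LinearMap.range_eq_top, eq_top_iff, ← ht, Submodule.span_le]
      exact fun a ha => ⟨⟨(a, g a), Submodule.subset_span ⟨a, ha, rfl⟩⟩, rfl⟩
    have hK : ∀ w ∈ LinearMap.ker π, ∃ j : ℕ, ∀ a ∈ I ^ j, a • w = 0 := by
      intro w hw
      have h1 : e w.1.2 = 0 := by rw [hW _ w.2, show w.1.1 = 0 from hw, map_zero]
      obtain ⟨j, hj⟩ := hker h1
      refine ⟨j, fun a ha => Subtype.ext (Prod.ext ?_ (hj a ha))⟩
      show a • w.1.1 = 0
      rw [show w.1.1 = 0 from hw, smul_zero]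
    haveI : Module.Finite R (LinearMap.ker π) := Module.Finite.iff_fg.2 (IsNoetherian.noetherian _)
    obtain ⟨tk, htk⟩ := Module.Finite.fg_top (R := R) (M := LinearMap.ker π)
    choose! j hj using hK
    obtain ⟨c, hc⟩ := Ideal.exists_pow_inf_eq_pow_smul I (LinearMap.ker π)
    set q := c + tk.sup (fun w => j w.1)
    have hinf : ∀ w ∈ (I ^ q • ⊤ : Submodule R W), π w = 0 → w = 0 := by
      intro w hw hw0
      have h1 : w ∈ (I ^ q • ⊤ : Submodule R W) ⊓ LinearMap.ker π := ⟨hw, hw0⟩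
      rw [hc q (Nat.le_add_right _ _)] at h1
      have h2 : w ∈ I ^ (q - c) • LinearMap.ker π := Submodule.smul_mono le_rfl inf_le_right h1
      refine Submodule.smul_induction_on h2 (fun a ha x hx => ?_) (fun x y hx hy => by rw [hx, hy, add_zero])
      have hxs : (⟨x, hx⟩ : LinearMap.ker π) ∈ Submodule.span R (tk : Set (LinearMap.ker π)) := htk ▸ Submodule.mem_top
      have : a • (⟨x, hx⟩ : LinearMap.ker π) = 0 := by
        generalize (⟨x, hx⟩ : LinearMap.ker π) = z at hxs ⊢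
        induction hxs using Submodule.span_induction with
        | mem y hy =>
          exact Subtype.ext (hj y.1 y.2 a (Ideal.pow_le_pow_right
            (le_trans (Finset.le_sup (f := fun w : LinearMap.ker π => j w.1) hy)
              (by rw [Nat.add_sub_cancel_left])) ha))
        | zero => exact smul_zero a
        | add x y _ _ hx hy => rw [smul_add, hx, hy, add_zero]
        | smul r x _ hx => rw [smul_comm, hx, smul_zero]
      exact congrArg Subtype.val this
    let πq : ↥(I ^ q • ⊤ : Submodule R W) →ₗ[R] R := (I ^ p).subtype ∘ₗ π ∘ₗ Submodule.subtype _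
    have hinj : Function.Injective πq := by
      rw [injective_iff_map_eq_zero]
      intro w hw
      exact Subtype.ext (hinf w.1 w.2 (Subtype.ext hw))
    have hrange : LinearMap.range πq = I ^ (p + q) := by
      rw [LinearMap.range_comp, LinearMap.range_comp, Submodule.range_subtype, Submodule.map_smul'',
        Submodule.map_top, LinearMap.range_eq_top.2 hπ, Submodule.map_smul'', Submodule.map_top,
        Submodule.range_subtype, smul_eq_mul, ← pow_add, add_comm]
    let σ : ↥(I ^ (p + q)) ≃ₗ[R] ↥(I ^ q • ⊤ : Submodule R W) :=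
      ((LinearEquiv.ofInjective πq hinj).trans (LinearEquiv.ofEq _ _ hrange)).symm
    refine ⟨dtMk I (p + q) (LinearMap.snd R _ _ ∘ₗ W.subtype ∘ₗ Submodule.subtype _ ∘ₗ σ.toLinearMap), ?_⟩
    rw [dtMk_natural]
    refine dtMk_eq_of_forall le_rfl (le_trans (Nat.le_add_right n k) (Nat.le_add_right p q)) _ _ fun a ha => ?_
    set w := σ ⟨a, ha⟩
    have h1 : πq w = a := congrArg Subtype.val
      (((LinearEquiv.ofInjective πq hinj).trans (LinearEquiv.ofEq _ _ hrange)).apply_symm_apply ⟨a, ha⟩)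
    show e (w.1.1.2) = f ⟨a, _⟩
    rw [hW _ w.1.2]
    exact congrArg f (Subtype.ext h1)

theorem isPowerTorsion_coker_toDT (M : Type u) [AddCommGroup M] [Module R M] :
    LocCoh.IsPowerTorsion I (LocCoh.DT I M ⧸ LinearMap.range (LocCoh.toDT I M)) := by
  intro x
  obtain ⟨x, rfl⟩ := Submodule.Quotient.mk_surjective _ x
  obtain ⟨n, f, rfl⟩ := exists_dtMk x
  refine ⟨n, fun a ha => ?_⟩
  rw [← Submodule.Quotient.mk_smul, Submodule.Quotient.mk_eq_zero, ← dtMk_smul]
  refine ⟨f ⟨a, ha⟩, ?_⟩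
  rw [toDT_apply]
  refine dtMk_eq_of_forall (Nat.zero_le n) le_rfl _ _ fun b hb => ?_
  show b • f ⟨a, ha⟩ = a • f ⟨b, hb⟩
  rw [← map_smul, ← map_smul]
  exact congrArg f (Subtype.ext (mul_comm b a))

theorem ker_toDT_le (M : Type u) [AddCommGroup M] [Module R M] :
    LinearMap.ker (LocCoh.toDT I M) ≤ DRing.torsionSub I M := fun m hm => (toDT_eq_zero_iff m).1 hm

/-- the map `η` is bijective on an ideal transform. -/
theorem bijective_toDT_DT (M : Type u) [AddCommGroup M] [Module R M] :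
    Function.Bijective (LocCoh.toDT I (LocCoh.DT I M)) := by
  have h := bijective_DT_map (LocCoh.toDT I M) (ker_toDT_le M) (isPowerTorsion_coker_toDT M)
  convert h using 1
  · funext x
    let d := LocCoh.toDT I (LocCoh.DT I M) -
      ((LocCoh.idealTransform I).map (ModuleCat.ofHom (LocCoh.toDT I M))).hom
    have h0 : LinearMap.range (LocCoh.toDT I M) ≤ LinearMap.ker d := by
      rintro _ ⟨m, rfl⟩
      rw [LinearMap.mem_ker, LinearMap.sub_apply, toDT_natural, sub_self]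
    have h1 : ∀ x, d x ∈ DRing.torsionSub I (LocCoh.DT I (LocCoh.DT I M)) := fun x => by
      obtain ⟨k, hk⟩ := isPowerTorsion_coker_toDT M (Submodule.Quotient.mk x)
      refine ⟨k, fun a ha => ?_⟩
      rw [← map_smul]
      exact h0 ((Submodule.Quotient.mk_eq_zero _).1 ((Submodule.Quotient.mk_smul _ _ _).trans (hk a ha)))
    have h2 := h1 x
    rw [torsionSub_DT, Submodule.mem_bot, LinearMap.sub_apply, sub_eq_zero] at h2
    exact h2

/-- extension of maps into an ideal transform. -/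
theorem existsUnique_lift {M M' K : Type u} [AddCommGroup M] [Module R M] [AddCommGroup M'] [Module R M']
    [AddCommGroup K] [Module R K] (e : M →ₗ[R] M') (hker : LinearMap.ker e ≤ DRing.torsionSub I M)
    (hcoker : LocCoh.IsPowerTorsion I (M' ⧸ LinearMap.range e)) (ψ : M →ₗ[R] K) :
    ∃! ψ' : M' →ₗ[R] LocCoh.DT I K, ψ' ∘ₗ e = LocCoh.toDT I K ∘ₗ ψ := by
  let E := LinearEquiv.ofBijective ((LocCoh.idealTransform I).map (ModuleCat.ofHom e)).hom
    (bijective_DT_map e hker hcoker)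
  refine ⟨((LocCoh.idealTransform I).map (ModuleCat.ofHom ψ)).hom ∘ₗ E.symm.toLinearMap ∘ₗ LocCoh.toDT I M', ?_, ?_⟩
  · ext m
    have : E.symm (LocCoh.toDT I M' (e m)) = LocCoh.toDT I M m := by
      rw [LinearEquiv.symm_apply_eq]; exact (toDT_natural e m).symm
    simp only [LinearMap.comp_apply, LinearEquiv.coe_coe, this, toDT_natural]
  · intro ψ' hψ'
    ext x
    obtain ⟨k, hk⟩ := hcoker (Submodule.Quotient.mk x)
    rw [← sub_eq_zero, ← Submodule.mem_bot R, ← torsionSub_DT K]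
    refine ⟨k, fun a ha => ?_⟩
    obtain ⟨m, hm⟩ := (Submodule.Quotient.mk_eq_zero _).1 ((Submodule.Quotient.mk_smul _ a x).trans (hk a ha))
    have : E.symm (LocCoh.toDT I M' (e m)) = LocCoh.toDT I M m := by
      rw [LinearEquiv.symm_apply_eq]; exact (toDT_natural e m).symm
    rw [smul_sub, ← map_smul, ← map_smul, ← hm, sub_eq_zero]
    simp only [LinearMap.comp_apply, LinearEquiv.coe_coe, this, toDT_natural]
    exact LinearMap.congr_fun hψ' m

/-- `coker η ≅ H¹`. -/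
theorem exists_coker_toDT_equiv_H1 (M : Type u) [AddCommGroup M] [Module R M] :
    Nonempty ((LocCoh.DT I M ⧸ LinearMap.range (LocCoh.toDT I M)) ≃ₗ[R] LocCoh.H I 1 M) := by
  obtain ⟨E, _, _, hE, ι, hι⟩ := exists_injective_embedding (R := R) M
  haveI : Injective (ModuleCat.of R E) := Module.injective_object_of_injective_module R E (inj := hE)
  have hS := lseq_shortExact hι (Submodule.mkQ_surjective _) (LinearMap.exact_map_mkQ_range ι)
  set N := LinearMap.range ι
  -- elements of `E` that are torsion modulo `M`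
  let T : Submodule R E := (DRing.torsionSub I (E ⧸ N)).comap N.mkQ
  have hH : ∃ h : T →ₗ[R] LocCoh.H I 1 M, Function.Surjective h ∧
      ∀ e, h e = 0 ↔ ∃ g ∈ DRing.torsionSub I E, N.mkQ (e : E) = N.mkQ g := by
    let r : T →ₗ[R] DRing.torsionSub I (E ⧸ N) := N.mkQ.restrict fun x hx => hx
    refine ⟨dMap hS 0 ∘ₗ (torsionEquiv (E ⧸ N)).symm.toLinearMap ∘ₗ r,
      (dMap_surjective hS 0 (subsingleton_of_injective (ModuleCat.of R E) 0)).comp
        ((torsionEquiv (E ⧸ N)).symm.surjective.comp ?_), fun e => ?_⟩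
    · rintro ⟨y, hy⟩
      obtain ⟨e, rfl⟩ := N.mkQ_surjective y
      exact ⟨⟨e, hy⟩, rfl⟩
    · have hv : toMod (ModuleCat.of R (E ⧸ N)) ((torsionEquiv (E ⧸ N)).symm (r e)) = N.mkQ (e : E) :=
        congrArg Subtype.val ((torsionEquiv (E ⧸ N)).apply_symm_apply (r e))
      constructor
      · intro h0
        obtain ⟨y, hy⟩ := (exact_map_dMap hS 0 _).1 h0
        refine ⟨toMod (ModuleCat.of R E) y, range_toMod (I := I) (ModuleCat.of R E) ▸ LinearMap.mem_range_self _ y, ?_⟩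
        rw [← hv]
        exact (congrArg (toMod _) hy).symm.trans (toMod_natural (ModuleCat.ofHom N.mkQ) y)
      · rintro ⟨g, hg, heq⟩
        rw [← range_toMod (ModuleCat.of R E)] at hg
        obtain ⟨y, rfl⟩ := hg
        refine (exact_map_dMap hS 0 _).2 ⟨y, toMod_injective _ ?_⟩
        exact (toMod_natural (ModuleCat.ofHom N.mkQ) y).trans (heq.symm.trans hv.symm)
  obtain ⟨h, hh, hh0⟩ := hH
  -- the map to the ideal transform
  have hmem : ∀ e : T, ∃ n : ℕ, ∀ a ∈ I ^ n, a • (e : E) ∈ N := fun e => by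
    obtain ⟨n, hn⟩ := e.2
    exact ⟨n, fun a ha => (Submodule.Quotient.mk_eq_zero _).1 ((Submodule.Quotient.mk_smul _ _ _).trans (hn a ha))⟩
  choose ν hν using hmem
  let ιe := (LinearEquiv.ofInjective ι hι).symm
  let F : ∀ (e : T) (n : ℕ), (∀ a ∈ I ^ n, a • (e : E) ∈ N) → (↥(I ^ n) →ₗ[R] M) := fun e n hn =>
    ιe.toLinearMap ∘ₗ LinearMap.codRestrict N
      (LinearMap.toSpanSingleton R E (e : E) ∘ₗ (I ^ n).subtype) (fun a => hn a a.2)
  have hF : ∀ (e : T) (n : ℕ) (hn : ∀ a ∈ I ^ n, a • (e : E) ∈ N) (a : R) (ha : a ∈ I ^ n),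
      ι (F e n hn ⟨a, ha⟩) = a • (e : E) := fun e n hn a ha =>
    congrArg Subtype.val ((LinearEquiv.ofInjective ι hι).apply_symm_apply ⟨a • (e : E), hn a ha⟩)
  let D : T → LocCoh.DT I M := fun e => dtMk I (ν e) (F e (ν e) (hν e))
  have hD : ∀ (e : T) (n : ℕ) (hn : ∀ a ∈ I ^ n, a • (e : E) ∈ N), dtMk I n (F e n hn) = D e := fun e n hn =>
    dtMk_eq_of_forall (le_max_left n (ν e)) (le_max_right n (ν e)) _ _ fun a ha => hι (by rw [hF, hF])
  have hadd : ∀ e e', D (e + e') = D e + D e' := fun e e' => by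
    set m := max (ν e) (ν e')
    have h1 : ∀ a ∈ I ^ m, a • (e : E) ∈ N := fun a ha => hν e a (Ideal.pow_le_pow_right (le_max_left _ _) ha)
    have h2 : ∀ a ∈ I ^ m, a • (e' : E) ∈ N := fun a ha => hν e' a (Ideal.pow_le_pow_right (le_max_right _ _) ha)
    have h3 : ∀ a ∈ I ^ m, a • ((e + e' : T) : E) ∈ N := fun a ha => by
      rw [Submodule.coe_add, smul_add]; exact N.add_mem (h1 a ha) (h2 a ha)
    rw [← hD _ m h3, ← hD e m h1, ← hD e' m h2, ← dtMk_add]
    congr 1
    ext ⟨a, ha⟩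
    apply hι
    rw [LinearMap.add_apply, map_add, hF, hF, hF, Submodule.coe_add, smul_add]
  have hsmul : ∀ (c : R) e, D (c • e) = c • D e := fun c e => by
    have h3 : ∀ a ∈ I ^ ν e, a • ((c • e : T) : E) ∈ N := fun a ha => by
      rw [Submodule.coe_smul, smul_comm]; exact N.smul_mem c (hν e a ha)
    rw [← hD _ _ h3, ← dtMk_smul]
    congr 1
    ext ⟨a, ha⟩
    apply hι
    rw [LinearMap.smul_apply, map_smul, hF, hF, Submodule.coe_smul, smul_comm]
  let d : T →ₗ[R] (LocCoh.DT I M ⧸ LinearMap.range (LocCoh.toDT I M)) :=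
    (LinearMap.range (LocCoh.toDT I M)).mkQ ∘ₗ { toFun := D, map_add' := hadd, map_smul' := hsmul }
  have hd : Function.Surjective d := by
    intro y
    obtain ⟨x, rfl⟩ := Submodule.Quotient.mk_surjective _ y
    obtain ⟨n, f, rfl⟩ := exists_dtMk x
    obtain ⟨g, hg⟩ := hE.out (I ^ n).subtype (I ^ n).injective_subtype (ι ∘ₗ f)
    have hge : ∀ (a : R) (ha : a ∈ I ^ n), a • g 1 = ι (f ⟨a, ha⟩) := fun a ha => by
      rw [← map_smul, smul_eq_mul, mul_one]; exact hg ⟨a, ha⟩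
    have hT : g 1 ∈ T := ⟨n, fun a ha => (Submodule.Quotient.mk_smul _ _ _).symm.trans
      ((Submodule.Quotient.mk_eq_zero _).2 ⟨_, (hge a ha).symm⟩)⟩
    refine ⟨⟨g 1, hT⟩, congrArg (Submodule.Quotient.mk) ?_⟩
    show D ⟨g 1, hT⟩ = _
    rw [← hD ⟨g 1, hT⟩ n fun a ha => ⟨_, (hge a ha).symm⟩]
    congr 1
    ext ⟨a, ha⟩
    apply hι
    exact (hF ⟨g 1, hT⟩ n (fun a ha => ⟨_, (hge a ha).symm⟩) a ha).trans (hge a ha)
  have hker : LinearMap.ker d = LinearMap.ker h := by
    ext e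
    rw [LinearMap.mem_ker, LinearMap.mem_ker, hh0]
    show Submodule.Quotient.mk (D e) = 0 ↔ _
    rw [Submodule.Quotient.mk_eq_zero]
    constructor
    · rintro ⟨m, hm⟩
      rw [toDT_apply, ← sub_eq_zero, ← dtMk_restr (Nat.zero_le (ν e)), ← dtMk_sub, dtMk_eq_zero_iff] at hm
      obtain ⟨j, hj, hj0⟩ := hm
      refine ⟨(e : E) - ι m, ⟨j, fun a ha => ?_⟩, ?_⟩
      · have := congrArg ι (LinearMap.congr_fun hj0 ⟨a, ha⟩)
        rw [LinearMap.zero_apply, map_zero] at this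
        simp only [restr, LinearMap.comp_apply, LinearMap.sub_apply, map_sub] at this
        rw [show ι ((F e (ν e) (hν e)) (Submodule.inclusion _ ⟨a, ha⟩)) = a • (e : E) from hF e _ _ a _] at this
        rw [smul_sub, ← neg_sub, neg_eq_zero, ← map_smul]
        exact this
      · rw [map_sub, show N.mkQ (ι m) = 0 from (Submodule.Quotient.mk_eq_zero _).2 ⟨m, rfl⟩, sub_zero]
    · rintro ⟨g, ⟨j, hj⟩, hg⟩
      obtain ⟨m, hm⟩ := (Submodule.Quotient.eq N).1 hg
      refine ⟨m, ?_⟩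
      rw [toDT_apply]
      refine dtMk_eq_of_forall (Nat.zero_le _) (le_max_left (ν e) j) _ _ fun a ha => hι ?_
      rw [hF]
      show ι (a • m) = a • (e : E)
      rw [map_smul, hm, smul_sub, hj a (Ideal.pow_le_pow_right (le_max_right _ _) ha), sub_zero]
  exact ⟨((d.quotKerEquivOfSurjective hd).symm.trans (Submodule.quotEquivOfEq _ _ hker)).trans
    (h.quotKerEquivOfSurjective hh)⟩

end Groth.Agent.H2LC
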