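import Mathlib
import Groth.Prelude.Def_Wider
import Groth.Prelude.Def_DRing3
import Groth.Prelude.Def_W4bk5brsh16IT
import Groth.Agent.Lib.H2LCTransform

/-! Exactness of the ideal transform. -/

universe u

open CategoryTheory CategoryTheory.Limits Pointwise

namespace Groth.Agent.H2LC

variable {R : Type u} [CommRing R] {I : Ideal R}
variable {A B C : Type u} [AddCommGroup A] [Module R A] [AddCommGroup B] [Module R B]
  [AddCommGroup C] [Module R C]

/-- `D_I` on a linear map. -/
noncomputable abbrev dmap (I : Ideal R) (f : A →ₗ[R] B) : LocCoh.DT I A →ₗ[R] LocCoh.DT I B :=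
  ((LocCoh.idealTransform I).map (ModuleCat.ofHom f)).hom

theorem dmap_injective {f : A →ₗ[R] B} (hf : Function.Injective f) : Function.Injective (dmap I f) := by
  rw [injective_iff_map_eq_zero]
  intro x hx
  obtain ⟨n, φ, rfl⟩ := exists_dtMk x
  rw [dmap, dtMk_natural, dtMk_eq_zero_iff] at hx
  obtain ⟨m, hm, e⟩ := hx
  rw [dtMk_eq_zero_iff]
  exact ⟨m, hm, LinearMap.ext fun a => hf ((LinearMap.congr_fun e a).trans (map_zero f).symm)⟩

theorem dmap_exact {f : A →ₗ[R] B} {g : B →ₗ[R] C} (hf : Function.Injective f)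
    (hfg : Function.Exact f g) : Function.Exact (dmap I f) (dmap I g) := by
  intro x
  constructor
  · intro hx
    obtain ⟨n, φ, rfl⟩ := exists_dtMk x
    rw [dmap, dtMk_natural, dtMk_eq_zero_iff] at hx
    obtain ⟨m, hm, e⟩ := hx
    have hr : ∀ a, restr hm φ a ∈ LinearMap.range f := fun a => (hfg _).1 (LinearMap.congr_fun e a)
    let e' := (LinearEquiv.ofInjective f hf).symm
    refine ⟨dtMk I m (e'.toLinearMap ∘ₗ LinearMap.codRestrict _ (restr hm φ) hr), ?_⟩
    rw [dmap, dtMk_natural, ← dtMk_restr hm φ]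
    congr 1
    ext a
    exact congrArg Subtype.val ((LinearEquiv.ofInjective f hf).apply_symm_apply ⟨_, hr a⟩)
  · rintro ⟨y, rfl⟩
    obtain ⟨n, φ, rfl⟩ := exists_dtMk y
    rw [dmap, dmap, dtMk_natural, dtMk_natural, ← dtMk_zero n C]
    congr 1
    ext a
    exact hfg.apply_apply_eq_zero (φ a)

/-- exactness is the same as preservation of surjections. -/
theorem exact_iff_forall_surjective (I : Ideal R) :
    (PreservesFiniteLimits (LocCoh.idealTransform I) ∧ PreservesFiniteColimits (LocCoh.idealTransform I)) ↔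
      ∀ (B C : Type u) [AddCommGroup B] [Module R B] [AddCommGroup C] [Module R C] (g : B →ₗ[R] C),
        Function.Surjective g → Function.Surjective (dmap I g) := by
  refine Iff.trans ((Functor.exact_tfae (LocCoh.idealTransform I)).out 3 0) ⟨fun h B C _ _ _ _ g hg => ?_, fun h S hS => ?_⟩
  · have := (h _ (lseq_shortExact (LinearMap.ker g).injective_subtype hg (LinearMap.exact_subtype_ker_map g))).epi_g
    exact (ModuleCat.epi_iff_surjective _).1 this
  · have hf := (ModuleCat.mono_iff_injective S.f).1 hS.mono_f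
    exact
      { exact := (ShortComplex.ShortExact.moduleCat_exact_iff_function_exact _).2
          (dmap_exact (I := I) (f := S.f.hom) (g := S.g.hom) hf
            ((ShortComplex.ShortExact.moduleCat_exact_iff_function_exact _).1 hS.exact))
        mono_f := (ModuleCat.mono_iff_injective _).2 (dmap_injective (I := I) (f := S.f.hom) hf)
        epi_g := (ModuleCat.epi_iff_surjective _).2
          (h _ _ S.g.hom ((ModuleCat.epi_iff_surjective S.g).1 hS.epi_g)) }

variable [IsNoetherianRing R]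

theorem dmap_surjective_of_cdLE (hcd : LocCoh.CdLE R I 1) {g : B →ₗ[R] C} (hg : Function.Surjective g) :
    Function.Surjective (dmap I g) := by
  let K := LinearMap.ker g
  let X := LinearMap.range (dmap I g)
  have hsurj : Function.Surjective (dmap I g).rangeRestrict := LinearMap.surjective_rangeRestrict _
  have hex : Function.Exact (dmap I K.subtype) (dmap I g).rangeRestrict := by
    intro x
    rw [← dmap_exact K.injective_subtype (LinearMap.exact_subtype_ker_map g) x]
    exact ⟨fun h => congrArg Subtype.val h, fun h => Subtype.ext h⟩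
  have hinj : Function.Injective (dmap I K.subtype) := dmap_injective K.injective_subtype
  have hDT : ∀ (M : Type u) [AddCommGroup M] [Module R M],
      Subsingleton (LocCoh.H I 0 (LocCoh.DT I M)) ∧ Subsingleton (LocCoh.H I 1 (LocCoh.DT I M)) := by
    intro M _ _
    refine ⟨(subsingleton_H0_iff _).2 (torsionSub_DT M), ?_⟩
    obtain ⟨e⟩ := exists_coker_toDT_equiv_H1 (I := I) (LocCoh.DT I M)
    haveI : Subsingleton (LocCoh.DT I (LocCoh.DT I M) ⧸ LinearMap.range (LocCoh.toDT I (LocCoh.DT I M))) :=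
      Submodule.Quotient.subsingleton_iff.2 (LinearMap.range_eq_top.2 (bijective_toDT_DT M).2)
    exact e.symm.injective.subsingleton
  have hX0 := subsingleton_right hinj hsurj hex 0 (hDT B).1 (hDT K).2
  have hX1 := subsingleton_right hinj hsurj hex 1 (hDT B).2 (hcd _ 2 one_lt_two)
  have hXinj : Function.Injective (LocCoh.toDT I X) := by
    rw [injective_iff_map_eq_zero]
    intro x hx
    have h0 := (subsingleton_H0_iff (I := I) X).1 hX0
    have h1 := (toDT_eq_zero_iff x).1 hx
    rw [h0, Submodule.mem_bot] at h1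
    exact h1
  have hXsurj : Function.Surjective (LocCoh.toDT I X) := by
    obtain ⟨e⟩ := exists_coker_toDT_equiv_H1 (I := I) X
    haveI := hX1
    rw [← LinearMap.range_eq_top, ← Submodule.Quotient.subsingleton_iff]
    exact e.injective.subsingleton
  have hle : LinearMap.range (LocCoh.toDT I C) ≤ X := by
    rintro _ ⟨c, rfl⟩
    obtain ⟨b, rfl⟩ := hg c
    exact ⟨LocCoh.toDT I B b, toDT_natural g b⟩
  have hker : LinearMap.ker X.subtype ≤ DRing.torsionSub I X := by
    rw [Submodule.ker_subtype]; exact bot_le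
  have hcok : LocCoh.IsPowerTorsion I (LocCoh.DT I C ⧸ LinearMap.range X.subtype) := by
    intro y
    obtain ⟨y, rfl⟩ := Submodule.Quotient.mk_surjective _ y
    obtain ⟨k, hk⟩ := isPowerTorsion_coker_toDT (I := I) C (Submodule.Quotient.mk y)
    refine ⟨k, fun a ha => ?_⟩
    rw [← Submodule.Quotient.mk_smul, Submodule.Quotient.mk_eq_zero, Submodule.range_subtype]
    exact hle ((Submodule.Quotient.mk_eq_zero _).1 ((Submodule.Quotient.mk_smul _ _ _).trans (hk a ha)))
  have hb := bijective_DT_map X.subtype hker hcok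
  intro y
  obtain ⟨z, hz⟩ := hb.2 (LocCoh.toDT I _ y)
  obtain ⟨x, rfl⟩ := hXsurj z
  have : (x : LocCoh.DT I C) = y :=
    (bijective_toDT_DT C).1 ((toDT_natural X.subtype x).symm.trans hz)
  exact this ▸ x.2

theorem cdLE_one_of_forall_surjective
    (h : ∀ (B C : Type u) [AddCommGroup B] [Module R B] [AddCommGroup C] [Module R C] (g : B →ₗ[R] C),
      Function.Surjective g → Function.Surjective (dmap I g)) : LocCoh.CdLE R I 1 := by
  refine cdLE_of_forall_succ fun M _ _ => ?_
  obtain ⟨E, _, _, hE, ι, hι⟩ := exists_injective_embedding (R := R) M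
  haveI : Injective (ModuleCat.of R E) := Module.injective_object_of_injective_module R E (inj := hE)
  refine subsingleton_left hι (Submodule.mkQ_surjective _) (LinearMap.exact_map_mkQ_range ι) 1 ?_
    (subsingleton_of_injective (ModuleCat.of R E) 1)
  set N := LinearMap.range ι
  have hEs : Function.Surjective (LocCoh.toDT I E) := by
    obtain ⟨e⟩ := exists_coker_toDT_equiv_H1 (I := I) E
    haveI : Subsingleton (LocCoh.H I 1 E) := subsingleton_of_injective (ModuleCat.of R E) 0
    rw [← LinearMap.range_eq_top, ← Submodule.Quotient.subsingleton_iff]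
    exact e.injective.subsingleton
  have hNs : Function.Surjective (LocCoh.toDT I (E ⧸ N)) := by
    intro y
    obtain ⟨z, rfl⟩ := h _ _ N.mkQ N.mkQ_surjective y
    obtain ⟨x, rfl⟩ := hEs z
    exact ⟨N.mkQ x, (toDT_natural N.mkQ x).symm⟩
  obtain ⟨e⟩ := exists_coker_toDT_equiv_H1 (I := I) (E ⧸ N)
  haveI : Subsingleton (LocCoh.DT I (E ⧸ N) ⧸ LinearMap.range (LocCoh.toDT I (E ⧸ N))) :=
    Submodule.Quotient.subsingleton_iff.2 (LinearMap.range_eq_top.2 hNs)
  exact e.symm.injective.subsingleton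

theorem exact_iff_cdLE_one (I : Ideal R) :
    (PreservesFiniteLimits (LocCoh.idealTransform I) ∧ PreservesFiniteColimits (LocCoh.idealTransform I)) ↔
      LocCoh.CdLE R I 1 :=
  (exact_iff_forall_surjective I).trans
    ⟨cdLE_one_of_forall_surjective, fun h _ _ _ _ _ _ _ hg => dmap_surjective_of_cdLE h hg⟩

omit [IsNoetherianRing R] in
theorem dmap_smul (c : R) (f : A →ₗ[R] B) (x : LocCoh.DT I A) : dmap I (c • f) x = c • dmap I f x := by
  obtain ⟨n, φ, rfl⟩ := exists_dtMk x
  rw [dmap, dmap, dtMk_natural, dtMk_natural, LinearMap.smul_comp, dtMk_smul]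

omit [IsNoetherianRing R] in
theorem dmap_sum {ι : Type*} (s : Finset ι) (f : ι → (A →ₗ[R] B)) (x : LocCoh.DT I A) :
    dmap I (∑ i ∈ s, f i) x = ∑ i ∈ s, dmap I (f i) x := by
  obtain ⟨n, φ, rfl⟩ := exists_dtMk x
  classical
  induction s using Finset.induction_on with
  | empty => simp [dmap, dtMk_natural, dtMk_zero]
  | insert a s ha ih =>
    rw [Finset.sum_insert ha, Finset.sum_insert ha, ← ih, dmap, dmap, dmap, dtMk_natural, dtMk_natural,
      dtMk_natural, LinearMap.add_comp, dtMk_add]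

theorem smul_top_of_surjective
    (h : ∀ (B C : Type u) [AddCommGroup B] [Module R B] [AddCommGroup C] [Module R C] (g : B →ₗ[R] C),
      Function.Surjective g → Function.Surjective (dmap I g)) :
    I • (⊤ : Submodule R (LocCoh.DT I R)) = ⊤ := by
  obtain ⟨k, a, ha⟩ := Submodule.fg_iff_exists_fin_generating_family.1 (IsNoetherian.noetherian I)
  let g : (Fin k → R) →ₗ[R] ↥I := LinearMap.codRestrict I (Fintype.linearCombination R a) fun c => by
    rw [← ha, ← Fintype.range_linearCombination]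
    exact LinearMap.mem_range_self _ c
  have hg : Function.Surjective g := by
    rintro ⟨x, hx⟩
    have hx' : x ∈ LinearMap.range (Fintype.linearCombination R a) := by
      rw [Fintype.range_linearCombination, ha]; exact hx
    obtain ⟨c, hc⟩ := hx'
    exact ⟨c, Subtype.ext hc⟩
  have hincl : Function.Bijective (dmap I (I.subtype : ↥I →ₗ[R] R)) := by
    refine bijective_DT_map _ (by rw [Submodule.ker_subtype]; exact bot_le) fun y => ?_
    obtain ⟨y, rfl⟩ := Submodule.Quotient.mk_surjective _ y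
    refine ⟨1, fun b hb => ?_⟩
    rw [← Submodule.Quotient.mk_smul, Submodule.Quotient.mk_eq_zero, Submodule.range_subtype, smul_eq_mul]
    exact I.mul_mem_right y (by simpa using hb)
  rw [eq_top_iff]
  intro x _
  obtain ⟨y, rfl⟩ := hincl.2 x
  obtain ⟨z, rfl⟩ := h _ _ g hg y
  have hcomp : I.subtype ∘ₗ g = ∑ i, a i • (LinearMap.proj i : (Fin k → R) →ₗ[R] R) := by
    refine LinearMap.ext fun c => ?_
    simp [g, Fintype.linearCombination_apply, mul_comm]
  have : dmap I I.subtype (dmap I g z) = dmap I (I.subtype ∘ₗ g) z := by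
    rw [dmap, dmap, dmap, ← LinearMap.comp_apply, ← ModuleCat.hom_comp, ← Functor.map_comp, ← ModuleCat.ofHom_comp]
  rw [this, hcomp, dmap_sum]
  exact Submodule.sum_mem _ fun i _ => by
    rw [dmap_smul]
    exact Submodule.smul_mem_smul (ha ▸ Submodule.subset_span (Set.mem_range_self i)) Submodule.mem_top

theorem dmap_surjective_of_smul_top (h : I • (⊤ : Submodule R (LocCoh.DT I R)) = ⊤)
    {g : B →ₗ[R] C} (hg : Function.Surjective g) : Function.Surjective (dmap I g) := by
  intro y
  obtain ⟨k, φ, rfl⟩ := exists_dtMk y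
  have hpow : ∀ j : ℕ, (I ^ j) • (⊤ : Submodule R (LocCoh.DT I R)) = ⊤ := fun j => by
    induction j with
    | zero => simp
    | succ j ihj => rw [pow_succ, Submodule.mul_smul, h, ihj]
  have hk := hpow k
  let P : LocCoh.DT I R → Prop := fun x =>
    ∃ (m : ℕ) (f : ↥(I ^ m) →ₗ[R] R) (ψ : ↥(I ^ m) →ₗ[R] B), dtMk I m f = x ∧
      ∀ a, ∃ hf : f a ∈ I ^ k, g (ψ a) = φ ⟨f a, hf⟩
  have hP : ∀ x ∈ (I ^ k) • (⊤ : Submodule R (LocCoh.DT I R)), P x := by
    intro x hx
    refine Submodule.smul_induction_on hx (fun b hb z _ => ?_) ?_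
    · obtain ⟨m, f, rfl⟩ := exists_dtMk z
      obtain ⟨β, hβ⟩ := hg (φ ⟨b, hb⟩)
      refine ⟨m, b • f, (LinearMap.toSpanSingleton R B β) ∘ₗ f, dtMk_smul m b f, fun a => ?_⟩
      refine ⟨by simpa using (I ^ k).mul_mem_right (f a) hb, ?_⟩
      have : (⟨(b • f) a, by simpa using (I ^ k).mul_mem_right (f a) hb⟩ : ↥(I ^ k)) = f a • ⟨b, hb⟩ :=
        Subtype.ext (by simp [mul_comm])
      rw [this, map_smul, ← hβ]
      simp
    · rintro _ _ ⟨m, f, ψ, rfl, h1⟩ ⟨m', f', ψ', rfl, h2⟩
      refine ⟨max m m', restr (le_max_left m m') f + restr (le_max_right m m') f',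
        restr (le_max_left m m') ψ + restr (le_max_right m m') ψ',
        by rw [dtMk_add, dtMk_restr, dtMk_restr], fun a => ?_⟩
      obtain ⟨e1, e1'⟩ := h1 (Submodule.inclusion (Ideal.pow_le_pow_right (le_max_left m m')) a)
      obtain ⟨e2, e2'⟩ := h2 (Submodule.inclusion (Ideal.pow_le_pow_right (le_max_right m m')) a)
      refine ⟨(I ^ k).add_mem e1 e2, ?_⟩
      simp only [LinearMap.add_apply, LinearMap.comp_apply, map_add, e1', e2']
      rw [← map_add]
      rfl
  obtain ⟨m, f, ψ, hf, hψ⟩ := hP (LocCoh.toDT I R 1) (by rw [hk]; exact Submodule.mem_top)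
  rw [toDT_apply, ← dtMk_restr (Nat.zero_le m), ← sub_eq_zero, ← dtMk_sub, dtMk_eq_zero_iff] at hf
  obtain ⟨p, hmp, hp⟩ := hf
  refine ⟨dtMk I m ψ, ?_⟩
  rw [dmap, dtMk_natural]
  refine dtMk_eq_of_forall (le_max_of_le_left hmp : m ≤ max p k) (le_max_right p k) _ _ fun a ha => ?_
  obtain ⟨hfa, e⟩ := hψ ⟨a, Ideal.pow_le_pow_right (le_max_of_le_left hmp) ha⟩
  refine e.trans (congrArg φ (Subtype.ext ?_))
  have := LinearMap.congr_fun hp ⟨a, Ideal.pow_le_pow_right (le_max_left p k) ha⟩
  simp [sub_eq_zero] at this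
  exact this

theorem exact_iff_smul_top (I : Ideal R) :
    (PreservesFiniteLimits (LocCoh.idealTransform I) ∧ PreservesFiniteColimits (LocCoh.idealTransform I)) ↔
      I • (⊤ : Submodule R (LocCoh.DT I R)) = ⊤ :=
  (exact_iff_forall_surjective I).trans
    ⟨smul_top_of_surjective, fun h _ _ _ _ _ _ _ hg => dmap_surjective_of_smul_top h hg⟩

/-- `D_I (D_J M) → D_{IJ} (D_J M)` is bijective. -/
theorem bijective_DTmapOfLE_mul (I J : Ideal R) (M : Type u) [AddCommGroup M] [Module R M] :
    Function.Bijective ((LocCoh.DTmapOfLE (Ideal.mul_le_left : I * J ≤ I)).app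
      (ModuleCat.of R (LocCoh.DT J M))).hom := by
  set F := ((LocCoh.DTmapOfLE (Ideal.mul_le_left : I * J ≤ I)).app (ModuleCat.of R (LocCoh.DT J M))).hom
  have hF : ∀ (n : ℕ) (f : ↥(I ^ n) →ₗ[R] LocCoh.DT J M),
      F (dtMk I n f) = dtMk (I * J) n (f ∘ₗ Submodule.inclusion (Ideal.pow_right_mono Ideal.mul_le_left n)) := by
    intro n f
    have h := congrArg (fun t => (t.app (ModuleCat.of R (LocCoh.DT J M))).hom (ModuleCat.ofHom f))
      (ι_colimMap (Functor.whiskerRight (NatTrans.op (Functor.whiskerRight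
        (LocCoh.powLE (Ideal.mul_le_left : I * J ≤ I)) LocCoh.idealModFunctor))
        (linearCoyoneda R (ModuleCat.{u} R))) (idx n))
    exact h
  have hle : ∀ n, (I * J) ^ n ≤ I ^ n := fun n => Ideal.pow_right_mono Ideal.mul_le_left n
  constructor
  · rw [injective_iff_map_eq_zero]
    intro x hx
    obtain ⟨n, f, rfl⟩ := exists_dtMk x
    rw [hF, dtMk_eq_zero_iff] at hx
    obtain ⟨m, hm, e⟩ := hx
    rw [dtMk_eq_zero_iff]
    refine ⟨m, hm, LinearMap.ext fun a => ?_⟩
    show restr hm f a = 0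
    rw [← Submodule.mem_bot R, ← torsionSub_DT (I := J) M]
    refine ⟨m, fun b hb => ?_⟩
    rw [← map_smul]
    exact LinearMap.congr_fun e ⟨b * a.1, by rw [mul_pow, mul_comm b a.1]; exact Ideal.mul_mem_mul a.2 hb⟩
  · intro x
    obtain ⟨n, f, rfl⟩ := exists_dtMk x
    have hcok : LocCoh.IsPowerTorsion J (↥(I ^ n) ⧸ LinearMap.range (Submodule.inclusion (hle n))) := by
      intro y
      obtain ⟨y, rfl⟩ := Submodule.Quotient.mk_surjective _ y
      refine ⟨n, fun b hb => ?_⟩
      rw [← Submodule.Quotient.mk_smul, Submodule.Quotient.mk_eq_zero]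
      exact ⟨⟨b * y.1, by rw [mul_pow, mul_comm b y.1]; exact Ideal.mul_mem_mul y.2 hb⟩, Subtype.ext rfl⟩
    obtain ⟨ψ, hψ, -⟩ := existsUnique_lift (I := J) (Submodule.inclusion (hle n))
      (by rw [LinearMap.ker_eq_bot.2 (Submodule.inclusion_injective _)]; exact bot_le) hcok f
    let e := LinearEquiv.ofBijective (LocCoh.toDT J (LocCoh.DT J M)) (bijective_toDT_DT M)
    refine ⟨dtMk I n (e.symm.toLinearMap ∘ₗ ψ), ?_⟩
    rw [hF]
    congr 1
    ext a
    simp only [LinearMap.comp_apply, LinearEquiv.coe_coe]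
    rw [LinearEquiv.symm_apply_eq]
    exact LinearMap.congr_fun hψ a

end Groth.Agent.H2LC
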