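import Mathlib
import Groth.Prelude.Def_Wider
import Groth.Prelude.Def_W4bk5brsh16IT
import Groth.Agent.Lib.H2DTExact
import Groth.Agent.Lib.H2LCBaseChange

/-! Independence of the base for the ideal transform. -/

universe u

namespace Groth.Agent.H2LC

variable {R : Type u} [CommRing R] [IsNoetherianRing R] {R' : Type u} [CommRing R'] [IsNoetherianRing R']
  [Algebra R R'] {I : Ideal R}

theorem exists_equiv_of_closed {M D : Type u} [AddCommGroup M] [Module R M] [AddCommGroup D] [Module R D]
    (η : M →ₗ[R] D) (hker : LinearMap.ker η ≤ DRing.torsionSub I M)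
    (hcok : LocCoh.IsPowerTorsion I (D ⧸ LinearMap.range η)) (h0 : DRing.torsionSub I D = ⊥)
    (h1 : Subsingleton (LocCoh.H I 1 D)) :
    ∃ E : D ≃ₗ[R] LocCoh.DT I M, ∀ m, E (η m) = LocCoh.toDT I M m := by
  have hclosed : Function.Bijective (LocCoh.toDT I D) := by
    constructor
    · rw [injective_iff_map_eq_zero]
      intro x hx
      have := (toDT_eq_zero_iff x).1 hx
      rw [h0, Submodule.mem_bot] at this
      exact this
    · obtain ⟨e⟩ := exists_coker_toDT_equiv_H1 (I := I) D
      rw [← LinearMap.range_eq_top, ← Submodule.Quotient.subsingleton_iff]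
      exact e.injective.subsingleton
  let E := (LinearEquiv.ofBijective (LocCoh.toDT I D) hclosed).trans
    (LinearEquiv.ofBijective (dmap I η) (bijective_DT_map η hker hcok)).symm
  refine ⟨E, fun m => ?_⟩
  simp only [E, LinearEquiv.trans_apply, LinearEquiv.symm_apply_eq, LinearEquiv.ofBijective_apply]
  exact (toDT_natural η m).symm

/-- the closedness conditions descend. -/
theorem closed_of_map {M D : Type u} [AddCommGroup M] [Module R M] [Module R' M] [IsScalarTower R R' M]
    [AddCommGroup D] [Module R D] [Module R' D] [IsScalarTower R R' D] (η : M →ₗ[R'] D)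
    (hker : LinearMap.ker η ≤ DRing.torsionSub (I.map (algebraMap R R')) M)
    (hcok : LocCoh.IsPowerTorsion (I.map (algebraMap R R')) (D ⧸ LinearMap.range η))
    (h0 : DRing.torsionSub (I.map (algebraMap R R')) D = ⊥)
    (h1 : Subsingleton (LocCoh.H (I.map (algebraMap R R')) 1 D)) :
    ∃ E : D ≃ₗ[R] LocCoh.DT I M, ∀ m, E (η m) = LocCoh.toDT I M m := by
  refine exists_equiv_of_closed (η.restrictScalars R) (fun m hm => (mem_torsionSub_map_iff m).1 (hker hm)) ?_ ?_ ?_
  · intro x
    obtain ⟨x, rfl⟩ := Submodule.Quotient.mk_surjective _ x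
    obtain ⟨n, hn⟩ := hcok (Submodule.Quotient.mk x)
    refine ⟨n, fun a ha => ?_⟩
    rw [← Submodule.Quotient.mk_smul, Submodule.Quotient.mk_eq_zero, ← algebraMap_smul R' a x]
    exact (Submodule.Quotient.mk_eq_zero (LinearMap.range η)).1
      ((Submodule.Quotient.mk_smul _ _ _).trans (hn _ (by rw [← Ideal.map_pow]; exact Ideal.mem_map_of_mem _ ha)))
  · rw [eq_bot_iff]
    intro x hx
    have := (mem_torsionSub_map_iff (R' := R') x).2 hx
    rwa [h0] at this
  · obtain ⟨φ, -⟩ := exists_baseEquiv (R' := R') I 1 D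
    exact φ.symm.injective.subsingleton

theorem subsingleton_H1_DT (J : Ideal R') (M : Type u) [AddCommGroup M] [Module R' M] :
    Subsingleton (LocCoh.H J 1 (LocCoh.DT J M)) := by
  obtain ⟨e⟩ := exists_coker_toDT_equiv_H1 (I := J) (LocCoh.DT J M)
  have : Subsingleton (LocCoh.DT J (LocCoh.DT J M) ⧸ LinearMap.range (LocCoh.toDT J (LocCoh.DT J M))) :=
    Submodule.Quotient.subsingleton_iff.2 (LinearMap.range_eq_top.2 (bijective_toDT_DT M).2)
  exact e.symm.injective.subsingleton

end Groth.Agent.H2LC
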