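import Mathlib
import Groth.Prelude.Def_Wider
import Groth.Prelude.Def_DRing3
import Groth.Prelude.Def_CAlg
import Groth.Agent.Lib.H2LCTop
import Groth.Agent.Lib.H2LCMono
import Groth.Agent.Lib.H2LCBaseChange

/-! Non-vanishing of local cohomology away from a prime (the inequality between finiteness
dimension and minimal adjusted depth). -/

universe u

open CategoryTheory Pointwise

namespace Groth.Agent.H2LC

variable {R : Type u} [CommRing R] (a : Ideal R)

/-- `s` kills `H^j_a(M)`. -/
def KillsH (s : R) (M : Type u) [AddCommGroup M] [Module R M] (j : ℕ) : Prop :=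
  ∀ y : LocCoh.H a j M, s • y = 0

variable {a} {A B C : Type u} [AddCommGroup A] [Module R A] [AddCommGroup B] [Module R B]
  [AddCommGroup C] [Module R C] {f : A →ₗ[R] B} {g : B →ₗ[R] C}

theorem KillsH.mid (hf : Function.Injective f) (hg : Function.Surjective g) (hfg : Function.Exact f g)
    {j : ℕ} {s t : R} (hA : KillsH a s A j) (hC : KillsH a t C j) : KillsH a (s * t) B j := fun y => by
  have hS := lseq_shortExact hf hg hfg
  obtain ⟨x, hx⟩ := (exact_map hS j (t • y)).1 ((map_smul (cmap a j (ModuleCat.ofHom g)) t y).trans (hC _))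
  rw [mul_smul, ← hx]
  exact (map_smul _ s x).symm.trans ((congrArg _ (hA x)).trans (map_zero _))

theorem KillsH.right (hf : Function.Injective f) (hg : Function.Surjective g) (hfg : Function.Exact f g)
    {j : ℕ} {s t : R} (hB : KillsH a s B j) (hA : KillsH a t A (j + 1)) : KillsH a (s * t) C j := fun y => by
  have hS := lseq_shortExact hf hg hfg
  obtain ⟨x, hx⟩ := (exact_map_dMap hS j (t • y)).1 ((map_smul (dMap hS j) t y).trans (hA _))
  rw [mul_smul, ← hx]
  exact (map_smul _ s x).symm.trans ((congrArg _ (hB x)).trans (map_zero _))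

theorem KillsH.left_zero {T : Type u} [AddCommGroup T] [Module R T] {s : R} (h : ∀ m : T, s • m = 0)
    (j : ℕ) : KillsH a s T j := fun y => by
  have h0 : s • 𝟙 (ModuleCat.of R T) = (0 : R) • 𝟙 (ModuleCat.of R T) :=
    ModuleCat.hom_ext (LinearMap.ext fun m => (h m).trans (zero_smul R m).symm)
  rw [← cmap_smul_id j s (ModuleCat.of R T) y, h0, cmap_smul_id, zero_smul]

theorem KillsH.subsingleton_of_surjective {M : Type u} [AddCommGroup M] [Module R M] {j : ℕ} {s : R}
    (h : KillsH a s M j) (hs : Function.Surjective fun y : LocCoh.H a j M => s • y) :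
    Subsingleton (LocCoh.H a j M) := by
  have hz : ∀ y : LocCoh.H a j M, y = 0 := fun y => by
    obtain ⟨z, rfl⟩ := hs y
    exact h z
  exact ⟨fun x y => (hz x).trans (hz y).symm⟩

theorem eq_of_add_one {d : WithBot ℕ∞} {n : ℕ} (h : d + 1 = ((n + 1 : ℕ) : WithBot ℕ∞)) :
    d = ((n : ℕ) : WithBot ℕ∞) := by
  induction d with
  | bot =>
    rw [WithBot.bot_add] at h
    exact absurd h.symm (WithBot.coe_ne_bot (a := ((n + 1 : ℕ) : ℕ∞)))
  | coe d =>
    have h' : d + 1 = ((n + 1 : ℕ) : ℕ∞) := WithBot.coe_injective h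
    induction d with
    | top => exact absurd h' (by rw [top_add]; exact (ENat.coe_ne_top _).symm)
    | coe m =>
      have : m + 1 = n + 1 := by exact_mod_cast h'
      rw [Nat.succ_injective this]; rfl

variable [IsLocalRing R] [IsNoetherianRing R]

local notation "𝔪" => IsLocalRing.maximalIdeal R

theorem dim_succ {J : Ideal R} [J.IsPrime] {x : R} (hx : x ∈ 𝔪) (hxJ : x ∉ J) :
    ringKrullDim (R ⧸ (J ⊔ Ideal.span {x})) + 1 = ringKrullDim (R ⧸ J) := by
  have hreg : IsSMulRegular (R ⧸ J) x := by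
    rw [isSMulRegular_iff_right_eq_zero_of_smul]
    intro m hm
    obtain ⟨r, rfl⟩ := Submodule.Quotient.mk_surjective _ m
    rw [← Submodule.Quotient.mk_smul, Submodule.Quotient.mk_eq_zero, smul_eq_mul] at hm
    exact (Submodule.Quotient.mk_eq_zero _).2 ((‹J.IsPrime›.mem_or_mem hm).resolve_left hxJ)
  have h := Module.supportDim_quotSMulTop_succ_eq_supportDim hreg hx
  rw [Module.supportDim_quotient_eq_ringKrullDim] at h
  rw [← h, ← Module.supportDim_quotient_eq_ringKrullDim]
  simp only [Module.supportDim]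
  rw [Module.support_quotSMulTop, Module.support_eq_zeroLocus, Module.support_eq_zeroLocus,
    Ideal.annihilator_quotient, Ideal.annihilator_quotient, ← PrimeSpectrum.zeroLocus_union]
  rw [← PrimeSpectrum.zeroLocus_span ((J : Set R) ∪ {x}), Ideal.span_union, Ideal.span_eq]

theorem dim_mono {J K : Ideal R} (h : J ≤ K) : ringKrullDim (R ⧸ K) ≤ ringKrullDim (R ⧸ J) :=
  ringKrullDim_le_of_surjective _ (Ideal.Quotient.factor_surjective h)

theorem exists_prime_dim {J : Ideal R} {n : ℕ} (hn : ringKrullDim (R ⧸ J) = n) :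
    ∃ P : Ideal R, P ∈ J.minimalPrimes ∧ ringKrullDim (R ⧸ P) = n := by
  obtain ⟨P, hP, hd⟩ := exists_prime_supportDim (M := R ⧸ J)
    ((Module.supportDim_quotient_eq_ringKrullDim J).trans hn)
  rw [Module.supportDim_quotient_eq_ringKrullDim] at hd
  rw [Module.support_eq_zeroLocus, Ideal.annihilator_quotient, PrimeSpectrum.mem_zeroLocus,
    SetLike.coe_subset_coe] at hP
  obtain ⟨Q, hQ, hQP⟩ := Ideal.exists_minimalPrimes_le hP
  haveI := hQ.1.1
  refine ⟨P.asIdeal, ?_, hd⟩
  rcases eq_or_lt_of_le hQP with rfl | hlt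
  · exact hQ
  · exfalso
    obtain ⟨x, hxP, hxQ⟩ := Set.exists_of_ssubset hlt
    have h1 := dim_succ (IsLocalRing.le_maximalIdeal P.2.ne_top hxP) hxQ
    have h2 : (n : WithBot ℕ∞) ≤ ringKrullDim (R ⧸ (Q ⊔ Ideal.span {x})) :=
      hd.ge.trans (dim_mono (sup_le hQP ((Ideal.span_singleton_le_iff_mem _).2 hxP)))
    have h3 : ringKrullDim (R ⧸ Q) ≤ (n : WithBot ℕ∞) := hn ▸ dim_mono hQ.1.2
    have h4 := (add_le_add h2 (le_refl (1 : WithBot ℕ∞))).trans (h1.le.trans h3)
    have : n + 1 ≤ n := by exact_mod_cast h4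
    omega

theorem maximalIdeal_notMem_minimalPrimes {J : Ideal R} {n : ℕ} (hn : ringKrullDim (R ⧸ J) = ((n + 1 : ℕ) : WithBot ℕ∞)) :
    𝔪 ∉ J.minimalPrimes := by
  intro hm
  obtain ⟨P, hP, hd⟩ := exists_prime_dim hn
  have hPm : P = 𝔪 := le_antisymm (IsLocalRing.le_maximalIdeal hP.1.1.ne_top)
    (hm.2 hP.1 (IsLocalRing.le_maximalIdeal hP.1.1.ne_top))
  subst hPm
  haveI : (𝔪).IsMaximal := IsLocalRing.maximalIdeal.isMaximal R
  letI := Ideal.Quotient.field (𝔪)
  rw [ringKrullDim_eq_zero_of_field] at hd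
  have : (0 : ℕ) = n + 1 := by exact_mod_cast hd
  omega

theorem isPowerTorsion_quotient_self (J : Ideal R) : LocCoh.IsPowerTorsion J (R ⧸ J) := fun m => ⟨1, fun r hr => by
  obtain ⟨c, rfl⟩ := Submodule.Quotient.mk_surjective _ m
  rw [pow_one] at hr
  exact (Submodule.Quotient.mk_eq_zero _).2 (J.mul_mem_right c hr)⟩

variable {p : Ideal R} [p.IsPrime] {M : Type u} [AddCommGroup M] [Module R M] [Module.Finite R M]

theorem exists_uniform_torsion (N : Type u) [AddCommGroup N] [Module R N] [Module.Finite R N] :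
    ∃ k : ℕ, ∀ c ∈ a ^ k, ∀ m ∈ DRing.torsionSub a N, c • m = 0 := by
  classical
  obtain ⟨t, ht⟩ : (DRing.torsionSub a N).FG := IsNoetherian.noetherian _
  have h : ∀ m ∈ t, ∃ k : ℕ, ∀ c ∈ a ^ k, c • m = 0 := fun m hm =>
    (ht ▸ Submodule.subset_span hm : m ∈ DRing.torsionSub a N)
  choose! k hk using h
  refine ⟨t.sup k, fun c hc m hm => ?_⟩
  rw [← ht] at hm
  induction hm using Submodule.span_induction with
  | mem m hm => exact hk m hm c (Ideal.pow_le_pow_right (Finset.le_sup hm) hc)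
  | zero => rw [smul_zero]
  | add x y _ _ hx hy => rw [smul_add, hx, hy, add_zero]
  | smul r x _ hx => rw [smul_comm, hx, smul_zero]

theorem not_killsH_one (hp : p ∈ associatedPrimes R M) (hdim : ringKrullDim (R ⧸ p) = ((1 : ℕ) : WithBot ℕ∞))
    (hrad : (a ⊔ p).radical = 𝔪) {s : R} (hs : s ∉ p) : ¬ KillsH a s M 1 := by
  intro hk
  obtain ⟨-, ι, hι⟩ := (isAssociatedPrime_iff_exists_injective_linearMap p M).1 hp
  have hS := lseq_shortExact hι (Submodule.mkQ_surjective _) (LinearMap.exact_map_mkQ_range ι)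
  have hap : ¬ a ≤ p := fun h => by
    rw [sup_of_le_right h, ‹p.IsPrime›.radical] at hrad
    subst hrad
    haveI : (𝔪).IsMaximal := IsLocalRing.maximalIdeal.isMaximal R
    letI := Ideal.Quotient.field (𝔪)
    rw [ringKrullDim_eq_zero_of_field] at hdim
    have : (0 : ℕ) = 1 := by exact_mod_cast hdim
    omega
  obtain ⟨c, hca, hcp⟩ := SetLike.not_le_iff_exists.1 hap
  obtain ⟨k, hkQ⟩ := exists_uniform_torsion (a := a) (M ⧸ LinearMap.range ι)
  have hck : c ^ k * s ∉ p := fun h =>
    ((‹p.IsPrime›.mem_or_mem h).resolve_right hs |> fun h' => hcp (‹p.IsPrime›.mem_of_pow_mem k h'))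
  have hkill : KillsH a (c ^ k * s) (R ⧸ p) 1 := fun y => by
    obtain ⟨z, hz⟩ := (exact_dMap_map hS 0 (s • y)).1
      ((map_smul (cmap a 1 (ModuleCat.ofHom ι)) s y).trans (hk _))
    rw [mul_smul, ← hz, ← map_smul]
    refine (congrArg _ (toMod_injective _ ?_)).trans (map_zero (dMap hS 0))
    rw [map_smul, map_zero]
    exact hkQ _ (Ideal.pow_mem_pow hca k) _ (range_toMod (I := a) (ModuleCat.of R (M ⧸ LinearMap.range ι)) ▸
      LinearMap.mem_range_self _ z)
  obtain ⟨e⟩ := exists_supEquiv (I := a) (J := p) 1 (R ⧸ p) (isPowerTorsion_quotient_self p)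
  obtain ⟨e'⟩ := exists_radicalEquiv (show (a ⊔ p).radical = (𝔪).radical by
    rw [hrad, (IsLocalRing.maximalIdeal.isMaximal R).isPrime.radical]) 1 (R ⧸ p)
  have hsd : Module.supportDim R (R ⧸ p) = ((1 : ℕ) : WithBot ℕ∞) :=
    (Module.supportDim_quotient_eq_ringKrullDim p).trans hdim
  haveI := nontrivial_H_top 1 (R ⧸ p) hsd
  have hsurj := smul_surjective_top (I := 𝔪) (M := R ⧸ p) hsd le_rfl (x := c ^ k * s) (fun q hq => by
    rw [Ideal.annihilator_quotient, Ideal.minimalPrimes_eq_subsingleton_self] at hq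
    rw [Set.mem_singleton_iff.1 hq]; exact hck)
  have hkill' : KillsH 𝔪 (c ^ k * s) (R ⧸ p) 1 := fun y => by
    apply (e'.symm.trans e).injective
    rw [map_smul, map_zero]
    exact hkill _
  exact not_nontrivial_iff_subsingleton.2 (hkill'.subsingleton_of_surjective hsurj) inferInstance

theorem mem_associatedPrimes_quotSMulTop (hp : p ∈ associatedPrimes R M) {x : R} (hxm : x ∈ 𝔪)
    (hreg : IsSMulRegular M x) {P : Ideal R} (hP : P ∈ (p ⊔ Ideal.span {x}).minimalPrimes) :
    P ∈ associatedPrimes R (M ⧸ (x • ⊤ : Submodule R M)) := by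
  haveI := hP.1.1
  obtain ⟨-, ι, hι⟩ := (isAssociatedPrime_iff_exists_injective_linearMap p M).1 hp
  let N := Submodule.torsionBySet R M (p : Set R)
  have hNsupp : (⟨P, hP.1.1⟩ : PrimeSpectrum R) ∈ Module.support R N := by
    have hrange : ∀ z, ι z ∈ N := fun z => by
      rw [Submodule.mem_torsionBySet_iff]
      rintro ⟨r, hr⟩
      obtain ⟨z, rfl⟩ := Submodule.Quotient.mk_surjective _ z
      show r • ι (Submodule.Quotient.mk z) = 0
      rw [← map_smul, ← Submodule.Quotient.mk_smul, (Submodule.Quotient.mk_eq_zero _).2 (show r • z ∈ p from p.mul_mem_right z hr), map_zero]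
    refine Module.support_subset_of_injective (LinearMap.codRestrict N ι hrange)
      (fun u v h => hι (congrArg Subtype.val h)) ?_
    rw [Module.support_eq_zeroLocus, Ideal.annihilator_quotient, PrimeSpectrum.mem_zeroLocus]
    exact SetLike.coe_subset_coe.2 (le_trans le_sup_left hP.1.2)
  have hxP : x ∈ P := hP.1.2 (Ideal.mem_sup_right (Ideal.mem_span_singleton_self x))
  let φ : (N ⧸ (x • ⊤ : Submodule R N)) →ₗ[R] M ⧸ (x • ⊤ : Submodule R M) :=
    Submodule.mapQ _ _ N.subtype (by
      rintro _ ⟨n, -, rfl⟩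
      exact ⟨n.1, trivial, rfl⟩)
  have hφ : Function.Injective φ := by
    rw [injective_iff_map_eq_zero]
    intro z hz
    obtain ⟨n, rfl⟩ := Submodule.Quotient.mk_surjective _ z
    obtain ⟨m, -, hm⟩ := (Submodule.Quotient.mk_eq_zero _).1 hz
    rw [Submodule.Quotient.mk_eq_zero]
    have hmN : m ∈ N := by
      rw [Submodule.mem_torsionBySet_iff]
      intro r
      refine hreg ?_
      show x • ((r : R) • m) = x • 0
      rw [smul_comm, smul_zero, show x • m = (n : M) from hm]
      exact (Submodule.mem_torsionBySet_iff _ _).1 n.2 r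
    exact ⟨⟨m, hmN⟩, trivial, Subtype.ext hm⟩
  refine associatedPrimes.subset_of_injective hφ ?_
  refine Module.associatedPrimes.minimalPrimes_annihilator_subset_associatedPrimes R _ ⟨⟨hP.1.1, ?_⟩, fun Q hQ hQP => ?_⟩
  · have : (⟨P, hP.1.1⟩ : PrimeSpectrum R) ∈ Module.support R (N ⧸ (x • ⊤ : Submodule R N)) := by
      show _ ∈ Module.support R (QuotSMulTop x N)
      rw [Module.support_quotSMulTop]
      exact ⟨hNsupp, by simpa using hxP⟩
    rw [Module.support_eq_zeroLocus, PrimeSpectrum.mem_zeroLocus] at this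
    exact this
  · haveI := hQ.1
    refine hP.2 ⟨hQ.1, le_trans (sup_le (fun r hr => ?_) ?_) hQ.2⟩ hQP
    · rw [Module.mem_annihilator]
      intro z
      obtain ⟨n, rfl⟩ := Submodule.Quotient.mk_surjective _ z
      rw [← Submodule.Quotient.mk_smul, show r • n = 0 from
        Subtype.ext ((Submodule.mem_torsionBySet_iff _ _).1 n.2 ⟨r, hr⟩), Submodule.Quotient.mk_zero]
    · rw [Ideal.span_singleton_le_iff_mem, Module.mem_annihilator]
      intro z
      obtain ⟨n, rfl⟩ := Submodule.Quotient.mk_surjective _ z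
      rw [← Submodule.Quotient.mk_smul, Submodule.Quotient.mk_eq_zero]
      exact ⟨n, trivial, rfl⟩

theorem mem_associatedPrimes_quot_torsion (hp : p ∈ associatedPrimes R M) (hap : ¬ a ≤ p) :
    p ∈ associatedPrimes R (M ⧸ DRing.torsionSub a M) := by
  obtain ⟨hpp, ι, hι⟩ := (isAssociatedPrime_iff_exists_injective_linearMap p M).1 hp
  refine (isAssociatedPrime_iff_exists_injective_linearMap p _).2 ⟨hpp, (Submodule.mkQ _) ∘ₗ ι, ?_⟩
  rw [injective_iff_map_eq_zero]
  intro z hz
  obtain ⟨k, hk⟩ := (Submodule.Quotient.mk_eq_zero _).1 hz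
  obtain ⟨c, hca, hcp⟩ := SetLike.not_le_iff_exists.1 hap
  obtain ⟨r, rfl⟩ := Submodule.Quotient.mk_surjective _ z
  have h1 := hk _ (Ideal.pow_mem_pow hca k)
  rw [← map_smul, ← Submodule.Quotient.mk_smul] at h1
  have h2 : c ^ k * r ∈ p := (Submodule.Quotient.mk_eq_zero _).1 (hι (h1.trans (map_zero ι).symm))
  exact (Submodule.Quotient.mk_eq_zero _).2
    ((hpp.mem_or_mem h2).resolve_left fun h => hcp (hpp.mem_of_pow_mem k h))

theorem false_of_killsH : ∀ (h : ℕ) {p : Ideal R} [p.IsPrime] {M : Type u} [AddCommGroup M] [Module R M]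
    [Module.Finite R M], p ∈ associatedPrimes R M → ringKrullDim (R ⧸ p) = ((h : ℕ) : WithBot ℕ∞) →
    (a ⊔ p).radical = 𝔪 → ∀ {s : R}, s ∉ p → (∀ j, j ≤ h → KillsH a s M j) → False := by
  intro h
  induction h with
  | zero =>
    intro p _ M _ _ _ hp hdim hrad s hs hk
    have hpm : p = 𝔪 := by
      refine le_antisymm (IsLocalRing.le_maximalIdeal ‹p.IsPrime›.ne_top) fun x hx => ?_
      by_contra hxp
      have h1 := dim_succ hx hxp
      rw [hdim] at h1
      generalize ringKrullDim (R ⧸ (p ⊔ Ideal.span {x})) = d at h1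
      have hne : p ⊔ Ideal.span {x} ≤ 𝔪 :=
        sup_le (IsLocalRing.le_maximalIdeal ‹p.IsPrime›.ne_top) ((Ideal.span_singleton_le_iff_mem _).2 hx)
      induction d with
      | bot =>
        simp at h1
      | coe d =>
        have : d + 1 = (0 : ℕ∞) := by exact_mod_cast h1
        simp at this
    subst hpm
    have hu : IsUnit s := by
      by_contra hu
      exact hs hu
    obtain ⟨-, ι, hι⟩ := (isAssociatedPrime_iff_exists_injective_linearMap 𝔪 M).1 hp
    have hane : a ≤ 𝔪 := le_sup_left.trans (Ideal.le_radical.trans hrad.le)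
    set m := ι (Submodule.Quotient.mk 1)
    have hm : m ∈ DRing.torsionSub a M := ⟨1, fun c hc => by
      rw [pow_one] at hc
      rw [← map_smul, ← Submodule.Quotient.mk_smul, (Submodule.Quotient.mk_eq_zero _).2 (by simpa using hane hc), map_zero]⟩
    rw [← range_toMod (I := a) (ModuleCat.of R M)] at hm
    obtain ⟨y, hy⟩ := hm
    have hy0 : y = 0 := (IsUnit.smul_eq_zero hu).1 (hk 0 le_rfl y)
    rw [hy0, map_zero] at hy
    have := hι (hy.symm.trans (map_zero ι).symm)
    rw [Submodule.Quotient.mk_eq_zero] at this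
    exact (IsLocalRing.maximalIdeal.isMaximal R).ne_top ((Ideal.eq_top_iff_one _).2 this)
  | succ h ih =>
    intro p _ M _ _ _ hp hdim hrad s hs hk
    rcases Nat.eq_zero_or_pos h with rfl | hpos
    · exact not_killsH_one hp hdim hrad hs (hk 1 le_rfl)
    have hap : ¬ a ≤ p := fun hle => by
      rw [sup_of_le_right hle, ‹p.IsPrime›.radical] at hrad
      subst hrad
      haveI : (𝔪).IsMaximal := IsLocalRing.maximalIdeal.isMaximal R
      letI := Ideal.Quotient.field (𝔪)
      rw [ringKrullDim_eq_zero_of_field] at hdim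
      have : (0 : ℕ) = h + 1 := by exact_mod_cast hdim
      omega
    set T := DRing.torsionSub a M
    obtain ⟨k, hkT⟩ := exists_uniform_torsion (a := a) M
    obtain ⟨c, hca, hcp⟩ := SetLike.not_le_iff_exists.1 hap
    have hT : ∀ j, KillsH a (c ^ k) T j := fun j => KillsH.left_zero (fun m =>
      Subtype.ext (hkT _ (Ideal.pow_mem_pow hca k) _ m.2)) j
    set s' := s * c ^ k
    have hs' : s' ∉ p := fun e => (‹p.IsPrime›.mem_or_mem e).elim hs fun e' => hcp (‹p.IsPrime›.mem_of_pow_mem k e')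
    have hk' : ∀ j, j ≤ h + 1 → KillsH a s' (M ⧸ T) j := fun j hj =>
      KillsH.right T.injective_subtype (Submodule.mkQ_surjective T) (LinearMap.exact_subtype_mkQ T) (hk j hj) (hT (j + 1))
    have hp' := mem_associatedPrimes_quot_torsion (a := a) hp hap
    have hbad : ∀ q ∈ associatedPrimes R (M ⧸ T) ∪ ((p ⊔ Ideal.span {s'}).minimalPrimes ∪ {p}),
        q.IsPrime ∧ ¬ a ≤ q := by
      rintro q (hq | hq | rfl)
      · refine ⟨hq.isPrime, fun hle => ?_⟩
        obtain ⟨hqp, j, hj⟩ := (isAssociatedPrime_iff_exists_injective_linearMap q _).1 hq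
        have hz : j (Submodule.Quotient.mk 1) ∈ DRing.torsionSub a (M ⧸ T) := ⟨1, fun b hb => by
          rw [pow_one] at hb
          rw [← map_smul, ← Submodule.Quotient.mk_smul, (Submodule.Quotient.mk_eq_zero _).2 (by simpa using hle hb), map_zero]⟩
        rw [torsionSub_quot_eq_bot M, Submodule.mem_bot] at hz
        have := hj (hz.trans (map_zero j).symm)
        rw [Submodule.Quotient.mk_eq_zero] at this
        exact hqp.ne_top ((Ideal.eq_top_iff_one _).2 this)
      · refine ⟨hq.1.1, fun hle => ?_⟩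
        by_cases hsm : s' ∈ 𝔪
        · have h1 := dim_succ hsm hs'
          rw [hdim] at h1
          have h2 := eq_of_add_one h1
          obtain ⟨h', rfl⟩ := Nat.exists_eq_succ_of_ne_zero hpos.ne'
          refine maximalIdeal_notMem_minimalPrimes h2 ?_
          have hqm : q = 𝔪 := le_antisymm (IsLocalRing.le_maximalIdeal hq.1.1.ne_top) (hrad ▸
            hq.1.1.radical_le_iff.2 (sup_le hle (le_sup_left.trans hq.1.2)))
          exact hqm ▸ hq
        · exact hq.1.1.ne_top (Ideal.eq_top_of_isUnit_mem q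
            (hq.1.2 (Ideal.mem_sup_right (Ideal.mem_span_singleton_self _))) (not_not.1 hsm))
      · exact ⟨‹_›, hap⟩
    obtain ⟨x, hxa, hx⟩ : ∃ x ∈ a, ∀ q ∈ associatedPrimes R (M ⧸ T) ∪ ((p ⊔ Ideal.span {s'}).minimalPrimes ∪ {p}), x ∉ q := by
      have hfin : (associatedPrimes R (M ⧸ T) ∪ ((p ⊔ Ideal.span {s'}).minimalPrimes ∪ {p})).Finite :=
        (associatedPrimes.finite R _).union ((Ideal.finite_minimalPrimes_of_isNoetherianRing R _).union (Set.finite_singleton p))
      by_contra hc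
      push Not at hc
      obtain ⟨q, hq, hle⟩ := (Ideal.subset_union_prime_finite hfin (f := id) 0 0 fun q hq _ _ => (hbad q hq).1).1
        (fun x hx => by
          obtain ⟨q, hq, hxq⟩ := hc x hx
          exact Set.mem_biUnion hq hxq : (a : Set R) ⊆ _)
      exact (hbad q hq).2 hle
    have hxm : x ∈ 𝔪 := (le_sup_left.trans (Ideal.le_radical.trans hrad.le)) hxa
    have hreg : IsSMulRegular (M ⧸ T) x := by
      rw [isSMulRegular_iff_right_eq_zero_of_smul]
      intro m hm
      by_contra hm0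
      obtain ⟨q, hq, hle⟩ := exists_le_isAssociatedPrime_of_isNoetherianRing R m hm0
      exact hx q (Or.inl hq) (hle (by simpa [Submodule.mem_colon_singleton] using hm))
    have hxp : x ∉ p := hx p (Or.inr (Or.inr rfl))
    have h1 := dim_succ hxm hxp
    rw [hdim] at h1
    obtain ⟨P, hP, hPdim⟩ := exists_prime_dim (eq_of_add_one h1)
    haveI := hP.1.1
    have hxP : x ∈ P := hP.1.2 (Ideal.mem_sup_right (Ideal.mem_span_singleton_self x))
    have hsP : s' ∉ P := fun hsP => by
      obtain ⟨P₀, hP₀, hle⟩ := Ideal.exists_minimalPrimes_le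
        (show p ⊔ Ideal.span {s'} ≤ P from sup_le (le_sup_left.trans hP.1.2) ((Ideal.span_singleton_le_iff_mem _).2 hsP))
      haveI := hP₀.1.1
      have hxP₀ : x ∉ P₀ := hx P₀ (Or.inr (Or.inl hP₀))
      have hsm : s' ∈ 𝔪 := IsLocalRing.le_maximalIdeal hP.1.1.ne_top hsP
      have e1 := dim_succ hxm hxP₀
      have e2 : ((h : ℕ) : WithBot ℕ∞) ≤ ringKrullDim (R ⧸ (P₀ ⊔ Ideal.span {x})) :=
        hPdim.ge.trans (dim_mono (sup_le hle ((Ideal.span_singleton_le_iff_mem _).2 hxP)))
      have e3 := dim_succ hsm hs'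
      rw [hdim] at e3
      have e4 := eq_of_add_one e3
      have e5 : ringKrullDim (R ⧸ P₀) ≤ ((h : ℕ) : WithBot ℕ∞) := e4 ▸ dim_mono hP₀.1.2
      have e6 := (add_le_add e2 (le_refl (1 : WithBot ℕ∞))).trans (e1.le.trans e5)
      have : h + 1 ≤ h := by exact_mod_cast e6
      omega
    obtain ⟨hex, hS⟩ := quotSMulTop_shortExact hreg
    have hradP : (a ⊔ P).radical = 𝔪 := by
      refine le_antisymm ?_ (hrad ▸ Ideal.radical_mono (sup_le_sup_left (le_sup_left.trans hP.1.2) a))
      exact (IsLocalRing.maximalIdeal.isMaximal R).isPrime.radical_le_iff.2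
        (sup_le (le_sup_left.trans (Ideal.le_radical.trans hrad.le)) (IsLocalRing.le_maximalIdeal hP.1.1.ne_top))
    refine ih (mem_associatedPrimes_quotSMulTop hp' hxm hreg hP) hPdim hradP
      (s := s' * s') (fun e => (hP.1.1.mem_or_mem e).elim hsP hsP) fun j hj =>
      KillsH.right (fun u v huv => hreg huv) (Submodule.mkQ_surjective _) hex (hk' j (hj.trans h.le_succ))
        (hk' (j + 1) (by omega))

end Groth.Agent.H2LC
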