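import Mathlib
import Groth.Prelude.Def_Wider
import Groth.Prelude.Def_DRing3
import Groth.Prelude.Def_CAlg
import Groth.Prelude.Def_W4bk5brsh7111920
import Groth.Agent.Lib.H2AdjDepth
import Groth.Agent.Lib.H2LCFlat
import Groth.Agent.Lib.H2DepthLocal

/-! The inequality `finDimRel ≤ minAdjDepth`. -/

universe u

open CategoryTheory Pointwise
open scoped TensorProduct

namespace Groth.Agent.H2LC

section local_
variable {R : Type u} [CommRing R]

/-- `H^j_I(M)` vanishes at the prime `p`. -/
def LZ (I p : Ideal R) (M : Type u) [AddCommGroup M] [Module R M] (j : ℕ) : Prop :=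
  ∀ y : LocCoh.H I j M, ∃ u ∉ p, u • y = 0

theorem LZ.mid {I p : Ideal R} [hp : p.IsPrime] {A B C : Type u} [AddCommGroup A] [Module R A]
    [AddCommGroup B] [Module R B] [AddCommGroup C] [Module R C] {f : A →ₗ[R] B} {g : B →ₗ[R] C}
    (hf : Function.Injective f) (hg : Function.Surjective g) (hfg : Function.Exact f g) {j : ℕ}
    (hA : LZ I p A j) (hC : LZ I p C j) : LZ I p B j := fun y => by
  have hS := lseq_shortExact hf hg hfg
  obtain ⟨v, hv, hv0⟩ := hC (cmap I j (ModuleCat.ofHom g) y)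
  obtain ⟨x, hx⟩ := (exact_map hS j (v • y)).1 ((map_smul (cmap I j (ModuleCat.ofHom g)) v y).trans hv0)
  obtain ⟨w, hw, hw0⟩ := hA x
  refine ⟨w * v, fun h => (hp.mem_or_mem h).elim hw hv, ?_⟩
  rw [mul_smul, ← hx]
  exact (map_smul _ w x).symm.trans ((congrArg _ hw0).trans (map_zero _))

variable [IsNoetherianRing R]

theorem exists_killer_torsion {p : Ideal R} [p.IsPrime] {M : Type u} [AddCommGroup M] [Module R M]
    [Module.Finite R M] (hp : p ∉ associatedPrimes R M) :
    ∃ u ∉ p, ∀ m : DRing.torsionSub p M, u • m = 0 := by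
  set T := DRing.torsionSub p M
  by_contra hc
  push Not at hc
  have hann : Module.annihilator R T ≤ p := fun u hu => by
    by_contra hup
    obtain ⟨m, hm⟩ := hc u hup
    exact hm (Module.mem_annihilator.1 hu m)
  obtain ⟨k, hk⟩ := exists_uniform_torsion' p M
  refine hp (associatedPrimes.subset_of_injective (f := T.subtype) T.injective_subtype
    (Module.associatedPrimes.minimalPrimes_annihilator_subset_associatedPrimes R T ⟨⟨‹_›, hann⟩, fun q hq _ => ?_⟩))
  intro r hr
  refine hq.1.mem_of_pow_mem k (hq.2 ?_)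
  rw [Module.mem_annihilator]
  exact fun m => Subtype.ext (hk _ (Ideal.pow_mem_pow hr k) _ m.2)
where
  exists_uniform_torsion' (p : Ideal R) (N : Type u) [AddCommGroup N] [Module R N] [Module.Finite R N] :
      ∃ k : ℕ, ∀ c ∈ p ^ k, ∀ m ∈ DRing.torsionSub p N, c • m = 0 := by
    classical
    obtain ⟨t, ht⟩ : (DRing.torsionSub p N).FG := IsNoetherian.noetherian _
    have h : ∀ m ∈ t, ∃ k : ℕ, ∀ c ∈ p ^ k, c • m = 0 := fun m hm =>
      (ht ▸ Submodule.subset_span hm : m ∈ DRing.torsionSub p N)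
    choose! k hk using h
    refine ⟨t.sup k, fun c hc m hm => ?_⟩
    rw [← ht] at hm
    induction hm using Submodule.span_induction with
    | mem m hm => exact hk m hm c (Ideal.pow_le_pow_right (Finset.le_sup hm) hc)
    | zero => rw [smul_zero]
    | add x y _ _ hx hy => rw [smul_add, hx, hy, add_zero]
    | smul r x _ hx => rw [smul_comm, hx, smul_zero]

theorem exists_regular_of_torsion {p : Ideal R} {M : Type u} [AddCommGroup M] [Module R M] [Module.Finite R M]
    (h : DRing.torsionSub p M = ⊥) : ∃ x ∈ p, IsSMulRegular M x := by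
  have hno : ∀ q ∈ associatedPrimes R M, ¬ p ≤ q := fun q hq hle => by
    obtain ⟨hqp, ι, hι⟩ := (isAssociatedPrime_iff_exists_injective_linearMap q M).1 hq
    have hz : ι (Submodule.Quotient.mk 1) ∈ DRing.torsionSub p M := ⟨1, fun b hb => by
      rw [pow_one] at hb
      rw [← map_smul, ← Submodule.Quotient.mk_smul, (Submodule.Quotient.mk_eq_zero _).2 (by simpa using hle hb), map_zero]⟩
    rw [h, Submodule.mem_bot] at hz
    have := hι (hz.trans (map_zero ι).symm)
    rw [Submodule.Quotient.mk_eq_zero] at this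
    exact hqp.ne_top ((Ideal.eq_top_iff_one _).2 this)
  by_contra hc
  push Not at hc
  obtain ⟨q, hq, hle⟩ := (Ideal.subset_union_prime_finite (associatedPrimes.finite R M) (f := id) 0 0
    fun q hq _ _ => hq.isPrime).1 (fun x hx => by
      have : x ∈ ⋃ q ∈ associatedPrimes R M, (q : Set R) := by
        rw [biUnion_associatedPrimes_eq_compl_regular]; exact hc x hx
      simpa using this : (p : Set R) ⊆ _)
  exact hno q hq hle

variable [IsLocalRing R]

theorem lz_of_killsH {a p : Ideal R} [p.IsPrime] {h : ℕ}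
    (hdim : ringKrullDim (R ⧸ p) = ((h : ℕ) : WithBot ℕ∞))
    (hrad : (a ⊔ p).radical = IsLocalRing.maximalIdeal R) : ∀ (n : ℕ) (M : Type u) [AddCommGroup M] [Module R M]
    [Module.Finite R M], (∃ s ∉ p, ∀ j, j ≤ n + h → KillsH a s M j) → ∀ j, j ≤ n → LZ p p M j := by
  intro n
  induction n with
  | zero =>
    intro M _ _ _ ⟨s, hs, hk⟩ j hj y
    obtain rfl := Nat.le_zero.1 hj
    obtain ⟨u, hu, hu0⟩ := exists_killer_torsion (p := p) (M := M) fun hp =>
      false_of_killsH h hp hdim hrad hs fun j hj => hk j (by omega)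
    refine ⟨u, hu, toMod_injective (ModuleCat.of R M) ?_⟩
    rw [map_smul, map_zero]
    have hy : toMod (ModuleCat.of R M) y ∈ DRing.torsionSub p M :=
      range_toMod (I := p) (ModuleCat.of R M) ▸ LinearMap.mem_range_self _ y
    exact congrArg Subtype.val (hu0 ⟨_, hy⟩)
  | succ n ih =>
    intro M _ _ _ ⟨s, hs, hk⟩
    obtain ⟨u, hu, hu0⟩ := exists_killer_torsion (p := p) (M := M) fun hp =>
      false_of_killsH h hp hdim hrad hs fun j hj => hk j (by omega)
    set T := DRing.torsionSub p M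
    have hs' : s * u ∉ p := fun e => (‹p.IsPrime›.mem_or_mem e).elim hs hu
    have hk' : ∀ j, j ≤ n + 1 + h → KillsH a (s * u) (M ⧸ T) j := fun j hj =>
      KillsH.right T.injective_subtype (Submodule.mkQ_surjective T) (LinearMap.exact_subtype_mkQ T) (hk j hj)
        (KillsH.left_zero hu0 (j + 1))
    obtain ⟨x, hxp, hreg⟩ := exists_regular_of_torsion (torsionSub_quot_eq_bot (I := p) M)
    obtain ⟨hex, hS⟩ := quotSMulTop_shortExact hreg
    have hss : (s * u) * (s * u) ∉ p := fun e => (‹p.IsPrime›.mem_or_mem e).elim hs' hs'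
    have hQ := ih ((M ⧸ T) ⧸ (x • ⊤ : Submodule R (M ⧸ T))) ⟨_, hss, fun j hj =>
      KillsH.right (fun a b hab => hreg hab) (Submodule.mkQ_surjective _) hex (hk' j (by omega))
        (hk' (j + 1) (by omega))⟩
    intro j hj
    refine LZ.mid T.injective_subtype (Submodule.mkQ_surjective T) (LinearMap.exact_subtype_mkQ T)
      (fun y => ⟨u, hu, KillsH.left_zero hu0 j y⟩) ?_
    have hker : ∀ y : LocCoh.H p j (M ⧸ T), x • y = 0 → ∃ v ∉ p, v • y = 0 := by
      intro y hy
      rcases j with _ | j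
      · refine ⟨1, p.ne_top_iff_one.1 ‹p.IsPrime›.ne_top, ?_⟩
        rw [one_smul]
        apply toMod_injective
        rw [map_zero]
        exact hreg ((map_smul (toMod (ModuleCat.of R (M ⧸ T))) x y).symm.trans
          ((congrArg _ hy).trans ((map_zero _).trans (smul_zero x).symm)))
      · have hcm : cmap p (j + 1) (x • 𝟙 (ModuleCat.of R (M ⧸ T))) y = 0 := by rw [cmap_smul_id, hy]
        obtain ⟨z, hz⟩ := (exact_dMap_map hS j y).1 hcm
        obtain ⟨v, hv, hv0⟩ := hQ j (by omega) z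
        exact ⟨v, hv, by rw [← hz, ← map_smul, hv0, map_zero]⟩
    intro y
    obtain ⟨k, hk⟩ := isPowerTorsion (I := p) j (ModuleCat.of R (M ⧸ T)) y
    have hxk : x ^ k • y = 0 := hk _ (Ideal.pow_mem_pow hxp k)
    clear hk
    induction k generalizing y with
    | zero => exact ⟨1, p.ne_top_iff_one.1 ‹p.IsPrime›.ne_top, by simpa using hxk⟩
    | succ k ihk =>
      obtain ⟨v, hv, hv0⟩ := ihk (x • y) (by rw [← mul_smul, ← pow_succ]; exact hxk)
      obtain ⟨w, hw, hw0⟩ := hker (v • y) (by rw [smul_comm]; exact hv0)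
      exact ⟨w * v, fun e => (‹p.IsPrime›.mem_or_mem e).elim hw hv, by rw [mul_smul, hw0]⟩

end local_

theorem ringKrullDim_localized_quotient_le {R : Type u} [CommRing R] {p q : Ideal R} [p.IsPrime] [q.IsPrime]
    (hpq : p ≤ q) : ringKrullDim (Localization.AtPrime q ⧸ p.map (algebraMap R (Localization.AtPrime q))) ≤
      ((q.map (Ideal.Quotient.mk p)).height : WithBot ℕ∞) := by
  set qb := q.map (Ideal.Quotient.mk p)
  haveI : qb.IsPrime := Ideal.map_isPrime_of_surjective Ideal.Quotient.mk_surjective (by rwa [Ideal.mk_ker])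
  have hcomap : qb.comap (Ideal.Quotient.mk p) = q := by
    rw [Ideal.comap_map_of_surjective _ Ideal.Quotient.mk_surjective, ← RingHom.ker_eq_comap_bot,
      Ideal.mk_ker, sup_of_le_left hpq]
  rw [← IsLocalization.AtPrime.ringKrullDim_eq_height qb (Localization.AtPrime qb)]
  set pm := p.map (algebraMap R (Localization.AtPrime q))
  let g : R ⧸ p →+* Localization.AtPrime q ⧸ pm := Ideal.quotientMap pm (algebraMap R _) Ideal.le_comap_map
  have hg : ∀ y : qb.primeCompl, IsUnit (g y) := by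
    rintro ⟨y, hy⟩
    obtain ⟨r, rfl⟩ := Ideal.Quotient.mk_surjective y
    have hr : r ∈ q.primeCompl := fun h => hy (Ideal.mem_map_of_mem _ h)
    have := (IsLocalization.map_units (Localization.AtPrime q) ⟨r, hr⟩).map (Ideal.Quotient.mk pm)
    simpa [g, Ideal.quotientMap_mk] using this
  refine ringKrullDim_le_of_surjective (IsLocalization.lift (S := Localization.AtPrime qb) hg) fun z => ?_
  obtain ⟨z, rfl⟩ := Ideal.Quotient.mk_surjective z
  obtain ⟨r, ⟨c, hc⟩, rfl⟩ := IsLocalization.exists_mk'_eq q.primeCompl z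
  have hc' : Ideal.Quotient.mk p c ∈ qb.primeCompl := fun h => hc (hcomap ▸ (h : Ideal.Quotient.mk p c ∈ qb))
  refine ⟨IsLocalization.mk' _ (Ideal.Quotient.mk p r) ⟨_, hc'⟩, ?_⟩
  rw [IsLocalization.lift_mk'_spec]
  simp only [g, Ideal.quotientMap_mk, ← map_mul]
  rw [mul_comm, IsLocalization.mk'_spec]

theorem exists_not_killed {R : Type u} [CommRing R] [IsNoetherianRing R] {a b : Ideal R} {M : Type u}
    [AddCommGroup M] [Module R M] [Module.Finite R M] {p q : Ideal R} [p.IsPrime] [hqp : q.IsPrime] (hb : ¬ b ≤ p)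
    (hq : q ∈ (a ⊔ p).minimalPrimes) {h : ℕ}
    (hdim : ringKrullDim (Localization.AtPrime q ⧸ p.map (algebraMap R (Localization.AtPrime q))) = ((h : ℕ) : WithBot ℕ∞))
    {n : ℕ} (hall : ∀ i, i ≤ n + h → b ≤ (Module.annihilator R (LocCoh.H a i M)).radical) :
    ((n + 1 : ℕ) : ℕ∞) ≤ LocCoh.depth (Localization.AtPrime p) (LocalizedModule p.primeCompl M) := by
  have hpq : p ≤ q := le_sup_right.trans hq.1.2
  obtain ⟨b0, hb0, hb0p⟩ := SetLike.not_le_iff_exists.1 hb
  choose! N hN using fun i (hi : i ≤ n + h) => hall i hi hb0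
  set K := (Finset.range (n + h + 1)).sup N
  set A := Localization.AtPrime q
  set p' := p.map (algebraMap R A)
  haveI hp' : p'.IsPrime := IsLocalization.isPrime_of_isPrime_disjoint q.primeCompl A p ‹_›
    (Set.disjoint_left.2 fun x hx hxp => hx (hpq hxp))
  have hcomap : p'.comap (algebraMap R A) = p := IsLocalization.under_map_of_isPrime_disjoint q.primeCompl A ‹_›
    (Set.disjoint_left.2 fun x hx hxp => hx (hpq hxp))
  set M' := A ⊗[R] M
  have hs : algebraMap R A (b0 ^ K) ∉ p' := fun h => hb0p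
    (‹p.IsPrime›.mem_of_pow_mem K (hcomap ▸ (h : algebraMap R A (b0 ^ K) ∈ p')))
  have hrad : (a.map (algebraMap R A) ⊔ p').radical = IsLocalRing.maximalIdeal A := by
    rw [← Ideal.map_sup, Ideal.radical_eq_sInf]
    refine le_antisymm (sInf_le ⟨?_, inferInstance⟩) (le_sInf fun Q ⟨hQ, hQp⟩ => ?_)
    · exact (Ideal.map_mono hq.1.2).trans Localization.AtPrime.map_eq_maximalIdeal.le
    · have h1 : Q.comap (algebraMap R A) ≤ q := (Ideal.comap_mono (IsLocalRing.le_maximalIdeal hQp.ne_top)).trans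
        (IsLocalization.AtPrime.comap_maximalIdeal A q).le
      have h2 : q ≤ Q.comap (algebraMap R A) := hq.2 ⟨hQp.comap _, Ideal.map_le_iff_le_comap.1 hQ⟩ h1
      rw [← Localization.AtPrime.map_eq_maximalIdeal]
      exact Ideal.map_le_iff_le_comap.2 h2
  have hkill : ∀ j, j ≤ n + h → KillsH (a.map (algebraMap R A)) (algebraMap R A (b0 ^ K)) M' j := by
    intro j hj y
    obtain ⟨e⟩ := exists_flatEquiv (R' := A) a j M
    obtain ⟨z, rfl⟩ := e.surjective y
    rw [← map_smul]
    have : algebraMap R A (b0 ^ K) • z = 0 := by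
      rw [algebraMap_smul]
      induction z using TensorProduct.induction_on with
      | zero => rw [smul_zero]
      | tmul c m =>
        rw [← TensorProduct.tmul_smul,
          show b0 ^ K • m = 0 from Module.mem_annihilator.1 (by
            have hle : N j ≤ K := Finset.le_sup (f := N) (Finset.mem_range.2 (by omega : j < n + h + 1))
            rw [← Nat.sub_add_cancel hle, pow_add]
            exact Ideal.mul_mem_left _ _ (hN j hj)) m,
          TensorProduct.tmul_zero]
      | add x y hx hy => rw [smul_add, hx, hy, add_zero]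
    rw [this, map_zero]
  have hlz := lz_of_killsH hdim hrad n M' ⟨_, hs, hkill⟩
  have hzero : ∀ j, j ≤ n → ∀ y : LocCoh.H p j M, ∃ u ∉ p, u • y = 0 := by
    intro j hj y
    obtain ⟨e⟩ := exists_flatEquiv (R' := A) p j M
    obtain ⟨v, hv, hv0⟩ := hlz j hj (e (1 ⊗ₜ y))
    rw [← map_smul, map_eq_zero_iff e e.injective] at hv0
    obtain ⟨r, ⟨c, hc⟩, rfl⟩ := IsLocalization.exists_mk'_eq q.primeCompl v
    have hr : r ∉ p := fun h => hv (by
      rw [IsLocalization.mk'_eq_mul_mk'_one]; exact p'.mul_mem_right _ (Ideal.mem_map_of_mem _ h))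
    have h1 : r • ((TensorProduct.mk R A _ 1) y) = 0 := by
      rw [TensorProduct.mk_apply, ← algebraMap_smul A r, ← IsLocalization.mk'_spec A r (⟨c, hc⟩ : q.primeCompl),
        mul_comm, mul_smul, hv0, smul_zero]
    rw [← map_smul] at h1
    obtain ⟨⟨c', hc'⟩, h2⟩ := (IsLocalizedModule.eq_zero_iff q.primeCompl (TensorProduct.mk R A _ 1)).1 h1
    refine ⟨c' * r, fun e => (‹p.IsPrime›.mem_or_mem e).elim (fun e' => hc' (hpq e')) hr, ?_⟩
    rw [mul_smul]; exact h2
  refine (H2DepthLocal.le_idealDepth_iff (R := Localization.AtPrime p)).2 fun i hi => ?_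
  haveI : Subsingleton (Localization.AtPrime p ⊗[R] LocCoh.H p i M) := by
    refine ⟨fun x y => ?_⟩
    have hz : ∀ z : Localization.AtPrime p ⊗[R] LocCoh.H p i M, z = 0 := fun z => by
      induction z using TensorProduct.induction_on with
      | zero => rfl
      | tmul c m =>
        obtain ⟨u, hu, hu0⟩ := hzero i (by omega) m
        have hun := IsLocalization.map_units (Localization.AtPrime p) (⟨u, hu⟩ : p.primeCompl)
        refine (IsUnit.smul_eq_zero hun).1 ?_
        rw [algebraMap_smul, ← TensorProduct.tmul_smul, hu0, TensorProduct.tmul_zero]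
      | add x y hx hy => rw [hx, hy, add_zero]
    rw [hz x, hz y]
  obtain ⟨e⟩ := exists_flatEquiv (R' := Localization.AtPrime p) p i M
  have h3 := subsingleton_congr (LocalizedModule.equivTensorProduct p.primeCompl M).symm i
    (e.symm.injective.subsingleton)
  rw [Localization.AtPrime.map_eq_maximalIdeal] at h3
  exact h3

theorem finDimRel_le_adjDepth {R : Type u} [CommRing R] [IsNoetherianRing R] {a b : Ideal R} {M : Type u}
    [AddCommGroup M] [Module R M] [Module.Finite R M] {p : PrimeSpectrum R} (hb : ¬ b ≤ p.asIdeal) :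
    LocCoh.finDimRel a b M ≤ LocCoh.adjDepth a M p := by
  set J := (a ⊔ p.asIdeal).map (Ideal.Quotient.mk p.asIdeal)
  show _ ≤ _ + J.height
  by_cases hJ : J.height = ⊤
  · rw [hJ, add_top]; exact le_top
  obtain ⟨H, hH⟩ := ENat.ne_top_iff_exists.1 hJ
  obtain ⟨Q, hQp, hJQ, hQh⟩ := Ideal.exists_isPrime_height_eq hH.symm
  obtain ⟨Q0, hQ0, hQ0Q⟩ := Ideal.exists_minimalPrimes_le hJQ
  haveI := hQ0.1.1
  have hQ0h : Q0.height ≤ (H : ℕ∞) := (Ideal.height_mono hQ0Q).trans hQh.le
  set q := Q0.comap (Ideal.Quotient.mk p.asIdeal)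
  have hq : q ∈ (a ⊔ p.asIdeal).minimalPrimes := by
    refine ⟨⟨inferInstance, Ideal.map_le_iff_le_comap.1 hQ0.1.2⟩, fun y hy hyq => ?_⟩
    haveI := hy.1
    have hker : RingHom.ker (Ideal.Quotient.mk p.asIdeal) ≤ y := by
      rw [Ideal.mk_ker]; exact le_sup_right.trans hy.2
    have h1 : y.map (Ideal.Quotient.mk p.asIdeal) ≤ Q0 := Ideal.map_le_iff_le_comap.2 hyq
    have h2 := hQ0.2 ⟨Ideal.map_isPrime_of_surjective Ideal.Quotient.mk_surjective hker, Ideal.map_mono hy.2⟩ h1
    refine (Ideal.comap_mono h2).trans ?_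
    rw [Ideal.comap_map_of_surjective _ Ideal.Quotient.mk_surjective, ← RingHom.ker_eq_comap_bot,
      sup_of_le_left hker]
  have hpq : p.asIdeal ≤ q := le_sup_right.trans hq.1.2
  have hqmap : q.map (Ideal.Quotient.mk p.asIdeal) = Q0 :=
    Ideal.map_comap_of_surjective _ Ideal.Quotient.mk_surjective Q0
  set A := Localization.AtPrime q
  have hle : ringKrullDim (A ⧸ p.asIdeal.map (algebraMap R A)) ≤ ((H : ℕ∞) : WithBot ℕ∞) :=
    (ringKrullDim_localized_quotient_le hpq).trans (by rw [hqmap]; exact_mod_cast hQ0h)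
  haveI : Nontrivial (A ⧸ p.asIdeal.map (algebraMap R A)) := Ideal.Quotient.nontrivial_iff.2
    fun h => (IsLocalRing.maximalIdeal.isMaximal A).ne_top (top_le_iff.1 (h.ge.trans
      ((Ideal.map_mono hpq).trans Localization.AtPrime.map_eq_maximalIdeal.le)))
  have hnn : (0 : WithBot ℕ∞) ≤ ringKrullDim (A ⧸ p.asIdeal.map (algebraMap R A)) := ringKrullDim_nonneg_of_nontrivial
  obtain ⟨d, hd⟩ := WithBot.ne_bot_iff_exists.1 (ne_bot_of_le_ne_bot (by simp) hnn)
  rw [← hd] at hle
  have hdH : d ≤ (H : ℕ∞) := by exact_mod_cast hle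
  obtain ⟨h, rfl⟩ := ENat.ne_top_iff_exists.1 (ne_top_of_le_ne_top (ENat.coe_ne_top H) hdH)
  rw [← hH]
  refine le_trans ?_ (add_le_add le_rfl hdH)
  by_cases ht : LocCoh.depth (Localization.AtPrime p.asIdeal) (LocalizedModule p.asIdeal.primeCompl M) = ⊤
  · rw [ht, top_add]; exact le_top
  obtain ⟨t, ht⟩ := ENat.ne_top_iff_exists.1 ht
  rw [← ht]
  by_contra hc
  have := exists_not_killed (n := t) hb hq hd.symm fun i hi => by
    by_contra hbad
    refine hc ((iInf₂_le i hbad).trans ?_)
    exact_mod_cast hi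
  rw [← ht] at this
  have : t + 1 ≤ t := by exact_mod_cast this
  omega

end Groth.Agent.H2LC
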