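import Mathlib
import Groth.Prelude.Def_Wider
import Groth.Prelude.Def_DRing3
import Groth.Prelude.Def_DualLC
import Groth.Agent.Lib.H2LCBaseChange
import Groth.Agent.Lib.H2LCFlat
import Groth.Agent.Lib.H2AdjDepthGlobal

/-! Surjectivity and injectivity of the comparison maps `H^i_{I'} → H^i_I`. -/

universe u

open CategoryTheory CategoryTheory.Limits Opposite Pointwise
open scoped TensorProduct

namespace Groth.Agent.H2LC

open Groth.Agent.H2ExtLES

variable {R : Type u} [CommRing R] {I I' : Ideal R}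

/-- stagewise comparison map. -/
noncomputable abbrev hStage (h : I ≤ I') (i : ℕ) (n : ℕᵒᵖᵒᵖ) (M : ModuleCat.{u} R) :
    St I' i n M ⟶ St I i n M :=
  ((Functor.whiskerRight (NatTrans.op (Dual2.quotMapOfLE h)) (Ext R (ModuleCat.{u} R) i)).app n).app M

/-- the comparison map as a linear map. -/
noncomputable abbrev hmap (h : I ≤ I') (i : ℕ) (M : ModuleCat.{u} R) :
    (localCohomology I' i).obj M →ₗ[R] (localCohomology I i).obj M :=
  ((Dual2.HmapOfLE h i).app M).hom

lemma hmap_ins (h : I ≤ I') (i : ℕ) (n : ℕᵒᵖᵒᵖ) (M : ModuleCat.{u} R) (y : St I' i n M) :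
    hmap h i M (ins I' i n M y) = ins I i n M (hStage h i n M y) := by
  have := congrArg (fun t => t.app M)
    (ι_colimMap (Functor.whiskerRight (NatTrans.op (Dual2.quotMapOfLE h)) (Ext R (ModuleCat.{u} R) i)) n)
  exact (congrArg (fun t => t y) (congrArg ModuleCat.Hom.hom this)).trans rfl

theorem hmap_dMap {S : ShortComplex (ModuleCat.{u} R)} (hS : S.ShortExact) (h : I ≤ I') (i : ℕ)
    (y : (localCohomology I' i).obj S.X₃) :
    hmap h (i + 1) S.X₁ (dMap hS i y) = dMap hS i (hmap h i S.X₃ y) := by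
  obtain ⟨n, z, rfl⟩ := exists_rep I' i y
  rw [dMap_ins_apply, hmap_ins, hmap_ins, dMap_ins_apply]
  refine congrArg (ins I (i + 1) n S.X₁) ?_
  exact (congrArg (fun t => t z) (congrArg ModuleCat.Hom.hom
    (congrArg Quiver.Hom.unop (delta_natural_left hS i ((Dual2.quotMapOfLE h).app n.unop))))).symm

theorem toMod_hmap (h : I ≤ I') (M : ModuleCat.{u} R) (y : (localCohomology I' 0).obj M) :
    toMod M (hmap h 0 M y) = toMod M y := by
  obtain ⟨n, z, rfl⟩ := exists_rep I' 0 y
  rw [hmap_ins, toMod_ins, toMod_ins]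
  set f := (Dual2.quotMapOfLE h).app n.unop
  have hz := congrArg Quiver.Hom.unop (zeroMap_natural_left M f)
  obtain ⟨φ, rfl⟩ : ∃ φ, (z0 n M).hom φ = z := ⟨(z0 n M).inv z, by simp⟩
  have h1 : hStage h 0 n M ((z0 n M).hom φ) = (z0 n M).hom (f ≫ φ) :=
    congrArg (fun t => t φ) (congrArg ModuleCat.Hom.hom hz)
  simp only [h1, v0, LinearMap.comp_apply, Iso.hom_inv_id_apply]
  rfl

variable [IsNoetherianRing R]

theorem exists_mem_torsion_minimal {p : Ideal R} (hp : p ∈ I.minimalPrimes) {N : Type u} [AddCommGroup N]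
    [Module R N] {n : N} (hn : n ∈ DRing.torsionSub I N) : ∃ x ∉ p, x • n ∈ DRing.torsionSub p N := by
  haveI := hp.1.1
  obtain ⟨k, hk⟩ := hn
  let W := Submodule.span R {n}
  haveI : Module.Finite R W := Module.Finite.iff_fg.2 (Submodule.fg_span_singleton n)
  set T := DRing.torsionSub p W
  by_contra hc
  push Not at hc
  have hann : Module.annihilator R (W ⧸ T) ≤ p := fun x hx => by
    by_contra hxp
    refine hc x hxp ?_
    have h1 : x • (⟨n, Submodule.mem_span_singleton_self n⟩ : W) ∈ T := by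
      rw [← Submodule.Quotient.mk_eq_zero, Submodule.Quotient.mk_smul]
      exact Module.mem_annihilator.1 hx _
    obtain ⟨j, hj⟩ := h1
    exact ⟨j, fun b hb => congrArg Subtype.val (hj b hb)⟩
  have hmin : p ∈ (Module.annihilator R (W ⧸ T)).minimalPrimes := by
    refine ⟨⟨‹_›, hann⟩, fun q hq hqp => ?_⟩
    refine hp.2 ⟨hq.1, fun r hr => hq.1.mem_of_pow_mem k (hq.2 (Module.mem_annihilator.2 fun w => ?_))⟩ hqp
    obtain ⟨⟨w, hw⟩, rfl⟩ := Submodule.Quotient.mk_surjective _ w
    obtain ⟨c, rfl⟩ := Submodule.mem_span_singleton.1 hw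
    rw [← Submodule.Quotient.mk_smul]
    refine (Submodule.Quotient.mk_eq_zero _).2 ?_
    rw [show r ^ k • (⟨c • n, hw⟩ : W) = 0 from Subtype.ext (by
      show r ^ k • c • n = 0
      rw [smul_comm, hk _ (Ideal.pow_mem_pow hr k), smul_zero])]
    exact zero_mem _
  obtain ⟨hpp, ι, hι⟩ := (isAssociatedPrime_iff_exists_injective_linearMap p _).1
    (Module.associatedPrimes.minimalPrimes_annihilator_subset_associatedPrimes R _ hmin)
  have hz : ι (Submodule.Quotient.mk 1) ∈ DRing.torsionSub p (W ⧸ T) := ⟨1, fun b hb => by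
    rw [pow_one] at hb
    rw [← map_smul, ← Submodule.Quotient.mk_smul, (Submodule.Quotient.mk_eq_zero _).2 (by simpa using hb), map_zero]⟩
  rw [torsionSub_quot_eq_bot W, Submodule.mem_bot] at hz
  have := hι (hz.trans (map_zero ι).symm)
  rw [Submodule.Quotient.mk_eq_zero] at this
  exact hpp.ne_top ((Ideal.eq_top_iff_one _).2 this)

/-- the key approximation. -/
theorem mem_torsion_add {E F : Type u} [AddCommGroup E] [Module R E] [AddCommGroup F] [Module R F]
    (hdiv : ∀ (I : Ideal R) (x : R), ∀ e ∈ DRing.torsionSub I E,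
      ∃ e' ∈ DRing.torsionSub I E, ∃ k : ℕ, x ^ k • (x • e' - e) = 0)
    (π : E →ₗ[R] F) (S : Submodule R F) (hπS : LinearMap.range π ≤ S) :
    ∀ (I : Ideal R), I ≤ I' → (∀ p : Ideal R, p.IsPrime → I ≤ p → ¬ I' ≤ p → ∀ q ∈ S, q ∈ DRing.torsionSub p F →
      ∃ u ∉ p, ∃ e ∈ DRing.torsionSub p E, π e = u • q) →
    ∀ f ∈ DRing.torsionSub I F, ∀ n : ℕ, (∀ b ∈ I' ^ n, b • f ∈ S) →
      ∃ g ∈ DRing.torsionSub I' F, ∃ e ∈ DRing.torsionSub I E, f = g + π e := by
  intro I
  induction I using WellFoundedGT.induction with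
  | _ I ih =>
    intro hII' hloc f hf n hn
    by_cases hrad : I' ≤ I.radical
    · refine ⟨f, ?_, 0, zero_mem _, by rw [map_zero, add_zero]⟩
      have hr : I.radical = I'.radical := le_antisymm (Ideal.radical_mono hII')
        ((Ideal.radical_mono hrad).trans (Ideal.radical_idem I).le)
      rwa [← torsionSub_eq_of_radical hr]
    obtain ⟨p, hp, hpI'⟩ : ∃ p ∈ I.minimalPrimes, ¬ I' ≤ p := by
      by_contra hc
      push Not at hc
      refine hrad ?_
      rw [Ideal.radical_eq_sInf]
      exact le_sInf fun q ⟨hq, hqp⟩ => by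
        obtain ⟨p, hp, hle⟩ := Ideal.exists_minimalPrimes_le hq
        exact (hc p hp).trans hle
    haveI := hp.1.1
    obtain ⟨a, haI', hap⟩ := SetLike.not_le_iff_exists.1 hpI'
    obtain ⟨x₁, hx₁, hx₁f⟩ := exists_mem_torsion_minimal hp hf
    have hq : a ^ n • x₁ • f ∈ S := by rw [smul_comm]; exact S.smul_mem x₁ (hn _ (Ideal.pow_mem_pow haI' n))
    obtain ⟨u, hu, e, he, heq⟩ := hloc p ‹_› hp.1.2 hpI' _ hq (Submodule.smul_mem _ _ hx₁f)
    have heI : a • e ∈ DRing.torsionSub I E := by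
      obtain ⟨j, hj⟩ := he
      exact Submodule.smul_mem _ a ⟨j, fun b hb => hj b (Ideal.pow_right_mono hp.1.2 j hb)⟩
    set y := a * (u * (a ^ n * x₁))
    have hy : y ∉ p := fun h => by
      rcases hp.1.1.mem_or_mem h with h | h
      · exact hap h
      rcases hp.1.1.mem_or_mem h with h | h
      · exact hu h
      rcases hp.1.1.mem_or_mem h with h | h
      · exact hap (hp.1.1.mem_of_pow_mem n h)
      · exact hx₁ h
    have hyI' : y ∈ I' := I'.mul_mem_right _ haI'
    have hyf : π (a • e) = y • f := by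
      rw [map_smul, heq]
      simp only [y, mul_smul]
    obtain ⟨e', he', k, hk⟩ := hdiv I y (a • e) heI
    set f' := f - π e'
    have hf'I : f' ∈ DRing.torsionSub I F := sub_mem hf (DRing.map_mem_torsionSub I π he')
    have hf'y : y ^ (k + 1) • f' = 0 := by
      have h1 := congrArg π hk
      rw [map_smul, map_sub, map_smul, map_zero, hyf, ← smul_sub, ← mul_smul, ← pow_succ] at h1
      rw [show f' = -(π e' - f) from (neg_sub _ _).symm, smul_neg, h1, neg_zero]
    have hf' : f' ∈ DRing.torsionSub (I ⊔ Ideal.span {y}) F := by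
      obtain ⟨m, hm⟩ := hf'I
      refine ⟨m + (k + 1), fun b hb => ?_⟩
      have hb' := Ideal.sup_pow_add_le_pow_sup_pow hb
      rw [Ideal.span_singleton_pow] at hb'
      obtain ⟨c, hc, d, hd, rfl⟩ := Submodule.mem_sup.1 hb'
      obtain ⟨r, rfl⟩ := Ideal.mem_span_singleton'.1 hd
      rw [add_smul, hm c hc, mul_smul, hf'y, smul_zero, add_zero]
    have hlt : I < I ⊔ Ideal.span {y} := lt_of_le_not_ge le_sup_left fun hle =>
      hy (hp.1.2 (hle (Ideal.mem_sup_right (Ideal.mem_span_singleton_self y))))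
    obtain ⟨g, hg, e'', he'', hfe⟩ := ih _ hlt (sup_le hII' ((Ideal.span_singleton_le_iff_mem _).2 hyI'))
      (fun q hq hle hnle => hloc q hq (le_sup_left.trans hle) hnle) f' hf' n fun b hb => by
        rw [smul_sub, ← map_smul]
        exact sub_mem (hn b hb) (hπS (LinearMap.mem_range_self π _))
    have he''I : e'' ∈ DRing.torsionSub I E := by
      obtain ⟨j, hj⟩ := he''
      exact ⟨j, fun b hb => hj b (Ideal.pow_right_mono le_sup_left j hb)⟩
    refine ⟨g, hg, e' + e'', add_mem he' he''I, ?_⟩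
    rw [map_add, eq_add_of_sub_eq (show f - π e' = g + π e'' from hfe)]
    abel

theorem div_of_injective {E : Type u} [AddCommGroup E] [Module R E] [hE : Module.Injective R E]
    (I : Ideal R) (x : R) : ∀ e ∈ DRing.torsionSub I E,
      ∃ e' ∈ DRing.torsionSub I E, ∃ k : ℕ, x ^ k • (x • e' - e) = 0 := by
  intro e he
  haveI : Module.Injective R (DRing.torsionSub I E) := injective_torsionSub E
  obtain ⟨⟨e', he'⟩, k, hk⟩ := exists_divide (E := DRing.torsionSub I E) x ⟨e, he⟩
  exact ⟨e', he', k, congrArg Subtype.val hk⟩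

/-- `π` is surjective on `p`-torsion after localizing at `p`, for `p ∈ V(I) \ V(I')`. -/
def TorsSurj (I I' : Ideal R) {E N : Type u} [AddCommGroup E] [Module R E] [AddCommGroup N] [Module R N]
    (π : E →ₗ[R] N) : Prop :=
  ∀ p : Ideal R, p.IsPrime → I ≤ p → ¬ I' ≤ p → ∀ q ∈ DRing.torsionSub p N,
    ∃ u ∉ p, ∃ e ∈ DRing.torsionSub p E, π e = u • q

lemma hmap_injective_zero (h : I ≤ I') (M : ModuleCat.{u} R) : Function.Injective (hmap h 0 M) := by
  intro a b hab
  apply toMod_injective M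
  rw [← toMod_hmap h, hab, toMod_hmap h]

theorem hmap_injective_one (h : I ≤ I') {E N : Type u} [AddCommGroup E] [Module R E]
    [AddCommGroup N] [Module R N]
    (hdiv : ∀ (I : Ideal R) (x : R), ∀ e ∈ DRing.torsionSub I E,
      ∃ e' ∈ DRing.torsionSub I E, ∃ k : ℕ, x ^ k • (x • e' - e) = 0)
    (π : E →ₗ[R] N) (hloc : TorsSurj I I' π) :
    Function.Injective (hmap h 1 (ModuleCat.of R N)) := by
  obtain ⟨F, _, _, hF, ι, hι⟩ := exists_injective_embedding (R := R) N
  haveI : Injective (ModuleCat.of R F) := Module.injective_object_of_injective_module R F (inj := hF)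
  have hS := lseq_shortExact hι (Submodule.mkQ_surjective _) (LinearMap.exact_map_mkQ_range ι)
  rw [injective_iff_map_eq_zero]
  intro y hy
  obtain ⟨q, rfl⟩ := dMap_surjective hS 0 (subsingleton_of_injective (ModuleCat.of R F) 0) y
  erw [hmap_dMap hS h 0 q] at hy
  obtain ⟨w, hw⟩ := (exact_map_dMap hS 0 _).1 hy
  set qq := toMod (ModuleCat.of R (F ⧸ LinearMap.range ι)) q
  set f := toMod (ModuleCat.of R F) w
  have hfI : f ∈ DRing.torsionSub I F := range_toMod (I := I) (ModuleCat.of R F) ▸ LinearMap.mem_range_self _ w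
  have hfq : (LinearMap.range ι).mkQ f = qq := by
    have := congrArg (toMod (ModuleCat.of R (F ⧸ LinearMap.range ι))) hw
    rw [toMod_hmap] at this
    exact (toMod_natural (ModuleCat.ofHom (LinearMap.range ι).mkQ) w).symm.trans this
  have hqI' : qq ∈ DRing.torsionSub I' (F ⧸ LinearMap.range ι) :=
    range_toMod (I := I') (ModuleCat.of R (F ⧸ LinearMap.range ι)) ▸ LinearMap.mem_range_self _ q
  obtain ⟨n, hn⟩ := hqI'
  obtain ⟨g, hg, e, -, hfe⟩ := mem_torsion_add (I' := I') hdiv (ι ∘ₗ π) (LinearMap.range ι)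
    (LinearMap.range_comp_le_range π ι) I h (by
      rintro p hpp hIp hI'p _ ⟨m, rfl⟩ hm
      obtain ⟨k, hk⟩ := hm
      obtain ⟨u, hu, e, he, heq⟩ := hloc p hpp hIp hI'p m ⟨k, fun b hb => hι (by rw [map_smul, map_zero]; exact hk b hb)⟩
      exact ⟨u, hu, e, he, by rw [LinearMap.comp_apply, heq, map_smul]⟩)
    f hfI n fun b hb => by
      rw [← Submodule.Quotient.mk_eq_zero, Submodule.Quotient.mk_smul]
      exact (congrArg (b • ·) hfq).trans (hn b hb)
  rw [← range_toMod (I := I') (ModuleCat.of R F)] at hg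
  obtain ⟨w', hw'⟩ := hg
  have hq : q = cmap I' 0 (ModuleCat.ofHom (LinearMap.range ι).mkQ) w' := by
    apply toMod_injective
    refine Eq.trans ?_ (toMod_natural (ModuleCat.ofHom (LinearMap.range ι).mkQ) w').symm
    show qq = (LinearMap.range ι).mkQ (toMod (ModuleCat.of R F) w')
    rw [hw', ← hfq, hfe, map_add, LinearMap.comp_apply]
    rw [show (LinearMap.range ι).mkQ (ι (π e)) = 0 from (Submodule.Quotient.mk_eq_zero _).2 ⟨_, rfl⟩, add_zero]
  exact (exact_map_dMap hS 0 q).2 ⟨w', hq.symm⟩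

theorem zero_torsSurj {N : Type u} [AddCommGroup N] [Module R N]
    (h : ∀ p : Ideal R, p.IsPrime → I ≤ p → ¬ I' ≤ p → LZ p p N 0) :
    TorsSurj I I' (0 : PUnit.{u + 1} →ₗ[R] N) := by
  intro p hp hIp hI'p q hq
  rw [← range_toMod (I := p) (ModuleCat.of R N)] at hq
  obtain ⟨y, rfl⟩ := hq
  obtain ⟨u, hu, hu0⟩ := h p hp hIp hI'p y
  exact ⟨u, hu, 0, zero_mem _, by rw [map_zero, ← map_smul, hu0, map_zero]⟩

theorem punit_div (I : Ideal R) (x : R) : ∀ e ∈ DRing.torsionSub I (PUnit.{u + 1}),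
      ∃ e' ∈ DRing.torsionSub I (PUnit.{u + 1}), ∃ k : ℕ, x ^ k • (x • e' - e) = 0 :=
  fun _ _ => ⟨0, zero_mem _, 0, Subsingleton.elim _ _⟩

theorem lz_shift {M E : Type u} [AddCommGroup M] [Module R M] [AddCommGroup E] [Module R E]
    [hE : Module.Injective R E] {ι : M →ₗ[R] E} (hι : Function.Injective ι) {p : Ideal R} (j : ℕ)
    (h : LZ p p M (j + 2)) : LZ p p (E ⧸ LinearMap.range ι) (j + 1) := fun y => by
  haveI : Injective (ModuleCat.of R E) := Module.injective_object_of_injective_module R E (inj := hE)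
  have hS := lseq_shortExact hι (Submodule.mkQ_surjective _) (LinearMap.exact_map_mkQ_range ι)
  obtain ⟨u, hu, hu0⟩ := h (dMap hS (j + 1) y)
  refine ⟨u, hu, dMap_injective hS (j + 1) (subsingleton_of_injective (ModuleCat.of R E) j) ?_⟩
  exact ((map_smul (dMap hS (j + 1)) u y).trans hu0).trans (map_zero _).symm

theorem torsSurj_of_lz {M E : Type u} [AddCommGroup M] [Module R M] [AddCommGroup E] [Module R E]
    {ι : M →ₗ[R] E} (hι : Function.Injective ι)
    (h : ∀ p : Ideal R, p.IsPrime → I ≤ p → ¬ I' ≤ p → LZ p p M 1) :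
    TorsSurj I I' (LinearMap.range ι).mkQ := by
  intro p hp hIp hI'p q hq
  have hS := lseq_shortExact hι (Submodule.mkQ_surjective _) (LinearMap.exact_map_mkQ_range ι)
  rw [← range_toMod (I := p) (ModuleCat.of R (E ⧸ LinearMap.range ι))] at hq
  obtain ⟨y, rfl⟩ := hq
  obtain ⟨u, hu, hu0⟩ := h p hp hIp hI'p (dMap hS 0 y)
  obtain ⟨w, hw⟩ := (exact_map_dMap hS 0 (u • y)).1 ((map_smul (dMap hS 0) u y).trans hu0)
  refine ⟨u, hu, toMod (ModuleCat.of R E) w,
    range_toMod (I := p) (ModuleCat.of R E) ▸ LinearMap.mem_range_self _ w, ?_⟩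
  rw [← map_smul, ← hw]
  exact (toMod_natural (ModuleCat.ofHom (LinearMap.range ι).mkQ) w).symm

theorem hmap_surjective (h : I ≤ I') : ∀ (i : ℕ) (M : Type u) [AddCommGroup M] [Module R M],
    (∀ p : Ideal R, p.IsPrime → I ≤ p → ¬ I' ≤ p → LZ p p M i) →
    Function.Surjective (hmap h i (ModuleCat.of R M)) := by
  intro i
  induction i with
  | zero =>
    intro M _ _ hz x
    obtain ⟨g, hg, e, -, hfe⟩ := mem_torsion_add (I' := I') punit_div (0 : PUnit.{u + 1} →ₗ[R] M) ⊤ le_top I h
      (fun p hp hIp hI'p q _ hq => zero_torsSurj hz p hp hIp hI'p q hq) (toMod (ModuleCat.of R M) x)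
      (range_toMod (I := I) (ModuleCat.of R M) ▸ LinearMap.mem_range_self _ x) 0 fun _ _ => Submodule.mem_top
    rw [← range_toMod (I := I') (ModuleCat.of R M)] at hg
    obtain ⟨w, rfl⟩ := hg
    refine ⟨w, toMod_injective _ ?_⟩
    rw [toMod_hmap, hfe, LinearMap.zero_apply, add_zero]
  | succ i ih =>
    intro M _ _ hz x
    obtain ⟨E, _, _, hE, ι, hι⟩ := exists_injective_embedding (R := R) M
    haveI : Injective (ModuleCat.of R E) := Module.injective_object_of_injective_module R E (inj := hE)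
    have hS := lseq_shortExact hι (Submodule.mkQ_surjective _) (LinearMap.exact_map_mkQ_range ι)
    obtain ⟨y, rfl⟩ := dMap_surjective hS i (subsingleton_of_injective (ModuleCat.of R E) i) x
    rcases i with _ | i
    · obtain ⟨g, hg, e, he, hfe⟩ := mem_torsion_add (I' := I') div_of_injective (LinearMap.range ι).mkQ ⊤ le_top I h
        (fun p hp hIp hI'p q _ hq => torsSurj_of_lz hι hz p hp hIp hI'p q hq)
        (toMod (ModuleCat.of R (E ⧸ LinearMap.range ι)) y)
        (range_toMod (I := I) (ModuleCat.of R (E ⧸ LinearMap.range ι)) ▸ LinearMap.mem_range_self _ y) 0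
        fun _ _ => Submodule.mem_top
      rw [← range_toMod (I := I') (ModuleCat.of R (E ⧸ LinearMap.range ι))] at hg
      obtain ⟨w, rfl⟩ := hg
      rw [← range_toMod (I := I) (ModuleCat.of R E)] at he
      obtain ⟨v, rfl⟩ := he
      have hy : y = hmap h 0 (ModuleCat.of R (E ⧸ LinearMap.range ι)) w +
          cmap I 0 (ModuleCat.ofHom (LinearMap.range ι).mkQ) v := by
        apply toMod_injective
        rw [map_add, toMod_hmap, hfe]
        exact congrArg (_ + ·) (toMod_natural (ModuleCat.ofHom (LinearMap.range ι).mkQ) v).symm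
      refine ⟨dMap hS 0 w, (hmap_dMap hS h 0 w).trans ?_⟩
      have h0 : dMap hS 0 (cmap I 0 (ModuleCat.ofHom (LinearMap.range ι).mkQ) v) = 0 :=
        (exact_map_dMap hS 0 _).2 ⟨v, rfl⟩
      rw [hy]
      exact ((map_add (dMap hS 0) _ _).trans ((congrArg (_ + ·) h0).trans (add_zero _))).symm
    · obtain ⟨z, rfl⟩ := ih (E ⧸ LinearMap.range ι)
        (fun p hp hIp hI'p => lz_shift (hE := hE) hι i (hz p hp hIp hI'p)) y
      exact ⟨dMap hS (i + 1) z, hmap_dMap hS h (i + 1) z⟩

theorem hmap_injective (h : I ≤ I') : ∀ (i : ℕ) (M : Type u) [AddCommGroup M] [Module R M],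
    (∀ p : Ideal R, p.IsPrime → I ≤ p → ¬ I' ≤ p → ∀ j, j + 1 = i → LZ p p M j) →
    Function.Injective (hmap h i (ModuleCat.of R M)) := by
  intro i
  induction i with
  | zero => exact fun M _ _ _ => hmap_injective_zero h _
  | succ i ih =>
    intro M _ _ hz
    rcases i with _ | i
    · exact hmap_injective_one h punit_div (0 : PUnit.{u + 1} →ₗ[R] M)
        (zero_torsSurj fun p hp hIp hI'p => hz p hp hIp hI'p 0 rfl)
    obtain ⟨E, _, _, hE, ι, hι⟩ := exists_injective_embedding (R := R) M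
    haveI : Injective (ModuleCat.of R E) := Module.injective_object_of_injective_module R E (inj := hE)
    have hS := lseq_shortExact hι (Submodule.mkQ_surjective _) (LinearMap.exact_map_mkQ_range ι)
    have hN : Function.Injective (hmap h (i + 1) (ModuleCat.of R (E ⧸ LinearMap.range ι))) := by
      rcases i with _ | i
      · exact hmap_injective_one h div_of_injective (LinearMap.range ι).mkQ
          (torsSurj_of_lz hι fun p hp hIp hI'p => hz p hp hIp hI'p 1 rfl)
      · refine ih (E ⧸ LinearMap.range ι) fun p hp hIp hI'p j hj => ?_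
        obtain rfl : j = i + 1 := by omega
        exact lz_shift (hE := hE) hι i (hz p hp hIp hI'p _ rfl)
    rw [injective_iff_map_eq_zero]
    intro x hx
    obtain ⟨y, rfl⟩ := dMap_surjective hS (i + 1) (subsingleton_of_injective (ModuleCat.of R E) (i + 1)) x
    have h1 : dMap hS (i + 1) (hmap h (i + 1) (ModuleCat.of R (E ⧸ LinearMap.range ι)) y) = 0 :=
      (hmap_dMap hS h (i + 1) y).symm.trans hx
    have h2 := dMap_injective hS (i + 1) (subsingleton_of_injective (ModuleCat.of R E) i)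
      (h1.trans (map_zero _).symm)
    rw [hN (h2.trans (map_zero _).symm), map_zero]

theorem lz_of_subsingleton {p : Ideal R} [p.IsPrime] {M : Type u} [AddCommGroup M] [Module R M] {i : ℕ}
    (h : Subsingleton (LocCoh.H (IsLocalRing.maximalIdeal (Localization.AtPrime p)) i (LocalizedModule p.primeCompl M))) :
    LZ p p M i := fun y => by
  rw [← Localization.AtPrime.map_eq_maximalIdeal] at h
  have h3 := subsingleton_congr (LocalizedModule.equivTensorProduct p.primeCompl M) i h
  obtain ⟨e⟩ := exists_flatEquiv (R' := Localization.AtPrime p) p i M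
  haveI : Subsingleton (Localization.AtPrime p ⊗[R] LocCoh.H p i M) := e.injective.subsingleton
  obtain ⟨⟨c, hc⟩, hc0⟩ := (IsLocalizedModule.eq_zero_iff p.primeCompl
    (TensorProduct.mk R (Localization.AtPrime p) (LocCoh.H p i M) 1)).1 (Subsingleton.elim _ (0 : _))
  exact ⟨c, hc, hc0⟩

end Groth.Agent.H2LC
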