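import Mathlib
import Groth.Prelude.Def_Wider
import Groth.Prelude.Def_DRing3
import Groth.Prelude.Def_DualLC
import Groth.Agent.Lib.H2LCMapOfLE
import Groth.Agent.Lib.H2DTBase

/-! The sequence `H^i_{a+(b)} M → H^i_a M → H^i_a M_b`. -/

universe u

open CategoryTheory Pointwise

namespace Groth.Agent.H2LC

variable {R : Type u} [CommRing R] (a : Ideal R) (b : R)

/-- `M → M_b`. -/
noncomputable abbrev loc (M : Type u) [AddCommGroup M] [Module R M] :
    M →ₗ[R] LocalizedModule (Submonoid.powers b) M :=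
  LocalizedModule.mkLinearMap (Submonoid.powers b) M

/-- `g_b`. -/
noncomputable abbrev locMap {M N : Type u} [AddCommGroup M] [Module R M] [AddCommGroup N] [Module R N]
    (g : M →ₗ[R] N) : LocalizedModule (Submonoid.powers b) M →ₗ[R] LocalizedModule (Submonoid.powers b) N :=
  IsLocalizedModule.map (Submonoid.powers b) (loc b M) (loc b N) g

/-- `H^i_a M → H^i_a M_b`. -/
noncomputable abbrev hloc (i : ℕ) (M : Type u) [AddCommGroup M] [Module R M] :
    LocCoh.H a i M →ₗ[R] LocCoh.H a i (LocalizedModule (Submonoid.powers b) M) :=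
  cmap a i (ModuleCat.ofHom (loc b M))

theorem bijective_smul_loc (M : Type u) [AddCommGroup M] [Module R M] :
    Function.Bijective fun m : LocalizedModule (Submonoid.powers b) M => b • m :=
  (Module.End.isUnit_iff _).1 (IsLocalizedModule.map_units (loc b M) ⟨b, Submonoid.mem_powers b⟩)

theorem bijective_smul_pow_H (i n : ℕ) (M : Type u) [AddCommGroup M] [Module R M] :
    Function.Bijective fun y : LocCoh.H a i (LocalizedModule (Submonoid.powers b) M) => b ^ n • y := by
  let e : LocalizedModule (Submonoid.powers b) M ≃ₗ[R] LocalizedModule (Submonoid.powers b) M :=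
    LinearEquiv.ofBijective (b • (LinearMap.id : LocalizedModule (Submonoid.powers b) M →ₗ[R] _)) (bijective_smul_loc b M)
  have hb : Function.Bijective fun y : LocCoh.H a i (LocalizedModule (Submonoid.powers b) M) => b • y := by
    convert (((localCohomology a i).mapIso e.toModuleIso).toLinearEquiv).bijective using 1
    funext y
    exact (cmap_smul_id (I := a) i b (ModuleCat.of R (LocalizedModule (Submonoid.powers b) M)) y).symm
  induction n with
  | zero => simp only [pow_zero, one_smul]; exact Function.bijective_id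
  | succ n ih =>
    simp only [pow_succ, mul_smul]
    exact ih.comp hb

lemma mem_torsion_sup_iff {M : Type u} [AddCommGroup M] [Module R M] (m : M) :
    m ∈ DRing.torsionSub (a ⊔ Ideal.span {b}) M ↔
      m ∈ DRing.torsionSub a M ∧ loc b M m = 0 := by
  constructor
  · rintro ⟨n, hn⟩
    refine ⟨⟨n, fun c hc => hn c (Ideal.pow_right_mono le_sup_left n hc)⟩, ?_⟩
    exact (IsLocalizedModule.eq_zero_iff (Submonoid.powers b) (loc b M)).2
      ⟨⟨b ^ n, n, rfl⟩, hn _ (Ideal.pow_right_mono le_sup_right n (Ideal.pow_mem_pow (Ideal.mem_span_singleton_self b) n))⟩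
  · rintro ⟨⟨n, hn⟩, h⟩
    obtain ⟨⟨c, k, rfl⟩, hk⟩ := (IsLocalizedModule.eq_zero_iff (Submonoid.powers b) (loc b M)).1 h
    refine ⟨n + k, fun c hc => ?_⟩
    have hc' := Ideal.sup_pow_add_le_pow_sup_pow hc
    rw [Ideal.span_singleton_pow] at hc'
    obtain ⟨u, hu, v, hv, rfl⟩ := Submodule.mem_sup.1 hc'
    obtain ⟨r, rfl⟩ := Ideal.mem_span_singleton'.1 hv
    rw [add_smul, hn u hu, mul_smul, show b ^ k • m = 0 from hk, smul_zero, add_zero]

variable [IsNoetherianRing R]

theorem loc_surjective_injective {E : Type u} [AddCommGroup E] [Module R E] [hE : Module.Injective R E] :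
    Function.Surjective (loc b E) := by
  intro z
  obtain ⟨⟨e, ⟨c, k, rfl⟩⟩, hz⟩ := IsLocalizedModule.surj (Submonoid.powers b) (loc b E) z
  induction k generalizing z e with
  | zero => exact ⟨e, by simpa using hz.symm⟩
  | succ k ih =>
    obtain ⟨e', n, hn⟩ := exists_divide (E := E) b e
    refine ih z e' ?_
    refine (bijective_smul_loc b E).1 ?_
    show b • (b ^ k • z) = b • loc b E e'
    rw [← mul_smul, ← pow_succ', show b ^ (k + 1) • z = loc b E e from hz, ← map_smul, eq_comm, ← sub_eq_zero, ← map_sub]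
    exact (IsLocalizedModule.eq_zero_iff (Submonoid.powers b) (loc b E)).2 ⟨⟨b ^ n, n, rfl⟩, hn⟩

theorem ker_loc_isPowerTorsion (E : Type u) [AddCommGroup E] [Module R E] :
    LinearMap.ker (loc b E) = DRing.torsionSub (Ideal.span {b}) E := by
  ext m
  constructor
  · intro h
    obtain ⟨⟨c, k, rfl⟩, hk⟩ := (IsLocalizedModule.eq_zero_iff (Submonoid.powers b) (loc b E)).1 h
    refine ⟨k, fun c hc => ?_⟩
    rw [Ideal.span_singleton_pow] at hc
    obtain ⟨r, rfl⟩ := Ideal.mem_span_singleton'.1 hc
    rw [mul_smul, show b ^ k • m = 0 from hk, smul_zero]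
  · rintro ⟨k, hk⟩
    exact (IsLocalizedModule.eq_zero_iff (Submonoid.powers b) (loc b E)).2
      ⟨⟨b ^ k, k, rfl⟩, hk _ (Ideal.pow_mem_pow (Ideal.mem_span_singleton_self b) k)⟩

theorem acyclic_loc {E : Type u} [AddCommGroup E] [Module R E] [hE : Module.Injective R E] (q : ℕ) :
    Subsingleton (LocCoh.H a (q + 1) (LocalizedModule (Submonoid.powers b) E)) ∧
      Function.Surjective (hloc a b q E) := by
  haveI : Injective (ModuleCat.of R E) := Module.injective_object_of_injective_module R E (inj := hE)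
  haveI hK : Module.Injective R (LinearMap.ker (loc b E)) := by
    rw [ker_loc_isPowerTorsion]; exact injective_torsionSub E
  haveI : Injective (ModuleCat.of R (LinearMap.ker (loc b E))) :=
    Module.injective_object_of_injective_module R _ (inj := hK)
  have hs := loc_surjective_injective b (E := E)
  refine ⟨subsingleton_of_surjective (loc b E) hs (q + 1) (subsingleton_of_injective (ModuleCat.of R E) q)
    (subsingleton_of_injective (ModuleCat.of R (LinearMap.ker (loc b E))) (q + 1)), fun y => ?_⟩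
  have hS := lseq_shortExact (LinearMap.ker (loc b E)).injective_subtype hs (LinearMap.exact_subtype_ker_map _)
  exact (exact_map_dMap hS q y).1
    (@Subsingleton.elim _ (subsingleton_of_injective (ModuleCat.of R (LinearMap.ker (loc b E))) q) _ 0)

/-- shift data. -/
theorem exists_shift (M : Type u) [AddCommGroup M] [Module R M] :
    ∃ (E : Type u) (_ : AddCommGroup E) (_ : Module R E) (_ : Module.Injective R E) (N : Type u)
      (_ : AddCommGroup N) (_ : Module R N) (ι : M →ₗ[R] E) (g : E →ₗ[R] N),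
      Function.Injective ι ∧ Function.Surjective g ∧ Function.Exact ι g := by
  obtain ⟨E, _, _, hE, ι, hι⟩ := exists_injective_embedding (R := R) M
  exact ⟨E, _, _, hE, E ⧸ LinearMap.range ι, _, _, ι, (LinearMap.range ι).mkQ, hι, Submodule.mkQ_surjective _,
    LinearMap.exact_map_mkQ_range ι⟩

variable {M E N : Type u} [AddCommGroup M] [Module R M] [AddCommGroup E] [Module R E] [AddCommGroup N] [Module R N]
  {ι : M →ₗ[R] E} {g : E →ₗ[R] N}

theorem locSeq_shortExact (hι : Function.Injective ι) (hg : Function.Surjective g) (hex : Function.Exact ι g) :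
    ∃ (h : Function.Exact (locMap b ι) (locMap b g)), (lseq (locMap b ι) (locMap b g) h.linearMap_comp_eq_zero).ShortExact := by
  have hx : Function.Exact (locMap b ι) (locMap b g) := IsLocalizedModule.map_exact (Submonoid.powers b) (loc b M) (loc b E) (loc b N) ι g hex
  refine ⟨hx, lseq_shortExact ?_ ?_ hx⟩
  · exact IsLocalizedModule.map_injective (Submonoid.powers b) (loc b M) (loc b E) ι hι
  · exact IsLocalizedModule.map_surjective (Submonoid.powers b) (loc b E) (loc b N) g hg

omit [IsNoetherianRing R] in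
theorem hloc_natural (i : ℕ) (x : LocCoh.H a i E) :
    hloc a b i N (cmap a i (ModuleCat.ofHom g) x) = cmap a i (ModuleCat.ofHom (locMap b g)) (hloc a b i E x) := by
  have h : ModuleCat.ofHom g ≫ ModuleCat.ofHom (loc b N) = ModuleCat.ofHom (loc b E) ≫ ModuleCat.ofHom (locMap b g) :=
    ModuleCat.hom_ext (LinearMap.ext fun e => (IsLocalizedModule.map_apply _ (loc b E) (loc b N) g e).symm)
  have := congrArg (fun t => (localCohomology a i).map t) h
  simp only [Functor.map_comp] at this
  exact congrArg (fun t => t.hom x) this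

omit [IsNoetherianRing R] in
theorem hloc_dMap {h : g ∘ₗ ι = 0} (hS : (lseq ι g h).ShortExact) {h' : locMap b g ∘ₗ locMap b ι = 0}
    (hS' : (lseq (locMap b ι) (locMap b g) h').ShortExact) (i : ℕ) (y : LocCoh.H a i N) :
    hloc a b (i + 1) M (dMap hS i y) = dMap hS' i (hloc a b i N y) := by
  let ψ : lseq ι g h ⟶ lseq (locMap b ι) (locMap b g) h' :=
    { τ₁ := ModuleCat.ofHom (loc b M)
      τ₂ := ModuleCat.ofHom (loc b E)
      τ₃ := ModuleCat.ofHom (loc b N)
      comm₁₂ := ModuleCat.hom_ext (LinearMap.ext fun e => IsLocalizedModule.map_apply _ (loc b M) (loc b E) ι e)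
      comm₂₃ := ModuleCat.hom_ext (LinearMap.ext fun e => IsLocalizedModule.map_apply _ (loc b E) (loc b N) g e) }
  exact (dMap_natural hS hS' ψ i y).symm

omit [IsNoetherianRing R] in
theorem toMod_hloc (M : Type u) [AddCommGroup M] [Module R M] (x : LocCoh.H a 0 M) :
    toMod (ModuleCat.of R (LocalizedModule (Submonoid.powers b) M)) (hloc a b 0 M x) =
      loc b M (toMod (ModuleCat.of R M) x) :=
  toMod_natural (ModuleCat.ofHom (loc b M)) x

theorem exact_hmap_hloc : ∀ (i : ℕ) (M : Type u) [AddCommGroup M] [Module R M],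
    Function.Exact (hmap (le_sup_left : a ≤ a ⊔ Ideal.span {b}) i (ModuleCat.of R M)) (hloc a b i M) := by
  intro i
  induction i with
  | zero =>
    intro M _ _ x
    constructor
    · intro hx
      have h1 : toMod (ModuleCat.of R M) x ∈ DRing.torsionSub (a ⊔ Ideal.span {b}) M := by
        rw [mem_torsion_sup_iff]
        exact ⟨range_toMod (I := a) (ModuleCat.of R M) ▸ LinearMap.mem_range_self _ x,
          (toMod_hloc a b M x).symm.trans ((congrArg _ hx).trans (map_zero _))⟩
      rw [← range_toMod (I := a ⊔ Ideal.span {b}) (ModuleCat.of R M)] at h1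
      obtain ⟨w, hw⟩ := h1
      exact ⟨w, toMod_injective _ ((toMod_hmap _ _ w).trans hw)⟩
    · rintro ⟨w, rfl⟩
      refine toMod_injective _ ((toMod_hloc a b M _).trans ?_)
      rw [toMod_hmap, map_zero]
      exact ((mem_torsion_sup_iff a b _).1
        (range_toMod (I := a ⊔ Ideal.span {b}) (ModuleCat.of R M) ▸ LinearMap.mem_range_self _ w)).2
  | succ i ih =>
    intro M _ _ x
    obtain ⟨E, _, _, hE, N, _, _, ι, g, hι, hg, hex⟩ := exists_shift (R := R) M
    haveI : Injective (ModuleCat.of R E) := Module.injective_object_of_injective_module R E (inj := hE)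
    have hS := lseq_shortExact hι hg hex
    obtain ⟨hex', hS'⟩ := locSeq_shortExact b hι hg hex
    constructor
    · intro hx
      obtain ⟨y, rfl⟩ := dMap_surjective hS i (subsingleton_of_injective (ModuleCat.of R E) i) x
      have h1 : dMap hS' i (hloc a b i N y) = 0 := (hloc_dMap a b hS hS' i y).symm.trans hx
      obtain ⟨e', he'⟩ := (exact_map_dMap hS' i _).1 h1
      obtain ⟨e, rfl⟩ := (acyclic_loc a b (E := E) i).2 e'
      have h2 : hloc a b i N (y - cmap a i (ModuleCat.ofHom g) e) = 0 := by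
        rw [map_sub, hloc_natural, sub_eq_zero]; exact he'.symm
      obtain ⟨w, hw⟩ := (ih N _).1 h2
      refine ⟨dMap hS i w, (hmap_dMap hS le_sup_left i w).trans ?_⟩
      have h0 : dMap hS i (cmap a i (ModuleCat.ofHom g) e) = 0 := (exact_map_dMap hS i _).2 ⟨e, rfl⟩
      exact (congrArg (dMap hS i) hw).trans ((map_sub (dMap hS i) _ _).trans ((congrArg (_ - ·) h0).trans (sub_zero _)))
    · rintro ⟨w, rfl⟩
      obtain ⟨v, rfl⟩ := dMap_surjective hS i (subsingleton_of_injective (ModuleCat.of R E) i) w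
      refine ((congrArg (hloc a b (i + 1) M) (hmap_dMap hS le_sup_left i v)).trans (hloc_dMap a b hS hS' i _)).trans ?_
      exact (congrArg (dMap hS' i) ((ih N _).2 ⟨v, rfl⟩)).trans (map_zero _)

theorem exists_cokerEquiv : ∀ (i : ℕ) (M : Type u) [AddCommGroup M] [Module R M],
    Nonempty ((LocCoh.H a i (LocalizedModule (Submonoid.powers b) M) ⧸ LinearMap.range (hloc a b i M)) ≃ₗ[R]
      LinearMap.ker (hmap (le_sup_left : a ≤ a ⊔ Ideal.span {b}) (i + 1) (ModuleCat.of R M))) := by
  intro i
  induction i with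
  | zero =>
    intro M _ _
    obtain ⟨E, _, _, hE, N, _, _, ι, g, hι, hg, hex⟩ := exists_shift (R := R) M
    haveI : Injective (ModuleCat.of R E) := Module.injective_object_of_injective_module R E (inj := hE)
    have hS := lseq_shortExact hι hg hex
    obtain ⟨hex', hS'⟩ := locSeq_shortExact b hι hg hex
    set c := a ⊔ Ideal.span {b}
    let G := cmap a 0 (ModuleCat.ofHom g)
    let S : Submodule R (LocCoh.H a 0 E) :=
      (LinearMap.range (hmap (le_sup_left : a ≤ c) 0 (ModuleCat.of R N))).comap G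
    let K := LinearMap.ker (hmap (le_sup_left : a ≤ c) 1 (ModuleCat.of R M))
    -- the map to the cokernel
    let H1 := hmap (le_sup_left : a ≤ c) 0 (ModuleCat.of R N)
    have hH1 : Function.Injective H1 := hmap_injective_zero _ _
    let toC : S →ₗ[R] LocCoh.H c 0 N :=
      (LinearEquiv.ofInjective H1 hH1).symm.toLinearMap ∘ₗ LinearMap.codRestrict _ (G ∘ₗ S.subtype) (fun e => e.2)
    have htoC : ∀ e : S, H1 (toC e) = G e := fun e =>
      congrArg Subtype.val ((LinearEquiv.ofInjective H1 hH1).apply_symm_apply ⟨G e, e.2⟩)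
    have hmem : ∀ e : S, dMap hS 0 (toC e) ∈ K := fun e => by
      show hmap _ 1 (ModuleCat.of R M) (dMap hS 0 (toC e)) = 0
      refine (hmap_dMap hS le_sup_left 0 _).trans ?_
      exact (congrArg (dMap hS 0) (htoC e)).trans ((exact_map_dMap hS 0 _).2 ⟨_, rfl⟩)
    let ψ : S →ₗ[R] K := LinearMap.codRestrict K (dMap hS 0 ∘ₗ toC) hmem
    have hψ : Function.Surjective ψ := by
      rintro ⟨x, hx⟩
      obtain ⟨q, rfl⟩ := dMap_surjective hS 0 (subsingleton_of_injective (ModuleCat.of R E) 0) x
      have h1 : dMap hS 0 (hmap (le_sup_left : a ≤ c) 0 (ModuleCat.of R N) q) = 0 :=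
        (hmap_dMap hS le_sup_left 0 q).symm.trans hx
      obtain ⟨e, he⟩ := (exact_map_dMap hS 0 _).1 h1
      refine ⟨⟨e, q, he.symm⟩, Subtype.ext (congrArg (dMap hS 0) (hH1 ((htoC _).trans he)))⟩
    let ι' := cmap a 0 (ModuleCat.ofHom (locMap b ι))
    have hι' : Function.Injective ι' := by
      intro u v huv
      apply toMod_injective
      refine IsLocalizedModule.map_injective (Submonoid.powers b) (loc b M) (loc b E) ι hι ?_
      exact (toMod_natural (ModuleCat.ofHom (locMap b ι)) u).symm.trans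
        ((congrArg _ huv).trans (toMod_natural (ModuleCat.ofHom (locMap b ι)) v))
    have hmem' : ∀ e : S, hloc a b 0 E e ∈ LinearMap.range ι' := fun e => by
      obtain ⟨q, hq⟩ := e.2
      refine (exact_map hS' 0 _).1 ((hloc_natural a b (g := g) 0 (e : LocCoh.H a 0 E)).symm.trans ?_)
      exact (exact_hmap_hloc a b 0 N _).2 ⟨q, hq⟩
    let toM : S →ₗ[R] LocCoh.H a 0 (LocalizedModule (Submonoid.powers b) M) :=
      (LinearEquiv.ofInjective ι' hι').symm.toLinearMap ∘ₗ LinearMap.codRestrict _ (hloc a b 0 E ∘ₗ S.subtype) hmem'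
    have htoM : ∀ e : S, ι' (toM e) = hloc a b 0 E e := fun e =>
      congrArg Subtype.val ((LinearEquiv.ofInjective ι' hι').apply_symm_apply ⟨_, hmem' e⟩)
    let φ := (LinearMap.range (hloc a b 0 M)).mkQ ∘ₗ toM
    have hφ : Function.Surjective φ := by
      intro z
      obtain ⟨z, rfl⟩ := Submodule.Quotient.mk_surjective _ z
      obtain ⟨e, he⟩ := (acyclic_loc a b (E := E) 0).2 (ι' z)
      have hG : G e ∈ LinearMap.range H1 := (exact_hmap_hloc a b 0 N _).1
        ((hloc_natural a b (g := g) 0 e).trans ((congrArg _ he).trans ((exact_map hS' 0 _).2 ⟨z, rfl⟩)))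
      exact ⟨⟨e, hG⟩, congrArg _ (hι' ((htoM _).trans he))⟩
    refine exists_linearEquiv_of_surjective φ ψ (LinearEquiv.refl R S) hφ hψ fun e => ?_
    have hnat : ∀ m, hloc a b 0 E (cmap a 0 (ModuleCat.ofHom ι) m) = ι' (hloc a b 0 M m) := fun m =>
      hloc_natural a b (g := ι) 0 m
    constructor
    · intro h
      obtain ⟨m, hm⟩ := (Submodule.Quotient.mk_eq_zero _).1 h
      have h1 : hloc a b 0 E ((e : LocCoh.H a 0 E) - cmap a 0 (ModuleCat.ofHom ι) m) = 0 := by
        rw [map_sub, hnat, hm, htoM, sub_self]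
      obtain ⟨w, hw⟩ := (exact_hmap_hloc a b 0 E _).1 h1
      refine Subtype.ext ((exact_map_dMap hS 0 _).2 ⟨w, hH1 ?_⟩)
      refine Eq.trans ?_ (htoC e).symm
      have h2 : H1 (cmap c 0 (ModuleCat.ofHom g) w) = G (hmap (le_sup_left : a ≤ c) 0 (ModuleCat.of R E) w) := by
        apply toMod_injective
        rw [toMod_hmap]
        exact (toMod_natural (ModuleCat.ofHom g) w).trans ((congrArg g (toMod_hmap le_sup_left _ w).symm).trans
          (toMod_natural (ModuleCat.ofHom g) _).symm)
      refine h2.trans ((congrArg G hw).trans ((map_sub G _ _).trans ?_))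
      exact (congrArg (_ - ·) ((exact_map hS 0 _).2 ⟨m, rfl⟩)).trans (sub_zero _)
    · intro h
      obtain ⟨w, hw⟩ := (exact_map_dMap hS 0 _).1 (congrArg Subtype.val h)
      have h2 : G ((e : LocCoh.H a 0 E) - hmap (le_sup_left : a ≤ c) 0 (ModuleCat.of R E) w) = 0 := by
        rw [map_sub, sub_eq_zero, ← htoC e]
        refine (congrArg H1 hw.symm).trans ?_
        apply toMod_injective
        rw [toMod_hmap]
        exact (toMod_natural (ModuleCat.ofHom g) w).trans ((congrArg g (toMod_hmap le_sup_left _ w).symm).trans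
          (toMod_natural (ModuleCat.ofHom g) _).symm)
      obtain ⟨m, hm⟩ := (exact_map hS 0 _).1 h2
      refine (Submodule.Quotient.mk_eq_zero _).2 ⟨m, hι' ?_⟩
      rw [← hnat, htoM]
      refine (congrArg (hloc a b 0 E) hm).trans ?_
      rw [map_sub, (exact_hmap_hloc a b 0 E _).2 ⟨w, rfl⟩, sub_zero]
  | succ i ih =>
    intro M _ _
    obtain ⟨E, _, _, hE, N, _, _, ι, g, hι, hg, hex⟩ := exists_shift (R := R) M
    haveI : Injective (ModuleCat.of R E) := Module.injective_object_of_injective_module R E (inj := hE)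
    have hS := lseq_shortExact hι hg hex
    obtain ⟨hex', hS'⟩ := locSeq_shortExact b hι hg hex
    set c := a ⊔ Ideal.span {b}
    obtain ⟨e⟩ := ih N
    let φ := (LinearMap.range (hloc a b (i + 1) M)).mkQ ∘ₗ dMap hS' i
    have hφ : Function.Surjective φ := (Submodule.mkQ_surjective _).comp (dMap_surjective hS' i (acyclic_loc a b (E := E) i).1)
    have hker : LinearMap.ker φ = LinearMap.range (hloc a b i N) := by
      ext z
      constructor
      · intro h
        obtain ⟨x, hx⟩ := (Submodule.Quotient.mk_eq_zero _).1 h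
        obtain ⟨y, rfl⟩ := dMap_surjective hS i (subsingleton_of_injective (ModuleCat.of R E) i) x
        have h1 : dMap hS' i (z - hloc a b i N y) = 0 := (map_sub (dMap hS' i) _ _).trans
          (sub_eq_zero.2 (hx.symm.trans (hloc_dMap a b hS hS' i y)))
        obtain ⟨e', he'⟩ := (exact_map_dMap hS' i _).1 h1
        obtain ⟨v, rfl⟩ := (acyclic_loc a b (E := E) i).2 e'
        refine ⟨cmap a i (ModuleCat.ofHom g) v + y, ?_⟩
        rw [map_add, hloc_natural]
        exact (congrArg (· + _) he').trans (sub_add_cancel _ _)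
      · rintro ⟨y, rfl⟩
        exact (Submodule.Quotient.mk_eq_zero _).2 ⟨dMap hS i y, hloc_dMap a b hS hS' i y⟩
    let K := LinearMap.ker (hmap (le_sup_left : a ≤ c) (i + 1 + 1) (ModuleCat.of R M))
    have hmem : ∀ z : LinearMap.ker (hmap (le_sup_left : a ≤ c) (i + 1) (ModuleCat.of R N)),
        dMap hS (i + 1) (z : LocCoh.H c (i + 1) N) ∈ K := fun z => by
      show hmap _ _ _ (dMap hS (i + 1) (z : LocCoh.H c (i + 1) N)) = 0
      exact (hmap_dMap hS le_sup_left (i + 1) _).trans ((congrArg _ (LinearMap.mem_ker.1 z.2)).trans (map_zero _))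
    let χ := LinearMap.codRestrict K (dMap hS (i + 1) ∘ₗ Submodule.subtype _) hmem
    have hχ : Function.Bijective χ := by
      refine ⟨fun u v h => Subtype.ext (dMap_injective hS (i + 1) (subsingleton_of_injective (ModuleCat.of R E) i)
        (congrArg Subtype.val h)), ?_⟩
      rintro ⟨x, hx⟩
      obtain ⟨y, rfl⟩ := dMap_surjective hS (i + 1) (subsingleton_of_injective (ModuleCat.of R E) (i + 1)) x
      refine ⟨⟨y, dMap_injective hS (i + 1) (subsingleton_of_injective (ModuleCat.of R E) i) ?_⟩, rfl⟩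
      exact ((hmap_dMap hS le_sup_left (i + 1) y).symm.trans hx).trans (map_zero _).symm
    exact ⟨((φ.quotKerEquivOfSurjective hφ).symm.trans ((Submodule.quotEquivOfEq _ _ hker).trans e)).trans
      (LinearEquiv.ofBijective χ hχ)⟩

theorem mem_range_hmap_iff (i : ℕ) (M : Type u) [AddCommGroup M] [Module R M] (x : LocCoh.H a i M) :
    x ∈ LinearMap.range (hmap (le_sup_left : a ≤ a ⊔ Ideal.span {b}) i (ModuleCat.of R M)) ↔ ∃ n : ℕ, b ^ n • x = 0 := by
  constructor
  · rintro ⟨w, rfl⟩
    obtain ⟨n, hn⟩ := isPowerTorsion (I := a ⊔ Ideal.span {b}) i (ModuleCat.of R M) w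
    refine ⟨n, ?_⟩
    rw [← map_smul, hn _ (Ideal.pow_mem_pow (Ideal.mem_sup_right (Ideal.mem_span_singleton_self b)) n), map_zero]
  · rintro ⟨n, hn⟩
    refine (exact_hmap_hloc a b i M x).1 ((bijective_smul_pow_H a b i n M).1 ?_)
    show b ^ n • hloc a b i M x = b ^ n • 0
    rw [← map_smul, hn, map_zero, smul_zero]

theorem isLocalizedModule_hloc (i : ℕ) (M : Type u) [AddCommGroup M] [Module R M] :
    IsLocalizedModule (Submonoid.powers b) (hloc a b i M) where
  map_units := by
    rintro ⟨c, n, rfl⟩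
    exact (Module.End.isUnit_iff _).2 (bijective_smul_pow_H a b i n M)
  surj y := by
    obtain ⟨e⟩ := exists_cokerEquiv a b i M
    obtain ⟨n, hn⟩ := isPowerTorsion (I := a ⊔ Ideal.span {b}) (i + 1) (ModuleCat.of R M)
      ((e (Submodule.Quotient.mk y)) : LocCoh.H (a ⊔ Ideal.span {b}) (i + 1) M)
    have h1 : b ^ n • Submodule.Quotient.mk (p := LinearMap.range (hloc a b i M)) y = 0 := by
      apply e.injective
      rw [map_smul, map_zero]
      exact Subtype.ext (hn _ (Ideal.pow_mem_pow (Ideal.mem_sup_right (Ideal.mem_span_singleton_self b)) n))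
    rw [← Submodule.Quotient.mk_smul, Submodule.Quotient.mk_eq_zero] at h1
    obtain ⟨x, hx⟩ := h1
    exact ⟨(x, ⟨b ^ n, n, rfl⟩), hx.symm⟩
  exists_of_eq {x y} h := by
    have h' : hloc a b i M (x - y) = 0 := by rw [map_sub, h, sub_self]
    obtain ⟨n, hn⟩ := (mem_range_hmap_iff a b i M _).1 ((exact_hmap_hloc a b i M _).1 h')
    exact ⟨⟨b ^ n, n, rfl⟩, by rw [← sub_eq_zero]; exact (smul_sub _ x y).symm.trans hn⟩

end Groth.Agent.H2LC
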