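import Mathlib
import Groth.Prelude.Def_Wider
import Groth.Prelude.Def_DRing3
import Groth.Agent.Lib.H2LCShift
import Groth.Agent.Lib.H2LCAway
import Groth.Agent.Lib.H2LCCd
import Groth.Agent.Lib.H2LCTop
import Groth.Agent.Lib.H2DepthMore
import Groth.Agent.Lib.H2Ischebeck
import Groth.Agent.Lib.RegularLocalSerre

/-! Duality for local cohomology over a regular local ring, in degrees `d` and `d - 1`. -/

universe u

open CategoryTheory CategoryTheory.Limits Pointwise

namespace Groth.Agent.H2LDual

set_option backward.isDefEq.respectTransparency.types false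
set_option linter.style.haveILetI false

open Groth.Agent.H2LC

section retract
variable {R : Type u} [CommRing R]

theorem injective_of_retract {A B : Type u} [AddCommGroup A] [Module R A] [AddCommGroup B] [Module R B]
    (hA : Module.Injective R A) (s : B →ₗ[R] A) (f : A →ₗ[R] B) (h : f ∘ₗ s = LinearMap.id) :
    Module.Injective R B := by
  refine ⟨fun X Y _ _ _ _ i hi g => ?_⟩
  obtain ⟨e, he⟩ := hA.out i hi (s ∘ₗ g)
  exact ⟨f ∘ₗ e, fun x => (congrArg f (he x)).trans (congrArg (fun t : B →ₗ[R] B => t (g x)) h)⟩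

theorem injective_of_surjective {K A B : Type u} [AddCommGroup K] [Module R K] [AddCommGroup A] [Module R A]
    [AddCommGroup B] [Module R B] (hK : Module.Injective R K) (hA : Module.Injective R A) (i : K →ₗ[R] A)
    (f : A →ₗ[R] B) (hi : Function.Injective i) (hf : Function.Surjective f) (hex : Function.Exact i f) :
    Module.Injective R B := by
  obtain ⟨r, hr⟩ := hK.out i hi LinearMap.id
  have h2 : LinearMap.ker f ≤ LinearMap.ker (LinearMap.id - i ∘ₗ r) := by
    intro a ha
    obtain ⟨k, rfl⟩ := (hex a).1 ha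
    simp [hr k]
  let s : B →ₗ[R] A :=
    ((LinearMap.ker f).liftQ (LinearMap.id - i ∘ₗ r) h2) ∘ₗ (f.quotKerEquivOfSurjective hf).symm.toLinearMap
  refine injective_of_retract hA s f (LinearMap.ext fun b => ?_)
  obtain ⟨a, rfl⟩ := hf b
  have he : (f.quotKerEquivOfSurjective hf).symm (f a) = Submodule.Quotient.mk a := by
    rw [LinearEquiv.symm_apply_eq]; rfl
  simp [s, he, hex.apply_apply_eq_zero]

variable [IsNoetherianRing R] {I : Ideal R}

theorem injective_H0 (M : Type u) [AddCommGroup M] [Module R M] (h : Module.Injective R (DRing.torsionSub I M)) :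
    Module.Injective R (LocCoh.H I 0 M) :=
  injective_of_retract h (torsionEquiv (I := I) M).toLinearMap (torsionEquiv (I := I) M).symm.toLinearMap
    (LinearMap.ext fun x => LinearEquiv.symm_apply_apply _ x)

/-- The top local cohomology of a module of finite injective dimension without lower cohomology is injective. -/
theorem injective_H_top_aux : ∀ (n : ℕ) (N : Type u) [AddCommGroup N] [Module R N],
    HasInjectiveDimensionLT (ModuleCat.of R N) (n + 1) → Module.Injective R (LocCoh.H I 0 N) →
    (∀ j, 0 < j → j < n → Subsingleton (LocCoh.H I j N)) → Module.Injective R (LocCoh.H I n N) := by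
  intro n
  induction n with
  | zero => exact fun N _ _ _ h _ => h
  | succ n ih =>
    intro N _ _ hN h0 hv
    obtain ⟨E, _, _, hE, C, _, _, ι, g, hι, hg, hex⟩ := exists_shift (R := R) N
    haveI hE' : Injective (ModuleCat.of R E) := Module.injective_object_of_injective_module R E (inj := hE)
    have hS := lseq_shortExact hι hg hex
    have hC : HasInjectiveDimensionLT (ModuleCat.of R C) (n + 1) := by
      haveI := hN
      haveI : HasInjectiveDimensionLT (ModuleCat.of R E) 1 := inferInstance
      exact hS.hasInjectiveDimensionLT_X₃ (n + 1) (hasInjectiveDimensionLT_of_ge _ 1 (n + 1) (by omega)) hN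
    have hE0 : Module.Injective R (LocCoh.H I 0 E) := injective_H0 E (injective_torsionSub (hE := hE) E)
    let a := cmap I 0 (ModuleCat.ofHom ι)
    let b := cmap I 0 (ModuleCat.ofHom g)
    have ha : Function.Injective a := fun x y hxy => toMod_injective _ (hι
      ((toMod_natural (ModuleCat.ofHom ι) x).symm.trans ((congrArg _ hxy).trans (toMod_natural (ModuleCat.ofHom ι) y))))
    have hI : Module.Injective R (LinearMap.range b) :=
      injective_of_surjective h0 hE0 a b.rangeRestrict ha b.surjective_rangeRestrict fun x => by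
        rw [← exact_map hS 0 x]; exact Subtype.ext_iff
    rcases n with _ | n
    · haveI : HasInjectiveDimensionLT (ModuleCat.of R C) 1 := hC
      haveI : Injective (ModuleCat.of R C) := by rwa [injective_iff_hasInjectiveDimensionLT_one]
      have hC0 : Module.Injective R (LocCoh.H I 0 C) :=
        injective_H0 C (injective_torsionSub (hE := Module.injective_module_of_injective_object R C) C)
      exact injective_of_surjective hI hC0 (LinearMap.range b).subtype (dMap hS 0) Subtype.val_injective
        (dMap_surjective hS 0 (subsingleton_of_injective (ModuleCat.of R E) 0)) fun x => by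
          rw [exact_map_dMap hS 0 x, ← LinearMap.coe_range, ← LinearMap.coe_range, Submodule.range_subtype]
    · have hb : Function.Surjective b := fun x =>
        (exact_map_dMap hS 0 x).1 (@Subsingleton.elim _ (hv 1 Nat.one_pos (by omega)) _ _)
      have hC0 : Module.Injective R (LocCoh.H I 0 C) :=
        injective_of_retract hI ((LinearMap.id : LocCoh.H I 0 C →ₗ[R] LocCoh.H I 0 C).codRestrict (LinearMap.range b) fun x => hb x)
          (LinearMap.range b).subtype (LinearMap.ext fun x => rfl)
      haveI h1 := ih C hC hC0 fun j hj hjn => by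
        haveI := hv (j + 1) (by omega) (by omega)
        exact Function.Injective.subsingleton (dMap_injective (I := I) hS j
          (by rcases j with _ | j
              · omega
              · exact subsingleton_of_injective (ModuleCat.of R E) j))
      exact injective_of_retract h1
        (LinearEquiv.ofBijective (dMap hS (n + 1)) ⟨dMap_injective hS (n + 1) (subsingleton_of_injective (ModuleCat.of R E) n),
          dMap_surjective hS (n + 1) (subsingleton_of_injective (ModuleCat.of R E) (n + 1))⟩).symm.toLinearMap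
        (dMap hS (n + 1)) (LinearMap.ext fun x => LinearEquiv.apply_symm_apply
          (LinearEquiv.ofBijective (dMap hS (n + 1)) _) x)

theorem cmap_add (i : ℕ) : ∀ {A B : ModuleCat.{u} R} (f g : A ⟶ B)
    (x : (localCohomology I i).obj A), cmap I i (f + g) x = cmap I i f x + cmap I i g x := by
  induction i with
  | zero =>
    intro A B f g x
    apply toMod_injective B
    rw [map_add, toMod_natural, toMod_natural, toMod_natural]
    rfl
  | succ i ih =>
    intro A B f g x
    obtain ⟨q, rfl⟩ := envSeq_dMap_surjective A i x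
    haveI hm : Mono (Injective.ι A) := (envSeq_shortExact A).mono_f
    have mk : ∀ h : A ⟶ B, ∃ φ : Injective.under A ⟶ Injective.under B,
        Injective.ι A ≫ φ = h ≫ Injective.ι B := fun h =>
      ⟨Injective.factorThru (h ≫ Injective.ι B) (Injective.ι A), Injective.comp_factorThru _ _⟩
    obtain ⟨φ, hφ⟩ := mk f
    obtain ⟨φ', hφ'⟩ := mk g
    let ψ : cokernel (Injective.ι A) ⟶ cokernel (Injective.ι B) := cokernel.desc (Injective.ι A) (φ ≫ cokernel.π (Injective.ι B))
      (by rw [reassoc_of% hφ, cokernel.condition, comp_zero])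
    let ψ' : cokernel (Injective.ι A) ⟶ cokernel (Injective.ι B) := cokernel.desc (Injective.ι A) (φ' ≫ cokernel.π (Injective.ι B))
      (by rw [reassoc_of% hφ', cokernel.condition, comp_zero])
    let Φ : envSeq A ⟶ envSeq B :=
      { τ₁ := f, τ₂ := φ, τ₃ := ψ, comm₁₂ := hφ.symm, comm₂₃ := (cokernel.π_desc _ _ _).symm }
    let Φ' : envSeq A ⟶ envSeq B :=
      { τ₁ := g, τ₂ := φ', τ₃ := ψ', comm₁₂ := hφ'.symm, comm₂₃ := (cokernel.π_desc _ _ _).symm }
    let Φs : envSeq A ⟶ envSeq B :=
      { τ₁ := f + g, τ₂ := φ + φ', τ₃ := ψ + ψ'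
        comm₁₂ := (Preadditive.add_comp _ _ _ f g (Injective.ι B)).trans
          ((congrArg₂ (· + ·) hφ.symm hφ'.symm).trans (Preadditive.comp_add _ _ _ (Injective.ι A) φ φ').symm)
        comm₂₃ := (Preadditive.add_comp _ _ _ φ φ' (cokernel.π (Injective.ι B))).trans
          ((congrArg₂ (· + ·) (cokernel.π_desc _ _ _).symm (cokernel.π_desc _ _ _).symm).trans
            (Preadditive.comp_add _ _ _ (cokernel.π (Injective.ι A)) ψ ψ').symm) }
    have h1 : dMap (envSeq_shortExact B) i (cmap I i ψ q) = cmap I (i + 1) f (dMap (envSeq_shortExact A) i q) :=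
      dMap_natural (envSeq_shortExact A) (envSeq_shortExact B) Φ i q
    have h1' : dMap (envSeq_shortExact B) i (cmap I i ψ' q) = cmap I (i + 1) g (dMap (envSeq_shortExact A) i q) :=
      dMap_natural (envSeq_shortExact A) (envSeq_shortExact B) Φ' i q
    have h2 : dMap (envSeq_shortExact B) i (cmap I i (ψ + ψ') q) = cmap I (i + 1) (f + g) (dMap (envSeq_shortExact A) i q) :=
      dMap_natural (envSeq_shortExact A) (envSeq_shortExact B) Φs i q
    exact h2.symm.trans ((congrArg _ (ih ψ ψ' q)).trans ((map_add _ _ _).trans (congrArg₂ (· + ·) h1 h1')))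

/-- functoriality on elements. -/
theorem cmap_comp {A B C : Type u} [AddCommGroup A] [Module R A] [AddCommGroup B] [Module R B] [AddCommGroup C]
    [Module R C] (i : ℕ) (f : A →ₗ[R] B) (g : B →ₗ[R] C) (x : LocCoh.H I i A) :
    cmap I i (ModuleCat.ofHom (g ∘ₗ f)) x = cmap I i (ModuleCat.ofHom g) (cmap I i (ModuleCat.ofHom f) x) := by
  show ((localCohomology I i).map (ModuleCat.ofHom f ≫ ModuleCat.ofHom g)).hom x = _
  rw [Functor.map_comp]
  rfl

theorem cmap_eq_id {A : Type u} [AddCommGroup A] [Module R A] (i : ℕ) (x : LocCoh.H I i A) :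
    cmap I i (ModuleCat.ofHom (LinearMap.id : A →ₗ[R] A)) x = x := by
  show ((localCohomology I i).map (𝟙 (ModuleCat.of R A))).hom x = _
  rw [CategoryTheory.Functor.map_id]
  rfl

variable (I) in
/-- `z ↦ (φ ↦ H(φ) z)`. -/
noncomputable def theta (i : ℕ) (N : Type u) [AddCommGroup N] [Module R N] :
    LocCoh.H I i N →ₗ[R] (Module.Dual R N →ₗ[R] LocCoh.H I i R) where
  toFun z :=
    { toFun := fun φ => cmap I i (ModuleCat.ofHom φ) z
      map_add' := fun φ ψ => cmap_add i (ModuleCat.ofHom φ) (ModuleCat.ofHom ψ) z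
      map_smul' := fun c φ => cmap_smul i c (ModuleCat.ofHom φ) z }
  map_add' z w := LinearMap.ext fun φ => (cmap I i (ModuleCat.ofHom φ)).map_add z w
  map_smul' c z := LinearMap.ext fun φ => (cmap I i (ModuleCat.ofHom φ)).map_smul c z

theorem theta_natural {A B : Type u} [AddCommGroup A] [Module R A] [AddCommGroup B] [Module R B] (i : ℕ)
    (f : A →ₗ[R] B) (z : LocCoh.H I i A) (φ : Module.Dual R B) :
    theta I i B (cmap I i (ModuleCat.ofHom f) z) φ = theta I i A z (φ ∘ₗ f) :=
  (cmap_comp i f φ z).symm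

theorem theta_bijective_pi (i n : ℕ) : Function.Bijective (theta I i (Fin n → R)) := by
  classical
  let s : Fin n → (R →ₗ[R] (Fin n → R)) := fun k => LinearMap.single R (fun _ : Fin n => R) k
  let p : Fin n → ((Fin n → R) →ₗ[R] R) := fun k => LinearMap.proj k
  have key : ∀ y : LocCoh.H I i (Fin n → R),
      ∑ k, cmap I i (ModuleCat.ofHom (s k)) (theta I i _ y (p k)) = y := by
    intro y
    have hsum : (∑ k, s k ∘ₗ p k) = (LinearMap.id : (Fin n → R) →ₗ[R] (Fin n → R)) := by
      refine LinearMap.ext fun v => ?_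
      simp only [s, p, LinearMap.coe_sum, Finset.sum_apply, LinearMap.comp_apply, LinearMap.coe_proj,
        Function.eval, LinearMap.coe_single, LinearMap.id_apply]
      exact Finset.univ_sum_single v
    let Φ : ((Fin n → R) →ₗ[R] (Fin n → R)) →+ LocCoh.H I i (Fin n → R) :=
      AddMonoidHom.mk' (fun φ => cmap I i (ModuleCat.ofHom φ) y) fun a b => cmap_add i (ModuleCat.ofHom a) (ModuleCat.ofHom b) y
    have h := congrArg Φ hsum
    rw [map_sum] at h
    refine Eq.trans (Finset.sum_congr rfl fun k _ => ?_) (h.trans (cmap_eq_id i y))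
    exact (cmap_comp i (p k) (s k) y).symm
  constructor
  · intro y y' h
    rw [← key y, ← key y', h]
  · intro ψ
    refine ⟨∑ k, cmap I i (ModuleCat.ofHom (s k)) (ψ (p k)), ?_⟩
    let Ψ : Module.Dual R (Fin n → R) →ₗ[R] LocCoh.H I i R := theta I i _ (∑ k, cmap I i (ModuleCat.ofHom (s k)) (ψ (p k)))
    refine LinearMap.ext fun φ => ?_
    have hφ : φ = ∑ k, φ (Pi.single k 1) • p k := by
      refine LinearMap.pi_ext' fun k => LinearMap.ext_ring ?_
      simp [p, Pi.single_apply]
    show cmap I i (ModuleCat.ofHom φ) (∑ k, cmap I i (ModuleCat.ofHom (s k)) (ψ (p k))) = ψ φ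
    rw [map_sum]
    conv_rhs => rw [hφ, map_sum]
    refine Finset.sum_congr rfl fun k _ => ?_
    rw [map_smul]
    refine (cmap_comp i (s k) φ (ψ (p k))).symm.trans ?_
    rw [show φ ∘ₗ s k = φ (Pi.single k 1) • LinearMap.id from LinearMap.ext_ring (by simp [s])]
    refine (cmap_smul i (φ (Pi.single k 1)) (ModuleCat.ofHom (LinearMap.id : R →ₗ[R] R)) _).trans ?_
    rw [cmap_eq_id]

end retract

section regular

variable {R : Type u} [CommRing R] [IsRegularLocalRing R] {d : ℕ} (hd : ringKrullDim R = d)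

local notation3 "𝔪" => IsLocalRing.maximalIdeal R

include hd

theorem hasReg_free (F : Type u) [AddCommGroup F] [Module R F] [Module.Flat R F] : H2Depth.HasReg 𝔪 F d := by
  obtain ⟨n, hn, rs, hlen, hrs, hmem⟩ := H2Ischebeck.hasReg_of_regularLocal (R := R)
  obtain rfl : n = d := by rw [hd] at hn; exact_mod_cast hn.symm
  exact ⟨rs, hlen, ((TensorProduct.lid R F).isWeaklyRegular_congr rs).1 (hrs.isWeaklyRegular_rTensor (M₂ := F)), hmem⟩

theorem subsingleton_free (F : Type u) [AddCommGroup F] [Module R F] [Module.Flat R F] {j : ℕ} (hj : j < d) :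
    Subsingleton (LocCoh.H 𝔪 j F) :=
  subsingleton_of_hasReg (hasReg_free hd F) j hj

theorem subsingleton_succ (M : Type u) [AddCommGroup M] [Module R M] : Subsingleton (LocCoh.H 𝔪 (d + 1) M) :=
  subsingleton_of_supportDim_lt ((Module.supportDim_le_ringKrullDim R M).trans_lt (by rw [hd]; exact_mod_cast Nat.lt_succ_self d))

theorem injective_H_top : Module.Injective R (LocCoh.H 𝔪 d R) := by
  have hspan : (IsLocalRing.maximalIdeal R).spanFinrank = d := by
    have h : (((IsLocalRing.maximalIdeal R).spanFinrank : ℕ) : WithBot ℕ∞) = (d : ℕ) :=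
      IsRegularLocalRing.spanFinrank_maximalIdeal.trans hd
    exact_mod_cast h
  have hI : HasInjectiveDimensionLT (ModuleCat.of R R) (d + 1) := by
    refine Groth.Agent.RegLocal.hasInjectiveDimensionLT_of_quotients _ _ fun J => ?_
    have := Groth.Agent.RegLocal.pdLT_of_regular_finite _ R hspan (R ⧸ J)
    exact HasProjectiveDimensionLT.subsingleton (ModuleCat.of R (R ⧸ J)) _ _ le_rfl _
  refine injective_H_top_aux (I := 𝔪) d R hI ?_ fun j _ hj => subsingleton_free hd R hj
  rcases Nat.eq_zero_or_pos d with h | h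
  · subst h
    haveI : HasInjectiveDimensionLT (ModuleCat.of R R) 1 := hI
    haveI : Injective (ModuleCat.of R R) := by rwa [injective_iff_hasInjectiveDimensionLT_one]
    exact injective_H0 R (injective_torsionSub (hE := Module.injective_module_of_injective_object R R) R)
  · haveI := subsingleton_free hd R h
    exact ⟨fun _ _ _ _ _ _ _ _ _ => ⟨0, fun _ => Subsingleton.elim _ _⟩⟩

theorem surjective_top {A B : Type u} [AddCommGroup A] [Module R A] [AddCommGroup B] [Module R B]
    (g : A →ₗ[R] B) (hg : Function.Surjective g) : Function.Surjective (cmap 𝔪 d (ModuleCat.ofHom g)) := by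
  have hS := lseq_shortExact (LinearMap.ker g).injective_subtype hg g.exact_subtype_ker_map
  exact fun x => (exact_map_dMap hS d x).1 (@Subsingleton.elim _ (subsingleton_succ hd _) _ _)

/-- `H^d(N) = Hom(N^*, H^d(R))`. -/
theorem theta_bijective (N : Type u) [AddCommGroup N] [Module R N] [Module.Finite R N] :
    Function.Bijective (theta 𝔪 d N) := by
  obtain ⟨n, π, hπ⟩ := Module.Finite.exists_fin' R N
  obtain ⟨k, δ₀, hδ₀⟩ := Module.Finite.exists_fin' R (LinearMap.ker π)
  let δ := (LinearMap.ker π).subtype ∘ₗ δ₀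
  have hπδ : π ∘ₗ δ = 0 := LinearMap.ext fun v => (δ₀ v).2
  have hE := injective_H_top hd
  have hs := surjective_top hd π hπ
  constructor
  · rw [injective_iff_map_eq_zero]
    intro z hz
    obtain ⟨y, rfl⟩ := hs z
    let D : Module.Dual R (Fin n → R) →ₗ[R] Module.Dual R (Fin k → R) := δ.dualMap
    have hker : LinearMap.ker D ≤ LinearMap.ker (theta 𝔪 d _ y) := by
      intro φ hφ
      have h0 : ∀ v ∈ LinearMap.ker π, φ v = 0 := fun v hv => by
        obtain ⟨w, hw⟩ := hδ₀ ⟨v, hv⟩
        exact (congrArg φ (congrArg Subtype.val hw)).symm.trans (LinearMap.congr_fun hφ w)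
      let φ' : Module.Dual R N := (LinearMap.ker π).liftQ φ h0 ∘ₗ (π.quotKerEquivOfSurjective hπ).symm.toLinearMap
      have : φ = φ' ∘ₗ π := LinearMap.ext fun v => by
        have he : (π.quotKerEquivOfSurjective hπ).symm (π v) = Submodule.Quotient.mk v := by
          rw [LinearEquiv.symm_apply_eq]; rfl
        simp [φ', he]
      rw [LinearMap.mem_ker, this, ← theta_natural, hz]
      rfl
    obtain ⟨ξ, hξ⟩ := hE.out ((LinearMap.ker D).liftQ D le_rfl)
      (LinearMap.ker_eq_bot.1 (Submodule.ker_liftQ_eq_bot _ _ _ le_rfl))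
      ((LinearMap.ker D).liftQ (theta 𝔪 d _ y) hker)
    obtain ⟨y₁, hy₁⟩ := (theta_bijective_pi (I := 𝔪) d k).2 ξ
    have hy : y = cmap 𝔪 d (ModuleCat.ofHom δ) y₁ := by
      refine (theta_bijective_pi (I := 𝔪) d n).1 (LinearMap.ext fun φ => ?_)
      rw [theta_natural, hy₁]
      exact (hξ (Submodule.Quotient.mk φ)).symm
    rw [hy, ← cmap_comp, hπδ]
    have h0 : (0 : (Fin k → R) →ₗ[R] N) = (0 : R) • (0 : (Fin k → R) →ₗ[R] N) := (zero_smul _ _).symm
    rw [h0]
    exact (cmap_smul d (0 : R) (ModuleCat.ofHom (0 : (Fin k → R) →ₗ[R] N)) _).trans (zero_smul _ _)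
  · intro ξ
    let P : Module.Dual R N →ₗ[R] Module.Dual R (Fin n → R) := π.dualMap
    obtain ⟨ξ', hξ'⟩ := hE.out P (LinearMap.dualMap_injective_of_surjective hπ) ξ
    obtain ⟨y, hy⟩ := (theta_bijective_pi (I := 𝔪) d n).2 ξ'
    refine ⟨cmap 𝔪 d (ModuleCat.ofHom π) y, LinearMap.ext fun φ => ?_⟩
    rw [theta_natural, hy]
    exact hξ' φ

theorem exists_hom_ne_zero (T : Type u) [AddCommGroup T] [Module R T] [Module.Finite R T] [Nontrivial T] :
    ∃ g : T →ₗ[R] LocCoh.H 𝔪 d R, g ≠ 0 := by
  haveI : IsNoetherian R T := isNoetherian_of_isNoetherianRing_of_finite R T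
  obtain ⟨N, hN, -⟩ := (eq_top_or_exists_le_coatom (⊥ : Submodule R T)).resolve_left bot_ne_top
  obtain ⟨J, hJ, ⟨e⟩⟩ := isSimpleModule_iff_quot_maximal.1 (isSimpleModule_iff_isCoatom.2 hN)
  obtain rfl : J = 𝔪 := IsLocalRing.eq_maximalIdeal hJ
  haveI : Module.Finite R R := inferInstance
  haveI := nontrivial_H_top (R := R) d R ((Module.supportDim_self_eq_ringKrullDim R).trans hd)
  obtain ⟨w, hw⟩ := exists_ne (0 : LocCoh.H 𝔪 d R)
  classical
  have hex : ∃ k : ℕ, ∀ a ∈ 𝔪 ^ k, a • w = 0 := isPowerTorsion (I := 𝔪) d (ModuleCat.of R R) w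
  obtain ⟨u, hu, hu0⟩ : ∃ u : LocCoh.H 𝔪 d R, u ≠ 0 ∧ ∀ a ∈ 𝔪, a • u = 0 := by
    rcases hk : Nat.find hex with _ | k
    · exact absurd (one_smul R w ▸ (hk ▸ Nat.find_spec hex) 1 (by simp)) hw
    · have := Nat.find_min hex (m := k) (by omega)
      simp only [not_forall] at this
      obtain ⟨b, hb, hbw⟩ := this
      exact ⟨b • w, hbw, fun a ha => by
        rw [← mul_smul]; exact (hk ▸ Nat.find_spec hex) _ (by rw [pow_succ']; exact Ideal.mul_mem_mul ha hb)⟩
  refine ⟨(Submodule.liftQ 𝔪 (LinearMap.toSpanSingleton R _ u) fun a ha => hu0 a ha) ∘ₗ e.toLinearMap ∘ₗ N.mkQ, fun h0 => hu ?_⟩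
  obtain ⟨t, ht⟩ := N.mkQ_surjective (e.symm (Submodule.Quotient.mk 1))
  have h1 := LinearMap.congr_fun h0 t
  simp only [LinearMap.comp_apply, ht, LinearEquiv.coe_coe, LinearEquiv.apply_symm_apply] at h1
  exact (one_smul R u).symm.trans h1

section pres

variable {Ω F M : Type u} [AddCommGroup Ω] [Module R Ω] [AddCommGroup F] [Module R F] [AddCommGroup M] [Module R M]
  [Module.Finite R Ω] [Module.Finite R F] [Module.Flat R F] {ι : Ω →ₗ[R] F} {π : F →ₗ[R] M}
  (hι : Function.Injective ι) (hπ : Function.Surjective π) (hex : Function.Exact ι π)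

include hι hπ hex

theorem smul_eq_zero_of_extends {m : ℕ} (hm : m + 1 = d) {x : R}
    (h : ∀ φ : Module.Dual R Ω, ∃ ψ : Module.Dual R F, ψ ∘ₗ ι = x • φ) (y : LocCoh.H 𝔪 m M) : x • y = 0 := by
  subst hm
  have hS := lseq_shortExact hι hπ hex
  refine dMap_injective hS m (subsingleton_free hd F (by omega)) ?_
  rw [map_zero, map_smul]
  refine (theta_bijective hd Ω).1 (LinearMap.ext fun φ => ?_)
  obtain ⟨ψ, hψ⟩ := h φ
  rw [map_smul, map_zero, LinearMap.smul_apply, ← map_smul, ← hψ, ← theta_natural]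
  have h0 : cmap 𝔪 (m + 1) (ModuleCat.ofHom ι) (dMap hS m y) = 0 := (exact_dMap_map hS m).apply_apply_eq_zero y
  rw [h0, map_zero]
  rfl

theorem extends_of_subsingleton {m : ℕ} (hm : m + 1 = d) (h : Subsingleton (LocCoh.H 𝔪 m M))
    (φ : Module.Dual R Ω) : ∃ ψ : Module.Dual R F, ψ ∘ₗ ι = φ := by
  subst hm
  have hS := lseq_shortExact hι hπ hex
  haveI : IsNoetherian R Ω := isNoetherian_of_isNoetherianRing_of_finite R Ω
  obtain ⟨k, p, hp⟩ := Module.Finite.exists_fin' R Ω
  haveI : Module.Finite R (Module.Dual R Ω) := Module.Finite.of_injective p.dualMap (LinearMap.dualMap_injective_of_surjective hp)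
  by_contra hne
  set T := Module.Dual R Ω ⧸ LinearMap.range ι.dualMap
  haveI : Nontrivial T := Submodule.Quotient.nontrivial_iff.2 fun htop =>
    hne (LinearMap.mem_range.1 (htop ▸ Submodule.mem_top : φ ∈ LinearMap.range ι.dualMap))
  obtain ⟨g, hg⟩ := exists_hom_ne_zero hd T
  obtain ⟨z, hz⟩ := (theta_bijective hd Ω).2 (g ∘ₗ (LinearMap.range ι.dualMap).mkQ)
  have h0 : cmap 𝔪 (m + 1) (ModuleCat.ofHom ι) z = 0 := by
    refine (theta_bijective hd F).1 (LinearMap.ext fun ψ => ?_)
    rw [theta_natural, hz, map_zero, LinearMap.zero_apply, LinearMap.comp_apply, Submodule.mkQ_apply,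
      (Submodule.Quotient.mk_eq_zero _).2 (show ψ ∘ₗ ι ∈ LinearMap.range ι.dualMap from ⟨ψ, rfl⟩), map_zero]
  obtain ⟨w, rfl⟩ := (exact_dMap_map hS m z).1 h0
  rw [@Subsingleton.elim _ h w 0, map_zero, map_zero] at hz
  refine hg (LinearMap.ext fun t => ?_)
  obtain ⟨φ', rfl⟩ := Submodule.mkQ_surjective _ t
  exact (LinearMap.congr_fun hz φ').symm

end pres

theorem dual_eq_zero_of_subsingleton (M : Type u) [AddCommGroup M] [Module R M] [Module.Finite R M]
    (h : Subsingleton (LocCoh.H 𝔪 d M)) (φ : Module.Dual R M) : φ = 0 := by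
  obtain ⟨k, p, hp⟩ := Module.Finite.exists_fin' R M
  haveI : Module.Finite R (Module.Dual R M) := Module.Finite.of_injective p.dualMap (LinearMap.dualMap_injective_of_surjective hp)
  by_contra hne
  haveI : Nontrivial (Module.Dual R M) := ⟨⟨φ, 0, hne⟩⟩
  obtain ⟨g, hg⟩ := exists_hom_ne_zero hd (Module.Dual R M)
  obtain ⟨z, hz⟩ := (theta_bijective hd M).2 g
  rw [@Subsingleton.elim _ h z 0, map_zero] at hz
  exact hg hz.symm

end regular

end Groth.Agent.H2LDual
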