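/-
*Injectives are acyclic; local cohomology from a resolution
-/
import Groth.Prelude.Def_GrLC
import Groth.Prelude.Def_Wider
import Groth.Agent.Lib.GrStarPrime
import Groth.Agent.Lib.H2LCMono
import Groth.Agent.Lib.H2LCFlat
import Groth.Agent.Lib.H2LDual
import Mathlib

set_option autoImplicit false
open DirectSum CategoryTheory
open Groth.Agent.GrStarBasic Groth.Agent.GrStarHull Groth.Agent.GrStarPrime Groth.Agent.H2LC

universe u

namespace Groth.Agent.GrStarAcyclic

section Ungraded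

variable {R : Type u} [CommRing R] [IsNoetherianRing R] {a : Ideal R}

omit [IsNoetherianRing R] in
theorem isPowerTorsion_gam (a : Ideal R) (M : Type u) [AddCommGroup M] [Module R M] :
    LocCoh.IsPowerTorsion a ↥(GrLC.gam a M) := fun x => by
  obtain ⟨n, hn⟩ := x.2
  exact ⟨n, fun r hr => Subtype.ext (hn r hr)⟩

theorem subsingleton_of_bijective {b : R} (hb : b ∈ a) {M : Type u} [AddCommGroup M] [Module R M]
    (h : Function.Bijective (fun x : M => b • x)) (i : ℕ) : Subsingleton (LocCoh.H a i M) := by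
  let e : M ≃ₗ[R] M := LinearEquiv.ofBijective
    ({ toFun := fun x => b • x, map_add' := smul_add b, map_smul' := fun c x => smul_comm b c x } : M →ₗ[R] M) h
  have hinj : ∀ x : LocCoh.H a i M, b • x = 0 → x = 0 := by
    intro x hx
    have hsmul : (ModuleCat.ofHom e.toLinearMap : ModuleCat.of R M ⟶ _) = b • 𝟙 (ModuleCat.of R M) := rfl
    have h1 : cmap a i (ModuleCat.ofHom e.toLinearMap) x = 0 := by rw [hsmul, cmap_smul_id, hx]
    have h2 := congrArg (cmap a i (ModuleCat.ofHom e.symm.toLinearMap)) h1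
    rw [map_zero, ← LinearMap.comp_apply, ← ModuleCat.hom_comp, ← Functor.map_comp, ← ModuleCat.ofHom_comp] at h2
    have e1 : e.symm.toLinearMap ∘ₗ e.toLinearMap = LinearMap.id := LinearMap.ext fun x => e.symm_apply_apply x
    rw [e1] at h2
    rw [show (ModuleCat.ofHom (LinearMap.id : M →ₗ[R] M)) = 𝟙 (ModuleCat.of R M) from rfl] at h2
    simpa using h2
  refine ⟨fun x y => sub_eq_zero.mp ?_⟩
  obtain ⟨n, hn⟩ := isPowerTorsion (I := a) i (ModuleCat.of R M) (x - y)
  have key : ∀ n, ∀ z : LocCoh.H a i M, b ^ n • z = 0 → z = 0 := by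
    intro n
    induction n with
    | zero => intro z hz; simpa using hz
    | succ n ih => intro z hz; exact ih z (hinj _ (by rwa [← mul_smul, ← pow_succ']))
  exact key n _ (hn _ (Ideal.pow_mem_pow hb n))

omit [IsNoetherianRing R] in
theorem subsingleton_middle {A B C : Type u} [AddCommGroup A] [Module R A] [AddCommGroup B] [Module R B]
    [AddCommGroup C] [Module R C] {f : A →ₗ[R] B} {g : B →ₗ[R] C} (hf : Function.Injective f)
    (hg : Function.Surjective g) (hfg : Function.Exact f g) (i : ℕ)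
    (hA : Subsingleton (LocCoh.H a i A)) (hC : Subsingleton (LocCoh.H a i C)) :
    Subsingleton (LocCoh.H a i B) := by
  refine ⟨fun x y => sub_eq_zero.mp ?_⟩
  obtain ⟨z, hz⟩ := (exact_map (lseq_shortExact hf hg hfg) i (x - y)).1 (@Subsingleton.elim _ hC _ _)
  rw [← hz, show z = 0 from @Subsingleton.elim _ hA _ _]
  exact map_zero _

/-- the cocycles and coboundaries of `Γ_a` of a complex -/
def cocyc (a : Ideal R) {X : ℕ → Type u} [∀ n, AddCommGroup (X n)] [∀ n, Module R (X n)]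
    (d : ∀ n, X n →ₗ[R] X (n + 1)) (i : ℕ) : Submodule R (X i) :=
  GrLC.gam a (X i) ⊓ LinearMap.ker (d i)

/-- coboundaries -/
def cobdy (a : Ideal R) {X : ℕ → Type u} [∀ n, AddCommGroup (X n)] [∀ n, Module R (X n)]
    (d : ∀ n, X n →ₗ[R] X (n + 1)) : (i : ℕ) → Submodule R (X i)
  | 0 => ⊥
  | n + 1 => (GrLC.gam a (X n)).map (d n)

omit [IsNoetherianRing R] in
theorem gam_apply {M N : Type u} [AddCommGroup M] [Module R M] [AddCommGroup N] [Module R N]
    (f : M →ₗ[R] N) {m : M} (hm : m ∈ GrLC.gam a M) : f m ∈ GrLC.gam a N := by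
  obtain ⟨n, hn⟩ := hm
  exact ⟨n, fun r hr => by rw [← map_smul, hn r hr, map_zero]⟩

omit [IsNoetherianRing R] in
theorem gam_of_apply {M N : Type u} [AddCommGroup M] [Module R M] [AddCommGroup N] [Module R N]
    {f : M →ₗ[R] N} (hf : Function.Injective f) {m : M} (hm : f m ∈ GrLC.gam a N) : m ∈ GrLC.gam a M := by
  obtain ⟨n, hn⟩ := hm
  exact ⟨n, fun r hr => hf (by rw [map_smul, hn r hr, map_zero])⟩

omit [IsNoetherianRing R] in
/-- cohomology of `Γ_a` of an acyclic resolution is local cohomology -/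
theorem exists_iso : ∀ (i : ℕ) {X : ℕ → Type u} [∀ n, AddCommGroup (X n)] [∀ n, Module R (X n)]
    (M : Type u) [AddCommGroup M] [Module R M] (d : ∀ n, X n →ₗ[R] X (n + 1)) (ε : M →ₗ[R] X 0),
    Function.Injective ε → LinearMap.ker (d 0) = LinearMap.range ε →
    (∀ n, LinearMap.ker (d (n + 1)) = LinearMap.range (d n)) →
    (∀ n j, Subsingleton (LocCoh.H a (j + 1) (X n))) →
    Nonempty ((↥(cocyc a d i) ⧸ (cobdy a d i).comap (cocyc a d i).subtype) ≃ₗ[R] LocCoh.H a i M) := by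
  intro i
  induction i with
  | zero =>
    intro X _ _ M _ _ d ε hε h0 hs hX
    let f : ↥(GrLC.gam a M) →ₗ[R] ↥(cocyc a d 0) :=
      LinearMap.codRestrict _ (ε ∘ₗ (GrLC.gam a M).subtype) fun m =>
        ⟨gam_apply ε m.2, h0.ge ⟨m.1, rfl⟩⟩
    have hf : Function.Bijective f := by
      refine ⟨fun m m' h => Subtype.ext (hε (congrArg Subtype.val h)), fun z => ?_⟩
      obtain ⟨m, hm⟩ := h0.le z.2.2
      exact ⟨⟨m, gam_of_apply hε (hm ▸ z.2.1)⟩, Subtype.ext hm⟩
    have hb : (cobdy a d 0).comap (cocyc a d 0).subtype = ⊥ := by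
      rw [cobdy, Submodule.comap_bot, Submodule.ker_subtype]
    exact ⟨(Submodule.quotEquivOfEqBot _ hb).trans ((LinearEquiv.ofBijective f hf).symm.trans
      ((LinearEquiv.ofEq (GrLC.gam a M) (DRing.torsionSub a M) (by ext m; rfl)).trans (torsionEquiv M).symm))⟩
  | succ i ih =>
    intro X _ _ M _ _ d ε hε h0 hs hX
    let g : X 0 →ₗ[R] ↥(LinearMap.range (d 0)) := (d 0).rangeRestrict
    have hg : Function.Surjective g := (d 0).surjective_rangeRestrict
    have hfg : Function.Exact ε g := by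
      intro x
      rw [← Subtype.coe_inj]
      show d 0 x = 0 ↔ x ∈ Set.range ε
      rw [← LinearMap.mem_ker, h0]
      rfl
    have hS := lseq_shortExact hε hg hfg
    have hsurj := dMap_surjective (I := a) hS i (hX 0 i)
    rcases i with _ | i
    · let Z := LinearMap.range (d 0)
      let f : ↥(GrLC.gam a Z) →ₗ[R] ↥(cocyc a d 1) :=
        LinearMap.codRestrict _ (Z.subtype ∘ₗ (GrLC.gam a Z).subtype) fun m =>
          ⟨gam_apply Z.subtype m.2, (hs 0).ge m.1.2⟩
      have hf : Function.Bijective f := by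
        refine ⟨fun m m' h => Subtype.ext (Subtype.ext (congrArg Subtype.val h :)), fun z => ?_⟩
        exact ⟨⟨⟨z.1, (hs 0).le z.2.2⟩, gam_of_apply (f := Z.subtype) Subtype.val_injective z.2.1⟩, rfl⟩
      let e : ↥(cocyc a d 1) ≃ₗ[R] LocCoh.H a 0 Z := (LinearEquiv.ofBijective f hf).symm.trans
        ((LinearEquiv.ofEq (GrLC.gam a Z) (DRing.torsionSub a Z) (by ext m; rfl)).trans (torsionEquiv Z).symm)
      have he : ∀ z, ((toMod (ModuleCat.of R Z) (e z) : Z) : X 1) = z.1 := fun z => by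
        have h1 := congrArg Subtype.val ((torsionEquiv (I := a) Z).apply_symm_apply
          (LinearEquiv.ofEq (GrLC.gam a Z) (DRing.torsionSub a Z) (by ext m; rfl) ((LinearEquiv.ofBijective f hf).symm z)))
        exact (congrArg Subtype.val h1).trans (congrArg Subtype.val ((LinearEquiv.ofBijective f hf).apply_symm_apply z))
      refine exists_linearEquiv_of_surjective ((cobdy a d 1).comap (cocyc a d 1).subtype).mkQ
        (dMap (I := a) hS 0) e (Submodule.mkQ_surjective _) hsurj fun z => ?_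
      rw [Submodule.mkQ_apply, Submodule.Quotient.mk_eq_zero]
      constructor
      · rintro ⟨y, hy, hyz⟩
        obtain ⟨w, hw⟩ : ∃ w : LocCoh.H a 0 (X 0), toMod (ModuleCat.of R (X 0)) w = y := by
          refine ⟨(torsionEquiv (X 0)).symm ⟨y, hy⟩, ?_⟩
          exact congrArg Subtype.val ((torsionEquiv (I := a) (X 0)).apply_symm_apply ⟨y, hy⟩)
        refine (exact_map_dMap hS 0 _).2 ⟨w, toMod_injective _ ((toMod_natural _ _).trans ?_)⟩
        refine Subtype.ext ?_
        show d 0 (toMod (ModuleCat.of R (X 0)) w) = _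
        rw [hw, he]
        exact hyz
      · intro hz
        obtain ⟨w, hw⟩ := (exact_map_dMap hS 0 _).1 hz
        refine ⟨toMod (ModuleCat.of R (X 0)) w, ?_, ?_⟩
        · have hm : toMod (ModuleCat.of R (X 0)) w ∈ DRing.torsionSub a (X 0) := range_toMod (I := a) (ModuleCat.of R (X 0)) ▸ LinearMap.mem_range_self _ w
          exact hm
        · have := congrArg Subtype.val ((toMod_natural (ModuleCat.ofHom g) w).symm.trans (congrArg (toMod (ModuleCat.of R Z)) hw))
          exact this.trans (he z)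
    · have hinj := dMap_injective (I := a) hS (i + 1) (hX 0 i)
      obtain ⟨φ⟩ := ih (X := fun n => X (n + 1)) (↥(LinearMap.range (d 0))) (fun n => d (n + 1))
        (LinearMap.range (d 0)).subtype Subtype.val_injective
        (by rw [Submodule.range_subtype]; exact hs 0) (fun n => hs (n + 1)) (fun n j => hX (n + 1) j)
      exact ⟨φ.trans (LinearEquiv.ofBijective _ ⟨hinj, hsurj⟩)⟩

end Ungraded

variable {ι : Type} [AddCommGroup ι] [DecidableEq ι]
variable {R : Type u} [CommRing R] [IsNoetherianRing R] {σ : Type u} [SetLike σ R] [AddSubgroupClass σ R]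
  {𝒜 : ι → σ} [GradedRing 𝒜]
variable {E : Type u} [AddCommGroup E] [Module R E] {τ : Type u} [SetLike τ E] [AddSubgroupClass τ E]
  {𝓔 : ι → τ} [Decomposition 𝓔] [SetLike.GradedSMul 𝒜 𝓔]

/-- the torsion part of a *injective is a *injective summand -/
theorem gam_summand (hI : GrLC.IsStarInj 𝒜 𝓔) (a : HomogeneousIdeal 𝒜) :
    ∃ Q : Submodule R E, Q.IsHomogeneous 𝓔 ∧ IsCompl (GrLC.gam a.toIdeal E) Q ∧
      GrLC.IsStarInj 𝒜 (subMod 𝒜 𝓔 (gam_homogeneous (𝓔 := 𝓔) a)).gr := by
  classical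
  obtain ⟨E', Q, hE, hle, hQ, hc, hinj, hess⟩ := exists_hull_summand hI (gam_homogeneous (𝓔 := 𝓔) a)
  have heq : E' = GrLC.gam a.toIdeal E := by
    refine le_antisymm (fun x hx => ?_) hle
    rw [← sum_pr 𝓔 x]
    refine sum_mem fun g _ => ?_
    have hy : pr 𝓔 g x ∈ E' := hE g hx
    have hyg := pr_mem 𝓔 g x
    generalize pr 𝓔 g x = y at hy hyg
    haveI : Module.Finite R ↥(R ∙ y) := Module.Finite.iff_fg.mpr (Submodule.fg_span_singleton y)
    let N : Submodule R ↥(R ∙ y) := (GrLC.gam a.toIdeal E).comap (R ∙ y).subtype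
    obtain ⟨k, hk⟩ := Ideal.exists_pow_inf_eq_pow_smul a.toIdeal N
    obtain ⟨s, hs⟩ := IsNoetherian.noetherian N
    have hc : ∀ z ∈ s, (z : E) ∈ GrLC.gam a.toIdeal E := fun z hz => hs.le (Submodule.subset_span hz)
    choose c hc using hc
    let C := s.attach.sup fun z => c z.1 z.2
    have hkill : a.toIdeal ^ C • N = ⊥ := by
      rw [← hs, eq_bot_iff, Submodule.smul_le]
      intro r hr z hz
      rw [Submodule.mem_bot]
      induction hz using Submodule.span_induction with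
      | mem w hw => exact Subtype.ext (hc w hw r (Ideal.pow_le_pow_right (Finset.le_sup (f := fun z => c z.1 z.2) (Finset.mem_attach s ⟨w, hw⟩)) hr))
      | zero => exact smul_zero r
      | add p q _ _ hp hq => rw [smul_add, hp, hq, add_zero]
      | smul t p _ hp => rw [smul_comm, hp, smul_zero]
    refine ⟨k + C, fun r hr => ?_⟩
    rw [← sum_pr 𝒜 r, Finset.sum_smul]
    refine Finset.sum_eq_zero fun i _ => ?_
    have hi : pr 𝒜 i r ∈ a.toIdeal ^ (k + C) := pow_homogeneous a (k + C) i hr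
    by_contra h0
    have hmem := smul_mem 𝒜 𝓔 (pr_mem 𝒜 i r) hyg
    obtain ⟨j, t, -, htT, htne⟩ := hess (i + g) _ (E'.smul_mem _ hy) hmem h0
    refine htne ?_
    let z : ↥(R ∙ y) := ⟨t • pr 𝒜 i r • y, Submodule.smul_mem _ _ (Submodule.smul_mem _ _ (Submodule.mem_span_singleton_self y))⟩
    have hz : z ∈ a.toIdeal ^ (k + C) • (⊤ : Submodule R ↥(R ∙ y)) ⊓ N := by
      refine ⟨?_, htT⟩
      have : z = (t * pr 𝒜 i r) • (⟨y, Submodule.mem_span_singleton_self y⟩ : ↥(R ∙ y)) :=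
        Subtype.ext (mul_smul t (pr 𝒜 i r) y).symm
      rw [this]
      exact Submodule.smul_mem_smul (Ideal.mul_mem_left _ _ hi) Submodule.mem_top
    rw [hk (k + C) (Nat.le_add_right k C), Nat.add_sub_cancel_left] at hz
    have hz' : z ∈ a.toIdeal ^ C • N := Submodule.smul_mono le_rfl inf_le_right hz
    rw [hkill, Submodule.mem_bot] at hz'
    exact congrArg Subtype.val hz'
  subst heq
  exact ⟨Q, hQ, hc, hinj⟩

/-- division by a homogeneous element modulo its torsion -/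
theorem bijective_quot (hI : GrLC.IsStarInj 𝒜 𝓔) {g : ι} {b : R} (hb : b ∈ 𝒜 g) :
    Function.Bijective (fun x : E ⧸ GrLC.gam (Ideal.span {b}) E => b • x) := by
  classical
  let a : HomogeneousIdeal 𝒜 := ⟨Ideal.span {b}, Ideal.homogeneous_span 𝒜 _ (by
    rintro x (rfl : x = b); exact ⟨g, hb⟩)⟩
  obtain ⟨Q, hQ, hc, -⟩ := gam_summand hI a
  change IsCompl (GrLC.gam (Ideal.span {b}) E) Q at hc
  have hinj : ∀ x : E, b • x ∈ GrLC.gam (Ideal.span {b}) E → x ∈ GrLC.gam (Ideal.span {b}) E := by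
    rintro x ⟨n, hn⟩
    refine ⟨n + 1, fun r hr => ?_⟩
    rw [Ideal.span_singleton_pow, Ideal.mem_span_singleton'] at hr
    obtain ⟨c, rfl⟩ := hr
    have := hn (b ^ n) (Ideal.pow_mem_pow (Ideal.mem_span_singleton_self b) n)
    rw [pow_succ, ← mul_assoc, mul_smul, mul_smul, this, smul_zero]
  refine ⟨fun x y h => ?_, fun y => ?_⟩
  · obtain ⟨x, rfl⟩ := Submodule.mkQ_surjective _ x
    obtain ⟨y, rfl⟩ := Submodule.mkQ_surjective _ y
    simp only at h
    rw [← map_smul, ← map_smul, Submodule.mkQ_apply, Submodule.mkQ_apply, Submodule.Quotient.eq, ← smul_sub] at h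
    exact (Submodule.Quotient.eq _).mpr (hinj _ h)
  -- surjectivity on the complement
  have hJ : GrLC.IsStarInj 𝒜 (subMod 𝒜 𝓔 hQ).gr := by
    let p : E →ₗ[R] (subMod 𝒜 𝓔 hQ).carrier := Submodule.projectionOnto Q _ hc.symm
    have hp : GrLC.IsGrHom 𝓔 (subMod 𝒜 𝓔 hQ).gr p := fun h x hx => by
      show ((Submodule.projectionOnto Q _ hc.symm x : ↥Q) : E) ∈ 𝓔 h
      obtain ⟨u, hu, v, hv, huv⟩ := Submodule.mem_sup.mp (hc.symm.sup_eq_top ▸ Submodule.mem_top : x ∈ Q ⊔ _)
      have e : pr 𝓔 h u + pr 𝓔 h v = x := by rw [← map_add, huv, pr_same 𝓔 hx]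
      have hz : Submodule.projectionOnto Q _ hc.symm (pr 𝓔 h v) = 0 :=
        (Submodule.projectionOnto_apply_eq_zero_iff hc.symm).mpr (gam_homogeneous (𝓔 := 𝓔) a h hv)
      have hu' : Submodule.projectionOnto Q _ hc.symm (pr 𝓔 h u) = ⟨pr 𝓔 h u, hQ h hu⟩ :=
        Submodule.projectionOnto_apply_left hc.symm ⟨_, hQ h hu⟩
      rw [← e, map_add, hz, hu', add_zero]
      exact pr_mem 𝓔 h u
    exact starInj_of_retract (ℰ := 𝓔) (𝒩 := (subMod 𝒜 𝓔 hQ).gr) hI (subtype_grHom 𝒜 𝓔 hQ) hp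
      fun x => Submodule.projectionOnto_apply_left hc.symm x
  let W := subMod 𝒜 𝓔 hQ
  let μ : W.carrier →ₗ[R] (shMod 𝒜 W.gr g).carrier :=
    { toFun := fun x => b • x, map_add' := smul_add b, map_smul' := fun c x => smul_comm b c x }
  have hμ : GrLC.IsGrHom W.gr (shMod 𝒜 W.gr g).gr μ := fun h x hx => by
    show b • x ∈ W.gr (h + g)
    rw [add_comm h g]; exact smul_mem 𝒜 W.gr hb hx
  have hμinj : Function.Injective μ := (injective_iff_map_eq_zero _).mpr fun (x : ↥Q) hx => by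
    have hx' : b • (x : E) = 0 := congrArg Subtype.val hx
    exact Subtype.ext ((Submodule.eq_bot_iff _).mp hc.inf_eq_bot x.1
      ⟨hinj x.1 (hx' ▸ zero_mem _), x.2⟩)
  have hid : GrLC.IsGrHom W.gr W.gr (LinearMap.id : W.carrier →ₗ[R] W.carrier) := fun _ _ h => h
  obtain ⟨π, -, hπμ⟩ := extend hJ hμ hμinj hid
  let π' : W.carrier →ₗ[R] W.carrier := π
  obtain ⟨y, rfl⟩ := Submodule.mkQ_surjective _ y
  obtain ⟨u, hu, v, hv, rfl⟩ := Submodule.mem_sup.mp (hc.symm.sup_eq_top ▸ Submodule.mem_top : y ∈ Q ⊔ _)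
  obtain ⟨(w : ↥Q), hw⟩ : ∃ w, w = π' ⟨u, hu⟩ := ⟨_, rfl⟩
  refine ⟨Submodule.mkQ _ (w : E), ?_⟩
  have key : b • (w : E) = u := by
    have h1 : π' (b • (⟨u, hu⟩ : ↥Q) : ↥Q) = (⟨u, hu⟩ : ↥Q) := LinearMap.congr_fun hπμ (⟨u, hu⟩ : ↥Q)
    have h2 : b • π' (⟨u, hu⟩ : ↥Q) = π' (b • (⟨u, hu⟩ : ↥Q) : ↥Q) := (map_smul π' b _).symm
    have h3 : (b • w : ↥Q) = ⟨u, hu⟩ := by rw [hw]; exact h2.trans h1
    exact congrArg Subtype.val h3
  show b • Submodule.mkQ _ (w : E) = _
  rw [← map_smul, key, map_add, show Submodule.mkQ _ v = 0 from (Submodule.Quotient.mk_eq_zero _).mpr hv, add_zero]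

theorem acyclic_span : ∀ (s : Finset R), (∀ b ∈ s, SetLike.IsHomogeneousElem 𝒜 b) →
    ∀ (I : GrLC.GMod.{u} 𝒜), GrLC.IsStarInj 𝒜 I.gr → ∀ i, Subsingleton (LocCoh.H (Ideal.span (s : Set R)) (i + 1) I.carrier) := by
  classical
  intro s
  induction s using Finset.induction_on with
  | empty =>
    intro _ I _ i
    refine subsingleton_of_isPowerTorsion i I.carrier fun x => ⟨1, fun r hr => ?_⟩
    rw [Finset.coe_empty, Ideal.span_empty, pow_one, Submodule.mem_bot] at hr
    rw [hr, zero_smul]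
  | insert b s hbs ih =>
    intro hs I hI i
    obtain ⟨g, hb⟩ := hs b (Finset.mem_insert_self b s)
    let a : HomogeneousIdeal 𝒜 := ⟨Ideal.span {b}, Ideal.homogeneous_span 𝒜 _ (by
      rintro x (rfl : x = b); exact ⟨g, hb⟩)⟩
    obtain ⟨Q, -, -, hT⟩ := gam_summand hI a
    have hspan : Ideal.span (↑(insert b s) : Set R) = Ideal.span (s : Set R) ⊔ Ideal.span {b} := by
      rw [Finset.coe_insert, Ideal.span_insert, sup_comm]
    rw [hspan]
    refine subsingleton_middle (f := (GrLC.gam (Ideal.span {b}) I.carrier).subtype) (g := Submodule.mkQ _)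
      Subtype.val_injective (Submodule.mkQ_surjective _) (LinearMap.exact_subtype_mkQ _) _ ?_ ?_
    · obtain ⟨e⟩ := exists_supEquiv (I := Ideal.span (s : Set R)) (J := Ideal.span {b}) (i + 1)
        ↥(GrLC.gam (Ideal.span {b}) I.carrier) (isPowerTorsion_gam _ _)
      haveI : Subsingleton (LocCoh.H (Ideal.span (s : Set R)) (i + 1) ↥(GrLC.gam (Ideal.span {b}) I.carrier)) :=
        ih (fun b hb => hs b (Finset.mem_insert_of_mem hb)) _ hT i
      exact e.subsingleton
    · exact subsingleton_of_bijective (b := b)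
        (Ideal.mem_sup_right (Ideal.mem_span_singleton_self b)) (bijective_quot hI hb) _

theorem exists_homogeneous_gens (a : HomogeneousIdeal 𝒜) :
    ∃ s : Finset R, (∀ b ∈ s, SetLike.IsHomogeneousElem 𝒜 b) ∧ Ideal.span (s : Set R) = a.toIdeal := by
  classical
  obtain ⟨t, ht⟩ := IsNoetherian.noetherian a.toIdeal
  refine ⟨t.biUnion fun x => (DFinsupp.support (decompose 𝒜 x)).image fun g => pr 𝒜 g x, fun b hb => ?_,
    le_antisymm (Ideal.span_le.mpr fun b hb => ?_) ?_⟩
  · obtain ⟨x, _, hb⟩ := Finset.mem_biUnion.mp hb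
    obtain ⟨g, _, rfl⟩ := Finset.mem_image.mp hb
    exact ⟨g, pr_mem 𝒜 g x⟩
  · obtain ⟨x, hx, hb⟩ := Finset.mem_biUnion.mp (Finset.mem_coe.mp hb)
    obtain ⟨g, _, rfl⟩ := Finset.mem_image.mp hb
    exact a.isHomogeneous g (ht ▸ Submodule.subset_span hx)
  · rw [← ht, Submodule.span_le]
    intro x hx
    rw [← sum_pr 𝒜 x]
    exact sum_mem fun g hg => Ideal.subset_span
      (Finset.mem_biUnion.mpr ⟨x, hx, Finset.mem_image_of_mem _ hg⟩)

/-- *injectives are acyclic -/
theorem acyclic (hI : GrLC.IsStarInj 𝒜 𝓔) (a : HomogeneousIdeal 𝒜) (i : ℕ) :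
    Subsingleton (LocCoh.H a.toIdeal (i + 1) E) := by
  obtain ⟨s, hs, he⟩ := exists_homogeneous_gens a
  rw [← he]
  refine acyclic_span s hs (bundle 𝒜 𝓔) ?_ i
  exact fun A B f hf hinj g hg => hI A B f hf hinj g hg

variable {M : Type u} [AddCommGroup M] [Module R M] {τ' : Type u} [SetLike τ' M] [AddSubgroupClass τ' M]
  {ℳ : ι → τ'} [Decomposition ℳ] [SetLike.GradedSMul 𝒜 ℳ]

/-- graded local cohomology is local cohomology -/
theorem exists_H_equiv (I : GrLC.StarInjRes 𝒜 ℳ) (a : HomogeneousIdeal 𝒜) (i : ℕ) :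
    Nonempty (I.H a i ≃ₗ[R] LocCoh.H a.toIdeal i M) := by
  obtain ⟨φ⟩ := exists_iso (a := a.toIdeal) i M I.d I.ε I.ε_injective I.exact_zero I.exact_succ
    (fun n j => acyclic (I.starInj n) a j)
  have e : (I.cobdy a i).comap (I.cocyc a i).subtype =
      (cobdy a.toIdeal I.d i).comap (cocyc a.toIdeal I.d i).subtype := by
    cases i <;> rfl
  exact ⟨(Submodule.quotEquivOfEq (p := (I.cobdy a i).comap (I.cocyc a i).subtype) (p' := (cobdy a.toIdeal I.d i).comap (cocyc a.toIdeal I.d i).subtype) e).trans φ⟩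

end Groth.Agent.GrStarAcyclic
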