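/-
Functoriality and long exact sequences of graded local cohomology
-/
import Groth.Prelude.Def_GrLC
import Groth.Agent.Lib.GrStarPrime
import Mathlib

set_option autoImplicit false
open DirectSum
open Groth.Agent.GrStarBasic Groth.Agent.GrStarHull Groth.Agent.GrStarPrime

universe u

namespace Groth.Agent.GrStarLES

variable {ι : Type} [AddCommGroup ι] [DecidableEq ι]
variable {R : Type u} [CommRing R] {σ : Type u} [SetLike σ R] [AddSubgroupClass σ R] {𝒜 : ι → σ} [GradedRing 𝒜]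

section Deg

variable {M : Type u} [AddCommGroup M] [Module R M] {τ : Type u} [SetLike τ M] [AddSubgroupClass τ M]
  {ℳ : ι → τ}
variable {N : Type u} [AddCommGroup N] [Module R N] {τ' : Type u} [SetLike τ' N] [AddSubgroupClass τ' N]
  {𝒩 : ι → τ'}
variable {P : Type u} [AddCommGroup P] [Module R P] {τ'' : Type u} [SetLike τ'' P] [AddSubgroupClass τ'' P]
  {ℰ : ι → τ''}

omit [DecidableEq ι] in
theorem grHomDeg_zero_iff {f : M →ₗ[R] N} : GrLC.IsGrHomDeg ℳ 𝒩 f 0 ↔ GrLC.IsGrHom ℳ 𝒩 f := by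
  constructor
  · intro h g x hx; have := h g x hx; rwa [add_zero] at this
  · intro h g x hx; rw [add_zero]; exact h g x hx

omit [DecidableEq ι] in
theorem grHomDeg_comp {d e : ι} {f : N →ₗ[R] P} {g : M →ₗ[R] N} (hf : GrLC.IsGrHomDeg 𝒩 ℰ f e)
    (hg : GrLC.IsGrHomDeg ℳ 𝒩 g d) : GrLC.IsGrHomDeg ℳ ℰ (f ∘ₗ g) (d + e) := fun j x hx => by
  rw [← add_assoc]
  exact hf _ _ (hg j x hx)

omit [DecidableEq ι] in
theorem grHomDeg_sub {d : ι} {f g : M →ₗ[R] N} (hf : GrLC.IsGrHomDeg ℳ 𝒩 f d)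
    (hg : GrLC.IsGrHomDeg ℳ 𝒩 g d) : GrLC.IsGrHomDeg ℳ 𝒩 (f - g) d := fun j x hx =>
  sub_mem (hf j x hx) (hg j x hx)

omit [DecidableEq ι] in
theorem grHom_comp_deg {d : ι} {f : N →ₗ[R] P} {g : M →ₗ[R] N} (hf : GrLC.IsGrHom 𝒩 ℰ f)
    (hg : GrLC.IsGrHomDeg ℳ 𝒩 g d) : GrLC.IsGrHomDeg ℳ ℰ (f ∘ₗ g) d := fun j x hx => hf _ _ (hg j x hx)

omit [DecidableEq ι] in
theorem grHomDeg_comp_hom {d : ι} {f : N →ₗ[R] P} {g : M →ₗ[R] N} (hf : GrLC.IsGrHomDeg 𝒩 ℰ f d)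
    (hg : GrLC.IsGrHom ℳ 𝒩 g) : GrLC.IsGrHomDeg ℳ ℰ (f ∘ₗ g) d := fun j x hx => hf _ _ (hg j x hx)

variable [Decomposition ℳ] [SetLike.GradedSMul 𝒜 ℳ] [Decomposition 𝒩] [SetLike.GradedSMul 𝒜 𝒩]
  [Decomposition ℰ] [SetLike.GradedSMul 𝒜 ℰ]

/-- extension of maps of any degree -/
theorem extendDeg (hI : GrLC.IsStarInj 𝒜 ℰ) {d : ι} {f : M →ₗ[R] N} (hf : GrLC.IsGrHom ℳ 𝒩 f)
    {g : M →ₗ[R] P} (hg : GrLC.IsGrHomDeg ℳ ℰ g d) (hk : LinearMap.ker f ≤ LinearMap.ker g) :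
    ∃ h : N →ₗ[R] P, GrLC.IsGrHomDeg 𝒩 ℰ h d ∧ h ∘ₗ f = g := by
  let A := shMod 𝒜 ℳ (-d)
  let B := shMod 𝒜 𝒩 (-d)
  let f' : A.carrier →ₗ[R] B.carrier := f
  let g' : A.carrier →ₗ[R] P := g
  have hf' : GrLC.IsGrHom A.gr B.gr f' := fun j x hx => hf (j + -d) x hx
  have hg' : GrLC.IsGrHom A.gr ℰ g' := fun j x hx => by
    have h2 := hg (j + -d) x hx
    rw [neg_add_cancel_right] at h2
    exact h2
  obtain ⟨h, hh, e⟩ := extend' (ℳ := A.gr) (𝒩 := B.gr) hI hf' hg' hk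
  refine ⟨h, fun j x hx => hh (j + d) x ?_, e⟩
  show x ∈ 𝒩 (j + d + -d)
  rwa [add_neg_cancel_right]

theorem starInj_shift (hI : GrLC.IsStarInj 𝒜 ℰ) (e : ι) : GrLC.IsStarInj 𝒜 (shMod 𝒜 ℰ e).gr := by
  intro A B f hf hinj g hg
  let g' : A.carrier →ₗ[R] P := g
  obtain ⟨h, hh, he⟩ := extendDeg (ℳ := A.gr) (𝒩 := B.gr) hI (d := e) hf (g := g') (fun j x hx => hg j x hx)
    (by rw [LinearMap.ker_eq_bot.mpr hinj]; exact bot_le)
  exact ⟨h, fun j x hx => hh j x hx, he⟩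

end Deg

section Lift

variable {M : Type u} [AddCommGroup M] [Module R M] {τ : Type u} [SetLike τ M] [AddSubgroupClass τ M]
  {ℳ : ι → τ} [Decomposition ℳ] [SetLike.GradedSMul 𝒜 ℳ]
variable {N : Type u} [AddCommGroup N] [Module R N] {τ' : Type u} [SetLike τ' N] [AddSubgroupClass τ' N]
  {𝒩 : ι → τ'} [Decomposition 𝒩] [SetLike.GradedSMul 𝒜 𝒩]
variable (E : GrLC.StarInjRes 𝒜 ℳ) (E' : GrLC.StarInjRes 𝒜 𝒩)

/-- a map of resolutions of degree `d` over `f` -/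
structure IsLift (f : M →ₗ[R] N) (d : ι) (φ : ∀ n, (E.X n).carrier →ₗ[R] (E'.X n).carrier) : Prop where
  grHom : ∀ n, GrLC.IsGrHomDeg (E.X n).gr (E'.X n).gr (φ n) d
  aug : φ 0 ∘ₗ E.ε = E'.ε ∘ₗ f
  comm : ∀ n, E'.d n ∘ₗ φ n = φ (n + 1) ∘ₗ E.d n

theorem exists_lift {f : M →ₗ[R] N} {d : ι} (hf : GrLC.IsGrHomDeg ℳ 𝒩 f d) :
    ∃ φ, IsLift E E' f d φ := by
  let T : ℕ → Type u := fun n => {φ : (E.X n).carrier →ₗ[R] (E'.X n).carrier //
    GrLC.IsGrHomDeg (E.X n).gr (E'.X n).gr φ d ∧ LinearMap.ker (E.d n) ≤ LinearMap.ker (E'.d n ∘ₗ φ)}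
  obtain ⟨φ0, h0, e0⟩ := extendDeg (ℳ := ℳ) (E'.starInj 0) E.ε_grHom (g := E'.ε ∘ₗ f)
    (grHom_comp_deg E'.ε_grHom hf) (by rw [LinearMap.ker_eq_bot.mpr E.ε_injective]; exact bot_le)
  have h0' : LinearMap.ker (E.d 0) ≤ LinearMap.ker (E'.d 0 ∘ₗ φ0) := by
    rw [E.exact_zero]
    rintro _ ⟨x, rfl⟩
    rw [LinearMap.mem_ker, LinearMap.comp_apply, show φ0 (E.ε x) = E'.ε (f x) from LinearMap.congr_fun e0 x]
    exact LinearMap.mem_ker.mp (E'.exact_zero.ge ⟨f x, rfl⟩)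
  have step : ∀ n (t : T n), ∃ t' : T (n + 1), E'.d n ∘ₗ t.1 = t'.1 ∘ₗ E.d n := by
    intro n t
    obtain ⟨h, hh, e⟩ := extendDeg (ℳ := (E.X n).gr) (E'.starInj (n + 1)) (E.d_grHom n)
      (g := E'.d n ∘ₗ t.1) (grHom_comp_deg (E'.d_grHom n) t.2.1) t.2.2
    refine ⟨⟨h, hh, ?_⟩, e.symm⟩
    rw [E.exact_succ]
    rintro _ ⟨x, rfl⟩
    rw [LinearMap.mem_ker, LinearMap.comp_apply, show h (E.d n x) = E'.d n (t.1 x) from LinearMap.congr_fun e x]
    exact LinearMap.mem_ker.mp ((E'.exact_succ n).ge ⟨t.1 x, rfl⟩)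
  choose nx hnx using step
  let seq : (n : ℕ) → T n := fun n => Nat.rec (motive := T) ⟨φ0, h0, h0'⟩ nx n
  exact ⟨fun n => (seq n).1, ⟨fun n => (seq n).2.1, e0, fun n => hnx n (seq n)⟩⟩

variable {E E'} (a : HomogeneousIdeal 𝒜) {f : M →ₗ[R] N} {d : ι}
  {φ ψ : ∀ n, (E.X n).carrier →ₗ[R] (E'.X n).carrier}

theorem gam_map {A B : Type u} [AddCommGroup A] [Module R A] [AddCommGroup B] [Module R B]
    (g : A →ₗ[R] B) {x : A} (hx : x ∈ GrLC.gam a.toIdeal A) : g x ∈ GrLC.gam a.toIdeal B := by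
  obtain ⟨n, hn⟩ := hx
  exact ⟨n, fun r hr => by rw [← map_smul, hn r hr, map_zero]⟩

theorem lift_cocyc (hφ : IsLift E E' f d φ) {i : ℕ} {z : (E.X i).carrier} (hz : z ∈ E.cocyc a i) :
    φ i z ∈ E'.cocyc a i := by
  refine ⟨gam_map a _ hz.1, ?_⟩
  show E'.d i (φ i z) = 0
  rw [show E'.d i (φ i z) = φ (i + 1) (E.d i z) from LinearMap.congr_fun (hφ.comm i) z,
    show E.d i z = 0 from hz.2, map_zero]

theorem lift_cobdy (hφ : IsLift E E' f d φ) {i : ℕ} {z : (E.X i).carrier} (hz : z ∈ E.cobdy a i) :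
    φ i z ∈ E'.cobdy a i := by
  cases i with
  | zero =>
    rw [show z = 0 from (Submodule.mem_bot R).mp hz, map_zero]; exact zero_mem _
  | succ n =>
    obtain ⟨y, hy, rfl⟩ := hz
    exact ⟨φ n y, gam_map a _ hy, LinearMap.congr_fun (hφ.comm n) y⟩

/-- the map in cohomology -/
def hMap (hφ : IsLift E E' f d φ) (i : ℕ) : E.H a i →ₗ[R] E'.H a i :=
  Submodule.mapQ _ _ (LinearMap.codRestrict (E'.cocyc a i) (φ i ∘ₗ (E.cocyc a i).subtype) fun z => lift_cocyc a hφ z.2)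
    fun _ hz => lift_cobdy a hφ hz

theorem hMap_toH (hφ : IsLift E E' f d φ) (i : ℕ) (z : E.cocyc a i) :
    hMap a hφ i (E.toH a i z) = E'.toH a i ⟨φ i z, lift_cocyc a hφ z.2⟩ := rfl

theorem hMap_deg (hφ : IsLift E E' f d φ) (i : ℕ) :
    GrLC.IsGrHomDeg (E.Hgr a i) (E'.Hgr a i) (hMap a hφ i) d := by
  rintro g _ ⟨z, hz, rfl⟩
  exact ⟨_, hφ.grHom i g z hz, rfl⟩

theorem sub_mem_cobdy (hφ : IsLift E E' f d φ) (hψ : IsLift E E' f d ψ) {i : ℕ} {z : (E.X i).carrier}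
    (hz : z ∈ E.cocyc a i) : φ i z - ψ i z ∈ E'.cobdy a i := by
  have hdeg : ∀ n, GrLC.IsGrHomDeg (E.X n).gr (E'.X n).gr (φ n - ψ n) d :=
    fun n => grHomDeg_sub (hφ.grHom n) (hψ.grHom n)
  have key : ∀ n, ∃ h : (E.X (n + 1)).carrier →ₗ[R] (E'.X n).carrier,
      GrLC.IsGrHomDeg (E.X (n + 1)).gr (E'.X n).gr h d ∧
      (∀ x, E.d (n + 1) x = 0 → φ (n + 1) x - ψ (n + 1) x = E'.d n (h x)) ∧
      (n = 0 → ∀ x, E.d 0 x = 0 → φ 0 x - ψ 0 x = 0) := by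
    intro n
    induction n with
    | zero =>
      have hk : LinearMap.ker (E.d 0) ≤ LinearMap.ker (φ 0 - ψ 0) := by
        rw [E.exact_zero]
        rintro _ ⟨x, rfl⟩
        rw [LinearMap.mem_ker, LinearMap.sub_apply, show φ 0 (E.ε x) = _ from LinearMap.congr_fun hφ.aug x,
          show ψ 0 (E.ε x) = _ from LinearMap.congr_fun hψ.aug x, sub_self]
      obtain ⟨h, hh, e⟩ := extendDeg (ℳ := (E.X 0).gr) (E'.starInj 0) (E.d_grHom 0) (hdeg 0) hk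
      refine ⟨h, hh, fun x hx => ?_, fun _ x hx => hk hx⟩
      obtain ⟨y, rfl⟩ := (E.exact_succ 0).le hx
      have e1 : h (E.d 0 y) = φ 0 y - ψ 0 y := LinearMap.congr_fun e y
      rw [e1, map_sub, show E'.d 0 (φ 0 y) = _ from LinearMap.congr_fun (hφ.comm 0) y,
        show E'.d 0 (ψ 0 y) = _ from LinearMap.congr_fun (hψ.comm 0) y]
      rfl
    | succ n ih =>
      obtain ⟨h, hh, he, -⟩ := ih
      obtain ⟨h', hh', e⟩ := extendDeg (ℳ := (E.X (n + 1)).gr) (E'.starInj (n + 1)) (E.d_grHom (n + 1))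
        (g := φ (n + 1) - ψ (n + 1) - E'.d n ∘ₗ h) (grHomDeg_sub (hdeg _) (grHom_comp_deg (E'.d_grHom n) hh))
        (fun x hx => by
          show φ (n + 1) x - ψ (n + 1) x - E'.d n (h x) = 0
          rw [he x hx, sub_self])
      refine ⟨h', hh', fun x hx => ?_, fun h => absurd h (Nat.succ_ne_zero n)⟩
      obtain ⟨y, rfl⟩ := (E.exact_succ (n + 1)).le hx
      have e1 : h' (E.d (n + 1) y) = φ (n + 1) y - ψ (n + 1) y - E'.d n (h y) := LinearMap.congr_fun e y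
      rw [e1, map_sub, map_sub, show E'.d (n + 1) (φ (n + 1) y) = _ from LinearMap.congr_fun (hφ.comm (n + 1)) y,
        show E'.d (n + 1) (ψ (n + 1) y) = _ from LinearMap.congr_fun (hψ.comm (n + 1)) y,
        show E'.d (n + 1) (E'.d n (h y)) = 0 from LinearMap.mem_ker.mp ((E'.exact_succ n).ge ⟨_, rfl⟩), sub_zero]
      rfl
  cases i with
  | zero =>
    obtain ⟨h, -, -, h2⟩ := key 0
    rw [h2 rfl z hz.2]
    exact zero_mem _
  | succ n =>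
    obtain ⟨h, -, h1, -⟩ := key n
    rw [h1 z hz.2]
    exact ⟨h z, gam_map a _ hz.1, rfl⟩

theorem hMap_congr (hφ : IsLift E E' f d φ) (hψ : IsLift E E' f d ψ) (i : ℕ) : hMap a hφ i = hMap a hψ i := by
  refine LinearMap.ext fun x => ?_
  obtain ⟨z, rfl⟩ := Submodule.mkQ_surjective _ x
  show hMap a hφ i (E.toH a i z) = hMap a hψ i (E.toH a i z)
  rw [hMap_toH, hMap_toH]
  exact (Submodule.Quotient.eq _).mpr (sub_mem_cobdy a hφ hψ z.2)

variable (E E' f)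

/-- the map in cohomology induced by a homogeneous map -/
noncomputable def hm (hf : GrLC.IsGrHomDeg ℳ 𝒩 f d) (i : ℕ) : E.H a i →ₗ[R] E'.H a i :=
  hMap a (exists_lift E E' hf).choose_spec i

theorem hm_eq (hf : GrLC.IsGrHomDeg ℳ 𝒩 f d) (hφ : IsLift E E' f d φ) (i : ℕ) :
    hm E E' a f hf i = hMap a hφ i := hMap_congr a _ hφ i

theorem hm_deg (hf : GrLC.IsGrHomDeg ℳ 𝒩 f d) (i : ℕ) :
    GrLC.IsGrHomDeg (E.Hgr a i) (E'.Hgr a i) (hm E E' a f hf i) d := hMap_deg a _ i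

end Lift

section Comp

variable {M : Type u} [AddCommGroup M] [Module R M] {τ : Type u} [SetLike τ M] [AddSubgroupClass τ M]
  {ℳ : ι → τ} [Decomposition ℳ] [SetLike.GradedSMul 𝒜 ℳ]
variable {N : Type u} [AddCommGroup N] [Module R N] {τ' : Type u} [SetLike τ' N] [AddSubgroupClass τ' N]
  {𝒩 : ι → τ'} [Decomposition 𝒩] [SetLike.GradedSMul 𝒜 𝒩]
variable {P : Type u} [AddCommGroup P] [Module R P] {τ'' : Type u} [SetLike τ'' P] [AddSubgroupClass τ'' P]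
  {ℰ : ι → τ''} [Decomposition ℰ] [SetLike.GradedSMul 𝒜 ℰ]
variable (E₁ : GrLC.StarInjRes 𝒜 ℳ) (E₂ : GrLC.StarInjRes 𝒜 𝒩) (E₃ : GrLC.StarInjRes 𝒜 ℰ)
  (a : HomogeneousIdeal 𝒜)

theorem hm_comp {f : M →ₗ[R] N} {g : N →ₗ[R] P} {d e : ι} (hf : GrLC.IsGrHomDeg ℳ 𝒩 f d)
    (hg : GrLC.IsGrHomDeg 𝒩 ℰ g e) {k : M →ₗ[R] P} {j : ι} (hk : GrLC.IsGrHomDeg ℳ ℰ k j)
    (hgf : g ∘ₗ f = k) (hj : d + e = j) (i : ℕ) :
    hm E₂ E₃ a g hg i ∘ₗ hm E₁ E₂ a f hf i = hm E₁ E₃ a k hk i := by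
  subst hgf
  subst hj
  have h1 := (exists_lift E₁ E₂ hf).choose_spec
  have h2 := (exists_lift E₂ E₃ hg).choose_spec
  have h3 : IsLift E₁ E₃ (g ∘ₗ f) (d + e)
      (fun n => (exists_lift E₂ E₃ hg).choose n ∘ₗ (exists_lift E₁ E₂ hf).choose n) :=
    { grHom := fun n => grHomDeg_comp (h2.grHom n) (h1.grHom n)
      aug := by rw [LinearMap.comp_assoc, h1.aug, ← LinearMap.comp_assoc, h2.aug, LinearMap.comp_assoc]
      comm := fun n => by
        rw [← LinearMap.comp_assoc, h2.comm, LinearMap.comp_assoc, h1.comm, LinearMap.comp_assoc] }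
  rw [hm_eq E₁ E₃ a (g ∘ₗ f) hk h3 i]
  refine LinearMap.ext fun x => ?_
  obtain ⟨z, rfl⟩ := Submodule.mkQ_surjective _ x
  rfl

theorem hm_smul {x : R} {d : ι} (hx : GrLC.IsGrHomDeg ℳ ℳ (x • LinearMap.id : M →ₗ[R] M) d)
    (hxd : ∀ n, GrLC.IsGrHomDeg (E₁.X n).gr (E₁.X n).gr (x • LinearMap.id : (E₁.X n).carrier →ₗ[R] _) d)
    (i : ℕ) : hm E₁ E₁ a (x • LinearMap.id) hx i = x • LinearMap.id := by
  have h : IsLift E₁ E₁ (x • LinearMap.id : M →ₗ[R] M) d (fun n => x • LinearMap.id) :=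
    { grHom := hxd
      aug := LinearMap.ext fun m => (map_smul E₁.ε x m).symm
      comm := fun n => LinearMap.ext fun m => map_smul (E₁.d n) x m }
  rw [hm_eq E₁ E₁ a _ hx h i]
  refine LinearMap.ext fun y => ?_
  obtain ⟨z, rfl⟩ := Submodule.mkQ_surjective _ y
  rfl


theorem smul_id_deg {x : R} {d : ι} (hx : x ∈ 𝒜 d) :
    GrLC.IsGrHomDeg ℳ ℳ (x • LinearMap.id : M →ₗ[R] M) d := fun g m hm => by
  rw [add_comm]
  exact smul_mem 𝒜 ℳ hx hm

omit [DecidableEq ι] [SetLike.GradedSMul 𝒜 ℳ] [Decomposition ℳ] in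
theorem id_deg : GrLC.IsGrHomDeg ℳ ℳ (LinearMap.id : M →ₗ[R] M) 0 := fun g m hm => by
  rw [add_zero]; exact hm

theorem hm_id (i : ℕ) : hm E₁ E₁ a LinearMap.id id_deg i = LinearMap.id := by
  have h : IsLift E₁ E₁ (LinearMap.id : M →ₗ[R] M) 0 (fun n => LinearMap.id) :=
    { grHom := fun n => id_deg
      aug := rfl
      comm := fun n => rfl }
  rw [hm_eq E₁ E₁ a _ id_deg h i]
  refine LinearMap.ext fun y => ?_
  obtain ⟨z, rfl⟩ := Submodule.mkQ_surjective _ y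
  rfl

end Comp

section Prod

variable (X Y : GrLC.GMod.{u} 𝒜)

/-- the pieces of a product -/
def prodGr : ι → AddSubgroup (X.carrier × Y.carrier) := fun g => (X.gr g).prod (Y.gr g)

theorem prodGr_isInternal : IsInternal (prodGr X Y) := by
  classical
  refine isInternal_of _ (fun v => ?_) fun s y hy h g hg => ?_
  · have e : v = (v.1, 0) + (0, v.2) := by ext <;> simp
    rw [e]
    refine add_mem ?_ ?_
    · induction v.1 using DirectSum.Decomposition.inductionOn X.gr with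
      | zero => exact zero_mem _
      | @homogeneous i x => exact AddSubmonoid.subset_closure (Set.mem_iUnion.mpr ⟨i, x.2, zero_mem _⟩)
      | add p q hp hq => rw [show ((p + q, 0) : X.carrier × Y.carrier) = (p, 0) + (q, 0) by simp]; exact add_mem hp hq
    · induction v.2 using DirectSum.Decomposition.inductionOn Y.gr with
      | zero => exact zero_mem _
      | @homogeneous i x => exact AddSubmonoid.subset_closure (Set.mem_iUnion.mpr ⟨i, zero_mem _, x.2⟩)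
      | add p q hp hq => rw [show ((0, p + q) : X.carrier × Y.carrier) = (0, p) + (0, q) by simp]; exact add_mem hp hq
  · have h1 : ∑ g ∈ s, (y g).1 = 0 := by rw [← Prod.fst_sum, h]; rfl
    have h2 : ∑ g ∈ s, (y g).2 = 0 := by rw [← Prod.snd_sum, h]; rfl
    exact Prod.ext (eq_zero_of_sum X.gr (y := fun g => (y g).1) (fun g => (hy g).1) h1 g hg)
      (eq_zero_of_sum Y.gr (y := fun g => (y g).2) (fun g => (hy g).2) h2 g hg)

/-- the product -/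
noncomputable def prodMod : GrLC.GMod.{u} 𝒜 :=
  letI := (prodGr_isInternal X Y).chooseDecomposition
  haveI : SetLike.GradedSMul 𝒜 (prodGr X Y) :=
    ⟨fun {i j a v} ha hv => ⟨smul_mem 𝒜 X.gr ha hv.1, smul_mem 𝒜 Y.gr ha hv.2⟩⟩
  GrLC.GMod.of 𝒜 (X.carrier × Y.carrier) (prodGr X Y)

theorem starInj_prod (hX : GrLC.IsStarInj 𝒜 X.gr) (hY : GrLC.IsStarInj 𝒜 Y.gr) :
    GrLC.IsStarInj 𝒜 (prodMod X Y).gr := by
  intro A B f hf hinj g hg
  let g1 : A.carrier →ₗ[R] X.carrier := LinearMap.fst R X.carrier Y.carrier ∘ₗ g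
  let g2 : A.carrier →ₗ[R] Y.carrier := LinearMap.snd R X.carrier Y.carrier ∘ₗ g
  obtain ⟨h1, hh1, e1⟩ := hX A B f hf hinj g1 fun j x hx => (hg j x hx).1
  obtain ⟨h2, hh2, e2⟩ := hY A B f hf hinj g2 fun j x hx => (hg j x hx).2
  exact ⟨h1.prod h2, fun j x hx => ⟨hh1 j x hx, hh2 j x hx⟩,
    LinearMap.ext fun x => Prod.ext (LinearMap.congr_fun e1 x) (LinearMap.congr_fun e2 x)⟩

theorem gam_prod (a : Ideal R) (v : X.carrier × Y.carrier) :
    v ∈ GrLC.gam a (X.carrier × Y.carrier) ↔ v.1 ∈ GrLC.gam a X.carrier ∧ v.2 ∈ GrLC.gam a Y.carrier := by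
  constructor
  · rintro ⟨n, hn⟩
    exact ⟨⟨n, fun r hr => congrArg Prod.fst (hn r hr)⟩, ⟨n, fun r hr => congrArg Prod.snd (hn r hr)⟩⟩
  · rintro ⟨⟨n, hn⟩, ⟨m, hm⟩⟩
    exact ⟨n + m, fun r hr => Prod.ext (hn r (Ideal.pow_le_pow_right (Nat.le_add_right n m) hr))
      (hm r (Ideal.pow_le_pow_right (Nat.le_add_left m n) hr))⟩

end Prod

section Shift

variable {M : Type u} [AddCommGroup M] [Module R M] {τ : Type u} [SetLike τ M] [AddSubgroupClass τ M]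
  {ℳ : ι → τ} [Decomposition ℳ] [SetLike.GradedSMul 𝒜 ℳ]

/-- a shifted resolution -/
noncomputable def shRes (E : GrLC.StarInjRes 𝒜 ℳ) (e : ι) : GrLC.StarInjRes 𝒜 (shMod 𝒜 ℳ e).gr where
  X n := shMod 𝒜 (E.X n).gr e
  d n := E.d n
  ε := E.ε
  d_grHom n g x hx := E.d_grHom n (g + e) x hx
  ε_grHom g x hx := E.ε_grHom (g + e) x hx
  ε_injective := E.ε_injective
  exact_zero := E.exact_zero
  exact_succ := E.exact_succ
  starInj n := starInj_shift (E.starInj n) e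

end Shift

section LES

variable {M : Type u} [AddCommGroup M] [Module R M] {τ : Type u} [SetLike τ M] [AddSubgroupClass τ M]
  {ℳ : ι → τ} [Decomposition ℳ] [SetLike.GradedSMul 𝒜 ℳ]
variable {N : Type u} [AddCommGroup N] [Module R N] {τ' : Type u} [SetLike τ' N] [AddSubgroupClass τ' N]
  {𝒩 : ι → τ'} [Decomposition 𝒩] [SetLike.GradedSMul 𝒜 𝒩]
variable {P : Type u} [AddCommGroup P] [Module R P] {τ'' : Type u} [SetLike τ'' P] [AddSubgroupClass τ'' P]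
  {ℰ : ι → τ''} [Decomposition ℰ] [SetLike.GradedSMul 𝒜 ℰ]
variable (E₁ : GrLC.StarInjRes 𝒜 ℳ) (E₂ : GrLC.StarInjRes 𝒜 𝒩) (E₃ : GrLC.StarInjRes 𝒜 ℰ)
variable {f : M →ₗ[R] N} {g : N →ₗ[R] P}

/-- data of a horseshoe -/
structure Horseshoe where
  η : N →ₗ[R] (E₁.X 0).carrier
  θ : ∀ n, (E₃.X n).carrier →ₗ[R] (E₁.X (n + 1)).carrier
  η_gr : GrLC.IsGrHom 𝒩 (E₁.X 0).gr η
  θ_gr : ∀ n, GrLC.IsGrHom (E₃.X n).gr (E₁.X (n + 1)).gr (θ n)
  η_f : η ∘ₗ f = E₁.ε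
  θ_zero : ∀ b, E₁.d 0 (η b) + θ 0 (E₃.ε (g b)) = 0
  θ_succ : ∀ n c, E₁.d (n + 1) (θ n c) + θ (n + 1) (E₃.d n c) = 0

theorem exists_horseshoe (hfg : GrLC.IsGrHom ℳ 𝒩 f) (hgg : GrLC.IsGrHom 𝒩 ℰ g) (hf : Function.Injective f)
    (hg : Function.Surjective g) (hex : Function.Exact f g) :
    Nonempty (Horseshoe E₁ E₃ (𝒩 := 𝒩) (f := f) (g := g)) := by
  obtain ⟨η, hη, eη⟩ := extend (E₁.starInj 0) hfg hf E₁.ε_grHom
  let T : ℕ → Type u := fun n => {θ : (E₃.X n).carrier →ₗ[R] (E₁.X (n + 1)).carrier //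
    GrLC.IsGrHom (E₃.X n).gr (E₁.X (n + 1)).gr θ ∧ LinearMap.ker (E₃.d n) ≤ LinearMap.ker (E₁.d (n + 1) ∘ₗ θ)}
  have hneg : GrLC.IsGrHom 𝒩 (E₁.X 1).gr (-(E₁.d 0 ∘ₗ η)) := fun j x hx =>
    neg_mem (E₁.d_grHom 0 j _ (hη j x hx))
  obtain ⟨θ0, hθ0, eθ0⟩ := extend' (ℳ := 𝒩) (E₁.starInj 1) (f := E₃.ε ∘ₗ g)
    (isGrHom_comp E₃.ε_grHom hgg) (g := -(E₁.d 0 ∘ₗ η)) hneg (by
      intro b hb
      rw [LinearMap.mem_ker, LinearMap.comp_apply] at hb
      obtain ⟨x, rfl⟩ := (hex b).mp (E₃.ε_injective (hb.trans (map_zero _).symm))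
      rw [LinearMap.mem_ker, LinearMap.neg_apply, LinearMap.comp_apply, show η (f x) = E₁.ε x from
        LinearMap.congr_fun eη x, LinearMap.mem_ker.mp (E₁.exact_zero.ge ⟨x, rfl⟩), neg_zero])
  have hθ0' : LinearMap.ker (E₃.d 0) ≤ LinearMap.ker (E₁.d 1 ∘ₗ θ0) := by
    rw [E₃.exact_zero]
    rintro _ ⟨p, rfl⟩
    obtain ⟨b, rfl⟩ := hg p
    have e1 : θ0 (E₃.ε (g b)) = -(E₁.d 0 (η b)) := LinearMap.congr_fun eθ0 b
    rw [LinearMap.mem_ker, LinearMap.comp_apply, e1, map_neg,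
      LinearMap.mem_ker.mp ((E₁.exact_succ 0).ge ⟨η b, rfl⟩), neg_zero]
  have step : ∀ n (t : T n), ∃ t' : T (n + 1), ∀ c, E₁.d (n + 1) (t.1 c) + t'.1 (E₃.d n c) = 0 := by
    intro n t
    have hneg' : GrLC.IsGrHom (E₃.X n).gr (E₁.X (n + 1 + 1)).gr (-(E₁.d (n + 1) ∘ₗ t.1)) := fun j x hx =>
      neg_mem (E₁.d_grHom (n + 1) j _ (t.2.1 j x hx))
    obtain ⟨h, hh, e⟩ := extend' (ℳ := (E₃.X n).gr) (E₁.starInj (n + 1 + 1)) (E₃.d_grHom n)
      hneg' (fun c hc => by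
        show -(E₁.d (n + 1) (t.1 c)) = 0
        rw [show E₁.d (n + 1) (t.1 c) = 0 from t.2.2 hc, neg_zero])
    refine ⟨⟨h, hh, ?_⟩, fun c => ?_⟩
    · rw [E₃.exact_succ]
      rintro _ ⟨c, rfl⟩
      have e1 : h (E₃.d n c) = -(E₁.d (n + 1) (t.1 c)) := LinearMap.congr_fun e c
      rw [LinearMap.mem_ker, LinearMap.comp_apply, e1, map_neg,
        LinearMap.mem_ker.mp ((E₁.exact_succ (n + 1)).ge ⟨t.1 c, rfl⟩), neg_zero]
    · rw [show h (E₃.d n c) = -(E₁.d (n + 1) (t.1 c)) from LinearMap.congr_fun e c, add_neg_cancel]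
  choose nx hnx using step
  let seq : (n : ℕ) → T n := fun n => Nat.rec (motive := T) ⟨θ0, hθ0, hθ0'⟩ nx n
  exact ⟨⟨η, fun n => (seq n).1, hη, fun n => (seq n).2.1, eη, fun b => by
    show E₁.d 0 (η b) + θ0 (E₃.ε (g b)) = 0
    rw [show θ0 (E₃.ε (g b)) = -(E₁.d 0 (η b)) from LinearMap.congr_fun eθ0 b, add_neg_cancel],
    fun n c => hnx n (seq n) c⟩⟩

variable {E₁ E₃} (H : Horseshoe E₁ E₃ (𝒩 := 𝒩) (f := f) (g := g))

/-- the differential of the horseshoe -/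
noncomputable def Horseshoe.dd (n : ℕ) : (prodMod (E₁.X n) (E₃.X n)).carrier →ₗ[R] (prodMod (E₁.X (n + 1)) (E₃.X (n + 1))).carrier :=
  ((E₁.d n ∘ₗ LinearMap.fst R _ _) + (H.θ n ∘ₗ LinearMap.snd R _ _)).prod (E₃.d n ∘ₗ LinearMap.snd R _ _)

/-- the horseshoe resolution -/
noncomputable def Horseshoe.res (hgg : GrLC.IsGrHom 𝒩 ℰ g) (hg : Function.Surjective g)
    (hex : Function.Exact f g) : GrLC.StarInjRes 𝒜 𝒩 where
  X n := prodMod (E₁.X n) (E₃.X n)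
  d n := H.dd n
  ε := H.η.prod (E₃.ε ∘ₗ g)
  d_grHom n j v hv := ⟨add_mem (E₁.d_grHom n j _ hv.1) (H.θ_gr n j _ hv.2), E₃.d_grHom n j _ hv.2⟩
  ε_grHom j b hb := ⟨H.η_gr j b hb, E₃.ε_grHom j _ (hgg j b hb)⟩
  ε_injective := by
    refine (injective_iff_map_eq_zero _).mpr fun b hb => ?_
    have h1 : H.η b = 0 := congrArg Prod.fst hb
    have h2 : E₃.ε (g b) = 0 := congrArg Prod.snd hb
    obtain ⟨x, rfl⟩ := (hex b).mp (E₃.ε_injective (h2.trans (map_zero _).symm))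
    rw [show H.η (f x) = E₁.ε x from LinearMap.congr_fun H.η_f x] at h1
    rw [E₁.ε_injective (h1.trans (map_zero _).symm), map_zero]
  exact_zero := by
    refine le_antisymm (fun v hv => ?_) ?_
    · obtain ⟨v1, v2⟩ := v
      have h1 : E₁.d 0 v1 + H.θ 0 v2 = 0 := congrArg Prod.fst hv
      have h2 : E₃.d 0 v2 = 0 := congrArg Prod.snd hv
      obtain ⟨p, rfl⟩ := E₃.exact_zero.le h2
      obtain ⟨b, rfl⟩ := hg p
      have h3 : E₁.d 0 (v1 - H.η b) = 0 := by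
        rw [map_sub, eq_neg_of_add_eq_zero_left h1, eq_neg_of_add_eq_zero_left (H.θ_zero b), sub_self]
      obtain ⟨x, hx⟩ := E₁.exact_zero.le h3
      refine ⟨b + f x, Prod.ext ?_ ?_⟩
      · show H.η (b + f x) = v1
        rw [map_add, show H.η (f x) = E₁.ε x from LinearMap.congr_fun H.η_f x, hx, add_sub_cancel]
      · show E₃.ε (g (b + f x)) = E₃.ε (g b)
        rw [map_add, hex.apply_apply_eq_zero, add_zero]
    · rintro _ ⟨b, rfl⟩
      exact Prod.ext (H.θ_zero b) (LinearMap.mem_ker.mp (E₃.exact_zero.ge ⟨g b, rfl⟩))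
  exact_succ n := by
    refine le_antisymm (fun v hv => ?_) ?_
    · obtain ⟨v1, v2⟩ := v
      have h1 : E₁.d (n + 1) v1 + H.θ (n + 1) v2 = 0 := congrArg Prod.fst hv
      have h2 : E₃.d (n + 1) v2 = 0 := congrArg Prod.snd hv
      obtain ⟨c, rfl⟩ := (E₃.exact_succ n).le h2
      have h3 : E₁.d (n + 1) (v1 - H.θ n c) = 0 := by
        rw [map_sub, eq_neg_of_add_eq_zero_left h1, eq_neg_of_add_eq_zero_left (H.θ_succ n c), sub_self]
      obtain ⟨x, hx⟩ := (E₁.exact_succ n).le h3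
      exact ⟨(x, c), Prod.ext (show E₁.d n x + H.θ n c = v1 by rw [hx, sub_add_cancel]) rfl⟩
    · rintro _ ⟨v, rfl⟩
      refine Prod.ext ?_ (LinearMap.mem_ker.mp ((E₃.exact_succ n).ge ⟨v.2, rfl⟩))
      show E₁.d (n + 1) (E₁.d n v.1 + H.θ n v.2) + H.θ (n + 1) (E₃.d n v.2) = 0
      rw [map_add, LinearMap.mem_ker.mp ((E₁.exact_succ n).ge ⟨v.1, rfl⟩), zero_add, H.θ_succ]
  starInj n := starInj_prod _ _ (E₁.starInj n) (E₃.starInj n)

variable (a : HomogeneousIdeal 𝒜)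

theorem Horseshoe.θ_cocyc {i : ℕ} {c : (E₃.X i).carrier} (hc : c ∈ E₃.cocyc a i) :
    H.θ i c ∈ E₁.cocyc a (i + 1) := by
  refine ⟨gam_map a _ hc.1, ?_⟩
  show E₁.d (i + 1) (H.θ i c) = 0
  have := H.θ_succ i c
  rwa [show E₃.d i c = 0 from hc.2, map_zero, add_zero] at this

/-- the connecting map -/
noncomputable def Horseshoe.δ (i : ℕ) : E₃.H a i →ₗ[R] E₁.H a (i + 1) :=
  Submodule.mapQ _ _ (LinearMap.codRestrict (E₁.cocyc a (i + 1)) (H.θ i ∘ₗ (E₃.cocyc a i).subtype)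
    fun z => H.θ_cocyc a z.2) fun z hz => by
    show H.θ i z ∈ E₁.cobdy a (i + 1)
    cases i with
    | zero =>
      rw [show (z : (E₃.X 0).carrier) = 0 from (Submodule.mem_bot R).mp hz, map_zero]; exact zero_mem _
    | succ n =>
      obtain ⟨y, hy, hyz⟩ := hz
      refine ⟨-H.θ n y, neg_mem (gam_map a _ hy), ?_⟩
      rw [map_neg, eq_neg_of_add_eq_zero_left (H.θ_succ n y), neg_neg]
      exact congrArg (H.θ (n + 1)) hyz

theorem exists_les (hfg : GrLC.IsGrHom ℳ 𝒩 f) (hgg : GrLC.IsGrHom 𝒩 ℰ g) (hf : Function.Injective f)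
    (hg : Function.Surjective g) (hex : Function.Exact f g) (a : HomogeneousIdeal 𝒜) :
    ∃ δ : ∀ i, E₃.H a i →ₗ[R] E₁.H a (i + 1),
      (∀ i, GrLC.IsGrHom (E₃.Hgr a i) (E₁.Hgr a (i + 1)) (δ i)) ∧
      Function.Injective (hm E₁ E₂ a f (grHomDeg_zero_iff.mpr hfg) 0) ∧
      ∀ i, Function.Exact (hm E₁ E₂ a f (grHomDeg_zero_iff.mpr hfg) i) (hm E₂ E₃ a g (grHomDeg_zero_iff.mpr hgg) i) ∧
        Function.Exact (hm E₂ E₃ a g (grHomDeg_zero_iff.mpr hgg) i) (δ i) ∧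
        Function.Exact (δ i) (hm E₁ E₂ a f (grHomDeg_zero_iff.mpr hfg) (i + 1)) := by
  obtain ⟨H⟩ := exists_horseshoe E₁ E₃ hfg hgg hf hg hex
  let E := H.res hgg hg hex
  have hfd := grHomDeg_zero_iff.mpr hfg
  have hgd := grHomDeg_zero_iff.mpr hgg
  have li : IsLift E₁ E f 0 (fun n => LinearMap.inl R (E₁.X n).carrier (E₃.X n).carrier) :=
    { grHom := fun n j x hx => by rw [add_zero]; exact ⟨hx, zero_mem _⟩
      aug := LinearMap.ext fun x => Prod.ext (LinearMap.congr_fun H.η_f x).symm (by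
        show (0 : (E₃.X 0).carrier) = E₃.ε (g (f x))
        rw [hex.apply_apply_eq_zero, map_zero])
      comm := fun n => LinearMap.ext fun x => Prod.ext
        (show E₁.d n x + H.θ n 0 = E₁.d n x by rw [map_zero, add_zero]) (map_zero (E₃.d n)) }
  have ls : IsLift E E₃ g 0 (fun n => LinearMap.snd R (E₁.X n).carrier (E₃.X n).carrier) :=
    { grHom := fun n j x hx => by rw [add_zero]; exact hx.2
      aug := rfl
      comm := fun n => rfl }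
  let u : ∀ i, E.H a i →ₗ[R] E₂.H a i := fun i => hm E E₂ a LinearMap.id id_deg i
  let v : ∀ i, E₂.H a i →ₗ[R] E.H a i := fun i => hm E₂ E a LinearMap.id id_deg i
  have vu : ∀ i x, v i (u i x) = x := fun i x => by
    have := LinearMap.congr_fun (hm_comp E E₂ E a id_deg id_deg (k := LinearMap.id) id_deg rfl (add_zero 0) i) x
    rw [hm_id] at this
    exact this
  have uv : ∀ i x, u i (v i x) = x := fun i x => by
    have := LinearMap.congr_fun (hm_comp E₂ E E₂ a id_deg id_deg (k := LinearMap.id) id_deg rfl (add_zero 0) i) x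
    rw [hm_id] at this
    exact this
  have ef : ∀ i x, hm E₁ E₂ a f hfd i x = u i (hMap a li i x) := fun i x => by
    rw [← hm_eq E₁ E a f hfd li i]
    exact (LinearMap.congr_fun (hm_comp E₁ E E₂ a hfd id_deg hfd rfl (add_zero 0) i) x).symm
  have eg : ∀ i x, hm E₂ E₃ a g hgd i x = hMap a ls i (v i x) := fun i x => by
    rw [← hm_eq E E₃ a g hgd ls i]
    exact (LinearMap.congr_fun (hm_comp E₂ E E₃ a id_deg hgd hgd rfl (add_zero 0) i) x).symm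
  refine ⟨H.δ a, fun i j x hx => ?_, ?_, fun i => ⟨?_, ?_, ?_⟩⟩
  · obtain ⟨z, hz, rfl⟩ := hx
    exact ⟨_, H.θ_gr i j z hz, rfl⟩
  · refine (injective_iff_map_eq_zero _).mpr fun x hx => ?_
    obtain ⟨z, rfl⟩ := Submodule.mkQ_surjective _ x
    rw [ef] at hx
    have h2 := congrArg (v 0) hx
    rw [vu, map_zero] at h2
    have h3' := (Submodule.Quotient.mk_eq_zero ((E.cobdy a 0).comap (E.cocyc a 0).subtype)).mp h2
    have h3 : ((z.1, 0) : (E₁.X 0).carrier × (E₃.X 0).carrier) = 0 := (Submodule.mem_bot R).mp h3'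
    exact (Submodule.Quotient.mk_eq_zero _).mpr ((Submodule.mem_bot R).mpr (congrArg Prod.fst h3))
  · intro y
    rw [eg]
    constructor
    · intro hy
      obtain ⟨⟨⟨z1, z2⟩, hz⟩, hzy⟩ := Submodule.mkQ_surjective _ (v i y)
      rw [← hzy] at hy
      have hb : z2 ∈ E₃.cobdy a i :=
        ((Submodule.Quotient.mk_eq_zero ((E₃.cobdy a i).comap (E₃.cocyc a i).subtype)).mp hy :)
      cases i with
      | zero =>
        obtain rfl : z2 = 0 := (Submodule.mem_bot R).mp hb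
        have hd : E₁.d 0 z1 + H.θ 0 0 = 0 := congrArg Prod.fst hz.2
        rw [map_zero, add_zero] at hd
        refine ⟨E₁.toH a 0 ⟨z1, ((gam_prod _ _ _ _).mp hz.1).1, hd⟩, ?_⟩
        rw [ef, ← uv 0 y, ← hzy]
        rfl
      | succ n =>
        obtain ⟨c, hc, rfl⟩ := hb
        have hd : E₁.d (n + 1) z1 + H.θ (n + 1) (E₃.d n c) = 0 := congrArg Prod.fst hz.2
        have hd' : E₁.d (n + 1) (z1 - H.θ n c) = 0 := by
          rw [map_sub, eq_neg_of_add_eq_zero_left hd, eq_neg_of_add_eq_zero_left (H.θ_succ n c), sub_self]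
        refine ⟨E₁.toH a (n + 1) ⟨z1 - H.θ n c, sub_mem ((gam_prod _ _ _ _).mp hz.1).1 (gam_map a _ hc), hd'⟩, ?_⟩
        rw [ef, ← uv (n + 1) y, ← hzy]
        refine congrArg (u (n + 1)) ((Submodule.Quotient.eq _).mpr ?_)
        refine ⟨((0, -c) : (E₁.X n).carrier × (E₃.X n).carrier), (gam_prod _ _ _ _).mpr ⟨zero_mem _, neg_mem hc⟩, ?_⟩
        refine Prod.ext ?_ ?_
        · show E₁.d n 0 + H.θ n (-c) = (z1 - H.θ n c) - z1
          rw [map_zero, map_neg]; abel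
        · show E₃.d n (-c) = 0 - E₃.d n c
          rw [map_neg, zero_sub]
    · rintro ⟨x, rfl⟩
      rw [ef, vu]
      obtain ⟨z, rfl⟩ := Submodule.mkQ_surjective _ x
      exact (Submodule.Quotient.mk_eq_zero _).mpr (zero_mem (E₃.cobdy a i))
  · intro y
    constructor
    · intro hy
      obtain ⟨⟨c, hc⟩, rfl⟩ := Submodule.mkQ_surjective _ y
      obtain ⟨b, hb, hbe⟩ := (Submodule.Quotient.mk_eq_zero _).mp hy
      change E₁.d i b = H.θ i c at hbe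
      have hz : ((-b, c) : (E₁.X i).carrier × (E₃.X i).carrier) ∈ E.cocyc a i := by
        refine ⟨(gam_prod _ _ _ _).mpr ⟨neg_mem hb, hc.1⟩, Prod.ext ?_ hc.2⟩
        show E₁.d i (-b) + H.θ i c = 0
        rw [map_neg, hbe, neg_add_cancel]
      refine ⟨u i (E.toH a i ⟨_, hz⟩), ?_⟩
      rw [eg, vu]
      rfl
    · rintro ⟨x, rfl⟩
      rw [eg]
      obtain ⟨⟨⟨z1, z2⟩, hz⟩, hzy⟩ := Submodule.mkQ_surjective _ (v i x)
      rw [← hzy]
      refine (Submodule.Quotient.mk_eq_zero _).mpr ⟨-z1, neg_mem ((gam_prod _ _ _ _).mp hz.1).1, ?_⟩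
      have hd : E₁.d i z1 + H.θ i z2 = 0 := congrArg Prod.fst hz.2
      show E₁.d i (-z1) = H.θ i z2
      rw [map_neg, eq_neg_of_add_eq_zero_left hd, neg_neg]
  · intro y
    rw [ef]
    constructor
    · intro hy
      obtain ⟨⟨z, hz⟩, rfl⟩ := Submodule.mkQ_surjective _ y
      have h2 := congrArg (v (i + 1)) hy
      rw [vu, map_zero] at h2
      obtain ⟨⟨b, c⟩, hbc, hbe⟩ := (Submodule.Quotient.mk_eq_zero _).mp h2
      have h3 : E₁.d i b + H.θ i c = z := congrArg Prod.fst hbe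
      have h4 : E₃.d i c = 0 := congrArg Prod.snd hbe
      refine ⟨E₃.toH a i ⟨c, ((gam_prod _ _ _ _).mp hbc).2, h4⟩, (Submodule.Quotient.eq _).mpr ?_⟩
      refine ⟨-b, neg_mem ((gam_prod _ _ _ _).mp hbc).1, ?_⟩
      show E₁.d i (-b) = H.θ i c - z
      rw [map_neg, ← h3]; abel
    · rintro ⟨x, rfl⟩
      obtain ⟨⟨c, hc⟩, rfl⟩ := Submodule.mkQ_surjective _ x
      refine (congrArg (u (i + 1)) ?_).trans (map_zero _)
      refine (Submodule.Quotient.mk_eq_zero _).mpr ⟨((0, c) : (E₁.X i).carrier × (E₃.X i).carrier),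
        (gam_prod _ _ _ _).mpr ⟨zero_mem _, hc.1⟩, Prod.ext ?_ hc.2⟩
      show E₁.d i 0 + H.θ i c = H.θ i c
      rw [map_zero, zero_add]

end LES

end Groth.Agent.GrStarLES
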