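/-
Vanishing of pieces of graded local cohomology
-/
import Groth.Prelude.Def_GrLC
import Groth.Agent.Lib.GrStarLES
import Groth.Agent.Lib.GrStarAcyclic
import Mathlib

set_option autoImplicit false
open DirectSum
open Groth.Agent.GrStarBasic Groth.Agent.GrStarHull Groth.Agent.GrStarPrime Groth.Agent.GrStarLES

universe u

namespace Groth.Agent.GrStarVan

variable {ι : Type} [AddCommGroup ι] [DecidableEq ι]
variable {R : Type u} [CommRing R] {σ : Type u} [SetLike σ R] [AddSubgroupClass σ R] {𝒜 : ι → σ} [GradedRing 𝒜]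

section Gen

variable {M : Type u} [AddCommGroup M] [Module R M] {τ : Type u} [SetLike τ M] [AddSubgroupClass τ M]
  {ℳ : ι → τ} [Decomposition ℳ] [SetLike.GradedSMul 𝒜 ℳ]
variable {N : Type u} [AddCommGroup N] [Module R N] {τ' : Type u} [SetLike τ' N] [AddSubgroupClass τ' N]
  {𝒩 : ι → τ'} [Decomposition 𝒩] [SetLike.GradedSMul 𝒜 𝒩]

/-- the decomposition of graded local cohomology -/
noncomputable instance hgrDec (E : GrLC.StarInjRes 𝒜 ℳ) (a : HomogeneousIdeal 𝒜) (i : ℕ) :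
    Decomposition (E.Hgr a i) := (hgr_isInternal E a i).chooseDecomposition

instance hgrGSMul (E : GrLC.StarInjRes 𝒜 ℳ) (a : HomogeneousIdeal 𝒜) (i : ℕ) :
    SetLike.GradedSMul 𝒜 (E.Hgr a i) :=
  ⟨fun {p q r x} hr hx => by
    obtain ⟨z, hz, rfl⟩ := hx
    exact ⟨r • z, smul_mem 𝒜 (E.X i).gr hr hz, map_smul _ r z⟩⟩

omit [SetLike.GradedSMul 𝒜 ℳ] [SetLike.GradedSMul 𝒜 𝒩] [GradedRing 𝒜] in
theorem map_pr_deg {f : M →ₗ[R] N} {d : ι} (hf : GrLC.IsGrHomDeg ℳ 𝒩 f d) (g : ι) (x : M) :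
    f (pr ℳ g x) = pr 𝒩 (g + d) (f x) := by
  induction x using DirectSum.Decomposition.inductionOn ℳ with
  | zero => simp
  | @homogeneous j y =>
    by_cases h : j = g
    · subst h; rw [pr_same ℳ y.2, pr_same 𝒩 (hf j _ y.2)]
    · rw [pr_ne ℳ y.2 h, map_zero, pr_ne 𝒩 (hf j _ y.2) (fun e => h (add_right_cancel e))]
  | add y z hy hz => simp [hy, hz]

omit [SetLike.GradedSMul 𝒜 ℳ] [SetLike.GradedSMul 𝒜 𝒩] [GradedRing 𝒜] in
theorem exists_preimage_deg {f : M →ₗ[R] N} {d : ι} (hf : GrLC.IsGrHomDeg ℳ 𝒩 f d) {g : ι} {y : N}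
    (hy : y ∈ 𝒩 (g + d)) (h : y ∈ Set.range f) : ∃ x ∈ ℳ g, f x = y := by
  obtain ⟨x, rfl⟩ := h
  exact ⟨pr ℳ g x, pr_mem ℳ g x, by rw [map_pr_deg hf, pr_same 𝒩 hy]⟩

variable (a : HomogeneousIdeal 𝒜)

theorem hgr_eq_bot_transfer (E : GrLC.StarInjRes 𝒜 ℳ) (E' : GrLC.StarInjRes 𝒜 𝒩) (e : M ≃ₗ[R] N)
    (he : GrLC.IsGrHom ℳ 𝒩 e.toLinearMap) {i : ℕ} {g : ι} (h : E'.Hgr a i g = ⊥) : E.Hgr a i g = ⊥ := by
  refine (AddSubgroup.eq_bot_iff_forall _).mpr fun x hx => ?_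
  have hd := grHomDeg_zero_iff.mpr he
  have hd' : GrLC.IsGrHomDeg 𝒩 ℳ e.symm.toLinearMap 0 := grHomDeg_zero_iff.mpr (symm_grHom he)
  have h1 : hm E E' a e.toLinearMap hd i x ∈ E'.Hgr a i g := by
    have := hm_deg E E' a e.toLinearMap hd i g x hx
    rwa [add_zero] at this
  rw [h, AddSubgroup.mem_bot] at h1
  have h2 := LinearMap.congr_fun (hm_comp E E' E a hd hd' (k := LinearMap.id) id_deg
    (LinearMap.ext fun x => e.symm_apply_apply x) (add_zero 0) i) x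
  rw [hm_id, LinearMap.comp_apply, h1, map_zero] at h2
  exact h2.symm

theorem h0_eq_bot_iff (E : GrLC.StarInjRes 𝒜 ℳ) (g : ι) :
    E.Hgr a 0 g = ⊥ ↔ ∀ x ∈ ℳ g, x ∈ GrLC.gam a.toIdeal M → x = 0 := by
  constructor
  · intro h x hx hxg
    have hz : E.ε x ∈ E.cocyc a 0 := ⟨gam_map a _ hxg, LinearMap.mem_ker.mp (E.exact_zero.ge ⟨x, rfl⟩)⟩
    have h1 : E.toH a 0 ⟨_, hz⟩ ∈ E.Hgr a 0 g := ⟨⟨_, hz⟩, E.ε_grHom g x hx, rfl⟩
    rw [h, AddSubgroup.mem_bot] at h1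
    have h2 := (Submodule.mem_bot R).mp ((Submodule.Quotient.mk_eq_zero ((E.cobdy a 0).comap (E.cocyc a 0).subtype)).mp h1 :)
    exact E.ε_injective (h2.trans (map_zero _).symm)
  · intro h
    refine (AddSubgroup.eq_bot_iff_forall _).mpr ?_
    rintro _ ⟨⟨z, hz⟩, hzg, rfl⟩
    obtain ⟨x, hx, rfl⟩ := exists_preimage E.ε_grHom hzg (E.exact_zero.le hz.2)
    have hxg : x ∈ GrLC.gam a.toIdeal M := by
      obtain ⟨n, hn⟩ := hz.1
      exact ⟨n, fun r hr => E.ε_injective (by rw [map_smul, hn r hr, map_zero])⟩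
    have h1 := h x hx hxg
    subst h1
    exact (Submodule.Quotient.mk_eq_zero _).mpr (by
      show (E.ε 0) ∈ E.cobdy a 0
      rw [map_zero]; exact zero_mem _)

end Gen

variable (a : HomogeneousIdeal 𝒜)

/-- the degree `g` piece of the `i`-th local cohomology of `X` vanishes -/
def Van (X : GrLC.GMod.{u} 𝒜) (i : ℕ) (g : ι) : Prop :=
  ∀ E : GrLC.StarInjRes 𝒜 X.gr, E.Hgr a i g = ⊥

variable {a}

theorem van_iff {X : GrLC.GMod.{u} 𝒜} (E : GrLC.StarInjRes 𝒜 X.gr) {i : ℕ} {g : ι} :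
    Van a X i g ↔ E.Hgr a i g = ⊥ :=
  ⟨fun h => h E, fun h E' => hgr_eq_bot_transfer a E' E (LinearEquiv.refl R _) (fun _ _ hx => hx) h⟩

theorem van_iff' {M : Type u} [AddCommGroup M] [Module R M] {τ : Type u} [SetLike τ M] [AddSubgroupClass τ M]
    {ℳ : ι → τ} [Decomposition ℳ] [SetLike.GradedSMul 𝒜 ℳ] (E : GrLC.StarInjRes 𝒜 ℳ) {i : ℕ} {g : ι} :
    Van a (bundle 𝒜 ℳ) i g ↔ E.Hgr a i g = ⊥ := by
  obtain ⟨E'⟩ := exists_res 𝒜 (bundle 𝒜 ℳ).gr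
  rw [van_iff E']
  exact ⟨fun h => hgr_eq_bot_transfer a E E' (LinearEquiv.refl R M) (fun _ _ hx => hx) h,
    fun h => hgr_eq_bot_transfer a E' E (LinearEquiv.refl R M) (fun _ _ hx => hx) h⟩

theorem van_congr {X Y : GrLC.GMod.{u} 𝒜} (e : X.carrier ≃ₗ[R] Y.carrier)
    (he : GrLC.IsGrHom X.gr Y.gr e.toLinearMap) {i : ℕ} {g : ι} (h : Van a Y i g) : Van a X i g := fun E => by
  obtain ⟨E'⟩ := exists_res 𝒜 Y.gr
  exact hgr_eq_bot_transfer a E E' e he (h E')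

theorem van_shift {X : GrLC.GMod.{u} 𝒜} (e : ι) {i : ℕ} {g : ι} :
    Van a (shMod 𝒜 X.gr e) i g ↔ Van a X i (g + e) := by
  obtain ⟨E⟩ := exists_res 𝒜 X.gr
  rw [van_iff E, van_iff (shRes E e)]
  constructor <;> intro h <;> refine (AddSubgroup.eq_bot_iff_forall _).mpr fun x hx => ?_
  · obtain ⟨z, hz, rfl⟩ := hx
    exact (AddSubgroup.eq_bot_iff_forall _).mp h _ ⟨z, hz, rfl⟩
  · obtain ⟨z, hz, rfl⟩ := hx
    exact (AddSubgroup.eq_bot_iff_forall _).mp h _ ⟨z, hz, rfl⟩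

theorem van0_iff {X : GrLC.GMod.{u} 𝒜} {g : ι} :
    Van a X 0 g ↔ ∀ x ∈ X.gr g, x ∈ GrLC.gam a.toIdeal X.carrier → x = 0 := by
  obtain ⟨E⟩ := exists_res 𝒜 X.gr
  rw [van_iff E]
  exact h0_eq_bot_iff a E g

theorem van_of_torsion [IsNoetherianRing R] {X : GrLC.GMod.{u} 𝒜}
    (h : ∀ x : X.carrier, x ∈ GrLC.gam a.toIdeal X.carrier) (i : ℕ) (g : ι) : Van a X (i + 1) g := fun E => by
  obtain ⟨φ⟩ := Groth.Agent.GrStarAcyclic.exists_H_equiv E a (i + 1)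
  haveI : Subsingleton (LocCoh.H a.toIdeal (i + 1) X.carrier) :=
    Groth.Agent.H2LC.subsingleton_of_isPowerTorsion i X.carrier h
  haveI := φ.subsingleton
  exact (AddSubgroup.eq_bot_iff_forall _).mpr fun x _ => Subsingleton.elim x 0

section SES

variable {A B C : GrLC.GMod.{u} 𝒜} {f : A.carrier →ₗ[R] B.carrier} {g : B.carrier →ₗ[R] C.carrier}
  (hfg : GrLC.IsGrHom A.gr B.gr f) (hgg : GrLC.IsGrHom B.gr C.gr g) (hf : Function.Injective f)
  (hg : Function.Surjective g) (hex : Function.Exact f g)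
include hfg hgg hf hg hex

theorem van_middle {i : ℕ} {n : ι} (hA : Van a A i n) (hC : Van a C i n) : Van a B i n := fun E₂ => by
  obtain ⟨E₁⟩ := exists_res 𝒜 A.gr
  obtain ⟨E₃⟩ := exists_res 𝒜 C.gr
  obtain ⟨δ, -, -, hexact⟩ := exists_les (E₁ := E₁) E₂ (E₃ := E₃) hfg hgg hf hg hex a
  refine (AddSubgroup.eq_bot_iff_forall _).mpr fun y hy => ?_
  have h1 := hm_deg E₂ E₃ a g (grHomDeg_zero_iff.mpr hgg) i n y hy
  rw [add_zero, hC E₃, AddSubgroup.mem_bot] at h1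
  obtain ⟨x, hx, rfl⟩ := exists_preimage_deg (hm_deg E₁ E₂ a f (grHomDeg_zero_iff.mpr hfg) i)
    (g := n) (by rwa [add_zero]) ((hexact i).1 y |>.mp h1)
  rw [(AddSubgroup.eq_bot_iff_forall _).mp (hA E₁) x hx, map_zero]

theorem van_left {i : ℕ} {n : ι} (hC : Van a C i n) (hB : Van a B (i + 1) n) : Van a A (i + 1) n := fun E₁ => by
  obtain ⟨E₂⟩ := exists_res 𝒜 B.gr
  obtain ⟨E₃⟩ := exists_res 𝒜 C.gr
  obtain ⟨δ, hδ, -, hexact⟩ := exists_les (E₁ := E₁) E₂ (E₃ := E₃) hfg hgg hf hg hex a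
  refine (AddSubgroup.eq_bot_iff_forall _).mpr fun y hy => ?_
  have h1 := hm_deg E₁ E₂ a f (grHomDeg_zero_iff.mpr hfg) (i + 1) n y hy
  rw [add_zero, hB E₂, AddSubgroup.mem_bot] at h1
  obtain ⟨x, hx, rfl⟩ := exists_preimage_deg (grHomDeg_zero_iff.mpr (hδ i))
    (g := n) (by rwa [add_zero]) ((hexact i).2.2 y |>.mp h1)
  rw [(AddSubgroup.eq_bot_iff_forall _).mp (hC E₃) x hx, map_zero]

theorem van_right {i : ℕ} {n : ι} (hB : Van a B i n) (hA : Van a A (i + 1) n) : Van a C i n := fun E₃ => by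
  obtain ⟨E₁⟩ := exists_res 𝒜 A.gr
  obtain ⟨E₂⟩ := exists_res 𝒜 B.gr
  obtain ⟨δ, hδ, -, hexact⟩ := exists_les (E₁ := E₁) E₂ (E₃ := E₃) hfg hgg hf hg hex a
  refine (AddSubgroup.eq_bot_iff_forall _).mpr fun y hy => ?_
  have h1 := hδ i n y hy
  rw [hA E₁, AddSubgroup.mem_bot] at h1
  obtain ⟨x, hx, rfl⟩ := exists_preimage_deg (hm_deg E₂ E₃ a g (grHomDeg_zero_iff.mpr hgg) i)
    (g := n) (by rwa [add_zero]) ((hexact i).2.1 y |>.mp h1)
  rw [(AddSubgroup.eq_bot_iff_forall _).mp (hB E₂) x hx, map_zero]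

end SES

theorem van_prod {X Y : GrLC.GMod.{u} 𝒜} {i : ℕ} {n : ι} (hX : Van a X i n) (hY : Van a Y i n) :
    Van a (prodMod X Y) i n := by
  let f : X.carrier →ₗ[R] (prodMod X Y).carrier := LinearMap.inl R X.carrier Y.carrier
  let g : (prodMod X Y).carrier →ₗ[R] Y.carrier := LinearMap.snd R X.carrier Y.carrier
  refine van_middle (f := f) (g := g) (fun j x hx => ⟨hx, zero_mem _⟩) (fun j x hx => hx.2)
    (fun x y h => congrArg Prod.fst h) (fun y => ⟨((0, y) : X.carrier × Y.carrier), rfl⟩) (fun v => ?_) hX hY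
  constructor
  · intro h; exact ⟨v.1, Prod.ext rfl h.symm⟩
  · rintro ⟨x, rfl⟩; rfl

/-- the submodule of an element map -/
theorem van_of_subsingleton {X : GrLC.GMod.{u} 𝒜} [IsNoetherianRing R] [Subsingleton X.carrier] (i : ℕ) (g : ι) :
    Van a X i g := by
  cases i with
  | zero => exact van0_iff.mpr fun x _ _ => Subsingleton.elim x 0
  | succ i => exact van_of_torsion (fun x => by rw [Subsingleton.elim x 0]; exact zero_mem _) i g

end Groth.Agent.GrStarVan
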