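/-
Non-zero-divisors and graded local cohomology
-/
import Groth.Prelude.Def_GrLC
import Groth.Agent.Lib.GrStarVan
import Mathlib

set_option autoImplicit false
open DirectSum
open Groth.Agent.GrStarBasic Groth.Agent.GrStarHull Groth.Agent.GrStarPrime Groth.Agent.GrStarLES Groth.Agent.GrStarVan

universe u

namespace Groth.Agent.GrStarNzd

variable {ι : Type} [AddCommGroup ι] [DecidableEq ι]
variable {R : Type u} [CommRing R] {σ : Type u} [SetLike σ R] [AddSubgroupClass σ R] {𝒜 : ι → σ} [GradedRing 𝒜]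
variable {a : HomogeneousIdeal 𝒜}

/-- the classes in graded local cohomology are torsion -/
theorem exists_pow_smul {X : GrLC.GMod.{u} 𝒜} (E : GrLC.StarInjRes 𝒜 X.gr) {f : R} (hf : f ∈ a.toIdeal)
    {i : ℕ} (y : E.H a i) : ∃ n : ℕ, f ^ n • y = 0 := by
  obtain ⟨z, rfl⟩ := Submodule.mkQ_surjective _ y
  obtain ⟨n, hn⟩ := z.2.1
  refine ⟨n, ?_⟩
  rw [← map_smul, show f ^ n • z = 0 from Subtype.ext (hn _ (Ideal.pow_mem_pow hf n)), map_zero]

/-- multiplication by a homogeneous element from the shift -/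
noncomputable def mulFrom (X : GrLC.GMod.{u} 𝒜) (e : ι) (f : R) :
    (shMod 𝒜 X.gr (-e)).carrier →ₗ[R] X.carrier where
  toFun x := (show X.carrier from f • x)
  map_add' := smul_add f
  map_smul' c x := smul_comm f c x

theorem mulFrom_gr (X : GrLC.GMod.{u} 𝒜) {e : ι} {f : R} (hf : f ∈ 𝒜 e) :
    GrLC.IsGrHom (shMod 𝒜 X.gr (-e)).gr X.gr (mulFrom X e f) := fun g x hx => by
  show f • (x : X.carrier) ∈ X.gr g
  have := smul_mem 𝒜 X.gr hf (show (x : X.carrier) ∈ X.gr (g + -e) from hx)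
  rwa [show e + (g + -e) = g by abel] at this

section NZD

variable {X Y : GrLC.GMod.{u} 𝒜} {e : ι} {f : R} (hf : f ∈ 𝒜 e)
  (hinj : Function.Injective (fun x : X.carrier => f • x))
  {π : X.carrier →ₗ[R] Y.carrier} (hπ : GrLC.IsGrHom X.gr Y.gr π) (hs : Function.Surjective π)
  (hex : ∀ x, π x = 0 ↔ ∃ w, f • w = x)
include hf hinj hπ hs hex

theorem eq_zero_of_smul (E : GrLC.StarInjRes 𝒜 X.gr) {i : ℕ} {g : ι} (hY : Van a Y i (g + e))
    {y : E.H a (i + 1)} (hy : y ∈ E.Hgr a (i + 1) g) (h0 : f • y = 0) : y = 0 := by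
  obtain ⟨E₃⟩ := exists_res 𝒜 Y.gr
  let E₁ := shRes E (-e)
  have hfg : GrLC.IsGrHom (shMod 𝒜 X.gr (-e)).gr X.gr (mulFrom X e f) := mulFrom_gr X hf
  obtain ⟨δ, hδ, -, hexact⟩ := exists_les (E₁ := E₁) E (E₃ := E₃) hfg hπ hinj hs
    (fun x => (hex x).trans ⟨fun ⟨w, hw⟩ => ⟨w, hw⟩, fun ⟨w, hw⟩ => ⟨w, hw⟩⟩) a
  have hlift : IsLift E₁ E (mulFrom X e f) 0 (fun n => mulFrom (E.X n) e f) :=
    { grHom := fun n => grHomDeg_zero_iff.mpr (mulFrom_gr (E.X n) hf)
      aug := LinearMap.ext fun x => (map_smul E.ε f (x : X.carrier)).symm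
      comm := fun n => LinearMap.ext fun x => map_smul (E.d n) f (x : (E.X n).carrier) }
  obtain ⟨z, hz, rfl⟩ := hy
  let z' : E₁.cocyc a (i + 1) := z
  have h1 : hm E₁ E a (mulFrom X e f) (grHomDeg_zero_iff.mpr hfg) (i + 1) (E₁.toH a (i + 1) z') = 0 := by
    rw [hm_eq E₁ E a _ _ hlift]
    refine Eq.trans ?_ h0
    rfl
  obtain ⟨w, hw⟩ := ((hexact i).2.2 _).mp h1
  have hmem : E₁.toH a (i + 1) z' ∈ E₁.Hgr a (i + 1) (g + e) :=
    ⟨z', (show (z : (E.X (i + 1)).carrier) ∈ (E.X (i + 1)).gr (g + e + -e) by rwa [add_neg_cancel_right]), rfl⟩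
  obtain ⟨w', hw', hww⟩ := exists_preimage_deg (grHomDeg_zero_iff.mpr (hδ i)) (g := g + e)
    (by rwa [add_zero]) ⟨w, hw⟩
  rw [(AddSubgroup.eq_bot_iff_forall _).mp (hY E₃) w' hw', map_zero] at hww
  exact hww.symm

/-- vanishing of the cohomology of the quotient by a non-zero-divisor gives vanishing -/
theorem van_of_smul (hfa : f ∈ a.toIdeal) {i : ℕ} {g : ι}
    (hY : ∀ k : ℕ, Van a Y i (g + (k + 1) • e)) : Van a X (i + 1) g := fun E => by
  refine (AddSubgroup.eq_bot_iff_forall _).mpr fun y hy => ?_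
  have key : ∀ (n : ℕ) (j : ℕ) (y : E.H a (i + 1)), y ∈ E.Hgr a (i + 1) (g + j • e) → f ^ n • y = 0 → y = 0 := by
    intro n
    induction n with
    | zero => intro j y _ h; rwa [pow_zero, one_smul] at h
    | succ n ih =>
      intro j y hy h
      refine eq_zero_of_smul hf hinj hπ hs hex E ?_ hy (ih (j + 1) (f • y) ?_ ?_)
      · have := hY j
        rwa [succ_nsmul, ← add_assoc] at this
      · obtain ⟨z, hz, rfl⟩ := hy
        refine ⟨f • z, ?_, map_smul _ f z⟩
        have := smul_mem 𝒜 (E.X (i + 1)).gr hf hz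
        rw [show g + (j + 1) • e = e + (g + j • e) by rw [succ_nsmul]; abel]
        exact this
      · rwa [smul_smul, ← pow_succ]
  obtain ⟨n, hn⟩ := exists_pow_smul E hfa y
  exact key n 0 y (by rwa [zero_nsmul, add_zero]) hn

omit hf hπ hs hex in
theorem van0_of_nzd (hfa : f ∈ a.toIdeal) (g : ι) : Van a X 0 g := by
  refine van0_iff.mpr fun x _ hx => ?_
  obtain ⟨n, hn⟩ := hx
  have hn' := hn _ (Ideal.pow_mem_pow hfa n)
  clear hn
  induction n with
  | zero => rwa [pow_zero, one_smul] at hn'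
  | succ n ih =>
    refine ih (hinj ?_)
    show f • (f ^ n • x) = f • (0 : X.carrier)
    rw [smul_zero, smul_smul, ← pow_succ']; exact hn'

end NZD

/-- an injective map is injective on torsion -/
theorem van0_of_injective {A B : GrLC.GMod.{u} 𝒜} {f : A.carrier →ₗ[R] B.carrier} (hf : GrLC.IsGrHom A.gr B.gr f)
    (hinj : Function.Injective f) {g : ι} (h : Van a B 0 g) : Van a A 0 g :=
  van0_iff.mpr fun x hx hxg => hinj ((van0_iff.mp h _ (hf g x hx) (gam_map a f hxg)).trans (map_zero f).symm)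

variable (a)

/-- the quotient by the torsion -/
noncomputable def gamQuot (X : GrLC.GMod.{u} 𝒜) : GrLC.GMod.{u} 𝒜 :=
  quoMod 𝒜 X.gr (gam_homogeneous (𝓔 := X.gr) a)

/-- the projection to the quotient by the torsion -/
noncomputable def gamMk (X : GrLC.GMod.{u} 𝒜) : X.carrier →ₗ[R] (gamQuot a X).carrier :=
  (GrLC.gam a.toIdeal X.carrier).mkQ

theorem gamMk_gr (X : GrLC.GMod.{u} 𝒜) : GrLC.IsGrHom X.gr (gamQuot a X).gr (gamMk a X) :=
  mkQ_grHom 𝒜 X.gr _

theorem gamMk_surjective (X : GrLC.GMod.{u} 𝒜) : Function.Surjective (gamMk a X) :=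
  Submodule.mkQ_surjective _

theorem gamMk_eq_zero {X : GrLC.GMod.{u} 𝒜} {x : X.carrier} :
    gamMk a X x = 0 ↔ x ∈ GrLC.gam a.toIdeal X.carrier :=
  Submodule.Quotient.mk_eq_zero _

variable {a}

theorem mem_gam_of_smul [IsNoetherianRing R] {M : Type u} [AddCommGroup M] [Module R M] {n : ℕ} {y : M}
    (h : ∀ r ∈ a.toIdeal ^ n, r • y ∈ GrLC.gam a.toIdeal M) : y ∈ GrLC.gam a.toIdeal M := by
  classical
  obtain ⟨s, hs⟩ := IsNoetherian.noetherian (a.toIdeal ^ n)
  have hy : ∀ r ∈ s, r • y ∈ GrLC.gam a.toIdeal M := fun r hr => h r (hs.le (Submodule.subset_span hr))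
  choose k hk using hy
  let K := s.attach.sup fun r => k r.1 r.2
  refine ⟨K + n, fun r hr => ?_⟩
  rw [pow_add] at hr
  refine Submodule.mul_induction_on hr (fun p hp q hq => ?_) fun p q hp hq => by rw [add_smul, hp, hq, add_zero]
  rw [mul_smul]
  rw [← hs] at hq
  induction hq using Submodule.span_induction with
  | mem w hw => exact hk w hw p (Ideal.pow_le_pow_right
      (Finset.le_sup (f := fun r => k r.1 r.2) (Finset.mem_attach s ⟨w, hw⟩)) hp)
  | zero => rw [zero_smul, smul_zero]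
  | add u v _ _ hu hv => rw [add_smul, smul_add, hu, hv, add_zero]
  | smul c u _ hu => rw [smul_eq_mul, mul_smul, smul_comm, hu, smul_zero]

variable [IsNoetherianRing R]

theorem gam_gamQuot (X : GrLC.GMod.{u} 𝒜) {z : (gamQuot a X).carrier}
    (hz : z ∈ GrLC.gam a.toIdeal (gamQuot a X).carrier) : z = 0 := by
  obtain ⟨x, rfl⟩ := gamMk_surjective a X z
  obtain ⟨n, hn⟩ := hz
  refine (gamMk_eq_zero a).mpr (mem_gam_of_smul (n := n) fun r hr => (gamMk_eq_zero a).mp ?_)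
  rw [map_smul]; exact hn r hr

theorem van0_gamQuot (X : GrLC.GMod.{u} 𝒜) (g : ι) : Van a (gamQuot a X) 0 g :=
  van0_iff.mpr fun _ _ h => gam_gamQuot X h

/-- kernels made of torsion do not matter in positive degrees -/
theorem van_of_ker_torsion {B C : GrLC.GMod.{u} 𝒜} {g : B.carrier →ₗ[R] C.carrier} (hg : GrLC.IsGrHom B.gr C.gr g)
    (hs : Function.Surjective g) (hk : ∀ x, g x = 0 → x ∈ GrLC.gam a.toIdeal B.carrier) {i : ℕ} {n : ι} :
    (Van a B i n → Van a C i n) ∧ (Van a C (i + 1) n → Van a B (i + 1) n) := by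
  have hP := ker_homogeneous hg
  have hT : ∀ j, Van a (subMod 𝒜 B.gr hP) (j + 1) n := fun j =>
    van_of_torsion (X := subMod 𝒜 B.gr hP) (fun x => by
      obtain ⟨m, hm⟩ := hk _ (LinearMap.mem_ker.mp x.2)
      exact ⟨m, fun r hr => Subtype.ext (hm r hr)⟩) j n
  exact ⟨fun hB => van_right (f := (LinearMap.ker g).subtype) (g := g) (subtype_grHom 𝒜 B.gr hP) hg
      Subtype.val_injective hs (LinearMap.exact_iff.mpr (Submodule.range_subtype _).symm) hB (hT i),
    fun hC => van_middle (f := (LinearMap.ker g).subtype) (g := g) (subtype_grHom 𝒜 B.gr hP) hg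
      Subtype.val_injective hs (LinearMap.exact_iff.mpr (Submodule.range_subtype _).symm) (hT i) hC⟩

theorem van_gamQuot_iff (X : GrLC.GMod.{u} 𝒜) (i : ℕ) (g : ι) :
    Van a (gamQuot a X) (i + 1) g ↔ Van a X (i + 1) g :=
  ⟨(van_of_ker_torsion (gamMk_gr a X) (gamMk_surjective a X) (fun _ h => (gamMk_eq_zero a).mp h)).2,
    (van_of_ker_torsion (gamMk_gr a X) (gamMk_surjective a X) (fun _ h => (gamMk_eq_zero a).mp h)).1⟩

end Groth.Agent.GrStarNzd
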