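/-
Koszul complexes and the diagonal vanishing of graded local cohomology
-/
import Groth.Prelude.Def_GrLC
import Groth.Agent.Lib.GrStarVan
import Mathlib

set_option autoImplicit false
open DirectSum
open Groth.Agent.GrStarBasic Groth.Agent.GrStarHull Groth.Agent.GrStarPrime Groth.Agent.GrStarLES Groth.Agent.GrStarVan

universe u

namespace Groth.Agent.GrStarKoszul

variable {R : Type u} [CommRing R] {σ : Type u} [SetLike σ R] [AddSubgroupClass σ R] {𝒜 : ℤ → σ} [GradedRing 𝒜]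

/-- a complex `… → Y 1 → Y 0 → M` -/
structure Cx (M : GrLC.GMod.{u} 𝒜) : Type (u + 1) where
  Y : ℕ → GrLC.GMod.{u} 𝒜
  e : (Y 0).carrier →ₗ[R] M.carrier
  d : ∀ p, (Y (p + 1)).carrier →ₗ[R] (Y p).carrier
  e_gr : GrLC.IsGrHom (Y 0).gr M.gr e
  d_gr : ∀ p, GrLC.IsGrHom (Y (p + 1)).gr (Y p).gr (d p)
  ed : ∀ x, e (d 0 x) = 0
  dd : ∀ p x, d p (d (p + 1) x) = 0

variable {M : GrLC.GMod.{u} 𝒜}

/-- multiplication by `b` is null-homotopic -/
def Null (C : Cx M) (b : R) : Prop :=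
  ∃ (k : M.carrier →ₗ[R] (C.Y 0).carrier) (h : ∀ p, (C.Y p).carrier →ₗ[R] (C.Y (p + 1)).carrier),
    (∀ x, C.e (k x) = b • x) ∧ (∀ x, C.d 0 (h 0 x) + k (C.e x) = b • x) ∧
    ∀ p x, C.d (p + 1) (h (p + 1) x) + h p (C.d p x) = b • x

/-- multiplication by a homogeneous element of degree one as a map from the shift -/
noncomputable def mulMap (X : GrLC.GMod.{u} 𝒜) (f : R) : (shMod 𝒜 X.gr (-1)).carrier →ₗ[R] X.carrier where
  toFun x := (show X.carrier from f • x)
  map_add' := smul_add f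
  map_smul' c x := smul_comm f c x

theorem mulMap_gr (X : GrLC.GMod.{u} 𝒜) {f : R} (hf : f ∈ 𝒜 1) :
    GrLC.IsGrHom (shMod 𝒜 X.gr (-1)).gr X.gr (mulMap X f) := fun g x hx => by
  show f • (x : X.carrier) ∈ X.gr g
  have := smul_mem 𝒜 X.gr hf (show (x : X.carrier) ∈ X.gr (g + -1) from hx)
  rwa [show 1 + (g + -1) = g by omega] at this

/-- the terms of a cone -/
noncomputable def coneY (C : Cx M) : ℕ → GrLC.GMod.{u} 𝒜
  | 0 => prodMod (C.Y 0) (shMod 𝒜 M.gr (-1))
  | p + 1 => prodMod (C.Y (p + 1)) (shMod 𝒜 (C.Y p).gr (-1))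

/-- a map of shifts -/
noncomputable def shMap {X Y : GrLC.GMod.{u} 𝒜} (φ : X.carrier →ₗ[R] Y.carrier) :
    (shMod 𝒜 X.gr (-1)).carrier →ₗ[R] (shMod 𝒜 Y.gr (-1)).carrier := φ

/-- the differentials of a cone -/
noncomputable def coneD (C : Cx M) (f : R) : ∀ p, (coneY C (p + 1)).carrier →ₗ[R] (coneY C p).carrier
  | 0 => ((C.d 0 ∘ₗ LinearMap.fst R _ _) + (mulMap (C.Y 0) f ∘ₗ LinearMap.snd R _ _)).prod
      (-(shMap C.e ∘ₗ LinearMap.snd R _ _))
  | p + 1 => ((C.d (p + 1) ∘ₗ LinearMap.fst R _ _) + (mulMap (C.Y (p + 1)) f ∘ₗ LinearMap.snd R _ _)).prod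
      (-(shMap (C.d p) ∘ₗ LinearMap.snd R _ _))

/-- the cone of multiplication by `f` -/
noncomputable def cone (C : Cx M) (f : R) (hf : f ∈ 𝒜 1) : Cx M where
  Y := coneY C
  e := (C.e ∘ₗ LinearMap.fst R (C.Y 0).carrier (shMod 𝒜 M.gr (-1)).carrier) + (mulMap M f ∘ₗ LinearMap.snd R _ _)
  d := coneD C f
  e_gr g v hv := add_mem (C.e_gr g _ hv.1) (mulMap_gr M hf g _ hv.2)
  d_gr p := by
    cases p with
    | zero =>
      exact fun g v hv => ⟨add_mem (C.d_gr 0 g _ hv.1) (mulMap_gr (C.Y 0) hf g _ hv.2), (show -(C.e v.2) ∈ M.gr (g + -1) from neg_mem (C.e_gr (g + -1) _ hv.2))⟩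
    | succ p =>
      exact fun g v hv => ⟨add_mem (C.d_gr (p + 1) g _ hv.1) (mulMap_gr (C.Y (p + 1)) hf g _ hv.2),
        (show -(C.d p v.2) ∈ (C.Y p).gr (g + -1) from neg_mem (C.d_gr p (g + -1) _ hv.2))⟩
  ed v := by
    obtain ⟨x, (y : (C.Y 0).carrier)⟩ := v
    show C.e (C.d 0 x + f • (y : (C.Y 0).carrier)) + f • (-(C.e y) : M.carrier) = 0
    rw [map_add, C.ed, zero_add, map_smul, smul_neg, add_neg_cancel]
  dd p v := by
    cases p with
    | zero =>
      obtain ⟨x, (y : (C.Y 1).carrier)⟩ := v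
      refine Prod.ext ?_ ?_
      · show C.d 0 (C.d 1 x + f • (y : (C.Y 1).carrier)) + f • (-(C.d 0 y) : (C.Y 0).carrier) = 0
        rw [map_add, C.dd, zero_add, map_smul, smul_neg, add_neg_cancel]
      · show -(C.e (-(C.d 0 y) : (C.Y 0).carrier)) = (0 : M.carrier)
        rw [map_neg, C.ed, neg_zero, neg_zero]
    | succ p =>
      obtain ⟨x, (y : (C.Y (p + 2)).carrier)⟩ := v
      refine Prod.ext ?_ ?_
      · show C.d (p + 1) (C.d (p + 2) x + f • (y : (C.Y (p + 2)).carrier)) + f • (-(C.d (p + 1) y) : (C.Y (p + 1)).carrier) = 0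
        rw [map_add, C.dd, zero_add, map_smul, smul_neg, add_neg_cancel]
      · show -(C.d p (-(C.d (p + 1) y) : (C.Y (p + 1)).carrier)) = (0 : (C.Y p).carrier)
        rw [map_neg, C.dd, neg_zero, neg_zero]

theorem null_cone_self (C : Cx M) {f : R} (hf : f ∈ 𝒜 1) : Null (cone C f hf) f := by
  let h : ∀ p, ((cone C f hf).Y p).carrier →ₗ[R] ((cone C f hf).Y (p + 1)).carrier := fun p =>
    match p with
    | 0 => LinearMap.prod 0 (LinearMap.fst R (C.Y 0).carrier (shMod 𝒜 M.gr (-1)).carrier)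
    | q + 1 => LinearMap.prod 0 (LinearMap.fst R (C.Y (q + 1)).carrier (shMod 𝒜 (C.Y q).gr (-1)).carrier)
  refine ⟨LinearMap.inr R (C.Y 0).carrier M.carrier, h, fun x => ?_, fun v => ?_, fun p v => ?_⟩
  · show C.e 0 + f • x = f • x
    rw [map_zero, zero_add]
  · obtain ⟨x, (y : M.carrier)⟩ := v
    refine Prod.ext ?_ ?_
    · show C.d 0 0 + f • x + 0 = f • x
      rw [map_zero, zero_add, add_zero]
    · show -(C.e x) + (C.e x + f • (y : M.carrier)) = f • (y : M.carrier)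
      rw [neg_add_cancel_left]
  · obtain _ | q := p
    · obtain ⟨x, (y : (C.Y 0).carrier)⟩ := v
      refine Prod.ext ?_ ?_
      · show C.d 1 0 + f • x + 0 = f • x
        rw [map_zero, zero_add, add_zero]
      · show -(C.d 0 x) + (C.d 0 x + f • (y : (C.Y 0).carrier)) = f • (y : (C.Y 0).carrier)
        rw [neg_add_cancel_left]
    · obtain ⟨x, (y : (C.Y (q + 1)).carrier)⟩ := v
      refine Prod.ext ?_ ?_
      · show C.d (q + 2) 0 + f • x + 0 = f • x
        rw [map_zero, zero_add, add_zero]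
      · show -(C.d (q + 1) x) + (C.d (q + 1) x + f • (y : (C.Y (q + 1)).carrier)) = f • (y : (C.Y (q + 1)).carrier)
        rw [neg_add_cancel_left]

theorem null_cone (C : Cx M) {f : R} (hf : f ∈ 𝒜 1) {b : R} (hb : Null C b) : Null (cone C f hf) b := by
  obtain ⟨k, h, h1, h2, h3⟩ := hb
  let h' : ∀ p, ((cone C f hf).Y p).carrier →ₗ[R] ((cone C f hf).Y (p + 1)).carrier := fun p =>
    match p with
    | 0 => (h 0 ∘ₗ LinearMap.fst R (C.Y 0).carrier (shMod 𝒜 M.gr (-1)).carrier).prod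
        (-(shMap k ∘ₗ LinearMap.snd R (C.Y 0).carrier (shMod 𝒜 M.gr (-1)).carrier))
    | q + 1 => (h (q + 1) ∘ₗ LinearMap.fst R (C.Y (q + 1)).carrier (shMod 𝒜 (C.Y q).gr (-1)).carrier).prod
        (-(shMap (h q) ∘ₗ LinearMap.snd R (C.Y (q + 1)).carrier (shMod 𝒜 (C.Y q).gr (-1)).carrier))
  refine ⟨LinearMap.prod k 0, h', fun x => ?_, fun v => ?_, fun p v => ?_⟩
  · show C.e (k x) + f • (0 : M.carrier) = b • x
    rw [smul_zero, add_zero, h1]
  · obtain ⟨x, (y : M.carrier)⟩ := v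
    refine Prod.ext ?_ ?_
    · show C.d 0 (h 0 x) + f • (-(k y) : (C.Y 0).carrier) + k (C.e x + f • (y : M.carrier)) = b • x
      rw [map_add, map_smul, smul_neg, ← h2 x]; abel
    · show -(C.e (-(k y) : (C.Y 0).carrier)) + 0 = b • (y : M.carrier)
      rw [map_neg, neg_neg, add_zero, h1]
  · obtain _ | q := p
    · obtain ⟨x, (y : (C.Y 0).carrier)⟩ := v
      refine Prod.ext ?_ ?_
      · show C.d 1 (h 1 x) + f • (-(h 0 y) : (C.Y 1).carrier) + h 0 (C.d 0 x + f • (y : (C.Y 0).carrier)) = b • x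
        rw [map_add, map_smul, smul_neg, ← h3 0 x]; abel
      · show -(C.d 0 (-(h 0 y) : (C.Y 1).carrier)) + -(k (-(C.e y) : M.carrier)) = b • (y : (C.Y 0).carrier)
        rw [map_neg, neg_neg, map_neg, neg_neg, h2]
    · obtain ⟨x, (y : (C.Y (q + 1)).carrier)⟩ := v
      refine Prod.ext ?_ ?_
      · show C.d (q + 2) (h (q + 2) x) + f • (-(h (q + 1) y) : (C.Y (q + 2)).carrier) + h (q + 1) (C.d (q + 1) x + f • (y : (C.Y (q + 1)).carrier)) = b • x
        rw [map_add, map_smul, smul_neg, ← h3 (q + 1) x]; abel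
      · show -(C.d (q + 1) (-(h (q + 1) y) : (C.Y (q + 2)).carrier)) + -(h q (-(C.d q y) : (C.Y q).carrier)) = b • (y : (C.Y (q + 1)).carrier)
        rw [map_neg, neg_neg, map_neg, neg_neg, h3]

variable (M)

/-- the zero module -/
noncomputable def zMod : GrLC.GMod.{u} 𝒜 :=
  subMod 𝒜 M.gr (P := ⊥) fun g x hx => by
    rw [(Submodule.mem_bot R).mp hx]; simp

instance : Subsingleton (zMod M).carrier := inferInstanceAs (Subsingleton ↥(⊥ : Submodule R M.carrier))

variable [IsNoetherianRing R] (a : HomogeneousIdeal 𝒜)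

/-- the Koszul complex with its properties -/
theorem exists_koszul (L : List R) (hL : ∀ f ∈ L, f ∈ 𝒜 1) :
    ∃ C : Cx M, (∀ b ∈ L, Null C b) ∧ (∀ p, L.length ≤ p → Subsingleton (C.Y p).carrier) ∧
      (∀ (p i : ℕ) (g : ℤ), Van a M i (g - ((p : ℤ) + 1)) → Van a (C.Y p) i g) ∧
      ∀ x, C.e x ∈ Ideal.span {b | b ∈ L} • (⊤ : Submodule R M.carrier) := by
  induction L with
  | nil =>
    refine ⟨⟨fun _ => zMod M, 0, fun _ => 0, fun g x _ => zero_mem _, fun p g x _ => zero_mem _,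
      fun x => rfl, fun p x => rfl⟩, fun b hb => absurd hb (List.not_mem_nil), fun p _ => inferInstanceAs (Subsingleton (zMod M).carrier),
      fun p i g _ => van_of_subsingleton i g, fun x => zero_mem _⟩
  | cons f L ih =>
    obtain ⟨C, hN, hS, hV, he⟩ := ih fun b hb => hL b (List.mem_cons_of_mem f hb)
    have hf := hL f (List.mem_cons_self)
    refine ⟨cone C f hf, fun b hb => ?_, fun p hp => ?_, fun p i g hM => ?_, fun v => ?_⟩
    · rcases List.mem_cons.mp hb with rfl | hb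
      · exact null_cone_self C hf
      · exact null_cone C hf (hN b hb)
    · rw [List.length_cons] at hp
      obtain ⟨q, rfl⟩ : ∃ q, p = q + 1 := ⟨p - 1, by omega⟩
      haveI := hS (q + 1) (by omega)
      haveI : Subsingleton (C.Y q).carrier := hS q (by omega)
      haveI : Subsingleton (shMod 𝒜 (C.Y q).gr (-1)).carrier := ‹Subsingleton (C.Y q).carrier›
      exact inferInstanceAs (Subsingleton ((C.Y (q + 1)).carrier × (shMod 𝒜 (C.Y q).gr (-1)).carrier))
    · cases p with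
      | zero =>
        refine van_prod (hV 0 i g hM) (van_shift (-1) |>.mpr ?_)
        rwa [show g + -1 = g - ((0 : ℕ) + 1 : ℤ) by omega]
      | succ q =>
        refine van_prod (hV (q + 1) i g hM) (van_shift (-1) |>.mpr (hV q i (g + -1) ?_))
        rwa [show g + -1 - ((q : ℤ) + 1) = g - (((q + 1 : ℕ) : ℤ) + 1) by omega]
    · refine add_mem (Submodule.smul_mono_left (Ideal.span_mono fun b hb => List.mem_cons_of_mem f hb) (he v.1)) ?_
      exact Submodule.smul_mem_smul (r := f) (Ideal.subset_span List.mem_cons_self) Submodule.mem_top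

variable {M a}

theorem mem_gam_quot {X : GrLC.GMod.{u} 𝒜} {P : Submodule R X.carrier} (hP : P.IsHomogeneous X.gr)
    (h : ∀ b ∈ a.toIdeal, ∀ x : X.carrier, b • x ∈ P) (z : (quoMod 𝒜 X.gr hP).carrier) :
    z ∈ GrLC.gam a.toIdeal (quoMod 𝒜 X.gr hP).carrier := by
  obtain ⟨(x : X.carrier), rfl⟩ := P.mkQ_surjective z
  refine ⟨1, fun b hb => ?_⟩
  rw [pow_one] at hb
  show b • P.mkQ x = 0
  rw [← map_smul]
  exact (Submodule.Quotient.mk_eq_zero P).mpr (h b hb x)

/-- submodules of a graded module between which the quotient is torsion -/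
theorem van_between {X : GrLC.GMod.{u} 𝒜} {P Q : Submodule R X.carrier} (hP : P.IsHomogeneous X.gr)
    (hQ : Q.IsHomogeneous X.gr) (hle : P ≤ Q) (h : ∀ b ∈ a.toIdeal, ∀ x ∈ Q, b • x ∈ P) {i : ℕ} {g : ℤ}
    (hv : Van a (subMod 𝒜 X.gr hP) (i + 1) g) : Van a (subMod 𝒜 X.gr hQ) (i + 1) g := by
  let S := subMod 𝒜 X.gr hQ
  let T : Submodule R S.carrier := P.comap Q.subtype
  let inc : (subMod 𝒜 X.gr hP).carrier →ₗ[R] S.carrier := Submodule.inclusion hle
  have hinc : GrLC.IsGrHom (subMod 𝒜 X.gr hP).gr S.gr inc := fun j x hx => hx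
  have hT : T.IsHomogeneous S.gr := by
    have e : T = LinearMap.range inc := (Submodule.range_inclusion P Q hle).symm
    rw [e]
    exact range_homogeneous (closure_pieces (subMod 𝒜 X.gr hP).gr) hinc
  let q : S.carrier →ₗ[R] (quoMod 𝒜 S.gr hT).carrier := T.mkQ
  refine van_middle (f := inc) (g := q) hinc (mkQ_grHom 𝒜 S.gr hT) (Submodule.inclusion_injective hle)
    (fun y => T.mkQ_surjective y) ?_ hv (van_of_torsion (X := quoMod 𝒜 S.gr hT) (mem_gam_quot hT fun b hb (x : ↥Q) => h b hb x x.2) i g)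
  exact LinearMap.exact_iff.mpr ((Submodule.ker_mkQ T).trans (Submodule.range_inclusion P Q hle).symm)

/-- the first boundary has vanishing cohomology along the diagonal -/
theorem van_range (C : Cx M) (hN : ∀ b ∈ a.toIdeal, ∀ p x, C.d p x = 0 → b • x ∈ LinearMap.range (C.d (p + 1)))
    (hN0 : ∀ b ∈ a.toIdeal, ∀ x, C.e x = 0 → b • x ∈ LinearMap.range (C.d 0))
    {L : ℕ} (hS : ∀ p, L ≤ p → Subsingleton (C.Y p).carrier) (i : ℕ) (g : ℤ)
    (hY : ∀ p, Van a (C.Y p) (i + p) g) :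
    Van a (subMod 𝒜 M.gr (range_homogeneous (closure_pieces (C.Y 0).gr) C.e_gr)) i g := by
  have hrg : ∀ p, (LinearMap.range (C.d p)).IsHomogeneous (C.Y p).gr := fun p =>
    range_homogeneous (closure_pieces (C.Y (p + 1)).gr) (C.d_gr p)
  -- boundaries
  have key : ∀ n p, L ≤ p + n → Van a (subMod 𝒜 (C.Y p).gr (hrg p)) (i + p + 1) g := by
    intro n
    induction n with
    | zero =>
      intro p hp
      haveI := hS p hp
      haveI : Subsingleton (subMod 𝒜 (C.Y p).gr (hrg p)).carrier :=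
        inferInstanceAs (Subsingleton ↥(LinearMap.range (C.d p)))
      exact van_of_subsingleton _ g
    | succ n ih =>
      intro p hp
      have hk := ker_homogeneous (C.d_gr p)
      have hz : Van a (subMod 𝒜 (C.Y (p + 1)).gr hk) (i + p + 1 + 1) g :=
        van_between (hrg (p + 1)) hk (by rintro _ ⟨x, rfl⟩; exact C.dd p x)
          (fun b hb x hx => hN b hb p x hx) (ih (p + 1) (by omega))
      refine van_right (f := (LinearMap.ker (C.d p)).subtype) (g := (C.d p).rangeRestrict)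
        (subtype_grHom 𝒜 (C.Y (p + 1)).gr hk) (fun j x hx => C.d_gr p j x hx) Subtype.val_injective
        (C.d p).surjective_rangeRestrict ?_ (hY (p + 1)) hz
      intro x
      exact ⟨fun hx => ⟨⟨x, congrArg Subtype.val hx⟩, rfl⟩, by rintro ⟨z, rfl⟩; exact Subtype.ext z.2⟩
  have hk0 := ker_homogeneous C.e_gr
  have hz0 : Van a (subMod 𝒜 (C.Y 0).gr hk0) (i + 1) g :=
    van_between (hrg 0) hk0 (by rintro _ ⟨x, rfl⟩; exact C.ed x) (fun b hb x hx => hN0 b hb x hx)
      (key L 0 (by omega))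
  refine van_right (f := (LinearMap.ker C.e).subtype) (g := C.e.rangeRestrict)
    (subtype_grHom 𝒜 (C.Y 0).gr hk0) (fun j x hx => C.e_gr j x hx) Subtype.val_injective
    C.e.surjective_rangeRestrict ?_ (hY 0) hz0
  intro x
  exact ⟨fun hx => ⟨⟨x, congrArg Subtype.val hx⟩, rfl⟩, by rintro ⟨z, rfl⟩; exact Subtype.ext z.2⟩

/-- what the diagonal vanishing gives -/
theorem diagonal (ha : a.toIdeal = Ideal.span ((𝒜 1 : Set R))) (i : ℕ) (g : ℤ)
    (hM : ∀ p : ℕ, Van a M (i + p) (g - ((p : ℤ) + 1))) :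
    ∃ (P : Submodule R M.carrier) (hP : P.IsHomogeneous M.gr), P ≤ a.toIdeal • (⊤ : Submodule R M.carrier) ∧
      (∀ b ∈ a.toIdeal, ∀ x : M.carrier, b • x ∈ P) ∧ Van a (subMod 𝒜 M.gr hP) i g := by
  classical
  obtain ⟨t, ht, hta⟩ := (Submodule.fg_span_iff_fg_span_finset_subset (R := R) (M := R) (𝒜 1 : Set R)).mp
    (IsNoetherian.noetherian _)
  have hts : Ideal.span (t : Set R) = a.toIdeal := ha.trans hta |>.symm
  obtain ⟨C, hN, hS, hV, he⟩ := exists_koszul M a t.toList fun f hf => ht (Finset.mem_coe.mpr (Finset.mem_toList.mp hf))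
  have hset : {b | b ∈ t.toList} = (t : Set R) := Set.ext fun b => Finset.mem_toList
  rw [hset, hts] at he
  refine ⟨_, range_homogeneous (closure_pieces (C.Y 0).gr) C.e_gr, by rintro _ ⟨x, rfl⟩; exact he x, ?_,
    van_range C ?_ ?_ hS i g fun p => hV p (i + p) g (hM p)⟩
  · intro b hb x
    rw [← hts] at hb
    induction hb using Submodule.span_induction with
    | mem c hc =>
      obtain ⟨k, h, h1, -⟩ := hN c (Finset.mem_toList.mpr hc)
      exact ⟨k x, h1 x⟩
    | zero => rw [zero_smul]; exact zero_mem _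
    | add p q _ _ hp hq => rw [add_smul]; exact add_mem hp hq
    | smul r p _ hp => rw [smul_eq_mul, mul_smul]; exact Submodule.smul_mem _ _ hp
  · intro b hb p x hx
    rw [← hts] at hb
    induction hb using Submodule.span_induction with
    | mem c hc =>
      obtain ⟨k, h, -, -, h3⟩ := hN c (Finset.mem_toList.mpr hc)
      exact ⟨h (p + 1) x, by rw [← h3 p x, hx, map_zero, add_zero]⟩
    | zero => rw [zero_smul]; exact zero_mem _
    | add p q _ _ hp hq => rw [add_smul]; exact add_mem hp hq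
    | smul r p _ hp => rw [smul_eq_mul, mul_smul]; exact Submodule.smul_mem _ _ hp
  · intro b hb x hx
    rw [← hts] at hb
    induction hb using Submodule.span_induction with
    | mem c hc =>
      obtain ⟨k, h, -, h2, -⟩ := hN c (Finset.mem_toList.mpr hc)
      exact ⟨h 0 x, by rw [← h2 x, hx, map_zero, add_zero]⟩
    | zero => rw [zero_smul]; exact zero_mem _
    | add p q _ _ hp hq => rw [add_smul]; exact add_mem hp hq
    | smul r p _ hp => rw [smul_eq_mul, mul_smul]; exact Submodule.smul_mem _ _ hp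

/-- diagonal vanishing propagates upwards -/
theorem van_of_diagonal (ha : a.toIdeal = Ideal.span ((𝒜 1 : Set R))) (i : ℕ) (g : ℤ)
    (hM : ∀ p : ℕ, Van a M (i + 1 + p) (g - ((p : ℤ) + 1))) : Van a M (i + 1) g := by
  obtain ⟨P, hP, -, h, hv⟩ := diagonal ha (i + 1) g hM
  have hT : (⊤ : Submodule R M.carrier).IsHomogeneous M.gr := fun _ _ _ => Submodule.mem_top
  exact van_congr (Y := subMod 𝒜 M.gr hT)
    (Submodule.topEquiv : (⊤ : Submodule R M.carrier) ≃ₗ[R] M.carrier).symm (fun j x hx => hx)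
    (van_between hP hT le_top (fun b hb x _ => h b hb x) hv)

/-- the piece of degree `g` is generated from degree `g - 1` -/
theorem mem_smul_of_diagonal (ha : a.toIdeal = Ideal.span ((𝒜 1 : Set R))) (g : ℤ) (h0 : Van a M 0 g)
    (hM : ∀ p : ℕ, Van a M (1 + p) (g - ((p : ℤ) + 1))) {x : M.carrier} (hx : x ∈ M.gr g) :
    x ∈ a.toIdeal • (⊤ : Submodule R M.carrier) := by
  obtain ⟨P, hP, hle, h, hv⟩ := diagonal ha 1 g hM
  refine hle ((Submodule.Quotient.mk_eq_zero P).mp ?_)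
  have hq : Van a (quoMod 𝒜 M.gr hP) 0 g :=
    van_right (f := P.subtype) (g := P.mkQ) (subtype_grHom 𝒜 M.gr hP) (mkQ_grHom 𝒜 M.gr hP)
      Subtype.val_injective P.mkQ_surjective (LinearMap.exact_subtype_mkQ P) h0 hv
  exact van0_iff.mp hq _ ⟨x, hx, rfl⟩ (mem_gam_quot hP h _)

end Groth.Agent.GrStarKoszul
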