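/-
Regularity consequences of the diagonal vanishing
-/
import Groth.Prelude.Def_GrLC
import Groth.Agent.Lib.GrStarKoszul
import Mathlib

set_option autoImplicit false
open DirectSum
open Groth.Agent.GrStarBasic Groth.Agent.GrStarHull Groth.Agent.GrStarPrime Groth.Agent.GrStarLES Groth.Agent.GrStarVan
open Groth.Agent.GrStarKoszul

universe u

namespace Groth.Agent.GrStarReg

variable {R : Type u} [CommRing R] {σ : Type u} [SetLike σ R] [AddSubgroupClass σ R] {𝒜 : ℤ → σ} [GradedRing 𝒜]
variable {M : Type u} [AddCommGroup M] [Module R M] {τ : Type u} [SetLike τ M] [AddSubgroupClass τ M]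
  (ℳ : ℤ → τ) [Decomposition ℳ] [SetLike.GradedSMul 𝒜 ℳ]

/-- finitely generated graded modules are bounded below -/
theorem exists_lower (hpos : ∀ n : ℤ, n < 0 → ∀ x ∈ 𝒜 n, x = 0) [Module.Finite R M] :
    ∃ b : ℤ, ∀ g < b, ∀ x ∈ ℳ g, x = 0 := by
  classical
  obtain ⟨t, ht⟩ := Module.Finite.fg_top (R := R) (M := M)
  let U : Finset ℤ := t.biUnion fun x => DFinsupp.support (decompose ℳ x)
  obtain ⟨b, hb⟩ : ∃ b : ℤ, ∀ d ∈ U, b ≤ d := U.bddBelow
  have hm : ∀ y : M, ∀ g < b, pr ℳ g y = 0 := by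
    intro y
    have hy : y ∈ Submodule.span R (t : Set M) := ht ▸ Submodule.mem_top
    induction hy using Submodule.span_induction with
    | mem z hz =>
      intro g hg
      by_contra h0
      have : g ∈ U := Finset.mem_biUnion.mpr ⟨z, hz, DFinsupp.mem_support_iff.mpr fun e => h0 (by
        show ((decompose ℳ z g : ℳ g) : M) = 0
        rw [e]; rfl)⟩
      exact absurd (hb g this) (not_le.mpr hg)
    | zero => intro g _; exact map_zero _
    | add p q _ _ hp hq => intro g hg; rw [map_add, hp g hg, hq g hg, add_zero]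
    | smul r p _ hp =>
      intro g hg
      induction r using DirectSum.Decomposition.inductionOn 𝒜 with
      | zero => rw [zero_smul, map_zero]
      | @homogeneous j c =>
        rcases lt_or_ge j 0 with hj | hj
        · rw [hpos j hj _ c.2, zero_smul, map_zero]
        · rw [pr_smul_left 𝒜 ℳ c.2, hp (g - j) (by omega), smul_zero]
      | add c e hc he => rw [add_smul, map_add, hc, he, add_zero]
  refine ⟨b, fun g hg x hx => ?_⟩
  rw [← pr_same ℳ hx]
  exact hm x g hg

theorem pr_smul_mem_span (a : HomogeneousIdeal 𝒜) (ha : a.toIdeal = Ideal.span ((𝒜 1 : Set R))) (g : ℤ) {y : M}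
    (hy : y ∈ a.toIdeal • (⊤ : Submodule R M)) : pr ℳ g y ∈ Submodule.span R (ℳ (g - 1) : Set M) := by
  refine Submodule.smul_induction_on hy (fun r hr z _ => ?_) fun p q hp hq => ?_
  · rw [ha] at hr
    revert z
    induction hr using Submodule.span_induction with
    | mem f hf => intro z _; rw [pr_smul_left 𝒜 ℳ hf]; exact Submodule.smul_mem _ _ (Submodule.subset_span (pr_mem ℳ _ z))
    | zero => intro z _; rw [zero_smul, map_zero]; exact zero_mem _
    | add p q _ _ hp hq => intro z hz; rw [add_smul, map_add]; exact add_mem (hp z hz) (hq z hz)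
    | smul c p _ hp => intro z _; rw [smul_eq_mul, mul_comm, mul_smul]; exact hp _ Submodule.mem_top
  · rw [map_add]; exact add_mem hp hq

/-- generation below a bound on the cohomology -/
theorem span_eq_top [IsNoetherianRing R] [Module.Finite R M] (hpos : ∀ n : ℤ, n < 0 → ∀ x ∈ 𝒜 n, x = 0)
    (a : HomogeneousIdeal 𝒜) (ha : a.toIdeal = Ideal.span ((𝒜 1 : Set R))) (P : ℤ → Prop)
    (hP : ∀ g, ¬ P g → ∀ j : ℕ, Van a (bundle 𝒜 ℳ) j (g - j)) :
    Submodule.span R (⋃ (n : ℤ) (_ : P n), (ℳ n : Set M)) = ⊤ := by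
  classical
  obtain ⟨b, hb⟩ := exists_lower ℳ hpos
  have key : ∀ k : ℕ, ∀ x ∈ ℳ (b - 1 + k), x ∈ Submodule.span R (⋃ (n : ℤ) (_ : P n), (ℳ n : Set M)) := by
    intro k
    induction k with
    | zero => intro x hx; rw [hb _ (by omega) x hx]; exact zero_mem _
    | succ k ih =>
      intro x hx
      by_cases hg : P (b - 1 + ((k + 1 : ℕ) : ℤ))
      · exact Submodule.subset_span (Set.mem_iUnion₂.mpr ⟨_, hg, hx⟩)
      · have h0 := hP _ hg 0
        rw [Nat.cast_zero, sub_zero] at h0
        have hmem := mem_smul_of_diagonal (M := bundle 𝒜 ℳ) ha _ h0 (fun p => by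
          have := hP _ hg (1 + p)
          rwa [show ((1 + p : ℕ) : ℤ) = (p : ℤ) + 1 by omega] at this) (x := x) hx
        have hmem' := pr_smul_mem_span ℳ a ha (b - 1 + ((k + 1 : ℕ) : ℤ)) (y := x) hmem
        rw [pr_same ℳ hx] at hmem'
        refine Submodule.span_le.mpr (fun z hz => ?_) hmem'
        exact ih z (by rwa [show b - 1 + ((k + 1 : ℕ) : ℤ) - 1 = b - 1 + k by omega] at hz)
  refine eq_top_iff.mpr fun x _ => ?_
  rw [← sum_pr ℳ x]
  refine sum_mem fun g _ => ?_
  rcases lt_or_ge g b with h | h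
  · rw [hb g h _ (pr_mem ℳ g x)]; exact zero_mem _
  · obtain ⟨k, hk⟩ : ∃ k : ℕ, g = b - 1 + k := ⟨(g - b + 1).toNat, by omega⟩
    exact key k _ (hk ▸ pr_mem ℳ g x)

omit [GradedRing 𝒜] in
theorem van_of_endDeg {N : Type u} [AddCommGroup N] {𝒢 : ℤ → AddSubgroup N} {B : WithBot (WithTop ℤ)} {n : ℤ}
    (h : GrLC.endDeg 𝒢 ≤ B) (hn : ¬ ((n : WithTop ℤ) : WithBot (WithTop ℤ)) ≤ B) : 𝒢 n = ⊥ := by
  by_contra hne
  exact hn (le_trans (le_iSup₂ (f := fun (m : ℤ) (_ : 𝒢 m ≠ ⊥) => ((m : WithTop ℤ) : WithBot (WithTop ℤ))) n hne) h)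

/-- powers of an ideal generated in degree one -/
theorem pow_le_span (a : HomogeneousIdeal 𝒜) (ha : a.toIdeal = Ideal.span ((𝒜 1 : Set R))) (N : ℕ) :
    a.toIdeal ^ N ≤ Ideal.span (𝒜 (N : ℤ) : Set R) := by
  induction N with
  | zero =>
    rw [pow_zero, Ideal.one_eq_top]
    exact ((Ideal.eq_top_iff_one _).mpr (Ideal.subset_span (SetLike.one_mem_graded 𝒜))).ge
  | succ N ih =>
    rw [pow_succ]
    refine (Ideal.mul_mono ih ha.le).trans ?_
    rw [Ideal.span_mul_span']
    refine Ideal.span_mono ?_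
    rintro _ ⟨p, hp, q, hq, rfl⟩
    rw [Nat.cast_add, Nat.cast_one]
    exact SetLike.mul_mem_graded hp hq

/-- homogeneous elements of degree `e` lie in the `e`-th power -/
theorem mem_pow (a : HomogeneousIdeal 𝒜) (ha : a.toIdeal = Ideal.span ((𝒜 1 : Set R)))
    (hle : ∀ (n : ℤ), 0 < n → ∀ x ∈ 𝒜 n, x ∈ a.toIdeal) (e : ℕ) : ∀ x ∈ 𝒜 (e : ℤ), x ∈ a.toIdeal ^ e := by
  induction e with
  | zero => intro x _; rw [pow_zero, Ideal.one_eq_top]; exact Submodule.mem_top
  | succ e ih =>
    intro x hx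
    have hxa : x ∈ Ideal.span ((𝒜 1 : Set R)) := ha ▸ hle _ (by omega) x hx
    suffices h : ∀ y ∈ Ideal.span ((𝒜 1 : Set R)), ∀ c : R, pr 𝒜 ((e + 1 : ℕ) : ℤ) (c * y) ∈ a.toIdeal ^ (e + 1) by
      have := h x hxa 1
      rwa [one_mul, pr_same 𝒜 hx] at this
    intro y hy
    induction hy using Submodule.span_induction with
    | mem f hf =>
      intro c
      rw [mul_comm, ← smul_eq_mul, pr_smul_left 𝒜 𝒜 hf, smul_eq_mul, mul_comm, pow_succ,
        show ((e + 1 : ℕ) : ℤ) - 1 = e by omega]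
      exact Ideal.mul_mem_mul (ih _ (pr_mem 𝒜 _ _)) (ha ▸ Ideal.subset_span hf)
    | zero => intro c; rw [mul_zero, map_zero]; exact zero_mem _
    | add p q _ _ hp hq => intro c; rw [mul_add, map_add]; exact add_mem (hp c) (hq c)
    | smul d p _ hp => intro c; rw [smul_eq_mul, ← mul_assoc]; exact hp _

theorem exists_bound_iff [IsNoetherianRing R] [Module.Finite R M] (hpos : ∀ n : ℤ, n < 0 → ∀ x ∈ 𝒜 n, x = 0)
    (a : HomogeneousIdeal 𝒜) (ha : a.toIdeal = Ideal.span ((𝒜 1 : Set R)))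
    (hle : ∀ (n : ℤ), 0 < n → ∀ x ∈ 𝒜 n, x ∈ a.toIdeal) :
    (∀ i : ℕ, 1 ≤ i → Subsingleton (LocCoh.H a.toIdeal i M)) ↔ ∃ n₀ : ℤ, ∀ n : ℤ, n₀ ≤ n → ∀ x ∈ ℳ n, x = 0 := by
  classical
  constructor
  · intro h
    let X := bundle 𝒜 ℳ
    have hG : (GrLC.gam a.toIdeal X.carrier).IsHomogeneous X.gr := gam_homogeneous a
    let X' := quoMod 𝒜 X.gr hG
    let G := subMod 𝒜 X.gr hG
    have hX : ∀ i g, Van a X (i + 1) g := fun i g E => by
      obtain ⟨φ⟩ := Groth.Agent.GrStarAcyclic.exists_H_equiv E a (i + 1)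
      haveI : Subsingleton (LocCoh.H a.toIdeal (i + 1) X.carrier) := h (i + 1) (by omega)
      haveI := φ.subsingleton
      exact (AddSubgroup.eq_bot_iff_forall _).mpr fun x _ => Subsingleton.elim x 0
    have hX0 : ∀ g, Van a X' 0 g := fun g => van0_iff.mpr fun x _ hxt => by
      obtain ⟨(y : X.carrier), rfl⟩ := (GrLC.gam a.toIdeal X.carrier).mkQ_surjective x
      obtain ⟨n, hn⟩ := hxt
      refine (Submodule.Quotient.mk_eq_zero _).mpr ?_
      obtain ⟨s, hs⟩ := IsNoetherian.noetherian (a.toIdeal ^ n)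
      have hy : ∀ r ∈ s, r • y ∈ GrLC.gam a.toIdeal X.carrier := fun r hr =>
        (Submodule.Quotient.mk_eq_zero _).mp ((map_smul (GrLC.gam a.toIdeal X.carrier).mkQ r y).trans
          (hn r (hs.le (Submodule.subset_span hr))))
      choose k hk using hy
      let K := s.attach.sup fun r => k r.1 r.2
      refine ⟨K + n, fun r hr => ?_⟩
      rw [pow_add] at hr
      refine Submodule.mul_induction_on hr (fun p hp q hq => ?_) fun p q hp hq => by rw [add_smul, hp, hq, add_zero]
      rw [mul_smul]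
      rw [← hs] at hq
      induction hq using Submodule.span_induction with
      | mem w hw => exact hk w hw p (Ideal.pow_le_pow_right
          (Finset.le_sup (f := fun r => k r.1 r.2) (Finset.mem_attach s ⟨w, hw⟩)) hp)
      | zero => rw [zero_smul, smul_zero]
      | add u v _ _ hu hv => rw [add_smul, smul_add, hu, hv, add_zero]
      | smul c u _ hu => rw [smul_eq_mul, mul_smul, smul_comm, hu, smul_zero]
    have hX' : ∀ i g, Van a X' i g := by
      intro i g
      cases i with
      | zero => exact hX0 g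
      | succ i =>
        exact van_right (f := (GrLC.gam a.toIdeal X.carrier).subtype) (g := (GrLC.gam a.toIdeal X.carrier).mkQ)
          (subtype_grHom 𝒜 X.gr hG) (mkQ_grHom 𝒜 X.gr hG) Subtype.val_injective (Submodule.mkQ_surjective _)
          (LinearMap.exact_subtype_mkQ _) (hX i g)
          (van_of_torsion (X := G) (fun x => by
            obtain ⟨n, hn⟩ := x.2
            exact ⟨n, fun r hr => Subtype.ext (hn r hr)⟩) (i + 1) g)
    haveI : Module.Finite R X.carrier := ‹Module.Finite R M›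
    haveI : Module.Finite R X'.carrier := inferInstanceAs (Module.Finite R (M ⧸ GrLC.gam a.toIdeal M))
    have hz := span_eq_top X'.gr hpos a ha (fun _ => False) (fun g _ j E => hX' j (g - j) E)
    have hzero : GrLC.gam a.toIdeal M = ⊤ := by
      refine eq_top_iff.mpr fun x _ => ?_
      have h1 : (Submodule.span R (⋃ (n : ℤ) (_ : False), (X'.gr n : Set X'.carrier))) = ⊥ := by simp
      have h2 : ((GrLC.gam a.toIdeal X.carrier).mkQ x : X'.carrier) ∈ (⊥ : Submodule R X'.carrier) := by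
        rw [← h1, hz]; trivial
      exact (Submodule.Quotient.mk_eq_zero _).mp ((Submodule.mem_bot R).mp h2)
    obtain ⟨t, ht⟩ := Module.Finite.fg_top (R := R) (M := M)
    have hk : ∀ x ∈ t, x ∈ GrLC.gam a.toIdeal M := fun x _ => hzero ▸ Submodule.mem_top
    choose k hk using hk
    let K := t.attach.sup fun r => k r.1 r.2
    obtain ⟨B, hB⟩ : ∃ B : ℤ, ∀ d ∈ t.biUnion (fun x => DFinsupp.support (decompose ℳ x)), d ≤ B :=
      (t.biUnion fun x => DFinsupp.support (decompose ℳ x)).bddAbove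
    refine ⟨B + K + 1, fun n hn x hx => ?_⟩
    have hkill : ∀ r ∈ a.toIdeal ^ K, ∀ y : M, r • y = 0 := fun r hr y => by
      have hy : y ∈ Submodule.span R (t : Set M) := ht ▸ Submodule.mem_top
      induction hy using Submodule.span_induction with
      | mem w hw => exact hk w hw r (Ideal.pow_le_pow_right
          (Finset.le_sup (f := fun r => k r.1 r.2) (Finset.mem_attach t ⟨w, hw⟩)) hr)
      | zero => exact smul_zero r
      | add u v _ _ hu hv => rw [smul_add, hu, hv, add_zero]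
      | smul c u _ hu => rw [smul_comm, hu, smul_zero]
    rw [← pr_same ℳ hx]
    have hx' : x ∈ Submodule.span R (t : Set M) := ht ▸ Submodule.mem_top
    suffices h : ∀ y ∈ Submodule.span R (t : Set M), ∀ c : R, pr ℳ n (c • y) = 0 by
      have := h x hx' 1
      rwa [one_smul] at this
    intro y hy
    induction hy using Submodule.span_induction with
    | mem w hw =>
      intro c
      rw [← sum_pr ℳ w, Finset.smul_sum, map_sum]
      refine Finset.sum_eq_zero fun d hd => ?_
      have hd' := hB d (Finset.mem_biUnion.mpr ⟨w, hw, hd⟩)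
      rw [pr_smul_right 𝒜 ℳ (pr_mem ℳ d w)]
      obtain ⟨e, he⟩ : ∃ e : ℕ, n - d = e := ⟨(n - d).toNat, by omega⟩
      rw [he]
      exact hkill _ (Ideal.pow_le_pow_right (show K ≤ e by omega) (mem_pow a ha hle e _ (pr_mem 𝒜 _ _))) _
    | zero => intro c; rw [smul_zero, map_zero]
    | add p q _ _ hp hq => intro c; rw [smul_add, map_add, hp c, hq c, add_zero]
    | smul d p _ hp => intro c; rw [← mul_smul]; exact hp _
  · rintro ⟨n₀, hn⟩ i hi
    obtain ⟨i, rfl⟩ : ∃ j, i = j + 1 := ⟨i - 1, by omega⟩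
    refine Groth.Agent.H2LC.subsingleton_of_isPowerTorsion i M fun x => ?_
    show x ∈ GrLC.gam a.toIdeal M
    rw [← sum_pr ℳ x]
    refine sum_mem fun g _ => ⟨(n₀ - g).toNat, fun r hr => ?_⟩
    have hr' := pow_le_span a ha _ hr
    clear hr
    induction hr' using Submodule.span_induction with
    | mem f hf => exact hn _ (by omega) _ (smul_mem 𝒜 ℳ hf (pr_mem ℳ g x))
    | zero => exact zero_smul _ _
    | add p q _ _ hp hq => rw [add_smul, hp, hq, add_zero]
    | smul c p _ hp => rw [smul_eq_mul, mul_smul, hp, smul_zero]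

end Groth.Agent.GrStarReg
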