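/-
Castelnuovo-Mumford regularity through graded local cohomology
-/
import Groth.Prelude.Def_GrLC
import Groth.Agent.Lib.GrStarNzd
import Groth.Agent.Lib.GrStarReg
import Mathlib

set_option autoImplicit false
open DirectSum
open Groth.Agent.GrStarBasic Groth.Agent.GrStarHull Groth.Agent.GrStarPrime Groth.Agent.GrStarLES Groth.Agent.GrStarVan
open Groth.Agent.GrStarKoszul Groth.Agent.GrStarNzd

universe u

namespace Groth.Agent.GrStarRegLE

variable {R : Type u} [CommRing R] {σ : Type u} [SetLike σ R] [AddSubgroupClass σ R] {𝒜 : ℤ → σ} [GradedRing 𝒜]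
variable (a : HomogeneousIdeal 𝒜)

/-- regularity at most `d` in the sense of local cohomology -/
def RegLE (X : GrLC.GMod.{u} 𝒜) (d : ℤ) : Prop := ∀ (i : ℕ) (g : ℤ), d < g + i → Van a X i g

variable {a}

theorem regLE_mono {X : GrLC.GMod.{u} 𝒜} {d d' : ℤ} (hd : d ≤ d') (h : RegLE a X d) : RegLE a X d' :=
  fun i g hg => h i g (by omega)

theorem regLE_shift {X : GrLC.GMod.{u} 𝒜} {e d : ℤ} (h : RegLE a X (d + e)) : RegLE a (shMod 𝒜 X.gr e) d :=
  fun i g hg => (van_shift e).mpr (h i (g + e) (by omega))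

theorem regLE_congr {X Y : GrLC.GMod.{u} 𝒜} (e : X.carrier ≃ₗ[R] Y.carrier)
    (he : GrLC.IsGrHom X.gr Y.gr e.toLinearMap) {d : ℤ} (h : RegLE a Y d) : RegLE a X d :=
  fun i g hg => van_congr e he (h i g hg)

theorem regLE_of_subsingleton [IsNoetherianRing R] {X : GrLC.GMod.{u} 𝒜} [Subsingleton X.carrier] (d : ℤ) :
    RegLE a X d := fun i g _ => van_of_subsingleton i g

theorem regLE_of_torsion [IsNoetherianRing R] {X : GrLC.GMod.{u} 𝒜}
    (h : ∀ x : X.carrier, x ∈ GrLC.gam a.toIdeal X.carrier) {d : ℤ} (h0 : ∀ g, d < g → ∀ x ∈ X.gr g, x = 0) :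
    RegLE a X d := fun i g hg => by
  cases i with
  | zero => exact van0_iff.mpr fun x hx _ => h0 g (by omega) x hx
  | succ i => exact van_of_torsion h i g

theorem eq_zero_of_regLE {X : GrLC.GMod.{u} 𝒜} (h : ∀ x : X.carrier, x ∈ GrLC.gam a.toIdeal X.carrier) {d : ℤ}
    (hr : RegLE a X d) {g : ℤ} (hg : d < g) {x : X.carrier} (hx : x ∈ X.gr g) : x = 0 :=
  van0_iff.mp (hr 0 g (by omega)) x hx (h x)

section SES

variable {A B C : GrLC.GMod.{u} 𝒜} {f : A.carrier →ₗ[R] B.carrier} {g : B.carrier →ₗ[R] C.carrier}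
  (hfg : GrLC.IsGrHom A.gr B.gr f) (hgg : GrLC.IsGrHom B.gr C.gr g) (hf : Function.Injective f)
  (hg : Function.Surjective g) (hex : Function.Exact f g)
include hfg hgg hf hg hex

theorem regLE_middle {d : ℤ} (hA : RegLE a A d) (hC : RegLE a C d) : RegLE a B d :=
  fun i n hn => van_middle hfg hgg hf hg hex (hA i n hn) (hC i n hn)

theorem regLE_left {d d' : ℤ} (hd : d' + 1 = d) (hB : RegLE a B d) (hC : RegLE a C d') : RegLE a A d :=
  fun i n hn => by
    cases i with
    | zero => exact van0_of_injective hfg hf (hB 0 n hn)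
    | succ i => exact van_left hfg hgg hf hg hex (hC i n (by omega)) (hB (i + 1) n hn)

theorem regLE_right {d d' : ℤ} (hd : d + 1 = d') (hA : RegLE a A d') (hB : RegLE a B d) : RegLE a C d :=
  fun i n hn => van_right hfg hgg hf hg hex (hB i n hn) (hA (i + 1) n (by omega))

end SES

theorem regLE_prod {X Y : GrLC.GMod.{u} 𝒜} {d : ℤ} (hX : RegLE a X d) (hY : RegLE a Y d) :
    RegLE a (prodMod X Y) d := fun i g hg => van_prod (hX i g hg) (hY i g hg)

/-- regularity is read off the diagonal -/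
theorem regLE_iff_diagonal [IsNoetherianRing R] (ha : a.toIdeal = Ideal.span ((𝒜 1 : Set R)))
    {X : GrLC.GMod.{u} 𝒜} (d : ℤ) :
    RegLE a X d ↔ (∀ g, d < g → Van a X 0 g) ∧ ∀ i : ℕ, Van a X (i + 1) (d - i) := by
  refine ⟨fun h => ⟨fun g hg => h 0 g (by omega), fun i => h _ _ (by omega)⟩, fun h i g hg => ?_⟩
  cases i with
  | zero => exact h.1 g (by omega)
  | succ i =>
    have key : ∀ k : ℕ, ∀ i : ℕ, Van a X (i + 1) (d + k - i) := by
      intro k
      induction k with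
      | zero => intro i; rw [Nat.cast_zero, add_zero]; exact h.2 i
      | succ k ih =>
        intro i
        refine van_of_diagonal ha i _ fun p => ?_
        have := ih (i + p)
        rwa [show i + p + 1 = i + 1 + p by omega,
          show d + (k : ℤ) - ((i + p : ℕ) : ℤ) = d + ((k + 1 : ℕ) : ℤ) - i - ((p : ℤ) + 1) by omega] at this
    obtain ⟨k, hk⟩ : ∃ k : ℕ, g = d + k - i := ⟨(g + i - d).toNat, by omega⟩
    rw [hk]; exact key k i

/-- a regular element of positive degree: the regularity of the module is bounded by that of the quotient -/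
theorem regLE_of_smul {X Y : GrLC.GMod.{u} 𝒜} {e : ℤ} (he : 1 ≤ e) {f : R} (hf : f ∈ 𝒜 e) (hfa : f ∈ a.toIdeal)
    (hinj : Function.Injective (fun x : X.carrier => f • x)) {π : X.carrier →ₗ[R] Y.carrier}
    (hπ : GrLC.IsGrHom X.gr Y.gr π) (hs : Function.Surjective π)
    (hex : ∀ x, π x = 0 ↔ ∃ w, f • w = x) {d : ℤ} (hY : RegLE a Y d) : RegLE a X d := fun i g hg => by
  cases i with
  | zero => exact van0_of_nzd hinj hfa g
  | succ i =>
    refine van_of_smul hf hinj hπ hs hex hfa fun k => hY i _ ?_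
    have h1 : (1 : ℤ) * ((k : ℤ) + 1) ≤ e * ((k : ℤ) + 1) := mul_le_mul_of_nonneg_right he (by omega)
    rw [nsmul_eq_mul, mul_comm, Nat.cast_add, Nat.cast_one]
    omega

section Conv

variable {M : Type u} [AddCommGroup M] [Module R M] {τ : Type u} [SetLike τ M] [AddSubgroupClass τ M]
  {ℳ : ℤ → τ} [Decomposition ℳ] [SetLike.GradedSMul 𝒜 ℳ]

theorem endDeg_le_iff {N : Type u} [AddCommGroup N] {𝒢 : ℤ → AddSubgroup N} {d : ℤ} :
    GrLC.endDeg 𝒢 ≤ ((d : WithTop ℤ) : WithBot (WithTop ℤ)) ↔ ∀ g, d < g → 𝒢 g = ⊥ := by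
  simp only [GrLC.endDeg, iSup_le_iff, WithBot.coe_le_coe, WithTop.coe_le_coe]
  exact ⟨fun h g hg => by_contra fun hne => absurd (h g hne) (not_le.mpr hg),
    fun h g hne => not_lt.mp fun hg => hne (h g hg)⟩

theorem add_coe_le_iff {x : WithBot (WithTop ℤ)} {i d : ℤ} :
    x + ((i : WithTop ℤ) : WithBot (WithTop ℤ)) ≤ ((d : WithTop ℤ) : WithBot (WithTop ℤ)) ↔
      x ≤ (((d - i : ℤ) : WithTop ℤ) : WithBot (WithTop ℤ)) := by
  induction x using WithBot.recBotCoe with
  | bot => simp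
  | coe x =>
    rw [← WithBot.coe_add, WithBot.coe_le_coe, WithBot.coe_le_coe]
    induction x using WithTop.recTopCoe with
    | top => simp
    | coe x => rw [← WithTop.coe_add, WithTop.coe_le_coe, WithTop.coe_le_coe]; omega

theorem endDeg_add_le_iff (E : GrLC.StarInjRes 𝒜 ℳ) (a : HomogeneousIdeal 𝒜) (i : ℕ) (d : ℤ) :
    GrLC.endDeg (E.Hgr a i) + (((i : ℤ) : WithTop ℤ) : WithBot (WithTop ℤ)) ≤ ((d : WithTop ℤ) : WithBot (WithTop ℤ)) ↔
      ∀ g, d < g + i → Van a (bundle 𝒜 ℳ) i g := by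
  rw [add_coe_le_iff, endDeg_le_iff]
  exact ⟨fun h g hg => (van_iff' E).mpr (h g (by omega)), fun h g hg => (van_iff' E).mp (h g (by omega))⟩

theorem regLE_iff_endDeg (E : GrLC.StarInjRes 𝒜 ℳ) (a : HomogeneousIdeal 𝒜) (d : ℤ) :
    (∀ i : ℕ, GrLC.endDeg (E.Hgr a i) + (((i : ℤ) : WithTop ℤ) : WithBot (WithTop ℤ)) ≤ ((d : WithTop ℤ) : WithBot (WithTop ℤ))) ↔
      RegLE a (bundle 𝒜 ℳ) d :=
  forall_congr' fun i => endDeg_add_le_iff E a i d

theorem hcomp_iff (E : GrLC.StarInjRes 𝒜 ℳ) (a : HomogeneousIdeal 𝒜) (i : ℕ) (g : ℤ) :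
    E.Hcomp a i g = ⊥ ↔ Van a (bundle 𝒜 ℳ) i g := by
  rw [van_iff' E]
  exact ⟨fun h => (AddSubgroup.eq_bot_iff_forall _).mpr fun x hx => (Submodule.eq_bot_iff _).mp h x hx,
    fun h => (Submodule.eq_bot_iff _).mpr fun x hx => (AddSubgroup.eq_bot_iff_forall _).mp h x hx⟩

theorem iInf_eq_self (x : WithBot (WithTop ℤ)) :
    (⨅ (r : ℤ) (_ : x ≤ ((r : WithTop ℤ) : WithBot (WithTop ℤ))), ((r : WithTop ℤ) : WithBot (WithTop ℤ))) = x := by
  refine le_antisymm ?_ (le_iInf₂ fun r hr => hr)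
  induction x using WithBot.recBotCoe with
  | bot =>
    refine le_bot_iff.mpr (iInf_eq_bot.mpr fun b hb => ?_)
    induction b using WithBot.recBotCoe with
    | bot => exact absurd hb (lt_irrefl _)
    | coe b =>
      induction b using WithTop.recTopCoe with
      | top =>
        exact ⟨0, by rw [iInf_pos bot_le, WithBot.coe_lt_coe]; exact WithTop.coe_lt_top 0⟩
      | coe b =>
        refine ⟨b - 1, ?_⟩
        rw [iInf_pos bot_le, WithBot.coe_lt_coe, WithTop.coe_lt_coe]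
        omega
  | coe x =>
    induction x using WithTop.recTopCoe with
    | top => exact le_top
    | coe x => exact iInf₂_le (f := fun (r : ℤ) (_ : ((x : WithTop ℤ) : WithBot (WithTop ℤ)) ≤ ((r : WithTop ℤ) : WithBot (WithTop ℤ))) => ((r : WithTop ℤ) : WithBot (WithTop ℤ))) x le_rfl

end Conv

end Groth.Agent.GrStarRegLE
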