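/-
Quasi-regular linear forms and regularity
-/
import Groth.Prelude.Def_GrLC
import Groth.Agent.Lib.GrStarRegLE
import Mathlib

set_option autoImplicit false
open DirectSum
open Groth.Agent.GrStarBasic Groth.Agent.GrStarHull Groth.Agent.GrStarPrime Groth.Agent.GrStarLES Groth.Agent.GrStarVan
open Groth.Agent.GrStarNzd Groth.Agent.GrStarRegLE

universe u

namespace Groth.Agent.GrStarQuasi

variable {R : Type u} [CommRing R] {σ : Type u} [SetLike σ R] [AddSubgroupClass σ R] {𝒜 : ℤ → σ} [GradedRing 𝒜]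
variable {a : HomogeneousIdeal 𝒜}

/-- bounded modules are torsion -/
theorem gam_of_bound (ha : a.toIdeal = Ideal.span ((𝒜 1 : Set R))) {X : GrLC.GMod.{u} 𝒜} {n₀ : ℤ}
    (hn : ∀ g, n₀ ≤ g → ∀ x ∈ X.gr g, x = 0) (x : X.carrier) : x ∈ GrLC.gam a.toIdeal X.carrier := by
  classical
  rw [← sum_pr X.gr x]
  refine sum_mem fun g _ => ⟨(n₀ - g).toNat, fun r hr => ?_⟩
  have hr' := Groth.Agent.GrStarReg.pow_le_span a ha _ hr
  clear hr
  induction hr' using Submodule.span_induction with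
  | mem f hf => exact hn _ (by omega) _ (smul_mem 𝒜 X.gr hf (pr_mem X.gr g x))
  | zero => exact zero_smul _ _
  | add p q _ _ hp hq => rw [add_smul, hp, hq, add_zero]
  | smul c p _ hp => rw [smul_eq_mul, mul_smul, hp, smul_zero]

/-- modules of finite length are bounded above -/
theorem exists_bound_fl (hpos : ∀ n : ℤ, n < 0 → ∀ x ∈ 𝒜 n, x = 0) {X : GrLC.GMod.{u} 𝒜}
    (hX : IsFiniteLength R X.carrier) : ∃ n₀ : ℤ, ∀ g, n₀ ≤ g → ∀ x ∈ X.gr g, x = 0 := by
  classical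
  haveI := (isFiniteLength_iff_isNoetherian_isArtinian.mp hX).2
  let N : ℕ →o (Submodule R X.carrier)ᵒᵈ :=
    { toFun := fun n => OrderDual.toDual (Submodule.span R (⋃ (g : ℤ) (_ : (n : ℤ) ≤ g), (X.gr g : Set X.carrier)))
      monotone' := fun m n hmn => by
        refine OrderDual.toDual_le_toDual.mpr (Submodule.span_le.mpr ?_)
        rintro x hx
        obtain ⟨g, hg, hx⟩ := Set.mem_iUnion₂.mp hx
        exact Submodule.subset_span (Set.mem_iUnion₂.mpr ⟨g, by omega, hx⟩) }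
  obtain ⟨K, hK⟩ := IsArtinian.monotone_stabilizes N
  refine ⟨K, fun g hg x hx => ?_⟩
  obtain ⟨n, rfl⟩ : ∃ n : ℕ, g = n := ⟨g.toNat, by omega⟩
  have h1 : x ∈ Submodule.span R (⋃ (g : ℤ) (_ : (n : ℤ) ≤ g), (X.gr g : Set X.carrier)) :=
    Submodule.subset_span (Set.mem_iUnion₂.mpr ⟨_, le_rfl, hx⟩)
  have h2 : x ∈ Submodule.span R (⋃ (g : ℤ) (_ : ((n + 1 : ℕ) : ℤ) ≤ g), (X.gr g : Set X.carrier)) := by
    have e := OrderDual.toDual.injective ((hK n (by omega)).symm.trans (hK (n + 1) (by omega)))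
    exact e ▸ h1
  have key : ∀ y ∈ Submodule.span R (⋃ (g : ℤ) (_ : ((n + 1 : ℕ) : ℤ) ≤ g), (X.gr g : Set X.carrier)),
      ∀ h : ℤ, h ≤ n → pr X.gr h y = 0 := by
    intro y hy
    induction hy using Submodule.span_induction with
    | mem z hz =>
      intro h hh
      obtain ⟨g, hg, hz⟩ := Set.mem_iUnion₂.mp hz
      exact pr_ne X.gr hz (by omega)
    | zero => intro h _; exact map_zero _
    | add p q _ _ hp hq => intro h hh; rw [map_add, hp h hh, hq h hh, add_zero]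
    | smul r p _ hp =>
      intro h hh
      induction r using DirectSum.Decomposition.inductionOn 𝒜 with
      | zero => rw [zero_smul, map_zero]
      | @homogeneous j c =>
        rcases lt_or_ge j 0 with hj | hj
        · rw [hpos j hj _ c.2, zero_smul, map_zero]
        · rw [pr_smul_left 𝒜 X.gr c.2, hp _ (by omega), smul_zero]
      | add c e hc he => rw [add_smul, map_add, hc, he, add_zero]
  rw [← pr_same X.gr hx]
  exact key x h2 _ le_rfl

theorem torsion_of_fl (hpos : ∀ n : ℤ, n < 0 → ∀ x ∈ 𝒜 n, x = 0)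
    (ha : a.toIdeal = Ideal.span ((𝒜 1 : Set R))) {X : GrLC.GMod.{u} 𝒜}
    (hX : IsFiniteLength R X.carrier) (x : X.carrier) : x ∈ GrLC.gam a.toIdeal X.carrier := by
  obtain ⟨n₀, hn⟩ := exists_bound_fl hpos hX
  exact gam_of_bound ha hn x

theorem ker_smul_torsion (hpos : ∀ n : ℤ, n < 0 → ∀ x ∈ 𝒜 n, x = 0)
    (ha : a.toIdeal = Ideal.span ((𝒜 1 : Set R))) {X : GrLC.GMod.{u} 𝒜} {f : R} (hf : f ∈ 𝒜 1)
    (hq : IsFiniteLength R ↥(Submodule.torsionBy R X.carrier f)) {z : X.carrier} (hz : f • z = 0) :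
    z ∈ GrLC.gam a.toIdeal X.carrier := by
  have hP : (Submodule.torsionBy R X.carrier f).IsHomogeneous X.gr := fun g y hy => by
    show f • pr X.gr g y = 0
    have := pr_smul_left 𝒜 X.gr hf y (g + 1)
    rw [show f • y = 0 from hy, map_zero, add_sub_cancel_right] at this
    exact this.symm
  obtain ⟨m, hm⟩ := torsion_of_fl (X := subMod 𝒜 X.gr hP) hpos ha hq ⟨z, hz⟩
  exact ⟨m, fun r hr => congrArg Subtype.val (hm r hr)⟩

section Quasi

variable [IsNoetherianRing R] {X Y : GrLC.GMod.{u} 𝒜} {f : R} (hf : f ∈ 𝒜 1)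
  {π : X.carrier →ₗ[R] Y.carrier} (hπ : GrLC.IsGrHom X.gr Y.gr π) (hs : Function.Surjective π)
  (hex : ∀ x, π x = 0 ↔ ∃ w, f • w = x) (hK : ∀ z : X.carrier, f • z = 0 → z ∈ GrLC.gam a.toIdeal X.carrier)
include hf hπ hs hex hK

theorem van_quot {i : ℕ} {g : ℤ} (h₁ : Van a X i g) (h₂ : Van a X (i + 1) (g - 1)) : Van a Y i g := by
  let μ := mulFrom X 1 f
  have hP := range_homogeneous (closure_pieces (shMod 𝒜 X.gr (-1)).gr) (mulFrom_gr X hf)
  let I := subMod 𝒜 X.gr hP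
  let μ' : (shMod 𝒜 X.gr (-1)).carrier →ₗ[R] I.carrier := μ.rangeRestrict
  have hI : Van a I (i + 1) g :=
    (van_of_ker_torsion (B := shMod 𝒜 X.gr (-1)) (C := I) (g := μ') (fun j x hx => mulFrom_gr X hf j x hx)
      μ.surjective_rangeRestrict (fun x hx => hK x (congrArg Subtype.val hx))).1
      ((van_shift (-1)).mpr (by rwa [← sub_eq_add_neg]))
  exact van_right (A := I) (f := (LinearMap.range μ).subtype) (g := π) (subtype_grHom 𝒜 X.gr hP) hπ Subtype.val_injective hs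
    (fun x => (hex x).trans ⟨fun ⟨w, hw⟩ => ⟨⟨x, w, hw⟩, rfl⟩, by rintro ⟨⟨y, w, hw⟩, rfl⟩; exact ⟨w, hw⟩⟩) h₁ hI

theorem regLE_quot {d : ℤ} (h : RegLE a X d) : RegLE a Y d :=
  fun i g hg => van_quot hf hπ hs hex hK (h i g hg) (h _ _ (by omega))

theorem regLE_of_quot (hfa : f ∈ a.toIdeal) {d : ℤ} (hY : RegLE a Y d) (h0 : ∀ g, d < g → Van a X 0 g) :
    RegLE a X d := by
  let G := subMod 𝒜 X.gr (gam_homogeneous (𝓔 := X.gr) a)
  let p : G.carrier →ₗ[R] Y.carrier := π ∘ₗ (GrLC.gam a.toIdeal X.carrier).subtype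
  have hp : GrLC.IsGrHom G.gr Y.gr p := fun j x hx => hπ j _ hx
  have hT := range_homogeneous (closure_pieces G.gr) hp
  let Y' := quoMod 𝒜 Y.gr hT
  let q : Y.carrier →ₗ[R] Y'.carrier := (LinearMap.range p).mkQ
  have hqt : ∀ y, q y = 0 → y ∈ GrLC.gam a.toIdeal Y.carrier := fun y hy => by
    obtain ⟨x, rfl⟩ := (Submodule.Quotient.mk_eq_zero _).mp hy
    exact gam_map a π x.2
  have hY' : RegLE a Y' d := fun i g hg =>
    (van_of_ker_torsion (g := q) (mkQ_grHom 𝒜 Y.gr hT) (Submodule.mkQ_surjective _) hqt).1 (hY i g hg)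
  have hle : GrLC.gam a.toIdeal X.carrier ≤ LinearMap.ker (q ∘ₗ π) := fun x hx =>
    (Submodule.Quotient.mk_eq_zero _).mpr ⟨⟨x, hx⟩, rfl⟩
  let π' : (gamQuot a X).carrier →ₗ[R] Y'.carrier := (GrLC.gam a.toIdeal X.carrier).liftQ (q ∘ₗ π) hle
  have hX' : RegLE a (gamQuot a X) d := by
    refine regLE_of_smul (X := gamQuot a X) (Y := Y') (e := 1) le_rfl hf hfa (fun u v huv => ?_) (π := π') ?_ ?_ ?_ hY'
    · obtain ⟨x, rfl⟩ := gamMk_surjective a X u
      obtain ⟨y, rfl⟩ := gamMk_surjective a X v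
      refine sub_eq_zero.mp ((map_sub (gamMk a X) x y).symm.trans ((gamMk_eq_zero a).mpr ?_))
      have h1 : f • (x - y) ∈ GrLC.gam a.toIdeal X.carrier := (gamMk_eq_zero a).mp (by
        rw [map_smul, map_sub, smul_sub]; exact sub_eq_zero.mpr huv)
      obtain ⟨m, hm⟩ := h1
      exact mem_gam_of_smul (n := m) fun r hr => hK _ (by rw [smul_comm]; exact hm r hr)
    · rintro g _ ⟨x, hx, rfl⟩
      exact mkQ_grHom 𝒜 Y.gr hT g _ (hπ g x hx)
    · intro u
      obtain ⟨(y : Y.carrier), rfl⟩ := (LinearMap.range p).mkQ_surjective u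
      obtain ⟨x, rfl⟩ := hs y
      exact ⟨gamMk a X x, rfl⟩
    · intro u
      obtain ⟨x, rfl⟩ := gamMk_surjective a X u
      constructor
      · intro hx
        obtain ⟨t, ht⟩ := (Submodule.Quotient.mk_eq_zero (LinearMap.range p)).mp hx
        obtain ⟨w, hw⟩ := (hex (x - t.1)).mp (by rw [map_sub]; exact sub_eq_zero.mpr ht.symm)
        refine ⟨gamMk a X w, ?_⟩
        rw [← map_smul, hw, map_sub, (gamMk_eq_zero a).mpr t.2, sub_zero]
      · rintro ⟨w, hw⟩
        obtain ⟨z, rfl⟩ := gamMk_surjective a X w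
        rw [← map_smul] at hw
        rw [← hw]
        show q (π (f • z)) = 0
        rw [(hex _).mpr ⟨z, rfl⟩, map_zero]
  intro i g hg
  cases i with
  | zero => exact h0 g (by omega)
  | succ i => exact (van_gamQuot_iff X i g).mp (hX' _ g hg)

end Quasi

end Groth.Agent.GrStarQuasi
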