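/-
Regular sequences of linear forms and regularity
-/
import Groth.Prelude.Def_GrLC
import Groth.Agent.Lib.GrStarQuasi
import Mathlib

set_option autoImplicit false
open DirectSum Pointwise
open Groth.Agent.GrStarBasic Groth.Agent.GrStarHull Groth.Agent.GrStarPrime Groth.Agent.GrStarVan
open Groth.Agent.GrStarNzd Groth.Agent.GrStarRegLE Groth.Agent.GrStarQuasi

universe u

namespace Groth.Agent.GrStarSeq

variable {R : Type u} [CommRing R] [IsNoetherianRing R] {σ : Type u} [SetLike σ R] [AddSubgroupClass σ R]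
  {𝒜 : ℤ → σ} [GradedRing 𝒜] {a : HomogeneousIdeal 𝒜}

theorem regLE_iff_of_seq : ∀ (ys : List R), (∀ y ∈ ys, y ∈ 𝒜 1 ∧ y ∈ a.toIdeal) →
    ∀ (X Y : GrLC.GMod.{u} 𝒜), RingTheory.Sequence.IsWeaklyRegular X.carrier ys →
    ∀ (π : X.carrier →ₗ[R] Y.carrier), GrLC.IsGrHom X.gr Y.gr π → Function.Surjective π →
    LinearMap.ker π = Ideal.ofList ys • (⊤ : Submodule R X.carrier) →
    ∀ d : ℤ, RegLE a X d ↔ RegLE a Y d := by
  intro ys
  induction ys with
  | nil =>
    intro _ X Y _ π hπ hs hk d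
    have hinj : Function.Injective π := LinearMap.ker_eq_bot.mp (by rw [hk, Ideal.ofList_nil, Submodule.bot_smul])
    let e := LinearEquiv.ofBijective π ⟨hinj, hs⟩
    exact ⟨regLE_congr e.symm (symm_grHom (e := e) hπ), regLE_congr e hπ⟩
  | cons y ys ih =>
    intro hys X Y hreg π hπ hs hk d
    obtain ⟨hy, hreg'⟩ := (RingTheory.Sequence.isWeaklyRegular_cons_iff X.carrier y ys).mp hreg
    obtain ⟨hy1, hya⟩ := hys y List.mem_cons_self
    let P : Submodule R X.carrier := y • (⊤ : Submodule R X.carrier)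
    have hP : P.IsHomogeneous X.gr := by
      intro g x hx
      obtain ⟨w, -, rfl⟩ := (Submodule.mem_smul_pointwise_iff_exists x y (⊤ : Submodule R X.carrier)).mp hx
      show pr X.gr g (y • w) ∈ P
      rw [pr_smul_left 𝒜 X.gr hy1]
      exact Submodule.smul_mem_pointwise_smul _ y _ Submodule.mem_top
    let X' := quoMod 𝒜 X.gr hP
    let q : X.carrier →ₗ[R] X'.carrier := P.mkQ
    have hq : GrLC.IsGrHom X.gr X'.gr q := mkQ_grHom 𝒜 X.gr hP
    have hex : ∀ x, q x = 0 ↔ ∃ w, y • w = x := fun x =>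
      (Submodule.Quotient.mk_eq_zero P).trans ((Submodule.mem_smul_pointwise_iff_exists x y _).trans
        ⟨fun ⟨w, _, hw⟩ => ⟨w, hw⟩, fun ⟨w, hw⟩ => ⟨w, Submodule.mem_top, hw⟩⟩)
    have hK : ∀ z : X.carrier, y • z = 0 → z ∈ GrLC.gam a.toIdeal X.carrier := fun z hz => by
      rw [hy.right_eq_zero_of_smul hz]; exact zero_mem _
    have h1 : RegLE a X d ↔ RegLE a X' d :=
      ⟨regLE_quot hy1 hq (Submodule.mkQ_surjective _) hex hK, fun h =>
        regLE_of_quot hy1 hq (Submodule.mkQ_surjective _) hex hK hya h fun g _ => van0_of_nzd hy hya g⟩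
    have hle : P ≤ LinearMap.ker π := fun x hx => by
      obtain ⟨w, -, rfl⟩ := (Submodule.mem_smul_pointwise_iff_exists x y _).mp hx
      rw [hk]
      exact Submodule.smul_mem_smul (Ideal.subset_span List.mem_cons_self) Submodule.mem_top
    let π' : X'.carrier →ₗ[R] Y.carrier := P.liftQ π hle
    refine h1.trans (ih (fun z hz => hys z (List.mem_cons_of_mem y hz)) X' Y hreg' π' ?_ ?_ ?_ d)
    · rintro g _ ⟨x, hx, rfl⟩
      exact hπ g x hx
    · intro u
      obtain ⟨x, rfl⟩ := hs u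
      exact ⟨q x, rfl⟩
    · refine (Submodule.ker_liftQ P π hle).trans ?_
      rw [hk, Ideal.ofList_cons, Submodule.sup_smul, Submodule.map_sup, Submodule.map_smul'', Submodule.map_smul'',
        Submodule.map_top, Submodule.range_mkQ]
      refine sup_eq_right.mpr (Submodule.smul_le.mpr fun r hr z _ => ?_)
      obtain ⟨c, rfl⟩ := Ideal.mem_span_singleton'.mp hr
      obtain ⟨w, rfl⟩ := P.mkQ_surjective z
      rw [← map_smul, show (c * y) • w = y • (c • w) by rw [smul_smul, mul_comm]]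
      rw [show P.mkQ (y • (c • w)) = 0 from (Submodule.Quotient.mk_eq_zero P).mpr
        (Submodule.smul_mem_pointwise_smul _ y _ Submodule.mem_top)]
      exact zero_mem _

end Groth.Agent.GrStarSeq
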