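/-
The a-invariant modulo a homogeneous regular sequence
-/
import Groth.Prelude.Def_GrLC
import Groth.Prelude.Def_CAlg
import Groth.Agent.Lib.GrStarNzd
import Groth.Agent.Lib.GrStarRegLE
import Groth.Agent.Lib.GrStarAcyclic
import Groth.Agent.Lib.GrStarSeq
import Groth.Agent.Lib.GrCoreHeight
import Groth.Agent.S14424
import Mathlib

set_option autoImplicit false
open DirectSum Pointwise
open Groth.Agent.GrStarBasic Groth.Agent.GrStarHull Groth.Agent.GrStarPrime Groth.Agent.GrStarVan Groth.Agent.GrStarLES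
open Groth.Agent.GrStarNzd Groth.Agent.GrStarRegLE

universe u

namespace Groth.Agent.GrStarAInv

section Step

variable {R : Type u} [CommRing R] [IsNoetherianRing R] {σ : Type u} [SetLike σ R] [AddSubgroupClass σ R]
  {𝒜 : ℤ → σ} [GradedRing 𝒜] {a : HomogeneousIdeal 𝒜}

/-- cohomology of the cokernel of a non-zero-divisor on a module with one vanishing cohomology -/
theorem step {X Y : GrLC.GMod.{u} 𝒜} {e : ℤ} {f : R} (hf : f ∈ 𝒜 e) (hfa : f ∈ a.toIdeal)
    (hinj : Function.Injective (fun x : X.carrier => f • x))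
    {π : X.carrier →ₗ[R] Y.carrier} (hπ : GrLC.IsGrHom X.gr Y.gr π) (hs : Function.Surjective π)
    (hex : ∀ x, π x = 0 ↔ ∃ w, f • w = x) {i : ℕ} :
    (∀ g, Van a X i g) → (∀ g, Van a X (i + 1) (g + -e) → Van a Y i g) ∧
      (∀ g, (∀ k : ℕ, Van a Y i (g + (k + 1) • e)) → Van a X (i + 1) g) := by
  intro hX
  refine ⟨fun g hg => ?_, fun g hg => van_of_smul hf hinj hπ hs hex hfa hg⟩
  refine van_right (mulFrom_gr X hf) hπ hinj hs
    (fun x => (hex x).trans ⟨fun ⟨w, hw⟩ => ⟨w, hw⟩, fun ⟨w, hw⟩ => ⟨w, hw⟩⟩) (hX g) ?_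
  exact (van_shift (-e)).mpr hg

/-- the top cohomology modulo a regular sequence of homogeneous elements -/
theorem of_seq : ∀ (fs : List (R × ℤ)), (∀ p ∈ fs, p.1 ∈ 𝒜 p.2 ∧ p.1 ∈ a.toIdeal ∧ 0 ≤ p.2) →
    ∀ (n : ℕ), fs.length ≤ n → ∀ (X Y : GrLC.GMod.{u} 𝒜),
    RingTheory.Sequence.IsWeaklyRegular X.carrier (fs.map Prod.fst) → (∀ i < n, ∀ g, Van a X i g) →
    ∀ (π : X.carrier →ₗ[R] Y.carrier), GrLC.IsGrHom X.gr Y.gr π → Function.Surjective π →
    LinearMap.ker π = Ideal.ofList (fs.map Prod.fst) • (⊤ : Submodule R X.carrier) →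
    ∀ D : ℤ, (∀ g, D < g → Van a Y (n - fs.length) g) ↔
      ∀ g, D - (fs.map Prod.snd).sum < g → Van a X n g := by
  intro fs
  induction fs with
  | nil =>
    intro _ n _ X Y _ _ π hπ hs hk D
    have hinj : Function.Injective π := LinearMap.ker_eq_bot.mp (by rw [hk, List.map_nil, Ideal.ofList_nil, Submodule.bot_smul])
    let e := LinearEquiv.ofBijective π ⟨hinj, hs⟩
    simp only [List.length_nil, Nat.sub_zero, List.map_nil, List.sum_nil, sub_zero]
    exact ⟨fun h g hg => van_congr e hπ (h g hg), fun h g hg => van_congr e.symm (symm_grHom (e := e) hπ) (h g hg)⟩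
  | cons p fs ih =>
    obtain ⟨y, d⟩ := p
    intro hfs n hn X Y hreg hlow π hπ hs hk D
    rw [List.map_cons] at hreg
    obtain ⟨hy, hreg'⟩ := (RingTheory.Sequence.isWeaklyRegular_cons_iff X.carrier y _).mp hreg
    obtain ⟨hyd, hya, hd0⟩ := hfs _ List.mem_cons_self
    simp only at hyd hya hd0
    let P : Submodule R X.carrier := y • (⊤ : Submodule R X.carrier)
    have hP : P.IsHomogeneous X.gr := by
      intro g x hx
      obtain ⟨w, -, rfl⟩ := (Submodule.mem_smul_pointwise_iff_exists x y (⊤ : Submodule R X.carrier)).mp hx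
      show pr X.gr g (y • w) ∈ P
      rw [pr_smul_left 𝒜 X.gr hyd]
      exact Submodule.smul_mem_pointwise_smul _ y _ Submodule.mem_top
    let X' := quoMod 𝒜 X.gr hP
    let q : X.carrier →ₗ[R] X'.carrier := P.mkQ
    have hq : GrLC.IsGrHom X.gr X'.gr q := mkQ_grHom 𝒜 X.gr hP
    have hex : ∀ x, q x = 0 ↔ ∃ w, y • w = x := fun x =>
      (Submodule.Quotient.mk_eq_zero P).trans ((Submodule.mem_smul_pointwise_iff_exists x y _).trans
        ⟨fun ⟨w, _, hw⟩ => ⟨w, hw⟩, fun ⟨w, hw⟩ => ⟨w, Submodule.mem_top, hw⟩⟩)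
    obtain ⟨m, rfl⟩ : ∃ m, n = m + 1 := ⟨n - 1, by simp at hn; omega⟩
    have st := fun i => step (a := a) (i := i) hyd hya hy hq (Submodule.mkQ_surjective _) hex
    have hlow' : ∀ i < m, ∀ g, Van a X' i g := fun i hi g =>
      (st i (hlow i (by omega))).1 g (hlow (i + 1) (by omega) _)
    have hle : P ≤ LinearMap.ker π := fun x hx => by
      obtain ⟨w, -, rfl⟩ := (Submodule.mem_smul_pointwise_iff_exists x y _).mp hx
      rw [hk]
      exact Submodule.smul_mem_smul (Ideal.subset_span List.mem_cons_self) Submodule.mem_top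
    let π' : X'.carrier →ₗ[R] Y.carrier := P.liftQ π hle
    have key := ih (fun z hz => hfs z (List.mem_cons_of_mem _ hz)) m (by simpa using hn) X' Y hreg' hlow' π'
      (by rintro g _ ⟨x, hx, rfl⟩; exact hπ g x hx)
      (fun u => by obtain ⟨x, rfl⟩ := hs u; exact ⟨q x, rfl⟩)
      (by
        refine (Submodule.ker_liftQ P π hle).trans ?_
        rw [hk, List.map_cons, Ideal.ofList_cons, Submodule.sup_smul, Submodule.map_sup, Submodule.map_smul'',
          Submodule.map_smul'', Submodule.map_top, Submodule.range_mkQ]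
        refine sup_eq_right.mpr (Submodule.smul_le.mpr fun r hr z _ => ?_)
        obtain ⟨c, rfl⟩ := Ideal.mem_span_singleton'.mp hr
        obtain ⟨w, rfl⟩ := P.mkQ_surjective z
        rw [← map_smul, show (c * y) • w = y • (c • w) by rw [smul_smul, mul_comm]]
        rw [show P.mkQ (y • (c • w)) = 0 from (Submodule.Quotient.mk_eq_zero P).mpr
          (Submodule.smul_mem_pointwise_smul _ y _ Submodule.mem_top)]
        exact zero_mem _) D
    simp only [List.length_cons, Nat.add_sub_add_right, List.map_cons, List.sum_cons]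
    refine key.trans ⟨fun h g hg => ?_, fun h g hg => ?_⟩
    · refine (st m (hlow m (by omega))).2 g fun k => h _ ?_
      have : d ≤ (k + 1) • d := by
        rw [nsmul_eq_mul, Nat.cast_succ, add_mul, one_mul]
        exact le_add_of_nonneg_left (mul_nonneg (Int.natCast_nonneg k) hd0)
      omega
    · exact (st m (hlow m (by omega))).1 g (h _ (by omega))

end Step

theorem eq_of_forall_le {x y : WithBot (WithTop ℤ)}
    (h : ∀ d : ℤ, x ≤ ((d : WithTop ℤ) : WithBot (WithTop ℤ)) ↔ y ≤ ((d : WithTop ℤ) : WithBot (WithTop ℤ))) :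
    x = y := by
  rw [← iInf_eq_self x, ← iInf_eq_self y]
  exact iInf_congr fun d => iInf_congr_Prop (h d) fun _ => rfl

section CM

variable {R : Type u} [CommRing R] [LocCoh.IsCohenMacaulayRing R] {𝒜 : ℤ → AddSubgroup R} [GradedRing 𝒜]
  (hpos : ∀ n : ℤ, n < 0 → 𝒜 n = ⊥) {m : HomogeneousIdeal 𝒜} (hm : GrLC.IsStarLocal 𝒜 m)

include hpos hm in
/-- vanishing below the dimension -/
theorem van_low {n : ℕ} (hn : ringKrullDim R = n) : ∀ i < n, ∀ g, Van m (bundle 𝒜 𝒜) i g := by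
  intro i hi g E
  haveI := Groth.Agent.S7719.result R 𝒜 m hm.1
  have h1 : LocCoh.idealDepth m.toIdeal R = m.toIdeal.height :=
    (Groth.Agent.S14424.result R).mp inferInstance _ (Ideal.IsPrime.ne_top ‹_›)
  have h2 : m.toIdeal.height = n := WithBot.coe_inj.mp ((Groth.Agent.GrCoreHeight.height_eq_dim hpos hm).trans hn)
  obtain ⟨φ⟩ := Groth.Agent.GrStarAcyclic.exists_H_equiv E m i
  haveI : Subsingleton (LocCoh.H m.toIdeal i R) := Groth.Agent.H2DepthLocal.le_idealDepth_iff.mp (by rw [h1, h2]) i hi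
  haveI : Subsingleton (LocCoh.H m.toIdeal i (bundle 𝒜 𝒜).carrier) :=
    (inferInstance : Subsingleton (LocCoh.H m.toIdeal i R))
  haveI := φ.subsingleton
  exact (AddSubgroup.eq_bot_iff_forall _).mpr fun x _ => Subsingleton.elim x 0

include hpos hm in
theorem endDeg_eq {n : ℕ} (hn : ringKrullDim R = n) (I : GrLC.StarInjRes 𝒜 𝒜)
    (fs : List (R × ℤ)) (hfs : ∀ p ∈ fs, p.1 ∈ 𝒜 p.2 ∧ p.1 ∈ m.toIdeal) (hlen : fs.length ≤ n)
    (hreg : RingTheory.Sequence.IsWeaklyRegular R (fs.map Prod.fst))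
    {N : Type u} [AddCommGroup N] [Module R N] {𝒩 : ℤ → AddSubgroup N} [DirectSum.Decomposition 𝒩]
    [SetLike.GradedSMul 𝒜 𝒩] (π : R →ₗ[R] N) (hπ : GrLC.IsGrHom 𝒜 𝒩 π) (hs : Function.Surjective π)
    (hk : LinearMap.ker π = Ideal.ofList (fs.map Prod.fst)) (F : GrLC.StarInjRes 𝒜 𝒩) :
    GrLC.endDeg (F.Hgr m (n - fs.length)) = GrLC.endDeg (I.Hgr m n) +
      ((((fs.map Prod.snd).sum : ℤ) : WithTop ℤ) : WithBot (WithTop ℤ)) := by
  haveI hmp := Groth.Agent.S7719.result R 𝒜 m hm.1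
  have hpos' : ∀ p ∈ fs, 0 ≤ p.2 := by
    intro p hp
    by_contra hneg
    obtain ⟨i, hi, rfl⟩ := List.getElem_of_mem hp
    have h0 : fs[i].1 = 0 := (AddSubgroup.eq_bot_iff_forall _).mp (hpos _ (not_le.mp hneg)) _ (hfs _ hp).1
    have hr := hreg.regular_mod_prev i (by simpa using hi)
    rw [List.getElem_map, h0] at hr
    let J : Ideal R := Ideal.ofList ((fs.map Prod.fst).take i)
    have h1 : (Submodule.Quotient.mk (1 : R) : R ⧸ (J • ⊤ : Submodule R R)) = 0 :=
      hr (by show (0 : R) • _ = (0 : R) • _; rw [zero_smul, zero_smul])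
    rw [Submodule.Quotient.mk_eq_zero] at h1
    refine hmp.ne_top ((Ideal.eq_top_iff_one _).mpr ((?_ : J • (⊤ : Submodule R R) ≤ m.toIdeal) h1))
    rw [smul_eq_mul, Ideal.mul_top]
    refine Ideal.span_le.mpr fun z hz => ?_
    obtain ⟨p, hp', rfl⟩ := List.mem_map.mp (List.mem_of_mem_take hz)
    exact (hfs p hp').2
  refine eq_of_forall_le fun D => ?_
  rw [add_coe_le_iff, endDeg_le_iff, endDeg_le_iff]
  have key := of_seq (a := m) fs (fun p hp => ⟨(hfs p hp).1, (hfs p hp).2, hpos' p hp⟩) n hlen (bundle 𝒜 𝒜)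
    (bundle 𝒜 𝒩) hreg (van_low hpos hm hn) π hπ hs (hk.trans
      (show Ideal.ofList (fs.map Prod.fst) • (⊤ : Submodule R R) = Ideal.ofList (fs.map Prod.fst) by
        rw [smul_eq_mul, Ideal.mul_top]).symm) D
  exact ⟨fun h g hg => (van_iff' I).mp (key.mp (fun g hg => (van_iff' F).mpr (h g hg)) g hg),
    fun h g hg => (van_iff' F).mp (key.mpr (fun g hg => (van_iff' I).mpr (h g hg)) g hg)⟩

end CM

end Groth.Agent.GrStarAInv
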