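/-
Minimal graded free resolutions
-/
import Groth.Prelude.Def_GrSyz
import Groth.Agent.Lib.GrFreeGraded
import Mathlib

set_option autoImplicit false
open DirectSum
open Groth.Agent.GrFreeGraded

universe u

namespace Groth.Agent.GrSyzBasic

variable {k R : Type u} [CommRing k] [CommRing R] [Algebra k R] (𝒜 : ℤ → Submodule k R) [GradedAlgebra 𝒜]

/-- non-negatively graded with scalars in degree zero -/
structure Std : Prop where
  neg : ∀ n : ℤ, n < 0 → ∀ a ∈ 𝒜 n, a = 0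
  zero : ∀ a ∈ 𝒜 0, a ≠ 0 → IsUnit a

variable {𝒜}

theorem proj_irrel (h : Std 𝒜) {n : ℤ} (hn : n ≤ 0) {x : R} (hx : x ∈ (GrSyz.irrel 𝒜).toIdeal) :
    proj 𝒜 n x = 0 := by
  have hx' : x ∈ Ideal.span {r : R | ∃ m : ℤ, 0 < m ∧ r ∈ 𝒜 m} := hx
  clear hx
  induction hx' using Submodule.span_induction generalizing n with
  | mem y hy => obtain ⟨m, hm, hy⟩ := hy; exact proj_ne 𝒜 hy (by omega)
  | zero => exact proj_zero 𝒜 n
  | add y z _ _ hy hz => rw [proj_add, hy hn, hz hn, add_zero]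
  | smul a y _ hy =>
    induction a using DirectSum.Decomposition.inductionOn 𝒜 with
    | zero => simp [proj_zero]
    | @homogeneous i a =>
      rw [proj_smul_left 𝒜 𝒜 a.2]
      rcases lt_or_ge i 0 with hi | hi
      · rw [h.neg i hi _ a.2, zero_smul]
      · rw [hy (by omega), smul_zero]
    | add a c ha hc => rw [add_smul, proj_add, ha, hc, add_zero]

theorem one_notMem (h : Std 𝒜) [Nontrivial R] : (1 : R) ∉ (GrSyz.irrel 𝒜).toIdeal := fun h1 => by
  have := proj_irrel h le_rfl h1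
  rw [proj_same 𝒜 (SetLike.one_mem_graded 𝒜)] at this
  exact one_ne_zero this

theorem mem_irrel (h : Std 𝒜) {x : R} (hx : proj 𝒜 0 x = 0) : x ∈ (GrSyz.irrel 𝒜).toIdeal := by
  classical
  rw [← DirectSum.sum_support_decompose 𝒜 x]
  refine sum_mem fun n hn => ?_
  rcases lt_trichotomy n 0 with h0 | h0 | h0
  · rw [h.neg n h0 _ (decompose 𝒜 x n).2]; exact zero_mem _
  · subst h0
    rw [show ((decompose 𝒜 x 0 : 𝒜 0) : R) = 0 from hx]; exact zero_mem _
  · exact Ideal.subset_span ⟨n, h0, (decompose 𝒜 x n).2⟩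

theorem pos_of_mem_irrel (h : Std 𝒜) {n : ℤ} {x : R} (hx : x ∈ 𝒜 n)
    (hm : x ∈ (GrSyz.irrel 𝒜).toIdeal) (h0 : x ≠ 0) : 0 < n := by
  by_contra hn
  exact h0 ((proj_same 𝒜 hx).symm.trans (proj_irrel h (not_lt.mp hn) hm))

theorem mem_irrel_of_ne (h : Std 𝒜) {n : ℤ} {x : R} (hx : x ∈ 𝒜 n) (hn : n ≠ 0) :
    x ∈ (GrSyz.irrel 𝒜).toIdeal :=
  mem_irrel h (proj_ne 𝒜 hx hn)

section Gens

variable {M : Type u} [AddCommGroup M] [Module k M] [Module R M] (ℳ : ℤ → Submodule k M)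
  [Decomposition ℳ] [SetLike.GradedSMul 𝒜 ℳ]

/-- no member is a combination of the others -/
def Irredundant (R : Type u) [CommRing R] {M : Type u} [AddCommGroup M] [Module R M] {r : ℕ}
    (g : Fin r → M) : Prop :=
  ∀ b, g b ∉ Submodule.span R (g '' {b' | b' ≠ b})

theorem irredundant_of_ker (h : Std 𝒜) [Nontrivial R] {r : ℕ} (g : Fin r → M)
    (hk : ∀ v ∈ LinearMap.ker (Fintype.linearCombination R g), ∀ b, v b ∈ (GrSyz.irrel 𝒜).toIdeal) :
    Irredundant R g := by
  classical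
  intro b hb
  obtain ⟨l, hl, e⟩ := (Finsupp.mem_span_image_iff_linearCombination R).mp hb
  have hl0 : l b = 0 := by
    by_contra h0
    exact (hl (Finsupp.mem_support_iff.mpr h0)) rfl
  refine one_notMem h ?_
  have := hk ((Pi.single b 1 : Fin r → R) - ⇑l) ?_ b
  · simpa [hl0] using this
  · rw [LinearMap.mem_ker, map_sub, sub_eq_zero, Fintype.linearCombination_apply_single, one_smul,
      ← e, Fintype.linearCombination_apply, Finsupp.linearCombination_apply,
      Finsupp.sum_fintype _ _ (fun i => zero_smul R (g i))]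

theorem ker_of_irredundant (h : Std 𝒜) {r : ℕ} {g : Fin r → M} {δ : Fin r → ℤ}
    (hg : ∀ b, g b ∈ ℳ (δ b)) (hi : Irredundant R g) {v : Fin r → R}
    (hv : v ∈ LinearMap.ker (Fintype.linearCombination R g)) (b : Fin r) :
    v b ∈ (GrSyz.irrel 𝒜).toIdeal := by
  classical
  refine mem_irrel h (by_contra fun h0 => hi b ?_)
  let w := proj (fGr 𝒜 δ) (δ b) v
  have hw := (isGr_lc 𝒜 ℳ hg).ker_proj (δ b) hv
  have hwb : w b = proj 𝒜 0 (v b) := by simp [w, proj_fGr 𝒜]
  obtain ⟨c, hc⟩ := h.zero _ (proj_mem 𝒜 0 (v b)) h0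
  rw [LinearMap.mem_ker, Fintype.linearCombination_apply,
    ← Finset.add_sum_erase _ _ (Finset.mem_univ b)] at hw
  have e : g b = (↑c⁻¹ : R) • (-∑ x ∈ Finset.univ.erase b, w x • g x) := by
    have hh : w b • g b = -∑ x ∈ Finset.univ.erase b, w x • g x := eq_neg_of_add_eq_zero_left hw
    rw [← hh, hwb, ← hc, smul_smul, Units.inv_mul, one_smul]
  rw [e]
  exact Submodule.smul_mem _ _ (neg_mem (sum_mem fun x hx => Submodule.smul_mem _ _
    (Submodule.subset_span ⟨x, (Finset.mem_erase.mp hx).1, rfl⟩)))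

/-- a minimal system of homogeneous generators of a homogeneous submodule -/
theorem exists_minGens {K : Submodule R M} (hK : K.FG) (hh : ∀ n, ∀ x ∈ K, proj ℳ n x ∈ K) :
    ∃ (r : ℕ) (g : Fin r → M) (δ : Fin r → ℤ), (∀ b, g b ∈ ℳ (δ b)) ∧
      Submodule.span R (Set.range g) = K ∧ Irredundant R g := by
  classical
  have hex : ∃ (r : ℕ) (g : Fin r → M) (δ : Fin r → ℤ), (∀ b, g b ∈ ℳ (δ b)) ∧
      Submodule.span R (Set.range g) = K := by
    obtain ⟨t, ht⟩ := hK
    let U : Finset (ℤ × M) := t.biUnion fun x =>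
      (DFinsupp.support (decompose ℳ x)).image fun n => (n, proj ℳ n x)
    refine ⟨U.card, fun b => (U.equivFin.symm b).1.2, fun b => (U.equivFin.symm b).1.1, fun b => ?_, ?_⟩
    · obtain ⟨x, _, hy⟩ := Finset.mem_biUnion.mp (U.equivFin.symm b).2
      obtain ⟨n, _, e⟩ := Finset.mem_image.mp hy
      show (U.equivFin.symm b).1.2 ∈ ℳ (U.equivFin.symm b).1.1
      rw [← e]
      exact proj_mem ℳ n x
    · refine le_antisymm (Submodule.span_le.mpr ?_) ?_
      · rintro _ ⟨b, rfl⟩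
        obtain ⟨x, hx, hy⟩ := Finset.mem_biUnion.mp (U.equivFin.symm b).2
        obtain ⟨n, _, e⟩ := Finset.mem_image.mp hy
        show (U.equivFin.symm b).1.2 ∈ K
        rw [← e]
        exact hh n x (ht ▸ Submodule.subset_span hx)
      · rw [← ht, Submodule.span_le]
        intro x hx
        rw [← DirectSum.sum_support_decompose ℳ x]
        refine sum_mem fun n hn => ?_
        have hm : (n, proj ℳ n x) ∈ U :=
          Finset.mem_biUnion.mpr ⟨x, hx, Finset.mem_image.mpr ⟨n, hn, rfl⟩⟩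
        exact Submodule.subset_span ⟨U.equivFin ⟨_, hm⟩, by simp [proj]⟩
  obtain ⟨g, δ, hg, hs⟩ := Nat.find_spec hex
  refine ⟨_, g, δ, hg, hs, fun b hb => ?_⟩
  obtain ⟨m, hm⟩ : ∃ m, Nat.find hex = m + 1 := ⟨_, (Nat.succ_pred_eq_of_pos (Fin.pos b)).symm⟩
  refine Nat.find_min hex (show m < Nat.find hex by omega) ⟨g ∘ Fin.cast hm.symm ∘ (Fin.cast hm b).succAbove,
    δ ∘ Fin.cast hm.symm ∘ (Fin.cast hm b).succAbove, fun c => hg _, ?_⟩
  have himg : g '' {b' | b' ≠ b} ⊆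
      Set.range (g ∘ Fin.cast hm.symm ∘ (Fin.cast hm b).succAbove) := by
    rintro _ ⟨b', hb', rfl⟩
    obtain ⟨c, hc⟩ := Fin.exists_succAbove_eq (show Fin.cast hm b' ≠ Fin.cast hm b from
      fun e => hb' (Fin.cast_injective hm e))
    exact ⟨c, by simp [hc]⟩
  refine le_antisymm (Submodule.span_le.mpr ?_) ?_
  · rintro _ ⟨c, rfl⟩; exact hs.le (Submodule.subset_span (Set.mem_range_self _))
  · refine hs.ge.trans (Submodule.span_le.mpr ?_)
    rintro _ ⟨b', rfl⟩
    by_cases hbb : b' = b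
    · subst hbb; exact Submodule.span_mono himg hb
    · exact Submodule.subset_span (himg ⟨b', hbb, rfl⟩)

end Gens

section Res

variable (𝒜) {M : Type u} [AddCommGroup M] [Module k M] [Module R M] (ℳ : ℤ → Submodule k M)
  [Decomposition ℳ] [SetLike.GradedSMul 𝒜 ℳ]

/-- a homogeneous submodule of a graded free module -/
structure St where
  r : ℕ
  δ : Fin r → ℤ
  K : Submodule R (Fin r → R)
  hom : ∀ n, ∀ x ∈ K, proj (fGr 𝒜 δ) n x ∈ K

variable [IsNoetherianRing R]

/-- the next syzygy -/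
noncomputable def St.next (S : St 𝒜) : St 𝒜 :=
  let h := exists_minGens (fGr 𝒜 S.δ) (IsNoetherian.noetherian S.K) S.hom
  ⟨h.choose, h.choose_spec.choose_spec.choose,
    LinearMap.ker (Fintype.linearCombination R h.choose_spec.choose),
    fun n _ hx => (isGr_lc 𝒜 (fGr 𝒜 S.δ) h.choose_spec.choose_spec.choose_spec.1).ker_proj n hx⟩

/-- the matrix into the given stage -/
noncomputable def St.mat (S : St 𝒜) : Matrix (Fin S.r) (Fin (S.next 𝒜).r) R :=
  let h := exists_minGens (fGr 𝒜 S.δ) (IsNoetherian.noetherian S.K) S.hom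
  fun a b => h.choose_spec.choose b a

theorem St.mat_mem (S : St 𝒜) (a : Fin S.r) (b : Fin (S.next 𝒜).r) :
    S.mat 𝒜 a b ∈ 𝒜 ((S.next 𝒜).δ b - S.δ a) :=
  (mem_fGr 𝒜).mp ((exists_minGens (fGr 𝒜 S.δ) (IsNoetherian.noetherian S.K) S.hom).choose_spec.choose_spec.choose_spec.1 b) a

theorem St.range_mat (S : St 𝒜) : LinearMap.range (Matrix.mulVecLin (S.mat 𝒜)) = S.K := by
  rw [mulVecLin_eq, Fintype.range_linearCombination]
  exact (exists_minGens (fGr 𝒜 S.δ) (IsNoetherian.noetherian S.K) S.hom).choose_spec.choose_spec.choose_spec.2.1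

theorem St.ker_mat (S : St 𝒜) : LinearMap.ker (Matrix.mulVecLin (S.mat 𝒜)) = (S.next 𝒜).K := by
  rw [mulVecLin_eq]; rfl

theorem St.mat_minimal (h : Std 𝒜) (S : St 𝒜) {v : Fin (S.next 𝒜).r → R} (hv : v ∈ (S.next 𝒜).K) (b) :
    v b ∈ (GrSyz.irrel 𝒜).toIdeal :=
  ker_of_irredundant (fGr 𝒜 S.δ) h
    (exists_minGens (fGr 𝒜 S.δ) (IsNoetherian.noetherian S.K) S.hom).choose_spec.choose_spec.choose_spec.1
    (exists_minGens (fGr 𝒜 S.δ) (IsNoetherian.noetherian S.K) S.hom).choose_spec.choose_spec.choose_spec.2.2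
    hv b

/-- iterated syzygies -/
noncomputable def St.iter (S : St 𝒜) : ℕ → St 𝒜
  | 0 => S
  | n + 1 => (St.iter S n).next 𝒜

omit [IsNoetherianRing R] in
theorem col_mem {r s : ℕ} (d : Matrix (Fin r) (Fin s) R) (b : Fin s) :
    (fun a => d a b) ∈ LinearMap.range (Matrix.mulVecLin d) :=
  ⟨Pi.single b 1, by rw [mulVecLin_eq, Fintype.linearCombination_apply_single, one_smul]⟩

theorem exists_minimal (h : Std 𝒜) [Module.Finite R M] :
    ∃ F : GrSyz.FreeRes 𝒜 ℳ, F.IsMinimal (GrSyz.irrel 𝒜).toIdeal := by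
  classical
  obtain ⟨r, g, δ, hg, hs, hi⟩ := exists_minGens ℳ (R := R) (K := ⊤) Module.Finite.fg_top
    (fun _ _ _ => Submodule.mem_top)
  let S₀ : St 𝒜 := ⟨r, δ, LinearMap.ker (Fintype.linearCombination R g),
    fun n _ hx => (isGr_lc 𝒜 ℳ hg).ker_proj n hx⟩
  let F : GrSyz.FreeRes 𝒜 ℳ :=
    { rk := fun i => (S₀.iter 𝒜 i).r
      deg := fun i => (S₀.iter 𝒜 i).δ
      d := fun i => (S₀.iter 𝒜 i).mat 𝒜
      aug := g
      d_mem := fun i a b => (S₀.iter 𝒜 i).mat_mem 𝒜 a b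
      aug_mem := hg
      aug_surjective := LinearMap.range_eq_top.mp ((Fintype.range_linearCombination R g).trans hs)
      exact_zero := ((S₀.iter 𝒜 0).range_mat 𝒜).symm
      exact_succ := fun i => ((S₀.iter 𝒜 i).ker_mat 𝒜).trans ((S₀.iter 𝒜 (i + 1)).range_mat 𝒜).symm }
  refine ⟨F, fun i a b => ?_⟩
  have hc : (fun a => (S₀.iter 𝒜 i).mat 𝒜 a b) ∈ (S₀.iter 𝒜 i).K :=
    (S₀.iter 𝒜 i).range_mat 𝒜 ▸ col_mem _ b
  cases i with
  | zero => exact ker_of_irredundant ℳ h hg hi hc a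
  | succ i => exact (S₀.iter 𝒜 i).mat_minimal 𝒜 h hc a

variable {𝒜 ℳ} (F : GrSyz.FreeRes 𝒜 ℳ)

/-- the kernel out of the `i`-th term -/
def outKer : (i : ℕ) → Submodule R (Fin (F.rk i) → R)
  | 0 => LinearMap.ker F.augLin
  | i + 1 => LinearMap.ker (F.dLin i)

omit [IsNoetherianRing R] in
theorem outKer_eq : ∀ i, outKer F i = LinearMap.range (F.dLin i)
  | 0 => F.exact_zero
  | i + 1 => F.exact_succ i

omit [IsNoetherianRing R] in
theorem isMinimal_iff_ker (J : Ideal R) :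
    F.IsMinimal J ↔ ∀ i, ∀ v ∈ outKer F i, ∀ a, v a ∈ J := by
  constructor
  · intro h i v hv a
    rw [outKer_eq] at hv
    obtain ⟨w, rfl⟩ := hv
    show Matrix.mulVec (F.d i) w a ∈ J
    simp only [Matrix.mulVec, dotProduct]
    exact Ideal.sum_mem _ fun b _ => Ideal.mul_mem_right _ _ (h i a b)
  · intro h i a b
    exact h i (fun a => F.d i a b) (by rw [outKer_eq]; exact col_mem _ b) a

omit [IsNoetherianRing R] in
theorem isMinimal_iff_irredundant (h : Std 𝒜) [Nontrivial R] :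
    F.IsMinimal (GrSyz.irrel 𝒜).toIdeal ↔
      Irredundant R F.aug ∧ ∀ i, Irredundant R (fun (b : Fin (F.rk (i + 1))) a => F.d i a b) := by
  rw [isMinimal_iff_ker]
  constructor
  · refine fun hk => ⟨irredundant_of_ker h _ (hk 0), fun i => irredundant_of_ker h _ fun v hv => hk (i + 1) v ?_⟩
    show v ∈ LinearMap.ker (Matrix.mulVecLin (F.d i))
    rw [mulVecLin_eq]; exact hv
  · rintro ⟨h0, h1⟩ i v hv a
    cases i with
    | zero => exact ker_of_irredundant ℳ h F.aug_mem h0 hv a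
    | succ i =>
      refine ker_of_irredundant (fGr 𝒜 (F.deg i)) h
        (fun b => (mem_fGr 𝒜).mpr fun a => F.d_mem i a b) (h1 i) ?_ a
      have : v ∈ LinearMap.ker (Matrix.mulVecLin (F.d i)) := hv
      rwa [mulVecLin_eq] at this

omit [IsNoetherianRing R] in
theorem exists_entry_ne (h : Std 𝒜) [Nontrivial R] (hF : F.IsMinimal (GrSyz.irrel 𝒜).toIdeal) (i : ℕ)
    (b : Fin (F.rk (i + 1))) : ∃ a, F.d i a b ≠ 0 := by
  by_contra hc
  push Not at hc
  refine one_notMem h ?_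
  have := (isMinimal_iff_ker F _).mp hF (i + 1) (Pi.single b 1) ?_ b
  · simpa using this
  · show Matrix.mulVecLin (F.d i) (Pi.single b 1) = 0
    rw [mulVecLin_eq, Fintype.linearCombination_apply_single, one_smul]
    exact funext hc

omit [IsNoetherianRing R] in
theorem deg_succ_gt (h : Std 𝒜) [Nontrivial R] (hF : F.IsMinimal (GrSyz.irrel 𝒜).toIdeal) (i : ℕ)
    (b : Fin (F.rk (i + 1))) : ∃ a, F.deg i a < F.deg (i + 1) b := by
  obtain ⟨a, ha⟩ := exists_entry_ne F h hF i b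
  exact ⟨a, by have := pos_of_mem_irrel h (F.d_mem i a b) (hF i a b) ha; omega⟩

end Res

theorem isUnit_of_scalar {k : Type u} [Field k] {R : Type u} [CommRing R] [Algebra k R] {a : R}
    (hs : ∃ c : k, algebraMap k R c = a) (ha : a ≠ 0) : IsUnit a := by
  obtain ⟨c, rfl⟩ := hs
  exact (IsUnit.mk0 c fun e => ha (by rw [e, map_zero])).map _

theorem std_stdGr (k : Type u) [Field k] (σ : Type) : Std (GrSyz.stdGr k σ) := by
  refine ⟨fun n hn a ha => ?_, fun a ha h0 => isUnit_of_scalar (k := k) ?_ h0⟩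
  · rw [GrSyz.mem_stdGr_iff] at ha
    ext d
    by_contra hd
    simp only [MvPolynomial.coeff_zero] at hd
    have h1 := ha hd
    rw [Finsupp.weight_apply, Finsupp.sum] at h1
    have : (0 : ℤ) ≤ ∑ x ∈ d.support, d x • (1 : ℤ) := Finset.sum_nonneg fun x _ => by simp
    omega
  · rw [GrSyz.mem_stdGr_iff] at ha
    refine ⟨MvPolynomial.coeff 0 a, ?_⟩
    classical
    ext d
    rw [MvPolynomial.algebraMap_eq, MvPolynomial.coeff_C]
    split_ifs with e
    · rw [e]
    · by_contra hd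
      have h1 := ha (Ne.symm hd)
      refine e (Finsupp.ext fun x => ?_).symm
      rw [Finsupp.weight_apply, Finsupp.sum] at h1
      by_contra hx
      have := (Finset.sum_eq_zero_iff_of_nonneg (fun y _ => by simp)).mp h1 x (Finsupp.mem_support_iff.mpr (by simpa using hx))
      simp at this
      simp [this] at hx

end Groth.Agent.GrSyzBasic
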