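/-
Uniqueness of minimal graded free resolutions; projective dimension
-/
import Groth.Prelude.Def_GrSyz
import Groth.Agent.Lib.GrSyzBasic
import Groth.Agent.Lib.RegularLocalSerre
import Mathlib

set_option autoImplicit false
open DirectSum CategoryTheory
open Groth.Agent.GrFreeGraded Groth.Agent.GrSyzBasic

universe u

namespace Groth.Agent.GrSyzUnique

variable {k R : Type u} [CommRing k] [CommRing R] [Algebra k R] {𝒜 : ℤ → Submodule k R} [GradedAlgebra 𝒜]
  {M : Type u} [AddCommGroup M] [Module k M] [Module R M] {ℳ : ℤ → Submodule k M}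
  [Decomposition ℳ] [SetLike.GradedSMul 𝒜 ℳ]

theorem lift_free {r : ℕ} {N P : Type u} [AddCommGroup N] [Module R N] [AddCommGroup P] [Module R P]
    (f : N →ₗ[R] P) (e : (Fin r → R) →ₗ[R] P) (h : ∀ x, e x ∈ LinearMap.range f) :
    ∃ g : (Fin r → R) →ₗ[R] N, f ∘ₗ g = e := by
  choose p hp using fun b : Fin r => h ((Pi.basisFun R (Fin r)) b)
  exact ⟨(Pi.basisFun R (Fin r)).constr R p, (Pi.basisFun R (Fin r)).ext fun b => by
    rw [LinearMap.comp_apply, Module.Basis.constr_basis, hp b]⟩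

theorem gr_lift {r s : ℕ} {δ : Fin r → ℤ} {ε : Fin s → ℤ} {P : Type u} [AddCommGroup P] [Module k P]
    [Module R P] (ℰ : ℤ → Submodule k P) [Decomposition ℰ]
    {f : (Fin s → R) →ₗ[R] P} (hf : IsGr (fGr 𝒜 ε) ℰ f)
    {e : (Fin r → R) →ₗ[R] P} (he : IsGr (fGr 𝒜 δ) ℰ e) (h : ∀ x, e x ∈ LinearMap.range f) :
    ∃ g : (Fin r → R) →ₗ[R] (Fin s → R), f ∘ₗ g = e ∧ IsGr (fGr 𝒜 δ) (fGr 𝒜 ε) g := by
  classical
  choose p hp hfp using fun b : Fin r =>
    hf.exists_preimage (he (δ b) _ (single_mem 𝒜 δ b)) (h (Pi.single b 1))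
  refine ⟨Fintype.linearCombination R p, ?_, isGr_lc 𝒜 (fGr 𝒜 ε) hp⟩
  refine (Pi.basisFun R (Fin r)).ext fun b => ?_
  rw [LinearMap.comp_apply, Pi.basisFun_apply, Fintype.linearCombination_apply_single, one_smul, hfp b]

theorem IsGr.comp {N P Q : Type u} [AddCommGroup N] [Module k N] [Module R N] [AddCommGroup P]
    [Module k P] [Module R P] [AddCommGroup Q] [Module k Q] [Module R Q]
    {𝒩 : ℤ → Submodule k N} [Decomposition 𝒩] {ℰ : ℤ → Submodule k P} [Decomposition ℰ]
    {𝒬 : ℤ → Submodule k Q} [Decomposition 𝒬] {g : P →ₗ[R] Q} {f : N →ₗ[R] P}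
    (hg : IsGr ℰ 𝒬 g) (hf : IsGr 𝒩 ℰ f) : IsGr 𝒩 𝒬 (g ∘ₗ f) :=
  fun n x hx => hg n _ (hf n x hx)

variable (F F' : GrSyz.FreeRes 𝒜 ℳ)

theorem isGr_dLin (i : ℕ) : IsGr (fGr 𝒜 (F.deg (i + 1))) (fGr 𝒜 (F.deg i)) (F.dLin i) :=
  isGr_mulVec 𝒜 (F.d_mem i)

theorem isGr_augLin : IsGr (fGr 𝒜 (F.deg 0)) ℳ F.augLin := isGr_lc 𝒜 ℳ F.aug_mem

theorem dd (i : ℕ) (x : Fin (F.rk (i + 1 + 1)) → R) : F.dLin i (F.dLin (i + 1) x) = 0 :=
  LinearMap.mem_ker.mp ((F.exact_succ i).ge ⟨x, rfl⟩)

theorem aug_d (x : Fin (F.rk 1) → R) : F.augLin (F.dLin 0 x) = 0 :=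
  LinearMap.mem_ker.mp (F.exact_zero.ge ⟨x, rfl⟩)

/-- degree-preserving comparison maps -/
theorem exists_comparison :
    ∃ φ : (i : ℕ) → (Fin (F.rk i) → R) →ₗ[R] (Fin (F'.rk i) → R),
      (∀ i, IsGr (fGr 𝒜 (F.deg i)) (fGr 𝒜 (F'.deg i)) (φ i)) ∧
      F'.augLin ∘ₗ φ 0 = F.augLin ∧ ∀ i, F'.dLin i ∘ₗ φ (i + 1) = φ i ∘ₗ F.dLin i := by
  classical
  let T : ℕ → Type u := fun i => {φ : (Fin (F.rk i) → R) →ₗ[R] (Fin (F'.rk i) → R) //
    IsGr (fGr 𝒜 (F.deg i)) (fGr 𝒜 (F'.deg i)) φ ∧ ∀ x ∈ outKer F i, φ x ∈ outKer F' i}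
  obtain ⟨φ0, h0, hg0⟩ := gr_lift ℳ (isGr_augLin F') (isGr_augLin F)
    (fun x => by rw [LinearMap.range_eq_top.mpr F'.aug_surjective]; exact Submodule.mem_top)
  have step : ∀ i (t : T i), ∃ t' : T (i + 1), F'.dLin i ∘ₗ t'.1 = t.1 ∘ₗ F.dLin i := by
    intro i t
    obtain ⟨g, hg, hgg⟩ := gr_lift (fGr 𝒜 (F'.deg i)) (isGr_dLin F' i)
      (IsGr.comp t.2.1 (isGr_dLin F i)) (fun x => by
        rw [← outKer_eq]; exact t.2.2 _ ((outKer_eq F i).ge ⟨x, rfl⟩))
    refine ⟨⟨g, hgg, fun x hx => ?_⟩, hg⟩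
    show F'.dLin i (g x) = 0
    rw [show F'.dLin i (g x) = t.1 (F.dLin i x) from LinearMap.congr_fun hg x,
      show F.dLin i x = 0 from hx, map_zero]
  choose nx hnx using step
  let seq : (i : ℕ) → T i := fun i => Nat.rec (motive := T) ⟨φ0, hg0, fun x hx => by
    show F'.augLin (φ0 x) = 0
    rw [show F'.augLin (φ0 x) = F.augLin x from LinearMap.congr_fun h0 x]
    exact hx⟩ nx i
  exact ⟨fun i => (seq i).1, fun i => (seq i).2.1, h0, fun i => hnx i (seq i)⟩

theorem apply_mem {r s : ℕ} {J : Ideal R} (f : (Fin r → R) →ₗ[R] (Fin s → R)) {v : Fin r → R}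
    (hv : ∀ a, v a ∈ J) (a : Fin s) : f v a ∈ J := by
  classical
  rw [← Finset.univ_sum_single v, map_sum, Finset.sum_apply]
  refine Ideal.sum_mem _ fun b _ => ?_
  rw [show (Pi.single b (v b) : Fin r → R) = v b • Pi.single b (1 : R) by simp [← Pi.single_smul],
    map_smul, Pi.smul_apply, smul_eq_mul]
  exact Ideal.mul_mem_right _ _ (hv b)

/-- an endomorphism of a minimal resolution over the identity is the identity modulo the ideal -/
theorem endo_congr (J : Ideal R) (hF : F.IsMinimal J)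
    (θ : (i : ℕ) → (Fin (F.rk i) → R) →ₗ[R] (Fin (F.rk i) → R))
    (h0 : ∀ x, F.augLin (θ 0 x) = F.augLin x)
    (hs : ∀ i x, F.dLin i (θ (i + 1) x) = θ i (F.dLin i x)) (i : ℕ) (x : Fin (F.rk i) → R) (a : Fin (F.rk i)) :
    θ i x a - x a ∈ J := by
  have hk := (isMinimal_iff_ker F J).mp hF
  have key : ∀ i, (∀ x a, θ i x a - x a ∈ J) ∧ ∃ h : (Fin (F.rk i) → R) →ₗ[R] (Fin (F.rk (i + 1)) → R),
      ∀ y, F.dLin i (θ (i + 1) y - y - h (F.dLin i y)) = 0 := by
    intro i
    induction i with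
    | zero =>
      have hm : ∀ x, θ 0 x - x ∈ LinearMap.ker F.augLin := fun x => by
        rw [LinearMap.mem_ker, map_sub, h0, sub_self]
      obtain ⟨h, hh⟩ := lift_free (F.dLin 0) (θ 0 - LinearMap.id) fun x => F.exact_zero.le (hm x)
      refine ⟨fun x a => hk 0 _ (hm x) a, h, fun y => ?_⟩
      rw [map_sub, map_sub, hs, show F.dLin 0 (h (F.dLin 0 y)) = θ 0 (F.dLin 0 y) - F.dLin 0 y from
        LinearMap.congr_fun hh (F.dLin 0 y)]
      abel
    | succ i ih =>
      obtain ⟨-, h, hh⟩ := ih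
      obtain ⟨h', hh'⟩ := lift_free (F.dLin (i + 1)) (θ (i + 1) - LinearMap.id - h ∘ₗ F.dLin i)
        fun x => (F.exact_succ i).le (LinearMap.mem_ker.mpr (hh x))
      refine ⟨fun x a => ?_, h', fun y => ?_⟩
      · have h1 := hk (i + 1) _ (LinearMap.mem_ker.mpr (hh x)) a
        have h2 : h (F.dLin i x) a ∈ J :=
          apply_mem h (fun b => hk i (F.dLin i x) ((outKer_eq F i).ge ⟨x, rfl⟩) b) a
        simp only [Pi.sub_apply] at h1
        have := add_mem h1 h2
        rwa [sub_add_cancel] at this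
      · rw [map_sub, map_sub, hs, show F.dLin (i + 1) (h' (F.dLin (i + 1) y)) =
            θ (i + 1) (F.dLin (i + 1) y) - F.dLin (i + 1) y - h (F.dLin i (F.dLin (i + 1) y)) from
          LinearMap.congr_fun hh' (F.dLin (i + 1) y), dd, map_zero, sub_zero]
        abel
  exact (key i).1 x a

theorem betti_le (h : Std 𝒜) [Nontrivial R] (hF : F.IsMinimal (GrSyz.irrel 𝒜).toIdeal) (i : ℕ) (j : ℤ) :
    F.betti i j ≤ F'.betti i j := by
  classical
  obtain ⟨φ, hφ, hφ0, hφs⟩ := exists_comparison F F'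
  obtain ⟨ψ, hψ, hψ0, hψs⟩ := exists_comparison F' F
  have hc := endo_congr F _ hF (fun i => ψ i ∘ₗ φ i)
    (fun x => (LinearMap.congr_fun hψ0 (φ 0 x)).trans (LinearMap.congr_fun hφ0 x))
    (fun i x => (LinearMap.congr_fun (hψs i) (φ (i + 1) x)).trans
      (congrArg (ψ i) (LinearMap.congr_fun (hφs i) x))) i
  let J := (GrSyz.irrel 𝒜).toIdeal
  let π := Ideal.Quotient.mk J
  haveI : Nontrivial (R ⧸ J) := Ideal.Quotient.nontrivial_iff.mpr fun e => one_notMem h (show (1:R) ∈ J by rw [e]; exact Submodule.mem_top)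
  let S := {b : Fin (F.rk i) // F.deg i b = j}
  let S' := {b : Fin (F'.rk i) // F'.deg i b = j}
  let A : Matrix S S' (R ⧸ J) := fun b a => π (ψ i (Pi.single a.1 1) b.1)
  let B : Matrix S' S (R ⧸ J) := fun a b => π (φ i (Pi.single b.1 1) a.1)
  have hAB : A * B = 1 := by
    ext b b'
    set w := φ i (Pi.single b'.1 1) with hw
    have hwm : ∀ a, w a ∈ 𝒜 (j - F'.deg i a) := fun a => by
      rw [← b'.2]; exact (mem_fGr 𝒜).mp (hφ i _ _ (single_mem 𝒜 (F.deg i) b'.1)) a
    have e : π ((Pi.single b'.1 1 : Fin (F.rk i) → R) b.1) = π (ψ i w b.1) :=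
      (Ideal.Quotient.eq.mpr (hc (Pi.single b'.1 1) b.1)).symm
    have e2 : ψ i w b.1 = ∑ a, w a * ψ i (Pi.single a 1) b.1 := by
      conv_lhs => rw [← Finset.univ_sum_single w, map_sum, Finset.sum_apply]
      refine Finset.sum_congr rfl fun a _ => ?_
      rw [show (Pi.single a (w a) : Fin (F'.rk i) → R) = w a • Pi.single a (1 : R) by simp [← Pi.single_smul],
        map_smul, Pi.smul_apply, smul_eq_mul]
    rw [e2, map_sum, ← Finset.sum_subset (Finset.subset_univ (Finset.univ.filter fun a => F'.deg i a = j)),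
      Finset.sum_subtype _ (p := fun a => F'.deg i a = j) (fun a => by simp)] at e
    · rw [Matrix.mul_apply, Matrix.one_apply]
      have e3 : ∀ x : S', A b x * B x b' = π (w x.1 * ψ i (Pi.single x.1 1) b.1) := fun x => by
        rw [map_mul, mul_comm]
      rw [Finset.sum_congr rfl (fun x _ => e3 x), ← e]
      by_cases hb : b = b'
      · subst hb; simp
      · rw [if_neg hb, Pi.single_eq_of_ne (fun hh => hb (Subtype.ext hh)), map_zero]
    · intro a _ ha
      rw [Ideal.Quotient.eq_zero_iff_mem]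
      exact Ideal.mul_mem_right _ _ (mem_irrel_of_ne h (hwm a) (by simp at ha; omega))
  have hinj : Function.Injective (Matrix.mulVecLin B) :=
    Function.LeftInverse.injective (g := Matrix.mulVecLin A) fun v => by
      show A.mulVec (B.mulVec v) = v
      rw [Matrix.mulVec_mulVec, hAB, Matrix.one_mulVec]
  have := LinearMap.finrank_le_finrank_of_injective hinj
  rw [Module.finrank_pi, Module.finrank_pi, Fintype.card_subtype, Fintype.card_subtype] at this
  exact this

theorem betti_eq (h : Std 𝒜) [Nontrivial R] (hF : F.IsMinimal (GrSyz.irrel 𝒜).toIdeal)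
    (hF' : F'.IsMinimal (GrSyz.irrel 𝒜).toIdeal) (i : ℕ) (j : ℤ) : F.betti i j = F'.betti i j :=
  le_antisymm (betti_le F F' h hF i j) (betti_le F' F h hF' i j)

section Pd

open Groth.Agent.RegLocal

theorem eq_bot_of_proj [IsDomain R] [IsNoetherianRing R] {J : Ideal R} (hJ : (1 : R) ∉ J) {r : ℕ}
    {P : Type u} [AddCommGroup P] [Module R P] [Module.Projective R P]
    (f : (Fin r → R) →ₗ[R] P) (hf : Function.Surjective f)
    (hk : ∀ v ∈ LinearMap.ker f, ∀ b, v b ∈ J) : LinearMap.ker f = ⊥ := by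
  classical
  obtain ⟨s, hs⟩ := Module.projective_lifting_property f LinearMap.id hf
  have hp : ∀ x, x - s (f x) ∈ LinearMap.ker f := fun x => by
    rw [LinearMap.mem_ker, map_sub, show f (s (f x)) = f x from LinearMap.congr_fun hs (f x), sub_self]
  have hle : LinearMap.ker f ≤ J • LinearMap.ker f := by
    intro y hy
    have e : y = ∑ b, y b • ((Pi.single b (1 : R) : Fin r → R) - s (f (Pi.single b 1))) := by
      have e0 : ∑ b, y b • (Pi.single b (1 : R) : Fin r → R) = y := (pi_eq_sum_univ' y).symm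
      simp only [smul_sub, Finset.sum_sub_distrib, ← map_smul, ← map_sum, e0, LinearMap.mem_ker.mp hy,
        map_zero, sub_zero]
    rw [e]
    exact sum_mem fun b _ => Submodule.smul_mem_smul (hk y hy b) (hp _)
  obtain ⟨a, ha, ha0⟩ :=
    Submodule.exists_sub_one_mem_and_smul_eq_zero_of_fg_of_le_smul J _ (IsNoetherian.noetherian _) hle
  have ha' : a ≠ 0 := fun e => hJ (by simpa [e] using neg_mem ha)
  exact (Submodule.eq_bot_iff _).mpr fun y hy => (smul_eq_zero.mp (ha0 y hy)).resolve_left ha'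

variable (h : Std 𝒜) [Nontrivial R] (hF : F.IsMinimal (GrSyz.irrel 𝒜).toIdeal)
include h hF

theorem rk_eq_zero_of_outKer {i : ℕ} (hb : outKer F i = ⊥) : F.rk (i + 1) = 0 := by
  by_contra hne
  obtain ⟨a, ha⟩ := exists_entry_ne F h hF i ⟨0, Nat.pos_of_ne_zero hne⟩
  have : (fun a => F.d i a ⟨0, Nat.pos_of_ne_zero hne⟩) ∈ outKer F i := by
    rw [outKer_eq]; exact col_mem _ _
  rw [hb, Submodule.mem_bot] at this
  exact ha (congrFun this a)

theorem rk_succ_zero {i : ℕ} (hi : F.rk i = 0) : F.rk (i + 1) = 0 :=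
  rk_eq_zero_of_outKer F h hF ((Submodule.eq_bot_iff _).mpr fun v _ => funext fun b =>
    (Fin.cast hi b).elim0)

theorem hasLengthLE_of_zero {n : ℕ} (hn : F.rk (n + 1) = 0) : F.HasLengthLE n := by
  intro i hi
  induction i with
  | zero => omega
  | succ i ih =>
    rcases (Nat.lt_succ_iff.mp hi).eq_or_lt with e | e
    · subst e; exact hn
    · exact rk_succ_zero F h hF (ih e)

omit h hF in
/-- the differential onto the previous syzygy -/
noncomputable def toKer (i : ℕ) : (Fin (F.rk (i + 1)) → R) →ₗ[R] outKer F i :=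
  LinearMap.codRestrict _ (F.dLin i) fun x => (outKer_eq F i).ge ⟨x, rfl⟩

omit h hF in
theorem toKer_surjective (i : ℕ) : Function.Surjective (toKer F i) := fun y => by
  obtain ⟨x, hx⟩ := (outKer_eq F i).le y.2
  exact ⟨x, Subtype.ext hx⟩

omit h hF in
theorem ker_toKer (i : ℕ) : LinearMap.ker (toKer F i) = outKer F (i + 1) := LinearMap.ker_codRestrict _ _ _

omit h hF in
theorem pd_succ_iff : ∀ j : ℕ, ∀ i : ℕ, PdLT R (outKer F i) (j + 2) ↔ PdLT R (outKer F (i + 1)) (j + 1) := by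
  intro j i
  rw [pdLT_ker_iff (toKer F i) (toKer_surjective F i) j, ker_toKer]

omit h hF in
theorem pd_iff (j : ℕ) : PdLT R M (j + 2) ↔ PdLT R (outKer F j) 1 := by
  rw [pdLT_ker_iff F.augLin F.aug_surjective j]
  suffices ∀ a i, PdLT R (outKer F i) (a + 1) ↔ PdLT R (outKer F (i + a)) 1 by
    have := this j 0
    rwa [Nat.zero_add] at this
  intro a
  induction a with
  | zero => exact fun i => Iff.rfl
  | succ a ih => exact fun i => by rw [pd_succ_iff F a i, ih (i + 1), Nat.add_right_comm, Nat.add_assoc]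

theorem hasLengthLE_iff [IsDomain R] [IsNoetherianRing R] (n : ℕ) :
    F.HasLengthLE n ↔ PdLT R M (n + 1) := by
  cases n with
  | zero =>
    rw [pdLT_one_iff]
    constructor
    · intro hl
      haveI : IsEmpty (Fin (F.rk 1)) := by rw [hl 1 Nat.one_pos]; exact Fin.isEmpty
      refine Module.Projective.of_equiv (LinearEquiv.ofBijective F.augLin
        ⟨LinearMap.ker_eq_bot.mp ((Submodule.eq_bot_iff _).mpr fun v hv => ?_), F.aug_surjective⟩)
      obtain ⟨x, rfl⟩ := F.exact_zero.le hv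
      rw [show x = 0 from Subsingleton.elim _ _, map_zero]
    · intro hp
      exact hasLengthLE_of_zero F h hF (rk_eq_zero_of_outKer F h hF
        (eq_bot_of_proj (one_notMem h) F.augLin F.aug_surjective ((isMinimal_iff_ker F _).mp hF 0)))
  | succ j =>
    rw [pd_iff F j, pdLT_one_iff]
    constructor
    · intro hl
      haveI : IsEmpty (Fin (F.rk (j + 2))) := by rw [hl (j + 2) (by omega)]; exact Fin.isEmpty
      refine Module.Projective.of_equiv (LinearEquiv.ofBijective (toKer F j)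
        ⟨LinearMap.ker_eq_bot.mp ((Submodule.eq_bot_iff _).mpr fun v hv => ?_), toKer_surjective F j⟩)
      rw [ker_toKer, outKer_eq] at hv
      obtain ⟨x, rfl⟩ := hv
      rw [show x = 0 from Subsingleton.elim _ _, map_zero]
    · intro hp
      refine hasLengthLE_of_zero F h hF (rk_eq_zero_of_outKer F h hF (i := j + 1) ?_)
      rw [← ker_toKer]
      exact eq_bot_of_proj (one_notMem h) (toKer F j) (toKer_surjective F j)
        (by rw [ker_toKer]; exact (isMinimal_iff_ker F _).mp hF (j + 1))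

end Pd

open Groth.Agent.RegLocal in
/-- global dimension of polynomial rings -/
theorem pdLT_mvPolynomial (k : Type u) [Field k] (N : ℕ) (M : Type u) [AddCommGroup M]
    [Module (MvPolynomial (Fin N) k) M] [Module.Finite (MvPolynomial (Fin N) k) M] :
    PdLT (MvPolynomial (Fin N) k) M (N + 1) := by
  show HasProjectiveDimensionLE (ModuleCat.of (MvPolynomial (Fin N) k) M) N
  haveI : Module.Finite (MvPolynomial (Fin N) k) (ModuleCat.of (MvPolynomial (Fin N) k) M) := ‹_›
  rw [ModuleCat.hasProjectiveDimensionLE_iff_forall_maximalSpectrum]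
  intro m
  haveI : IsRegularLocalRing (Localization.AtPrime m.asIdeal) :=
    IsRegularRing.isRegularLocalRing_localization _
  obtain ⟨d, hd⟩ : ∃ d, (IsLocalRing.maximalIdeal (Localization.AtPrime m.asIdeal)).spanFinrank = d := ⟨_, rfl⟩
  have hle : d ≤ N := by
    have h1 : ringKrullDim (Localization.AtPrime m.asIdeal) = d := by
      rw [← (isRegularLocalRing_iff _).mp inferInstance, hd]
    have h2 : ringKrullDim (Localization.AtPrime m.asIdeal) ≤ ringKrullDim (MvPolynomial (Fin N) k) := by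
      rw [IsLocalization.AtPrime.ringKrullDim_eq_height m.asIdeal]
      exact Ideal.height_le_ringKrullDim_of_ne_top m.isMaximal.ne_top
    rw [MvPolynomial.ringKrullDim_of_isNoetherianRing, ringKrullDim_eq_zero_of_field, zero_add, h1,
      Nat.card_fin] at h2
    exact_mod_cast h2
  exact pdLT_mono (Nat.succ_le_succ hle) (pdLT_of_regular d hd _)

end Groth.Agent.GrSyzUnique
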