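/-
Hilbert functions from graded free resolutions
-/
import Groth.Prelude.Def_GrSyz
import Groth.Agent.Lib.GrSyzUnique
import Mathlib

set_option autoImplicit false
open DirectSum
open Groth.Agent.GrFreeGraded Groth.Agent.GrSyzBasic Groth.Agent.GrSyzUnique

universe u

namespace Groth.Agent.GrSyzHilbert

/-- binomial coefficient `r + n` choose `r` extended by zero -/
def hb (r : ℕ) (n : ℤ) : ℤ := if 0 ≤ n then ((Nat.choose (r + n.toNat) r : ℕ) : ℤ) else 0

theorem stdGr_finite (k : Type u) [Field k] (r : ℕ) (n : ℤ) :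
    Module.Finite k ↥(GrSyz.stdGr k (Fin (r + 1)) n) ∧
      (Module.finrank k ↥(GrSyz.stdGr k (Fin (r + 1)) n) : ℤ) = hb r n := by
  classical
  rcases lt_or_ge n 0 with hn | hn
  · have h0 : GrSyz.stdGr k (Fin (r + 1)) n = ⊥ :=
      (Submodule.eq_bot_iff _).mpr fun a ha => (std_stdGr k _).neg n hn a ha
    rw [h0, hb, if_neg (not_le.mpr hn), finrank_bot]
    exact ⟨inferInstance, rfl⟩
  · obtain ⟨N, rfl⟩ := Int.eq_ofNat_of_zero_le hn
    let e : ↥(GrSyz.stdGr k (Fin (r + 1)) N) ≃ₗ[k]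
        ↥(MvPolynomial.restrictSupport k {d : Fin (r + 1) →₀ ℕ | Finsupp.weight (fun _ => (1 : ℤ)) d = N}) :=
      LinearEquiv.ofEq _ _ (MvPolynomial.weightedHomogeneousSubmodule_eq_finsupp_supported k _ _)
    have hs : {d : Fin (r + 1) →₀ ℕ | Finsupp.weight (fun _ => (1 : ℤ)) d = N} =
        ↑((Finset.univ : Finset (Fin (r + 1))).finsuppAntidiag N) := by
      ext d
      have hw : Finsupp.weight (fun _ : Fin (r + 1) => (1 : ℤ)) d = ((∑ x, d x : ℕ) : ℤ) := by
        rw [Finsupp.weight_apply, Finsupp.sum_fintype _ _ (fun _ => zero_smul ℕ (1 : ℤ))]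
        simp
      simp only [Set.mem_setOf_eq, Finset.mem_coe, Finset.mem_finsuppAntidiag, hw]
      simp only [Finset.subset_univ, and_true]
      exact Int.natCast_inj
    haveI : Finite {d : Fin (r + 1) →₀ ℕ | Finsupp.weight (fun _ => (1 : ℤ)) d = (N : ℤ)} := by
      rw [hs]; infer_instance
    haveI hf := Module.Finite.of_basis (MvPolynomial.basisRestrictSupport k
      {d : Fin (r + 1) →₀ ℕ | Finsupp.weight (fun _ => (1 : ℤ)) d = (N : ℤ)})
    refine ⟨Module.Finite.equiv e.symm, ?_⟩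
    rw [hb, if_pos hn, Int.toNat_natCast, e.finrank_eq,
      Module.finrank_eq_nat_card_basis (MvPolynomial.basisRestrictSupport k _), hs,
      Nat.card_coe_set_eq, Set.ncard_coe_finset, Finset.card_finsuppAntidiag_nat_eq_choose,
      Finset.card_univ, Fintype.card_fin, show r + 1 + N - 1 = r + N by omega]
    exact congrArg _ (Nat.choose_symm_add).symm

section

variable {k R : Type u} [Field k] [CommRing R] [Algebra k R] {𝒜 : ℤ → Submodule k R} [GradedAlgebra 𝒜]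

/-- a piece of a free module as a product -/
def pieceEquiv {r : ℕ} (δ : Fin r → ℤ) (n : ℤ) : ↥(fGr 𝒜 δ n) ≃ₗ[k] ((b : Fin r) → ↥(𝒜 (n - δ b))) where
  toFun v b := ⟨v.1 b, (mem_fGr 𝒜).mp v.2 b⟩
  invFun w := ⟨fun b => (w b : R), (mem_fGr 𝒜).mpr fun b => (w b).2⟩
  map_add' _ _ := rfl
  map_smul' _ _ := rfl
  left_inv _ := rfl
  right_inv _ := rfl

variable (hfin : ∀ n, Module.Finite k ↥(𝒜 n))
include hfin

theorem piece_finite {r : ℕ} (δ : Fin r → ℤ) (n : ℤ) : Module.Finite k ↥(fGr 𝒜 δ n) :=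
  haveI := fun b => hfin (n - δ b)
  Module.Finite.equiv (pieceEquiv δ n).symm

theorem piece_finrank {r : ℕ} (δ : Fin r → ℤ) (n : ℤ) :
    Module.finrank k ↥(fGr 𝒜 δ n) = ∑ b, Module.finrank k ↥(𝒜 (n - δ b)) := by
  haveI := fun b => hfin (n - δ b)
  rw [(pieceEquiv δ n).finrank_eq, Module.finrank_pi_fintype]

theorem rank_nullity {r : ℕ} {δ : Fin r → ℤ} {N : Type u} [AddCommGroup N] [Module k N] [Module R N]
    [IsScalarTower k R N] {𝒩 : ℤ → Submodule k N} [Decomposition 𝒩] {f : (Fin r → R) →ₗ[R] N}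
    (hf : IsGr (fGr 𝒜 δ) 𝒩 f) (n : ℤ) :
    Module.finrank k ↥(fGr 𝒜 δ n) =
      Module.finrank k ↥((LinearMap.range f).restrictScalars k ⊓ 𝒩 n) +
        Module.finrank k ↥((LinearMap.ker f).restrictScalars k ⊓ fGr 𝒜 δ n) := by
  haveI := piece_finite hfin δ n
  let g := (f.restrictScalars k).domRestrict (fGr 𝒜 δ n)
  have h1 : LinearMap.range g = (LinearMap.range f).restrictScalars k ⊓ 𝒩 n := by
    ext y
    constructor
    · rintro ⟨x, rfl⟩
      exact ⟨⟨x.1, rfl⟩, hf n _ x.2⟩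
    · rintro ⟨hy, hy'⟩
      obtain ⟨x, hx, rfl⟩ := hf.exists_preimage hy' hy
      exact ⟨⟨x, hx⟩, rfl⟩
  have h2 : (LinearMap.ker g).map (fGr 𝒜 δ n).subtype = (LinearMap.ker f).restrictScalars k ⊓ fGr 𝒜 δ n := by
    ext y
    constructor
    · rintro ⟨x, hx, rfl⟩
      exact ⟨hx, x.2⟩
    · rintro ⟨hy, hy'⟩
      exact ⟨⟨y, hy'⟩, hy, rfl⟩
  rw [← h1, ← h2, Submodule.finrank_map_subtype_eq]
  exact (LinearMap.finrank_range_add_finrank_ker g).symm

variable {M : Type u} [AddCommGroup M] [Module k M] [Module R M] [IsScalarTower k R M]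
  {ℳ : ℤ → Submodule k M} [Decomposition ℳ] [SetLike.GradedSMul 𝒜 ℳ] (F : GrSyz.FreeRes 𝒜 ℳ)

theorem hilbert_partial (n : ℤ) : ∀ j : ℕ,
    (∑ i ∈ Finset.range (j + 1), (-1 : ℤ) ^ i * (Module.finrank k ↥(fGr 𝒜 (F.deg i) n) : ℤ)) =
      Module.finrank k ↥(ℳ n) +
        (-1 : ℤ) ^ j * (Module.finrank k ↥((outKer F j).restrictScalars k ⊓ fGr 𝒜 (F.deg j) n) : ℤ) := by
  intro j
  induction j with
  | zero =>
    have e := rank_nullity hfin (isGr_augLin F) n
    rw [LinearMap.range_eq_top.mpr F.aug_surjective, Submodule.restrictScalars_top, top_inf_eq] at e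
    rw [zero_add, Finset.sum_range_one, pow_zero, one_mul, one_mul, e, Nat.cast_add]
    rfl
  | succ j ih =>
    have e := rank_nullity hfin (isGr_dLin F j) n
    rw [← outKer_eq] at e
    rw [Finset.sum_range_succ, ih, e, Nat.cast_add, pow_succ]
    show _ = _ + (-1 : ℤ) ^ j * -1 * (Module.finrank k ↥((LinearMap.ker (F.dLin j)).restrictScalars k ⊓ fGr 𝒜 (F.deg (j + 1)) n) : ℤ)
    ring

theorem hilbert_eq (m : ℕ) (hF : F.HasLengthLE m) (n : ℤ) :
    (Module.finrank k ↥(ℳ n) : ℤ) =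
      ∑ i ∈ Finset.range (m + 1), (-1 : ℤ) ^ i * ∑ b, (Module.finrank k ↥(𝒜 (n - F.deg i b)) : ℤ) := by
  have h := hilbert_partial hfin F n m
  have hb : outKer F m = ⊥ := by
    haveI : IsEmpty (Fin (F.rk (m + 1))) := by rw [hF (m + 1) (Nat.lt_succ_self m)]; exact Fin.isEmpty
    refine (Submodule.eq_bot_iff _).mpr fun v hv => ?_
    rw [outKer_eq] at hv
    obtain ⟨x, rfl⟩ := hv
    rw [show x = 0 from Subsingleton.elim _ _, map_zero]
  rw [hb, Submodule.restrictScalars_bot, bot_inf_eq, finrank_bot, Nat.cast_zero, mul_zero, add_zero] at h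
  rw [← h]
  refine Finset.sum_congr rfl fun i _ => ?_
  rw [piece_finrank hfin, Nat.cast_sum]

end

section Std

variable {k : Type u} [Field k] {r : ℕ} {M : Type u} [AddCommGroup M] [Module k M]
  [Module (MvPolynomial (Fin (r + 1)) k) M] [IsScalarTower k (MvPolynomial (Fin (r + 1)) k) M]
  {ℳ : ℤ → Submodule k M} [Decomposition ℳ] [SetLike.GradedSMul (GrSyz.stdGr k (Fin (r + 1))) ℳ]
  (F : GrSyz.FreeRes (GrSyz.stdGr k (Fin (r + 1))) ℳ) (m : ℕ) (hF : F.HasLengthLE m)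
include hF

theorem hilbert_std (d : ℤ) : (Module.finrank k ↥(ℳ d) : ℤ) =
    ∑ i ∈ Finset.range (m + 1), (-1 : ℤ) ^ i * ∑ b, hb r (d - F.deg i b) := by
  rw [hilbert_eq (fun n => (stdGr_finite k r n).1) F m hF d]
  exact Finset.sum_congr rfl fun i _ => congrArg _ (Finset.sum_congr rfl fun b _ => (stdGr_finite k r _).2)

theorem hilbert_betti : ∃ T : Finset ℤ,
    (∀ j : ℤ, j ∉ T → ∑ i ∈ Finset.range (m + 1), (-1 : ℤ) ^ i * (F.betti i j : ℤ) = 0) ∧
    ∀ d : ℤ, (Module.finrank k ↥(ℳ d) : ℤ) =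
      ∑ j ∈ T, (∑ i ∈ Finset.range (m + 1), (-1 : ℤ) ^ i * (F.betti i j : ℤ)) * hb r (d - j) := by
  classical
  let T : Finset ℤ := (Finset.range (m + 1)).biUnion fun i => Finset.univ.image (F.deg i)
  refine ⟨T, fun j hj => Finset.sum_eq_zero fun i hi => ?_, fun d => ?_⟩
  · have : F.betti i j = 0 := Finset.card_eq_zero.mpr (Finset.filter_eq_empty_iff.mpr fun b _ e =>
      hj (Finset.mem_biUnion.mpr ⟨i, hi, e ▸ Finset.mem_image_of_mem _ (Finset.mem_univ b)⟩))
    rw [this, Nat.cast_zero, mul_zero]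
  · rw [hilbert_std F m hF d]
    simp_rw [Finset.sum_mul]
    rw [Finset.sum_comm]
    refine Finset.sum_congr rfl fun i hi => ?_
    simp_rw [mul_assoc, ← Finset.mul_sum]
    congr 1
    rw [← Finset.sum_fiberwise_of_maps_to (t := T) (g := F.deg i)
      (fun b _ => Finset.mem_biUnion.mpr ⟨i, hi, Finset.mem_image_of_mem _ (Finset.mem_univ b)⟩)
      (fun b => hb r (d - F.deg i b))]
    refine Finset.sum_congr rfl fun j _ => ?_
    rw [Finset.sum_congr rfl (fun b hb' => by rw [(Finset.mem_filter.mp hb').2] :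
      ∀ b ∈ Finset.univ.filter (fun b => F.deg i b = j), hb r (d - F.deg i b) = hb r (d - j)),
      Finset.sum_const, nsmul_eq_mul]
    rfl

end Std

open Polynomial in
/-- the binomial polynomial -/
theorem exists_binom (r : ℕ) : ∃ p : Polynomial ℚ, ∀ x : ℤ, -(r : ℤ) ≤ x → p.eval (x : ℚ) = (hb r x : ℚ) := by
  refine ⟨C ((r.factorial : ℚ)⁻¹) * (ascPochhammer ℚ r).comp (X + 1), fun x hx => ?_⟩
  rw [eval_mul, eval_C, eval_comp, eval_add, eval_X, eval_one, hb]
  split_ifs with h0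
  · obtain ⟨N, rfl⟩ := Int.eq_ofNat_of_zero_le h0
    rw [Int.toNat_natCast, Int.cast_natCast, Int.cast_natCast, ← Nat.cast_one, ← Nat.cast_add,
      ← ascPochhammer_eval_cast, ascPochhammer_nat_eq_ascFactorial, Nat.ascFactorial_eq_factorial_mul_choose,
      Nat.cast_mul, ← mul_assoc, inv_mul_cancel₀ (by exact_mod_cast r.factorial_ne_zero), one_mul,
      Nat.add_comm r N]
  · obtain ⟨q, hq⟩ := Int.eq_ofNat_of_zero_le (show 0 ≤ -(x + 1) by omega)
    have : ((x : ℚ) + 1) = -(q : ℚ) := by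
      have : x + 1 = -(q : ℤ) := by omega
      exact_mod_cast this
    rw [this, ascPochhammer_eval_neg_coe_nat_of_lt (by omega), mul_zero, Int.cast_zero]

end Groth.Agent.GrSyzHilbert
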