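/-
The ideal of a finite set of points in the projective plane lying on a curve of degree `d` is
generated by at most `d + 1` elements.
-/
import Groth.Agent.Lib.CompleteNoetherian
import Mathlib.Algebra.MvPolynomial.Funext
import Mathlib.Algebra.Module.Submodule.Union
import Mathlib.LinearAlgebra.Dual.Lemmas
import Mathlib.LinearAlgebra.LinearIndependent.Basic
import Mathlib.LinearAlgebra.FiniteDimensional.Basic
import Mathlib.RingTheory.Polynomial.Basic
import Mathlib.Algebra.BigOperators.Fin
import Mathlib.FieldTheory.IsAlgClosed.AlgebraicClosure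
import Mathlib.Algebra.Module.SpanRank
import Mathlib.Tactic.LinearCombination

universe u

open MvPolynomial

namespace Groth.Agent.Points

variable {k : Type u} [Field k]

/-- Membership in the homogeneous vanishing ideal of a set of vectors. -/
def Vanishes (Z : Set (Fin 3 → k)) (f : MvPolynomial (Fin 3) k) : Prop :=
  ∀ p ∈ Z, ∀ j : ℕ, eval p (homogeneousComponent j f) = 0

theorem vanishes_of_isHomogeneous {Z : Set (Fin 3 → k)} {g : MvPolynomial (Fin 3) k} {D : ℕ}
    (hg : g.IsHomogeneous D) (h : ∀ p ∈ Z, eval p g = 0) : Vanishes Z g := by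
  intro p hp j
  rw [homogeneousComponent_of_mem hg]
  split
  · exact h p hp
  · simp

theorem eval_of_vanishes {Z : Set (Fin 3 → k)} {g : MvPolynomial (Fin 3) k} {D : ℕ}
    (hg : g.IsHomogeneous D) (h : Vanishes Z g) {p : Fin 3 → k} (hp : p ∈ Z) : eval p g = 0 := by
  have := h p hp D
  rwa [homogeneousComponent_eq_self hg] at this

theorem eval_smul_of_isHomogeneous {g : MvPolynomial (Fin 3) k} {D : ℕ} (hg : g.IsHomogeneous D)
    (c : k) (q : Fin 3 → k) : eval (c • q) g = c ^ D * eval q g := by
  rw [eval_eq', eval_eq', Finset.mul_sum]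
  refine Finset.sum_congr rfl fun m hm => ?_
  have hdeg : m.degree = D := by
    rw [Finsupp.degree_eq_weight_one]
    exact hg (mem_support_iff.mp hm)
  rw [Finsupp.degree_eq_sum] at hdeg
  simp only [Pi.smul_apply, smul_eq_mul, mul_pow, Finset.prod_mul_distrib, Finset.prod_pow_eq_pow_sum,
    hdeg]
  ring

/-- The linear form attached to a functional. -/
noncomputable def lin : Module.Dual k (Fin 3 → k) →ₗ[k] MvPolynomial (Fin 3) k where
  toFun ψ := ∑ i, C (ψ (Pi.single i 1)) * X i
  map_add' ψ φ := by simp [add_mul, Finset.sum_add_distrib]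
  map_smul' c ψ := by simp [Finset.smul_sum, MvPolynomial.smul_eq_C_mul, mul_assoc]

theorem lin_isHomogeneous (ψ : Module.Dual k (Fin 3 → k)) : (lin ψ).IsHomogeneous 1 :=
  IsHomogeneous.sum _ _ 1 fun i _ => by
    simpa using (isHomogeneous_C (Fin 3) (ψ (Pi.single i 1))).mul (isHomogeneous_X k i)

theorem eval_lin (ψ : Module.Dual k (Fin 3 → k)) (p : Fin 3 → k) : eval p (lin ψ) = ψ p := by
  conv_rhs => rw [pi_eq_sum_univ' p]
  simp only [lin, LinearMap.coe_mk, AddHom.coe_mk, map_sum, map_mul, eval_C, eval_X, map_smul,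
    smul_eq_mul, mul_comm]

theorem lin_proj (i : Fin 3) : lin (LinearMap.proj i : Module.Dual k (Fin 3 → k)) = X i := by
  simp only [lin, LinearMap.coe_mk, AddHom.coe_mk, LinearMap.proj_apply]
  rw [Finset.sum_eq_single i]
  · simp
  · intro j _ hj
    simp [Pi.single_eq_of_ne (Ne.symm hj)]
  · simp

theorem mem_linSpan {s : Set (Module.Dual k (Fin 3 → k))} (hs : Submodule.span k s = ⊤) (i : Fin 3) :
    (X i : MvPolynomial (Fin 3) k) ∈ Submodule.span k (lin '' s) := by
  rw [Submodule.span_image, hs, ← lin_proj i]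
  exact ⟨_, trivial, rfl⟩

section Coordinates

variable (u v w : MvPolynomial (Fin 3) k) (d : ℕ)

/-- The normal forms. -/
noncomputable def nf (D : ℕ) (c : Fin d → k) : MvPolynomial (Fin 3) k :=
  ∑ j : Fin d, C (c j) * if (j : ℕ) ≤ D then u ^ (D - j) * v ^ (j : ℕ) else 0

theorem nf_add (D : ℕ) (c c' : Fin d → k) : nf u v d D (c + c') = nf u v d D c + nf u v d D c' := by
  rw [nf, nf, nf, ← Finset.sum_add_distrib]
  exact Finset.sum_congr rfl fun j _ => by rw [Pi.add_apply, map_add, add_mul]

theorem nf_smul (D : ℕ) (a : k) (c : Fin d → k) : nf u v d D (a • c) = C a * nf u v d D c := by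
  simp [nf, Finset.mul_sum, mul_assoc]

theorem nf_succ {D : ℕ} {c : Fin d → k} (hc : ∀ j : Fin d, D < (j : ℕ) → c j = 0) :
    nf u v d (D + 1) c = u * nf u v d D c := by
  rw [nf, nf, Finset.mul_sum]
  refine Finset.sum_congr rfl fun j _ => ?_
  by_cases hj : (j : ℕ) ≤ D
  · rw [if_pos hj, if_pos (by omega), show D + 1 - (j : ℕ) = (D - j) + 1 by omega, pow_succ]
    ring
  · rw [hc j (by omega)]
    simp

theorem nf_isHomogeneous (hu : u.IsHomogeneous 1) (hv : v.IsHomogeneous 1) (D : ℕ) (c : Fin d → k) :
    (nf u v d D c).IsHomogeneous D := by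
  refine IsHomogeneous.sum _ _ D fun j _ => ?_
  split
  · rename_i hj
    have := ((hu.pow (D - j)).mul (hv.pow (j : ℕ)))
    rw [one_mul, one_mul, Nat.sub_add_cancel hj] at this
    simpa using (isHomogeneous_C (Fin 3) (c j)).mul this
  · simp [isHomogeneous_zero]

end Coordinates

/-- The restriction of a polynomial to the line through `p`. -/
noncomputable def theta (p : Fin 3 → k) : MvPolynomial (Fin 3) k →+* Polynomial k :=
  eval₂Hom Polynomial.C (fun i => Polynomial.C (p i) * Polynomial.X)

theorem theta_homogeneous (p : Fin 3 → k) {g : MvPolynomial (Fin 3) k} {D : ℕ}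
    (hg : g.IsHomogeneous D) : theta p g = Polynomial.C (eval p g) * Polynomial.X ^ D := by
  conv_lhs => rw [g.as_sum, map_sum]
  rw [eval_eq', map_sum, Finset.sum_mul]
  refine Finset.sum_congr rfl fun m hm => ?_
  have hdeg : m.degree = D := by
    rw [Finsupp.degree_eq_weight_one]
    exact hg (mem_support_iff.mp hm)
  rw [Finsupp.degree_eq_sum] at hdeg
  rw [theta, eval₂Hom_monomial, Finsupp.prod_fintype _ _ (fun i => pow_zero _)]
  simp only [mul_pow, Finset.prod_mul_distrib, Finset.prod_pow_eq_pow_sum, hdeg, map_mul, map_prod,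
    map_pow]
  ring

theorem coeff_theta (p : Fin 3 → k) (g : MvPolynomial (Fin 3) k) (j : ℕ) :
    (theta p g).coeff j = eval p (homogeneousComponent j g) := by
  conv_lhs => rw [← sum_homogeneousComponent g, map_sum]
  simp only [theta_homogeneous p (homogeneousComponent_isHomogeneous _ g), Polynomial.finsetSum_coeff,
    Polynomial.coeff_C_mul, Polynomial.coeff_X_pow]
  rw [Finset.sum_eq_single j]
  · simp
  · intro i _ hi
    simp [Ne.symm hi]
  · intro hj
    rw [Finset.mem_range, not_lt] at hj
    rw [homogeneousComponent_eq_zero _ _ (by omega)]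
    simp

theorem vanishes_iff {Z : Set (Fin 3 → k)} {g : MvPolynomial (Fin 3) k} :
    Vanishes Z g ↔ ∀ p ∈ Z, theta p g = 0 := by
  constructor
  · intro h p hp
    ext j
    rw [coeff_theta, h p hp j, Polynomial.coeff_zero]
  · intro h p hp j
    rw [← coeff_theta, h p hp, Polynomial.coeff_zero]

theorem vanishes_component {Z : Set (Fin 3 → k)} {g : MvPolynomial (Fin 3) k} (h : Vanishes Z g)
    (j : ℕ) : Vanishes Z (homogeneousComponent j g) :=
  vanishes_of_isHomogeneous (homogeneousComponent_isHomogeneous j g) fun p hp => h p hp j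

/-- The decomposition: normal form + multiples of `f` and of `w`. -/
def InW (u v w f : MvPolynomial (Fin 3) k) (d D : ℕ) (g : MvPolynomial (Fin 3) k) : Prop :=
  ∃ (c : Fin d → k) (a e : MvPolynomial (Fin 3) k),
    (∀ j : Fin d, D < (j : ℕ) → c j = 0) ∧ g = nf u v d D c + f * a + w * e

theorem inW_add {u v w f : MvPolynomial (Fin 3) k} {d D : ℕ} {g g' : MvPolynomial (Fin 3) k}
    (h : InW u v w f d D g) (h' : InW u v w f d D g') : InW u v w f d D (g + g') := by
  obtain ⟨c, a, e, hc, rfl⟩ := h
  obtain ⟨c', a', e', hc', rfl⟩ := h'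
  exact ⟨c + c', a + a', e + e', fun j hj => by simp [hc j hj, hc' j hj], by rw [nf_add]; ring⟩

theorem inW_C_mul {u v w f : MvPolynomial (Fin 3) k} {d D : ℕ} (r : k) {g : MvPolynomial (Fin 3) k}
    (h : InW u v w f d D g) : InW u v w f d D (C r * g) := by
  obtain ⟨c, a, e, hc, rfl⟩ := h
  exact ⟨r • c, C r * a, C r * e, fun j hj => by simp [hc j hj], by rw [nf_smul]; ring⟩

theorem inW_w {u v w f : MvPolynomial (Fin 3) k} {d D : ℕ} (e : MvPolynomial (Fin 3) k) :
    InW u v w f d D (w * e) :=
  ⟨0, 0, e, fun _ _ => rfl, by simp [nf]⟩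

theorem inW_f {u v w f : MvPolynomial (Fin 3) k} {d D : ℕ} (a : MvPolynomial (Fin 3) k) :
    InW u v w f d D (f * a) :=
  ⟨0, a, 0, fun _ _ => rfl, by simp [nf]⟩

theorem inW_sum {u v w f : MvPolynomial (Fin 3) k} {d D : ℕ} {ι : Type*} (s : Finset ι)
    (g : ι → MvPolynomial (Fin 3) k) (h : ∀ i ∈ s, InW u v w f d D (g i)) :
    InW u v w f d D (∑ i ∈ s, g i) := by
  refine Finset.sum_induction _ _ (fun a b => inW_add) ?_ h
  simpa using inW_w (u := u) (v := v) (w := w) (f := f) (d := d) (D := D) 0

theorem inW_u {u v w f : MvPolynomial (Fin 3) k} {d D : ℕ} {g : MvPolynomial (Fin 3) k}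
    (h : InW u v w f d D g) : InW u v w f d (D + 1) (u * g) := by
  obtain ⟨c, a, e, hc, rfl⟩ := h
  exact ⟨c, u * a, u * e, fun j hj => hc j (by omega), by rw [nf_succ u v d hc]; ring⟩

theorem inW_u_pow {u v w f : MvPolynomial (Fin 3) k} {d D : ℕ} {g : MvPolynomial (Fin 3) k}
    (h : InW u v w f d D g) (n : ℕ) : InW u v w f d (D + n) (u ^ n * g) := by
  induction n with
  | zero => simpa using h
  | succ n ih =>
    rw [pow_succ', mul_assoc]
    exact inW_u ih

theorem exists_filtered_basis {W : Type*} [AddCommGroup W] [Module k W] [Module.Finite k W]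
    (V : ℕ → Submodule k W) (hV : Monotone V) :
    ∃ B : Finset W, B.card ≤ Module.finrank k W ∧ (∀ b ∈ B, ∃ D, b ∈ V D) ∧
      ∀ D, (V D : Set W) ⊆ Submodule.span k {b : W | b ∈ B ∧ b ∈ V D} := by
  classical
  obtain ⟨N, hN⟩ := monotone_stabilizes_iff_noetherian.mpr (inferInstance : IsNoetherian k W) ⟨V, hV⟩
  have key : ∀ n, ∃ b : Set W, b ⊆ V n ∧ LinearIndepOn k id b ∧
      ∀ D ≤ n, (V D : Set W) ⊆ Submodule.span k {x | x ∈ b ∧ x ∈ V D} := by
    intro n
    induction n with
    | zero =>
      obtain ⟨b, hb, -, hsp, hli⟩ := exists_linearIndepOn_id_extension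
        (K := k) (s := (∅ : Set W)) (linearIndepOn_empty k id) (Set.empty_subset (V 0 : Set W))
      refine ⟨b, hb, hli, fun D hD => ?_⟩
      obtain rfl : D = 0 := by omega
      exact hsp.trans (Submodule.span_mono fun x hx => ⟨hx, hb hx⟩)
    | succ n ih =>
      obtain ⟨b₀, hb₀, hli₀, hsp₀⟩ := ih
      obtain ⟨b, hb, hsub, hsp, hli⟩ := exists_linearIndepOn_id_extension hli₀
        (hb₀.trans (SetLike.coe_subset_coe.mpr (hV (Nat.le_succ n))))
      refine ⟨b, hb, hli, fun D hD => ?_⟩
      rcases Nat.lt_or_ge D (n + 1) with h | h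
      · exact (hsp₀ D (by omega)).trans (Submodule.span_mono fun x hx => ⟨hsub hx.1, hx.2⟩)
      · obtain rfl : D = n + 1 := by omega
        exact hsp.trans (Submodule.span_mono fun x hx => ⟨hx, hb hx⟩)
  obtain ⟨b, hb, hli, hsp⟩ := key N
  have hfin : b.Finite := hli.linearIndependent.setFinite
  refine ⟨hfin.toFinset, ?_, fun x hx => ⟨N, hb (hfin.mem_toFinset.mp hx)⟩, fun D => ?_⟩
  · have hli' : LinearIndependent k (fun x : hfin.toFinset => (x : W)) :=
      hli.linearIndependent.comp (fun x : hfin.toFinset => (⟨x.1, hfin.mem_toFinset.mp x.2⟩ : b))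
        (fun x y h => Subtype.ext (congrArg (Subtype.val (p := (· ∈ b))) h))
    simpa using hli'.fintype_card_le_finrank
  · rcases Nat.lt_or_ge D N with h | h
    · exact (hsp D h.le).trans (Submodule.span_mono fun x hx => ⟨hfin.mem_toFinset.mpr hx.1, hx.2⟩)
    · have he : V N = V D := hN D h
      rw [← he]
      exact (hsp N le_rfl).trans (Submodule.span_mono fun x hx => ⟨hfin.mem_toFinset.mpr hx.1, hx.2⟩)

theorem exists_generators_infinite [Infinite k] (Z : Finset (Fin 3 → k)) (hZ : ∀ p ∈ Z, p ≠ 0)
    {f : MvPolynomial (Fin 3) k} {d : ℕ} (hf : f.IsHomogeneous d) (hf0 : f ≠ 0)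
    (hfZ : ∀ p ∈ Z, eval p f = 0) :
    ∃ G : Finset (MvPolynomial (Fin 3) k), G.card ≤ d + 1 ∧ (∀ g ∈ G, Vanishes (Z : Set _) g) ∧
      ∀ g D, g.IsHomogeneous D → Vanishes (Z : Set _) g →
        g ∈ Ideal.span (G : Set (MvPolynomial (Fin 3) k)) := by
  classical
  obtain ⟨q, hq⟩ : ∃ q : Fin 3 → k, eval q f ≠ 0 := by
    by_contra h
    push Not at h
    exact hf0 (MvPolynomial.funext (q := 0) (fun x => by rw [h x, map_zero]))
  by_cases hq0 : ∀ i, q i = 0
  · -- then `f` is a nonzero constant
    have hqz : q = 0 := funext hq0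
    have hd : d = 0 := by
      by_contra hd
      apply hq
      have := eval_smul_of_isHomogeneous hf 0 q
      rw [zero_smul, zero_pow hd, zero_mul] at this
      rwa [hqz]
    subst hd
    refine ⟨{f}, by simp, fun g hg => ?_, fun g D _ _ => ?_⟩
    · rw [Finset.mem_singleton] at hg
      exact hg ▸ vanishes_of_isHomogeneous hf hfZ
    · obtain ⟨c, hc⟩ : ∃ c, f = C c :=
        ⟨_, totalDegree_eq_zero_iff_eq_C.mp ((totalDegree_zero_iff_isHomogeneous (Fin 3)).mpr hf)⟩
      have hu : IsUnit f := by
        rw [hc] at hf0 ⊢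
        exact (Ne.isUnit (fun h => hf0 (by rw [h, map_zero]))).map C
      rw [Finset.coe_singleton, Ideal.span_singleton_eq_top.mpr hu]
      trivial
  push Not at hq0
  obtain ⟨i, hi⟩ := hq0
  obtain ⟨r, hr⟩ : ∃ r : Fin 3 → k, r ∉ Submodule.span k {q} := by
    by_contra h
    push Not at h
    have htop : Submodule.span k {q} = ⊤ := eq_top_iff.mpr fun x _ => h x
    have h2 : Module.finrank k (Fin 3 → k) ≤ 1 := by
      rw [← finrank_top, ← htop]
      exact (finrank_span_le_card _).trans (by simp)
    rw [Module.finrank_fin_fun] at h2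
    omega
  -- the line `w = 0` through `q`, missing `Z`
  obtain ⟨ψw, hψwq, hψwZ, hψw0⟩ :
      ∃ ψ : Module.Dual k (Fin 3 → k), ψ q = 0 ∧ (∀ p ∈ Z, ψ p ≠ 0) ∧ ψ r ≠ 0 := by
    have hout : ∀ p ∈ insert r Z, p ∉ Submodule.span k {q} := by
      intro p hp hmem
      rcases Finset.mem_insert.mp hp with rfl | hp
      · exact hr hmem
      · obtain ⟨c, hc⟩ := Submodule.mem_span_singleton.mp hmem
        have h := hfZ p hp
        rw [← hc, eval_smul_of_isHomogeneous hf, mul_eq_zero] at h
        have hc0 : c = 0 := eq_zero_of_pow_eq_zero (h.resolve_right hq)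
        exact hZ p hp (by rw [← hc, hc0, zero_smul])
    obtain ⟨ψ, hψ, hψ'⟩ := Module.Dual.exists_forall_mem_ne_zero_of_forall_exists
      (Submodule.dualAnnihilator (Submodule.span k {q}))
      (fun p : (insert r Z : Finset _) => Module.Dual.eval k (Fin 3 → k) p.1) (fun p => by
        obtain ⟨φ, hφ0, hφ⟩ := Submodule.exists_dual_map_eq_bot_of_notMem (hout p.1 p.2) inferInstance
        refine ⟨φ, ?_, hφ0⟩
        rw [Submodule.mem_dualAnnihilator]
        intro z hz
        have : φ z ∈ Submodule.map φ (Submodule.span k {q}) := Submodule.mem_map_of_mem hz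
        rwa [hφ, Submodule.mem_bot] at this)
    rw [Submodule.mem_dualAnnihilator] at hψ
    exact ⟨ψ, hψ q (Submodule.mem_span_singleton_self q),
      fun p hp => hψ' ⟨p, Finset.mem_insert_of_mem hp⟩, hψ' ⟨r, Finset.mem_insert_self _ _⟩⟩
  let ψv : Module.Dual k (Fin 3 → k) := (q i)⁻¹ • LinearMap.proj i
  have hψvq : ψv q = 1 := by simp [ψv, hi]
  obtain ⟨ψu, hψuq, hspan⟩ : ∃ ψu : Module.Dual k (Fin 3 → k), ψu q = 0 ∧
      Submodule.span k ({ψu, ψv, ψw} : Set (Module.Dual k (Fin 3 → k))) = ⊤ := by
    have hw : ψw ≠ 0 := fun h => hψw0 (by rw [h]; rfl)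
    obtain ⟨χ, hχ⟩ : ∃ χ, χ ∉ Submodule.span k ({ψv, ψw} : Set (Module.Dual k (Fin 3 → k))) := by
      by_contra h
      push Not at h
      have htop : Submodule.span k ({ψv, ψw} : Set (Module.Dual k (Fin 3 → k))) = ⊤ :=
        eq_top_iff.mpr fun x _ => h x
      have h2 : Module.finrank k (Module.Dual k (Fin 3 → k)) ≤ 2 := by
        rw [← finrank_top, ← htop]
        refine (finrank_span_le_card _).trans ?_
        rw [Set.toFinset_insert, Set.toFinset_singleton]
        exact Finset.card_le_two
      rw [Subspace.dual_finrank_eq, Module.finrank_fin_fun] at h2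
      omega
    refine ⟨χ - χ q • ψv, by simp [hψvq], ?_⟩
    have hli : LinearIndependent k ![χ - χ q • ψv, ψv, ψw] := by
      refine linearIndependent_finCons.mpr ⟨LinearIndependent.pair_iff.mpr fun a b hab => ?_, fun h => ?_⟩
      · have h1 := LinearMap.congr_fun hab q
        simp only [LinearMap.add_apply, LinearMap.smul_apply, hψvq, hψwq, smul_eq_mul, mul_one,
          mul_zero, add_zero, LinearMap.zero_apply] at h1
        subst h1
        rw [zero_smul, zero_add, smul_eq_zero] at hab
        exact ⟨rfl, hab.resolve_right hw⟩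
      · apply hχ
        rw [Matrix.range_cons, Matrix.range_cons, Matrix.range_empty, Set.union_empty,
          Set.singleton_union] at h
        have hv : ψv ∈ Submodule.span k ({ψv, ψw} : Set (Module.Dual k (Fin 3 → k))) :=
          Submodule.subset_span (Set.mem_insert _ _)
        have := add_mem h (Submodule.smul_mem _ (χ q) hv)
        simpa using this
    have := hli.span_eq_top_of_card_eq_finrank
      (by rw [Fintype.card_fin, Subspace.dual_finrank_eq, Module.finrank_fin_fun])
    rw [Matrix.range_cons, Matrix.range_cons, Matrix.range_cons, Matrix.range_empty,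
      Set.union_empty, Set.singleton_union, Set.singleton_union] at this
    exact this
  let u := lin ψu
  let v := lin ψv
  let w := lin ψw
  have hu : u.IsHomogeneous 1 := lin_isHomogeneous ψu
  have hv : v.IsHomogeneous 1 := lin_isHomogeneous ψv
  have hw : w.IsHomogeneous 1 := lin_isHomogeneous ψw
  have hone : homogeneousSubmodule (Fin 3) k 1 ≤ Submodule.span k {u, v, w} := by
    rw [homogeneousSubmodule_one_eq_span_X, Submodule.span_le]
    rintro _ ⟨j, rfl⟩
    have := mem_linSpan hspan j
    rwa [Set.image_insert_eq, Set.image_insert_eq, Set.image_singleton] at this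
  have hstep : ∀ (P : MvPolynomial (Fin 3) k → Prop) (D : ℕ),
      (∀ a b, P a → P b → P (a + b)) →
      (∀ h, h.IsHomogeneous D → ∀ α β γ : k, P ((C α * u + C β * v + C γ * w) * h)) →
      ∀ g, g.IsHomogeneous (D + 1) → P g := by
    intro P D hadd hmul g hg
    have hg' : g ∈ homogeneousSubmodule (Fin 3) k 1 * homogeneousSubmodule (Fin 3) k D := by
      rw [← homogeneousSubmodule_one_pow (σ := Fin 3) (R := k) (n := D), ← pow_succ', homogeneousSubmodule_one_pow]
      exact hg
    refine Submodule.mul_induction_on hg' (fun l hl h hh => ?_) hadd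
    obtain ⟨α, β, γ, hl'⟩ := Submodule.mem_span_triple.mp (hone hl)
    rw [← hl', smul_eq_C_mul, smul_eq_C_mul, smul_eq_C_mul]
    exact hmul h hh α β γ
  -- modulo `u` and `w`
  have hdec : ∀ D g, MvPolynomial.IsHomogeneous g D → ∃ a b : MvPolynomial (Fin 3) k,
      a.IsHomogeneous (D - 1) ∧ (D = 0 → a = 0) ∧ g = C (eval q g) * v ^ D + u * a + w * b := by
    intro D
    induction D with
    | zero =>
      intro g hg
      refine ⟨0, 0, isHomogeneous_zero _ _ _, fun _ => rfl, ?_⟩
      have h := totalDegree_eq_zero_iff_eq_C.mp ((totalDegree_zero_iff_isHomogeneous (Fin 3)).mpr hg)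
      conv_lhs => rw [h]
      conv_rhs => rw [h, eval_C]
      simp
    | succ D ih =>
      refine hstep _ D ?_ ?_
      · rintro x y ⟨a, b, ha, -, hxe⟩ ⟨a', b', ha', -, hye⟩
        refine ⟨a + a', b + b', ha.add ha', fun h => absurd h (Nat.succ_ne_zero D), ?_⟩
        conv_lhs => rw [hxe, hye]
        rw [map_add, map_add]
        ring
      · intro h hh α β γ
        obtain ⟨a, b, ha, ha0, hhe⟩ := ih h hh
        refine ⟨C α * h + C β * (v * a), C β * (v * b) + C γ * h, ?_,
          fun h => absurd h (Nat.succ_ne_zero D), ?_⟩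
        · rw [Nat.add_sub_cancel]
          refine IsHomogeneous.add ?_ ?_
          · simpa using (isHomogeneous_C (Fin 3) α).mul hh
          · rcases Nat.eq_zero_or_pos D with rfl | hD
            · rw [ha0 rfl, mul_zero, mul_zero]
              exact isHomogeneous_zero _ _ _
            · have := (isHomogeneous_C (Fin 3) β).mul (hv.mul ha)
              rw [show 0 + (1 + (D - 1)) = D by omega] at this
              exact this
        · simp only [map_add, map_mul, eval_C,
            show eval q u = 0 from (eval_lin ψu q).trans hψuq,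
            show eval q v = 1 from (eval_lin ψv q).trans hψvq,
            show eval q w = 0 from (eval_lin ψw q).trans hψwq, mul_zero, mul_one, zero_add, add_zero]
          linear_combination (C β * v) * hhe
  have hW : ∀ D g, MvPolynomial.IsHomogeneous g D → InW u v w f d D g := by
    intro D
    induction D using Nat.strong_induction_on with
    | _ D IH =>
    rcases D with _ | D
    · intro g hg
      have h := totalDegree_eq_zero_iff_eq_C.mp ((totalDegree_zero_iff_isHomogeneous (Fin 3)).mpr hg)
      rw [h, ← mul_one (C (coeff 0 g))]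
      refine inW_C_mul _ ?_
      rcases d with _ | d
      · have hfc := totalDegree_eq_zero_iff_eq_C.mp ((totalDegree_zero_iff_isHomogeneous (Fin 3)).mpr hf)
        have hc : coeff 0 f ≠ 0 := fun hh => hf0 (by rw [hfc, hh, map_zero])
        have h1 : f * C ((coeff 0 f)⁻¹) = 1 := by
          conv_lhs => arg 1; rw [hfc]
          rw [← map_mul, mul_inv_cancel₀ hc, map_one]
        rw [← h1]
        exact inW_f _
      · refine ⟨Pi.single 0 1, 0, 0, fun j hj => Pi.single_eq_of_ne (fun h => ?_) _, ?_⟩
        · rw [h] at hj; simp at hj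
        · rw [nf, Finset.sum_eq_single 0]
          · simp
          · intro j _ hj
            rw [Pi.single_eq_of_ne hj, map_zero, zero_mul]
          · simp
    · refine hstep _ D (fun x y => inW_add) ?_
      intro h hh α β γ
      rw [add_mul, add_mul, mul_assoc, mul_assoc, mul_assoc]
      refine inW_add (inW_add (inW_C_mul _ (inW_u (IH D (by omega) h hh))) (inW_C_mul _ ?_))
        (inW_C_mul _ (inW_w _))
      obtain ⟨c, a, e, hc, rfl⟩ := IH D (by omega) h hh
      rw [mul_add, mul_add, mul_left_comm v f a, mul_left_comm v w e]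
      refine inW_add (inW_add ?_ (inW_f _)) (inW_w _)
      rw [nf, Finset.mul_sum]
      refine inW_sum _ _ fun j _ => ?_
      by_cases hj : (j : ℕ) ≤ D
      · rw [if_pos hj, mul_left_comm]
        refine inW_C_mul _ ?_
        rw [show v * (u ^ (D - (j : ℕ)) * v ^ (j : ℕ)) = u ^ (D - (j : ℕ)) * v ^ ((j : ℕ) + 1) by ring]
        by_cases hjd : (j : ℕ) + 1 < d
        · refine ⟨Pi.single ⟨(j : ℕ) + 1, hjd⟩ 1, 0, 0,
            fun l hl => Pi.single_eq_of_ne (fun h => ?_) _, ?_⟩
          · rw [h] at hl; simp at hl; omega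
          · rw [nf, Finset.sum_eq_single ⟨(j : ℕ) + 1, hjd⟩]
            · rw [Pi.single_eq_same, map_one, one_mul, if_pos (by simp; omega)]
              simp
            · intro l _ hl
              rw [Pi.single_eq_of_ne hl, map_zero, zero_mul]
            · simp
        · have hjd' : (j : ℕ) + 1 = d := by omega
          obtain ⟨a', b', ha', -, hfe⟩ := hdec d f hf
          have hvd : v ^ d = C ((eval q f)⁻¹) * (f * 1 + (C (-1) * (u * a') + w * (-b'))) := by
            have h1 : C (eval q f) * v ^ d = f * 1 + (C (-1) * (u * a') + w * (-b')) := by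
              conv_rhs => rw [hfe]
              rw [map_neg, map_one]
              ring
            rw [← h1, ← mul_assoc, ← map_mul, inv_mul_cancel₀ hq, map_one, one_mul]
          rw [hjd']
          have hW' : InW u v w f d d (v ^ d) := by
            rw [hvd]
            refine inW_C_mul _ (inW_add (inW_f _) (inW_add (inW_C_mul _ ?_) (inW_w _)))
            have := inW_u (IH (d - 1) (by omega) a' ha')
            rwa [show d - 1 + 1 = d by omega] at this
          have := inW_u_pow hW' (D - (j : ℕ))
          rwa [show d + (D - (j : ℕ)) = D + 1 by omega] at this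
      · rw [if_neg hj, mul_zero, mul_zero]
        simpa using inW_w (u := u) (v := v) (w := w) (f := f) (d := d) (D := D + 1) 0
  -- saturation
  have hsat : ∀ e, Vanishes (Z : Set _) (w * e) → Vanishes (Z : Set _) e := by
    intro e he
    rw [vanishes_iff] at he ⊢
    intro p hp
    have h1 := he p hp
    rw [map_mul, mul_eq_zero] at h1
    refine h1.resolve_left ?_
    rw [theta_homogeneous p hw, show eval p w = ψw p from eval_lin ψw p]
    exact mul_ne_zero (Polynomial.C_ne_zero.mpr (hψwZ p hp)) (pow_ne_zero _ Polynomial.X_ne_zero)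
  have hvadd : ∀ {x y : MvPolynomial (Fin 3) k}, Vanishes (Z : Set _) x → Vanishes (Z : Set _) y →
      Vanishes (Z : Set _) (x + y) := fun hx hy => vanishes_iff.mpr fun p hp => by
    rw [map_add, vanishes_iff.mp hx p hp, vanishes_iff.mp hy p hp, add_zero]
  have hvmul : ∀ (x : MvPolynomial (Fin 3) k) {y}, Vanishes (Z : Set _) y →
      Vanishes (Z : Set _) (x * y) := fun x y hy => vanishes_iff.mpr fun p hp => by
    rw [map_mul, vanishes_iff.mp hy p hp, mul_zero]
  have hfV : Vanishes (Z : Set _) f := vanishes_of_isHomogeneous hf hfZ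
  let V : ℕ → Submodule k (Fin d → k) := fun D =>
    { carrier := {c | (∀ j : Fin d, D < (j : ℕ) → c j = 0) ∧
        ∃ e, Vanishes (Z : Set _) (nf u v d D c + w * e)}
      zero_mem' := ⟨fun _ _ => rfl, 0, vanishes_iff.mpr fun p _ => by simp [nf]⟩
      add_mem' := by
        rintro c c' ⟨hc, e, he⟩ ⟨hc', e', he'⟩
        refine ⟨fun j hj => by simp [hc j hj, hc' j hj], e + e', ?_⟩
        have := hvadd he he'
        rw [nf_add, mul_add, add_add_add_comm]
        exact this
      smul_mem' := by
        rintro a c ⟨hc, e, he⟩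
        refine ⟨fun j hj => by simp [hc j hj], C a * e, ?_⟩
        rw [nf_smul, mul_left_comm w, ← mul_add]
        exact hvmul _ he }
  have hVmono : Monotone V := monotone_nat_of_le_succ fun D c => by
    rintro ⟨hc, e, he⟩
    refine ⟨fun j hj => hc j (by omega), u * e, ?_⟩
    rw [nf_succ u v d hc, mul_left_comm w, ← mul_add]
    exact hvmul _ he
  obtain ⟨B, hBcard, hBmem, hBspan⟩ := exists_filtered_basis V hVmono
  -- the generators
  let Dg : (Fin d → k) → ℕ := fun b => if h : ∃ D, b ∈ V D then Nat.find h else 0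
  have hDg : ∀ b ∈ B, b ∈ V (Dg b) := fun b hb => by
    simp only [Dg, dif_pos (hBmem b hb)]
    exact Nat.find_spec (hBmem b hb)
  have hDgle : ∀ b D, b ∈ V D → Dg b ≤ D := fun b D hb => by
    simp only [Dg, dif_pos (show ∃ D, b ∈ V D from ⟨D, hb⟩)]
    exact Nat.find_le hb
  have hgen : ∀ b : B, ∃ g e, Vanishes (Z : Set _) g ∧ g.IsHomogeneous (Dg b) ∧
      g = nf u v d (Dg b) b + w * e := by
    rintro ⟨b, hb⟩
    obtain ⟨-, e, he⟩ := hDg b hb
    refine ⟨_, if 1 ≤ Dg b then homogeneousComponent (Dg b - 1) e else 0,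
      vanishes_component he (Dg b), homogeneousComponent_isHomogeneous _ _, ?_⟩
    rw [map_add, homogeneousComponent_eq_self (nf_isHomogeneous u v d hu hv _ _), mul_comm w e,
      CplNoeth.component_mul e hw]
    split_ifs <;> ring
  choose gg ee hgv hgh hge using hgen
  refine ⟨insert f (Finset.univ.image gg), ?_, ?_, ?_⟩
  · refine (Finset.card_insert_le _ _).trans (Nat.succ_le_succ ?_)
    refine Finset.card_image_le.trans ?_
    rw [Finset.card_univ, Fintype.card_coe]
    refine hBcard.trans_eq ?_
    rw [Module.finrank_fin_fun]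
  · intro g hg
    rcases Finset.mem_insert.mp hg with rfl | hg
    · exact hfV
    · obtain ⟨b, -, rfl⟩ := Finset.mem_image.mp hg
      exact hgv b
  · intro g D
    set J := Ideal.span ((insert f (Finset.univ.image gg) : Finset _) : Set (MvPolynomial (Fin 3) k))
    induction D using Nat.strong_induction_on generalizing g with
    | _ D IH =>
    intro hg hgV
    obtain ⟨c, a, e, hc, hgeq⟩ := hW D g hg
    have hcV : c ∈ V D := by
      refine ⟨hc, e, ?_⟩
      rw [show nf u v d D c + w * e = g + (-a) * f by rw [hgeq]; ring]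
      exact hvadd hgV (hvmul _ hfV)
    -- express through the generators
    have hsp : ∃ s ∈ J, ∃ e', Vanishes (Z : Set _) s ∧ s.IsHomogeneous D ∧
        s = nf u v d D c + w * e' := by
      have hmem := hBspan D hcV
      clear hgeq hcV hc
      induction hmem using Submodule.span_induction with
      | mem b hb =>
        obtain ⟨hbB, hbD⟩ := hb
        have hle : Dg b ≤ D := hDgle b D hbD
        refine ⟨u ^ (D - Dg b) * gg ⟨b, hbB⟩, ?_, u ^ (D - Dg b) * ee ⟨b, hbB⟩,
          hvmul _ (hgv _), ?_, ?_⟩
        · exact Ideal.mul_mem_left _ _ (Ideal.subset_span (Finset.mem_coe.mpr (Finset.mem_insert_of_mem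
            (Finset.mem_image.mpr ⟨⟨b, hbB⟩, Finset.mem_univ _, rfl⟩))))
        · have := (hu.pow (D - Dg b)).mul (hgh ⟨b, hbB⟩)
          rwa [one_mul, show D - Dg b + Dg b = D by omega] at this
        · have hpow : ∀ n D₀, (∀ j : Fin d, D₀ < (j : ℕ) → b j = 0) →
              nf u v d (D₀ + n) b = u ^ n * nf u v d D₀ b := by
            intro n D₀ h0
            induction n with
            | zero => simp
            | succ n ih => rw [← Nat.add_assoc, nf_succ u v d (fun j hj => h0 j (by omega)), ih]; ring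
          have := hpow (D - Dg b) (Dg b) (hDg b hbB).1
          rw [show Dg b + (D - Dg b) = D by omega] at this
          rw [this, hge ⟨b, hbB⟩]
          ring
      | zero =>
        exact ⟨0, zero_mem _, 0, vanishes_iff.mpr fun p _ => map_zero _, isHomogeneous_zero _ _ _,
          by simp [nf]⟩
      | add x y _ _ hx hy =>
        obtain ⟨s, hs, e', hsv, hsh, hse⟩ := hx
        obtain ⟨t, ht, e'', htv, hth, hte⟩ := hy
        exact ⟨s + t, add_mem hs ht, e' + e'', hvadd hsv htv, hsh.add hth,
          by rw [nf_add, hse, hte]; ring⟩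
      | smul r x _ hx =>
        obtain ⟨s, hs, e', hsv, hsh, hse⟩ := hx
        refine ⟨C r * s, Ideal.mul_mem_left _ _ hs, C r * e', hvmul _ hsv, ?_,
          by rw [nf_smul, hse]; ring⟩
        simpa using (isHomogeneous_C (Fin 3) r).mul hsh
    obtain ⟨s, hs, e', hsv, hsh, hse⟩ := hsp
    have hrest : w * (e - e') = g + (-a) * f + (-1) * s := by rw [hgeq, hse]; ring
    have he'' : Vanishes (Z : Set _) (e - e') := by
      refine hsat _ ?_
      rw [hrest]
      exact hvadd (hvadd hgV (hvmul _ hfV)) (hvmul _ hsv)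
    have hg2 : g = a * f + s + (e - e') * w := by
      rw [mul_comm (e - e') w, hrest]
      ring
    have hg3 := congrArg (homogeneousComponent D) hg2
    rw [homogeneousComponent_eq_self hg, map_add, map_add, CplNoeth.component_mul a hf,
      homogeneousComponent_eq_self hsh, CplNoeth.component_mul (e - e') hw] at hg3
    rw [hg3]
    refine add_mem (add_mem ?_ hs) ?_
    · split
      · exact Ideal.mul_mem_left _ _ (Ideal.subset_span (Finset.mem_coe.mpr (Finset.mem_insert_self _ _)))
      · exact zero_mem _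
    · split
      · exact Ideal.mul_mem_right _ _ (IH (D - 1) (by omega) _
          (homogeneousComponent_isHomogeneous _ _) (vanishes_component he'' _))
      · exact zero_mem _

/-- Coefficientwise application of a functional. -/
noncomputable def coeffMap {K : Type u} [Field K] [Algebra k K] (l : K →ₗ[k] k)
    (F : MvPolynomial (Fin 3) K) : MvPolynomial (Fin 3) k :=
  ∑ m ∈ F.support, monomial m (l (coeff m F))

theorem coeff_coeffMap {K : Type u} [Field K] [Algebra k K] (l : K →ₗ[k] k)
    (F : MvPolynomial (Fin 3) K) (m : Fin 3 →₀ ℕ) : coeff m (coeffMap l F) = l (coeff m F) := by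
  classical
  rw [coeffMap, coeff_sum]
  simp only [coeff_monomial, Finset.sum_ite_eq']
  split
  · rfl
  · rename_i h
    rw [notMem_support_iff.mp h, map_zero]

theorem coeffMap_add {K : Type u} [Field K] [Algebra k K] (l : K →ₗ[k] k)
    (F G : MvPolynomial (Fin 3) K) : coeffMap l (F + G) = coeffMap l F + coeffMap l G :=
  MvPolynomial.ext _ _ fun m => by simp [coeff_coeffMap]

theorem coeffMap_sum {K : Type u} [Field K] [Algebra k K] (l : K →ₗ[k] k) {ι : Type*} (s : Finset ι)
    (F : ι → MvPolynomial (Fin 3) K) :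
    coeffMap l (∑ i ∈ s, F i) = ∑ i ∈ s, coeffMap l (F i) := by
  classical
  induction s using Finset.induction with
  | empty => exact MvPolynomial.ext _ _ fun m => by simp [coeff_coeffMap]
  | insert a s ha ih => rw [Finset.sum_insert ha, Finset.sum_insert ha, coeffMap_add, ih]

theorem coeffMap_mul {K : Type u} [Field K] [Algebra k K] (l : K →ₗ[k] k)
    (F : MvPolynomial (Fin 3) K) (p : MvPolynomial (Fin 3) k) :
    coeffMap l (F * MvPolynomial.map (algebraMap k K) p) = coeffMap l F * p := by
  classical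
  refine MvPolynomial.ext _ _ fun m => ?_
  rw [coeff_coeffMap, coeff_mul, coeff_mul, map_sum]
  refine Finset.sum_congr rfl fun x _ => ?_
  rw [coeff_coeffMap, coeff_map, mul_comm, ← Algebra.smul_def, map_smul, smul_eq_mul, mul_comm]

theorem exists_functional {K : Type u} [Field K] [Algebra k K] {x : K} (hx : x ≠ 0) :
    ∃ l : K →ₗ[k] k, l x ≠ 0 := by
  obtain ⟨l, hl⟩ := LinearMap.exists_leftInverse_of_injective
    (LinearMap.toSpanSingleton k K x) (LinearMap.ker_toSpanSingleton k hx)
  refine ⟨l, ?_⟩
  have h := LinearMap.congr_fun hl 1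
  rw [LinearMap.comp_apply, LinearMap.toSpanSingleton_apply, one_smul] at h
  rw [h]
  exact one_ne_zero

theorem map_vanishes {K : Type u} [Field K] [Algebra k K] {Z : Finset (Fin 3 → k)}
    {g : MvPolynomial (Fin 3) k} {D : ℕ} (hg : g.IsHomogeneous D) (hv : Vanishes (Z : Set _) g)
    {p : Fin 3 → k} (hp : p ∈ Z) :
    eval (algebraMap k K ∘ p) (MvPolynomial.map (algebraMap k K) g) = 0 := by
  rw [eval_map, ← eval₂_comp, eval_of_vanishes hg hv hp, map_zero]

theorem spanFinrank_le (Z : Finset (Fin 3 → k)) (hZ : ∀ p ∈ Z, p ≠ 0)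
    (I : Ideal (MvPolynomial (Fin 3) k))
    (hI : ∀ f, f ∈ I ↔ Vanishes (Z : Set _) f) (d : ℕ)
    (hf : ∃ f ∈ I, MvPolynomial.IsHomogeneous f d ∧ f ≠ 0) : Submodule.spanFinrank I ≤ d + 1 := by
  classical
  obtain ⟨f, hfI, hfh, hf0⟩ := hf
  -- homogeneous generators
  obtain ⟨S, hS⟩ := (IsNoetherian.noetherian I : Ideal.FG I)
  let T₀ : Finset (MvPolynomial (Fin 3) k) := S.biUnion fun s =>
    (Finset.range (s.totalDegree + 1)).image fun j => homogeneousComponent j s
  have hex : ∃ n, ∃ T : Finset (MvPolynomial (Fin 3) k), T.card = n ∧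
      (∀ b ∈ T, ∃ D, b.IsHomogeneous D) ∧ Ideal.span (T : Set (MvPolynomial (Fin 3) k)) = I := by
    refine ⟨_, T₀, rfl, fun b hb => ?_, le_antisymm (Ideal.span_le.mpr fun b hb => ?_) ?_⟩
    · simp only [T₀, Finset.mem_biUnion, Finset.mem_image] at hb
      obtain ⟨s, _, j, _, rfl⟩ := hb
      exact ⟨j, homogeneousComponent_isHomogeneous j s⟩
    · simp only [T₀, Finset.mem_coe, Finset.mem_biUnion, Finset.mem_image] at hb
      obtain ⟨s, hs, j, _, rfl⟩ := hb
      exact (hI _).mpr (vanishes_component ((hI s).mp (hS ▸ Ideal.subset_span hs)) j)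
    · rw [← hS, Ideal.span_le]
      intro s hs
      rw [SetLike.mem_coe, ← sum_homogeneousComponent s]
      refine Ideal.sum_mem _ fun j hj => Ideal.subset_span ?_
      simp only [T₀, Finset.coe_biUnion, Finset.coe_image, Set.mem_iUnion]
      exact ⟨s, hs, j, hj, rfl⟩
  obtain ⟨T, hTcard, hTh, hTspan⟩ := Nat.find_spec hex
  choose deg hdeg using fun b : T => hTh b.1 b.2
  -- minimality: no constant relation modulo the irrelevant ideal
  have hind : ∀ (a : T → k) (H : T → MvPolynomial (Fin 3) k), (∀ b, coeff 0 (H b) = 0) →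
      ∑ b, C (a b) * b.1 = ∑ b, H b * b.1 → ∀ b, a b = 0 := by
    intro a H hH heq b₀
    by_contra hne
    have hmem : b₀.1 ∈ Ideal.span ((T.erase b₀.1 : Finset _) : Set (MvPolynomial (Fin 3) k)) := by
      set J := Ideal.span ((T.erase b₀.1 : Finset _) : Set (MvPolynomial (Fin 3) k))
      have h1 := congrArg (homogeneousComponent (deg b₀)) heq
      rw [map_sum, map_sum] at h1
      simp only [CplNoeth.component_mul _ (hdeg _)] at h1
      rw [← sub_eq_zero, ← Finset.sum_sub_distrib, ← Finset.add_sum_erase _ _ (Finset.mem_univ b₀),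
        if_pos le_rfl, if_pos le_rfl, Nat.sub_self, homogeneousComponent_zero,
        homogeneousComponent_zero, coeff_zero_C, hH, map_zero, zero_mul, sub_zero] at h1
      have h2 : C (a b₀) * b₀.1 ∈ J := by
        rw [eq_neg_of_add_eq_zero_left h1]
        refine neg_mem (Ideal.sum_mem _ fun b hb => ?_)
        have hb' : b.1 ∈ J := Ideal.subset_span (Finset.mem_coe.mpr (Finset.mem_erase.mpr
          ⟨fun h => (Finset.ne_of_mem_erase hb) (Subtype.ext h), b.2⟩))
        split
        · exact sub_mem (Ideal.mul_mem_left _ _ hb') (Ideal.mul_mem_left _ _ hb')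
        · simp
      have h3 := J.mul_mem_left (C (a b₀)⁻¹) h2
      rwa [← mul_assoc, ← map_mul, inv_mul_cancel₀ hne, map_one, one_mul] at h3
    have hlt : (T.erase b₀.1).card < Nat.find hex := by
      rw [← hTcard]
      exact Finset.card_erase_lt_of_mem b₀.2
    refine Nat.find_min hex hlt ⟨_, rfl, fun b hb => hTh b (Finset.mem_of_mem_erase hb), ?_⟩
    refine le_antisymm ?_ ?_
    · rw [← hTspan]
      exact Ideal.span_mono (Finset.coe_subset.mpr (Finset.erase_subset _ _))
    · rw [← hTspan, Ideal.span_le]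
      intro b hb
      by_cases hbb : b = b₀.1
      · exact hbb ▸ hmem
      · exact Ideal.subset_span (Finset.mem_coe.mpr (Finset.mem_erase.mpr ⟨hbb, hb⟩))
  -- over an infinite field
  let K := AlgebraicClosure k
  let ι := MvPolynomial.map (σ := Fin 3) (algebraMap k K)
  let ZK : Finset (Fin 3 → K) := Z.image fun p => algebraMap k K ∘ p
  have hZK : ∀ p ∈ ZK, p ≠ 0 := by
    intro p hp h0
    obtain ⟨p', hp', rfl⟩ := Finset.mem_image.mp hp
    exact hZ p' hp' (funext fun i => (algebraMap k K).injective (by rw [show algebraMap k K (p' i) = 0 from congrFun h0 i]; simp))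
  have hιf0 : ι f ≠ 0 := fun h =>
    hf0 (MvPolynomial.map_injective _ (algebraMap k K).injective (h.trans (map_zero ι).symm))
  obtain ⟨G, hGcard, hGv, hGgen⟩ := exists_generators_infinite ZK hZK
    (hfh.map (algebraMap k K)) hιf0 (fun p hp => by
      obtain ⟨p', hp', rfl⟩ := Finset.mem_image.mp hp
      exact map_vanishes hfh ((hI f).mp hfI) hp')
  -- members of the extended ideal are combinations of `T`
  have hTK : ∀ F : MvPolynomial (Fin 3) K, Vanishes (ZK : Set _) F →
      F ∈ Ideal.span (ι '' (T : Set (MvPolynomial (Fin 3) k))) := by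
    intro F hF
    rw [← Ideal.map_span, hTspan]
    let bK := Module.Basis.ofVectorSpace k K
    let idx := F.support.biUnion fun m => (bK.repr (coeff m F)).support
    have hFsum : F = ∑ i ∈ idx, C (bK i) * ι (coeffMap (bK.coord i) F) := by
      refine MvPolynomial.ext _ _ fun m => ?_
      simp only [coeff_sum, coeff_C_mul, ι, coeff_map, coeff_coeffMap, Module.Basis.coord_apply]
      conv_lhs => rw [← bK.linearCombination_repr (coeff m F)]
      rw [Finsupp.linearCombination_apply, Finsupp.sum_of_support_subset _ (s := idx)]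
      · exact Finset.sum_congr rfl fun i _ => by rw [Algebra.smul_def, mul_comm]
      · intro i hi
        refine Finset.mem_biUnion.mpr ⟨m, mem_support_iff.mpr fun h => ?_, hi⟩
        rw [h, map_zero] at hi
        simp at hi
      · simp
    rw [hFsum]
    refine Ideal.sum_mem _ fun i _ => Ideal.mul_mem_left _ _ (Ideal.mem_map_of_mem _ ((hI _).mpr ?_))
    intro p hp j
    have hcomp : homogeneousComponent j (coeffMap (bK.coord i) F) =
        coeffMap (bK.coord i) (homogeneousComponent j F) := by
      refine MvPolynomial.ext _ _ fun m => ?_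
      simp only [coeff_homogeneousComponent, coeff_coeffMap]
      split <;> simp
    have hev : ∀ G : MvPolynomial (Fin 3) K,
        eval p (coeffMap (bK.coord i) G) = bK.coord i (eval (algebraMap k K ∘ p) G) := by
      intro G
      rw [coeffMap, map_sum, eval_eq', map_sum]
      refine Finset.sum_congr rfl fun m _ => ?_
      rw [eval_monomial, Finsupp.prod_fintype _ _ (fun _ => pow_zero _)]
      simp only [Function.comp_apply, ← map_pow, ← map_prod]
      rw [mul_comm (coeff m G), ← Algebra.smul_def, map_smul, smul_eq_mul, mul_comm]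
    rw [hcomp, hev, hF _ (Finset.mem_coe.mpr (Finset.mem_image.mpr ⟨p, hp, rfl⟩)) j, map_zero]
  have hTG : ∀ b : T, ι b.1 ∈ Ideal.span (G : Set (MvPolynomial (Fin 3) K)) := fun b =>
    hGgen _ _ ((hdeg b).map (algebraMap k K)) (vanishes_of_isHomogeneous ((hdeg b).map _) fun p hp => by
      obtain ⟨p', hp', rfl⟩ := Finset.mem_image.mp hp
      exact map_vanishes (hdeg b) ((hI _).mp (hTspan ▸ Ideal.subset_span b.2)) hp')
  have hA : ∀ b : T, ∃ A : G → MvPolynomial (Fin 3) K, ∑ g, A g * g.1 = ι b.1 := fun b => by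
    obtain ⟨A, hA⟩ := Submodule.mem_span_finset'.mp (hTG b)
    exact ⟨A, hA⟩
  choose A hA using hA
  have hQ : ∀ g : G, ∃ Q : T → MvPolynomial (Fin 3) K, ∑ b, Q b * ι b.1 = g.1 := fun g => by
    have h := hTK g.1 (hGv g.1 g.2)
    rw [Set.image_eq_range] at h
    obtain ⟨Q, hQ⟩ := (Submodule.mem_span_range_iff_exists_fun _).mp h
    exact ⟨Q, hQ⟩
  choose Q hQ using hQ
  have hcard : T.card ≤ G.card := by
    by_contra hlt
    push Not at hlt
    let Φ : (T → K) →ₗ[K] (G → K) :=
      { toFun := fun c g => ∑ b, c b * coeff 0 (A b g)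
        map_add' := fun c e => funext fun g => by simp [add_mul, Finset.sum_add_distrib]
        map_smul' := fun r c => funext fun g => by simp only [Pi.smul_apply, smul_eq_mul, RingHom.id_apply, mul_assoc]; rw [Finset.mul_sum] }
    obtain ⟨c, hc, hc0⟩ : ∃ c, Φ c = 0 ∧ c ≠ 0 := by
      by_contra h
      push Not at h
      have hinj : Function.Injective Φ := (injective_iff_map_eq_zero Φ).mpr h
      have := LinearMap.finrank_le_finrank_of_injective hinj
      rw [Module.finrank_pi, Module.finrank_pi, Fintype.card_coe, Fintype.card_coe] at this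
      omega
    obtain ⟨b₀, hb₀⟩ : ∃ b, c b ≠ 0 := Function.ne_iff.mp hc0
    obtain ⟨l, hl⟩ := exists_functional (k := k) hb₀
    let Hg : G → MvPolynomial (Fin 3) K := fun g => ∑ b, C (c b) * A b g
    have hHg : ∀ g, coeff 0 (Hg g) = 0 := fun g => by
      have := congrFun hc g
      simp only [Φ, LinearMap.coe_mk, AddHom.coe_mk, Pi.zero_apply] at this
      simp only [Hg, coeff_sum, coeff_C_mul]
      exact this
    let H : T → MvPolynomial (Fin 3) K := fun b => ∑ g, Hg g * Q g b
    have hH : ∀ b, coeff 0 (H b) = 0 := fun b => by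
      simp [H, coeff_sum, coeff_mul, hHg]
    have hkey : ∑ b, C (c b) * ι b.1 = ∑ b, H b * ι b.1 := by
      calc ∑ b, C (c b) * ι b.1 = ∑ b, ∑ g, C (c b) * A b g * g.1 := by
            refine Finset.sum_congr rfl fun b _ => ?_
            rw [← hA b, Finset.mul_sum]
            exact Finset.sum_congr rfl fun g _ => (mul_assoc _ _ _).symm
        _ = ∑ g, Hg g * g.1 := by
            rw [Finset.sum_comm]
            exact Finset.sum_congr rfl fun g _ => by rw [Finset.sum_mul]
        _ = ∑ g, ∑ b, Hg g * Q g b * ι b.1 := by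
            refine Finset.sum_congr rfl fun g _ => ?_
            conv_lhs => rw [← hQ g, Finset.mul_sum]
            exact Finset.sum_congr rfl fun b _ => (mul_assoc _ _ _).symm
        _ = ∑ b, H b * ι b.1 := by
            rw [Finset.sum_comm]
            exact Finset.sum_congr rfl fun b _ => by rw [Finset.sum_mul]
    have hk2 := congrArg (coeffMap l) hkey
    simp only [coeffMap_sum, ι, coeffMap_mul] at hk2
    have hlC : ∀ x : K, coeffMap l (C x) = C (l x) := fun x => MvPolynomial.ext _ _ fun m => by
      simp only [coeff_coeffMap, coeff_C]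
      split <;> simp
    simp only [hlC] at hk2
    exact hl (hind (fun b => l (c b)) (fun b => coeffMap l (H b))
      (fun b => by rw [coeff_coeffMap, hH b, map_zero]) hk2 b₀)
  rw [← hTspan]
  exact ((Submodule.spanFinrank_span_le_ncard_of_finite T.finite_toSet).trans
    (by rw [Set.ncard_coe_finset])).trans (hcard.trans hGcard)

end Groth.Agent.Points
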