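/-
Degree matrices of resolutions of points in the plane
-/
import Groth.Prelude.Def_GrSyz
import Groth.Prelude.Def_GrLC
import Groth.Agent.Lib.GrSyzHilbert
import Groth.Agent.Lib.PointsIdeal
import Mathlib

set_option autoImplicit false
open DirectSum Matrix
open Groth.Agent.GrFreeGraded Groth.Agent.GrSyzBasic Groth.Agent.GrSyzUnique Groth.Agent.GrSyzHilbert

universe u

namespace Groth.Agent.GrSyzPoints

section Block

variable {k R : Type u} [CommRing k] [CommRing R] [IsDomain R] [Algebra k R] {𝒜 : ℤ → Submodule k R}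
  [GradedAlgebra 𝒜] {M : Type u} [AddCommGroup M] [Module k M] [Module R M] {ℳ : ℤ → Submodule k M}
  [Decomposition ℳ] [SetLike.GradedSMul 𝒜 ℳ] (F : GrSyz.FreeRes 𝒜 ℳ)

omit [IsDomain R] in
theorem entry_zero (h : Std 𝒜) (hF : F.IsMinimal (GrSyz.irrel 𝒜).toIdeal) {i : ℕ} {a : Fin (F.rk i)}
    {b : Fin (F.rk (i + 1))} (hab : F.deg (i + 1) b ≤ F.deg i a) : F.d i a b = 0 := by
  by_contra h0
  have := pos_of_mem_irrel h (F.d_mem i a b) (hF i a b) h0
  omega

/-- columns of the second matrix supported in given rows -/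
theorem block (h : Std 𝒜) (hF : F.IsMinimal (GrSyz.irrel 𝒜).toIdeal) (h3 : F.rk 3 = 0)
    (Rs : Finset (Fin (F.rk 1))) (Cs : Finset (Fin (F.rk 2)))
    (hz : ∀ a ∉ Rs, ∀ j ∈ Cs, F.d 1 a j = 0) :
    Cs.card ≤ Rs.card ∧ (Cs.card = Rs.card → Rs = ∅) := by
  classical
  let C : Matrix {a // a ∈ Rs} {j // j ∈ Cs} R := fun a j => F.d 1 a.1 j.1
  have hinj : ∀ v : {j // j ∈ Cs} → R, C.mulVec v = 0 → v = 0 := by
    intro v hv
    let w : Fin (F.rk 2) → R := fun j => if hj : j ∈ Cs then v ⟨j, hj⟩ else 0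
    have hsum : ∀ a, (F.d 1).mulVec w a = ∑ j : {j // j ∈ Cs}, F.d 1 a j.1 * v j := fun a => by
      rw [Matrix.mulVec, dotProduct, ← Finset.sum_subset (Finset.subset_univ Cs)
        (fun j _ hj => by simp [w, hj]), ← Finset.sum_attach, Finset.univ_eq_attach]
      exact Finset.sum_congr rfl fun j _ => by simp [w, j.2]
    have hw : F.dLin 1 w = 0 := funext fun a => by
      show (F.d 1).mulVec w a = 0
      rw [hsum]
      by_cases ha : a ∈ Rs
      · exact congrFun hv ⟨a, ha⟩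
      · exact Finset.sum_eq_zero fun j _ => by rw [hz a ha j.1 j.2, zero_mul]
    obtain ⟨u, hu⟩ := (F.exact_succ 1).le (LinearMap.mem_ker.mpr hw)
    haveI : IsEmpty (Fin (F.rk (1 + 1 + 1))) := by
      rw [show F.rk (1 + 1 + 1) = 0 from h3]; infer_instance
    have hw0 : w = 0 := by
      rw [← hu, show u = 0 from funext fun x => isEmptyElim x, map_zero]
    funext j
    have := congrFun hw0 j.1
    simpa [w, j.2] using this
  have hle : Cs.card ≤ Rs.card := by
    have := card_le_of_injective R C.mulVecLin ((injective_iff_map_eq_zero _).mpr fun v hv => hinj v hv)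
    simpa using this
  refine ⟨hle, fun hcard => ?_⟩
  by_contra hne
  obtain ⟨a₀, ha₀⟩ := Finset.nonempty_iff_ne_empty.mpr hne
  obtain ⟨e⟩ : Nonempty ({j // j ∈ Cs} ≃ {a // a ∈ Rs}) := ⟨Fintype.equivOfCardEq (by simpa using hcard)⟩
  let C' : Matrix {a // a ∈ Rs} {a // a ∈ Rs} R := C.submatrix id e.symm
  have hdet : C'.det ≠ 0 := fun hd => by
    obtain ⟨v, hv0, hv⟩ := Matrix.exists_mulVec_eq_zero_iff.mpr hd
    refine hv0 (funext fun a => ?_)
    have h1 := hinj (fun j => v (e j)) (funext fun a => ?_)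
    · have := congrFun h1 (e.symm a)
      simpa using this
    · rw [← congrFun hv a]
      simp only [Matrix.mulVec, dotProduct, C', Matrix.submatrix_apply, id]
      exact (Fintype.sum_equiv e _ _ fun j => by simp).symm.symm
  obtain ⟨x, hx⟩ := exists_entry_ne F h hF 0 a₀
  have hprod : ∀ j : {j // j ∈ Cs}, ∑ a : {a // a ∈ Rs}, F.d 0 x a.1 * C a j = 0 := fun j => by
    have h0 := congrFun (dd F 0 (Pi.single j.1 1)) x
    have hd1 : F.dLin 1 (Pi.single j.1 1) = fun a => F.d 1 a j.1 := funext fun a => by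
      show (F.d 1).mulVec (Pi.single j.1 1) a = _
      rw [Matrix.mulVec_single_one]
      rfl
    rw [hd1] at h0
    change ∑ a, F.d 0 x a * F.d 1 a j.1 = 0 at h0
    rw [← Finset.sum_subset (Finset.subset_univ Rs) (fun a _ ha => by rw [hz a ha j.1 j.2, mul_zero]),
      ← Finset.sum_attach] at h0
    rw [Finset.univ_eq_attach]
    exact h0
  have hg : (fun a : {a // a ∈ Rs} => F.d 0 x a.1) ᵥ* C' = 0 := funext fun b => hprod (e.symm b)
  by_cases hg0 : (fun a : {a // a ∈ Rs} => F.d 0 x a.1) = 0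
  · exact hx (congrFun hg0 ⟨a₀, ha₀⟩)
  · exact hdet (Matrix.exists_vecMul_eq_zero_iff.mp ⟨_, hg0, hg⟩)

end Block

theorem hb_two_succ (x : ℤ) (hx : 0 ≤ x) : hb 2 (x + 1) - hb 2 x = x + 2 := by
  obtain ⟨N, rfl⟩ := Int.eq_ofNat_of_zero_le hx
  rw [hb, hb, if_pos (by omega), if_pos (by omega), show ((N : ℤ) + 1).toNat = N + 1 by omega, Int.toNat_natCast,
    show 2 + (N + 1) = (2 + N) + 1 by omega, Nat.choose_succ_succ, Nat.choose_one_right]
  push_cast
  ring

variable {k : Type u} [Field k]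

theorem isHomogeneous_of_std {f : MvPolynomial (Fin 3) k} {n : ℕ} (hf : f ∈ GrSyz.stdGr k (Fin 3) (n : ℤ)) :
    f.IsHomogeneous n := by
  intro d hd
  have h := (GrSyz.mem_stdGr_iff k (Fin 3) _ f).mp hf hd
  rw [Finsupp.weight_apply, Finsupp.sum] at h
  rw [Finsupp.weight_apply, Finsupp.sum]
  simp only [smul_eq_mul, Pi.one_apply, mul_one, nsmul_eq_mul, Nat.cast_id] at h ⊢
  exact_mod_cast h

theorem std_of_isHomogeneous {f : MvPolynomial (Fin 3) k} {n : ℕ} (hf : f.IsHomogeneous n) :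
    f ∈ GrSyz.stdGr k (Fin 3) (n : ℤ) := by
  intro d hd
  have h := hf hd
  rw [Finsupp.weight_apply, Finsupp.sum] at h
  rw [Finsupp.weight_apply, Finsupp.sum]
  simp only [smul_eq_mul, Pi.one_apply, mul_one, nsmul_eq_mul, Nat.cast_id] at h ⊢
  exact_mod_cast h

section Bound

variable (Z : Finset (Fin 3 → k)) (I : Ideal (MvPolynomial (Fin 3) k))
    (hI : ∀ f : MvPolynomial (Fin 3) k, f ∈ I ↔
      ∀ p ∈ Z, ∀ j : ℕ, MvPolynomial.eval p (MvPolynomial.homogeneousComponent j f) = 0)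
    {M : Type u} [AddCommGroup M] [Module k M] [Module (MvPolynomial (Fin 3) k) M]
    [IsScalarTower k (MvPolynomial (Fin 3) k) M]
    {ℳ : ℤ → Submodule k M} [Decomposition ℳ] [SetLike.GradedSMul (GrSyz.stdGr k (Fin 3)) ℳ]
    {π : MvPolynomial (Fin 3) k →ₗ[MvPolynomial (Fin 3) k] M} (hπ : Function.Surjective π)
    (hπg : GrLC.IsGrHom (GrSyz.stdGr k (Fin 3)) ℳ π) (hker : LinearMap.ker π = I)
include hI hπ hπg hker

theorem finrank_le (n : ℕ) : Module.finrank k ↥(ℳ (n : ℤ)) ≤ Z.card := by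
  classical
  haveI := (stdGr_finite k 2 (n : ℤ)).1
  let Sn := GrSyz.stdGr k (Fin (2 + 1)) (n : ℤ)
  let P : ↥Sn →ₗ[k] ↥(ℳ (n : ℤ)) :=
    ((π.restrictScalars k).comp Sn.subtype).codRestrict (ℳ (n : ℤ)) fun f => hπg _ _ f.2
  have hP : Function.Surjective P := fun m => by
    have hg : IsGr (GrSyz.stdGr k (Fin 3)) ℳ π := hπg
    obtain ⟨f, hf, hfm⟩ := hg.exists_preimage m.2 (LinearMap.range_eq_top.mpr hπ ▸ Submodule.mem_top)
    exact ⟨⟨f, hf⟩, Subtype.ext hfm⟩
  let L : ↥Sn →ₗ[k] ({p // p ∈ Z} → k) :=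
    LinearMap.pi fun p => (MvPolynomial.aeval (R := k) (p : Fin 3 → k)).toLinearMap.comp Sn.subtype
  have hk : LinearMap.ker L = LinearMap.ker P := by
    ext f
    have hf := isHomogeneous_of_std (k := k) (n := n) f.2
    rw [LinearMap.mem_ker, LinearMap.mem_ker, Subtype.ext_iff]
    show L f = 0 ↔ π f.1 = 0
    rw [← LinearMap.mem_ker (f := π), hker, hI]
    constructor
    · intro h
      refine Groth.Agent.Points.vanishes_of_isHomogeneous (Z := (Z : Set (Fin 3 → k))) hf fun p hp => ?_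
      have := congrFun h ⟨p, hp⟩
      simpa [L, MvPolynomial.aeval_eq_eval] using this
    · intro h
      funext p
      have := Groth.Agent.Points.eval_of_vanishes (Z := (Z : Set (Fin 3 → k))) hf h p.2
      simpa [L, MvPolynomial.aeval_eq_eval] using this
  have e1 := LinearMap.finrank_range_add_finrank_ker P
  have e2 := LinearMap.finrank_range_add_finrank_ker L
  rw [LinearMap.range_eq_top.mpr hP, finrank_top] at e1
  have e3 : Module.finrank k ↥(LinearMap.range L) ≤ Z.card := by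
    refine (Submodule.finrank_le _).trans ?_
    rw [Module.finrank_fintype_fun_eq_card, Fintype.card_coe]
  rw [hk] at e2
  omega

theorem deg_zero_eq (hne : Z.Nonempty) (F : GrSyz.FreeRes (GrSyz.stdGr k (Fin 3)) ℳ) (b : Fin (F.rk 0))
    (h1 : F.rk 0 = 1) : F.deg 0 b = 0 := by
  classical
  obtain ⟨p, hp⟩ := hne
  have h1I : (1 : MvPolynomial (Fin 3) k) ∉ I := fun h => by
    have := (hI 1).mp h p hp 0
    rw [MvPolynomial.homogeneousComponent_zero] at this
    simp at this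
  have hb : ∀ c, c = b := fun c => Fin.ext (by have := c.2; have := b.2; omega)
  obtain ⟨v, hv⟩ := F.aug_surjective (π 1)
  rw [Fintype.linearCombination_apply, Fintype.sum_eq_single b (fun c hc => absurd (hb c) hc)] at hv
  have hne0 : π 1 ≠ 0 := fun e => h1I (hker ▸ LinearMap.mem_ker.mpr e)
  have hg : IsGr (GrSyz.stdGr k (Fin 3)) ℳ π := hπg
  have haug : F.aug b ≠ 0 := fun e => hne0 (by rw [← hv, e, smul_zero])
  have hge : 0 ≤ F.deg 0 b := by
    by_contra hc
    obtain ⟨f, hf, hfm⟩ := hg.exists_preimage (F.aug_mem b) (LinearMap.range_eq_top.mpr hπ ▸ Submodule.mem_top)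
    exact haug (by rw [← hfm, (std_stdGr k _).neg _ (not_le.mp hc) f hf, map_zero])
  by_contra hne'
  have h0 : proj ℳ 0 (π 1) = π 1 := proj_same ℳ (hπg _ _ (SetLike.one_mem_graded _))
  refine hne0 ?_
  rw [← h0, ← hv, proj_smul_right (GrSyz.stdGr k (Fin 3)) ℳ (F.aug_mem b),
    (std_stdGr k _).neg _ (by omega) _ (proj_mem _ _ _), zero_smul]

end Bound

theorem sum_deg_eq {M : Type u} [AddCommGroup M] [Module k M] [Module (MvPolynomial (Fin 3) k) M]
    [IsScalarTower k (MvPolynomial (Fin 3) k) M]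
    {ℳ : ℤ → Submodule k M} [Decomposition ℳ] [SetLike.GradedSMul (GrSyz.stdGr k (Fin 3)) ℳ]
    (F : GrSyz.FreeRes (GrSyz.stdGr k (Fin 3)) ℳ) (hlen : F.HasLengthLE 2) {B : ℕ}
    (hB : ∀ n : ℕ, Module.finrank k ↥(ℳ (n : ℤ)) ≤ B) :
    ((F.rk 0 : ℤ) - F.rk 1 + F.rk 2 = 0) ∧
      (∑ b, F.deg 0 b) - (∑ b, F.deg 1 b) + ∑ b, F.deg 2 b = 0 := by
  classical
  obtain ⟨U, hU⟩ : ∃ U : ℤ, 0 ≤ U ∧ ∀ i : ℕ, i ≤ 2 → ∀ b : Fin (F.rk i), F.deg i b ≤ U := by
    obtain ⟨U, hU⟩ := ((Finset.range 3).biUnion fun i => Finset.univ.image (F.deg i)).bddAbove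
    exact ⟨max U 0, le_max_right _ _, fun i hi b => le_max_of_le_left (hU (Finset.mem_biUnion.mpr
      ⟨i, Finset.mem_range.mpr (by omega), Finset.mem_image_of_mem _ (Finset.mem_univ b)⟩))⟩
  let A : ℤ := (F.rk 0 : ℤ) - F.rk 1 + F.rk 2
  let D : ℤ := (∑ b, F.deg 0 b) - (∑ b, F.deg 1 b) + ∑ b, F.deg 2 b
  let f : ℕ → ℤ := fun n => (Module.finrank k ↥(ℳ ((U.toNat + n : ℕ) : ℤ)) : ℤ)
  have hstep : ∀ n : ℕ, f (n + 1) - f n = A * (((U.toNat + n : ℕ) : ℤ) + 2) - D := by
    intro n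
    have hsum : ∀ i : ℕ, i ≤ 2 → (∑ b, hb 2 (((U.toNat + (n + 1) : ℕ) : ℤ) - F.deg i b)) -
        (∑ b, hb 2 (((U.toNat + n : ℕ) : ℤ) - F.deg i b)) =
        (F.rk i : ℤ) * (((U.toNat + n : ℕ) : ℤ) + 2) - ∑ b, F.deg i b := by
      intro i hi
      rw [← Finset.sum_sub_distrib, show (F.rk i : ℤ) * (((U.toNat + n : ℕ) : ℤ) + 2) =
        ∑ _b : Fin (F.rk i), (((U.toNat + n : ℕ) : ℤ) + 2) by simp, ← Finset.sum_sub_distrib]
      refine Finset.sum_congr rfl fun b _ => ?_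
      have := hU.2 i hi b
      rw [show ((U.toNat + (n + 1) : ℕ) : ℤ) - F.deg i b = ((U.toNat + n : ℕ) : ℤ) - F.deg i b + 1 by omega,
        hb_two_succ _ (by omega)]
      ring
    have e0 := hsum 0 (by omega)
    have e1 := hsum 1 (by omega)
    have e2 := hsum 2 le_rfl
    have hh := fun d => hilbert_std (r := 2) F 2 hlen d
    simp only [f, hh]
    simp only [Finset.sum_range_succ, Finset.sum_range_zero]
    simp only [A, D]
    norm_num at e0 e1 e2 ⊢
    linarith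
  have hbd : ∀ n, 0 ≤ f n ∧ f n ≤ B := fun n => ⟨Int.natCast_nonneg _, by simp only [f]; exact Int.ofNat_le.mpr (hB (U.toNat + n))⟩
  have hA : A = 0 := by
    have h1 := hstep 0
    have h2 := hstep (2 * B + 1)
    have := hbd 0; have := hbd (0 + 1); have := hbd (2 * B + 1); have := hbd (2 * B + 1 + 1)
    have h3 : A * ((2 * B + 1 : ℕ) : ℤ) = (f (2 * B + 1 + 1) - f (2 * B + 1)) - (f (0 + 1) - f 0) := by
      rw [h1, h2]; push_cast; ring
    by_contra hA
    rcases lt_or_gt_of_ne hA with hlt | hgt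
    · have h4 : A * ((2 * B + 1 : ℕ) : ℤ) ≤ (-1) * ((2 * B + 1 : ℕ) : ℤ) :=
        mul_le_mul_of_nonneg_right (by omega) (by omega)
      push_cast at h4 h3
      linarith
    · have h4 : 1 * ((2 * B + 1 : ℕ) : ℤ) ≤ A * ((2 * B + 1 : ℕ) : ℤ) :=
        mul_le_mul_of_nonneg_right (by omega) (by omega)
      push_cast at h4 h3
      linarith
  refine ⟨hA, ?_⟩
  have key : ∀ n : ℕ, f n = f 0 - (n : ℤ) * D := by
    intro n
    induction n with
    | zero => simp
    | succ n ih =>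
      have := hstep n
      rw [hA, zero_mul, zero_sub] at this
      push_cast
      linarith
  by_contra hD
  have h1 := key (B + 1)
  have := hbd 0; have := hbd (B + 1)
  rcases lt_or_gt_of_ne (show D ≠ 0 from hD) with hlt | hgt
  · have h4 : ((B + 1 : ℕ) : ℤ) * D ≤ ((B + 1 : ℕ) : ℤ) * (-1) :=
      mul_le_mul_of_nonneg_left (by omega) (by omega)
    push_cast at h4 h1
    linarith
  · have h4 : ((B + 1 : ℕ) : ℤ) * 1 ≤ ((B + 1 : ℕ) : ℤ) * D :=
      mul_le_mul_of_nonneg_left (by omega) (by omega)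
    push_cast at h4 h1
    linarith

end Groth.Agent.GrSyzPoints
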