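/-
Regularity from free resolutions and from local cohomology
-/
import Groth.Prelude.Def_GrSyz
import Groth.Prelude.Def_GrLC
import Groth.Agent.Lib.GrStarRegLE
import Groth.Agent.Lib.GrSyzUnique
import Mathlib

set_option autoImplicit false
open DirectSum
open Groth.Agent.GrStarBasic Groth.Agent.GrStarHull Groth.Agent.GrStarVan
open Groth.Agent.GrStarRegLE Groth.Agent.GrFreeGraded Groth.Agent.GrSyzBasic Groth.Agent.GrSyzUnique

universe u

namespace Groth.Agent.GrSyzReg

variable {k R : Type u} [Field k] [CommRing R] [Algebra k R] [IsNoetherianRing R] {𝒜 : ℤ → Submodule k R}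
  [GradedAlgebra 𝒜]

variable (𝒜) in
/-- the ring has regularity at most zero and is generated in degree one -/
structure Good : Prop where
  std : Std 𝒜
  gen : (GrSyz.irrel 𝒜).toIdeal = Ideal.span ((𝒜 1 : Set R))
  ring : RegLE (GrSyz.irrel 𝒜) (bundle 𝒜 𝒜) 0

variable [Nontrivial R] (G : Good 𝒜)

variable (𝒜) in
/-- a graded free module as a bundled graded module -/
noncomputable def free {r : ℕ} (δ : Fin r → ℤ) : GrLC.GMod.{u} 𝒜 := bundle 𝒜 (fGr 𝒜 δ)

include G in
theorem regLE_free : ∀ {r : ℕ} (δ : Fin r → ℤ) {d : ℤ}, (∀ b, δ b ≤ d) →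
    RegLE (GrSyz.irrel 𝒜) (free 𝒜 δ) d := by
  intro r
  induction r with
  | zero =>
    intro δ d _
    haveI : Subsingleton (free 𝒜 δ).carrier := inferInstanceAs (Subsingleton (Fin 0 → R))
    exact regLE_of_subsingleton d
  | succ r ih =>
    intro δ d hd
    let A := free 𝒜 (fun b : Fin r => δ b.succ)
    let C := shMod 𝒜 (bundle 𝒜 𝒜).gr (-δ 0)
    let f : A.carrier →ₗ[R] (free 𝒜 δ).carrier :=
      { toFun := fun v => (Fin.cons 0 v : Fin (r + 1) → R)
        map_add' := fun v w => funext fun b => by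
          induction b using Fin.cases with
          | zero => exact (add_zero (0 : R)).symm
          | succ b => exact rfl
        map_smul' := fun c v => funext fun b => by
          induction b using Fin.cases with
          | zero => exact (mul_zero c).symm
          | succ b => exact rfl }
    let g : (free 𝒜 δ).carrier →ₗ[R] C.carrier := LinearMap.proj (R := R) (φ := fun _ : Fin (r + 1) => R) 0
    have hfg : GrLC.IsGrHom A.gr (free 𝒜 δ).gr f := fun n v hv => (mem_fGr 𝒜).mpr fun b => by
      induction b using Fin.cases with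
      | zero => exact Submodule.zero_mem _
      | succ b => exact (mem_fGr 𝒜).mp hv b
    have hgg : GrLC.IsGrHom (free 𝒜 δ).gr C.gr g := fun n v hv => (mem_fGr 𝒜).mp hv 0
    have hf : Function.Injective f := fun v w e => funext fun b => congrFun e b.succ
    have hg : Function.Surjective g := fun c =>
      ⟨(fun _ => (c : R) : Fin (r + 1) → R), rfl⟩
    have hex : Function.Exact f g := fun v => by
      constructor
      · intro hv
        refine ⟨fun b => (v : Fin (r + 1) → R) b.succ, funext fun b => ?_⟩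
        induction b using Fin.cases with
        | zero => exact Eq.symm hv
        | succ b => rfl
      · rintro ⟨w, rfl⟩; rfl
    refine regLE_middle hfg hgg hf hg hex (ih _ fun b => hd b.succ) ?_
    exact regLE_shift (regLE_mono (by have := hd 0; omega) G.ring)

variable {M : Type u} [AddCommGroup M] [Module k M] [Module R M] {ℳ : ℤ → Submodule k M}
  [Decomposition ℳ] [SetLike.GradedSMul 𝒜 ℳ] (F : GrSyz.FreeRes 𝒜 ℳ)

omit [IsNoetherianRing R] in
theorem outKer_hom (i : ℕ) : (outKer F i).IsHomogeneous (fGr 𝒜 (F.deg i)) := by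
  cases i with
  | zero => exact fun n x hx => (isGr_augLin F).ker_proj n hx
  | succ i => exact fun n x hx => (isGr_dLin F i).ker_proj n hx

/-- the syzygy modules -/
noncomputable def syz (i : ℕ) : GrLC.GMod.{u} 𝒜 := subMod 𝒜 (fGr 𝒜 (F.deg i)) (outKer_hom F i)

instance syz_finite (i : ℕ) : Module.Finite R (syz F i).carrier :=
  inferInstanceAs (Module.Finite R ↥(outKer F i))

/-- inclusion of a syzygy module -/
noncomputable def inc (i : ℕ) : (syz F i).carrier →ₗ[R] (free 𝒜 (F.deg i)).carrier := (outKer F i).subtype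

/-- projection onto a syzygy module -/
noncomputable def prj (i : ℕ) : (free 𝒜 (F.deg (i + 1))).carrier →ₗ[R] (syz F i).carrier := toKer F i

/-- projection onto the module -/
noncomputable def aug : (free 𝒜 (F.deg 0)).carrier →ₗ[R] (bundle 𝒜 ℳ).carrier := F.augLin

theorem inc_gr (i : ℕ) : GrLC.IsGrHom (syz F i).gr (free 𝒜 (F.deg i)).gr (inc F i) := fun _ _ h => h

theorem prj_gr (i : ℕ) : GrLC.IsGrHom (free 𝒜 (F.deg (i + 1))).gr (syz F i).gr (prj F i) :=
  fun n x hx => isGr_dLin F i n x hx

theorem aug_gr : GrLC.IsGrHom (free 𝒜 (F.deg 0)).gr (bundle 𝒜 ℳ).gr (aug F) :=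
  fun n x hx => isGr_augLin F n x hx

theorem exact_prj (i : ℕ) : Function.Exact (inc F (i + 1)) (prj F i) :=
  LinearMap.exact_iff.mpr ((ker_toKer F i).trans (Submodule.range_subtype _).symm)

theorem exact_aug : Function.Exact (inc F 0) (aug F) :=
  LinearMap.exact_iff.mpr (Submodule.range_subtype (outKer F 0)).symm

include G in
theorem regLE_of_genLE {N : ℕ} (hN : F.HasLengthLE N) {d : ℤ} (hd : F.IsGenLE d) :
    RegLE (GrSyz.irrel 𝒜) (bundle 𝒜 ℳ) d := by
  have key : ∀ m i : ℕ, N + 1 ≤ i + m → RegLE (GrSyz.irrel 𝒜) (syz F i) (d + i + 1) := by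
    intro m
    induction m with
    | zero =>
      intro i hi
      haveI : IsEmpty (Fin (F.rk i)) := by rw [hN i (by omega)]; infer_instance
      haveI : Subsingleton (syz F i).carrier := inferInstanceAs (Subsingleton ↥(outKer F i))
      exact regLE_of_subsingleton _
    | succ m ih =>
      intro i hi
      refine regLE_right (d' := d + i + 2) (inc_gr F (i + 1)) (prj_gr F i) Subtype.val_injective
        (toKer_surjective F i) (exact_prj F i) (by omega) ?_ (regLE_free G _ fun b => ?_)
      · have := ih (i + 1) (by omega)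
        rwa [show d + ((i + 1 : ℕ) : ℤ) + 1 = d + i + 2 by omega] at this
      · have := hd (i + 1) b
        omega
  refine regLE_right (d' := d + 1) (inc_gr F 0) (aug_gr F) Subtype.val_injective F.aug_surjective (exact_aug F)
    rfl ?_ (regLE_free G _ fun b => ?_)
  · have := key (N + 1) 0 (by omega)
    rwa [Nat.cast_zero, add_zero] at this
  · have := hd 0 b
    omega

include G in
theorem deg_le {X : GrLC.GMod.{u} 𝒜} [Module.Finite R X.carrier] {r : ℕ} {δ : Fin r → ℤ}
    {f : (free 𝒜 δ).carrier →ₗ[R] X.carrier} (hf : GrLC.IsGrHom (free 𝒜 δ).gr X.gr f)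
    (hs : Function.Surjective f) (hk : ∀ v : Fin r → R, f v = 0 → ∀ b, v b ∈ (GrSyz.irrel 𝒜).toIdeal)
    {D : ℤ} (hX : RegLE (GrSyz.irrel 𝒜) X D) (b : Fin r) : δ b ≤ D := by
  classical
  have htop := Groth.Agent.GrStarReg.span_eq_top X.gr G.std.neg (GrSyz.irrel 𝒜) G.gen (fun n => n ≤ D)
    (fun g hg j => van_congr (X := bundle 𝒜 X.gr) (Y := X) (LinearEquiv.refl R X.carrier) (fun _ _ hx => hx) (hX j (g - j) (by omega)))
  by_contra hb
  have key : ∀ x ∈ Submodule.span R (⋃ (n : ℤ) (_ : n ≤ D), (X.gr n : Set X.carrier)),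
      ∃ v : (free 𝒜 δ).carrier, f v = x ∧ (v : Fin r → R) b = 0 := by
    intro x hx
    induction hx using Submodule.span_induction with
    | mem y hy =>
      obtain ⟨n, hn, hy⟩ := Set.mem_iUnion₂.mp hy
      obtain ⟨v, hv, rfl⟩ := exists_preimage hf hy (LinearMap.range_eq_top.mpr hs ▸ Submodule.mem_top)
      exact ⟨v, rfl, G.std.neg _ (by omega) _ ((mem_fGr 𝒜).mp hv b)⟩
    | zero => exact ⟨0, map_zero f, rfl⟩
    | add y z _ _ hy hz =>
      obtain ⟨v, rfl, hv⟩ := hy
      obtain ⟨w, rfl, hw⟩ := hz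
      exact ⟨v + w, map_add f v w, (congrArg₂ (· + ·) hv hw).trans (add_zero 0)⟩
    | smul c y _ hy =>
      obtain ⟨v, rfl, hv⟩ := hy
      exact ⟨c • v, map_smul f c v, (congrArg (c * ·) hv).trans (mul_zero c)⟩
  let e : (free 𝒜 δ).carrier := (Pi.single b 1 : Fin r → R)
  obtain ⟨v, hv, hv0⟩ := key (f e) (htop ▸ Submodule.mem_top)
  refine one_notMem G.std ?_
  have h1 := hk (e - v) (by rw [map_sub, hv, sub_self]) b
  rwa [show ((e - v : (free 𝒜 δ).carrier) : Fin r → R) b = e b - (v : Fin r → R) b from rfl, hv0, sub_zero,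
    show (e : Fin r → R) b = 1 from Pi.single_eq_same _ _] at h1

include G in
theorem genLE_of_regLE [Module.Finite R M] (hF : F.IsMinimal (GrSyz.irrel 𝒜).toIdeal) {d : ℤ}
    (hd : RegLE (GrSyz.irrel 𝒜) (bundle 𝒜 ℳ) d) : F.IsGenLE d := by
  have hk := (isMinimal_iff_ker F _).mp hF
  haveI : Module.Finite R (bundle 𝒜 ℳ).carrier := ‹Module.Finite R M›
  have h0 : ∀ b, F.deg 0 b ≤ d :=
    deg_le G (aug_gr F) F.aug_surjective (fun v hv => hk 0 v hv) hd
  have key : ∀ i, RegLE (GrSyz.irrel 𝒜) (syz F i) (d + i + 1) := by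
    intro i
    induction i with
    | zero =>
      refine regLE_left (d' := d) (inc_gr F 0) (aug_gr F) Subtype.val_injective F.aug_surjective (exact_aug F)
        (by omega) (regLE_free G _ fun b => ?_) hd
      have := h0 b
      omega
    | succ i ih =>
      refine regLE_left (d' := d + i + 1) (inc_gr F (i + 1)) (prj_gr F i) Subtype.val_injective
        (toKer_surjective F i) (exact_prj F i) (by omega) (regLE_free G _ fun b => ?_) ih
      have := deg_le G (prj_gr F i) (toKer_surjective F i)
        (fun v hv => hk (i + 1) v ((ker_toKer F i).le hv)) ih b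
      omega
  intro i b
  cases i with
  | zero => have := h0 b; omega
  | succ i =>
    have := deg_le G (prj_gr F i) (toKer_surjective F i) (fun v hv => hk (i + 1) v ((ker_toKer F i).le hv))
      (key i) b
    omega

end Groth.Agent.GrSyzReg
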