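/-
Regularity over polynomial rings
-/
import Groth.Agent.Lib.GrSyzReg
import Mathlib

set_option autoImplicit false
open DirectSum MvPolynomial
open Groth.Agent.GrStarBasic Groth.Agent.GrStarHull Groth.Agent.GrStarVan
open Groth.Agent.GrStarRegLE Groth.Agent.GrFreeGraded Groth.Agent.GrSyzBasic Groth.Agent.GrSyzUnique Groth.Agent.GrSyzReg

universe u

namespace Groth.Agent.GrSyzPoly

variable (k : Type u) [Field k] (n : ℕ)

theorem X_mem (i : Fin n) : (X i : (MvPolynomial (Fin n) k)) ∈ GrSyz.stdGr k (Fin n) 1 := by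
  rw [GrSyz.mem_stdGr_iff]
  exact MvPolynomial.isWeightedHomogeneous_X k (fun _ : Fin n => (1 : ℤ)) i

theorem irrel_le_span : (GrSyz.irrel (GrSyz.stdGr k (Fin n))).toIdeal ≤
    Ideal.span ((X : Fin n → (MvPolynomial (Fin n) k)) '' Set.univ) := by
  refine Ideal.span_le.mpr ?_
  rintro p ⟨m, hm, hp⟩
  rw [SetLike.mem_coe, MvPolynomial.mem_ideal_span_X_image]
  intro d hd
  rw [GrSyz.mem_stdGr_iff] at hp
  have h1 := hp (MvPolynomial.mem_support_iff.mp hd)
  by_contra hc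
  push Not at hc
  have : d = 0 := Finsupp.ext fun i => by simpa using hc i (Set.mem_univ i)
  rw [this, map_zero] at h1
  omega

theorem irrel_eq : (GrSyz.irrel (GrSyz.stdGr k (Fin n))).toIdeal =
    Ideal.span ((GrSyz.stdGr k (Fin n) 1 : Set (MvPolynomial (Fin n) k))) := by
  refine le_antisymm ((irrel_le_span k n).trans (Ideal.span_mono ?_)) (Ideal.span_mono fun p hp => ⟨1, one_pos, hp⟩)
  rintro _ ⟨i, -, rfl⟩
  exact X_mem k n i

/-- the ideals of the first variables -/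
noncomputable def pI (j : ℕ) : Ideal (MvPolynomial (Fin n) k) := Ideal.span ((X : Fin n → (MvPolynomial (Fin n) k)) '' {b | b.val < j})

theorem pI_hom (j : ℕ) :
    Submodule.IsHomogeneous (pI k n j : Submodule (MvPolynomial (Fin n) k) (MvPolynomial (Fin n) k)) (GrSyz.stdGr k (Fin n)) :=
  fun g x hx => Ideal.homogeneous_span (GrSyz.stdGr k (Fin n)) _
    (by rintro _ ⟨i, -, rfl⟩; exact ⟨1, X_mem k n i⟩) g hx

theorem mem_of_X_mul {j : ℕ} (i : Fin n) (hi : ¬ i.val < j) {p : (MvPolynomial (Fin n) k)} (h : X i * p ∈ pI k n j) : p ∈ pI k n j := by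
  classical
  rw [pI, MvPolynomial.mem_ideal_span_X_image] at h ⊢
  intro d hd
  obtain ⟨b, hb, hne⟩ := h (Finsupp.single i 1 + d) (by
    rw [MvPolynomial.support_X_mul]
    exact Finset.mem_map.mpr ⟨d, hd, rfl⟩)
  refine ⟨b, hb, ?_⟩
  rw [Finsupp.add_apply, Finsupp.single_eq_of_ne (fun e => hi (by subst e; exact hb)), zero_add] at hne
  exact hne

/-- the quotients by the first variables -/
noncomputable def qMod (j : ℕ) : GrLC.GMod.{u} (GrSyz.stdGr k (Fin n)) :=
  quoMod (GrSyz.stdGr k (Fin n)) (GrSyz.stdGr k (Fin n)) (pI_hom k n j)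

theorem regLE_qMod : ∀ m j : ℕ, n ≤ j + m →
    RegLE (GrSyz.irrel (GrSyz.stdGr k (Fin n))) (qMod k n j) 0 := by
  intro m
  induction m with
  | zero =>
    intro j hj
    have hall : (GrSyz.irrel (GrSyz.stdGr k (Fin n))).toIdeal ≤ pI k n j :=
      (irrel_le_span k n).trans (Ideal.span_mono (Set.image_mono fun b _ => show b.val < j by have := b.2; omega))
    refine regLE_of_torsion (fun x => ?_) fun g hg x hx => ?_
    · obtain ⟨(p : (MvPolynomial (Fin n) k)), rfl⟩ := (pI k n j).mkQ_surjective x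
      refine ⟨1, fun r hr => ?_⟩
      rw [pow_one] at hr
      exact (map_smul (pI k n j).mkQ r p).symm.trans
        ((Submodule.Quotient.mk_eq_zero _).mpr (Ideal.mul_mem_right p _ (hall hr)))
    · obtain ⟨p, hp, rfl⟩ := hx
      exact (Submodule.Quotient.mk_eq_zero _).mpr (hall (Ideal.subset_span ⟨g, hg, hp⟩))
  | succ m ih =>
    intro j hj
    rcases lt_or_ge j n with hjn | hjn
    swap
    · exact ih j (by omega)
    let i : Fin n := ⟨j, hjn⟩
    have hle : pI k n j ≤ pI k n (j + 1) := Ideal.span_mono (Set.image_mono fun b (hb : b.val < j) => Nat.lt_succ_of_lt hb)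
    let π : (qMod k n j).carrier →ₗ[(MvPolynomial (Fin n) k)] (qMod k n (j + 1)).carrier :=
      (pI k n j).liftQ (pI k n (j + 1)).mkQ (hle.trans (Submodule.ker_mkQ _).ge)
    have hπ : GrLC.IsGrHom (qMod k n j).gr (qMod k n (j + 1)).gr π := by
      rintro g _ ⟨p, hp, rfl⟩
      exact ⟨p, hp, rfl⟩
    refine regLE_of_smul (Y := qMod k n (j + 1)) (e := 1) le_rfl (X_mem k n i)
      ((irrel_eq k n).ge (Ideal.subset_span (X_mem k n i))) ?_ hπ ?_ ?_ (ih (j + 1) (by omega))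
    · intro x y hxy
      obtain ⟨(p : (MvPolynomial (Fin n) k)), rfl⟩ := (pI k n j).mkQ_surjective x
      obtain ⟨(q : (MvPolynomial (Fin n) k)), rfl⟩ := (pI k n j).mkQ_surjective y
      have h2 : (pI k n j).mkQ ((X i : (MvPolynomial (Fin n) k)) • p) = (pI k n j).mkQ ((X i : (MvPolynomial (Fin n) k)) • q) :=
        ((map_smul (pI k n j).mkQ (X i : (MvPolynomial (Fin n) k)) p).trans hxy).trans (map_smul (pI k n j).mkQ (X i : (MvPolynomial (Fin n) k)) q).symm
      refine (Submodule.Quotient.eq _).mpr (mem_of_X_mul k n i (lt_irrefl j) ?_)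
      rw [mul_sub]
      exact (Submodule.Quotient.eq _).mp h2
    · intro y
      obtain ⟨(p : (MvPolynomial (Fin n) k)), rfl⟩ := (pI k n (j + 1)).mkQ_surjective y
      exact ⟨(pI k n j).mkQ p, rfl⟩
    · intro x
      obtain ⟨(p : (MvPolynomial (Fin n) k)), rfl⟩ := (pI k n j).mkQ_surjective x
      constructor
      · intro hp
        have hp' : p ∈ pI k n (j + 1) := (Submodule.Quotient.mk_eq_zero _).mp hp
        have hset : {b : Fin n | b.val < j + 1} = {b | b.val < j} ∪ {i} := by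
          ext b; simp [i, Fin.ext_iff]; omega
        rw [pI, hset, Set.image_union, Set.image_singleton, Ideal.span_union] at hp'
        obtain ⟨q, hq, w, hw, rfl⟩ := Submodule.mem_sup.mp hp'
        obtain ⟨c, rfl⟩ := Ideal.mem_span_singleton'.mp hw
        refine ⟨(pI k n j).mkQ c, ?_⟩
        refine (map_smul (pI k n j).mkQ (X i : (MvPolynomial (Fin n) k)) c).symm.trans ((Submodule.Quotient.eq _).mpr ?_)
        rw [smul_eq_mul, show X i * c - (q + c * X i) = -q by ring]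
        exact neg_mem hq
      · rintro ⟨w, hw⟩
        obtain ⟨(c : (MvPolynomial (Fin n) k)), rfl⟩ := (pI k n j).mkQ_surjective w
        rw [← hw]
        refine (map_smul π (X i : (MvPolynomial (Fin n) k)) ((pI k n j).mkQ c)).trans ?_
        refine (map_smul (pI k n (j + 1)).mkQ (X i : (MvPolynomial (Fin n) k)) c).symm.trans ((Submodule.Quotient.mk_eq_zero _).mpr ?_)
        exact Ideal.mul_mem_right c _ (Ideal.subset_span ⟨i, Nat.lt_succ_self j, rfl⟩)

theorem good : Good (GrSyz.stdGr k (Fin n)) where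
  std := std_stdGr k _
  gen := irrel_eq k n
  ring := by
    have h0 : pI k n 0 = ⊥ := by simp [pI]
    refine regLE_congr (Y := qMod k n 0) (Submodule.quotEquivOfEqBot _ h0).symm ?_ (regLE_qMod k n n 0 (by omega))
    exact fun g x hx => ⟨x, hx, rfl⟩

variable {M : Type u} [AddCommGroup M] [Module k M] [Module (MvPolynomial (Fin n) k) M] [Module.Finite (MvPolynomial (Fin n) k) M]
  {ℳ : ℤ → Submodule k M} [Decomposition ℳ] [SetLike.GradedSMul (GrSyz.stdGr k (Fin n)) ℳ]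

theorem genLE_iff (F : GrSyz.FreeRes (GrSyz.stdGr k (Fin n)) ℳ)
    (hF : F.IsMinimal (GrSyz.irrel (GrSyz.stdGr k (Fin n))).toIdeal) (d : ℤ) :
    F.IsGenLE d ↔ RegLE (GrSyz.irrel (GrSyz.stdGr k (Fin n))) (bundle (GrSyz.stdGr k (Fin n)) ℳ) d :=
  ⟨regLE_of_genLE (good k n) F ((hasLengthLE_iff F (std_stdGr k _) hF n).mpr (pdLT_mvPolynomial k n M)),
    genLE_of_regLE (good k n) F hF⟩

theorem isRegLE_iff (d : ℤ) :
    GrSyz.IsRegLE (GrSyz.stdGr k (Fin n)) ℳ (GrSyz.irrel (GrSyz.stdGr k (Fin n))).toIdeal d ↔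
      RegLE (GrSyz.irrel (GrSyz.stdGr k (Fin n))) (bundle (GrSyz.stdGr k (Fin n)) ℳ) d := by
  constructor
  · rintro ⟨F, hF, hd⟩
    exact (genLE_iff k n F hF d).mp hd
  · intro h
    obtain ⟨F, hF⟩ := exists_minimal (𝒜 := GrSyz.stdGr k (Fin n)) (ℳ := ℳ) (std_stdGr k _)
    exact ⟨F, hF, (genLE_iff k n F hF d).mpr h⟩

theorem reg_le_iff (r : ℤ) :
    GrSyz.reg (GrSyz.stdGr k (Fin n)) ℳ (GrSyz.irrel (GrSyz.stdGr k (Fin n))).toIdeal ≤
        ((r : WithTop ℤ) : WithBot (WithTop ℤ)) ↔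
      RegLE (GrSyz.irrel (GrSyz.stdGr k (Fin n))) (bundle (GrSyz.stdGr k (Fin n)) ℳ) r := by
  refine ⟨fun h => ?_, fun h => iInf₂_le r ((isRegLE_iff k n r).mpr h)⟩
  by_contra hc
  have hle : (((r + 1 : ℤ) : WithTop ℤ) : WithBot (WithTop ℤ)) ≤
      GrSyz.reg (GrSyz.stdGr k (Fin n)) ℳ (GrSyz.irrel (GrSyz.stdGr k (Fin n))).toIdeal := by
    refine le_iInf₂ fun s hs => ?_
    rw [WithBot.coe_le_coe, WithTop.coe_le_coe]
    by_contra hs'
    exact hc (regLE_mono (by omega) ((isRegLE_iff k n s).mp hs))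
  have := hle.trans h
  rw [WithBot.coe_le_coe, WithTop.coe_le_coe] at this
  omega

theorem reg_eq (x : WithBot (WithTop ℤ))
    (h : ∀ r : ℤ, x ≤ ((r : WithTop ℤ) : WithBot (WithTop ℤ)) ↔
      RegLE (GrSyz.irrel (GrSyz.stdGr k (Fin n))) (bundle (GrSyz.stdGr k (Fin n)) ℳ) r) :
    GrSyz.reg (GrSyz.stdGr k (Fin n)) ℳ (GrSyz.irrel (GrSyz.stdGr k (Fin n))).toIdeal = x := by
  conv_rhs => rw [← iInf_eq_self x]
  exact iInf_congr fun r => iInf_congr_Prop ((isRegLE_iff k n r).trans (h r).symm) fun _ => rfl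

end Groth.Agent.GrSyzPoly
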