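/-
Tor against the residue field from minimal graded free resolutions
-/
import Groth.Prelude.Def_GrSyz
import Groth.Agent.Lib.GrSyzUnique
import Mathlib

set_option autoImplicit false
open DirectSum CategoryTheory
open Groth.Agent.GrFreeGraded Groth.Agent.GrSyzBasic Groth.Agent.GrSyzUnique
open scoped TensorProduct
open MonoidalCategory

universe u

namespace Groth.Agent.GrSyzTor

variable {k R : Type u} [CommRing k] [CommRing R] [Algebra k R] {𝒜 : ℤ → Submodule k R} [GradedAlgebra 𝒜]

theorem irrel_isMaximal (h : Std 𝒜) [Nontrivial R] : (GrSyz.irrel 𝒜).toIdeal.IsMaximal := by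
  refine Ideal.isMaximal_iff.mpr ⟨one_notMem h, fun J x hle hx hxJ => ?_⟩
  have hd : x - proj 𝒜 0 x ∈ (GrSyz.irrel 𝒜).toIdeal := mem_irrel h (by
    rw [sub_eq_add_neg, proj_add, ← neg_one_smul R (proj 𝒜 0 x),
      proj_smul_left 𝒜 𝒜 (neg_mem (SetLike.one_mem_graded 𝒜)), sub_zero, proj_same 𝒜 (proj_mem 𝒜 0 x),
      neg_one_smul, add_neg_cancel])
  have h0 : proj 𝒜 0 x ≠ 0 := fun e => hx (by simpa [e] using hd)
  obtain ⟨u, hu⟩ := h.zero _ (proj_mem 𝒜 0 x) h0
  have hm : proj 𝒜 0 x ∈ J := by simpa using sub_mem hxJ (hle hd)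
  have := Ideal.eq_top_of_isUnit_mem J hm ⟨u, hu⟩
  rw [this]; exact Submodule.mem_top

variable {M : Type u} [AddCommGroup M] [Module k M] [Module R M] {ℳ : ℤ → Submodule k M}
  [Decomposition ℳ] [SetLike.GradedSMul 𝒜 ℳ] (F : GrSyz.FreeRes 𝒜 ℳ)

/-- the underlying chain complex -/
noncomputable def cx : ChainComplex (ModuleCat.{u} R) ℕ :=
  ChainComplex.of (fun n => ModuleCat.of R (Fin (F.rk n) → R)) (fun n => ModuleCat.ofHom (F.dLin n))
    (fun n => by
      ext1
      exact LinearMap.ext fun x => dd F n x)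

theorem cx_d (n : ℕ) : (cx F).d (n + 1) n = ModuleCat.ofHom (F.dLin n) := by simp [cx]

theorem cx_w : (cx F).d 1 0 ≫ ModuleCat.ofHom F.augLin = 0 := by
  rw [cx_d F 0]
  ext1
  exact LinearMap.ext fun x => aug_d F x

/-- a graded free resolution as a projective resolution -/
noncomputable def res : ProjectiveResolution (ModuleCat.of R M) where
  complex := cx F
  projective n := by
    show Projective (ModuleCat.of R (Fin (F.rk n) → R))
    exact ModuleCat.projective_of_free (Pi.basisFun R _)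
  π := (ChainComplex.toSingle₀Equiv _ _).symm ⟨ModuleCat.ofHom F.augLin, cx_w F⟩
  quasiIso := ⟨fun n => by
    cases n with
    | zero =>
      rw [ChainComplex.quasiIsoAt₀_iff, ShortComplex.quasiIso_iff_of_zeros']
      · refine (ShortComplex.exact_and_epi_g_iff_of_iso (S₁ := ShortComplex.mk ((cx F).d 1 0) (ModuleCat.ofHom F.augLin) (cx_w F)) ?_).1 ⟨?_, ?_⟩
        · exact ShortComplex.isoMk (Iso.refl _) (Iso.refl _) (Iso.refl _) (by dsimp; exact (Category.id_comp _).trans (Category.comp_id _).symm) (by dsimp; exact (Category.id_comp _).trans ((ChainComplex.toSingle₀Equiv_symm_apply_f_zero _ (cx_w F)).trans (Category.comp_id _).symm))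
        · rw [ShortComplex.moduleCat_exact_iff]
          intro x hx
          obtain ⟨y, hy⟩ := F.exact_zero.le hx
          refine ⟨y, ?_⟩
          show ((cx F).d (0 + 1) 0).hom y = x
          rw [cx_d]
          exact hy
        · exact (ModuleCat.epi_iff_surjective _).mpr F.aug_surjective
      all_goals rfl
    | succ n =>
      rw [quasiIsoAt_iff_exactAt']
      · rw [HomologicalComplex.exactAt_iff' _ (n + 1 + 1) (n + 1) n (by simp) (by simp), ShortComplex.moduleCat_exact_iff]
        intro x hx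
        change ((cx F).d (n + 1) n).hom x = 0 at hx
        rw [cx_d] at hx
        obtain ⟨y, hy⟩ := (F.exact_succ n).le hx
        refine ⟨y, ?_⟩
        show ((cx F).d (n + 1 + 1) (n + 1)).hom y = x
        rw [cx_d]
        exact hy
      · exact ChainComplex.exactAt_succ_single_obj _ n⟩

theorem lTensor_eq_zero (J : Ideal R) {r s : ℕ} (f : (Fin r → R) →ₗ[R] (Fin s → R))
    (hf : ∀ x a, f x a ∈ J) : f.lTensor (R ⧸ J) = 0 := by
  classical
  refine TensorProduct.ext' fun q x => ?_
  rw [LinearMap.lTensor_tmul, LinearMap.zero_apply, ← Finset.univ_sum_single (f x), TensorProduct.tmul_sum]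
  refine Finset.sum_eq_zero fun a _ => ?_
  rw [show (Pi.single a (f x a) : Fin s → R) = f x a • Pi.single a (1 : R) by simp [← Pi.single_smul],
    TensorProduct.tmul_smul, TensorProduct.smul_tmul']
  have : f x a • q = 0 := by
    obtain ⟨q, rfl⟩ := Ideal.Quotient.mk_surjective q
    rw [Algebra.smul_def, Ideal.Quotient.algebraMap_eq, ← map_mul]
    exact Ideal.Quotient.eq_zero_iff_mem.mpr (Ideal.mul_mem_right _ _ (hf x a))
  rw [this, TensorProduct.zero_tmul]

theorem length_tor (h : Std 𝒜) [Nontrivial R] (hF : F.IsMinimal (GrSyz.irrel 𝒜).toIdeal) (i : ℕ) :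
    Module.length R (((CategoryTheory.Tor (ModuleCat.{u} R) i).obj
      (ModuleCat.of R (R ⧸ (GrSyz.irrel 𝒜).toIdeal))).obj (ModuleCat.of R M)) = (F.rk i : ℕ∞) := by
  classical
  let J := (GrSyz.irrel 𝒜).toIdeal
  let K := ((tensorLeft (ModuleCat.of R (R ⧸ J))).mapHomologicalComplex _).obj (res F).complex
  let e : ((CategoryTheory.Tor (ModuleCat.{u} R) i).obj (ModuleCat.of R (R ⧸ J))).obj (ModuleCat.of R M) ≅
      K.homology i := (res F).isoLeftDerivedObj (tensorLeft (ModuleCat.of R (R ⧸ J))) i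
  have hd : ∀ a b, K.d a b = 0 := by
    intro a b
    by_cases hab : (ComplexShape.down ℕ).Rel a b
    · obtain rfl : b + 1 = a := hab
      show (tensorLeft (ModuleCat.of R (R ⧸ J))).map ((cx F).d (b + 1) b) = 0
      rw [cx_d]
      ext1
      exact lTensor_eq_zero J (F.dLin b) fun x a =>
        (isMinimal_iff_ker F J).mp hF b _ ((outKer_eq F b).ge ⟨x, rfl⟩) a
    · exact K.shape a b hab
  haveI := K.isIso_homologyπ ((ComplexShape.down ℕ).prev i) i rfl (hd _ _)
  haveI := K.isIso_iCycles i ((ComplexShape.down ℕ).next i) rfl (hd _ _)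
  let e2 : K.homology i ≅ K.X i := (asIso (K.homologyπ i)).symm ≪≫ asIso (K.iCycles i)
  let e3 : (K.X i : Type u) ≃ₗ[R] (Fin (F.rk i) → R ⧸ J) :=
    TensorProduct.piScalarRight R R (R ⧸ J) (Fin (F.rk i))
  rw [((e ≪≫ e2).toLinearEquiv.trans e3).length_eq, Module.length_pi_of_fintype]
  haveI := irrel_isMaximal h
  haveI : IsSimpleModule R (R ⧸ J) := isSimpleModule_iff_isCoatom.mpr (Ideal.isMaximal_def.mp inferInstance)
  simp [Module.length_eq_one R (R ⧸ J)]

end Groth.Agent.GrSyzTor
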