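/-
Z-graded Noetherian criteria
-/
import Mathlib

set_option autoImplicit false
universe u
open DirectSum

namespace Groth.Agent.GradedNoetherianTFAE


variable {R A : Type u} [CommRing R] [CommRing A] [Algebra R A] (𝒜 : ℤ → Submodule R A) [GradedAlgebra 𝒜]

/-- The part of a piece spanned over degree zero by finitely many homogeneous elements of a homogeneous ideal. -/
theorem fg_gens (h : ∀ I : Ideal A, I.IsHomogeneous 𝒜 → I.FG) (S : Set A) (hS : ∀ x ∈ S, SetLike.IsHomogeneousElem 𝒜 x) :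
    ∃ F : Finset A, (F : Set A) ⊆ S ∧ Ideal.span (F : Set A) = Ideal.span S := by
  obtain ⟨t, ht, htfin, e⟩ := Submodule.fg_span_iff_fg_span_finset_subset S |>.mp (h _ (Ideal.homogeneous_span 𝒜 S hS)) |> fun ⟨F, h1, h2⟩ => (⟨(F : Set A), h1, F.finite_toSet, h2⟩ : ∃ t, t ⊆ S ∧ t.Finite ∧ Submodule.span A S = Submodule.span A t)
  exact ⟨htfin.toFinset, by simpa using ht, by simpa using e.symm⟩

theorem decompose_mem {S : Set A} {F : Finset A} (hF : (F : Set A) ⊆ S) {x : A} (hx : x ∈ Ideal.span (F : Set A))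
    (deg : A → ℤ) (hdeg : ∀ y ∈ F, y ∈ 𝒜 (deg y)) {n : ℤ} (hxn : x ∈ 𝒜 n) (Q : Submodule (𝒜 0) A)
    (hQ : ∀ y ∈ F, ∀ c ∈ 𝒜 (n - deg y), c * y ∈ Q) : x ∈ Q := by
  classical
  suffices ∀ r : A, (decompose 𝒜 (r * x) n : A) ∈ Q by
    simpa [decompose_of_mem_same 𝒜 hxn] using this 1
  clear hxn
  induction hx using Submodule.span_induction with
  | zero => intro r; simp
  | add a b _ _ ha hb => intro r; rw [mul_add, decompose_add, DirectSum.add_apply, Submodule.coe_add]; exact add_mem (ha r) (hb r)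
  | smul s a _ ha => intro r; rw [smul_eq_mul, ← mul_assoc]; exact ha _
  | mem y hy =>
    intro r
    have := coe_decompose_mul_add_of_right_mem 𝒜 (i := n - deg y) (a := r) (hdeg y hy)
    rw [sub_add_cancel] at this
    rw [this]
    exact hQ y hy _ (decompose 𝒜 r (n - deg y)).2

theorem noetherian_zero (h : ∀ I : Ideal A, I.IsHomogeneous 𝒜 → I.FG) : IsNoetherianRing (𝒜 0) := by
  classical
  refine (isNoetherianRing_iff_ideal_fg _).mpr fun J => ?_
  obtain ⟨F, hF, e⟩ := fg_gens 𝒜 h (Subtype.val '' (J : Set (𝒜 0))) (by rintro _ ⟨c, -, rfl⟩; exact ⟨0, c.2⟩)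
  refine ⟨F.preimage Subtype.val Subtype.val_injective.injOn, le_antisymm (Ideal.span_le.mpr ?_) fun c hc => ?_⟩
  · intro c hc
    rw [Finset.mem_coe, Finset.mem_preimage] at hc
    obtain ⟨c', hc', e'⟩ := hF hc
    exact Subtype.ext e' ▸ hc'
  · let J' := Ideal.span ((F.preimage Subtype.val Subtype.val_injective.injOn : Finset (𝒜 0)) : Set (𝒜 0))
    have hx : (c : A) ∈ Submodule.map (Algebra.linearMap (𝒜 0) A) J' := by
      refine decompose_mem 𝒜 hF (e ▸ Ideal.subset_span ⟨c, hc, rfl⟩) (fun _ => 0) (fun y hy => ?_) c.2 _ (fun y hy a ha => ?_)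
      · obtain ⟨c', -, rfl⟩ := hF hy; exact c'.2
      · obtain ⟨c', -, rfl⟩ := hF hy
        rw [sub_zero] at ha
        exact ⟨⟨a, ha⟩ * c', J'.mul_mem_left _ (Ideal.subset_span (by simpa using hy)), rfl⟩
    obtain ⟨c', hc', e'⟩ := hx
    exact (Subtype.ext e' : c' = c) ▸ hc'

theorem fg_side (h : ∀ I : Ideal A, I.IsHomogeneous 𝒜 → I.FG) (σ : ℤ) (hσ : σ = 1 ∨ σ = -1) :
    (Algebra.adjoin (𝒜 0) {a : A | ∃ n : ℤ, 0 ≤ σ * n ∧ a ∈ 𝒜 n}).FG := by
  classical
  obtain ⟨F, hF, eF⟩ := fg_gens 𝒜 h {a : A | ∃ n : ℤ, 0 < σ * n ∧ a ∈ 𝒜 n} (by rintro x ⟨n, -, hx⟩; exact ⟨n, hx⟩)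
  choose deg hdeg0 hdeg using fun y : F => hF y.2
  let D : ℕ := ∑ y : F, (σ * deg y).toNat
  choose G hG eG using fun n : ℤ => fg_gens 𝒜 h (𝒜 n : Set A) (fun x hx => ⟨n, hx⟩)
  let T : Finset A := F ∪ (Finset.Icc (-(D : ℤ)) D).biUnion fun n => if 0 < σ * n then G n else ∅
  refine ⟨T, le_antisymm (Algebra.adjoin_le ?_) (Algebra.adjoin_le ?_)⟩
  · intro x hx
    rcases Finset.mem_union.mp (Finset.mem_coe.mp hx) with hx | hx
    · obtain ⟨n, hn, hx⟩ := hF hx
      exact Algebra.subset_adjoin ⟨n, hn.le, hx⟩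
    · obtain ⟨n, -, hx⟩ := Finset.mem_biUnion.mp hx
      split_ifs at hx with hn
      · exact Algebra.subset_adjoin ⟨n, hn.le, hG n hx⟩
      · simp at hx
  · rintro x ⟨n, hn, hx⟩
    obtain ⟨m, hm⟩ : ∃ m : ℕ, (m : ℤ) = σ * n := ⟨(σ * n).toNat, Int.toNat_of_nonneg hn⟩
    have hσσ : σ * σ = 1 := by rcases hσ with rfl | rfl <;> rfl
    induction m using Nat.strong_induction_on generalizing x n with
    | _ m ih =>
      rcases Nat.eq_zero_or_pos m with rfl | hm0
      · have : n = 0 := by rcases hσ with rfl | rfl <;> omega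
        subst this
        exact (Algebra.adjoin (𝒜 0) (T : Set A)).algebraMap_mem ⟨x, hx⟩
      let Q := Subalgebra.toSubmodule (Algebra.adjoin (𝒜 0) (T : Set A))
      have hpos : 0 < σ * n := by omega
      change x ∈ Q
      by_cases hnD : n ∈ Finset.Icc (-(D : ℤ)) D
      · refine decompose_mem 𝒜 (hG n) (eG n ▸ Ideal.subset_span hx) (fun _ => n) (fun y hy => hG n hy) hx Q fun y hy c hc => ?_
        rw [sub_self] at hc
        exact (Algebra.adjoin (𝒜 0) (T : Set A)).mul_mem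
          ((Algebra.adjoin (𝒜 0) (T : Set A)).algebraMap_mem (⟨c, hc⟩ : 𝒜 0))
          (Algebra.subset_adjoin (Finset.mem_union_right _ (Finset.mem_biUnion.mpr ⟨n, hnD, by rw [if_pos hpos]; exact hy⟩)))
      · refine decompose_mem 𝒜 hF (eF ▸ Ideal.subset_span ⟨n, hpos, hx⟩)
          (fun y => if hy : y ∈ F then deg ⟨y, hy⟩ else 0) (fun y hy => by rw [dif_pos hy]; exact hdeg ⟨y, hy⟩) hx Q fun y hy c hc => ?_
        rw [dif_pos hy] at hc
        have hD : (σ * deg ⟨y, hy⟩).toNat ≤ D :=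
          Finset.single_le_sum (f := fun y : F => (σ * deg y).toNat) (fun _ _ => Nat.zero_le _) (Finset.mem_univ _)
        have h0 := hdeg0 ⟨y, hy⟩
        rw [Finset.mem_Icc] at hnD
        have hbig : (D : ℤ) < σ * n := by rcases hσ with rfl | rfl <;> omega
        have hs : σ * (n - deg ⟨y, hy⟩) = σ * n - σ * deg ⟨y, hy⟩ := mul_sub _ _ _
        refine (Algebra.adjoin (𝒜 0) (T : Set A)).mul_mem ?_ (Algebra.subset_adjoin (Finset.mem_union_left _ hy))
        exact ih (σ * (n - deg ⟨y, hy⟩)).toNat (by omega) (n - deg ⟨y, hy⟩) (by omega) hc (by omega)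

end Groth.Agent.GradedNoetherianTFAE
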