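import Mathlib
import Groth.Prelude.Def_Flat

/-! Basic facts on the dimension of topological spaces. -/

universe u v

open TopologicalSpace Topology

namespace Groth.Agent.H8TopDim

variable {X : Type u} [TopologicalSpace X]

theorem dim_mono {s t : Set X} (h : s ⊆ t) : topologicalKrullDim s ≤ topologicalKrullDim t :=
  (IsEmbedding.inclusion h).isInducing.topologicalKrullDim_le

/-- A chain all of whose members lie in `Y` is a chain of `Y`. -/
theorem length_le_of_subset (p : LTSeries (IrreducibleCloseds X)) (Y : Set X)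
    (hY : (p.last : Set X) ⊆ Y) : (p.length : WithBot ℕ∞) ≤ topologicalKrullDim Y := by
  have hle : ∀ i, ((p i) : Set X) ⊆ Y := fun i => Set.Subset.trans (p.monotone (Fin.le_last i)) hY
  let q : LTSeries (IrreducibleCloseds ↥Y) :=
    { length := p.length
      toFun := fun i =>
        { carrier := Subtype.val ⁻¹' (p i : Set X)
          isIrreducible' := by
            obtain ⟨x, hx⟩ := (p i).2.nonempty
            refine ⟨⟨⟨x, hle i hx⟩, hx⟩, ?_⟩
            rintro u v ⟨u', hu', rfl⟩ ⟨v', hv', rfl⟩ ⟨a, ha1, ha2⟩ ⟨b, hb1, hb2⟩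
            obtain ⟨c, hc1, hc2, hc3⟩ := (p i).2.isPreirreducible u' v' hu' hv' ⟨a, ha1, ha2⟩ ⟨b, hb1, hb2⟩
            exact ⟨⟨c, hle i hc1⟩, hc1, hc2, hc3⟩
          isClosed' := (p i).3.preimage continuous_subtype_val }
      step := fun i => by
        have h := p.step i
        have h1 : (p i.castSucc : Set X) ⊆ (p i.succ : Set X) := h.le
        have h2 : ¬ (p i.succ : Set X) ⊆ (p i.castSucc : Set X) := h.not_ge
        refine @lt_of_le_not_ge (IrreducibleCloseds ↥Y) _ _ _ ?_ ?_
        · intro x hx; exact h1 hx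
        intro hge
        refine h2 fun x hx => ?_
        exact hge (x := ⟨x, hle _ hx⟩) hx }
  exact Order.LTSeries.length_le_krullDim q

/-- A chain whose smallest member meets the open `U` is a chain of `U`. -/
theorem length_le_of_open (p : LTSeries (IrreducibleCloseds X)) {U : Set X} (hU : IsOpen U)
    (hp : ((p.head : Set X) ∩ U).Nonempty) : (p.length : WithBot ℕ∞) ≤ topologicalKrullDim U := by
  have hne : ∀ i, ((p i : Set X) ∩ U).Nonempty := fun i =>
    hp.mono (Set.inter_subset_inter_left _ (p.monotone (Fin.zero_le i)))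
  let q : LTSeries (IrreducibleCloseds ↥U) :=
    { length := p.length
      toFun := fun i =>
        { carrier := Subtype.val ⁻¹' (p i : Set X)
          isIrreducible' := by
            obtain ⟨x, hx, hxU⟩ := hne i
            refine ⟨⟨⟨x, hxU⟩, hx⟩, ?_⟩
            exact (p i).2.isPreirreducible.preimage hU.isOpenEmbedding_subtypeVal
          isClosed' := (p i).3.preimage continuous_subtype_val }
      step := fun i => by
        have h := p.step i
        have h1 : (p i.castSucc : Set X) ⊆ (p i.succ : Set X) := h.le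
        have h2 : ¬ (p i.succ : Set X) ⊆ (p i.castSucc : Set X) := h.not_ge
        refine @lt_of_le_not_ge (IrreducibleCloseds ↥U) _ _ _ ?_ ?_
        · intro x hx; exact h1 hx
        intro hge
        apply h2
        refine (subset_closure_inter_of_isPreirreducible_of_isOpen (p i.succ).2.isPreirreducible hU (hne _)).trans ?_
        refine closure_minimal ?_ (p i.castSucc).3
        rintro x ⟨hx, hxU⟩
        exact hge (x := ⟨x, hxU⟩) hx }
  exact Order.LTSeries.length_le_krullDim q

theorem dim_eq_iSup_opens (ι : Type v) (U : ι → Opens X) (hcov : ⨆ i, U i = ⊤) :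
    topologicalKrullDim X = ⨆ i, topologicalKrullDim (U i) := by
  refine le_antisymm (iSup_le fun p => ?_) (iSup_le fun i => topologicalKrullDim_subspace_le X _)
  obtain ⟨x, hx⟩ := p.head.2.nonempty
  have hxU : x ∈ ⨆ i, U i := hcov ▸ Opens.mem_top x
  obtain ⟨i, hi⟩ := Opens.mem_iSup.mp hxU
  exact le_iSup_of_le i (length_le_of_open p (U i).2 ⟨x, hx, hi⟩)

theorem dim_eq_iSup_localDim : topologicalKrullDim X = ⨆ x : X, FlatMor.localDim X x := by
  refine le_antisymm (iSup_le fun p => ?_) (iSup_le fun x => ?_)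
  · obtain ⟨x, hx⟩ := p.head.2.nonempty
    exact le_iSup_of_le x (le_iInf fun U => length_le_of_open p U.1.2 ⟨x, hx, U.2⟩)
  · exact iInf_le_of_le ⟨⊤, Opens.mem_top x⟩ (topologicalKrullDim_subspace_le X _)

theorem exists_localDim_eq (x : X) :
    ∃ U : Opens X, x ∈ U ∧ FlatMor.localDim X x = topologicalKrullDim (U : Set X) := by
  have : Nonempty {U : Opens X // x ∈ U} := ⟨⟨⊤, Opens.mem_top x⟩⟩
  obtain ⟨U, hU⟩ := ciInf_mem (fun U : {U : Opens X // x ∈ U} => topologicalKrullDim (U.1 : Set X))
  exact ⟨U.1, U.2, hU.symm⟩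

theorem upperSemicontinuous_localDim : UpperSemicontinuous fun x : X => FlatMor.localDim X x := by
  intro x y hy
  obtain ⟨U, hxU, hU⟩ := exists_localDim_eq x
  filter_upwards [U.2.mem_nhds hxU] with z hz
  refine lt_of_le_of_lt (iInf_le _ ⟨U, hz⟩) ?_
  exact hU ▸ hy

/-- An irreducible set is contained in a member of a locally finite closed cover. -/
theorem exists_subset_of_locallyFinite {ι : Type v} {Y : ι → Set X} (hY : ∀ i, IsClosed (Y i))
    (hlf : LocallyFinite Y) (hcov : ⋃ i, Y i = Set.univ) {Z : Set X} (hZ : IsIrreducible Z) :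
    ∃ i, Z ⊆ Y i := by
  classical
  obtain ⟨z, hz⟩ := hZ.nonempty
  obtain ⟨W, hW, hfin⟩ := hlf z
  obtain ⟨O, hOW, hO, hzO⟩ := mem_nhds_iff.mp hW
  let t : Finset (Set X) := insert Oᶜ (hfin.toFinset.image Y)
  obtain ⟨C, hC, hZC⟩ := isIrreducible_iff_sUnion_isClosed.mp hZ t
    (by
      intro C hC
      rcases Finset.mem_insert.mp hC with rfl | hC
      · exact hO.isClosed_compl
      · obtain ⟨i, -, rfl⟩ := Finset.mem_image.mp hC
        exact hY i)
    (by
      intro w hw
      by_cases hwO : w ∈ O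
      · obtain ⟨i, hi⟩ := Set.mem_iUnion.mp (hcov ▸ Set.mem_univ w)
        exact ⟨Y i, Finset.mem_insert_of_mem (Finset.mem_image_of_mem _ (hfin.mem_toFinset.mpr ⟨w, hi, hOW hwO⟩)), hi⟩
      · exact ⟨Oᶜ, Finset.mem_insert_self _ _, hwO⟩)
  rcases Finset.mem_insert.mp hC with rfl | hC
  · exact absurd hzO (hZC hz)
  · obtain ⟨i, -, rfl⟩ := Finset.mem_image.mp hC
    exact ⟨i, hZC⟩

theorem dim_eq_iSup_closeds (ι : Type v) (Y : ι → Set X) (hY : ∀ i, IsClosed (Y i))
    (hlf : LocallyFinite Y) (hcov : ⋃ i, Y i = Set.univ) :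
    topologicalKrullDim X = ⨆ i, topologicalKrullDim (Y i) := by
  refine le_antisymm (iSup_le fun p => ?_) (iSup_le fun i => topologicalKrullDim_subspace_le X _)
  obtain ⟨i, hi⟩ := exists_subset_of_locallyFinite hY hlf hcov p.last.2
  exact le_iSup_of_le i (length_le_of_subset p (Y i) hi)

theorem localDim_eq_iSup_closeds (x : X) (ι : Type v) [Finite ι] (Y : ι → Set X) (hY : ∀ i, IsClosed (Y i))
    (hx : ∀ i, x ∈ Y i) (hcov : ⋃ i, Y i = Set.univ) :
    FlatMor.localDim X x = ⨆ i, FlatMor.localDim (Y i) ⟨x, hx i⟩ := by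
  classical
  have := Fintype.ofFinite ι
  apply le_antisymm
  · choose V hxV hV using fun i => exists_localDim_eq (X := Y i) ⟨x, hx i⟩
    choose O hO hOV using fun i => isOpen_induced_iff.mp (V i).2
    let U : Opens X := ⟨⋂ i, O i, isOpen_iInter_of_finite hO⟩
    have hxU : x ∈ U := Set.mem_iInter.mpr fun i => by
      have := hxV i
      rw [← SetLike.mem_coe] at this
      rwa [show (V i : Set (Y i)) = Subtype.val ⁻¹' O i from (hOV i).symm] at this
    refine (iInf_le _ ⟨U, hxU⟩).trans ?_
    rw [dim_eq_iSup_closeds ι (fun i => (Subtype.val ⁻¹' Y i : Set (U : Set X)))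
      (fun i => (hY i).preimage continuous_subtype_val) (locallyFinite_of_finite _)
      (by rw [← Set.preimage_iUnion, hcov, Set.preimage_univ])]
    refine iSup_mono fun i => ?_
    rw [hV i]
    have hin : ∀ w : (Subtype.val ⁻¹' Y i : Set (U : Set X)), (⟨w.1.1, w.2⟩ : Y i) ∈ (V i : Set (Y i)) := fun w => by
      rw [show (V i : Set (Y i)) = Subtype.val ⁻¹' O i from (hOV i).symm]
      exact Set.mem_iInter.mp w.1.2 i
    refine IsInducing.topologicalKrullDim_le (f := fun w => (⟨⟨w.1.1, w.2⟩, hin w⟩ : (V i : Set (Y i)))) ?_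
    exact ((IsInducing.subtypeVal.comp IsInducing.subtypeVal).codRestrict _).codRestrict _
  · refine iSup_le fun i => le_iInf fun U => ?_
    refine (iInf_le _ ⟨⟨Subtype.val ⁻¹' (U.1 : Set X), U.1.2.preimage continuous_subtype_val⟩, U.2⟩).trans ?_
    refine IsInducing.topologicalKrullDim_le (f := fun w => (⟨w.1.1, w.2⟩ : (U.1 : Set X))) ?_
    exact (IsInducing.subtypeVal.comp IsInducing.subtypeVal).codRestrict _

/-- A nonempty closed subset of a noetherian T₀ space contains a closed point. -/
theorem exists_closed_point [NoetherianSpace X] [T0Space X] {Z : Set X} (hZ : IsClosed Z) (hne : Z.Nonempty) :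
    ∃ x ∈ Z, IsClosed ({x} : Set X) :=
  hZ.exists_closed_singleton hne

theorem dim_eq_iSup_closedPoints [NoetherianSpace X] [T0Space X] :
    topologicalKrullDim X = ⨆ x ∈ {x : X | IsClosed ({x} : Set X)}, FlatMor.localDim X x := by
  refine le_antisymm (iSup_le fun p => ?_) (iSup₂_le fun x _ => ?_)
  · obtain ⟨x, hx, hxc⟩ := exists_closed_point p.head.3 p.head.2.nonempty
    exact le_iSup₂_of_le x hxc (le_iInf fun U => length_le_of_open p U.1.2 ⟨x, hx, U.2⟩)
  · exact iInf_le_of_le ⟨⊤, Opens.mem_top x⟩ (topologicalKrullDim_subspace_le X _)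

theorem finite_discrete_of_dim_le_zero [NoetherianSpace X] [T0Space X] (h : topologicalKrullDim X ≤ 0) :
    Finite X ∧ DiscreteTopology X := by
  have hcl : ∀ x : X, IsClosed ({x} : Set X) := by
    intro x
    obtain ⟨y, hy, hyc⟩ := exists_closed_point (isClosed_closure (s := {x})) ⟨x, subset_closure rfl⟩
    let Zy : IrreducibleCloseds X := ⟨{y}, isIrreducible_singleton, hyc⟩
    let Zx : IrreducibleCloseds X := ⟨closure {x}, isIrreducible_singleton.closure, isClosed_closure⟩
    have hle : Zy ≤ Zx := Set.singleton_subset_iff.mpr hy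
    have hmax : IsMax Zy := Order.krullDim_nonpos_iff_forall_isMax.mp h Zy
    have hxy : x ∈ ({y} : Set X) := hmax hle (subset_closure rfl : x ∈ closure {x})
    rw [Set.mem_singleton_iff] at hxy
    rw [hxy]; exact hyc
  haveI : T1Space X := ⟨hcl⟩
  have hfin : Finite X := by
    have hfc : (irreducibleComponents X).Finite := NoetherianSpace.finite_irreducibleComponents
    have hs : ∀ Y ∈ irreducibleComponents X, Y.Subsingleton := by
      intro Y hY a ha b hb
      let ZY : IrreducibleCloseds X := ⟨Y, hY.1, isClosed_of_mem_irreducibleComponents Y hY⟩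
      let Za : IrreducibleCloseds X := ⟨{a}, isIrreducible_singleton, hcl a⟩
      have hle : Za ≤ ZY := Set.singleton_subset_iff.mpr ha
      have := Order.krullDim_nonpos_iff_forall_isMax.mp h Za hle hb
      exact (Set.mem_singleton_iff.mp this).symm
    rw [← Set.finite_univ_iff, ← sUnion_irreducibleComponents]
    exact hfc.sUnion fun Y hY => (hs Y hY).finite
  exact ⟨hfin, inferInstance⟩

theorem dim_eq_zero_iff [NoetherianSpace X] [T0Space X] [Nonempty X] :
    topologicalKrullDim X = 0 ↔ Finite X ∧ DiscreteTopology X := by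
  refine ⟨fun h => finite_discrete_of_dim_le_zero h.le, fun ⟨_, _⟩ => le_antisymm ?_ ?_⟩
  · exact topologicalKrullDim_zero_of_discreteTopology X
  · obtain ⟨x⟩ := ‹Nonempty X›
    haveI : Nonempty (IrreducibleCloseds X) := ⟨⟨closure {x}, isIrreducible_singleton.closure, isClosed_closure⟩⟩
    exact Order.krullDim_nonneg

theorem isOpen_singleton_iff [NoetherianSpace X] [T0Space X] (x : X) :
    IsOpen ({x} : Set X) ↔ FlatMor.localDim X x = 0 := by
  have hnn : ∀ s : Set X, x ∈ s → 0 ≤ topologicalKrullDim s := fun s hs => by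
    haveI : Nonempty (IrreducibleCloseds s) := ⟨⟨closure {⟨x, hs⟩}, isIrreducible_singleton.closure, isClosed_closure⟩⟩
    exact Order.krullDim_nonneg
  constructor
  · intro h
    refine le_antisymm ?_ (le_iInf fun U => hnn _ U.2)
    refine (iInf_le _ ⟨⟨{x}, h⟩, rfl⟩).trans ?_
    haveI : Subsingleton ↥(({x} : Set X)) := ⟨fun a b => Subtype.ext (a.2.trans b.2.symm)⟩
    exact topologicalKrullDim_zero_of_discreteTopology ({x} : Set X)
  · intro h
    obtain ⟨U, hxU, hU⟩ := exists_localDim_eq x
    haveI : NoetherianSpace (U : Set X) := inferInstance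
    obtain ⟨-, hd⟩ := finite_discrete_of_dim_le_zero (X := (U : Set X)) (hU ▸ h.le)
    have : IsOpen ({⟨x, hxU⟩} : Set (U : Set X)) := isOpen_discrete _
    simpa using U.2.isOpenMap_subtype_val _ this

end Groth.Agent.H8TopDim
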