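import Groth.Prelude.Def_Grpd
import Groth.Agent.Lib.FieldRootsAlg
import Groth.Agent.Lib.H8TopDim
import Mathlib

/-! Dimension of a groupoid over a field equals that of its stabilizer. -/

set_option autoImplicit false
set_option backward.isDefEq.respectTransparency.types false

universe u

open AlgebraicGeometry CategoryTheory CategoryTheory.Limits
open Groth.Agent.Lib.FieldRootsAlg

noncomputable section

namespace Groth.Agent.Lib.GrpdFieldDim

variable {k : Type u} [Field k] {X : Scheme.{u}}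

/-- the field map at a point -/
def σ (f : X ⟶ Spec (CommRingCat.of k)) (x : X) : CommRingCat.of k ⟶ X.residueField x :=
  Spec.preimage (X.fromSpecResidueField x ≫ f)

/-- independent elements of length `n` in the residue field -/
def HasIndep (f : X ⟶ Spec (CommRingCat.of k)) (x : X) (n : ℕ) : Prop :=
  letI : Algebra k (X.residueField x) := (σ f x).hom.toAlgebra
  ∃ y : Fin n → X.residueField x, AlgebraicIndependent k y

/-- the map on sections -/
def ψ (f : X ⟶ Spec (CommRingCat.of k)) {V : X.Opens} (hV : IsAffineOpen V) : CommRingCat.of k ⟶ Γ(X, V) :=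
  Spec.preimage (hV.fromSpec ≫ f)

theorem evaluation_fromSpec {V : X.Opens} (hV : IsAffineOpen V) (x : X) (hx : x ∈ V) :
    Spec.map (X.evaluation V x hx) ≫ hV.fromSpec = X.fromSpecResidueField x := by
  rw [Scheme.evaluation, Spec.map_comp, Category.assoc, Scheme.fromSpecResidueField,
    hV.fromSpecStalk_eq_fromSpecStalk hx |>.symm]
  rfl

theorem ψ_evaluation (f : X ⟶ Spec (CommRingCat.of k)) {V : X.Opens} (hV : IsAffineOpen V) (x : X) (hx : x ∈ V) :
    ψ f hV ≫ X.evaluation V x hx = σ f x := by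
  apply Spec.map_injective
  rw [Spec.map_comp, ψ, σ, Spec.map_preimage, Spec.map_preimage, ← Category.assoc, evaluation_fromSpec]

theorem finiteType_ψ (f : X ⟶ Spec (CommRingCat.of k)) [LocallyOfFiniteType f] {V : X.Opens} (hV : IsAffineOpen V) :
    (ψ f hV).hom.FiniteType := by
  have h : LocallyOfFiniteType (Spec.map (ψ f hV)) := by rw [ψ, Spec.map_preimage]; infer_instance
  exact (HasRingHomProperty.Spec_iff (P := @LocallyOfFiniteType)).1 h

theorem evaluation_eq_zero_iff {V : X.Opens} (hV : IsAffineOpen V) (x : X) (hx : x ∈ V) (g : Γ(X, V)) :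
    X.evaluation V x hx g = 0 ↔ g ∈ (hV.primeIdealOf ⟨x, hx⟩).asIdeal := by
  letI : Algebra Γ(X, V) (X.presheaf.stalk x) := (X.presheaf.germ V x hx).hom.toAlgebra
  haveI := hV.isLocalization_stalk ⟨x, hx⟩
  show IsLocalRing.residue _ (algebraMap Γ(X, V) (X.presheaf.stalk x) g) = 0 ↔ _
  rw [IsLocalRing.residue_eq_zero_iff]
  exact IsLocalization.AtPrime.to_map_mem_maximal_iff (X.presheaf.stalk x) (hV.primeIdealOf ⟨x, hx⟩).asIdeal g

theorem evaluation_frac {V : X.Opens} (hV : IsAffineOpen V) (x : X) (hx : x ∈ V) (z : X.residueField x) :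
    ∃ a b : Γ(X, V), X.evaluation V x hx b ≠ 0 ∧ z * X.evaluation V x hx b = X.evaluation V x hx a := by
  letI : Algebra Γ(X, V) (X.presheaf.stalk x) := (X.presheaf.germ V x hx).hom.toAlgebra
  haveI := hV.isLocalization_stalk ⟨x, hx⟩
  obtain ⟨w, rfl⟩ := X.residue_surjective x z
  obtain ⟨⟨a, b⟩, h⟩ := IsLocalization.surj (hV.primeIdealOf ⟨x, hx⟩).asIdeal.primeCompl w
  refine ⟨a, b.1, fun e => b.2 ((evaluation_eq_zero_iff hV x hx b.1).1 e), ?_⟩
  have := congrArg (X.residue x).hom h
  rw [map_mul] at this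
  exact this

theorem le_dim_of_hasIndep (f : X ⟶ Spec (CommRingCat.of k)) [LocallyOfFiniteType f] (x : X) {n : ℕ}
    (h : HasIndep f x n) : (n : WithBot ℕ∞) ≤ topologicalKrullDim X := by
  obtain ⟨_, ⟨V, hV, rfl⟩, hx, -⟩ := X.isBasis_affineOpens.exists_subset_of_mem_open (Set.mem_univ x) isOpen_univ
  letI : Algebra k (X.residueField x) := (σ f x).hom.toAlgebra
  letI : Algebra k Γ(X, V) := (ψ f hV).hom.toAlgebra
  haveI : Algebra.FiniteType k Γ(X, V) := finiteType_ψ f hV
  obtain ⟨y, hy⟩ := h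
  let φ : Γ(X, V) →ₐ[k] X.residueField x :=
    { (X.evaluation V x hx).hom with commutes' := fun c => congrArg (fun g => g.hom c) (ψ_evaluation f hV x hx) }
  refine (natCast_le_dim_of_indep φ (evaluation_frac hV x hx) y hy).trans ?_
  rw [← PrimeSpectrum.topologicalKrullDim_eq_ringKrullDim]
  exact hV.fromSpec.isOpenEmbedding.isInducing.topologicalKrullDim_le

theorem hasIndep_of_chain (f : X ⟶ Spec (CommRingCat.of k)) (p : LTSeries (TopologicalSpace.IrreducibleCloseds X)) :
    ∃ x : X, HasIndep f x p.length := by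
  obtain ⟨x₀, hx₀⟩ := p.head.2.nonempty
  obtain ⟨_, ⟨V, hV, rfl⟩, hx, -⟩ := X.isBasis_affineOpens.exists_subset_of_mem_open (Set.mem_univ x₀) isOpen_univ
  have h1 := Groth.Agent.H8TopDim.length_le_of_open p V.2 ⟨x₀, hx₀, hx⟩
  have h2 : topologicalKrullDim (V : Set X) ≤ ringKrullDim Γ(X, V) := by
    rw [← PrimeSpectrum.topologicalKrullDim_eq_ringKrullDim]
    exact hV.isoSpec.hom.homeomorph.isInducing.topologicalKrullDim_le
  obtain ⟨l, hl⟩ := Order.le_krullDim_iff.1 (h1.trans h2)
  letI : Algebra k Γ(X, V) := (ψ f hV).hom.toAlgebra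
  let x : X := hV.fromSpec l.head
  have hxV : x ∈ V := by
    show x ∈ (V : Set X)
    rw [← hV.range_fromSpec]; exact ⟨_, rfl⟩
  have hp : hV.primeIdealOf ⟨x, hxV⟩ = l.head :=
    hV.fromSpec.isOpenEmbedding.injective (hV.fromSpec_primeIdealOf ⟨x, hxV⟩)
  refine ⟨x, ?_⟩
  unfold HasIndep
  letI : Algebra k (X.residueField x) := (σ f x).hom.toAlgebra
  let φ : Γ(X, V) →ₐ[k] X.residueField x :=
    { (X.evaluation V x hxV).hom with commutes' := fun c => congrArg (fun g => g.hom c) (ψ_evaluation f hV x hxV) }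
  rw [← hl]
  exact indep_of_chain l φ fun b => (evaluation_eq_zero_iff hV x hxV b).trans (by rw [hp])

theorem isAlgebraic_σ (s t : X ⟶ Spec (CommRingCat.of k)) [LocallyOfFiniteType s] (x : X) (c : k) :
    letI : Algebra k (X.residueField x) := (σ s x).hom.toAlgebra
    IsAlgebraic k ((σ t x).hom c) := by
  letI : Algebra k (X.residueField x) := (σ s x).hom.toAlgebra
  obtain ⟨_, ⟨V, hV, rfl⟩, hx, -⟩ := X.isBasis_affineOpens.exists_subset_of_mem_open (Set.mem_univ x) isOpen_univ
  letI : Algebra k Γ(X, V) := (ψ s hV).hom.toAlgebra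
  haveI : Algebra.FiniteType k Γ(X, V) := finiteType_ψ s hV
  let φ : Γ(X, V) →ₐ[k] X.residueField x :=
    { (X.evaluation V x hx).hom with commutes' := fun c => congrArg (fun g => g.hom c) (ψ_evaluation s hV x hx) }
  haveI : Algebra.FiniteType k φ.range :=
    Algebra.FiniteType.of_surjective φ.rangeRestrict φ.rangeRestrict_surjective
  have h := isAlgebraic_of_domain (k := k) (A := φ.range)
    (φ.rangeRestrict.toRingHom.comp (ψ t hV).hom) c
  have h2 := h.algHom φ.range.val
  rw [← ψ_evaluation t hV x hx]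
  exact h2

section Groupoid

variable {S : Scheme.{u}} (G : Grpd.GroupoidScheme S) (eU : G.U ≅ Spec (CommRingCat.of k))

/-- the source, as a map to the field -/
abbrev s' : G.R ⟶ Spec (CommRingCat.of k) := G.s ≫ eU.hom

/-- the target, as a map to the field -/
abbrev t' : G.R ⟶ Spec (CommRingCat.of k) := G.t ≫ eU.hom

/-- the structure map of the stabilizer -/
abbrev q : G.stabilizer ⟶ Spec (CommRingCat.of k) := G.stabilizerToU ≫ eU.hom

theorem isImmersion_fst : IsImmersion (pullback.fst G.j G.diag : G.stabilizer ⟶ G.R) := by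
  haveI : IsImmersion G.diag := (inferInstance : IsImmersion (pullback.diagonal G.pU))
  exact (inferInstance : IsImmersion (pullback.fst G.j G.diag))

theorem stabilizerToU_eq : G.stabilizerToU = (pullback.fst G.j G.diag : G.stabilizer ⟶ G.R) ≫ G.s := by
  have h := (pullback.condition (f := G.j) (g := G.diag)) =≫ pullback.snd G.pU G.pU
  rw [Grpd.GroupoidScheme.j, Grpd.GroupoidScheme.diag, Category.assoc, Category.assoc, pullback.lift_snd,
    pullback.lift_snd, Category.comp_id] at h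
  exact h.symm

theorem stabilizer_hasIndep [LocallyOfFiniteType G.s] (r : G.R) {n : ℕ} (hr : HasIndep (s' G eU) r n) :
    ∃ x : G.stabilizer, HasIndep (q G eU) x n := by
  classical
  let K := G.R.residueField r
  letI : Algebra k K := (σ (s' G eU) r).hom.toAlgebra
  obtain ⟨y, hy⟩ := hr
  obtain ⟨Ω, hΩ, a, b, hab, hind⟩ := exists_copies y hy
  letI : Algebra K Ω := a.toAlgebra
  obtain ⟨α, hα⟩ : ∃ α : Spec (CommRingCat.of Ω) ⟶ G.R,
    α = Spec.map (CommRingCat.ofHom a) ≫ G.R.fromSpecResidueField r := ⟨_, rfl⟩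
  obtain ⟨β, hβ⟩ : ∃ β : Spec (CommRingCat.of Ω) ⟶ G.R,
    β = Spec.map (CommRingCat.ofHom b) ≫ G.R.fromSpecResidueField r := ⟨_, rfl⟩
  have hm : ∀ (f : G.R ⟶ Spec (CommRingCat.of k)), (∀ c : k, IsAlgebraic k ((σ f r).hom c)) → α ≫ f = β ≫ f := by
    intro f hf
    simp only [hα, hβ, Category.assoc]
    rw [← Spec.map_preimage (G.R.fromSpecResidueField r ≫ f), ← Spec.map_comp, ← Spec.map_comp]
    congr 1
    ext c
    exact hab _ (hf c)
  have hs : α ≫ G.s = β ≫ G.s := by
    rw [← cancel_mono eU.hom, Category.assoc, Category.assoc]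
    exact hm (s' G eU) fun c => isAlgebraic_algebraMap c
  have ht : α ≫ G.t = β ≫ G.t := by
    rw [← cancel_mono eU.hom, Category.assoc, Category.assoc]
    exact hm (t' G eU) fun c => isAlgebraic_σ (s' G eU) (t' G eU) r c
  have hc : (α ≫ G.i) ≫ G.s = β ≫ G.t := by rw [Category.assoc, G.i_s, ht]
  obtain ⟨g, hg⟩ : ∃ g : Spec (CommRingCat.of Ω) ⟶ G.R, g = pullback.lift (α ≫ G.i) β hc ≫ G.c := ⟨_, rfl⟩
  have gs : g ≫ G.s = β ≫ G.s := by rw [hg]; exact G.comp_s _ _ hc
  have gt : g ≫ G.t = α ≫ G.s := by rw [hg, G.comp_t _ _ hc, Category.assoc, G.i_t]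
  let gS : Spec (CommRingCat.of Ω) ⟶ G.stabilizer := pullback.lift g (β ≫ G.s) (by
    apply pullback.hom_ext
    · rw [Category.assoc, Category.assoc, Category.assoc, Grpd.GroupoidScheme.j, pullback.lift_fst,
        Grpd.GroupoidScheme.diag, pullback.lift_fst, Category.comp_id, gt, hs]
    · rw [Category.assoc, Category.assoc, Category.assoc, Grpd.GroupoidScheme.j, pullback.lift_snd,
        Grpd.GroupoidScheme.diag, pullback.lift_snd, Category.comp_id, gs])
  let xρ := G.stabilizer.SpecToEquivOfField Ω gS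
  let x : G.stabilizer := xρ.1
  let ρ : G.stabilizer.residueField x ⟶ CommRingCat.of Ω := xρ.2
  have hgS : Spec.map ρ ≫ G.stabilizer.fromSpecResidueField x = gS :=
    (G.stabilizer.SpecToEquivOfField Ω).symm_apply_apply gS
  refine ⟨x, ?_⟩
  unfold HasIndep
  let κ := G.stabilizer.residueField x
  letI : Algebra k κ := (σ (q G eU) x).hom.toAlgebra
  have hρσ : σ (q G eU) x ≫ ρ = σ (s' G eU) r ≫ CommRingCat.ofHom a := by
    apply Spec.map_injective
    rw [Spec.map_comp, Spec.map_comp, σ, σ, Spec.map_preimage, Spec.map_preimage, ← Category.assoc, hgS]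
    have h1 : gS ≫ q G eU = (α ≫ G.s) ≫ eU.hom := by
      rw [q, ← Category.assoc, hs]
      exact congrArg (· ≫ eU.hom) (pullback.lift_snd g (β ≫ G.s) _)
    rw [h1, hα]; simp only [s', Category.assoc]; rfl
  obtain ⟨T, hT⟩ := exists_isTranscendenceBasis k κ
  haveI hTalg : Algebra.IsAlgebraic (Algebra.adjoin k T) κ := by
    have := hT.isAlgebraic
    rwa [Subtype.range_coe] at this
  let E := hull (K := K) ρ.hom T
  have hmem : ∀ z : κ, ρ.hom z ∈ E :=
    mem_hull (K := K) ρ.hom T (fun c => congrArg (fun h => h.hom c) hρσ) hTalg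
  -- descend to the hull
  let v : Spec (CommRingCat.of Ω) ⟶ Spec (CommRingCat.of E) := Spec.map (CommRingCat.ofHom E.val.toRingHom)
  let a' : Spec (CommRingCat.of E) ⟶ G.R :=
    Spec.map (CommRingCat.ofHom (algebraMap K E)) ≫ G.R.fromSpecResidueField r
  let ρ' : CommRingCat.of κ ⟶ CommRingCat.of E := CommRingCat.ofHom (ρ.hom.codRestrict E.toSubfield hmem)
  let g' : Spec (CommRingCat.of E) ⟶ G.R :=
    Spec.map ρ' ≫ G.stabilizer.fromSpecResidueField x ≫ pullback.fst G.j G.diag
  have hva : v ≫ a' = α := by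
    rw [hα]
    show Spec.map _ ≫ Spec.map _ ≫ _ = _
    rw [← Spec.map_comp_assoc]; rfl
  have hvg : v ≫ g' = g := by
    show Spec.map _ ≫ Spec.map _ ≫ _ ≫ _ = _
    have e : ρ' ≫ CommRingCat.ofHom E.val.toRingHom = ρ := CommRingCat.hom_ext (RingHom.ext fun _ => rfl)
    rw [← Spec.map_comp_assoc, e, ← Category.assoc, hgS]
    exact pullback.lift_fst g (β ≫ G.s) _
  have hcomp : a' ≫ G.s = g' ≫ G.t := by
    rw [← cancel_mono eU.hom]
    rw [← Spec.map_preimage ((a' ≫ G.s) ≫ eU.hom), ← Spec.map_preimage ((g' ≫ G.t) ≫ eU.hom)]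
    congr 1
    have h : Spec.preimage ((a' ≫ G.s) ≫ eU.hom) ≫ CommRingCat.ofHom E.val.toRingHom =
        Spec.preimage ((g' ≫ G.t) ≫ eU.hom) ≫ CommRingCat.ofHom E.val.toRingHom := by
      apply Spec.map_injective
      rw [Spec.map_comp, Spec.map_comp, Spec.map_preimage, Spec.map_preimage]
      show v ≫ _ = v ≫ _
      have e1 : v ≫ (a' ≫ G.s) ≫ eU.hom = ((v ≫ a') ≫ G.s) ≫ eU.hom := by simp only [Category.assoc]
      have e2 : v ≫ (g' ≫ G.t) ≫ eU.hom = ((v ≫ g') ≫ G.t) ≫ eU.hom := by simp only [Category.assoc]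
      rw [e1, e2, hva, hvg, gt]
    ext c
    exact congrArg (fun h => h.hom c) h
  let b' : Spec (CommRingCat.of E) ⟶ G.R := pullback.lift a' g' hcomp ≫ G.c
  have hvb : v ≫ b' = β := by
    have h1 : v ≫ b' = pullback.lift α g gt.symm ≫ G.c := by
      show v ≫ pullback.lift a' g' hcomp ≫ G.c = _
      rw [← Category.assoc]
      congr 1
      apply pullback.hom_ext
      · rw [Category.assoc, pullback.lift_fst, pullback.lift_fst, hva]
      · rw [Category.assoc, pullback.lift_snd, pullback.lift_snd, hvg]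
    have hii : α ≫ G.s = (α ≫ G.i) ≫ G.t := by rw [Category.assoc, G.i_t]
    have h2 := G.assoc α (α ≫ G.i) β hii hc
    have h3 : pullback.lift α (α ≫ G.i) hii ≫ G.c = α ≫ G.t ≫ G.e := G.comp_i α
    have h4 : ∀ (u w : Spec (CommRingCat.of Ω) ⟶ G.R) (e : u = w) (hu : u ≫ G.s = β ≫ G.t) (hw : w ≫ G.s = β ≫ G.t),
        pullback.lift u β hu ≫ G.c = pullback.lift w β hw ≫ G.c := by
      intro u w e hu hw; subst e; rfl
    subst hg
    rw [h1, ← h2]
    exact (h4 _ _ (h3.trans (by rw [← Category.assoc, ht, Category.assoc])) _ _).trans (G.e_comp β)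
  -- the field of `β` is inside the hull
  have hb : ∀ z : K, b z ∈ E := by
    have h : G.R.SpecToEquivOfField Ω β = ⟨r, CommRingCat.ofHom b⟩ := by
      rw [hβ]
      exact (G.R.SpecToEquivOfField Ω).apply_symm_apply ⟨r, CommRingCat.ofHom b⟩
    let rb := G.R.SpecToEquivOfField E b'
    have hb' : Spec.map rb.2 ≫ G.R.fromSpecResidueField rb.1 = b' :=
      (G.R.SpecToEquivOfField E).symm_apply_apply b'
    have h' : G.R.SpecToEquivOfField Ω β = ⟨rb.1, rb.2 ≫ CommRingCat.ofHom E.val.toRingHom⟩ := by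
      apply (G.R.SpecToEquivOfField Ω).symm.injective
      rw [Equiv.symm_apply_apply, ← hvb]
      show v ≫ b' = Spec.map (rb.2 ≫ CommRingCat.ofHom E.val.toRingHom) ≫ _
      rw [Spec.map_comp, Category.assoc, hb']
    rw [h] at h'
    revert h'
    generalize rb.2 = φ
    generalize rb.1 = r' at φ ⊢
    intro h'
    obtain ⟨rfl, hφ⟩ := Sigma.mk.injEq .. ▸ h'
    intro z
    rw [show b z = E.val (φ.hom z) from congrArg (fun h => h.hom z) (eq_of_heq hφ)]
    exact (φ.hom z).2
  have hcard : (n : Cardinal) ≤ Cardinal.mk T := indep_le (K := K) ρ.hom T _ hind fun i => hb (y i)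
  have hcard' : Cardinal.mk (ULift.{u} (Fin n)) ≤ Cardinal.mk T := by simpa using hcard
  obtain ⟨e⟩ := (Cardinal.le_def _ _).1 hcard'
  exact ⟨_, hT.1.comp (fun i : Fin n => e ⟨i⟩) (fun a b h => congrArg ULift.down (e.injective h))⟩

theorem lft_j [LocallyOfFiniteType G.t] : LocallyOfFiniteType G.j := by
  haveI : LocallyOfFiniteType (G.j ≫ pullback.fst G.pU G.pU) := by
    rw [Grpd.GroupoidScheme.j, pullback.lift_fst]; infer_instance
  exact locallyOfFiniteType_of_comp G.j (pullback.fst G.pU G.pU)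

include eU in
theorem dim_eq [LocallyOfFiniteType G.s] [LocallyOfFiniteType G.t] :
    topologicalKrullDim G.R = topologicalKrullDim G.stabilizer := by
  refine le_antisymm (iSup_le fun p => ?_) ?_
  · obtain ⟨r, hr⟩ := hasIndep_of_chain (s' G eU) p
    obtain ⟨x, hx⟩ := stabilizer_hasIndep G eU r hr
    haveI := lft_j G
    haveI : LocallyOfFiniteType G.stabilizerToU :=
      (inferInstance : LocallyOfFiniteType (pullback.snd G.j G.diag))
    exact le_dim_of_hasIndep (q G eU) x hx
  · haveI := isImmersion_fst G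
    exact (pullback.fst G.j G.diag : G.stabilizer ⟶ G.R).isEmbedding.isInducing.topologicalKrullDim_le

end Groupoid

end Groth.Agent.Lib.GrpdFieldDim
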