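import Mathlib

/-!
# A finitely generated field with formally smooth structure is the fraction field of a smooth algebra
-/

set_option autoImplicit false

universe u v

namespace Groth.Agent.H1GenSmooth

theorem exists_smooth_adjoin (R : Type v) (K : Type u) [CommRing R] [IsNoetherianRing R] [Field K] [Algebra R K]
    [Algebra.FormallySmooth R K] (s : Finset K)
    (hs : ∀ x : K, ∃ a ∈ Algebra.adjoin R (s : Set K), ∃ b ∈ Algebra.adjoin R (s : Set K), x = a / b) :
    ∃ A : Subalgebra R K, Algebra.FiniteType R A ∧ Algebra.Smooth R A ∧ IsFractionRing A K := by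
  classical
  let A₀ := Algebra.adjoin R (s : Set K)
  haveI hft : Algebra.FiniteType R A₀ := (Subalgebra.fg_iff_finiteType A₀).mp ⟨s, rfl⟩
  haveI : Algebra.FinitePresentation R A₀ := Algebra.FinitePresentation.of_finiteType.mp hft
  haveI hfr : IsFractionRing A₀ K := IsFractionRing.of_field A₀ K fun x => by
    obtain ⟨a, ha, b, hb, rfl⟩ := hs x
    exact ⟨⟨a, ha⟩, ⟨b, hb⟩, rfl⟩
  haveI : IsLocalization (⊥ : Ideal A₀).primeCompl K := by rw [Ideal.primeCompl_bot]; exact hfr
  haveI : Algebra.IsSmoothAt R (⊥ : Ideal A₀) := by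
    show Algebra.FormallySmooth R (Localization.AtPrime (⊥ : Ideal A₀))
    exact Algebra.FormallySmooth.of_equiv
      ((IsLocalization.algEquiv (⊥ : Ideal A₀).primeCompl K (Localization.AtPrime (⊥ : Ideal A₀))).restrictScalars R)
  obtain ⟨f, hf, hsm⟩ := Algebra.IsSmoothAt.exists_notMem_smooth R (⊥ : Ideal A₀)
  have hf0 : f ≠ 0 := by simpa using hf
  have hu : ∀ y : Submonoid.powers f, IsUnit (IsScalarTower.toAlgHom R A₀ K y.1) := fun y => by
    obtain ⟨n, hn⟩ := y.2
    rw [← hn]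
    exact isUnit_iff_ne_zero.mpr (by simp [hf0])
  let ψ : Localization.Away f →ₐ[R] K := IsLocalization.liftAlgHom (M := Submonoid.powers f) hu
  have hψA : ∀ a : A₀, ψ (algebraMap A₀ (Localization.Away f) a) = a.1 := fun a => by
    simp [ψ]
  have hψ : Function.Injective ψ := by
    refine (injective_iff_map_eq_zero ψ).mpr fun x hx => ?_
    obtain ⟨⟨a, y⟩, hay⟩ := IsLocalization.surj (Submonoid.powers f) x
    have h1 : a = 0 := Subtype.ext (by rw [← hψA a, ← hay, map_mul, hx, zero_mul]; rfl)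
    rw [h1, map_zero] at hay
    exact (IsLocalization.map_units (Localization.Away f) y).mul_left_eq_zero.mp hay
  let e : Localization.Away f ≃ₐ[R] ψ.range := AlgEquiv.ofInjective ψ hψ
  haveI := hsm
  haveI : Algebra.Smooth R ψ.range := Algebra.Smooth.of_equiv e
  refine ⟨ψ.range, inferInstance, inferInstance, IsFractionRing.of_field _ K fun x => ?_⟩
  obtain ⟨a, ha, b, hb, rfl⟩ := hs x
  exact ⟨⟨a, algebraMap A₀ _ ⟨a, ha⟩, hψA ⟨a, ha⟩⟩, ⟨b, algebraMap A₀ _ ⟨b, hb⟩, hψA ⟨b, hb⟩⟩, rfl⟩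

theorem div_mem_adjoin (R : Type v) (K : Type u) [CommRing R] [Field K] [Algebra R K] (s : Finset K)
    (hs : Subfield.closure (↑s : Set K) = ⊤) (x : K) :
    ∃ a ∈ Algebra.adjoin R (s : Set K), ∃ b ∈ Algebra.adjoin R (s : Set K), x = a / b := by
  obtain ⟨a, ha, b, hb, rfl⟩ := Subfield.mem_closure_iff.mp (hs ▸ Subfield.mem_top x : x ∈ Subfield.closure (↑s : Set K))
  have hle : Subring.closure (↑s : Set K) ≤ (Algebra.adjoin R (s : Set K)).toSubring :=
    Subring.closure_le.mpr Algebra.subset_adjoin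
  exact ⟨a, hle ha, b, hle hb, rfl⟩

theorem essFiniteType_field (F : Type v) (K : Type u) [Field F] [Field K] [Algebra F K] (s : Finset K)
    (hs : ∀ x : K, ∃ a ∈ Algebra.adjoin F (s : Set K), ∃ b ∈ Algebra.adjoin F (s : Set K), x = a / b) :
    Algebra.EssFiniteType F K := by
  let A₀ := Algebra.adjoin F (s : Set K)
  haveI : Algebra.FiniteType F A₀ := (Subalgebra.fg_iff_finiteType A₀).mp ⟨s, rfl⟩
  haveI : IsFractionRing A₀ K := IsFractionRing.of_field A₀ K fun x => by
    obtain ⟨a, ha, b, hb, rfl⟩ := hs x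
    exact ⟨⟨a, ha⟩, ⟨b, hb⟩, rfl⟩
  haveI : Algebra.EssFiniteType A₀ K := Algebra.EssFiniteType.of_isLocalization K (nonZeroDivisors A₀)
  exact Algebra.EssFiniteType.comp F A₀ K

end Groth.Agent.H1GenSmooth
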