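import Groth.Prelude.Def_GrSeg
import Groth.Agent.Lib.GrStarBasic
import Mathlib

/-!
# Graded duals over a field: finiteness of pieces, separation
-/

set_option autoImplicit false
open DirectSum

universe u

namespace Groth.Agent.H1GrDual

open Groth.Agent.GrStarBasic

variable {k : Type u} [Field k] {R : Type u} [CommRing R] [Algebra k R] {𝒜 : ℤ → Submodule k R} [GradedAlgebra 𝒜]
variable {M : Type u} [AddCommGroup M] [Module R M] [Module k M] [IsScalarTower k R M]
  (ℳ : ℤ → AddSubgroup M) [DirectSum.Decomposition ℳ] [SetLike.GradedSMul 𝒜 ℳ]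

/-- a piece as a subspace -/
def kPiece (n : ℤ) : Submodule k M where
  carrier := ℳ n
  add_mem' := add_mem
  zero_mem' := zero_mem _
  smul_mem' c x hx := by
    have h1 : algebraMap k R c ∈ 𝒜 0 := by
      rw [Algebra.algebraMap_eq_smul_one]; exact Submodule.smul_mem _ c (SetLike.one_mem_graded 𝒜)
    have := smul_mem 𝒜 ℳ h1 hx
    rwa [zero_add, algebraMap_smul] at this

theorem finite_ring_piece [Algebra.FiniteType k R] (hpos : ∀ n : ℤ, n < 0 → 𝒜 n = ⊥)
    (h0 : 𝒜 0 = Submodule.span k {(1 : R)}) : ∀ n : ℤ, Module.Finite k ↥(𝒜 n) := by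
  classical
  haveI : IsNoetherianRing R := Algebra.FiniteType.isNoetherianRing k R
  let I : Ideal R := Ideal.span (⋃ n ∈ Set.Ioi (0 : ℤ), (𝒜 n : Set R))
  obtain ⟨t, ht, hta⟩ := (Submodule.fg_span_iff_fg_span_finset_subset (R := R) (M := R)
    (⋃ n ∈ Set.Ioi (0 : ℤ), (𝒜 n : Set R))).mp (IsNoetherian.noetherian I)
  have hd : ∀ f : t, ∃ d : ℤ, 0 < d ∧ (f : R) ∈ 𝒜 d := fun f => by
    obtain ⟨d, hd, hf⟩ := Set.mem_iUnion₂.mp (ht f.2)
    exact ⟨d, hd, hf⟩
  choose d hd hmem using hd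
  suffices key : ∀ (N : ℕ) (n : ℤ), n < N → Module.Finite k ↥(𝒜 n) from fun n => key (n.toNat + 1) n (by omega)
  intro N
  induction N with
  | zero => intro n hn; rw [hpos n (by omega)]; infer_instance
  | succ N ih =>
    intro n hn
    rcases lt_or_ge n (N : ℤ) with h | h
    · exact ih n h
    rcases Nat.eq_zero_or_pos N with h' | h'
    · obtain rfl : n = 0 := by omega
      rw [h0]; exact Module.Finite.span_of_finite k (Set.finite_singleton _)
    let S : Submodule k R := ⨆ f : t, (𝒜 (n - d f)).map (LinearMap.mulLeft k (f : R))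
    haveI : ∀ f : t, Module.Finite k ↥(𝒜 (n - d f)) := fun f => ih _ (by have := hd f; omega)
    haveI : ∀ f : t, Module.Finite k ↥((𝒜 (n - d f)).map (LinearMap.mulLeft k (f : R))) := fun f =>
      Module.Finite.map _ _
    haveI : Module.Finite k ↥S := Submodule.finite_iSup _
    refine Module.Finite.of_injective (Submodule.inclusion (fun x hx => ?_ : 𝒜 n ≤ S)) (Submodule.inclusion_injective _)
    have hxI : x ∈ Submodule.span R (t : Set R) := by
      rw [← hta]
      exact Ideal.subset_span (Set.mem_biUnion (show n ∈ Set.Ioi (0 : ℤ) from show (0 : ℤ) < n by omega) hx)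
    suffices h : ∀ y ∈ Submodule.span R (t : Set R), ∀ c : R, pr 𝒜 n (c * y) ∈ S by
      have := h x hxI 1
      rwa [one_mul, pr_same 𝒜 hx] at this
    intro y hy
    induction hy using Submodule.span_induction with
    | mem f hf =>
      intro c
      rw [mul_comm, ← smul_eq_mul, pr_smul_left 𝒜 𝒜 (hmem ⟨f, hf⟩)]
      exact le_iSup (fun f : t => (𝒜 (n - d f)).map (LinearMap.mulLeft k (f : R))) ⟨f, hf⟩
        ⟨_, pr_mem 𝒜 _ _, rfl⟩
    | zero => intro c; rw [mul_zero, map_zero]; exact zero_mem _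
    | add p q _ _ hp hq => intro c; rw [mul_add, map_add]; exact add_mem (hp c) (hq c)
    | smul e p _ hp => intro c; rw [smul_eq_mul, ← mul_assoc]; exact hp _

variable [Module.Finite R M]

theorem finite_piece [Algebra.FiniteType k R] (hpos : ∀ n : ℤ, n < 0 → 𝒜 n = ⊥)
    (h0 : 𝒜 0 = Submodule.span k {(1 : R)}) (n : ℤ) : Module.Finite k ↥(kPiece (k := k) (𝒜 := 𝒜) ℳ n) := by
  classical
  obtain ⟨s, hs⟩ := Module.Finite.fg_top (R := R) (M := M)
  let T : Finset (ℤ × M) := s.biUnion fun m => ((decompose ℳ m).support).image fun j => (j, pr ℳ j m)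
  haveI : ∀ j : ℤ, Module.Finite k ↥(𝒜 j) := finite_ring_piece hpos h0
  let S : Submodule k M := ⨆ g : T, (𝒜 (n - g.1.1)).map ((LinearMap.toSpanSingleton R M g.1.2).restrictScalars k)
  haveI : ∀ g : T, Module.Finite k ↥((𝒜 (n - g.1.1)).map ((LinearMap.toSpanSingleton R M g.1.2).restrictScalars k)) :=
    fun g => Module.Finite.map _ _
  haveI : Module.Finite k ↥S := Submodule.finite_iSup _
  refine Module.Finite.of_injective (Submodule.inclusion (fun x hx => ?_ : kPiece (k := k) (𝒜 := 𝒜) ℳ n ≤ S)) (Submodule.inclusion_injective _)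
  have hxM : x ∈ Submodule.span R (s : Set M) := hs.symm ▸ Submodule.mem_top
  suffices h : ∀ y ∈ Submodule.span R (s : Set M), ∀ c : R, pr ℳ n (c • y) ∈ S by
    have := h x hxM 1
    rwa [one_smul, pr_same ℳ (show x ∈ ℳ n from hx)] at this
  intro y hy
  induction hy using Submodule.span_induction with
  | mem m hm =>
    intro c
    rw [← sum_pr ℳ m, Finset.smul_sum, map_sum]
    refine Submodule.sum_mem _ fun j hj => ?_
    have hjT : (j, pr ℳ j m) ∈ T := Finset.mem_biUnion.mpr ⟨m, hm, Finset.mem_image.mpr ⟨j, hj, rfl⟩⟩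
    rw [pr_smul_right 𝒜 ℳ (pr_mem ℳ j m)]
    exact le_iSup (fun g : T => (𝒜 (n - g.1.1)).map ((LinearMap.toSpanSingleton R M g.1.2).restrictScalars k)) ⟨_, hjT⟩
      ⟨_, pr_mem 𝒜 _ _, rfl⟩
  | zero => intro c; rw [smul_zero, map_zero]; exact zero_mem _
  | add p q _ _ hp hq => intro c; rw [smul_add, map_add]; exact add_mem (hp c) (hq c)
  | smul e p _ hp => intro c; rw [← mul_smul]; exact hp _

section Pairing

variable {D : Type u} [AddCommGroup D] [Module R D] [Module k D] [IsScalarTower k R D]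
  {𝒟 : ℤ → AddSubgroup D} [DirectSum.Decomposition 𝒟] {β : D →ₗ[k] M →ₗ[k] k}

omit [Module.Finite R M]

variable {ℳ} in
theorem apply_pr (hD : GrSeg.IsGDual R ℳ 𝒟 β) {n : ℤ} {d : D} (hd : d ∈ 𝒟 n) (x : M) :
    β d x = β d (pr ℳ (-n) x) := by
  classical
  conv_lhs => rw [← sum_pr ℳ x]
  rw [map_sum, Finset.sum_eq_single (-n) (fun j _ hj => hD.vanish n d hd j hj _ (pr_mem ℳ j x))]
  intro h
  rw [show pr ℳ (-n) x = 0 from by simpa [pr] using DFinsupp.notMem_support_iff.mp h, map_zero]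

omit [Module R D] [IsScalarTower k R D] in
theorem sum_apply {X : Type u} [AddCommGroup X] [Module k X] (b : D →ₗ[k] X) (d : D) [(i : ℤ) → (y : 𝒟 i) → Decidable (y ≠ 0)] :
    b d = ∑ j ∈ (decompose 𝒟 d).support, b (pr 𝒟 j d) := by
  conv_lhs => rw [← sum_pr 𝒟 d]
  rw [map_sum]

variable {ℳ} in
/-- the dual separates points -/
theorem eq_zero_of_forall [SetLike.GradedSMul 𝒜 ℳ] (hD : GrSeg.IsGDual R ℳ 𝒟 β) {y : M} (h : ∀ d, β d y = 0) : y = 0 := by
  classical
  refine eq_of_pr ℳ fun j => ?_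
  rw [map_zero]
  by_contra hne
  let P : Submodule k M := kPiece (k := k) (𝒜 := 𝒜) ℳ j
  obtain ⟨φ, hφ⟩ : ∃ φ : M →ₗ[k] k, φ (pr ℳ j y) ≠ 0 := by
    by_contra hc
    push Not at hc
    exact hne ((Module.forall_dual_apply_eq_zero_iff k (pr ℳ j y)).mp hc)
  obtain ⟨d, hd, hdφ⟩ := hD.exists_eq (-j) φ
  have h1 := apply_pr hD hd y
  rw [neg_neg] at h1
  rw [h, hdφ _ (by rw [neg_neg]; exact pr_mem ℳ j y)] at h1
  exact hφ h1.symm

end Pairing

end Groth.Agent.H1GrDual
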