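import Groth.Agent.Lib.GrCoreHeight
import Groth.Agent.Lib.GrStarExt
import Groth.Agent.Lib.GorensteinQuotient
import Mathlib

/-!
# Injective dimension of *injective modules over a ℤ-graded Noetherian ring
-/

set_option autoImplicit false
open DirectSum LaurentPolynomial

universe u

namespace Groth.Agent.H1GrInjDim

section Principal
open Groth.Agent.GrCoreHeight

variable {R : Type u} [CommRing R] {σ : Type u} [SetLike σ R] [AddSubgroupClass σ R] (𝒜 : ℤ → σ) [GradedRing 𝒜]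
variable {F : Type u} [Field F] (ψ : R →+* F)

/-- modulo the core and a unit at `P`, the ideal `P` is principal -/
theorem principal_aux {q P : Ideal R} [q.IsPrime] [P.IsPrime] (hker : RingHom.ker ψ = q)
    (hqP : q ≤ P) (hhom : ∀ x, SetLike.IsHomogeneousElem 𝒜 x → x ∈ P → x ∈ q) :
    ∃ x ∈ P, ∀ r ∈ P, ∃ s ∉ P, s * r ∈ q ⊔ Ideal.span {x} := by
  classical
  obtain ⟨d, hd⟩ := Int.subgroup_cyclic (degs 𝒜 ψ)
  obtain ⟨t, ht0, ht⟩ : d ∈ degs 𝒜 ψ := hd ▸ AddSubgroup.subset_closure (Set.mem_singleton d)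
  let φ : (K0 𝒜 ψ)[T;T⁻¹] →+* F := LaurentPolynomial.eval₂ (K0 𝒜 ψ).subtype (Units.mk0 t ht0)
  have hφ : ∀ (c : K0 𝒜 ψ) (l : ℤ), φ (C c * T l) = (c : F) * t ^ l := fun c l => by
    simp [φ, map_mul, Units.val_zpow_eq_zpow_val]
  -- homogeneous images and their inverses are monomials
  have hfrac : ∀ (n : ℤ) (z : F), Frac 𝒜 ψ n z → z ∈ φ.range := by
    intro n z hz
    rcases eq_or_ne z 0 with rfl | h0
    · exact zero_mem _
    have hn : n ∈ degs 𝒜 ψ := ⟨z, h0, hz⟩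
    rw [hd, AddSubgroup.mem_closure_singleton] at hn
    obtain ⟨l, hl⟩ := hn
    have hc : Frac 𝒜 ψ 0 (z * (t ^ l)⁻¹) := by
      have := frac_mul 𝒜 ψ hz (frac_inv 𝒜 ψ (frac_zpow 𝒜 ψ ht ht0 l) (zpow_ne_zero l ht0))
      rwa [← smul_eq_mul, hl, add_neg_cancel] at this
    refine ⟨C (⟨_, hc⟩ : K0 𝒜 ψ) * T l, ?_⟩
    rw [hφ]
    exact inv_mul_cancel_right₀ (zpow_ne_zero l ht0) z
  have hψ : ∀ r, ψ r ∈ φ.range := fun r => by
    rw [← sum_support_decompose 𝒜 r, map_sum]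
    exact Subring.sum_mem _ fun i _ => hfrac i _ ⟨i, 0, _, 1, (decompose 𝒜 r i).2, SetLike.one_mem_graded 𝒜,
      by rw [map_one]; exact one_ne_zero, (add_zero i).symm, by rw [map_one, div_one]⟩
  -- every element of the range is a fraction
  have hrange : ∀ f, ∃ s b, HomNZ 𝒜 ψ b ∧ φ f = ψ s / ψ b := by
    intro f
    induction f using LaurentPolynomial.induction_on' with
    | add f g hf hg =>
      obtain ⟨s, b, hb, hs⟩ := hf
      obtain ⟨s', b', hb', hs'⟩ := hg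
      refine ⟨s * b' + b * s', b * b', homNZ_mul 𝒜 ψ hb hb', ?_⟩
      rw [map_add, hs, hs', map_add, map_mul, map_mul, map_mul, div_add_div _ _ hb.2 hb'.2]
    | C_mul_T l c =>
      obtain ⟨i, j, a, b, ha, hb, hb0, -, he⟩ := frac_mul 𝒜 ψ (show Frac 𝒜 ψ 0 (c : F) from c.2) (frac_zpow 𝒜 ψ ht ht0 l)
      exact ⟨a, b, ⟨⟨j, hb⟩, hb0⟩, (hφ c l).trans he⟩
  have hnotmem : ∀ (P' : Ideal R), P' ≤ P → ∀ b, HomNZ 𝒜 ψ b → b ∉ P' := fun P' hP' b hb h =>
    hb.2 (RingHom.mem_ker.mp (hker.ge (hhom b hb.1 (hP' h))))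
  let hat : ∀ (P' : Ideal R), Ideal (K0 𝒜 ψ)[T;T⁻¹] := fun P' =>
    { carrier := {f | ∃ s ∈ P', ∃ b, HomNZ 𝒜 ψ b ∧ φ f = ψ s / ψ b}
      add_mem' := by
        rintro f g ⟨s, hs, b, hb, h⟩ ⟨s', hs', b', hb', h'⟩
        refine ⟨s * b' + b * s', P'.add_mem (P'.mul_mem_right _ hs) (P'.mul_mem_left _ hs'), b * b',
          homNZ_mul 𝒜 ψ hb hb', ?_⟩
        rw [map_add, h, h', map_add, map_mul, map_mul, map_mul, div_add_div _ _ hb.2 hb'.2]
      zero_mem' := ⟨0, P'.zero_mem, 1, homNZ_one 𝒜 ψ, by rw [map_zero, map_zero, zero_div]⟩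
      smul_mem' := by
        rintro g f ⟨s, hs, b, hb, h⟩
        obtain ⟨s', b', hb', h'⟩ := hrange g
        refine ⟨s' * s, P'.mul_mem_left _ hs, b' * b, homNZ_mul 𝒜 ψ hb' hb, ?_⟩
        rw [smul_eq_mul, map_mul, h, h', map_mul, map_mul, div_mul_div_comm] }
  have hback : ∀ (P' : Ideal R) [P'.IsPrime], q ≤ P' → P' ≤ P → ∀ f s b, HomNZ 𝒜 ψ b → φ f = ψ s / ψ b →
      f ∈ hat P' → s ∈ P' := by
    rintro P' _ hq' hP' f s b hb h ⟨s', hs', b', hb', h'⟩
    rw [h, div_eq_div_iff hb.2 hb'.2, ← map_mul, ← map_mul] at h'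
    have : s * b' - s' * b ∈ P' := hq' (hker.le (RingHom.mem_ker.mpr (by rw [map_sub, h', sub_self])))
    have h2 : s * b' ∈ P' := by simpa using P'.add_mem this (P'.mul_mem_right b hs')
    exact ((‹P'.IsPrime›.mem_or_mem h2).resolve_right (hnotmem P' hP' b' hb'))
  have hprime : ∀ (P' : Ideal R) [P'.IsPrime], q ≤ P' → P' ≤ P → (hat P').IsPrime := by
    intro P' _ hq' hP'
    refine ⟨fun htop => ?_, fun {f g} hfg => ?_⟩
    · exact ‹P'.IsPrime›.ne_top ((Ideal.eq_top_iff_one _).mpr (hback P' hq' hP' 1 1 1 (homNZ_one 𝒜 ψ)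
        (by rw [map_one, map_one, div_one]) (htop ▸ Submodule.mem_top)))
    · obtain ⟨s, b, hb, hf⟩ := hrange f
      obtain ⟨s', b', hb', hg⟩ := hrange g
      rcases ‹P'.IsPrime›.mem_or_mem (hback P' hq' hP' (f * g) (s * s') (b * b') (homNZ_mul 𝒜 ψ hb hb')
        (by rw [map_mul, hf, hg, map_mul, map_mul, div_mul_div_comm]) hfg) with h | h
      · exact Or.inl ⟨s, h, b, hb, hf⟩
      · exact Or.inr ⟨s', h, b', hb', hg⟩
  obtain ⟨⟨g, hg⟩⟩ : (hat P).IsPrincipal := by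
    obtain ⟨g0, hg0⟩ := (IsPrincipalIdealRing.principal
      ((hat P).comap (algebraMap (Polynomial (K0 𝒜 ψ)) (K0 𝒜 ψ)[T;T⁻¹]))).principal
    refine ⟨algebraMap _ _ g0, ?_⟩
    conv_lhs => rw [← IsLocalization.map_under (Submonoid.powers (Polynomial.X : (Polynomial (K0 𝒜 ψ)))) (K0 𝒜 ψ)[T;T⁻¹] (hat P)]
    show Ideal.map _ (Ideal.comap _ _) = _
    rw [hg0, ← Ideal.span, Ideal.map_span, Set.image_singleton]
  obtain ⟨s, hs, b, hb, hgs⟩ := (show g ∈ hat P from hg ▸ Submodule.mem_span_singleton_self g)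
  refine ⟨s, hs, fun r hr => ?_⟩
  obtain ⟨f, hf⟩ := hψ r
  have h1 : f ∈ hat P := ⟨r, hr, 1, homNZ_one 𝒜 ψ, by rw [hf, map_one, div_one]⟩
  rw [hg, Submodule.mem_span_singleton] at h1
  obtain ⟨h, hh⟩ := h1
  obtain ⟨s', b', hb', hh'⟩ := hrange h
  refine ⟨b * b', fun hm => ?_, ?_⟩
  · exact ((‹P.IsPrime›.mem_or_mem hm).elim (hnotmem P le_rfl b hb) (hnotmem P le_rfl b' hb'))
  · have he : ψ (b * b' * r - s' * s) = 0 := by
      rw [map_sub, map_mul, map_mul, map_mul, ← hf, ← hh, smul_eq_mul, map_mul, hh', hgs, sub_eq_zero]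
      have hb0 := hb.2
      have hb0' := hb'.2
      field_simp
    have hq : b * b' * r - s' * s ∈ q := hker.le (RingHom.mem_ker.mpr he)
    have := Submodule.add_mem_sup hq (Ideal.mem_span_singleton'.mpr ⟨s', rfl⟩ : s' * s ∈ Ideal.span {s})
    rwa [sub_add_cancel] at this

theorem exists_principal (P : Ideal R) [P.IsPrime] :
    ∃ x ∈ P, ∀ r ∈ P, ∃ s ∉ P, s * r ∈ (P.homogeneousCore 𝒜).toIdeal ⊔ Ideal.span {x} := by
  haveI : (P.homogeneousCore 𝒜).toIdeal.IsPrime := Ideal.IsPrime.homogeneousCore inferInstance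
  refine principal_aux 𝒜 ((algebraMap (R ⧸ (P.homogeneousCore 𝒜).toIdeal) (FractionRing (R ⧸ (P.homogeneousCore 𝒜).toIdeal))).comp
    (Ideal.Quotient.mk _)) ?_ (Ideal.toIdeal_homogeneousCore_le 𝒜 P) fun x hx hxP => Ideal.mem_homogeneousCore_of_homogeneous_of_mem hx hxP
  rw [← RingHom.comap_ker, (RingHom.injective_iff_ker_eq_bot _).mp (IsFractionRing.injective _ _),
    ← RingHom.ker_eq_comap_bot, Ideal.mk_ker]

/-- a nonhomogeneous prime: one element `x ∉ core` and one `s ∉ P` with `s • P ⊆ core + (x)` -/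
theorem exists_pair [IsNoetherianRing R] (P : Ideal R) [P.IsPrime] (hP : ¬ P.IsHomogeneous 𝒜) :
    ∃ x ∈ P, x ∉ (P.homogeneousCore 𝒜).toIdeal ∧
      ∃ s ∉ P, ∀ r ∈ P, s * r ∈ (P.homogeneousCore 𝒜).toIdeal ⊔ Ideal.span {x} := by
  classical
  haveI hqp : (P.homogeneousCore 𝒜).toIdeal.IsPrime := Ideal.IsPrime.homogeneousCore inferInstance
  obtain ⟨x, hx, h⟩ := exists_principal 𝒜 P
  refine ⟨x, hx, fun hxq => hP ?_, ?_⟩
  · have hle : (P.homogeneousCore 𝒜).toIdeal ≤ P := Ideal.toIdeal_homogeneousCore_le 𝒜 P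
    have hPq : P ≤ (P.homogeneousCore 𝒜).toIdeal := fun r hr => by
      obtain ⟨s, hs, hsr⟩ := h r hr
      rw [sup_eq_left.mpr ((Ideal.span_singleton_le_iff_mem _).mpr hxq)] at hsr
      exact (hqp.mem_or_mem hsr).resolve_left fun h' => hs (hle h')
    have he : (P.homogeneousCore 𝒜).toIdeal = P := le_antisymm hle hPq
    rw [← he]
    exact (P.homogeneousCore 𝒜).isHomogeneous
  · obtain ⟨t, ht⟩ := (IsNoetherian.noetherian P : P.FG)
    have htP : ∀ r ∈ t, r ∈ P := fun r hr => ht ▸ Submodule.subset_span hr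
    choose! c hc hcr using h
    refine ⟨∏ r ∈ t, c r, fun hm => ?_, fun r hr => ?_⟩
    · obtain ⟨r, hr, hcm⟩ := (‹P.IsPrime›.prod_mem_iff).mp hm
      exact hc r (htP r hr) hcm
    · rw [← ht] at hr
      induction hr using Submodule.span_induction with
      | mem r hr =>
        obtain ⟨d, hd⟩ := Finset.dvd_prod_of_mem c hr
        rw [hd, mul_right_comm]
        exact Ideal.mul_mem_right _ _ (hcr r (htP r hr))
      | zero => rw [mul_zero]; exact zero_mem _
      | add a b _ _ ha hb => rw [mul_add]; exact add_mem ha hb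
      | smul a b _ hb => rw [smul_eq_mul, mul_left_comm]; exact Ideal.mul_mem_left _ a hb

end Principal

open CategoryTheory Abelian

section ExtLemmas

variable {R : Type u} [CommRing R] {M : ModuleCat.{u} R}

abbrev E (M : ModuleCat.{u} R) (N : Type u) [AddCommGroup N] [Module R N] (j : ℕ) :=
  Ext.{u} (ModuleCat.of R N) M j

theorem smul_eq (N : ModuleCat.{u} R) (j : ℕ) (s : R) (y : Ext.{u} N M j) :
    (Ext.mk₀ (s • 𝟙 N)).comp y (zero_add j) = s • y := by
  rw [Ext.mk₀_smul, Ext.smul_comp, Ext.mk₀_id_comp]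

/-- `s` kills `Ext(N₃)` when it kills the kernel and `Ext(N₂) = 0` -/
theorem kills {S : ShortComplex (ModuleCat.{u} R)} (hS : S.ShortExact) (j : ℕ) (s : R)
    (hs : ∀ k : S.X₁, s • k = 0) [Subsingleton (Ext.{u} S.X₂ M (j + 1))] (y : Ext.{u} S.X₃ M (j + 1)) :
    s • y = 0 := by
  obtain ⟨x, rfl⟩ := Ext.contravariant_sequence_exact₃ hS M y (Subsingleton.elim _ _) (add_comm 1 j)
  rw [← Ext.comp_smul]
  have h0 : (s • 𝟙 S.X₁) = 0 := ModuleCat.hom_ext (LinearMap.ext fun k => hs k)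
  rw [← smul_eq S.X₁ j s x, h0, Ext.mk₀_zero, Ext.zero_comp, Ext.comp_zero]

/-- the sequence of multiplication by a regular element -/
theorem mul_shortExact (N : Type u) [AddCommGroup N] [Module R N] (s : R) (hs : IsSMulRegular N s) :
    (ShortComplex.mk (s • 𝟙 (ModuleCat.of R N)) (ModuleCat.ofHom (LinearMap.range (LinearMap.lsmul R N s)).mkQ)
      (by ext x; exact (Submodule.Quotient.mk_eq_zero _).mpr ⟨x, rfl⟩) : ShortComplex (ModuleCat.{u} R)).ShortExact :=
  GorensteinQuotient.shortExact_mk (LinearMap.lsmul R N s) _ hs (Submodule.mkQ_surjective _)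
    (LinearMap.exact_map_mkQ_range _)

theorem surj_smul (N : Type u) [AddCommGroup N] [Module R N] (s : R) (hs : IsSMulRegular N s) (j : ℕ)
    [Subsingleton (E M (N ⧸ LinearMap.range (LinearMap.lsmul R N s)) (j + 1))] (y : E M N j) :
    ∃ z : E M N j, s • z = y := by
  obtain ⟨z, hz⟩ := Ext.contravariant_sequence_exact₁ (mul_shortExact N s hs) M y (add_comm 1 j)
    (Subsingleton.elim _ _)
  exact ⟨z, (smul_eq _ j s z).symm.trans hz⟩

theorem inj_smul (N : Type u) [AddCommGroup N] [Module R N] (s : R) (hs : IsSMulRegular N s) (j : ℕ)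
    [Subsingleton (E M (N ⧸ LinearMap.range (LinearMap.lsmul R N s)) j)] (y : E M N j) (hy : s • y = 0) :
    y = 0 := by
  obtain ⟨x, hx⟩ := Ext.contravariant_sequence_exact₂ (mul_shortExact N s hs) M y
    ((smul_eq _ j s y).trans hy)
  rw [← hx, Subsingleton.elim x 0, Ext.comp_zero]

theorem regular_quotient {p : Ideal R} (hp : p.IsPrime) {s : R} (hs : s ∉ p) : IsSMulRegular (R ⧸ p) s := by
  rw [isSMulRegular_iff_right_eq_zero_of_smul]
  intro x hx
  obtain ⟨r, rfl⟩ := Ideal.Quotient.mk_surjective x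
  change Ideal.Quotient.mk p (s * r) = 0 at hx
  rw [Ideal.Quotient.eq_zero_iff_mem] at hx ⊢
  exact (hp.mem_or_mem hx).resolve_left hs

variable [IsNoetherianRing R]

/-- vanishing at the primes containing `J` gives vanishing on modules killed by `J` -/
theorem vanish_of_primes (J : Ideal R) (j : ℕ)
    (h : ∀ Q : Ideal R, Q.IsPrime → J ≤ Q → Subsingleton (E M (R ⧸ Q) j))
    (N : Type u) [AddCommGroup N] [Module R N] [Module.Finite R N] (hN : ∀ r ∈ J, ∀ x : N, r • x = 0) :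
    Subsingleton (E M N j) := by
  induction ‹Module.Finite R N› using IsNoetherianRing.induction_on_isQuotientEquivQuotientPrime R with
  | subsingleton N =>
    have h0 : 𝟙 (ModuleCat.of R N) = 0 := ModuleCat.hom_ext (LinearMap.ext fun x => Subsingleton.elim (α := N) _ _)
    refine ⟨fun a b => ?_⟩
    rw [← Ext.mk₀_id_comp a, ← Ext.mk₀_id_comp b, h0, Ext.mk₀_zero, Ext.zero_comp, Ext.zero_comp]
  | quotient N p f =>
    have hJ : J ≤ p.1 := fun r hr => by
      have := congrArg f (hN r hr (f.symm 1))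
      rw [map_smul, map_zero, LinearEquiv.apply_symm_apply, Algebra.smul_def, mul_one,
        Ideal.Quotient.algebraMap_eq, Ideal.Quotient.eq_zero_iff_mem] at this
      exact this
    haveI := h p.1 p.2 hJ
    refine ⟨fun a b => ?_⟩
    have e : 𝟙 (ModuleCat.of R N) = ModuleCat.ofHom f.toLinearMap ≫ ModuleCat.ofHom f.symm.toLinearMap :=
      ModuleCat.hom_ext (LinearMap.ext fun x => (f.symm_apply_apply x).symm)
    rw [← Ext.mk₀_id_comp a, ← Ext.mk₀_id_comp b, e, ← Ext.mk₀_comp_mk₀, Ext.comp_assoc_of_second_deg_zero,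
      Ext.comp_assoc_of_second_deg_zero,
      Subsingleton.elim ((Ext.mk₀ (ModuleCat.ofHom f.symm.toLinearMap)).comp a (zero_add j))
        ((Ext.mk₀ (ModuleCat.ofHom f.symm.toLinearMap)).comp b (zero_add j))]
  | exact N₁ N₂ N₃ f g hf hg hfg h₁ h₃ =>
    haveI := h₁ fun r hr x => hf (by rw [map_smul, hN r hr, map_zero])
    haveI := h₃ fun r hr x => by
      obtain ⟨x, rfl⟩ := hg x
      rw [← map_smul, hN r hr, map_zero]
    refine subsingleton_of_forall_eq 0 fun a => ?_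
    obtain ⟨b, rfl⟩ := Ext.contravariant_sequence_exact₂ (GorensteinQuotient.shortExact_mk f g hf hg hfg) M a
      (Subsingleton.elim _ _)
    rw [Subsingleton.elim b 0, Ext.comp_zero]

/-- vanishing above `p` gives vanishing on the cokernel of `s` on `R ⧸ p` -/
theorem vanish_coker {p : Ideal R} {s : R} (hs : s ∉ p) (j : ℕ)
    (h : ∀ Q : Ideal R, Q.IsPrime → p < Q → Subsingleton (E M (R ⧸ Q) j)) :
    Subsingleton (E M ((R ⧸ p) ⧸ LinearMap.range (LinearMap.lsmul R (R ⧸ p) s)) j) := by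
  refine vanish_of_primes (p ⊔ Ideal.span {s}) j (fun Q hQ hle => h Q hQ ?_) _ fun r hr x => ?_
  · exact lt_of_lt_of_le (lt_of_le_of_ne le_sup_left fun he =>
      hs (he.ge (Ideal.mem_sup_right (Ideal.mem_span_singleton_self s)))) hle
  · obtain ⟨y, rfl⟩ := Submodule.mkQ_surjective _ x
    obtain ⟨a, ha, b, hb, rfl⟩ := Submodule.mem_sup.mp hr
    obtain ⟨c, rfl⟩ := Ideal.mem_span_singleton'.mp hb
    rw [← map_smul, Submodule.mkQ_apply, Submodule.Quotient.mk_eq_zero]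
    refine ⟨c • y, ?_⟩
    show s • c • y = (a + c * s) • y
    rw [add_smul, mul_smul, smul_comm s c y]
    obtain ⟨z, rfl⟩ := Ideal.Quotient.mk_surjective y
    have h0 : a • Ideal.Quotient.mk p z = 0 :=
      Ideal.Quotient.eq_zero_iff_mem.mpr (Ideal.mul_mem_right z p ha)
    rw [h0, zero_add]

end ExtLemmas

section Graded

open Groth.Agent.GrStarBasic

variable {R : Type u} [CommRing R] [IsNoetherianRing R] {𝒜 : ℤ → AddSubgroup R} [GradedRing 𝒜]
variable {M : Type u} [AddCommGroup M] [Module R M] {ℳ : ℤ → AddSubgroup M} [DirectSum.Decomposition ℳ]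
  [SetLike.GradedSMul 𝒜 ℳ]

theorem ext_homogeneous (hM : GrLC.IsStarInj 𝒜 ℳ) (q : Ideal R) (hq : q.IsHomogeneous 𝒜) (i : ℕ) :
    Subsingleton (E (ModuleCat.of R M) (R ⧸ q) (i + 1)) :=
  Groth.Agent.GrStarExt.ext_subsingleton hM i (quoMod 𝒜 𝒜 (P := q) hq)
    (inferInstanceAs (Module.Finite R (R ⧸ q)))

/-- the comparison module `R ⧸ (core + (x))` -/
theorem ext_model (hM : GrLC.IsStarInj 𝒜 ℳ) (q : Ideal R) (hqp : q.IsPrime) (hq : q.IsHomogeneous 𝒜)
    (x : R) (hx : x ∉ q) (i : ℕ) :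
    Subsingleton (E (ModuleCat.of R M) ((R ⧸ q) ⧸ LinearMap.range (LinearMap.lsmul R (R ⧸ q) x)) (i + 2)) := by
  haveI := ext_homogeneous hM q hq i
  haveI : Subsingleton (E (ModuleCat.of R M) (R ⧸ q) (i + 2)) := ext_homogeneous hM q hq (i + 1)
  refine subsingleton_of_forall_eq 0 fun a => ?_
  obtain ⟨b, rfl⟩ := Ext.contravariant_sequence_exact₃ (mul_shortExact (R ⧸ q) x (regular_quotient hqp hx))
    (ModuleCat.of R M) a (Subsingleton.elim _ _) (add_comm 1 (i + 1))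
  rw [Subsingleton.elim (α := E (ModuleCat.of R M) (R ⧸ q) (i + 1)) b 0, Ext.comp_zero]

omit [IsNoetherianRing R] in
/-- the map `model → R ⧸ p` and an element outside `p` killing its kernel -/
theorem exists_to_prime (p : Ideal R) (x : R) (hx : x ∈ p) (q : Ideal R) (hq : q ≤ p)
    (s : R) (hs : ∀ r ∈ p, s * r ∈ q ⊔ Ideal.span {x}) :
    ∃ g : ((R ⧸ q) ⧸ LinearMap.range (LinearMap.lsmul R (R ⧸ q) x)) →ₗ[R] R ⧸ p,
      Function.Surjective g ∧ ∀ k ∈ LinearMap.ker g, s • k = 0 := by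
  refine ⟨Submodule.liftQ _ (Submodule.factor hq) ?_, ?_, fun k hk => ?_⟩
  · rintro _ ⟨y, rfl⟩
    obtain ⟨r, rfl⟩ := Submodule.Quotient.mk_surjective _ y
    exact (Submodule.Quotient.mk_eq_zero p).mpr (Ideal.mul_mem_right r p hx)
  · intro y
    obtain ⟨r, rfl⟩ := Submodule.Quotient.mk_surjective _ y
    exact ⟨Submodule.Quotient.mk (Submodule.Quotient.mk r), rfl⟩
  · obtain ⟨k, rfl⟩ := Submodule.Quotient.mk_surjective _ k
    obtain ⟨r, rfl⟩ := Submodule.Quotient.mk_surjective _ k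
    have hr : r ∈ p := (Submodule.Quotient.mk_eq_zero p).mp hk
    obtain ⟨a, ha, b, hb, hab⟩ := Submodule.mem_sup.mp (hs r hr)
    obtain ⟨c, rfl⟩ := Ideal.mem_span_singleton'.mp hb
    rw [← Submodule.Quotient.mk_smul, Submodule.Quotient.mk_eq_zero]
    refine ⟨Submodule.Quotient.mk c, ?_⟩
    show x • (Submodule.Quotient.mk c : R ⧸ q) = s • Submodule.Quotient.mk r
    rw [← Submodule.Quotient.mk_smul, ← Submodule.Quotient.mk_smul, Submodule.Quotient.eq, smul_eq_mul, smul_eq_mul,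
      ← hab, show x * c - (a + c * x) = -a by ring]
    exact neg_mem ha

theorem ext_prime (hM : GrLC.IsStarInj 𝒜 ℳ) :
    ∀ p : Ideal R, p.IsPrime → ∀ i : ℕ, Subsingleton (E (ModuleCat.of R M) (R ⧸ p) (i + 2)) := by
  intro p
  induction p using WellFoundedGT.induction with
  | ind p ih =>
    intro hp i
    by_cases hh : p.IsHomogeneous 𝒜
    · exact ext_homogeneous hM p hh (i + 1)
    haveI := hp
    obtain ⟨x, hx, hxq, s, hs, hsP⟩ := exists_pair 𝒜 p hh
    obtain ⟨g, hg, hgk⟩ := exists_to_prime p x hx _ (Ideal.toIdeal_homogeneousCore_le 𝒜 p) s hsP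
    haveI := ext_model hM _ hp.homogeneousCore (p.homogeneousCore 𝒜).isHomogeneous x hxq i
    haveI := vanish_coker (M := ModuleCat.of R M) hs (i + 2 + 1) (fun Q hQ hlt => ih Q hlt hQ (i + 1))
    have hS := LinearMap.shortExact_shortComplexKer hg
    haveI : Subsingleton (Ext.{u} g.shortComplexKer.X₂ (ModuleCat.of R M) (i + 1 + 1)) :=
      inferInstanceAs (Subsingleton (E (ModuleCat.of R M) _ (i + 2)))
    refine subsingleton_of_forall_eq 0 fun y => ?_
    obtain ⟨z, rfl⟩ := surj_smul (R ⧸ p) s (regular_quotient hp hs) (i + 2) y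
    exact kills hS (i + 1) s (fun k => Subtype.ext (hgk k.1 k.2)) z

theorem injDim_lt_two (hM : GrLC.IsStarInj 𝒜 ℳ) : HasInjectiveDimensionLT (ModuleCat.of R M) 2 := by
  obtain ⟨I, _, _, ι, hι, hI⟩ := GorensteinQuotient.exists_embedding R M
  have hS := GorensteinQuotient.shortExact_mk ι (LinearMap.range ι).mkQ hι (Submodule.mkQ_surjective _)
    (LinearMap.exact_map_mkQ_range ι)
  haveI := hI
  haveI hIobj : Injective (ModuleCat.of R I) := Module.injective_object_of_injective_module R I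
  have h2 : ∀ J : Ideal R, Subsingleton (E (ModuleCat.of R M) (R ⧸ J) 2) := fun J =>
    vanish_of_primes J 2 (fun Q hQ _ => ext_prime hM Q hQ 0) _ fun r hr x => by
      obtain ⟨y, rfl⟩ := Ideal.Quotient.mk_surjective x
      exact Ideal.Quotient.eq_zero_iff_mem.mpr (Ideal.mul_mem_right y J hr)
  have h1 : Module.Injective R (I ⧸ LinearMap.range ι) := by
    refine Module.Baer.injective fun J f => ?_
    haveI := h2 J
    haveI : Subsingleton (E (ModuleCat.of R (I ⧸ LinearMap.range ι)) (R ⧸ J) 1) := by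
      refine subsingleton_of_forall_eq 0 fun a => ?_
      obtain ⟨b, rfl⟩ := Ext.covariant_sequence_exact₃ _ hS a (show 1 + 1 = 2 from rfl) (Subsingleton.elim _ _)
      rw [Ext.eq_zero_of_injective b, Ext.zero_comp]
    have hT := GorensteinQuotient.shortExact_mk (J : Submodule R R).subtype (J : Submodule R R).mkQ
      (Submodule.injective_subtype _) (Submodule.mkQ_surjective _) (LinearMap.exact_subtype_mkQ _)
    obtain ⟨y, hy⟩ := Ext.contravariant_sequence_exact₁ hT (ModuleCat.of R (I ⧸ LinearMap.range ι))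
      (Ext.mk₀ (ModuleCat.ofHom f)) (show 1 + 0 = 1 from rfl) (Subsingleton.elim (α := E _ (R ⧸ J) 1) _ _)
    obtain ⟨h, rfl⟩ := (Ext.mk₀_bijective _ _).2 y
    rw [Ext.mk₀_comp_mk₀] at hy
    have he := (Ext.mk₀_bijective _ _).1 hy
    exact ⟨h.hom, fun r hr => LinearMap.congr_fun (congrArg ModuleCat.Hom.hom he) ⟨r, hr⟩⟩
  haveI := Module.injective_object_of_injective_module R (I ⧸ LinearMap.range ι)
  haveI hX2 : HasInjectiveDimensionLT (ModuleCat.of R I) 1 := by
    rwa [← injective_iff_hasInjectiveDimensionLT_one]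
  refine hS.hasInjectiveDimensionLT_X₁ 1 ?_ (hasInjectiveDimensionLT_of_ge _ 1 2 (by omega))
  show HasInjectiveDimensionLT (ModuleCat.of R (I ⧸ LinearMap.range ι)) 1
  rw [← injective_iff_hasInjectiveDimensionLT_one]
  infer_instance

end Graded

end Groth.Agent.H1GrInjDim
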