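import Groth.Agent.Lib.GammaFilCongr

/-! Basic identities of λ-rings, positive structures, splitting and Adams operations. -/

namespace Groth.Agent.H1Lam

open LambdaRing PowerSeries Finset Groth.Agent.GammaN

universe u

variable {K : Type u} [CommRing K] [LambdaOps K]

lemma lamSeries_add (x y : K) : lamSeries (x + y) = lamSeries x * lamSeries y := by
  ext m
  rw [PowerSeries.coeff_mul, Finset.Nat.sum_antidiagonal_eq_sum_range_succ_mk, lamSeries,
    PowerSeries.coeff_mk, LambdaOps.lam_add]
  exact Finset.sum_congr rfl fun i _ => by simp [lamSeries]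

lemma lamSeries_zero : lamSeries (0 : K) = 1 := by
  ext m
  rw [lamSeries, coeff_mk, GammaV.lam_zero_elt, coeff_one]

lemma lamSeries_line (u : K) (hu : ∀ j, 2 ≤ j → LambdaOps.lam j u = 0) :
    lamSeries u = 1 + C u * X := by
  ext m
  rcases m with _ | _ | m
  · simp [lamSeries, LambdaOps.lam_zero]
  · simp [lamSeries, LambdaOps.lam_one]
  · simp [lamSeries, hu (m + 2) (by omega), coeff_one, coeff_X]

lemma lamSeries_natCast (h1 : ∀ k, 2 ≤ k → LambdaOps.lam k (1 : K) = 0) (m : ℕ) :
    lamSeries (m : K) = (1 + X) ^ m := by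
  induction m with
  | zero => simp [lamSeries_zero]
  | succ m ih => rw [Nat.cast_succ, lamSeries_add, ih, lamSeries_line 1 h1, map_one, one_mul, pow_succ]

lemma coeff_one_add_X_pow' (m i : ℕ) : coeff i ((1 + X : PowerSeries K) ^ m) = (m.choose i : K) := by
  induction m generalizing i with
  | zero => rcases i with _ | i <;> simp [coeff_one]
  | succ m ih =>
    rcases i with _ | i
    · simp
    · rw [pow_succ', add_mul, one_mul, map_add, coeff_succ_X_mul, ih, ih, Nat.choose_succ_succ]
      push_cast
      ring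

lemma lam_natCast (h1 : ∀ k, 2 ≤ k → LambdaOps.lam k (1 : K) = 0) (m i : ℕ) :
    LambdaOps.lam i (m : K) = (m.choose i : K) := by
  have := congrArg (coeff i) (lamSeries_natCast h1 m)
  rwa [lamSeries, coeff_mk, coeff_one_add_X_pow'] at this

lemma gamma_eq_lam (h1 : ∀ k, 2 ≤ k → LambdaOps.lam k (1 : K) = 0) (n : ℕ) (x : K) :
    gamma n x = LambdaOps.lam n (x + (n : K) - 1) := by
  rcases n with _ | n
  · simp [gamma, LambdaOps.lam_zero]
  rw [show x + ((n + 1 : ℕ) : K) - 1 = x + (n : K) by push_cast; ring, LambdaOps.lam_add, GammaV.gamma_succ,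
    Finset.sum_range_succ' _ (n + 1), lam_natCast h1, Nat.choose_eq_zero_of_lt (by omega), Nat.cast_zero,
    mul_zero, add_zero]
  refine Finset.sum_congr rfl fun j hj => ?_
  simp only [Finset.mem_range] at hj
  rw [lam_natCast h1, mul_comm, show n + 1 - (j + 1) = n - j by omega, Nat.choose_symm (by omega)]

lemma lam_eq_alt_sum (h1 : ∀ k, 2 ≤ k → LambdaOps.lam k (1 : K) = 0) (n : ℕ) (z : K) :
    LambdaOps.lam n z = (-1) ^ n * ∑ i ∈ range (n + 1), (-1) ^ i * LambdaOps.lam i (z + 1) := by
  induction n with
  | zero => simp [LambdaOps.lam_zero]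
  | succ n ih =>
    have hz : LambdaOps.lam (n + 1) (z + 1) = LambdaOps.lam (n + 1) z + LambdaOps.lam n z := by
      have := congrArg (coeff (n + 1)) (lamSeries_add z 1)
      rw [lamSeries_line 1 h1, map_one, one_mul, mul_add, mul_one, map_add, coeff_succ_mul_X] at this
      simpa [lamSeries] using this
    rw [Finset.sum_range_succ, mul_add, ← mul_assoc ((-1 : K) ^ (n + 1)), ← mul_pow, neg_mul_neg, one_mul,
      one_pow, one_mul, hz, pow_succ, mul_comm ((-1 : K) ^ n) (-1), mul_assoc, ← ih]
    ring

lemma gammaSeries_add (x y : K) : gammaSeries (x + y) = gammaSeries x * gammaSeries y := by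
  ext n
  rw [coeff_gammaSeries, GammaN.gamma_add, PowerSeries.coeff_mul,
    Finset.Nat.sum_antidiagonal_eq_sum_range_succ_mk]
  simp only [coeff_gammaSeries]

lemma gammaSeries_zero : gammaSeries (0 : K) = 1 := by
  ext n
  rw [coeff_gammaSeries, coeff_one]
  rcases n with _ | n
  · simp [GammaN.gamma_zero]
  · rw [GammaF.gamma_zero_elt _ (by omega), if_neg (by omega)]

lemma gammaSeries_line (u : K) (hu : ∀ j, 2 ≤ j → LambdaOps.lam j u = 0) :
    gammaSeries u = 1 + C u * (X * PowerSeries.mk 1) := by
  ext n
  rw [coeff_gammaSeries]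
  rcases n with _ | n
  · simp [GammaN.gamma_zero]
  · rw [GammaV.gamma_succ, Finset.sum_range_succ', Finset.sum_eq_zero fun j _ => by
      rw [hu _ (by omega), mul_zero], zero_add, map_add, coeff_one, if_neg (by omega), zero_add,
      coeff_C_mul, coeff_succ_X_mul, coeff_mk]
    simp [LambdaOps.lam_one]

lemma gammaSeries_natCast (h1 : ∀ k, 2 ≤ k → LambdaOps.lam k (1 : K) = 0) (c : ℕ) :
    gammaSeries (c : K) = PowerSeries.mk 1 ^ c := by
  have hmk : (PowerSeries.mk 1 : PowerSeries K) = 1 + X * PowerSeries.mk 1 := by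
    have := PowerSeries.mk_one_mul_one_sub_eq_one (S := K)
    linear_combination this
  induction c with
  | zero => simp [gammaSeries_zero]
  | succ c ih =>
    rw [Nat.cast_succ, gammaSeries_add, ih, gammaSeries_line 1 h1, map_one, one_mul, ← hmk, pow_succ]

lemma mk_one_pow_mul (k : ℕ) : (PowerSeries.mk 1 : PowerSeries K) ^ k * (1 - X) ^ k = 1 := by
  rw [← mul_pow, PowerSeries.mk_one_mul_one_sub_eq_one, one_pow]

/-- `γ_t (x - c)`. -/
lemma gammaSeries_sub_natCast (h1 : ∀ k, 2 ≤ k → LambdaOps.lam k (1 : K) = 0) (x : K) (c : ℕ) :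
    gammaSeries (x - (c : K)) = gammaSeries x * (1 - X) ^ c := by
  have h := gammaSeries_add (x - (c : K)) (c : K)
  rw [sub_add_cancel, gammaSeries_natCast h1] at h
  rw [h, mul_assoc, mk_one_pow_mul, mul_one]

lemma gammaSeries_line_sub_one (h1 : ∀ k, 2 ≤ k → LambdaOps.lam k (1 : K) = 0) (u : K)
    (hu : ∀ j, 2 ≤ j → LambdaOps.lam j u = 0) : gammaSeries (u - 1) = 1 + C (u - 1) * X := by
  have h := gammaSeries_sub_natCast h1 u 1
  rw [Nat.cast_one, pow_one, gammaSeries_line u hu] at h
  rw [h, map_sub, map_one]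
  have := PowerSeries.mk_one_mul_one_sub_eq_one (S := K)
  linear_combination (C u * X) * this

lemma coeff_one_sub_X_pow' (r j : ℕ) :
    coeff j ((1 - X : PowerSeries K) ^ r) = (-1) ^ j * (r.choose j : K) := by
  induction r generalizing j with
  | zero => rcases j with _ | j <;> simp [coeff_one]
  | succ r ih =>
    rcases j with _ | j
    · simp
    · rw [pow_succ', sub_mul, one_mul, map_sub, coeff_succ_X_mul, ih, ih, Nat.choose_succ_succ]
      push_cast
      ring

lemma gamma_sub_natCast_poly (h1 : ∀ k, 2 ≤ k → LambdaOps.lam k (1 : K) = 0) (e : K) (n : ℕ)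
    (he : ∀ k, n < k → LambdaOps.lam k e = 0) :
    (∑ i ∈ range (n + 1), Polynomial.C (gamma i (e - (n : K))) * Polynomial.X ^ (n - i)) =
      ∑ i ∈ range (n + 1), Polynomial.C (LambdaOps.lam i e) * (Polynomial.X - 1) ^ (n - i) := by
  have hser : gammaSeries (e - (n : K)) =
      ∑ k ∈ range (n + 1), C (LambdaOps.lam k e) * (X ^ k * (1 - X) ^ (n - k)) := by
    rw [gammaSeries_sub_natCast h1]
    have hN' : gammaSeries e = ∑ k ∈ range (n + 1), C (LambdaOps.lam k e) * sig K ^ k := by
      ext m
      rw [map_sum]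
      have h := coeff_subst_sig (lamSeries e) m (m + n + 1) (by omega) 0
      simp only [pow_zero, mul_one] at h
      rw [gammaSeries, h, ← Finset.sum_subset (s₁ := range (n + 1))
        (s₂ := range (m + n + 1)) (by intro a; simp; omega) fun k _ hk => ?_]
      · exact Finset.sum_congr rfl fun k _ => by rw [coeff_C_mul, lamSeries, coeff_mk]
      · rw [lamSeries, coeff_mk, he k (by simp at hk; omega), zero_mul]
    rw [hN', Finset.sum_mul]
    refine Finset.sum_congr rfl fun k hk => ?_
    have hkn : k ≤ n := by simp only [Finset.mem_range] at hk; omega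
    rw [show (1 - X : PowerSeries K) ^ n = (1 - X) ^ k * (1 - X) ^ (n - k) by rw [← pow_add]; congr 1; omega,
      sig, mul_pow, show ∀ a b c e f : PowerSeries K, a * (b * c) * (e * f) = a * (b * f) * (c * e) by
        intros; ring, mk_one_pow_mul, mul_one]
  have hγ : ∀ i, gamma i (e - (n : K)) = ∑ k ∈ range (n + 1),
      if k ≤ i then LambdaOps.lam k e * ((-1) ^ (i - k) * ((n - k).choose (i - k) : K)) else 0 := by
    intro i
    rw [← coeff_gammaSeries, hser, map_sum]
    refine Finset.sum_congr rfl fun k _ => ?_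
    rw [coeff_C_mul, coeff_X_pow_mul', coeff_one_sub_X_pow']
    split_ifs <;> simp
  have hcoef : ∀ r m : ℕ, ((Polynomial.X - 1 : Polynomial K) ^ r).coeff m = (-1) ^ (r - m) * (r.choose m : K) :=
    fun r m => by
      rw [show (Polynomial.X - 1 : Polynomial K) = Polynomial.X + Polynomial.C (-1) by simp [sub_eq_add_neg],
        Polynomial.coeff_X_add_C_pow]
  refine Polynomial.ext fun m => ?_
  simp only [Polynomial.finset_sum_coeff, Polynomial.coeff_C_mul, Polynomial.coeff_X_pow]
  rcases Nat.lt_or_ge n m with hm | hm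
  · rw [Finset.sum_eq_zero fun i _ => by rw [if_neg (by omega), mul_zero]]
    symm
    refine Finset.sum_eq_zero fun i _ => ?_
    rw [hcoef, Nat.choose_eq_zero_of_lt (by omega), Nat.cast_zero,
      mul_zero, mul_zero]
  · rw [Finset.sum_eq_single (n - m) (fun i hi hne => by
        simp only [Finset.mem_range] at hi
        rw [if_neg (by omega), mul_zero]) (fun h => absurd (Finset.mem_range.2 (by omega)) h),
      if_pos (by omega), mul_one, hγ]
    refine Finset.sum_congr rfl fun k hk => ?_
    simp only [Finset.mem_range] at hk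
    rw [hcoef]
    split_ifs with h
    · rw [show n - k - m = n - m - k by omega, show n - m - k = (n - k) - m by omega,
        Nat.choose_symm (by omega)]
    · rw [Nat.choose_eq_zero_of_lt (by omega), Nat.cast_zero, mul_zero, mul_zero]

section Pos

variable (P : PosStructure K)

lemma aug_natCast_one : P.aug (1 : K) = 1 := map_one _

lemma one_mem : (1 : K) ∈ P.pos := by simpa using P.natCast_mem 1 one_pos

lemma isLine_one : P.IsLine (1 : K) := ⟨one_mem P, map_one _⟩

lemma IsLine.lam_eq {u : K} (hu : P.IsLine u) (j : ℕ) (hj : 2 ≤ j) : LambdaOps.lam j u = 0 :=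
  P.lam_eq_zero u hu.1 j (by rw [hu.2]; omega)

include P in
lemma lam_one_eq (j : ℕ) (hj : 2 ≤ j) : LambdaOps.lam j (1 : K) = 0 :=
  IsLine.lam_eq P (isLine_one P) j hj

lemma IsLine.mul {u v : K} (hu : P.IsLine u) (hv : P.IsLine v) : P.IsLine (u * v) :=
  ⟨P.mul_mem u v hu.1 hv.1, by rw [map_mul, hu.2, hv.2, one_mul]⟩

lemma IsLine.pow {u : K} (hu : P.IsLine u) (j : ℕ) : P.IsLine (u ^ j) := by
  induction j with
  | zero => simpa using isLine_one P
  | succ j ih => rw [pow_succ]; exact IsLine.mul P ih hu

lemma adams_zero (x : K) : adams P 0 x = (P.aug x : K) := by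
  simp [adams, adamsSeries]

lemma adamsSeries_add (x y : K) : adamsSeries P (x + y) = adamsSeries P x + adamsSeries P y := by
  have hx : ∀ z : K, rescale (-1 : K) (lamSeries z) * (rescale (-1 : K) (lamSeries z)).invOfUnit 1 = 1 :=
    fun z => mul_invOfUnit _ 1 (by
      rw [← coeff_zero_eq_constantCoeff_apply, coeff_rescale, lamSeries, coeff_mk, LambdaOps.lam_zero,
        pow_zero, one_mul, Units.val_one])
  set a := rescale (-1 : K) (lamSeries x)
  set b := rescale (-1 : K) (lamSeries y)
  set c := rescale (-1 : K) (lamSeries (x + y)) with hc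
  have hab : c = a * b := by rw [hc, lamSeries_add, map_mul]
  have hci : c.invOfUnit 1 = a.invOfUnit 1 * b.invOfUnit 1 := by
    have h1 := hx (x + y)
    rw [← hc] at h1
    calc c.invOfUnit 1 = c.invOfUnit 1 * ((a * a.invOfUnit 1) * (b * b.invOfUnit 1)) := by
          rw [hx x, hx y, mul_one, mul_one]
      _ = (c * c.invOfUnit 1) * (a.invOfUnit 1 * b.invOfUnit 1) := by rw [hab]; ring
      _ = _ := by rw [h1, one_mul]
  simp only [adamsSeries]
  change C ((P.aug (x + y) : ℤ) : K) - X * derivative K c * c.invOfUnit 1 =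
    C ((P.aug x : ℤ) : K) - X * derivative K a * a.invOfUnit 1 +
      (C ((P.aug y : ℤ) : K) - X * derivative K b * b.invOfUnit 1)
  rw [hci, hab, Derivation.leibniz, smul_eq_mul, smul_eq_mul, map_add, Int.cast_add, map_add]
  linear_combination (-(X * derivative K a * a.invOfUnit 1)) * (hx y) +
    (-(X * derivative K b * b.invOfUnit 1)) * (hx x)

/-- `ψ^j` as an additive map. -/
noncomputable def adamsAdd (j : ℕ) : K →+ K :=
  AddMonoidHom.mk' (adams P j) fun x y => by simp [adams, adamsSeries_add]

lemma adams_line {u : K} (hu : P.IsLine u) (j : ℕ) : adams P j u = u ^ j := by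
  have hl : rescale (-1 : K) (lamSeries u) = 1 - C u * X := by
    ext n
    rw [lamSeries_line u (IsLine.lam_eq P hu), coeff_rescale]
    rcases n with _ | _ | n <;> simp [coeff_one, coeff_X]
  have hi : (1 - C u * X : PowerSeries K).invOfUnit 1 = PowerSeries.mk fun n => u ^ n := by
    have h1 : (1 - C u * X : PowerSeries K) * (PowerSeries.mk fun n => u ^ n) = 1 := by
      ext n
      rw [sub_mul, one_mul, map_sub, mul_assoc, coeff_C_mul, coeff_one]
      rcases n with _ | n
      · simp
      · rw [coeff_succ_X_mul, coeff_mk, coeff_mk, if_neg (by omega), pow_succ']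
        ring
    have h2 := mul_invOfUnit (1 - C u * X : PowerSeries K) 1 (by simp)
    calc (1 - C u * X : PowerSeries K).invOfUnit 1
        = (1 - C u * X : PowerSeries K).invOfUnit 1 * ((1 - C u * X) * PowerSeries.mk fun n => u ^ n) := by
          rw [h1, mul_one]
      _ = ((1 - C u * X) * (1 - C u * X : PowerSeries K).invOfUnit 1) * PowerSeries.mk fun n => u ^ n := by ring
      _ = _ := by rw [h2, one_mul]
  have hd : derivative K (1 - C u * X : PowerSeries K) = -C u := by
    simp [Derivation.leibniz, derivative_X, derivative_C]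
  rw [adams, adamsSeries, hl, hi, hd, hu.2, Int.cast_one, map_one, map_sub]
  rw [show X * -C u * PowerSeries.mk (fun n => u ^ n) = -(C u * (X * PowerSeries.mk fun n => u ^ n)) by ring,
    map_neg, sub_neg_eq_add, coeff_C_mul, coeff_one]
  rcases j with _ | j
  · simp
  · rw [coeff_succ_X_mul, coeff_mk, if_neg (by omega), zero_add, pow_succ']

lemma adams_lines (s : Multiset K) (hs : ∀ u ∈ s, P.IsLine u) (j : ℕ) :
    adams P j s.sum = (s.map (· ^ j)).sum := by
  change adamsAdd P j s.sum = _
  rw [map_multiset_sum]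
  exact congrArg Multiset.sum (Multiset.map_congr rfl fun u hu => adams_line P (hs u hu) j)

lemma aug_lam_lines (s : Multiset K) (hs : ∀ u ∈ s, P.IsLine u) (i : ℕ) :
    P.aug (LambdaOps.lam i s.sum) = ((Multiset.card s).choose i : ℤ) := by
  induction s using Multiset.induction generalizing i with
  | empty => rw [Multiset.sum_zero, GammaV.lam_zero_elt]; rcases i with _ | i <;> simp
  | cons a s ih =>
    have ha := hs a (Multiset.mem_cons_self a s)
    have ih := ih (fun u hu => hs u (Multiset.mem_cons_of_mem hu))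
    have h := congrArg (coeff i) (lamSeries_add a s.sum)
    rw [lamSeries_line a (IsLine.lam_eq P ha), add_mul, one_mul, map_add, mul_assoc, coeff_C_mul] at h
    rw [Multiset.sum_cons, Multiset.card_cons]
    rcases i with _ | i
    · simp [LambdaOps.lam_zero]
    · rw [coeff_succ_X_mul] at h
      simp only [lamSeries, coeff_mk] at h
      rw [h, map_add, map_mul, ih, ih, ha.2, one_mul, Nat.choose_succ_succ]
      push_cast
      ring

variable {P}

lemma map_adams {K' : Type u} [CommRing K'] [LambdaOps K'] {P' : PosStructure K'} {f : K →+* K'}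
    (hf : IsExtension P P' f) (j : ℕ) (x : K) : f (adams P j x) = adams P' j (f x) := by
  have hl : ∀ z, PowerSeries.map f (rescale (-1 : K) (lamSeries z)) = rescale (-1 : K') (lamSeries (f z)) :=
    fun z => by
      ext n
      simp [lamSeries, coeff_rescale, hf.isLambdaHom n z]
  have hc : ∀ z, constantCoeff (rescale (-1 : K) (lamSeries z)) = ((1 : Kˣ) : K) := fun z => by
    rw [← coeff_zero_eq_constantCoeff_apply, coeff_rescale, lamSeries, coeff_mk, LambdaOps.lam_zero,
      pow_zero, one_mul, Units.val_one]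
  have hinv : PowerSeries.map f ((rescale (-1 : K) (lamSeries x)).invOfUnit 1) =
      (rescale (-1 : K') (lamSeries (f x))).invOfUnit 1 := by
    have h1 := congrArg (PowerSeries.map f) (mul_invOfUnit _ 1 (hc x))
    rw [map_mul, map_one, hl] at h1
    have h2 := mul_invOfUnit (rescale (-1 : K') (lamSeries (f x))) 1 (by
      rw [← coeff_zero_eq_constantCoeff_apply, coeff_rescale, lamSeries, coeff_mk, LambdaOps.lam_zero,
        pow_zero, one_mul, Units.val_one])
    exact (IsUnit.of_mul_eq_one _ h1).mul_left_cancel (h1.trans h2.symm)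
  have hd : ∀ g : PowerSeries K, PowerSeries.map f (derivative K g) = derivative K' (PowerSeries.map f g) :=
    fun g => by
      ext n
      simp [coeff_derivative]
  simp only [adams]
  rw [← PowerSeries.coeff_map, adamsSeries, adamsSeries, map_sub, map_mul, map_mul, hinv, hd, hl, map_C, map_X,
    map_intCast, hf.aug_comp]

lemma IsLine.map {K' : Type u} [CommRing K'] [LambdaOps K'] {P' : PosStructure K'} {f : K →+* K'}
    (hf : IsExtension P P' f) {u : K} (hu : P.IsLine u) : P'.IsLine (f u) :=
  ⟨hf.pos_subset u hu.1, by rw [hf.aug_comp, hu.2]⟩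

lemma IsExtension.trans {K' K'' : Type u} [CommRing K'] [LambdaOps K'] [CommRing K''] [LambdaOps K'']
    {P' : PosStructure K'} {P'' : PosStructure K''} {f : K →+* K'} {g : K' →+* K''}
    (hf : IsExtension P P' f) (hg : IsExtension P' P'' g) : IsExtension P P'' (g.comp f) where
  isLambdaHom i x := by rw [RingHom.comp_apply, hf.isLambdaHom, hg.isLambdaHom]; rfl
  injective := hg.injective.comp hf.injective
  aug_comp x := (hg.aug_comp _).trans (hf.aug_comp x)
  pos_subset e he := hg.pos_subset _ (hf.pos_subset e he)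

/-- Two positive elements split simultaneously. -/
lemma exists_split (hK : HasSplitting K P) {e e' : K} (he : e ∈ P.pos) (he' : e' ∈ P.pos) :
    ∃ (L : PosLambdaRing.{u}) (f : K →+* L.carrier), IsExtension P L.posStr f ∧
      ∃ s t : Multiset L.carrier, (∀ u ∈ s, L.posStr.IsLine u) ∧ (∀ u ∈ t, L.posStr.IsLine u) ∧
        s.sum = f e ∧ t.sum = f e' := by
  obtain ⟨C, hC, h⟩ := hK
  obtain ⟨L₁, hL₁, f, hf, s, hs, hse⟩ := h _ hC e he
  obtain ⟨L₂, -, g, hg, t, ht, hte⟩ := h L₁ hL₁ (f e') (hf.pos_subset e' he')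
  refine ⟨L₂, g.comp f, IsExtension.trans hf hg, s.map g, t, fun u hu => ?_, ht, ?_, hte⟩
  · obtain ⟨v, hv, rfl⟩ := Multiset.mem_map.1 hu
    exact IsLine.map hg (hs v hv)
  · rw [RingHom.comp_apply, ← hse, map_multiset_sum]

lemma adams_mul_pos (hK : HasSplitting K P) (j : ℕ) {e e' : K} (he : e ∈ P.pos) (he' : e' ∈ P.pos) :
    adams P j (e * e') = adams P j e * adams P j e' := by
  obtain ⟨L, f, hf, s, t, hs, ht, hse, hte⟩ := exists_split hK he he'
  apply hf.injective
  rw [map_mul, map_adams hf, map_adams hf, map_adams hf, map_mul, ← hse, ← hte]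
  have hprod : ∀ (s t : Multiset L.carrier), ((s ×ˢ t).map fun p => p.1 * p.2).sum = s.sum * t.sum := by
    intro s t
    induction s using Multiset.induction with
    | empty => simp
    | cons a s ih =>
      rw [Multiset.cons_product, Multiset.map_add, Multiset.sum_add, ih, Multiset.sum_cons, add_mul, Multiset.map_map]
      simp only [Function.comp_def]
      rw [Multiset.sum_map_mul_left, Multiset.map_id']
  have hst := hprod s t
  rw [← hst, adams_lines _ _ (fun u hu => by
      obtain ⟨p, hp, rfl⟩ := Multiset.mem_map.1 hu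
      exact IsLine.mul _ (hs _ (Multiset.mem_product.1 hp).1) (ht _ (Multiset.mem_product.1 hp).2)),
    adams_lines _ s hs, adams_lines _ t ht, Multiset.map_map]
  clear hse hte hst
  induction s using Multiset.induction with
  | empty => simp
  | cons a s ih =>
    rw [Multiset.cons_product, Multiset.map_add, Multiset.sum_add, ih fun u hu => hs u (Multiset.mem_cons_of_mem hu),
      Multiset.map_cons, Multiset.sum_cons, add_mul, Multiset.map_map]
    simp [Function.comp_def, Multiset.sum_map_mul_left, mul_pow]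

lemma adams_mul (hK : HasSplitting K P) (j : ℕ) (x y : K) :
    adams P j (x * y) = adams P j x * adams P j y := by
  obtain ⟨a, b, ha, hb, rfl⟩ := P.exists_sub x
  obtain ⟨c, d, hc, hd, rfl⟩ := P.exists_sub y
  rw [show (a - b) * (c - d) = a * c - a * d - (b * c - b * d) by ring]
  change adamsAdd P j _ = adamsAdd P j _ * adamsAdd P j _
  simp only [map_sub]
  change adams P j (a * c) - adams P j (a * d) - (adams P j (b * c) - adams P j (b * d)) =
    (adams P j a - adams P j b) * (adams P j c - adams P j d)
  rw [adams_mul_pos hK j ha hc, adams_mul_pos hK j ha hd, adams_mul_pos hK j hb hc, adams_mul_pos hK j hb hd]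
  ring

/-- `ψ^j` as a ring map. -/
noncomputable def adamsRingHom (hK : HasSplitting K P) (j : ℕ) : K →+* K :=
  { adamsAdd P j with
    map_one' := by
      show adams P j 1 = 1
      rw [adams_line P (isLine_one P), one_pow]
    map_mul' := adams_mul hK j }

lemma adams_adams (hK : HasSplitting K P) (i j : ℕ) (x : K) :
    adams P i (adams P j x) = adams P (i * j) x := by
  suffices H : ∀ e ∈ P.pos, adams P i (adams P j e) = adams P (i * j) e by
    obtain ⟨a, b, ha, hb, rfl⟩ := P.exists_sub x
    change adamsAdd P i (adamsAdd P j (a - b)) = adamsAdd P (i * j) (a - b)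
    simp only [map_sub]
    exact congrArg₂ (· - ·) (H a ha) (H b hb)
  intro e he
  obtain ⟨L, f, hf, s, -, hs, -, hse, -⟩ := exists_split hK he he
  apply hf.injective
  rw [map_adams hf, map_adams hf, map_adams hf, ← hse, adams_lines _ s hs, adams_lines _ s hs,
    adams_lines _ _ (fun u hu => by
      obtain ⟨v, hv, rfl⟩ := Multiset.mem_map.1 hu
      exact IsLine.pow _ (hs v hv) j), Multiset.map_map]
  exact congrArg Multiset.sum (Multiset.map_congr rfl fun u _ => by simp [← pow_mul, mul_comm j i])

lemma aug_lam (hK : HasSplitting K P) {e : K} (he : e ∈ P.pos) (i : ℕ) :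
    P.aug (LambdaOps.lam i e) = ((P.aug e).toNat.choose i : ℤ) := by
  obtain ⟨L, f, hf, s, -, hs, -, hse, -⟩ := exists_split hK he he
  have hcard : L.posStr.aug s.sum = (Multiset.card s : ℤ) := by
    rw [map_multiset_sum, Multiset.map_congr rfl (g := fun _ => (1 : ℤ)) fun u hu => (hs u hu).2]
    simp
  rw [← hf.aug_comp, hf.isLambdaHom, ← hse, aug_lam_lines _ s hs, ← hf.aug_comp e, ← hse, hcard, Int.toNat_natCast]

lemma mul_mem_filtration (m n : ℕ) (x y : K) (hx : x ∈ gammaFiltration P m) (hy : y ∈ gammaFiltration P n)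
    (hsmul : ∀ (n : ℕ) (a x : K), x ∈ gammaFiltration P n → a * x ∈ gammaFiltration P n) :
    x * y ∈ gammaFiltration P (m + n) := by
  rcases Nat.eq_zero_or_pos m with rfl | hm
  · rw [zero_add]; exact hsmul n x y hy
  rcases Nat.eq_zero_or_pos n with rfl | hn
  · rw [add_zero, mul_comm]; exact hsmul m y x hx
  rw [gammaFiltration, if_neg (by omega)] at hx hy ⊢
  induction hx using AddSubgroup.closure_induction with
  | mem a ha =>
    induction hy using AddSubgroup.closure_induction with
    | mem b hb =>
      obtain ⟨l, h1, h2, rfl⟩ := ha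
      obtain ⟨l', h1', h2', rfl⟩ := hb
      refine AddSubgroup.subset_closure ⟨l ++ l', fun p hp => ?_, ?_, by simp⟩
      · rcases List.mem_append.1 hp with hp | hp
        exacts [h1 p hp, h1' p hp]
      · rw [List.map_append, List.sum_append]; omega
    | zero => rw [mul_zero]; exact zero_mem _
    | add p q _ _ hp hq => rw [mul_add]; exact add_mem hp hq
    | neg p _ hp => rw [mul_neg]; exact neg_mem hp
  | zero => rw [zero_mul]; exact zero_mem _
  | add p q _ _ hp hq => rw [add_mul]; exact add_mem hp hq
  | neg p _ hp => rw [neg_mul]; exact neg_mem hp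

lemma smul_mem_filtration (n : ℕ) (a x : K) (hx : x ∈ gammaFiltration P n) :
    a * x ∈ gammaFiltration P n := by
  rcases Nat.eq_zero_or_pos n with rfl | hn
  · rw [gammaFiltration, if_pos rfl]; exact AddSubgroup.mem_top _
  rw [gammaFiltration, if_neg (by omega)] at hx ⊢
  induction hx using AddSubgroup.closure_induction with
  | mem y hy =>
    obtain ⟨l, h1, h2, rfl⟩ := hy
    rw [show a = (a - (P.aug a : K)) + (P.aug a : K) by ring, add_mul, ← zsmul_eq_mul]
    refine add_mem ?_ (zsmul_mem (AddSubgroup.subset_closure ?_) _)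
    swap
    · exact ⟨l, h1, h2, rfl⟩
    refine AddSubgroup.subset_closure ?_
    refine ⟨(1, a - (P.aug a : K)) :: l, fun p hp => ?_, ?_, ?_⟩
    · rcases List.mem_cons.1 hp with rfl | hp
      · simp
      · exact h1 p hp
    · simp only [List.map_cons, List.sum_cons]; omega
    · simp [GammaN.gamma_one]
  | zero => rw [mul_zero]; exact zero_mem _
  | add p q _ _ hp hq => rw [mul_add]; exact add_mem hp hq
  | neg p _ hp => rw [mul_neg]; exact neg_mem hp

end Pos

end Groth.Agent.H1Lam
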