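import Groth.Agent.Lib.H1LambdaBasic
import Groth.Prelude.Def_W4bkmilneecrracsp2Inv

/-! Positive structures with involution. -/

namespace Groth.Agent.H1Lam

open LambdaRing Finset Groth.Agent.GammaN

universe u

variable {K : Type u} [CommRing K] [LambdaOps K] {P : PosStructure K} {inv : K → K}

lemma inv_zero (hV : IsInvolution P inv) : inv 0 = 0 := by
  have := hV.map_add 0 0
  rw [add_zero] at this
  exact left_eq_add.mp this

lemma inv_sum (hV : IsInvolution P inv) (s : Multiset K) : inv s.sum = (s.map inv).sum := by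
  induction s using Multiset.induction with
  | empty => simp [inv_zero hV]
  | cons a s ih => simp [hV.map_add, ih]

lemma lam_add_line (a S : K) (ha : P.IsLine a) (i : ℕ) :
    LambdaOps.lam (i + 1) (a + S) = LambdaOps.lam (i + 1) S + a * LambdaOps.lam i S := by
  have h := congrArg (PowerSeries.coeff (i + 1)) (lamSeries_add a S)
  rw [lamSeries_line a (IsLine.lam_eq P ha), add_mul, one_mul, map_add, mul_assoc, PowerSeries.coeff_C_mul,
    PowerSeries.coeff_succ_X_mul] at h
  simpa [lamSeries] using h

lemma lam_lines_eq_zero (s : Multiset K) (hs : ∀ u ∈ s, P.IsLine u) (i : ℕ) (hi : Multiset.card s < i) :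
    LambdaOps.lam i s.sum = 0 := by
  induction s using Multiset.induction generalizing i with
  | empty => rw [Multiset.sum_zero, GammaV.lam_zero_elt, if_neg (by simp at hi; omega)]
  | cons a s ih =>
    have ih := ih fun u hu => hs u (Multiset.mem_cons_of_mem hu)
    rw [Multiset.card_cons] at hi
    obtain ⟨j, rfl⟩ : ∃ j, i = j + 1 := ⟨i - 1, by omega⟩
    rw [Multiset.sum_cons, lam_add_line a _ (hs a (Multiset.mem_cons_self a s)), ih _ (by omega), ih _ (by omega),
      mul_zero, add_zero]

lemma lam_lines_inv (hV : IsInvolution P inv) (s : Multiset K) (hs : ∀ u ∈ s, P.IsLine u) (i : ℕ)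
    (hi : i ≤ Multiset.card s) :
    LambdaOps.lam i s.sum =
      LambdaOps.lam (Multiset.card s - i) (inv s.sum) * LambdaOps.lam (Multiset.card s) s.sum := by
  induction s using Multiset.induction generalizing i with
  | empty =>
    obtain rfl : i = 0 := by simpa using hi
    simp [LambdaOps.lam_zero]
  | cons a s ih =>
    have ha := hs a (Multiset.mem_cons_self a s)
    have hs' : ∀ u ∈ s, P.IsLine u := fun u hu => hs u (Multiset.mem_cons_of_mem hu)
    have ih := ih hs'
    have hs'' : ∀ u ∈ s.map inv, P.IsLine u := fun u hu => by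
      obtain ⟨v, hv, rfl⟩ := Multiset.mem_map.1 hu
      exact hV.inv_line v (hs' v hv)
    have ha' := hV.inv_line a ha
    have haa := hV.inv_mul_self a ha
    set n := Multiset.card s
    have htop : LambdaOps.lam (n + 1) (a + s.sum) = a * LambdaOps.lam n s.sum := by
      rw [lam_add_line a _ ha, lam_lines_eq_zero s hs' _ (Nat.lt_succ_self n), zero_add]
    have htop' : LambdaOps.lam (n + 1) (inv a + inv s.sum) = inv a * LambdaOps.lam n (inv s.sum) := by
      rw [inv_sum hV, lam_add_line (inv a) _ ha', lam_lines_eq_zero (s.map inv) hs'' _ (by simp [n]), zero_add]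
    rw [Multiset.card_cons] at hi ⊢
    rw [Multiset.sum_cons, hV.map_add, htop]
    rcases i with _ | i
    · have h0 := ih 0 (Nat.zero_le _)
      rw [LambdaOps.lam_zero, Nat.sub_zero] at h0
      rw [LambdaOps.lam_zero, Nat.sub_zero, htop']
      linear_combination h0 - (LambdaOps.lam n (inv s.sum) * LambdaOps.lam n s.sum) * haa
    · rw [lam_add_line a _ ha, ih i (by omega)]
      rcases Nat.lt_or_ge i n with hin | hin
      · rw [ih (i + 1) (by omega), show n + 1 - (i + 1) = (n - (i + 1)) + 1 by omega, lam_add_line (inv a) _ ha',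
          show n - (i + 1) + 1 = n - i by omega]
        linear_combination -(LambdaOps.lam (n - (i + 1)) (inv s.sum) * LambdaOps.lam n s.sum) * haa
      · obtain rfl : i = n := by omega
        rw [lam_lines_eq_zero s hs' _ (Nat.lt_succ_self _), Nat.sub_self, Nat.sub_self, LambdaOps.lam_zero,
          LambdaOps.lam_zero]
        ring

lemma lam_inv_aux (hS : HasInvSplitting P inv) {e : K} (he : e ∈ P.pos) (i : ℕ) (hi : i ≤ (P.aug e).toNat) :
    LambdaOps.lam i e = LambdaOps.lam ((P.aug e).toNat - i) (inv e) * LambdaOps.lam (P.aug e).toNat e ∧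
    LambdaOps.lam i (inv e) = LambdaOps.lam ((P.aug e).toNat - i) e * LambdaOps.lam (P.aug e).toNat (inv e) ∧
    P.aug (LambdaOps.lam (P.aug e).toNat (inv e)) = 1 ∧
    ∀ j, (P.aug e).toNat < j → LambdaOps.lam j (inv e) = 0 := by
  obtain ⟨L, inv', f, hf, hV', hfi, s, hs, hse⟩ := hS e he
  have hn : (P.aug e).toNat = Multiset.card s := by
    rw [← hf.aug_comp e, ← hse, map_multiset_sum, Multiset.map_congr rfl (g := fun _ => (1 : ℤ)) fun u hu => (hs u hu).2]
    simp
  have hs' : ∀ u ∈ s.map inv', L.posStr.IsLine u := fun u hu => by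
    obtain ⟨v, hv, rfl⟩ := Multiset.mem_map.1 hu
    exact hV'.inv_line v (hs v hv)
  have hfi' : f (inv e) = (s.map inv').sum := by rw [hfi, ← hse, inv_sum hV']
  rw [hn] at hi ⊢
  refine ⟨?_, ?_, ?_, fun j hj => ?_⟩
  · apply hf.injective
    rw [map_mul, hf.isLambdaHom, hf.isLambdaHom, hf.isLambdaHom, hfi, ← hse]
    exact lam_lines_inv hV' s hs i hi
  · apply hf.injective
    rw [map_mul, hf.isLambdaHom, hf.isLambdaHom, hf.isLambdaHom, hfi']
    have h := lam_lines_inv hV' (s.map inv') hs' i (by simpa using hi)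
    rw [Multiset.card_map, inv_sum hV' (s.map inv'), Multiset.map_map,
      show inv' ∘ inv' = id from funext hV'.inv_inv, Multiset.map_id, hse] at h
    exact h
  · rw [← hf.aug_comp, hf.isLambdaHom, hfi', aug_lam_lines _ _ hs', Multiset.card_map, Nat.choose_self, Nat.cast_one]
  · apply hf.injective
    rw [hf.isLambdaHom, hfi', map_zero]
    exact lam_lines_eq_zero _ hs' j (by simpa using hj)

lemma gamma_top (h1 : ∀ k, 2 ≤ k → LambdaOps.lam k (1 : K) = 0) (x : K) (n : ℕ)
    (hx : ∀ k, n < k → LambdaOps.lam k x = 0) :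
    gamma n (x - (n : K)) = ∑ i ∈ range (n + 1), (-1) ^ (n - i) * LambdaOps.lam i x := by
  have h := congrArg (Polynomial.coeff · 0) (gamma_sub_natCast_poly h1 x n hx)
  simp only [Polynomial.finset_sum_coeff, Polynomial.coeff_C_mul, Polynomial.coeff_X_pow] at h
  rw [Finset.sum_eq_single n (fun i hi hne => by
      simp only [Finset.mem_range] at hi
      rw [if_neg (by omega), mul_zero]) (fun hh => absurd (Finset.mem_range.2 (Nat.lt_succ_self n)) hh),
    if_pos (by omega), mul_one] at h
  rw [h]
  exact Finset.sum_congr rfl fun i _ => by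
    rw [Polynomial.coeff_zero_eq_eval_zero]; simp [mul_comm]

end Groth.Agent.H1Lam
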