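import Groth.Agent.Lib.H5TwoTerm

universe u

namespace Groth.Agent.H5Amp
open CategoryTheory Limits Category Pretriangulated HomologicalComplex
open Groth.Agent Groth.Agent.H5TwoTerm

attribute [local instance] HasDerivedCategory.standard

variable {R : Type u} [CommRing R]

/-- bounded complexes of projectives -/
def Proj (P : DRing.Cx R) (a b : ℤ) : Prop := DRing.VanishesOutside P a b ∧ ∀ i, Module.Projective R (P.X i)

lemma Proj.kproj {P : DRing.Cx R} {a b : ℤ} (h : Proj P a b) : CochainComplex.IsKProjective P := by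
  have : ∀ m, Projective (P.X m) := fun m => by
    have := h.2 m
    exact ModuleCat.projective_of_categoryTheory_projective _
  have : P.IsStrictlyLE b := (CochainComplex.isStrictlyLE_iff _ _).2 fun i hi => h.1 i (Or.inr hi)
  exact CochainComplex.isKProjective_of_projective P b

lemma isLE_of_H {L : Dual.D R} {n : ℤ} (h : ∀ i, n < i → Subsingleton (Dual.HD R L i)) :
    DerivedCategory.IsLE L n :=
  (DerivedCategory.isLE_iff _ _).2 fun i hi => by
    have := h i hi
    exact ModuleCat.isZero_of_subsingleton _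

lemma H_of_isLE {L : Dual.D R} {n : ℤ} [DerivedCategory.IsLE L n] (i : ℤ) (hi : n < i) :
    Subsingleton (Dual.HD R L i) :=
  ModuleCat.subsingleton_of_isZero (DerivedCategory.isZero_of_isLE L n i hi)

/-- projectives in degrees `≥ a` have no maps to `< a` -/
lemma Proj.hom_eq_zero {P : DRing.Cx R} {a b : ℤ} (h : Proj P a b) {L : Dual.D R}
    [DerivedCategory.IsLE L (a - 1)] (x : DerivedCategory.Q.obj P ⟶ L) : x = 0 := by
  obtain ⟨L', hL', ⟨e⟩⟩ := DerivedCategory.exists_iso_Q_obj_of_isLE L (a - 1)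
  have := h.kproj
  obtain ⟨f, hf⟩ := H5DTen.surj_of_kproj (K := P) (x ≫ e.hom)
  have : f = 0 := HomologicalComplex.hom_ext _ _ fun i => by
    by_cases hi : i < a
    · exact (h.1 i (Or.inl hi)).eq_of_src _ _
    · exact (L'.isZero_of_isStrictlyLE (a - 1) i (by omega)).eq_of_tgt _ _
  rw [this, Functor.map_zero] at hf
  exact (cancel_mono e.hom).1 (hf.symm.trans zero_comp.symm)

lemma Proj.isLE {P : DRing.Cx R} {a b : ℤ} (h : Proj P a b) : DerivedCategory.IsLE (DerivedCategory.Q.obj P) b := by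
  have : P.IsStrictlyLE b := (CochainComplex.isStrictlyLE_iff _ _).2 fun i hi => h.1 i (Or.inr hi)
  infer_instance

lemma isLE_inD_shift (N : ModuleCat.{u} R) (i : ℤ) :
    DerivedCategory.IsLE (((sgF R).obj N)⟦i⟧) (-i) :=
  DerivedCategory.TStructure.t.isLE_shift _ 0 i (-i) (by omega)

lemma isGE_inD_shift (N : ModuleCat.{u} R) (i : ℤ) :
    DerivedCategory.IsGE (((sgF R).obj N)⟦i⟧) (-i) :=
  DerivedCategory.TStructure.t.isGE_shift _ 0 i (-i) (by omega)

/-- maps into shifts of injectives see cohomology -/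
lemma subsingleton_H_of_inj (K : Dual.D R) (n : ℤ)
    (h : ∀ J : ModuleCat.{u} R, Injective J → ∀ x : K ⟶ ((sgF R).obj J)⟦-n⟧, x = 0) :
    Subsingleton (Dual.HD R K n) := by
  let X := DerivedCategory.Q.objPreimage (K⟦n⟧)
  let e : DerivedCategory.Q.obj X ≅ K⟦n⟧ := DerivedCategory.Q.objObjPreimageIso _
  suffices hX : IsZero (X.homology 0) from ModuleCat.subsingleton_of_isZero (hX.of_iso
    ((((hF R 0).shiftIso n 0 n (by omega)).app K).symm ≪≫ (hF R 0).mapIso e.symm ≪≫
      (DerivedCategory.homologyFunctorFactors (ModuleCat.{u} R) 0).app X))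
  let J := Injective.under (X.homology 0)
  let g := Injective.ι (X.homology 0)
  let k := X.pOpcycles 0 ≫ Injective.factorThru g (X.homologyι 0)
  let f : X ⟶ (single (ModuleCat.{u} R) (ComplexShape.up ℤ) 0).obj J :=
    mkHomToSingle k (fun i _ => by simp [k])
  have hf : DerivedCategory.Q.map f = 0 := by
    let x : DerivedCategory.Q.obj X ⟶ (sgF R).obj J := DerivedCategory.Q.map f
    change x = 0
    rw [← cancel_epi e.inv, comp_zero]
    generalize e.inv ≫ x = y
    apply (shiftFunctor (Dual.D R) (-n)).map_injective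
    rw [← cancel_epi ((shiftFunctorCompIsoId (Dual.D R) n (-n) (by omega)).inv.app K), Functor.map_zero, comp_zero]
    exact h J inferInstance _
  have h0 : homologyMap f 0 = 0 := by
    have := (DerivedCategory.homologyFunctorFactors (ModuleCat.{u} R) 0).hom.naturality f
    simp only [Functor.comp_map, hf, Functor.map_zero, zero_comp] at this
    exact (cancel_epi ((DerivedCategory.homologyFunctorFactors (ModuleCat.{u} R) 0).hom.app X)).1
      (this.symm.trans comp_zero.symm)
  have hop : opcyclesMap f 0 = Injective.factorThru g (X.homologyι 0) ≫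
      (singleObjOpcyclesSelfIso (ComplexShape.up ℤ) 0 J).hom := by
    rw [← cancel_epi (X.pOpcycles 0), p_opcyclesMap, ← assoc]
    change _ = k ≫ _
    simp [f, singleObjOpcyclesSelfIso_hom]
  have h1 := homologyι_naturality f 0
  rw [h0, zero_comp, hop, Injective.comp_factorThru_assoc] at h1
  have hg : g = 0 := by
    rw [← cancel_mono (singleObjOpcyclesSelfIso (ComplexShape.up ℤ) 0 J).hom, zero_comp]
    exact h1.symm
  exact IsZero.of_mono_eq_zero g hg

/-- existence of projective amplitude -/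
theorem exists_proj (a : ℤ) : ∀ (n : ℕ) (b : ℤ), b - a ≤ n → ∀ K : Dual.D R,
    (∀ i : ℤ, (i < a - 1 ∨ b < i) → Subsingleton (Dual.HD R K i)) →
    (∀ (N : ModuleCat.{u} R) (x : K ⟶ ((sgF R).obj N)⟦-a + 1⟧), x = 0) →
    ∃ P, Proj P a b ∧ Nonempty (DerivedCategory.Q.obj P ≅ K) := by
  intro n
  induction n with
  | zero =>
    intro b hb K hH hE
    have h2 : Two (K⟦a⟧) := fun i h1 h0 => by
      have : Subsingleton (((hF R 0).shift (a + i)).obj K) := hH (a + i) (by omega)
      exact ((((hF R 0).shiftIso a i (a + i) (by omega)).app K).toLinearEquiv).toEquiv.subsingleton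
    have he := (ext_one_iff h2).2 (fun M _ _ => ⟨fun x y => sub_eq_zero.1 (by
      generalize x - y = z
      apply (shiftFunctor (Dual.D R) (-a)).map_injective
      rw [← cancel_epi ((shiftFunctorCompIsoId (Dual.D R) a (-a) (by omega)).inv.app K), Functor.map_zero, comp_zero]
      exact (cancel_mono ((shiftFunctorAdd' (Dual.D R) (1 : ℤ) (-a) (-a + 1) (by omega)).inv.app _)).1
        ((hE (ModuleCat.of R M) _).trans zero_comp.symm))⟩)
    have hle : DerivedCategory.IsLE (K⟦a⟧) 0 := h2.isLE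
    have hge : DerivedCategory.IsGE (K⟦a⟧) 0 := (DerivedCategory.isGE_iff _ _).2 fun i hi => by
      by_cases h : i = -1
      · subst h; have := he.1; exact ModuleCat.isZero_of_subsingleton _
      · exact h2.isZero i h (by omega)
    obtain ⟨M, ⟨e⟩⟩ := DerivedCategory.exists_iso_singleFunctor_obj_of_isGE_of_isLE (K⟦a⟧) 0
    have hM : Module.Projective R M := by
      have := he.2
      exact Module.Projective.of_equiv
        ((hF R 0).mapIso e ≪≫ H5DComp.cIso.app M).toLinearEquiv
    let S := (single (ModuleCat.{u} R) (ComplexShape.up ℤ) a).obj M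
    let eS : DerivedCategory.Q.obj S ≅ K :=
      ((DerivedCategory.singleFunctorIsoCompQ (ModuleCat.{u} R) a).app M).symm ≪≫
        (((DerivedCategory.singleFunctors (ModuleCat.{u} R)).shiftIso (-a) a 0 (by omega)).app M).symm ≪≫
        (shiftFunctor (Dual.D R) (-a)).mapIso e.symm ≪≫ (shiftFunctorCompIsoId (Dual.D R) a (-a) (by omega)).app K
    refine ⟨S, ⟨fun i hi => ?_, fun i => ?_⟩, ⟨eS⟩⟩
    · by_cases hia : i = a
      · rw [hia]
        have hb0 : Subsingleton (((hF R 0).shift a).obj K) := hH a (Or.inr (by omega))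
        have : Subsingleton ((hF R 0).obj (K⟦a⟧)) :=
          (((hF R 0).shiftIso a 0 a (by omega)).app K).toLinearEquiv.toEquiv.subsingleton
        have : Subsingleton M := ((hF R 0).mapIso e ≪≫ H5DComp.cIso.app M).toLinearEquiv.symm.toEquiv.subsingleton
        exact (ModuleCat.isZero_of_subsingleton M).of_iso (singleObjXSelf (ComplexShape.up ℤ) a M)
      · exact isZero_single_obj_X _ _ _ _ hia
    · by_cases hia : i = a
      · rw [hia]; exact Module.Projective.of_equiv (singleObjXSelf (ComplexShape.up ℤ) a M).toLinearEquiv.symm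
      · have := ModuleCat.subsingleton_of_isZero (isZero_single_obj_X (ComplexShape.up ℤ) a M i hia)
        infer_instance
  | succ n ih =>
    intro b hb K hH hE
    by_cases hab : b - a ≤ n
    · exact ih b hab K hH hE
    let X := DerivedCategory.Q.objPreimage K
    let eX : DerivedCategory.Q.obj X ≅ K := DerivedCategory.Q.objObjPreimageIso _
    let Cy : ModuleCat.{u} R := X.cycles b
    let F : ModuleCat.{u} R := ModuleCat.of R (Cy →₀ R)
    let p : F ⟶ X.cycles b := ModuleCat.ofHom (Finsupp.linearCombination R (id : Cy → Cy))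
    have : Epi p := (ModuleCat.epi_iff_surjective _).2 fun (x : Cy) =>
      ⟨Finsupp.single x 1, (Finsupp.linearCombination_single (M := Cy) (v := id) R 1 x).trans (one_smul R (x : Cy))⟩
    have hFp : Module.Projective R F := inferInstanceAs (Module.Projective R (Cy →₀ R))
    let S := (single (ModuleCat.{u} R) (ComplexShape.up ℤ) b).obj F
    have hS : Proj S b b := ⟨fun i hi => isZero_single_obj_X _ _ _ _ (by omega), fun i => by
      by_cases hib : i = b
      · rw [hib]; exact Module.Projective.of_equiv (singleObjXSelf (ComplexShape.up ℤ) b F).toLinearEquiv.symm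
      · have := ModuleCat.subsingleton_of_isZero (isZero_single_obj_X (ComplexShape.up ℤ) b F i hib)
        infer_instance⟩
    let f : S ⟶ X := mkHomFromSingle (p ≫ X.iCycles b) (fun j _ => by rw [assoc, iCycles_d, comp_zero])
    have hepi : Epi ((hF R b).map (DerivedCategory.Q.map f)) := by
      have h3 : cyclesMap f b = (singleObjCyclesSelfIso (ComplexShape.up ℤ) b _).hom ≫ p := by
        rw [← cancel_mono (X.iCycles b), cyclesMap_i, assoc]
        simp [f, mkHomFromSingle_f, singleObjCyclesSelfIso_hom]; rfl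
      have h4 := homologyπ_naturality f b
      have : Epi (S.homologyπ b ≫ homologyMap f b) := by rw [h4, h3]; infer_instance
      have : Epi (homologyMap f b) := epi_of_epi (S.homologyπ b) _
      exact (MorphismProperty.epimorphisms (ModuleCat.{u} R)).arrow_mk_iso_iff
        (((Functor.mapArrowFunctor _ _).mapIso (DerivedCategory.homologyFunctorFactors (ModuleCat.{u} R) b)).app
          (Arrow.mk f)) |>.2 this
    let Z := CochainComplex.mappingCone f
    let T := DerivedCategory.Q.mapTriangle.obj (CochainComplex.mappingCone.triangle f)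
    have hT : T ∈ distinguishedTriangles := (DerivedCategory.mem_distTriang_iff _).2 ⟨_, _, f, ⟨Iso.refl _⟩⟩
    have hX0 : ∀ i : ℤ, (i < a - 1 ∨ b < i) → IsZero ((hF R i).obj (DerivedCategory.Q.obj X)) := fun i hi => by
      have := hH i hi
      exact (ModuleCat.isZero_of_subsingleton _).of_iso ((hF R i).mapIso eX)
    have hS0 : ∀ i : ℤ, i ≠ b → IsZero ((hF R i).obj (DerivedCategory.Q.obj S)) := fun i hi =>
      (isZero_single_obj_homology _ _ _ _ hi).of_iso
        ((DerivedCategory.homologyFunctorFactors (ModuleCat.{u} R) i).app S)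
    have hHZ : ∀ i : ℤ, (i < a - 1 ∨ b - 1 < i) → Subsingleton (Dual.HD R (DerivedCategory.Q.obj Z) i) := fun i hi => by
      refine ModuleCat.subsingleton_of_isZero ((DerivedCategory.HomologySequence.exact₃ T hT i (i + 1)).isZero_X₂ ?_ ?_)
      · by_cases hib : i = b
        · subst hib
          exact (DerivedCategory.HomologySequence.epi_homologyMap_mor₁_iff T hT i).1 hepi
        · exact (hX0 i (by omega)).eq_of_src _ _
      · exact (hS0 (i + 1) (by omega)).eq_of_tgt _ _
    have hEZ : ∀ (N : ModuleCat.{u} R) (x : DerivedCategory.Q.obj Z ⟶ ((sgF R).obj N)⟦-a + 1⟧), x = 0 := by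
      intro N (x : T.obj₃ ⟶ ((sgF R).obj N)⟦-a + 1⟧)
      have aux : ∀ u : DerivedCategory.Q.obj X ⟶ ((sgF R).obj N)⟦-a + 1⟧, u = 0 := fun u =>
        (cancel_epi eX.inv).1 ((hE N _).trans comp_zero.symm)
      have h0 : T.mor₂ ≫ x = 0 := aux _
      obtain ⟨w, rfl⟩ := Triangle.yoneda_exact₃ T hT x h0
      obtain ⟨w', hw'⟩ : ∃ w' : DerivedCategory.Q.obj S ⟶ ((sgF R).obj N)⟦-a⟧,
          w'⟦(1 : ℤ)⟧' = w ≫ ((shiftFunctorAdd' (Dual.D R) (-a) 1 (-a + 1) rfl).hom.app _) :=
        (shiftFunctor (Dual.D R) (1 : ℤ)).map_surjective _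
      have := isLE_inD_shift N (-a)
      have : DerivedCategory.IsLE (((sgF R).obj N)⟦-a⟧) (b - 1) :=
        DerivedCategory.TStructure.t.isLE_of_le _ (- -a) (b - 1) (by omega)
      rw [hS.hom_eq_zero w', Functor.map_zero] at hw'
      rw [show w = 0 from (cancel_mono ((shiftFunctorAdd' (Dual.D R) (-a) 1 (-a + 1) rfl).hom.app _)).1
        (hw'.symm.trans zero_comp.symm)]
      exact comp_zero
    obtain ⟨P', hP', ⟨e'⟩⟩ := ih (b - 1) (by omega) _ hHZ hEZ
    have := hP'.kproj
    let t3 : DerivedCategory.Q.obj Z ⟶ (DerivedCategory.Q.obj S)⟦(1 : ℤ)⟧ := T.mor₃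
    obtain ⟨g, hg⟩ := H5DTen.surj_of_kproj (K := P')
      (e'.hom ≫ t3 ≫ (DerivedCategory.Q.commShiftIso (1 : ℤ)).inv.app S)
    let C := (CochainComplex.mappingCone g)⟦(-1 : ℤ)⟧
    let T' := DerivedCategory.Q.mapTriangle.obj (CochainComplex.mappingCone.triangle g)
    have hT' : T' ∈ distinguishedTriangles := (DerivedCategory.mem_distTriang_iff _).2 ⟨_, _, g, ⟨Iso.refl _⟩⟩
    let eT := isoTriangleOfIso₁₂ T' T.rotate.rotate hT' (rot_of_distTriang _ (rot_of_distTriang _ hT))
      e' ((DerivedCategory.Q.commShiftIso (1 : ℤ)).app S) (by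
        change DerivedCategory.Q.map g ≫ (DerivedCategory.Q.commShiftIso (1 : ℤ)).hom.app S = e'.hom ≫ t3
        rw [hg, assoc, assoc]
        exact congrArg (fun t => e'.hom ≫ t) ((congrArg (fun t => t3 ≫ t)
          (Iso.inv_hom_id_app (DerivedCategory.Q.commShiftIso (1 : ℤ)) S)).trans (comp_id _)))
    let eC : DerivedCategory.Q.obj C ≅ DerivedCategory.Q.obj X :=
      (DerivedCategory.Q.commShiftIso (-1 : ℤ)).app _ ≪≫ (shiftFunctor (Dual.D R) (-1 : ℤ)).mapIso (Triangle.π₃.mapIso eT) ≪≫
        (shiftFunctorCompIsoId (Dual.D R) (1 : ℤ) (-1) (by omega)).app _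
    refine ⟨C, ⟨fun i hi => ?_, fun i => ?_⟩, ⟨eC ≪≫ eX⟩⟩
    · refine (IsZero.iff_id_eq_zero _).2 (CochainComplex.mappingCone.ext_from g (i + -1 + 1) (i + -1) rfl ?_ ?_)
      · exact (hP'.1 _ (by omega)).eq_of_src _ _
      · exact (hS.1 (i + -1 + 1) (by omega)).eq_of_src _ _
    · have : Projective (P'.X (i + -1 + 1)) := by
        have := hP'.2 (i + -1 + 1); exact ModuleCat.projective_of_categoryTheory_projective _
      have : Projective (S.X (i + -1 + 1)) := by
        have := hS.2 (i + -1 + 1); exact ModuleCat.projective_of_categoryTheory_projective _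
      have : Projective ((S⟦(1 : ℤ)⟧).X (i + -1)) := this
      have hp : Projective ((CochainComplex.mappingCone g).X (i + -1)) :=
        Projective.of_iso (homotopyCofiber.XIsoBiprod g (i + -1) (i + -1 + 1) rfl).symm inferInstance
      exact (IsProjective.iff_projective _).2 hp

theorem amplitude_tfae (K : Dual.D R) (a b : ℤ) :
    [∃ P : DRing.Cx R, DRing.VanishesOutside P a b ∧ (∀ i : ℤ, Module.Projective R (P.X i)) ∧
        Nonempty (DRing.toD P ≅ K),
      ∀ (N : Type u) [AddCommGroup N] [Module R N] (i : ℤ), (i < -b ∨ -a < i) →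
        Subsingleton (DRing.ExtD R K (Dual.inD R N) i),
      (∀ n : ℤ, b < n → Subsingleton (Dual.HD R K n)) ∧
        ∀ (N : Type u) [AddCommGroup N] [Module R N] (i : ℤ), -a < i → Subsingleton (DRing.ExtD R K (Dual.inD R N) i),
      (∀ n : ℤ, (n < a - 1 ∨ b < n) → Subsingleton (Dual.HD R K n)) ∧
        ∀ (N : Type u) [AddCommGroup N] [Module R N], Subsingleton (DRing.ExtD R K (Dual.inD R N) (-a + 1))].TFAE := by
  tfae_have 1 → 2 := by
    rintro ⟨P, hP, hPp, ⟨e⟩⟩ N _ _ i hi
    have hP' : Proj P a b := ⟨hP, hPp⟩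
    have := isLE_inD_shift (ModuleCat.of R N) i
    have := isGE_inD_shift (ModuleCat.of R N) i
    refine ⟨fun x y => (cancel_epi e.hom).1 (sub_eq_zero.1 ?_)⟩
    generalize e.hom ≫ x - e.hom ≫ y = z
    rcases hi with hi | hi
    · have := hP'.isLE
      exact DerivedCategory.TStructure.t.zero (X := DerivedCategory.Q.obj P) z b (-i)
    · have : DerivedCategory.IsLE (((sgF R).obj (ModuleCat.of R N))⟦i⟧) (a - 1) :=
        DerivedCategory.TStructure.t.isLE_of_le _ (-i) (a - 1) (by omega)
      exact hP'.hom_eq_zero (L := ((sgF R).obj (ModuleCat.of R N))⟦i⟧) z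
  tfae_have 2 → 3 := fun h => ⟨fun n hn => subsingleton_H_of_inj K n fun J _ x =>
    (h J (-n) (by omega)).elim x 0, fun N _ _ i hi => h N i (Or.inr hi)⟩
  tfae_have 3 → 4 := fun ⟨h1, h2⟩ => ⟨fun n hn => hn.elim (fun hn => subsingleton_H_of_inj K n fun J _ x =>
    (h2 J (-n) (by omega)).elim x 0) (h1 n), fun N _ _ => h2 N (-a + 1) (by omega)⟩
  tfae_have 4 → 1 := fun ⟨h1, h2⟩ => by
    obtain ⟨P, ⟨hP, hPp⟩, he⟩ := exists_proj a (b - a).toNat b (by omega) K h1 (fun N x => (h2 N).elim x 0)
    exact ⟨P, hP, hPp, he⟩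
  tfae_finish

theorem maps_zero_and_split (a b : ℤ) (L : Dual.D R)
    (hL : ∃ P : DRing.Cx R, DRing.VanishesOutside P a b ∧ (∀ i : ℤ, Module.Projective R (P.X i)) ∧
      Nonempty (DRing.toD P ≅ L)) (K : Dual.D R) :
    ((∀ i : ℤ, a ≤ i → Subsingleton (Dual.HD R K i)) → Subsingleton (L ⟶ K)) ∧
      ((∀ i : ℤ, a + 1 ≤ i → Subsingleton (Dual.HD R K i)) → ∀ (T : Triangle (Dual.D R)), T ∈ distinguishedTriangles →
        T.obj₁ = K → T.obj₃ = L → ∀ [HasBinaryBiproduct T.obj₁ T.obj₃],
          ∃ e : T.obj₂ ≅ T.obj₁ ⊞ T.obj₃, T.mor₁ ≫ e.hom = biprod.inl ∧ e.hom ≫ biprod.snd = T.mor₂) := by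
  obtain ⟨P, hP, hPp, ⟨e⟩⟩ := hL
  have hP' : Proj P a b := ⟨hP, hPp⟩
  have key : ∀ (K : Dual.D R), DerivedCategory.IsLE K (a - 1) → ∀ x : L ⟶ K, x = 0 := fun K _ x => by
    rw [← cancel_epi e.hom, comp_zero]; exact hP'.hom_eq_zero _
  refine ⟨fun h => ⟨fun x y => ?_⟩, fun h T hT hT1 hT3 _ => ?_⟩
  · have := isLE_of_H (n := a - 1) (fun i hi => h i (by omega))
    rw [key K this x, key K this y]
  · subst hT1 hT3
    have := isLE_of_H (n := a) (fun i hi => h i (by omega))
    have hz : T.mor₃ = 0 := key _ (DerivedCategory.TStructure.t.isLE_shift T.obj₁ a 1 (a - 1) (by omega)) _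
    obtain ⟨e, h1, h2⟩ := exists_iso_binaryBiproduct_of_distTriang T hT hz
    exact ⟨e, h1, h2.symm⟩

end Groth.Agent.H5Amp
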