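import Groth.Agent.Lib.H5KFlatApps
import Groth.Prelude.Def_DTen3

universe w v₁ v₂ v₃ u₁ u₂ u₃ v u

namespace Groth.Agent.H5DTen
open CategoryTheory Limits Category MonoidalCategory
open Groth.Agent

section generic

variable {C : Type u₁} [Category.{v₁} C] {D : Type u₂} [Category.{v₂} D]
  {H : Type u₃} [Category.{v₃} H]

/-- A class of objects `P` computing left derived functors along `L`. -/
structure LResolving (L : C ⥤ D) (P : ObjectProperty C) : Prop where
  surj : ∀ (I X : C), P I → ∀ (φ : L.obj I ⟶ L.obj X), ∃ f : I ⟶ X, L.map f = φ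
  ess : ∀ Y : D, ∃ I : C, P I ∧ Nonempty (L.obj I ≅ Y)

/-- `F` only depends on `L` on maps out of objects satisfying `P`. -/
def LCompat (L : C ⥤ D) (P : ObjectProperty C) (F : C ⥤ H) : Prop :=
  ∀ (I X : C), P I → ∀ (f g : I ⟶ X), L.map f = L.map g → F.map f = F.map g

namespace LResolving

variable {L : C ⥤ D} {P : ObjectProperty C} (hR : LResolving L P)
  {F : C ⥤ H} (hF : LCompat L P F)

noncomputable def res (Y : D) : C := (hR.ess Y).choose

lemma res_mem (Y : D) : P (hR.res Y) := (hR.ess Y).choose_spec.1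

noncomputable def resIso (Y : D) : L.obj (hR.res Y) ≅ Y := (hR.ess Y).choose_spec.2.some

noncomputable def lift {I X : C} (hI : P I) (φ : L.obj I ⟶ L.obj X) : I ⟶ X :=
  (hR.surj I X hI φ).choose

@[simp]
lemma map_lift {I X : C} (hI : P I) (φ : L.obj I ⟶ L.obj X) : L.map (hR.lift hI φ) = φ :=
  (hR.surj I X hI φ).choose_spec

include hF in
lemma map_eq {I X : C} (hI : P I) {f g : I ⟶ X} (h : L.map f = L.map g) : F.map f = F.map g :=
  hF I X hI f g h

noncomputable def mapRes {Y Y' : D} (h : Y ⟶ Y') : hR.res Y ⟶ hR.res Y' :=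
  hR.lift (hR.res_mem Y) ((hR.resIso Y).hom ≫ h ≫ (hR.resIso Y').inv)

/-- the derived functor -/
noncomputable def LF : D ⥤ H where
  obj Y := F.obj (hR.res Y)
  map h := F.map (hR.mapRes h)
  map_id Y := (map_eq hF (hR.res_mem Y) (by simp [mapRes])).trans (F.map_id _)
  map_comp h h' := (map_eq hF (hR.res_mem _) (by simp [mapRes])).trans (F.map_comp _ _)

/-- the counit -/
noncomputable def counit : L ⋙ hR.LF hF ⟶ F where
  app X := F.map (hR.lift (hR.res_mem _) (hR.resIso (L.obj X)).hom)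
  naturality X X' f := by
    dsimp [LF]
    rw [← F.map_comp, ← F.map_comp]
    exact map_eq hF (hR.res_mem _) (by simp [mapRes])

lemma isIso_counit_app (I : C) (hI : P I) : IsIso ((hR.counit hF).app I) := by
  refine ⟨F.map (hR.lift hI (hR.resIso (L.obj I)).inv), ?_, ?_⟩
  · dsimp [counit, LF]
    rw [← F.map_comp, ← F.map_id]
    exact map_eq hF (hR.res_mem _) (by simp)
  · change F.map _ ≫ F.map _ = 𝟙 (F.obj I)
    rw [← F.map_comp, ← F.map_id]
    exact map_eq hF hI (by simp)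

lemma counit_lift (Y : D) :
    (hR.LF hF).map (hR.resIso Y).inv ≫ (hR.counit hF).app (hR.res Y) = 𝟙 _ := by
  dsimp [counit, LF]
  rw [← F.map_comp, ← F.map_id]
  exact map_eq hF (hR.res_mem _) (by simp [mapRes])

lemma isRightKanExtension : (hR.LF hF).IsRightKanExtension (hR.counit hF) := by
  refine ⟨⟨IsTerminal.ofUniqueHom (fun (E : Functor.RightExtension L F) =>
    CostructuredArrow.homMk
      { app := fun Y => E.left.map (hR.resIso Y).inv ≫ E.hom.app (hR.res Y)
        naturality := fun Y Y' h => ?_ } ?_) (fun E m => ?_)⟩⟩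
  · have h1 := E.hom.naturality (hR.mapRes h)
    dsimp at h1
    change E.left.map h ≫ E.left.map (hR.resIso Y').inv ≫ E.hom.app (hR.res Y') =
      (E.left.map (hR.resIso Y).inv ≫ E.hom.app (hR.res Y)) ≫ F.map (hR.mapRes h)
    rw [Category.assoc, ← h1, ← E.left.map_comp_assoc, ← E.left.map_comp_assoc]
    simp [mapRes]
  · ext X
    have h1 := E.hom.naturality (hR.lift (hR.res_mem (L.obj X)) (hR.resIso (L.obj X)).hom)
    dsimp at h1
    change (E.left.map (hR.resIso (L.obj X)).inv ≫ E.hom.app (hR.res (L.obj X))) ≫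
      F.map (hR.lift (hR.res_mem (L.obj X)) (hR.resIso (L.obj X)).hom) = E.hom.app X
    rw [Category.assoc, ← h1, ← E.left.map_comp_assoc]
    simp
  · ext Y
    let γ : E.left ⟶ hR.LF hF := m.left
    have h1 : γ.app (L.obj (hR.res Y)) ≫ (hR.counit hF).app (hR.res Y) = E.hom.app (hR.res Y) :=
      congr_app (CostructuredArrow.w m) (hR.res Y)
    change γ.app Y = E.left.map (hR.resIso Y).inv ≫ E.hom.app (hR.res Y)
    rw [← h1, reassoc_of% γ.naturality (hR.resIso Y).inv, counit_lift]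
    exact (Category.comp_id _).symm

variable (W : MorphismProperty C) [L.IsLocalization W]

lemma isLeftDerived : (hR.LF hF).IsLeftDerivedFunctor (hR.counit hF) W :=
  ⟨hR.isRightKanExtension hF⟩

include hR hF in
lemma hasLeftDerived : F.HasLeftDerivedFunctor W :=
  have := hR.isLeftDerived hF W
  Functor.HasLeftDerivedFunctor.mk' (hR.LF hF) (hR.counit hF) (W := W)

include hR hF in
/-- the counit of a left derived functor is invertible on `P` -/
lemma isIso_counit (LF' : D ⥤ H) (α : L ⋙ LF' ⟶ F) [LF'.IsLeftDerivedFunctor α W]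
    (I : C) (hI : P I) : IsIso (α.app I) := by
  have := hR.isLeftDerived hF W
  have := hR.isIso_counit_app hF I hI
  rw [← (hR.LF hF).leftDerived_fac_app (hR.counit hF) W LF' α I]
  have : IsIso ((hR.LF hF).leftDerivedLift (hR.counit hF) W LF' α) :=
    ((hR.LF hF).isLeftDerivedFunctor_iff_isIso_leftDerivedLift (hR.counit hF) W LF' α).1 inferInstance
  infer_instance

end LResolving

end generic

section dten

attribute [local instance] HasDerivedCategory.standard

variable {A : Type u} [CommRing A]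

local notation "MA" => ModuleCat A

lemma surj_of_kproj {K X : DRing.Cx A} [K.IsKProjective]
    (φ : DerivedCategory.Q.obj K ⟶ DerivedCategory.Q.obj X) :
    ∃ f, DerivedCategory.Q.map f = φ := by
  let q := DerivedCategory.quotientCompQhIso (ModuleCat.{u} A)
  obtain ⟨f, hf⟩ := (CochainComplex.IsKProjective.Qh_map_bijective K
    ((HomotopyCategory.quotient _ _).obj X)).surjective (q.hom.app _ ≫ φ ≫ q.inv.app _)
  obtain ⟨g, rfl⟩ := (HomotopyCategory.quotient _ _).map_surjective f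
  refine ⟨g, ?_⟩
  have := q.hom.naturality g
  simp only [Functor.comp_map] at this
  rw [hf] at this
  simp only [assoc, Iso.inv_hom_id_app] at this
  exact ((cancel_epi (q.hom.app K)).1 (this.symm.trans (by rw [comp_id])))

lemma homotopic_of_Q_eq {K X : DRing.Cx A} [K.IsKProjective] {f g : K ⟶ X}
    (h : DerivedCategory.Q.map f = DerivedCategory.Q.map g) : Nonempty (Homotopy f g) := by
  refine ⟨HomotopyCategory.homotopyOfEq _ _ ?_⟩
  apply (CochainComplex.IsKProjective.Qh_map_bijective K _).injective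
  let q := DerivedCategory.quotientCompQhIso (ModuleCat.{u} A)
  have h1 := q.hom.naturality f
  have h2 := q.hom.naturality g
  simp only [Functor.comp_map] at h1 h2
  rw [h] at h1
  exact (cancel_mono (q.hom.app X)).1 (h1.trans h2.symm)

variable (A) in
abbrev NiceP : ObjectProperty (DRing.Cx A) := fun K => H5KFlat.Nice A K

lemma lResolving_Q : LResolving (DerivedCategory.Q (C := ModuleCat.{u} A)) (NiceP A) where
  surj I X hI φ := have := hI.kproj; surj_of_kproj φ
  ess Y := by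
    obtain ⟨K, f, hK, hf⟩ := H5KFlat.exists_nice_resolution (DerivedCategory.Q.objPreimage Y)
    exact ⟨K, hK, ⟨asIso (DerivedCategory.Q.map f) ≪≫ DerivedCategory.Q.objObjPreimageIso Y⟩⟩

lemma lResolving_QQ : LResolving (DTen.QQ A) (fun p => NiceP A p.1 ∧ NiceP A p.2) where
  surj I X hI φ := by
    obtain ⟨f, hf⟩ := lResolving_Q.surj _ _ hI.1 φ.1
    obtain ⟨g, hg⟩ := lResolving_Q.surj _ _ hI.2 φ.2
    exact ⟨Prod.mkHom f g, Prod.ext hf hg⟩
  ess Y := by
    obtain ⟨I, hI, ⟨e⟩⟩ := lResolving_Q.ess Y.1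
    obtain ⟨I', hI', ⟨e'⟩⟩ := lResolving_Q.ess Y.2
    exact ⟨(I, I'), ⟨hI, hI'⟩, ⟨Iso.prod e e'⟩⟩

lemma Q_whisker_eq {K K' L L' : DRing.Cx A} {f f' : K ⟶ K'} {g g' : L ⟶ L'}
    (h₁ : Nonempty (Homotopy f f')) (h₂ : Nonempty (Homotopy g g')) :
    DerivedCategory.Q.map (f ▷ L ≫ K' ◁ g) = DerivedCategory.Q.map (f' ▷ L ≫ K' ◁ g') := by
  obtain ⟨h₁⟩ := h₁
  obtain ⟨h₂⟩ := h₂
  let F := curriedTensor (ModuleCat.{u} A)
  rw [Functor.map_comp, Functor.map_comp]
  congr 1
  · exact DerivedCategory.Q_map_eq_of_homotopy _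
      (HomologicalComplex.mapBifunctorMapHomotopy₁ h₁ (𝟙 L) F _)
  · exact DerivedCategory.Q_map_eq_of_homotopy _
      (HomologicalComplex.mapBifunctorMapHomotopy₂ (𝟙 K') h₂ F _)

lemma lCompat_tensor₂ : LCompat (DTen.QQ A) (fun p => NiceP A p.1 ∧ NiceP A p.2) (DTen.tensor₂ A) := by
  intro I X hI f g h
  have := hI.1.kproj
  have := hI.2.kproj
  exact Q_whisker_eq (homotopic_of_Q_eq (congrArg (fun p => p.1) h))
    (homotopic_of_Q_eq (congrArg (fun p => p.2) h))

theorem hasLTen : DTen.HasLTen A := lResolving_QQ.hasLeftDerived lCompat_tensor₂ (DTen.qis₂ A)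

variable [DTen.HasLTen A]

lemma isIso_ε_of_nice (K L : DRing.Cx A) (hK : NiceP A K) (hL : NiceP A L) :
    IsIso ((DTen.ε A).app (K, L)) :=
  lResolving_QQ.isIso_counit lCompat_tensor₂ (DTen.qis₂ A) _ _ (K, L) ⟨hK, hL⟩

lemma isIso_ε (K L : DRing.Cx A) (h : H5KFlatApps.KFl A K ∨ H5KFlatApps.KFl A L) :
    IsIso ((DTen.ε A).app (K, L)) := by
  obtain ⟨K', f, hK', hf⟩ := H5KFlat.exists_nice_resolution K
  obtain ⟨L', g, hL', hg⟩ := H5KFlat.exists_nice_resolution L
  have := isIso_ε_of_nice K' L' hK' hL'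
  have hfg : QuasiIso (f ▷ L' ≫ K ◁ g) := by
    rcases h with h | h
    · have := H5KFlatApps.quasiIso_tensor_right hL'.kflat f
      have := H5KFlatApps.quasiIso_tensor_left h g
      infer_instance
    · have := H5KFlatApps.quasiIso_tensor_left hK'.kflat g
      have := H5KFlatApps.quasiIso_tensor_right h f
      rw [← whisker_exchange]; infer_instance
  have e := (DTen.ε A).naturality (Prod.mkHom f g)
  dsimp at e
  have h1 : IsIso ((DTen.LTen₂ A).map (Prod.mkHom (DerivedCategory.Q.map f) (DerivedCategory.Q.map g))) := by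
    have : IsIso (Prod.mkHom (DerivedCategory.Q.map f) (DerivedCategory.Q.map g)) :=
      (isIso_prod_iff _ _).2 ⟨inferInstance, inferInstance⟩
    infer_instance
  have h2 : IsIso ((DTen.LTen₂ A).map (Prod.mkHom (DerivedCategory.Q.map f) (DerivedCategory.Q.map g)) ≫
      (DTen.ε A).app (K, L)) := by
    rw [e]; infer_instance
  exact IsIso.of_isIso_comp_left ((DTen.LTen₂ A).map (Prod.mkHom (DerivedCategory.Q.map f)
    (DerivedCategory.Q.map g))) _

theorem kFlatComputes : DTen.KFlatComputes A :=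
  ⟨fun K L h => isIso_ε K L (h.imp (H5KFlat.isKFlat_iff A K).1 (H5KFlat.isKFlat_iff A L).1)⟩

lemma isIso_app_of_iso {C D : Type*} [Category C] [Category D] {F G : C ⥤ D} (η : F ⟶ G) {X Y : C}
    (e : X ≅ Y) (h : IsIso (η.app X)) : IsIso (η.app Y) := by
  rw [show η.app Y = F.map e.inv ≫ η.app X ≫ G.map e.hom by
    rw [← η.naturality e.hom, ← F.map_comp_assoc, e.inv_hom_id, F.map_id, id_comp]]
  infer_instance

theorem isIso_symm_app (K L : Dual.D A) : IsIso ((DTen.symm A).app (K, L)) := by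
  obtain ⟨I, hI, ⟨e⟩⟩ := lResolving_Q.ess K
  obtain ⟨I', hI', ⟨e'⟩⟩ := lResolving_Q.ess L
  refine isIso_app_of_iso (DTen.symm A) (Iso.prod e e') ?_
  have := isIso_ε_of_nice I I' hI hI'
  have := isIso_ε_of_nice I' I hI' hI
  have h := DTen.symm_fac A I I'
  have : IsIso ((DTen.symm A).app (DerivedCategory.Q.obj I, DerivedCategory.Q.obj I') ≫
      (DTen.ε A).app (I, I')) := by rw [h]; infer_instance
  exact IsIso.of_isIso_comp_right _ ((DTen.ε A).app (I, I'))

lemma kflat_tensorUnit : H5KFlatApps.KFl A (𝟙_ (DRing.Cx A)) := H5KFlat.kflat_unit A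

theorem isIso_unitR : IsIso (DTen.unitR A) := by
  have : ∀ K, IsIso ((DTen.unitR A).app K) := fun K => by
    refine isIso_app_of_iso (DTen.unitR A) (DerivedCategory.Q.objObjPreimageIso K) ?_
    rw [DTen.unitR_app]
    have := isIso_ε (DerivedCategory.Q.objPreimage K) (𝟙_ (DRing.Cx A)) (.inr kflat_tensorUnit)
    infer_instance
  exact NatIso.isIso_of_isIso_app _

theorem isIso_unitL : IsIso (DTen.unitL A) := by
  have : ∀ K, IsIso ((DTen.unitL A).app K) := fun K => by
    refine isIso_app_of_iso (DTen.unitL A) (DerivedCategory.Q.objObjPreimageIso K) ?_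
    rw [DTen.unitL_app]
    have := isIso_ε (𝟙_ (DRing.Cx A)) (DerivedCategory.Q.objPreimage K) (.inl kflat_tensorUnit)
    infer_instance
  exact NatIso.isIso_of_isIso_app _

variable [DTen.HasLTen₃ A]

lemma lResolving_QQQ :
    LResolving (DTen.QQQ A) (fun p => NiceP A p.1 ∧ NiceP A p.2.1 ∧ NiceP A p.2.2) where
  surj I X hI φ := by
    obtain ⟨f, hf⟩ := lResolving_Q.surj _ _ hI.1 φ.1
    obtain ⟨g, hg⟩ := lResolving_QQ.surj _ _ hI.2 φ.2
    exact ⟨Prod.mkHom f g, Prod.ext hf hg⟩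
  ess Y := by
    obtain ⟨I, hI, ⟨e⟩⟩ := lResolving_Q.ess Y.1
    obtain ⟨I', hI', ⟨e'⟩⟩ := lResolving_QQ.ess Y.2
    exact ⟨(I, I'), ⟨hI, hI'.1, hI'.2⟩, ⟨Iso.prod e e'⟩⟩

lemma lCompat_tensor₃ :
    LCompat (DTen.QQQ A) (fun p => NiceP A p.1 ∧ NiceP A p.2.1 ∧ NiceP A p.2.2) (DTen.tensor₃ A) := by
  intro I X hI f g h
  have := hI.1.kproj
  have := hI.2.1.kproj
  have := hI.2.2.kproj
  obtain ⟨h₁⟩ := homotopic_of_Q_eq (congrArg (fun p => p.1) h)
  obtain ⟨h₂⟩ := homotopic_of_Q_eq (congrArg (fun p => p.2.1) h)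
  obtain ⟨h₃⟩ := homotopic_of_Q_eq (congrArg (fun p => p.2.2) h)
  let F := curriedTensor (ModuleCat.{u} A)
  refine Q_whisker_eq ⟨h₁⟩ ⟨?_⟩
  exact (((HomologicalComplex.mapBifunctorMapHomotopy₁ h₂ (𝟙 I.2.2) F _).compRight _).trans
    ((HomologicalComplex.mapBifunctorMapHomotopy₂ (𝟙 X.2.1) h₃ F _).compLeft _))

lemma isIso_ε₃_of_nice (K L M : DRing.Cx A) (hK : NiceP A K) (hL : NiceP A L) (hM : NiceP A M) :
    IsIso ((DTen.ε₃ A).app (K, (L, M))) :=
  lResolving_QQQ.isIso_counit lCompat_tensor₃ (DTen.qis₃ A) _ _ (K, (L, M)) ⟨hK, hL, hM⟩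

theorem isIso_assoc_app (a b c : Dual.D A) :
    IsIso ((DTen.assocL A).app (a, (b, c))) ∧ IsIso ((DTen.assocR A).app (a, (b, c))) := by
  obtain ⟨⟨K, L, M⟩, ⟨hK, hL, hM⟩, ⟨e⟩⟩ := lResolving_QQQ.ess (a, (b, c))
  have := isIso_ε₃_of_nice K L M hK hL hM
  have := isIso_ε_of_nice K L hK hL
  have := isIso_ε_of_nice L M hL hM
  have := isIso_ε (K ⊗ L) M (.inr hM.kflat)
  have := isIso_ε K (L ⊗ M) (.inl hK.kflat)
  constructor
  · refine isIso_app_of_iso (DTen.assocL A) e ?_
    have h := DTen.assocL_fac A (K, (L, M))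
    have : IsIso ((DTen.βL A).app (K, (L, M))) := by
      dsimp only [DTen.βL]
      have h1 : IsIso (Prod.mkHom ((DTen.ε A).app (K, L)) (𝟙 (DerivedCategory.Q.obj M))) :=
        (isIso_prod_iff _ _).2 ⟨inferInstance, inferInstance⟩
      refine @IsIso.comp_isIso _ _ _ _ _ _ _ (@Functor.map_isIso _ _ _ _ _ _ _ _ h1) ?_
      exact IsIso.comp_isIso
    have : IsIso ((DTen.assocL A).app ((DTen.QQQ A).obj (K, (L, M))) ≫
        (DTen.ε₃ A).app (K, (L, M))) := by rw [h]; infer_instance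
    exact IsIso.of_isIso_comp_right _ ((DTen.ε₃ A).app (K, (L, M)))
  · refine isIso_app_of_iso (DTen.assocR A) e ?_
    have h := DTen.assocR_fac A (K, (L, M))
    have : IsIso ((DTen.βR A).app (K, (L, M))) := by
      dsimp only [DTen.βR]
      have : IsIso (Prod.mkHom (𝟙 (DerivedCategory.Q.obj K)) ((DTen.ε A).app (L, M))) :=
        (isIso_prod_iff _ _).2 ⟨inferInstance, inferInstance⟩
      infer_instance
    have : IsIso ((DTen.assocR A).app ((DTen.QQQ A).obj (K, (L, M))) ≫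
        (DTen.ε₃ A).app (K, (L, M))) := by rw [h]; infer_instance
    exact IsIso.of_isIso_comp_right _ ((DTen.ε₃ A).app (K, (L, M)))

end dten

end Groth.Agent.H5DTen
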