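import Groth.Agent.Lib.H5DTen

universe v u

namespace Groth.Agent.H5Perf
open CategoryTheory Limits Category Pretriangulated HomologicalComplex MonoidalCategory
open scoped ZeroObject
open Groth.Agent

attribute [local instance] HasDerivedCategory.standard

variable {A : Type u} [CommRing A]

section induction

variable (P : ObjectProperty (Dual.D A)) [P.IsClosedUnderIsomorphisms] (hR : P (Dual.inD A A))
    (hshift : ∀ (K : Dual.D A) (n : ℤ), P K → P ((shiftFunctor (Dual.D A) n).obj K))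
    (hext : ∀ T : Triangle (Dual.D A), T ∈ distinguishedTriangles → P T.obj₁ → P T.obj₃ → P T.obj₂)
    (hsum : ∀ (X Y : Dual.D A) [HasBinaryBiproduct X Y], P (X ⊞ Y) → P X)

/-- the functor placing a module in degree `a` -/
noncomputable abbrev sgl (a : ℤ) : ModuleCat.{u} A ⥤ Dual.D A :=
  HomologicalComplex.single (ModuleCat.{u} A) (ComplexShape.up ℤ) a ⋙ DerivedCategory.Q

instance (a : ℤ) : PreservesBinaryBiproducts (sgl (A := A) a) :=
  have : (sgl (A := A) a).Additive := inferInstance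
  preservesBinaryBiproducts_of_preservesBiproducts _

include hR hshift in
lemma P_sgl_self (a : ℤ) : P ((sgl a).obj (ModuleCat.of A A)) :=
  P.prop_of_iso (((DerivedCategory.singleFunctors (ModuleCat.{u} A)).shiftIso (-a) a 0 (by omega)).app
    (ModuleCat.of A A) ≪≫ (DerivedCategory.singleFunctorIsoCompQ (ModuleCat.{u} A) a).app _)
    (hshift _ (-a) hR)

include hR hext hsum in
lemma P_zero {Z : Dual.D A} (hZ : IsZero Z) : P Z := by
  refine hsum Z (Dual.inD A A) (P.prop_of_iso ?_ hR)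
  exact isoZeroBiprod hZ

include hR hshift hext hsum in
lemma P_sgl_pi (a : ℤ) (k : ℕ) : P ((sgl a).obj (ModuleCat.of A (Fin k → A))) := by
  induction k with
  | zero =>
    refine P_zero P hR hext hsum ((sgl a).map_isZero ?_)
    exact ModuleCat.isZero_of_subsingleton _
  | succ k ih =>
    refine P.prop_of_iso ?_ (hext _ (binaryBiproductTriangle_distinguished _ _)
      (P_sgl_self P hR hshift a) ih)
    exact ((sgl a).mapBiprod _ _).symm ≪≫ (sgl a).mapIso
      (ModuleCat.biprodIsoProd (ModuleCat.of A A) (ModuleCat.of A (Fin k → A)) ≪≫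
        (Fin.consLinearEquiv A (fun _ : Fin (k + 1) => A)).toModuleIso)

include hR hshift hext hsum in
lemma P_sgl (a : ℤ) (M : ModuleCat.{u} A) [Module.Finite A M] [Module.Projective A M] :
    P ((sgl a).obj M) := by
  obtain ⟨k, f, hf⟩ := Module.Finite.exists_fin' A M
  obtain ⟨s, hs⟩ := Module.projective_lifting_property f LinearMap.id hf
  let e : (M × LinearMap.ker f) ≃ₗ[A] (Fin k → A) :=
    LinearEquiv.ofLinear
      (s.coprod (LinearMap.ker f).subtype)
      (f.prod (LinearMap.codRestrict _ (LinearMap.id - s ∘ₗ f) (fun x => by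
        simp [show f (s (f x)) = f x from LinearMap.congr_fun hs (f x)])))
      (LinearMap.ext fun x => by simp)
      (LinearMap.ext fun x => by
        obtain ⟨x, y, hy⟩ := x
        have h1 : f (s x) = x := LinearMap.congr_fun hs x
        have h2 : f y = 0 := hy
        refine Prod.ext ?_ (Subtype.ext ?_) <;> simp [h1, h2])
  refine hsum _ ((sgl a).obj (ModuleCat.of A (LinearMap.ker f)))
    (P.prop_of_iso ?_ (P_sgl_pi P hR hshift hext hsum a k))
  exact ((sgl a).mapIso (ModuleCat.biprodIsoProd M (ModuleCat.of A (LinearMap.ker f)) ≪≫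
    e.toModuleIso)).symm ≪≫ (sgl a).mapBiprod _ _

include hR hshift hext hsum in
theorem perfect_induction_cx : ∀ (n : ℕ) (E : DRing.Cx A) (a b : ℤ), b - a < n →
    DRing.VanishesOutside E a b → DRing.TermwiseFiniteProjective E → P (DerivedCategory.Q.obj E) := by
  intro n
  induction n with
  | zero =>
    intro E a b hab hE _
    refine P_zero P hR hext hsum (DerivedCategory.Q.map_isZero ?_)
    refine (IsZero.iff_id_eq_zero _).2 (HomologicalComplex.hom_ext _ _ fun i => ?_)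
    exact (hE i (by omega)).eq_of_src _ _
  | succ n ih =>
    intro E a b hab hE hp
    let g : E ⟶ (HomologicalComplex.single (ModuleCat.{u} A) (ComplexShape.up ℤ) a).obj (E.X a) :=
      HomologicalComplex.mkHomToSingle (𝟙 (E.X a)) (fun i hi => by
        have : i + 1 = a := hi
        exact (hE i (by omega)).eq_of_src _ _)
    have hga : IsIso (g.f a) := by
      simp only [g, HomologicalComplex.mkHomToSingle_f]; infer_instance
    have hgi : ∀ i, i ≠ a → IsZero (((HomologicalComplex.single (ModuleCat.{u} A)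
        (ComplexShape.up ℤ) a).obj (E.X a)).X i) := fun i hi =>
      HomologicalComplex.isZero_single_obj_X _ _ _ _ hi
    have hepi : ∀ i, Epi (g.f i) := fun i => by
      by_cases hi : i = a
      · subst hi; infer_instance
      · exact ⟨fun _ _ _ => (hgi i hi).eq_of_src _ _⟩
    have : Epi g := HomologicalComplex.epi_of_epi_f g hepi
    let S := ShortComplex.mk (kernel.ι g) g (kernel.condition g)
    have hS : S.ShortExact :=
      { exact := ShortComplex.exact_of_f_is_kernel _ (kernelIsKernel g) }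
    have hSi : ∀ i, (S.map (HomologicalComplex.eval (ModuleCat.{u} A) (ComplexShape.up ℤ) i)).ShortExact :=
      fun i => hS.map_of_exact _
    have h1 : ∀ i, i ≠ a → IsIso ((kernel.ι g).f i) := fun i hi => by
      have : Mono ((kernel.ι g).f i) := (hSi i).mono_f
      have : Epi ((kernel.ι g).f i) := (hSi i).exact.epi_f ((hgi i hi).eq_of_tgt _ _)
      exact isIso_of_mono_of_epi _
    have h2 : IsZero ((kernel g).X a) := by
      have : Mono ((kernel.ι g).f a) := (hSi a).mono_f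
      refine IsZero.of_mono_eq_zero ((kernel.ι g).f a) ?_
      rw [← cancel_mono (g.f a), ← HomologicalComplex.comp_f, kernel.condition, zero_comp]
      rfl
    have h3 : DRing.VanishesOutside (kernel g) (a + 1) b := fun i hi => by
      by_cases hia : i = a
      · subst hia; exact h2
      · have := h1 i hia
        exact (hE i (by omega)).of_iso (asIso ((kernel.ι g).f i))
    have h4 : DRing.TermwiseFiniteProjective (kernel g) := fun i => by
      by_cases hia : i = a
      · subst hia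
        have := ModuleCat.subsingleton_of_isZero h2
        exact ⟨inferInstance, inferInstance⟩
      · have := h1 i hia
        have := (hp i).1
        have := (hp i).2
        exact ⟨Module.Finite.equiv (asIso ((kernel.ι g).f i)).toLinearEquiv.symm,
          Module.Projective.of_equiv (asIso ((kernel.ι g).f i)).toLinearEquiv.symm⟩
    have := (hp a).1
    have := (hp a).2
    exact hext _ (DerivedCategory.triangleOfSES_distinguished hS) (ih _ (a + 1) b (by omega) h3 h4)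
      (P_sgl P hR hshift hext hsum a (E.X a))

include hR hshift hext hsum in
theorem perfect_induction (K : Dual.D A) (hK : DRing.IsPerfect A K) : P K := by
  obtain ⟨E, a, b, hE, hp, ⟨e⟩⟩ := hK
  exact P.prop_of_iso e (perfect_induction_cx P hR hshift hext hsum ((b - a).toNat + 1) E a b
    (by omega) hE hp)

end induction

section compact

lemma sigma_Q {T : Type u} (K : T → DRing.Cx A) :
    Nonempty (IsColimit (Cofan.mk (DerivedCategory.Q.obj (∐ K))
      (fun t => DerivedCategory.Q.map (Sigma.ι K t)))) := by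
  have R := H5KApps.resolving_Q (A := ModuleCat.{u} A) H5KApps.enoughKInj_of_grothendieck
  refine ⟨Cofan.IsColimit.mk _ (fun s => DerivedCategory.Q.map
    (Sigma.desc fun t => R.lift (R.res_mem s.pt) (s.inj t ≫ (R.resIso s.pt).inv)) ≫
      (R.resIso s.pt).hom) (fun s t => ?_) (fun s u hu => ?_)⟩
  · simp [Cofan.mk, Cofan.inj, ← Functor.map_comp_assoc]
  · have : (R.res s.pt).IsKInjective := R.res_mem _
    obtain ⟨f, hf⟩ := R.surj _ _ (R.res_mem s.pt) (u ≫ (R.resIso s.pt).inv)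
    rw [← Iso.comp_inv_eq, ← hf]
    refine (H5KApps.homotopy_sigma K _ _ (fun t =>
      ⟨HomotopyCategory.homotopyOfEq _ _ (H5KApps.homotopic_of_Q_map_eq ?_)⟩)).elim
        fun h => DerivedCategory.Q_map_eq_of_homotopy _ h
    rw [Functor.map_comp, Sigma.ι_desc, R.map_lift, hf, ← hu t]
    simp [Cofan.mk, Cofan.inj]

/-- compact object -/
def Cpt (Z : Dual.D A) : Prop :=
  ∀ (T : Type u) (X : T → Dual.D A) (c : Cofan X), IsColimit c → ∀ φ : Z ⟶ c.pt,
    ∃ (s : Finset T) (ψ : ∀ t, Z ⟶ X t), φ = ∑ t ∈ s, ψ t ≫ c.inj t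

lemma Cpt.of_iso {Z Z' : Dual.D A} (e : Z ≅ Z') (h : Cpt Z) : Cpt Z' := by
  intro T X c hc φ
  obtain ⟨s, ψ, hs⟩ := h T X c hc (e.hom ≫ φ)
  refine ⟨s, fun t => e.inv ≫ ψ t, ?_⟩
  rw [← cancel_epi e.hom, hs, Preadditive.comp_sum]
  exact Finset.sum_congr rfl fun t _ => by simp

lemma isKProjective_of_vanishesOutside (E : DRing.Cx A) (a b : ℤ) (hE : DRing.VanishesOutside E a b)
    (hp : DRing.TermwiseFiniteProjective E) : E.IsKProjective := by
  have : ∀ m, Projective (E.X m) := fun m => by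
    have := (hp m).2
    exact ModuleCat.projective_of_categoryTheory_projective _
  have : E.IsStrictlyLE b := (CochainComplex.isStrictlyLE_iff _ _).2 fun i hi => hE i (Or.inr hi)
  exact CochainComplex.isKProjective_of_projective E b

lemma exists_finset_sigma {E : DRing.Cx A} (a b : ℤ) (hE : DRing.VanishesOutside E a b)
    (hfin : ∀ m, Module.Finite A (E.X m)) {T : Type u} (K : T → DRing.Cx A) (g : E ⟶ ∐ K) :
    ∃ (s : Finset T) (π : ∀ t, ∐ K ⟶ K t), g = ∑ t ∈ s, g ≫ π t ≫ Sigma.ι K t := by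
  classical
  let π := fun t => Sigma.desc (fun l => if h : l = t then eqToHom (congrArg K h) else 0) (f := K)
  have hK := fun m => isColimitCofanMkObjOfIsColimit
    (HomologicalComplex.eval (ModuleCat.{u} A) (ComplexShape.up ℤ) m) _ _ (coproductIsCoproduct K)
  have htop : ∀ m, (⊤ : Submodule A ((∐ K).X m)) ≤ ⨆ t, LinearMap.range ((Sigma.ι K t).f m).hom := by
    intro m x _
    let S := ⨆ t, LinearMap.range ((Sigma.ι K t).f m).hom
    have hq : ModuleCat.ofHom S.mkQ = (0 : (∐ K).X m ⟶ ModuleCat.of A _) :=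
      Cofan.IsColimit.hom_ext (hK m) _ _ fun t => ModuleCat.hom_ext (LinearMap.ext fun y =>
        (Submodule.Quotient.mk_eq_zero S).2
          (le_iSup (fun k => LinearMap.range ((Sigma.ι K k).f m).hom) t ⟨y, rfl⟩))
    have := LinearMap.congr_fun (congrArg ModuleCat.Hom.hom hq) x
    simpa [S] using this
  have hex : ∀ m, ∃ s : Finset T, LinearMap.range (g.f m).hom ≤
      ⨆ t ∈ s, LinearMap.range ((Sigma.ι K t).f m).hom := fun m => by
    have := hfin m
    have hfg : (LinearMap.range (g.f m).hom).FG := Module.Finite.iff_fg.1 inferInstance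
    obtain ⟨s, hs⟩ := (CompleteLattice.isCompactElement_iff_exists_le_iSup_of_le_iSup _).1
      ((Submodule.fg_iff_compact _).1 hfg) _ _ (le_top.trans (htop m))
    exact ⟨s, hs.trans (le_of_eq (Finset.sup_eq_iSup _ _))⟩
  choose s hs using hex
  refine ⟨(Finset.Icc a b).biUnion s, π, HomologicalComplex.hom_ext _ _ fun m => ?_⟩
  by_cases hm : m < a ∨ b < m
  · exact (hE m hm).eq_of_src _ _
  let S := (Finset.Icc a b).biUnion s
  have hsum : (∑ t ∈ S, g ≫ π t ≫ Sigma.ι K t).f m = g.f m ≫ ∑ t ∈ S, (π t ≫ Sigma.ι K t).f m := by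
    rw [Preadditive.comp_sum]
    exact Functor.map_sum (HomologicalComplex.eval (ModuleCat.{u} A) (ComplexShape.up ℤ) m) _ _
  rw [hsum]
  have key : ∀ y ∈ (⨆ t ∈ S, LinearMap.range ((Sigma.ι K t).f m).hom),
      (∑ t ∈ S, (π t ≫ Sigma.ι K t).f m).hom y = y := by
    intro y hy
    induction hy using Submodule.iSup_induction' with
    | zero => simp
    | add y z _ _ h1 h2 => rw [map_add, h1, h2]
    | mem k y hy =>
      by_cases hk : k ∈ S
      · rw [iSup_pos hk] at hy
        obtain ⟨z, rfl⟩ := hy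
        have : (Sigma.ι K k).f m ≫ (∑ l ∈ S, (π l ≫ Sigma.ι K l).f m) = (Sigma.ι K k).f m := by
          rw [Preadditive.comp_sum, Finset.sum_eq_single k]
          · rw [← HomologicalComplex.comp_f, Sigma.ι_desc_assoc, dif_pos rfl, eqToHom_refl, id_comp]
          · intro l _ hl
            rw [← HomologicalComplex.comp_f, Sigma.ι_desc_assoc, dif_neg hl.symm, zero_comp,
              HomologicalComplex.zero_f]
          · exact fun h => absurd hk h
        exact LinearMap.congr_fun (congrArg ModuleCat.Hom.hom this) z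
      · rw [iSup_neg hk, Submodule.mem_bot] at hy
        simp [hy]
  refine ModuleCat.hom_ext (LinearMap.ext fun x => (key _ ?_).symm)
  have hmem : m ∈ Finset.Icc a b := Finset.mem_Icc.2 ⟨by omega, by omega⟩
  have hle : (⨆ t ∈ s m, LinearMap.range ((Sigma.ι K t).f m).hom) ≤
      ⨆ t ∈ S, LinearMap.range ((Sigma.ι K t).f m).hom :=
    iSup₂_le fun t ht => le_iSup₂_of_le t (Finset.mem_biUnion.2 ⟨m, hmem, ht⟩) le_rfl
  exact hle (hs m ⟨x, rfl⟩)

theorem cpt_Q (E : DRing.Cx A) (a b : ℤ) (hE : DRing.VanishesOutside E a b)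
    (hp : DRing.TermwiseFiniteProjective E) : Cpt (DerivedCategory.Q.obj E) := by
  intro T X c hc φ
  have := isKProjective_of_vanishesOutside E a b hE hp
  let K := fun t => DerivedCategory.Q.objPreimage (X t)
  let e := fun t => DerivedCategory.Q.objObjPreimageIso (X t)
  obtain ⟨hK⟩ := sigma_Q K
  let c' : DerivedCategory.Q.obj (∐ K) ⟶ c.pt :=
    Cofan.IsColimit.desc hK (fun t => (e t).hom ≫ c.inj t)
  let d : c.pt ⟶ DerivedCategory.Q.obj (∐ K) :=
    Cofan.IsColimit.desc hc (fun t => (e t).inv ≫ DerivedCategory.Q.map (Sigma.ι K t))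
  have hcι : ∀ t, DerivedCategory.Q.map (Sigma.ι K t) ≫ c' = (e t).hom ≫ c.inj t :=
    fun t => Cofan.IsColimit.fac hK _ t
  have hdι : ∀ t, c.inj t ≫ d = (e t).inv ≫ DerivedCategory.Q.map (Sigma.ι K t) :=
    fun t => Cofan.IsColimit.fac hc _ t
  have hdc : d ≫ c' = 𝟙 _ := Cofan.IsColimit.hom_ext hc _ _ fun t => by
    rw [reassoc_of% hdι t, hcι]; simp
  obtain ⟨g, hg⟩ := H5DTen.surj_of_kproj (φ ≫ d)
  obtain ⟨s, π, hs⟩ := exists_finset_sigma a b hE (fun m => (hp m).1) K g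
  refine ⟨s, fun t => DerivedCategory.Q.map (g ≫ π t) ≫ (e t).hom, ?_⟩
  calc φ = DerivedCategory.Q.map g ≫ c' := by rw [hg, assoc, hdc, comp_id]
    _ = _ := by
      conv_lhs => rw [hs]
      simp only [Functor.map_sum, Preadditive.sum_comp, Functor.map_comp, assoc, hcι]

end compact

section devissage

lemma surj_kproj' {R : Type v} [Ring R] [HasDerivedCategory.{v} (ModuleCat.{v} R)]
    {K X : CochainComplex (ModuleCat.{v} R) ℤ} [K.IsKProjective]
    (φ : DerivedCategory.Q.obj K ⟶ DerivedCategory.Q.obj X) : ∃ f, DerivedCategory.Q.map f = φ := by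
  let q := DerivedCategory.quotientCompQhIso (ModuleCat.{v} R)
  obtain ⟨f, hf⟩ := (CochainComplex.IsKProjective.Qh_map_bijective K
    ((HomotopyCategory.quotient _ _).obj X)).surjective (q.hom.app _ ≫ φ ≫ q.inv.app _)
  obtain ⟨g, rfl⟩ := (HomotopyCategory.quotient _ _).map_surjective f
  refine ⟨g, ?_⟩
  have := q.hom.naturality g
  simp only [Functor.comp_map] at this
  rw [hf] at this
  simp only [assoc, Iso.inv_hom_id_app] at this
  exact ((cancel_epi (q.hom.app K)).1 (this.symm.trans (by rw [comp_id])))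

/-- dévissage for all complexes, from the shifts of the ring -/
theorem devissage_cx (Pc : DRing.Cx A → Prop)
    (hq : ∀ (K K' : DRing.Cx A) (f : K ⟶ K'), QuasiIso f → Pc K → Pc K')
    (hgen : ∀ n, Pc (H5BrownGroth.RS A n))
    (hsigma : ∀ {T : Type u} (K : T → DRing.Cx A), (∀ t, Pc (K t)) → Pc (∐ K))
    (hcone : ∀ (K K' : DRing.Cx A) (φ : K ⟶ K'), Pc K → Pc K' → Pc (CochainComplex.mappingCone φ))
    (M : DRing.Cx A) : Pc M := by
  obtain ⟨inst⟩ := H5BrownGroth.exists_hasDerivedCategory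
    (H5KApps.enoughKInj_of_grothendieck (A := (ModuleCat.{u} A)))
  let : HasDerivedCategory.{u} (ModuleCat.{u} A) := inst
  have : HasCoproducts.{u} (DerivedCategory (ModuleCat.{u} A)) := H5KApps.hasCoproducts_derived
  have : HasColimitsOfShape (Discrete ℕ) (DerivedCategory (ModuleCat.{u} A)) :=
    hasColimitsOfShape_of_equivalence (Discrete.equivalence Equiv.ulift.{u, 0})
  let Pr : DerivedCategory (ModuleCat.{u} A) → Prop :=
    fun X => ∃ K, Pc K ∧ K.IsKProjective ∧ Nonempty (DerivedCategory.Q.obj K ≅ X)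
  have hQ : ∀ {T : Type u} (X : T → DerivedCategory (ModuleCat.{u} A)), (∀ t, Pr (X t)) → Pr (∐ X) := by
    intro T X hX
    choose K hK hKp e using hX
    refine ⟨∐ K, hsigma K hK, H5KFlat.isKProjective_sigma K hKp, ⟨?_⟩⟩
    exact ((H5BrownGroth.sigma_Q K).some.coconePointUniqueUpToIso (coproductIsCoproduct _)) ≪≫
      Limits.Sigma.mapIso fun t => (e t).some
  have hcl : H5Brown.Closed (fun p : ULift.{u} ℤ × ULift.{u} ℤ =>
      (DerivedCategory.Q.obj (H5BrownGroth.RS A p.1.down))⟦p.2.down⟧) Pr := by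
    refine ⟨fun p => ?_, hQ, fun X hX => ?_, fun T hT h₁ h₂ => ?_⟩
    · exact ⟨H5BrownGroth.RS A (p.1.down - p.2.down), hgen _, inferInstance,
        ⟨DerivedCategory.Q.mapIso
          (((CochainComplex.singleFunctors (ModuleCat.{u} A)).shiftIso p.2.down (p.1.down - p.2.down) p.1.down
            (by omega)).app (ModuleCat.of A A)).symm ≪≫
          (DerivedCategory.Q.commShiftIso p.2.down).app _⟩⟩
    · obtain ⟨K, hK, hKp, ⟨e⟩⟩ := hQ (fun k : ULift.{u} ℕ => X k.down) fun k => hX k.down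
      exact ⟨K, hK, hKp, ⟨e ≪≫ Sigma.reindex Equiv.ulift X⟩⟩
    · obtain ⟨K, hK, hKp, ⟨e⟩⟩ := h₁
      obtain ⟨K', hK', hKp', ⟨e'⟩⟩ := h₂
      obtain ⟨φ, hφ⟩ := surj_kproj' (e.hom ≫ T.mor₁ ≫ e'.inv)
      refine ⟨_, hcone K K' φ hK hK', H5KFlat.isKProjective_cone φ hKp hKp', ⟨Triangle.π₃.mapIso
        (isoTriangleOfIso₁₂ (DerivedCategory.Q.mapTriangle.obj (CochainComplex.mappingCone.triangle φ))
          T ((DerivedCategory.mem_distTriang_iff _).2 ⟨K, K', φ, ⟨Iso.refl _⟩⟩) hT e e' ?_)⟩⟩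
      change DerivedCategory.Q.map φ ≫ e'.hom = e.hom ≫ T.mor₁
      simp [hφ]
  obtain ⟨K, hK, hKp, ⟨e⟩⟩ := H5Brown.mem_of_closed (H5BrownGroth.perfect_RS (R := A)) hcl
    (fun e h => by obtain ⟨K, hK, hKp, ⟨e'⟩⟩ := h; exact ⟨K, hK, hKp, ⟨e' ≪≫ e⟩⟩)
    (DerivedCategory.Q.obj M)
  obtain ⟨f, hf⟩ := surj_kproj' e.hom
  refine hq K M f ?_ hK
  rw [← DerivedCategory.isIso_Q_map_iff_quasiIso, hf]
  infer_instance

/-- dévissage in `D(A)`: the shifts of `A` generate under cones and coproducts -/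
theorem devissage (P : Dual.D A → Prop) (hiso : ∀ {X Y : Dual.D A}, (X ≅ Y) → P X → P Y)
    (hgen : ∀ n, P (DerivedCategory.Q.obj (H5BrownGroth.RS A n)))
    (hsigma : ∀ (T : Type u) (X : T → Dual.D A) (c : Cofan X), IsColimit c → (∀ t, P (X t)) → P c.pt)
    (htri : ∀ T : Triangle (Dual.D A), T ∈ distinguishedTriangles → P T.obj₁ → P T.obj₂ → P T.obj₃)
    (X : Dual.D A) : P X := by
  refine hiso (DerivedCategory.Q.objObjPreimageIso X) (devissage_cx
    (fun K => P (DerivedCategory.Q.obj K)) (fun K K' f hf h => ?_) hgen (fun {T} K hK => ?_)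
    (fun K K' φ h h' => ?_) _)
  · exact hiso (asIso (DerivedCategory.Q.map f)) h
  · exact hsigma T _ _ (sigma_Q K).some hK
  · exact htri (DerivedCategory.Q.mapTriangle.obj (CochainComplex.mappingCone.triangle φ))
      ((DerivedCategory.mem_distTriang_iff _).2 ⟨K, K', φ, ⟨Iso.refl _⟩⟩) h h'

end devissage

section exactness

variable {B : Type u} [CommRing B]

/-- `F` sends consecutive maps of distinguished triangles to such -/
def TriExact (F : Dual.D A ⥤ Dual.D B) : Prop :=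
  ∀ T : Triangle (Dual.D A), T ∈ distinguishedTriangles →
    ∃ δ : F.obj T.obj₃ ⟶ (F.obj T.obj₁)⟦(1 : ℤ)⟧,
      Triangle.mk (F.map T.mor₁) (F.map T.mor₂) δ ∈ distinguishedTriangles

lemma aux (F : Dual.D A ⥤ Dual.D B) (Φ : DRing.Cx A ⥤ DRing.Cx B)
    (e : DerivedCategory.Q ⋙ F ≅ Φ ⋙ DerivedCategory.Q) {X : Dual.D A} {K L : DRing.Cx A}
    (a : X ⟶ DerivedCategory.Q.obj K) (g : K ⟶ L) :
    F.map (a ≫ DerivedCategory.Q.map g) ≫ e.hom.app L =
      (F.map a ≫ e.hom.app K) ≫ DerivedCategory.Q.map (Φ.map g) := by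
  rw [F.map_comp, assoc, assoc]
  exact congrArg (F.map a ≫ ·) (e.hom.naturality g)

theorem triExact_of_good (F : Dual.D A ⥤ Dual.D B) (Φ : DRing.Cx A ⥤ DRing.Cx B)
    (hΦ : H5TenCx.Good Φ) (e : DerivedCategory.Q ⋙ F ≅ Φ ⋙ DerivedCategory.Q) : TriExact F := by
  have key : ∀ T : Triangle (Dual.D A), T ∈ distinguishedTriangles →
      ∃ (Z : Dual.D B) (δ : F.obj (T.obj₁⟦(1 : ℤ)⟧) ⟶ Z) (i : Z ≅ (F.obj T.obj₂)⟦(1 : ℤ)⟧),
      Triangle.mk (F.map T.mor₂) (F.map T.mor₃) (δ ≫ i.hom) ∈ distinguishedTriangles := by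
    intro T hT
    obtain ⟨K, K', φ, ⟨iT⟩⟩ := (DerivedCategory.mem_distTriang_iff _).1 hT
    let S := CochainComplex.mappingCone.triangleRotateShortComplex φ
    have := hΦ.add
    have w : Φ.map S.f ≫ Φ.map S.g = 0 := by rw [← Φ.map_comp, S.zero, Φ.map_zero]
    have hS := hΦ.split S
      (fun n => ⟨CochainComplex.mappingCone.triangleRotateShortComplexSplitting φ n⟩) w
    let T' := DerivedCategory.triangleOfSES hS
    let a : T'.obj₁ ≅ F.obj T.obj₂ := (e.app K').symm ≪≫ F.mapIso (Triangle.π₂.mapIso iT).symm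
    let b : T'.obj₂ ≅ F.obj T.obj₃ := (e.app _).symm ≪≫ F.mapIso (Triangle.π₃.mapIso iT).symm
    let c : T'.obj₃ ≅ F.obj (T.obj₁⟦(1 : ℤ)⟧) := (e.app _).symm ≪≫
      F.mapIso ((DerivedCategory.Q.commShiftIso (1 : ℤ)).app K) ≪≫
      F.mapIso ((shiftFunctor _ (1 : ℤ)).mapIso (Triangle.π₁.mapIso iT).symm)
    refine ⟨_, c.inv ≫ T'.mor₃, (shiftFunctor _ (1 : ℤ)).mapIso a, ?_⟩
    refine isomorphic_distinguished _ (DerivedCategory.triangleOfSES_distinguished hS) _
      (Triangle.isoMk _ T' a.symm b.symm c.symm ?_ ?_ ?_)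
    · have h1 : T.mor₂ ≫ iT.hom.hom₃ = iT.hom.hom₂ ≫ DerivedCategory.Q.map S.f := iT.hom.comm₂
      exact (F.map_comp_assoc _ _ _).symm.trans
        ((congrArg (fun t => F.map t ≫ e.hom.app S.X₂) h1).trans (aux F Φ e iT.hom.hom₂ S.f))
    · have h1 : T.mor₃ ≫ (shiftFunctor (Dual.D A) (1 : ℤ)).map iT.hom.hom₁ =
          iT.hom.hom₃ ≫ DerivedCategory.Q.map S.g ≫
            (DerivedCategory.Q.commShiftIso (1 : ℤ)).hom.app K := iT.hom.comm₃
      let u₁ : T.obj₁⟦(1 : ℤ)⟧ ⟶ DerivedCategory.Q.obj (K⟦(1 : ℤ)⟧) :=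
        (shiftFunctor (Dual.D A) (1 : ℤ)).map iT.hom.hom₁ ≫
          (DerivedCategory.Q.commShiftIso (1 : ℤ)).inv.app K
      have h2 : T.mor₃ ≫ u₁ = iT.hom.hom₃ ≫ DerivedCategory.Q.map S.g :=
        (assoc _ _ _).symm.trans ((congrArg (fun t => t ≫
          (DerivedCategory.Q.commShiftIso (1 : ℤ)).inv.app K) h1).trans
          (by
            refine (assoc _ _ _).trans (congrArg (fun t => iT.hom.hom₃ ≫ t) ?_)
            exact (assoc _ _ _).trans ((congrArg (fun t => DerivedCategory.Q.map S.g ≫ t)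
              ((DerivedCategory.Q.commShiftIso (1 : ℤ)).hom_inv_id_app K)).trans (comp_id _))))
      have hc : c.inv = F.map u₁ ≫ e.hom.app S.X₃ :=
        (congrArg (fun t => t ≫ e.hom.app S.X₃) (F.map_comp _ _).symm : _)
      exact (congrArg (fun t => F.map T.mor₃ ≫ t) hc).trans ((F.map_comp_assoc _ _ _).symm.trans
        ((congrArg (fun t => F.map t ≫ e.hom.app S.X₃) h2).trans (aux F Φ e iT.hom.hom₃ S.g)))
    · have ha : (shiftFunctor (Dual.D B) (1 : ℤ)).map a.hom ≫ (shiftFunctor (Dual.D B) (1 : ℤ)).map a.inv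
          = 𝟙 _ := ((shiftFunctor (Dual.D B) (1 : ℤ)).mapIso a).hom_inv_id
      change ((c.inv ≫ T'.mor₃) ≫ (shiftFunctor (Dual.D B) (1 : ℤ)).map a.hom) ≫
        (shiftFunctor (Dual.D B) (1 : ℤ)).map a.inv = c.inv ≫ T'.mor₃
      rw [assoc, ha, comp_id]
  intro T hT
  obtain ⟨Z, δ, i, h⟩ := key T.invRotate (inv_rot_of_distTriang T hT)
  let j := (shiftFunctorCompIsoId (Dual.D A) (-1 : ℤ) 1 (by omega)).app T.obj₃
  refine ⟨F.map j.inv ≫ δ ≫ i.hom, isomorphic_distinguished _ h _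
    (Triangle.isoMk _ _ (Iso.refl _) (Iso.refl _) (F.mapIso j.symm) ?_ ?_ ?_)⟩
  · change F.map T.mor₁ ≫ 𝟙 _ = 𝟙 _ ≫ F.map T.invRotate.mor₂
    rw [comp_id, id_comp]
    rfl
  · change F.map T.mor₂ ≫ F.map j.inv = 𝟙 _ ≫ F.map T.invRotate.mor₃
    rw [id_comp, ← F.map_comp]
    rfl
  · change (F.map j.inv ≫ δ ≫ i.hom) ≫ (shiftFunctor (Dual.D B) (1 : ℤ)).map (𝟙 _) = F.map j.inv ≫ δ ≫ i.hom
    rw [CategoryTheory.Functor.map_id, comp_id]

end exactness

section five

variable {B B' : Type u} [CommRing B] [CommRing B'] {F₁ : Dual.D A ⥤ Dual.D B}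
  {F₂ : Dual.D A ⥤ Dual.D B'} [F₁.Additive] [F₂.Additive] {Z₁ : Dual.D B} {Z₂ : Dual.D B'}

/-- natural additive maps between represented groups -/
structure NatHom (F₁ : Dual.D A ⥤ Dual.D B) (F₂ : Dual.D A ⥤ Dual.D B') (Z₁ : Dual.D B)
    (Z₂ : Dual.D B') where
  app : ∀ K, (Z₁ ⟶ F₁.obj K) → (Z₂ ⟶ F₂.obj K)
  add : ∀ K x y, app K (x + y) = app K x + app K y
  nat : ∀ {K K' : Dual.D A} (f : K ⟶ K') x, app K' (x ≫ F₁.map f) = app K x ≫ F₂.map f

variable (η : NatHom F₁ F₂ Z₁ Z₂)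

/-- bijective on all shifts -/
def NatHom.Bij (K : Dual.D A) : Prop := ∀ n : ℤ, Function.Bijective (η.app (K⟦n⟧))

omit [F₁.Additive] [F₂.Additive] in
lemma NatHom.map_zero (K : Dual.D A) : η.app K 0 = 0 := by
  simpa using η.add K 0 0

omit [F₁.Additive] [F₂.Additive] in
lemma NatHom.bij_of_iso {X Y : Dual.D A} (e : X ≅ Y) (h : Function.Bijective (η.app X)) :
    Function.Bijective (η.app Y) := by
  constructor
  · intro x y hxy
    rw [← cancel_mono (F₁.map e.inv)]
    exact h.1 (by rw [η.nat, η.nat, hxy])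
  · intro w
    obtain ⟨x, hx⟩ := h.2 (w ≫ F₂.map e.inv)
    exact ⟨x ≫ F₁.map e.hom, by rw [η.nat, hx, assoc, ← F₂.map_comp]; simp⟩

omit [F₁.Additive] [F₂.Additive] in
lemma NatHom.Bij.of_iso {X Y : Dual.D A} (e : X ≅ Y) (h : η.Bij X) : η.Bij Y := fun n =>
  η.bij_of_iso ((shiftFunctor _ n).mapIso e) (h n)

lemma NatHom.bij_retract {X Y : Dual.D A} (i : X ⟶ Y) (r : Y ⟶ X) (hir : i ≫ r = 𝟙 X)
    (h : Function.Bijective (η.app Y)) : Function.Bijective (η.app X) := by
  constructor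
  · intro x y hxy
    have : x ≫ F₁.map i = y ≫ F₁.map i := h.1 (by rw [η.nat, η.nat, hxy])
    simpa [← F₁.map_comp, hir] using congrArg (fun t => t ≫ F₁.map r) this
  · intro w
    obtain ⟨x, hx⟩ := h.2 (w ≫ F₂.map i)
    exact ⟨x ≫ F₁.map r, by rw [η.nat, hx, assoc, ← F₂.map_comp, hir]; simp⟩

lemma exactAt {B₀ : Type u} [CommRing B₀] {F : Dual.D A ⥤ Dual.D B₀} (hF : TriExact F) (S : Triangle (Dual.D A))
    (hS : S ∈ distinguishedTriangles) {Z : Dual.D B₀} (x : Z ⟶ F.obj S.obj₂) (hx : x ≫ F.map S.mor₂ = 0) :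
    ∃ y, x = y ≫ F.map S.mor₁ := by
  obtain ⟨δ, hd⟩ := hF S hS
  exact Triangle.coyoneda_exact₂ _ hd x hx

lemma NatHom.five (h₁ : TriExact F₁) (h₂ : TriExact F₂) (T : Triangle (Dual.D A))
    (hT : T ∈ distinguishedTriangles) (b₁ : Function.Bijective (η.app T.obj₁))
    (b₂ : Function.Bijective (η.app T.obj₂)) (b₁' : Function.Bijective (η.app (T.obj₁⟦(1 : ℤ)⟧)))
    (b₂' : Function.Bijective (η.app (T.obj₂⟦(1 : ℤ)⟧))) :
    Function.Bijective (η.app T.obj₃) := by
  have hT' := rot_of_distTriang T hT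
  have hT'' := rot_of_distTriang _ hT'
  constructor
  · intro x x' hxx
    obtain ⟨d, rfl⟩ : ∃ d, x = d + x' := ⟨x - x', (sub_add_cancel x x').symm⟩
    suffices d = 0 by rw [this, zero_add]
    have hd : η.app _ d = 0 := by rw [η.add] at hxx; simpa using hxx
    have h0 : d ≫ F₁.map T.mor₃ = 0 := b₁'.1 (by rw [η.nat, hd, zero_comp, η.map_zero])
    obtain ⟨y, rfl⟩ : ∃ y, d = y ≫ F₁.map T.mor₂ := exactAt h₁ _ hT' d h0
    obtain ⟨z', hz'⟩ := exactAt h₂ T hT (η.app _ y) (by rw [← η.nat]; exact hd)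
    obtain ⟨z, rfl⟩ := b₁.2 z'
    rw [← η.nat] at hz'
    rw [b₂.1 hz', assoc, ← F₁.map_comp, comp_distTriang_mor_zero₁₂ T hT, F₁.map_zero, comp_zero]
  · intro w
    obtain ⟨v, hv⟩ := b₁'.2 (w ≫ F₂.map T.mor₃)
    have hv0 : v ≫ F₁.map (T.mor₁⟦(1 : ℤ)⟧') = 0 := b₂'.1 (by
      rw [η.nat, hv, assoc, ← F₂.map_comp, comp_distTriang_mor_zero₃₁ T hT, F₂.map_zero, comp_zero,
        η.map_zero])
    obtain ⟨x₀, rfl⟩ : ∃ x₀, v = x₀ ≫ F₁.map T.mor₃ := exactAt h₁ _ hT'' v (by
      change v ≫ F₁.map (-T.mor₁⟦(1 : ℤ)⟧') = 0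
      rw [Functor.map_neg, Preadditive.comp_neg, hv0, neg_zero])
    rw [η.nat] at hv
    obtain ⟨y', hy'⟩ : ∃ y', w - η.app _ x₀ = y' ≫ F₂.map T.mor₂ := exactAt h₂ _ hT' _ (by
      change (w - η.app _ x₀) ≫ F₂.map T.mor₃ = 0
      rw [Preadditive.sub_comp, hv, sub_self])
    obtain ⟨y, rfl⟩ := b₂.2 y'
    exact ⟨x₀ + y ≫ F₁.map T.mor₂, by rw [η.add, η.nat, ← hy']; abel⟩

lemma NatHom.Bij.obj₃ (h₁ : TriExact F₁) (h₂ : TriExact F₂) (T : Triangle (Dual.D A))
    (hT : T ∈ distinguishedTriangles) (b₁ : η.Bij T.obj₁) (b₂ : η.Bij T.obj₂) : η.Bij T.obj₃ :=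
  fun n => η.five h₁ h₂ _ (Triangle.shift_distinguished T hT n) (b₁ n) (b₂ n)
    (η.bij_of_iso ((shiftFunctorAdd _ n 1).app T.obj₁) (b₁ (n + 1)))
    (η.bij_of_iso ((shiftFunctorAdd _ n 1).app T.obj₂) (b₂ (n + 1)))

lemma NatHom.bij_coprod (hZ₁ : Cpt Z₁) (hZ₂ : Cpt Z₂) {T : Type u} (X : T → Dual.D A) (c : Cofan X)
    (hc : IsColimit c) [∀ T : Type u, PreservesColimitsOfShape (Discrete T) F₁]
    [∀ T : Type u, PreservesColimitsOfShape (Discrete T) F₂]
    (h : ∀ t, Function.Bijective (η.app (X t))) : Function.Bijective (η.app c.pt) := by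
  classical
  let hom : (Z₁ ⟶ F₁.obj c.pt) →+ (Z₂ ⟶ F₂.obj c.pt) := AddMonoidHom.mk' (η.app _) (η.add _)
  have hh : ∀ x, hom x = η.app c.pt x := fun _ => rfl
  constructor
  · rw [show η.app c.pt = hom from rfl]
    rw [injective_iff_map_eq_zero]
    intro x hx
    obtain ⟨s, ψ, hψ⟩ := hZ₁ T _ (Cofan.mk _ fun t => F₁.map (c.inj t))
      (isColimitCofanMkObjOfIsColimit F₁ _ _ hc) x
    change x = ∑ t ∈ s, ψ t ≫ F₁.map (c.inj t) at hψ
    let π := fun t => Cofan.IsColimit.desc hc (fun l => if e : l = t then eqToHom (congrArg X e) else 0)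
    have hπ : ∀ t l, c.inj l ≫ π t = if e : l = t then eqToHom (congrArg X e) else 0 :=
      fun t l => Cofan.IsColimit.fac hc _ l
    have hψ0 : ∀ t ∈ s, ψ t = 0 := fun t ht => (h t).1 (by
      have h1 : x ≫ F₁.map (π t) = ψ t := by
        rw [hψ, Preadditive.sum_comp, Finset.sum_eq_single t]
        · rw [assoc, ← F₁.map_comp, hπ, dif_pos rfl]; simp
        · intro l _ hl
          rw [assoc, ← F₁.map_comp, hπ, dif_neg hl, F₁.map_zero, comp_zero]
        · exact fun hn => absurd ht hn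
      rw [← h1, η.nat, ← hh, hx, zero_comp, η.map_zero])
    rw [hψ]
    exact Finset.sum_eq_zero fun t ht => by rw [hψ0 t ht, zero_comp]
  · intro w
    obtain ⟨s, ψ, hψ⟩ := hZ₂ T _ (Cofan.mk _ fun t => F₂.map (c.inj t))
      (isColimitCofanMkObjOfIsColimit F₂ _ _ hc) w
    choose x hx using fun t => (h t).2 (ψ t)
    refine ⟨∑ t ∈ s, x t ≫ F₁.map (c.inj t), ?_⟩
    rw [← hh, map_sum, hψ]
    exact Finset.sum_congr rfl fun t _ => by rw [hh, η.nat, hx]; rfl

lemma NatHom.Bij.coprod (hZ₁ : Cpt Z₁) (hZ₂ : Cpt Z₂) {T : Type u} (X : T → Dual.D A) (c : Cofan X)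
    (hc : IsColimit c) [∀ T : Type u, PreservesColimitsOfShape (Discrete T) F₁]
    [∀ T : Type u, PreservesColimitsOfShape (Discrete T) F₂]
    (h : ∀ t, η.Bij (X t)) : η.Bij c.pt := fun n =>
  η.bij_coprod hZ₁ hZ₂ _ (Cofan.mk _ fun t => (shiftFunctor (Dual.D A) n).map (c.inj t))
    (isColimitCofanMkObjOfIsColimit (shiftFunctor (Dual.D A) n) _ _ hc) (fun t => h t n)

end five

section misc

lemma TriExact.of_iso {B : Type u} [CommRing B] {F G : Dual.D A ⥤ Dual.D B} (e : F ≅ G)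
    (h : TriExact F) : TriExact G := by
  intro T hT
  obtain ⟨δ, hd⟩ := h T hT
  refine ⟨e.inv.app T.obj₃ ≫ δ ≫ (e.hom.app T.obj₁)⟦(1 : ℤ)⟧', isomorphic_distinguished _ hd _
    (Triangle.isoMk _ _ (e.app _).symm (e.app _).symm (e.app _).symm ?_ ?_ ?_)⟩
  · exact e.inv.naturality T.mor₁
  · exact e.inv.naturality T.mor₂
  · change (e.inv.app T.obj₃ ≫ δ ≫ (shiftFunctor (Dual.D B) (1 : ℤ)).map (e.hom.app T.obj₁)) ≫
      (shiftFunctor (Dual.D B) (1 : ℤ)).map (e.inv.app T.obj₁) = e.inv.app T.obj₃ ≫ δ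
    rw [assoc, assoc, ← Functor.map_comp, e.hom_inv_id_app, CategoryTheory.Functor.map_id]
    exact congrArg (e.inv.app T.obj₃ ≫ ·) (comp_id δ)

lemma Cpt.shift {Z : Dual.D A} (hZ : Cpt Z) (n : ℤ) : Cpt (Z⟦n⟧) := by
  intro T X c hc φ
  let E := shiftFunctor (Dual.D A) n
  let θ := shiftFunctorCompIsoId (Dual.D A) n (-n) (by omega)
  obtain ⟨s, ψ, hψ⟩ := hZ T _ (Cofan.mk _ fun t => (shiftFunctor (Dual.D A) (-n)).map (c.inj t))
    (isColimitCofanMkObjOfIsColimit (shiftFunctor (Dual.D A) (-n)) _ _ hc)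
    (θ.inv.app Z ≫ φ⟦-n⟧')
  choose g hg using fun t => (shiftFunctor (Dual.D A) (-n)).map_surjective (θ.hom.app Z ≫ ψ t)
  refine ⟨s, g, (shiftFunctor (Dual.D A) (-n)).map_injective ?_⟩
  rw [← cancel_epi (θ.inv.app Z), hψ, Functor.map_sum, Preadditive.comp_sum]
  refine Finset.sum_congr rfl fun t _ => ?_
  rw [Functor.map_comp, hg]
  simp [Cofan.mk, Cofan.inj]

lemma isZero_of_gens {C : Dual.D A}
    (h : ∀ (n : ℤ) (f : DerivedCategory.Q.obj (H5BrownGroth.RS A n) ⟶ C), f = 0) : IsZero C := by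
  have key := devissage (fun X => ∀ (m : ℤ) (f : X⟦m⟧ ⟶ C), f = 0) (fun e hX m f => by
      rw [← cancel_epi (e.hom⟦m⟧'), comp_zero]; exact hX m _)
    (fun n m f => by
      let e : DerivedCategory.Q.obj (H5BrownGroth.RS A (n - m)) ≅
          (DerivedCategory.Q.obj (H5BrownGroth.RS A n))⟦m⟧ :=
        DerivedCategory.Q.mapIso
          (((CochainComplex.singleFunctors (ModuleCat.{u} A)).shiftIso m (n - m) n
            (by omega)).app (ModuleCat.of A A)).symm ≪≫
          (DerivedCategory.Q.commShiftIso m).app _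
      rw [← cancel_epi e.hom, comp_zero]; exact h _ _)
    (fun T X c hc hX m f => Cofan.IsColimit.hom_ext
      (c := Cofan.mk _ fun t => (shiftFunctor (Dual.D A) m).map (c.inj t))
      (isColimitCofanMkObjOfIsColimit (shiftFunctor (Dual.D A) m) _ _ hc) _ _
      (fun t => (hX t m _).trans comp_zero.symm))
    (fun T hT h₁ h₂ m f => by
      obtain ⟨g, hg⟩ := Triangle.yoneda_exact₃ _ (Triangle.shift_distinguished T hT m) f (h₂ m _)
      have hg0 : g = 0 := by
        let e : T.obj₁⟦m + 1⟧ ≅ (T.obj₁⟦m⟧)⟦(1 : ℤ)⟧ := (shiftFunctorAdd (Dual.D A) m 1).app T.obj₁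
        exact (cancel_epi e.hom).1 ((h₁ (m + 1) _).trans comp_zero.symm)
      rw [hg, hg0]; exact comp_zero) C 0 ((shiftFunctorZero (Dual.D A) ℤ).hom.app C)
  exact IsZero.of_iso ((IsZero.iff_id_eq_zero _).2 (by
    rw [← cancel_mono ((shiftFunctorZero (Dual.D A) ℤ).hom.app C)]
    simpa using key)) ((shiftFunctorZero (Dual.D A) ℤ).app C).symm

lemma isIso_of_gens {X Y : Dual.D A} (f : X ⟶ Y)
    (h : ∀ n : ℤ, Function.Bijective
      (fun a : DerivedCategory.Q.obj (H5BrownGroth.RS A n) ⟶ X => a ≫ f)) : IsIso f := by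
  obtain ⟨C, g, δ, hT⟩ := distinguished_cocone_triangle f
  refine (Triangle.isZero₃_iff_isIso₁ _ hT).1 (isZero_of_gens fun n φ => ?_)
  let e : (DerivedCategory.Q.obj (H5BrownGroth.RS A (n + 1)))⟦(1 : ℤ)⟧ ≅
      DerivedCategory.Q.obj (H5BrownGroth.RS A n) :=
    ((DerivedCategory.Q.commShiftIso (1 : ℤ)).app _).symm ≪≫ DerivedCategory.Q.mapIso
      (((CochainComplex.singleFunctors (ModuleCat.{u} A)).shiftIso 1 n (n + 1) (by omega)).app
        (ModuleCat.of A A))
  have h0 : φ ≫ δ = 0 := by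
    obtain ⟨a, ha⟩ := (shiftFunctor (Dual.D A) (1 : ℤ)).map_surjective (e.hom ≫ φ ≫ δ)
    have : a ≫ f = 0 := (shiftFunctor (Dual.D A) (1 : ℤ)).map_injective (by
      have h31 : δ ≫ f⟦(1 : ℤ)⟧' = 0 := comp_distTriang_mor_zero₃₁ _ hT
      rw [Functor.map_comp, ha, assoc, Functor.map_zero]
      exact (congrArg (e.hom ≫ ·) ((assoc _ _ _).trans ((congrArg (φ ≫ ·) h31).trans comp_zero))).trans comp_zero)
    have ha0 : a = 0 := (h (n + 1)).1 (this.trans zero_comp.symm)
    rw [ha0, Functor.map_zero] at ha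
    rw [← cancel_epi e.hom, comp_zero]; exact ha.symm
  obtain ⟨b, hb⟩ := Triangle.coyoneda_exact₃ _ hT φ h0
  obtain ⟨a, ha⟩ := (h n).2 b
  subst ha
  rw [hb]
  exact (assoc a f g).trans ((congrArg (a ≫ ·) (comp_distTriang_mor_zero₁₂ _ hT)).trans comp_zero)

end misc

section tensor

variable [DTen.HasLTen A]

/-- the derived tensor product by a K-flat complex, computed on complexes -/
noncomputable def tensorCompIso (R' : DRing.Cx A) (hR' : H5KFlatApps.KFl A R') :
    DerivedCategory.Q ⋙ DTen.tensorRightD A (DerivedCategory.Q.obj R') ≅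
      H5TenCx.T₁ (curriedTensor (ModuleCat.{u} A)) R' ⋙ DerivedCategory.Q :=
  NatIso.ofComponents
    (fun K => @asIso _ _ _ _ ((DTen.ε A).app (K, R')) (H5DTen.isIso_ε K R' (.inr hR')))
    (fun {K K'} f => by
      have h := (DTen.ε A).naturality (Prod.mkHom f (𝟙 R'))
      dsimp at h
      rw [CategoryTheory.Functor.map_id, MonoidalCategory.whiskerLeft_id, comp_id] at h
      exact h)

theorem triExact_tensorRightD (L : Dual.D A) : TriExact (DTen.tensorRightD A L) := by
  obtain ⟨R', hR', ⟨e⟩⟩ := H5DTen.lResolving_Q.ess L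
  exact (triExact_of_good _ _ (H5TenCx.good₁ (curriedTensor (ModuleCat.{u} A)) R')
    (tensorCompIso R' hR'.kflat)).of_iso
    ((DTen.LTen A).flip.mapIso e)

lemma preservesColimits_tensorRightD [DTen.HasRHom A] (L : Dual.D A) (T : Type u) :
    PreservesColimitsOfShape (Discrete T) (DTen.tensorRightD A L) :=
  (DTen.rhomAdj A L).leftAdjoint_preservesColimits.preservesColimitsOfShape

lemma additive_tensorRightD [DTen.HasRHom A] (L : Dual.D A) : (DTen.tensorRightD A L).Additive :=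
  have : PreservesColimitsOfSize.{0, 0} (DTen.tensorRightD A L) :=
    (DTen.rhomAdj A L).leftAdjoint_preservesColimits
  have := preservesBinaryBiproducts_of_preservesBinaryCoproducts (DTen.tensorRightD A L)
  Functor.additive_of_preservesBinaryBiproducts _

/-- tensoring on the right by a shift of `A` is an equivalence -/
theorem isEquivalence_tensorRightD_RS (n : ℤ) :
    (DTen.tensorRightD A (DerivedCategory.Q.obj (H5BrownGroth.RS A n))).IsEquivalence := by
  let F := (curriedTensor (ModuleCat.{u} A)).map₂CochainComplex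
  let s : (H5BrownGroth.RS A 0)⟦-n⟧ ≅ H5BrownGroth.RS A n :=
    ((CochainComplex.singleFunctors (ModuleCat.{u} A)).shiftIso (-n) n 0 (by omega)).app (ModuleCat.of A A)
  let α : H5TenCx.T₁ (curriedTensor (ModuleCat.{u} A)) (H5BrownGroth.RS A n) ⋙ DerivedCategory.Q ≅
      DerivedCategory.Q ⋙ shiftFunctor (Dual.D A) (-n) :=
    NatIso.ofComponents (fun K => DerivedCategory.Q.mapIso ((F.obj K).mapIso s.symm ≪≫
        ((F.obj K).commShiftIso (-n)).app (H5BrownGroth.RS A 0) ≪≫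
        (shiftFunctor (DRing.Cx A) (-n)).mapIso (ρ_ K)) ≪≫
        (DerivedCategory.Q.commShiftIso (-n)).app K)
      (fun {K K'} f => by
        have h1 : (F.map f).app _ ≫ (F.obj K').map s.inv =
            (F.obj K).map s.inv ≫ (F.map f).app _ := ((F.map f).naturality s.inv).symm
        have h2 := NatTrans.shift_app_comm (F.map f) (-n) (H5BrownGroth.RS A 0)
        have h3 : (F.map f).app (H5BrownGroth.RS A 0) ≫ (ρ_ K').hom = (ρ_ K).hom ≫ f :=
          MonoidalCategory.rightUnitor_naturality f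
        have h4 := (DerivedCategory.Q.commShiftIso (-n)).hom.naturality f
        dsimp only [Functor.comp_map, Functor.comp_obj] at h4
        change DerivedCategory.Q.map ((F.map f).app _) ≫ DerivedCategory.Q.map ((F.obj K').map s.inv ≫
            ((F.obj K').commShiftIso (-n)).hom.app _ ≫ ((ρ_ K').hom)⟦-n⟧') ≫
            (DerivedCategory.Q.commShiftIso (-n)).hom.app K' =
          (DerivedCategory.Q.map ((F.obj K).map s.inv ≫ ((F.obj K).commShiftIso (-n)).hom.app _ ≫
            ((ρ_ K).hom)⟦-n⟧') ≫ (DerivedCategory.Q.commShiftIso (-n)).hom.app K) ≫ _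
        rw [assoc, Functor.comp_map]
        rw [← h4, ← Functor.map_comp_assoc, ← Functor.map_comp_assoc]
        refine congrArg (fun t => DerivedCategory.Q.map t ≫ _) ?_
        rw [reassoc_of% h1, assoc, assoc]
        refine congrArg ((F.obj K).map s.inv ≫ ·) ?_
        refine ((assoc _ _ _).symm.trans ((congrArg (fun t => t ≫ ((ρ_ K').hom)⟦-n⟧') h2.symm).trans
          (assoc _ _ _))).trans ?_
        exact congrArg (((F.obj K).commShiftIso (-n)).hom.app (H5BrownGroth.RS A 0) ≫ ·)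
          (((shiftFunctor (DRing.Cx A) (-n)).map_comp _ _).symm.trans
            ((congrArg (fun t => (shiftFunctor (DRing.Cx A) (-n)).map t) h3).trans
              ((shiftFunctor (DRing.Cx A) (-n)).map_comp _ _))))
  let e := (tensorCompIso _ (H5KFlat.nice_RS A n).kflat) ≪≫ α
  have : Localization.Lifting DerivedCategory.Q (DTen.qis A)
      (DerivedCategory.Q ⋙ shiftFunctor (Dual.D A) (-n))
      (DTen.tensorRightD A (DerivedCategory.Q.obj (H5BrownGroth.RS A n))) := ⟨e⟩
  exact Functor.isEquivalence_of_iso (Localization.liftNatIso DerivedCategory.Q (DTen.qis A)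
    (DerivedCategory.Q ⋙ shiftFunctor (Dual.D A) (-n)) (DerivedCategory.Q ⋙ shiftFunctor (Dual.D A) (-n))
    (DTen.tensorRightD A (DerivedCategory.Q.obj (H5BrownGroth.RS A n)))
    (shiftFunctor (Dual.D A) (-n)) (Iso.refl _)).symm

end tensor

end Groth.Agent.H5Perf
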