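import Mathlib
import Groth.Prelude.Def_SiteCmp
import Groth.Prelude.Def_WeakSerre

/-! # Dévissage and way-out lemmas in derived categories -/

universe w w' v v' u u'

namespace Groth.Agent.H5WayOut
open CategoryTheory Limits Category Pretriangulated Triangulated
open scoped ZeroObject

section formal

variable {S : Type u} [Category.{v} S] [HasZeroObject S] [Preadditive S] [HasShift S ℤ]
  [∀ n : ℤ, (shiftFunctor S n).Additive] [Pretriangulated S]
  {T : Type u'} [Category.{v'} T] [HasZeroObject T] [Preadditive T] [HasShift T ℤ]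
  [∀ n : ℤ, (shiftFunctor T n).Additive] [Pretriangulated T]

theorem isGE_rightAdjoint (tS : TStructure S) (tT : TStructure T) (F : S ⥤ T) [F.CommShift ℤ]
    [F.IsTriangulated] (G : T ⥤ S) (adj : F ⊣ G) (d : ℤ)
    (hF : ∀ X : S, tS.IsLE X 0 → tT.IsLE (F.obj X) d) (Y : T) (n : ℤ) (hY : tT.IsGE Y n) :
    tS.IsGE (G.obj Y) (n - d) := by
  rw [tS.isGE_iff_orthogonal (n - d - 1) (n - d) (by lia)]
  intro X f hX
  have : tS.IsLE (X⟦n - d - 1⟧) 0 := tS.isLE_shift X (n - d - 1) (n - d - 1) 0 (by lia)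
  have h1 : tT.IsLE ((shiftFunctor S (n - d - 1) ⋙ F).obj X) d := hF _ this
  have : tT.IsLE ((F.obj X)⟦n - d - 1⟧) d :=
    tT.isLE_of_iso ((F.commShiftIso (n - d - 1)).app X) d
  have : tT.IsLE (F.obj X) (n - 1) :=
    tT.isLE_of_shift (F.obj X) (n - 1) (n - d - 1) d (by lia)
  apply (adj.homEquiv X Y).symm.injective
  rw [adj.homEquiv_counit, adj.homEquiv_counit, F.map_zero, zero_comp]
  exact tT.zero _ (n - 1) n (by lia)

/-- an isomorphism at two vertices of a distinguished triangle propagates -/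
lemma isIso_app₂ {F G : S ⥤ T} [F.CommShift ℤ] [G.CommShift ℤ] [F.IsTriangulated]
    [G.IsTriangulated] (η : F ⟶ G) [NatTrans.CommShift η ℤ] (Tr : Triangle S)
    (hTr : Tr ∈ distTriang S) (h₁ : IsIso (η.app Tr.obj₁)) (h₃ : IsIso (η.app Tr.obj₃)) :
    IsIso (η.app Tr.obj₂) := by
  let φ : F.mapTriangle.obj Tr ⟶ G.mapTriangle.obj Tr :=
    { hom₁ := η.app _
      hom₂ := η.app _
      hom₃ := η.app _
      comm₁ := η.naturality _
      comm₂ := η.naturality _
      comm₃ := by
        change (F.map Tr.mor₃ ≫ (F.commShiftIso (1 : ℤ)).hom.app Tr.obj₁) ≫ (η.app Tr.obj₁)⟦(1 : ℤ)⟧' =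
          η.app Tr.obj₃ ≫ G.map Tr.mor₃ ≫ (G.commShiftIso (1 : ℤ)).hom.app Tr.obj₁
        rw [assoc, NatTrans.shift_app_comm η (1 : ℤ) Tr.obj₁, η.naturality_assoc] }
  exact isIso₂_of_isIso₁₃ φ (F.map_distinguished _ hTr) (G.map_distinguished _ hTr) h₁ h₃

lemma isIso_app_shift {F G : S ⥤ T} [F.CommShift ℤ] [G.CommShift ℤ] (η : F ⟶ G)
    [NatTrans.CommShift η ℤ] (X : S) (n : ℤ) (h : IsIso (η.app X)) : IsIso (η.app (X⟦n⟧)) := by
  have h1 := NatTrans.shift_app_comm η n X
  have : IsIso ((F.commShiftIso n).hom.app X ≫ (η.app X)⟦n⟧') := inferInstance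
  rw [h1] at this
  exact IsIso.of_isIso_comp_right (η.app (X⟦n⟧)) ((G.commShiftIso n).hom.app X)

end formal

section derived

variable {A : Type u} [Category.{v} A] [Abelian A] [HasDerivedCategory.{w} A]

local notation "H" => DerivedCategory.homologyFunctor A

open DerivedCategory in
lemma isIso_H_mor₁ (T : Triangle (DerivedCategory A)) (hT : T ∈ distTriang _) (i : ℤ)
    (h : IsZero ((H (i - 1)).obj T.obj₃)) (h' : IsZero ((H i).obj T.obj₃)) :
    IsIso ((H i).map T.mor₁) := by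
  have h1 : Mono ((H i).map T.mor₁) :=
    (HomologySequence.exact₁ T hT (i - 1) i (by lia)).mono_g (h.eq_of_src _ _)
  have h2 : Epi ((H i).map T.mor₁) :=
    (HomologySequence.exact₂ T hT i).epi_f (h'.eq_of_tgt _ _)
  exact isIso_of_mono_of_epi _

open DerivedCategory in
lemma isIso_H_mor₂ (T : Triangle (DerivedCategory A)) (hT : T ∈ distTriang _) (i : ℤ)
    (h : IsZero ((H i).obj T.obj₁)) (h' : IsZero ((H (i + 1)).obj T.obj₁)) :
    IsIso ((H i).map T.mor₂) := by
  have h1 : Mono ((H i).map T.mor₂) :=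
    (HomologySequence.exact₂ T hT i).mono_g (h.eq_of_src _ _)
  have h2 : Epi ((H i).map T.mor₂) :=
    (HomologySequence.exact₃ T hT i (i + 1) (by lia)).epi_f (h'.eq_of_tgt _ _)
  exact isIso_of_mono_of_epi _

lemma H_truncLE_iso (X : DerivedCategory A) (m i : ℤ) (hi : i ≤ m) :
    Nonempty ((H i).obj ((DerivedCategory.TStructure.t.truncLT (m + 1)).obj X) ≅ (H i).obj X) := by
  have h := DerivedCategory.TStructure.t.triangleLTGE_distinguished (m + 1) X
  have : DerivedCategory.IsGE ((DerivedCategory.TStructure.t.triangleLTGE (m + 1)).obj X).obj₃ (m + 1) :=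
    inferInstance
  have := isIso_H_mor₁ _ h i (DerivedCategory.isZero_of_isGE _ (m + 1) _ (by lia))
    (DerivedCategory.isZero_of_isGE _ (m + 1) _ (by lia))
  exact ⟨@asIso _ _ _ _ ((H i).map ((DerivedCategory.TStructure.t.triangleLTGE (m + 1)).obj X).mor₁) this⟩

lemma H_truncGE_iso (X : DerivedCategory A) (m i : ℤ) (hi : m ≤ i) :
    Nonempty ((H i).obj X ≅ (H i).obj ((DerivedCategory.TStructure.t.truncGE m).obj X)) := by
  have h := DerivedCategory.TStructure.t.triangleLTGE_distinguished m X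
  have : DerivedCategory.IsLE ((DerivedCategory.TStructure.t.triangleLTGE m).obj X).obj₁ (m - 1) :=
    inferInstance
  have := isIso_H_mor₂ _ h i (DerivedCategory.isZero_of_isLE _ (m - 1) _ (by lia))
    (DerivedCategory.isZero_of_isLE _ (m - 1) _ (by lia))
  exact ⟨@asIso _ _ _ _ ((H i).map ((DerivedCategory.TStructure.t.triangleLTGE m).obj X).mor₂) this⟩

/-- Closure conditions used in dévissage. -/
structure Devissable (Φ : DerivedCategory A → Prop) : Prop where
  iso : ∀ {X Y : DerivedCategory A}, (X ≅ Y) → Φ X → Φ Y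
  zero : ∀ X : DerivedCategory A, IsZero X → Φ X
  shift : ∀ (X : DerivedCategory A) (n : ℤ), Φ X → Φ (X⟦n⟧)
  ext : ∀ T : Triangle (DerivedCategory A), T ∈ distTriang _ → Φ T.obj₁ → Φ T.obj₃ → Φ T.obj₂

lemma Devissable.bounded {Φ : DerivedCategory A → Prop} (hΦ : Devissable Φ)
    (P : ObjectProperty A) [P.IsClosedUnderIsomorphisms]
    (h0 : ∀ M : A, P M → Φ ((DerivedCategory.singleFunctor A 0).obj M))
    (X : DerivedCategory A) (a b : ℤ) (ha : X.IsGE a) (hb : X.IsLE b)
    (hX : ∀ i, a ≤ i → i ≤ b → P ((H i).obj X)) : Φ X := by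
  obtain hab | ⟨k, rfl⟩ : b < a ∨ ∃ k : ℕ, b = a + k := by
    rcases lt_or_ge b a with h | h
    · exact Or.inl h
    · exact Or.inr ⟨(b - a).toNat, by lia⟩
  · exact hΦ.zero X (DerivedCategory.TStructure.t.isZero X b a hab)
  induction k generalizing X with
  | zero =>
    have hb' : X.IsLE a := by simpa using hb
    obtain ⟨M, ⟨e⟩⟩ := DerivedCategory.exists_iso_singleFunctor_obj_of_isGE_of_isLE X a
    have hM : P M := P.prop_of_iso
      ((H a).mapIso e ≪≫ (DerivedCategory.singleFunctorCompHomologyFunctorIso A a).app M)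
      (hX a le_rfl (by lia))
    refine hΦ.iso ?_ (hΦ.shift _ (-a) (h0 M hM))
    exact (((DerivedCategory.singleFunctors A).shiftIso (-a) a 0 (by lia)).app M) ≪≫ e.symm
  | succ k ih =>
    have hb' : X.IsLE (a + k + 1) := by simpa [add_assoc] using hb
    have h := DerivedCategory.TStructure.t.triangleLTGE_distinguished (a + k + 1) X
    refine hΦ.ext _ h (ih _ ?_ ?_ ?_) ?_
    · exact (inferInstance : DerivedCategory.IsGE
        ((DerivedCategory.TStructure.t.truncLT (a + k + 1)).obj X) a)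
    · exact (inferInstance : DerivedCategory.IsLE
        ((DerivedCategory.TStructure.t.truncLT (a + k + 1)).obj X) (a + k))
    · intro i h1 h2
      exact P.prop_of_iso (H_truncLE_iso X (a + k) i h2).some.symm (hX i h1 (by push_cast; lia))
    · have hs : DerivedCategory.IsLE ((DerivedCategory.TStructure.t.truncGE (a + k + 1)).obj X) (a + k + 1) :=
        inferInstance
      obtain ⟨M, ⟨e⟩⟩ := DerivedCategory.exists_iso_singleFunctor_obj_of_isGE_of_isLE
        ((DerivedCategory.TStructure.t.truncGE (a + k + 1)).obj X) (a + k + 1)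
      have hM : P M := P.prop_of_iso
        ((H_truncGE_iso X (a + k + 1) (a + k + 1) le_rfl).some ≪≫ (H (a + k + 1)).mapIso e ≪≫
          (DerivedCategory.singleFunctorCompHomologyFunctorIso A (a + k + 1)).app M)
        (hX _ (by lia) (by push_cast; lia))
      refine hΦ.iso ?_ (hΦ.shift _ (-(a + k + 1)) (h0 M hM))
      exact (((DerivedCategory.singleFunctors A).shiftIso (-(a + k + 1)) (a + k + 1) 0 (by lia)).app M) ≪≫ e.symm

open DerivedCategory.TStructure in
lemma Devissable.isIso {B : Type u'} [Category.{v'} B] [Abelian B] [HasDerivedCategory.{w'} B]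
    {F G : DerivedCategory A ⥤ DerivedCategory B} [F.CommShift ℤ] [G.CommShift ℤ]
    [F.IsTriangulated] [G.IsTriangulated] (η : F ⟶ G) [NatTrans.CommShift η ℤ] :
    Devissable (fun X => IsIso (η.app X)) where
  iso e h := ((MorphismProperty.isomorphisms _).arrow_mk_iso_iff
    (Arrow.isoMk (F.mapIso e) (G.mapIso e) (η.naturality _))).1 h
  zero X hX := ⟨0, (F.map_isZero hX).eq_of_src _ _, (G.map_isZero hX).eq_of_src _ _⟩
  shift X n h := isIso_app_shift η X n h
  ext T hT h₁ h₃ := isIso_app₂ η T hT h₁ h₃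

section wayout

variable {B : Type u'} [Category.{v'} B] [Abelian B] [HasDerivedCategory.{w'} B]
    {F G : DerivedCategory A ⥤ DerivedCategory B} [F.CommShift ℤ] [G.CommShift ℤ]
    [F.IsTriangulated] [G.IsTriangulated] (η : F ⟶ G) [NatTrans.CommShift η ℤ]
    (P : ObjectProperty A) [P.IsClosedUnderIsomorphisms]
    (hη : ∀ M : A, P M → IsIso (η.app ((DerivedCategory.singleFunctor A 0).obj M)))

include hη in
theorem wayOut_GE
    (hF : ∀ n₁ : ℤ, ∃ n₂ : ℤ, ∀ Y : DerivedCategory A, Y.IsGE n₂ → (F.obj Y).IsGE n₁)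
    (hG : ∀ n₁ : ℤ, ∃ n₂ : ℤ, ∀ Y : DerivedCategory A, Y.IsGE n₂ → (G.obj Y).IsGE n₁)
    (X : DerivedCategory A) (a : ℤ) (ha : X.IsGE a) (hX : ∀ i, a ≤ i → P ((H i).obj X)) :
    IsIso (η.app X) := by
  rw [DerivedCategory.isIso_iff]
  intro j
  obtain ⟨m₁, hm₁⟩ := hF (j + 2)
  obtain ⟨m₂, hm₂⟩ := hG (j + 2)
  let m := max m₁ m₂
  let T := (DerivedCategory.TStructure.t.triangleLTGE (m + 1)).obj X
  have hT : T ∈ distTriang _ := DerivedCategory.TStructure.t.triangleLTGE_distinguished (m + 1) X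
  have h3 : DerivedCategory.IsGE T.obj₃ (m + 1) :=
    (inferInstance : DerivedCategory.TStructure.t.IsGE ((DerivedCategory.TStructure.t.triangleLTGE (m + 1)).obj X).obj₃ (m + 1))
  have hF3 := hm₁ _ (DerivedCategory.TStructure.t.isGE_of_ge T.obj₃ m₁ (m + 1) (by lia))
  have hG3 := hm₂ _ (DerivedCategory.TStructure.t.isGE_of_ge T.obj₃ m₂ (m + 1) (by lia))
  have hb : IsIso (η.app T.obj₁) :=
    (Devissable.isIso η).bounded P hη ((DerivedCategory.TStructure.t.truncLT (m + 1)).obj X) a m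
      (inferInstance : DerivedCategory.TStructure.t.IsGE _ a)
      (inferInstance : DerivedCategory.TStructure.t.IsLE _ m)
      (fun i h1 h2 => P.prop_of_iso (H_truncLE_iso X m i h2).some.symm (hX i h1))
  have e1 := isIso_H_mor₁ (F.mapTriangle.obj T) (F.map_distinguished _ hT) j
    (@DerivedCategory.isZero_of_isGE _ _ _ _ _ (j + 2) (j - 1) (by lia) hF3)
    (@DerivedCategory.isZero_of_isGE _ _ _ _ _ (j + 2) j (by lia) hF3)
  have e2 := isIso_H_mor₁ (G.mapTriangle.obj T) (G.map_distinguished _ hT) j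
    (@DerivedCategory.isZero_of_isGE _ _ _ _ _ (j + 2) (j - 1) (by lia) hG3)
    (@DerivedCategory.isZero_of_isGE _ _ _ _ _ (j + 2) j (by lia) hG3)
  have hnat : (DerivedCategory.homologyFunctor B j).map (F.map T.mor₁) ≫
      (DerivedCategory.homologyFunctor B j).map (η.app T.obj₂) =
      (DerivedCategory.homologyFunctor B j).map (η.app T.obj₁) ≫
        (DerivedCategory.homologyFunctor B j).map (G.map T.mor₁) := by
    rw [← Functor.map_comp, ← Functor.map_comp]
    exact congrArg _ (η.naturality T.mor₁)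
  have e1' : IsIso ((DerivedCategory.homologyFunctor B j).map (F.map T.mor₁)) := e1
  have e2' : IsIso ((DerivedCategory.homologyFunctor B j).map (G.map T.mor₁)) := e2
  change IsIso ((DerivedCategory.homologyFunctor B j).map (η.app T.obj₂))
  exact IsIso.of_isIso_fac_left hnat

include hη in
theorem wayOut_LE
    (hF : ∀ n₁ : ℤ, ∃ n₂ : ℤ, ∀ Y : DerivedCategory A, Y.IsLE n₂ → (F.obj Y).IsLE n₁)
    (hG : ∀ n₁ : ℤ, ∃ n₂ : ℤ, ∀ Y : DerivedCategory A, Y.IsLE n₂ → (G.obj Y).IsLE n₁)
    (X : DerivedCategory A) (b : ℤ) (hb : X.IsLE b) (hX : ∀ i, i ≤ b → P ((H i).obj X)) :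
    IsIso (η.app X) := by
  rw [DerivedCategory.isIso_iff]
  intro j
  obtain ⟨m₁, hm₁⟩ := hF (j - 2)
  obtain ⟨m₂, hm₂⟩ := hG (j - 2)
  let m := min m₁ m₂ + 1
  let T := (DerivedCategory.TStructure.t.triangleLTGE m).obj X
  have hT : T ∈ distTriang _ := DerivedCategory.TStructure.t.triangleLTGE_distinguished m X
  have h1' : DerivedCategory.IsLE T.obj₁ (m - 1) :=
    (inferInstance : DerivedCategory.TStructure.t.IsLE ((DerivedCategory.TStructure.t.triangleLTGE m).obj X).obj₁ (m - 1))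
  have hF1 := hm₁ _ (DerivedCategory.TStructure.t.isLE_of_le T.obj₁ (m - 1) m₁ (by lia))
  have hG1 := hm₂ _ (DerivedCategory.TStructure.t.isLE_of_le T.obj₁ (m - 1) m₂ (by lia))
  have hbd : IsIso (η.app T.obj₃) :=
    (Devissable.isIso η).bounded P hη ((DerivedCategory.TStructure.t.truncGE m).obj X) m b
      (inferInstance : DerivedCategory.TStructure.t.IsGE _ m)
      (inferInstance : DerivedCategory.TStructure.t.IsLE _ b)
      (fun i h1 h2 => P.prop_of_iso (H_truncGE_iso X m i h1).some (hX i h2))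
  have e1 := isIso_H_mor₂ (F.mapTriangle.obj T) (F.map_distinguished _ hT) j
    (@DerivedCategory.isZero_of_isLE _ _ _ _ _ (j - 2) j (by lia) hF1)
    (@DerivedCategory.isZero_of_isLE _ _ _ _ _ (j - 2) (j + 1) (by lia) hF1)
  have e2 := isIso_H_mor₂ (G.mapTriangle.obj T) (G.map_distinguished _ hT) j
    (@DerivedCategory.isZero_of_isLE _ _ _ _ _ (j - 2) j (by lia) hG1)
    (@DerivedCategory.isZero_of_isLE _ _ _ _ _ (j - 2) (j + 1) (by lia) hG1)
  have hnat : (DerivedCategory.homologyFunctor B j).map (F.map T.mor₂) ≫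
      (DerivedCategory.homologyFunctor B j).map (η.app T.obj₃) =
      (DerivedCategory.homologyFunctor B j).map (η.app T.obj₂) ≫
        (DerivedCategory.homologyFunctor B j).map (G.map T.mor₂) := by
    rw [← Functor.map_comp, ← Functor.map_comp]
    exact congrArg _ (η.naturality T.mor₂)
  have e1' : IsIso ((DerivedCategory.homologyFunctor B j).map (F.map T.mor₂)) := e1
  have e2' : IsIso ((DerivedCategory.homologyFunctor B j).map (G.map T.mor₂)) := e2
  change IsIso ((DerivedCategory.homologyFunctor B j).map (η.app T.obj₂))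
  exact IsIso.of_isIso_fac_right hnat.symm

include hη in
theorem wayOut_both
    (hF : ∀ n₁ : ℤ, ∃ n₂ : ℤ, ∀ Y : DerivedCategory A, Y.IsGE n₂ → (F.obj Y).IsGE n₁)
    (hF' : ∀ n₁ : ℤ, ∃ n₂ : ℤ, ∀ Y : DerivedCategory A, Y.IsLE n₂ → (F.obj Y).IsLE n₁)
    (hG : ∀ n₁ : ℤ, ∃ n₂ : ℤ, ∀ Y : DerivedCategory A, Y.IsGE n₂ → (G.obj Y).IsGE n₁)
    (hG' : ∀ n₁ : ℤ, ∃ n₂ : ℤ, ∀ Y : DerivedCategory A, Y.IsLE n₂ → (G.obj Y).IsLE n₁)
    (X : DerivedCategory A) (hX : ∀ i, P ((H i).obj X)) :
    IsIso (η.app X) := by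
  refine isIso_app₂ η _ (DerivedCategory.TStructure.t.triangleLTGE_distinguished (0 + 1) X) ?_ ?_
  · exact wayOut_LE η P hη hF' hG' ((DerivedCategory.TStructure.t.truncLT (0 + 1)).obj X) 0
      (inferInstance : DerivedCategory.TStructure.t.IsLE _ 0)
      (fun i h => P.prop_of_iso (H_truncLE_iso X 0 i h).some.symm (hX i))
  · exact wayOut_GE η P hη hF hG ((DerivedCategory.TStructure.t.truncGE (0 + 1)).obj X) (0 + 1)
      (inferInstance : DerivedCategory.TStructure.t.IsGE _ (0 + 1))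
      (fun i h => P.prop_of_iso (H_truncGE_iso X (0 + 1) i h).some (hX i))

end wayout

end derived

section serre

variable {A : Type u} [Category.{v} A] [Abelian A]

lemma five_mid (P : ObjectProperty A) [WSerre.IsWeakSerre P] {X₀ X₁ X₂ X₃ X₄ : A}
    (f₀ : X₀ ⟶ X₁) (f₁ : X₁ ⟶ X₂) (f₂ : X₂ ⟶ X₃) (f₃ : X₃ ⟶ X₄) (w₁ : f₀ ≫ f₁ = 0)
    (w₂ : f₁ ≫ f₂ = 0) (w₃ : f₂ ≫ f₃ = 0) (e₁ : (ShortComplex.mk _ _ w₁).Exact)
    (e₂ : (ShortComplex.mk _ _ w₂).Exact) (e₃ : (ShortComplex.mk _ _ w₃).Exact)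
    (h₀ : P X₀) (h₁ : P X₁) (h₃ : P X₃) (h₄ : P X₄) : P X₂ := by
  let i : cokernel f₀ ⟶ X₂ := cokernel.desc f₀ f₁ w₁
  let p : X₂ ⟶ kernel f₃ := kernel.lift f₃ f₂ w₃
  have hi : Mono i := (ShortComplex.exact_iff_mono_cokernel_desc _).1 e₁
  have hp : Epi p := (ShortComplex.exact_iff_epi_kernel_lift _).1 e₃
  have w : i ≫ p = 0 := by
    rw [← cancel_epi (cokernel.π f₀), ← cancel_mono (kernel.ι f₃)]
    simp [i, p, w₂]
  have hc : P (cokernel f₀) := P.prop_of_isColimit_cokernelCofork (k := CokernelCofork.ofπ _ (cokernel.condition f₀)) (cokernelIsCokernel f₀) h₀ h₁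
  have hk : P (kernel f₃) := P.prop_of_isLimit_kernelFork (k := KernelFork.ofι _ (kernel.condition f₃)) (kernelIsKernel f₃) h₃ h₄
  refine P.prop_X₂_of_shortExact (S := ShortComplex.mk i p w) ⟨?_⟩ hc hk
  rw [ShortComplex.exact_iff_exact_up_to_refinements]
  intro T x hx
  have hx2 : x ≫ f₂ = 0 := by
    have := congrArg (· ≫ kernel.ι f₃) hx
    simpa [p] using this
  obtain ⟨T', π, hπ, y, hy⟩ := e₂.exact_up_to_refinements x hx2
  exact ⟨T', π, hπ, y ≫ cokernel.π f₀, by simpa [i] using hy⟩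

variable [HasDerivedCategory.{w} A]

open DerivedCategory in
lemma cohIn_ext (P : ObjectProperty A) [WSerre.IsWeakSerre P] (T : Triangle (DerivedCategory A))
    (hT : T ∈ distTriang _) (h₁ : WSerre.cohIn P T.obj₁) (h₃ : WSerre.cohIn P T.obj₃) :
    WSerre.cohIn P T.obj₂ := fun n =>
  five_mid P _ _ _ _ _ _ _ (HomologySequence.exact₁ T hT (n - 1) n (by lia))
    (HomologySequence.exact₂ T hT n) (HomologySequence.exact₃ T hT n (n + 1) (by lia))
    (h₃ (n - 1)) (h₁ n) (h₃ n) (h₁ (n + 1))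

lemma cohIn_shift (P : ObjectProperty A) [P.IsClosedUnderIsomorphisms] (X : DerivedCategory A) (n : ℤ)
    (h : WSerre.cohIn P X) : WSerre.cohIn P (X⟦n⟧) := fun i =>
  P.prop_of_iso (((DerivedCategory.homologyFunctor A 0).shiftIso n i (n + i) rfl).app X).symm (h (n + i))

end serre

section exactFunctor

variable {A : Type u} [Category.{v} A] [Abelian A] [HasDerivedCategory.{w} A]
  {B : Type u'} [Category.{v'} B] [Abelian B] [HasDerivedCategory.{w'} B]
  (F : A ⥤ B) [F.Additive] [PreservesFiniteLimits F] [PreservesFiniteColimits F]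

lemma mapDerived_H (X : DerivedCategory A) (i : ℤ) :
    Nonempty ((DerivedCategory.homologyFunctor B i).obj (F.mapDerivedCategory.obj X) ≅
      F.obj ((DerivedCategory.homologyFunctor A i).obj X)) := by
  let K := DerivedCategory.Q.objPreimage X
  let e := DerivedCategory.Q.objObjPreimageIso X
  exact ⟨(DerivedCategory.homologyFunctor B i).mapIso (F.mapDerivedCategory.mapIso e.symm ≪≫
      F.mapDerivedCategoryFactors.app K) ≪≫
    (DerivedCategory.homologyFunctorFactors B i).app _ ≪≫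
    (K.sc i).mapHomologyIso F ≪≫
    F.mapIso (((DerivedCategory.homologyFunctorFactors A i).app K).symm ≪≫
      (DerivedCategory.homologyFunctor A i).mapIso e)⟩

lemma mapDerived_isGE (X : DerivedCategory A) (n : ℤ) (h : X.IsGE n) :
    (F.mapDerivedCategory.obj X).IsGE n := by
  rw [DerivedCategory.isGE_iff]
  intro i hi
  exact (F.map_isZero ((DerivedCategory.isGE_iff X n).1 h i hi)).of_iso (mapDerived_H F X i).some

lemma mapDerived_isLE (X : DerivedCategory A) (n : ℤ) (h : X.IsLE n) :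
    (F.mapDerivedCategory.obj X).IsLE n := by
  rw [DerivedCategory.isLE_iff]
  intro i hi
  exact (F.map_isZero ((DerivedCategory.isLE_iff X n).1 h i hi)).of_iso (mapDerived_H F X i).some

variable {F} {R : DerivedCategory B ⥤ DerivedCategory A} (adj : F.mapDerivedCategory ⊣ R)

include adj in
lemma rightAdjoint_isGE (Y : DerivedCategory B) (n : ℤ) (h : Y.IsGE n) : (R.obj Y).IsGE n := by
  simpa using isGE_rightAdjoint DerivedCategory.TStructure.t DerivedCategory.TStructure.t
    F.mapDerivedCategory R adj 0 (fun X hX => mapDerived_isLE F X 0 hX) Y n h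

theorem isIso_counit_of_GE (X : DerivedCategory B) (a : ℤ) (ha : X.IsGE a)
    (h : ∀ q : ℤ, IsIso (adj.counit.app ((DerivedCategory.singleFunctor B 0).obj
      ((DerivedCategory.homologyFunctor B q).obj X)))) : IsIso (adj.counit.app X) := by
  let := adj.rightAdjointCommShift ℤ
  have := adj.commShift_of_leftAdjoint ℤ
  have := adj.isTriangulated_rightAdjoint
  let P : ObjectProperty B := fun M => IsIso (adj.counit.app ((DerivedCategory.singleFunctor B 0).obj M))
  have : P.IsClosedUnderIsomorphisms := ⟨fun e hM =>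
    (Devissable.isIso adj.counit).iso ((DerivedCategory.singleFunctor B 0).mapIso e) hM⟩
  exact wayOut_GE adj.counit P (fun M hM => hM)
    (fun n₁ => ⟨n₁, fun Y hY => mapDerived_isGE F _ n₁ (rightAdjoint_isGE adj Y n₁ hY)⟩)
    (fun n₁ => ⟨n₁, fun Y hY => hY⟩) X a ha (fun i _ => h i)

theorem isIso_unit_of_GE (Y : DerivedCategory A) (a : ℤ) (ha : Y.IsGE a)
    (h : ∀ q : ℤ, IsIso (adj.unit.app ((DerivedCategory.singleFunctor A 0).obj
      ((DerivedCategory.homologyFunctor A q).obj Y)))) : IsIso (adj.unit.app Y) := by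
  let := adj.rightAdjointCommShift ℤ
  have := adj.commShift_of_leftAdjoint ℤ
  have := adj.isTriangulated_rightAdjoint
  let P : ObjectProperty A := fun M => IsIso (adj.unit.app ((DerivedCategory.singleFunctor A 0).obj M))
  have : P.IsClosedUnderIsomorphisms := ⟨fun e hM =>
    (Devissable.isIso adj.unit).iso ((DerivedCategory.singleFunctor A 0).mapIso e) hM⟩
  exact wayOut_GE adj.unit P (fun M hM => hM)
    (fun n₁ => ⟨n₁, fun Y hY => hY⟩)
    (fun n₁ => ⟨n₁, fun Y hY => rightAdjoint_isGE adj _ n₁ (mapDerived_isGE F Y n₁ hY)⟩) Y a ha (fun i _ => h i)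

theorem equivalence_cohInPlus (A' : ObjectProperty A) [WSerre.IsWeakSerre A']
    (B' : ObjectProperty B) [WSerre.IsWeakSerre B']
    (h2a : ∀ M : A, A' M → B' (F.obj M))
    (h2c : ∀ N : B, B' N → ∃ M : A, A' M ∧ Nonempty (F.obj M ≅ N))
    (h3 : ∀ M : A, A' M → IsIso (adj.unit.app ((DerivedCategory.singleFunctor A 0).obj M))) :
    (∀ Y, WSerre.cohInPlus A' Y → WSerre.cohInPlus B' (F.mapDerivedCategory.obj Y) ∧ IsIso (adj.unit.app Y)) ∧
    (∀ X, WSerre.cohInPlus B' X → WSerre.cohInPlus A' (R.obj X) ∧ IsIso (adj.counit.app X)) := by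
  let := adj.rightAdjointCommShift ℤ
  have := adj.commShift_of_leftAdjoint ℤ
  have := adj.isTriangulated_rightAdjoint
  refine ⟨fun Y hY => ?_, fun X hX => ?_⟩
  · obtain ⟨a, ha⟩ := hY.2
    exact ⟨⟨fun i => B'.prop_of_iso (mapDerived_H F Y i).some.symm (h2a _ (hY.1 i)),
      a, mapDerived_isGE F Y a ha⟩, isIso_unit_of_GE adj Y a ha (fun q => h3 _ (hY.1 q))⟩
  -- objects coming from `A'`
  have hsingle : ∀ N : B, B' N → IsIso (adj.counit.app ((DerivedCategory.singleFunctor B 0).obj N)) ∧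
      WSerre.cohIn A' (R.obj ((DerivedCategory.singleFunctor B 0).obj N)) := by
    intro N hN
    obtain ⟨M, hM, ⟨e⟩⟩ := h2c N hN
    let e' : F.mapDerivedCategory.obj ((DerivedCategory.singleFunctor A 0).obj M) ≅
        (DerivedCategory.singleFunctor B 0).obj N :=
      (F.mapDerivedCategorySingleFunctor 0).app M ≪≫ (DerivedCategory.singleFunctor B 0).mapIso e
    have hu := h3 M hM
    have h1 : IsIso (F.mapDerivedCategory.map (adj.unit.app ((DerivedCategory.singleFunctor A 0).obj M)) ≫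
        adj.counit.app (F.mapDerivedCategory.obj ((DerivedCategory.singleFunctor A 0).obj M))) := by
      simp only [Functor.id_obj]
      exact (adj.left_triangle_components _).symm ▸ inferInstance
    have h2 := IsIso.of_isIso_comp_left
      (F.mapDerivedCategory.map (adj.unit.app ((DerivedCategory.singleFunctor A 0).obj M))) (adj.counit.app _)
    refine ⟨(Devissable.isIso adj.counit).iso e' h2, fun i => ?_⟩
    have hMi : A' ((DerivedCategory.homologyFunctor A i).obj ((DerivedCategory.singleFunctor A 0).obj M)) := by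
      by_cases hi : i = 0
      · subst hi
        exact A'.prop_of_iso ((DerivedCategory.singleFunctorCompHomologyFunctorIso A 0).app M).symm hM
      · refine A'.prop_of_isZero ?_
        rcases lt_or_gt_of_ne hi with h | h
        · exact DerivedCategory.isZero_of_isGE _ 0 i h
        · exact DerivedCategory.isZero_of_isLE _ 0 i h
    exact A'.prop_of_iso ((DerivedCategory.homologyFunctor A i).mapIso
      (@asIso _ _ _ _ _ hu ≪≫ R.mapIso e')) hMi
  obtain ⟨a, ha⟩ := hX.2
  have ha : X.IsGE a := ha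
  refine ⟨⟨fun j => ?_, a, rightAdjoint_isGE adj X a ha⟩,
    isIso_counit_of_GE adj X a ha (fun q => (hsingle _ (hX.1 q)).1)⟩
  have hΦ : Devissable (fun Z => WSerre.cohIn A' (R.obj Z)) :=
    { iso := fun e h i => A'.prop_of_iso ((DerivedCategory.homologyFunctor A i).mapIso (R.mapIso e)) (h i)
      zero := fun Z hZ i => A'.prop_of_isZero (Functor.map_isZero _ (R.map_isZero hZ))
      shift := fun Z n h i => A'.prop_of_iso ((DerivedCategory.homologyFunctor A i).mapIso
        ((R.commShiftIso n).app Z).symm) (cohIn_shift A' _ n h i)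
      ext := fun T hT h1 h3 => cohIn_ext A' _ (R.map_distinguished _ hT) h1 h3 }
  let T := (DerivedCategory.TStructure.t.triangleLTGE (j + 2 + 1)).obj X
  have hT : T ∈ distTriang _ := DerivedCategory.TStructure.t.triangleLTGE_distinguished (j + 2 + 1) X
  have hT3 : (R.obj T.obj₃).IsGE (j + 2 + 1) := rightAdjoint_isGE adj _ _
    (inferInstance : DerivedCategory.TStructure.t.IsGE
      ((DerivedCategory.TStructure.t.triangleLTGE (j + 2 + 1)).obj X).obj₃ (j + 2 + 1))
  have h1 : WSerre.cohIn A' (R.obj T.obj₁) :=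
    hΦ.bounded B' (fun N hN => (hsingle N hN).2) _ a (j + 2)
      (inferInstance : DerivedCategory.TStructure.t.IsGE ((DerivedCategory.TStructure.t.truncLT (j + 2 + 1)).obj X) a)
      (inferInstance : DerivedCategory.TStructure.t.IsLE ((DerivedCategory.TStructure.t.truncLT (j + 2 + 1)).obj X) (j + 2))
      (fun i _ h2 => B'.prop_of_iso (H_truncLE_iso X (j + 2) i h2).some.symm (hX.1 i))
  have e := isIso_H_mor₁ (R.mapTriangle.obj T) (R.map_distinguished _ hT) j
    (@DerivedCategory.isZero_of_isGE _ _ _ _ _ (j + 2 + 1) (j - 1) (by lia) hT3)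
    (@DerivedCategory.isZero_of_isGE _ _ _ _ _ (j + 2 + 1) j (by lia) hT3)
  exact A'.prop_of_iso (@asIso _ _ _ _ _ e) (h1 j)

end exactFunctor

section fiveTerm

variable {A : Type u} [Category.{v} A] [Abelian A] [HasDerivedCategory.{w} A]
  (P : ObjectProperty A) [P.IsClosedUnderIsomorphisms] (h0 : ∃ Z : A, IsZero Z ∧ P Z)
  (hP : ∀ S : ComposableArrows A 4, S.Exact → P (S.obj 0) → P (S.obj 1) → P (S.obj 3) → P (S.obj 4) → P (S.obj 2))

include hP in
lemma five_hP {X₀ X₁ X₂ X₃ X₄ : A}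
    (f₀ : X₀ ⟶ X₁) (f₁ : X₁ ⟶ X₂) (f₂ : X₂ ⟶ X₃) (f₃ : X₃ ⟶ X₄) (w₁ : f₀ ≫ f₁ = 0)
    (w₂ : f₁ ≫ f₂ = 0) (w₃ : f₂ ≫ f₃ = 0) (e₁ : (ShortComplex.mk _ _ w₁).Exact)
    (e₂ : (ShortComplex.mk _ _ w₂).Exact) (e₃ : (ShortComplex.mk _ _ w₃).Exact)
    (h₀ : P X₀) (h₁ : P X₁) (h₃ : P X₃) (h₄ : P X₄) : P X₂ :=
  hP (ComposableArrows.mk₄ f₀ f₁ f₂ f₃)
    (ComposableArrows.exact_of_δ₀ (ComposableArrows.exact₂_mk _ w₁ e₁)
      (ComposableArrows.exact_of_δ₀ (ComposableArrows.exact₂_mk _ w₂ e₂)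
        (ComposableArrows.exact₂_mk _ w₃ e₃))) h₀ h₁ h₃ h₄

include h0 hP in
open DerivedCategory in
theorem fiveTerm_triangulated :
    ObjectProperty.IsTriangulated (fun X : DerivedCategory A => ∀ n : ℤ, P ((DerivedCategory.homologyFunctor A n).obj X)) ∧
    ObjectProperty.IsStableUnderRetracts (fun X : DerivedCategory A => ∀ n : ℤ, P ((DerivedCategory.homologyFunctor A n).obj X)) := by
  obtain ⟨Z, hZ, hPZ⟩ := h0
  have hz : ∀ W : A, IsZero W → P W := fun W hW => P.prop_of_iso (hZ.iso hW) hPZ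
  constructor
  · exact
      { exists_zero := ⟨0, isZero_zero _, fun n => hz _ (Functor.map_isZero _ (isZero_zero _))⟩
        isStableUnderShiftBy := fun a => ⟨fun X hX n => cohIn_shift P X a hX n⟩
        ext₂' := fun T hT h₁ h₃ => ObjectProperty.le_isoClosure _ _ (fun n => five_hP P hP _ _ _ _ _ _ _
          (HomologySequence.exact₁ T hT (n - 1) n (by lia))
          (HomologySequence.exact₂ T hT n) (HomologySequence.exact₃ T hT n (n + 1) (by lia))
          (h₃ (n - 1)) (h₁ n) (h₃ n) (h₁ (n + 1))) }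
  · refine ⟨fun {Y X} r hX n => ?_⟩
    let i : (homologyFunctor A n).obj Y ⟶ (homologyFunctor A n).obj X := (homologyFunctor A n).map r.i
    let p : (homologyFunctor A n).obj X ⟶ (homologyFunctor A n).obj Y := (homologyFunctor A n).map r.r
    have hip : i ≫ p = 𝟙 _ := by simp [i, p, ← Functor.map_comp]
    have hi : Mono i := mono_of_mono_fac hip
    have w : i ≫ (𝟙 _ - p ≫ i) = 0 := by
      rw [Preadditive.comp_sub, ← Category.assoc, hip]; simp
    refine five_hP P hP (0 : (0 : A) ⟶ 0) (0 : (0 : A) ⟶ _) i (𝟙 _ - p ≫ i) zero_comp zero_comp w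
      (ShortComplex.exact_of_isZero_X₂ _ (isZero_zero A))
      ((ShortComplex.exact_iff_mono _ rfl).2 hi) ?_ (hz _ (isZero_zero A)) (hz _ (isZero_zero A)) (hX n) (hX n)
    exact ShortComplex.exact_of_f_is_kernel _ (KernelFork.IsLimit.ofι' i w (fun k hk => ⟨k ≫ p, by
      rw [Preadditive.comp_sub, Category.comp_id, sub_eq_zero] at hk
      rw [Category.assoc, ← hk]⟩))

end fiveTerm

end Groth.Agent.H5WayOut
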