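import Mathlib

/-! The stupid truncation in degrees at least `m`, as a subcomplex. -/

universe v u
open CategoryTheory Limits HomologicalComplex

namespace Groth.Agent.H7StupidGE

variable {C : Type u} [Category.{v} C] [Abelian C] (K : CochainComplex C ℤ) (m : ℤ)

open ZeroObject in
/-- terms -/
noncomputable def X (k : ℤ) : C := if m ≤ k then K.X k else 0

variable {K m} in
lemma X_eq {k : ℤ} (h : m ≤ k) : X K m k = K.X k := if_pos h

variable {K m} in
lemma isZero_X {k : ℤ} (h : k < m) : IsZero (X K m k) := by
  unfold X; rw [if_neg (by omega)]; exact isZero_zero C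

/-- the inclusion of terms -/
noncomputable def incl (k : ℤ) : X K m k ⟶ K.X k := if h : m ≤ k then eqToHom (X_eq h) else 0

variable {K m} in
lemma incl_isIso {k : ℤ} (h : m ≤ k) : IsIso (incl K m k) := by
  unfold incl; rw [dif_pos h]; infer_instance

instance mono_incl (k : ℤ) : Mono (incl K m k) := by
  by_cases h : m ≤ k
  · have := incl_isIso (K := K) h; infer_instance
  · exact ⟨fun a b _ => (isZero_X (by omega)).eq_of_tgt _ _⟩

/-- differentials -/
noncomputable def d (i j : ℤ) : X K m i ⟶ X K m j :=
  if hj : m ≤ j then incl K m i ≫ K.d i j ≫ eqToHom (X_eq hj).symm else 0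

lemma d_incl (i j : ℤ) (hij : i + 1 = j) : d K m i j ≫ incl K m j = incl K m i ≫ K.d i j := by
  by_cases hj : m ≤ j
  · unfold d incl
    simp [hj]
  · exact (isZero_X (by omega)).eq_of_src _ _

/-- the truncation -/
noncomputable def trunc : CochainComplex C ℤ where
  X := X K m
  d := d K m
  shape i j h := by
    unfold d
    split
    · rw [K.shape i j h, zero_comp, comp_zero]
    · rfl
  d_comp_d' i j k hij hjk := by
    rw [← cancel_mono (incl K m k), Category.assoc, d_incl K m j k hjk, ← Category.assoc, d_incl K m i j hij,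
      Category.assoc, K.d_comp_d, comp_zero, zero_comp]

/-- the inclusion -/
noncomputable def ι : trunc K m ⟶ K where
  f := incl K m
  comm' i j hij := (d_incl K m i j hij).symm

variable {K m}

lemma isZero_below {k : ℤ} (h : k < m) : IsZero ((trunc K m).X k) := isZero_X h

lemma homologyMap_iso {k : ℤ} (hk : m < k) : IsIso (homologyMap (ι K m) k) := by
  rw [← quasiIsoAt_iff_isIso_homologyMap, quasiIsoAt_iff' _ (k - 1) k (k + 1) (by simp) (by simp)]
  have : IsIso ((shortComplexFunctor' C (ComplexShape.up ℤ) (k - 1) k (k + 1)).map (ι K m)).τ₂ := incl_isIso (by omega)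
  have : Epi ((shortComplexFunctor' C (ComplexShape.up ℤ) (k - 1) k (k + 1)).map (ι K m)).τ₁ :=
    have := incl_isIso (K := K) (show m ≤ k - 1 by omega)
    (inferInstance : Epi (incl K m (k - 1)))
  have : Mono ((shortComplexFunctor' C (ComplexShape.up ℤ) (k - 1) k (k + 1)).map (ι K m)).τ₃ := mono_incl K m (k + 1)
  exact ShortComplex.quasiIso_of_epi_of_isIso_of_mono _

lemma homologyMap_epi : Epi (homologyMap (ι K m) m) := by
  let φ := (shortComplexFunctor C (ComplexShape.up ℤ) m).map (ι K m)
  have : IsIso φ.τ₂ := incl_isIso le_rfl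
  have : Mono φ.τ₃ := mono_incl K m _
  have h : ((K.sc m).iCycles ≫ inv φ.τ₂) ≫ ((trunc K m).sc m).g = 0 := by
    rw [← cancel_mono φ.τ₃, zero_comp, Category.assoc]
    erw [← φ.comm₂₃]
    erw [Category.assoc, IsIso.inv_hom_id_assoc]
    exact (K.sc m).iCycles_g
  have : Epi (ShortComplex.cyclesMap φ) := by
    have e : ((trunc K m).sc m).liftCycles _ h ≫ ShortComplex.cyclesMap φ = 𝟙 _ := by
      rw [← cancel_mono (K.sc m).iCycles, Category.assoc]
      erw [ShortComplex.cyclesMap_i, ShortComplex.liftCycles_i_assoc, Category.assoc, IsIso.inv_hom_id, Category.comp_id]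
      exact (Category.id_comp _).symm
    exact epi_of_epi_fac e
  exact ShortComplex.epi_homologyMap_of_epi_cyclesMap (φ := φ)

end Groth.Agent.H7StupidGE
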