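/-
Pseudo-coherent objects of the derived category of a ring.
-/
import Mathlib
import Groth.Prelude.Def_DRing2
import Groth.Prelude.Def_DDual2
import Groth.Agent.Lib.H5DTen
import Groth.Agent.Lib.H5Perf
import Groth.Agent.Lib.H5Amp
import Groth.Agent.Lib.H7StupidGE

universe u v w

open CategoryTheory Limits Pretriangulated HomologicalComplex Groth.Agent
open scoped ZeroObject

attribute [local instance] HasDerivedCategory.standard

namespace Groth.Agent.PseudoCoherentRing


variable {A : Type u} [CommRing A]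

/-- isomorphism on cohomology above `m`, surjective in degree `m` -/
def MI (m : ℤ) {K L : Dual.D A} (α : K ⟶ L) : Prop :=
  (∀ i : ℤ, m < i → IsIso ((DerivedCategory.homologyFunctor (ModuleCat.{u} A) i).map α)) ∧
    Epi ((DerivedCategory.homologyFunctor (ModuleCat.{u} A) m).map α)

/-- cohomology vanishes in degrees `≥ m` -/
def Vanish (m : ℤ) (K : Dual.D A) : Prop :=
  ∀ i, m ≤ i → IsZero ((DerivedCategory.homologyFunctor (ModuleCat.{u} A) i).obj K)

theorem mI_iff (T : Triangle (Dual.D A)) (hT : T ∈ distTriang _) (m : ℤ) :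
    MI m T.mor₁ ↔ Vanish m T.obj₃ := by
  have hepi := fun i => DerivedCategory.HomologySequence.epi_homologyMap_mor₁_iff T hT i
  have hmono := fun i => DerivedCategory.HomologySequence.mono_homologyMap_mor₁_iff T hT i (i + 1) rfl
  constructor
  · intro h i hi
    have he : Epi ((DerivedCategory.homologyFunctor (ModuleCat.{u} A) i).map T.mor₁) := by
      rcases hi.eq_or_lt with rfl | hlt
      · exact h.2
      · have := h.1 i hlt; infer_instance
    have hm : Mono ((DerivedCategory.homologyFunctor (ModuleCat.{u} A) (i + 1)).map T.mor₁) := by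
      have := h.1 (i + 1) (by omega); infer_instance
    exact (DerivedCategory.HomologySequence.exact₃ T hT i (i + 1)).isZero_X₂ ((hepi i).1 he) ((hmono i).1 hm)
  · intro h
    have he : ∀ i, m ≤ i → Epi ((DerivedCategory.homologyFunctor (ModuleCat.{u} A) i).map T.mor₁) := fun i hi =>
      (hepi i).2 ((h i hi).eq_of_tgt _ _)
    refine ⟨fun i hi => ?_, he m le_rfl⟩
    have hm : Mono ((DerivedCategory.homologyFunctor (ModuleCat.{u} A) (i - 1 + 1)).map T.mor₁) :=
      (hmono (i - 1)).2 ((h (i - 1) (by omega)).eq_of_src _ _)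
    rw [show i - 1 + 1 = i by omega] at hm
    have := he i hi.le
    exact isIso_of_mono_of_epi _

theorem MI.comp {m : ℤ} {K L M : Dual.D A} {α : K ⟶ L} {β : L ⟶ M} (h : MI m α) (h' : MI m β) :
    MI m (α ≫ β) := by
  refine ⟨fun i hi => ?_, ?_⟩
  · have := h.1 i hi; have := h'.1 i hi
    rw [Functor.map_comp]; infer_instance
  · have := h.2; have := h'.2
    rw [Functor.map_comp]; infer_instance

theorem mI_of_isIso (m : ℤ) {K L : Dual.D A} (α : K ⟶ L) [IsIso α] : MI m α :=
  ⟨fun _ _ => inferInstance, inferInstance⟩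

theorem MI.mono {m m' : ℤ} {K L : Dual.D A} {α : K ⟶ L} (h : MI m α) (hm : m ≤ m') : MI m' α := by
  refine ⟨fun i hi => h.1 i (by omega), ?_⟩
  rcases hm.eq_or_lt with rfl | hlt
  · exact h.2
  · have := h.1 m' hlt; infer_instance

theorem mI_shift {m : ℤ} {K L : Dual.D A} {α : K ⟶ L} (h : MI m α) (n m' : ℤ) (hm : m' + n = m) :
    MI m' (α⟦n⟧') := by
  refine ⟨fun i hi => ?_, ?_⟩
  · have := h.1 (i + n) (by omega)
    exact ((MorphismProperty.isomorphisms _).arrow_mk_iso_iff (((Functor.mapArrowFunctor _ _).mapIso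
      ((DerivedCategory.homologyFunctor (ModuleCat.{u} A) 0).shiftIso n i (i + n) (by omega))).app (Arrow.mk α))).2 this
  · have := h.2
    exact ((MorphismProperty.epimorphisms _).arrow_mk_iso_iff (((Functor.mapArrowFunctor _ _).mapIso
      ((DerivedCategory.homologyFunctor (ModuleCat.{u} A) 0).shiftIso n m' m (by omega))).app (Arrow.mk α))).2 this

theorem isPseudo_iff (m : ℤ) (K : Dual.D A) : DRing.IsPseudoCoherent A m K ↔
    ∃ (E : DRing.Cx A) (a b : ℤ) (α : DRing.toD E ⟶ K),
      DRing.VanishesOutside E a b ∧ DRing.TermwiseFiniteFree E ∧ MI m α :=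
  Iff.rfl

theorem isPseudo_of_mI {m : ℤ} {K L : Dual.D A} {β : K ⟶ L} (hβ : MI m β)
    (h : DRing.IsPseudoCoherent A m K) : DRing.IsPseudoCoherent A m L := by
  obtain ⟨E, a, b, α, h1, h2, h3⟩ := (isPseudo_iff m K).1 h
  exact (isPseudo_iff m L).2 ⟨E, a, b, α ≫ β, h1, h2, MI.comp h3 hβ⟩

theorem isPseudo_of_iso {m : ℤ} {K L : Dual.D A} (e : K ≅ L) (h : DRing.IsPseudoCoherent A m K) :
    DRing.IsPseudoCoherent A m L :=
  isPseudo_of_mI (mI_of_isIso m e.hom) h

theorem isPseudo_mono {m m' : ℤ} {K : Dual.D A} (h : DRing.IsPseudoCoherent A m K) (hm : m ≤ m') :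
    DRing.IsPseudoCoherent A m' K := by
  obtain ⟨E, a, b, α, h1, h2, h3⟩ := (isPseudo_iff m K).1 h
  exact (isPseudo_iff m' K).2 ⟨E, a, b, α, h1, h2, h3.mono hm⟩

theorem ff_shift {E : DRing.Cx A} {a b : ℤ} (h1 : DRing.VanishesOutside E a b) (h2 : DRing.TermwiseFiniteFree E)
    (n : ℤ) : DRing.VanishesOutside (E⟦n⟧) (a - n) (b - n) ∧ DRing.TermwiseFiniteFree (E⟦n⟧) :=
  ⟨fun i hi => h1 (i + n) (by omega), fun i => h2 (i + n)⟩

theorem isPseudo_shift {m : ℤ} {K : Dual.D A} (h : DRing.IsPseudoCoherent A m K) (n m' : ℤ) (hm : m' + n = m) :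
    DRing.IsPseudoCoherent A m' (K⟦n⟧) := by
  obtain ⟨E, a, b, α, h1, h2, h3⟩ := (isPseudo_iff m K).1 h
  exact (isPseudo_iff m' _).2 ⟨E⟦n⟧, a - n, b - n, ((DerivedCategory.Q.commShiftIso n).app E).hom ≫ α⟦n⟧',
    (ff_shift h1 h2 n).1, (ff_shift h1 h2 n).2, MI.comp (mI_of_isIso _ _) (mI_shift h3 n m' hm)⟩

theorem ff_trunc {E : DRing.Cx A} {a b : ℤ} (h1 : DRing.VanishesOutside E a b) (h2 : DRing.TermwiseFiniteFree E)
    (k : ℤ) : DRing.VanishesOutside (H7StupidGE.trunc E k) k b ∧
      DRing.TermwiseFiniteFree (H7StupidGE.trunc E k) := by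
  constructor
  · intro i hi
    by_cases h : k ≤ i
    · exact (h1 i (by omega)).of_iso (eqToIso (H7StupidGE.X_eq h))
    · exact H7StupidGE.isZero_below (by omega)
  · intro i
    by_cases h : k ≤ i
    · have := (h2 i).1; have := (h2 i).2
      let e : (H7StupidGE.trunc E k).X i ≃ₗ[A] E.X i := (eqToIso (H7StupidGE.X_eq h)).toLinearEquiv
      exact ⟨Module.Finite.equiv e.symm, Module.Free.of_equiv e.symm⟩
    · have : Subsingleton ((H7StupidGE.trunc E k).X i) :=
        ModuleCat.subsingleton_of_isZero (H7StupidGE.isZero_below (by omega))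
      exact ⟨inferInstance, inferInstance⟩

theorem mI_trunc (E : DRing.Cx A) (k : ℤ) : MI k (DerivedCategory.Q.map (H7StupidGE.ι E k)) := by
  refine ⟨fun i hi => (NatIso.isIso_map_iff (DerivedCategory.homologyFunctorFactors _ i) _).2
    (H7StupidGE.homologyMap_iso hi), ?_⟩
  exact ((MorphismProperty.epimorphisms _).arrow_mk_iso_iff (((Functor.mapArrowFunctor _ _).mapIso
    (DerivedCategory.homologyFunctorFactors _ k)).app (Arrow.mk (H7StupidGE.ι E k)))).2
      H7StupidGE.homologyMap_epi

theorem ff_proj {E : DRing.Cx A} {a b : ℤ} (h1 : DRing.VanishesOutside E a b) (h2 : DRing.TermwiseFiniteFree E) :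
    H5Amp.Proj E a b :=
  ⟨h1, fun i => have := (h2 i).2; inferInstance⟩

theorem ff_cone {E F : DRing.Cx A} {a b c d : ℤ} (g : E ⟶ F)
    (hE : DRing.VanishesOutside E a b) (hE' : DRing.TermwiseFiniteFree E)
    (hF : DRing.VanishesOutside F c d) (hF' : DRing.TermwiseFiniteFree F) :
    DRing.VanishesOutside (CochainComplex.mappingCone g) (min (a - 1) c) (max (b - 1) d) ∧
      DRing.TermwiseFiniteFree (CochainComplex.mappingCone g) := by
  constructor
  · intro i hi
    rw [CochainComplex.mappingCone.isZero_X_iff]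
    exact ⟨hE (i + 1) (by omega), hF i (by omega)⟩
  · intro i
    have := (hE' (i + 1)).1; have := (hE' (i + 1)).2; have := (hF' i).1; have := (hF' i).2
    let e : (CochainComplex.mappingCone g).X i ≃ₗ[A] (E.X (i + 1) × F.X i) :=
      ((HomologicalComplex.homotopyCofiber.XIsoBiprod g i (i + 1) rfl) ≪≫
        ModuleCat.biprodIsoProd _ _).toLinearEquiv
    exact ⟨Module.Finite.equiv e.symm, Module.Free.of_equiv e.symm⟩

theorem isPseudo₃ (T : Triangle (Dual.D A)) (hT : T ∈ distTriang _) {m : ℤ}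
    (h₁ : DRing.IsPseudoCoherent A (m + 1) T.obj₁) (h₂ : DRing.IsPseudoCoherent A m T.obj₂) :
    DRing.IsPseudoCoherent A m T.obj₃ := by
  obtain ⟨R₁, a₁, b₁, α₁, hR₁, hR₁', hα₁⟩ := (isPseudo_iff _ _).1 h₁
  obtain ⟨P₂, a₂, b₂, b, hP₂, hP₂', hb⟩ := (isPseudo_iff _ _).1 h₂
  let P₁ := H7StupidGE.trunc R₁ (m + 1)
  obtain ⟨hP₁, hP₁'⟩ := ff_trunc hR₁ hR₁' (m + 1)
  let a := DerivedCategory.Q.map (H7StupidGE.ι R₁ (m + 1)) ≫ α₁
  have ha : MI (m + 1) a := MI.comp (mI_trunc R₁ (m + 1)) hα₁
  obtain ⟨Cb, g, δ, hTb⟩ := distinguished_cocone_triangle b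
  have hCb : Vanish m Cb := (mI_iff _ hTb m).1 hb
  have : DerivedCategory.IsLE Cb (m + 1 - 1) := (DerivedCategory.isLE_iff _ _).2 fun i hi => hCb i (by omega)
  have h0 : (a ≫ T.mor₁) ≫ g = 0 := (ff_proj hP₁ hP₁').hom_eq_zero _
  obtain ⟨l, hl⟩ := Triangle.coyoneda_exact₂ _ hTb (a ≫ T.mor₁) h0
  have := (ff_proj hP₁ hP₁').kproj
  obtain ⟨l', hl'⟩ := H5DTen.surj_of_kproj (K := P₁) l
  have hcomm : DerivedCategory.Q.map l' ≫ b = a ≫ T.mor₁ := by rw [hl']; exact hl.symm
  obtain ⟨Cc, vc, wc, hc⟩ := distinguished_cocone_triangle (a ≫ T.mor₁)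
  obtain ⟨Ca, va, wa, hTa⟩ := distinguished_cocone_triangle a
  have hTl : DerivedCategory.Q.mapTriangle.obj (CochainComplex.mappingCone.triangle l') ∈ distTriang _ :=
    (DerivedCategory.mem_distTriang_iff _).2 ⟨_, _, _, ⟨Iso.refl _⟩⟩
  let o₁ := Triangulated.someOctahedron (rfl : a ≫ T.mor₁ = _) hTa hT hc
  let o₂ := Triangulated.someOctahedron hcomm hTl hTb hc
  have hCa : Vanish (m + 1) Ca := (mI_iff _ hTa (m + 1)).1 ha
  have h1 : MI m o₁.triangle.mor₂ := by
    have he : ∀ k, m ≤ k → Epi ((DerivedCategory.homologyFunctor (ModuleCat.{u} A) k).map o₁.triangle.mor₂) :=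
      fun k hk => (DerivedCategory.HomologySequence.epi_homologyMap_mor₂_iff _ o₁.mem k (k + 1) rfl).2
        ((hCa (k + 1) (by omega)).eq_of_tgt _ _)
    refine ⟨fun k hk => ?_, he m le_rfl⟩
    have := he k hk.le
    have hm : Mono ((DerivedCategory.homologyFunctor (ModuleCat.{u} A) k).map o₁.triangle.mor₂) :=
      (DerivedCategory.HomologySequence.mono_homologyMap_mor₂_iff _ o₁.mem k).2
      ((hCa k (by omega)).eq_of_src _ _)
    exact @isIso_of_mono_of_epi _ _ _ _ _ _ hm (he k hk.le)
  have h2 : MI m o₂.triangle.mor₁ := (mI_iff _ o₂.mem m).2 hCb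
  exact (isPseudo_iff m _).2 ⟨CochainComplex.mappingCone l', _, _, o₂.triangle.mor₁ ≫ o₁.triangle.mor₂,
    (ff_cone l' hP₁ hP₁' hP₂ hP₂').1, (ff_cone l' hP₁ hP₁' hP₂ hP₂').2, MI.comp h2 h1⟩

theorem isPseudo₂ (T : Triangle (Dual.D A)) (hT : T ∈ distTriang _) {m : ℤ}
    (h₁ : DRing.IsPseudoCoherent A m T.obj₁) (h₃ : DRing.IsPseudoCoherent A m T.obj₃) :
    DRing.IsPseudoCoherent A m T.obj₂ :=
  isPseudo₃ T.invRotate (inv_rot_of_distTriang _ hT) (isPseudo_shift h₃ (-1) (m + 1) (by omega)) h₁

theorem isPseudo₁ (T : Triangle (Dual.D A)) (hT : T ∈ distTriang _) {m : ℤ}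
    (h₂ : DRing.IsPseudoCoherent A (m + 1) T.obj₂) (h₃ : DRing.IsPseudoCoherent A m T.obj₃) :
    DRing.IsPseudoCoherent A (m + 1) T.obj₁ :=
  isPseudo₂ T.invRotate (inv_rot_of_distTriang _ hT) (isPseudo_shift h₃ (-1) (m + 1) (by omega)) h₂

theorem vanish_single (M : ModuleCat.{u} A) {m : ℤ} (hm : 0 < m) : Vanish m (Dual.inD A M) := fun i hi => by
  have : DerivedCategory.IsLE (Dual.inD A M) 0 :=
    (inferInstance : DerivedCategory.IsLE ((DerivedCategory.singleFunctor (ModuleCat.{u} A) 0).obj M) 0)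
  exact DerivedCategory.isZero_of_isLE _ 0 i (by omega)

theorem isPseudo_of_vanish {m : ℤ} {K : Dual.D A} (h : Vanish m K) : DRing.IsPseudoCoherent A m K := by
  have hz : IsZero (0 : DRing.Cx A) := isZero_zero _
  refine (isPseudo_iff m K).2 ⟨0, 0, 0, 0, fun i _ => (HomologicalComplex.eval _ _ i).map_isZero hz,
    fun i => ?_, fun i hi => ?_, ?_⟩
  · have : Subsingleton ((0 : DRing.Cx A).X i) :=
      ModuleCat.subsingleton_of_isZero ((HomologicalComplex.eval _ _ i).map_isZero hz)
    exact ⟨inferInstance, inferInstance⟩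
  · exact ((DerivedCategory.homologyFunctor (ModuleCat.{u} A) i).map_isZero
      (DerivedCategory.Q.map_isZero hz)).isIso (h i (by omega)) _
  · exact ⟨fun a b _ => (h m le_rfl).eq_of_src _ _⟩

/-- pseudo-coherence descends to the summands of an object whose summands are bounded above -/
theorem isPseudo_summand (X Y : Dual.D A) [HasBinaryBiproduct X Y]
    (h : ∀ m, DRing.IsPseudoCoherent A m (X ⊞ Y)) (b : ℤ) (hX : Vanish b X) (hY : Vanish b Y) (m : ℤ) :
    DRing.IsPseudoCoherent A m X ∧ DRing.IsPseudoCoherent A m Y := by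
  suffices hs : ∀ n : ℕ, DRing.IsPseudoCoherent A (b - n) X ∧ DRing.IsPseudoCoherent A (b - n) Y by
    obtain ⟨hx, hy⟩ := hs (b - m).toNat
    exact ⟨isPseudo_mono hx (by omega), isPseudo_mono hy (by omega)⟩
  intro n
  induction n with
  | zero => simpa using And.intro (isPseudo_of_vanish hX) (isPseudo_of_vanish hY)
  | succ n ih =>
    refine ⟨?_, ?_⟩
    · refine isPseudo₃ _ (binaryBiproductTriangle_distinguished Y X) (isPseudo_mono ih.2 (by omega)) ?_
      exact isPseudo_of_iso (biprod.braiding X Y) (h _)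
    · exact isPseudo₃ _ (binaryBiproductTriangle_distinguished X Y) (isPseudo_mono ih.1 (by omega)) (h _)

/-- cohomology of bounded objects -/
theorem vanish_Q {E : DRing.Cx A} {b m : ℤ} (h : ∀ i, b < i → IsZero (E.X i)) (hm : b < m) :
    Vanish m (DRing.toD E) := fun i hi => by
  refine IsZero.of_iso ?_ ((DerivedCategory.homologyFunctorFactors _ i).app E)
  exact ((exactAt_iff_isZero_homology _ _).1 (ShortComplex.exact_of_isZero_X₂ _ (h i (by omega))))

theorem isPseudo_Q {E : DRing.Cx A} {a b : ℤ} (h1 : DRing.VanishesOutside E a b) (h2 : DRing.TermwiseFiniteFree E)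
    (m : ℤ) : DRing.IsPseudoCoherent A m (DRing.toD E) :=
  (isPseudo_iff m _).2 ⟨E, a, b, 𝟙 _, h1, h2, mI_of_isIso m _⟩

theorem ff_single (M : ModuleCat.{u} A) [Module.Finite A M] [Module.Free A M] :
    DRing.VanishesOutside ((HomologicalComplex.single (ModuleCat.{u} A) (ComplexShape.up ℤ) 0).obj M) 0 0 ∧
      DRing.TermwiseFiniteFree ((HomologicalComplex.single (ModuleCat.{u} A) (ComplexShape.up ℤ) 0).obj M) := by
  refine ⟨fun i hi => HomologicalComplex.isZero_single_obj_X _ _ _ _ (by omega), fun i => ?_⟩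
  by_cases h : i = 0
  · subst h
    let e := (HomologicalComplex.singleObjXSelf (ComplexShape.up ℤ) (0 : ℤ) M).toLinearEquiv
    exact ⟨Module.Finite.equiv e.symm, Module.Free.of_equiv e.symm⟩
  · have : Subsingleton (((HomologicalComplex.single (ModuleCat.{u} A) (ComplexShape.up ℤ) 0).obj M).X i) :=
      ModuleCat.subsingleton_of_isZero (HomologicalComplex.isZero_single_obj_X _ _ _ _ h)
    exact ⟨inferInstance, inferInstance⟩

theorem isPseudo_inD (M : ModuleCat.{u} A) [Module.Finite A M] [Module.Free A M] (m : ℤ) :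
    DRing.IsPseudoCoherent A m (Dual.inD A M) :=
  isPseudo_of_iso ((DerivedCategory.singleFunctorIsoCompQ (ModuleCat.{u} A) 0).app M).symm
    (isPseudo_Q (ff_single M).1 (ff_single M).2 m)

/-- perfect objects are pseudo-coherent -/
theorem isPseudo_of_isPerfect {K : Dual.D A} (hK : DRing.IsPerfect A K) (m : ℤ) :
    DRing.IsPseudoCoherent A m K := by
  let P : ObjectProperty (Dual.D A) := fun K => (∀ m, DRing.IsPseudoCoherent A m K) ∧ ∃ b, Vanish b K
  have : P.IsClosedUnderIsomorphisms := ⟨fun e h => ⟨fun m => isPseudo_of_iso e (h.1 m), h.2.choose,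
    fun i hi => (h.2.choose_spec i hi).of_iso ((DerivedCategory.homologyFunctor _ i).mapIso e.symm)⟩⟩
  refine (H5Perf.perfect_induction P ⟨fun m => isPseudo_inD (ModuleCat.of A A) m, 1, vanish_single (ModuleCat.of A A) one_pos⟩
    (fun K n h => ⟨fun m => isPseudo_shift (h.1 (m + n)) n m rfl, h.2.choose - n, fun i hi => ?_⟩)
    (fun T hT h1 h3 => ⟨fun m => isPseudo₂ T hT (h1.1 m) (h3.1 m), max h1.2.choose h3.2.choose, fun i hi => ?_⟩)
    (fun X Y _ h => ?_) K hK).1 m
  · exact (h.2.choose_spec (i + n) (by omega)).of_iso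
      (((DerivedCategory.homologyFunctor (ModuleCat.{u} A) 0).shiftIso n i (i + n) (by omega)).app K)
  · exact (DerivedCategory.HomologySequence.exact₂ T hT i).isZero_X₂
      ((h1.2.choose_spec i ((le_max_left _ _).trans hi)).eq_of_src _ _)
      ((h3.2.choose_spec i ((le_max_right _ _).trans hi)).eq_of_tgt _ _)
  · obtain ⟨b, hb⟩ := h.2
    have hX : Vanish b X := fun i hi => by
      refine IsZero.of_mono ((DerivedCategory.homologyFunctor (ModuleCat.{u} A) i).map (biprod.inl : X ⟶ X ⊞ Y)) (hb i hi)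
    have hY : Vanish b Y := fun i hi => by
      refine IsZero.of_mono ((DerivedCategory.homologyFunctor (ModuleCat.{u} A) i).map (biprod.inr : Y ⟶ X ⊞ Y)) (hb i hi)
    exact ⟨fun m => (isPseudo_summand X Y h.1 b hX hY m).1, b, hX⟩

/-- element form of exactness of the mapping cone in degree `j` -/
def Ex {E K : DRing.Cx A} (f : E ⟶ K) (j : ℤ) : Prop :=
  ∀ (e : E.X (j + 1)) (x : K.X j), (E.d (j + 1) (j + 2)).hom e = 0 → (f.f (j + 1)).hom e = (K.d j (j + 1)).hom x →
    ∃ (e' : E.X j) (x' : K.X (j - 1)), (E.d j (j + 1)).hom e' = e ∧ (f.f j).hom e' = x + (K.d (j - 1) j).hom x'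

section cone

open CochainComplex

variable {E K : DRing.Cx A} (f : E ⟶ K)

/-- first component -/
noncomputable abbrev p₁ (i j : ℤ) (h : i + 1 = j) : (mappingCone f).X i →ₗ[A] E.X j :=
  ((mappingCone.fst f).1.v i j h).hom

/-- second component -/
noncomputable abbrev p₂ (i : ℤ) : (mappingCone f).X i →ₗ[A] K.X i :=
  ((mappingCone.snd f).v i i (add_zero i)).hom

/-- the element with the given components -/
noncomputable def mk' (i j : ℤ) (h : i + 1 = j) : (E.X j × K.X i) →ₗ[A] (mappingCone f).X i :=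
  ((mappingCone.inl f).v j i (by omega)).hom.coprod ((mappingCone.inr f).f i).hom

theorem p₁_mk (i j : ℤ) (h : i + 1 = j) (e : E.X j) (x : K.X i) : p₁ f i j h (mk' f i j h (e, x)) = e := by
  simp only [mk', LinearMap.coprod_apply, map_add]
  rw [← LinearMap.comp_apply, ← ModuleCat.hom_comp, ← LinearMap.comp_apply, ← ModuleCat.hom_comp,
    mappingCone.inl_v_fst_v, mappingCone.inr_f_fst_v]
  simp

theorem p₂_mk (i j : ℤ) (h : i + 1 = j) (e : E.X j) (x : K.X i) : p₂ f i (mk' f i j h (e, x)) = x := by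
  simp only [mk', LinearMap.coprod_apply, map_add]
  rw [← LinearMap.comp_apply, ← ModuleCat.hom_comp, ← LinearMap.comp_apply, ← ModuleCat.hom_comp,
    mappingCone.inl_v_snd_v, mappingCone.inr_f_snd_v]
  simp

theorem cone_ext (i j : ℤ) (h : i + 1 = j) {c c' : (mappingCone f).X i}
    (h₁ : p₁ f i j h c = p₁ f i j h c') (h₂ : p₂ f i c = p₂ f i c') : c = c' := by
  have hid : ∀ c, mk' f i j h (p₁ f i j h c, p₂ f i c) = c := fun c =>
    LinearMap.congr_fun (congrArg ModuleCat.Hom.hom (mappingCone.id_X f i j h)) c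
  rw [← hid c, ← hid c', h₁, h₂]

theorem p₁_d (i j k : ℤ) (hij : i + 1 = j) (hjk : j + 1 = k) (c : (mappingCone f).X i) :
    p₁ f j k hjk (((mappingCone f).d i j).hom c) = -(E.d j k).hom (p₁ f i j hij c) :=
  LinearMap.congr_fun (congrArg ModuleCat.Hom.hom (mappingCone.d_fst_v f i j k hij hjk)) c

theorem p₂_d (i j : ℤ) (hij : i + 1 = j) (c : (mappingCone f).X i) :
    p₂ f j (((mappingCone f).d i j).hom c) = (f.f j).hom (p₁ f i j hij c) + (K.d i j).hom (p₂ f i c) :=
  LinearMap.congr_fun (congrArg ModuleCat.Hom.hom (mappingCone.d_snd_v f i j hij)) c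

theorem d_mk_eq_zero_iff (j k l : ℤ) (hjk : j + 1 = k) (hkl : k + 1 = l) (c : (mappingCone f).X j) :
    ((mappingCone f).d j k).hom c = 0 ↔
      (E.d k l).hom (p₁ f j k hjk c) = 0 ∧ (f.f k).hom (p₁ f j k hjk c) = (K.d j k).hom (-p₂ f j c) := by
  constructor
  · intro h
    constructor
    · simpa [h] using (p₁_d f j k l hjk hkl c).symm
    · have := (p₂_d f j k hjk c).symm
      rw [h, map_zero] at this
      rw [map_neg]
      exact eq_neg_of_add_eq_zero_left this
  · rintro ⟨h1, h2⟩
    refine cone_ext f k l hkl ?_ ?_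
    · rw [p₁_d f j k l hjk hkl, h1, neg_zero, map_zero]
    · rw [p₂_d f j k hjk, h2, map_zero, map_neg, neg_add_cancel]

theorem ex_iff (j : ℤ) : Ex f j ↔ (mappingCone f).ExactAt j := by
  rw [exactAt_iff' _ (j - 1) j (j + 1) (by simp) (by simp), ShortComplex.moduleCat_exact_iff]
  constructor
  · intro H (c : (mappingCone f).X j) hc
    obtain ⟨h1, h2⟩ := (d_mk_eq_zero_iff f j (j + 1) (j + 2) rfl (by omega) c).1 hc
    obtain ⟨e', x', he, hx⟩ := H _ _ h1 h2
    refine ⟨mk' f (j - 1) j (by omega) (-e', x'), cone_ext f j (j + 1) rfl ?_ ?_⟩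
    · exact (p₁_d f (j - 1) j (j + 1) (by omega) rfl _).trans (by rw [p₁_mk, map_neg, neg_neg, he])
    · refine (p₂_d f (j - 1) j (by omega) _).trans ?_
      rw [p₁_mk, p₂_mk, map_neg, hx]
      abel
  · intro H e x he hx
    obtain ⟨(c : (mappingCone f).X (j - 1)), hc⟩ := H (mk' f j (j + 1) rfl (e, -x))
      ((d_mk_eq_zero_iff f j (j + 1) (j + 2) rfl (by omega) _).2 (by rw [p₁_mk, p₂_mk, neg_neg]; exact ⟨he, hx⟩))
    refine ⟨-p₁ f (j - 1) j (by omega) c, p₂ f (j - 1) c, ?_, ?_⟩
    · rw [map_neg, ← p₁_d f (j - 1) j (j + 1) (by omega) rfl]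
      exact (congrArg (p₁ f j (j + 1) rfl) hc).trans (p₁_mk _ _ _ _ _ _)
    · have h := (p₂_d f (j - 1) j (by omega) c).symm.trans ((congrArg (p₂ f j) hc).trans (p₂_mk _ _ _ _ _ _))
      rw [map_neg, ← neg_neg x, ← h]
      abel

theorem mI_iff_ex (m : ℤ) : MI m (DerivedCategory.Q.map f) ↔ ∀ j, m ≤ j → Ex f j := by
  have hT : DerivedCategory.Q.mapTriangle.obj (CochainComplex.mappingCone.triangle f) ∈ distTriang _ :=
    (DerivedCategory.mem_distTriang_iff _).2 ⟨_, _, _, ⟨Iso.refl _⟩⟩
  refine (mI_iff _ hT m).trans (forall₂_congr fun i _ => ?_)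
  rw [ex_iff, exactAt_iff_isZero_homology]
  exact ((DerivedCategory.homologyFunctorFactors (ModuleCat.{u} A) i).app _).isZero_iff

end cone

theorem ker_finite_projective {M N : Type u} [AddCommGroup M] [Module A M] [AddCommGroup N] [Module A N]
    [Module.Finite A M] [Module.Projective A M] (g : M →ₗ[A] N) [Module.Projective A (LinearMap.range g)] :
    Module.Finite A (LinearMap.ker g) ∧ Module.Projective A (LinearMap.ker g) := by
  obtain ⟨s, hs⟩ := Module.projective_lifting_property g.rangeRestrict LinearMap.id g.surjective_rangeRestrict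
  have h1 : ∀ y, g.rangeRestrict (s y) = y := fun y => LinearMap.congr_fun hs y
  let p : M →ₗ[A] LinearMap.ker g := LinearMap.codRestrict _ (LinearMap.id - s ∘ₗ g.rangeRestrict) (fun x => by
    rw [← LinearMap.ker_rangeRestrict, LinearMap.mem_ker]
    simp [h1])
  have hp : p ∘ₗ (LinearMap.ker g).subtype = LinearMap.id := by
    refine LinearMap.ext fun x => Subtype.ext ?_
    have : g.rangeRestrict x.1 = 0 := by
      rw [← LinearMap.mem_ker, LinearMap.ker_rangeRestrict]
      exact x.2
    simp [p, this]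
  exact ⟨Module.Finite.of_surjective p fun x => ⟨x, LinearMap.congr_fun hp x⟩, Module.Projective.of_split _ p hp⟩

/-- cycles of a bounded complex of finite projectives above its top cohomology -/
theorem cycles_finite_projective {E : DRing.Cx A} {b m : ℤ} (hb : ∀ i, b < i → IsZero (E.X i))
    (hp : ∀ i, Module.Finite A (E.X i) ∧ Module.Projective A (E.X i)) (hH : ∀ i, m < i → E.ExactAt i) :
    ∀ (n : ℕ) (i j : ℤ), i + 1 = j → m ≤ i → b < i + n →
      Module.Finite A (LinearMap.ker (E.d i j).hom) ∧ Module.Projective A (LinearMap.ker (E.d i j).hom) := by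
  intro n
  induction n with
  | zero =>
    intro i j hij hi hn
    have := ModuleCat.subsingleton_of_isZero (hb i (by omega))
    exact ⟨inferInstance, inferInstance⟩
  | succ n ih =>
    intro i j hij hi hn
    obtain ⟨h1, h2⟩ := ih j (j + 1) rfl (by omega) (by omega)
    have hex := hH j (by omega)
    rw [exactAt_iff' _ i j (j + 1) (by simp; omega) (by simp)] at hex
    have hrk : LinearMap.range (E.d i j).hom = LinearMap.ker (E.d j (j + 1)).hom :=
      hex.moduleCat_range_eq_ker
    have : Module.Projective A (LinearMap.range (E.d i j).hom) :=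
      Module.Projective.of_equiv (LinearEquiv.ofEq _ _ hrk).symm
    have := (hp i).1; have := (hp i).2
    exact ker_finite_projective _

theorem homology_finite {E : DRing.Cx A} {b m : ℤ} (hb : ∀ i, b < i → IsZero (E.X i))
    (hp : ∀ i, Module.Finite A (E.X i) ∧ Module.Projective A (E.X i)) (hH : ∀ i, m < i → E.ExactAt i) :
    Module.Finite A ((DerivedCategory.homologyFunctor (ModuleCat.{u} A) m).obj (DRing.toD E)) ∧
      Module.FinitePresentation A ((DerivedCategory.homologyFunctor (ModuleCat.{u} A) m).obj (DRing.toD E)) := by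
  let S := E.sc' (m - 1) m (m + 1)
  obtain ⟨h1, h2⟩ : Module.Finite A (LinearMap.ker S.g.hom) ∧ Module.Projective A (LinearMap.ker S.g.hom) :=
    cycles_finite_projective hb hp hH ((b + 1 - m).toNat) m (m + 1) rfl le_rfl (by omega)
  have := Module.finitePresentation_of_projective A (LinearMap.ker S.g.hom)
  have := (hp (m - 1)).1
  have hfg : (LinearMap.range S.moduleCatToCycles).FG := by
    have : Module.Finite A S.X₁ := (hp (m - 1)).1
    exact Module.Finite.iff_fg.1 inferInstance
  have : Module.FinitePresentation A (LinearMap.ker S.g.hom ⧸ LinearMap.range S.moduleCatToCycles) :=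
    Module.finitePresentation_of_surjective (Submodule.mkQ _) (Submodule.mkQ_surjective _)
      (by rw [Submodule.ker_mkQ]; exact hfg)
  let i : (LinearMap.ker S.g.hom ⧸ LinearMap.range S.moduleCatToCycles) ≃ₗ[A]
      ((DerivedCategory.homologyFunctor (ModuleCat.{u} A) m).obj (DRing.toD E)) :=
    (S.moduleCatHomologyIso.symm ≪≫
      (ShortComplex.homologyMapIso (E.isoSc' (m - 1) m (m + 1) (by simp) (by simp))).symm ≪≫
      ((DerivedCategory.homologyFunctorFactors (ModuleCat.{u} A) m).app E).symm).toLinearEquiv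
  exact ⟨Module.Finite.equiv i, Module.FinitePresentation.of_equiv i⟩

theorem exactAt_of_mI {E : DRing.Cx A} {K : Dual.D A} {m : ℤ} {α : DRing.toD E ⟶ K} (hα : MI m α) {i : ℤ}
    (hi : m < i) (hz : IsZero ((DerivedCategory.homologyFunctor (ModuleCat.{u} A) i).obj K)) : E.ExactAt i := by
  have := hα.1 i hi
  rw [exactAt_iff_isZero_homology]
  exact (hz.of_iso (asIso ((DerivedCategory.homologyFunctor _ i).map α))).of_iso
    ((DerivedCategory.homologyFunctorFactors (ModuleCat.{u} A) i).app E).symm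

theorem finite_top {K : Dual.D A} {m : ℤ} (hK : DRing.IsPseudoCoherent A m K) (h : Vanish (m + 1) K) :
    Module.Finite A ((DerivedCategory.homologyFunctor (ModuleCat.{u} A) m).obj K) := by
  obtain ⟨E, a, b, α, hE, hE', hα⟩ := (isPseudo_iff m K).1 hK
  have := (homology_finite (m := m) (fun i hi => hE i (Or.inr hi))
    (fun i => ⟨(hE' i).1, have := (hE' i).2; inferInstance⟩)
    (fun i hi => exactAt_of_mI hα hi (h i (by omega)))).1
  exact Module.Finite.of_surjective ((DerivedCategory.homologyFunctor (ModuleCat.{u} A) m).map α).hom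
    ((ModuleCat.epi_iff_surjective _).1 hα.2)

theorem exists_gens (S : ShortComplex (ModuleCat.{u} A)) [Module.Finite A S.homology] :
    ∃ (n : ℕ) (z : Fin n → S.X₂), (∀ t, S.g.hom (z t) = 0) ∧
      ∀ c, S.g.hom c = 0 → ∃ (a : Fin n → A) (w : S.X₁), c = Fintype.linearCombination A z a + S.f.hom w := by
  let e := S.moduleCatHomologyIso.toLinearEquiv
  let π : LinearMap.ker S.g.hom →ₗ[A] S.homology :=
    e.symm.toLinearMap ∘ₗ (LinearMap.range S.moduleCatToCycles).mkQ
  obtain ⟨n, s, hs⟩ := Module.Finite.exists_fin (R := A) (M := S.homology)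
  have hπ : Function.Surjective π := e.symm.surjective.comp (Submodule.mkQ_surjective _)
  choose z hz using fun t => hπ (s t)
  refine ⟨n, fun t => (z t).1, fun t => (z t).2, fun c hc => ?_⟩
  obtain ⟨a, ha⟩ := (Submodule.mem_span_range_iff_exists_fun A).1 (hs.ge (Submodule.mem_top (x := π ⟨c, hc⟩)))
  have hk : (⟨c, hc⟩ : LinearMap.ker S.g.hom) - ∑ t, a t • z t ∈ LinearMap.range S.moduleCatToCycles := by
    have : π (⟨c, hc⟩ - ∑ t, a t • z t) = 0 := by
      simp only [map_sub, map_sum, map_smul, hz, ha, sub_self]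
    rw [← Submodule.Quotient.mk_eq_zero]
    exact e.symm.injective (this.trans (map_zero _).symm)
  obtain ⟨w, hw⟩ := hk
  refine ⟨a, w, ?_⟩
  have := congrArg Subtype.val hw
  simp only [AddSubgroupClass.coe_sub, AddSubmonoidClass.coe_finsetSum, SetLike.val_smul] at this
  rw [Fintype.linearCombination_apply]
  exact eq_add_of_sub_eq' this.symm

section cell

variable {E K : DRing.Cx A} (f : E ⟶ K) {r : ℤ → ℕ} (e : ∀ i, Fin (r i) → E.X (i + 1))
  (x : ∀ i, Fin (r i) → K.X i)

/-- terms of the complex with cells attached -/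
abbrev cellX (E : DRing.Cx A) (r : ℤ → ℕ) (i : ℤ) : ModuleCat.{u} A := ModuleCat.of A (E.X i × (Fin (r i) → A))

/-- differential -/
noncomputable def cellD (i : ℤ) : cellX E r i ⟶ cellX E r (i + 1) :=
  ModuleCat.ofHom (LinearMap.inl A _ _ ∘ₗ ((E.d i (i + 1)).hom.coprod (Fintype.linearCombination A (e i))))

theorem cellD_sq (he : ∀ i t, (E.d (i + 1) (i + 1 + 1)).hom (e i t) = 0) (i : ℤ) :
    cellD e i ≫ cellD e (i + 1) = 0 := by
  refine ModuleCat.hom_ext (LinearMap.ext fun (a, g) => ?_)
  have h1 : (E.d (i + 1) (i + 1 + 1)).hom ((E.d i (i + 1)).hom a) = 0 :=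
    LinearMap.congr_fun (congrArg ModuleCat.Hom.hom (E.d_comp_d i (i + 1) (i + 1 + 1))) a
  simp [cellD, Fintype.linearCombination_apply, h1, he]

/-- the complex with cells attached -/
noncomputable def cell (he : ∀ i t, (E.d (i + 1) (i + 1 + 1)).hom (e i t) = 0) : DRing.Cx A :=
  CochainComplex.of (cellX E r) (cellD e) (cellD_sq e he)

theorem exists_cell (he : ∀ i t, (E.d (i + 1) (i + 1 + 1)).hom (e i t) = 0)
    (hx : ∀ i t, (f.f (i + 1)).hom (e i t) = (K.d i (i + 1)).hom (x i t)) :
    ∃ (f' : cell e he ⟶ K) (ι : E ⟶ cell e he), ι ≫ f' = f ∧ (∀ i, r i = 0 → IsIso (ι.f i)) ∧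
      ∀ j, r (j + 1) = 0 → (∀ (a : E.X (j + 1)) (y : K.X j), (E.d (j + 1) (j + 2)).hom a = 0 →
        (f.f (j + 1)).hom a = (K.d j (j + 1)).hom y → ∃ (g : Fin (r j) → A) (a' : E.X j) (y' : K.X (j - 1)),
          (E.d j (j + 1)).hom a' + Fintype.linearCombination A (e j) g = a ∧
          (f.f j).hom a' + Fintype.linearCombination A (x j) g = y + (K.d (j - 1) j).hom y') → Ex f' j := by
  let f' : cell e he ⟶ K :=
    { f := fun i => ModuleCat.ofHom ((f.f i).hom.coprod (Fintype.linearCombination A (x i)))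
      comm' := fun i j (hij : i + 1 = j) => by
        subst hij
        simp only [cell, CochainComplex.of_d]
        refine ModuleCat.hom_ext (LinearMap.ext fun (a, g) => ?_)
        have h1 : (K.d i (i + 1)).hom ((f.f i).hom a) = (f.f (i + 1)).hom ((E.d i (i + 1)).hom a) :=
          LinearMap.congr_fun (congrArg ModuleCat.Hom.hom (f.comm i (i + 1))) a
        simp [cellD, Fintype.linearCombination_apply, h1, hx] }
  let ι : E ⟶ cell e he :=
    { f := fun i => ModuleCat.ofHom (LinearMap.inl A _ _)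
      comm' := fun i j (hij : i + 1 = j) => by
        subst hij
        simp only [cell, CochainComplex.of_d]
        refine ModuleCat.hom_ext (LinearMap.ext fun a => ?_)
        simp [cellD] }
  refine ⟨f', ι, ?_, fun i hi => ?_, fun j hj H a y ha hy => ?_⟩
  · refine HomologicalComplex.hom_ext _ _ fun i => ModuleCat.hom_ext (LinearMap.ext fun a => ?_)
    change (f.f i).hom a + Fintype.linearCombination A (x i) (0 : Fin (r i) → A) = (f.f i).hom a
    rw [map_zero, add_zero]
  · have : IsEmpty (Fin (r i)) := by rw [hi]; infer_instance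
    rw [ConcreteCategory.isIso_iff_bijective]
    exact ⟨fun a b h => congrArg Prod.fst h, fun ⟨a, g⟩ => ⟨a, Prod.ext rfl (Subsingleton.elim _ _)⟩⟩
  · have : IsEmpty (Fin (r (j + 1))) := by rw [hj]; infer_instance
    obtain ⟨a, g⟩ := a
    obtain rfl : g = 0 := Subsingleton.elim _ _
    rw [show j + 2 = j + 1 + 1 by omega] at ha
    have ha1 : (E.d (j + 1) (j + 1 + 1)).hom a = 0 := by
      simp only [cell, CochainComplex.of_d] at ha
      have : (E.d (j + 1) (j + 1 + 1)).hom a + Fintype.linearCombination A (e (j + 1)) (0 : Fin _ → A) = 0 :=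
        congrArg Prod.fst ha
      rwa [map_zero, add_zero] at this
    have hy1 : (f.f (j + 1)).hom a + Fintype.linearCombination A (x (j + 1)) (0 : Fin _ → A) =
        (K.d j (j + 1)).hom y := hy
    rw [map_zero, add_zero] at hy1
    obtain ⟨g, a', y', h1, h2⟩ := H a y (by rwa [show j + 2 = j + 1 + 1 by omega]) hy1
    refine ⟨(a', g), y', ?_, h2⟩
    simp only [cell, CochainComplex.of_d]
    exact Prod.ext h1 rfl

end cell

/-- one step: make the cone exact in degree `m` -/
theorem exists_step {E K : DRing.Cx A} (f : E ⟶ K) {a b m : ℤ} (hE : DRing.VanishesOutside E a b)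
    (hE' : DRing.TermwiseFiniteFree E) (hex : ∀ j, m < j → Ex f j)
    [Module.Finite A ((CochainComplex.mappingCone f).homology m)] :
    ∃ (E' : DRing.Cx A) (f' : E' ⟶ K) (ι : E ⟶ E'), DRing.VanishesOutside E' (min a m) (max b m) ∧
      DRing.TermwiseFiniteFree E' ∧ ι ≫ f' = f ∧ (∀ i, i ≠ m → IsIso (ι.f i)) ∧ ∀ j, m ≤ j → Ex f' j := by
  let S := (CochainComplex.mappingCone f).sc' (m - 1) m (m + 1)
  have : Module.Finite A ((CochainComplex.mappingCone f).sc m).homology :=
    inferInstanceAs (Module.Finite A ((CochainComplex.mappingCone f).homology m))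
  have : Module.Finite A S.homology :=
    Module.Finite.equiv (ShortComplex.homologyMapIso
      ((CochainComplex.mappingCone f).isoSc' (m - 1) m (m + 1) (by simp) (by simp))).toLinearEquiv
  obtain ⟨n, z, hz, hgen⟩ : ∃ (n : ℕ) (z : Fin n → (CochainComplex.mappingCone f).X m),
      (∀ t, ((CochainComplex.mappingCone f).d m (m + 1)).hom (z t) = 0) ∧
      ∀ c : (CochainComplex.mappingCone f).X m, ((CochainComplex.mappingCone f).d m (m + 1)).hom c = 0 →
        ∃ (a : Fin n → A) (w : (CochainComplex.mappingCone f).X (m - 1)),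
          c = Fintype.linearCombination A z a + ((CochainComplex.mappingCone f).d (m - 1) m).hom w :=
    exists_gens S
  have hex' : ∀ i, ∃ (k : ℕ) (e : Fin k → E.X (i + 1)) (x : Fin k → K.X i),
      (∀ t, (E.d (i + 1) (i + 1 + 1)).hom (e t) = 0) ∧
      (∀ t, (f.f (i + 1)).hom (e t) = (K.d i (i + 1)).hom (x t)) ∧ (i ≠ m → k = 0) ∧
      (m ≤ i → ∀ (a : E.X (i + 1)) (y : K.X i), (E.d (i + 1) (i + 2)).hom a = 0 →
        (f.f (i + 1)).hom a = (K.d i (i + 1)).hom y → ∃ (g : Fin k → A) (a' : E.X i) (y' : K.X (i - 1)),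
          (E.d i (i + 1)).hom a' + Fintype.linearCombination A e g = a ∧
          (f.f i).hom a' + Fintype.linearCombination A x g = y + (K.d (i - 1) i).hom y') := by
    intro i
    by_cases hi : i = m
    · subst hi
      refine ⟨n, fun t => p₁ f i (i + 1) rfl (z t), fun t => -p₂ f i (z t), fun t => ?_, fun t => ?_,
        fun h => absurd rfl h, fun _ a y ha hy => ?_⟩
      · exact ((d_mk_eq_zero_iff f i (i + 1) (i + 1 + 1) rfl rfl _).1 (hz t)).1
      · exact ((d_mk_eq_zero_iff f i (i + 1) (i + 1 + 1) rfl rfl _).1 (hz t)).2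
      · obtain ⟨g, (w : (CochainComplex.mappingCone f).X (i - 1)), hw⟩ := hgen (mk' f i (i + 1) rfl (a, -y))
          ((d_mk_eq_zero_iff f i (i + 1) (i + 2) rfl (by omega) _).2
            (by rw [p₁_mk, p₂_mk, neg_neg]; exact ⟨ha, hy⟩))
        rw [Fintype.linearCombination_apply] at hw
        refine ⟨g, -p₁ f (i - 1) i (by omega) w, p₂ f (i - 1) w, ?_, ?_⟩
        · have h := congrArg (p₁ f i (i + 1) rfl) hw
          rw [p₁_mk, map_add, map_sum] at h
          rw [map_neg, ← p₁_d f (i - 1) i (i + 1) (by omega) rfl, Fintype.linearCombination_apply]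
          simp only [map_smul] at h
          exact (add_comm _ _).trans h.symm
        · have h := congrArg (p₂ f i) hw
          rw [p₂_mk, map_add, map_sum, p₂_d f (i - 1) i (by omega)] at h
          simp only [map_smul] at h
          rw [map_neg, Fintype.linearCombination_apply]
          simp only [smul_neg, Finset.sum_neg_distrib]
          rw [← neg_neg y, h]
          abel
    · refine ⟨0, Fin.elim0, Fin.elim0, fun t => t.elim0, fun t => t.elim0, fun _ => rfl, fun him a y ha hy => ?_⟩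
      obtain ⟨a', y', h1, h2⟩ := hex i (by omega) a y ha hy
      exact ⟨0, a', y', by rw [map_zero, add_zero, h1], by rw [map_zero, add_zero, h2]⟩
  choose r e x he hx hr hg using hex'
  obtain ⟨f', ι, hι, hiso, hEx⟩ := exists_cell f e x he hx
  refine ⟨cell e he, f', ι, fun i hi => ?_, fun i => ?_, hι, fun i hi => hiso i (hr i hi),
    fun j hj => hEx j (hr (j + 1) (by omega)) (hg j hj)⟩
  · have := ModuleCat.subsingleton_of_isZero (hE i (by omega))
    have : IsEmpty (Fin (r i)) := by rw [hr i (by omega)]; infer_instance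
    exact ModuleCat.isZero_of_subsingleton (cellX E r i)
  · have := (hE' i).1; have := (hE' i).2
    exact ⟨inferInstanceAs (Module.Finite A (E.X i × (Fin (r i) → A))),
      inferInstanceAs (Module.Free A (E.X i × (Fin (r i) → A)))⟩

theorem vanish_iff_exactAt {E : DRing.Cx A} {m : ℤ} :
    Vanish m (DRing.toD E) ↔ ∀ i, m ≤ i → E.ExactAt i :=
  forall₂_congr fun i _ => ((DerivedCategory.homologyFunctorFactors (ModuleCat.{u} A) i).app E).isZero_iff.trans
    (exactAt_iff_isZero_homology _ _).symm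

theorem finite_cone_homology {E K : DRing.Cx A} (f : E ⟶ K) {a b m : ℤ} (hE : DRing.VanishesOutside E a b)
    (hE' : DRing.TermwiseFiniteFree E) (hex : ∀ j, m < j → Ex f j)
    (hK : DRing.IsPseudoCoherent A m (DRing.toD K)) :
    Module.Finite A ((CochainComplex.mappingCone f).homology m) := by
  have hT : DerivedCategory.Q.mapTriangle.obj (CochainComplex.mappingCone.triangle f) ∈ distTriang _ :=
    (DerivedCategory.mem_distTriang_iff _).2 ⟨_, _, _, ⟨Iso.refl _⟩⟩
  have : Module.Finite A ((DerivedCategory.Q ⋙ DerivedCategory.homologyFunctor (ModuleCat.{u} A) m).obj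
      (CochainComplex.mappingCone f)) :=
    finite_top (isPseudo₃ _ hT (isPseudo_Q hE hE' (m + 1)) hK)
      ((mI_iff _ hT (m + 1)).1 ((mI_iff_ex f (m + 1)).2 fun j hj => hex j (by omega)))
  exact Module.Finite.equiv
    ((DerivedCategory.homologyFunctorFactors (ModuleCat.{u} A) m).app (CochainComplex.mappingCone f)).toLinearEquiv

theorem exists_vanish {K : Dual.D A} {m : ℤ} (h : DRing.IsPseudoCoherent A m K) :
    ∃ N : ℤ, m < N ∧ Vanish N K := by
  obtain ⟨E, a, b, α, hE, -, hα⟩ := (isPseudo_iff m K).1 h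
  refine ⟨max b m + 1, by omega, fun i hi => ?_⟩
  have := hα.1 i (by omega)
  exact (vanish_Q (b := b) (fun j hj => hE j (Or.inr hj)) (show b < max b m + 1 by omega) i hi).of_iso
    (asIso ((DerivedCategory.homologyFunctor _ i).map α)).symm

/-- a finite free model whose cone is exact from degree `N - n` on -/
structure Model (K : DRing.Cx A) (N : ℤ) (n : ℕ) where
  /-- the complex -/
  E : DRing.Cx A
  /-- the map -/
  f : E ⟶ K
  van : DRing.VanishesOutside E (N - n) N
  ff : DRing.TermwiseFiniteFree E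
  ex : ∀ j, N - n ≤ j → Ex f j

theorem nonempty_model_zero {K : DRing.Cx A} {N : ℤ} (hK : Vanish N (DRing.toD K)) :
    Nonempty (Model K N 0) := by
  have hz : IsZero (0 : DRing.Cx A) := isZero_zero _
  refine ⟨⟨0, 0, fun i _ => (HomologicalComplex.eval _ _ i).map_isZero hz, fun i => ?_, fun j hj => ?_⟩⟩
  · have : Subsingleton ((0 : DRing.Cx A).X i) :=
      ModuleCat.subsingleton_of_isZero ((HomologicalComplex.eval _ _ i).map_isZero hz)
    exact ⟨inferInstance, inferInstance⟩
  · intro e x _ hx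
    have : Subsingleton ((0 : DRing.Cx A).X (j + 1)) :=
      ModuleCat.subsingleton_of_isZero ((HomologicalComplex.eval _ _ (j + 1)).map_isZero hz)
    have h := vanish_iff_exactAt.1 hK j (by simpa using hj)
    rw [exactAt_iff' _ (j - 1) j (j + 1) (by simp) (by simp), ShortComplex.moduleCat_exact_iff] at h
    have hx0 : (K.d j (j + 1)).hom (-x) = 0 := by
      rw [map_neg, neg_eq_zero, ← hx, Subsingleton.elim e 0, map_zero]
    obtain ⟨w, hw⟩ := h (-x) hx0
    refine ⟨0, w, Subsingleton.elim _ _, ?_⟩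
    have hw' : (K.d (j - 1) j).hom w = -x := hw
    rw [map_zero, hw', add_neg_cancel]

theorem exists_model_succ {K : DRing.Cx A} {N : ℤ} (hK : ∀ m, DRing.IsPseudoCoherent A m (DRing.toD K))
    (n : ℕ) (M : Model K N n) : ∃ (M' : Model K N (n + 1)) (ι : M.E ⟶ M'.E),
      ι ≫ M'.f = M.f ∧ ∀ i, N - n ≤ i → IsIso (ι.f i) := by
  have := finite_cone_homology (m := N - (n + 1 : ℕ)) M.f M.van M.ff (fun j hj => M.ex j (by omega)) (hK _)
  obtain ⟨E', f', ι, h1, h2, h3, h4, h5⟩ := exists_step (m := N - (n + 1 : ℕ)) M.f M.van M.ff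
    (fun j hj => M.ex j (by omega))
  exact ⟨⟨E', f', fun i hi => h1 i (by omega), h2, h5⟩, ι, h3, fun i hi => h4 i (by omega)⟩

theorem isPseudo'_of_forall (K₀ : DRing.Cx A) (hK : ∀ m, DRing.IsPseudoCoherent A m (DRing.toD K₀)) :
    DRing.IsPseudoCoherent' A (DRing.toD K₀) := by
  obtain ⟨N, -, hN⟩ := exists_vanish (hK 0)
  choose next ι hι hiso using fun n M => exists_model_succ (N := N) hK n M
  let M : ∀ n, Model K₀ N n := fun n => Nat.rec (nonempty_model_zero hN).some next n
  let F : ℕ ⥤ DRing.Cx A := Functor.ofSequence (X := fun n => (M n).E) (fun n => ι n (M n))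
  have hmap : ∀ n k (h : n ≤ k), F.map (homOfLE h) ≫ (M k).f = (M n).f ∧
      ∀ i, N - n ≤ i → IsIso ((F.map (homOfLE h)).f i) := by
    intro n k h
    induction k, h using Nat.le_induction with
    | base =>
      rw [show homOfLE (le_refl n) = 𝟙 n from rfl, F.map_id]
      exact ⟨Category.id_comp _, fun i _ => inferInstanceAs (IsIso (𝟙 ((M n).E.X i)))⟩
    | succ k hk ih =>
      have hs : F.map (homOfLE (hk.trans k.le_succ)) = F.map (homOfLE hk) ≫ ι k (M k) := by
        rw [← homOfLE_comp hk k.le_succ, F.map_comp]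
        congr 1
        exact Functor.ofSequence_map_homOfLE_succ _ k
      refine ⟨?_, fun i hi => ?_⟩
      · rw [hs]
        exact (Category.assoc (F.map (homOfLE hk)) (ι k (M k)) _).trans
          ((congrArg (F.map (homOfLE hk) ≫ ·) (hι k (M k))).trans ih.1)
      · rw [hs]
        exact @IsIso.comp_isIso _ _ _ _ _ _ _ (ih.2 i hi) (hiso k (M k) i (by omega))
  let c : Cocone F := ⟨K₀, ⟨fun n => (M n).f, fun n k h => by
    rw [← homOfLE_leOfHom h]
    exact (hmap n k (leOfHom h)).1.trans (Category.comp_id _).symm⟩⟩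
  have hι' : ∀ n i, N - (n : ℕ) ≤ i → IsIso ((colimit.ι F n).f i) := fun n i hi => by
    have h : (F ⋙ HomologicalComplex.eval (ModuleCat.{u} A) (ComplexShape.up ℤ) i).IsEventuallyConstantFrom n :=
      fun k h => by
        rw [← homOfLE_leOfHom h]
        exact (hmap n k (leOfHom h)).2 i hi
    exact h.isIso_ι_of_isColimit (isColimitOfPreserves (HomologicalComplex.eval _ _ i) (colimit.isColimit F))
  let n₀ : ℤ → ℕ := fun i => (N - i).toNat
  have : QuasiIso (colimit.desc F c) := ⟨fun k => by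
    let n := n₀ (k - 2)
    rw [quasiIsoAt_iff_isIso_homologyMap]
    have h0 : IsIso ((DerivedCategory.homologyFunctor (ModuleCat.{u} A) k).map (DerivedCategory.Q.map (M n).f)) :=
      ((mI_iff_ex _ (N - n)).2 (M n).ex).1 k (by simp only [n, n₀]; omega)
    have h1 : IsIso (homologyMap (M n).f k) :=
      (NatIso.isIso_map_iff (DerivedCategory.homologyFunctorFactors (ModuleCat.{u} A) k) _).1 h0
    have h2 : IsIso (homologyMap (colimit.ι F n) k) := by
      rw [← quasiIsoAt_iff_isIso_homologyMap, quasiIsoAt_iff' _ (k - 1) k (k + 1) (by simp) (by simp)]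
      let φ := (shortComplexFunctor' (ModuleCat.{u} A) (ComplexShape.up ℤ) (k - 1) k (k + 1)).map (colimit.ι F n)
      have : IsIso φ.τ₁ := hι' n (k - 1) (by simp only [n, n₀]; omega)
      have : IsIso φ.τ₂ := hι' n k (by simp only [n, n₀]; omega)
      have : IsIso φ.τ₃ := hι' n (k + 1) (by simp only [n, n₀]; omega)
      exact ShortComplex.quasiIso_of_epi_of_isIso_of_mono φ
    have h3 : homologyMap (colimit.ι F n) k ≫ homologyMap (colimit.desc F c) k = homologyMap (M n).f k :=
      (homologyMap_comp _ _ k).symm.trans (congrArg (homologyMap · k) (colimit.ι_desc c n))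
    exact @IsIso.of_isIso_fac_left _ _ _ _ _ _ _ _ h2 h1 h3⟩
  refine ⟨colimit F, N, fun i hi => ?_, fun i => ?_, ⟨asIso (DerivedCategory.Q.map (colimit.desc F c))⟩⟩
  · have := hι' 0 i (by omega)
    exact ((M 0).van i (Or.inr hi)).of_iso (asIso ((colimit.ι F 0).f i)).symm
  · have := hι' (n₀ i) i (by simp only [n₀]; omega)
    let e : (M (n₀ i)).E.X i ≃ₗ[A] (colimit F).X i := (asIso ((colimit.ι F (n₀ i)).f i)).toLinearEquiv
    have := ((M (n₀ i)).ff i).1; have := ((M (n₀ i)).ff i).2
    exact ⟨Module.Finite.equiv e, Module.Free.of_equiv e⟩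

theorem isPseudo_of_termwiseFiniteProjective {E : DRing.Cx A} {b : ℤ} (h1 : DRing.VanishesAbove E b)
    (h2 : DRing.TermwiseFiniteProjective E) (m : ℤ) : DRing.IsPseudoCoherent A m (DRing.toD E) := by
  refine isPseudo_of_mI (mI_trunc E m) (isPseudo_of_isPerfect ⟨H7StupidGE.trunc E m, m, b, fun i hi => ?_,
    fun i => ?_, ⟨Iso.refl _⟩⟩ m)
  · by_cases h : m ≤ i
    · exact (h1 i (by omega)).of_iso (eqToIso (H7StupidGE.X_eq h))
    · exact H7StupidGE.isZero_below (by omega)
  · by_cases h : m ≤ i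
    · have := (h2 i).1; have := (h2 i).2
      let e : (H7StupidGE.trunc E m).X i ≃ₗ[A] E.X i := (eqToIso (H7StupidGE.X_eq h)).toLinearEquiv
      exact ⟨Module.Finite.equiv e.symm, Module.Projective.of_equiv e.symm⟩
    · have : Subsingleton ((H7StupidGE.trunc E m).X i) :=
        ModuleCat.subsingleton_of_isZero (H7StupidGE.isZero_below (by omega))
      exact ⟨inferInstance, inferInstance⟩

section localization

variable {R S : Type u} [CommRing R] [CommRing S] (φ : R →+* S)

/-- extension of scalars of complexes -/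
noncomputable abbrev extCx : DRing.Cx R ⥤ DRing.Cx S :=
  (ModuleCat.extendScalars.{u, u, u} φ).mapHomologicalComplex (ComplexShape.up ℤ)

theorem extCx_ff {E : DRing.Cx R} {a b : ℤ} (h1 : DRing.VanishesOutside E a b) (h2 : DRing.TermwiseFiniteFree E) :
    DRing.VanishesOutside ((extCx φ).obj E) a b ∧ DRing.TermwiseFiniteFree ((extCx φ).obj E) := by
  refine ⟨fun i hi => (ModuleCat.extendScalars.{u, u, u} φ).map_isZero (h1 i hi), fun i => ?_⟩
  letI := φ.toAlgebra
  have := (h2 i).1; have := (h2 i).2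
  exact ⟨inferInstanceAs (Module.Finite S (TensorProduct R S (E.X i))),
    inferInstanceAs (Module.Free S (TensorProduct R S (E.X i)))⟩

theorem nonempty_homology_extCx (hφ : φ.Flat) (K : DRing.Cx R) (j : ℤ) :
    Nonempty (((extCx φ).obj K).homology j ≅ (ModuleCat.extendScalars.{u, u, u} φ).obj (K.homology j)) := by
  have := ModuleCat.preservesFiniteLimits_extendScalars_of_flat.{u} hφ
  have : PreservesColimitsOfSize.{0, 0} (ModuleCat.extendScalars.{u, u, u} φ) :=
    (ModuleCat.extendRestrictScalarsAdj φ).leftAdjoint_preservesColimits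
  exact ⟨(K.sc j).mapHomologyIso (ModuleCat.extendScalars.{u, u, u} φ)⟩

theorem exactAt_extCx (hφ : φ.Flat) {K : DRing.Cx R} {j : ℤ} (h : K.ExactAt j) : ((extCx φ).obj K).ExactAt j := by
  rw [exactAt_iff_isZero_homology] at h ⊢
  obtain ⟨e⟩ := nonempty_homology_extCx φ hφ K j
  exact ((ModuleCat.extendScalars.{u, u, u} φ).map_isZero h).of_iso e

end localization

theorem finite_of_extendScalars {R : Type u} [CommRing R] {r : ℕ} (f : Fin r → R)
    (hf : Ideal.span (Set.range f) = ⊤) (M : ModuleCat.{u} R)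
    (h : ∀ i, Module.Finite (Localization.Away (f i))
      ((ModuleCat.extendScalars.{u, u, u} (algebraMap R (Localization.Away (f i)))).obj M)) :
    Module.Finite R M := by
  have key : ∀ (g : R) (S : Type u) [CommRing S] [iA : Algebra R S] [IsLocalization.Away g S],
      Module.Finite S ((ModuleCat.extendScalars.{u, u, u} (algebraMap R S)).obj M) →
        Module.Finite S (TensorProduct R S M) := by
    intro g S _ iA _ hS
    have e : (algebraMap R S).toAlgebra = iA := Algebra.algebra_ext _ _ fun _ => rfl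
    have hS' : letI := (algebraMap R S).toAlgebra; Module.Finite S (TensorProduct R S M) := hS
    rw [e] at hS'
    exact hS'
  let t : Set R := Set.range f
  refine Module.Finite.of_localizationSpan' (M := M) t hf
    (Mₚ := fun g => TensorProduct R (Localization.Away g.1) M) (Rₚ := fun g => Localization.Away g.1)
    (fun g => TensorProduct.mk R (Localization.Away g.1) M 1) (fun g => ?_)
  obtain ⟨g, hg⟩ := g
  obtain ⟨k, rfl⟩ := hg
  exact key (f k) _ (h k)

theorem isZero_of_extendScalars {R : Type u} [CommRing R] {r : ℕ} (f : Fin r → R)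
    (hf : Ideal.span (Set.range f) = ⊤) (M : ModuleCat.{u} R)
    (h : ∀ i, IsZero ((ModuleCat.extendScalars.{u, u, u} (algebraMap R (Localization.Away (f i)))).obj M)) :
    IsZero M := by
  have key : ∀ (g : R) (S : Type u) [CommRing S] [iA : Algebra R S] [IsLocalization.Away g S],
      IsZero ((ModuleCat.extendScalars.{u, u, u} (algebraMap R S)).obj M) →
        Subsingleton (TensorProduct R S M) := by
    intro g S _ iA _ hS
    have e : (algebraMap R S).toAlgebra = iA := Algebra.algebra_ext _ _ fun _ => rfl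
    have hS' : letI := (algebraMap R S).toAlgebra; Subsingleton (TensorProduct R S M) :=
      ModuleCat.subsingleton_of_isZero hS
    rw [e] at hS'
    exact hS'
  have : Subsingleton M := by
    refine subsingleton_of_forall_eq 0 fun x => ?_
    refine (Submodule.mem_bot R).1 (Submodule.mem_of_span_eq_top_of_smul_pow_mem ⊥ (Set.range f) hf x ?_)
    rintro ⟨_, k, rfl⟩
    have := key (f k) (Localization.Away (f k)) (h k)
    obtain ⟨⟨_, n, rfl⟩, hn⟩ :=
      (IsLocalizedModule.eq_zero_iff (Submonoid.powers (f k)) (TensorProduct.mk R (Localization.Away (f k)) M 1)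
        (m := x)).1 (Subsingleton.elim _ _)
    exact ⟨n, hn⟩
  exact ModuleCat.isZero_of_subsingleton M

end Groth.Agent.PseudoCoherentRing
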