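import Groth.Prelude.Def_CAlgX
import Mathlib.LinearAlgebra.DirectSum.Finsupp
import Mathlib.LinearAlgebra.TensorProduct.Finiteness
import Mathlib.LinearAlgebra.TensorProduct.RightExactness
import Mathlib.RingTheory.Flat.Basic
import Mathlib.RingTheory.Flat.Equalizer
import Mathlib.RingTheory.Finiteness.Projective
import Mathlib.Algebra.Module.FinitePresentation

/-!
# Universally injective maps

The equational criterion and its consequences.
-/

set_option autoImplicit false

universe u

open TensorProduct

namespace Groth.Agent.UI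

variable {R : Type u} [CommRing R]
variable {M N P : Type u} [AddCommGroup M] [Module R M] [AddCommGroup N] [Module R N]
  [AddCommGroup P] [Module R P]

/-- The equational criterion for universal injectivity. -/
def EqCrit (f : M →ₗ[R] N) : Prop :=
  ∀ (n m : ℕ) (x : Fin n → M) (y : Fin m → N) (a : Fin n → Fin m → R),
    (∀ i, f (x i) = ∑ j, a i j • y j) → ∃ z : Fin m → M, ∀ i, x i = ∑ j, a i j • z j

lemma eqCrit_fintype {f : M →ₗ[R] N} (hf : EqCrit f) {ι κ : Type*} [Fintype ι] [Fintype κ]
    (x : ι → M) (y : κ → N) (a : ι → κ → R) (h : ∀ i, f (x i) = ∑ j, a i j • y j) :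
    ∃ z : κ → M, ∀ i, x i = ∑ j, a i j • z j := by
  let ei := Fintype.equivFin ι
  let ek := Fintype.equivFin κ
  obtain ⟨z, hz⟩ := hf _ _ (fun i => x (ei.symm i)) (fun j => y (ek.symm j))
    (fun i j => a (ei.symm i) (ek.symm j)) (fun i => by
      rw [h]; exact (ek.symm.sum_comp fun j => a (ei.symm i) j • y j).symm)
  refine ⟨fun j => z (ek j), fun i => ?_⟩
  have := hz (ei i)
  simp only [Equiv.symm_apply_apply] at this
  rw [this, ← ek.sum_comp]
  simp

/-- Every tensor is the image of a finitely supported family. -/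
private noncomputable def phi (M Q : Type u) [AddCommGroup M] [Module R M] [AddCommGroup Q]
    [Module R Q] : (Q →₀ M) →ₗ[R] M ⊗[R] Q :=
  Finsupp.lsum R fun q => (TensorProduct.mk R M Q).flip q

private lemma phi_single (Q : Type u) [AddCommGroup Q] [Module R Q] (q : Q) (m : M) :
    phi (R := R) M Q (Finsupp.single q m) = m ⊗ₜ q := by
  simp [phi]

private lemma phi_surjective (Q : Type u) [AddCommGroup Q] [Module R Q] :
    Function.Surjective (phi (R := R) M Q) := by
  intro x
  induction x using TensorProduct.induction_on with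
  | zero => exact ⟨0, map_zero _⟩
  | tmul m q => exact ⟨Finsupp.single q m, phi_single Q q m⟩
  | add a b ha hb =>
    obtain ⟨a, rfl⟩ := ha
    obtain ⟨b, rfl⟩ := hb
    exact ⟨a + b, map_add _ _ _⟩

/-- The equational criterion implies universal injectivity. -/
theorem of_eqCrit {f : M →ₗ[R] N} (hf : EqCrit f) : CAlgX.UniversallyInjective R f := by
  classical
  intro Q _ _
  rw [injective_iff_map_eq_zero]
  intro x hx
  obtain ⟨s, rfl⟩ := phi_surjective (R := R) Q x
  let π : (Q →₀ R) →ₗ[R] Q := Finsupp.linearCombination R id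
  have hπ : Function.Surjective π := Finsupp.linearCombination_id_surjective R Q
  let e := TensorProduct.finsuppScalarRight R R N Q
  have key : ∀ t : Q →₀ N, π.lTensor N (e.symm t) = phi (R := R) N Q t := by
    intro t
    induction t using Finsupp.induction_linear with
    | zero => simp
    | add a b ha hb => simp [ha, hb]
    | single q n =>
      have : e.symm (Finsupp.single q n) = n ⊗ₜ Finsupp.single q 1 := by
        rw [LinearEquiv.symm_apply_eq]
        simp [e, TensorProduct.finsuppScalarRight_apply_tmul]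
      rw [this, phi_single]
      simp [π]
  have h0 : π.lTensor N (e.symm (s.mapRange f (map_zero f))) = 0 := by
    rw [key, ← hx]
    clear hx
    induction s using Finsupp.induction_linear with
    | zero => simp
    | add a b ha hb => rw [Finsupp.mapRange_add (fun _ _ => map_add f _ _), map_add, ha, hb, map_add, map_add]
    | single q m => rw [Finsupp.mapRange_single, phi_single, phi_single, LinearMap.rTensor_tmul]
  have hex : Function.Exact (LinearMap.ker π).subtype π := LinearMap.exact_subtype_ker_map π
  have hex' := lTensor_exact (R := R) (M := ↥(LinearMap.ker π)) (N := Q →₀ R) (P := Q) N hex hπ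
  obtain ⟨z, hz⟩ := (hex' _).mp h0
  obtain ⟨l, rfl⟩ := TensorProduct.exists_finset z
  have hq : ∀ q, f (s q) = ∑ i : l, (i.1.2 : Q →₀ R) q • i.1.1 := by
    intro q
    have := congrArg (fun w => e w q) hz
    simp only [map_sum, LinearMap.lTensor_tmul, Finsupp.finsetSum_apply,
      LinearEquiv.apply_symm_apply, Finsupp.mapRange_apply, e,
      TensorProduct.finsuppScalarRight_apply_tmul_apply] at this
    rw [← this, ← Finset.sum_attach]
    rfl
  let S : Finset Q := s.support ∪ l.biUnion fun p => (p.2 : Q →₀ R).support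
  obtain ⟨z, hz'⟩ := eqCrit_fintype hf (fun q : S => s q) (fun i : l => i.1.1)
    (fun q i => (i.1.2 : Q →₀ R) q) (fun q => hq q)
  have hs : s = ∑ i : l, (i.1.2 : Q →₀ R).mapRange (fun c => c • z i) (zero_smul R _) := by
    ext q
    simp only [Finsupp.finsetSum_apply, Finsupp.mapRange_apply]
    by_cases hqS : q ∈ S
    · exact hz' ⟨q, hqS⟩
    · simp only [S, Finset.mem_union, Finset.mem_biUnion, not_or, not_exists, not_and,
        Finsupp.mem_support_iff, not_not] at hqS
      rw [hqS.1, Finset.sum_eq_zero]
      intro i _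
      rw [hqS.2 i.1 i.2, zero_smul]
  have key2 : ∀ (m : M) (k : Q →₀ R),
      phi (R := R) M Q (k.mapRange (fun c => c • m) (zero_smul R _)) = m ⊗ₜ π k := by
    intro m k
    induction k using Finsupp.induction_linear with
    | zero => simp
    | add a b ha hb =>
      rw [Finsupp.mapRange_add (fun _ _ => add_smul _ _ _), map_add, map_add, ha, hb, tmul_add]
    | single q c => rw [Finsupp.mapRange_single, phi_single]; simp [π, TensorProduct.smul_tmul]
  rw [hs, map_sum, Finset.sum_eq_zero]
  intro i _
  rw [key2, LinearMap.mem_ker.mp i.1.2.2, tmul_zero]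

/-- Universal injectivity implies the equational criterion. -/
theorem eqCrit_of {f : M →ₗ[R] N} (hf : CAlgX.UniversallyInjective R f) : EqCrit f := by
  classical
  intro n m x y a h
  let A : (Fin m → R) →ₗ[R] (Fin n → R) :=
    Fintype.linearCombination R (fun j i => a i j)
  let π := (LinearMap.range A).mkQ
  let e := fun i : Fin n => (Pi.single i (1 : R) : Fin n → R)
  have hcol : ∀ j, ∑ i, a i j • e i = fun i => a i j := fun j => by
    ext i
    simp [e, Finset.sum_apply, Pi.single_apply]
  have h0 : f.rTensor _ (∑ i, x i ⊗ₜ[R] π (e i)) = 0 := by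
    simp only [map_sum, LinearMap.rTensor_tmul, h, sum_tmul, smul_tmul, ← map_smul]
    rw [Finset.sum_comm, Finset.sum_eq_zero]
    intro j _
    rw [← tmul_sum, ← map_sum, hcol]
    have : π (fun i => a i j) = 0 := (Submodule.Quotient.mk_eq_zero _).mpr
      ⟨Pi.single j 1, by simp [A]⟩
    rw [this, tmul_zero]
  have hz := (injective_iff_map_eq_zero _).mp (hf _) _ h0
  have h1 : π.lTensor M (∑ i, x i ⊗ₜ[R] e i) = 0 := by simpa using hz
  obtain ⟨w, hw⟩ := (lTensor_exact M (LinearMap.exact_map_mkQ_range A)
    (Submodule.mkQ_surjective _) _).mp h1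
  let p := TensorProduct.piScalarRight R R M (Fin m)
  refine ⟨p w, fun i => ?_⟩
  have := congrArg (fun v => TensorProduct.piScalarRight R R M (Fin n) v i) hw
  simp only [map_sum, TensorProduct.piScalarRight_apply, TensorProduct.piScalarRightHom_tmul,
    Finset.sum_apply] at this
  have e1 : ∀ v : M ⊗[R] (Fin m → R),
      TensorProduct.piScalarRightHom R R M (Fin n) (A.lTensor M v) i = ∑ j, a i j • p v j := by
    intro v
    induction v using TensorProduct.induction_on with
    | zero => simp
    | tmul m' r =>
      simp [p, A, Fintype.linearCombination_apply, Finset.sum_apply, Finset.sum_smul, smul_smul,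
        mul_comm]
    | add b c hb hc => simp [hb, hc, smul_add, Finset.sum_add_distrib]
  rw [← e1, this]
  simp [e, Pi.single_apply, ite_smul]

theorem iff_eqCrit (f : M →ₗ[R] N) : CAlgX.UniversallyInjective R f ↔ EqCrit f :=
  ⟨eqCrit_of, of_eqCrit⟩

lemma of_comp {f : M →ₗ[R] N} {g : N →ₗ[R] P} (h : CAlgX.UniversallyInjective R (g ∘ₗ f)) :
    CAlgX.UniversallyInjective R f := fun Q _ _ => by
  have := h Q
  rw [LinearMap.rTensor_comp, LinearMap.coe_comp] at this
  exact this.of_comp

lemma comp {f : M →ₗ[R] N} {g : N →ₗ[R] P} (hf : CAlgX.UniversallyInjective R f)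
    (hg : CAlgX.UniversallyInjective R g) :
    CAlgX.UniversallyInjective R (g ∘ₗ f) := fun Q _ _ => by
  rw [LinearMap.rTensor_comp, LinearMap.coe_comp]
  exact (hg Q).comp (hf Q)

lemma of_retraction {f : M →ₗ[R] N} {r : N →ₗ[R] M} (h : r ∘ₗ f = LinearMap.id) :
    CAlgX.UniversallyInjective R f := fun Q _ _ => by
  refine Function.LeftInverse.injective (g := r.rTensor Q) fun x => ?_
  rw [← LinearMap.comp_apply, ← LinearMap.rTensor_comp, h, LinearMap.rTensor_id, LinearMap.id_apply]

lemma lTensor_injective {f : M →ₗ[R] N} (hf : CAlgX.UniversallyInjective R f) (Q : Type u)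
    [AddCommGroup Q] [Module R Q] : Function.Injective (f.lTensor Q) := by
  rw [LinearMap.lTensor_inj_iff_rTensor_inj]
  exact hf Q

lemma of_lTensor {f : M →ₗ[R] N}
    (hf : ∀ (Q : Type u) [AddCommGroup Q] [Module R Q], Function.Injective (f.lTensor Q)) :
    CAlgX.UniversallyInjective R f := fun Q _ _ => by
  rw [← LinearMap.lTensor_inj_iff_rTensor_inj]
  exact hf Q

/-- A short exact sequence with universally injective first map and flat middle has flat ends. -/
theorem flat_of_flat_middle (f : M →ₗ[R] N) (g : N →ₗ[R] P) (hexact : Function.Exact f g)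
    (hg : Function.Surjective g) (hf : CAlgX.UniversallyInjective R f) [Module.Flat R N] :
    Module.Flat R M ∧ Module.Flat R P := by
  constructor
  · rw [Module.Flat.iff_rTensor_preserves_injective_linearMap]
    intro A B _ _ _ _ i hi
    have e : Function.Injective (f.lTensor B ∘ i.rTensor M) := by
      rw [← LinearMap.coe_comp, LinearMap.lTensor_comp_rTensor, ← LinearMap.rTensor_comp_lTensor,
        LinearMap.coe_comp]
      exact (Module.Flat.rTensor_preserves_injective_linearMap (M := N) i hi).comp
        (lTensor_injective hf A)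
    exact e.of_comp
  · rw [Module.Flat.iff_rTensor_preserves_injective_linearMap]
    intro A B _ _ _ _ i hi
    rw [injective_iff_map_eq_zero]
    intro x hx
    obtain ⟨y, rfl⟩ := LinearMap.lTensor_surjective A hg x
    have h1 : g.lTensor B (i.rTensor N y) = 0 := by
      rw [← LinearMap.comp_apply, LinearMap.lTensor_comp_rTensor, ← LinearMap.rTensor_comp_lTensor,
        LinearMap.comp_apply, hx]
    obtain ⟨w, hw⟩ := (lTensor_exact B hexact hg _).mp h1
    let q := (LinearMap.range i).mkQ
    have hiq := LinearMap.exact_map_mkQ_range i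
    have h2 : f.lTensor _ (q.rTensor M w) = 0 := by
      rw [← LinearMap.comp_apply, LinearMap.lTensor_comp_rTensor, ← LinearMap.rTensor_comp_lTensor,
        LinearMap.comp_apply, hw]
      exact (rTensor_exact N hiq (Submodule.mkQ_surjective _)).apply_apply_eq_zero y
    obtain ⟨w', hw'⟩ := (rTensor_exact M hiq (Submodule.mkQ_surjective _) w).mp
      ((injective_iff_map_eq_zero _).mp (lTensor_injective hf _) _ h2)
    have h3 : i.rTensor N (f.lTensor A w') = i.rTensor N y := by
      rw [← LinearMap.comp_apply, LinearMap.rTensor_comp_lTensor, ← LinearMap.lTensor_comp_rTensor,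
        LinearMap.comp_apply, hw', hw]
    rw [← Module.Flat.rTensor_preserves_injective_linearMap (M := N) i hi h3]
    exact (lTensor_exact A hexact hg).apply_apply_eq_zero w'

theorem of_flat_cokernel (f : M →ₗ[R] N) (g : N →ₗ[R] P) (hf : Function.Injective f)
    (hexact : Function.Exact f g) (hg : Function.Surjective g) [Module.Flat R P] :
    CAlgX.UniversallyInjective R f :=
  of_lTensor fun Q _ _ => LinearMap.lTensor_injective_of_exact_of_flat g hg f hf hexact Q

/-- Universal injectivity with finitely presented cokernel splits. -/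
theorem exists_section [Module.FinitePresentation R P] (f : M →ₗ[R] N) (g : N →ₗ[R] P)
    (hexact : Function.Exact f g) (hg : Function.Surjective g)
    (hf : CAlgX.UniversallyInjective R f) : ∃ s : P →ₗ[R] N, g ∘ₗ s = LinearMap.id := by
  classical
  obtain ⟨n, K, e, hK⟩ := Module.FinitePresentation.exists_fin R P
  obtain ⟨m', k, hk⟩ := Submodule.fg_iff_exists_fin_generating_family.mp hK
  let p : (Fin n → R) →ₗ[R] P := e.symm.toLinearMap ∘ₗ K.mkQ
  choose y hy using fun i => hg (p (Pi.single i 1))
  let L : (Fin n → R) →ₗ[R] N := Fintype.linearCombination R y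
  have hL : g ∘ₗ L = p := by
    refine (Pi.basisFun R (Fin n)).ext fun i => ?_
    simp [L, hy]
  have hk0 : ∀ l, g (L (k l)) = 0 := fun l => by
    rw [← LinearMap.comp_apply, hL]
    have : k l ∈ K := hk ▸ Submodule.subset_span (Set.mem_range_self l)
    simp [p, (Submodule.Quotient.mk_eq_zero K).mpr this]
  choose x hx using fun l => (hexact _).mp (hk0 l)
  obtain ⟨z, hz⟩ := eqCrit_fintype (eqCrit_of hf) x y (fun l i => k l i)
    (fun l => by rw [hx]; simp [L, Fintype.linearCombination_apply])
  let L' : (Fin n → R) →ₗ[R] N := L - f ∘ₗ Fintype.linearCombination R z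
  have hker : K ≤ LinearMap.ker L' := by
    rw [← hk, Submodule.span_le]
    rintro _ ⟨l, rfl⟩
    simp [L', Fintype.linearCombination_apply, ← hz, hx]
  refine ⟨K.liftQ L' hker ∘ₗ e.toLinearMap, LinearMap.ext fun v => ?_⟩
  obtain ⟨w, hw⟩ := Submodule.mkQ_surjective K (e v)
  have hpw : p w = v := by simp [p, ← Submodule.mkQ_apply, hw]
  simp only [LinearMap.comp_apply, LinearEquiv.coe_toLinearMap, ← hw, Submodule.mkQ_apply,
    Submodule.liftQ_apply, L', LinearMap.sub_apply, map_sub, hexact.apply_apply_eq_zero, sub_zero]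
  rw [← LinearMap.comp_apply, hL, hpw]
  rfl

/-- Property (P): an injection out of `R` into a finite free module splits. -/
theorem split_one_of_propertyP (R : Type u) [CommRing R] (hP : ∀ I : Ideal R, I.FG → I ≠ ⊤ → I.annihilator ≠ ⊥)
    (n : ℕ) (u : R →ₗ[R] (Fin n → R)) (hu : Function.Injective u) :
    ∃ v : (Fin n → R) →ₗ[R] R, v.comp u = LinearMap.id := by
  let I := Ideal.span (Set.range (u 1))
  have hI : I = ⊤ := by
    by_contra hne
    classical
    refine hP I ⟨Finset.univ.image (u 1), by simp [I]⟩ hne (eq_bot_iff.mpr fun r hr => ?_)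
    have : u r = u 0 := by
      rw [map_zero, show r = r • (1 : R) by simp, map_smul]
      funext i
      simpa [mul_comm] using Submodule.mem_annihilator.mp hr (u 1 i) (Ideal.subset_span ⟨i, rfl⟩)
    exact hu this
  obtain ⟨c, hc⟩ := (Ideal.mem_span_range_iff_exists_fun).mp (show (1 : R) ∈ I by simp [hI])
  exact ⟨Fintype.linearCombination R c, LinearMap.ext_ring (by simpa [Fintype.linearCombination_apply, mul_comm] using hc)⟩

/-- Property (P): injections between finite free modules split. -/
theorem split_of_propertyP (R : Type u) [CommRing R] (hP : (∀ I : Ideal R, I.FG → I ≠ ⊤ → I.annihilator ≠ ⊥)) :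
    ∀ (n m : ℕ) (u : (Fin n → R) →ₗ[R] (Fin m → R)), Function.Injective u → ∃ v, v ∘ₗ u = LinearMap.id := by
  intro n
  induction n with
  | zero => intro m u _; exact ⟨0, LinearMap.ext fun x => Subsingleton.elim _ _⟩
  | succ n ih =>
    intro m u hu
    let e := Fin.consLinearEquiv R (fun _ : Fin (n+1) => R)
    let u0 : R →ₗ[R] (Fin m → R) := u ∘ₗ e.toLinearMap ∘ₗ LinearMap.inl R _ _
    let u1 : (Fin n → R) →ₗ[R] (Fin m → R) := u ∘ₗ e.toLinearMap ∘ₗ LinearMap.inr R _ _
    obtain ⟨v0, hv0⟩ := split_one_of_propertyP R hP m u0 (hu.comp (e.injective.comp LinearMap.inl_injective))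
    have hv0' : ∀ r, v0 (u0 r) = r := fun r => DFunLike.congr_fun hv0 r
    let u1' := (LinearMap.id - u0 ∘ₗ v0) ∘ₗ u1
    have hu1 : Function.Injective u1' := by
      rw [injective_iff_map_eq_zero]
      intro x hx
      have : u (e ((v0 (u1 x), 0) : R × (Fin n → R))) = u (e ((0, x) : R × (Fin n → R))) := by
        have h2 : u1 x = u0 (v0 (u1 x)) := by simpa [u1', sub_eq_zero] using hx
        exact h2.symm
      exact (congrArg Prod.snd (e.injective (hu this))).symm
    obtain ⟨v1, hv1⟩ := ih m u1' hu1
    have hv1' : ∀ x, v1 (u1' x) = x := fun x => DFunLike.congr_fun hv1 x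
    refine ⟨e.toLinearMap ∘ₗ ((v0 - v0 ∘ₗ u1 ∘ₗ v1 ∘ₗ (LinearMap.id - u0 ∘ₗ v0)).prod (v1 ∘ₗ (LinearMap.id - u0 ∘ₗ v0))), ?_⟩
    apply LinearMap.ext
    intro x
    obtain ⟨⟨r, y⟩, rfl⟩ := e.surjective x
    have hx : u (e (r, y)) = u0 r + u1 y := by
      simp only [u0, u1, LinearMap.comp_apply, LinearMap.inl_apply, LinearMap.inr_apply, LinearEquiv.coe_toLinearMap, ← map_add]
      simp
    have hpr : u (e (r, y)) - u0 (v0 (u (e (r, y)))) = u1' y := by
      simp [hx, u1', map_add, hv0']
    simp only [LinearMap.comp_apply, LinearMap.prod_apply, LinearMap.sub_apply, LinearMap.id_apply, LinearEquiv.coe_toLinearMap]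
    refine congrArg e ?_
    ext
    · change v0 (u (e (r, y))) - v0 (u1 (v1 (u (e (r, y)) - u0 (v0 (u (e (r, y))))))) = r
      rw [hpr, hv1', hx, map_add, hv0', add_sub_cancel_right]
    · simp [hpr, hv1']

end Groth.Agent.UI
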