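/-
Corollaries for pseudo-coherent and perfect objects of D(R).
-/
import Mathlib
import Groth.Prelude.Def_DRing2
import Groth.Prelude.Def_DDual2
import Groth.Agent.Lib.H5DTen
import Groth.Agent.Lib.H5Perf
import Groth.Agent.Lib.H5Amp
import Groth.Agent.Lib.H5WayOut
import Groth.Agent.Lib.CoherentRings
import Groth.Agent.Lib.UnivInjective
import Groth.Agent.Lib.PseudoCoherentRing
import Groth.Agent.Lib.H7StupidGE
import Groth.Agent.S2087

universe u v w

open CategoryTheory Limits Pretriangulated HomologicalComplex Groth.Agent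
open scoped ZeroObject
open Groth.Agent.PseudoCoherentRing

attribute [local instance] HasDerivedCategory.standard

namespace Groth.Agent.PseudoCoherentRingMore



/-- cohomology functor -/
noncomputable abbrev HF (R : Type u) [CommRing R] (i : ℤ) : Dual.D R ⥤ ModuleCat.{u} R :=
  DerivedCategory.homologyFunctor (ModuleCat.{u} R) i

variable {R : Type u} [CommRing R]

theorem vanish_iff_subsingleton {K : Dual.D R} {m : ℤ} :
    Vanish m K ↔ ∀ i, m ≤ i → Subsingleton ((HF R i).obj K) :=
  forall₂_congr fun i _ => ⟨fun h => ModuleCat.subsingleton_of_isZero h, fun h => @ModuleCat.isZero_of_subsingleton R _ _ h⟩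

theorem vanish_of_bound {K : Dual.D R} (hb : ∃ b : ℤ, ∀ i : ℤ, b < i → Subsingleton ((HF R i).obj K)) (m : ℤ) :
    ∃ b : ℤ, m ≤ b ∧ Vanish b K := by
  obtain ⟨b, hb⟩ := hb
  exact ⟨max m (b + 1), le_max_left _ _, vanish_iff_subsingleton.2 fun i hi => hb i (by omega)⟩

theorem isPseudo'_iff {K : Dual.D R} : DRing.IsPseudoCoherent' R K ↔ ∀ m, DRing.IsPseudoCoherent R m K := by
  constructor
  · rintro ⟨E, b, h1, h2, ⟨e⟩⟩ m
    exact isPseudo_of_iso e (isPseudo_of_termwiseFiniteProjective h1
      (fun i => ⟨(h2 i).1, have := (h2 i).2; inferInstance⟩) m)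
  · intro h
    obtain ⟨E, b, h1, h2, ⟨e⟩⟩ := isPseudo'_of_forall (DerivedCategory.Q.objPreimage K)
      (fun m => isPseudo_of_iso (DerivedCategory.Q.objObjPreimageIso K).symm (h m))
    exact ⟨E, b, h1, h2, ⟨e ≪≫ DerivedCategory.Q.objObjPreimageIso K⟩⟩

theorem nonempty_H0_inD (M : Type u) [AddCommGroup M] [Module R M] :
    Nonempty ((HF R 0).obj (Dual.inD R M) ≅ ModuleCat.of R M) :=
  ⟨(DerivedCategory.singleFunctorCompHomologyFunctorIso (ModuleCat.{u} R) 0).app (ModuleCat.of R M)⟩

theorem vanish_inD_neg (M : Type u) [AddCommGroup M] [Module R M] {i : ℤ} (hi : i < 0) :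
    IsZero ((HF R i).obj (Dual.inD R M)) := by
  have : DerivedCategory.IsGE (Dual.inD R M) 0 :=
    (inferInstance : DerivedCategory.IsGE ((DerivedCategory.singleFunctor (ModuleCat.{u} R) 0).obj (ModuleCat.of R M)) 0)
  exact DerivedCategory.isZero_of_isGE _ 0 i hi

/-- summands, at a given level -/
theorem isPseudo_summand_le (X Y : Dual.D R) [HasBinaryBiproduct X Y] {m : ℤ}
    (h : DRing.IsPseudoCoherent R m (X ⊞ Y)) :
    DRing.IsPseudoCoherent R m X ∧ DRing.IsPseudoCoherent R m Y := by
  obtain ⟨b, hmb, hb⟩ := exists_vanish h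
  have hX : Vanish b X := fun i hi =>
    IsZero.of_mono ((HF R i).map (biprod.inl : X ⟶ X ⊞ Y)) (hb i hi)
  have hY : Vanish b Y := fun i hi =>
    IsZero.of_mono ((HF R i).map (biprod.inr : Y ⟶ X ⊞ Y)) (hb i hi)
  suffices hs : ∀ n : ℕ, m ≤ b - n →
      DRing.IsPseudoCoherent R (b - n) X ∧ DRing.IsPseudoCoherent R (b - n) Y by
    have e : b - ((b - m).toNat : ℤ) = m := by omega
    exact e ▸ hs (b - m).toNat (by omega)
  intro n
  induction n with
  | zero => exact fun _ => by simpa using And.intro (isPseudo_of_vanish hX) (isPseudo_of_vanish hY)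
  | succ n ih =>
    intro hn
    obtain ⟨hx, hy⟩ := ih (by omega)
    exact ⟨isPseudo₃ _ (binaryBiproductTriangle_distinguished Y X) (isPseudo_mono hy (by omega))
        (isPseudo_of_iso (biprod.braiding X Y) (isPseudo_mono h hn)),
      isPseudo₃ _ (binaryBiproductTriangle_distinguished X Y) (isPseudo_mono hx (by omega)) (isPseudo_mono h hn)⟩

theorem exact_finite {S : ShortComplex (ModuleCat.{u} R)} (hS : S.Exact) [Module.Finite R S.X₁]
    (hg : (LinearMap.range S.g.hom).FG) : Module.Finite R S.X₂ := by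
  have h1 : Module.Finite R (LinearMap.ker S.g.hom) := by
    rw [← hS.moduleCat_range_eq_ker]; infer_instance
  have : Module.Finite R (LinearMap.range S.g.hom) := Module.Finite.iff_fg.2 hg
  have : Module.Finite R (S.X₂ ⧸ LinearMap.ker S.g.hom) := Module.Finite.equiv S.g.hom.quotKerEquivRange.symm
  exact Module.Finite.of_submodule_quotient (LinearMap.ker S.g.hom)

theorem finite_cone_of_homology {E K : DRing.Cx R} (f : E ⟶ K) (m : ℤ)
    (hm : Module.Finite R ((HF R m).obj (DRing.toD K)))
    (hk : (LinearMap.ker ((HF R (m + 1)).map (DerivedCategory.Q.map f)).hom).FG) :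
    Module.Finite R ((CochainComplex.mappingCone f).homology m) := by
  let T := DerivedCategory.Q.mapTriangle.obj (CochainComplex.mappingCone.triangle f)
  have hT : T ∈ distTriang _ := (DerivedCategory.mem_distTriang_iff _).2 ⟨_, _, _, ⟨Iso.refl _⟩⟩
  have h3 := DerivedCategory.HomologySequence.exact₃ T hT m (m + 1) rfl
  have h1 := DerivedCategory.HomologySequence.exact₁ T hT m (m + 1) rfl
  have : Module.Finite R ((DerivedCategory.Q ⋙ DerivedCategory.homologyFunctor (ModuleCat.{u} R) m).obj
      (CochainComplex.mappingCone f)) := by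
    refine @exact_finite R _ _ h3 hm ?_
    exact h1.moduleCat_range_eq_ker.symm ▸ hk
  exact Module.Finite.equiv
    ((DerivedCategory.homologyFunctorFactors (ModuleCat.{u} R) m).app (CochainComplex.mappingCone f)).toLinearEquiv

theorem isPseudo_of_homology {K₀ : DRing.Cx R} {m N : ℤ} (hmN : m ≤ N) (hN : Vanish N (DRing.toD K₀))
    (hfin : ∀ j, m ≤ j → Module.Finite R ((HF R j).obj (DRing.toD K₀)))
    (hfp : ∀ j, m < j → Module.FinitePresentation R ((HF R j).obj (DRing.toD K₀)))
    (hE : ∀ j, m < j → ∀ (E : DRing.Cx R) (a b : ℤ) (f : E ⟶ K₀), DRing.VanishesOutside E a b →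
      DRing.TermwiseFiniteFree E → MI j (DerivedCategory.Q.map f) → Module.Finite R ((HF R j).obj (DRing.toD E))) :
    DRing.IsPseudoCoherent R m (DRing.toD K₀) := by
  suffices h : ∀ n : ℕ, m ≤ N - n → Nonempty (Model K₀ N n) by
    obtain ⟨M⟩ := h (N - m).toNat (by omega)
    exact (isPseudo_iff m _).2 ⟨M.E, _, _, DerivedCategory.Q.map M.f, M.van, M.ff,
      (mI_iff_ex M.f m).2 fun j hj => M.ex j (by omega)⟩
  intro n
  induction n with
  | zero => exact fun _ => nonempty_model_zero hN
  | succ n ih =>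
    intro hn
    obtain ⟨M⟩ := ih (by omega)
    let j := N - (n + 1 : ℕ)
    have hMI : MI (j + 1) (DerivedCategory.Q.map M.f) := (mI_iff_ex M.f (j + 1)).2 fun i hi => M.ex i (by omega)
    have := hE (j + 1) (by omega) M.E _ _ M.f M.van M.ff hMI
    have := hfp (j + 1) (by omega)
    have hk := Module.FinitePresentation.fg_ker ((HF R (j + 1)).map (DerivedCategory.Q.map M.f)).hom
      ((ModuleCat.epi_iff_surjective _).1 hMI.2)
    have := finite_cone_of_homology M.f j (hfin j (by omega)) hk
    obtain ⟨E', f', -, h1, h2, -, -, h5⟩ := exists_step (m := j) M.f M.van M.ff (fun i hi => M.ex i (by omega))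
    exact ⟨⟨E', f', fun i hi => h1 i (by omega), h2, h5⟩⟩

theorem coh_homology_fp (hR : ∀ I : Ideal R, I.FG → Module.FinitePresentation R I) {E : DRing.Cx R}
    (hff : DRing.TermwiseFiniteFree E) (j : ℤ) :
    Module.FinitePresentation R ((HF R j).obj (DRing.toD E)) := by
  let S := E.sc' (j - 1) j (j + 1)
  have hsub : ∀ i, ∀ N : Submodule R (E.X i), N.FG → Module.FinitePresentation R N := fun i => by
    have := (hff i).1; have := (hff i).2
    let bs := Module.Free.chooseBasis R (E.X i)
    exact CoherentRings.coh_equiv (bs.reindex (Fintype.equivFin _)).equivFun (CoherentRings.coh_free hR _)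
  have := (hff j).1
  have : Module.Finite R S.X₂ := (hff j).1
  have hr : (LinearMap.range S.g.hom).FG := Module.Finite.iff_fg.1 inferInstance
  have : Module.FinitePresentation R (LinearMap.range S.g.hom) := hsub (j + 1) _ hr
  have hZ : (LinearMap.ker S.g.hom).FG := by
    have := Module.FinitePresentation.fg_ker S.g.hom.rangeRestrict S.g.hom.surjective_rangeRestrict
    rwa [LinearMap.ker_rangeRestrict] at this
  have : Module.FinitePresentation R (LinearMap.ker S.g.hom) := hsub j _ hZ
  have : Module.Finite R S.X₁ := (hff (j - 1)).1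
  have : Module.FinitePresentation R (LinearMap.ker S.g.hom ⧸ LinearMap.range S.moduleCatToCycles) :=
    Module.finitePresentation_of_surjective (Submodule.mkQ _) (Submodule.mkQ_surjective _)
      (by rw [Submodule.ker_mkQ]; exact Module.Finite.iff_fg.1 inferInstance)
  let i : (LinearMap.ker S.g.hom ⧸ LinearMap.range S.moduleCatToCycles) ≃ₗ[R] (HF R j).obj (DRing.toD E) :=
    (S.moduleCatHomologyIso.symm ≪≫
      (ShortComplex.homologyMapIso (E.isoSc' (j - 1) j (j + 1) (by simp) (by simp))).symm ≪≫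
      ((DerivedCategory.homologyFunctorFactors (ModuleCat.{u} R) j).app E).symm).toLinearEquiv
  exact Module.FinitePresentation.of_equiv i

theorem coherent_iff (hR : ∀ I : Ideal R, I.FG → Module.FinitePresentation R I) (K : Dual.D R)
    (hb : ∃ b : ℤ, ∀ i : ℤ, b < i → Subsingleton ((HF R i).obj K)) (m : ℤ) :
    DRing.IsPseudoCoherent R m K ↔
      Module.Finite R ((HF R m).obj K) ∧ ∀ i, m < i → Module.FinitePresentation R ((HF R i).obj K) := by
  constructor
  · intro h
    obtain ⟨E, a, b, α, hE, hE', hα⟩ := (isPseudo_iff m K).1 h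
    refine ⟨?_, fun i hi => ?_⟩
    · have := coh_homology_fp hR hE' m
      exact Module.Finite.of_surjective ((HF R m).map α).hom ((ModuleCat.epi_iff_surjective _).1 hα.2)
    · have := coh_homology_fp hR hE' i
      have := hα.1 i hi
      exact Module.FinitePresentation.of_equiv (asIso ((HF R i).map α)).toLinearEquiv
  · rintro ⟨h1, h2⟩
    let e := DerivedCategory.Q.objObjPreimageIso K
    let K₀ := DerivedCategory.Q.objPreimage K
    obtain ⟨N, hmN, hN⟩ := vanish_of_bound hb m
    have hfp' : ∀ j, m < j → Module.FinitePresentation R ((HF R j).obj (DRing.toD K₀)) := fun j hj =>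
      have := h2 j hj
      Module.FinitePresentation.of_equiv ((HF R j).mapIso e).toLinearEquiv.symm
    refine isPseudo_of_iso e (isPseudo_of_homology hmN
      (fun i hi => (hN i hi).of_iso ((HF R i).mapIso e)) (fun j hj => ?_) hfp'
      (fun j _ E a b f _ hff _ => have := coh_homology_fp hR hff j; inferInstance))
    rcases eq_or_lt_of_le hj with rfl | hj'
    · exact Module.Finite.equiv ((HF R m).mapIso e).toLinearEquiv.symm
    · have := hfp' j hj'; infer_instance

/-- induction on a bounded complex, term by term -/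
theorem term_induction (Φ : Dual.D R → Prop) (hiso : ∀ {X Y : Dual.D R}, (X ≅ Y) → Φ X → Φ Y)
    (hzero : ∀ X, IsZero X → Φ X)
    (hext : ∀ T : Triangle (Dual.D R), T ∈ distTriang _ → Φ T.obj₁ → Φ T.obj₃ → Φ T.obj₂) :
    ∀ (n : ℕ) (E : DRing.Cx R) (a b : ℤ), b - a < n → DRing.VanishesOutside E a b →
      (∀ i : ℤ, a ≤ i → i ≤ b → Φ ((Dual.inD R (E.X i))⟦-i⟧)) → Φ (DerivedCategory.Q.obj E) := by
  have single : ∀ (a : ℤ) (M : ModuleCat.{u} R), Φ ((Dual.inD R M)⟦-a⟧) →
      Φ (DerivedCategory.Q.obj ((HomologicalComplex.single (ModuleCat.{u} R) (ComplexShape.up ℤ) a).obj M)) :=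
    fun a M h => hiso (((DerivedCategory.singleFunctors (ModuleCat.{u} R)).shiftIso (-a) a 0 (by omega)).app M ≪≫
      (DerivedCategory.singleFunctorIsoCompQ (ModuleCat.{u} R) a).app _) h
  intro n
  induction n with
  | zero =>
    intro E a b hab hE _
    refine hzero _ (DerivedCategory.Q.map_isZero ?_)
    refine (IsZero.iff_id_eq_zero _).2 (HomologicalComplex.hom_ext _ _ fun i => ?_)
    exact (hE i (by omega)).eq_of_src _ _
  | succ n ih =>
    intro E a b hab hE hp
    by_cases hab' : b < a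
    · refine hzero _ (DerivedCategory.Q.map_isZero ?_)
      refine (IsZero.iff_id_eq_zero _).2 (HomologicalComplex.hom_ext _ _ fun i => ?_)
      exact (hE i (by omega)).eq_of_src _ _
    let g : E ⟶ (HomologicalComplex.single (ModuleCat.{u} R) (ComplexShape.up ℤ) a).obj (E.X a) :=
      HomologicalComplex.mkHomToSingle (𝟙 (E.X a)) (fun i hi => by
        have : i + 1 = a := hi
        exact (hE i (by omega)).eq_of_src _ _)
    have hga : IsIso (g.f a) := by
      simp only [g, HomologicalComplex.mkHomToSingle_f]; infer_instance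
    have hgi : ∀ i, i ≠ a → IsZero (((HomologicalComplex.single (ModuleCat.{u} R)
        (ComplexShape.up ℤ) a).obj (E.X a)).X i) := fun i hi =>
      HomologicalComplex.isZero_single_obj_X _ _ _ _ hi
    have hepi : ∀ i, Epi (g.f i) := fun i => by
      by_cases hi : i = a
      · subst hi; infer_instance
      · exact ⟨fun _ _ _ => (hgi i hi).eq_of_src _ _⟩
    have : Epi g := HomologicalComplex.epi_of_epi_f g hepi
    let S := ShortComplex.mk (kernel.ι g) g (kernel.condition g)
    have hS : S.ShortExact :=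
      { exact := ShortComplex.exact_of_f_is_kernel _ (kernelIsKernel g) }
    have hSi : ∀ i, (S.map (HomologicalComplex.eval (ModuleCat.{u} R) (ComplexShape.up ℤ) i)).ShortExact :=
      fun i => hS.map_of_exact _
    have h1 : ∀ i, i ≠ a → IsIso ((kernel.ι g).f i) := fun i hi => by
      have : Mono ((kernel.ι g).f i) := (hSi i).mono_f
      have : Epi ((kernel.ι g).f i) := (hSi i).exact.epi_f ((hgi i hi).eq_of_tgt _ _)
      exact isIso_of_mono_of_epi _
    have h2 : IsZero ((kernel g).X a) := by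
      have : Mono ((kernel.ι g).f a) := (hSi a).mono_f
      refine IsZero.of_mono_eq_zero ((kernel.ι g).f a) ?_
      rw [← cancel_mono (g.f a), ← HomologicalComplex.comp_f, kernel.condition, zero_comp]
      rfl
    have h3 : DRing.VanishesOutside (kernel g) (a + 1) b := fun i hi => by
      by_cases hia : i = a
      · subst hia; exact h2
      · have := h1 i hia
        exact (hE i (by omega)).of_iso (asIso ((kernel.ι g).f i))
    refine hext _ (DerivedCategory.triangleOfSES_distinguished hS) (ih _ (a + 1) b (by omega) h3 fun i hi hi' => ?_)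
      (single a _ (hp a le_rfl (by omega)))
    have := h1 i (by omega)
    exact hiso ((shiftFunctor (Dual.D R) (-i)).mapIso ((DerivedCategory.singleFunctor (ModuleCat.{u} R) 0).mapIso
      (asIso ((kernel.ι g).f i)).symm)) (hp i (by omega) hi')

/-- induction on the cohomology of a bounded object -/
theorem cohom_induction (Φ : Dual.D R → Prop) (hiso : ∀ {X Y : Dual.D R}, (X ≅ Y) → Φ X → Φ Y)
    (hzero : ∀ X, IsZero X → Φ X)
    (hext : ∀ T : Triangle (Dual.D R), T ∈ distTriang _ → Φ T.obj₁ → Φ T.obj₃ → Φ T.obj₂) :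
    ∀ (k : ℕ) (X : Dual.D R) (a b : ℤ), b - a < k → DerivedCategory.IsGE X a → DerivedCategory.IsLE X b →
      (∀ i : ℤ, a ≤ i → i ≤ b → Φ ((Dual.inD R ((HF R i).obj X))⟦-i⟧)) → Φ X := by
  intro k
  induction k with
  | zero =>
    intro X a b hab ha hb _
    exact hzero X (DerivedCategory.TStructure.t.isZero X b a (by omega))
  | succ k ih =>
    intro X a b hab ha hb hX
    by_cases hab' : b < a
    · exact hzero X (DerivedCategory.TStructure.t.isZero X b a (by omega))
    obtain ⟨c, rfl⟩ : ∃ c, b = c + 1 := ⟨b - 1, by omega⟩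
    have h := DerivedCategory.TStructure.t.triangleLTGE_distinguished (c + 1) X
    refine hext _ h (ih _ a c (by omega) ?_ ?_ ?_) ?_
    · exact (inferInstance : DerivedCategory.IsGE ((DerivedCategory.TStructure.t.truncLT (c + 1)).obj X) a)
    · exact DerivedCategory.TStructure.t.isLE_of_le
        ((DerivedCategory.TStructure.t.truncLT (c + 1)).obj X) (c + 1 - 1) c (by omega)
    · intro i h1 h2
      exact hiso ((shiftFunctor (Dual.D R) (-i)).mapIso ((DerivedCategory.singleFunctor (ModuleCat.{u} R) 0).mapIso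
        (H5WayOut.H_truncLE_iso X c i h2).some.symm)) (hX i h1 (by omega))
    · have hs : DerivedCategory.IsLE ((DerivedCategory.TStructure.t.truncGE (c + 1)).obj X) (c + 1) :=
        inferInstance
      obtain ⟨M, ⟨e⟩⟩ := DerivedCategory.exists_iso_singleFunctor_obj_of_isGE_of_isLE
        ((DerivedCategory.TStructure.t.truncGE (c + 1)).obj X) (c + 1)
      have eM : (HF R (c + 1)).obj X ≅ M := (H5WayOut.H_truncGE_iso X (c + 1) (c + 1) le_rfl).some ≪≫
        (HF R (c + 1)).mapIso e ≪≫
          (DerivedCategory.singleFunctorCompHomologyFunctorIso (ModuleCat.{u} R) (c + 1)).app M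
      refine hiso ?_ (hX (c + 1) (by omega) le_rfl)
      exact (shiftFunctor (Dual.D R) (-(c + 1))).mapIso ((DerivedCategory.singleFunctor (ModuleCat.{u} R) 0).mapIso eM) ≪≫
        ((DerivedCategory.singleFunctors (ModuleCat.{u} R)).shiftIso (-(c + 1)) (c + 1) 0 (by omega)).app M ≪≫ e.symm

theorem isPseudo_zero (m : ℤ) {X : Dual.D R} (hX : IsZero X) : DRing.IsPseudoCoherent R m X :=
  isPseudo_of_vanish fun i _ => (HF R i).map_isZero hX

theorem isPerfect_of_iso {X Y : Dual.D R} (e : X ≅ Y) (h : DRing.IsPerfect R X) : DRing.IsPerfect R Y := by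
  obtain ⟨E, a, b, h1, h2, ⟨e'⟩⟩ := h
  exact ⟨E, a, b, h1, h2, ⟨e' ≪≫ e⟩⟩

theorem isPerfect_zero {X : Dual.D R} (hX : IsZero X) : DRing.IsPerfect R X := by
  have hz : IsZero (0 : DRing.Cx R) := isZero_zero _
  refine ⟨0, 0, 0, fun i _ => (HomologicalComplex.eval _ _ i).map_isZero hz, fun i => ?_,
    ⟨(DerivedCategory.Q.map_isZero hz).iso hX⟩⟩
  have : Subsingleton ((0 : DRing.Cx R).X i) :=
    ModuleCat.subsingleton_of_isZero ((HomologicalComplex.eval _ _ i).map_isZero hz)
  exact ⟨inferInstance, inferInstance⟩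

theorem isPerfect_shift {X : Dual.D R} (h : DRing.IsPerfect R X) (n : ℤ) : DRing.IsPerfect R (X⟦n⟧) := by
  obtain ⟨E, a, b, h1, h2, ⟨e⟩⟩ := h
  exact ⟨E⟦n⟧, a - n, b - n, fun i hi => h1 (i + n) (by omega), fun i => h2 (i + n),
    ⟨(DerivedCategory.Q.commShiftIso n).app E ≪≫ (shiftFunctor (Dual.D R) n).mapIso e⟩⟩

theorem isPerfect₃ (T : Triangle (Dual.D R)) (hT : T ∈ distTriang _)
    (h₁ : DRing.IsPerfect R T.obj₁) (h₂ : DRing.IsPerfect R T.obj₂) : DRing.IsPerfect R T.obj₃ := by
  obtain ⟨E, a, b, h1, h2, ⟨e⟩⟩ := h₁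
  obtain ⟨F, c, d, h3, h4, ⟨e'⟩⟩ := h₂
  have := H5Perf.isKProjective_of_vanishesOutside E a b h1 h2
  obtain ⟨g, hg⟩ := H5DTen.surj_of_kproj (e.hom ≫ T.mor₁ ≫ e'.inv)
  refine ⟨CochainComplex.mappingCone g, min (a - 1) c, max (b - 1) d, fun i hi => ?_, fun i => ?_,
    ⟨Triangle.π₃.mapIso (isoTriangleOfIso₁₂ (DerivedCategory.Q.mapTriangle.obj (CochainComplex.mappingCone.triangle g))
      T ((DerivedCategory.mem_distTriang_iff _).2 ⟨_, _, g, ⟨Iso.refl _⟩⟩) hT e e' ?_)⟩⟩
  · rw [CochainComplex.mappingCone.isZero_X_iff]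
    exact ⟨h1 (i + 1) (by omega), h3 i (by omega)⟩
  · have := (h2 (i + 1)).1; have := (h2 (i + 1)).2; have := (h4 i).1; have := (h4 i).2
    let ee : (CochainComplex.mappingCone g).X i ≃ₗ[R] (E.X (i + 1) × F.X i) :=
      ((HomologicalComplex.homotopyCofiber.XIsoBiprod g i (i + 1) rfl) ≪≫
        ModuleCat.biprodIsoProd _ _).toLinearEquiv
    exact ⟨Module.Finite.equiv ee.symm, Module.Projective.of_equiv ee.symm⟩
  · change DerivedCategory.Q.map g ≫ e'.hom = e.hom ≫ T.mor₁
    simp [hg]

theorem isPerfect₂ (T : Triangle (Dual.D R)) (hT : T ∈ distTriang _)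
    (h₁ : DRing.IsPerfect R T.obj₁) (h₃ : DRing.IsPerfect R T.obj₃) : DRing.IsPerfect R T.obj₂ :=
  isPerfect₃ T.invRotate (inv_rot_of_distTriang _ hT) (isPerfect_shift h₃ (-1)) h₁

theorem flat_ker (M N : Type u) [AddCommGroup M] [Module R M] [AddCommGroup N] [Module R N]
    [Module.Flat R M] [Module.Flat R N] (f : M →ₗ[R] N) (hf : Function.Surjective f) :
    Module.Flat R (LinearMap.ker f) :=
  (UI.flat_of_flat_middle (LinearMap.ker f).subtype f (LinearMap.exact_subtype_ker_map f) hf
    (UI.of_flat_cokernel _ f (LinearMap.ker f).injective_subtype (LinearMap.exact_subtype_ker_map f) hf)).1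

theorem cycles_flat {C : DRing.Cx R} {b : ℤ} (hb : ∀ i, b < i → IsZero (C.X i))
    (hflat : ∀ i, Module.Flat R (C.X i)) (hex : ∀ i, C.ExactAt i) :
    ∀ (n : ℕ) (i j : ℤ), i + 1 = j → b < i + n → Module.Flat R (LinearMap.ker (C.d i j).hom) := by
  intro n
  induction n with
  | zero =>
    intro i j hij hn
    have := ModuleCat.subsingleton_of_isZero (hb i (by omega))
    infer_instance
  | succ n ih =>
    intro i j hij hn
    have h1 := ih j (j + 1) rfl (by omega)
    have hex' := hex j
    rw [exactAt_iff' _ i j (j + 1) (by simp; omega) (by simp)] at hex'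
    have hrk : LinearMap.range (C.d i j).hom = LinearMap.ker (C.d j (j + 1)).hom :=
      hex'.moduleCat_range_eq_ker
    have : Module.Flat R (LinearMap.range (C.d i j).hom) :=
      Module.Flat.of_linearEquiv (LinearEquiv.ofEq _ _ hrk)
    have := flat_ker (C.X i) _ (C.d i j).hom.rangeRestrict (C.d i j).hom.surjective_rangeRestrict
    rwa [LinearMap.ker_rangeRestrict] at this

theorem flat_prod (M N : Type u) [AddCommGroup M] [Module R M] [AddCommGroup N] [Module R N]
    [Module.Flat R M] [Module.Flat R N] : Module.Flat R (M × N) := by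
  rw [Module.Flat.iff_lTensor_preserves_injective_linearMap]
  intro A B _ _ _ _ i hi
  rw [injective_iff_map_eq_zero]
  intro x hx
  apply (TensorProduct.prodLeft R R M N A).injective
  rw [map_zero]
  have key : TensorProduct.prodLeft R R M N B (i.lTensor (M × N) x) =
      (i.lTensor M (TensorProduct.prodLeft R R M N A x).1, i.lTensor N (TensorProduct.prodLeft R R M N A x).2) := by
    clear hx
    induction x using TensorProduct.induction_on with
    | zero => simp only [map_zero, Prod.fst_zero, Prod.snd_zero]; rfl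
    | tmul p a => exact Prod.ext rfl rfl
    | add y z hy hz => simp only [map_add, hy, hz, Prod.fst_add, Prod.snd_add, Prod.mk_add_mk]
  rw [hx, map_zero] at key
  exact Prod.ext (Module.Flat.lTensor_preserves_injective_linearMap i hi ((congrArg Prod.fst key).symm.trans (map_zero _).symm))
    (Module.Flat.lTensor_preserves_injective_linearMap i hi ((congrArg Prod.snd key).symm.trans (map_zero _).symm))

/-- a bounded above flat model of an object with flat representative in degrees `≥ a` -/
theorem flat_opcycles {E F : DRing.Cx R} (f : E ⟶ F) [QuasiIso f] {a b : ℤ}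
    (hE : ∀ i, Module.Flat R (E.X i)) (hF : ∀ i, Module.Flat R (F.X i))
    (hEb : ∀ i, b < i → IsZero (E.X i)) (hFb : ∀ i, (i < a ∨ b < i) → IsZero (F.X i)) :
    Module.Flat R ((E.sc' (a - 1) a (a + 1)).opcycles) := by
  let C := CochainComplex.mappingCone f
  have hex : ∀ i, C.ExactAt i := fun i => by
    rw [← ex_iff]
    exact (mI_iff_ex f i).1 (mI_of_isIso i _) i le_rfl
  have hflat : ∀ i, Module.Flat R (C.X i) := fun i => by
    have := hE (i + 1); have := hF i
    exact @Module.Flat.of_linearEquiv R _ _ _ _ _ _ _ (flat_prod (E.X (i + 1)) (F.X i))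
      ((HomologicalComplex.homotopyCofiber.XIsoBiprod f i (i + 1) rfl) ≪≫
        ModuleCat.biprodIsoProd _ _).toLinearEquiv
  have hCb : ∀ i, b < i → IsZero (C.X i) := fun i hi => by
    rw [CochainComplex.mappingCone.isZero_X_iff]
    exact ⟨hEb (i + 1) (by omega), hFb i (Or.inr hi)⟩
  have hZ := cycles_flat hCb hflat hex (b + 1 - a).toNat a (a + 1) rfl (by omega)
  let φ : E.X a →ₗ[R] LinearMap.ker (C.d a (a + 1)).hom :=
    LinearMap.codRestrict _ ((C.d (a - 1) a).hom ∘ₗ mk' f (a - 1) a (by omega) ∘ₗ LinearMap.inl R _ _)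
      (fun e => LinearMap.congr_fun (congrArg ModuleCat.Hom.hom (C.d_comp_d (a - 1) a (a + 1))) _)
  have hF0 : Subsingleton (F.X (a - 1)) := ModuleCat.subsingleton_of_isZero (hFb _ (Or.inl (by omega)))
  have hsurj : Function.Surjective φ := by
    rintro ⟨c, hc⟩
    have h := hex a
    rw [exactAt_iff' _ (a - 1) a (a + 1) (by simp) (by simp), ShortComplex.moduleCat_exact_iff] at h
    obtain ⟨(w : C.X (a - 1)), hw⟩ := h c hc
    refine ⟨p₁ f (a - 1) a (by omega) w, Subtype.ext (Eq.trans ?_ hw)⟩
    refine congrArg (C.d (a - 1) a).hom (cone_ext f (a - 1) a (by omega) ?_ (Subsingleton.elim _ _))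
    exact p₁_mk f (a - 1) a (by omega) _ _
  have hker : LinearMap.ker φ = LinearMap.range (E.d (a - 1) a).hom := by
    ext e
    constructor
    · intro h
      have h' : (C.d (a - 1) a).hom (mk' f (a - 1) a (by omega) (e, 0)) = 0 := congrArg Subtype.val h
      have hx := hex (a - 1)
      rw [exactAt_iff' _ (a - 2) (a - 1) a (by simp; omega) (by simp), ShortComplex.moduleCat_exact_iff] at hx
      obtain ⟨(w : C.X (a - 2)), hw⟩ := hx _ h'
      have := (p₁_d f (a - 2) (a - 1) a (by omega) (by omega) w).symm.trans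
        ((congrArg (p₁ f (a - 1) a (by omega)) hw).trans (p₁_mk f (a - 1) a (by omega) _ _))
      exact ⟨-p₁ f (a - 2) (a - 1) (by omega) w, by rw [map_neg]; exact this⟩
    · rintro ⟨e', rfl⟩
      refine Subtype.ext (cone_ext f a (a + 1) rfl ?_ ?_)
      · refine (p₁_d f (a - 1) a (a + 1) (by omega) rfl _).trans ?_
        simp only [LinearMap.coe_comp, Function.comp_apply, LinearMap.inl_apply]
        erw [p₁_mk]
        rw [show (E.d a (a + 1)).hom ((E.d (a - 1) a).hom e') = 0 from
          LinearMap.congr_fun (congrArg ModuleCat.Hom.hom (E.d_comp_d (a - 1) a (a + 1))) e']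
        simp
      · refine (p₂_d f (a - 1) a (by omega) _).trans ?_
        simp only [LinearMap.coe_comp, Function.comp_apply, LinearMap.inl_apply]
        erw [p₁_mk, p₂_mk]
        rw [show (f.f a).hom ((E.d (a - 1) a).hom e') = (F.d (a - 1) a).hom ((f.f (a - 1)).hom e') from
          (LinearMap.congr_fun (congrArg ModuleCat.Hom.hom (f.comm (a - 1) a)) e').symm,
          Subsingleton.elim ((f.f (a - 1)).hom e') 0]
        simp
  let i₁ : (E.X a ⧸ LinearMap.range (E.d (a - 1) a).hom) ≃ₗ[R] LinearMap.ker (C.d a (a + 1)).hom :=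
    (Submodule.quotEquivOfEq _ _ hker.symm).trans (φ.quotKerEquivOfSurjective hsurj)
  exact Module.Flat.of_linearEquiv ((E.sc' (a - 1) a (a + 1)).moduleCatOpcyclesIso.toLinearEquiv.trans i₁)

theorem isKProjective_ff {E : DRing.Cx R} {b : ℤ} (hb : DRing.VanishesAbove E b) (hE : DRing.TermwiseFiniteFree E) :
    CochainComplex.IsKProjective E := by
  have : ∀ m, Projective (E.X m) := fun m => by
    have := (hE m).2
    exact ModuleCat.projective_of_categoryTheory_projective _
  have : E.IsStrictlyLE b := (CochainComplex.isStrictlyLE_iff _ _).2 fun i hi => hb i hi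
  exact CochainComplex.isKProjective_of_projective E b

theorem exists_quasiIso_model {E : DRing.Cx R} {b : ℤ} (hb : DRing.VanishesAbove E b)
    (hE : DRing.TermwiseFiniteFree E) {F : DRing.Cx R} (e : DRing.toD E ≅ DRing.toD F) :
    ∃ f : E ⟶ F, QuasiIso f := by
  have := isKProjective_ff hb hE
  obtain ⟨f, hf⟩ := H5DTen.surj_of_kproj (K := E) e.hom
  refine ⟨f, ?_⟩
  rw [← DerivedCategory.isIso_Q_map_iff_quasiIso, hf]
  infer_instance

theorem perfect_rep_of_flat_opcycles {E : DRing.Cx R} {a b : ℤ} (hab : a ≤ b) (hb : DRing.VanishesAbove E b)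
    (hE : DRing.TermwiseFiniteFree E) (hlow : ∀ i, i < a → E.ExactAt i)
    (hflat : Module.Flat R (E.sc' (a - 1) a (a + 1)).opcycles) :
    ∃ P : DRing.Cx R, DRing.VanishesOutside P a b ∧ DRing.TermwiseFiniteProjective P ∧
      Nonempty (DRing.toD P ≅ DRing.toD E) := by
  have : E.IsGE a := (CochainComplex.isGE_iff _ _).2 hlow
  refine ⟨E.truncGE a, fun i hi => ?_, fun i => ?_, ⟨(asIso (DerivedCategory.Q.map (E.πTruncGE a))).symm⟩⟩
  · rcases hi with hi | hi
    · exact CochainComplex.isZero_of_isStrictlyGE (E.truncGE a) a i hi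
    · exact (hb i hi).of_iso (E.truncGEXIso a i (by omega))
  · rcases lt_trichotomy i a with hi | rfl | hi
    · have : Subsingleton ((E.truncGE a).X i) :=
        ModuleCat.subsingleton_of_isZero (CochainComplex.isZero_of_isStrictlyGE (E.truncGE a) a i hi)
      exact ⟨inferInstance, inferInstance⟩
    · let S := E.sc' (i - 1) i (i + 1)
      let e : (E.truncGE i).X i ≃ₗ[R] S.opcycles := (E.truncGEXIsoOpcycles i ≪≫
        ShortComplex.opcyclesMapIso (E.isoSc' (i - 1) i (i + 1) (by simp) (by simp))).toLinearEquiv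
      let e2 : S.opcycles ≃ₗ[R] (S.X₂ ⧸ LinearMap.range S.f.hom) := S.moduleCatOpcyclesIso.toLinearEquiv
      have : Module.Finite R S.X₂ := (hE i).1
      have : Module.Free R S.X₂ := (hE i).2
      have : Module.Finite R S.X₁ := (hE (i - 1)).1
      have : Module.FinitePresentation R S.X₂ := Module.finitePresentation_of_projective R S.X₂
      have : Module.FinitePresentation R (S.X₂ ⧸ LinearMap.range S.f.hom) :=
        Module.finitePresentation_of_surjective (Submodule.mkQ _) (Submodule.mkQ_surjective _)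
          (by rw [Submodule.ker_mkQ]; exact Module.Finite.iff_fg.1 inferInstance)
      have : Module.Flat R (S.X₂ ⧸ LinearMap.range S.f.hom) := Module.Flat.of_linearEquiv e2.symm
      have : Module.Projective R (S.X₂ ⧸ LinearMap.range S.f.hom) := Module.Flat.projective_of_finitePresentation
      exact ⟨Module.Finite.equiv (e.trans e2).symm, Module.Projective.of_equiv (e.trans e2).symm⟩
    · have := (hE i).1; have := (hE i).2
      let e : (E.truncGE a).X i ≃ₗ[R] E.X i := (E.truncGEXIso a i hi).toLinearEquiv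
      exact ⟨Module.Finite.equiv e.symm, Module.Projective.of_equiv e.symm⟩

theorem perfect_rep_of_flat {K : Dual.D R} (hK : DRing.IsPseudoCoherent' R K) {F : DRing.Cx R} {a b : ℤ}
    (h1 : DRing.VanishesOutside F a b) (h2 : DRing.TermwiseFlat F) (e : DRing.toD F ≅ K) :
    ∃ (B : ℤ) (P : DRing.Cx R), DRing.VanishesOutside P a B ∧ DRing.TermwiseFiniteProjective P ∧
      Nonempty (DRing.toD P ≅ K) := by
  obtain ⟨E, c, hc, hE, ⟨e'⟩⟩ := hK
  let B := max (max b c) a
  obtain ⟨f, hf⟩ := exists_quasiIso_model hc hE (F := F) (e' ≪≫ e.symm)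
  have hflat := flat_opcycles f (a := a) (b := B) (fun i => have := (hE i).2; inferInstance) h2
    (fun i hi => hc i (by omega)) (fun i hi => h1 i (by omega))
  obtain ⟨P, hP1, hP2, ⟨eP⟩⟩ := perfect_rep_of_flat_opcycles (le_max_right (max b c) a)
    (fun i hi => hc i (by omega)) hE
    (fun i hi => (exactAt_iff_of_quasiIsoAt f i).2 (ShortComplex.exact_of_isZero_X₂ _ (h1 i (Or.inl hi)))) hflat
  exact ⟨B, P, hP1, hP2, ⟨eP ≪≫ e'⟩⟩

theorem pseudo'_and_tor_of_perfect {K : Dual.D R} (h : DRing.IsPerfect R K) :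
    DRing.IsPseudoCoherent' R K ∧ DRing.HasFiniteTorDimCx R K := by
  obtain ⟨E, a, b, h1, h2, h3⟩ := h
  exact ⟨isPseudo'_iff.2 (isPseudo_of_isPerfect ⟨E, a, b, h1, h2, h3⟩), a, b, E, h1,
    fun i => have := (h2 i).2; inferInstance, h3⟩

theorem subsingleton_H_of_rep {K : Dual.D R} {F : DRing.Cx R} {b : ℤ} (h : ∀ i, b < i → IsZero (F.X i))
    (e : DRing.toD F ≅ K) (n : ℤ) (hn : b < n) : Subsingleton ((HF R n).obj K) :=
  ModuleCat.subsingleton_of_isZero ((vanish_Q h hn n le_rfl).of_iso ((HF R n).mapIso e).symm)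

theorem proj_rep_of_perfect {K : Dual.D R} (hK : DRing.IsPseudoCoherent' R K) {a b : ℤ}
    (h : DRing.HasTorAmplitudeIn R a b K) :
    ∃ P : DRing.Cx R, DRing.VanishesOutside P a b ∧ (∀ i : ℤ, Module.Projective R (P.X i)) ∧
        Nonempty (DRing.toD P ≅ K) := by
  obtain ⟨F, h1, h2, ⟨e⟩⟩ := h
  obtain ⟨B, P, h3, h4, h5⟩ := perfect_rep_of_flat hK h1 h2 e
  have hext := ((H5Amp.amplitude_tfae K a B).out 0 1 rfl rfl).1 ⟨P, h3, fun i => (h4 i).2, h5⟩
  exact ((H5Amp.amplitude_tfae K a b).out 2 0 rfl rfl).1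
    ⟨fun n hn => subsingleton_H_of_rep (fun i hi => h1 i (Or.inr hi)) e n hn,
      fun N _ _ i hi => hext N i (Or.inr hi)⟩

theorem isPerfect_summand {K L : Dual.D R} [HasBinaryBiproduct K L] (h : DRing.IsPerfect R (K ⊞ L)) :
    DRing.IsPerfect R K := by
  have hpc := (pseudo'_and_tor_of_perfect h).1
  obtain ⟨E, a, b, h1, h2, h3⟩ := h
  have hKpc : DRing.IsPseudoCoherent' R K :=
    isPseudo'_iff.2 fun m => (isPseudo_summand_le K L (isPseudo'_iff.1 hpc m)).1
  have hext := ((H5Amp.amplitude_tfae (K ⊞ L) a b).out 0 1 rfl rfl).1 ⟨E, h1, fun i => (h2 i).2, h3⟩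
  have hKext : ∀ (N : Type u) [AddCommGroup N] [Module R N] (i : ℤ), (i < -b ∨ -a < i) →
      Subsingleton (DRing.ExtD R K (Dual.inD R N) i) := fun N _ _ i hi => by
    have := hext N i hi
    exact ⟨fun x y => (cancel_epi (biprod.fst : K ⊞ L ⟶ K)).1 (Subsingleton.elim _ _)⟩
  obtain ⟨P, h4, h5, ⟨e⟩⟩ := ((H5Amp.amplitude_tfae K a b).out 1 0 rfl rfl).1 hKext
  obtain ⟨B, P', h6, h7, h8⟩ := perfect_rep_of_flat hKpc h4 (fun i => have := h5 i; inferInstance) e
  exact ⟨P', a, B, h6, h7, h8⟩

theorem mI_extCx {S : Type u} [CommRing S] (φ : R →+* S) (hφ : φ.Flat) {E K : DRing.Cx R} (f : E ⟶ K) {m : ℤ}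
    (h : MI m (DerivedCategory.Q.map f)) : MI m (DerivedCategory.Q.map ((extCx φ).map f)) := by
  rw [mI_iff_ex] at h ⊢
  intro j hj
  exact (ex_iff _ j).2 ((exactAt_extCx φ hφ ((ex_iff f j).1 (h j hj))).of_iso
    (CochainComplex.mappingCone.mapHomologicalComplexIso f (ModuleCat.extendScalars.{u, u, u} φ)))

theorem isPseudo_extCx {S : Type u} [CommRing S] (φ : R →+* S) (hφ : φ.Flat) {K : DRing.Cx R} {m : ℤ}
    (h : DRing.IsPseudoCoherent R m (DRing.toD K)) :
    DRing.IsPseudoCoherent S m (DRing.toD ((extCx φ).obj K)) := by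
  obtain ⟨E, a, b, α, h1, h2, h3⟩ := (isPseudo_iff m _).1 h
  have := (ff_proj h1 h2).kproj
  obtain ⟨f, rfl⟩ := H5DTen.surj_of_kproj (K := E) α
  exact (isPseudo_iff m _).2 ⟨_, a, b, DerivedCategory.Q.map ((extCx φ).map f), (extCx_ff φ h1 h2).1,
    (extCx_ff φ h1 h2).2, mI_extCx φ hφ f h3⟩

theorem isPseudo_single_iff (M : ModuleCat.{u} R) (m : ℤ) :
    DRing.IsPseudoCoherentModule R m M ↔
      DRing.IsPseudoCoherent R m (DRing.toD ((HomologicalComplex.single (ModuleCat.{u} R) (ComplexShape.up ℤ) 0).obj M)) :=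
  ⟨isPseudo_of_iso ((DerivedCategory.singleFunctorIsoCompQ (ModuleCat.{u} R) 0).app M),
    isPseudo_of_iso ((DerivedCategory.singleFunctorIsoCompQ (ModuleCat.{u} R) 0).app M).symm⟩

theorem flat_of_extendScalars {r : ℕ} (f : Fin r → R)
    (hf : Ideal.span (Set.range f) = ⊤) (M : ModuleCat.{u} R)
    (h : ∀ i, Module.Flat (Localization.Away (f i))
      ((ModuleCat.extendScalars.{u, u, u} (algebraMap R (Localization.Away (f i)))).obj M)) :
    Module.Flat R M := by
  have key : ∀ (g : R) (S : Type u) [CommRing S] [iA : Algebra R S] [IsLocalization.Away g S],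
      Module.Flat S ((ModuleCat.extendScalars.{u, u, u} (algebraMap R S)).obj M) →
        Module.Flat R (TensorProduct R S M) := by
    intro g S _ iA _ hS
    have e : (algebraMap R S).toAlgebra = iA := Algebra.algebra_ext _ _ fun _ => rfl
    have hS' : letI := (algebraMap R S).toAlgebra; Module.Flat S (TensorProduct R S M) := hS
    rw [e] at hS'
    have : Module.Flat R S := IsLocalization.flat S (Submonoid.powers g)
    exact Module.Flat.trans R S _
  refine Module.flat_of_isLocalized_span (R := R) (S := R) (M := M) (Set.range f) hf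
    (fun g => TensorProduct R (Localization.Away g.1) M)
    (fun g => TensorProduct.mk R (Localization.Away g.1) M 1) (fun g => ?_)
  obtain ⟨g, hg⟩ := g
  obtain ⟨k, rfl⟩ := hg
  exact key (f k) _ (h k)

theorem extend_flat {S : Type u} [CommRing S] (φ : R →+* S) (M : ModuleCat.{u} R) [Module.Flat R M] :
    Module.Flat S ((ModuleCat.extendScalars.{u, u, u} φ).obj M) := by
  letI := φ.toAlgebra
  exact inferInstanceAs (Module.Flat S (TensorProduct R S M))

theorem extend_finite_free {S : Type u} [CommRing S] (φ : R →+* S) (M : ModuleCat.{u} R) [Module.Finite R M]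
    [Module.Free R M] : Module.Finite S ((ModuleCat.extendScalars.{u, u, u} φ).obj M) ∧
      Module.Free S ((ModuleCat.extendScalars.{u, u, u} φ).obj M) := by
  letI := φ.toAlgebra
  exact ⟨inferInstanceAs (Module.Finite S (TensorProduct R S M)), inferInstanceAs (Module.Free S (TensorProduct R S M))⟩

end Groth.Agent.PseudoCoherentRingMore
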