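import Groth.Agent.Lib.H2PdDepth
import Groth.Agent.Lib.PseudoCoherentRingMore

/-!
# Finite modules over regular rings are perfect
-/

set_option autoImplicit false

universe u

open CategoryTheory CategoryTheory.Limits Pretriangulated Groth.Agent Groth.Agent.RegLocal Groth.Agent.PseudoCoherentRingMore

attribute [local instance] HasDerivedCategory.standard

namespace Groth.Agent.H1RegPerfect

variable {A : Type u} [CommRing A]

theorem isPerfectModule_projective (M : Type u) [AddCommGroup M] [Module A M] [Module.Finite A M]
    [Module.Projective A M] : DRing.IsPerfectModule A M := by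
  let E : DRing.Cx A := (HomologicalComplex.single (ModuleCat.{u} A) (ComplexShape.up ℤ) 0).obj (ModuleCat.of A M)
  refine ⟨E, 0, 0, fun i hi => HomologicalComplex.isZero_single_obj_X _ _ _ _ (by omega), fun i => ?_,
    ⟨((DerivedCategory.singleFunctorIsoCompQ (ModuleCat.{u} A) 0).app (ModuleCat.of A M)).symm⟩⟩
  by_cases hi : i = 0
  · subst hi
    let e : M ≃ₗ[A] E.X 0 :=
      (HomologicalComplex.singleObjXSelf (ComplexShape.up ℤ) 0 (ModuleCat.of A M)).symm.toLinearEquiv
    exact ⟨Module.Finite.equiv e, Module.Projective.of_equiv e⟩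
  · haveI : Subsingleton (E.X i) := ModuleCat.subsingleton_of_isZero (HomologicalComplex.isZero_single_obj_X _ _ _ _ hi)
    exact ⟨inferInstance, inferInstance⟩

variable [IsNoetherianRing A]

theorem isPerfectModule_of_pdLT : ∀ (n : ℕ) (M : Type u) [AddCommGroup M] [Module A M] [Module.Finite A M],
    PdLT A M (n + 1) → DRing.IsPerfectModule A M := by
  intro n
  induction n with
  | zero =>
    intro M _ _ _ h
    haveI : Module.Projective A M := pdLT_one_iff.1 h
    exact isPerfectModule_projective M
  | succ n ih =>
    intro M _ _ _ h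
    obtain ⟨k, π, hπ⟩ := Module.Finite.exists_fin' A M
    haveI : Module.Finite A (LinearMap.ker π) := Module.Finite.iff_fg.2 (IsNoetherian.noetherian _)
    have hK := ih (LinearMap.ker π) ((pdLT_ker_iff π hπ n).1 h)
    have hF := isPerfectModule_projective (A := A) (Fin k → A)
    let S : ShortComplex (ModuleCat.{u} A) := ShortComplex.mk (ModuleCat.ofHom (LinearMap.ker π).subtype) (ModuleCat.ofHom π)
      (ModuleCat.hom_ext (LinearMap.comp_ker_subtype π))
    have hS : S.ShortExact :=
      { exact := (ShortComplex.ShortExact.moduleCat_exact_iff_function_exact _).2 (LinearMap.exact_subtype_ker_map π)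
        mono_f := (ModuleCat.mono_iff_injective _).2 (LinearMap.ker π).injective_subtype
        epi_g := (ModuleCat.epi_iff_surjective _).2 hπ }
    exact isPerfect₃ hS.singleTriangle hS.singleTriangle_distinguished hK hF

theorem pdLT_of_local : ∀ (n : ℕ) (M : Type u) [AddCommGroup M] [Module A M] [Module.Finite A M],
    (∀ p : PrimeSpectrum A, PdLT (Localization.AtPrime p.asIdeal) (LocalizedModule p.asIdeal.primeCompl M) (n + 1)) →
      PdLT A M (n + 1) := by
  intro n
  induction n with
  | zero =>
    intro M _ _ _ h
    haveI : Module.FinitePresentation A M := Module.finitePresentation_of_finite A M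
    haveI : Module.Flat A M := Module.flat_of_localized_maximal M fun P hP => by
      haveI : Module.Projective (Localization.AtPrime P) (LocalizedModule P.primeCompl M) :=
        pdLT_one_iff.1 (h ⟨P, hP.isPrime⟩)
      exact Module.Flat.trans A (Localization.AtPrime P) _
    exact pdLT_one_iff.2 Module.Flat.projective_of_finitePresentation
  | succ n ih =>
    intro M _ _ _ h
    obtain ⟨k, π, hπ⟩ := Module.Finite.exists_fin' A M
    haveI : Module.Finite A (LinearMap.ker π) := Module.Finite.iff_fg.2 (IsNoetherian.noetherian _)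
    refine (pdLT_ker_iff π hπ n).2 (ih _ fun p => ?_)
    set S := p.asIdeal.primeCompl
    let a : LocalizedModule S (LinearMap.ker π) →ₗ[Localization S] LocalizedModule S (Fin k → A) :=
      LocalizedModule.map S (LinearMap.ker π).subtype
    let c : LocalizedModule S (Fin k → A) →ₗ[Localization S] LocalizedModule S M := LocalizedModule.map S π
    have hac : Function.Exact a c := LocalizedModule.map_exact S _ _ (LinearMap.exact_subtype_ker_map π)
    have ha : Function.Injective a := LocalizedModule.map_injective _ _ (LinearMap.ker π).injective_subtype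
    have hc : Function.Surjective c := LocalizedModule.map_surjective _ _ hπ
    haveI : Module.Projective (Localization S) (LocalizedModule S (Fin k → A)) :=
      Module.Projective.of_equiv (LocalizedModule.equivTensorProduct S (Fin k → A)).symm
    let e : LocalizedModule S (LinearMap.ker π) ≃ₗ[Localization S] LinearMap.ker c :=
      (LinearEquiv.ofInjective a ha).trans (LinearEquiv.ofEq _ _ hac.linearMap_ker_eq.symm)
    exact pdLT_congr e.symm ((pdLT_ker_iff c hc n).1 (h p))

theorem isPerfectModule_of_regular
    (hreg : ∀ p : PrimeSpectrum A, IsRegularLocalRing (Localization.AtPrime p.asIdeal))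
    (M : Type u) [AddCommGroup M] [Module A M] [Module.Finite A M] : DRing.IsPerfectModule A M := by
  let U : ℕ → Set (PrimeSpectrum A) := fun n =>
    {p | PdLT (Localization.AtPrime p.asIdeal) (LocalizedModule p.asIdeal.primeCompl M) (n + 1)}
  have hU : ∀ p, ∃ n, p ∈ U n := fun p => by
    haveI := hreg p
    exact ⟨_, RegLocal.pdLT_of_regular _ rfl _⟩
  obtain ⟨t, ht⟩ := isCompact_univ.elim_finite_subcover U (fun n => H2PdDepth.isOpen_pdLT n M)
    (fun p _ => Set.mem_iUnion.2 (hU p))
  refine isPerfectModule_of_pdLT (t.sup id) M (pdLT_of_local _ M fun p => ?_)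
  obtain ⟨n, hn, hp⟩ := Set.mem_iUnion₂.1 (ht (Set.mem_univ p))
  exact pdLT_mono (Nat.succ_le_succ (Finset.le_sup (f := id) hn)) hp

theorem finite_H (K : Dual.D A) (hK : DRing.IsPerfect A K) (m : ℤ) : Module.Finite A (Dual.HD A K m) := by
  obtain ⟨E, a, b, h1, h2, ⟨e⟩⟩ := hK
  exact ((coherent_iff (fun I hI => haveI := Module.Finite.iff_fg.2 hI; Module.finitePresentation_of_finite A I) K
    ⟨b, fun n hn => subsingleton_H_of_rep (fun i hi => h1 i (Or.inr hi)) e n hn⟩ m).1
      (isPseudo'_iff.1 (pseudo'_and_tor_of_perfect ⟨E, a, b, h1, h2, ⟨e⟩⟩).1 m)).1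

theorem bounded_H (K : Dual.D A) (hK : DRing.IsPerfect A K) :
    ∃ a b : ℤ, ∀ i : ℤ, (i < a ∨ b < i) → Subsingleton (Dual.HD A K i) := by
  obtain ⟨E, a, b, h1, -, ⟨e⟩⟩ := hK
  refine ⟨a, b, fun i hi => ?_⟩
  refine ModuleCat.subsingleton_of_isZero (IsZero.of_iso ?_ ((HF A i).mapIso e).symm)
  refine IsZero.of_iso ?_ ((DerivedCategory.homologyFunctorFactors (ModuleCat.{u} A) i).app E)
  exact HomologicalComplex.ExactAt.isZero_homology (ShortComplex.exact_of_isZero_X₂ _ (h1 i hi))

end Groth.Agent.H1RegPerfect
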