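import Mathlib

/-!
# Over a local ring with a unit `u` such that `u - 1` is a unit, `SL_n` lies in `[GL_n, GL_n]`
-/

set_option autoImplicit false

universe u

open Matrix
open scoped commutatorElement

namespace Groth.Agent.H1SLComm

variable {L : Type u} [CommRing L] {n : ℕ}

/-- diagonal matrices -/
noncomputable def diagU : (Fin n → Lˣ) →* GL (Fin n) L :=
  (Units.map (Matrix.diagonalRingHom (Fin n) L).toMonoidHom).comp MulEquiv.piUnits.symm.toMonoidHom

theorem diagU_coe (d : Fin n → Lˣ) : ((diagU d : GL (Fin n) L) : Matrix (Fin n) (Fin n) L) = diagonal fun i => (d i : L) := rfl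

theorem diagU_inv_coe (d : Fin n → Lˣ) :
    (((diagU d)⁻¹ : GL (Fin n) L) : Matrix (Fin n) (Fin n) L) = diagonal fun i => (((d i)⁻¹ : Lˣ) : L) := by
  rw [← map_inv, diagU_coe]; rfl

theorem vecMulVec_mul_self {v w : Fin n → L} (h : w ⬝ᵥ v = 0) : vecMulVec v w * vecMulVec v w = 0 := by
  ext a b
  simp only [Matrix.mul_apply, vecMulVec_apply, Matrix.zero_apply]
  rw [show (∑ j, v a * w j * (v j * w b)) = v a * (w ⬝ᵥ v) * w b by
    simp only [dotProduct, Finset.mul_sum, Finset.sum_mul]; exact Finset.sum_congr rfl fun j _ => by ring, h]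
  simp

/-- `1 + v wᵀ` -/
def E (v w : Fin n → L) (h : w ⬝ᵥ v = 0) : GL (Fin n) L :=
  ⟨1 + vecMulVec v w, 1 - vecMulVec v w,
    by rw [mul_sub, add_mul, add_mul, vecMulVec_mul_self h]; simp,
    by rw [mul_add, sub_mul, sub_mul, vecMulVec_mul_self h]; simp⟩

theorem E_mem_commutator {uu : Lˣ} (hu : IsUnit ((uu : L) - 1)) (d : Fin n → Lˣ) (v w : Fin n → L) (h : w ⬝ᵥ v = 0)
    (hd : ∀ a b, (d a : L) * (v a * w b) * ((d b)⁻¹ : Lˣ) = (uu : L) * (v a * w b)) :
    E v w h ∈ commutator (GL (Fin n) L) := by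
  obtain ⟨c, hc⟩ := hu.exists_right_inv
  have h' : (c • w) ⬝ᵥ v = 0 := by rw [smul_dotProduct, h, smul_zero]
  have : E v w h = ⁅diagU d, E v (c • w) h'⁆ := by
    apply Units.ext
    have hconj : (diagU d : GL (Fin n) L).val * vecMulVec v (c • w) * ((diagU d)⁻¹ : GL (Fin n) L).val =
        (uu : L) • vecMulVec v (c • w) := by
      ext a b
      rw [diagU_coe, diagU_inv_coe, Matrix.mul_diagonal, Matrix.diagonal_mul, Matrix.smul_apply, vecMulVec_apply,
        Pi.smul_apply, smul_eq_mul, smul_eq_mul]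
      have := hd a b
      linear_combination c * this
    show 1 + vecMulVec v w = (diagU d).val * (1 + vecMulVec v (c • w)) * ((diagU d)⁻¹ : GL (Fin n) L).val *
      (1 - vecMulVec v (c • w))
    rw [mul_add, add_mul, mul_one, Units.mul_inv, hconj, mul_sub, mul_one, add_mul, one_mul, smul_mul_assoc,
      vecMulVec_mul_self h', smul_zero, add_zero, vecMulVec_smul, smul_smul]
    match_scalars <;> first | ring1 | linear_combination -hc | linear_combination hc
  rw [this, commutator_def]
  exact Subgroup.commutator_mem_commutator (Subgroup.mem_top _) (Subgroup.mem_top _)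

/-- column operation: `1 + v eₖᵀ`, and row operation `1 + eₖ vᵀ`. -/
theorem col_mem {uu : Lˣ} (hu : IsUnit ((uu : L) - 1)) (k : Fin n) (v : Fin n → L) (hv : v k = 0) :
    ∃ g : GL (Fin n) L, g ∈ commutator (GL (Fin n) L) ∧ (g : Matrix (Fin n) (Fin n) L) = 1 + vecMulVec v (Pi.single k 1) := by
  classical
  refine ⟨E v (Pi.single k 1) (by simp [hv]), E_mem_commutator hu (Pi.mulSingle k uu⁻¹) _ _ _ fun a b => ?_, rfl⟩
  by_cases hb : b = k
  · by_cases ha : a = k
    · subst ha; simp [hv]
    · subst hb; rw [Pi.mulSingle_eq_same, Pi.mulSingle_eq_of_ne ha]; simp; ring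
  · simp [Pi.single_eq_of_ne hb]

theorem row_mem {uu : Lˣ} (hu : IsUnit ((uu : L) - 1)) (k : Fin n) (v : Fin n → L) (hv : v k = 0) :
    ∃ g : GL (Fin n) L, g ∈ commutator (GL (Fin n) L) ∧ (g : Matrix (Fin n) (Fin n) L) = 1 + vecMulVec (Pi.single k 1) v := by
  classical
  refine ⟨E (Pi.single k 1) v (by simp [hv]), E_mem_commutator hu (Pi.mulSingle k uu) _ _ _ fun a b => ?_, rfl⟩
  by_cases ha : a = k
  · by_cases hb : b = k
    · subst hb; simp [hv]
    · subst ha; rw [Pi.mulSingle_eq_same, Pi.mulSingle_eq_of_ne hb]; simp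
  · simp [Pi.single_eq_of_ne ha]

theorem diag_mem (d : Fin n → Lˣ) (hd : ∏ i, d i = 1) : diagU d ∈ commutator (GL (Fin n) L) := by
  classical
  rcases n with _ | m
  · rw [show d = 1 from funext fun i => i.elim0, map_one]; exact one_mem _
  · have hprod : d = ∏ i, (Pi.mulSingle i (d i) * Pi.mulSingle 0 (d i)⁻¹ : Fin (m + 1) → Lˣ) := by
      funext j
      rw [Finset.prod_apply]
      simp only [Pi.mul_apply]
      rw [Finset.prod_mul_distrib, Finset.prod_pi_mulSingle j d Finset.univ, if_pos (Finset.mem_univ j)]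
      by_cases hj : j = 0
      · subst hj; simp [Finset.prod_inv_distrib, hd]
      · simp [Pi.mulSingle_eq_of_ne hj]
    rw [hprod]
    refine Subgroup.mem_comap.mp (Subgroup.prod_mem ((commutator (GL (Fin (m + 1)) L)).comap diagU) fun i _ => Subgroup.mem_comap.mpr ?_)
    by_cases hi : i = 0
    · subst hi; rw [← Pi.mulSingle_mul, mul_inv_cancel, Pi.mulSingle_one, map_one]; exact one_mem _
    let σ : Equiv.Perm (Fin (m + 1)) := Equiv.swap i 0
    have hσσ : σ.permMatrix L * σ.permMatrix L = 1 := by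
      rw [← Matrix.permMatrix_mul, Equiv.swap_mul_self, Matrix.permMatrix_one]
    let P : GL (Fin (m + 1)) L := ⟨σ.permMatrix L, σ.permMatrix L, hσσ, hσσ⟩
    have hconj : ∀ e : Fin (m + 1) → Lˣ, P * diagU e * P⁻¹ = diagU fun j => e (σ j) := fun e => by
      apply Units.ext
      show σ.permMatrix L * (diagU e).val * σ.permMatrix L = _
      rw [diagU_coe, diagU_coe]
      simp only [Equiv.Perm.permMatrix, PEquiv.toMatrix_toPEquiv_mul, PEquiv.mul_toMatrix_toPEquiv,
        Matrix.submatrix_submatrix, Function.id_comp, Function.comp_id]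
      rw [show σ.symm = σ from Equiv.symm_swap i 0, Matrix.submatrix_diagonal_equiv]
      rfl
    have : diagU (Pi.mulSingle i (d i) * Pi.mulSingle 0 (d i)⁻¹) = ⁅diagU (Pi.mulSingle i (d i)), P⁆ := by
      rw [commutatorElement_def, mul_assoc (diagU _) P, mul_assoc (diagU _) (P * _), ← map_inv, hconj, ← map_mul]
      congr 1
      funext j
      simp only [Pi.mul_apply, Pi.inv_apply]
      congr 1
      by_cases hj : j = 0
      · subst hj; simp [σ]
      · by_cases hji : j = i
        · subst hji; simp [σ, hj, Pi.mulSingle_eq_of_ne (Ne.symm hj)]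
        · simp [σ, Equiv.swap_apply_of_ne_of_ne hji hj, hji, hj]
    rw [this, commutator_def]
    exact Subgroup.commutator_mem_commutator (Subgroup.mem_top _) (Subgroup.mem_top _)

theorem det_eq_one_of_mem {g : GL (Fin n) L} (hg : g ∈ commutator (GL (Fin n) L)) :
    (g : Matrix (Fin n) (Fin n) L).det = 1 :=
  congrArg Units.val (MonoidHom.mem_ker.mp
    (Abelianization.commutator_subset_ker (Matrix.GeneralLinearGroup.det : GL (Fin n) L →* Lˣ) hg))

theorem mem_of_det_eq_one [IsLocalRing L] {uu : Lˣ} (hu : IsUnit ((uu : L) - 1)) :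
    ∀ (e : ℕ) (M : GL (Fin n) L), (M : Matrix (Fin n) (Fin n) L).det = 1 →
      (∀ a b : Fin n, a ≠ b → (a.1 + e < n ∨ b.1 + e < n) → (M : Matrix (Fin n) (Fin n) L) a b = 0) →
      M ∈ commutator (GL (Fin n) L) := by
  classical
  intro e
  induction e with
  | zero =>
    intro M hM h0
    have hdiag : (M : Matrix (Fin n) (Fin n) L) = diagonal fun i => M.val i i := by
      ext a b
      by_cases hab : a = b
      · subst hab; simp
      · rw [diagonal_apply_ne _ hab, h0 a b hab (Or.inl (by omega))]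
    have hdet : ∏ i, M.val i i = 1 := by rw [hdiag, det_diagonal] at hM; exact hM
    have hunit : ∀ i, IsUnit (M.val i i) := fun i =>
      isUnit_of_dvd_one (hdet ▸ Finset.dvd_prod_of_mem _ (Finset.mem_univ i))
    have : M = diagU fun i => (hunit i).unit := Units.ext (by rw [diagU_coe]; exact hdiag)
    rw [this]
    exact diag_mem _ (Units.ext (by rw [Units.coe_prod, Units.val_one]; exact hdet))
  | succ e ih =>
    intro M hM h0
    by_cases hen : n ≤ e
    · exact ih M hM fun a b hab h => absurd h (by omega)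
    let k : Fin n := ⟨n - (e + 1), by omega⟩
    have hk : k.1 = n - (e + 1) := rfl
    -- cleared indices are those `< k`
    have hclear : ∀ a b : Fin n, a ≠ b → (a < k ∨ b < k) → M.val a b = 0 := fun a b hab h =>
      h0 a b hab (by simp only [Fin.lt_def] at h; omega)
    obtain ⟨i, hi⟩ : ∃ i, IsUnit (M.val i k) := by
      by_contra hc
      push Not at hc
      have h1 : ((IsLocalRing.residue L).mapMatrix M.val).det = 0 :=
        Matrix.det_eq_zero_of_column_eq_zero k fun a => by
          rw [RingHom.mapMatrix_apply, Matrix.map_apply, IsLocalRing.residue_eq_zero_iff]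
          exact (IsLocalRing.mem_maximalIdeal _).mpr (hc a)
      rw [← RingHom.map_det, hM, map_one] at h1
      exact one_ne_zero h1
    -- make the pivot a unit
    obtain ⟨g₀, hg₀, hpiv, hcl₀⟩ : ∃ g₀ : GL (Fin n) L, g₀ ∈ commutator (GL (Fin n) L) ∧
        IsUnit ((g₀ * M).val k k) ∧ ∀ a b : Fin n, a ≠ b → (a < k ∨ b < k) → (g₀ * M).val a b = 0 := by
      by_cases hkk : IsUnit (M.val k k)
      · exact ⟨1, one_mem _, by rwa [one_mul], by rw [one_mul]; exact hclear⟩
      have hik : i ≠ k := fun h => hkk (h ▸ hi)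
      have hki : k < i := by
        rcases lt_trichotomy i k with h | h | h
        · exact absurd hi (by rw [hclear i k hik (Or.inl h)]; exact not_isUnit_zero)
        · exact absurd h hik
        · exact h
      obtain ⟨g, hg, hgv⟩ := row_mem hu k (Pi.single i 1) (by simp [hik.symm])
      have hval : ∀ a b, (g * M).val a b = M.val a b + (Pi.single k 1 : Fin n → L) a * M.val i b := fun a b => by
        rw [Units.val_mul, hgv, add_mul, one_mul, Matrix.add_apply, vecMulVec_mul, vecMulVec_apply,
          single_one_vecMul]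
        rfl
      refine ⟨g, hg, ?_, fun a b hab h => ?_⟩
      · rw [hval, Pi.single_eq_same, one_mul]
        by_contra hsum
        have h1 := (IsLocalRing.mem_maximalIdeal _).mpr hsum
        have h2 := sub_mem h1 ((IsLocalRing.mem_maximalIdeal _).mpr hkk)
        rw [add_sub_cancel_left] at h2
        exact (IsLocalRing.mem_maximalIdeal _).mp h2 hi
      · rw [hval, hclear a b hab h]
        by_cases hak : a = k
        · subst hak
          have hbk : b < k := h.resolve_left (lt_irrefl k)
          rw [hclear i b (fun e' => lt_asymm hki (e' ▸ hbk)) (Or.inr hbk)]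
          simp
        · simp [Pi.single_eq_of_ne hak]
    obtain ⟨p, hp⟩ := hpiv
    -- clear column `k`
    let v : Fin n → L := fun b => if b = k then 0 else -((g₀ * M).val b k * (p⁻¹ : Lˣ))
    obtain ⟨g₁, hg₁, hg₁v⟩ := col_mem hu k v (by simp [v])
    have hM1 : ∀ a b, (g₁ * (g₀ * M)).val a b = (g₀ * M).val a b + v a * (g₀ * M).val k b := fun a b => by
      rw [Units.val_mul, hg₁v, add_mul, one_mul, Matrix.add_apply, vecMulVec_mul, vecMulVec_apply, single_one_vecMul]
      rfl
    -- clear row `k`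
    let w : Fin n → L := fun b => if b = k then 0 else -((g₀ * M).val k b * (p⁻¹ : Lˣ))
    obtain ⟨g₂, hg₂, hg₂v⟩ := row_mem hu k w (by simp [w])
    have hM2 : ∀ a b, (g₁ * (g₀ * M) * g₂).val a b = (g₁ * (g₀ * M)).val a b + (g₁ * (g₀ * M)).val a k * w b := fun a b => by
      rw [Units.val_mul, hg₂v, mul_add, mul_one, Matrix.add_apply, mul_vecMulVec, vecMulVec_apply, mulVec_single_one]
      rfl
    have hcolk : ∀ a, a ≠ k → (g₁ * (g₀ * M)).val a k = 0 := fun a ha => by
      rw [hM1]; simp only [v, if_neg ha]; rw [← hp, neg_mul, mul_assoc, Units.inv_mul, mul_one, add_neg_cancel]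
    have hrowk : ∀ b, (g₁ * (g₀ * M)).val k b = (g₀ * M).val k b := fun b => by rw [hM1]; simp [v]
    have hcl₁ : ∀ a b : Fin n, a ≠ b → (a < k ∨ b < k) → (g₁ * (g₀ * M)).val a b = 0 := by
      intro a b hab h
      rw [hM1, hcl₀ a b hab h]
      by_cases hak : a = k
      · simp [v, hak]
      · rcases h with h | h
        · simp only [v, if_neg hak]; rw [hcl₀ a k hak (Or.inl h)]; simp
        · rw [hcl₀ k b (fun e' => lt_irrefl k (e' ▸ h : k < k)) (Or.inr h)]; simp
    have hM' : g₁ * (g₀ * M) * g₂ ∈ commutator (GL (Fin n) L) := by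
      refine ih _ ?_ fun a b hab h => ?_
      · simp only [Units.val_mul, Matrix.det_mul, det_eq_one_of_mem hg₀, det_eq_one_of_mem hg₁, det_eq_one_of_mem hg₂, hM, mul_one]
      · have hle : a ≤ k ∨ b ≤ k := by simp only [Fin.le_def]; omega
        rw [hM2]
        by_cases hak : a = k
        · subst hak
          have hbk : b ≠ k := hab.symm
          simp only [w, if_neg hbk]
          rw [hrowk, hrowk, ← hp, mul_neg, mul_comm ((g₀ * M).val k b), ← mul_assoc, Units.mul_inv, one_mul, add_neg_cancel]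
        · by_cases hbk : b = k
          · subst hbk; rw [hcolk a hak]; simp
          · have h' : a < k ∨ b < k := hle.imp (fun x => lt_of_le_of_ne x hak) (fun x => lt_of_le_of_ne x hbk)
            rw [hcl₁ a b hab h', hcolk a hak]
            simp
    have : M = g₀⁻¹ * (g₁⁻¹ * (g₁ * (g₀ * M) * g₂) * g₂⁻¹) := by group
    rw [this]
    exact mul_mem (inv_mem hg₀) (mul_mem (mul_mem (inv_mem hg₁) hM') (inv_mem hg₂))

end Groth.Agent.H1SLComm
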