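import Mathlib

/-! Generic freeness over an arbitrary domain. The coordinate change follows Mathlib's
`NoetherNormalization` (Su–Brasca–Lin–Su), with a domain instead of a field. -/

universe u

open MvPolynomial TensorProduct

namespace Groth.Agent.H2GenericFree

section coord

open Polynomial List Nat

variable {R : Type u} [CommRing R] [IsDomain R] {n : ℕ} (f : MvPolynomial (Fin (n + 1)) R)

local notation3 "up" => 2 + f.totalDegree
local notation3 "r" => fun (i : Fin (n + 1)) ↦ up ^ i.1

noncomputable abbrev T1 (c : R) : MvPolynomial (Fin (n + 1)) R →ₐ[R] MvPolynomial (Fin (n + 1)) R :=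
  MvPolynomial.aeval fun i ↦ if i = 0 then MvPolynomial.X 0 else MvPolynomial.X i + c • MvPolynomial.X 0 ^ r i

omit [IsDomain R] in
lemma t1_comp (c : R) : (T1 f c).comp (T1 f (-c)) = AlgHom.id _ _ := by
  rw [MvPolynomial.comp_aeval, ← MvPolynomial.aeval_X_left]
  ext i v
  cases i using Fin.cases <;> simp

noncomputable abbrev T : MvPolynomial (Fin (n + 1)) R ≃ₐ[R] MvPolynomial (Fin (n + 1)) R :=
  AlgEquiv.ofAlgHom (T1 f 1) (T1 f (-1)) (t1_comp f 1) (by simpa using t1_comp f (-1))

omit [IsDomain R] in
lemma sum_r_mul_ne (v w : Fin (n + 1) →₀ ℕ) (vlt : ∀ i, v i < up) (wlt : ∀ i, w i < up) (ne : v ≠ w) :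
    ∑ x : Fin (n + 1), r x * v x ≠ ∑ x : Fin (n + 1), r x * w x := by
  intro h
  have hup : ∀ z : Fin (n + 1) →₀ ℕ, (∀ i, z i < up) → ∀ l ∈ List.ofFn (z : Fin (n + 1) → ℕ), l < up := by
    intro z hz l hl
    obtain ⟨i, rfl⟩ := List.mem_ofFn.1 hl
    exact hz i
  refine ne <| Finsupp.ext <| congrFun <| ofFn_inj.mp ?_
  apply ofDigits_inj_of_len_eq (Nat.lt_add_right f.totalDegree one_lt_two)
    (by simp) (hup v vlt) (hup w wlt)
  simpa only [ofDigits_eq_sum_mapIdx, mapIdx_eq_ofFn, get_ofFn, length_ofFn,
    Fin.val_cast, mul_comm, sum_ofFn] using! h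

lemma degreeOf_zero_t (v : Fin (n + 1) →₀ ℕ) {a : R} (ha : a ≠ 0) :
    ((T f) (MvPolynomial.monomial v a)).degreeOf 0 = ∑ i : Fin (n + 1), (r i) * v i := by
  rw [← natDegree_finSuccEquiv, MvPolynomial.monomial_eq, Finsupp.prod_pow v fun a ↦ MvPolynomial.X a]
  simp only [Fin.prod_univ_succ, Fin.sum_univ_succ, map_mul, map_prod, map_pow,
    AlgEquiv.ofAlgHom_apply, MvPolynomial.aeval_C, MvPolynomial.aeval_X, if_pos, Fin.succ_ne_zero,
    ite_false, one_smul, map_add, finSuccEquiv_X_zero, finSuccEquiv_X_succ, MvPolynomial.algebraMap_eq]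
  have h (i : Fin n) :
      (Polynomial.C (MvPolynomial.X (R := R) i) + Polynomial.X ^ r i.succ) ^ v i.succ ≠ 0 :=
    pow_ne_zero (v i.succ) (leadingCoeff_ne_zero.mp <| by simp [add_comm, leadingCoeff_X_pow_add_C])
  rw [natDegree_mul (by simp [ha]) (mul_ne_zero (by simp) (Finset.prod_ne_zero_iff.mpr
    (fun i _ ↦ h i))), natDegree_mul (by simp) (Finset.prod_ne_zero_iff.mpr (fun i _ ↦ h i)),
    natDegree_prod _ _ (fun i _ ↦ h i), natDegree_finSuccEquiv, degreeOf_C]
  simpa only [natDegree_pow, zero_add, natDegree_X, mul_one, Fin.val_zero, pow_zero, one_mul,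
    add_right_inj] using Finset.sum_congr rfl (fun i _ ↦ by
    rw [add_comm (Polynomial.C _), natDegree_X_pow_add_C, mul_comm])

lemma leadingCoeff_t (v : Fin (n + 1) →₀ ℕ) :
    (finSuccEquiv R n ((T f) ((MvPolynomial.monomial v) (f.coeff v)))).leadingCoeff =
    algebraMap R _ (f.coeff v) := by
  rw [MvPolynomial.monomial_eq, Finsupp.prod_fintype]
  · simp only [map_mul, map_prod, leadingCoeff_mul, leadingCoeff_prod]
    rw [AlgEquiv.ofAlgHom_apply, MvPolynomial.algHom_C, MvPolynomial.algebraMap_eq, finSuccEquiv_apply,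
      MvPolynomial.eval₂Hom_C, RingHom.coe_comp]
    simp only [AlgEquiv.ofAlgHom_apply, Function.comp_apply, Polynomial.leadingCoeff_C, map_pow,
      leadingCoeff_pow, MvPolynomial.algebraMap_eq]
    have : ∀ j, ((finSuccEquiv R n) ((T1 f) 1 (MvPolynomial.X j))).leadingCoeff = 1 := fun j ↦ by
      by_cases h : j = 0
      · simp [h, finSuccEquiv_apply]
      · simp only [aeval_eq_bind₁, bind₁_X_right, if_neg h, one_smul, map_add, map_pow]
        obtain ⟨i, rfl⟩ := Fin.exists_succ_eq.mpr h
        simp [finSuccEquiv_X_succ, finSuccEquiv_X_zero, add_comm]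
    simp only [this, one_pow, Finset.prod_const_one, mul_one]
  exact fun i ↦ pow_zero _

/-- after a coordinate change the leading coefficient in the first variable is a nonzero constant. -/
theorem exists_coord_change (fne : f ≠ 0) : ∃ (e : MvPolynomial (Fin (n + 1)) R ≃ₐ[R] MvPolynomial (Fin (n + 1)) R) (a : R),
    a ≠ 0 ∧ (finSuccEquiv R n (e f)).leadingCoeff = MvPolynomial.C a := by
  classical
  obtain ⟨v, vin, vs⟩ := Finset.exists_max_image f.support
    (fun v ↦ (T f ((MvPolynomial.monomial v) (f.coeff v))).degreeOf 0) (support_nonempty.mpr fne)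
  refine ⟨T f, f.coeff v, MvPolynomial.mem_support_iff.mp vin, ?_⟩
  set h := fun w ↦ (MvPolynomial.monomial w) (f.coeff w)
  simp only [← natDegree_finSuccEquiv] at vs
  replace vs : ∀ x ∈ f.support \ {v}, (finSuccEquiv R n ((T f) (h x))).degree <
      (finSuccEquiv R n ((T f) (h v))).degree := by
    intro x hx
    obtain ⟨h1, h2⟩ := Finset.mem_sdiff.mp hx
    apply degree_lt_degree <| lt_of_le_of_ne (vs x h1) ?_
    rw [natDegree_finSuccEquiv, natDegree_finSuccEquiv, degreeOf_zero_t f _ (MvPolynomial.mem_support_iff.mp h1),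
      degreeOf_zero_t f _ (MvPolynomial.mem_support_iff.mp vin)]
    exact sum_r_mul_ne f x v (fun i ↦ lt_of_le_of_lt ((monomial_le_degreeOf i h1).trans (degreeOf_le_totalDegree f i)) (by lia))
      (fun i ↦ lt_of_le_of_lt ((monomial_le_degreeOf i vin).trans (degreeOf_le_totalDegree f i)) (by lia))
      (by simpa using h2)
  have hco : (finSuccEquiv R n ((T f) (h v + ∑ x ∈ f.support \ {v}, h x))).leadingCoeff =
      (finSuccEquiv R n ((T f) (h v))).leadingCoeff := by
    simp only [map_add, map_sum]
    rw [add_comm]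
    apply leadingCoeff_add_of_degree_lt <| (lt_of_le_of_lt <| degree_sum_le _ _) ?_
    have h2 : h v ≠ 0 := by simpa [h] using MvPolynomial.mem_support_iff.mp vin
    replace h2 : (finSuccEquiv R n ((T f) (h v))) ≠ 0 := fun eq ↦ h2 <|
      by simpa only [map_eq_zero_iff _ (AlgEquiv.injective _)] using eq
    exact (Finset.sup_lt_iff <| Ne.bot_lt (fun x ↦ h2 <| degree_eq_bot.mp x)).mpr vs
  nth_rw 2 [← f.support_sum_monomial_coeff]
  rw [Finset.sum_eq_add_sum_sdiff_singleton_of_mem vin h, hco, leadingCoeff_t, MvPolynomial.algebraMap_eq]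

end coord

section GF

variable (R : Type u) [CommRing R]

/-- free after inverting some nonzero element. -/
def GF (M : Type u) [AddCommGroup M] [Module R M] : Prop :=
  ∃ f : R, f ≠ 0 ∧ Module.Free (Localization.Away f) (LocalizedModule (Submonoid.powers f) M)

variable {R} {M : Type u} [AddCommGroup M] [Module R M]

lemma free_away_of_dvd {f g : R} (h : f ∣ g) [Module.Free (Localization.Away f) (LocalizedModule (Submonoid.powers f) M)] :
    Module.Free (Localization.Away g) (LocalizedModule (Submonoid.powers g) M) := by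
  set A := Localization.Away f
  set B := Localization.Away g
  have hu : ∀ y : Submonoid.powers f, IsUnit (Algebra.ofId R B y) := by
    rintro ⟨_, k, rfl⟩
    obtain ⟨c, rfl⟩ := h
    have hfc := IsLocalization.Away.algebraMap_isUnit (S := B) (f * c)
    rw [map_mul] at hfc
    show IsUnit (algebraMap R B (f ^ k))
    rw [map_pow]
    exact (isUnit_of_mul_isUnit_left hfc).pow k
  let φ : A →ₐ[R] B := IsLocalization.liftAlgHom (M := Submonoid.powers f) (f := Algebra.ofId R B) hu
  letI := φ.toAlgebra
  haveI : IsScalarTower R A B := IsScalarTower.of_algHom φ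
  have hb := IsLocalizedModule.isBaseChange (Submonoid.powers f) A (LocalizedModule.mkLinearMap (Submonoid.powers f) M)
  have hc := IsLocalizedModule.isBaseChange (Submonoid.powers g) B (LocalizedModule.mkLinearMap (Submonoid.powers g) M)
  let e : B ⊗[A] (LocalizedModule (Submonoid.powers f) M) ≃ₗ[B] LocalizedModule (Submonoid.powers g) M :=
    (AlgebraTensorModule.congr (LinearEquiv.refl B B) hb.equiv.symm).trans
      ((AlgebraTensorModule.cancelBaseChange R A B B M).trans hc.equiv)
  exact Module.Free.of_equiv e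

lemma GF.common [IsDomain R] {N : Type u} [AddCommGroup N] [Module R N] (h : GF R M) (h' : GF R N) :
    ∃ f : R, f ≠ 0 ∧ Module.Free (Localization.Away f) (LocalizedModule (Submonoid.powers f) M) ∧
      Module.Free (Localization.Away f) (LocalizedModule (Submonoid.powers f) N) := by
  obtain ⟨a, ha, h1⟩ := h
  obtain ⟨b, hb, h2⟩ := h'
  exact ⟨a * b, mul_ne_zero ha hb, free_away_of_dvd (dvd_mul_right a b), free_away_of_dvd (dvd_mul_left b a)⟩

lemma GF.ext [IsDomain R] {X Z : Type u} [AddCommGroup X] [Module R X] [AddCommGroup Z] [Module R Z] {i : X →ₗ[R] M}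
    {p : M →ₗ[R] Z} (hi : Function.Injective i) (he : Function.Exact i p) (hp : Function.Surjective p)
    (hX : GF R X) (hZ : GF R Z) : GF R M := by
  obtain ⟨f, hf, h1, h2⟩ := hX.common hZ
  refine ⟨f, hf, ?_⟩
  let S := Submonoid.powers f
  let i' := LocalizedModule.map S i
  let p' := LocalizedModule.map S p
  have hi' : Function.Injective i' := LocalizedModule.map_injective S i hi
  have he' : Function.Exact i' p' := LocalizedModule.map_exact S i p he
  have hp' : Function.Surjective p' := LocalizedModule.map_surjective S p hp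
  obtain ⟨s, hs⟩ := Module.projective_lifting_property p' LinearMap.id hp'
  exact Module.Free.of_equiv (((he'.splitSurjectiveEquiv hi') ⟨s, hs⟩).1).symm

lemma GF.congr {N : Type u} [AddCommGroup N] [Module R N] (e : M ≃ₗ[R] N) (h : GF R M) : GF R N := by
  obtain ⟨f, hf, h1⟩ := h
  refine ⟨f, hf, Module.Free.of_equiv (LinearEquiv.ofBijective (LocalizedModule.map (Submonoid.powers f) e.toLinearMap)
    ⟨LocalizedModule.map_injective _ _ e.injective, LocalizedModule.map_surjective _ _ e.surjective⟩)⟩

lemma GF.of_torsion {f : R} (hf : f ≠ 0) (h : ∀ z : M, ∃ N : ℕ, f ^ N • z = 0) : GF R M := by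
  refine ⟨f, hf, ?_⟩
  haveI : Subsingleton (LocalizedModule (Submonoid.powers f) M) :=
    LocalizedModule.subsingleton_iff.2 fun z => by
      obtain ⟨N, hN⟩ := h z
      exact ⟨f ^ N, ⟨N, rfl⟩, hN⟩
  infer_instance

lemma GF.of_free [Nontrivial R] [Module.Free R M] : GF R M := by
  refine ⟨1, one_ne_zero, ?_⟩
  exact Module.Free.of_equiv (IsLocalizedModule.isBaseChange (Submonoid.powers (1 : R)) (Localization.Away (1 : R))
    (LocalizedModule.mkLinearMap (Submonoid.powers (1 : R)) M)).equiv

end GF

/-- a finite module over a domain is free modulo a torsion module. -/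
lemma exists_free_submodule (P : Type u) [CommRing P] [IsDomain P] (M : Type u) [AddCommGroup M] [Module P M]
    [Module.Finite P M] : ∃ (N : Submodule P M) (g : P), Module.Free P N ∧ g ≠ 0 ∧ ∀ m : M, g • m ∈ N := by
  classical
  obtain ⟨k, s, hs⟩ := Module.Finite.exists_fin (R := P) (M := M)
  obtain ⟨I, hI, hmax⟩ := exists_maximal_linearIndepOn P s
  let N := Submodule.span P (s '' I)
  have hfree : Module.Free P N := by
    refine Module.Free.of_equiv (hI.linearCombinationEquiv.trans (LinearEquiv.ofEq _ _ ?_))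
    simp only [N]; congr 1; ext x; simp
  have ha : ∀ i, ∃ a : P, a ≠ 0 ∧ a • s i ∈ N := fun i => by
    by_cases hiI : i ∈ I
    · exact ⟨1, one_ne_zero, by rw [one_smul]; exact Submodule.subset_span ⟨i, hiI, rfl⟩⟩
    · exact hmax i hiI
  choose a ha0 ha using ha
  refine ⟨N, ∏ i, a i, hfree, Finset.prod_ne_zero_iff.2 fun i _ => ha0 i, fun m => ?_⟩
  have : (Submodule.span P (Set.range s)) ≤ N.comap (LinearMap.lsmul P M (∏ i, a i)) := by
    rw [Submodule.span_le]
    rintro _ ⟨i, rfl⟩
    simp only [SetLike.mem_coe, Submodule.mem_comap, LinearMap.lsmul_apply]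
    rw [← Finset.mul_prod_erase _ _ (Finset.mem_univ i), mul_comm, mul_smul]
    exact N.smul_mem _ (ha i)
  exact this (hs ▸ Submodule.mem_top)

/-- Generic freeness for finite modules over polynomial rings. -/
theorem gf_mvPolynomial (R : Type u) [CommRing R] [IsDomain R] : ∀ (n : ℕ) (M : Type u) [AddCommGroup M]
    [Module (MvPolynomial (Fin n) R) M] [Module R M] [IsScalarTower R (MvPolynomial (Fin n) R) M]
    [Module.Finite (MvPolynomial (Fin n) R) M], GF R M
  | 0, M, _, _, _, _, _ => by
    obtain ⟨N, g, hN, hg, hgM⟩ := exists_free_submodule (MvPolynomial (Fin 0) R) M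
    haveI : Module.Free R N := Module.Free.trans (S := MvPolynomial (Fin 0) R)
    have hgC : g = algebraMap R (MvPolynomial (Fin 0) R) (g.coeff 0) := MvPolynomial.eq_C_of_isEmpty g
    have ha : g.coeff 0 ≠ 0 := fun h => hg (by rw [hgC, h, map_zero])
    refine GF.ext (i := N.subtype.restrictScalars R) (p := N.mkQ.restrictScalars R) N.injective_subtype
      (LinearMap.exact_subtype_mkQ N) N.mkQ_surjective GF.of_free (GF.of_torsion ha fun z => ⟨1, ?_⟩)
    obtain ⟨m, rfl⟩ := N.mkQ_surjective z
    rw [pow_one, ← algebraMap_smul (MvPolynomial (Fin 0) R) (g.coeff 0), ← map_smul, ← hgC]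
    exact (Submodule.Quotient.mk_eq_zero N).2 (hgM m)
  | n + 1, M, _, _, _, _, _ => by
    classical
    obtain ⟨N, g, hN, hg, hgM⟩ := exists_free_submodule (MvPolynomial (Fin (n + 1)) R) M
    haveI : Module.Free R N := Module.Free.trans (S := MvPolynomial (Fin (n + 1)) R)
    refine GF.ext (i := N.subtype.restrictScalars R) (p := N.mkQ.restrictScalars R) N.injective_subtype
      (LinearMap.exact_subtype_mkQ N) N.mkQ_surjective GF.of_free ?_
    obtain ⟨e, a, ha, hlead⟩ := exists_coord_change g hg
    let P := MvPolynomial (Fin (n + 1)) R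
    let Q := MvPolynomial (Fin n) R
    let V := M ⧸ N
    let E : P ≃ₐ[R] Polynomial Q := e.trans (finSuccEquiv R n)
    let φ : Q →ₐ[R] P := E.symm.toAlgHom.comp ((Algebra.ofId Q (Polynomial Q)).restrictScalars R)
    letI : Module Q V := Module.compHom V φ.toRingHom
    haveI : IsScalarTower R Q V := IsScalarTower.of_algebraMap_smul fun c z => by
      show φ (algebraMap R Q c) • z = c • z
      rw [φ.commutes, algebraMap_smul]
    let t : P := E.symm Polynomial.X
    set d := (E g).natDegree
    have hgV : ∀ z : V, g • z = 0 := fun z => by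
      obtain ⟨m, rfl⟩ := N.mkQ_surjective z
      rw [← map_smul]; exact (Submodule.Quotient.mk_eq_zero N).2 (hgM m)
    obtain ⟨k, s, hs⟩ := Module.Finite.exists_fin (R := P) (M := V)
    let L : Submodule Q V := Submodule.span Q (Set.range fun x : Fin k × Fin d => t ^ (x.2 : ℕ) • s x.1)
    let W : Submodule Q V :=
      { carrier := {z | ∃ N : ℕ, a ^ N • z ∈ L}
        add_mem' := by
          rintro x y ⟨i, hi⟩ ⟨j, hj⟩
          refine ⟨i + j, ?_⟩
          rw [smul_add]
          refine add_mem ?_ ?_
          · rw [add_comm i j, pow_add, mul_smul]; exact L.smul_of_tower_mem _ hi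
          · rw [pow_add, mul_smul]; exact L.smul_of_tower_mem _ hj
        zero_mem' := ⟨0, by simp⟩
        smul_mem' := by
          rintro c x ⟨i, hi⟩
          exact ⟨i, by rw [smul_comm]; exact L.smul_mem c hi⟩ }
    have hlow : ∀ (j : Fin k) (i : ℕ), i < d → t ^ i • s j ∈ L := fun j i hi =>
      Submodule.subset_span ⟨(j, ⟨i, hi⟩), rfl⟩
    have hE : g = ∑ i ∈ Finset.range d, φ ((E g).coeff i) * t ^ i + algebraMap R P a * t ^ d := by
      apply E.injective
      conv_lhs => rw [(E g).as_sum_range_C_mul_X_pow, Finset.sum_range_succ]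
      simp only [map_add, map_sum, map_mul, map_pow, t, AlgEquiv.apply_symm_apply, AlgEquiv.commutes]
      congr 1
      · refine Finset.sum_congr rfl fun i _ => ?_
        simp [φ]
      · congr 1
        have : (E g).coeff d = MvPolynomial.C a := hlead
        rw [this]; rfl
    have hd : ∀ j, t ^ d • s j ∈ W := fun j => by
      refine ⟨1, ?_⟩
      have h0 := hgV (s j)
      rw [hE, add_smul, Finset.sum_smul, mul_smul, algebraMap_smul, add_eq_zero_iff_neg_eq] at h0
      rw [pow_one, ← h0]
      refine neg_mem (Submodule.sum_mem _ fun i hi => ?_)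
      rw [mul_smul]
      exact L.smul_mem ((E g).coeff i) (hlow j i (Finset.mem_range.1 hi))
    have hLW : L ≤ W := fun z hz => ⟨0, by simpa using hz⟩
    have hpow : ∀ (i : ℕ) (j : Fin k), t ^ i • s j ∈ W := by
      have hstep : ∀ z ∈ L, t • z ∈ W := by
        intro z hz
        induction hz using Submodule.span_induction with
        | mem x hx =>
          obtain ⟨⟨j, i⟩, rfl⟩ := hx
          rw [smul_smul, ← pow_succ']
          rcases lt_or_eq_of_le (Nat.succ_le_iff.2 i.2) with h | h
          · exact hLW (hlow j _ h)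
          · rw [show (i : ℕ) + 1 = d from h]; exact hd j
        | zero => rw [smul_zero]; exact zero_mem _
        | add x y _ _ hx hy => rw [smul_add]; exact add_mem hx hy
        | smul c x _ hx =>
          show t • (φ c • x) ∈ W
          rw [smul_comm]; exact W.smul_mem c hx
      intro i
      induction i with
      | zero =>
        intro j
        rcases Nat.eq_zero_or_pos d with h | h
        · simpa [h] using hd j
        · exact hLW (hlow j 0 h)
      | succ i ih =>
        intro j
        obtain ⟨N, hN⟩ := ih j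
        obtain ⟨N', hN'⟩ := hstep _ hN
        refine ⟨N' + N, ?_⟩
        rw [pow_succ', mul_smul, pow_add, mul_smul, smul_comm (a ^ N) t]
        exact hN'
    have hall : ∀ z : V, z ∈ W := by
      intro z
      have hz : z ∈ Submodule.span P (Set.range s) := hs ▸ Submodule.mem_top
      rw [Submodule.mem_span_range_iff_exists_fun] at hz
      obtain ⟨c, rfl⟩ := hz
      refine Submodule.sum_mem _ fun j _ => ?_
      have : c j = ∑ i ∈ Finset.range ((E (c j)).natDegree + 1), φ ((E (c j)).coeff i) * t ^ i := by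
        apply E.injective
        conv_lhs => rw [(E (c j)).as_sum_range_C_mul_X_pow]
        simp [map_sum, t, φ]
      rw [this, Finset.sum_smul]
      refine Submodule.sum_mem _ fun i _ => ?_
      rw [mul_smul]
      exact W.smul_mem ((E (c j)).coeff i) (hpow i j)
    haveI : Module.Finite Q L := Module.Finite.iff_fg.2 (Submodule.fg_span (Set.finite_range _))
    refine GF.ext (i := L.subtype.restrictScalars R) (p := L.mkQ.restrictScalars R) L.injective_subtype
      (LinearMap.exact_subtype_mkQ L) L.mkQ_surjective (gf_mvPolynomial R n L) (GF.of_torsion ha fun z => ?_)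
    obtain ⟨m, rfl⟩ := L.mkQ_surjective z
    obtain ⟨N, hN⟩ := hall m
    exact ⟨N, (Submodule.Quotient.mk_eq_zero L).2 hN⟩

/-- Generic freeness for a finite module over a finite type algebra. -/
theorem gf (R : Type u) [CommRing R] [IsDomain R] (S : Type u) [CommRing S] [Algebra R S] [Algebra.FiniteType R S]
    (M : Type u) [AddCommGroup M] [Module S M] [Module R M] [IsScalarTower R S M] [Module.Finite S M] : GF R M := by
  obtain ⟨n, π, hπ⟩ := Algebra.FiniteType.iff_quotient_mvPolynomial''.1 ‹Algebra.FiniteType R S›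
  letI := π.toAlgebra
  haveI : IsScalarTower R (MvPolynomial (Fin n) R) S := IsScalarTower.of_algHom π
  letI : Module (MvPolynomial (Fin n) R) M := Module.compHom M π.toRingHom
  haveI : IsScalarTower (MvPolynomial (Fin n) R) S M := IsScalarTower.of_algebraMap_smul fun _ _ => rfl
  haveI : IsScalarTower R (MvPolynomial (Fin n) R) M := IsScalarTower.to₁₂₄ R (MvPolynomial (Fin n) R) S M
  haveI : Module.Finite (MvPolynomial (Fin n) R) S := Module.Finite.of_surjective (Algebra.linearMap _ _) hπ
  haveI : Module.Finite (MvPolynomial (Fin n) R) M := Module.Finite.trans S M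
  exact gf_mvPolynomial R n M

attribute [local instance] MvPolynomial.algebraMvPolynomial in
/-- relations become finitely generated after inverting one element. -/
theorem exists_fg_relations (R : Type u) [CommRing R] [IsDomain R] (n k : ℕ)
    (Kr : Submodule (MvPolynomial (Fin n) R) (Fin k → MvPolynomial (Fin n) R)) :
    ∃ (f : R) (K0 : Submodule (MvPolynomial (Fin n) R) (Fin k → MvPolynomial (Fin n) R)), f ≠ 0 ∧ K0.FG ∧ K0 ≤ Kr ∧
      ∀ x ∈ Kr, ∃ N : ℕ, f ^ N • x ∈ K0 := by
  classical
  let P := MvPolynomial (Fin n) R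
  let K := FractionRing R
  let L := MvPolynomial (Fin n) K
  let j : (Fin k → P) →ₗ[P] (Fin k → L) := LinearMap.compLeft (Algebra.linearMap P L) (Fin k)
  have hinj : Function.Injective j := fun x y h => _root_.funext fun i =>
    MvPolynomial.map_injective _ (IsFractionRing.injective R K) (congrFun h i)
  obtain ⟨t, ht, hspan⟩ := (Submodule.fg_span_iff_fg_span_finset_subset (R := L) (j '' (Kr : Set _))).1
    (IsNoetherian.noetherian _)
  obtain ⟨t', ht', rfl⟩ := Finset.subset_set_image_iff.1 ht
  let K0 : Submodule P (Fin k → P) := Submodule.span P (t' : Set _)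
  have hK0 : K0 ≤ Kr := Submodule.span_le.2 ht'
  obtain ⟨f, hf, hfree⟩ := gf R P ((Fin k → P) ⧸ K0)
  refine ⟨f, K0, hf, ⟨t', rfl⟩, hK0, fun x hx => ?_⟩
  have hx' : j x ∈ Submodule.span L (((t'.image j : Finset _) : Set (Fin k → L))) := by
    rw [← hspan]; exact Submodule.subset_span ⟨x, hx, rfl⟩
  obtain ⟨σ, z, hz, hσ⟩ : ∃ σ : R, ∃ z ∈ K0, σ ≠ 0 ∧ σ • j x = j z := by
    suffices main : ∀ y ∈ Submodule.span L (((t'.image j : Finset _) : Set (Fin k → L))), ∃ σ : R, ∃ z ∈ K0, σ ≠ 0 ∧ σ • y = j z from
      main _ hx'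
    clear hspan hx'
    intro y hy
    induction hy using Submodule.span_induction with
    | mem y hy =>
      obtain ⟨z, hz, rfl⟩ := Finset.mem_image.1 hy
      exact ⟨1, z, Submodule.subset_span hz, one_ne_zero, by rw [one_smul]⟩
    | zero => exact ⟨1, 0, zero_mem _, one_ne_zero, by simp⟩
    | add y y' _ _ hy hy' =>
      obtain ⟨a, z, hz, ha, e⟩ := hy
      obtain ⟨b, z', hz', hb, e'⟩ := hy'
      refine ⟨a * b, b • z + a • z', add_mem (K0.smul_of_tower_mem _ hz) (K0.smul_of_tower_mem _ hz'), mul_ne_zero ha hb, ?_⟩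
      rw [map_add, LinearMap.map_smul_of_tower, LinearMap.map_smul_of_tower, ← e, ← e', smul_add, smul_smul, smul_smul, mul_comm b a]
    | smul c y _ hy =>
      obtain ⟨a, z, hz, ha, e⟩ := hy
      obtain ⟨⟨p, ⟨_, r, hr, rfl⟩⟩, hp⟩ := IsLocalization.surj ((nonZeroDivisors R).map (MvPolynomial.C (σ := Fin n))) c
      refine ⟨a * r, p • z, K0.smul_mem p hz, mul_ne_zero ha (nonZeroDivisors.ne_zero hr), ?_⟩
      rw [map_smul, ← e]
      have hp' : r • c = algebraMap P L p := by
        rw [← hp, Algebra.smul_def, mul_comm, IsScalarTower.algebraMap_apply R P L]; rfl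
      rw [← algebraMap_smul L p, ← hp', smul_assoc, smul_comm c a, mul_comm a r, mul_smul]
  have hσx : σ • x ∈ K0 := by
    have : σ • x = z := hinj (by rw [LinearMap.map_smul_of_tower]; exact hσ.2)
    exact this ▸ hz
  set A := Localization.Away f
  let q : (Fin k → P) ⧸ K0 := Submodule.Quotient.mk x
  have hq : σ • LocalizedModule.mkLinearMap (Submonoid.powers f) _ q = 0 := by
    rw [← map_smul, show σ • q = 0 from (Submodule.Quotient.mk_eq_zero K0).2 hσx, map_zero]
  rw [← algebraMap_smul A σ] at hq
  haveI : IsDomain A := IsLocalization.isDomain_localization (powers_le_nonZeroDivisors_of_noZeroDivisors hf)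
  have hσA : algebraMap R A σ ≠ 0 := fun h => hσ.1 (IsLocalization.injective A (powers_le_nonZeroDivisors_of_noZeroDivisors hf) (h.trans (map_zero _).symm))
  have h0 : LocalizedModule.mkLinearMap (Submonoid.powers f) _ q = 0 := (smul_eq_zero.1 hq).resolve_left hσA
  obtain ⟨⟨_, N, rfl⟩, hN⟩ := (IsLocalizedModule.eq_zero_iff (Submonoid.powers f) _).1 h0
  exact ⟨N, (Submodule.Quotient.mk_eq_zero K0).1 hN⟩

end Groth.Agent.H2GenericFree
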