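import Mathlib

/-! Local criterion of flatness, Tor-free: `Inj R M N` says that tensoring any presentation of `N` with `M`
keeps injectivity. -/

universe u

open TensorProduct LinearMap Submodule

namespace Groth.Agent.H2LocalCrit

/-- every surjection onto `N` has kernel staying injective after `⊗ M` (i.e. `Tor₁(N,M) = 0`). -/
def Inj (R : Type u) [CommRing R] (M : Type u) [AddCommGroup M] [Module R M] (N : Type u) [AddCommGroup N]
    [Module R N] : Prop :=
  ∀ (B : Type u) [AddCommGroup B] [Module R B] (p : B →ₗ[R] N), Function.Surjective p →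
    Function.Injective ((LinearMap.ker p).subtype.rTensor M)

variable {R : Type u} [CommRing R] {M : Type u} [AddCommGroup M] [Module R M]

lemma Inj.of_proj {N : Type u} [AddCommGroup N] [Module R N] {B0 : Type u} [AddCommGroup B0] [Module R B0]
    [Module.Projective R B0] (p0 : B0 →ₗ[R] N) (hp0 : Function.Surjective p0)
    (h0 : Function.Injective ((LinearMap.ker p0).subtype.rTensor M)) : Inj R M N := by
  intro B _ _ p hp
  obtain ⟨φ, hφ⟩ := Module.projective_lifting_property p p0 hp
  have hφ' : ∀ b, p (φ b) = p0 b := fun b => LinearMap.congr_fun hφ b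
  let g : (LinearMap.ker p) × B0 →ₗ[R] B := LinearMap.coprod (LinearMap.ker p).subtype φ
  let f : LinearMap.ker p0 →ₗ[R] (LinearMap.ker p) × B0 :=
    LinearMap.prod ((-(φ ∘ₗ (LinearMap.ker p0).subtype)).codRestrict _ fun b => by
      have hb : p0 (b : B0) = 0 := b.2
      simp [hφ', hb]) (LinearMap.ker p0).subtype
  have hg : Function.Surjective g := fun b => by
    obtain ⟨b0, hb0⟩ := hp0 (p b)
    exact ⟨(⟨b - φ b0, by simp [hφ', hb0]⟩, b0), by simp [g]⟩
  have hexact : Function.Exact f g := by
    rintro ⟨⟨a, ha⟩, b⟩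
    refine ⟨fun h => ?_, ?_⟩
    · have h' : a + φ b = 0 := h
      have ha' : p a = 0 := ha
      have hb : p0 b = 0 := by
        rw [← hφ' b, eq_neg_of_add_eq_zero_right h', map_neg, ha', neg_zero]
      refine ⟨⟨b, hb⟩, ?_⟩
      ext
      · simp [f, eq_neg_of_add_eq_zero_left h']
      · rfl
    · rintro ⟨c, hc⟩; rw [← hc]; simp [f, g]
  rw [injective_iff_map_eq_zero]
  intro y hy
  have h1 : g.rTensor M ((LinearMap.inl R _ B0).rTensor M y) = 0 := by
    rw [← rTensor_comp_apply]; simpa [g] using hy
  obtain ⟨z, hz⟩ := (rTensor_exact M hexact hg _).1 h1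
  have h2 : (LinearMap.ker p0).subtype.rTensor M z = 0 := by
    have := congrArg ((LinearMap.snd R _ B0).rTensor M) hz
    rw [← rTensor_comp_apply, ← rTensor_comp_apply, LinearMap.snd_comp_inl, rTensor_zero] at this
    simpa [f] using this
  have hz0 : z = 0 := h0 (by rw [h2, map_zero])
  rw [hz0, map_zero] at hz
  have := congrArg ((LinearMap.fst R _ B0).rTensor M) hz
  rw [map_zero, ← rTensor_comp_apply, LinearMap.fst_comp_inl, rTensor_id] at this
  exact this.symm

lemma Inj.of_exact {N : Type u} [AddCommGroup N] [Module R N] (h : Inj R M N) {A B : Type u} [AddCommGroup A] [Module R A]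
    [AddCommGroup B] [Module R B] {j : A →ₗ[R] B} {p : B →ₗ[R] N} (hj : Function.Injective j)
    (he : Function.Exact j p) (hp : Function.Surjective p) : Function.Injective (j.rTensor M) := by
  let e : A →ₗ[R] LinearMap.ker p := j.codRestrict _ fun a => (he (j a)).2 ⟨a, rfl⟩
  have hb : Function.Bijective e := ⟨fun a b hab => hj (congrArg Subtype.val hab), fun x => by
    obtain ⟨a, ha⟩ := (he (x : B)).1 x.2
    exact ⟨a, Subtype.ext ha⟩⟩
  have : j = (LinearMap.ker p).subtype ∘ₗ e := rfl
  rw [this, rTensor_comp, LinearMap.coe_comp]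
  exact (h B p hp).comp (LinearEquiv.rTensor M (LinearEquiv.ofBijective e hb)).injective

lemma Inj.ext {N : Type u} [AddCommGroup N] [Module R N] (N' : Submodule R N) (h1 : Inj R M N') (h2 : Inj R M (N ⧸ N')) :
    Inj R M N := by
  intro B _ _ p hp
  let B' := N'.comap p
  let i : LinearMap.ker p →ₗ[R] B' := Submodule.inclusion fun b hb => by
    rw [Submodule.mem_comap, show p b = 0 from hb]; exact zero_mem _
  let p' : B' →ₗ[R] N' := (p ∘ₗ B'.subtype).codRestrict N' fun b => b.2
  have hp' : Function.Surjective p' := fun n => by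
    obtain ⟨b, hb⟩ := hp n
    exact ⟨⟨b, by rw [Submodule.mem_comap, hb]; exact n.2⟩, Subtype.ext hb⟩
  have e1 : Function.Injective (i.rTensor M) :=
    h1.of_exact (j := i) (p := p') (Submodule.inclusion_injective _) (fun b => ⟨fun hb => ⟨⟨b, congrArg Subtype.val hb⟩, rfl⟩,
      by rintro ⟨a, rfl⟩; exact Subtype.ext a.2⟩) hp'
  have e2 : Function.Injective (B'.subtype.rTensor M) :=
    h2.of_exact (j := B'.subtype) (p := N'.mkQ ∘ₗ p) B'.injective_subtype (fun b => ⟨fun hb => ⟨⟨b, (Submodule.Quotient.mk_eq_zero N').1 hb⟩, rfl⟩,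
      by rintro ⟨a, rfl⟩; exact (Submodule.Quotient.mk_eq_zero N').2 a.2⟩) (N'.mkQ_surjective.comp hp)
  have : (LinearMap.ker p).subtype = B'.subtype ∘ₗ i := rfl
  rw [this, rTensor_comp, LinearMap.coe_comp]
  exact e2.comp e1

section quot

variable (I : Ideal R) [Module.Flat (R ⧸ I) ((R ⧸ I) ⊗[R] M)]

lemma injective_rTensor_of_flat_quot {C D : Type u} [AddCommGroup C] [Module R C] [Module (R ⧸ I) C]
    [IsScalarTower R (R ⧸ I) C] [AddCommGroup D] [Module R D] [Module (R ⧸ I) D] [IsScalarTower R (R ⧸ I) D]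
    (j : C →ₗ[R ⧸ I] D) (hj : Function.Injective j) : Function.Injective ((j.restrictScalars R).rTensor M) := by
  let eC := AlgebraTensorModule.cancelBaseChange R (R ⧸ I) (R ⧸ I) C M
  let eD := AlgebraTensorModule.cancelBaseChange R (R ⧸ I) (R ⧸ I) D M
  have hinj := Module.Flat.rTensor_preserves_injective_linearMap (M := (R ⧸ I) ⊗[R] M) j hj
  have key : ∀ z, (j.restrictScalars R).rTensor M (eC z) = eD (j.rTensor ((R ⧸ I) ⊗[R] M) z) := by
    intro z
    induction z using TensorProduct.induction_on with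
    | zero => simp
    | add x y hx hy => simp [hx, hy]
    | tmul c w =>
      induction w using TensorProduct.induction_on with
      | zero => simp
      | add x y hx hy => simp [tmul_add, hx, hy]
      | tmul a m => simp [eC, eD]
  rw [injective_iff_map_eq_zero]
  intro x hx
  obtain ⟨z, rfl⟩ := eC.surjective x
  rw [key, LinearEquiv.map_eq_zero_iff] at hx
  rw [hinj (hx.trans (map_zero _).symm), map_zero]

lemma injective_rTensor_of_smul_top_le (h1 : Function.Injective (I.subtype.rTensor M)) {F : Type u} [AddCommGroup F]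
    [Module R F] [Module.Flat R F] (A : Submodule R F) (hGA : I • ⊤ ≤ A) : Function.Injective (A.subtype.rTensor M) := by
  let G : Submodule R F := I • ⊤
  let C : Submodule (R ⧸ I) (F ⧸ G) :=
    { carrier := (A.map G.mkQ : Submodule R (F ⧸ G))
      add_mem' := fun {a b} ha hb => add_mem ha hb
      zero_mem' := zero_mem _
      smul_mem' := fun c x hx => by
        obtain ⟨r, rfl⟩ := Ideal.Quotient.mk_surjective c
        have : (Ideal.Quotient.mk I r) • x = r • x := IsScalarTower.algebraMap_smul (R ⧸ I) r x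
        show _ • x ∈ A.map G.mkQ
        rw [this]; exact Submodule.smul_mem _ r hx }
  let π : A →ₗ[R] C :=
    { toFun := fun a => ⟨G.mkQ a.1, ⟨a.1, a.2, rfl⟩⟩
      map_add' := fun a b => Subtype.ext (by simp)
      map_smul' := fun c a => Subtype.ext (by simp) }
  have hπ : Function.Surjective π := by
    rintro ⟨c, a, ha, rfl⟩; exact ⟨⟨a, ha⟩, rfl⟩
  let incl : G →ₗ[R] A := Submodule.inclusion hGA
  have hex : Function.Exact incl π := fun a => ⟨fun h => ⟨⟨a.1, (Submodule.Quotient.mk_eq_zero G).1 (congrArg Subtype.val h)⟩, rfl⟩,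
    by rintro ⟨b, rfl⟩; exact Subtype.ext ((Submodule.Quotient.mk_eq_zero G).2 b.2)⟩
  rw [injective_iff_map_eq_zero]
  intro y hy
  have hy1 : π.rTensor M y = 0 := by
    refine injective_rTensor_of_flat_quot (M := M) I C.subtype Subtype.val_injective ?_
    rw [map_zero, ← rTensor_comp_apply, show (C.subtype.restrictScalars R) ∘ₗ π = G.mkQ ∘ₗ A.subtype from rfl,
      rTensor_comp_apply, hy, map_zero]
  obtain ⟨z, rfl⟩ := (rTensor_exact M hex hπ y).1 hy1
  -- `z` lifts to `F ⊗ I ⊗ M`
  let θ0 : F ⊗[R] I →ₗ[R] F := (TensorProduct.rid R F).toLinearMap ∘ₗ I.subtype.lTensor F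
  let θ : F ⊗[R] I →ₗ[R] G := θ0.codRestrict G fun w => by
    induction w using TensorProduct.induction_on with
    | zero => simp
    | add a b ha hb => rw [map_add]; exact add_mem ha hb
    | tmul x i =>
      show θ0 (x ⊗ₜ i) ∈ I • ⊤
      simp only [θ0, LinearMap.coe_comp, LinearEquiv.coe_coe, Function.comp_apply, lTensor_tmul, rid_tmul]
      exact Submodule.smul_mem_smul i.2 trivial
  have hθ : Function.Surjective θ := fun ⟨g, hg⟩ => by
    obtain ⟨w, hw⟩ : g ∈ LinearMap.range θ0 := by
      refine Submodule.smul_induction_on hg (fun i hi x _ => ⟨x ⊗ₜ ⟨i, hi⟩, by simp [θ0]⟩) (fun a b ha hb => add_mem ha hb)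
    exact ⟨w, Subtype.ext hw⟩
  obtain ⟨w, rfl⟩ := rTensor_surjective M hθ z
  let ψ : I ⊗[R] M →ₗ[R] M := (TensorProduct.lid R M).toLinearMap ∘ₗ I.subtype.rTensor M
  have hψ : Function.Injective (ψ.lTensor F) :=
    Module.Flat.lTensor_preserves_injective_linearMap _ ((TensorProduct.lid R M).injective.comp h1)
  have key : ∀ v, θ0.rTensor M v = ψ.lTensor F (TensorProduct.assoc R F I M v) := by
    intro v
    induction v using TensorProduct.induction_on with
    | zero => simp
    | add a b ha hb => simp [ha, hb]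
    | tmul fi m =>
      induction fi using TensorProduct.induction_on with
      | zero => simp
      | add a b ha hb => simp [add_tmul, ha, hb]
      | tmul x i => simp [θ0, ψ, smul_tmul]
  rw [← rTensor_comp_apply, ← rTensor_comp_apply, show (A.subtype ∘ₗ incl) ∘ₗ θ = θ0 from rfl, key] at hy
  have hw : w = 0 := by
    have := hψ (hy.trans (map_zero _).symm)
    exact (TensorProduct.assoc R F I M).map_eq_zero_iff.1 this
  rw [hw, map_zero, map_zero]

lemma Inj.of_killed (h1 : Function.Injective (I.subtype.rTensor M)) (N : Type u) [AddCommGroup N] [Module R N]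
    (hN : ∀ a ∈ I, ∀ x : N, a • x = 0) : Inj R M N := by
  refine Inj.of_proj (Finsupp.linearCombination R (id : N → N))
    (fun n => ⟨Finsupp.single n 1, (Finsupp.linearCombination_single R _ _).trans (one_smul R n)⟩) ?_
  refine injective_rTensor_of_smul_top_le I h1 _ (Submodule.smul_le.2 fun a ha x _ => ?_)
  rw [LinearMap.mem_ker, map_smul]; exact hN a ha _

lemma Inj.of_killed_pow (h1 : Function.Injective (I.subtype.rTensor M)) :
    ∀ (n : ℕ) (N : Type u) [AddCommGroup N] [Module R N], (∀ a ∈ I ^ n, ∀ x : N, a • x = 0) → Inj R M N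
  | 0, N, _, _, hN => Inj.of_killed I h1 N fun a _ x => by
      rw [← one_smul R x, hN 1 (by simp) x, smul_zero]
  | n + 1, N, _, _, hN => by
    refine Inj.ext (I ^ n • ⊤ : Submodule R N) (Inj.of_killed I h1 _ fun a ha x => Subtype.ext ?_) (Inj.of_killed_pow h1 n _ ?_)
    · show a • (x : N) = 0
      refine Submodule.smul_induction_on x.2 (fun b hb y _ => ?_) (fun y z hy hz => by rw [smul_add, hy, hz, add_zero])
      rw [smul_smul]
      exact hN _ (by rw [pow_succ']; exact Ideal.mul_mem_mul ha hb) y
    · rintro a ha x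
      obtain ⟨x, rfl⟩ := Submodule.mkQ_surjective _ x
      rw [← map_smul, Submodule.mkQ_apply, Submodule.Quotient.mk_eq_zero]
      exact Submodule.smul_mem_smul ha trivial

end quot

/-- the kernel of `J ⊗ M → M` comes from `(J ⊓ K) ⊗ M` if `Tor₁(R/(J+K),M) = 0`. -/
lemma mem_range_inf_of_inj (J K : Ideal R) (h : Inj R M (R ⧸ (J ⊔ K))) {x : J ⊗[R] M} (hx : J.subtype.rTensor M x = 0) :
    x ∈ LinearMap.range ((Submodule.inclusion (inf_le_left : J ⊓ K ≤ J)).rTensor M) := by
  let g : J × K →ₗ[R] (J ⊔ K : Ideal R) := LinearMap.coprod (Submodule.inclusion le_sup_left) (Submodule.inclusion le_sup_right)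
  let f : (J ⊓ K : Ideal R) →ₗ[R] J × K :=
    LinearMap.prod (Submodule.inclusion inf_le_left) (-Submodule.inclusion inf_le_right)
  have hg : Function.Surjective g := by
    rintro ⟨a, ha⟩
    obtain ⟨b, hb, c, hc, rfl⟩ := Submodule.mem_sup.1 ha
    exact ⟨(⟨b, hb⟩, ⟨c, hc⟩), Subtype.ext (by simp [g])⟩
  have hexact : Function.Exact f g := by
    rintro ⟨a, b⟩
    refine ⟨fun h => ?_, ?_⟩
    · have h' : (a : R) + (b : R) = 0 := congrArg Subtype.val h
      refine ⟨⟨a, a.2, ?_⟩, ?_⟩
      · rw [eq_neg_of_add_eq_zero_left h']; exact neg_mem b.2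
      · refine Prod.ext (Subtype.ext rfl) (Subtype.ext ?_)
        simp [f, eq_neg_of_add_eq_zero_left h']
    · rintro ⟨c, hc⟩; rw [← hc]; exact Subtype.ext (by simp [f, g])
  have hJK : Function.Injective ((J ⊔ K : Ideal R).subtype.rTensor M) :=
    h.of_exact (Submodule.injective_subtype _) (LinearMap.exact_subtype_mkQ _) (Submodule.mkQ_surjective _)
  have h1 : g.rTensor M ((LinearMap.inl R _ K).rTensor M x) = 0 := by
    refine hJK ?_
    rw [← rTensor_comp_apply, ← rTensor_comp_apply, map_zero]
    rw [show ((J ⊔ K : Ideal R).subtype ∘ₗ g) ∘ₗ LinearMap.inl R J K = J.subtype from LinearMap.ext fun a => by simp [g]]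
    exact hx
  obtain ⟨z, hz⟩ := (rTensor_exact M hexact hg _).1 h1
  refine ⟨z, ?_⟩
  have := congrArg ((LinearMap.fst R J K).rTensor M) hz
  rw [← rTensor_comp_apply, ← rTensor_comp_apply, LinearMap.fst_comp_inl, rTensor_id, LinearMap.id_apply] at this
  simpa [f] using this

/-- the kernel of `J ⊗ M → M` comes from `(J ⊓ K) ⊗ M` if `M/KM` is flat over `R/K`. -/
lemma mem_range_inf_of_flat (J K : Ideal R) [Module.Flat (R ⧸ K) ((R ⧸ K) ⊗[R] M)] {x : J ⊗[R] M}
    (hx : J.subtype.rTensor M x = 0) :
    x ∈ LinearMap.range ((Submodule.inclusion (inf_le_left : J ⊓ K ≤ J)).rTensor M) := by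
  let C : Submodule (R ⧸ K) (R ⧸ K) := J.map (Ideal.Quotient.mk K)
  let π : J →ₗ[R] C :=
    { toFun := fun a => ⟨Ideal.Quotient.mk K a.1, Ideal.mem_map_of_mem _ a.2⟩
      map_add' := fun a b => Subtype.ext (by simp)
      map_smul' := fun c a => Subtype.ext (by simp [Algebra.smul_def]) }
  have hπ : Function.Surjective π := by
    rintro ⟨c, hc⟩
    obtain ⟨a, ha, rfl⟩ := (Ideal.mem_map_iff_of_surjective _ Ideal.Quotient.mk_surjective).1 hc
    exact ⟨⟨a, ha⟩, rfl⟩
  have hex : Function.Exact (Submodule.inclusion (inf_le_left : J ⊓ K ≤ J)) π := fun a =>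
    ⟨fun h => ⟨⟨a.1, a.2, Ideal.Quotient.eq_zero_iff_mem.1 (congrArg Subtype.val h)⟩, rfl⟩,
      by rintro ⟨b, rfl⟩; exact Subtype.ext (Ideal.Quotient.eq_zero_iff_mem.2 b.2.2)⟩
  refine (rTensor_exact M hex hπ x).1 ?_
  refine injective_rTensor_of_flat_quot (M := M) K C.subtype Subtype.val_injective ?_
  rw [map_zero, ← rTensor_comp_apply,
    show (C.subtype.restrictScalars R) ∘ₗ π = (K.mkQ) ∘ₗ J.subtype from rfl, rTensor_comp_apply, hx, map_zero]

/-- extensions of flat modules are flat. -/
theorem flat_ext {A X Y Z : Type u} [CommRing A] [AddCommGroup X] [Module A X] [AddCommGroup Y] [Module A Y]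
    [AddCommGroup Z] [Module A Z] [Module.Flat A X] [Module.Flat A Z] (i : X →ₗ[A] Y) (p : Y →ₗ[A] Z)
    (hi : Function.Injective i) (he : Function.Exact i p) (hp : Function.Surjective p) : Module.Flat A Y := by
  rw [Module.Flat.iff_lTensor_injective']
  intro J
  rw [injective_iff_map_eq_zero]
  intro y hy
  have h1 : p.rTensor J y = 0 := by
    refine Module.Flat.lTensor_preserves_injective_linearMap (M := Z) J.subtype J.injective_subtype ?_
    rw [map_zero, ← LinearMap.comp_apply, lTensor_comp_rTensor, ← rTensor_comp_lTensor, LinearMap.comp_apply, hy, map_zero]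
  obtain ⟨x, rfl⟩ := (rTensor_exact J he hp y).1 h1
  have h2 : J.subtype.lTensor X x = 0 := by
    refine Module.Flat.rTensor_preserves_injective_linearMap (M := A) i hi ?_
    rw [map_zero, ← LinearMap.comp_apply, rTensor_comp_lTensor, ← lTensor_comp_rTensor, LinearMap.comp_apply, hy]
  rw [Module.Flat.lTensor_preserves_injective_linearMap (M := X) J.subtype J.injective_subtype (h2.trans (map_zero _).symm), map_zero]

section noeth

variable [IsNoetherianRing R] {S : Type u} [CommRing S] [IsNoetherianRing S] [Algebra R S] [Module S M]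
  [IsScalarTower R S M] [Module.Finite S M]

/-- Krull + Artin–Rees: kernel elements of `M ⊗ J → M` are fixed by an element of `IS`. -/
theorem exists_smul_eq_self (I : Ideal R) (J : Ideal R)
    (hrange : ∀ n, 0 < n → ∀ x : J ⊗[R] M, J.subtype.rTensor M x = 0 →
      x ∈ LinearMap.range ((Submodule.inclusion (inf_le_left : J ⊓ I ^ n ≤ J)).rTensor M))
    {x : M ⊗[R] J} (hx : J.subtype.lTensor M x = 0) : ∃ r ∈ I.map (algebraMap R S), r • x = x := by
  obtain ⟨t, ht⟩ : Submodule.FG (⊤ : Submodule R J) := IsNoetherian.noetherian _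
  let φ : (t → M) →ₗ[S] M ⊗[R] J :=
    { toFun := fun v => ∑ i : t, v i ⊗ₜ (i : J)
      map_add' := fun v w => by simp [add_tmul, Finset.sum_add_distrib]
      map_smul' := fun c v => by simp [Finset.smul_sum, smul_tmul'] }
  have hfin : Module.Finite S (M ⊗[R] J) := by
    refine Module.Finite.of_surjective φ fun y => ?_
    induction y using TensorProduct.induction_on with
    | zero => exact ⟨0, map_zero _⟩
    | add a b ha hb => obtain ⟨v, rfl⟩ := ha; obtain ⟨w, rfl⟩ := hb; exact ⟨v + w, map_add _ _ _⟩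
    | tmul m j =>
      have : j ∈ Submodule.span R (t : Set J) := ht ▸ trivial
      induction this using Submodule.span_induction with
      | mem a ha =>
        classical
        refine ⟨Pi.single ⟨a, ha⟩ m, ?_⟩
        show ∑ i : t, _ = _
        rw [Finset.sum_eq_single ⟨a, ha⟩ (fun i _ hi => by simp [Pi.single_eq_of_ne hi]) (by simp)]
        simp
      | zero => exact ⟨0, by simp⟩
      | add a b _ _ ha hb => obtain ⟨v, hv⟩ := ha; obtain ⟨w, hw⟩ := hb; exact ⟨v + w, by rw [map_add, hv, hw, tmul_add]⟩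
      | smul c a _ ha =>
        obtain ⟨v, hv⟩ := ha
        exact ⟨algebraMap R S c • v, by rw [map_smul, hv, tmul_smul, algebraMap_smul]⟩
  obtain ⟨c, hc⟩ := Ideal.exists_pow_inf_eq_pow_smul (M := R) I J
  have hmem : x ∈ (⨅ k : ℕ, (I.map (algebraMap R S)) ^ k • ⊤ : Submodule S (M ⊗[R] J)) := by
    rw [Submodule.mem_iInf]
    intro k
    have hx' : J.subtype.rTensor M (TensorProduct.comm R M J x) = 0 := by
      have : J.subtype.rTensor M (TensorProduct.comm R M J x) = TensorProduct.comm R M R (J.subtype.lTensor M x) := by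
        clear hx
        induction x using TensorProduct.induction_on with
        | zero => simp
        | add a b ha hb => simp [ha, hb]
        | tmul m j => simp
      rw [this, hx, map_zero]
    obtain ⟨z, hz⟩ := hrange (k + c + 1) (by omega) _ hx'
    have hAR : ∀ a : (J ⊓ I ^ (k + c + 1) : Ideal R),
        Submodule.inclusion inf_le_left a ∈ (I ^ k • ⊤ : Submodule R J) := by
      rintro ⟨a, ha1, ha2⟩
      have : a ∈ I ^ (k + c + 1 - c) • (I ^ c • ⊤ ⊓ J) := by
        rw [← hc _ (by omega)]; exact ⟨by simpa using ha2, ha1⟩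
      have h2 : a ∈ (I ^ k • ⊤ : Submodule R J).map J.subtype := by
        rw [Submodule.map_smul'', Submodule.map_subtype_top]
        exact Submodule.smul_mono (Ideal.pow_le_pow_right (by omega)) inf_le_right this
      obtain ⟨b, hb, hba⟩ := h2
      exact (show Submodule.inclusion inf_le_left ⟨a, ha1, ha2⟩ = b from Subtype.ext hba.symm) ▸ hb
    have hx2 : x = (TensorProduct.comm R M J).symm ((Submodule.inclusion inf_le_left).rTensor M z) := by
      rw [hz, LinearEquiv.symm_apply_apply]
    rw [hx2]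
    clear hx2 hz
    induction z using TensorProduct.induction_on with
    | zero => simp
    | add a b ha hb => rw [map_add, map_add]; exact add_mem ha hb
    | tmul a m =>
      simp only [rTensor_tmul, comm_symm_tmul]
      refine Submodule.smul_induction_on (hAR a) (fun i hi y _ => ?_) (fun y w hy hw => by rw [tmul_add]; exact add_mem hy hw)
      rw [tmul_smul, ← algebraMap_smul S i]
      exact Submodule.smul_mem_smul (by rw [← Ideal.map_pow]; exact Ideal.mem_map_of_mem _ hi) trivial
  obtain ⟨r, hr⟩ := (Ideal.mem_iInf_smul_pow_eq_bot_iff _ x).1 hmem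
  exact ⟨r, r.2, hr⟩

omit [IsNoetherianRing R] [IsNoetherianRing S] [Module.Finite S M] in
lemma map_lTensor_smul (J : Ideal R) (c : S) (x : M ⊗[R] J) :
    J.subtype.lTensor M (c • x) = c • J.subtype.lTensor M x := by
  induction x using TensorProduct.induction_on with
  | zero => simp
  | add a b ha hb => simp [smul_add, ha, hb]
  | tmul m j => simp [smul_tmul']

omit [IsNoetherianRing R] [IsNoetherianRing S] [Module.Finite S M] in
/-- localisation kills kernels. -/
theorem flat_localized (T : Submonoid S)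
    (h : ∀ J : Ideal R, ∀ x : M ⊗[R] J, J.subtype.lTensor M x = 0 → ∃ s ∈ T, s • x = 0) :
    Module.Flat R (LocalizedModule T M) := by
  rw [Module.Flat.iff_lTensor_injective']
  intro J
  set Q := LocalizedModule T M
  let j : M →ₗ[S] Q := LocalizedModule.mkLinearMap T M
  let jR := j.restrictScalars R
  have hlift : ∀ y : Q ⊗[R] J, ∃ s ∈ T, ∃ x : M ⊗[R] J, s • y = jR.rTensor J x := by
    intro y
    induction y using TensorProduct.induction_on with
    | zero => exact ⟨1, T.one_mem, 0, by simp⟩
    | tmul q a =>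
      obtain ⟨⟨m, s⟩, hs⟩ := IsLocalizedModule.surj T j q
      exact ⟨s, s.2, m ⊗ₜ a, by rw [smul_tmul', rTensor_tmul]; exact congrArg (· ⊗ₜ[R] a) hs⟩
    | add a b ha hb =>
      obtain ⟨s, hs, x, hx⟩ := ha
      obtain ⟨s', hs', x', hx'⟩ := hb
      have hsm : ∀ (c : S) (w : M ⊗[R] J), jR.rTensor J (c • w) = c • jR.rTensor J w := fun c w => by
        induction w using TensorProduct.induction_on with
        | zero => simp
        | add a b ha hb => simp [smul_add, ha, hb]
        | tmul m a => simp [smul_tmul', jR]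
      exact ⟨s * s', T.mul_mem hs hs', s' • x + s • x', by
        rw [map_add, hsm, hsm, ← hx, ← hx', smul_add, smul_smul, smul_smul, mul_comm s' s]⟩
  have hunit : ∀ s ∈ T, ∀ y : Q ⊗[R] J, s • y = 0 → y = 0 := by
    intro s hs y hy
    obtain ⟨φ, hφ⟩ := (IsLocalizedModule.map_units j ⟨s, hs⟩).exists_left_inv
    have h2 : (φ.restrictScalars R).rTensor J (s • y) = y := by
      clear hy
      induction y using TensorProduct.induction_on with
      | zero => simp
      | add a b ha hb => simp [smul_add, ha, hb]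
      | tmul q a =>
        rw [smul_tmul', rTensor_tmul]
        exact congrArg (· ⊗ₜ[R] a) (LinearMap.congr_fun hφ q)
    rw [← h2, hy, map_zero]
  rw [injective_iff_map_eq_zero]
  intro y hy
  obtain ⟨s, hs, x, hx⟩ := hlift y
  have h1 : jR (TensorProduct.rid R M (J.subtype.lTensor M x)) = 0 := by
    have e : jR (TensorProduct.rid R M (J.subtype.lTensor M x)) = TensorProduct.rid R Q (J.subtype.lTensor Q (jR.rTensor J x)) := by
      clear hx
      induction x using TensorProduct.induction_on with
      | zero => simp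
      | add a b ha hb => simp [ha, hb]
      | tmul m a => simp
    rw [e, ← hx, map_lTensor_smul, hy, smul_zero, map_zero]
  obtain ⟨c, hc⟩ := (IsLocalizedModule.eq_zero_iff T j).1 h1
  have h2 : J.subtype.lTensor M ((c : S) • x) = 0 := by
    rw [map_lTensor_smul, ← LinearEquiv.map_eq_zero_iff (TensorProduct.rid R M)]
    have : ∀ w : M ⊗[R] R, TensorProduct.rid R M ((c : S) • w) = (c : S) • TensorProduct.rid R M w := fun w => by
      induction w using TensorProduct.induction_on with
      | zero => simp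
      | add a b ha hb => simp [smul_add, ha, hb]
      | tmul m a => simp [smul_tmul', smul_comm a (c : S) m]
    rw [this]; exact hc
  obtain ⟨t, ht, htx⟩ := h J _ h2
  refine hunit _ (T.mul_mem (T.mul_mem ht c.2) hs) y ?_
  rw [mul_smul, hx]
  have hsm : ∀ w : M ⊗[R] J, jR.rTensor J ((t * c) • w) = (t * (c : S)) • jR.rTensor J w := fun w => by
    induction w using TensorProduct.induction_on with
    | zero => simp
    | add a b ha hb => simp [smul_add, ha, hb]
    | tmul m a => simp [smul_tmul', jR]
  rw [← hsm, mul_smul, htx, map_zero]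

/-- Local criterion of flatness. -/
theorem flat_of_jacobson (I : Ideal R) (hI : I.map (algebraMap R S) ≤ Ideal.jacobson ⊥)
    (h1 : Function.Injective (I.subtype.rTensor M)) (h2 : Module.Flat (R ⧸ I) ((R ⧸ I) ⊗[R] M)) : Module.Flat R M := by
  rw [Module.Flat.iff_lTensor_injective']
  intro J
  rw [injective_iff_map_eq_zero]
  intro x hx
  obtain ⟨r, hr, hrx⟩ := exists_smul_eq_self (S := S) I J (fun n _ y hy => mem_range_inf_of_inj J (I ^ n)
    (Inj.of_killed_pow I h1 n _ fun a ha z => by
      obtain ⟨z, rfl⟩ := Ideal.Quotient.mk_surjective z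
      rw [Algebra.smul_def, Ideal.Quotient.algebraMap_eq, ← map_mul, Ideal.Quotient.eq_zero_iff_mem]
      exact Ideal.mul_mem_right _ _ (Ideal.mem_sup_right ha)) hy) hx
  have hu := Ideal.isUnit_of_sub_one_mem_jacobson_bot (1 - r) (by simpa using hI hr)
  exact hu.smul_left_cancel.1 (by rw [sub_smul, one_smul, hrx, sub_self, smul_zero])

/-- flatness modulo all powers gives flatness at primes above `I`. -/
theorem flat_localized_of_flat_pow (I : Ideal R) (h : ∀ n : ℕ, 0 < n → Module.Flat (R ⧸ I ^ n) ((R ⧸ I ^ n) ⊗[R] M))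
    (q : Ideal S) [q.IsPrime] (hq : I.map (algebraMap R S) ≤ q) : Module.Flat R (LocalizedModule q.primeCompl M) := by
  refine flat_localized q.primeCompl fun J x hx => ?_
  obtain ⟨r, hr, hrx⟩ := exists_smul_eq_self (S := S) I J (fun n hn y hy => by
    haveI := h n hn; exact mem_range_inf_of_flat J (I ^ n) hy) hx
  refine ⟨1 - r, fun hc => q.one_notMem ?_, by rw [sub_smul, one_smul, hrx, sub_self]⟩
  simpa using add_mem hc (hq hr)

theorem flat_of_flat_pow (I : Ideal R) (hI : I.map (algebraMap R S) ≤ Ideal.jacobson ⊥)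
    (h : ∀ n : ℕ, 0 < n → Module.Flat (R ⧸ I ^ n) ((R ⧸ I ^ n) ⊗[R] M)) : Module.Flat R M := by
  rw [Module.Flat.iff_lTensor_injective']
  intro J
  rw [injective_iff_map_eq_zero]
  intro x hx
  obtain ⟨r, hr, hrx⟩ := exists_smul_eq_self (S := S) I J (fun n hn y hy => by
    haveI := h n hn; exact mem_range_inf_of_flat J (I ^ n) hy) hx
  have hu := Ideal.isUnit_of_sub_one_mem_jacobson_bot (1 - r) (by simpa using hI hr)
  exact hu.smul_left_cancel.1 (by rw [sub_smul, one_smul, hrx, sub_self, smul_zero])

end noeth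

end Groth.Agent.H2LocalCrit
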