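import Mathlib
import Groth.Agent.Lib.H2LocalCrit
import Groth.Agent.Lib.H2GenericFree

/-!
Descent of flatness to Noetherian rings, part 1: actions on tensor products, strata, kernel generation.
-/

universe u

open TensorProduct LinearMap

namespace Groth.Agent.H4FlatDescent

variable {R₀ : Type u} [CommRing R₀] (S₀ : Type u) [CommRing S₀] [Algebra R₀ S₀]
  (M₀ : Type u) [AddCommGroup M₀] [Module R₀ M₀] [Module S₀ M₀] [IsScalarTower R₀ S₀ M₀]

section act

variable (T : Type u) [CommRing T] [Algebra R₀ T] (A : Type u) [AddCommGroup A] [Module R₀ A] [Module T A]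
  [IsScalarTower R₀ T A]

/-- `S₀ ⊗ T` acts on `M₀ ⊗ A`. -/
noncomputable def act : (S₀ ⊗[R₀] T) →ₐ[R₀] Module.End R₀ (M₀ ⊗[R₀] A) :=
  (Module.endTensorEndAlgHom (R := R₀) (S := R₀) (A := R₀) (M := M₀) (N := A)).comp
    (Algebra.TensorProduct.map (Algebra.lsmul R₀ R₀ M₀ : S₀ →ₐ[R₀] Module.End R₀ M₀)
      (Algebra.lsmul R₀ R₀ A : T →ₐ[R₀] Module.End R₀ A))

@[simp]
theorem act_tmul (s : S₀) (t : T) (m : M₀) (a : A) :
    act S₀ M₀ T A (s ⊗ₜ[R₀] t) (m ⊗ₜ[R₀] a) = (s • m) ⊗ₜ[R₀] (t • a) := rfl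

variable {A} {D : Type u} [AddCommGroup D] [Module R₀ D] [Module T D] [IsScalarTower R₀ T D]

theorem act_natural (j : A →ₗ[T] D) (c : S₀ ⊗[R₀] T) (z : M₀ ⊗[R₀] A) :
    (j.restrictScalars R₀).lTensor M₀ (act S₀ M₀ T A c z) = act S₀ M₀ T D c ((j.restrictScalars R₀).lTensor M₀ z) := by
  induction c with
  | zero => simp
  | add a b ha hb => simp [ha, hb]
  | tmul s t =>
    induction z with
    | zero => simp
    | add a b ha hb => simp [ha, hb]
    | tmul m a => simp

theorem act_comm (c d : S₀ ⊗[R₀] T) (z : M₀ ⊗[R₀] A) :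
    act S₀ M₀ T A c (act S₀ M₀ T A d z) = act S₀ M₀ T A d (act S₀ M₀ T A c z) := by
  rw [← Module.End.mul_apply, ← map_mul, mul_comm, map_mul, Module.End.mul_apply]

theorem act_smul_left (s : S₀) {B : Type u} [AddCommGroup B] [Module R₀ B] (g : B →ₗ[R₀] A) (z : M₀ ⊗[R₀] B) :
    g.lTensor M₀ (s • z) = act S₀ M₀ T A (s ⊗ₜ 1) (g.lTensor M₀ z) := by
  induction z with
  | zero => simp
  | add a b ha hb => simp [smul_add, ha, hb]
  | tmul m b => simp [smul_tmul']

variable {T}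

theorem act_map {T' : Type u} [CommRing T'] [Algebra R₀ T'] (h : T' →ₐ[R₀] T) [Module T' A] [IsScalarTower R₀ T' A]
    (hc : ∀ (t : T') (a : A), h t • a = t • a) (c : S₀ ⊗[R₀] T') (z : M₀ ⊗[R₀] A) :
    act S₀ M₀ T A (Algebra.TensorProduct.map (AlgHom.id R₀ S₀) h c) z = act S₀ M₀ T' A c z := by
  induction c with
  | zero => simp
  | add a b ha hb => simp [ha, hb]
  | tmul s t =>
    rw [Algebra.TensorProduct.map_tmul, AlgHom.id_apply]
    induction z with
    | zero => simp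
    | add a b ha hb => rw [map_add, map_add, ha, hb]
    | tmul m a => simp [hc]

end act

section good

/-- On `D(f)`, `M₀` is flat modulo `I`. -/
def Good (I : Ideal R₀) (f : R₀) : Prop :=
  ∀ (C D : Type u) [AddCommGroup C] [Module R₀ C] [AddCommGroup D] [Module R₀ D],
    (∀ i ∈ I, ∀ x : C, i • x = 0) → (∀ i ∈ I, ∀ x : D, i • x = 0) →
      ∀ (j : C →ₗ[R₀] D), Function.Injective j → ∀ y : M₀ ⊗[R₀] C, j.lTensor M₀ y = 0 → ∃ n, f ^ n • y = 0

variable {M₀} in
theorem good_of_free (I : Ideal R₀) (f : R₀)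
    [Module.Free (Localization.Away (Ideal.Quotient.mk I f))
      (LocalizedModule (Submonoid.powers (Ideal.Quotient.mk I f)) ((R₀ ⧸ I) ⊗[R₀] M₀))] : Good M₀ I f := by
  intro C D _ _ _ _ hC hD j hj y hy
  letI : Module (R₀ ⧸ I) C := Module.IsTorsionBySet.module fun x a => hC a a.2 x
  letI : Module (R₀ ⧸ I) D := Module.IsTorsionBySet.module fun x a => hD a a.2 x
  haveI : IsScalarTower R₀ (R₀ ⧸ I) C := IsScalarTower.of_algebraMap_smul fun r x => rfl
  haveI : IsScalarTower R₀ (R₀ ⧸ I) D := IsScalarTower.of_algebraMap_smul fun r x => rfl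
  set fb := Ideal.Quotient.mk I f
  set N := LocalizedModule (Submonoid.powers fb) ((R₀ ⧸ I) ⊗[R₀] M₀)
  haveI : Module.Flat (R₀ ⧸ I) (Localization.Away fb) := IsLocalization.flat _ (Submonoid.powers fb)
  haveI : Module.Flat (R₀ ⧸ I) N := Module.Flat.trans (R₀ ⧸ I) (Localization.Away fb) N
  let g : (R₀ ⧸ I) ⊗[R₀] M₀ →ₗ[R₀ ⧸ I] N := LocalizedModule.mkLinearMap (Submonoid.powers fb) _
  let j' : C →ₗ[R₀ ⧸ I] D := j.extendScalarsOfSurjective Ideal.Quotient.mk_surjective
  let eC := (TensorProduct.comm R₀ M₀ C).trans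
    ((AlgebraTensorModule.cancelBaseChange R₀ (R₀ ⧸ I) (R₀ ⧸ I) C M₀).symm.restrictScalars R₀)
  let eD := (TensorProduct.comm R₀ M₀ D).trans
    ((AlgebraTensorModule.cancelBaseChange R₀ (R₀ ⧸ I) (R₀ ⧸ I) D M₀).symm.restrictScalars R₀)
  have key : ∀ z, j'.rTensor _ (eC z) = eD (j.lTensor M₀ z) := fun z => by
    induction z with
    | zero => simp
    | add a b ha hb => simp [ha, hb]
    | tmul m c => simp [eC, eD, j']
  have h1 : g.lTensor C (eC y) = 0 := by
    refine Module.Flat.rTensor_preserves_injective_linearMap (M := N) j' hj ?_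
    rw [map_zero, ← LinearMap.comp_apply, rTensor_comp_lTensor, ← lTensor_comp_rTensor, LinearMap.comp_apply, key, hy, map_zero, map_zero]
  have h2 : (AlgebraTensorModule.rTensor (R₀ ⧸ I) C g) (TensorProduct.comm _ _ _ (eC y)) =
      (AlgebraTensorModule.rTensor (R₀ ⧸ I) C g) 0 := by
    rw [map_zero]
    have : ∀ w, (AlgebraTensorModule.rTensor (R₀ ⧸ I) C g) (TensorProduct.comm _ _ _ w) = TensorProduct.comm _ _ _ (g.lTensor C w) := fun w => by
      induction w with
      | zero => simp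
      | add a b ha hb => rw [map_add, map_add, map_add, map_add, ha, hb]
      | tmul c m => simp
    rw [this, h1, map_zero]
  obtain ⟨⟨_, n, rfl⟩, hn⟩ := IsLocalizedModule.exists_of_eq (S := Submonoid.powers fb) (f := AlgebraTensorModule.rTensor (R₀ ⧸ I) C g) h2
  refine ⟨n, eC.injective ?_⟩
  rw [map_zero, map_smul]
  rw [Submonoid.smul_def, smul_zero] at hn
  have h3 : TensorProduct.comm (R₀ ⧸ I) C ((R₀ ⧸ I) ⊗[R₀] M₀) (fb ^ n • eC y) = 0 := by rw [map_smul]; exact hn
  rw [LinearEquiv.map_eq_zero_iff] at h3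
  rw [← h3, ← algebraMap_smul (R₀ ⧸ I) (f ^ n), map_pow, Ideal.Quotient.algebraMap_eq]

/-- Finitely many strata cover all primes. -/
theorem exists_strata [IsNoetherianRing R₀] [Algebra.FiniteType R₀ S₀] [Module.Finite S₀ M₀] :
    ∃ L : List (Ideal R₀ × R₀), (∀ σ ∈ L, Good M₀ σ.1 σ.2) ∧
      ∀ p : Ideal R₀, p.IsPrime → ∃ σ ∈ L, σ.1 ≤ p ∧ σ.2 ∉ p := by
  suffices h : ∀ I : Ideal R₀, ∃ L : List (Ideal R₀ × R₀), (∀ σ ∈ L, Good M₀ σ.1 σ.2) ∧
      ∀ p : Ideal R₀, p.IsPrime → I ≤ p → ∃ σ ∈ L, σ.1 ≤ p ∧ σ.2 ∉ p by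
    obtain ⟨L, h1, h2⟩ := h ⊥
    exact ⟨L, h1, fun p hp => h2 p hp bot_le⟩
  intro I
  induction I using WellFoundedGT.induction with
  | _ I ih =>
  by_cases hI : I = ⊤
  · exact ⟨[], by simp, fun p hp hle => absurd (top_le_iff.mp (hI ▸ hle)) hp.ne_top⟩
  by_cases hp : I.IsPrime
  · haveI := hp
    let A := R₀ ⧸ I
    let SI := S₀ ⧸ I.map (algebraMap R₀ S₀)
    let MI := M₀ ⧸ (I.map (algebraMap R₀ S₀)) • (⊤ : Submodule S₀ M₀)
    have hkill : ∀ i ∈ I, ∀ x : MI, i • x = 0 := fun i hi x => by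
      obtain ⟨x, rfl⟩ := Submodule.Quotient.mk_surjective _ x
      rw [← algebraMap_smul S₀ i, ← Submodule.Quotient.mk_smul, Submodule.Quotient.mk_eq_zero]
      exact Submodule.smul_mem_smul (Ideal.mem_map_of_mem _ hi) trivial
    letI : Module A MI := Module.IsTorsionBySet.module fun x a => hkill a a.2 x
    haveI : IsScalarTower R₀ A MI := IsScalarTower.of_algebraMap_smul fun r x => rfl
    haveI : IsScalarTower A SI MI := IsScalarTower.of_algebraMap_smul fun a x => by
      obtain ⟨r, rfl⟩ := Ideal.Quotient.mk_surjective a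
      obtain ⟨y, rfl⟩ := Submodule.Quotient.mk_surjective _ x
      show Ideal.Quotient.mk _ (algebraMap R₀ S₀ r) • Submodule.Quotient.mk y = r • (Submodule.Quotient.mk y : MI)
      rw [← algebraMap_smul S₀ r]
      rfl
    haveI : Algebra.FiniteType A SI := Algebra.FiniteType.of_restrictScalars_finiteType R₀ A SI
    haveI : Module.Finite SI MI := Module.Finite.of_restrictScalars_finite S₀ SI MI
    have e0 : (I.map (algebraMap R₀ S₀) • (⊤ : Submodule S₀ M₀)).restrictScalars R₀ = I • (⊤ : Submodule R₀ M₀) :=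
      Ideal.smul_restrictScalars I ⊤
    let e : MI ≃ₗ[R₀] (A ⊗[R₀] M₀) := ((Submodule.Quotient.restrictScalarsEquiv R₀ _).symm.trans
      (Submodule.quotEquivOfEq _ _ e0)).trans (TensorProduct.quotTensorEquivQuotSMul M₀ I).symm
    let eA : MI ≃ₗ[A] (A ⊗[R₀] M₀) := { e.toLinearMap.extendScalarsOfSurjective Ideal.Quotient.mk_surjective with
      invFun := e.symm, left_inv := e.left_inv, right_inv := e.right_inv }
    obtain ⟨fb, hfb, hfree⟩ := H2GenericFree.GF.congr eA (H2GenericFree.gf A SI MI)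
    obtain ⟨f, rfl⟩ := Ideal.Quotient.mk_surjective fb
    haveI := hfree
    have hf : f ∉ I := fun h => hfb (Ideal.Quotient.eq_zero_iff_mem.mpr h)
    obtain ⟨L, h1, h2⟩ := ih (I ⊔ Ideal.span {f}) (lt_of_le_of_ne le_sup_left fun h =>
      hf (h ▸ Ideal.mem_sup_right (Ideal.mem_span_singleton_self f)))
    refine ⟨(I, f) :: L, fun σ hσ => ?_, fun p hp hle => ?_⟩
    · rcases List.mem_cons.mp hσ with rfl | hσ
      · exact good_of_free I f
      · exact h1 σ hσ
    · by_cases hfp : f ∈ p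
      · obtain ⟨σ, hσ, h⟩ := h2 p hp (sup_le hle ((Ideal.span_singleton_le_iff_mem p).mpr hfp))
        exact ⟨σ, List.mem_cons_of_mem _ hσ, h⟩
      · exact ⟨(I, f), List.mem_cons_self .., hle, hfp⟩
  · obtain ⟨a, ha, b, hb, hab⟩ : ∃ a ∉ I, ∃ b ∉ I, a * b ∈ I := by
      by_contra h
      push Not at h
      exact hp ⟨hI, fun {x y} hxy => by
        by_contra hc
        push Not at hc
        exact h x hc.1 y hc.2 hxy⟩
    have hlt : ∀ x ∉ I, I < I ⊔ Ideal.span {x} := fun x hx => lt_of_le_of_ne le_sup_left fun h =>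
      hx (h ▸ Ideal.mem_sup_right (Ideal.mem_span_singleton_self x))
    obtain ⟨La, ha1, ha2⟩ := ih _ (hlt a ha)
    obtain ⟨Lb, hb1, hb2⟩ := ih _ (hlt b hb)
    refine ⟨La ++ Lb, fun σ hσ => (List.mem_append.mp hσ).elim (ha1 σ) (hb1 σ), fun p hp hle => ?_⟩
    rcases hp.mem_or_mem (hle hab) with h | h
    · obtain ⟨σ, hσ, h'⟩ := ha2 p hp (sup_le hle ((Ideal.span_singleton_le_iff_mem p).mpr h))
      exact ⟨σ, List.mem_append_left _ hσ, h'⟩
    · obtain ⟨σ, hσ, h'⟩ := hb2 p hp (sup_le hle ((Ideal.span_singleton_le_iff_mem p).mpr h))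
      exact ⟨σ, List.mem_append_right _ hσ, h'⟩

end good

section generation

omit [Module S₀ M₀] [IsScalarTower R₀ S₀ M₀] in
theorem exists_lift_ker {F N : Type u} [AddCommGroup F] [Module R₀ F] [AddCommGroup N] [Module R₀ N] (p : F →ₗ[R₀] N)
    (hp : Function.Surjective p) {b : M₀ ⊗[R₀] F} (hb : p.lTensor M₀ b = 0) :
    ∃ η, (LinearMap.ker p).subtype.lTensor M₀ η = b :=
  (lTensor_exact M₀ (LinearMap.exact_subtype_ker_map p) hp b).1 hb

variable (T : Type u) [CommRing T] [Algebra R₀ T] (I : Ideal R₀)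

/-- `I → I T`. -/
noncomputable def toExt : I →ₗ[R₀] (I.map (algebraMap R₀ T) : Ideal T) :=
  (Algebra.linearMap R₀ T ∘ₗ I.subtype).codRestrict ((I.map (algebraMap R₀ T)).restrictScalars R₀)
    fun i => Ideal.mem_map_of_mem _ i.2

@[simp]
theorem toExt_coe (i : I) : (toExt T I i : T) = algebraMap R₀ T i := rfl

/-- The kernel of `M₀ ⊗ I T → M₀ ⊗ T` comes from the kernel of `M₀ ⊗ I → M₀`, up to `f`-torsion. -/
theorem kernel_torsion {f : R₀} (hG : Good M₀ I f) {z : M₀ ⊗[R₀] (I.map (algebraMap R₀ T) : Ideal T)}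
    (hz : ((Submodule.subtype (I.map (algebraMap R₀ T))).restrictScalars R₀).lTensor M₀ z = 0) :
    ∃ n, f ^ n • z ∈ Submodule.span R₀ {y : M₀ ⊗[R₀] (I.map (algebraMap R₀ T) : Ideal T) |
      ∃ (t : T) (ξ : M₀ ⊗[R₀] I), I.subtype.lTensor M₀ ξ = 0 ∧ y = act S₀ M₀ T _ (1 ⊗ₜ t) ((toExt T I).lTensor M₀ ξ)} := by
  classical
  let J : Ideal T := I.map (algebraMap R₀ T)
  let jJ : J →ₗ[R₀] T := (Submodule.subtype J).restrictScalars R₀
  obtain ⟨F, _, _, _, p, hps⟩ : ∃ (F : Type u) (_ : AddCommGroup F) (_ : Module R₀ F) (_ : Module.Free R₀ F) (p : F →ₗ[R₀] T),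
      Function.Surjective p :=
    ⟨T →₀ R₀, inferInstance, inferInstance, inferInstance, Finsupp.linearCombination R₀ (id : T → T),
      fun t => ⟨Finsupp.single t 1, by rw [Finsupp.linearCombination_single, one_smul]; rfl⟩⟩
  let X : Submodule R₀ F := I • ⊤
  have hpX : ∀ x ∈ X, p x ∈ J.restrictScalars R₀ := fun x hx => by
    refine Submodule.smul_induction_on hx (fun i hi y _ => ?_) (fun a b ha hb => by rw [map_add]; exact add_mem ha hb)
    rw [map_smul, Submodule.restrictScalars_mem, Algebra.smul_def]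
    exact J.mul_mem_right _ (Ideal.mem_map_of_mem _ hi)
  let a : X →ₗ[R₀] J := (p ∘ₗ X.subtype).codRestrict (J.restrictScalars R₀) fun x => hpX x.1 x.2
  have ha : Function.Surjective a := by
    suffices h : ∀ y ∈ J, ∀ t : T, ∃ x ∈ X, p x = t * y by
      rintro ⟨y, hy⟩
      obtain ⟨x, hx, hxy⟩ := h y hy 1
      exact ⟨⟨x, hx⟩, Subtype.ext (by rw [one_mul] at hxy; exact hxy)⟩
    intro y hy
    induction hy using Submodule.span_induction with
    | mem y hy =>
      obtain ⟨i, hi, rfl⟩ := hy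
      intro t
      obtain ⟨w, rfl⟩ := hps t
      refine ⟨i • w, Submodule.smul_mem_smul hi trivial, ?_⟩
      rw [map_smul, Algebra.smul_def, mul_comm]
    | zero => exact fun t => ⟨0, zero_mem _, by simp⟩
    | add y y' _ _ h h' =>
      intro t
      obtain ⟨x, hx, e⟩ := h t
      obtain ⟨x', hx', e'⟩ := h' t
      exact ⟨x + x', add_mem hx hx', by rw [map_add, e, e', mul_add]⟩
    | smul c y _ h =>
      intro t
      obtain ⟨x, hx, e⟩ := h (t * c)
      exact ⟨x, hx, by rw [e, smul_eq_mul, mul_assoc]⟩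
  obtain ⟨x, hx⟩ := LinearMap.lTensor_surjective M₀ ha z
  have hja : jJ ∘ₗ a = p ∘ₗ X.subtype := rfl
  have hb : p.lTensor M₀ (X.subtype.lTensor M₀ x) = 0 := by
    rw [← lTensor_comp_apply, ← hja, lTensor_comp_apply, hx]
    exact hz
  obtain ⟨η, hη⟩ := exists_lift_ker M₀ p hps hb
  let L := LinearMap.ker p
  let L' : Submodule R₀ L := X.comap L.subtype
  let j : (L ⧸ L') →ₗ[R₀] F ⧸ X := L'.mapQ X L.subtype le_rfl
  have hj : Function.Injective j := by
    intro u v h
    obtain ⟨u, rfl⟩ := L'.mkQ_surjective u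
    obtain ⟨v, rfl⟩ := L'.mkQ_surjective v
    exact (Submodule.Quotient.eq L').2 ((Submodule.Quotient.eq X).1 h)
  have hkill : ∀ i ∈ I, ∀ y : F ⧸ X, i • y = 0 := fun i hi y => by
    obtain ⟨y, rfl⟩ := Submodule.Quotient.mk_surjective _ y
    rw [← Submodule.Quotient.mk_smul, Submodule.Quotient.mk_eq_zero]
    exact Submodule.smul_mem_smul hi trivial
  obtain ⟨n, hn⟩ := hG _ _ (fun i hi y => hj (by rw [map_smul, hkill i hi, map_zero])) hkill j hj
    (L'.mkQ.lTensor M₀ η) (by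
      rw [← lTensor_comp_apply, show j ∘ₗ L'.mkQ = X.mkQ ∘ₗ L.subtype from rfl, lTensor_comp_apply, hη,
        ← lTensor_comp_apply, show X.mkQ ∘ₗ X.subtype = 0 from LinearMap.ext fun w => (Submodule.Quotient.mk_eq_zero X).2 w.2,
        lTensor_zero, LinearMap.zero_apply])
  rw [← map_smul] at hn
  obtain ⟨ζ, hζ⟩ := (lTensor_exact M₀ (LinearMap.exact_subtype_mkQ L') L'.mkQ_surjective _).1 hn
  let g1 : L' →ₗ[R₀] X := (L.subtype ∘ₗ L'.subtype).codRestrict X fun l => l.2
  let x' : M₀ ⊗[R₀] X := f ^ n • x - g1.lTensor M₀ ζ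
  have hx'0 : X.subtype.lTensor M₀ x' = 0 := by
    simp only [x', map_sub, map_smul, ← lTensor_comp_apply]
    rw [show X.subtype ∘ₗ g1 = L.subtype ∘ₗ L'.subtype from rfl, lTensor_comp_apply, hζ,
      map_smul, hη, sub_self]
  have hax' : a.lTensor M₀ x' = f ^ n • z := by
    simp only [x', map_sub, map_smul, hx]
    rw [← lTensor_comp_apply, show a ∘ₗ g1 = 0 from LinearMap.ext fun l => Subtype.ext (l.1.2 : p _ = 0), lTensor_zero,
      LinearMap.zero_apply, sub_zero]
  refine ⟨n, ?_⟩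
  rw [← hax']
  let θ : F ⊗[R₀] I →ₗ[R₀] X := ((TensorProduct.rid R₀ F).toLinearMap ∘ₗ I.subtype.lTensor F).codRestrict X fun w => by
    induction w with
    | zero => simp
    | add a b ha hb => rw [map_add]; exact add_mem ha hb
    | tmul y i =>
      simp only [LinearMap.coe_comp, LinearEquiv.coe_coe, Function.comp_apply, lTensor_tmul, rid_tmul]
      exact Submodule.smul_mem_smul i.2 trivial
  have hθ : Function.Surjective θ := fun ⟨y, hy⟩ => by
    obtain ⟨w, hw⟩ : y ∈ LinearMap.range ((TensorProduct.rid R₀ F).toLinearMap ∘ₗ I.subtype.lTensor F) :=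
      Submodule.smul_induction_on hy (fun i hi w _ => ⟨w ⊗ₜ ⟨i, hi⟩, by simp⟩) (fun a b ha hb => add_mem ha hb)
    exact ⟨w, Subtype.ext hw⟩
  obtain ⟨w, hw⟩ := LinearMap.lTensor_surjective M₀ hθ x'
  let ψ₀ : M₀ ⊗[R₀] I →ₗ[R₀] M₀ := (TensorProduct.rid R₀ M₀).toLinearMap ∘ₗ I.subtype.lTensor M₀
  have key : ∀ w, TensorProduct.comm R₀ M₀ F (X.subtype.lTensor M₀ (θ.lTensor M₀ w)) =
      ψ₀.lTensor F (TensorProduct.leftComm R₀ M₀ F I w) := fun w => by
    induction w with
    | zero => simp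
    | add a b ha hb => simp [ha, hb]
    | tmul m fi =>
      induction fi with
      | zero => simp
      | add a b ha hb => rw [tmul_add]; simp only [map_add]; rw [ha, hb]
      | tmul y i => simp [θ, ψ₀, TensorProduct.smul_tmul]
  have hker0 : (LinearMap.ker ψ₀).subtype.lTensor F |> fun g => TensorProduct.leftComm R₀ M₀ F I w ∈ LinearMap.range g := by
    have h1 : ψ₀.rangeRestrict.lTensor F (TensorProduct.leftComm R₀ M₀ F I w) = 0 := by
      refine Module.Flat.lTensor_preserves_injective_linearMap (M := F) (LinearMap.range ψ₀).subtype Subtype.val_injective ?_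
      rw [map_zero, ← lTensor_comp_apply]
      show ψ₀.lTensor F _ = 0
      rw [← key, hw, hx'0, map_zero]
    exact (lTensor_exact F (g := ψ₀.rangeRestrict) (f := (LinearMap.ker ψ₀).subtype)
      (fun v => by rw [← LinearMap.exact_subtype_ker_map ψ₀ v]; exact Subtype.ext_iff) ψ₀.surjective_rangeRestrict _).1 h1
  obtain ⟨v, hv⟩ := hker0
  rw [← hw, ← lTensor_comp_apply, show w = (TensorProduct.leftComm R₀ M₀ F I).symm ((LinearMap.ker ψ₀).subtype.lTensor F v) by
    rw [hv, LinearEquiv.symm_apply_apply]]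
  clear hv
  induction v with
  | zero => simp
  | add a b ha hb => simp only [map_add]; exact add_mem ha hb
  | tmul y k =>
    refine Submodule.subset_span ⟨p y, k.1, ?_, ?_⟩
    · have hk : (TensorProduct.rid R₀ M₀) (I.subtype.lTensor M₀ k.1) = 0 := k.2
      exact (TensorProduct.rid R₀ M₀).map_eq_zero_iff.1 hk
    · obtain ⟨k, hk⟩ := k
      simp only [lTensor_tmul, Submodule.coe_subtype]
      clear hk
      induction k with
      | zero => simp
      | add a b ha hb => simp only [tmul_add, map_add, ha, hb]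
      | tmul m i =>
        simp only [TensorProduct.leftComm_symm_tmul, lTensor_tmul, act_tmul, one_smul, LinearMap.comp_apply]
        congr 1
        refine Subtype.ext ?_
        show p ((TensorProduct.rid R₀ F) (I.subtype.lTensor F (y ⊗ₜ i))) = p y * algebraMap R₀ T i
        simp [Algebra.smul_def, mul_comm]

end generation

end Groth.Agent.H4FlatDescent
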