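import Mathlib
import Groth.Agent.Lib.H4FlatDescentBase

/-!
Descent of flatness to Noetherian rings, part 2: the criterion over a Noetherian base.
-/

universe u

open TensorProduct LinearMap

namespace Groth.Agent.H4FlatDescent

attribute [local instance] Algebra.TensorProduct.rightAlgebra

variable {R₀ : Type u} [CommRing R₀] (S₀ : Type u) [CommRing S₀] [Algebra R₀ S₀]
  (M₀ : Type u) [AddCommGroup M₀] [Module R₀ M₀] [Module S₀ M₀] [IsScalarTower R₀ S₀ M₀]
  (T : Type u) [CommRing T] [Algebra R₀ T]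

/-- `act c` kills, up to powers, all kernels of `M₀ ⊗ j`. -/
def FlatPow (c : S₀ ⊗[R₀] T) : Prop :=
  ∀ (A D : Type u) [AddCommGroup A] [Module R₀ A] [Module T A] [IsScalarTower R₀ T A]
    [AddCommGroup D] [Module R₀ D] [Module T D] [IsScalarTower R₀ T D] (j : A →ₗ[T] D), Function.Injective j →
    ∀ z : M₀ ⊗[R₀] A, (j.restrictScalars R₀).lTensor M₀ z = 0 → ∃ n, act S₀ M₀ T A (c ^ n) z = 0

/-- `act c` kills the obstructions of the strata in `L`. -/
def Obs (L : List (Ideal R₀ × R₀)) (c : S₀ ⊗[R₀] T) : Prop :=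
  ∀ σ ∈ L, ∀ ξ : M₀ ⊗[R₀] σ.1, σ.1.subtype.lTensor M₀ ξ = 0 →
    act S₀ M₀ T _ c ((toExt T σ.1).lTensor M₀ ξ) = 0

theorem algebraMap_right (t : T) : algebraMap T (S₀ ⊗[R₀] T) t = 1 ⊗ₜ t := rfl

variable (R₀) in
/-- The base change of `M₀` as a module over `S₀ ⊗ T`. -/
abbrev ext : Type u := (S₀ ⊗[R₀] T) ⊗[S₀] M₀

section equiv

variable (A : Type u) [AddCommGroup A] [Module R₀ A] [Module T A] [IsScalarTower R₀ T A]

/-- `M₀ ⊗ A → (S₀ ⊗ T ⊗ M₀) ⊗ A`. -/
noncomputable def Φ : M₀ ⊗[R₀] A →+ ext R₀ S₀ M₀ T ⊗[T] A :=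
  TensorProduct.liftAddHom
    (AddMonoidHom.mk' (fun m => AddMonoidHom.mk' (fun a => ((1 : S₀ ⊗[R₀] T) ⊗ₜ[S₀] m) ⊗ₜ[T] a) fun a b => tmul_add _ _ _)
      fun m m' => AddMonoidHom.ext fun a => by simp [tmul_add, add_tmul])
    fun r m a => by
      simp only [AddMonoidHom.mk'_apply]
      rw [← algebraMap_smul T r a, ← smul_tmul r (1 : S₀ ⊗[R₀] T) m, ← smul_tmul (algebraMap R₀ T r) _ a, smul_tmul']
      congr 2
      rw [algebraMap_smul]

/-- `b ⊗ m ↦ (a ↦ b • (m ⊗ a))`. -/
noncomputable def Ψ₀ : ext R₀ S₀ M₀ T →+ (A →+ M₀ ⊗[R₀] A) :=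
  TensorProduct.liftAddHom
    (AddMonoidHom.mk' (fun b => AddMonoidHom.mk' (fun m => AddMonoidHom.mk' (fun a => act S₀ M₀ T A b (m ⊗ₜ a))
        fun a a' => by simp [tmul_add])
        fun m m' => AddMonoidHom.ext fun a => by simp [add_tmul])
      fun b b' => AddMonoidHom.ext fun m => AddMonoidHom.ext fun a => by simp)
    fun s b m => AddMonoidHom.ext fun a => by
      simp only [AddMonoidHom.mk'_apply]
      rw [Algebra.smul_def, mul_comm, map_mul, Module.End.mul_apply, Algebra.TensorProduct.algebraMap_apply,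
        Algebra.algebraMap_self, RingHom.id_apply, act_tmul, one_smul]

theorem Ψ₀_tmul (b : S₀ ⊗[R₀] T) (m : M₀) (a : A) :
    Ψ₀ S₀ M₀ T A (b ⊗ₜ m) a = act S₀ M₀ T A b (m ⊗ₜ a) := rfl

attribute [local irreducible] Ψ₀

theorem Ψ₀_smul (t : T) (x : ext R₀ S₀ M₀ T) (a : A) : Ψ₀ S₀ M₀ T A (t • x) a = Ψ₀ S₀ M₀ T A x (t • a) := by
  induction x using TensorProduct.induction_on with
  | zero => rw [smul_zero, map_zero]; rfl
  | add p q hp hq => rw [smul_add, map_add, map_add, AddMonoidHom.add_apply, AddMonoidHom.add_apply, hp, hq]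
  | tmul b m =>
    rw [smul_tmul', Ψ₀_tmul, Ψ₀_tmul, Algebra.smul_def, mul_comm, map_mul, Module.End.mul_apply, algebraMap_right, act_tmul,
      one_smul]

/-- The inverse of `Φ`. -/
noncomputable def Ψ : ext R₀ S₀ M₀ T ⊗[T] A →+ M₀ ⊗[R₀] A :=
  TensorProduct.liftAddHom (Ψ₀ S₀ M₀ T A) (Ψ₀_smul S₀ M₀ T A)

@[simp]
theorem Φ_tmul (m : M₀) (a : A) : Φ S₀ M₀ T A (m ⊗ₜ a) = ((1 : S₀ ⊗[R₀] T) ⊗ₜ[S₀] m) ⊗ₜ[T] a := rfl

theorem Ψ_Φ (z : M₀ ⊗[R₀] A) : Ψ S₀ M₀ T A (Φ S₀ M₀ T A z) = z := by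
  induction z with
  | zero => simp
  | add a b ha hb => simp [ha, hb]
  | tmul m a =>
    rw [Φ_tmul, Ψ, liftAddHom_tmul, Ψ₀_tmul, map_one, Module.End.one_apply]

theorem Φ_act (c : S₀ ⊗[R₀] T) (z : M₀ ⊗[R₀] A) : Φ S₀ M₀ T A (act S₀ M₀ T A c z) = c • Φ S₀ M₀ T A z := by
  induction z with
  | zero => simp
  | add a b ha hb => simp [ha, hb, smul_add]
  | tmul m a =>
    induction c with
    | zero => simp
    | add p q hp hq => rw [map_add, LinearMap.add_apply, map_add, hp, hq, add_smul]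
    | tmul s t =>
      rw [act_tmul, Φ_tmul, Φ_tmul, smul_tmul', smul_tmul', smul_eq_mul, mul_one]
      rw [← smul_tmul, ← smul_tmul, smul_tmul']
      congr 2
      rw [Algebra.smul_def, Algebra.smul_def, algebraMap_right, Algebra.TensorProduct.algebraMap_apply,
        Algebra.algebraMap_self, RingHom.id_apply, mul_one, Algebra.TensorProduct.tmul_mul_tmul, one_mul, mul_one]

theorem Φ_surjective : Function.Surjective (Φ (R₀ := R₀) S₀ M₀ T A) := fun x => by
  induction x with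
  | zero => exact ⟨0, map_zero _⟩
  | add a b ha hb => obtain ⟨u, rfl⟩ := ha; obtain ⟨v, rfl⟩ := hb; exact ⟨u + v, map_add _ _ _⟩
  | tmul y a =>
    induction y using TensorProduct.induction_on with
    | zero => exact ⟨0, by simp⟩
    | add p q hp hq => obtain ⟨u, hu⟩ := hp; obtain ⟨v, hv⟩ := hq; exact ⟨u + v, by rw [map_add, hu, hv, add_tmul]⟩
    | tmul b m => exact ⟨act S₀ M₀ T A b (m ⊗ₜ a), by rw [Φ_act, Φ_tmul, smul_tmul', smul_tmul', smul_eq_mul, mul_one]⟩

theorem Φ_injective : Function.Injective (Φ (R₀ := R₀) S₀ M₀ T A) :=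
  Function.LeftInverse.injective (Ψ_Φ S₀ M₀ T A)

variable {A} {D : Type u} [AddCommGroup D] [Module R₀ D] [Module T D] [IsScalarTower R₀ T D]

theorem Φ_natural (j : A →ₗ[T] D) (z : M₀ ⊗[R₀] A) :
    j.lTensor (ext R₀ S₀ M₀ T) (Φ S₀ M₀ T A z) = Φ S₀ M₀ T D ((j.restrictScalars R₀).lTensor M₀ z) := by
  induction z with
  | zero => simp
  | add a b ha hb => simp [ha, hb]
  | tmul m a => simp

end equiv

/-- Kernels killed by `P` vanish after localising at `P`. -/
theorem loc_inj {T B M : Type u} [CommRing T] [CommRing B] [Algebra T B] [AddCommGroup M] [Module T M] [Module B M]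
    [IsScalarTower T B M] (P : Submonoid B) {C D : Type u} [AddCommGroup C] [Module T C] [AddCommGroup D] [Module T D]
    (j : C →ₗ[T] D) (h : ∀ x : M ⊗[T] C, j.lTensor M x = 0 → ∃ s ∈ P, s • x = 0) :
    Function.Injective (j.lTensor (LocalizedModule P M)) := by
  let g : M →ₗ[B] LocalizedModule P M := LocalizedModule.mkLinearMap P M
  let GC := AlgebraTensorModule.rTensor T C g
  let GD := AlgebraTensorModule.rTensor T D g
  let jM : M ⊗[T] C →ₗ[B] M ⊗[T] D := AlgebraTensorModule.map (LinearMap.id : M →ₗ[B] M) j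
  let jN : LocalizedModule P M ⊗[T] C →ₗ[B] LocalizedModule P M ⊗[T] D :=
    AlgebraTensorModule.map (LinearMap.id : LocalizedModule P M →ₗ[B] LocalizedModule P M) j
  have e1 : ∀ x, jM x = j.lTensor M x := fun x => by
    induction x with
    | zero => simp
    | add a b ha hb => simp [ha, hb]
    | tmul m a => rfl
  have e2 : ∀ x, jN x = j.lTensor _ x := fun x => by
    induction x with
    | zero => simp
    | add a b ha hb => simp [ha, hb]
    | tmul m a => rfl
  have e3 : ∀ x, jN (GC x) = GD (jM x) := fun x => by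
    induction x with
    | zero => simp
    | add a b ha hb => simp [ha, hb]
    | tmul m a => rfl
  rw [injective_iff_map_eq_zero]
  intro y hy
  obtain ⟨⟨x, s⟩, hx⟩ := IsLocalizedModule.surj P GC y
  have h1 : GD (jM x) = GD 0 := by
    rw [← e3, ← hx, map_zero, Submonoid.smul_def, map_smul, e2, hy, smul_zero]
  obtain ⟨s', hs'⟩ := IsLocalizedModule.exists_of_eq (S := P) (f := GD) h1
  rw [Submonoid.smul_def, smul_zero, ← map_smul, e1] at hs'
  obtain ⟨s'', hs'', h2⟩ := h _ hs'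
  refine ((Module.End.isUnit_iff _).1 (IsLocalizedModule.map_units GC (⟨s'', hs''⟩ * s' * s))).injective ?_
  rw [map_zero, Module.algebraMap_end_apply, Submonoid.coe_mul, Submonoid.coe_mul, mul_smul, mul_smul,
    ← Submonoid.smul_def (S := P) s, hx, ← map_smul, ← map_smul, h2, map_zero]

/-- Flatness modulo an ideal in terms of `N` itself. -/
theorem flat_quot_of_inj {T N : Type u} [CommRing T] [AddCommGroup N] [Module T N] (J0 : Ideal T)
    (h : ∀ K : Ideal (T ⧸ J0), Function.Injective ((K.subtype.restrictScalars T).rTensor N)) :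
    Module.Flat (T ⧸ J0) ((T ⧸ J0) ⊗[T] N) := by
    refine Module.Flat.iff_rTensor_injective'.2 fun K => ?_
    let eK := AlgebraTensorModule.cancelBaseChange T (T ⧸ J0) (T ⧸ J0) K N
    let eT := AlgebraTensorModule.cancelBaseChange T (T ⧸ J0) (T ⧸ J0) (T ⧸ J0) N
    have key : ∀ v, eT (K.subtype.rTensor _ v) = (K.subtype.restrictScalars T).rTensor N (eK v) := fun v => by
      induction v with
      | zero => simp
      | add a b ha hb => simp [ha, hb]
      | tmul k y =>
        induction y with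
        | zero => simp
        | add a b ha hb => rw [tmul_add]; simp only [map_add]; rw [ha, hb]
        | tmul a m => simp [eK, eT]
    rw [injective_iff_map_eq_zero]
    intro v hv
    have := key v
    rw [hv, map_zero] at this
    exact eK.map_eq_zero_iff.1 (h K (this.symm.trans (map_zero _).symm))

/-- Artin–Rees: an element of the kernel with annihilator in `q` cannot exist. -/
theorem false_of_injective {T B M : Type u} [CommRing T] [IsNoetherianRing T] [CommRing B] [IsNoetherianRing B] [Algebra T B]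
    [AddCommGroup M] [Module T M] [Module B M] [IsScalarTower T B M] [Module.Finite B M] {J0 : Ideal T} (w : B) (q : Ideal B)
    [hq : q.IsPrime] (hwq : w ∉ q) (hJq : J0.map (algebraMap T B) ≤ q)
    (h1 : Function.Injective (J0.subtype.rTensor (LocalizedModule (Submonoid.powers w) M)))
    (h2 : Module.Flat (T ⧸ J0) ((T ⧸ J0) ⊗[T] LocalizedModule (Submonoid.powers w) M))
    {J : Ideal T} {x : M ⊗[T] J} (hx : J.subtype.lTensor M x = 0) (hle : ∀ b : B, b • x = 0 → b ∈ q) : False := by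
  haveI := h2
  let P := Submonoid.powers w
  let N := LocalizedModule P M
  haveI : IsNoetherianRing (Localization P) := IsLocalization.isNoetherianRing P _ inferInstance
  haveI : Module.Finite (Localization P) N :=
    Module.Finite.of_isLocalizedModule P (LocalizedModule.mkLinearMap P M)
  let g : M →ₗ[B] N := LocalizedModule.mkLinearMap P _
  let G := AlgebraTensorModule.rTensor T J g
  have hG : J.subtype.lTensor N (G x) = 0 := by
    have : ∀ y, J.subtype.lTensor N (G y) = AlgebraTensorModule.rTensor T T g (J.subtype.lTensor _ y) := fun y => by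
      induction y with
      | zero => simp
      | add a b ha hb => simp [ha, hb]
      | tmul m a => rfl
    rw [this, hx, map_zero]
  obtain ⟨r, hr, hrx⟩ := H2LocalCrit.exists_smul_eq_self (S := Localization P) (M := N) J0 J (fun n _ y hy => by
    refine H2LocalCrit.mem_range_inf_of_inj J (J0 ^ n) ?_ hy
    exact H2LocalCrit.Inj.of_killed_pow J0 h1 n _ fun a ha y => by
      obtain ⟨y, rfl⟩ := Submodule.Quotient.mk_surjective _ y
      rw [← Submodule.Quotient.mk_smul, Submodule.Quotient.mk_eq_zero, smul_eq_mul]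
      exact Ideal.mul_mem_right _ _ (Ideal.mem_sup_right ha)) hG
  rw [IsScalarTower.algebraMap_eq T B (Localization P), ← Ideal.map_map] at hr
  obtain ⟨⟨⟨a, ha⟩, ⟨s, hs⟩⟩, e⟩ := (IsLocalization.mem_map_algebraMap_iff P _).1 hr
  have haq : a ∈ q := hJq ha
  have hGa : G ((s - a) • x) = G 0 := by
    have e' : algebraMap _ (Localization P) s • G x = algebraMap _ (Localization P) a • G x := by
      conv_rhs => rw [← e, mul_smul, smul_comm]
      rw [hrx]
    rw [map_smul, map_zero]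
    refine (sub_smul (R := B) (M := N ⊗[T] J) s a (G x)).trans ?_
    rw [← algebraMap_smul (Localization P) s (G x), ← algebraMap_smul (Localization P) a (G x), e', sub_self]
  obtain ⟨⟨_, m, rfl⟩, hm⟩ := IsLocalizedModule.exists_of_eq (S := P) (f := G) hGa
  rw [Submonoid.smul_def, smul_zero, smul_smul] at hm
  have hsq : s - a ∈ q := (hq.mem_or_mem (hle _ hm)).resolve_left fun h => hwq (hq.mem_of_pow_mem m h)
  obtain ⟨k, rfl⟩ := hs
  exact hwq (hq.mem_of_pow_mem k (by simpa using q.add_mem hsq haq))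


variable {T}

variable {L : List (Ideal R₀ × R₀)} (hL : ∀ σ ∈ L, Good M₀ σ.1 σ.2) {c : S₀ ⊗[R₀] T} {I : Ideal R₀} {f : R₀}

include hL in
/-- On a stratum, kernels of `J0 → T` die. -/
theorem injective_stratum (hc : Obs S₀ M₀ T L c) (hσ : (I, f) ∈ L) :
    Function.Injective ((I.map (algebraMap R₀ T)).subtype.rTensor
      (LocalizedModule (Submonoid.powers (algebraMap R₀ (S₀ ⊗[R₀] T) f * c)) (ext R₀ S₀ M₀ T))) := by
    let w : S₀ ⊗[R₀] T := algebraMap R₀ _ f * c
    let P := Submonoid.powers w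
    let J0 : Ideal T := I.map (algebraMap R₀ T)
    rw [← LinearMap.lTensor_inj_iff_rTensor_inj]
    refine loc_inj P J0.subtype fun y hy => ?_
    obtain ⟨z, rfl⟩ := Φ_surjective S₀ M₀ T _ y
    rw [Φ_natural, ← map_zero (Φ S₀ M₀ T _)] at hy
    obtain ⟨n, hn⟩ := kernel_torsion S₀ M₀ T I (hL _ hσ) (Φ_injective S₀ M₀ T _ hy)
    refine ⟨_, ⟨n + 1, rfl⟩, ?_⟩
    have h0 : act S₀ M₀ T _ c (f ^ n • z) = 0 := by
      refine Submodule.span_induction (fun y hy => ?_) (map_zero _) (fun a b _ _ ha hb => by rw [map_add, ha, hb, add_zero])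
        (fun r y _ hy => by rw [map_smul, hy, smul_zero]) hn
      obtain ⟨t, ξ, hξ, rfl⟩ := hy
      rw [act_comm, hc _ hσ ξ hξ, map_zero]
    show w ^ (n + 1) • Φ S₀ M₀ T _ z = 0
    rw [← Φ_act, show w ^ (n + 1) = (algebraMap R₀ _ f * c ^ n) * (c * algebraMap R₀ _ (f ^ n)) by rw [map_pow]; ring,
      map_mul, Module.End.mul_apply, map_mul, Module.End.mul_apply, map_mul, Module.End.mul_apply, AlgHom.commutes,
      AlgHom.commutes, Module.algebraMap_end_apply, Module.algebraMap_end_apply, h0,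
      map_zero, smul_zero, map_zero]

variable (c) in
/-- On a stratum, flatness modulo the ideal. -/
theorem flat_stratum (hG : Good M₀ I f) :
    Module.Flat (T ⧸ I.map (algebraMap R₀ T)) ((T ⧸ I.map (algebraMap R₀ T)) ⊗[T]
      LocalizedModule (Submonoid.powers (algebraMap R₀ (S₀ ⊗[R₀] T) f * c)) (ext R₀ S₀ M₀ T)) := by
      refine flat_quot_of_inj (N := LocalizedModule (Submonoid.powers (algebraMap R₀ (S₀ ⊗[R₀] T) f * c)) (ext R₀ S₀ M₀ T)) _ fun K => ?_
      let w : S₀ ⊗[R₀] T := algebraMap R₀ _ f * c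
      let P := Submonoid.powers w
      let J0 : Ideal T := I.map (algebraMap R₀ T)
      rw [← LinearMap.lTensor_inj_iff_rTensor_inj]
      refine loc_inj P (K.subtype.restrictScalars T) fun y hy => ?_
      obtain ⟨z, rfl⟩ := Φ_surjective S₀ M₀ T _ y
      rw [Φ_natural, ← map_zero (Φ S₀ M₀ T _)] at hy
      have kill : ∀ i ∈ I, ∀ x : T ⧸ J0, i • x = 0 := fun i hi x => by
        rw [← algebraMap_smul T i, ← Submodule.Quotient.mk_out x, ← Submodule.Quotient.mk_smul, Submodule.Quotient.mk_eq_zero]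
        exact J0.mul_mem_right _ (Ideal.mem_map_of_mem _ hi)
      obtain ⟨n, hn⟩ := hG K (T ⧸ J0) (fun i hi x => Subtype.ext (kill i hi x)) kill
        ((K.subtype.restrictScalars T).restrictScalars R₀) Subtype.val_injective z (Φ_injective S₀ M₀ T _ hy)
      refine ⟨_, ⟨n, rfl⟩, ?_⟩
      show w ^ n • Φ S₀ M₀ T _ z = 0
      rw [← Φ_act, show w ^ n = c ^ n * algebraMap R₀ _ (f ^ n) by rw [map_pow]; ring, map_mul, Module.End.mul_apply,
        AlgHom.commutes, Module.algebraMap_end_apply, hn, map_zero, map_zero]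


/-- Flatness over a Noetherian base from vanishing of the obstructions. -/
theorem flat_of_obs [IsNoetherianRing R₀] [IsNoetherianRing T] [Algebra.FiniteType R₀ S₀] [Module.Finite S₀ M₀]
    {L : List (Ideal R₀ × R₀)} (hL : ∀ σ ∈ L, Good M₀ σ.1 σ.2)
    (hcov : ∀ p : Ideal R₀, p.IsPrime → ∃ σ ∈ L, σ.1 ≤ p ∧ σ.2 ∉ p) {c : S₀ ⊗[R₀] T} (hc : Obs S₀ M₀ T L c) :
    Module.Flat T (LocalizedModule (Submonoid.powers c) (ext R₀ S₀ M₀ T)) := by
  haveI : IsNoetherianRing (T ⊗[R₀] S₀) := Algebra.FiniteType.isNoetherianRing T _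
  haveI : IsNoetherianRing (S₀ ⊗[R₀] T) :=
    isNoetherianRing_of_ringEquiv _ (Algebra.TensorProduct.comm R₀ T S₀).toRingEquiv
  refine (Module.Flat.iff_lTensor_injective' (R := T) (M := LocalizedModule (Submonoid.powers c) (ext R₀ S₀ M₀ T))).2 fun J => ?_
  refine loc_inj (Submonoid.powers c) J.subtype fun x hx => ?_
  let Ann : Ideal (S₀ ⊗[R₀] T) := LinearMap.ker (LinearMap.toSpanSingleton (S₀ ⊗[R₀] T) _ x)
  by_contra hne
  obtain ⟨q, hq, hle, hdis⟩ := Ideal.exists_le_prime_disjoint Ann (Submonoid.powers c)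
    (Set.disjoint_left.mpr fun s hs hs' => hne ⟨s, hs', hs⟩)
  have hcq : c ∉ q := fun h => Set.disjoint_left.mp hdis h (Submonoid.mem_powers c)
  obtain ⟨⟨I, f⟩, hσ, hI, hf⟩ := hcov (q.comap (algebraMap R₀ (S₀ ⊗[R₀] T))) inferInstance
  let w : S₀ ⊗[R₀] T := algebraMap R₀ _ f * c
  have hwq : w ∉ q := fun h => (hq.mem_or_mem h).elim hf hcq
  let P := Submonoid.powers w
  let J0 : Ideal T := I.map (algebraMap R₀ T)
  let N := LocalizedModule P (ext R₀ S₀ M₀ T)
  refine false_of_injective w q hwq (Ideal.map_le_iff_le_comap.2 (Ideal.map_le_iff_le_comap.2 fun i hi => ?_))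
    (injective_stratum S₀ M₀ hL hc hσ) (flat_stratum S₀ M₀ c (hL _ hσ)) hx fun b hb => hle hb
  rw [Ideal.mem_comap, Ideal.mem_comap, ← IsScalarTower.algebraMap_apply]
  exact hI hi

/-- The criterion, Noetherian case. -/
theorem flatPow_of_obs_noetherian [IsNoetherianRing R₀] [IsNoetherianRing T] [Algebra.FiniteType R₀ S₀] [Module.Finite S₀ M₀]
    {L : List (Ideal R₀ × R₀)} (hL : ∀ σ ∈ L, Good M₀ σ.1 σ.2)
    (hcov : ∀ p : Ideal R₀, p.IsPrime → ∃ σ ∈ L, σ.1 ≤ p ∧ σ.2 ∉ p) {c : S₀ ⊗[R₀] T} (hc : Obs S₀ M₀ T L c) :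
    FlatPow S₀ M₀ T c := by
  intro A D _ _ _ _ _ _ _ _ j hj z hz
  haveI := flat_of_obs S₀ M₀ hL hcov hc
  let g : ext R₀ S₀ M₀ T →ₗ[S₀ ⊗[R₀] T] LocalizedModule (Submonoid.powers c) (ext R₀ S₀ M₀ T) := LocalizedModule.mkLinearMap _ _
  let G := AlgebraTensorModule.rTensor T A g
  have h : ∀ y, j.lTensor _ (G y) = AlgebraTensorModule.rTensor T D g (j.lTensor _ y) := fun y => by
    induction y with
    | zero => simp
    | add a b ha hb => simp [ha, hb]
    | tmul m a => rfl
  have h0 : G (Φ S₀ M₀ T A z) = G 0 := by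
    refine Module.Flat.lTensor_preserves_injective_linearMap (M := LocalizedModule (Submonoid.powers c) (ext R₀ S₀ M₀ T)) j hj ?_
    rw [map_zero, map_zero, h, Φ_natural, hz, map_zero, map_zero]
  obtain ⟨⟨_, n, rfl⟩, hn⟩ := IsLocalizedModule.exists_of_eq (S := Submonoid.powers c) (f := G) h0
  rw [Submonoid.smul_def, smul_zero, ← Φ_act, ← map_zero (Φ S₀ M₀ T A)] at hn
  exact ⟨n, Φ_injective S₀ M₀ T A hn⟩

end Groth.Agent.H4FlatDescent
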