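import Mathlib
import Groth.Agent.Lib.H4FlatDescentCrit

/-!
Descent of flatness to Noetherian rings, part 3: finite stages, the criterion over any base, models.
-/

universe u

open TensorProduct LinearMap

namespace Groth.Agent.H4FlatDescent

variable {R₀ : Type u} [CommRing R₀] (S₀ : Type u) [CommRing S₀] [Algebra R₀ S₀]
  (M₀ : Type u) [AddCommGroup M₀] [Module R₀ M₀] [Module S₀ M₀] [IsScalarTower R₀ S₀ M₀]

omit [Module S₀ M₀] [IsScalarTower R₀ S₀ M₀] in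
theorem comm_lTensor {X Y : Type u} [AddCommGroup X] [Module R₀ X] [AddCommGroup Y] [Module R₀ Y] (g : X →ₗ[R₀] Y)
    (v : M₀ ⊗[R₀] X) : TensorProduct.comm R₀ M₀ Y (g.lTensor M₀ v) = g.rTensor M₀ (TensorProduct.comm R₀ M₀ X v) := by
  induction v with
  | zero => simp
  | add a b ha hb => simp [ha, hb]
  | tmul m a => rfl

theorem map_trans {A B C : Type u} [CommRing A] [Algebra R₀ A] [CommRing B] [Algebra R₀ B] [CommRing C] [Algebra R₀ C]
    (f : A →ₐ[R₀] B) (g : B →ₐ[R₀] C) (k : A →ₐ[R₀] C) (hk : ∀ x, g (f x) = k x) (c : S₀ ⊗[R₀] A) :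
    Algebra.TensorProduct.map (AlgHom.id R₀ S₀) g (Algebra.TensorProduct.map (AlgHom.id R₀ S₀) f c) =
      Algebra.TensorProduct.map (AlgHom.id R₀ S₀) k c := by
  induction c with
  | zero => simp
  | add a b ha hb => simp [ha, hb]
  | tmul s t => simp [hk]

section stage

variable {T T' : Type u} [CommRing T] [Algebra R₀ T] [CommRing T'] [Algebra R₀ T'] (h : T' →ₐ[R₀] T) (I : Ideal R₀)

/-- `I T' → I T`. -/
noncomputable def extMap : (I.map (algebraMap R₀ T') : Ideal T') →ₗ[R₀] (I.map (algebraMap R₀ T) : Ideal T) :=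
  (h.toLinearMap ∘ₗ (Submodule.subtype (I.map (algebraMap R₀ T'))).restrictScalars R₀).codRestrict
    ((I.map (algebraMap R₀ T)).restrictScalars R₀) fun x =>
      (show I.map (algebraMap R₀ T') ≤ (I.map (algebraMap R₀ T)).comap h from Ideal.map_le_iff_le_comap.2 fun i hi => by
        rw [Ideal.mem_comap, Ideal.mem_comap, h.commutes]
        exact Ideal.mem_map_of_mem _ hi) x.2

@[simp]
theorem extMap_coe (x : (I.map (algebraMap R₀ T') : Ideal T')) : (extMap h I x : T) = h x := rfl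

theorem extMap_toExt : extMap h I ∘ₗ toExt T' I = toExt T I :=
  LinearMap.ext fun i => Subtype.ext (h.commutes _)

theorem extMap_act (c : S₀ ⊗[R₀] T') (z : M₀ ⊗[R₀] (I.map (algebraMap R₀ T') : Ideal T')) :
    (extMap h I).lTensor M₀ (act S₀ M₀ T' _ c z) =
      act S₀ M₀ T _ (Algebra.TensorProduct.map (AlgHom.id R₀ S₀) h c) ((extMap h I).lTensor M₀ z) := by
  induction c with
  | zero => simp
  | add a b ha hb => simp [ha, hb]
  | tmul s t =>
    rw [Algebra.TensorProduct.map_tmul, AlgHom.id_apply]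
    induction z with
    | zero => simp
    | add a b ha hb => simp only [map_add, ha, hb]
    | tmul m a =>
      simp only [act_tmul, lTensor_tmul]
      congr 1
      exact Subtype.ext (map_mul h t a.1)

theorem extMap_injective (hh : Function.Injective h) : Function.Injective (extMap h I) := fun a b hab =>
  Subtype.ext (hh (congrArg Subtype.val hab))

end stage

section subalgebra

variable {T : Type u} [CommRing T] [Algebra R₀ T]

theorem exists_mem_extMap (I : Ideal R₀) {y : T} (hy : y ∈ I.map (algebraMap R₀ T)) :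
    ∃ B : Subalgebra R₀ T, B.FG ∧ ∀ B' : Subalgebra R₀ T, B ≤ B' → ∃ x, (extMap B'.val I x : T) = y := by
  induction hy using Submodule.span_induction with
  | mem y hy =>
    obtain ⟨i, hi, rfl⟩ := hy
    exact ⟨⊥, Subalgebra.fg_bot, fun B' _ => ⟨toExt B' I ⟨i, hi⟩, rfl⟩⟩
  | zero => exact ⟨⊥, Subalgebra.fg_bot, fun B' _ => ⟨0, rfl⟩⟩
  | add y y' _ _ h h' =>
    obtain ⟨B, hB, hy⟩ := h
    obtain ⟨B', hB', hy'⟩ := h'
    refine ⟨B ⊔ B', hB.sup hB', fun C hC => ?_⟩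
    obtain ⟨x, rfl⟩ := hy C (le_sup_left.trans hC)
    obtain ⟨x', rfl⟩ := hy' C (le_sup_right.trans hC)
    exact ⟨x + x', rfl⟩
  | smul t y _ h =>
    classical
    obtain ⟨B, hB, hy⟩ := h
    refine ⟨B ⊔ Algebra.adjoin R₀ {t}, hB.sup ⟨{t}, by simp⟩, fun C hC => ?_⟩
    obtain ⟨x, rfl⟩ := hy C (le_sup_left.trans hC)
    exact ⟨(⟨t, hC (le_sup_right (a := B) (Algebra.self_mem_adjoin_singleton R₀ t))⟩ : C) • x, rfl⟩

omit [Module S₀ M₀] [IsScalarTower R₀ S₀ M₀] in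
/-- An element vanishing over `T` vanishes at a finite stage. -/
theorem exists_stage (I : Ideal R₀) {A : Subalgebra R₀ T} (hA : A.FG)
    (z : M₀ ⊗[R₀] (I.map (algebraMap R₀ A) : Ideal A)) (hz : (extMap A.val I).lTensor M₀ z = 0) :
    ∃ B : Subalgebra R₀ T, B.FG ∧ ∃ hle : A ≤ B, (extMap (Subalgebra.inclusion hle) I).lTensor M₀ z = 0 := by
  classical
  obtain ⟨P₁, hP₁, y, hy⟩ := Submodule.exists_fg_le_eq_rTensor_subtype (TensorProduct.comm R₀ M₀ _ z)
  let P := P₁.map (extMap A.val I)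
  let ψ : P₁ →ₗ[R₀] P := (extMap A.val I).restrict fun x hx => ⟨x, hx, rfl⟩
  have h0 : P.subtype.rTensor M₀ (ψ.rTensor M₀ y) = 0 := by
    rw [← rTensor_comp_apply, show P.subtype ∘ₗ ψ = extMap A.val I ∘ₗ P₁.subtype from rfl, rTensor_comp_apply, ← hy]
    rw [← comm_lTensor, hz, map_zero]
  obtain ⟨Q, hPQ, ⟨s, hs⟩, hQ⟩ := TensorProduct.eq_zero_of_fg_of_subtype_eq_zero (hP₁.map _) h0
  choose Bs hBs hBs' using fun q : s => exists_mem_extMap I (q.1 : (I.map (algebraMap R₀ T) : Ideal T)).2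
  let B : Subalgebra R₀ T := A ⊔ Finset.univ.sup Bs
  have hBfg : B.FG := hA.sup (Finset.sup_induction Subalgebra.fg_bot (fun _ h _ h' => h.sup h') fun q _ => hBs q)
  refine ⟨B, hBfg, le_sup_left, ?_⟩
  have hinj : Function.Injective (extMap B.val I) := extMap_injective B.val I Subtype.val_injective
  have hQB : Q ≤ LinearMap.range (extMap B.val I) := by
    rw [← hs, Submodule.span_le]
    intro q hq
    obtain ⟨x, hx⟩ := hBs' ⟨q, hq⟩ B ((Finset.le_sup (Finset.mem_univ _)).trans le_sup_right)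
    exact ⟨x, Subtype.ext hx⟩
  let k : Q →ₗ[R₀] (I.map (algebraMap R₀ B) : Ideal B) :=
    (LinearEquiv.ofInjective _ hinj).symm.toLinearMap ∘ₗ Submodule.inclusion hQB
  have hk0 : ∀ q, extMap B.val I (k q) = q.1 := fun q =>
    congrArg Subtype.val ((LinearEquiv.ofInjective _ hinj).apply_symm_apply (Submodule.inclusion hQB q))
  have hk : extMap (Subalgebra.inclusion (le_sup_left : A ≤ B)) I ∘ₗ P₁.subtype = k ∘ₗ Submodule.inclusion hPQ ∘ₗ ψ :=
    LinearMap.ext fun p => hinj ((Subtype.ext rfl).trans (hk0 (Submodule.inclusion hPQ (ψ p))).symm)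
  apply (TensorProduct.comm R₀ M₀ _).injective
  rw [comm_lTensor, hy, ← rTensor_comp_apply, hk]
  simp only [k, rTensor_comp_apply, hQ, map_zero]

end subalgebra

/-- Finitely many generators of the kernels. -/
theorem exists_gens [IsNoetherianRing R₀] [Algebra.FiniteType R₀ S₀] [Module.Finite S₀ M₀] (I : Ideal R₀) :
    ∃ G : Finset (M₀ ⊗[R₀] I), (∀ ξ ∈ G, I.subtype.lTensor M₀ ξ = 0) ∧
      ∀ ξ, I.subtype.lTensor M₀ ξ = 0 → ξ ∈ Submodule.span S₀ (G : Set (M₀ ⊗[R₀] I)) := by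
  classical
  haveI := Algebra.FiniteType.isNoetherianRing R₀ S₀
  obtain ⟨t, ht⟩ : Submodule.FG (⊤ : Submodule R₀ I) := IsNoetherian.noetherian _
  let φ : (t → M₀) →ₗ[S₀] M₀ ⊗[R₀] I :=
    { toFun := fun v => ∑ i : t, v i ⊗ₜ (i : I)
      map_add' := fun v w => by simp [add_tmul, Finset.sum_add_distrib]
      map_smul' := fun c v => by simp [Finset.smul_sum, smul_tmul'] }
  haveI : Module.Finite S₀ (M₀ ⊗[R₀] I) := by
    refine Module.Finite.of_surjective φ fun y => ?_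
    induction y with
    | zero => exact ⟨0, map_zero _⟩
    | add a b ha hb => obtain ⟨v, rfl⟩ := ha; obtain ⟨w, rfl⟩ := hb; exact ⟨v + w, map_add _ _ _⟩
    | tmul m j =>
      have : j ∈ Submodule.span R₀ (t : Set I) := ht ▸ trivial
      induction this using Submodule.span_induction with
      | mem a ha =>
        refine ⟨Pi.single ⟨a, ha⟩ m, ?_⟩
        show ∑ i : t, _ = _
        rw [Finset.sum_eq_single ⟨a, ha⟩ (fun i _ hi => by simp [Pi.single_eq_of_ne hi]) (by simp)]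
        simp
      | zero => exact ⟨0, by simp⟩
      | add a b _ _ ha hb => obtain ⟨v, hv⟩ := ha; obtain ⟨w, hw⟩ := hb; exact ⟨v + w, by rw [map_add, hv, hw, tmul_add]⟩
      | smul c a _ ha =>
        obtain ⟨v, hv⟩ := ha
        exact ⟨algebraMap R₀ S₀ c • v, by rw [map_smul, hv, tmul_smul, algebraMap_smul]⟩
  let ψ : M₀ ⊗[R₀] I →ₗ[S₀] M₀ ⊗[R₀] R₀ := AlgebraTensorModule.map (LinearMap.id : M₀ →ₗ[S₀] M₀) I.subtype
  have hψ : ∀ ξ, ψ ξ = I.subtype.lTensor M₀ ξ := fun ξ => by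
    induction ξ with
    | zero => simp
    | add a b ha hb => simp [ha, hb]
    | tmul m a => rfl
  obtain ⟨G, hG⟩ : Submodule.FG (LinearMap.ker ψ) := IsNoetherian.noetherian _
  refine ⟨G, fun ξ hξ => ?_, fun ξ hξ => ?_⟩
  · rw [← hψ]
    exact LinearMap.mem_ker.1 (hG ▸ Submodule.subset_span hξ)
  · rw [hG]
    exact (hψ ξ).trans hξ

variable {T : Type u} [CommRing T] [Algebra R₀ T]

/-- It is enough to check generators. -/
theorem obs_gen {I : Ideal R₀} {c : S₀ ⊗[R₀] T} {G : Set (M₀ ⊗[R₀] I)}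
    (h : ∀ ξ ∈ G, act S₀ M₀ T _ c ((toExt T I).lTensor M₀ ξ) = 0) {ξ : M₀ ⊗[R₀] I} (hξ : ξ ∈ Submodule.span S₀ G) :
    act S₀ M₀ T _ c ((toExt T I).lTensor M₀ ξ) = 0 := by
  induction hξ using Submodule.span_induction with
  | mem ξ hξ => exact h ξ hξ
  | zero => simp
  | add a b _ _ ha hb => rw [map_add, map_add, ha, hb, add_zero]
  | smul s a _ ha => rw [act_smul_left S₀ M₀ T s (toExt T I), act_comm, ha, map_zero]

theorem exists_lift (c : S₀ ⊗[R₀] T) :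
    ∃ A : Subalgebra R₀ T, A.FG ∧ ∃ c', Algebra.TensorProduct.map (AlgHom.id R₀ S₀) A.val c' = c := by
  classical
  induction c with
  | zero => exact ⟨⊥, Subalgebra.fg_bot, 0, map_zero _⟩
  | add a b ha hb =>
    obtain ⟨A, hA, a, rfl⟩ := ha
    obtain ⟨B, hB, b, rfl⟩ := hb
    refine ⟨A ⊔ B, hA.sup hB, Algebra.TensorProduct.map (AlgHom.id R₀ S₀) (Subalgebra.inclusion le_sup_left) a +
      Algebra.TensorProduct.map (AlgHom.id R₀ S₀) (Subalgebra.inclusion le_sup_right) b, ?_⟩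
    rw [map_add, map_trans S₀ _ _ A.val fun _ => rfl, map_trans S₀ _ _ B.val fun _ => rfl]
  | tmul s t =>
    exact ⟨Algebra.adjoin R₀ {t}, ⟨{t}, by simp⟩, s ⊗ₜ ⟨t, Algebra.self_mem_adjoin_singleton R₀ t⟩, rfl⟩

variable [IsNoetherianRing R₀] [Algebra.FiniteType R₀ S₀] [Module.Finite S₀ M₀]

/-- Vanishing of the obstructions descends to a finitely generated subalgebra. -/
theorem exists_obs_stage' (L : List (Ideal R₀ × R₀)) {A : Subalgebra R₀ T} (hA : A.FG) (c₁ : S₀ ⊗[R₀] A)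
    (hc : Obs S₀ M₀ T L (Algebra.TensorProduct.map (AlgHom.id R₀ S₀) A.val c₁)) :
    ∃ A₁ : Subalgebra R₀ T, A₁.FG ∧ ∃ hle : A ≤ A₁, ∀ (A₂ : Subalgebra R₀ T) (h₂ : A₁ ≤ A₂),
      Obs S₀ M₀ A₂ L (Algebra.TensorProduct.map (AlgHom.id R₀ S₀) (Subalgebra.inclusion (hle.trans h₂)) c₁) := by
  classical
  choose G hG hG' using fun I : Ideal R₀ => exists_gens S₀ M₀ I
  have mono : ∀ {B B' : Subalgebra R₀ T} (hle : A ≤ B) (hle' : B ≤ B') (I : Ideal R₀) (ξ : M₀ ⊗[R₀] I),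
      act S₀ M₀ B _ (Algebra.TensorProduct.map (AlgHom.id R₀ S₀) (Subalgebra.inclusion hle) c₁) ((toExt B I).lTensor M₀ ξ) = 0 →
      act S₀ M₀ B' _ (Algebra.TensorProduct.map (AlgHom.id R₀ S₀) (Subalgebra.inclusion (hle.trans hle')) c₁)
        ((toExt B' I).lTensor M₀ ξ) = 0 := by
    intro B B' hle hle' I ξ h
    have := congrArg ((extMap (Subalgebra.inclusion hle') I).lTensor M₀) h
    rw [map_zero, extMap_act, ← lTensor_comp_apply, extMap_toExt,
      map_trans S₀ _ _ (Subalgebra.inclusion (hle.trans hle')) fun _ => rfl] at this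
    exact this
  suffices h : ∀ l : List (Ideal R₀ × R₀), (∀ σ ∈ l, σ ∈ L) → ∃ B : Subalgebra R₀ T, B.FG ∧ ∃ hle : A ≤ B, ∀ σ ∈ l, ∀ ξ ∈ G σ.1,
      act S₀ M₀ B _ (Algebra.TensorProduct.map (AlgHom.id R₀ S₀) (Subalgebra.inclusion hle) c₁) ((toExt B σ.1).lTensor M₀ ξ) = 0 by
    obtain ⟨B, hB, hle, h⟩ := h L fun _ h => h
    exact ⟨B, hB, hle, fun A₂ h₂ σ hσ ξ hξ =>
      obs_gen S₀ M₀ (fun x hx => mono hle h₂ σ.1 x (h σ hσ x hx)) (hG' σ.1 ξ hξ)⟩
  intro l hl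
  induction l with
  | nil => exact ⟨A, hA, le_rfl, by simp⟩
  | cons σ l ih =>
    obtain ⟨B, hB, hle, hBl⟩ := ih fun τ hτ => hl τ (List.mem_cons_of_mem _ hτ)
    suffices h : ∀ s : Finset (M₀ ⊗[R₀] σ.1), s ⊆ G σ.1 → ∃ C : Subalgebra R₀ T, C.FG ∧ ∃ hC : B ≤ C, ∀ ξ ∈ s,
        act S₀ M₀ C _ (Algebra.TensorProduct.map (AlgHom.id R₀ S₀) (Subalgebra.inclusion (hle.trans hC)) c₁)
          ((toExt C σ.1).lTensor M₀ ξ) = 0 by
      obtain ⟨C, hC, hBC, h⟩ := h _ (Finset.Subset.refl _)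
      refine ⟨C, hC, hle.trans hBC, fun τ hτ => ?_⟩
      rcases List.mem_cons.1 hτ with rfl | hτ
      · exact h
      · exact fun ξ hξ => mono hle hBC _ ξ (hBl τ hτ ξ hξ)
    intro s hs
    induction s using Finset.induction_on with
    | empty => exact ⟨B, hB, le_rfl, by simp⟩
    | insert ξ s _ ih =>
      obtain ⟨C, hC, hBC, h⟩ := ih fun x hx => hs (Finset.mem_insert_of_mem hx)
      have hz : (extMap C.val σ.1).lTensor M₀ (act S₀ M₀ C _ (Algebra.TensorProduct.map (AlgHom.id R₀ S₀)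
          (Subalgebra.inclusion (hle.trans hBC)) c₁) ((toExt C σ.1).lTensor M₀ ξ)) = 0 := by
        rw [extMap_act, ← lTensor_comp_apply, extMap_toExt, map_trans S₀ _ _ A.val fun _ => rfl]
        exact hc σ (hl σ (List.mem_cons_self ..)) ξ (hG σ.1 ξ (hs (Finset.mem_insert_self ..)))
      obtain ⟨D, hD, hCD, hz'⟩ := exists_stage M₀ σ.1 hC _ hz
      refine ⟨D, hD, hBC.trans hCD, fun x hx => ?_⟩
      rcases Finset.mem_insert.1 hx with rfl | hx
      · rw [extMap_act, ← lTensor_comp_apply, extMap_toExt,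
          map_trans S₀ _ _ (Subalgebra.inclusion ((hle.trans hBC).trans hCD)) fun _ => rfl] at hz'
        exact hz'
      · exact mono (hle.trans hBC) hCD _ x (h x hx)

/-- Stage with a lift. -/
theorem exists_obs_stage (L : List (Ideal R₀ × R₀)) {c : S₀ ⊗[R₀] T} (hc : Obs S₀ M₀ T L c) :
    ∃ B : Subalgebra R₀ T, B.FG ∧ ∃ c', Algebra.TensorProduct.map (AlgHom.id R₀ S₀) B.val c' = c ∧ Obs S₀ M₀ B L c' := by
  obtain ⟨A, hA, c₁, rfl⟩ := exists_lift S₀ c
  obtain ⟨A₁, hA₁, hle, h⟩ := exists_obs_stage' S₀ M₀ L hA c₁ hc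
  exact ⟨A₁, hA₁, _, map_trans S₀ _ _ A.val (fun _ => rfl) c₁, h A₁ le_rfl⟩

/-- Stage for `1`. -/
theorem exists_obs_stage_one (L : List (Ideal R₀ × R₀)) (hc : Obs S₀ M₀ T L 1) {A : Subalgebra R₀ T} (hA : A.FG) :
    ∃ A₁ : Subalgebra R₀ T, A₁.FG ∧ A ≤ A₁ ∧ ∀ A₂ : Subalgebra R₀ T, A₁ ≤ A₂ → Obs S₀ M₀ A₂ L 1 := by
  obtain ⟨A₁, hA₁, hle, h⟩ := exists_obs_stage' S₀ M₀ L hA 1 (by rw [map_one]; exact hc)
  exact ⟨A₁, hA₁, hle, fun A₂ h₂ => by simpa only [map_one] using h A₂ h₂⟩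

/-- The criterion over any base. -/
theorem flatPow_of_obs {L : List (Ideal R₀ × R₀)} (hL : ∀ σ ∈ L, Good M₀ σ.1 σ.2)
    (hcov : ∀ p : Ideal R₀, p.IsPrime → ∃ σ ∈ L, σ.1 ≤ p ∧ σ.2 ∉ p) {c : S₀ ⊗[R₀] T} (hc : Obs S₀ M₀ T L c) :
    FlatPow S₀ M₀ T c := by
  obtain ⟨B, hB, c', rfl, hc'⟩ := exists_obs_stage S₀ M₀ L hc
  haveI : Algebra.FiniteType R₀ B := B.fg_iff_finiteType.1 hB
  haveI : IsNoetherianRing B := Algebra.FiniteType.isNoetherianRing R₀ B
  intro A D _ _ _ _ _ _ _ _ j hj z hz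
  obtain ⟨n, hn⟩ := flatPow_of_obs_noetherian S₀ M₀ hL hcov hc' A D (j.restrictScalars B) hj z hz
  refine ⟨n, ?_⟩
  rw [← map_pow, act_map S₀ M₀ B.val (fun t a => rfl)]
  exact hn

end Groth.Agent.H4FlatDescent
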