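import Mathlib
import Groth.Agent.Lib.H4FlatDescentStage

/-!
Descent of flatness to Noetherian rings, part 4: transport to models.
-/

universe u

open TensorProduct LinearMap

namespace Groth.Agent.H4FlatDescent

attribute [local instance] Algebra.TensorProduct.rightAlgebra

variable {R₀ T S₀ B M₀ M : Type u} [CommRing R₀] [CommRing T] [Algebra R₀ T] [CommRing S₀] [Algebra R₀ S₀]
  [CommRing B] [Algebra R₀ B] [Algebra T B] [IsScalarTower R₀ T B] [Algebra S₀ B] [IsScalarTower R₀ S₀ B]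
  [AddCommGroup M₀] [Module R₀ M₀] [Module S₀ M₀] [IsScalarTower R₀ S₀ M₀]
  [AddCommGroup M] [Module B M] [Module T M] [IsScalarTower T B M] [Module S₀ M] [IsScalarTower S₀ B M]
  [Module R₀ M] [IsScalarTower R₀ T M] [IsScalarTower R₀ S₀ M]

variable (R₀ T S₀ B) in
/-- `S₀ ⊗ T → B`. -/
noncomputable def rho : S₀ ⊗[R₀] T →ₐ[R₀] B :=
  Algebra.TensorProduct.lift (IsScalarTower.toAlgHom R₀ S₀ B) (IsScalarTower.toAlgHom R₀ T B) fun _ _ => Commute.all _ _

@[simp]
theorem rho_tmul (s : S₀) (t : T) : rho R₀ T S₀ B (s ⊗ₜ t) = algebraMap S₀ B s * algebraMap T B t := rfl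

theorem rho_surjective [H : Algebra.IsPushout R₀ T S₀ B] : Function.Surjective (rho R₀ T S₀ B) := fun b => by
  refine H.1.inductionOn b _ ⟨0, map_zero _⟩ (fun s => ⟨s ⊗ₜ 1, ?_⟩) (fun t x e => ?_) (fun x y ex ey => ?_)
  · rw [rho_tmul, map_one, mul_one]
    rfl
  · obtain ⟨c, rfl⟩ := e
    exact ⟨(1 ⊗ₜ t) * c, by rw [map_mul, rho_tmul, map_one, one_mul, Algebra.smul_def]⟩
  · obtain ⟨c, rfl⟩ := ex
    obtain ⟨d, rfl⟩ := ey
    exact ⟨c + d, map_add _ _ _⟩

/-- A base change along the pushout is a base change along the base. -/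
theorem isBaseChange_base [Algebra.IsPushout R₀ T S₀ B] {f₀ : M₀ →ₗ[S₀] M} (hf : IsBaseChange B f₀) :
    IsBaseChange T (f₀.restrictScalars R₀) := by
  refine IsBaseChange.of_equiv
    ((Algebra.IsPushout.cancelBaseChange R₀ T S₀ B M₀).symm.trans (hf.equiv.restrictScalars T)) fun x => ?_
  rw [LinearEquiv.trans_apply, Algebra.IsPushout.cancelBaseChange_symm_tmul, map_one, LinearEquiv.restrictScalars_apply,
    IsBaseChange.equiv_tmul, one_smul]
  rfl

variable {f₀ : M₀ →ₗ[S₀] M} (hf : IsBaseChange T (f₀.restrictScalars R₀))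

section e

variable (A : Type u) [AddCommGroup A] [Module R₀ A] [Module T A] [IsScalarTower R₀ T A]

/-- `M₀ ⊗ A ≅ M ⊗ A`. -/
noncomputable def e : M₀ ⊗[R₀] A ≃+ M ⊗[T] A :=
  (TensorProduct.comm R₀ M₀ A).toAddEquiv.trans ((hf.tensorEquiv A).symm.toAddEquiv.trans (TensorProduct.comm T A M).toAddEquiv)

theorem e_tmul (m : M₀) (a : A) : e hf A (m ⊗ₜ a) = f₀ m ⊗ₜ a := by
  simp [e, IsBaseChange.tensorEquiv]

theorem e_act (c : S₀ ⊗[R₀] T) (z : M₀ ⊗[R₀] A) : e hf A (act S₀ M₀ T A c z) = rho R₀ T S₀ B c • e hf A z := by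
  induction z with
  | zero => simp
  | add a b ha hb => simp [ha, hb, smul_add]
  | tmul m a =>
    induction c with
    | zero => simp
    | add p q hp hq => rw [map_add, LinearMap.add_apply, map_add, hp, hq, map_add, add_smul]
    | tmul s t =>
      rw [act_tmul, e_tmul, e_tmul, rho_tmul, smul_tmul', map_smul, ← smul_tmul, mul_comm, mul_smul, algebraMap_smul,
        algebraMap_smul]

variable {A} {D : Type u} [AddCommGroup D] [Module R₀ D] [Module T D] [IsScalarTower R₀ T D]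

theorem e_natural (j : A →ₗ[T] D) (z : M₀ ⊗[R₀] A) :
    j.lTensor M (e hf A z) = e hf D ((j.restrictScalars R₀).lTensor M₀ z) := by
  induction z with
  | zero => simp
  | add a b ha hb => simp [ha, hb]
  | tmul m a => simp [e_tmul]

end e

include hf in
/-- Localisation is flat where `FlatPow` holds. -/
theorem flat_of_flatPow {c : S₀ ⊗[R₀] T} (hc : FlatPow S₀ M₀ T c) (P : Submonoid B) (hP : rho R₀ T S₀ B c ∈ P) :
    Module.Flat T (LocalizedModule P M) := by
  refine (Module.Flat.iff_lTensor_injective' (R := T) (M := LocalizedModule P M)).2 fun J => ?_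
  refine loc_inj P J.subtype fun x hx => ?_
  obtain ⟨z, rfl⟩ := (e hf J).surjective x
  rw [e_natural, AddEquiv.map_eq_zero_iff] at hx
  obtain ⟨n, hn⟩ := hc J T J.subtype Subtype.val_injective z hx
  refine ⟨rho R₀ T S₀ B c ^ n, pow_mem hP n, ?_⟩
  rw [← map_pow, ← e_act, hn, map_zero]

include hf in
/-- A flat module from `FlatPow` at `1`. -/
theorem flat_of_flatPow_one (hc : FlatPow S₀ M₀ T (1 : S₀ ⊗[R₀] T)) : Module.Flat T M := by
  refine (Module.Flat.iff_lTensor_injective' (R := T) (M := M)).2 fun J => ?_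
  rw [injective_iff_map_eq_zero]
  intro x hx
  obtain ⟨z, rfl⟩ := (e hf J).surjective x
  rw [e_natural, AddEquiv.map_eq_zero_iff] at hx
  obtain ⟨n, hn⟩ := hc J T J.subtype Subtype.val_injective z hx
  rw [one_pow, map_one, Module.End.one_apply] at hn
  rw [hn, map_zero]

omit [Module S₀ M₀] [IsScalarTower R₀ S₀ M₀] in
theorem toExt_ker {I : Ideal R₀} {ξ : M₀ ⊗[R₀] I} (hξ : I.subtype.lTensor M₀ ξ = 0) :
    ((Submodule.subtype (I.map (algebraMap R₀ T))).restrictScalars R₀).lTensor M₀ ((toExt T I).lTensor M₀ ξ) = 0 := by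
  rw [← lTensor_comp_apply, show (Submodule.subtype (I.map (algebraMap R₀ T))).restrictScalars R₀ ∘ₗ toExt T I =
    Algebra.linearMap R₀ T ∘ₗ I.subtype from rfl, lTensor_comp_apply, hξ, map_zero]

include hf in
/-- A flat module has no obstructions. -/
theorem obs_one_of_flat [Module.Flat T M] (L : List (Ideal R₀ × R₀)) : Obs S₀ M₀ T L 1 := by
  intro σ _ ξ hξ
  rw [map_one, Module.End.one_apply]
  apply (e hf _).injective
  refine Module.Flat.lTensor_preserves_injective_linearMap (M := M) (Submodule.subtype _) Subtype.val_injective ?_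
  rw [e_natural, toExt_ker hξ, map_zero, map_zero, map_zero]

variable [IsNoetherianRing R₀] [Algebra.FiniteType R₀ S₀] [Module.Finite S₀ M₀]

include hf in
/-- Where the localisation is flat the obstructions are killed by an element of the submonoid. -/
theorem obs_of_flat_at (hρ : Function.Surjective (rho R₀ T S₀ B)) (L : List (Ideal R₀ × R₀)) (P : Submonoid B)
    [Module.Flat T (LocalizedModule P M)] : ∃ c, rho R₀ T S₀ B c ∈ P ∧ Obs S₀ M₀ T L c := by
  classical
  let g : M →ₗ[B] LocalizedModule P M := LocalizedModule.mkLinearMap _ _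
  have key : ∀ (I : Ideal R₀) (ξ : M₀ ⊗[R₀] I), I.subtype.lTensor M₀ ξ = 0 →
      ∃ c, rho R₀ T S₀ B c ∈ P ∧ act S₀ M₀ T _ c ((toExt T I).lTensor M₀ ξ) = 0 := by
    intro I ξ hξ
    let J : Ideal T := I.map (algebraMap R₀ T)
    let G := AlgebraTensorModule.rTensor T J g
    have h0 : G (e hf J ((toExt T I).lTensor M₀ ξ)) = G 0 := by
      refine Module.Flat.lTensor_preserves_injective_linearMap (M := LocalizedModule P M) J.subtype Subtype.val_injective ?_
      have : ∀ y, J.subtype.lTensor _ (G y) = AlgebraTensorModule.rTensor T T g (J.subtype.lTensor _ y) := fun y => by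
        induction y with
        | zero => simp
        | add a b ha hb => simp [ha, hb]
        | tmul m a => rfl
      rw [this, this, e_natural, toExt_ker hξ, map_zero, map_zero, map_zero, map_zero]
    obtain ⟨⟨s, hs⟩, h1⟩ := IsLocalizedModule.exists_of_eq (S := P) (f := G) h0
    obtain ⟨c, rfl⟩ := hρ s
    rw [Submonoid.smul_def, smul_zero, ← e_act, AddEquiv.map_eq_zero_iff] at h1
    exact ⟨c, hs, h1⟩
  choose G hG hG' using fun I : Ideal R₀ => exists_gens S₀ M₀ I
  induction L with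
  | nil => exact ⟨1, by rw [map_one]; exact P.one_mem, fun σ hσ => by simp at hσ⟩
  | cons σ L ih =>
    obtain ⟨c, hcq, hc⟩ := ih
    suffices h : ∀ s : Finset (M₀ ⊗[R₀] σ.1), s ⊆ G σ.1 → ∃ d, rho R₀ T S₀ B d ∈ P ∧
        ∀ ξ ∈ s, act S₀ M₀ T _ d ((toExt T σ.1).lTensor M₀ ξ) = 0 by
      obtain ⟨d, hdq, hd⟩ := h _ (Finset.Subset.refl _)
      refine ⟨c * d, by rw [map_mul]; exact P.mul_mem hcq hdq, fun τ hτ ξ hξ => ?_⟩
      rcases List.mem_cons.1 hτ with rfl | hτ
      · rw [map_mul, Module.End.mul_apply, obs_gen S₀ M₀ hd (hG' _ ξ hξ), map_zero]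
      · rw [map_mul, Module.End.mul_apply, act_comm, hc τ hτ ξ hξ, map_zero]
    intro s hs
    induction s using Finset.induction_on with
    | empty => exact ⟨1, by rw [map_one]; exact P.one_mem, by simp⟩
    | insert ξ s _ ih =>
      obtain ⟨d, hdq, hd⟩ := ih fun x hx => hs (Finset.mem_insert_of_mem hx)
      obtain ⟨d', hdq', hd'⟩ := key σ.1 ξ (hG _ ξ (hs (Finset.mem_insert_self ..)))
      refine ⟨d * d', by rw [map_mul]; exact P.mul_mem hdq hdq', fun x hx => ?_⟩
      rw [map_mul, Module.End.mul_apply]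
      rcases Finset.mem_insert.1 hx with rfl | hx
      · rw [hd', map_zero]
      · rw [act_comm, hd x hx, map_zero]

include hf in
/-- The flat locus is open, submonoid form. -/
theorem exists_mem_flat (hρ : Function.Surjective (rho R₀ T S₀ B)) (P : Submonoid B)
    [Module.Flat T (LocalizedModule P M)] :
    ∃ b ∈ P, ∀ (P' : Submonoid B), b ∈ P' → Module.Flat T (LocalizedModule P' M) := by
  obtain ⟨L, hL, hcov⟩ := exists_strata (R₀ := R₀) S₀ M₀
  obtain ⟨c, hcq, hc⟩ := obs_of_flat_at hf hρ L P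
  exact ⟨_, hcq, fun P' hP => flat_of_flatPow hf (flatPow_of_obs S₀ M₀ hL hcov hc) P' hP⟩

include hf in
/-- The flat locus is open. -/
theorem exists_basicOpen_flat (hρ : Function.Surjective (rho R₀ T S₀ B)) (q : Ideal B) [q.IsPrime]
    [Module.Flat T (LocalizedModule q.primeCompl M)] :
    ∃ b ∉ q, ∀ (P : Submonoid B), b ∈ P → Module.Flat T (LocalizedModule P M) :=
  exists_mem_flat hf hρ q.primeCompl

include hf in
/-- A flat module is flat over all large finite stages. -/
theorem exists_flat_stage [Module.Flat T M] {A : Subalgebra R₀ T} (hA : A.FG) :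
    ∃ A₁ : Subalgebra R₀ T, A₁.FG ∧ A ≤ A₁ ∧
      ∀ A₂ : Subalgebra R₀ T, A₁ ≤ A₂ → Module.Flat A₂ (ext R₀ S₀ M₀ A₂) := by
  classical
  obtain ⟨L, hL, hcov⟩ := exists_strata (R₀ := R₀) S₀ M₀
  obtain ⟨A₁, hA₁, hle, h⟩ := exists_obs_stage_one S₀ M₀ L (obs_one_of_flat hf L) hA
  refine ⟨A₁, hA₁, hle, fun A₂ h₂ => ?_⟩
  have hfp : FlatPow S₀ M₀ A₂ (1 : S₀ ⊗[R₀] A₂) := flatPow_of_obs S₀ M₀ hL hcov (h A₂ h₂)
  refine (Module.Flat.iff_lTensor_injective' (R := A₂) (M := ext R₀ S₀ M₀ A₂)).2 fun J => ?_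
  rw [injective_iff_map_eq_zero]
  intro x hx
  obtain ⟨z, rfl⟩ := Φ_surjective S₀ M₀ A₂ J x
  rw [Φ_natural, ← map_zero (Φ S₀ M₀ A₂ A₂)] at hx
  obtain ⟨n, hn⟩ := hfp J A₂ J.subtype Subtype.val_injective z (Φ_injective S₀ M₀ A₂ A₂ hx)
  rw [one_pow, map_one, Module.End.one_apply] at hn
  rw [hn, map_zero]

end Groth.Agent.H4FlatDescent
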