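import Mathlib
import Groth.Agent.Lib.H4FlatDescentModel

/-!
Descent of flatness to Noetherian rings, part 5: existence of models.
-/

universe u

open TensorProduct LinearMap

namespace Groth.Agent.H4FlatDescent

attribute [local instance] Algebra.TensorProduct.rightAlgebra

variable (R S M : Type u) [CommRing R] [CommRing S] [Algebra R S] [AddCommGroup M] [Module S M] [Module R M]
  [IsScalarTower R S M]

omit M in
/-- A finitely presented algebra comes from a finitely generated `ℤ`-algebra, with a given finite set of elements. -/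
theorem exists_algebra_model [Algebra.FinitePresentation R S] (F : Finset S) :
    ∃ (R₀ : Type u) (_ : CommRing R₀) (_ : Algebra R₀ R) (S₀ : Type u) (_ : CommRing S₀)
      (_ : Algebra R₀ S₀) (_ : Algebra S₀ S) (_ : Algebra R₀ S) (_ : IsScalarTower R₀ R S)
      (_ : IsScalarTower R₀ S₀ S),
      Algebra.FiniteType ℤ R₀ ∧ Algebra.FiniteType R₀ S₀ ∧ Algebra.IsPushout R₀ R S₀ S ∧
        ∀ x ∈ F, ∃ y : S₀, algebraMap S₀ S y = x := by
  classical
  let P := Algebra.Presentation.ofFinitePresentation R S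
  choose pF hpF using fun v : F => P.algebraMap_surjective v.1
  let E : Set R := P.coeffs ∪ ⋃ v : F, ((pF v).coeffs : Set R)
  have hE : E.Finite := P.finite_coeffs.union (Set.finite_iUnion fun _ => Finset.finite_toSet _)
  let R₀ : Subalgebra ℤ R := Algebra.adjoin ℤ E
  haveI : Algebra.FiniteType ℤ R₀ := .adjoin_of_finite hE
  have hrange : Set.range (algebraMap R₀ R) = (R₀ : Set R) := Subtype.range_coe
  haveI : P.HasCoeffs R₀ := ⟨by rw [hrange]; exact Set.subset_union_left.trans Algebra.subset_adjoin⟩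
  let S₀ := P.ModelOfHasCoeffs R₀
  let eS : R ⊗[R₀] S₀ ≃ₐ[R] S := P.tensorModelOfHasCoeffsEquiv R₀
  letI : Algebra S₀ S := ((eS.toAlgHom.restrictScalars R₀).comp Algebra.TensorProduct.includeRight).toRingHom.toAlgebra
  haveI : IsScalarTower R₀ S₀ S := IsScalarTower.of_algebraMap_eq fun r =>
    (((eS.toAlgHom.restrictScalars R₀).comp Algebra.TensorProduct.includeRight).commutes r).symm
  haveI hpush : Algebra.IsPushout R₀ R S₀ S := ⟨IsBaseChange.of_equiv eS.toLinearEquiv fun x => rfl⟩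
  refine ⟨R₀, inferInstance, inferInstance, S₀, inferInstance, inferInstance, inferInstance, inferInstance, inferInstance,
    inferInstance, inferInstance, inferInstance, hpush, fun x hx => ?_⟩
  obtain ⟨q, hq⟩ : pF ⟨x, hx⟩ ∈ Set.range (MvPolynomial.map (algebraMap R₀ R)) := by
    rw [MvPolynomial.mem_range_map_iff_coeffs_subset, hrange]
    exact fun y hy => Algebra.subset_adjoin (Or.inr (Set.mem_iUnion.2 ⟨⟨x, hx⟩, hy⟩))
  refine ⟨Ideal.Quotient.mk _ q, ?_⟩
  show eS (1 ⊗ₜ Ideal.Quotient.mk _ q) = x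
  refine Eq.trans ?_ (hpF ⟨x, hx⟩)
  rw [← hq, P.tensorModelOfHasCoeffsEquiv_tmul R₀, map_one, one_mul, P.algebraMap_apply, MvPolynomial.aeval_map_algebraMap]

omit [Module R M] [IsScalarTower R S M] in
/-- A finitely presented module descends once its relations do. -/
theorem exists_module_model {n : ℕ} (K : Submodule S (Fin n → S)) (eM : M ≃ₗ[S] (Fin n → S) ⧸ K)
    (G : Finset (Fin n → S)) (hG : Submodule.span S (G : Set (Fin n → S)) = K)
    (S₀ : Type u) [CommRing S₀] [Algebra S₀ S] [Module S₀ M] [IsScalarTower S₀ S M]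
    (hlift : ∀ (v : G) (i : Fin n), ∃ y : S₀, algebraMap S₀ S y = v.1 i) :
    ∃ (M₀ : Type u) (_ : AddCommGroup M₀) (_ : Module S₀ M₀) (f : M₀ →ₗ[S₀] M), Module.Finite S₀ M₀ ∧ IsBaseChange S f := by
  classical
  choose yG hyG using hlift
  let K₀ : Submodule S₀ (Fin n → S₀) := Submodule.span S₀ (Set.range fun v : G => fun i => yG v i)
  let M₀ := (Fin n → S₀) ⧸ K₀
  let φ : (Fin n → S₀) →ₗ[S₀] (Fin n → S) := (Algebra.linearMap S₀ S).compLeft (Fin n)
  let π : (Fin n → S) →ₗ[S] M := eM.symm.toLinearMap ∘ₗ K.mkQ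
  have hπ : ∀ w, π w = 0 ↔ w ∈ K := fun w => by
    rw [LinearMap.comp_apply, LinearEquiv.coe_coe, LinearEquiv.map_eq_zero_iff, Submodule.mkQ_apply, Submodule.Quotient.mk_eq_zero]
  let fhat : (Fin n → S₀) →ₗ[S₀] M := π.restrictScalars S₀ ∘ₗ φ
  have hfhat : K₀ ≤ LinearMap.ker fhat := by
    refine Submodule.span_le.2 ?_
    rintro _ ⟨v, rfl⟩
    refine (hπ _).2 ?_
    have : φ (fun i => yG v i) = v.1 := funext fun i => hyG v i
    rw [this, ← hG]
    exact Submodule.subset_span v.2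
  let f : M₀ →ₗ[S₀] M := K₀.liftQ fhat hfhat
  refine ⟨M₀, inferInstance, inferInstance, f, inferInstance, ?_⟩
  let L : S ⊗[S₀] M₀ →ₗ[S] M := f.liftBaseChange S
  have hs : ∀ w : Fin n → S, ∃ x : S ⊗[S₀] (Fin n → S₀), φ.liftBaseChange S x = w := fun w => by
    refine ⟨∑ i, w i ⊗ₜ Pi.single i 1, funext fun j => ?_⟩
    simp [φ, Pi.single_apply, apply_ite]
  have hbij : Function.Bijective L := by
    constructor
    · rw [injective_iff_map_eq_zero]
      intro x hx
      obtain ⟨w, rfl⟩ := LinearMap.lTensor_surjective S K₀.mkQ_surjective x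
      have h1 : π (φ.liftBaseChange S w) = 0 := by
        rw [← hx]
        clear hx
        induction w with
        | zero => simp
        | add a b ha hb => simp [ha, hb]
        | tmul s y => simp [L, f, fhat, K₀.liftQ_apply]
      have h2 : φ.liftBaseChange S w ∈ Submodule.map (φ.liftBaseChange S) (LinearMap.range (K₀.subtype.baseChange S)) := by
        have h3 := (hπ _).1 h1
        rw [← hG] at h3
        refine Submodule.span_induction (fun v hv => ?_) (zero_mem _) (fun a b _ _ => add_mem) (fun c a _ => Submodule.smul_mem _ c) h3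
        refine ⟨1 ⊗ₜ (fun i => yG ⟨v, hv⟩ i), ⟨1 ⊗ₜ ⟨fun i => yG ⟨v, hv⟩ i, Submodule.subset_span ⟨⟨v, hv⟩, rfl⟩⟩, rfl⟩, ?_⟩
        rw [liftBaseChange_tmul, one_smul]
        exact funext fun i => hyG ⟨v, hv⟩ i
      obtain ⟨u, ⟨u', rfl⟩, hu⟩ := h2
      have hinj : Function.Injective (φ.liftBaseChange S) := by
        have : φ.liftBaseChange S = (TensorProduct.piScalarRight S₀ S S (Fin n)).toLinearMap := by
          refine TensorProduct.AlgebraTensorModule.ext fun s y => funext fun i => ?_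
          simp [φ, Algebra.smul_def, mul_comm]
        rw [this]
        exact (TensorProduct.piScalarRight S₀ S S (Fin n)).injective
      rw [← hinj hu]
      clear hu
      induction u' with
      | zero => simp
      | add a b ha hb => simp only [map_add, ha, hb, add_zero]
      | tmul s k =>
        rw [baseChange_tmul, lTensor_tmul, Submodule.mkQ_apply, Submodule.subtype_apply, (Submodule.Quotient.mk_eq_zero K₀).2 k.2,
          tmul_zero]
    · intro m
      obtain ⟨w, hw⟩ := K.mkQ_surjective (eM m)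
      obtain ⟨x, rfl⟩ := hs w
      refine ⟨K₀.mkQ.lTensor S x, ?_⟩
      rw [← eM.symm_apply_apply m, ← hw]
      show _ = π (φ.liftBaseChange S x)
      clear hw
      induction x with
      | zero => simp
      | add a b ha hb => simp [ha, hb]
      | tmul s y => simp [L, f, fhat, K₀.liftQ_apply]
  exact IsBaseChange.of_equiv (LinearEquiv.ofBijective L hbij) fun x => by simp [L]

/-- Finitely presented data come from a finitely generated `ℤ`-algebra. -/
theorem exists_model [Algebra.FinitePresentation R S] [Module.FinitePresentation S M] :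
    ∃ (R₀ : Type u) (_ : CommRing R₀) (_ : Algebra R₀ R) (S₀ : Type u) (_ : CommRing S₀)
      (_ : Algebra R₀ S₀) (_ : Algebra S₀ S) (_ : Algebra R₀ S) (_ : IsScalarTower R₀ R S)
      (_ : IsScalarTower R₀ S₀ S) (M₀ : Type u) (_ : AddCommGroup M₀) (_ : Module S₀ M₀)
      (_ : Module R₀ M₀) (_ : IsScalarTower R₀ S₀ M₀) (_ : Module S₀ M) (_ : IsScalarTower S₀ S M)
      (_ : Module R₀ M) (_ : IsScalarTower R₀ R M) (_ : IsScalarTower R₀ S₀ M)
      (f : M₀ →ₗ[S₀] M),
      Algebra.FiniteType ℤ R₀ ∧ Algebra.FiniteType R₀ S₀ ∧ Module.Finite S₀ M₀ ∧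
        Algebra.IsPushout R₀ R S₀ S ∧ IsBaseChange S f := by
  classical
  obtain ⟨n, K, eM, hK⟩ := Module.FinitePresentation.exists_fin S M
  obtain ⟨G, hG⟩ := hK
  obtain ⟨R₀, _, _, S₀, _, _, _, _, _, _, hR₀, hS₀, hpush, hF⟩ :=
    exists_algebra_model R S (Finset.univ.image fun p : G × Fin n => p.1.1 p.2)
  letI : Module S₀ M := Module.compHom M (algebraMap S₀ S)
  haveI : IsScalarTower S₀ S M := IsScalarTower.of_algebraMap_smul fun _ _ => rfl
  letI : Module R₀ M := Module.compHom M (algebraMap R₀ R)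
  haveI : IsScalarTower R₀ R M := IsScalarTower.of_algebraMap_smul fun _ _ => rfl
  haveI : IsScalarTower R₀ S₀ M := ⟨fun r s x => by
    show algebraMap S₀ S (r • s) • x = algebraMap R₀ R r • algebraMap S₀ S s • x
    rw [Algebra.smul_def, map_mul, mul_smul, ← IsScalarTower.algebraMap_apply, IsScalarTower.algebraMap_apply R₀ R S,
      algebraMap_smul]⟩
  obtain ⟨M₀, _, _, f, hM₀, hf⟩ := exists_module_model (S := S) (M := M) K eM G hG S₀
    fun v i => hF _ (Finset.mem_image.2 ⟨(v, i), Finset.mem_univ _, rfl⟩)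
  letI : Module R₀ M₀ := Module.compHom M₀ (algebraMap R₀ S₀)
  haveI : IsScalarTower R₀ S₀ M₀ := IsScalarTower.of_algebraMap_smul fun _ _ => rfl
  exact ⟨R₀, inferInstance, inferInstance, S₀, inferInstance, inferInstance, inferInstance, inferInstance, inferInstance,
    inferInstance, M₀, inferInstance, inferInstance, inferInstance, inferInstance, inferInstance, inferInstance,
    inferInstance, inferInstance, inferInstance, f, hR₀, hS₀, hM₀, hpush, hf⟩

/-- A flat module has a flat model; if `S` is flat the model of `S` is flat as well. -/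
theorem exists_flat_model [Algebra.FinitePresentation R S] [Module.FinitePresentation S M] [Module.Flat R M] :
    ∃ (R₀ : Type u) (_ : CommRing R₀) (_ : Algebra R₀ R) (S₀ : Type u) (_ : CommRing S₀)
      (_ : Algebra R₀ S₀) (_ : Algebra S₀ S) (_ : Algebra R₀ S) (_ : IsScalarTower R₀ R S)
      (_ : IsScalarTower R₀ S₀ S) (M₀ : Type u) (_ : AddCommGroup M₀) (_ : Module S₀ M₀)
      (_ : Module R₀ M₀) (_ : IsScalarTower R₀ S₀ M₀) (_ : Module S₀ M) (_ : IsScalarTower S₀ S M)
      (_ : Module R₀ M) (_ : IsScalarTower R₀ R M) (_ : IsScalarTower R₀ S₀ M)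
      (f : M₀ →ₗ[S₀] M),
      Algebra.FiniteType ℤ R₀ ∧ Algebra.FiniteType R₀ S₀ ∧ Module.Finite S₀ M₀ ∧ Module.Flat R₀ M₀ ∧
        (Module.Flat R S → Module.Flat R₀ S₀) ∧ Algebra.IsPushout R₀ R S₀ S ∧ IsBaseChange S f := by
  classical
  obtain ⟨R₀, _, _, S₀, _, _, _, _, _, _, M₀, _, _, _, _, _, _, _, _, _, f, hR₀, hS₀, hM₀, hpush, hf⟩ := exists_model R S M
  haveI := hR₀; haveI := hS₀; haveI := hM₀; haveI := hpush
  haveI : IsNoetherianRing R₀ := Algebra.FiniteType.isNoetherianRing ℤ R₀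
  obtain ⟨A₁, hA₁, -, hflat⟩ := exists_flat_stage (isBaseChange_base hf) (A := (⊥ : Subalgebra R₀ R)) Subalgebra.fg_bot
  obtain ⟨A₂, hA₂, hle, hflatS⟩ : ∃ A₂ : Subalgebra R₀ R, A₂.FG ∧ A₁ ≤ A₂ ∧
      (Module.Flat R S → Module.Flat A₂ (ext R₀ S₀ S₀ A₂)) := by
    by_cases hS : Module.Flat R S
    · obtain ⟨A₂, hA₂, hle, h⟩ := exists_flat_stage (isBaseChange_base (IsBaseChange.linearMap S₀ S)) hA₁
      exact ⟨A₂, hA₂, hle, fun _ => h A₂ le_rfl⟩
    · exact ⟨A₁, hA₁, le_rfl, fun h => absurd h hS⟩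
  haveI : Algebra.FiniteType R₀ A₂ := A₂.fg_iff_finiteType.1 hA₂
  letI : Algebra (S₀ ⊗[R₀] A₂) S := (rho R₀ A₂ S₀ S).toRingHom.toAlgebra
  haveI : IsScalarTower A₂ (S₀ ⊗[R₀] A₂) S := IsScalarTower.of_algebraMap_eq fun a => by
    show algebraMap A₂ S a = rho R₀ A₂ S₀ S (1 ⊗ₜ a)
    rw [rho_tmul, map_one, one_mul]
  haveI : IsScalarTower S₀ (S₀ ⊗[R₀] A₂) S := IsScalarTower.of_algebraMap_eq fun s => by
    show algebraMap S₀ S s = rho R₀ A₂ S₀ S (s ⊗ₜ 1)
    rw [rho_tmul, map_one, mul_one]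
  haveI : IsScalarTower R₀ (S₀ ⊗[R₀] A₂) S := IsScalarTower.of_algebraMap_eq fun r => ((rho R₀ A₂ S₀ S).commutes r).symm
  letI : Module (S₀ ⊗[R₀] A₂) M := Module.compHom M (algebraMap (S₀ ⊗[R₀] A₂) S)
  haveI : IsScalarTower (S₀ ⊗[R₀] A₂) S M := IsScalarTower.of_algebraMap_smul fun _ _ => rfl
  haveI : IsScalarTower S₀ (S₀ ⊗[R₀] A₂) M := ⟨fun s c x => by
    show algebraMap (S₀ ⊗[R₀] A₂) S (s • c) • x = s • algebraMap (S₀ ⊗[R₀] A₂) S c • x
    rw [← algebraMap_smul (S₀ ⊗[R₀] A₂) s c, smul_eq_mul, map_mul, mul_smul, ← IsScalarTower.algebraMap_apply]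
    exact algebraMap_smul S s _⟩
  haveI : IsScalarTower A₂ (S₀ ⊗[R₀] A₂) M := ⟨fun a c x => by
    show algebraMap (S₀ ⊗[R₀] A₂) S (a • c) • x = (a : R) • algebraMap (S₀ ⊗[R₀] A₂) S c • x
    rw [Algebra.smul_def, map_mul, mul_smul, ← IsScalarTower.algebraMap_apply]
    exact algebraMap_smul S (a : R) _⟩
  let f₁ : ext R₀ S₀ M₀ A₂ →ₗ[S₀ ⊗[R₀] A₂] M := f.liftBaseChange (S₀ ⊗[R₀] A₂)
  have hf₁ : IsBaseChange S f₁ := by
    refine (IsBaseChange.comp_iff (TensorProduct.isBaseChange S₀ M₀ (S₀ ⊗[R₀] A₂)) (h := f₁)).1 ?_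
    convert hf
    ext m
    simp [f₁]
  haveI : Algebra.FiniteType ℤ A₂ := Algebra.FiniteType.trans (S := R₀) hR₀ inferInstance
  haveI : Algebra.FiniteType A₂ (S₀ ⊗[R₀] A₂) :=
    (inferInstance : Algebra.FiniteType A₂ (A₂ ⊗[R₀] S₀)).equiv
      { (Algebra.TensorProduct.comm R₀ A₂ S₀).toRingEquiv with commutes' := fun a => rfl }
  refine ⟨A₂, inferInstance, inferInstance, S₀ ⊗[R₀] A₂, inferInstance, inferInstance, inferInstance, inferInstance, inferInstance,
    inferInstance, ext R₀ S₀ M₀ A₂, inferInstance, inferInstance, inferInstance, inferInstance, inferInstance, inferInstance,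
    inferInstance, inferInstance, inferInstance, f₁, inferInstance, inferInstance, inferInstance, hflat A₂ hle, fun hS => ?_,
    (Algebra.IsPushout.comp_iff R₀ A₂ S₀ (S₀ ⊗[R₀] A₂) (T := R) (T' := S)).1 hpush, hf₁⟩
  haveI := hflatS hS
  exact Module.Flat.of_linearEquiv
    ((AlgebraTensorModule.rid S₀ (S₀ ⊗[R₀] A₂) (S₀ ⊗[R₀] A₂)).symm.restrictScalars A₂)

end Groth.Agent.H4FlatDescent
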