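import Mathlib
import Groth.Agent.Lib.H4FlatDescentExist

/-! Descent of faithfully flat finitely presented algebras. -/

universe u

open TensorProduct

namespace Groth.Agent.H4FlatDescent

theorem exists_faithfullyFlat_model (A B : Type u) [CommRing A] [CommRing B] [Algebra A B] [Algebra.FinitePresentation A B]
    [Module.FaithfullyFlat A B] :
    ∃ (A₂ : Type u) (_ : CommRing A₂) (_ : Algebra A₂ A) (B₂ : Type u) (_ : CommRing B₂) (_ : Algebra A₂ B₂),
      Algebra.FiniteType ℤ A₂ ∧ Algebra.FiniteType A₂ B₂ ∧ Module.FaithfullyFlat A₂ B₂ ∧ Nonempty (B ≃ₐ[A] A ⊗[A₂] B₂) := by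
  classical
  haveI : Module.FinitePresentation B B := Module.finitePresentation_of_projective B B
  obtain ⟨R₀, _, _, S₀, _, _, _, _, _, _, M₀, _, _, _, _, _, _, _, _, _, f, h1, h2, -, -, h5, h6, -⟩ :=
    exists_flat_model A B B
  haveI := h1; haveI := h2; haveI := h6
  haveI : Module.Flat R₀ S₀ := h5 inferInstance
  haveI : IsNoetherianRing R₀ := Algebra.FiniteType.isNoetherianRing ℤ R₀
  haveI : Algebra.FinitePresentation R₀ S₀ := Algebra.FinitePresentation.of_finiteType.1 h2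
  have hU : IsOpen (Set.range (PrimeSpectrum.comap (algebraMap R₀ S₀))) :=
    (PrimeSpectrum.isOpenMap_comap_of_hasGoingDown_of_finitePresentation).isOpen_range
  obtain ⟨J, hJ⟩ := (PrimeSpectrum.isClosed_iff_zeroLocus_ideal _).1 hU.isClosed_compl
  have hJA : J.map (algebraMap R₀ A) = ⊤ := by
    by_contra hne
    obtain ⟨m, hm, hle⟩ := Ideal.exists_le_maximal _ hne
    obtain ⟨P, hP⟩ := PrimeSpectrum.comap_surjective_of_faithfullyFlat (B := B) ⟨m, hm.isPrime⟩
    have h' : PrimeSpectrum.comap (algebraMap R₀ A) ⟨m, hm.isPrime⟩ ∈ PrimeSpectrum.zeroLocus (J : Set R₀) := fun x hx =>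
      hle (Ideal.mem_map_of_mem _ hx)
    rw [← hJ] at h'
    refine h' ⟨PrimeSpectrum.comap (algebraMap S₀ B) P, ?_⟩
    rw [← hP, ← PrimeSpectrum.comap_comp_apply, ← PrimeSpectrum.comap_comp_apply, ← IsScalarTower.algebraMap_eq,
      ← IsScalarTower.algebraMap_eq]
  obtain ⟨g, hg⟩ : J.FG := IsNoetherian.noetherian J
  have h1A : (1 : A) ∈ Submodule.span A ((g.image (algebraMap R₀ A) : Finset A) : Set A) := by
    rw [Finset.coe_image]
    show (1 : A) ∈ Ideal.span _
    rw [← Ideal.map_span]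
    have : Ideal.span (g : Set R₀) = J := hg
    rw [this, hJA]
    trivial
  obtain ⟨a, -, ha⟩ := Submodule.mem_span_finset.1 h1A
  let A₂ : Subalgebra R₀ A := Algebra.adjoin R₀ ((g.image fun x => a (algebraMap R₀ A x) : Finset A) : Set A)
  haveI : Algebra.FiniteType R₀ A₂ := A₂.fg_iff_finiteType.1 ⟨_, rfl⟩
  haveI : Algebra.FiniteType ℤ A₂ := Algebra.FiniteType.trans (S := R₀) h1 inferInstance
  have hJ2 : J.map (algebraMap R₀ A₂) = ⊤ := by
    rw [Ideal.eq_top_iff_one]
    let c : A → A₂ := fun y => if h : a y ∈ A₂ then ⟨a y, h⟩ else 0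
    have key : (1 : A₂) = ∑ y ∈ (g.image (algebraMap R₀ A)).attach, c y.1 * algebraMap R₀ A₂ (Finset.mem_image.1 y.2).choose := by
      refine Subtype.ext (((Finset.sum_attach _ fun y => a y • y).trans ha).symm.trans ?_)
      rw [AddSubmonoidClass.coe_finsetSum]
      refine Finset.sum_congr rfl fun y _ => ?_
      obtain ⟨hx, hxy⟩ := (Finset.mem_image.1 y.2).choose_spec
      have hmem : a y.1 ∈ A₂ := Algebra.subset_adjoin (Finset.mem_coe.2 (Finset.mem_image.2 ⟨_, hx, by rw [hxy]⟩))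
      simp only [c, dif_pos hmem, MulMemClass.coe_mul, smul_eq_mul]
      congr 1
      exact hxy.symm
    rw [key]
    refine sum_mem fun y _ => Ideal.mul_mem_left _ _ (Ideal.mem_map_of_mem _ ?_)
    rw [← hg]
    exact Submodule.subset_span (Finset.mem_image.1 y.2).choose_spec.1
  haveI : Module.FaithfullyFlat A₂ (A₂ ⊗[R₀] S₀) := by
    refine Module.FaithfullyFlat.of_comap_surjective fun p => ?_
    let p₀ := PrimeSpectrum.comap (algebraMap R₀ A₂) p
    have hp₀ : p₀ ∈ Set.range (PrimeSpectrum.comap (algebraMap R₀ S₀)) := by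
      by_contra hne
      have : p₀ ∈ (Set.range (PrimeSpectrum.comap (algebraMap R₀ S₀)))ᶜ := hne
      rw [hJ] at this
      exact p.isPrime.ne_top (top_le_iff.1 (hJ2 ▸ Ideal.map_le_iff_le_comap.2 this))
    rw [← Set.mem_range, ← PrimeSpectrum.nontrivial_iff_mem_rangeComap]
    rw [← PrimeSpectrum.nontrivial_iff_mem_rangeComap] at hp₀
    let κ₀ := p₀.asIdeal.ResidueField
    let κ := p.asIdeal.ResidueField
    letI : Algebra κ₀ κ := (Ideal.ResidueField.map p₀.asIdeal p.asIdeal (algebraMap R₀ A₂) rfl).toAlgebra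
    haveI : IsScalarTower R₀ κ₀ κ := IsScalarTower.of_algebraMap_eq fun r => by
      show algebraMap R₀ κ r = Ideal.ResidueField.map p₀.asIdeal p.asIdeal (algebraMap R₀ A₂) rfl (algebraMap R₀ κ₀ r)
      rw [IsScalarTower.algebraMap_apply R₀ A₂ κ]
      exact (Ideal.ResidueField.map_algebraMap p₀.asIdeal p.asIdeal (algebraMap R₀ A₂) rfl r).symm
    haveI := hp₀
    haveI : Nontrivial (κ ⊗[κ₀] (κ₀ ⊗[R₀] S₀)) := inferInstance
    exact ((AlgebraTensorModule.cancelBaseChange R₀ A₂ κ κ S₀).trans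
      (AlgebraTensorModule.cancelBaseChange R₀ κ₀ κ κ S₀).symm).toEquiv.nontrivial
  refine ⟨A₂, inferInstance, inferInstance, A₂ ⊗[R₀] S₀, inferInstance, inferInstance, inferInstance, inferInstance,
    inferInstance, ⟨((Algebra.TensorProduct.cancelBaseChange R₀ A₂ A A S₀).trans (Algebra.IsPushout.equiv R₀ A S₀ B)).symm⟩⟩

theorem exists_faithfullyFlat_descend (R A B : Type u) [CommRing R] [CommRing A] [CommRing B] [Algebra R A]
    [Algebra A B] [Algebra.FinitePresentation A B] [Module.FaithfullyFlat A B] :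
    ∃ (A₀ B₀ : Type u) (_ : CommRing A₀) (_ : CommRing B₀) (_ : Algebra R A₀) (_ : Algebra A₀ A) (_ : IsScalarTower R A₀ A)
      (_ : Algebra A₀ B₀), Algebra.FinitePresentation R A₀ ∧ Algebra.FinitePresentation A₀ B₀ ∧ Module.FaithfullyFlat A₀ B₀ ∧
      Nonempty (B ≃ₐ[A] A ⊗[A₀] B₀) := by
  obtain ⟨A₂, _, _, B₂, _, _, h1, h2, h3, ⟨e⟩⟩ := exists_faithfullyFlat_model A B
  haveI := h1; haveI := h2; haveI := h3
  haveI : IsNoetherianRing A₂ := Algebra.FiniteType.isNoetherianRing ℤ A₂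
  haveI : Algebra.FinitePresentation ℤ A₂ := Algebra.FinitePresentation.of_finiteType.1 h1
  haveI : Algebra.FinitePresentation A₂ B₂ := Algebra.FinitePresentation.of_finiteType.1 h2
  let A₀ := R ⊗[ℤ] A₂
  letI : Algebra A₂ A₀ := Algebra.TensorProduct.rightAlgebra
  let φ : A₀ →ₐ[R] A := Algebra.TensorProduct.lift (Algebra.ofId R A) (algebraMap A₂ A).toIntAlgHom fun _ _ => Commute.all _ _
  letI : Algebra A₀ A := φ.toRingHom.toAlgebra
  haveI : IsScalarTower R A₀ A := IsScalarTower.of_algebraMap_eq fun r => (φ.commutes r).symm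
  haveI : IsScalarTower A₂ A₀ A := IsScalarTower.of_algebraMap_eq fun x => by
    show algebraMap A₂ A x = Algebra.ofId R A 1 * algebraMap A₂ A x
    rw [map_one, one_mul]
  exact ⟨A₀, A₀ ⊗[A₂] B₂, inferInstance, inferInstance, inferInstance, inferInstance, inferInstance, inferInstance,
    inferInstance, inferInstance, inferInstance, ⟨e.trans (Algebra.TensorProduct.cancelBaseChange A₂ A₀ A A B₂).symm⟩⟩

end Groth.Agent.H4FlatDescent
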