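import Mathlib
import Groth.Agent.Lib.H4FFDescent

/-! Finite type and finite presentation descend along faithfully flat finitely presented extensions. -/

universe u

open TensorProduct

namespace Groth.Agent.H4FlatDescent

theorem finiteType_of_faithfullyFlat {R A B : Type u} [CommRing R] [CommRing A] [CommRing B] [Algebra R A] [Algebra A B]
    [Algebra R B] [IsScalarTower R A B] [Algebra.FiniteType R B]
    [Module.FaithfullyFlat A B] [Algebra.FinitePresentation A B] : Algebra.FiniteType R A := by
  classical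
  obtain ⟨A₀, B₀, _, _, _, _, _, _, h1, h2, h3, ⟨e⟩⟩ := exists_faithfullyFlat_descend R A B
  haveI := h1; haveI := h2; haveI := h3
  obtain ⟨s, hs⟩ := (inferInstance : Algebra.FiniteType R B).out
  choose T hTfg hT using fun b : B => TensorProduct.Algebra.exists_of_fg (R := A₀) (S := A) (N := B₀) (e b)
  let A' : Subalgebra A₀ A := s.sup T
  have hA' : A'.FG := Finset.sup_induction Subalgebra.fg_bot (fun _ h _ h' => h.sup h') fun b _ => hTfg b
  let m : A' ⊗[A₀] B₀ →ₐ[R] A ⊗[A₀] B₀ := (Algebra.TensorProduct.map A'.val (AlgHom.id A₀ B₀)).restrictScalars R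
  have hm : m.range = ⊤ := by
    have hle : Algebra.adjoin R ((fun b => e b) '' (s : Set B)) ≤ m.range := by
      rw [Algebra.adjoin_le_iff]
      rintro _ ⟨b, hb, rfl⟩
      obtain ⟨t, ht⟩ := hT b
      refine ⟨(Subalgebra.inclusion (Finset.le_sup (f := T) hb)).toLinearMap.rTensor B₀ t, ?_⟩
      show A'.val.toLinearMap.rTensor B₀ _ = e b
      rw [← LinearMap.rTensor_comp_apply, ← ht]
      rfl
    refine top_le_iff.1 (le_trans ?_ hle)
    rw [show (fun b => e b) = ⇑(e.toAlgHom.restrictScalars R) from rfl, ← AlgHom.map_adjoin, hs, Algebra.map_top]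
    exact fun x _ => ⟨e.symm x, e.apply_symm_apply x⟩
  have hsurj : Function.Surjective (A'.val.toLinearMap.rTensor B₀) := fun x => by
    obtain ⟨y, hy⟩ : x ∈ m.range := hm ▸ trivial
    exact ⟨y, hy⟩
  rw [← LinearMap.lTensor_surj_iff_rTensor_surj, Module.FaithfullyFlat.lTensor_surjective_iff_surjective] at hsurj
  haveI : Algebra.FiniteType A₀ A' := A'.fg_iff_finiteType.1 hA'
  haveI : Algebra.FiniteType A₀ A := Algebra.FiniteType.of_surjective A'.val hsurj
  exact Algebra.FiniteType.trans (S := A₀) inferInstance inferInstance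

theorem finitePresentation_of_faithfullyFlat {R A B : Type u} [CommRing R] [CommRing A] [CommRing B] [Algebra R A] [Algebra A B]
    [Algebra R B] [IsScalarTower R A B] [Algebra.FinitePresentation R B]
    [Module.FaithfullyFlat A B] [Algebra.FinitePresentation A B] : Algebra.FinitePresentation R A := by
  haveI : Algebra.FiniteType R A := finiteType_of_faithfullyFlat (B := B)
  obtain ⟨n, φ, hφ⟩ := Algebra.FiniteType.iff_quotient_mvPolynomial''.1 ‹Algebra.FiniteType R A›
  obtain ⟨A₀, B₀, _, _, _, _, _, _, h1, h2, h3, ⟨e⟩⟩ := exists_faithfullyFlat_descend R A B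
  haveI := h1; haveI := h2; haveI := h3
  let P' := A₀ ⊗[R] MvPolynomial (Fin n) R
  haveI : Algebra.FinitePresentation R P' := Algebra.FinitePresentation.trans R A₀ P'
  let π : P' →ₐ[A₀] A := Algebra.TensorProduct.lift (Algebra.ofId A₀ A) φ fun _ _ => Commute.all _ _
  have hπ : Function.Surjective π := fun a => by
    obtain ⟨y, rfl⟩ := hφ a
    exact ⟨1 ⊗ₜ y, by show Algebra.ofId A₀ A 1 * φ y = φ y; rw [map_one, one_mul]⟩
  let BP := P' ⊗[A₀] B₀
  haveI : Algebra.FinitePresentation R BP := Algebra.FinitePresentation.trans R P' BP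
  let πB := Algebra.TensorProduct.map π (AlgHom.id A₀ B₀)
  let ψ : BP →ₐ[R] B := (e.symm.toAlgHom.restrictScalars R).comp (πB.restrictScalars R)
  have hψ : Function.Surjective ψ :=
    e.symm.surjective.comp (LinearMap.rTensor_surjective B₀ (g := π.toLinearMap) hπ)
  have hk := Algebra.FinitePresentation.ker_fG_of_surjective (R := R) (A := BP) (B := B) ψ hψ
  have hker : RingHom.ker ψ.toRingHom = (RingHom.ker π).map (Algebra.TensorProduct.includeLeft : P' →ₐ[A₀] P' ⊗[A₀] B₀) := by
    refine Eq.trans ?_ (Algebra.TensorProduct.rTensor_ker π hπ (C := B₀))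
    ext x
    exact e.symm.map_eq_zero_iff
  rw [hker] at hk
  have hkπ : (RingHom.ker π.toRingHom).FG := Ideal.FG.of_FG_map_of_faithfullyFlat (R := P') (S := BP) hk
  have heq : (π.restrictScalars R).toRingHom = π.toRingHom := RingHom.ext fun _ => rfl
  refine Algebra.FinitePresentation.of_surjective (R := R) (A := P') (f := π.restrictScalars R) hπ ?_
  rw [heq]
  exact hkπ

end Groth.Agent.H4FlatDescent
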