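import Groth.Agent.Lib.H9StSrcDesc
import Groth.Agent.S0114
/-! Descent of flatness along covers of the source of a morphism of stacks. -/

set_option autoImplicit false
set_option linter.style.haveILetI false
set_option linter.unusedVariables false
set_option linter.unusedSectionVars false
set_option backward.isDefEq.respectTransparency.types false

universe u

open CategoryTheory CategoryTheory.Limits AlgebraicGeometry

noncomputable section

namespace Groth.Agent.H9St

open H9Diag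

variable {S : Scheme.{u}} {X Y Z : AlgSt.Cat S}

theorem locQ_lfp_of_comp (hX : AlgSt.IsAlgStack Scheme.fppfPrecoverage X)
    (hY : AlgSt.IsAlgStack Scheme.fppfPrecoverage Y) (hZ : AlgSt.IsAlgStack Scheme.fppfPrecoverage Z)
    {f : X ⥤ᵇ Y} {g : Y ⥤ᵇ Z} (hf₁ : AlgSt.LocQ (AlgSp.LocP @Flat) f) (hf₃ : AlgSt.LocQ (AlgSp.LocP @LocallyOfFinitePresentation) f) (hf₂ : AlgSt.IsSurjective f)
    (h : AlgSt.LocQ (AlgSp.LocP @LocallyOfFinitePresentation) (BasedFunctor.comp f g)) : AlgSt.LocQ (AlgSp.LocP @LocallyOfFinitePresentation) g := by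
  haveI := hX.isStack.1
  haveI := hY.isStack.1
  haveI := hZ.isStack.1
  obtain ⟨W, z, hz, hzs⟩ := hZ.atlas
  obtain ⟨V, b, y, β, hy, htg, hys⟩ := exists_square_over hY hZ g z hz
  obtain ⟨U, a, x, α, hx, htf, hxs, ha⟩ := exists_square_over' hX hY f y hy
  haveI : Surjective a.left := ha hf₂
  haveI : Flat a.left := (ASp.locP_yon_iff a).1 (prop_of_square ASp.isSmoothLocalST_locP hX hY hf₁ α htf hy)
  haveI : LocallyOfFinitePresentation a.left :=
    (ASp.locP_yon_iff a).1 (prop_of_square ASp.isSmoothLocalST_locP hX hY hf₃ α htf hy)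
  haveI : FibCat.IsFibGrpd (FibCat.overCat U).p := isFibGrpd_overCat U
  haveI : FibCat.IsFibGrpd (FibCat.overCat V).p := isFibGrpd_overCat V
  haveI : FibCat.IsFibGrpd (FibCat.overCat W).p := isFibGrpd_overCat W
  let tg := FibCat.fpLift y (AlgSt.overMap b) β
  let p := FibCat.fpFst g z
  haveI : FibCat.IsFibGrpd (FibCat.fp g z).p := H9Fib.isFibGrpd_fp _ _
  haveI : FibCat.IsFibGrpd (FibCat.fp f y).p := H9Fib.isFibGrpd_fp _ _
  haveI : FibCat.IsFibGrpd (FibCat.fp y f).p := H9Fib.isFibGrpd_fp _ _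
  haveI : FibCat.IsFibGrpd (FibCat.fp p f).p := H9Fib.isFibGrpd_fp _ _
  haveI : FibCat.IsFibGrpd (FibCat.fp f p).p := H9Fib.isFibGrpd_fp _ _
  haveI : FibCat.IsFibGrpd (FibCat.fp (BasedFunctor.comp f g) z).p := H9Fib.isFibGrpd_fp _ _
  have he : ∀ {A B : AlgSt.Cat S} [FibCat.IsFibGrpd A.p] [FibCat.IsFibGrpd B.p] {k : A ⥤ᵇ B},
      FibCat.IsEquivOver k → AlgSt.RepByAlgSpWith (AlgSp.LocP @Smooth) k := fun hk =>
    repByAlgSpWith_of_isEquivOver (fun m _ => locP_smooth_of_iso m) hk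
  have h1 : AlgSt.RepByAlgSpWith (AlgSp.LocP @Smooth)
      (BasedFunctor.comp (FibCat.fpLift x (AlgSt.overMap a) α) (swapFun f y)) :=
    repWith_comp standard_smooth htf (he (isEquivOver_swap f y))
  have h2 : AlgSt.RepByAlgSpWith (AlgSp.LocP @Smooth) (bcFun tg p f) := repWith_bcFun tg p f htg
  haveI : FibCat.IsFibGrpd (FibCat.fp (BasedFunctor.comp tg p) f).p := H9Fib.isFibGrpd_fp _ _
  have h3 : AlgSt.RepByAlgSpWith (AlgSp.LocP @Smooth)
      (BasedFunctor.comp (BasedFunctor.comp (BasedFunctor.comp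
        (BasedFunctor.comp (FibCat.fpLift x (AlgSt.overMap a) α) (swapFun f y))
        (bcFun tg p f)) (swapFun p f)) (pasteFun f g z)) :=
    repWith_comp standard_smooth (repWith_comp standard_smooth (repWith_comp standard_smooth h1 h2)
      (he (isEquivOver_swap p f))) (he (isEquivOver_paste f g z))
  obtain ⟨j⟩ := overMap_comp_iso a b
  obtain ⟨U₀, W₀, x₀, z₀, c₀, γ₀, hx₀, hxs₀, hz₀, hc₀⟩ := h
  have hab := (ASp.locP_yon_iff (a ≫ b)).1
    (prop_of_chart_square ASp.isSmoothLocalST_locP hZ.diag γ₀ hx₀ hxs₀ hz₀ hc₀ z _ h3 (a ≫ b) j (Or.inl hz))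
  rw [Over.comp_left] at hab
  haveI : LocallyOfFinitePresentation (a.left ≫ b.left) := hab
  exact ⟨V, W, y, z, b, β, hy, hys hzs, hz, (ASp.locP_yon_iff b).2 (Groth.Agent.S0114.result a.left b.left)⟩

end Groth.Agent.H9St
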