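import Groth.Agent.Lib.H1TorColim

/-!
# Balancing of Tor as bifunctors
-/

set_option autoImplicit false

universe u

open CategoryTheory CategoryTheory.Limits MonoidalCategory TensorProduct

namespace Groth.Agent.H1TorFun

variable {R : Type u} [CommRing R]

noncomputable section

/-- pairs of modules -/
abbrev MM (R : Type u) [CommRing R] := ModuleCat.{u} R × ModuleCat.{u} R

section generic

variable {L : ChainComplex (ModuleCat.{u} R) ℕ} {n : ℕ} {T : ModuleCat.{u} R} (η : L.cycles n →ₗ[R] T)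

theorem ker_homologyπ (L : ChainComplex (ModuleCat.{u} R) ℕ) (n : ℕ) :
    LinearMap.ker (L.homologyπ n).hom = LinearMap.range (L.toCycles (n + 1) n).hom := by
  refine le_antisymm (fun z hz => ?_) ?_
  · exact (ShortComplex.moduleCat_exact_iff _).1
      (ShortComplex.exact_of_g_is_cokernel (ShortComplex.mk _ _ (L.toCycles_comp_homologyπ (n + 1) n))
        (L.homologyIsCokernel (n + 1) n (by simp))) z hz
  · rintro _ ⟨v, rfl⟩
    exact congr($(L.toCycles_comp_homologyπ (n + 1) n).hom v)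

/-- homology from a presentation of the cycles -/
def homEquiv (hs : Function.Surjective η) (hk : LinearMap.ker η = LinearMap.range (L.toCycles (n + 1) n).hom) :
    L.homology n ≃ₗ[R] T :=
  (LinearMap.quotKerEquivOfSurjective (L.homologyπ n).hom ((ModuleCat.epi_iff_surjective (L.homologyπ n)).1 inferInstance)).symm ≪≫ₗ
    Submodule.quotEquivOfEq _ _ ((ker_homologyπ L n).trans hk.symm) ≪≫ₗ LinearMap.quotKerEquivOfSurjective η hs

theorem homEquiv_π (hs : Function.Surjective η) (hk : LinearMap.ker η = LinearMap.range (L.toCycles (n + 1) n).hom)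
    (z : L.cycles n) : homEquiv η hs hk ((L.homologyπ n).hom z) = η z := by
  rw [homEquiv, LinearEquiv.trans_apply, LinearEquiv.trans_apply]
  rw [show (LinearMap.quotKerEquivOfSurjective (L.homologyπ n).hom
    ((ModuleCat.epi_iff_surjective (L.homologyπ n)).1 inferInstance)).symm ((L.homologyπ n).hom z) = Submodule.Quotient.mk z from
      (LinearEquiv.symm_apply_eq _).mpr rfl]
  rfl

end generic

section natural

variable {𝒜 : Type*} [Category 𝒜]

/-- natural version -/
def homIso (L : 𝒜 ⥤ ChainComplex (ModuleCat.{u} R) ℕ) (n : ℕ) (T : 𝒜 ⥤ ModuleCat.{u} R)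
    (η : ∀ a, (L.obj a).cycles n →ₗ[R] T.obj a) (hs : ∀ a, Function.Surjective (η a))
    (hk : ∀ a, LinearMap.ker (η a) = LinearMap.range ((L.obj a).toCycles (n + 1) n).hom)
    (hn : ∀ {a b} (f : a ⟶ b) (z : (L.obj a).cycles n),
      η b ((HomologicalComplex.cyclesMap (L.map f) n).hom z) = (T.map f).hom (η a z)) :
    L ⋙ HomologicalComplex.homologyFunctor _ _ n ≅ T :=
  NatIso.ofComponents (fun a => LinearEquiv.toModuleIso
      (X₁ := (L.obj a).homology n) (X₂ := T.obj a) (homEquiv (η a) (hs a) (hk a))) fun {a b} f => by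
    refine ModuleCat.hom_ext (LinearMap.ext fun h => ?_)
    obtain ⟨z, rfl⟩ := (ModuleCat.epi_iff_surjective ((L.obj a).homologyπ n)).1 inferInstance h
    show homEquiv (η b) (hs b) (hk b) ((HomologicalComplex.homologyMap (L.map f) n).hom (((L.obj a).homologyπ n).hom z)) =
      (T.map f).hom (homEquiv (η a) (hs a) (hk a) (((L.obj a).homologyπ n).hom z))
    rw [homEquiv_π, ← hn f z, ← homEquiv_π (η b) (hs b) (hk b)]
    exact congrArg _ congr($(HomologicalComplex.homologyπ_naturality (L.map f) n).hom z)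

end natural

/-- the swap -/
abbrev sw : MM R ⥤ MM R := CategoryTheory.Prod.swap (ModuleCat.{u} R) (ModuleCat.{u} R)

/-- the tensor product bifunctor -/
def ten : MM R ⥤ ModuleCat.{u} R where
  obj X := ModuleCat.of R (X.1 ⊗[R] X.2)
  map φ := ModuleCat.ofHom (TensorProduct.map φ.1.hom φ.2.hom)
  map_id X := ModuleCat.hom_ext (TensorProduct.ext' fun a b => rfl)
  map_comp f g := ModuleCat.hom_ext (TensorProduct.ext' fun a b => rfl)

/-- apply syzygies in the first variable -/
def sh (n : ℕ) : MM R ⥤ MM R := (syz n).prod (𝟭 _)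

/-- inclusion of the syzygy, tensored -/
def inc (X : MM R) : (Ker.obj X.1) ⊗[R] X.2 →ₗ[R] (Fr.obj X.1) ⊗[R] X.2 :=
  (LinearMap.ker (eps X.1)).subtype.rTensor X.2

theorem inc_natural {X Y : MM R} (φ : X ⟶ Y) (t : (Ker.obj X.1) ⊗[R] X.2) :
    inc Y (TensorProduct.map (Ker.map φ.1).hom φ.2.hom t) = TensorProduct.map (Fr.map φ.1).hom φ.2.hom (inc X t) := by
  induction t using TensorProduct.induction_on with
  | zero => simp
  | tmul a b => rfl
  | add a b ha hb => rw [map_add, map_add, ha, hb, map_add, map_add]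

/-- the common value -/
def Psi : MM R ⥤ ModuleCat.{u} R where
  obj X := ModuleCat.of R (LinearMap.ker (inc X))
  map {X Y} φ := ModuleCat.ofHom ((TensorProduct.map (Ker.map φ.1).hom φ.2.hom).restrict fun t ht => by
    rw [LinearMap.mem_ker] at ht ⊢
    rw [inc_natural, ht, map_zero])
  map_id X := ModuleCat.hom_ext (LinearMap.ext fun t => Subtype.ext (by
    show TensorProduct.map (Ker.map (𝟙 X.1)).hom (𝟙 X.2 : X.2 ⟶ X.2).hom t.1 = t.1
    rw [CategoryTheory.Functor.map_id]
    exact congr($(TensorProduct.map_id (R := R) (M := Ker.obj X.1) (N := X.2)) t.1)))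
  map_comp {X Y Z} f g := ModuleCat.hom_ext (LinearMap.ext fun t => Subtype.ext (by
    show TensorProduct.map (Ker.map (f.1 ≫ g.1)).hom (f.2 ≫ g.2).hom t.1 =
      TensorProduct.map (Ker.map g.1).hom g.2.hom (TensorProduct.map (Ker.map f.1).hom f.2.hom t.1)
    rw [Functor.map_comp, ModuleCat.hom_comp, ModuleCat.hom_comp, TensorProduct.map_comp]
    rfl))

/-- the terms of `cx2` -/
abbrev Tm (X : MM R) (i : ℕ) : Type u := X.1 ⊗[R] (Fr.obj ((syz i).obj X.2))

/-- the differential, tensored -/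
def dT (X : MM R) (i : ℕ) : Tm X (i + 1) →ₗ[R] Tm X i := (dd X.2 i).hom.lTensor X.1

/-- the degree-`i` map of `cx2` -/
def fT {X Y : MM R} (φ : X ⟶ Y) (i : ℕ) : Tm X i →ₗ[R] Tm Y i :=
  TensorProduct.map φ.1.hom (Fr.map ((syz i).map φ.2)).hom

theorem cx2_map_f {X Y : MM R} (φ : X ⟶ Y) (i : ℕ) : ((cx2.map φ).f i).hom = (fT φ i : Tm X i →ₗ[R] Tm Y i) :=
  TensorProduct.ext' fun a b => rfl

theorem cx2_d (X : MM R) (i : ℕ) : ((cx2.obj X).d (i + 1) i).hom = (dT X i : Tm X (i + 1) →ₗ[R] Tm X i) := by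
  show (((tL X.1).obj (cxObj X.2)).d (i + 1) i).hom = _
  rw [Functor.mapHomologicalComplex_obj_d, cxObj_d]
  rfl

/-- cycles inside the terms -/
def ie (X : MM R) (i : ℕ) : (cx2.obj X).cycles i →ₗ[R] Tm X i := ((cx2.obj X).iCycles i).hom

theorem ie_injective (X : MM R) (i : ℕ) : Function.Injective (ie X i) :=
  (ModuleCat.mono_iff_injective ((cx2.obj X).iCycles i)).1 inferInstance

theorem ie_zero (X : MM R) (y : Tm X 0) : ∃ z, ie X 0 z = y :=
  ⟨(cx2.obj X).cyclesMk y 0 (by simp) (by rw [HomologicalComplex.shape _ 0 0 (by simp)]; rfl),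
    (cx2.obj X).i_cyclesMk y 0 (by simp) _⟩

theorem ie_succ (X : MM R) (i : ℕ) (y : Tm X (i + 1)) (hy : dT X i y = 0) : ∃ z, ie X (i + 1) z = y :=
  ⟨(cx2.obj X).cyclesMk y i (by simp) ((congr($(cx2_d X i) y)).trans hy), (cx2.obj X).i_cyclesMk y i (by simp) _⟩

theorem dT_ie (X : MM R) (i : ℕ) (z : (cx2.obj X).cycles (i + 1)) : dT X i (ie X (i + 1) z) = 0 :=
  (congr($(cx2_d X i) _)).symm.trans congr($((cx2.obj X).iCycles_d (i + 1) i).hom z)

theorem mem_range_toCycles (X : MM R) (i : ℕ) (z : (cx2.obj X).cycles i) :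
    z ∈ LinearMap.range ((cx2.obj X).toCycles (i + 1) i).hom ↔ ∃ v : Tm X (i + 1), dT X i v = ie X i z := by
  constructor
  · rintro ⟨v, rfl⟩
    exact ⟨v, ((congr($((cx2.obj X).toCycles_i (i + 1) i).hom v)).trans congr($(cx2_d X i) v)).symm⟩
  · rintro ⟨v, hv⟩
    exact ⟨v, ie_injective X i (((congr($((cx2.obj X).toCycles_i (i + 1) i).hom v)).trans congr($(cx2_d X i) v)).trans hv)⟩

theorem ie_map {X Y : MM R} (φ : X ⟶ Y) (i : ℕ) (z : (cx2.obj X).cycles i) :
    ie Y i ((HomologicalComplex.cyclesMap (cx2.map φ) i).hom z) = fT φ i (ie X i z) :=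
  (congr($(HomologicalComplex.cyclesMap_i (cx2.map φ) i).hom z)).trans congr($(cx2_map_f φ i) _)

theorem exact_dd (M : ModuleCat.{u} R) (i : ℕ) : Function.Exact (dd M i).hom (eps ((syz i).obj M)) := fun y => by
  refine ⟨fun hy => ?_, ?_⟩
  · obtain ⟨w, hw⟩ := eps_surjective ((syz (i + 1)).obj M) ⟨y, hy⟩
    exact ⟨w, congrArg Subtype.val hw⟩
  · rintro ⟨w, rfl⟩
    exact LinearMap.mem_ker.mp (eps ((syz (i + 1)).obj M) w).2

/-- `X₁ ⊗ F_i → X₁ ⊗ K^i X₂` -/
def aT (X : MM R) (i : ℕ) : Tm X i →ₗ[R] X.1 ⊗[R] ((syz i).obj X.2) := (eps ((syz i).obj X.2)).lTensor X.1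

theorem aT_surjective (X : MM R) (i : ℕ) : Function.Surjective (aT X i) :=
  LinearMap.lTensor_surjective X.1 (eps_surjective _)

theorem aT_exact (X : MM R) (i : ℕ) : Function.Exact (dT X i) (aT X i) :=
  lTensor_exact X.1 (exact_dd X.2 i) (eps_surjective _)

theorem aT_natural {X Y : MM R} (φ : X ⟶ Y) (i : ℕ) (t : Tm X i) :
    aT Y i (fT φ i t) = TensorProduct.map φ.1.hom ((syz i).map φ.2).hom (aT X i t) := by
  induction t using TensorProduct.induction_on with
  | zero => simp only [map_zero]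
  | tmul a b => exact congrArg (φ.1.hom a ⊗ₜ[R] ·) (eps_natural ((syz i).map φ.2) b)
  | add a b ha hb => simp only [map_add, ha, hb]

/-- `H₀` -/
def isoZero : B (R := R) 0 ≅ ten :=
  homIso cx2 0 ten (fun X => (aT X 0).comp (ie X 0))
    (fun X t => by
      obtain ⟨y, hy⟩ := aT_surjective X 0 t
      obtain ⟨z, rfl⟩ := ie_zero X y
      exact ⟨z, hy⟩)
    (fun X => Submodule.ext fun z =>
      ((aT_exact X 0) (ie X 0 z)).trans (mem_range_toCycles X 0 z).symm)
    (fun {X Y} φ z => (congrArg (aT Y 0) (ie_map φ 0 z)).trans (aT_natural φ 0 _))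

theorem inc_comm (n : ℕ) (X : MM R) (t : Tm (sw.obj X) (n + 1)) :
    inc ((sh n).obj X) (TensorProduct.comm R X.2 ((syz (n + 1)).obj X.1) (aT (sw.obj X) (n + 1) t)) =
      TensorProduct.comm R X.2 (Fr.obj ((syz n).obj X.1)) (dT (sw.obj X) n t) := by
  have e : (inc ((sh n).obj X)).comp ((TensorProduct.comm R X.2 ((syz (n + 1)).obj X.1)).toLinearMap.comp
      (aT (sw.obj X) (n + 1))) = (TensorProduct.comm R X.2 (Fr.obj ((syz n).obj X.1))).toLinearMap.comp (dT (sw.obj X) n) :=
    TensorProduct.ext' fun a b => rfl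
  exact congr($e t)

/-- `η` on the flipped side -/
def eta1 (n : ℕ) (X : MM R) : (cx2.obj (sw.obj X)).cycles (n + 1) →ₗ[R] (sh n ⋙ Psi).obj X :=
  ((TensorProduct.comm R X.2 ((syz (n + 1)).obj X.1)).toLinearMap.comp
    ((aT (sw.obj X) (n + 1)).comp (ie (sw.obj X) (n + 1)))).codRestrict (LinearMap.ker (inc ((sh n).obj X))) fun z =>
      (inc_comm n X _).trans ((congrArg _ (dT_ie (sw.obj X) n z)).trans (map_zero _))

/-- flipped side -/
def isoSwap (n : ℕ) : sw ⋙ B (R := R) (n + 1) ≅ sh n ⋙ Psi :=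
  homIso (sw ⋙ cx2) (n + 1) (sh n ⋙ Psi) (eta1 n)
    (fun X t => by
      obtain ⟨y, hy⟩ := aT_surjective (sw.obj X) (n + 1) ((TensorProduct.comm R X.2 ((syz (n + 1)).obj X.1)).symm t.1)
      have hd : dT (sw.obj X) n y = 0 := by
        apply (TensorProduct.comm R X.2 (Fr.obj ((syz n).obj X.1))).injective
        refine ((inc_comm n X y).symm.trans ?_).trans (map_zero _).symm
        refine (congrArg (inc ((sh n).obj X)) ((congrArg _ hy).trans ((TensorProduct.comm R X.2 ((syz (n + 1)).obj X.1)).apply_symm_apply t.1))).trans ?_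
        exact t.2
      obtain ⟨z, rfl⟩ := ie_succ (sw.obj X) n y hd
      exact ⟨z, Subtype.ext ((congrArg _ hy).trans ((TensorProduct.comm R X.2 ((syz (n + 1)).obj X.1)).apply_symm_apply t.1))⟩)
    (fun X => Submodule.ext fun z => by
      refine Iff.trans ?_ ((aT_exact (sw.obj X) (n + 1) (ie (sw.obj X) (n + 1) z)).trans
        (mem_range_toCycles (sw.obj X) (n + 1) z).symm)
      exact ⟨fun h => (TensorProduct.comm R X.2 ((syz (n + 1)).obj X.1)).injective ((congrArg Subtype.val h).trans (map_zero _).symm),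
        fun h => Subtype.ext ((congrArg _ h).trans (map_zero _))⟩)
    (fun {X Y} φ z => Subtype.ext <|
      (congrArg _ ((congrArg (aT (sw.obj Y) (n + 1)) (ie_map (sw.map φ) (n + 1) z)).trans (aT_natural (sw.map φ) (n + 1) _))).trans
        ((TensorProduct.map_comm _ _ _).symm))

section shift

/-- `(M, N) ↦ (F M, N)` -/
def frShift : MM R ⥤ MM R := Fr.prod (𝟭 _)

/-- `(M, N) ↦ (K M, N)` -/
def kerShift : MM R ⥤ MM R := Ker.prod (𝟭 _)

/-- `K M → F M` -/
def incHom (X : MM R) : (kerShift.obj X) ⟶ (frShift.obj X) :=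
  (Prod.mkHom (ModuleCat.ofHom (LinearMap.ker (eps X.1)).subtype) (𝟙 X.2) : _)

/-- `F M → M` -/
def epsHom (X : MM R) : (frShift.obj X) ⟶ X :=
  (Prod.mkHom (ModuleCat.ofHom (eps X.1)) (𝟙 X.2) : _)

theorem incHom_natural {X Y : MM R} (φ : X ⟶ Y) : kerShift.map φ ≫ incHom Y = incHom X ≫ frShift.map φ :=
  Prod.hom_ext (ModuleCat.hom_ext (LinearMap.ext fun _ => rfl)) ((Category.comp_id _).trans (Category.id_comp _).symm)

theorem epsHom_natural {X Y : MM R} (φ : X ⟶ Y) : frShift.map φ ≫ epsHom Y = epsHom X ≫ φ :=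
  Prod.hom_ext (ModuleCat.hom_ext (LinearMap.ext fun x => eps_natural φ.1 x)) ((Category.comp_id _).trans (Category.id_comp _).symm)

theorem fT_incHom (X : MM R) (i : ℕ) :
    fT (incHom X) i = ((LinearMap.ker (eps X.1)).subtype.rTensor (Fr.obj ((syz i).obj X.2)) :
      Tm (kerShift.obj X) i →ₗ[R] Tm (frShift.obj X) i) := by
  show TensorProduct.map _ (Fr.map ((syz i).map (𝟙 X.2))).hom = _
  rw [CategoryTheory.Functor.map_id, CategoryTheory.Functor.map_id]
  rfl

theorem fT_epsHom (X : MM R) (i : ℕ) :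
    fT (epsHom X) i = ((eps X.1).rTensor (Fr.obj ((syz i).obj X.2)) : Tm (frShift.obj X) i →ₗ[R] Tm X i) := by
  show TensorProduct.map _ (Fr.map ((syz i).map (𝟙 X.2))).hom = _
  rw [CategoryTheory.Functor.map_id, CategoryTheory.Functor.map_id]
  rfl

/-- the short complex -/
def sc (X : MM R) : ShortComplex (ChainComplex (ModuleCat.{u} R) ℕ) :=
  ShortComplex.mk (cx2.map (incHom X)) (cx2.map (epsHom X)) (by
    ext i : 1
    refine ModuleCat.hom_ext ?_
    show ((cx2.map (epsHom X)).f i).hom.comp ((cx2.map (incHom X)).f i).hom = 0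
    rw [cx2_map_f, cx2_map_f, fT_incHom, fT_epsHom]
    refine (LinearMap.rTensor_comp _ _ _).symm.trans ?_
    rw [LinearMap.comp_ker_subtype, LinearMap.rTensor_zero]
    rfl)

theorem sc_shortExact (X : MM R) : (sc X).ShortExact :=
  HomologicalComplex.shortExact_of_degreewise_shortExact (sc X) fun i => by
    haveI : Module.Flat R ((cxObj X.2).X i) := inferInstanceAs (Module.Flat R (_ →₀ R))
    refine { exact := ?_, mono_f := ?_, epi_g := ?_ }
    · rw [ShortComplex.ShortExact.moduleCat_exact_iff_function_exact]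
      intro t
      show ((cx2.map (epsHom X)).f i).hom t = 0 ↔ t ∈ Set.range ((cx2.map (incHom X)).f i).hom
      rw [cx2_map_f, cx2_map_f, fT_incHom, fT_epsHom]
      exact rTensor_exact ((cxObj X.2).X i) (LinearMap.exact_subtype_ker_map _) (eps_surjective X.1) t
    · refine (ModuleCat.mono_iff_injective _).2 ?_
      show Function.Injective ((cx2.map (incHom X)).f i).hom
      rw [cx2_map_f, fT_incHom]
      exact Module.Flat.rTensor_preserves_injective_linearMap (M := (cxObj X.2).X i) (LinearMap.ker (eps X.1)).subtype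
        (Submodule.injective_subtype _)
    · refine (ModuleCat.epi_iff_surjective _).2 ?_
      show Function.Surjective ((cx2.map (epsHom X)).f i).hom
      rw [cx2_map_f, fT_epsHom]
      exact LinearMap.rTensor_surjective _ (eps_surjective X.1)

/-- maps of short complexes -/
def scMap {X Y : MM R} (φ : X ⟶ Y) : sc X ⟶ sc Y :=
  ShortComplex.homMk (cx2.map (kerShift.map φ)) (cx2.map (frShift.map φ)) (cx2.map φ)
    (by show cx2.map _ ≫ cx2.map _ = cx2.map _ ≫ cx2.map _
        rw [← Functor.map_comp, ← Functor.map_comp, incHom_natural])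
    (by show cx2.map _ ≫ cx2.map _ = cx2.map _ ≫ cx2.map _
        rw [← Functor.map_comp, ← Functor.map_comp, epsHom_natural])

theorem isZero_fr (X : MM R) (i : ℕ) : IsZero ((sc X).X₂.homology (i + 1)) := by
  refine HomologicalComplex.ExactAt.isZero_homology ?_
  rw [HomologicalComplex.exactAt_iff' _ (i + 2) (i + 1) i (by simp) (by simp),
    ShortComplex.ShortExact.moduleCat_exact_iff_function_exact]
  show Function.Exact ((cx2.obj (frShift.obj X)).d (i + 1 + 1) (i + 1)).hom ((cx2.obj (frShift.obj X)).d (i + 1) i).hom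
  rw [cx2_d, cx2_d]
  haveI : Module.Flat R (frShift.obj X).1 := inferInstanceAs (Module.Flat R (_ →₀ R))
  refine Module.Flat.lTensor_exact _ ?_
  intro y
  refine ⟨fun hy => (exact_dd _ (i + 1) y).mp (Subtype.ext hy), fun hy => ?_⟩
  show (eps ((syz (i + 1)).obj _) y).1 = 0
  rw [(exact_dd _ (i + 1) y).mpr hy]
  rfl

/-- dimension shift -/
def isoShift (n : ℕ) : kerShift ⋙ B (R := R) (n + 1) ≅ B (n + 2) :=
  (NatIso.ofComponents
    (fun X => (sc_shortExact X).δIso (n + 2) (n + 1) rfl (isZero_fr X (n + 1)) (isZero_fr X n))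
    fun {X Y} φ => (HomologicalComplex.HomologySequence.δ_naturality (scMap φ) (sc_shortExact X) (sc_shortExact Y)
      (n + 2) (n + 1) rfl).symm).symm

/-- the connecting map to `K M ⊗ N` -/
def chi (X : MM R) : (B (R := R) 1).obj X ⟶ ten.obj (kerShift.obj X) :=
  (sc_shortExact X).δ 1 0 rfl ≫ isoZero.hom.app (kerShift.obj X)

theorem chi_natural {X Y : MM R} (φ : X ⟶ Y) : (B 1).map φ ≫ chi Y = chi X ≫ ten.map (kerShift.map φ) := by
  show _ ≫ (sc_shortExact Y).δ 1 0 rfl ≫ _ = ((sc_shortExact X).δ 1 0 rfl ≫ _) ≫ _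
  refine Eq.trans ?_ (Category.assoc _ _ _).symm
  refine ((Category.assoc _ _ _).symm.trans (congrArg (· ≫ _)
    (HomologicalComplex.HomologySequence.δ_naturality (scMap φ) (sc_shortExact X) (sc_shortExact Y) 1 0 rfl).symm)).trans ?_
  refine (Category.assoc _ _ _).trans ?_
  exact congrArg (_ ≫ ·) (isoZero.hom.naturality (kerShift.map φ))

theorem chi_injective (X : MM R) : Function.Injective (chi X).hom := by
  haveI : Mono ((sc_shortExact X).δ 1 0 rfl) := (sc_shortExact X).mono_δ 1 0 rfl (isZero_fr X 0)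
  exact (ConcreteCategory.bijective_of_isIso (isoZero.hom.app (kerShift.obj X))).1.comp
    ((ModuleCat.mono_iff_injective _).1 ((sc_shortExact X).mono_δ 1 0 rfl (isZero_fr X 0)))

theorem inc_eq (X : MM R) (t : (Ker.obj X.1) ⊗[R] X.2) : (ten.map (incHom X)).hom t = inc X t := rfl

theorem chi_range (X : MM R) : LinearMap.range (chi X).hom = LinearMap.ker (inc X) := by
  have hex := (ShortComplex.moduleCat_exact_iff _).1 ((sc_shortExact X).homology_exact₁ 1 0 rfl)
  have hnat : ∀ h, (isoZero.hom.app (frShift.obj X)).hom ((HomologicalComplex.homologyMap (cx2.map (incHom X)) 0).hom h) =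
      (ten.map (incHom X)).hom ((isoZero.hom.app (kerShift.obj X)).hom h) := fun h =>
    congr($(isoZero.hom.naturality (incHom X)).hom h)
  refine le_antisymm ?_ fun t ht => ?_
  · rintro _ ⟨h, rfl⟩
    show inc X ((isoZero.hom.app (kerShift.obj X)).hom (((sc_shortExact X).δ 1 0 rfl).hom h)) = 0
    refine (inc_eq X _).symm.trans ((hnat _).symm.trans ?_)
    exact (congrArg _ congr($((sc_shortExact X).δ_comp 1 0 rfl).hom h)).trans (map_zero _)
  · obtain ⟨h, rfl⟩ := (ConcreteCategory.bijective_of_isIso (isoZero.hom.app (kerShift.obj X))).2 t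
    have h0 : (HomologicalComplex.homologyMap (cx2.map (incHom X)) 0).hom h = 0 := by
      apply (ConcreteCategory.bijective_of_isIso (isoZero.hom.app (frShift.obj X))).1
      exact (hnat h).trans ((inc_eq X _).trans (ht.trans (map_zero _).symm))
    obtain ⟨w, rfl⟩ := hex h h0
    exact ⟨w, rfl⟩

/-- degree one -/
def isoOne : B (R := R) 1 ≅ Psi :=
  NatIso.ofComponents (fun X => LinearEquiv.toModuleIso (X₁ := (B 1).obj X) (X₂ := Psi.obj X)
      ((LinearEquiv.ofInjective (chi X).hom (chi_injective X)).trans (LinearEquiv.ofEq _ _ (chi_range X))))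
    fun {X Y} φ => ModuleCat.hom_ext (LinearMap.ext fun h => Subtype.ext congr($(chi_natural φ).hom h))

/-- `sh 0` -/
def shZero : sh (R := R) 0 ≅ 𝟭 _ :=
  NatIso.ofComponents (fun _ => Iso.refl _) fun _ => (Category.comp_id _).trans (Category.id_comp _).symm

/-- `sh (n + 1)` -/
def shSucc (n : ℕ) : sh (R := R) (n + 1) ≅ sh n ⋙ kerShift :=
  NatIso.ofComponents (fun _ => Iso.refl _) fun _ => (Category.comp_id _).trans (Category.id_comp _).symm

/-- iterated shift -/
def isoIter : (n j : ℕ) → (sh n ⋙ B (R := R) (j + 1) ≅ B (n + j + 1))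
  | 0, j => Functor.isoWhiskerRight shZero (B (j + 1)) ≪≫ Functor.leftUnitor _ ≪≫ eqToIso (by rw [Nat.zero_add])
  | n + 1, j =>
    Functor.isoWhiskerRight (shSucc n) (B (j + 1)) ≪≫ Functor.associator _ _ _ ≪≫
      Functor.isoWhiskerLeft (sh n) (isoShift j) ≪≫ isoIter n (j + 1) ≪≫ eqToIso (by congr 1; omega)

/-- balancing -/
def isoBal : (n : ℕ) → (B (R := R) n ≅ sw ⋙ B n)
  | 0 => isoZero ≪≫ (NatIso.ofComponents (fun X => (TensorProduct.comm R X.1 X.2).toModuleIso)
      (fun {X Y} φ => ModuleCat.hom_ext (TensorProduct.ext' fun a b => rfl)) : ten ≅ sw ⋙ ten) ≪≫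
      (Functor.isoWhiskerLeft sw isoZero).symm
  | n + 1 => (isoIter n 0).symm ≪≫ Functor.isoWhiskerLeft (sh n) isoOne ≪≫ (isoSwap n).symm

/-- `Tor` is symmetric -/
def torFlip (n : ℕ) : Tor (ModuleCat.{u} R) n ≅ (Tor (ModuleCat.{u} R) n).flip :=
  torIso n ≪≫ Functor.curry.mapIso (isoBal n) ≪≫
    (NatIso.ofComponents (fun M => NatIso.ofComponents (fun N => Iso.refl _)
      (fun {N N'} g => (Category.comp_id _).trans (Category.id_comp _).symm))
      (fun {M M'} f => by ext N : 2; exact (Category.comp_id _).trans (Category.id_comp _).symm) :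
      Functor.curry.obj (sw ⋙ B n) ≅ (Functor.curry.obj (B n)).flip) ≪≫
    ((flipFunctor _ _ _).mapIso (torIso n)).symm

end shift

end

end Groth.Agent.H1TorFun
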