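import Groth.Agent.Lib.H1TorBal
import Groth.Agent.Lib.H1TorFlip

/-!
# Base change for Tor
-/

set_option autoImplicit false

universe u

open CategoryTheory CategoryTheory.Limits MonoidalCategory TensorProduct

namespace Groth.Agent.H1TorBC

open Groth.Agent.H1TorRes Groth.Agent.H1TorBal

noncomputable section

section homology

variable {A A' : Type u} [CommRing A] [CommRing A'] {σ : A →+* A'}
  (L : ChainComplex (ModuleCat.{u} A) ℕ) (L' : ChainComplex (ModuleCat.{u} A') ℕ)
  (ψ : ∀ i, L.X i →ₛₗ[σ] L'.X i) (hb : ∀ i, Function.Bijective (ψ i))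
  (hd : ∀ i j (x : L.X i), ψ j ((L.d i j).hom x) = (L'.d i j).hom (ψ i x))
include hb hd

theorem exists_semilinear_homology (n : ℕ) : ∃ φ : L.homology n →ₛₗ[σ] L'.homology n, Function.Bijective φ := by
  have hi : Function.Injective (L.iCycles n).hom := (ModuleCat.mono_iff_injective _).1 inferInstance
  have hi' : Function.Injective (L'.iCycles n).hom := (ModuleCat.mono_iff_injective _).1 inferInstance
  let q := (ComplexShape.down ℕ).next n
  have hex : ∀ z : L.cycles n, ∃ w : L'.cycles n, (L'.iCycles n).hom w = ψ n ((L.iCycles n).hom z) := fun z =>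
    have h0 : (L'.d n q).hom (ψ n ((L.iCycles n).hom z)) = 0 :=
      (hd n q _).symm.trans ((congrArg (ψ q) congr($(L.iCycles_d n q).hom z)).trans (map_zero _))
    ⟨L'.cyclesMk _ q rfl h0, L'.i_cyclesMk _ q rfl h0⟩
  choose ζ hζ using hex
  let ζL : L.cycles n →ₛₗ[σ] L'.cycles n :=
    { toFun := ζ
      map_add' := fun a b => hi' (by rw [map_add, hζ, hζ, hζ, map_add, map_add])
      map_smul' := fun c a => hi' (by rw [map_smul, hζ, hζ, map_smul, (ψ n).map_smulₛₗ]) }
  have hζb : Function.Surjective ζL := fun w => by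
    obtain ⟨x, hx⟩ := (hb n).2 ((L'.iCycles n).hom w)
    have h0 : (L.d n q).hom x = 0 := (hb q).1 (by
      rw [hd, hx, map_zero]; exact congr($(L'.iCycles_d n q).hom w))
    refine ⟨L.cyclesMk x q rfl h0, hi' ?_⟩
    exact (hζ _).trans ((congrArg (ψ n) (L.i_cyclesMk x q rfl h0)).trans hx)
  let g : L.cycles n →ₛₗ[σ] L'.homology n := (L'.homologyπ n).hom.comp ζL
  have hπ := (ModuleCat.epi_iff_surjective (L.homologyπ n)).1 inferInstance
  have hπ' := (ModuleCat.epi_iff_surjective (L'.homologyπ n)).1 inferInstance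
  have hker : LinearMap.ker g = LinearMap.ker (L.homologyπ n).hom := by
    ext z
    show (L'.homologyπ n).hom (ζL z) = 0 ↔ _
    rw [← LinearMap.mem_ker, H1TorFun.ker_homologyπ, H1TorFun.ker_homologyπ]
    constructor
    · rintro ⟨v', hv'⟩
      obtain ⟨v, rfl⟩ := (hb (n + 1)).2 v'
      refine ⟨v, hi ((hb n).1 ?_)⟩
      refine (congrArg (ψ n) congr($(L.toCycles_i (n + 1) n).hom v)).trans ((hd (n + 1) n v).trans ?_)
      refine (congr($(L'.toCycles_i (n + 1) n).hom (ψ (n + 1) v))).symm.trans ?_
      exact (congrArg (L'.iCycles n).hom hv').trans (hζ z)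
    · rintro ⟨v, rfl⟩
      refine ⟨ψ (n + 1) v, hi' ?_⟩
      refine (congr($(L'.toCycles_i (n + 1) n).hom (ψ (n + 1) v))).trans ((hd (n + 1) n v).symm.trans ?_)
      exact (congrArg (ψ n) congr($(L.toCycles_i (n + 1) n).hom v)).symm.trans (hζ _).symm
  let e := (LinearMap.quotKerEquivOfSurjective (L.homologyπ n).hom hπ).symm
  let h : (L.cycles n ⧸ LinearMap.ker (L.homologyπ n).hom) →ₛₗ[σ] L'.homology n :=
    (LinearMap.ker (L.homologyπ n).hom).liftQ g hker.ge
  refine ⟨h.comp e.toLinearMap, ?_, ?_⟩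
  · intro a b hab
    apply e.injective
    have hz : ∀ x, h x = 0 → x = 0 := fun x hx => by
      obtain ⟨z, rfl⟩ := Submodule.mkQ_surjective _ x
      exact (Submodule.Quotient.mk_eq_zero _).mpr (hker ▸ LinearMap.mem_ker.mpr hx)
    exact sub_eq_zero.mp (hz _ ((map_sub h _ _).trans (sub_eq_zero.mpr hab)))
  · intro w
    obtain ⟨w', rfl⟩ := hπ' w
    obtain ⟨z, rfl⟩ := hζb w'
    exact ⟨(L.homologyπ n).hom z, congrArg h ((LinearEquiv.symm_apply_eq _).mpr rfl : e _ = Submodule.Quotient.mk z)⟩

end homology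

section base

variable {A : Type u} [CommRing A] (A' : Type u) [CommRing A'] [Algebra A A'] {X : ModuleCat.{u} A}
  (R : ProjectiveResolution X)

/-- `A' ⊗ R` -/
def bcc : ChainComplex (ModuleCat.{u} A') ℕ :=
  ChainComplex.of (fun i => ModuleCat.of A' (A' ⊗[A] cF R.complex i))
    (fun i => ModuleCat.ofHom ((cd R.complex i).baseChange A'))
    (fun i => ModuleCat.hom_ext (by
      show ((cd R.complex i).baseChange A').comp ((cd R.complex (i + 1)).baseChange A') = 0
      rw [← LinearMap.baseChange_comp, cd_comp, LinearMap.baseChange_zero]))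

theorem bcc_d (i : ℕ) : (bcc A' R).d (i + 1) i = ModuleCat.ofHom ((cd R.complex i).baseChange A') := by
  simp [bcc]

theorem bcc_w : (bcc A' R).d 1 0 ≫ ModuleCat.ofHom ((augm R).baseChange A') = 0 := by
  rw [bcc_d]
  refine ModuleCat.hom_ext ?_
  show ((augm R).baseChange A').comp ((cd R.complex 0).baseChange A') = 0
  rw [← LinearMap.baseChange_comp, (aug_exact R).linearMap_comp_eq_zero, LinearMap.baseChange_zero]

variable (h : ∀ i, Ex (cd R.complex) A' (i + 1))

include h in
theorem exact_bcc (i : ℕ) : Function.Exact ((cd R.complex (i + 1)).baseChange A') ((cd R.complex i).baseChange A') := by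
  intro x
  refine ⟨fun hx => h i x hx, ?_⟩
  rintro ⟨y, rfl⟩
  rw [← LinearMap.comp_apply, ← LinearMap.baseChange_comp, cd_comp, LinearMap.baseChange_zero, LinearMap.zero_apply]

include h in
theorem exists_res : ∃ Q : ProjectiveResolution (ModuleCat.of A' (A' ⊗[A] X)), Q.complex = bcc A' R := by
  refine ⟨{
    complex := bcc A' R
    projective := fun n => ?_
    π := (ChainComplex.toSingle₀Equiv _ _).symm ⟨ModuleCat.ofHom ((augm R).baseChange A'), bcc_w A' R⟩
    quasiIso := ⟨fun n => ?_⟩ }, rfl⟩
  · haveI : Module.Projective A (cF R.complex n) := (IsProjective.iff_projective _).2 (R.projective n)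
    exact (IsProjective.iff_projective (R := A') (A' ⊗[A] cF R.complex n)).1 inferInstance
  · cases n with
    | zero =>
      rw [ChainComplex.quasiIsoAt₀_iff, ShortComplex.quasiIso_iff_of_zeros']
      · refine (ShortComplex.exact_and_epi_g_iff_of_iso (S₁ := ShortComplex.mk ((bcc A' R).d 1 0) (ModuleCat.ofHom ((augm R).baseChange A')) (bcc_w A' R)) ?_).1 ⟨?_, ?_⟩
        · exact ShortComplex.isoMk (Iso.refl _) (Iso.refl _) (Iso.refl _) (by dsimp; exact (Category.id_comp _).trans (Category.comp_id _).symm) (by dsimp; exact (Category.id_comp _).trans ((ChainComplex.toSingle₀Equiv_symm_apply_f_zero _ (bcc_w A' R)).trans (Category.comp_id _).symm))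
        · rw [ShortComplex.moduleCat_exact_iff]
          intro x hx
          obtain ⟨y, hy⟩ := (lTensor_exact A' (aug_exact R) (aug_surjective R) x).mp hx
          refine ⟨y, ?_⟩
          show ((bcc A' R).d (0 + 1) 0).hom y = x
          rw [bcc_d]
          exact hy
        · exact (ModuleCat.epi_iff_surjective _).mpr (LinearMap.lTensor_surjective A' (aug_surjective R))
      all_goals rfl
    | succ n =>
      rw [quasiIsoAt_iff_exactAt']
      · rw [HomologicalComplex.exactAt_iff' _ (n + 1 + 1) (n + 1) n (by simp) (by simp), ShortComplex.moduleCat_exact_iff]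
        intro x hx
        change ((bcc A' R).d (n + 1) n).hom x = 0 at hx
        rw [bcc_d] at hx
        obtain ⟨y, hy⟩ := (exact_bcc A' R h n x).mp hx
        refine ⟨y, ?_⟩
        show ((bcc A' R).d (n + 1 + 1) (n + 1)).hom y = x
        rw [bcc_d]
        exact hy
      · exact ChainComplex.exactAt_succ_single_obj _ n

variable (P : Type u) [AddCommGroup P] [Module A' P] [Module A P] [IsScalarTower A A' P]

include h in
/-- `Tor^A(P, X) → Tor^{A'}(P, A' ⊗ X)` -/
theorem exists_tor_semilinear (n : ℕ) :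
    ∃ φ : (((Tor (ModuleCat.{u} A) n).obj (ModuleCat.of A P)).obj X) →ₛₗ[algebraMap A A']
      (((Tor (ModuleCat.{u} A') n).obj (ModuleCat.of A' P)).obj (ModuleCat.of A' (A' ⊗[A] X))), Function.Bijective φ := by
  obtain ⟨Q, hQ⟩ := exists_res A' R h
  let L := ((((tensoringLeft (ModuleCat.{u} A)).obj (ModuleCat.of A P))).mapHomologicalComplex (ComplexShape.down ℕ)).obj R.complex
  let L' := ((((tensoringLeft (ModuleCat.{u} A')).obj (ModuleCat.of A' P))).mapHomologicalComplex (ComplexShape.down ℕ)).obj (bcc A' R)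
  let e : ∀ i, (P ⊗[A'] (A' ⊗[A] cF R.complex i)) ≃ₗ[A'] P ⊗[A] cF R.complex i :=
    fun i => AlgebraTensorModule.cancelBaseChange A A' A' P (cF R.complex i)
  let ψ : ∀ i, L.X i →ₛₗ[algebraMap A A'] L'.X i := fun i =>
    { toFun := (e i).symm
      map_add' := (e i).symm.map_add
      map_smul' := fun c x => by
        show (e i).symm (c • (show P ⊗[A] cF R.complex i from x)) = algebraMap A A' c • (e i).symm x
        rw [algebraMap_smul, ← LinearEquiv.coe_coe, LinearMap.map_smul_of_tower] }
  have hd : ∀ i j (x : L.X i), ψ j ((L.d i j).hom x) = (L'.d i j).hom (ψ i x) := by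
    intro i j x
    by_cases hij : j + 1 = i
    · subst hij
      have e1 : (L.d (j + 1) j).hom = ((cd R.complex j).lTensor P : P ⊗[A] cF R.complex (j + 1) →ₗ[A] P ⊗[A] cF R.complex j) := rfl
      have e2 : (L'.d (j + 1) j).hom = (((cd R.complex j).baseChange A').lTensor P :
          P ⊗[A'] (A' ⊗[A] cF R.complex (j + 1)) →ₗ[A'] P ⊗[A'] (A' ⊗[A] cF R.complex j)) := by
        show ((((tensoringLeft (ModuleCat.{u} A')).obj (ModuleCat.of A' P))).map ((bcc A' R).d (j + 1) j)).hom = _
        rw [bcc_d]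
        rfl
      rw [e1, e2]
      show (e j).symm ((cd R.complex j).lTensor P x) = ((cd R.complex j).baseChange A').lTensor P ((e (j + 1)).symm x)
      change P ⊗[A] cF R.complex (j + 1) at x
      induction x using TensorProduct.induction_on with
      | zero => simp only [map_zero]
      | tmul a b => simp [e]
      | add a b ha hb => simp only [map_add, ha, hb]
    · rw [L.shape i j hij, L'.shape i j hij]
      exact map_zero _
  obtain ⟨φ, hφ⟩ := exists_semilinear_homology L L' ψ (fun i => (e i).symm.bijective) hd n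
  obtain ⟨Qc, Qp, Qπ, _⟩ := Q
  obtain rfl : Qc = bcc A' R := hQ
  let Q' : ProjectiveResolution (ModuleCat.of A' (A' ⊗[A] X)) :=
    { complex := bcc A' R, projective := Qp, π := Qπ }
  let i1 := (R.isoLeftDerivedObj ((tensoringLeft (ModuleCat.{u} A)).obj (ModuleCat.of A P)) n).toLinearEquiv
  let i2 := (Q'.isoLeftDerivedObj ((tensoringLeft (ModuleCat.{u} A')).obj (ModuleCat.of A' P)) n).toLinearEquiv
  exact ⟨(i2.symm.toLinearMap.comp φ).comp i1.toLinearMap,
    (i2.symm.bijective.comp hφ).comp i1.bijective⟩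

end base

end

end Groth.Agent.H1TorBC
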