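import Groth.Agent.Lib.H1TorRes

/-!
# Balancing of Tor vanishing, and dévissage for tensored flat complexes
-/

set_option autoImplicit false

universe u

open TensorProduct CategoryTheory CategoryTheory.Limits MonoidalCategory

namespace Groth.Agent.H1TorBal

open Groth.Agent.H1TorRes

section LES

variable {A : Type u} [CommRing A] {F : ℕ → Type u} [∀ i, AddCommGroup (F i)] [∀ i, Module A (F i)]
  [∀ i, Module.Flat A (F i)]
variable (d : ∀ i, F (i + 1) →ₗ[A] F i)
variable {K L N : Type u} [AddCommGroup K] [Module A K] [AddCommGroup L] [Module A L] [AddCommGroup N] [Module A N]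
variable (f : K →ₗ[A] L) (g : L →ₗ[A] N) (hf : Function.Injective f) (hg : Function.Surjective g)
  (hfg : Function.Exact f g)
include hfg

omit [∀ i, Module.Flat A (F i)] in
theorem comp_rTensor_zero (i : ℕ) (x : K ⊗[A] F i) : g.rTensor (F i) (f.rTensor (F i) x) = 0 := by
  rw [← LinearMap.rTensor_comp_apply, hfg.linearMap_comp_eq_zero, LinearMap.rTensor_zero, LinearMap.zero_apply]

include hg

omit [∀ i, Module.Flat A (F i)] in
theorem lift_cycle (i : ℕ) (x : N ⊗[A] F (i + 1)) (hx : x ∈ Z d N (i + 1)) :
    ∃ z, g.rTensor (F (i + 1)) z = x ∧ ∃ w, f.rTensor (F i) w = (d i).lTensor L z := by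
  obtain ⟨z, rfl⟩ := LinearMap.rTensor_surjective (F (i + 1)) hg x
  exact ⟨z, rfl, (rTensor_exact (F i) hfg hg _).mp ((natural d g i z).trans hx)⟩

include hf

/-- exactness for a quotient, from one degree lower for the submodule -/
theorem ex_right (hdd : ∀ i, (d i).comp (d (i + 1)) = 0) (i : ℕ) (hL : Ex d L (i + 1)) (hK : Ex d K i) :
    Ex d N (i + 1) := by
  intro x hx
  obtain ⟨z, rfl, w, hw⟩ := lift_cycle d f g hg hfg i x hx
  obtain ⟨v, hv⟩ := hK w (z_reflect d f hf i (by rw [hw]; exact range_le_z d hdd i z))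
  obtain ⟨y, hy⟩ := hL (z - f.rTensor _ v) (by
    show (d i).lTensor L (_ - _) = 0
    rw [map_sub, ← natural, hv, hw, sub_self])
  refine ⟨g.rTensor _ y, ?_⟩
  rw [← natural, hy, map_sub, comp_rTensor_zero f g hfg, sub_zero]

/-- exactness for a submodule, from one degree higher for the quotient -/
theorem ex_left (i : ℕ) (hL : Ex d L i) (hN : Ex d N (i + 1)) (hdd : ∀ i, (d i).comp (d (i + 1)) = 0) :
    Ex d K i := by
  intro x hx
  obtain ⟨z, hz⟩ := hL _ (z_map d f i hx)
  obtain ⟨w, hw⟩ := hN (g.rTensor _ z) (by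
    show (d i).lTensor N _ = 0
    rw [← natural, hz, comp_rTensor_zero f g hfg])
  obtain ⟨w', rfl⟩ := LinearMap.rTensor_surjective (F (i + 1 + 1)) hg w
  obtain ⟨v, hv⟩ := (rTensor_exact (F (i + 1)) hfg hg (z - (d (i + 1)).lTensor L w')).mp (by
    rw [map_sub, natural, hw, sub_self])
  refine ⟨v, Module.Flat.rTensor_preserves_injective_linearMap (M := F i) f hf ?_⟩
  rw [natural, hv, map_sub, hz, ← LinearMap.lTensor_comp_apply, hdd, LinearMap.lTensor_zero, LinearMap.zero_apply,
    sub_zero]

variable (hdd : ∀ i, (d i).comp (d (i + 1)) = 0) {M : Type u} [AddCommGroup M] [Module A M] (aug : F 0 →ₗ[A] M)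
  (haug : Function.Surjective aug) (hex : Function.Exact (d 0) aug)
include hdd haug hex

omit hdd in
/-- exactness in degree one, from injectivity on `H₀` -/
theorem ex_one (hL : Ex d L 1) (hinj : Function.Injective (f.rTensor M)) : Ex d N 1 := by
  intro x hx
  obtain ⟨z, rfl, w, hw⟩ := lift_cycle d f g hg hfg 0 x hx
  have h0 : aug.lTensor K w = 0 := hinj (by
    rw [map_zero, ← LinearMap.comp_apply, LinearMap.rTensor_comp_lTensor, ← LinearMap.lTensor_comp_rTensor,
      LinearMap.comp_apply, hw, ← LinearMap.lTensor_comp_apply, hex.linearMap_comp_eq_zero, LinearMap.lTensor_zero,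
      LinearMap.zero_apply])
  obtain ⟨v, hv⟩ := (lTensor_exact K hex haug w).mp h0
  obtain ⟨y, hy⟩ := hL (z - f.rTensor _ v) (by
    show (d 0).lTensor L (_ - _) = 0
    rw [map_sub, ← natural, hv, hw, sub_self])
  refine ⟨g.rTensor _ y, ?_⟩
  rw [← natural, hy, map_sub, comp_rTensor_zero f g hfg, sub_zero]

/-- injectivity on `H₀`, from exactness in degree one -/
theorem injective_of_ex_one (hN : Ex d N 1) : Function.Injective (f.rTensor M) := by
  rw [injective_iff_map_eq_zero]
  intro y hy
  obtain ⟨k, rfl⟩ := LinearMap.lTensor_surjective K haug y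
  obtain ⟨z, hz⟩ := (lTensor_exact L hex haug (f.rTensor (F 0) k)).mp (by
    rw [← hy, ← LinearMap.comp_apply, LinearMap.lTensor_comp_rTensor, ← LinearMap.rTensor_comp_lTensor,
      LinearMap.comp_apply])
  obtain ⟨w, hw⟩ := hN (g.rTensor _ z) (by
    show (d 0).lTensor N _ = 0
    rw [← natural, hz, comp_rTensor_zero f g hfg])
  obtain ⟨w', rfl⟩ := LinearMap.rTensor_surjective (F 2) hg w
  obtain ⟨v, hv⟩ := (rTensor_exact (F 1) hfg hg (z - (d 1).lTensor L w')).mp (by
    rw [map_sub, natural, hw, sub_self])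
  have hk : (d 0).lTensor K v = k := by
    apply Module.Flat.rTensor_preserves_injective_linearMap (M := F 0) f hf
    rw [natural, hv, map_sub, hz, ← LinearMap.lTensor_comp_apply, hdd, LinearMap.lTensor_zero, LinearMap.zero_apply,
      sub_zero]
  rw [← hk, ← LinearMap.lTensor_comp_apply, hex.linearMap_comp_eq_zero, LinearMap.lTensor_zero, LinearMap.zero_apply]

end LES

section Algebra

variable {A : Type u} [CommRing A] {F : ℕ → Type u} [∀ i, AddCommGroup (F i)] [∀ i, Module A (F i)]
variable (d : ∀ i, F (i + 1) →ₗ[A] F i)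

theorem ex_finsupp (ι : Type u) {B : Type u} [AddCommGroup B] [Module A B] (i : ℕ) (h : Ex d B i) :
    Ex d (ι →₀ B) i := by
  classical
  intro x hx
  let e := TensorProduct.finsuppLeft A A B (F i) ι
  have h1 : ∀ (j : ι) (y : (ι →₀ B) ⊗[A] F i), e y j = (Finsupp.lapply j : (ι →₀ B) →ₗ[A] B).rTensor (F i) y := by
    intro j y
    induction y using TensorProduct.induction_on with
    | zero => simp
    | tmul a b => simp [e]
    | add a b ha hb => rw [map_add, Finsupp.add_apply, ha, hb, map_add]
  have h2 : ∀ (j : ι) (t : B ⊗[A] F i), e.symm (Finsupp.single j t) = (Finsupp.lsingle j : B →ₗ[A] ι →₀ B).rTensor (F i) t := by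
    intro j t
    induction t using TensorProduct.induction_on with
    | zero => simp
    | tmul a b => simp [e]
    | add a b ha hb => rw [Finsupp.single_add, map_add, ha, hb, map_add]
  have hx' : x = ∑ j ∈ (e x).support, (Finsupp.lsingle j : B →ₗ[A] ι →₀ B).rTensor (F i) (e x j) := by
    conv_lhs => rw [← e.symm_apply_apply x, ← (e x).sum_single]
    rw [Finsupp.sum, map_sum]
    exact Finset.sum_congr rfl fun j _ => h2 j _
  rw [hx']
  refine Submodule.sum_mem _ fun j _ => ?_
  obtain ⟨v, hv⟩ := h _ (z_map d (Finsupp.lapply j : (ι →₀ B) →ₗ[A] B) i hx)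
  refine ⟨(Finsupp.lsingle j : B →ₗ[A] ι →₀ B).rTensor _ v, ?_⟩
  rw [← natural, hv, h1]

theorem rTensor_injective_of_flat_baseChange {B : Type u} [CommRing B] [Algebra A B] {M : Type u} [AddCommGroup M]
    [Module A M] [Module.Flat B (B ⊗[A] M)] {K L : Type u} [AddCommGroup K] [Module A K] [Module B K]
    [IsScalarTower A B K] [AddCommGroup L] [Module A L] [Module B L] [IsScalarTower A B L] (f : K →ₗ[B] L)
    (hf : Function.Injective f) : Function.Injective ((f.restrictScalars A).rTensor M) := by
  have key : ∀ y, f.rTensor (B ⊗[A] M) ((AlgebraTensorModule.cancelBaseChange A B B K M).symm y) =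
      (AlgebraTensorModule.cancelBaseChange A B B L M).symm ((f.restrictScalars A).rTensor M y) := by
    intro y
    induction y using TensorProduct.induction_on with
    | zero => simp
    | tmul a b => simp
    | add a b ha hb => rw [map_add, map_add, ha, hb, map_add, map_add]
  intro a b hab
  apply (AlgebraTensorModule.cancelBaseChange A B B K M).symm.injective
  apply Module.Flat.rTensor_preserves_injective_linearMap (M := B ⊗[A] M) f hf
  rw [key, key, hab]

variable [∀ i, Module.Flat A (F i)]

theorem ex_module_one {M : Type u} [AddCommGroup M] [Module A M]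
    (aug : F 0 →ₗ[A] M) (haug : Function.Surjective aug) (hex : Function.Exact (d 0) aug)
    {B : Type u} [CommRing B] [Algebra A B] [Module.Flat B (B ⊗[A] M)]
    {L N : Type u} [AddCommGroup L] [Module A L] [Module B L] [IsScalarTower A B L]
    [AddCommGroup N] [Module A N] [Module B N] [IsScalarTower A B N] (g : L →ₗ[B] N) (hg : Function.Surjective g)
    (hL : Ex d L 1) : Ex d N 1 :=
  ex_one d ((LinearMap.ker g).subtype.restrictScalars A) (g.restrictScalars A) Subtype.val_injective hg
    (LinearMap.exact_subtype_ker_map g) aug haug hex hL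
    (rTensor_injective_of_flat_baseChange (A := A) (B := B) (M := M) (LinearMap.ker g).subtype Subtype.val_injective)

/-- modules over an algebra `B` with `B ⊗ M` flat -/
theorem ex_module (hdd : ∀ i, (d i).comp (d (i + 1)) = 0) {M : Type u} [AddCommGroup M] [Module A M]
    (aug : F 0 →ₗ[A] M) (haug : Function.Surjective aug) (hex : Function.Exact (d 0) aug)
    (B : Type u) [CommRing B] [Algebra A B] [Module.Flat B (B ⊗[A] M)] (n : ℕ)
    (hB : ∀ i, 1 ≤ i → i ≤ n → Ex d B i)
    (N : Type u) [AddCommGroup N] [Module A N] [Module B N] [IsScalarTower A B N] :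
    ∀ i, 1 ≤ i → i ≤ n → Ex d N i := by
  intro i hi
  induction i, hi using Nat.le_induction generalizing N with
  | base =>
    intro hn
    let g := Finsupp.linearCombination B (id : N → N)
    have hg : Function.Surjective g := fun y => ⟨Finsupp.single y 1, by simp [g]⟩
    exact ex_module_one d aug haug hex g hg (ex_finsupp d N 1 (hB 1 le_rfl hn))
  | succ i hi ih =>
    intro hn
    let g := Finsupp.linearCombination B (id : N → N)
    have hg : Function.Surjective g := fun y => ⟨Finsupp.single y 1, by simp [g]⟩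
    exact ex_right d ((LinearMap.ker g).subtype.restrictScalars A) (g.restrictScalars A) Subtype.val_injective hg
      (LinearMap.exact_subtype_ker_map g) hdd i (ex_finsupp d N (i + 1) (hB (i + 1) (by omega) hn))
      (ih (LinearMap.ker g) (by omega))

end Algebra

section Balance

variable {A : Type u} [CommRing A] {X : ModuleCat.{u} A} (Q : ProjectiveResolution X)

/-- `coker d_j` -/
abbrev C (j : ℕ) : Type u := cF Q.complex j ⧸ LinearMap.range (cd Q.complex j)

abbrev toC (j : ℕ) : cF Q.complex j →ₗ[A] C Q j := (LinearMap.range (cd Q.complex j)).mkQ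

theorem toC_surjective (j : ℕ) : Function.Surjective (toC Q j) := Submodule.mkQ_surjective _

/-- `coker d_(j+1) → F_j` -/
def dbar (j : ℕ) : C Q (j + 1) →ₗ[A] cF Q.complex j :=
  (LinearMap.range (cd Q.complex (j + 1))).liftQ (cd Q.complex j) (by
    rintro _ ⟨z, rfl⟩
    exact congr($(cd_comp Q.complex j) z))

theorem dbar_comp (j : ℕ) : (dbar Q j).comp (toC Q (j + 1)) = cd Q.complex j := Submodule.liftQ_mkQ _ _ _

theorem dbar_injective (j : ℕ) : Function.Injective (dbar Q j) := by
  rw [injective_iff_map_eq_zero]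
  intro x hx
  obtain ⟨y, rfl⟩ := toC_surjective Q (j + 1) x
  have hex := (ShortComplex.ShortExact.moduleCat_exact_iff_function_exact _).1 (Q.exact_succ j)
  exact (Submodule.Quotient.mk_eq_zero _).mpr ((hex y).mp hx)

theorem dbar_exact (j : ℕ) : Function.Exact (dbar Q j) (toC Q j) := fun y => by
  refine (Submodule.Quotient.mk_eq_zero _).trans ⟨?_, ?_⟩
  · rintro ⟨z, rfl⟩
    exact ⟨toC Q (j + 1) z, congr($(dbar_comp Q j) z)⟩
  · rintro ⟨z, rfl⟩
    obtain ⟨z, rfl⟩ := toC_surjective Q (j + 1) z
    exact ⟨z, (congr($(dbar_comp Q j) z)).symm⟩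

/-- the augmentation -/
noncomputable def augm : cF Q.complex 0 →ₗ[A] X := (Q.π.f 0).hom

theorem aug_surjective : Function.Surjective (augm Q) := (ModuleCat.epi_iff_surjective (Q.π.f 0)).1 inferInstance

theorem aug_exact : Function.Exact (cd Q.complex 0) (augm Q) :=
  (ShortComplex.ShortExact.moduleCat_exact_iff_function_exact _).1 Q.exact₀

/-- `coker d_0 ≅ X` -/
noncomputable def e0 : C Q 0 ≃ₗ[A] X :=
  (Submodule.quotEquivOfEq _ _ (aug_exact Q).linearMap_ker_eq.symm).trans
    (LinearMap.quotKerEquivOfSurjective (augm Q) (aug_surjective Q))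

theorem ex_flat {N : ModuleCat.{u} A} (P : ProjectiveResolution N) (L : Type u) [AddCommGroup L] [Module A L]
    [Module.Flat A L] (i : ℕ) : Ex (cd P.complex) L (i + 1) := fun x hx =>
  (Module.Flat.lTensor_exact L ((ShortComplex.ShortExact.moduleCat_exact_iff_function_exact _).1 (P.exact_succ i)) x).mp hx

theorem shift {N : ModuleCat.{u} A} (P : ProjectiveResolution N) (j i : ℕ) :
    Ex (cd P.complex) (C Q j) (i + 2) ↔ Ex (cd P.complex) (C Q (j + 1)) (i + 1) := by
  haveI := flat_resolution P
  haveI : ∀ k, Module.Flat A (cF Q.complex k) := flat_resolution Q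
  exact ⟨fun h => ex_left (cd P.complex) (dbar Q j) (toC Q j) (dbar_injective Q j) (toC_surjective Q j) (dbar_exact Q j)
      (i + 1) (ex_flat P _ i) h (cd_comp P.complex),
    fun h => ex_right (cd P.complex) (dbar Q j) (toC Q j) (dbar_injective Q j) (toC_surjective Q j) (dbar_exact Q j)
      (cd_comp P.complex) (i + 1) (ex_flat P _ (i + 1)) h⟩

theorem shift_iter {N : ModuleCat.{u} A} (P : ProjectiveResolution N) :
    ∀ i j, Ex (cd P.complex) (C Q j) (i + 1) ↔ Ex (cd P.complex) (C Q (j + i)) 1
  | 0, j => Iff.rfl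
  | i + 1, j => by
    rw [shift Q P j i, shift_iter P i (j + 1), show j + 1 + i = j + (i + 1) by omega]

/-- `Tor` vanishing computed by a resolution of the first variable -/
theorem isZero_tor_iff_left (N : ModuleCat.{u} A) (i : ℕ) :
    IsZero (((Tor (ModuleCat.{u} A) (i + 1)).obj X).obj N) ↔ Ex (cd Q.complex) N (i + 1) := by
  let P : ProjectiveResolution N := Classical.choice HasProjectiveResolution.out
  haveI := flat_resolution P
  haveI : ∀ k, Module.Flat A (cF Q.complex k) := flat_resolution Q
  rw [isZero_tor_iff X N P (i + 1)]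
  have h0 : Ex (cd P.complex) X (i + 1) ↔ Ex (cd P.complex) (C Q 0) (i + 1) :=
    ⟨ex_of_injective_surjective _ (e0 Q) _, ex_of_injective_surjective _ (e0 Q).symm _⟩
  rw [h0, shift_iter Q P i 0, zero_add]
  have hseq : Function.Exact ((cd Q.complex (i + 1)).lTensor N) ((toC Q (i + 1)).lTensor N) :=
    lTensor_exact N (LinearMap.exact_map_mkQ_range _) (Submodule.mkQ_surjective _)
  constructor
  · intro h x hx
    have hinj := injective_of_ex_one (cd P.complex) (dbar Q i) (toC Q i) (dbar_injective Q i) (toC_surjective Q i)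
      (dbar_exact Q i) (cd_comp P.complex) (augm P) (aug_surjective P) (aug_exact P) h
    rw [← LinearMap.lTensor_inj_iff_rTensor_inj] at hinj
    refine (hseq x).mp (hinj ?_)
    rw [map_zero, ← LinearMap.lTensor_comp_apply, dbar_comp]
    exact hx
  · intro h
    refine ex_one (cd P.complex) (dbar Q i) (toC Q i) (dbar_injective Q i) (toC_surjective Q i)
      (dbar_exact Q i) (augm P) (aug_surjective P) (aug_exact P) (ex_flat P _ 0) ?_
    rw [← LinearMap.lTensor_inj_iff_rTensor_inj, injective_iff_map_eq_zero]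
    intro y hy
    obtain ⟨x, rfl⟩ := LinearMap.lTensor_surjective N (toC_surjective Q (i + 1)) y
    rw [← LinearMap.lTensor_comp_apply, dbar_comp] at hy
    exact (hseq x).mpr (h x hy)

end Balance

end Groth.Agent.H1TorBal
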