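import Mathlib

/-!
# Functorial free resolutions, Tor as a functor of two variables, filtered colimits
-/

set_option autoImplicit false

universe u

open CategoryTheory CategoryTheory.Limits MonoidalCategory

namespace Groth.Agent.H1TorFun

variable {R : Type u} [CommRing R]

noncomputable section

/-- the free module on the underlying set -/
def Fr : ModuleCat.{u} R ⥤ ModuleCat.{u} R where
  obj M := ModuleCat.of R (M →₀ R)
  map f := ModuleCat.ofHom (Finsupp.lmapDomain R R f.hom)
  map_id M := ModuleCat.hom_ext (by simp [Finsupp.lmapDomain_id])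
  map_comp f g := ModuleCat.hom_ext (by simp [← Finsupp.lmapDomain_comp])

/-- the canonical surjection -/
def eps (M : ModuleCat.{u} R) : (M →₀ R) →ₗ[R] M := Finsupp.linearCombination R id

theorem eps_surjective (M : ModuleCat.{u} R) : Function.Surjective (eps M) :=
  fun y => ⟨Finsupp.single y 1, by simp [eps]⟩

theorem eps_natural {M M' : ModuleCat.{u} R} (f : M ⟶ M') (x : M →₀ R) :
    eps M' (Finsupp.lmapDomain R R f.hom x) = f.hom (eps M x) := by
  have : (eps M').comp (Finsupp.lmapDomain R R f.hom) = f.hom.comp (eps M) :=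
    Finsupp.lhom_ext fun a b => by simp [eps]
  exact congr($this x)

/-- the first syzygy -/
def Ker : ModuleCat.{u} R ⥤ ModuleCat.{u} R where
  obj M := ModuleCat.of R (LinearMap.ker (eps M))
  map {M M'} f := ModuleCat.ofHom ((Finsupp.lmapDomain R R f.hom).restrict fun x hx => by
    rw [LinearMap.mem_ker] at hx ⊢
    rw [eps_natural, hx, map_zero])
  map_id M := ModuleCat.hom_ext (LinearMap.ext fun x => Subtype.ext (by
    show Finsupp.mapDomain (𝟙 M : M ⟶ M).hom x.1 = x.1
    simp))
  map_comp f g := ModuleCat.hom_ext (LinearMap.ext fun x => Subtype.ext (by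
    show Finsupp.mapDomain (f ≫ g).hom x.1 = Finsupp.mapDomain g.hom (Finsupp.mapDomain f.hom x.1)
    simp [← Finsupp.mapDomain_comp]))

/-- iterated syzygies -/
def syz : ℕ → (ModuleCat.{u} R ⥤ ModuleCat.{u} R)
  | 0 => 𝟭 _
  | n + 1 => syz n ⋙ Ker

/-- `F_(n+1) → syz (n+1) ⊆ F_n` -/
def dd (M : ModuleCat.{u} R) (n : ℕ) : Fr.obj ((syz (n + 1)).obj M) ⟶ Fr.obj ((syz n).obj M) :=
  ModuleCat.ofHom ((LinearMap.ker (eps ((syz n).obj M))).subtype.comp (eps ((syz (n + 1)).obj M)))

theorem dd_comp (M : ModuleCat.{u} R) (n : ℕ) : dd M (n + 1) ≫ dd M n = 0 := by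
  refine ModuleCat.hom_ext (LinearMap.ext fun x => ?_)
  show (eps ((syz (n + 1)).obj M) (eps ((syz (n + 2)).obj M) x).1).1 = 0
  rw [LinearMap.mem_ker.mp (eps ((syz (n + 2)).obj M) x).2]
  rfl

/-- the complex -/
def cxObj (M : ModuleCat.{u} R) : ChainComplex (ModuleCat.{u} R) ℕ :=
  ChainComplex.of (fun n => Fr.obj ((syz n).obj M)) (dd M) (dd_comp M)

theorem cxObj_d (M : ModuleCat.{u} R) (n : ℕ) : (cxObj M).d (n + 1) n = dd M n := by
  simp [cxObj]

/-- functorial free resolution -/
def PC : ModuleCat.{u} R ⥤ ChainComplex (ModuleCat.{u} R) ℕ where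
  obj := cxObj
  map {M M'} f :=
    { f := fun n => Fr.map ((syz n).map f)
      comm' := fun i j hij => by
        obtain rfl : j + 1 = i := hij
        rw [cxObj_d, cxObj_d]
        refine ModuleCat.hom_ext (LinearMap.ext fun x => ?_)
        show (eps ((syz (j + 1)).obj M') (Finsupp.lmapDomain R R ((syz (j + 1)).map f).hom x)).1 =
          Finsupp.lmapDomain R R ((syz j).map f).hom (eps ((syz (j + 1)).obj M) x).1
        exact congrArg Subtype.val (eps_natural ((syz (j + 1)).map f) x) }
  map_id M := by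
    ext n : 1
    show Fr.map ((syz n).map (𝟙 M)) = 𝟙 _
    rw [CategoryTheory.Functor.map_id, CategoryTheory.Functor.map_id]
  map_comp f g := by
    ext n : 1
    show Fr.map ((syz n).map (f ≫ g)) = Fr.map ((syz n).map f) ≫ Fr.map ((syz n).map g)
    rw [Functor.map_comp, Functor.map_comp]

theorem hw (M : ModuleCat.{u} R) : (cxObj M).d 1 0 ≫ ModuleCat.ofHom (eps M) = 0 := by
  rw [cxObj_d]
  refine ModuleCat.hom_ext (LinearMap.ext fun x => ?_)
  exact LinearMap.mem_ker.mp (eps ((syz 1).obj M) x).2

theorem projective_X (M : ModuleCat.{u} R) (n : ℕ) : Projective ((cxObj M).X n) :=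
  ModuleCat.projective_of_free (Finsupp.basisSingleOne (ι := ((syz n).obj M)) (R := R))

/-- the resolution -/
def PR (M : ModuleCat.{u} R) : ProjectiveResolution M where
  complex := cxObj M
  projective := projective_X M
  π := (ChainComplex.toSingle₀Equiv _ _).symm ⟨ModuleCat.ofHom (eps M), hw M⟩
  quasiIso := ⟨fun n => by
    cases n with
    | zero =>
      rw [ChainComplex.quasiIsoAt₀_iff, ShortComplex.quasiIso_iff_of_zeros']
      · refine (ShortComplex.exact_and_epi_g_iff_of_iso (S₁ := ShortComplex.mk ((cxObj M).d 1 0) (ModuleCat.ofHom (eps M)) (hw M)) ?_).1 ⟨?_, ?_⟩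
        · exact ShortComplex.isoMk (Iso.refl _) (Iso.refl _) (Iso.refl _) (by dsimp; exact (Category.id_comp _).trans (Category.comp_id _).symm) (by dsimp; exact (Category.id_comp _).trans ((ChainComplex.toSingle₀Equiv_symm_apply_f_zero _ (hw M)).trans (Category.comp_id _).symm))
        · rw [ShortComplex.moduleCat_exact_iff]
          intro x hx
          obtain ⟨y, hy⟩ := eps_surjective ((syz 1).obj M) ⟨x, hx⟩
          refine ⟨y, ?_⟩
          show ((cxObj M).d (0 + 1) 0).hom y = x
          rw [cxObj_d]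
          exact congrArg Subtype.val hy
        · exact (ModuleCat.epi_iff_surjective _).mpr (eps_surjective M)
      all_goals rfl
    | succ n =>
      rw [quasiIsoAt_iff_exactAt']
      · rw [HomologicalComplex.exactAt_iff' _ (n + 1 + 1) (n + 1) n (by simp) (by simp), ShortComplex.moduleCat_exact_iff]
        intro x hx
        change ((cxObj M).d (n + 1) n).hom x = 0 at hx
        rw [cxObj_d] at hx
        obtain ⟨y, hy⟩ := eps_surjective ((syz (n + 1 + 1)).obj M) ⟨x, Subtype.ext hx⟩
        refine ⟨y, ?_⟩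
        show ((cxObj M).d (n + 1 + 1) (n + 1)).hom y = x
        rw [cxObj_d]
        exact congrArg Subtype.val hy
      · exact ChainComplex.exactAt_succ_single_obj _ n⟩

theorem comm_PR {M M' : ModuleCat.{u} R} (f : M ⟶ M') :
    (PC.map f).f 0 ≫ (PR M').π.f 0 = (PR M).π.f 0 ≫ f := by
  show Fr.map f ≫ ((ChainComplex.toSingle₀Equiv (cxObj M') M').symm ⟨ModuleCat.ofHom (eps M'), hw M'⟩).f 0 =
    ((ChainComplex.toSingle₀Equiv (cxObj M) M).symm ⟨ModuleCat.ofHom (eps M), hw M⟩).f 0 ≫ f
  refine (congrArg (Fr.map f ≫ ·) (show ((ChainComplex.toSingle₀Equiv (cxObj M') M').symm ⟨ModuleCat.ofHom (eps M'), hw M'⟩).f 0 = ModuleCat.ofHom (eps M') from ChainComplex.toSingle₀Equiv_symm_apply_f_zero _ _)).trans ?_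
  refine Eq.trans ?_ (congrArg (· ≫ f) (show ((ChainComplex.toSingle₀Equiv (cxObj M) M).symm ⟨ModuleCat.ofHom (eps M), hw M⟩).f 0 = ModuleCat.ofHom (eps M) from ChainComplex.toSingle₀Equiv_symm_apply_f_zero _ _)).symm
  exact ModuleCat.hom_ext (LinearMap.ext fun x => eps_natural f x)

/-- tensoring with `M` on complexes -/
abbrev tL (M : ModuleCat.{u} R) : ChainComplex (ModuleCat.{u} R) ℕ ⥤ ChainComplex (ModuleCat.{u} R) ℕ :=
  ((tensoringLeft (ModuleCat.{u} R)).obj M).mapHomologicalComplex (ComplexShape.down ℕ)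

/-- change of the left factor -/
abbrev tA {M M' : ModuleCat.{u} R} (f : M ⟶ M') (K : ChainComplex (ModuleCat.{u} R) ℕ) : (tL M).obj K ⟶ (tL M').obj K :=
  (NatTrans.mapHomologicalComplex ((tensoringLeft (ModuleCat.{u} R)).map f) (ComplexShape.down ℕ)).app K

/-- `(M, N) ↦ M ⊗ P(N)` -/
def cx2 : ModuleCat.{u} R × ModuleCat.{u} R ⥤ ChainComplex (ModuleCat.{u} R) ℕ where
  obj X := (tL X.1).obj (PC.obj X.2)
  map {X Y} φ := (tL X.1).map (PC.map φ.2) ≫ tA φ.1 (PC.obj Y.2)
  map_id X := by
    ext n : 1
    show ((tensoringLeft _).obj X.1).map ((PC.map (𝟙 X.2)).f n) ≫ ((tensoringLeft _).map (𝟙 X.1)).app _ = 𝟙 _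
    rw [CategoryTheory.Functor.map_id, HomologicalComplex.id_f, CategoryTheory.Functor.map_id,
      CategoryTheory.Functor.map_id, NatTrans.id_app, Category.id_comp]
  map_comp {X Y Z} φ ψ := by
    ext n : 1
    show ((tensoringLeft _).obj X.1).map ((PC.map (φ.2 ≫ ψ.2)).f n) ≫ ((tensoringLeft _).map (φ.1 ≫ ψ.1)).app _ =
      (((tensoringLeft _).obj X.1).map ((PC.map φ.2).f n) ≫ ((tensoringLeft _).map φ.1).app _) ≫
        (((tensoringLeft _).obj Y.1).map ((PC.map ψ.2).f n) ≫ ((tensoringLeft _).map ψ.1).app _)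
    rw [Functor.map_comp, HomologicalComplex.comp_f, Functor.map_comp, Functor.map_comp, NatTrans.comp_app]
    simp only [Category.assoc]
    rw [NatTrans.naturality_assoc]

/-- `Tor` as a functor of two variables -/
def B (n : ℕ) : ModuleCat.{u} R × ModuleCat.{u} R ⥤ ModuleCat.{u} R :=
  cx2 ⋙ HomologicalComplex.homologyFunctor _ _ n

/-- the comparison -/
def torIsoObj (n : ℕ) (M : ModuleCat.{u} R) : (Tor (ModuleCat.{u} R) n).obj M ≅ (Functor.curry.obj (B n)).obj M :=
  NatIso.ofComponents (fun N => (PR N).isoLeftDerivedObj ((tensoringLeft (ModuleCat.{u} R)).obj M) n) fun {N N'} g => by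
    refine (ProjectiveResolution.isoLeftDerivedObj_hom_naturality g (PR N) (PR N') (PC.map g) (comm_PR g) _ n).trans ?_
    refine congrArg (_ ≫ ·) ?_
    show HomologicalComplex.homologyMap ((tL M).map (PC.map g)) n =
      HomologicalComplex.homologyMap ((tL M).map (PC.map g) ≫ tA (𝟙 M) (PC.obj N')) n
    congr 1
    ext i : 1
    show _ = _ ≫ ((tensoringLeft _).map (𝟙 M)).app _
    rw [CategoryTheory.Functor.map_id, NatTrans.id_app]
    exact (Category.comp_id _).symm

/-- `Tor` is `B` -/
def torIso (n : ℕ) : Tor (ModuleCat.{u} R) n ≅ Functor.curry.obj (B n) :=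
  NatIso.ofComponents (torIsoObj n) fun {M M'} f => by
    ext N : 2
    show (NatTrans.leftDerived ((tensoringLeft (ModuleCat.{u} R)).map f) n).app N ≫ (torIsoObj n M').hom.app N = _
    rw [ProjectiveResolution.leftDerived_app_eq _ (PR N) n]
    refine (Category.assoc _ _ _).trans ?_
    refine congrArg (((PR N).isoLeftDerivedObj ((tensoringLeft (ModuleCat.{u} R)).obj M) n).hom ≫ ·) ?_
    refine (Category.assoc _ _ _).trans ?_
    refine ((congrArg (_ ≫ ·) ((PR N).isoLeftDerivedObj _ n).inv_hom_id).trans (Category.comp_id _)).trans ?_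
    show HomologicalComplex.homologyMap (tA f (PC.obj N)) n =
      HomologicalComplex.homologyMap ((tL M).map (PC.map (𝟙 N)) ≫ tA f (PC.obj N)) n
    rw [CategoryTheory.Functor.map_id, CategoryTheory.Functor.map_id, Category.id_comp]

/-- `M ↦ M ⊗ P` -/
def cxLeft (P : ChainComplex (ModuleCat.{u} R) ℕ) : ModuleCat.{u} R ⥤ ChainComplex (ModuleCat.{u} R) ℕ where
  obj M := (tL M).obj P
  map f := tA f P
  map_id M := by
    ext n : 1
    show ((tensoringLeft _).map (𝟙 M)).app _ = 𝟙 _
    rw [CategoryTheory.Functor.map_id]; rfl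
  map_comp f g := by
    ext n : 1
    show ((tensoringLeft _).map (f ≫ g)).app _ = ((tensoringLeft _).map f).app _ ≫ ((tensoringLeft _).map g).app _
    rw [Functor.map_comp]; rfl

/-- `Tor` in the first variable -/
def torFlipIso (n : ℕ) (N : ModuleCat.{u} R) :
    (Tor (ModuleCat.{u} R) n).flip.obj N ≅ cxLeft (PR N).complex ⋙ HomologicalComplex.homologyFunctor _ _ n :=
  NatIso.ofComponents (fun M => (PR N).isoLeftDerivedObj ((tensoringLeft (ModuleCat.{u} R)).obj M) n) fun {M M'} f => by
    show (NatTrans.leftDerived ((tensoringLeft (ModuleCat.{u} R)).map f) n).app N ≫ _ = _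
    rw [ProjectiveResolution.leftDerived_app_eq _ (PR N) n]
    refine (Category.assoc _ _ _).trans (congrArg (_ ≫ ·) ?_)
    refine (Category.assoc _ _ _).trans ?_
    exact (congrArg (_ ≫ ·) ((PR N).isoLeftDerivedObj _ n).inv_hom_id).trans (Category.comp_id _)

instance cxLeft_preserves (P : ChainComplex (ModuleCat.{u} R) ℕ) (J : Type u) [SmallCategory J] :
    PreservesColimitsOfShape J (cxLeft P) :=
  HomologicalComplex.preservesColimitsOfShape_of_eval _ fun i =>
    preservesColimitsOfShape_of_natIso (F := (tensorRight (P.X i)))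
      (NatIso.ofComponents (fun M => Iso.refl _) fun {M M'} f => by
        refine (Category.comp_id _).trans ((?_ : _ = _).trans (Category.id_comp _).symm)
        rfl)

/-- homology commutes with filtered colimits of complexes of modules -/
instance homology_preserves (J : Type u) [SmallCategory J] [IsFiltered J] (n : ℕ) :
    PreservesColimitsOfShape J (HomologicalComplex.homologyFunctor (ModuleCat.{u} R) (ComplexShape.down ℕ) n) where
  preservesColimit {G} := ⟨fun {c} hc => ⟨by
    have he : ∀ i, IsColimit ((HomologicalComplex.eval _ _ i).mapCocone c) := fun i => isColimitOfPreserves _ hc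
    have hker : ∀ i (j : J) (x : (G.obj j).X i), ((c.ι.app j).f i).hom x = 0 →
        ∃ (k : J) (f : j ⟶ k), ((G.map f).f i).hom x = 0 := by
      intro i j x hx
      obtain ⟨k, f, g, hfg⟩ := (Concrete.isColimit_rep_eq_iff_exists.{u} (G ⋙ HomologicalComplex.eval _ _ i) (he i)
        x (0 : (G.obj j).X i)).mp (hx.trans (map_zero _).symm)
      exact ⟨k, f, hfg.trans (map_zero _)⟩
    apply isColimitOfReflects (forget (ModuleCat.{u} R))
    refine Types.FilteredColimit.isColimitOf' _ _ (fun h => ?_) (fun j a b hab => ?_)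
    · obtain ⟨z, rfl⟩ := (ModuleCat.epi_iff_surjective (c.pt.homologyπ n)).1 inferInstance h
      obtain ⟨j, x, hx⟩ := Concrete.isColimit_exists_rep _ (he n) ((c.pt.iCycles n).hom z)
      have h0 : ((c.ι.app j).f ((ComplexShape.down ℕ).next n)).hom (((G.obj j).d n ((ComplexShape.down ℕ).next n)).hom x) = 0 := by
        refine (congr($((c.ι.app j).comm n _).hom x)).symm.trans ?_
        exact (congrArg (c.pt.d n _).hom hx).trans congr($(c.pt.iCycles_d n _).hom z)
      obtain ⟨k, f, hk⟩ := hker _ j _ h0
      have hd : ((G.obj k).d n _).hom (((G.map f).f n).hom x) = 0 := (congr($((G.map f).comm n _).hom x)).trans hk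
      let w := (G.obj k).cyclesMk _ _ rfl hd
      refine ⟨k, ((G.obj k).homologyπ n).hom w, ?_⟩
      refine (congrArg (c.pt.homologyπ n).hom ?_).trans (congr($(HomologicalComplex.homologyπ_naturality (c.ι.app k) n).hom w)).symm
      apply (ModuleCat.mono_iff_injective (c.pt.iCycles n)).1 inferInstance
      refine (hx.symm.trans ?_).trans (congr($(HomologicalComplex.cyclesMap_i (c.ι.app k) n).hom w)).symm
      refine Eq.trans ?_ (congrArg ((c.ι.app k).f n).hom ((G.obj k).i_cyclesMk _ _ rfl hd)).symm
      exact (congr($(congrArg (fun φ => HomologicalComplex.Hom.f φ n) (c.w f)).hom x)).symm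
    · obtain ⟨za, rfl⟩ := (ModuleCat.epi_iff_surjective ((G.obj j).homologyπ n)).1 inferInstance a
      obtain ⟨zb, rfl⟩ := (ModuleCat.epi_iff_surjective ((G.obj j).homologyπ n)).1 inferInstance b
      have h2 : (c.pt.homologyπ n).hom ((HomologicalComplex.cyclesMap (c.ι.app j) n).hom za) =
          (c.pt.homologyπ n).hom ((HomologicalComplex.cyclesMap (c.ι.app j) n).hom zb) :=
        (congr($(HomologicalComplex.homologyπ_naturality (c.ι.app j) n).hom za)).symm.trans
          (hab.trans (congr($(HomologicalComplex.homologyπ_naturality (c.ι.app j) n).hom zb)))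
      obtain ⟨v, hv⟩ := (ShortComplex.moduleCat_exact_iff _).1
        (ShortComplex.exact_of_g_is_cokernel (ShortComplex.mk _ _ (c.pt.toCycles_comp_homologyπ (n + 1) n))
          (c.pt.homologyIsCokernel (n + 1) n (by simp)))
        ((HomologicalComplex.cyclesMap (c.ι.app j) n).hom (za - zb)) (by
          show (c.pt.homologyπ n).hom _ = 0
          rw [map_sub, map_sub, h2, sub_self])
      obtain ⟨l, y, rfl⟩ := Concrete.isColimit_exists_rep _ (he (n + 1)) v
      let k := IsFiltered.max j l
      let fj : j ⟶ k := IsFiltered.leftToMax j l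
      let fl : l ⟶ k := IsFiltered.rightToMax j l
      let w := (HomologicalComplex.cyclesMap (G.map fj) n).hom (za - zb) - ((G.obj k).toCycles (n + 1) n).hom (((G.map fl).f (n + 1)).hom y)
      have hw0 : ((c.ι.app k).f n).hom (((G.obj k).iCycles n).hom w) = 0 := by
        have e1 : ((c.ι.app k).f n).hom (((G.obj k).iCycles n).hom ((HomologicalComplex.cyclesMap (G.map fj) n).hom (za - zb))) =
            (c.pt.iCycles n).hom ((HomologicalComplex.cyclesMap (c.ι.app j) n).hom (za - zb)) := by
          refine Eq.trans ?_ (congr($(HomologicalComplex.cyclesMap_i (c.ι.app j) n).hom (za - zb))).symm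
          refine (congrArg ((c.ι.app k).f n).hom congr($(HomologicalComplex.cyclesMap_i (G.map fj) n).hom (za - zb))).trans ?_
          exact congr($(congrArg (fun φ => HomologicalComplex.Hom.f φ n) (c.w fj)).hom _)
        have e2 : ((c.ι.app k).f n).hom (((G.obj k).iCycles n).hom (((G.obj k).toCycles (n + 1) n).hom (((G.map fl).f (n + 1)).hom y))) =
            (c.pt.iCycles n).hom ((c.pt.toCycles (n + 1) n).hom (((c.ι.app l).f (n + 1)).hom y)) := by
          refine (congrArg ((c.ι.app k).f n).hom congr($((G.obj k).toCycles_i (n + 1) n).hom _)).trans ?_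
          refine (congr($((c.ι.app k).comm (n + 1) n).hom _)).symm.trans ?_
          refine Eq.trans ?_ (congr($(c.pt.toCycles_i (n + 1) n).hom _)).symm
          exact congrArg (c.pt.d (n + 1) n).hom congr($(congrArg (fun φ => HomologicalComplex.Hom.f φ (n + 1)) (c.w fl)).hom y)
        rw [map_sub, map_sub, e1, e2, sub_eq_zero]
        exact congrArg (c.pt.iCycles n).hom hv.symm
      obtain ⟨m, g, hg⟩ := hker n k _ hw0
      refine ⟨m, fj ≫ g, ?_⟩
      have hw1 : (HomologicalComplex.cyclesMap (G.map g) n).hom w = 0 := by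
        apply (ModuleCat.mono_iff_injective ((G.obj m).iCycles n)).1 inferInstance
        exact (congr($(HomologicalComplex.cyclesMap_i (G.map g) n).hom w)).trans (hg.trans (map_zero _).symm)
      have hπ0 : ((G.obj k).homologyπ n).hom (((G.obj k).toCycles (n + 1) n).hom (((G.map fl).f (n + 1)).hom y)) = 0 :=
        congr($((G.obj k).toCycles_comp_homologyπ (n + 1) n).hom _)
      have h3 : (HomologicalComplex.homologyMap (G.map g) n).hom ((HomologicalComplex.homologyMap (G.map fj) n).hom
          (((G.obj j).homologyπ n).hom (za - zb))) = 0 := by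
        rw [show (HomologicalComplex.homologyMap (G.map fj) n).hom (((G.obj j).homologyπ n).hom (za - zb)) =
            ((G.obj k).homologyπ n).hom w by
          refine Eq.trans ?_ ((map_sub ((G.obj k).homologyπ n).hom _ _).trans ((congrArg (_ - ·) hπ0).trans (sub_zero _))).symm
          exact congr($(HomologicalComplex.homologyπ_naturality (G.map fj) n).hom (za - zb))]
        refine (congr($(HomologicalComplex.homologyπ_naturality (G.map g) n).hom w)).trans ?_
        exact (congrArg ((G.obj m).homologyπ n).hom hw1).trans (map_zero _)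
      show (HomologicalComplex.homologyMap (G.map (fj ≫ g)) n).hom _ = (HomologicalComplex.homologyMap (G.map (fj ≫ g)) n).hom _
      rw [Functor.map_comp, HomologicalComplex.homologyMap_comp, ← sub_eq_zero, ← map_sub, ← map_sub]
      exact h3⟩⟩

end

end Groth.Agent.H1TorFun
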