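import Groth.Agent.Lib.H1TorBal
import Groth.Agent.Lib.H1TorFlip

/-!
# The pro-vanishing of `Tor(-, R/I^n)`
-/

set_option autoImplicit false

universe u

open CategoryTheory CategoryTheory.Limits MonoidalCategory TensorProduct

namespace Groth.Agent.H1TorPZ

open Groth.Agent.H1TorRes Groth.Agent.H1TorBal Groth.Agent.H1TorFun

noncomputable section

variable {R : Type u} [CommRing R]

theorem homologyMap_eq_zero_iff {K L : ChainComplex (ModuleCat.{u} R) ℕ} (f : K ⟶ L) (p : ℕ) :
    HomologicalComplex.homologyMap f p = 0 ↔ ∀ x : K.X p, (K.d p ((ComplexShape.down ℕ).next p)).hom x = 0 →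
      (f.f p).hom x ∈ LinearMap.range (L.d (p + 1) p).hom := by
  constructor
  · intro h x hx
    let z := K.cyclesMk x _ rfl hx
    have h0 : (L.homologyπ p).hom ((HomologicalComplex.cyclesMap f p).hom z) = 0 :=
      (congr($(HomologicalComplex.homologyπ_naturality f p).hom z)).symm.trans (by rw [h]; rfl)
    rw [← LinearMap.mem_ker, H1TorFun.ker_homologyπ] at h0
    obtain ⟨v, hv⟩ := h0
    refine ⟨v, ?_⟩
    refine (congr($(L.toCycles_i (p + 1) p).hom v)).symm.trans ((congrArg (L.iCycles p).hom hv).trans ?_)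
    exact (congr($(HomologicalComplex.cyclesMap_i f p).hom z)).trans (congrArg (f.f p).hom (K.i_cyclesMk x _ rfl hx))
  · intro h
    refine ModuleCat.hom_ext (LinearMap.ext fun y => ?_)
    obtain ⟨z, rfl⟩ := (ModuleCat.epi_iff_surjective (K.homologyπ p)).1 inferInstance y
    refine (congr($(HomologicalComplex.homologyπ_naturality f p).hom z)).trans ?_
    show (L.homologyπ p).hom ((HomologicalComplex.cyclesMap f p).hom z) = 0
    rw [← LinearMap.mem_ker, H1TorFun.ker_homologyπ]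
    obtain ⟨v, hv⟩ := h ((K.iCycles p).hom z) congr($(K.iCycles_d p _).hom z)
    refine ⟨v, (ModuleCat.mono_iff_injective (L.iCycles p)).1 inferInstance ?_⟩
    exact (congr($(L.toCycles_i (p + 1) p).hom v)).trans (hv.trans (congr($(HomologicalComplex.cyclesMap_i f p).hom z)).symm)

/-- the chain map -/
def fm {X Y : ModuleCat.{u} R} (g : X ⟶ Y) (i : ℕ) : cF (PC.obj X) i →ₗ[R] cF (PC.obj Y) i := ((PC.map g).f i).hom

/-- the map induced on `Tor_i(M, -)` is zero, on chains -/
def ZM (M : Type u) [AddCommGroup M] [Module R M] {X Y : ModuleCat.{u} R} (g : X ⟶ Y) (i : ℕ) : Prop :=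
  ∀ x : M ⊗[R] cF (PC.obj X) i, x ∈ Z (cd (PC.obj X)) M i →
    (fm g i).lTensor M x ∈ LinearMap.range ((cd (PC.obj Y) i).lTensor M)

theorem zm_iff (M : ModuleCat.{u} R) {X Y : ModuleCat.{u} R} (g : X ⟶ Y) (i : ℕ) :
    ((Tor (ModuleCat.{u} R) i).obj M).map g = 0 ↔ ZM M g i := by
  have e := ProjectiveResolution.isoLeftDerivedObj_hom_naturality g (PR X) (PR Y) (PC.map g) (comm_PR g)
    ((tensoringLeft (ModuleCat.{u} R)).obj M) i
  have h1 : ((Tor (ModuleCat.{u} R) i).obj M).map g = 0 ↔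
      HomologicalComplex.homologyMap ((tL M).map (PC.map g)) i = 0 := by
    refine ⟨fun h => ?_, fun h => ?_⟩
    · refine (cancel_epi ((PR X).isoLeftDerivedObj _ i).hom).1 (e.symm.trans ?_)
      exact ((congrArg (· ≫ _) h).trans Limits.zero_comp).trans Limits.comp_zero.symm
    · refine (cancel_mono ((PR Y).isoLeftDerivedObj _ i).hom).1 (e.trans ?_)
      exact ((congrArg (_ ≫ ·) h).trans Limits.comp_zero).trans Limits.zero_comp.symm
  rw [h1, homologyMap_eq_zero_iff]
  cases i with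
  | zero =>
    refine ⟨fun h x _ => h x ?_, fun h x _ => h x Submodule.mem_top⟩
    rw [HomologicalComplex.shape _ 0 _ (by simp)]
    rfl
  | succ i =>
    rw [show (ComplexShape.down ℕ).next (i + 1) = i from (ComplexShape.down ℕ).next_eq' rfl]
    exact Iff.rfl

/-- `R ⧸ I^a → R ⧸ I^b` -/
def gf (I : Ideal R) {a b : ℕ} (h : b ≤ a) : ModuleCat.of R (R ⧸ I ^ a) ⟶ ModuleCat.of R (R ⧸ I ^ b) :=
  ModuleCat.ofHom (Submodule.factor (Ideal.pow_le_pow_right h))

theorem gf_comp (I : Ideal R) {a b c : ℕ} (h : b ≤ a) (h' : c ≤ b) : gf I h ≫ gf I h' = gf I (h'.trans h) := by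
  refine ModuleCat.hom_ext (LinearMap.ext fun x => ?_)
  obtain ⟨x, rfl⟩ := Submodule.mkQ_surjective _ x
  rfl

variable {K L N : Type u} [AddCommGroup K] [Module R K] [AddCommGroup L] [Module R L] [AddCommGroup N] [Module R N]

theorem swap_apply {P Q : Type u} [AddCommGroup P] [Module R P] [AddCommGroup Q] [Module R Q] (f : K →ₗ[R] L)
    (φ : P →ₗ[R] Q) (x : K ⊗[R] P) : f.rTensor Q (φ.lTensor K x) = φ.lTensor L (f.rTensor P x) :=
  ((LinearMap.comp_apply (f.rTensor Q) (φ.lTensor K) x).symm.trans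
    (by rw [LinearMap.rTensor_comp_lTensor, ← LinearMap.lTensor_comp_rTensor])).trans
    (LinearMap.comp_apply (φ.lTensor L) (f.rTensor P) x)

theorem map_d {X Y : ModuleCat.{u} R} (g : X ⟶ Y) (i : ℕ) (M : Type u) [AddCommGroup M] [Module R M]
    (x : M ⊗[R] cF (PC.obj X) (i + 1)) :
    (fm g i).lTensor M ((cd (PC.obj X) i).lTensor M x) =
      (cd (PC.obj Y) i).lTensor M ((fm g (i + 1)).lTensor M x) := by
  rw [← LinearMap.lTensor_comp_apply, ← LinearMap.lTensor_comp_apply]
  exact congrArg (fun φ : cF (PC.obj X) (i + 1) →ₗ[R] cF (PC.obj Y) i => φ.lTensor M x)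
    (congrArg ModuleCat.Hom.hom ((PC.map g).comm (i + 1) i)).symm

theorem map_comp_apply {X Y W : ModuleCat.{u} R} (g : X ⟶ Y) (g' : Y ⟶ W) (i : ℕ) (M : Type u) [AddCommGroup M]
    [Module R M] (x : M ⊗[R] cF (PC.obj X) i) :
    (fm (g ≫ g') i).lTensor M x = (fm g' i).lTensor M ((fm g i).lTensor M x) := by
  rw [fm, fm, fm, Functor.map_comp, ← LinearMap.lTensor_comp_apply]
  rfl

instance flat_PC (X : ModuleCat.{u} R) (i : ℕ) : Module.Flat R (cF (PC.obj X) i) :=
  inferInstanceAs (Module.Flat R (_ →₀ R))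

variable (f : K →ₗ[R] L) (q : L →ₗ[R] N) (hf : Function.Injective f) (hq : Function.Surjective q)
  (hfq : Function.Exact f q)
include hf hq hfq

theorem zm_step {X Y W : ModuleCat.{u} R} (g : X ⟶ Y) (g' : Y ⟶ W) (i : ℕ) (hK : ZM K g i) (hL : ZM L g' (i + 1)) :
    ZM N (g ≫ g') (i + 1) := by
  intro x hx
  obtain ⟨z, rfl, w, hw⟩ := lift_cycle (cd (PC.obj X)) f q hq hfq i x hx
  obtain ⟨v, hv⟩ := hK w (z_reflect (cd (PC.obj X)) f hf i (by
    rw [hw]; exact range_le_z (cd (PC.obj X)) (cd_comp _) i z))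
  obtain ⟨y, hy⟩ := hL ((fm g (i + 1)).lTensor L z - f.rTensor _ v) (by
    show (cd (PC.obj Y) i).lTensor L (_ - _) = 0
    rw [map_sub, ← map_d, ← natural, hv, swap_apply, hw, sub_self])
  refine ⟨q.rTensor _ y, ?_⟩
  rw [← natural, hy, map_sub, map_sub, map_comp_apply, swap_apply, swap_apply, swap_apply,
    comp_rTensor_zero f q hfq, map_zero, sub_zero]

omit hf in
/-- degree one, when the kernel of `K ⊗ X → L ⊗ X` vanishes -/
theorem zm_one {X Y : ModuleCat.{u} R} (g : X ⟶ Y) (hinj : Function.Injective (f.rTensor X)) (hL : ZM L g 1) :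
    ZM N g 1 := by
  intro x hx
  obtain ⟨z, rfl, w, hw⟩ := lift_cycle (cd (PC.obj X)) f q hq hfq 0 x hx
  let au : cF (PC.obj X) 0 →ₗ[R] X := augm (PR X)
  have hexX : Function.Exact (cd (PC.obj X) 0) au := aug_exact (PR X)
  have hsurj : Function.Surjective au := aug_surjective (PR X)
  have h0 : au.lTensor K w = 0 := hinj ((swap_apply f au w).trans (by
    rw [hw, ← LinearMap.lTensor_comp_apply, hexX.linearMap_comp_eq_zero, LinearMap.lTensor_zero, LinearMap.zero_apply,
      map_zero]))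
  obtain ⟨v, hv⟩ := (lTensor_exact K hexX hsurj w).mp h0
  obtain ⟨y, hy⟩ := hL (z - f.rTensor _ v) (by
    show (cd (PC.obj X) 0).lTensor L (_ - _) = 0
    rw [map_sub, ← natural, hv, hw, sub_self])
  refine ⟨q.rTensor _ y, ?_⟩
  rw [← natural, hy, swap_apply, map_sub, comp_rTensor_zero f q hfq, sub_zero]

omit hf hq hfq in
theorem zm_finsupp (ι : Type u) {X Y : ModuleCat.{u} R} (g : X ⟶ Y) (i : ℕ) (h : ZM L g i) :
    ZM (ι →₀ L) g i := by
  classical
  intro x hx
  let e := TensorProduct.finsuppLeft R R L (cF (PC.obj X) i) ι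
  have h1 : ∀ (j : ι) (y : (ι →₀ L) ⊗[R] cF (PC.obj X) i), e y j = (Finsupp.lapply j : (ι →₀ L) →ₗ[R] L).rTensor _ y := by
    intro j y
    induction y using TensorProduct.induction_on with
    | zero => simp
    | tmul a b => simp [e]
    | add a b ha hb => rw [map_add, Finsupp.add_apply, ha, hb, map_add]
  have h2 : ∀ (j : ι) (t : L ⊗[R] cF (PC.obj X) i), e.symm (Finsupp.single j t) = (Finsupp.lsingle j : L →ₗ[R] ι →₀ L).rTensor _ t := by
    intro j t
    induction t using TensorProduct.induction_on with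
    | zero => simp
    | tmul a b => simp [e]
    | add a b ha hb => rw [Finsupp.single_add, map_add, ha, hb, map_add]
  have hx' : x = ∑ j ∈ (e x).support, (Finsupp.lsingle j : L →ₗ[R] ι →₀ L).rTensor _ (e x j) := by
    conv_lhs => rw [← e.symm_apply_apply x, ← (e x).sum_single]
    rw [Finsupp.sum, map_sum]
    exact Finset.sum_congr rfl fun j _ => h2 j _
  rw [hx', map_sum]
  refine Submodule.sum_mem _ fun j _ => ?_
  obtain ⟨v, hv⟩ := h _ (z_map (cd (PC.obj X)) (Finsupp.lapply j : (ι →₀ L) →ₗ[R] L) i hx)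
  refine ⟨(Finsupp.lsingle j : L →ₗ[R] ι →₀ L).rTensor _ v, ?_⟩
  rw [← natural, hv, swap_apply, h1]

end

end Groth.Agent.H1TorPZ
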