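import Groth.Agent.Lib.H1TorProZero
import Groth.Agent.Lib.FiniteFreeResolution

/-!
# Uniform vanishing
-/

set_option autoImplicit false

universe u

open CategoryTheory CategoryTheory.Limits MonoidalCategory TensorProduct

namespace Groth.Agent.H1TorPZ

open Groth.Agent.H1TorRes Groth.Agent.H1TorBal Groth.Agent.H1TorFun

variable (R : Type u) [CommRing R] [IsNoetherianRing R] (I : Ideal R)

omit [IsNoetherianRing R] in
theorem mk_eq_zero_of_mem {F : Type u} [AddCommGroup F] [Module R F] (J : Ideal R) {y : F}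
    (hy : y ∈ J • (⊤ : Submodule R F)) : (1 : R ⧸ J) ⊗ₜ[R] y = 0 := by
  apply (TensorProduct.quotTensorEquivQuotSMul F J).injective
  rw [map_zero, TensorProduct.quotTensorEquivQuotSMul_mk_one_tmul]
  exact (Submodule.Quotient.mk_eq_zero _).mpr hy

omit [IsNoetherianRing R] in
theorem exists_mk {F : Type u} [AddCommGroup F] [Module R F] (J : Ideal R) (x : (R ⧸ J) ⊗[R] F) :
    ∃ y : F, x = (1 : R ⧸ J) ⊗ₜ[R] y := by
  obtain ⟨y, hy⟩ := Submodule.mkQ_surjective _ (TensorProduct.quotTensorEquivQuotSMul F J x)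
  refine ⟨y, (TensorProduct.quotTensorEquivQuotSMul F J).injective ?_⟩
  rw [TensorProduct.quotTensorEquivQuotSMul_mk_one_tmul]
  exact hy.symm

omit [IsNoetherianRing R] in
theorem mem_of_mk_eq_zero {F : Type u} [AddCommGroup F] [Module R F] (J : Ideal R) {y : F}
    (hy : (1 : R ⧸ J) ⊗ₜ[R] y = 0) : y ∈ J • (⊤ : Submodule R F) := by
  refine (Submodule.Quotient.mk_eq_zero _).mp ?_
  rw [← TensorProduct.quotTensorEquivQuotSMul_mk_one_tmul, hy, map_zero]

theorem exists_zm_finite (M : Type u) [AddCommGroup M] [Module R M] [Module.Finite R M] (j : ℕ) :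
    ∃ c, ∀ n n' (h : n' ≤ n), n' + c ≤ n → ZM M (gf I h) (j + 1) := by
  obtain ⟨P, hP⟩ : ∃ F : ProjectiveResolution (ModuleCat.of R M),
      ∀ i, Module.Finite R (F.complex.X i) ∧ Module.Free R (F.complex.X i) :=
    Groth.Agent.FiniteFreeResolution.exists_res (R := R) ⟨ModuleCat.of R M, inferInstance⟩
  haveI : ∀ i, Module.Finite R (cF P.complex i) := fun i => (hP i).1
  haveI : Module.Finite R (cF P.complex j) := (hP j).1
  obtain ⟨c, hc⟩ := Ideal.exists_pow_inf_eq_pow_smul I (LinearMap.range (cd P.complex j))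
  refine ⟨c, fun n n' h hn => ?_⟩
  have hz : ((Tor (ModuleCat.{u} R) (j + 1)).map (gf I h)).app (ModuleCat.of R M) = 0 := by
    show (NatTrans.leftDerived ((tensoringLeft (ModuleCat.{u} R)).map (gf I h)) (j + 1)).app (ModuleCat.of R M) = 0
    rw [ProjectiveResolution.leftDerived_app_eq _ P (j + 1)]
    refine (congrArg (fun t => (P.isoLeftDerivedObj _ (j + 1)).hom ≫ t ≫ (P.isoLeftDerivedObj _ (j + 1)).inv)
      ((homologyMap_eq_zero_iff (tA (gf I h) P.complex) (j + 1)).2 ?_)).trans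
      ((congrArg (_ ≫ ·) Limits.zero_comp).trans Limits.comp_zero)
    intro x hx
    rw [show (ComplexShape.down ℕ).next (j + 1) = j from (ComplexShape.down ℕ).next_eq' rfl] at hx
    change (R ⧸ I ^ n) ⊗[R] cF P.complex (j + 1) at x
    change (cd P.complex j).lTensor (R ⧸ I ^ n) x = 0 at hx
    show (gf I h).hom.rTensor _ x ∈ LinearMap.range ((cd P.complex (j + 1)).lTensor (R ⧸ I ^ n'))
    obtain ⟨y, rfl⟩ := exists_mk R (I ^ n) x
    have hmem : cd P.complex j y ∈ I ^ n • ⊤ ⊓ LinearMap.range (cd P.complex j) :=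
      ⟨mem_of_mk_eq_zero R (I ^ n) hx, y, rfl⟩
    rw [hc n (by omega)] at hmem
    have h2 : cd P.complex j y ∈ Submodule.map (cd P.complex j) (I ^ n' • ⊤) := by
      rw [Submodule.map_smul'', Submodule.map_top]
      exact Submodule.smul_mono (Ideal.pow_le_pow_right (by omega)) inf_le_right hmem
    obtain ⟨y', hy', he⟩ := Submodule.mem_map.mp h2
    have hex := (ShortComplex.ShortExact.moduleCat_exact_iff_function_exact _).1 (P.exact_succ j)
    obtain ⟨w, hw⟩ := (hex (y - y')).mp ((map_sub (cd P.complex j) y y').trans (sub_eq_zero.mpr he.symm))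
    have hw' : cd P.complex (j + 1) w = y - y' := hw
    refine ⟨(1 : R ⧸ I ^ n') ⊗ₜ[R] w, ?_⟩
    rw [LinearMap.lTensor_tmul, hw', TensorProduct.tmul_sub, mk_eq_zero_of_mem R (I ^ n') hy', sub_zero]
    rfl
  refine (zm_iff (ModuleCat.of R M) (gf I h) (j + 1)).1 ?_
  let e := (H1TorFun.torFlip.{u} (R := R) (j + 1)).app (ModuleCat.of R M)
  refine (cancel_mono (e.app (ModuleCat.of R (R ⧸ I ^ n'))).hom).1 ((e.hom.naturality (gf I h)).trans ?_)
  exact ((congrArg (_ ≫ ·) hz).trans Limits.comp_zero).trans Limits.zero_comp.symm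

omit [IsNoetherianRing R] in
theorem funext_smul (J : Ideal R) {ι : Type u} {a : R} (ha : a ∈ J) (x : ι →₀ R ⧸ J) : a • x = 0 := by
  refine Finsupp.ext fun i => ?_
  obtain ⟨r, hr⟩ := Ideal.Quotient.mk_surjective (x i)
  rw [Finsupp.smul_apply, ← hr, Finsupp.zero_apply]
  exact Ideal.Quotient.eq_zero_iff_mem.mpr (J.mul_mem_right r ha)

omit [IsNoetherianRing R] in
theorem exists_cover (J : Ideal R) (M : Type u) [AddCommGroup M] [Module R M] (hM : ∀ a ∈ J, ∀ x : M, a • x = 0) :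
    ∃ q : (M →₀ R ⧸ J) →ₗ[R] M, Function.Surjective q := by
  refine ⟨Finsupp.lsum R fun x => J.liftQ (LinearMap.toSpanSingleton R M x) (fun a ha => hM a ha x), fun x =>
    ⟨Finsupp.single x 1, ?_⟩⟩
  rw [Finsupp.lsum_single, ← map_one (Ideal.Quotient.mk J)]
  exact (Submodule.liftQ_apply _ _ _).trans (one_smul R x)

omit [IsNoetherianRing R] in
theorem injective_rTensor_quot (J : Ideal R) {K L : Type u} [AddCommGroup K] [Module R K] [AddCommGroup L] [Module R L]
    (f : K →ₗ[R] L) (hf : Function.Injective f) (hK : ∀ a ∈ J, ∀ x : L, a • x = 0) :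
    Function.Injective (f.rTensor (R ⧸ J)) := by
  rw [← LinearMap.lTensor_inj_iff_rTensor_inj, injective_iff_map_eq_zero]
  intro x hx
  obtain ⟨y, rfl⟩ := exists_mk R J x
  have h0 : f y ∈ J • (⊤ : Submodule R L) := mem_of_mk_eq_zero R J hx
  have : J • (⊤ : Submodule R L) ≤ ⊥ := Submodule.smul_le.mpr fun a ha z _ => (Submodule.mem_bot R).mpr (hK a ha z)
  rw [show y = 0 from hf (((Submodule.mem_bot R).mp (this h0)).trans (map_zero f).symm), TensorProduct.tmul_zero]

omit [IsNoetherianRing R] in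
theorem zm_one_cover {n n' : ℕ} {L M : Type u} [AddCommGroup L] [Module R L] [AddCommGroup M] [Module R M]
    (q : L →ₗ[R] M) (hq : Function.Surjective q) (hL : ∀ a ∈ I ^ n, ∀ x : L, a • x = 0) (h : n' ≤ n)
    (hg : ZM L (gf I h) 1) : ZM M (gf I h) 1 :=
  zm_one (LinearMap.ker q).subtype q hq (LinearMap.exact_subtype_ker_map q) (gf I h)
    (injective_rTensor_quot R (I ^ n) (LinearMap.ker q).subtype (Submodule.injective_subtype _) hL) hg

omit [IsNoetherianRing R] in
theorem zm_step_cover {J : Ideal R} {L M : Type u} [AddCommGroup L] [Module R L] [AddCommGroup M] [Module R M]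
    (q : L →ₗ[R] M) (hq : Function.Surjective q) (hL : ∀ a ∈ J, ∀ x : L, a • x = 0) {X Y W : ModuleCat.{u} R}
    (g : X ⟶ Y) (g' : Y ⟶ W) (i : ℕ)
    (hK : ∀ (K : Type u) [AddCommGroup K] [Module R K], (∀ a ∈ J, ∀ x : K, a • x = 0) → ZM K g i)
    (hg : ZM L g' (i + 1)) : ZM M (g ≫ g') (i + 1) :=
  zm_step (LinearMap.ker q).subtype q (Submodule.injective_subtype _) hq (LinearMap.exact_subtype_ker_map q) g g' i
    (hK _ fun a ha x => Subtype.ext (hL a ha (x : L))) hg

theorem exists_zm (m : ℕ) : ∀ j, ∃ c, ∀ (M : Type u) [AddCommGroup M] [Module R M],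
    (∀ a ∈ I ^ m, ∀ x : M, a • x = 0) → ∀ n n' (h : n' ≤ n), n' + c ≤ n → ZM M (gf I h) (j + 1) := by
  intro j
  induction j with
  | zero =>
    obtain ⟨c, hc⟩ := exists_zm_finite R I (R ⧸ I ^ m) 0
    refine ⟨c + m, fun M _ _ hM n n' h hn => ?_⟩
    obtain ⟨q, hq⟩ := exists_cover R (I ^ m) M hM
    exact zm_one_cover R I q hq (fun a ha x => funext_smul R (I ^ m) (Ideal.pow_le_pow_right (by omega) ha) x)
      h (zm_finsupp M (gf I h) 1 (hc n n' h (by omega)))
  | succ j ih =>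
    obtain ⟨c1, hc1⟩ := ih
    obtain ⟨c2, hc2⟩ := exists_zm_finite R I (R ⧸ I ^ m) (j + 1)
    refine ⟨c1 + c2, fun M _ _ hM n n' h hn => ?_⟩
    obtain ⟨q, hq⟩ := exists_cover R (I ^ m) M hM
    rw [← gf_comp I (show n' + c2 ≤ n by omega) (Nat.le_add_right n' c2)]
    exact zm_step_cover R q hq (fun a ha x => funext_smul R (I ^ m) ha x) _ _ (j + 1)
      (fun K _ _ hK => hc1 K hK n (n' + c2) _ (by omega)) (zm_finsupp M _ (j + 2) (hc2 (n' + c2) n' _ le_rfl))

end Groth.Agent.H1TorPZ
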