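import Mathlib

/-!
# Exactness of flat complexes tested on residue fields; Tor via resolutions
-/

set_option autoImplicit false

universe u

open TensorProduct CategoryTheory CategoryTheory.Limits MonoidalCategory

namespace Groth.Agent.H1TorRes

section Flat

variable {A : Type u} [CommRing A] {F : ℕ → Type u} [∀ i, AddCommGroup (F i)] [∀ i, Module A (F i)]
variable (d : ∀ i, F (i + 1) →ₗ[A] F i)

/-- cycles of `N ⊗ F` -/
def Z (N : Type u) [AddCommGroup N] [Module A N] : ∀ i, Submodule A (N ⊗[A] F i)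
  | 0 => ⊤
  | i + 1 => LinearMap.ker ((d i).lTensor N)

/-- exactness of `N ⊗ F` in degree `i` -/
def Ex (N : Type u) [AddCommGroup N] [Module A N] (i : ℕ) : Prop :=
  ∀ x ∈ Z d N i, x ∈ LinearMap.range ((d i).lTensor N)

variable {N N' : Type u} [AddCommGroup N] [Module A N] [AddCommGroup N'] [Module A N']

theorem natural (g : N →ₗ[A] N') (i : ℕ) (y : N ⊗[A] F (i + 1)) :
    g.rTensor (F i) ((d i).lTensor N y) = (d i).lTensor N' (g.rTensor (F (i + 1)) y) :=
  ((LinearMap.comp_apply (g.rTensor (F i)) ((d i).lTensor N) y).symm.trans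
    (by rw [LinearMap.rTensor_comp_lTensor, ← LinearMap.lTensor_comp_rTensor])).trans
    (LinearMap.comp_apply ((d i).lTensor N') (g.rTensor (F (i + 1))) y)

theorem z_map (g : N →ₗ[A] N') (i : ℕ) {x : N ⊗[A] F i} (hx : x ∈ Z d N i) :
    g.rTensor (F i) x ∈ Z d N' i := by
  cases i with
  | zero => exact Submodule.mem_top
  | succ i =>
    show (d i).lTensor N' (g.rTensor _ x) = 0
    rw [← natural d g i x, show (d i).lTensor N x = 0 from hx, map_zero]

variable [∀ i, Module.Flat A (F i)]

theorem z_reflect (g : N →ₗ[A] N') (hg : Function.Injective g) (i : ℕ) {x : N ⊗[A] F i}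
    (hx : g.rTensor (F i) x ∈ Z d N' i) : x ∈ Z d N i := by
  cases i with
  | zero => exact Submodule.mem_top
  | succ i =>
    show (d i).lTensor N x = 0
    apply Module.Flat.rTensor_preserves_injective_linearMap (M := F i) g hg
    rw [map_zero, natural]
    exact hx

theorem ex_of_injective_surjective (e : N ≃ₗ[A] N') (i : ℕ) (h : Ex d N' i) : Ex d N i := by
  intro x hx
  obtain ⟨z, hz⟩ := h _ (z_map d e.toLinearMap i hx)
  refine ⟨e.symm.toLinearMap.rTensor _ z, ?_⟩
  rw [← natural d e.symm.toLinearMap i z, hz, ← LinearMap.comp_apply, ← LinearMap.rTensor_comp]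
  simp

variable (hdd : ∀ i, (d i).comp (d (i + 1)) = 0)
include hdd

omit [∀ i, Module.Flat A (F i)] in
theorem range_le_z (i : ℕ) (y : N ⊗[A] F (i + 1)) : (d i).lTensor N y ∈ Z d N i := by
  cases i with
  | zero => exact Submodule.mem_top
  | succ i =>
    show (d i).lTensor N ((d (i + 1)).lTensor N y) = 0
    rw [← LinearMap.comp_apply, ← LinearMap.lTensor_comp, hdd, LinearMap.lTensor_zero, LinearMap.zero_apply]

theorem ex_middle {N₂ : Type u} [AddCommGroup N₂] [Module A N₂] (f : N →ₗ[A] N₂) (g : N₂ →ₗ[A] N')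
    (hf : Function.Injective f) (hg : Function.Surjective g) (hfg : Function.Exact f g) (i : ℕ)
    (h₁ : Ex d N i) (h₃ : Ex d N' i) : Ex d N₂ i := by
  intro x hx
  obtain ⟨z, hz⟩ := h₃ _ (z_map d g i hx)
  obtain ⟨z', rfl⟩ := LinearMap.rTensor_surjective (F (i + 1)) hg z
  have h0 : g.rTensor (F i) (x - (d i).lTensor N₂ z') = 0 := by rw [map_sub, natural, hz, sub_self]
  obtain ⟨w, hw⟩ := (rTensor_exact (F i) hfg hg _).mp h0
  obtain ⟨v, hv⟩ := h₁ w (z_reflect d f hf i (by
    rw [hw]; exact Submodule.sub_mem _ hx (range_le_z d hdd i z')))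
  refine ⟨z' + f.rTensor _ v, ?_⟩
  rw [map_add, ← natural, hv, hw, add_sub_cancel]


/-- arbitrary modules from finitely generated ones -/
theorem ex_of_finite (i : ℕ) (h : ∀ J : Submodule A N, J.FG → Ex d J i) : Ex d N i := by
  intro x hx
  obtain ⟨J, hJ, y, hy⟩ := Submodule.exists_fg_le_eq_rTensor_subtype x
  obtain ⟨v, hv⟩ := h J hJ y (z_reflect d J.subtype J.injective_subtype i (by rwa [← hy]))
  exact ⟨J.subtype.rTensor _ v, by rw [← natural, hv, ← hy]⟩

end Flat

section Residue

variable {A : Type u} [CommRing A] [IsNoetherianRing A] {F : ℕ → Type u} [∀ i, AddCommGroup (F i)]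
  [∀ i, Module A (F i)] [∀ i, Module.Flat A (F i)]
variable (d : ∀ i, F (i + 1) →ₗ[A] F i) (hdd : ∀ i, (d i).comp (d (i + 1)) = 0)
include hdd

theorem ex_prime (p : Ideal A) [p.IsPrime] (i : ℕ)
    (hk : Ex d p.ResidueField i)
    (hup : ∀ (N : Type u) [AddCommGroup N] [Module A N] [Module.Finite A N],
      (∃ s ∉ p, ∀ r ∈ p ⊔ Ideal.span {s}, ∀ x : N, r • x = 0) → Ex d N (i + 1)) :
    Ex d (A ⧸ p) i := by
  intro x hx
  let ι : (A ⧸ p) →ₗ[A] p.ResidueField := (IsScalarTower.toAlgHom A (A ⧸ p) p.ResidueField).toLinearMap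
  have hι : Function.Injective ι := IsFractionRing.injective (A ⧸ p) p.ResidueField
  have hsurj : ∀ k : p.ResidueField, ∃ s ∉ p, ∃ a, ι a = s • k := by
    intro k
    obtain ⟨a, b, hb, hab⟩ := IsFractionRing.div_surjective (A := A ⧸ p) k
    obtain ⟨b', rfl⟩ := Ideal.Quotient.mk_surjective b
    have hb' : b' ∉ p := fun h => by
      rw [Ideal.Quotient.eq_zero_iff_mem.mpr h] at hb
      exact zero_notMem_nonZeroDivisors hb
    refine ⟨b', hb', a, ?_⟩
    show algebraMap (A ⧸ p) p.ResidueField a = b' • k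
    rw [← hab, Algebra.smul_def, IsScalarTower.algebraMap_apply A (A ⧸ p) p.ResidueField,
      Ideal.Quotient.algebraMap_eq, mul_div_cancel₀]
    exact fun h => zero_notMem_nonZeroDivisors ((map_eq_zero_iff _ (IsFractionRing.injective _ _)).mp h ▸ hb)
  have hlift : ∀ y : p.ResidueField ⊗[A] F (i + 1), ∃ s ∉ p, ∃ y', ι.rTensor _ y' = s • y := by
    intro y
    induction y using TensorProduct.induction_on with
    | zero => exact ⟨1, (‹p.IsPrime›).one_notMem, 0, by rw [map_zero, smul_zero]⟩
    | tmul k f =>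
      obtain ⟨s, hs, a, ha⟩ := hsurj k
      exact ⟨s, hs, a ⊗ₜ f, by rw [LinearMap.rTensor_tmul, ha, smul_tmul']⟩
    | add a b ha hb =>
      obtain ⟨s, hs, a', ha'⟩ := ha
      obtain ⟨t, ht, b', hb'⟩ := hb
      refine ⟨s * t, fun h => (‹p.IsPrime›.mem_or_mem h).elim hs ht, t • a' + s • b', ?_⟩
      rw [map_add, map_smul, map_smul, ha', hb', smul_add, mul_smul, mul_smul, smul_comm t s a]
  obtain ⟨y, hy⟩ := hk _ (z_map d ι i hx)
  obtain ⟨s, hs, y', hy'⟩ := hlift y
  have hdy : (d i).lTensor _ y' = s • x := by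
    apply Module.Flat.rTensor_preserves_injective_linearMap (M := F i) ι hι
    rw [natural, hy', map_smul, hy, map_smul]
  let μ : (A ⧸ p) →ₗ[A] A ⧸ p := LinearMap.lsmul A (A ⧸ p) s
  have hμ : Function.Injective μ := (injective_iff_map_eq_zero μ).mpr fun z hz => by
    obtain ⟨r, rfl⟩ := Ideal.Quotient.mk_surjective z
    change Ideal.Quotient.mk p (s * r) = 0 at hz
    rw [Ideal.Quotient.eq_zero_iff_mem] at hz ⊢
    exact (‹p.IsPrime›.mem_or_mem hz).resolve_left hs
  have hμF : ∀ (j : ℕ) (z : (A ⧸ p) ⊗[A] F j), μ.rTensor (F j) z = s • z := by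
    intro j z
    induction z using TensorProduct.induction_on with
    | zero => simp
    | tmul a b => rfl
    | add a b ha hb => rw [map_add, ha, hb, smul_add]
  let π := (LinearMap.range μ).mkQ
  have hex : Function.Exact μ π := LinearMap.exact_map_mkQ_range μ
  have hQ := hup ((A ⧸ p) ⧸ LinearMap.range μ) ⟨s, hs, fun r hr w => by
    obtain ⟨w, rfl⟩ := Submodule.mkQ_surjective _ w
    obtain ⟨a, ha, b, hb, rfl⟩ := Submodule.mem_sup.mp hr
    obtain ⟨c, rfl⟩ := Ideal.mem_span_singleton'.mp hb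
    obtain ⟨z, rfl⟩ := Ideal.Quotient.mk_surjective w
    rw [← map_smul, Submodule.mkQ_apply, Submodule.Quotient.mk_eq_zero]
    refine ⟨c • Ideal.Quotient.mk p z, ?_⟩
    show s • c • Ideal.Quotient.mk p z = (a + c * s) • Ideal.Quotient.mk p z
    rw [add_smul, mul_smul, smul_comm s c, show a • Ideal.Quotient.mk p z = 0 from
      Ideal.Quotient.eq_zero_iff_mem.mpr (Ideal.mul_mem_right z p ha), zero_add]⟩
  have hcyc : π.rTensor (F (i + 1)) y' ∈ Z d _ (i + 1) := by
    show (d i).lTensor _ (π.rTensor _ y') = 0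
    rw [← natural, hdy, ← hμF, ← LinearMap.comp_apply, ← LinearMap.rTensor_comp, hex.linearMap_comp_eq_zero,
      LinearMap.rTensor_zero, LinearMap.zero_apply]
  obtain ⟨z, hz⟩ := hQ _ hcyc
  obtain ⟨z', rfl⟩ := LinearMap.rTensor_surjective (F (i + 2)) (Submodule.mkQ_surjective _) z
  have h0 : π.rTensor (F (i + 1)) (y' - (d (i + 1)).lTensor _ z') = 0 := by
    rw [map_sub, natural d π (i + 1) z', hz, sub_self]
  obtain ⟨y'', hy''⟩ := (rTensor_exact (F (i + 1)) hex (Submodule.mkQ_surjective _) _).mp h0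
  refine ⟨y'', Module.Flat.rTensor_preserves_injective_linearMap (M := F i) μ hμ ?_⟩
  rw [natural, hy'', map_sub, hμF, hdy, ← LinearMap.comp_apply ((d i).lTensor _), ← LinearMap.lTensor_comp,
    hdd, LinearMap.lTensor_zero, LinearMap.zero_apply, sub_zero]

/-- exactness on all residue fields above `n` gives exactness for every module above `n` -/
theorem ex_all (n : ℕ) (h : ∀ (p : Ideal A) [p.IsPrime] (i : ℕ), n ≤ i → Ex d p.ResidueField i)
    (N : Type u) [AddCommGroup N] [Module A N] (i : ℕ) (hi : n ≤ i) : Ex d N i := by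
  have key : ∀ J : Ideal A, ∀ (N : Type u) [AddCommGroup N] [Module A N] [Module.Finite A N],
      (∀ r ∈ J, ∀ x : N, r • x = 0) → ∀ i, n ≤ i → Ex d N i := by
    intro J
    induction J using WellFoundedGT.induction with
    | ind J ih =>
      intro N _ _ hfin hN
      induction hfin using IsNoetherianRing.induction_on_isQuotientEquivQuotientPrime A with
      | subsingleton N =>
        intro i _ x _
        haveI : Subsingleton (N ⊗[A] F i) := ⟨fun a b => by
          have : ∀ c : N ⊗[A] F i, c = 0 := fun c => by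
            induction c using TensorProduct.induction_on with
            | zero => rfl
            | tmul a b => rw [Subsingleton.elim a 0, zero_tmul]
            | add a b ha hb => rw [ha, hb, add_zero]
          rw [this a, this b]⟩
        exact ⟨0, Subsingleton.elim _ _⟩
      | quotient N p f =>
        intro i hi
        refine ex_of_injective_surjective d f i ?_
        have hJ : J ≤ p.1 := fun r hr => by
          have := congrArg f (hN r hr (f.symm 1))
          rw [map_smul, map_zero, LinearEquiv.apply_symm_apply, Algebra.smul_def, mul_one,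
            Ideal.Quotient.algebraMap_eq, Ideal.Quotient.eq_zero_iff_mem] at this
          exact this
        haveI := p.2
        refine ex_prime d hdd p.1 i (h p.1 i hi) fun N' _ _ _ ⟨s, hs, hkill⟩ => ?_
        refine ih (p.1 ⊔ Ideal.span {s}) ?_ N' hkill (i + 1) (by omega)
        exact lt_of_le_of_lt hJ (lt_of_le_of_ne le_sup_left fun he =>
          hs (he.ge (Ideal.mem_sup_right (Ideal.mem_span_singleton_self s))))
      | exact N₁ N₂ N₃ f g hf hg hfg h₁ h₃ =>
        intro i hi
        refine ex_middle d hdd f g hf hg hfg i (h₁ (fun r hr x => hf (by rw [map_smul, hN r hr, map_zero])) i hi)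
          (h₃ (fun r hr x => ?_) i hi)
        obtain ⟨x, rfl⟩ := hg x
        rw [← map_smul, hN r hr, map_zero]
  refine ex_of_finite d hdd i fun J hJ => ?_
  haveI : Module.Finite A J := Module.Finite.iff_fg.mpr hJ
  exact key ⊥ J (fun r hr x => by rw [(Ideal.mem_bot).mp hr, zero_smul]) i hi

end Residue

section Tor

variable {A : Type u} [CommRing A]

abbrev cF (K : ChainComplex (ModuleCat.{u} A) ℕ) : ℕ → Type u := fun i => ↥(K.X i)

abbrev cd (K : ChainComplex (ModuleCat.{u} A) ℕ) (i : ℕ) : cF K (i + 1) →ₗ[A] cF K i := (K.d (i + 1) i).hom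

theorem cd_comp (K : ChainComplex (ModuleCat.{u} A) ℕ) (i : ℕ) : (cd K i).comp (cd K (i + 1)) = 0 :=
  congrArg ModuleCat.Hom.hom (K.d_comp_d (i + 1 + 1) (i + 1) i)

theorem flat_resolution {M : ModuleCat.{u} A} (P : ProjectiveResolution M) (i : ℕ) :
    Module.Flat A (cF P.complex i) := by
  have := P.projective i
  haveI : Module.Projective A (cF P.complex i) :=
    (IsProjective.iff_projective (R := A) (P.complex.X i)).mpr this
  infer_instance

theorem isZero_tor_iff (X M : ModuleCat.{u} A) (P : ProjectiveResolution M) (i : ℕ) :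
    IsZero (((Tor (ModuleCat.{u} A) i).obj X).obj M) ↔ Ex (cd P.complex) X i := by
  refine (Iso.isZero_iff (P.isoLeftDerivedObj ((tensoringLeft (ModuleCat.{u} A)).obj X) i)).trans ?_
  refine (HomologicalComplex.exactAt_iff_isZero_homology _ i).symm.trans ?_
  cases i with
  | zero =>
    rw [HomologicalComplex.exactAt_iff' _ 1 0 0 (by simp) (by simp), ShortComplex.ShortExact.moduleCat_exact_iff_function_exact]
    constructor
    · intro h x _
      refine (h x).mp ?_
      show (((((tensoringLeft (ModuleCat.{u} A)).obj X).mapHomologicalComplex _).obj P.complex).d 0 0).hom x = 0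
      rw [HomologicalComplex.shape _ 0 0 (by simp)]
      rfl
    · intro h x
      refine ⟨fun _ => h x Submodule.mem_top, fun _ => ?_⟩
      show (((((tensoringLeft (ModuleCat.{u} A)).obj X).mapHomologicalComplex _).obj P.complex).d 0 0).hom x = 0
      rw [HomologicalComplex.shape _ 0 0 (by simp)]
      rfl
  | succ i =>
    rw [HomologicalComplex.exactAt_iff' _ (i + 2) (i + 1) i (by simp) (by simp), ShortComplex.ShortExact.moduleCat_exact_iff_function_exact]
    constructor
    · intro h x hx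
      exact (h x).mp hx
    · intro h x
      refine ⟨fun hx => h x hx, ?_⟩
      rintro ⟨y, rfl⟩
      exact range_le_z (N := X) (cd P.complex) (cd_comp P.complex) (i + 1) y

/-- element consequences of a homology isomorphism -/
theorem bij_of_quasiIso {S₁ S₂ : ShortComplex (ModuleCat.{u} A)} (φ : S₁ ⟶ S₂) [ShortComplex.QuasiIso φ] :
    (∀ x : S₁.X₂, S₁.g x = 0 → φ.τ₂ x ∈ LinearMap.range S₂.f.hom → x ∈ LinearMap.range S₁.f.hom) ∧
    (∀ y : S₂.X₂, S₂.g y = 0 → ∃ x : S₁.X₂, S₁.g x = 0 ∧ y - φ.τ₂ x ∈ LinearMap.range S₂.f.hom) := by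
  let γ : ShortComplex.LeftHomologyMapData φ S₁.moduleCatLeftHomologyData S₂.moduleCatLeftHomologyData := default
  haveI : IsIso (ShortComplex.homologyMap φ) := by
    rwa [← ShortComplex.quasiIso_iff]
  haveI : IsIso γ.φH := by
    have e := γ.homologyMap_eq
    have : γ.φH = S₁.moduleCatLeftHomologyData.homologyIso.inv ≫ ShortComplex.homologyMap φ ≫
        S₂.moduleCatLeftHomologyData.homologyIso.hom := by
      rw [e]; simp
    rw [this]; infer_instance
  have hb : Function.Bijective γ.φH := ConcreteCategory.bijective_of_isIso γ.φH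
  have hK : ∀ x, (γ.φK x : S₂.moduleCatLeftHomologyData.K).1 = φ.τ₂ x.1 := fun x =>
    congr($(γ.commi) x)
  have hπ : ∀ x, γ.φH (S₁.moduleCatLeftHomologyData.π x) = S₂.moduleCatLeftHomologyData.π (γ.φK x) := fun x =>
    congr($(γ.commπ) x)
  constructor
  · intro x hx hrange
    obtain ⟨w, hw⟩ := hrange
    let x' : S₁.moduleCatLeftHomologyData.K := (⟨x, hx⟩ : LinearMap.ker S₁.g.hom)
    have h0 : γ.φH (S₁.moduleCatLeftHomologyData.π x') = 0 := by
      rw [hπ]
      refine (Submodule.Quotient.mk_eq_zero _).mpr ⟨w, Subtype.ext ?_⟩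
      exact hw.trans (hK x').symm
    have := (Submodule.Quotient.mk_eq_zero _).mp (hb.1 (h0.trans (map_zero γ.φH.hom).symm))
    obtain ⟨v, hv⟩ := this
    exact ⟨v, congrArg Subtype.val hv⟩
  · intro y hy
    obtain ⟨z, hz⟩ := hb.2 (S₂.moduleCatLeftHomologyData.π (⟨y, hy⟩ : LinearMap.ker S₂.g.hom))
    obtain ⟨x', rfl⟩ := Submodule.mkQ_surjective _ z
    refine ⟨x'.1, x'.2, ?_⟩
    have hz' : S₂.moduleCatLeftHomologyData.π (γ.φK x') = S₂.moduleCatLeftHomologyData.π (⟨y, hy⟩ : LinearMap.ker S₂.g.hom) :=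
      (hπ x').symm.trans hz
    obtain ⟨w, hw⟩ := (Submodule.Quotient.eq _).mp hz'.symm
    exact ⟨w, (congrArg Subtype.val hw).trans (by rw [← hK x']; rfl)⟩

end Tor

end Groth.Agent.H1TorRes
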