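import Mathlib
set_option autoImplicit false

/-! Ring maps out of adic completions that kill a power of the ideal. -/
namespace Groth.Agent.H2AdicComplFS
set_option backward.isDefEq.respectTransparency.types false
universe u v

variable {S : Type u} [CommRing S] {I : Ideal S} (h : I.FG)

local notation "Î" => Ideal.map (algebraMap S (AdicCompletion I S)) I

include h in
theorem mem_pow_map_iff (k : ℕ) (x : AdicCompletion I S) :
    x ∈ Î ^ k ↔ AdicCompletion.evalₐ I k x = 0 := by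
  have h1 : (I ^ k • ⊤ : Submodule S (AdicCompletion I S)) = (AdicCompletion.eval I S k).ker :=
    AdicCompletion.pow_smul_top_eq_ker_eval h
  rw [Ideal.smul_top_eq_map] at h1
  rw [← Ideal.map_pow]
  refine Iff.trans (show _ ↔ x ∈ (AdicCompletion.eval I S k).ker from h1 ▸ Iff.rfl) ?_
  rw [LinearMap.mem_ker, ← AdicCompletion.factor_evalₐ_eq_eval I x (by simp)]
  refine map_eq_zero_iff _ ?_
  rw [RingHom.injective_iff_ker_eq_bot, Ideal.Quotient.factor_ker]
  exact Ideal.map_mk_eq_bot_of_le (by simp)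

theorem evalₐ_algebraMap (k : ℕ) (s : S) :
    AdicCompletion.evalₐ I k (algebraMap S (AdicCompletion I S) s) = Ideal.Quotient.mk (I ^ k) s :=
  (AdicCompletion.evalₐ I k).commutes s

include h in
theorem exists_sub_mem (k : ℕ) (x : AdicCompletion I S) : ∃ s : S, x - algebraMap S _ s ∈ Î ^ k := by
  obtain ⟨s, hs⟩ := Ideal.Quotient.mk_surjective (AdicCompletion.evalₐ I k x)
  exact ⟨s, (mem_pow_map_iff h k _).2 (by rw [map_sub, evalₐ_algebraMap, hs, sub_self])⟩

include h in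
theorem hom_ext {C : Type v} [CommRing C] {φ ψ : AdicCompletion I S →+* C} (k : ℕ)
    (hφ : ∀ x ∈ Î ^ k, φ x = 0) (hψ : ∀ x ∈ Î ^ k, ψ x = 0)
    (heq : ∀ s, φ (algebraMap S _ s) = ψ (algebraMap S _ s)) : φ = ψ := by
  refine RingHom.ext fun x => ?_
  obtain ⟨s, hs⟩ := exists_sub_mem h k x
  rw [← sub_add_cancel x (algebraMap S _ s), map_add, map_add, hφ _ hs, hψ _ hs, heq]

include h in
theorem exists_extend {C : Type v} [CommRing C] (φ : S →+* C) (k : ℕ) (hφ : ∀ s ∈ I ^ k, φ s = 0) :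
    ∃ ψ : AdicCompletion I S →+* C, (∀ s, ψ (algebraMap S _ s) = φ s) ∧ ∀ x ∈ Î ^ k, ψ x = 0 := by
  refine ⟨(Ideal.Quotient.lift (I ^ k) φ hφ).comp (AdicCompletion.evalₐ I k).toRingHom, fun s => ?_, fun x hx => ?_⟩
  · show Ideal.Quotient.lift (I ^ k) φ hφ (AdicCompletion.evalₐ I k (algebraMap S _ s)) = φ s
    rw [evalₐ_algebraMap, Ideal.Quotient.lift_mk]
  · show Ideal.Quotient.lift (I ^ k) φ hφ (AdicCompletion.evalₐ I k x) = 0
    rw [(mem_pow_map_iff h k x).1 hx, map_zero]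

theorem algebraMap_mem {k : ℕ} {s : S} (hs : s ∈ I ^ k) : algebraMap S (AdicCompletion I S) s ∈ Î ^ k := by
  rw [← Ideal.map_pow]
  exact Ideal.mem_map_of_mem _ hs

theorem kill_of_quotient {A C : Type v} [CommRing A] [CommRing C] (φ : A →+* C) (J : Ideal C) (𝔟 : Ideal A) (k m : ℕ)
    (hm : J ^ m = ⊥) (hk : ∀ x ∈ 𝔟 ^ k, Ideal.Quotient.mk J (φ x) = 0) : ∀ x ∈ 𝔟 ^ (k * m), φ x = 0 := fun x hx => by
  rw [pow_mul] at hx
  have h1 : (𝔟 ^ k).map φ ≤ J := Ideal.map_le_iff_le_comap.2 fun y hy => Ideal.mem_comap.2 ((Ideal.Quotient.eq_zero_iff_mem (I := J)).1 (hk y hy))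
  have h2 := Ideal.pow_right_mono h1 m
  rw [← Ideal.map_pow, hm] at h2
  exact h2 (Ideal.mem_map_of_mem _ hx)

end Groth.Agent.H2AdicComplFS
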