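import Mathlib
import Groth.Prelude.Def_CAlgX
set_option autoImplicit false

/-! Test algebras for adic formal smoothness of local algebras. -/
namespace Groth.Agent.H2AdicTest
open IsLocalRing
set_option backward.isDefEq.respectTransparency.types false
universe u

variable {R S : Type u} [CommRing R] [CommRing S] [Algebra R S] [IsLocalRing S]

/-- Pullback of `A → A ⧸ J` along a map from a quotient of `S` by a power of the maximal ideal. -/
theorem exists_pullback {A : Type u} [CommRing A] [Algebra R A] (J : Ideal A) (hJ : J ^ 2 = ⊥) (k : ℕ)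
    (ψ : S →ₐ[R] A ⧸ J) (hk : ∀ x ∈ maximalIdeal S ^ (k + 1), ψ x = 0) :
    ∃ (A' : Type u) (_ : CommRing A') (_ : Algebra R A') (π : A' →ₐ[R] S ⧸ maximalIdeal S ^ (k + 1)) (q : A' →ₐ[R] A),
      Function.Surjective π ∧ RingHom.ker π.toRingHom ^ 2 = ⊥ ∧ IsLocalRing A' ∧
      (∀ w s, π w = Ideal.Quotient.mk _ s → Ideal.Quotient.mk J (q w) = ψ s) ∧
      (∀ w, π w = 0 → q w = 0 → w = 0) ∧ (∀ j ∈ J, ∃ w, π w = 0 ∧ q w = j) := by
  let T := S ⧸ maximalIdeal S ^ (k + 1)
  haveI : Nontrivial T := Ideal.Quotient.nontrivial_iff.2 fun h =>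
    (maximalIdeal.isMaximal S).ne_top (top_le_iff.1 (h.ge.trans (Ideal.pow_le_self k.succ_ne_zero)))
  haveI : IsLocalRing T := IsLocalRing.of_surjective' _ Ideal.Quotient.mk_surjective
  let ψb : T →ₐ[R] A ⧸ J := Ideal.Quotient.liftₐ _ ψ hk
  let P : Subalgebra R (A × T) :=
    AlgHom.equalizer ((Ideal.Quotient.mkₐ R J).comp (AlgHom.fst R A T)) (ψb.comp (AlgHom.snd R A T))
  let π : P →ₐ[R] T := (AlgHom.snd R A T).comp P.val
  let q : P →ₐ[R] A := (AlgHom.fst R A T).comp P.val
  have hmem : ∀ w : P, Ideal.Quotient.mk J (q w) = ψb (π w) := fun w => w.2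
  have hπ : Function.Surjective π := fun t => by
    obtain ⟨a, ha⟩ := Ideal.Quotient.mk_surjective (ψb t)
    exact ⟨⟨(a, t), ha⟩, rfl⟩
  have hinj : ∀ w : P, π w = 0 → q w = 0 → w = 0 := fun w h1 h2 => Subtype.ext (Prod.ext h2 h1)
  have hker : ∀ w : P, π w = 0 → q w ∈ J := fun w hw => by
    rw [← Ideal.Quotient.eq_zero_iff_mem, hmem, hw, map_zero]
  have hsq : RingHom.ker π.toRingHom ^ 2 = ⊥ := by
    rw [eq_bot_iff, pow_two, Ideal.mul_le]
    intro x hx y hy
    refine hinj _ ?_ ?_
    · rw [map_mul, show π x = 0 from hx, zero_mul]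
    · rw [map_mul, ← Ideal.mem_bot, ← hJ, pow_two]
      exact Ideal.mul_mem_mul (hker x hx) (hker y hy)
  have hu : ∀ x : P, IsUnit (π x) → IsUnit x := fun x hx => by
    obtain ⟨v, hv⟩ := hx.exists_right_inv
    obtain ⟨y, rfl⟩ := hπ v
    have h0 : x * y - 1 ∈ RingHom.ker π.toRingHom := by
      show π (x * y - 1) = 0
      rw [map_sub, map_mul, hv, map_one, sub_self]
    have h1 : (x * y - 1) * (x * y - 1) = 0 := by
      rw [← Ideal.mem_bot, ← hsq, pow_two]
      exact Ideal.mul_mem_mul h0 h0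
    exact IsUnit.of_mul_eq_one (y * (2 - x * y)) (by linear_combination -h1)
  haveI : Nontrivial P := π.toRingHom.domain_nontrivial
  have hloc : IsLocalRing P := IsLocalRing.of_isUnit_or_isUnit_one_sub_self fun x =>
    (IsLocalRing.isUnit_or_isUnit_one_sub_self (π x)).imp (hu x) fun h => hu _ (by rwa [map_sub, map_one])
  refine ⟨P, inferInstance, inferInstance, π, q, hπ, hsq, hloc, fun w s hw => ?_, hinj, fun j hj => ?_⟩
  · rw [hmem, hw]; rfl
  · refine ⟨⟨(j, 0), ?_⟩, rfl, rfl⟩
    show Ideal.Quotient.mk J j = ψb 0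
    rw [Ideal.Quotient.eq_zero_iff_mem.2 hj, map_zero]

/-- The data of a test algebra attached to a surjection onto a quotient of `S`. -/
theorem test_data [IsLocalRing R] [IsLocalHom (algebraMap R S)] {A : Type u} [CommRing A] [IsLocalRing A] [Algebra R A]
    (k : ℕ) (π : A →ₐ[R] S ⧸ maximalIdeal S ^ (k + 1)) (hπ : Function.Surjective π)
    (hsq : RingHom.ker π.toRingHom ^ 2 = ⊥) :
    IsLocalHom (algebraMap R A) ∧ maximalIdeal A ^ ((k + 1) * 2) = ⊥ ∧
    ∃ (_ : IsLocalRing (A ⧸ RingHom.ker π.toRingHom)) (ψ : S →ₐ[R] A ⧸ RingHom.ker π.toRingHom) (_ : IsLocalHom ψ.toRingHom),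
      Function.Bijective (ResidueField.map ψ.toRingHom) ∧
      ∀ a s, Ideal.Quotient.mk _ a = ψ s → π a = Ideal.Quotient.mk _ s := by
  haveI : Nontrivial (S ⧸ maximalIdeal S ^ (k + 1)) := Ideal.Quotient.nontrivial_iff.2 fun h =>
    (maximalIdeal.isMaximal S).ne_top (top_le_iff.1 (h.ge.trans (Ideal.pow_le_self k.succ_ne_zero)))
  haveI : IsLocalRing (S ⧸ maximalIdeal S ^ (k + 1)) := IsLocalRing.of_surjective' _ Ideal.Quotient.mk_surjective
  haveI hmkl : IsLocalHom (Ideal.Quotient.mk (maximalIdeal S ^ (k + 1))) :=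
    IsLocalHom.of_surjective _ Ideal.Quotient.mk_surjective
  haveI hπl : IsLocalHom π.toRingHom := IsLocalHom.of_surjective _ hπ
  refine ⟨⟨fun r hr => ?_⟩, ?_, ?_⟩
  · have h2 : IsUnit (Ideal.Quotient.mk (maximalIdeal S ^ (k + 1)) (algebraMap R S r)) := by
      have := hr.map π.toRingHom
      rwa [show π.toRingHom (algebraMap R A r) = _ from π.commutes r] at this
    exact isUnit_of_map_unit (algebraMap R S) r (isUnit_of_map_unit _ _ h2)
  · have h1 : maximalIdeal A ^ (k + 1) ≤ RingHom.ker π.toRingHom := by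
      rw [← Ideal.map_eq_bot_iff_le_ker, Ideal.map_pow, ← le_bot_iff]
      have hle : (maximalIdeal A).map π.toRingHom ≤ (maximalIdeal S).map (Ideal.Quotient.mk (maximalIdeal S ^ (k + 1))) := by
        rw [Ideal.map_le_iff_le_comap]
        intro a ha
        obtain ⟨s, hs⟩ := Ideal.Quotient.mk_surjective (π a)
        show π a ∈ (maximalIdeal S).map (Ideal.Quotient.mk (maximalIdeal S ^ (k + 1)))
        rw [← hs]
        refine Ideal.mem_map_of_mem _ ((mem_maximalIdeal s).2 fun hsu => (mem_maximalIdeal a).1 ha ?_)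
        exact isUnit_of_map_unit π.toRingHom a (by
          show IsUnit (π a)
          rw [← hs]; exact hsu.map _)
      refine (Ideal.pow_right_mono hle _).trans ?_
      rw [← Ideal.map_pow, Ideal.map_quotient_self]
    rw [pow_mul, ← le_bot_iff, ← hsq]
    exact Ideal.pow_right_mono h1 2
  · let K := RingHom.ker π.toRingHom
    haveI : Nontrivial (A ⧸ K) := Ideal.Quotient.nontrivial_iff.2 (RingHom.ker_ne_top _)
    haveI hl : IsLocalRing (A ⧸ K) := IsLocalRing.of_surjective' _ Ideal.Quotient.mk_surjective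
    let e : (A ⧸ K) ≃ₐ[R] S ⧸ maximalIdeal S ^ (k + 1) := Ideal.quotientKerAlgEquivOfSurjective hπ
    let ψ : S →ₐ[R] A ⧸ K := e.symm.toAlgHom.comp (Ideal.Quotient.mkₐ R _)
    have hψs : Function.Surjective ψ := e.symm.surjective.comp Ideal.Quotient.mk_surjective
    haveI hψl : IsLocalHom ψ.toRingHom := IsLocalHom.of_surjective _ hψs
    refine ⟨hl, ψ, hψl, ⟨RingHom.injective _, fun y => ?_⟩, fun a s h => ?_⟩
    · obtain ⟨a, rfl⟩ := residue_surjective y
      obtain ⟨s, rfl⟩ := hψs a
      exact ⟨residue S s, rfl⟩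
    · have h2 := congrArg e h
      rw [show ψ s = e.symm (Ideal.Quotient.mk _ s) from rfl, e.apply_symm_apply] at h2
      exact h2

/-- Lifting along an extension killed by the maximal ideal, assuming lifting along extensions of length one. -/
theorem lift_of_smul_zero
    (H : ∀ (A : Type u) [CommRing A] [IsLocalRing A] [IsArtinianRing A] [Algebra R A] (k : ℕ)
      (π : A →ₐ[R] S ⧸ maximalIdeal S ^ (k + 1)), Function.Surjective π → RingHom.ker π.toRingHom ^ 2 = ⊥ →
      Module.length A (RingHom.ker π.toRingHom) = 1 → ∃ χ : S →ₐ[R] A, π.comp χ = Ideal.Quotient.mkₐ R _)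
    [IsNoetherianRing S] {A : Type u} [CommRing A] [IsLocalRing A] [Algebra R A] (k : ℕ)
    (π : A →ₐ[R] S ⧸ maximalIdeal S ^ (k + 1)) (hπ : Function.Surjective π)
    (hsq : RingHom.ker π.toRingHom ^ 2 = ⊥) (hm : ∀ a ∈ maximalIdeal A, ∀ x ∈ RingHom.ker π.toRingHom, a * x = 0) :
    ∃ χ : S →ₐ[R] A, π.comp χ = Ideal.Quotient.mkₐ R _ := by
  classical
  let T := S ⧸ maximalIdeal S ^ (k + 1)
  let κ := A ⧸ maximalIdeal A
  letI : Field κ := Ideal.Quotient.field _
  let J : Ideal A := RingHom.ker π.toRingHom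
  have htor : Module.IsTorsionBySet A J (maximalIdeal A : Set A) := fun x a => Subtype.ext (hm a a.2 x x.2)
  letI : Module κ J := htor.module
  have hsm : ∀ (a : A) (x : J), Ideal.Quotient.mk (maximalIdeal A) a • x = a • x := fun a x => rfl
  let P := MvPolynomial S R
  let ev : P →ₐ[R] S := MvPolynomial.aeval id
  choose a0 ha0 using fun s : S => hπ (Ideal.Quotient.mk _ s)
  let h : P →ₐ[R] A := MvPolynomial.aeval a0
  have hh : ∀ p, π (h p) = Ideal.Quotient.mk _ (ev p) := fun p => by
    have : π.comp h = (Ideal.Quotient.mkₐ R _).comp ev := MvPolynomial.algHom_ext fun s => by simp [h, ev, ha0]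
    exact AlgHom.congr_fun this p
  letI : Algebra P κ := ((Ideal.Quotient.mk (maximalIdeal A)).comp h.toRingHom).toAlgebra
  haveI : IsScalarTower R P κ := IsScalarTower.of_algebraMap_eq fun r => by
    show algebraMap R κ r = Ideal.Quotient.mk _ (h (algebraMap R P r))
    rw [h.commutes]; rfl
  let Φ : Derivation R P (S →₀ κ) := MvPolynomial.mkDerivation R (fun s => Finsupp.single s (1 : κ))
  let I : Ideal P := RingHom.ker ev.toRingHom
  have hI : ∀ p ∈ I, h p ∈ J := fun p hp => by
    show π (h p) = 0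
    rw [hh, show ev p = 0 from hp, map_zero]
  -- the key property
  have key : ∀ c : I →₀ κ, (c.sum fun p e => e • Φ p.1) = 0 → (c.sum fun p e => e • (⟨h p.1, hI _ p.2⟩ : J)) = 0 := by
    intro c hc
    by_contra hne
    obtain ⟨lam, hlam⟩ : ∃ lam : Module.Dual κ J, lam (c.sum fun p e => e • (⟨h p.1, hI _ p.2⟩ : J)) ≠ 0 := by
      by_contra hall
      push Not at hall
      exact hne ((Module.forall_dual_apply_eq_zero_iff κ _).1 hall)
    let W : Ideal A :=
      { carrier := {x | ∃ hx : x ∈ J, lam ⟨x, hx⟩ = 0}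
        zero_mem' := ⟨J.zero_mem, map_zero lam⟩
        add_mem' := fun {x y} ⟨hx, hx0⟩ ⟨hy, hy0⟩ => ⟨J.add_mem hx hy, by
          rw [show (⟨x + y, J.add_mem hx hy⟩ : J) = ⟨x, hx⟩ + ⟨y, hy⟩ from rfl, map_add, hx0, hy0, add_zero]⟩
        smul_mem' := fun a x ⟨hx, hx0⟩ => ⟨J.smul_mem a hx, by
          rw [show (⟨a • x, J.smul_mem a hx⟩ : J) = Ideal.Quotient.mk (maximalIdeal A) a • (⟨x, hx⟩ : J) from rfl,
            map_smul, hx0, smul_zero]⟩ }
    have hWJ : W ≤ J := fun x ⟨hx, _⟩ => hx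
    let A' := A ⧸ W
    haveI : Nontrivial T := Ideal.Quotient.nontrivial_iff.2 fun h =>
      (maximalIdeal.isMaximal S).ne_top (top_le_iff.1 (h.ge.trans (Ideal.pow_le_self k.succ_ne_zero)))
    haveI : Nontrivial A' := Ideal.Quotient.nontrivial_iff.2 fun h => RingHom.ker_ne_top π.toRingHom (top_le_iff.1 (h.ge.trans hWJ))
    haveI : IsLocalRing A' := IsLocalRing.of_surjective' _ Ideal.Quotient.mk_surjective
    let π' : A' →ₐ[R] T := Ideal.Quotient.liftₐ W π fun x hx => hWJ hx
    have hπ' : Function.Surjective π' := fun t => by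
      obtain ⟨a, ha⟩ := hπ t
      exact ⟨Ideal.Quotient.mk W a, ha⟩
    have hk' : RingHom.ker π'.toRingHom = J.map (Ideal.Quotient.mk W) := by
      refine le_antisymm (fun y hy => ?_) (Ideal.map_le_iff_le_comap.2 fun x hx => hx)
      obtain ⟨a, rfl⟩ := Ideal.Quotient.mk_surjective y
      exact Ideal.mem_map_of_mem _ (show a ∈ J from hy)
    have hsq' : RingHom.ker π'.toRingHom ^ 2 = ⊥ := by rw [hk', ← Ideal.map_pow, hsq, Ideal.map_bot]
    obtain ⟨j1, hj1⟩ : ∃ j : J, lam j ≠ 0 := ⟨_, hlam⟩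
    have hgen : ∀ j : J, ∃ a : A, Ideal.Quotient.mk W j.1 = Ideal.Quotient.mk W (a * j1.1) := fun j => by
      obtain ⟨a, ha⟩ := Ideal.Quotient.mk_surjective (lam j / lam j1)
      refine ⟨a, Ideal.Quotient.eq.2 ⟨J.sub_mem j.2 (J.smul_mem a j1.2), ?_⟩⟩
      rw [show (⟨j.1 - a * j1.1, J.sub_mem j.2 (J.smul_mem a j1.2)⟩ : J) = j - Ideal.Quotient.mk (maximalIdeal A) a • j1 from rfl,
        map_sub, map_smul, ha, smul_eq_mul, div_mul_cancel₀ _ hj1, sub_self]
    have hsimple : IsSimpleModule A' (RingHom.ker π'.toRingHom) := by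
      rw [isSimpleModule_iff_isAtom]
      refine ⟨fun hbot => ?_, fun b hb => ?_⟩
      · have : Ideal.Quotient.mk W j1.1 ∈ (⊥ : Ideal A') := hbot ▸ (hk' ▸ Ideal.mem_map_of_mem _ j1.2)
        obtain ⟨_, h0⟩ := Ideal.Quotient.eq_zero_iff_mem.1 (Ideal.mem_bot.1 this)
        exact hj1 h0
      · by_contra hb0
        obtain ⟨y, hy, hy0⟩ := Submodule.exists_mem_ne_zero_of_ne_bot hb0
        refine hb.not_ge fun z hz => ?_
        have hy' := hb.le hy
        rw [hk', Ideal.mem_map_iff_of_surjective _ Ideal.Quotient.mk_surjective] at hy' hz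
        obtain ⟨u, hu, rfl⟩ := hy'
        obtain ⟨v, hv, rfl⟩ := hz
        have hu1 : lam ⟨u, hu⟩ ≠ 0 := fun h0 => hy0 (Ideal.Quotient.eq_zero_iff_mem.2 ⟨hu, h0⟩)
        obtain ⟨a, ha⟩ := Ideal.Quotient.mk_surjective (lam ⟨v, hv⟩ / lam ⟨u, hu⟩)
        have : Ideal.Quotient.mk W v = Ideal.Quotient.mk W a * Ideal.Quotient.mk W u := by
          rw [← map_mul]
          refine Ideal.Quotient.eq.2 ⟨J.sub_mem hv (J.smul_mem a hu), ?_⟩
          rw [show (⟨v - a * u, J.sub_mem hv (J.smul_mem a hu)⟩ : J) = ⟨v, hv⟩ - Ideal.Quotient.mk (maximalIdeal A) a • (⟨u, hu⟩ : J) from rfl,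
            map_sub, map_smul, ha, smul_eq_mul, div_mul_cancel₀ _ hu1, sub_self]
        rw [this]
        exact b.smul_mem _ hy
    haveI : IsArtinianRing A' := by
      haveI := hsimple
      haveI : IsArtinianRing T := by
        haveI : IsLocalRing T := IsLocalRing.of_surjective' _ Ideal.Quotient.mk_surjective
        refine (isArtinianRing_iff_isNilpotent_maximalIdeal T).2 ⟨k + 1, ?_⟩
        haveI : IsLocalHom (Ideal.Quotient.mk (maximalIdeal S ^ (k + 1))) := IsLocalHom.of_surjective _ Ideal.Quotient.mk_surjective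
        rw [← IsLocalRing.map_maximalIdeal_of_surjective _ (Ideal.Quotient.mk_surjective (I := maximalIdeal S ^ (k + 1))),
          ← Ideal.map_pow, Ideal.map_quotient_self, Ideal.zero_eq_bot]
      letI : Algebra A' T := π'.toRingHom.toAlgebra
      haveI : IsArtinian A' T := isArtinian_of_surjective_algebraMap (R := T) (M := T) hπ'
      haveI : IsArtinian A' (RingHom.ker π'.toRingHom) := inferInstance
      exact isArtinian_of_range_eq_ker (RingHom.ker π'.toRingHom).subtype (Algebra.linearMap A' T) (by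
        rw [Submodule.range_subtype]; rfl)
    obtain ⟨χ, hχ⟩ := H A' k π' hπ' hsq' (Module.length_eq_one_iff.2 hsimple)
    -- the derivation
    choose e he using fun s : S => Ideal.Quotient.mk_surjective (χ s)
    have heJ : ∀ s, e s - a0 s ∈ J := fun s => by
      show π (e s - a0 s) = 0
      rw [map_sub, ha0, show π (e s) = π' (Ideal.Quotient.mk W (e s)) from rfl, he,
        show π' (χ s) = Ideal.Quotient.mk _ s from AlgHom.congr_fun hχ s, sub_self]
    let d : (S →₀ κ) →ₗ[κ] J := Finsupp.linearCombination κ fun s => (⟨e s - a0 s, heJ s⟩ : J)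
    have hD : ∀ p : P, χ (ev p) = Ideal.Quotient.mk W (h p + (d (Φ p)).1) := by
      intro p
      induction p using MvPolynomial.induction_on with
      | C r =>
        rw [show MvPolynomial.C r = algebraMap R P r from rfl, Derivation.map_algebraMap, map_zero, ev.commutes, χ.commutes, h.commutes,
          ZeroMemClass.coe_zero, add_zero]
        rfl
      | add p q hp hq =>
        simp only [map_add, hp, hq, Submodule.coe_add]
        ring
      | mul_X p s hp =>
        have hsmul : ∀ (q : P) (v : S →₀ κ), d (q • v) = h q • d v := fun q v => by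
          rw [algebra_compatible_smul κ q v, map_smul]
          exact hsm _ _
        have hX : Φ (MvPolynomial.X s) = Finsupp.single s 1 := MvPolynomial.mkDerivation_X _ _ _
        have hds : d (Finsupp.single s 1) = ⟨e s - a0 s, heJ s⟩ := (Finsupp.linearCombination_single _ _ _).trans (one_smul _ _)
        have hlhs : χ (ev (p * MvPolynomial.X s)) = Ideal.Quotient.mk W ((h p + (d (Φ p)).1) * e s) := by
          rw [map_mul, map_mul, map_mul, hp, show ev (MvPolynomial.X s) = s from MvPolynomial.aeval_X _ _, ← he]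
        rw [hlhs, Φ.leibniz, hX]
        simp only [map_add d, hsmul, hds, map_mul h, show h (MvPolynomial.X s) = a0 s from MvPolynomial.aeval_X _ _,
          Submodule.coe_add, Submodule.coe_smul, smul_eq_mul]
        congr 1
        have h0 : (d (Φ p)).1 * (e s - a0 s) = 0 := by
          rw [← Ideal.mem_bot, ← hsq, pow_two]
          exact Ideal.mul_mem_mul (d (Φ p)).2 (heJ s)
        linear_combination h0
    have h2 : ∀ p : I, lam (⟨h p.1, hI _ p.2⟩ + d (Φ p.1)) = 0 := fun p => by
      have h1 := hD p.1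
      rw [show ev p.1 = 0 from p.2, map_zero, eq_comm, Ideal.Quotient.eq_zero_iff_mem] at h1
      exact h1.2
    refine hlam ?_
    have h3 : lam ((c.sum fun p e => e • (⟨h p.1, hI _ p.2⟩ : J)) + d (c.sum fun p e => e • Φ p.1)) = 0 := by
      simp only [map_finsuppSum, map_smul, ← Finsupp.sum_add, map_add, ← smul_add]
      refine Finset.sum_eq_zero fun p _ => ?_
      have := h2 p
      rw [map_add] at this
      show c p • (lam _ + lam _) = 0
      rw [this, smul_zero]
    rwa [hc, map_zero, add_zero] at h3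
  -- extend
  let Lc : (I →₀ κ) →ₗ[κ] (S →₀ κ) := Finsupp.linearCombination κ fun p : I => Φ p.1
  let Gc : (I →₀ κ) →ₗ[κ] J := Finsupp.linearCombination κ fun p : I => (⟨h p.1, hI _ p.2⟩ : J)
  have hle : LinearMap.ker Lc ≤ LinearMap.ker Gc := fun c hc => key c hc
  obtain ⟨L, hL⟩ := LinearMap.exists_extend
    (((LinearMap.ker Lc).liftQ Gc hle).comp Lc.quotKerEquivRange.symm.toLinearMap)
  have hLp : ∀ p : I, L (Φ p.1) = ⟨h p.1, hI _ p.2⟩ := fun p => by
    have h1 : Lc (Finsupp.single p 1) = Φ p.1 := (Finsupp.linearCombination_single _ _ _).trans (one_smul _ _)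
    have h2 := LinearMap.congr_fun hL ⟨Φ p.1, h1 ▸ LinearMap.mem_range_self Lc _⟩
    rw [LinearMap.comp_apply, Submodule.subtype_apply] at h2
    rw [h2]
    show (LinearMap.ker Lc).liftQ Gc hle (Lc.quotKerEquivRange.symm ⟨Φ p.1, _⟩) = _
    have h3 : Lc.quotKerEquivRange.symm ⟨Φ p.1, h1 ▸ LinearMap.mem_range_self Lc _⟩ = Submodule.Quotient.mk (Finsupp.single p 1) := by
      rw [LinearEquiv.symm_apply_eq]
      exact Subtype.ext h1.symm
    rw [h3]
    exact (Finsupp.linearCombination_single _ _ _).trans (one_smul _ _)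
  let h' : P →ₐ[R] A := MvPolynomial.aeval fun s => a0 s - (L (Finsupp.single s 1)).1
  have hh' : ∀ p, h' p = h p - (L (Φ p)).1 := by
    intro p
    induction p using MvPolynomial.induction_on with
    | C r => simp [h', h, show MvPolynomial.C r = algebraMap R P r from rfl]
    | add p q hp hq => rw [map_add, hp, hq, map_add, map_add, map_add, Submodule.coe_add]; ring
    | mul_X p s hp =>
      have hsmul : ∀ (q : P) (v : S →₀ κ), L (q • v) = h q • L v := fun q v => by
        rw [algebra_compatible_smul κ q v, map_smul]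
        exact hsm _ _
      rw [map_mul, hp, show h' (MvPolynomial.X s) = _ from MvPolynomial.aeval_X _ _, map_mul,
        Φ.leibniz, map_add, hsmul, hsmul, MvPolynomial.mkDerivation_X,
        show h (MvPolynomial.X s) = a0 s from MvPolynomial.aeval_X _ _]
      simp only [Submodule.coe_add, Submodule.coe_smul, smul_eq_mul]
      have h0 : (L (Φ p)).1 * (L (Finsupp.single s 1)).1 = 0 := by
        rw [← Ideal.mem_bot, ← hsq, pow_two]
        exact Ideal.mul_mem_mul (L (Φ p)).2 (L _).2
      linear_combination h0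
  have hsur : Function.Surjective ev := fun s => ⟨MvPolynomial.X s, MvPolynomial.aeval_X _ _⟩
  have hkill : ∀ p ∈ RingHom.ker ev, h' p = 0 := fun p hp => by
    rw [hh', hLp ⟨p, hp⟩, sub_self]
  refine ⟨(Ideal.Quotient.liftₐ _ h' hkill).comp (Ideal.quotientKerAlgEquivOfSurjective hsur).symm.toAlgHom,
    AlgHom.ext fun s => ?_⟩
  obtain ⟨p, rfl⟩ := hsur s
  have : (Ideal.quotientKerAlgEquivOfSurjective hsur).symm (ev p) = Ideal.Quotient.mk _ p := by
    rw [AlgEquiv.symm_apply_eq]
    rfl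
  show π (Ideal.Quotient.liftₐ _ h' hkill ((Ideal.quotientKerAlgEquivOfSurjective hsur).symm (ev p))) = _
  rw [this]
  show π (h' p) = _
  rw [hh', map_sub, hh, show π (L (Φ p)).1 = 0 from (L (Φ p)).2, sub_zero]
  rfl

/-- Criterion by extensions of length one. -/
theorem isAdicFormallySmooth_of_length_one
    (H : ∀ (A : Type u) [CommRing A] [IsLocalRing A] [IsArtinianRing A] [Algebra R A] (k : ℕ)
      (π : A →ₐ[R] S ⧸ maximalIdeal S ^ (k + 1)), Function.Surjective π → RingHom.ker π.toRingHom ^ 2 = ⊥ →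
      Module.length A (RingHom.ker π.toRingHom) = 1 → ∃ χ : S →ₐ[R] A, π.comp χ = Ideal.Quotient.mkₐ R _)
    [IsNoetherianRing S] : CAlgX.IsAdicFormallySmooth R S (maximalIdeal S) := by
  intro A _ _ J hJ ψ hψ
  obtain ⟨k, hk⟩ := hψ
  obtain ⟨A', _, _, π, q, hπ, hsq, hloc, hpq, -, -⟩ := exists_pullback J hJ k ψ fun x hx => hk x (Ideal.pow_le_pow_right k.le_succ hx)
  haveI := hloc
  suffices h : ∃ χ : S →ₐ[R] A', π.comp χ = Ideal.Quotient.mkₐ R _ by
    obtain ⟨χ, hχ⟩ := h
    exact ⟨q.comp χ, AlgHom.ext fun s => hpq _ _ (AlgHom.congr_fun hχ s)⟩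
  let K := RingHom.ker π.toRingHom
  let M := maximalIdeal A'
  have hker : ∀ {i : ℕ}, M ^ i * K ≤ K := fun {i} => Ideal.mul_le_right
  have hstep : ∀ i, ∃ χ : S →ₐ[R] A' ⧸ (M ^ i * K),
      ∀ s a, Ideal.Quotient.mk (M ^ i * K) a = χ s → π a = Ideal.Quotient.mk _ s := by
    intro i
    induction i with
    | zero =>
      let e : (A' ⧸ (M ^ 0 * K)) ≃ₐ[R] S ⧸ maximalIdeal S ^ (k + 1) :=
        (Ideal.quotientEquivAlgOfEq R (by rw [pow_zero, Ideal.one_eq_top, Ideal.top_mul]; rfl)).trans (Ideal.quotientKerAlgEquivOfSurjective hπ)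
      refine ⟨e.symm.toAlgHom.comp (Ideal.Quotient.mkₐ R _), fun s a ha => ?_⟩
      have h2 := congrArg e ha
      simp only [AlgHom.comp_apply, AlgEquiv.toAlgHom_apply, AlgEquiv.apply_symm_apply] at h2
      exact h2
    | succ i ih =>
      obtain ⟨χ, hχ⟩ := ih
      let B := A' ⧸ (M ^ (i + 1) * K)
      let Ji : Ideal B := (M ^ i * K).map (Ideal.Quotient.mk _)
      have hle : M ^ (i + 1) * K ≤ M ^ i * K := Ideal.mul_mono_left (Ideal.pow_le_pow_right i.le_succ)
      have hJi : Ji ^ 2 = ⊥ := by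
        rw [← Ideal.map_pow, Ideal.map_eq_bot_iff_le_ker, Ideal.mk_ker]
        refine le_trans ?_ bot_le
        rw [← hsq]
        exact Ideal.pow_right_mono hker 2
      let e : (B ⧸ Ji) ≃ₐ[R] A' ⧸ (M ^ i * K) := DoubleQuot.quotQuotEquivQuotOfLEₐ R hle
      let ψi : S →ₐ[R] B ⧸ Ji := e.symm.toAlgHom.comp χ
      have hlift : ∀ s, ∃ a, Ideal.Quotient.mk (M ^ i * K) a = χ s := fun s => Ideal.Quotient.mk_surjective _
      have hk2 : ∀ x ∈ maximalIdeal S ^ (((k + 1) * 2 - 1) + 1), ψi x = 0 := fun x hx => by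
        rw [show (k + 1) * 2 - 1 + 1 = (k + 1) * 2 by omega, pow_mul] at hx
        show e.symm (χ x) = 0
        rw [map_eq_zero_iff _ e.symm.injective, ← Ideal.mem_bot]
        have h1 : (maximalIdeal S ^ (k + 1)).map χ.toRingHom ≤ K.map (Ideal.Quotient.mk (M ^ i * K)) := by
          rw [Ideal.map_le_iff_le_comap]
          intro y hy
          obtain ⟨a, ha⟩ := hlift y
          show χ y ∈ K.map (Ideal.Quotient.mk (M ^ i * K))
          rw [← ha]
          exact Ideal.mem_map_of_mem _ ((hχ y a ha).trans (Ideal.Quotient.eq_zero_iff_mem.2 hy))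
        have h2 := Ideal.pow_right_mono h1 2
        rw [← Ideal.map_pow, ← Ideal.map_pow, hsq, Ideal.map_bot] at h2
        exact h2 (Ideal.mem_map_of_mem χ.toRingHom hx)
      obtain ⟨A2, _, _, π2, q2, hπ2, hsq2, hloc2, hpq2, hinj2, -⟩ := exists_pullback Ji hJi _ ψi hk2
      haveI := hloc2
      haveI : Nontrivial (S ⧸ maximalIdeal S ^ (k + 1)) := Ideal.Quotient.nontrivial_iff.2 fun htop =>
        (maximalIdeal.isMaximal S).ne_top (top_le_iff.1 (htop.ge.trans (Ideal.pow_le_self k.succ_ne_zero)))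
      haveI : Nontrivial (A' ⧸ (M ^ (i + 1) * K)) := Ideal.Quotient.nontrivial_iff.2 fun htop =>
        RingHom.ker_ne_top π.toRingHom (top_le_iff.1 (htop.ge.trans hker))
      haveI : IsLocalRing B := IsLocalRing.of_surjective' _ Ideal.Quotient.mk_surjective
      have hq2 : ∀ w, π2 w = 0 → q2 w ∈ Ji := fun w hw => by
        rw [← Ideal.Quotient.eq_zero_iff_mem, hpq2 w 0 (by rw [hw, map_zero]), map_zero]
      have hm2 : ∀ a ∈ maximalIdeal A2, ∀ x ∈ RingHom.ker π2.toRingHom, a * x = 0 := fun a ha x hx => by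
        refine hinj2 _ (by rw [map_mul, show π2 x = 0 from hx, mul_zero]) ?_
        have hqa : q2 a ∈ M.map (Ideal.Quotient.mk (M ^ (i + 1) * K)) := by
          have hnil : IsNilpotent (π2 a) := by
            obtain ⟨s, hs⟩ := Ideal.Quotient.mk_surjective (π2 a)
            have hsm : s ∈ maximalIdeal S := (mem_maximalIdeal s).2 fun hsu => (mem_maximalIdeal a).1 ha (by
              have hu : IsUnit (π2 a) := by rw [← hs]; exact hsu.map _
              obtain ⟨v, hv⟩ := hu.exists_right_inv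
              obtain ⟨y, rfl⟩ := hπ2 v
              have h0 : a * y - 1 ∈ RingHom.ker π2.toRingHom := by
                show π2 (a * y - 1) = 0
                rw [map_sub, map_mul, hv, map_one, sub_self]
              have h1 : (a * y - 1) * (a * y - 1) = 0 := by
                rw [← Ideal.mem_bot, ← hsq2, pow_two]
                exact Ideal.mul_mem_mul h0 h0
              exact IsUnit.of_mul_eq_one (y * (2 - a * y)) (by linear_combination -h1))
            exact ⟨(k + 1) * 2 - 1 + 1, by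
              rw [← hs, ← map_pow, Ideal.Quotient.eq_zero_iff_mem]
              exact Ideal.pow_mem_pow hsm _⟩
          obtain ⟨N, hN⟩ := hnil
          have ha' : IsNilpotent a := ⟨N * 2, by
            rw [pow_mul, ← Ideal.mem_bot, ← hsq2]
            exact Ideal.pow_mem_pow (show π2 (a ^ N) = 0 by rw [map_pow, hN]) 2⟩
          obtain ⟨b, hb⟩ := Ideal.Quotient.mk_surjective (q2 a)
          rw [← hb]
          refine Ideal.mem_map_of_mem _ ((mem_maximalIdeal b).2 fun hbu => ?_)
          have := hbu.map (Ideal.Quotient.mk (M ^ (i + 1) * K))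
          rw [hb] at this
          exact (IsNilpotent.map ha' q2 : IsNilpotent (q2 a)).not_isUnit this
        rw [map_mul, ← Ideal.mem_bot]
        have := Ideal.mul_mem_mul hqa (hq2 x hx)
        rwa [← Ideal.map_mul, ← mul_assoc, ← pow_succ', Ideal.map_quotient_self] at this
      obtain ⟨χ2, hχ2⟩ := lift_of_smul_zero H _ π2 hπ2 hsq2 hm2
      refine ⟨q2.comp χ2, fun s a ha => hχ s a ?_⟩
      have h1 : Ideal.Quotient.mk Ji (Ideal.Quotient.mk (M ^ (i + 1) * K) a) = ψi s :=
        (congrArg (Ideal.Quotient.mk Ji) ha).trans (hpq2 _ s (AlgHom.congr_fun hχ2 s))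
      have h2 := congrArg e h1
      rw [show ψi s = e.symm (χ s) from rfl, e.apply_symm_apply] at h2
      exact h2
  have hnil : M ^ ((k + 1) * 2) = ⊥ := by
    have h1 : M ^ (k + 1) ≤ K := by
      intro x hx
      have hle : M.map π.toRingHom ≤ (maximalIdeal S).map (Ideal.Quotient.mk (maximalIdeal S ^ (k + 1))) := by
        rw [Ideal.map_le_iff_le_comap]
        intro a ha
        obtain ⟨s, hs⟩ := Ideal.Quotient.mk_surjective (π a)
        show π a ∈ (maximalIdeal S).map (Ideal.Quotient.mk (maximalIdeal S ^ (k + 1)))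
        rw [← hs]
        refine Ideal.mem_map_of_mem _ ((mem_maximalIdeal s).2 fun hsu => (mem_maximalIdeal a).1 ha ?_)
        have hu : IsUnit (π a) := by rw [← hs]; exact hsu.map _
        obtain ⟨v, hv⟩ := hu.exists_right_inv
        obtain ⟨y, rfl⟩ := hπ v
        have h0 : a * y - 1 ∈ RingHom.ker π.toRingHom := by
          show π (a * y - 1) = 0
          rw [map_sub, map_mul, hv, map_one, sub_self]
        have h1 : (a * y - 1) * (a * y - 1) = 0 := by
          rw [← Ideal.mem_bot, ← hsq, pow_two]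
          exact Ideal.mul_mem_mul h0 h0
        exact IsUnit.of_mul_eq_one (y * (2 - a * y)) (by linear_combination -h1)
      have h2 := Ideal.pow_right_mono hle (k + 1)
      rw [← Ideal.map_pow, ← Ideal.map_pow, Ideal.map_quotient_self] at h2
      exact h2 (Ideal.mem_map_of_mem π.toRingHom hx)
    rw [pow_mul, ← le_bot_iff, ← hsq]
    exact Ideal.pow_right_mono h1 2
  obtain ⟨χ, hχ⟩ := hstep ((k + 1) * 2)
  have hbot : M ^ ((k + 1) * 2) * K = ⊥ := by rw [hnil, Ideal.bot_mul]
  refine ⟨((Ideal.quotientEquivAlgOfEq R hbot).trans (AlgEquiv.quotientBot R A')).toAlgHom.comp χ, AlgHom.ext fun s => ?_⟩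
  obtain ⟨a, ha⟩ := Ideal.Quotient.mk_surjective (χ s)
  refine Eq.trans ?_ (hχ s a ha)
  show π _ = π a
  show π (((Ideal.quotientEquivAlgOfEq R hbot).trans (AlgEquiv.quotientBot R A')) (χ s)) = π a
  rw [← ha]
  rfl

end Groth.Agent.H2AdicTest
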