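import Mathlib
import Groth.Prelude.Def_CAlgX
import Groth.Prelude.Def_EGA41
import Groth.Agent.Lib.H2AdicTest
set_option autoImplicit false

/-! Square-zero versus nilpotent test ideals for adic formal smoothness. -/
namespace Groth.Agent.H2AdicNilp
set_option backward.isDefEq.respectTransparency.types false
universe u

variable {A B : Type u} [CommRing A] [CommRing B] [Algebra A B]

theorem isFormallySmoothAdic_of_isAdicFormallySmooth (𝔞 : Ideal A) (𝔟 : Ideal B)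
    (h : CAlgX.IsAdicFormallySmooth A B 𝔟) : EGA41.IsFormallySmoothAdic A 𝔞 B 𝔟 := by
  intro C _ _ J hJ _ u hu
  obtain ⟨m, hm⟩ := hJ
  suffices key : ∀ m : ℕ, ∀ (C : Type u) [CommRing C] [Algebra A C] (J : Ideal C), J ^ (m + 1) = ⊥ →
      ∀ u : B →ₐ[A] C ⧸ J, (∃ k : ℕ, ∀ x ∈ 𝔟 ^ k, u x = 0) → ∃ v : B →ₐ[A] C, (Ideal.Quotient.mkₐ A J).comp v = u from
    key m C J (le_bot_iff.1 ((Ideal.pow_le_pow_right m.le_succ).trans hm.le)) u hu
  clear hm hu
  intro m
  induction m with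
  | zero =>
    intro C _ _ J hJ u hu
    exact h C J (by rw [zero_add, pow_one] at hJ; rw [hJ, pow_two, Ideal.bot_mul]) u hu
  | succ m ih =>
    intro C _ _ J hJ u ⟨k, hk⟩
    let K : Ideal C := J ^ (m + 1)
    have hKJ : K ≤ J := Ideal.pow_le_self m.succ_ne_zero
    have hK2 : K ^ 2 = ⊥ := by
      rw [← le_bot_iff, ← hJ, ← pow_mul]
      exact Ideal.pow_le_pow_right (by omega)
    let e : ((C ⧸ K) ⧸ J.map (Ideal.Quotient.mkₐ A K)) ≃ₐ[A] C ⧸ J := DoubleQuot.quotQuotEquivQuotOfLEₐ A hKJ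
    obtain ⟨v, hv⟩ := ih (C ⧸ K) (J.map (Ideal.Quotient.mkₐ A K))
      (by rw [← Ideal.map_pow]; exact Ideal.map_quotient_self _) (e.symm.toAlgHom.comp u)
      ⟨k, fun x hx => by show e.symm (u x) = 0; rw [hk x hx, map_zero]⟩
    have hv' : ∀ x c, Ideal.Quotient.mk K c = v x → Ideal.Quotient.mk J c = u x := fun x c hc => by
      have h1 : Ideal.Quotient.mk (J.map (Ideal.Quotient.mkₐ A K)) (Ideal.Quotient.mk K c) = e.symm (u x) := by
        rw [hc]; exact AlgHom.congr_fun hv x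
      have h2 := congrArg e h1
      rw [e.apply_symm_apply] at h2
      exact h2
    obtain ⟨w, hw⟩ := h C K hK2 v ⟨k * (m + 1), fun x hx => by
      have hle : (𝔟 ^ k).map v.toRingHom ≤ J.map (Ideal.Quotient.mk K) := by
        rw [Ideal.map_le_iff_le_comap]
        intro y hy
        obtain ⟨c, hc⟩ := Ideal.Quotient.mk_surjective (v y)
        show v y ∈ J.map (Ideal.Quotient.mk K)
        rw [← hc]
        exact Ideal.mem_map_of_mem _ (Ideal.Quotient.eq_zero_iff_mem.1 ((hv' y c hc).trans (hk y hy)))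
      have h2 := Ideal.pow_right_mono hle (m + 1)
      rw [← Ideal.map_pow, ← Ideal.map_pow, ← pow_mul, Ideal.map_quotient_self] at h2
      exact h2 (Ideal.mem_map_of_mem v.toRingHom hx)⟩
    exact ⟨w, AlgHom.ext fun x => hv' x _ (AlgHom.congr_fun hw x)⟩

theorem isAdicFormallySmooth_of_isFormallySmoothAdic (𝔞 : Ideal A) (𝔟 : Ideal B) {j : ℕ}
    (hab : (𝔞 ^ j).map (algebraMap A B) ≤ 𝔟)
    (h : EGA41.IsFormallySmoothAdic A 𝔞 B 𝔟) : CAlgX.IsAdicFormallySmooth A B 𝔟 := by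
  intro C _ _ J hJ u ⟨k, hk⟩
  refine h C J ⟨2, hJ⟩ ⟨j * k * 2, ?_⟩ u ⟨k, hk⟩
  rw [pow_mul, Ideal.map_pow, ← le_bot_iff, ← hJ]
  refine Ideal.pow_right_mono (Ideal.map_le_iff_le_comap.2 fun a ha => ?_) 2
  refine (Ideal.Quotient.eq_zero_iff_mem (I := J)).1 ?_
  show algebraMap A (C ⧸ J) a = 0
  rw [← u.commutes]
  refine hk _ (Ideal.pow_right_mono hab k ?_)
  rw [← Ideal.map_pow, ← pow_mul]
  exact Ideal.mem_map_of_mem _ ha

end Groth.Agent.H2AdicNilp
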