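import Mathlib

/-! `u : N → M`, `M` flat, `u` injective mod the maximal ideal: `u` is injective with flat cokernel. -/

universe u

open TensorProduct LinearMap Submodule

namespace Groth.Agent.H2FibreInj

variable {R S M N : Type u} [CommRing R] [CommRing S] [IsLocalRing R] [IsNoetherianRing S] [Algebra R S]
  [AddCommGroup M] [Module R M] [Module.Flat R M] [AddCommGroup N] [Module R N] [Module S N] [IsScalarTower R S N]
  [Module.Finite S N] (u : N →ₗ[R] M) (h : Function.Injective (u.lTensor (IsLocalRing.ResidueField R)))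

local notation "k" => IsLocalRing.ResidueField R
local notation "m" => IsLocalRing.maximalIdeal R

omit [IsNoetherianRing S] [Algebra R S] [Module S N] [IsScalarTower R S N] [Module.Finite S N] in
include h in
lemma step (J : Ideal R) (n : ℕ) {x : N} (hx : x ∈ (m ^ n • ⊤ : Submodule R N)) (hux : u x ∈ (J • ⊤ : Submodule R M)) :
    x ∈ (J • ⊤ ⊔ m ^ (n + 1) • ⊤ : Submodule R N) := by
  classical
  set P : Ideal R := m ^ n
  -- lift `x` to `P ⊗ N`
  let ev : P ⊗[R] N →ₗ[R] N := (TensorProduct.lid R N).toLinearMap ∘ₗ P.subtype.rTensor N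
  obtain ⟨w, hw⟩ : x ∈ LinearMap.range ev :=
    Submodule.smul_induction_on hx (fun a ha y _ => ⟨⟨a, ha⟩ ⊗ₜ y, by simp [ev]⟩) (fun a b ha hb => add_mem ha hb)
  let π0 : P →ₗ[R] R ⧸ J := (J : Submodule R R).mkQ ∘ₗ P.subtype
  let C := LinearMap.range π0
  let π : P →ₗ[R] C := π0.rangeRestrict
  have hπ : Function.Surjective π := LinearMap.surjective_rangeRestrict _
  have h1 : π.rTensor M (u.lTensor P w) = 0 := by
    refine Module.Flat.rTensor_preserves_injective_linearMap C.subtype C.injective_subtype ?_
    rw [map_zero, ← rTensor_comp_apply, show C.subtype ∘ₗ π = (J : Submodule R R).mkQ ∘ₗ P.subtype from rfl, rTensor_comp_apply]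
    have h2 : P.subtype.rTensor M (u.lTensor P w) = (1 : R) ⊗ₜ u x := by
      rw [← hw, ← lid_symm_apply, LinearEquiv.eq_symm_apply]
      clear hw
      induction w using TensorProduct.induction_on with
      | zero => simp
      | add a b ha hb => simp [ha, hb]
      | tmul a y => simp [ev]
    rw [h2, rTensor_tmul]
    refine Submodule.smul_induction_on hux (fun a ha y _ => ?_) (fun a b ha hb => by rw [tmul_add, ha, hb, add_zero])
    rw [tmul_smul, smul_tmul', ← map_smul, smul_eq_mul, mul_one, Submodule.mkQ_apply,
      (Submodule.Quotient.mk_eq_zero _).2 ha, zero_tmul]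
  -- now tensor with the residue field
  let qN : N →ₗ[R] k ⊗[R] N := TensorProduct.mk R k N 1
  let qM : M →ₗ[R] k ⊗[R] M := TensorProduct.mk R k M 1
  obtain ⟨r, hr⟩ := (u.baseChange k).exists_leftInverse_of_injective (LinearMap.ker_eq_bot.2 h)
  have h3 : qN.lTensor C (π.rTensor N w) = 0 := by
    have e : (u.lTensor k).lTensor C (qN.lTensor C (π.rTensor N w)) = qM.lTensor C (π.rTensor M (u.lTensor P w)) := by
      clear h1 hw
      induction w using TensorProduct.induction_on with
      | zero => simp
      | add a b ha hb => simp only [map_add, ha, hb]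
      | tmul a y => simp [qN, qM]
    rw [h1, map_zero] at e
    have := congrArg ((r.restrictScalars R).lTensor C) e
    rw [map_zero, ← lTensor_comp_apply] at this
    rwa [show (r.restrictScalars R) ∘ₗ u.lTensor k = LinearMap.id from LinearMap.ext fun z => LinearMap.congr_fun hr z,
      lTensor_id, LinearMap.id_apply] at this
  let G : Submodule R N := m • ⊤
  have hqsurj : Function.Surjective qN := TensorProduct.mk_surjective R N k Ideal.Quotient.mk_surjective
  have hqex : Function.Exact G.subtype qN := fun y => by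
    rw [show Set.range G.subtype = (G : Set N) from Subtype.range_coe]
    show (1 : R ⧸ m) ⊗ₜ[R] y = 0 ↔ y ∈ G
    rw [← (TensorProduct.quotTensorEquivQuotSMul N m).map_eq_zero_iff, show (1 : R ⧸ m) = Ideal.Quotient.mk m 1 from rfl,
      TensorProduct.quotTensorEquivQuotSMul_mk_tmul, one_smul, Submodule.Quotient.mk_eq_zero]
  obtain ⟨v, hv⟩ := (lTensor_exact C hqex hqsurj _).1 h3
  obtain ⟨v', rfl⟩ := rTensor_surjective G hπ v
  have h4 : π.rTensor N (w - G.subtype.lTensor P v') = 0 := by
    rw [map_sub, sub_eq_zero, ← hv]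
    clear hv
    induction v' using TensorProduct.induction_on with
    | zero => simp
    | add a b ha hb => simp only [map_add, ha, hb]
    | tmul a y => simp
  obtain ⟨t, ht⟩ := (rTensor_exact N (π.exact_subtype_ker_map) hπ _).1 h4
  have hsplit : x = ev ((LinearMap.ker π).subtype.rTensor N t) + ev (G.subtype.lTensor P v') := by
    rw [ht, map_sub, sub_add_cancel, hw]
  rw [hsplit]
  refine add_mem (Submodule.mem_sup_left ?_) (Submodule.mem_sup_right ?_)
  · clear hsplit ht
    induction t using TensorProduct.induction_on with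
    | zero => simp
    | add a b ha hb => rw [map_add, map_add]; exact add_mem ha hb
    | tmul a y =>
      simp only [ev, LinearMap.coe_comp, Function.comp_apply, rTensor_tmul, LinearEquiv.coe_coe, lid_tmul, Submodule.coe_subtype]
      refine Submodule.smul_mem_smul ?_ trivial
      exact (Submodule.Quotient.mk_eq_zero (J : Submodule R R)).1 (congrArg Subtype.val (LinearMap.mem_ker.1 a.2))
  · clear hsplit ht h4 hv
    induction v' using TensorProduct.induction_on with
    | zero => simp
    | add a b ha hb => rw [map_add, map_add]; exact add_mem ha hb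
    | tmul a y =>
      simp only [ev, LinearMap.coe_comp, Function.comp_apply, lTensor_tmul, rTensor_tmul, LinearEquiv.coe_coe, lid_tmul, Submodule.coe_subtype]
      rw [pow_succ, Submodule.mul_smul]
      exact Submodule.smul_mem_smul a.2 y.2

include h in
theorem mem_smul_top [IsLocalRing S] [IsLocalHom (algebraMap R S)] (J : Ideal R) {x : N}
    (hux : u x ∈ (J • ⊤ : Submodule R M)) : x ∈ (J • ⊤ : Submodule R N) := by
  have hall : ∀ n, x ∈ (J • ⊤ ⊔ m ^ n • ⊤ : Submodule R N) := by
    intro n
    induction n with
    | zero => rw [pow_zero, Submodule.one_smul]; exact Submodule.mem_sup_right trivial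
    | succ n ih =>
      obtain ⟨a, ha, b, hb, rfl⟩ := Submodule.mem_sup.1 ih
      refine add_mem (Submodule.mem_sup_left ha) (step u h J n hb ?_)
      have hle : (J • (⊤ : Submodule R N)).map u ≤ J • ⊤ := by
        rw [Submodule.map_smul'']; exact Submodule.smul_mono le_rfl le_top
      have := sub_mem hux (hle ⟨a, ha, rfl⟩)
      simpa using this
  set G : Submodule S N := J.map (algebraMap R S) • ⊤
  have hG : (J • ⊤ : Submodule R N) = G.restrictScalars R := by
    rw [Ideal.smul_restrictScalars]; rfl
  rw [hG]
  show x ∈ G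
  rw [← Submodule.Quotient.mk_eq_zero]
  have : (Submodule.Quotient.mk x : N ⧸ G) ∈ (⨅ n : ℕ, (IsLocalRing.maximalIdeal S) ^ n • ⊤ : Submodule S (N ⧸ G)) := by
    rw [Submodule.mem_iInf]
    intro n
    obtain ⟨a, ha, b, hb, rfl⟩ := Submodule.mem_sup.1 (hall n)
    rw [Submodule.Quotient.mk_add, (Submodule.Quotient.mk_eq_zero G).2 (show a ∈ G from hG.le ha), zero_add]
    refine Submodule.smul_induction_on hb (fun r hr y _ => ?_) (fun y z hy hz => by rw [Submodule.Quotient.mk_add]; exact add_mem hy hz)
    rw [Submodule.Quotient.mk_smul, ← algebraMap_smul S r]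
    refine Submodule.smul_mem_smul (Ideal.pow_right_mono ?_ n (Ideal.map_pow (algebraMap R S) m n ▸ Ideal.mem_map_of_mem _ hr)) trivial
    exact ((IsLocalRing.local_hom_TFAE (algebraMap R S)).out 0 2).1 ‹IsLocalHom (algebraMap R S)›
  rwa [Ideal.iInf_pow_smul_eq_bot_of_isLocalRing _ (IsLocalRing.maximalIdeal.isMaximal S).ne_top, Submodule.mem_bot] at this

include h in
theorem injective [IsLocalRing S] [IsLocalHom (algebraMap R S)] : Function.Injective u := by
  rw [injective_iff_map_eq_zero]
  intro x hx
  simpa using mem_smul_top (S := S) u h ⊥ (x := x) (by rw [hx]; exact zero_mem _)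

include h in
theorem flat_quotient [IsLocalRing S] [IsLocalHom (algebraMap R S)] : Module.Flat R (M ⧸ LinearMap.range u) := by
  rw [Module.Flat.iff_rTensor_injective']
  intro J
  rw [injective_iff_map_eq_zero]
  intro q hq
  obtain ⟨y, rfl⟩ := lTensor_surjective J (LinearMap.range u).mkQ_surjective q
  let ev : J ⊗[R] M →ₗ[R] M := (TensorProduct.lid R M).toLinearMap ∘ₗ J.subtype.rTensor M
  have hev : Function.Injective ev :=
    (TensorProduct.lid R M).injective.comp (Module.Flat.rTensor_preserves_injective_linearMap _ J.injective_subtype)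
  have h1 : ev y ∈ LinearMap.range u := by
    rw [← Submodule.Quotient.mk_eq_zero, ← LinearEquiv.map_eq_zero_iff (TensorProduct.lid R (M ⧸ LinearMap.range u)).symm, ← hq]
    rw [LinearEquiv.symm_apply_eq]
    clear hq
    induction y using TensorProduct.induction_on with
    | zero => simp
    | add a b ha hb => simp [ha, hb]
    | tmul a y => simp [ev]
  obtain ⟨z, hz⟩ := h1
  have hzJ : z ∈ (J • ⊤ : Submodule R N) := by
    refine mem_smul_top (S := S) u h J ?_
    rw [hz]
    clear hz hq
    induction y using TensorProduct.induction_on with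
    | zero => simp
    | add a b ha hb => rw [map_add]; exact add_mem ha hb
    | tmul a y => simp only [ev]; simpa using Submodule.smul_mem_smul a.2 (Submodule.mem_top (x := y))
  obtain ⟨w, hw⟩ : ∃ w : J ⊗[R] N, ev (u.lTensor J w) = u z := by
    refine Submodule.smul_induction_on hzJ (fun a ha y _ => ⟨⟨a, ha⟩ ⊗ₜ y, by simp [ev]⟩) ?_
    rintro a b ⟨w, hw⟩ ⟨w', hw'⟩
    exact ⟨w + w', by simp [hw, hw']⟩
  rw [← hev (hw.trans hz), ← lTensor_comp_apply,
    show (LinearMap.range u).mkQ ∘ₗ u = 0 from LinearMap.ext fun a => (Submodule.Quotient.mk_eq_zero _).2 ⟨a, rfl⟩]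
  simp

end Groth.Agent.H2FibreInj
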