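import Mathlib
import Groth.Prelude.Def_Wider
import Groth.Agent.Lib.H2Depth
import Groth.Agent.Lib.H2DepthMore
import Groth.Agent.Lib.H2FibreInj
set_option autoImplicit false

/-! Regular sequences of the closed fibre of a flat local homomorphism lift. -/
namespace Groth.Agent.H2FibreDepth
open RingTheory.Sequence TensorProduct
set_option backward.isDefEq.respectTransparency.types false
universe u
variable {R : Type u} [CommRing R] [IsLocalRing R] [IsNoetherianRing R]

local notation "m" => IsLocalRing.maximalIdeal R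

theorem flat_quotient_span {S : Type u} [CommRing S] [IsLocalRing S] [IsNoetherianRing S] [Algebra R S]
    [IsLocalHom (algebraMap R S)] [Module.Flat R S] (f : S)
    (hf : ∀ y, f * y ∈ (m).map (algebraMap R S) → y ∈ (m).map (algebraMap R S)) :
    Module.Flat R (S ⧸ Ideal.span {f}) ∧ IsSMulRegular S f := by
  let u : S →ₗ[R] S := (Algebra.lsmul R R S) f
  let e : (R ⧸ m) ⊗[R] S ≃ₗ[R] S ⧸ (m • ⊤ : Submodule R S) := TensorProduct.quotTensorEquivQuotSMul S m
  have hinj : Function.Injective (u.lTensor (IsLocalRing.ResidueField R)) := by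
    rw [injective_iff_map_eq_zero]
    intro z hz
    obtain ⟨s, rfl⟩ := TensorProduct.mk_surjective R S (R ⧸ m) Ideal.Quotient.mk_surjective z
    have hz' : ((1 : R ⧸ m) ⊗ₜ[R] (f * s)) = 0 := hz
    have key : ∀ t : S, ((1 : R ⧸ m) ⊗ₜ[R] t) = 0 ↔ t ∈ (m).map (algebraMap R S) := fun t => by
      rw [← e.map_eq_zero_iff, show (1 : R ⧸ m) = Ideal.Quotient.mk m 1 from rfl, TensorProduct.quotTensorEquivQuotSMul_mk_tmul,
        one_smul, Submodule.Quotient.mk_eq_zero, Ideal.smul_top_eq_map]
      rfl
    exact (key s).2 (hf s ((key _).1 hz'))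
  have hq := Groth.Agent.H2FibreInj.flat_quotient (S := S) u hinj
  have hr : LinearMap.range u = (Ideal.span {f}).restrictScalars R := by
    ext x
    simp [u, Ideal.mem_span_singleton', mul_comm]
  exact ⟨Module.Flat.of_linearEquiv (((Submodule.quotEquivOfEq _ _ hr).trans
    (Submodule.Quotient.restrictScalarsEquiv R (Ideal.span {f}))).symm),
    Groth.Agent.H2FibreInj.injective (S := S) u hinj⟩

theorem mul_mem_iff_of_isSMulRegular {S : Type u} [CommRing S] {K : Ideal S} {x : S} :
    IsSMulRegular (S ⧸ (K • ⊤ : Submodule S S)) x ↔ ∀ y, x * y ∈ K → y ∈ K := by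
  rw [show (K • ⊤ : Submodule S S) = K by rw [Ideal.smul_eq_mul, Ideal.mul_top],
    isSMulRegular_iff_right_eq_zero_of_smul]
  constructor
  · intro h y hy
    have := h (Ideal.Quotient.mk K y) (by
      exact (Submodule.Quotient.mk_smul K x y).symm.trans ((Submodule.Quotient.mk_eq_zero K).2 hy))
    exact (Submodule.Quotient.mk_eq_zero K).1 this
  · intro h z hz
    obtain ⟨y, rfl⟩ := Submodule.Quotient.mk_surjective K z
    rw [← Submodule.Quotient.mk_smul, Submodule.Quotient.mk_eq_zero] at hz
    exact (Submodule.Quotient.mk_eq_zero K).2 (h y hz)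

variable {S : Type u} [CommRing S] [IsLocalRing S] [IsNoetherianRing S] [Algebra R S]
  [IsLocalHom (algebraMap R S)] [Module.Flat R S]

theorem flat_and_isWeaklyRegular (ss : List S) (hss : ∀ r ∈ ss, r ∈ IsLocalRing.maximalIdeal S)
    (h : ∀ (i : ℕ) (hi : i < ss.length) (y : S),
      ss[i] * y ∈ Ideal.ofList (ss.take i) ⊔ (m).map (algebraMap R S) →
        y ∈ Ideal.ofList (ss.take i) ⊔ (m).map (algebraMap R S)) :
    IsWeaklyRegular S ss := by
  have key : ∀ i, i ≤ ss.length → Module.Flat R (S ⧸ Ideal.ofList (ss.take i)) ∧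
      ∀ j (hj : j < i) (hj' : j < ss.length) (y : S),
        ss[j] * y ∈ Ideal.ofList (ss.take j) → y ∈ Ideal.ofList (ss.take j) := by
    intro i
    induction i with
    | zero =>
      refine fun _ => ⟨?_, fun j hj => absurd hj (Nat.not_lt_zero j)⟩
      rw [List.take_zero, Ideal.ofList_nil]
      exact Module.Flat.of_linearEquiv (AlgEquiv.quotientBot R S).toLinearEquiv
    | succ i ih =>
      intro hi
      obtain ⟨hflat, hreg⟩ := ih (by omega)
      let K := Ideal.ofList (ss.take i)
      haveI : Nontrivial (S ⧸ K) := Ideal.Quotient.nontrivial_iff.2 (ne_top_of_le_ne_top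
        (IsLocalRing.maximalIdeal.isMaximal S).ne_top (Ideal.span_le.2 fun r hr => hss r (List.take_subset i ss hr)))
      haveI : IsLocalRing (S ⧸ K) := IsLocalRing.of_surjective' (Ideal.Quotient.mk K) Ideal.Quotient.mk_surjective
      haveI : IsLocalHom (algebraMap R (S ⧸ K)) := by
        haveI : IsLocalHom (Ideal.Quotient.mk K) :=
          IsLocalHom.of_surjective _ Ideal.Quotient.mk_surjective
        rw [IsScalarTower.algebraMap_eq R S (S ⧸ K)]
        exact RingHom.isLocalHom_comp (Ideal.Quotient.mk K) (algebraMap R S)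
      haveI : Module.Flat R (S ⧸ K) := hflat
      have hmem : ∀ y, Ideal.Quotient.mk K y ∈ (m).map (algebraMap R (S ⧸ K)) ↔ y ∈ K ⊔ (m).map (algebraMap R S) := by
        intro y
        rw [IsScalarTower.algebraMap_eq R S (S ⧸ K), ← Ideal.map_map]
        exact (Ideal.mem_quotient_iff_mem_sup (I := K) (J := (m).map (algebraMap R S))).trans (by rw [sup_comm])
      obtain ⟨hfl, hrg⟩ := flat_quotient_span (R := R) (Ideal.Quotient.mk K ss[i]) (fun z => by
        obtain ⟨y, rfl⟩ := Ideal.Quotient.mk_surjective z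
        rw [← map_mul, hmem, hmem]
        exact h i (by omega) y)
      refine ⟨?_, fun j hj hj' y hy => ?_⟩
      · have e0 : Ideal.ofList (ss.take (i + 1)) = K ⊔ Ideal.span {ss[i]} := by
          rw [List.take_add_one, Ideal.ofList_append, List.getElem?_eq_getElem (by omega), Option.toList_some,
            Ideal.ofList_singleton]
        have e1 : (Ideal.span {ss[i]}).map (Ideal.Quotient.mkₐ R K) = Ideal.span {Ideal.Quotient.mk K ss[i]} := by
          rw [Ideal.map_span, Set.image_singleton]; rfl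
        haveI : Module.Flat R ((S ⧸ K) ⧸ (Ideal.span {ss[i]}).map (Ideal.Quotient.mkₐ R K)) := e1 ▸ hfl
        rw [e0]
        exact Module.Flat.of_linearEquiv (DoubleQuot.quotQuotEquivQuotSupₐ R K (Ideal.span {ss[i]})).toLinearEquiv.symm
      · rcases Nat.lt_succ_iff_lt_or_eq.1 hj with hj | rfl
        · exact hreg j hj hj' y hy
        · refine Ideal.Quotient.eq_zero_iff_mem.1 (hrg.right_eq_zero_of_smul ?_)
          rw [smul_eq_mul, ← map_mul]
          exact Ideal.Quotient.eq_zero_iff_mem.2 hy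
  rw [isWeaklyRegular_iff_Fin]
  intro i
  exact mul_mem_iff_of_isSMulRegular.2 ((key ss.length le_rfl).2 i i.2 i.2)

theorem le_idealDepth_add (hCM : LocCoh.IsCohenMacaulayLocalRing (S ⧸ (m).map (algebraMap R S)))
    (I : Ideal S) (hI : I ≠ ⊤) :
    ringKrullDim (S ⧸ (m).map (algebraMap R S)) ≤
      ringKrullDim (S ⧸ ((m).map (algebraMap R S) ⊔ I)) + ((LocCoh.idealDepth I S : ℕ∞) : WithBot ℕ∞) := by
  set J := (m).map (algebraMap R S)
  let F := S ⧸ J
  haveI := hCM
  let q := Ideal.Quotient.mk J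
  haveI : IsLocalRing F := hCM.toIsLocalRing
  haveI : IsNoetherianRing F := inferInstance
  have hmax : ∀ y, q y ∈ IsLocalRing.maximalIdeal F → y ∈ IsLocalRing.maximalIdeal S := fun y hy hu => hy (hu.map q)
  have hJ : J ≤ IsLocalRing.maximalIdeal S := fun y hy => hmax y (by
    rw [Ideal.Quotient.eq_zero_iff_mem.2 hy]; exact zero_mem _)
  have hsurj : Function.Surjective q := Ideal.Quotient.mk_surjective
  haveI : IsLocalHom q := IsLocalHom.of_surjective _ hsurj
  obtain ⟨d, hd⟩ : ∃ d : ℕ, ringKrullDim F = d := by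
    have h1 := ringKrullDim_ne_bot (R := F)
    have h2 := ringKrullDim_ne_top (R := F)
    cases hx : ringKrullDim F with
    | bot => exact absurd hx h1
    | coe x => cases x using ENat.recTopCoe with
      | top => exact absurd hx h2
      | coe n => exact ⟨n, rfl⟩
  have hdim : Module.supportDim F F = d := (Module.supportDim_self_eq_ringKrullDim F).trans hd
  have hne : IsLocalRing.maximalIdeal F • (⊤ : Submodule F F) ≠ ⊤ := by
    rw [Ideal.smul_eq_mul, Ideal.mul_top]
    exact (IsLocalRing.maximalIdeal.isMaximal F).ne_top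
  have hdep : H2Depth.HasReg (IsLocalRing.maximalIdeal F) F d := by
    refine (H2Depth.hasReg_iff_le_idealDepth hne).2 ?_
    have := hCM.supportDim_eq_depth
    rw [hdim] at this
    exact le_of_eq (WithBot.coe_inj.1 this)
  obtain ⟨rs, hrs, hmem, hle, -, -, hsd⟩ := H2DepthMore.exists_seq_cm (M := F) hdim hdep (I := I.map q)
    (fun z hz => by
      obtain ⟨y, hy, rfl⟩ := (Ideal.mem_map_iff_of_surjective q hsurj).1 hz
      exact fun hu => IsLocalRing.le_maximalIdeal hI hy ((isUnit_map_iff q y).1 hu))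
  have hlift : ∀ r ∈ rs, ∃ y ∈ I, q y = r := fun r hr => (Ideal.mem_map_iff_of_surjective q hsurj).1 (hmem r hr)
  choose! g hg hqg using hlift
  let ss := rs.map g
  have hq : ss.map q = rs := by
    rw [List.map_map]
    conv_rhs => rw [← List.map_id rs]
    exact List.map_congr_left fun r hr => hqg r hr
  have hssI : ∀ r ∈ ss, r ∈ I := fun r hr => by
    obtain ⟨x, hx, rfl⟩ := List.mem_map.1 hr
    exact hg x hx
  have hreg : IsWeaklyRegular S ss := by
    refine flat_and_isWeaklyRegular (R := R) ss (fun r hr => IsLocalRing.le_maximalIdeal hI (hssI r hr))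
      fun i hi y hy => ?_
    have hi' : i < rs.length := by simpa [ss] using hi
    have hr := mul_mem_iff_of_isSMulRegular.1 (isWeaklyRegular_iff_Fin F rs |>.1 hrs ⟨i, hi'⟩)
    have hmapK : Ideal.ofList (rs.take i) = (Ideal.ofList (ss.take i)).map q := by
      rw [Ideal.map_ofList, List.map_take, hq]
    have hel : rs[i] = q ss[i] := by simp [ss, hqg _ (List.getElem_mem hi')]
    have h1 := hr (q y) (by
      simp only [Fin.getElem_fin]
      rw [hel, ← map_mul, hmapK]
      exact Ideal.mem_quotient_iff_mem_sup.2 hy)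
    simp only at h1
    rw [hmapK] at h1
    exact Ideal.mem_quotient_iff_mem_sup.1 h1
  have hdep' : ((rs.length : ℕ) : ℕ∞) ≤ LocCoh.idealDepth I S :=
    H2Depth.le_idealDepth ⟨ss, by simp [ss], hreg, hssI⟩
  have hquot : ringKrullDim (S ⧸ (J ⊔ I)) = ((d - rs.length : ℕ) : WithBot ℕ∞) := by
    rw [← ringKrullDim_eq_of_ringEquiv (DoubleQuot.quotQuotEquivQuotSup J I), ← hsd,
      ← Module.supportDim_quotient_eq_ringKrullDim, Ideal.smul_eq_mul, Ideal.mul_top]
  rw [hquot, show ringKrullDim (S ⧸ J) = d from hd]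
  calc ((d : ℕ) : WithBot ℕ∞) = ((d - rs.length : ℕ) : WithBot ℕ∞) + ((rs.length : ℕ∞) : WithBot ℕ∞) := by
        rw [show (((rs.length : ℕ) : ℕ∞) : WithBot ℕ∞) = ((rs.length : ℕ) : WithBot ℕ∞) from rfl, ← Nat.cast_add,
          Nat.sub_add_cancel hle]
    _ ≤ _ := add_le_add le_rfl (WithBot.coe_le_coe.2 hdep')

end Groth.Agent.H2FibreDepth
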