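import Mathlib
import Groth.Prelude.Def_CAlgX

/-!
Regular sequences are quasi-regular.
-/

universe u

namespace Groth.Agent.H4QReg

open MvPolynomial

variable {A : Type u} [CommRing A]

set_option maxHeartbeats 400000

/-- regular modulo previous, elementwise -/
def Reg {n : ℕ} (x : Fin n → A) : Prop :=
  ∀ i : Fin n, ∀ y : A, x i * y ∈ Ideal.span (x '' {j | j < i}) → y ∈ Ideal.span (x '' {j | j < i})

theorem exists_eval_eq {n : ℕ} (x : Fin n → A) : ∀ (ν : ℕ) (z : A), z ∈ Ideal.span (Set.range x) ^ ν →
    ∃ G : MvPolynomial (Fin n) A, G.IsHomogeneous ν ∧ eval x G = z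
  | 0, z, _ => ⟨C z, isHomogeneous_C _ _, eval_C z⟩
  | ν + 1, z, hz => by
    rw [pow_succ'] at hz
    refine Submodule.mul_induction_on hz (fun a ha b hb => ?_) ?_
    · obtain ⟨c, rfl⟩ := Ideal.mem_span_range_iff_exists_fun.mp ha
      obtain ⟨G, hG, rfl⟩ := exists_eval_eq x ν b hb
      refine ⟨(∑ i, C (c i) * X i) * G, ?_, by simp⟩
      rw [add_comm ν 1]
      refine IsHomogeneous.mul (IsHomogeneous.sum _ _ _ fun i _ => ?_) hG
      simpa using (isHomogeneous_C (Fin n) (c i)).mul (isHomogeneous_X A i)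
    · rintro a b ⟨G, hG, rfl⟩ ⟨H, hH, rfl⟩
      exact ⟨G + H, hG.add hH, map_add _ _ _⟩

theorem exists_eval_eq_of_mem_succ {n : ℕ} (x : Fin n → A) (ν : ℕ) {z : A}
    (hz : z ∈ Ideal.span (Set.range x) ^ (ν + 1)) :
    ∃ G : MvPolynomial (Fin n) A, G.IsHomogeneous ν ∧ eval x G = z ∧
      ∀ d, G.coeff d ∈ Ideal.span (Set.range x) := by
  rw [pow_succ'] at hz
  refine Submodule.mul_induction_on hz (fun a ha b hb => ?_) ?_
  · obtain ⟨G, hG, rfl⟩ := exists_eval_eq x ν b hb
    refine ⟨C a * G, ?_, by simp, fun d => ?_⟩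
    · simpa using (isHomogeneous_C (Fin n) a).mul hG
    · rw [coeff_C_mul]; exact Ideal.mul_mem_right _ _ ha
  · rintro a b ⟨G, hG, rfl, hG'⟩ ⟨H, hH, rfl, hH'⟩
    exact ⟨G + H, hG.add hH, map_add _ _ _, fun d => by rw [coeff_add]; exact add_mem (hG' d) (hH' d)⟩

theorem degree_eq {σ : Type*} {ν : ℕ} {G : MvPolynomial σ A} (hG : G.IsHomogeneous ν) {d : σ →₀ ℕ}
    (h : G.coeff d ≠ 0) : d.degree = ν := by
  rw [← hG h]
  exact congrFun (congrArg DFunLike.coe Finsupp.degree_eq_weight_one) d

theorem eval_mem_pow {n : ℕ} (x : Fin n → A) {ν : ℕ} {G : MvPolynomial (Fin n) A} (hG : G.IsHomogeneous ν) :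
    eval x G ∈ Ideal.span (Set.range x) ^ ν := by
  rw [eval_eq]
  refine sum_mem fun d hd => Ideal.mul_mem_left _ _ ?_
  have h1 : d.degree = ν := degree_eq hG (mem_support_iff.mp hd)
  rw [← h1, Finsupp.degree_apply, ← Finset.prod_pow_eq_pow_sum]
  exact Ideal.prod_mem_prod fun i _ => Ideal.pow_mem_pow (Ideal.subset_span (Set.mem_range_self i)) _

/-- The vanishing form of quasi-regularity. -/
def QR {n : ℕ} (x : Fin n → A) : Prop :=
  ∀ (ν : ℕ) (F : MvPolynomial (Fin n) A), F.IsHomogeneous ν → eval x F = 0 →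
    ∀ d, F.coeff d ∈ Ideal.span (Set.range x)

theorem QR.of_mem {n : ℕ} {x : Fin n → A} (h : QR x) {ν : ℕ} {F : MvPolynomial (Fin n) A}
    (hF : F.IsHomogeneous ν) (hx : eval x F ∈ Ideal.span (Set.range x) ^ (ν + 1)) (d : Fin n →₀ ℕ) :
    F.coeff d ∈ Ideal.span (Set.range x) := by
  obtain ⟨G, hG, hev, hc⟩ := exists_eval_eq_of_mem_succ x ν hx
  have h1 := h ν (F - G) (hF.sub hG) (by rw [map_sub, hev, sub_self]) d
  rw [coeff_sub] at h1
  have := add_mem h1 (hc d)
  rwa [sub_add_cancel] at this

theorem QR.regular_pow {n : ℕ} {x : Fin n → A} (h : QR x) {a : A}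
    (ha : ∀ y, a * y ∈ Ideal.span (Set.range x) → y ∈ Ideal.span (Set.range x)) :
    ∀ (ν : ℕ) (y : A), a * y ∈ Ideal.span (Set.range x) ^ ν → y ∈ Ideal.span (Set.range x) ^ ν
  | 0, y, _ => by rw [pow_zero, Ideal.one_eq_top]; exact Submodule.mem_top
  | ν + 1, y, hy => by
    obtain ⟨G, hG, hev⟩ := exists_eval_eq x ν y
      (h.regular_pow ha ν y (Ideal.pow_le_pow_right (Nat.le_succ ν) hy))
    have h1 : ∀ d, a * G.coeff d ∈ Ideal.span (Set.range x) := fun d => by
      have := h.of_mem (F := C a * G) (by simpa using (isHomogeneous_C (Fin n) a).mul hG)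
        (by rw [map_mul, eval_C, hev]; exact hy) d
      rwa [coeff_C_mul] at this
    rw [← hev, eval_eq, pow_succ']
    refine sum_mem fun d hd => ?_
    refine Ideal.mul_mem_mul (ha _ (h1 d)) ?_
    have h2 : d.degree = ν := degree_eq hG (mem_support_iff.mp hd)
    rw [← h2, Finsupp.degree_apply, ← Finset.prod_pow_eq_pow_sum]
    exact Ideal.prod_mem_prod fun i _ => Ideal.pow_mem_pow (Ideal.subset_span (Set.mem_range_self i)) _

theorem image_lt_last {n : ℕ} (x : Fin (n + 1) → A) :
    x '' {j | j < Fin.last n} = Set.range (x ∘ Fin.castSucc) := by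
  rw [Set.range_comp]
  congr 1
  ext j
  rw [Set.mem_setOf_eq, Set.mem_range]
  exact ⟨fun h => ⟨⟨j, h⟩, rfl⟩, by rintro ⟨i, rfl⟩; exact Fin.castSucc_lt_last i⟩

theorem qr_of_reg : ∀ {n : ℕ} (x : Fin n → A), Reg x → QR x
  | 0, x, _ => by
    intro ν F _ hev d
    rw [Subsingleton.elim d 0, ← constantCoeff_eq]
    rw [eval_eq] at hev
    obtain ⟨a, rfl⟩ : ∃ a, F = C a := ⟨F.coeff 0, by ext e; rw [Subsingleton.elim e 0, coeff_zero_C]⟩
    rw [← eval_eq, eval_C] at hev
    rw [hev]
    simp
  | n + 1, x, hx => by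
    classical
    have hreg : Reg (x ∘ Fin.castSucc) := by
      intro i y hy
      have hset : (x ∘ Fin.castSucc) '' {j | j < i} = x '' {j | j < i.castSucc} := by
        rw [Set.image_comp]
        congr 1
        ext j
        constructor
        · rintro ⟨j, hj, rfl⟩
          exact hj
        · intro hj
          exact ⟨⟨j, lt_trans (show (j : ℕ) < i from hj) i.isLt⟩, hj, rfl⟩
      rw [hset] at hy ⊢
      exact hx i.castSucc y hy
    have hq : QR (x ∘ Fin.castSucc) := qr_of_reg _ hreg
    have hle : Ideal.span (Set.range (x ∘ Fin.castSucc)) ≤ Ideal.span (Set.range x) :=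
      Ideal.span_mono (Set.range_comp_subset_range _ _)
    have hlast : ∀ y, x (Fin.last n) * y ∈ Ideal.span (Set.range (x ∘ Fin.castSucc)) →
        y ∈ Ideal.span (Set.range (x ∘ Fin.castSucc)) := fun y => by
      rw [← image_lt_last]; exact hx _ y
    intro ν
    induction ν with
    | zero =>
      intro F hF hev d
      rcases eq_or_ne (F.coeff d) 0 with h | h
      · rw [h]; exact zero_mem _
      have h0 : d = 0 := (Finsupp.degree_eq_zero_iff d).mp (degree_eq hF h)
      obtain ⟨a, rfl⟩ : ∃ a, F = C a := by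
        refine ⟨F.coeff 0, MvPolynomial.ext _ _ fun e => ?_⟩
        rcases eq_or_ne e 0 with rfl | he
        · rw [coeff_zero_C]
        · rw [coeff_C, if_neg (Ne.symm he)]
          by_contra hne
          exact he ((Finsupp.degree_eq_zero_iff e).mp (degree_eq hF hne))
      rw [eval_C] at hev
      rw [h0, coeff_zero_C, hev]
      exact zero_mem _
    | succ ν ih =>
      intro F hF hev d
      set s : Fin (n + 1) →₀ ℕ := Finsupp.single (Fin.last n) 1 with hs
      have hFeq : X (Fin.last n) * (divMonomial F s) + modMonomial F s = F :=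
        divMonomial_add_modMonomial F s
      have hH : (divMonomial F s).IsHomogeneous ν := by
        intro e he
        rw [coeff_divMonomial] at he
        have h1 := hF he
        simp only [map_add, hs, Finsupp.weight_single, Pi.one_apply, smul_eq_mul, mul_one] at h1 ⊢
        omega
      have hG0 : (modMonomial F s).IsHomogeneous (ν + 1) := by
        intro e he
        by_cases hse : s ≤ e
        · exact absurd (coeff_modMonomial_of_le F hse) he
        · rw [coeff_modMonomial_of_not_le F hse] at he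
          exact hF he
      obtain ⟨G, hG⟩ : ∃ G : MvPolynomial (Fin n) A, rename Fin.castSucc G = modMonomial F s := by
        refine exists_rename_eq_of_vars_subset_range _ _ (Fin.castSucc_injective n) fun i hi => ?_
        rw [Set.mem_range]
        induction i using Fin.lastCases with
        | cast i => exact ⟨i, rfl⟩
        | last =>
          obtain ⟨e, he, hie⟩ := (mem_vars_iff_mem_support _).mp (Finset.mem_coe.mp hi)
          refine absurd (coeff_modMonomial_of_le F (?_ : s ≤ e)) (mem_support_iff.mp he)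
          rw [hs, Finsupp.single_le_iff]
          exact Nat.one_le_iff_ne_zero.mpr (Finsupp.mem_support_iff.mp hie)
      have hGh : G.IsHomogeneous (ν + 1) := by
        rw [← hG] at hG0
        exact (IsHomogeneous.rename_isHomogeneous_iff (Fin.castSucc_injective n)).mp hG0
      have hev' : eval (x ∘ Fin.castSucc) G + x (Fin.last n) * eval x (divMonomial F s) = 0 := by
        rw [← hFeq, map_add, map_mul, eval_X, ← hG, eval_rename] at hev
        rw [add_comm]; exact hev
      have hHmem : eval x (divMonomial F s) ∈ Ideal.span (Set.range (x ∘ Fin.castSucc)) ^ (ν + 1) := by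
        refine hq.regular_pow hlast (ν + 1) _ ?_
        rw [eq_neg_of_add_eq_zero_right hev']
        exact neg_mem (eval_mem_pow _ hGh)
      have hHc : ∀ e, (divMonomial F s).coeff e ∈ Ideal.span (Set.range x) := by
        intro e
        obtain ⟨K, hK, hKev, hKc⟩ := exists_eval_eq_of_mem_succ x ν (Ideal.pow_right_mono hle _ hHmem)
        have := ih (divMonomial F s - K) (hH.sub hK) (by rw [map_sub, hKev, sub_self]) e
        rw [coeff_sub] at this
        have h2 := add_mem this (hKc e)
        rwa [sub_add_cancel] at h2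
      have hGc : ∀ e, G.coeff e ∈ Ideal.span (Set.range x) := by
        intro e
        obtain ⟨H', hH', hH'ev⟩ := exists_eval_eq (x ∘ Fin.castSucc) (ν + 1) _ hHmem
        have := hq (ν + 1) (G + C (x (Fin.last n)) * H')
          (hGh.add (by simpa using (isHomogeneous_C (Fin n) (x (Fin.last n))).mul hH'))
          (by rw [map_add, map_mul, eval_C, hH'ev]; exact hev') e
        rw [coeff_add, coeff_C_mul] at this
        have h2 := sub_mem (hle this)
          (Ideal.mul_mem_right (H'.coeff e) _ (Ideal.subset_span (Set.mem_range_self (Fin.last n))))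
        rwa [add_sub_cancel_right] at h2
      have hG0c : modMonomial F s ∈ (Ideal.span (Set.range x)).map (C (σ := Fin (n + 1))) := by
        rw [← hG]
        have hmem : G ∈ (Ideal.span (Set.range x)).map (C (σ := Fin n)) := mem_map_C_iff.mpr hGc
        have := Ideal.mem_map_of_mem (rename (Fin.castSucc (n := n))).toRingHom hmem
        rw [Ideal.map_map] at this
        have hc : (rename (Fin.castSucc (n := n))).toRingHom.comp (C : A →+* MvPolynomial (Fin n) A) = C :=
          RingHom.ext fun a => rename_C _ a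
        rwa [hc] at this
      have hFc : F ∈ (Ideal.span (Set.range x)).map (C (σ := Fin (n + 1))) := by
        rw [← hFeq]
        exact add_mem (Ideal.mul_mem_left _ _ (mem_map_C_iff.mpr hHc)) hG0c
      exact mem_map_C_iff.mp hFc d

theorem reg_of_isWeaklyRegular {n : ℕ} {f : Fin n → A}
    (hf : RingTheory.Sequence.IsWeaklyRegular A (List.ofFn f)) : Reg f := by
  intro i y hy
  have hset : ∀ z, z ∈ (Ideal.ofList ((List.ofFn f).take i) • ⊤ : Submodule A A) ↔
      z ∈ Ideal.span (f '' {j | j < i}) := by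
    intro z
    rw [smul_eq_mul, Ideal.mul_top]
    have : {r | r ∈ (List.ofFn f).take (i : ℕ)} = f '' {j | j < i} := by
      ext r
      simp only [Set.mem_setOf_eq, List.mem_take_iff_getElem, List.getElem_ofFn, List.length_ofFn,
        Set.mem_image, lt_min_iff]
      constructor
      · rintro ⟨j, ⟨hj, hj'⟩, rfl⟩
        exact ⟨⟨j, hj'⟩, hj, rfl⟩
      · rintro ⟨j, hj, rfl⟩
        exact ⟨j, ⟨hj, j.isLt⟩, rfl⟩
    rw [Ideal.ofList, this]
  have h := hf.regular_mod_prev i (by simp)
  rw [← hset] at hy ⊢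
  rw [← Submodule.Quotient.mk_eq_zero] at hy ⊢
  refine h.right_eq_zero_of_smul ?_
  rw [List.getElem_ofFn, ← Submodule.Quotient.mk_smul, smul_eq_mul]
  exact hy

theorem isQuasiRegular_of_isWeaklyRegular {n : ℕ} {f : Fin n → A}
    (hf : RingTheory.Sequence.IsWeaklyRegular A (List.ofFn f)) : CAlgX.IsQuasiRegular f :=
  fun _ _ hP hev d => (qr_of_reg f (reg_of_isWeaklyRegular hf)).of_mem hP hev d

end Groth.Agent.H4QReg

namespace Groth.Agent.H4QReg

open MvPolynomial

variable {A : Type u} [CommRing A]

theorem linear_coeff {n : ℕ} {f : Fin n → A} (hf : CAlgX.IsQuasiRegular f) {a : Fin n → A}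
    (h : ∑ i, a i * f i ∈ Ideal.span (Set.range f) ^ 2) (i : Fin n) : a i ∈ Ideal.span (Set.range f) := by
  classical
  have hP : (∑ j, C (a j) * X j : MvPolynomial (Fin n) A).IsHomogeneous 1 :=
    IsHomogeneous.sum _ _ _ fun j _ => by
      simpa using (isHomogeneous_C (Fin n) (a j)).mul (isHomogeneous_X A j)
  have h2 := hf 1 _ hP (by simpa using h) (Finsupp.single i 1)
  simpa [coeff_sum, coeff_C_mul, coeff_X', Finsupp.single_eq_single_iff] using h2

theorem isQuasiRegular_of_span_eq {n : ℕ} (f f' : Fin n → A) (hf : CAlgX.IsQuasiRegular f)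
    (h : Ideal.span (Set.range f') = Ideal.span (Set.range f)) : CAlgX.IsQuasiRegular f' := by
  classical
  set J := Ideal.span (Set.range f) with hJ
  choose c hc using fun i => Ideal.mem_span_range_iff_exists_fun.mp
    (show f' i ∈ J from h ▸ Ideal.subset_span (Set.mem_range_self i))
  choose b hb using fun i => Ideal.mem_span_range_iff_exists_fun.mp
    (show f i ∈ Ideal.span (Set.range f') from h.symm ▸ Ideal.subset_span (Set.mem_range_self i))
  let q := Ideal.Quotient.mk J
  let Bm : Matrix (Fin n) (Fin n) (A ⧸ J) := Matrix.of fun i j => q (b i j)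
  let Cm : Matrix (Fin n) (Fin n) (A ⧸ J) := Matrix.of fun i j => q (c i j)
  have hBC : Bm * Cm = 1 := by
    ext i l
    have hzero : ∑ l', ((if i = l' then (1 : A) else 0) - ∑ j, b i j * c j l') * f l' ∈ J ^ 2 := by
      have : ∑ l', ((if i = l' then (1 : A) else 0) - ∑ j, b i j * c j l') * f l' = 0 := by
        simp only [sub_mul, Finset.sum_sub_distrib, ite_mul, one_mul, zero_mul, Finset.sum_ite_eq,
          Finset.mem_univ, if_true, Finset.sum_mul]
        rw [Finset.sum_comm]
        simp only [mul_assoc, ← Finset.mul_sum, hc, hb, sub_self]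
      rw [this]; exact zero_mem _
    have h1 := linear_coeff hf hzero l
    have h2 : q ((if i = l then (1 : A) else 0) - ∑ j, b i j * c j l) = 0 :=
      Ideal.Quotient.eq_zero_iff_mem.mpr h1
    rw [map_sub, sub_eq_zero, map_sum] at h2
    simp only [Matrix.mul_apply, Matrix.one_apply, Bm, Cm, Matrix.of_apply]
    rw [apply_ite q, map_one, map_zero] at h2
    simp only [map_mul] at h2
    exact h2.symm
  have hCB : Cm * Bm = 1 := mul_eq_one_comm.mp hBC
  intro ν P hP hev d
  rw [h] at hev ⊢
  set Q := aeval (fun i => ∑ j, C (c i j) * X j) P with hQ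
  have hQh : Q.IsHomogeneous ν := by
    have := hP.aeval (R := A) (n := 1) (fun i => ∑ j, C (c i j) * X j : Fin n → MvPolynomial (Fin n) A)
      fun i => IsHomogeneous.sum _ _ _ fun j _ => by
        simpa using (isHomogeneous_C (Fin n) (c i j)).mul (isHomogeneous_X A j)
    rw [one_mul] at this
    exact this
  have hQe : eval f Q = eval f' P := by
    rw [hQ, ← aeval_eq_eval, ← aeval_eq_eval, comp_aeval_apply]
    congr 1
    congr 1
    funext i
    simp [hc]
  have hQc : Q ∈ J.map (C (σ := Fin n)) := mem_map_C_iff.mpr (hf ν Q hQh (hQe.symm ▸ hev))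
  let π : MvPolynomial (Fin n) A →ₐ[A] MvPolynomial (Fin n) A ⧸ J.map (C (σ := Fin n)) :=
    Ideal.Quotient.mkₐ A _
  let φ : MvPolynomial (Fin n) A →ₐ[A] MvPolynomial (Fin n) A := aeval fun i => ∑ k, C (b i k) * X k
  have hφ : φ Q - P ∈ J.map (C (σ := Fin n)) := by
    rw [← Ideal.Quotient.eq]
    have : (π.comp φ).comp (aeval fun i => ∑ j, C (c i j) * X j) = π := by
      refine MvPolynomial.algHom_ext fun i => ?_
      change π (φ (aeval (fun i => ∑ j, C (c i j) * X j) (X i))) = π (X i)
      simp only [aeval_X, map_sum, map_mul, φ, MvPolynomial.algHom_C, algebraMap_eq]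
      have key : ∀ k, ∑ j, π (C (c i j)) * π (C (b j k)) = π (C (if i = k then (1 : A) else 0)) := by
        intro k
        rw [← sub_eq_zero]
        simp only [← map_mul, ← map_sum, ← map_sub]
        refine Ideal.Quotient.eq_zero_iff_mem.mpr (Ideal.mem_map_of_mem _ ?_)
        rw [← Ideal.Quotient.eq_zero_iff_mem, map_sub, sub_eq_zero, map_sum, apply_ite (Ideal.Quotient.mk J),
          map_one, map_zero]
        have := congrFun (congrFun hCB i) k
        simp only [Matrix.mul_apply, Matrix.one_apply, Bm, Cm, Matrix.of_apply] at this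
        simp only [map_mul]
        exact this
      simp only [Finset.mul_sum]
      rw [Finset.sum_comm]
      simp only [MvPolynomial.algHom_C] at key
      simp only [← mul_assoc, ← Finset.sum_mul, key]
      simp [apply_ite]
    exact AlgHom.congr_fun this P
  have hφQ : φ Q ∈ J.map (C (σ := Fin n)) := by
    have := Ideal.mem_map_of_mem φ.toRingHom hQc
    rw [Ideal.map_map] at this
    have hcomp : φ.toRingHom.comp (C : A →+* MvPolynomial (Fin n) A) = C :=
      RingHom.ext fun a => MvPolynomial.algHom_C φ a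
    rwa [hcomp] at this
  have := sub_mem hφQ hφ
  rw [sub_sub_cancel] at this
  exact mem_map_C_iff.mp this d

end Groth.Agent.H4QReg
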