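import Mathlib
import Groth.Prelude.Def_Found
import Groth.Prelude.Def_CAlgX
import Groth.Prelude.Def_EGA41
import Groth.Agent.Lib.H2AdicNilp
import Groth.Agent.Lib.H2FibreDepth
import Groth.Agent.Lib.RegularLocalBasic
import Groth.Agent.Lib.H4QReg
set_option autoImplicit false

/-! Adically formally smooth local homomorphisms of Noetherian local rings are flat. -/
namespace Groth.Agent.H2AdicFSFlat
open RingTheory.Sequence TensorProduct IsLocalRing Groth.Agent.H2FibreDepth
set_option backward.isDefEq.respectTransparency.types false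
universe u

section seq
variable {R : Type u} [CommRing R] [IsLocalRing R] [IsNoetherianRing R]
local notation "m" => IsLocalRing.maximalIdeal R
variable {S : Type u} [CommRing S] [IsLocalRing S] [IsNoetherianRing S] [Algebra R S]
  [IsLocalHom (algebraMap R S)] [Module.Flat R S]

theorem flat_quotient_and_reg (ss : List S) (hss : ∀ r ∈ ss, r ∈ IsLocalRing.maximalIdeal S)
    (h : ∀ (i : ℕ) (hi : i < ss.length) (y : S),
      ss[i] * y ∈ Ideal.ofList (ss.take i) ⊔ (m).map (algebraMap R S) →
        y ∈ Ideal.ofList (ss.take i) ⊔ (m).map (algebraMap R S)) :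
    Module.Flat R (S ⧸ Ideal.ofList ss) ∧
      ∀ i (hi : i < ss.length) (y : S), ss[i] * y ∈ Ideal.ofList (ss.take i) → y ∈ Ideal.ofList (ss.take i) := by
  have key : ∀ i, i ≤ ss.length → Module.Flat R (S ⧸ Ideal.ofList (ss.take i)) ∧
      ∀ j (hj : j < i) (hj' : j < ss.length) (y : S),
        ss[j] * y ∈ Ideal.ofList (ss.take j) → y ∈ Ideal.ofList (ss.take j) := by
    intro i
    induction i with
    | zero =>
      refine fun _ => ⟨?_, fun j hj => absurd hj (Nat.not_lt_zero j)⟩
      rw [List.take_zero, Ideal.ofList_nil]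
      exact Module.Flat.of_linearEquiv (AlgEquiv.quotientBot R S).toLinearEquiv
    | succ i ih =>
      intro hi
      obtain ⟨hflat, hreg⟩ := ih (by omega)
      let K := Ideal.ofList (ss.take i)
      haveI : Nontrivial (S ⧸ K) := Ideal.Quotient.nontrivial_iff.2 (ne_top_of_le_ne_top
        (IsLocalRing.maximalIdeal.isMaximal S).ne_top (Ideal.span_le.2 fun r hr => hss r (List.take_subset i ss hr)))
      haveI : IsLocalRing (S ⧸ K) := IsLocalRing.of_surjective' (Ideal.Quotient.mk K) Ideal.Quotient.mk_surjective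
      haveI : IsLocalHom (algebraMap R (S ⧸ K)) := by
        haveI : IsLocalHom (Ideal.Quotient.mk K) :=
          IsLocalHom.of_surjective _ Ideal.Quotient.mk_surjective
        rw [IsScalarTower.algebraMap_eq R S (S ⧸ K)]
        exact RingHom.isLocalHom_comp (Ideal.Quotient.mk K) (algebraMap R S)
      haveI : Module.Flat R (S ⧸ K) := hflat
      have hmem : ∀ y, Ideal.Quotient.mk K y ∈ (m).map (algebraMap R (S ⧸ K)) ↔ y ∈ K ⊔ (m).map (algebraMap R S) := by
        intro y
        rw [IsScalarTower.algebraMap_eq R S (S ⧸ K), ← Ideal.map_map]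
        exact (Ideal.mem_quotient_iff_mem_sup (I := K) (J := (m).map (algebraMap R S))).trans (by rw [sup_comm])
      obtain ⟨hfl, hrg⟩ := flat_quotient_span (R := R) (Ideal.Quotient.mk K ss[i]) (fun z => by
        obtain ⟨y, rfl⟩ := Ideal.Quotient.mk_surjective z
        rw [← map_mul, hmem, hmem]
        exact h i (by omega) y)
      refine ⟨?_, fun j hj hj' y hy => ?_⟩
      · have e0 : Ideal.ofList (ss.take (i + 1)) = K ⊔ Ideal.span {ss[i]} := by
          rw [List.take_add_one, Ideal.ofList_append, List.getElem?_eq_getElem (by omega), Option.toList_some,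
            Ideal.ofList_singleton]
        have e1 : (Ideal.span {ss[i]}).map (Ideal.Quotient.mkₐ R K) = Ideal.span {Ideal.Quotient.mk K ss[i]} := by
          rw [Ideal.map_span, Set.image_singleton]; rfl
        haveI : Module.Flat R ((S ⧸ K) ⧸ (Ideal.span {ss[i]}).map (Ideal.Quotient.mkₐ R K)) := e1 ▸ hfl
        rw [e0]
        exact Module.Flat.of_linearEquiv (DoubleQuot.quotQuotEquivQuotSupₐ R K (Ideal.span {ss[i]})).toLinearEquiv.symm
      · rcases Nat.lt_succ_iff_lt_or_eq.1 hj with hj | rfl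
        · exact hreg j hj hj' y hy
        · refine Ideal.Quotient.eq_zero_iff_mem.1 (hrg.right_eq_zero_of_smul ?_)
          rw [smul_eq_mul, ← map_mul]
          exact Ideal.Quotient.eq_zero_iff_mem.2 hy
  obtain ⟨h1, h2⟩ := key ss.length le_rfl
  rw [List.take_length] at h1
  exact ⟨h1, fun i hi => h2 i hi hi⟩

end seq

/-- Elements of `E M` in the span of `a`, for flat `M`. -/
theorem exists_eq_of_mem_smul {A M : Type u} [CommRing A] [AddCommGroup M] [Module A M] [Module.Flat A M] {n : ℕ}
    (a : Fin n → A) (s : Fin n → M) {E T : Ideal A} (hE : ∀ r ∈ E, r ∈ Ideal.span (Set.range a) → r ∈ T * Ideal.span (Set.range a))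
    (h : ∑ i, a i • s i ∈ E • (⊤ : Submodule A M)) :
    ∃ t : Fin n → M, (∀ i, t i ∈ T • (⊤ : Submodule A M)) ∧ ∑ i, a i • t i = ∑ i, a i • s i := by
  classical
  rw [← Submodule.span_univ, ← Set.range_id, Submodule.mem_ideal_smul_span_iff_exists_sum] at h
  obtain ⟨e, he, hes⟩ := h
  obtain ⟨k, α, z, hz, hα⟩ := Module.Flat.isTrivialRelation_of_sum_smul_eq_zero (ι := Fin n ⊕ e.support)
    (f := Sum.elim a fun x => -(e x.1)) (x := Sum.elim s fun x => x.1) (by
      rw [Fintype.sum_sum_type]
      simp only [Sum.elim_inl, Sum.elim_inr, neg_smul, Finset.sum_neg_distrib]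
      rw [← hes, Finsupp.sum, ← Finset.sum_attach e.support, Finset.univ_eq_attach]
      exact add_neg_cancel _)
  have hτ : ∀ j, ∃ τ : Fin n → A, (∀ i, τ i ∈ T) ∧ ∑ i, τ i * a i = ∑ i, a i * α (Sum.inl i) j := by
    intro j
    have h1 := hα j
    simp only [Fintype.sum_sum_type, Sum.elim_inl, Sum.elim_inr, neg_mul, Finset.sum_neg_distrib, ← sub_eq_add_neg,
      sub_eq_zero] at h1
    have hr : ∑ i, a i * α (Sum.inl i) j ∈ T * Ideal.span (Set.range a) :=
      hE _ (h1 ▸ sum_mem fun x _ => E.mul_mem_right _ (he x.1))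
        (sum_mem fun i _ => Ideal.mul_mem_right _ _ (Ideal.subset_span ⟨i, rfl⟩))
    obtain ⟨τ, hτ, hτs⟩ := (Submodule.mem_ideal_smul_span_iff_exists_sum T a _).1 hr
    exact ⟨τ, hτ, by rw [← hτs, Finsupp.sum_fintype _ _ (fun i => by simp)]; rfl⟩
  choose τ hτT hτs using hτ
  refine ⟨fun i => ∑ j, τ j i • z j, fun i => sum_mem fun j _ => Submodule.smul_mem_smul (hτT j i) trivial, ?_⟩
  have hs : ∀ i, s i = ∑ j, α (Sum.inl i) j • z j := fun i => hz (Sum.inl i)
  simp only [hs, Finset.smul_sum, smul_smul]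
  rw [Finset.sum_comm, Finset.sum_comm (f := fun i j => (a i * α (Sum.inl i) j) • z j)]
  refine Finset.sum_congr rfl fun j _ => ?_
  rw [← Finset.sum_smul, ← Finset.sum_smul]
  refine congrArg (· • z j) ((Finset.sum_congr rfl fun i _ => mul_comm _ _).trans (hτs j))

/-- A combination lying in an ideal with flat quotient comes from that ideal. -/
theorem exists_mem_of_flat {A L : Type u} [CommRing A] [CommRing L] [Algebra A L] (F : Ideal L) [Module.Flat A (L ⧸ F)] {n : ℕ}
    (a : Fin n → A) (s : Fin n → L) (h : ∑ i, a i • s i ∈ F) :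
    ∃ f : Fin n → L, (∀ i, f i ∈ F) ∧ ∑ i, a i • f i = ∑ i, a i • s i := by
  classical
  obtain ⟨k, α, z, hz, hα⟩ := Module.Flat.isTrivialRelation_of_sum_smul_eq_zero (f := a) (x := fun i => Ideal.Quotient.mkₐ A F (s i)) (by
      have h2 : Ideal.Quotient.mkₐ A F (∑ i, a i • s i) = 0 := Ideal.Quotient.eq_zero_iff_mem.2 h
      simpa only [map_sum, map_smul] using h2)
  choose w hw using fun j => Ideal.Quotient.mkₐ_surjective A F (z j)
  refine ⟨fun i => s i - ∑ j, α i j • w j, fun i => ?_, ?_⟩
  · refine Ideal.Quotient.eq_zero_iff_mem.1 ?_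
    show Ideal.Quotient.mkₐ A F (s i - ∑ j, α i j • w j) = 0
    rw [map_sub, map_sum, sub_eq_zero]
    refine (hz i).trans ?_
    exact Finset.sum_congr rfl fun j _ => by rw [map_smul, hw]
  · simp only [smul_sub, Finset.sum_sub_distrib, Finset.smul_sum, smul_smul]
    rw [Finset.sum_comm, sub_eq_self]
    exact Finset.sum_eq_zero fun j _ => by rw [← Finset.sum_smul, hα j, zero_smul]

/-- The same for all powers of an ideal generated by a regular sequence with flat quotient. -/
theorem exists_mem_pow_of_flat {A L : Type u} [CommRing A] [CommRing L] [Algebra A L] {r : ℕ} (x : Fin r → L) (hx : H4QReg.Reg x)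
    [Module.Flat A (L ⧸ Ideal.span (Set.range x))] {n : ℕ} (a : Fin n → A) :
    ∀ (j : ℕ) (s : Fin n → L), ∑ i, a i • s i ∈ Ideal.span (Set.range x) ^ j →
      ∃ f : Fin n → L, (∀ i, f i ∈ Ideal.span (Set.range x) ^ j) ∧ ∑ i, a i • f i = ∑ i, a i • s i := by
  classical
  intro j
  induction j with
  | zero => exact fun s _ => ⟨s, fun i => by rw [pow_zero, Ideal.one_eq_top]; trivial, rfl⟩
  | succ j ih =>
    intro s hs
    obtain ⟨f, hf, hfs⟩ := ih s (Ideal.pow_le_pow_right j.le_succ hs)
    choose G hG hGe using fun i => H4QReg.exists_eval_eq x j (f i) (hf i)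
    have hsum : (∑ i, MvPolynomial.C (algebraMap A L (a i)) * G i).IsHomogeneous j :=
      MvPolynomial.IsHomogeneous.sum _ _ _ fun i _ => by simpa using (MvPolynomial.isHomogeneous_C (Fin r) (algebraMap A L (a i))).mul (hG i)
    have hev : MvPolynomial.eval x (∑ i, MvPolynomial.C (algebraMap A L (a i)) * G i) ∈ Ideal.span (Set.range x) ^ (j + 1) := by
      rw [map_sum]
      simp only [map_mul, MvPolynomial.eval_C, hGe, ← Algebra.smul_def, hfs]
      exact hs
    have hc : ∀ d, ∑ i, a i • (G i).coeff d ∈ Ideal.span (Set.range x) := fun d => by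
      have h1 := (H4QReg.qr_of_reg x hx).of_mem hsum hev d
      simpa only [MvPolynomial.coeff_sum, MvPolynomial.coeff_C_mul, ← Algebra.smul_def] using h1
    choose w hwF hws using fun d => exists_mem_of_flat (Ideal.span (Set.range x)) a (fun i => (G i).coeff d) (hc d)
    let T := Finset.univ.biUnion fun i => (G i).support
    let mo : (Fin r →₀ ℕ) → L := fun d => MvPolynomial.eval x (MvPolynomial.monomial d 1)
    refine ⟨fun i => ∑ d ∈ T, w d i * mo d, fun i => sum_mem fun d hd => ?_, ?_⟩
    · rw [pow_succ']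
      obtain ⟨i', -, hd'⟩ := Finset.mem_biUnion.1 hd
      exact Ideal.mul_mem_mul (hwF d i) (H4QReg.eval_mem_pow x
        (MvPolynomial.isHomogeneous_monomial _ (H4QReg.degree_eq (hG i') (MvPolynomial.mem_support_iff.1 hd'))))
    · rw [← hfs]
      have h1 : ∀ i, f i = ∑ d ∈ T, (G i).coeff d * mo d := fun i => by
        conv_lhs => rw [← hGe i, (G i).as_sum, map_sum]
        rw [Finset.sum_subset (fun d hd => Finset.mem_biUnion.2 ⟨i, Finset.mem_univ i, hd⟩ : (G i).support ⊆ T)
          fun d _ hd => by rw [MvPolynomial.notMem_support_iff.1 hd]; simp]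
        refine Finset.sum_congr rfl fun d _ => ?_
        simp only [mo, MvPolynomial.eval_monomial, one_mul]
      simp only [h1, Finset.smul_sum, ← smul_mul_assoc]
      rw [Finset.sum_comm, Finset.sum_comm (f := fun i d => a i • (G i).coeff d * mo d)]
      refine Finset.sum_congr rfl fun d _ => ?_
      rw [← Finset.sum_mul, ← Finset.sum_mul, hws d]

section fibre
variable {A : Type u} [CommRing A] [IsLocalRing A] [IsNoetherianRing A]

/-- The local rings of polynomial rings over a Noetherian local ring over the closed point have a flat regular sequence. -/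
theorem exists_regular_sequence (X : Type u) [Finite X] (q : Ideal (MvPolynomial X A)) [q.IsPrime]
    (hq : (maximalIdeal A).map MvPolynomial.C ≤ q) :
    ∃ (r : ℕ) (x : Fin r → Localization.AtPrime q), H4QReg.Reg x ∧
      Module.Flat A (Localization.AtPrime q ⧸ Ideal.span (Set.range x)) ∧
      maximalIdeal (Localization.AtPrime q) =
        Ideal.span (Set.range x) ⊔ (maximalIdeal A).map (algebraMap A (Localization.AtPrime q)) := by
  classical
  let P := MvPolynomial X A
  let k := ResidueField A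
  let L := Localization.AtPrime q
  let f : P →+* MvPolynomial X k := MvPolynomial.map (residue A)
  have hfs : Function.Surjective f := MvPolynomial.map_surjective _ residue_surjective
  have hker : RingHom.ker f = (maximalIdeal A).map MvPolynomial.C := by
    rw [MvPolynomial.ker_map, ker_residue]
  let qb : Ideal (MvPolynomial X k) := q.map f
  haveI hqb : qb.IsPrime := Ideal.map_isPrime_of_surjective hfs (hker.le.trans hq)
  have hcomap : q = qb.comap f := by
    rw [Ideal.comap_map_of_surjective f hfs, ← RingHom.ker_eq_comap_bot, sup_eq_left.2 (hker.le.trans hq)]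
  let Rb := Localization.AtPrime qb
  haveI : IsRegularLocalRing Rb := inferInstance
  let g : L →+* Rb := Localization.localRingHom q qb f hcomap
  have hgs : Function.Surjective g := fun z => by
    obtain ⟨p, s, rfl⟩ := IsLocalization.exists_mk'_eq qb.primeCompl z
    obtain ⟨p, rfl⟩ := hfs p
    obtain ⟨s', hs'⟩ := hfs s
    have hs'q : s' ∈ q.primeCompl := fun h => s.2 (hs' ▸ Ideal.mem_map_of_mem f h)
    exact ⟨IsLocalization.mk' L p (⟨s', hs'q⟩ : q.primeCompl), by
      rw [Localization.localRingHom_mk']; congr 1; exact Subtype.ext hs'⟩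
  let mL : Ideal L := (maximalIdeal A).map (algebraMap A L)
  have hmL : mL = (RingHom.ker f).map (algebraMap P L) := by
    rw [hker, Ideal.map_map]; rfl
  have hkg : RingHom.ker g = mL := by
    refine le_antisymm (fun z hz => ?_) ?_
    · obtain ⟨p, s, rfl⟩ := IsLocalization.exists_mk'_eq q.primeCompl z
      rw [RingHom.mem_ker, Localization.localRingHom_mk', IsLocalization.mk'_eq_zero_iff] at hz
      obtain ⟨⟨t, ht⟩, ht0⟩ := hz
      obtain ⟨t', rfl⟩ := hfs t
      have ht' : t' ∈ q.primeCompl := fun h => ht (Ideal.mem_map_of_mem f h)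
      rw [hmL, IsLocalization.mk'_mem_iff, ← Ideal.unit_mul_mem_iff_mem _ (IsLocalization.map_units L (⟨t', ht'⟩ : q.primeCompl)), ← map_mul]
      exact Ideal.mem_map_of_mem _ (by rw [RingHom.mem_ker, map_mul]; exact ht0)
    · rw [hmL, Ideal.map_le_iff_le_comap]
      intro p hp
      show g (algebraMap P L p) = 0
      rw [Localization.localRingHom_to_map, RingHom.mem_ker.1 hp, map_zero]
  obtain ⟨s, hscard, hsspan⟩ := Submodule.FG.exists_span_set_encard_eq_spanFinrank (maximalIdeal Rb).fg_of_isNoetherianRing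
  have hfin : s.Finite := Set.finite_of_encard_eq_coe hscard
  let rs := hfin.toFinset.toList
  have hrs : Ideal.ofList rs = maximalIdeal Rb := by
    rw [← hsspan]; show Ideal.span {y | y ∈ rs} = Submodule.span Rb s; congr 1; ext y; simp [rs]
  have hreg : RingTheory.Sequence.IsRegular Rb rs := RegLocal.isRegular_of_span_eq rs [] (by rw [List.append_nil, hrs]) (by
    rw [List.length_nil, add_zero, Finset.length_toList, ← Nat.cast_le (α := ℕ∞), ← hscard, hfin.encard_eq_coe_toFinset_card])
  let lift : Rb → L := fun y => (hgs y).choose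
  have hlift : ∀ y, g (lift y) = y := fun y => (hgs y).choose_spec
  let ss := rs.map lift
  haveI hloc : IsLocalHom (algebraMap A L) := ⟨fun a ha => by
    by_contra hna
    exact (mem_maximalIdeal _).1 ((IsLocalization.AtPrime.map_eq_maximalIdeal q L) ▸
      Ideal.mem_map_of_mem (algebraMap P L) (hq (Ideal.mem_map_of_mem _ ((mem_maximalIdeal a).2 hna)))) ha⟩
  haveI : Module.Flat A L := Module.Flat.trans A P L
  have hmapl : ∀ l : List Rb, (Ideal.ofList (l.map lift)).map g = Ideal.ofList l := fun l => by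
    rw [Ideal.map_ofList, List.map_map]
    congr 1
    exact (List.map_congr_left fun y _ => hlift y).trans (List.map_id l)
  have hmem : ∀ (l : List Rb) (y : L), y ∈ Ideal.ofList (l.map lift) ⊔ mL ↔ g y ∈ Ideal.ofList l := fun l y => by
    rw [← hmapl l, ← Ideal.mem_comap, Ideal.comap_map_of_surjective g hgs, ← RingHom.ker_eq_comap_bot, hkg]
  have hmax : maximalIdeal L = Ideal.ofList ss ⊔ mL := by
    ext y
    rw [hmem, hrs]
    haveI : IsLocalHom g := Localization.isLocalHom_localRingHom q qb f hcomap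
    exact (mem_maximalIdeal y).trans ((not_congr ⟨fun h => h.map g, fun h => isUnit_of_map_unit g y h⟩).trans (mem_maximalIdeal (g y)).symm)
  obtain ⟨hfl, hreg'⟩ := flat_quotient_and_reg (R := A) ss (fun r hr => hmax ▸ Ideal.mem_sup_left (Ideal.subset_span hr))
    (fun i hi y hy => by
      have hi' : i < rs.length := by simpa [ss] using hi
      rw [← List.map_take, hmem] at hy ⊢
      rw [List.getElem_map, map_mul, hlift] at hy
      exact mul_mem_iff_of_isSMulRegular.1 (((isWeaklyRegular_iff_Fin Rb rs).1 hreg.toIsWeaklyRegular) ⟨i, hi'⟩) _ hy)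
  have hrange : Ideal.span (Set.range fun i : Fin ss.length => ss[i]) = Ideal.ofList ss := by
    refine congrArg Ideal.span (Set.ext fun y => ?_)
    exact List.mem_iff_get.symm.trans Iff.rfl |> fun h => h.trans Iff.rfl
  refine ⟨ss.length, fun i => ss[i], fun i y hy => ?_, hrange ▸ hfl, hrange ▸ hmax⟩
  have e : Ideal.span ((fun i : Fin ss.length => ss[i]) '' {j | j < i}) = Ideal.ofList (ss.take i) := by
    refine congrArg Ideal.span (Set.ext fun z => ?_)
    rw [Set.mem_ofPred_eq, List.mem_take_iff_getElem]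
    constructor
    · rintro ⟨j, hj, rfl⟩
      exact ⟨j, lt_min hj j.2, rfl⟩
    · rintro ⟨j, hj, rfl⟩
      exact ⟨⟨j, (lt_min_iff.1 hj).2⟩, (lt_min_iff.1 hj).1, rfl⟩
  rw [e] at hy ⊢
  exact hreg' i i.2 y hy

end fibre

/-- Adically formally smooth local homomorphisms of Noetherian local rings are flat. -/
theorem flat_of_adicFS {A B : Type u} [CommRing A] [CommRing B] [IsLocalRing A] [IsLocalRing B] [IsNoetherianRing A]
    [IsNoetherianRing B] [Algebra A B] [IsLocalHom (algebraMap A B)]
    (h : CAlgX.IsAdicFormallySmooth A B (maximalIdeal B)) : Module.Flat A B := by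
  classical
  rw [Module.Flat.iff_lTensor_injective']
  intro I
  rw [injective_iff_map_eq_zero]
  intro x hx
  obtain ⟨n, a, ha⟩ := Submodule.fg_iff_exists_fin_generating_family.1 (IsNoetherian.noetherian I)
  have haI : ∀ i, a i ∈ I := fun i => ha.le (Submodule.subset_span ⟨i, rfl⟩)
  let a' : Fin n → I := fun i => ⟨a i, haI i⟩
  obtain ⟨b, rfl⟩ : ∃ b : Fin n → B, x = ∑ i, b i ⊗ₜ[A] a' i := by
    clear hx
    induction x with
    | zero => exact ⟨0, by simp⟩
    | add x y hx hy =>
      obtain ⟨b, rfl⟩ := hx; obtain ⟨b', rfl⟩ := hy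
      exact ⟨b + b', by simp [TensorProduct.add_tmul, Finset.sum_add_distrib]⟩
    | tmul b r =>
      obtain ⟨c, hc⟩ := (Submodule.mem_span_range_iff_exists_fun A).1 (ha.ge r.2)
      refine ⟨fun i => c i • b, ?_⟩
      have hr : r = ∑ i, c i • a' i := Subtype.ext (by
        rw [← hc, Submodule.coe_sum]; exact Finset.sum_congr rfl fun i _ => rfl)
      rw [hr, TensorProduct.tmul_sum]
      exact Finset.sum_congr rfl fun i _ => (TensorProduct.smul_tmul (c i) b (a' i)).symm
  have hrel : ∑ i, algebraMap A B (a i) * b i = 0 := by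
    have h1 := congrArg (TensorProduct.rid A B) hx
    simpa [a', Algebra.smul_def] using h1
  obtain ⟨c0, hc0⟩ := Ideal.exists_pow_inf_eq_pow_smul (maximalIdeal A) (I : Submodule A A)
  refine (Submodule.mem_bot B).1 ?_
  rw [← Ideal.iInf_pow_smul_eq_bot_of_isLocalRing (R := B) (M := B ⊗[A] I) (maximalIdeal B) (maximalIdeal.isMaximal B).ne_top, Submodule.mem_iInf]
  intro l
  let mB := maximalIdeal B
  let e := l + c0
  let N := e + e
  -- lift along a polynomial presentation
  let P := MvPolynomial B A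
  let π0 : P →ₐ[A] B := MvPolynomial.aeval id
  let q : Ideal P := mB.comap π0
  let J0 : Ideal P := q ^ N
  let π : P ⧸ J0 →ₐ[A] B ⧸ mB ^ N := Ideal.Quotient.liftₐ J0 ((Ideal.Quotient.mkₐ A (mB ^ N)).comp π0) fun p hp =>
    Ideal.Quotient.eq_zero_iff_mem.2 (Ideal.le_comap_pow π0 N hp)
  have hπs : Function.Surjective π := fun z => by
    obtain ⟨y, rfl⟩ := Ideal.Quotient.mk_surjective z
    exact ⟨Ideal.Quotient.mk J0 (MvPolynomial.X y), congrArg (Ideal.Quotient.mk (mB ^ N)) (MvPolynomial.aeval_X _ y)⟩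
  have hJ : IsNilpotent (RingHom.ker π.toRingHom) := by
    by_cases hN : N = 0
    · haveI : Subsingleton (P ⧸ J0) := Ideal.Quotient.subsingleton_iff.2 (by simp [J0, hN])
      exact ⟨1, Subsingleton.elim _ _⟩
    refine ⟨N, le_bot_iff.1 (le_trans (Ideal.pow_right_mono (J := q.map (Ideal.Quotient.mk J0)) (fun z hz => ?_) N) ?_)⟩
    · obtain ⟨p, rfl⟩ := Ideal.Quotient.mk_surjective z
      have h1 : π0 p ∈ mB ^ N := Ideal.Quotient.eq_zero_iff_mem.1 hz
      exact Ideal.mem_map_of_mem _ (show π0 p ∈ mB from Ideal.pow_le_self hN h1)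
    · rw [← Ideal.map_pow]; exact (Ideal.map_quotient_self J0).le
  let eq := Ideal.quotientKerAlgEquivOfSurjective hπs
  obtain ⟨v, hv⟩ := Groth.Agent.H2AdicNilp.isFormallySmoothAdic_of_isAdicFormallySmooth (⊥ : Ideal A) _ h (P ⧸ J0)
    (RingHom.ker π.toRingHom) hJ ⟨1, by simp⟩ (eq.symm.toAlgHom.comp (Ideal.Quotient.mkₐ A (mB ^ N))) ⟨N, fun y hy => by
      show eq.symm (Ideal.Quotient.mk (mB ^ N) y) = 0
      rw [Ideal.Quotient.eq_zero_iff_mem.2 hy, map_zero]⟩
  choose p hp using fun i => Ideal.Quotient.mk_surjective (v (b i))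
  have hpb : ∀ i, π0 (p i) - b i ∈ mB ^ N := fun i => by
    have h1 : Ideal.Quotient.mk (RingHom.ker π.toRingHom) (v (b i)) = eq.symm (Ideal.Quotient.mk _ (b i)) := AlgHom.congr_fun hv (b i)
    have h2 := congrArg eq h1
    rw [AlgEquiv.apply_symm_apply] at h2
    rw [← Ideal.Quotient.eq, ← h2, ← hp i]
    rfl
  have hpsum : ∑ i, a i • p i ∈ q ^ N := by
    show _ ∈ J0
    have h0 : Ideal.Quotient.mkₐ A J0 (∑ i, a i • p i) = v (∑ i, algebraMap A B (a i) * b i) := by
      simp only [map_sum, map_smul, ← Algebra.smul_def, Ideal.Quotient.mkₐ_eq_mk, hp]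
    rw [hrel, map_zero] at h0
    exact Ideal.Quotient.eq_zero_iff_mem.1 h0
  -- descend to finitely many variables
  let ι : ∀ Y : Finset B, MvPolynomial Y A →ₐ[A] P := fun Y => MvPolynomial.rename Subtype.val
  let qY : ∀ Y : Finset B, Ideal (MvPolynomial Y A) := fun Y => q.comap (ι Y)
  have hmono : ∀ (M : ℕ) (Y Z : Finset B), Y ⊆ Z → ((qY Y) ^ M).map (ι Y) ≤ ((qY Z) ^ M).map (ι Z) := fun M Y Z hYZ => by
    let inc : MvPolynomial Y A →ₐ[A] MvPolynomial Z A := MvPolynomial.rename fun y => ⟨y.1, hYZ y.2⟩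
    have hinc : ∀ p, ι Z (inc p) = ι Y p := fun p => MvPolynomial.rename_rename _ _ p
    rw [Ideal.map_le_iff_le_comap]
    intro p hp
    rw [Ideal.mem_comap, ← hinc]
    refine Ideal.mem_map_of_mem _ ?_
    exact Ideal.le_comap_pow inc M (Ideal.pow_right_mono (show qY Y ≤ (qY Z).comap inc from fun p hp => show ι Z (inc p) ∈ q by rw [hinc]; exact hp) M hp)
  have hdir : ∀ (M : ℕ), ∀ z ∈ q ^ M, ∃ Y : Finset B, z ∈ ((qY Y) ^ M).map (ι Y) := by
    intro M
    induction M with
    | zero =>
      intro z _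
      obtain ⟨Y, y, rfl⟩ := MvPolynomial.exists_finset_rename z
      exact ⟨Y, Ideal.mem_map_of_mem (ι Y) (by rw [pow_zero, Ideal.one_eq_top]; trivial)⟩
    | succ M ih =>
      intro z hz
      rw [pow_succ] at hz
      refine Submodule.mul_induction_on hz (fun u hu w hw => ?_) fun u w ⟨Y, hY⟩ ⟨Z, hZ⟩ =>
        ⟨Y ∪ Z, add_mem (hmono _ _ _ Finset.subset_union_left hY) (hmono _ _ _ Finset.subset_union_right hZ)⟩
      obtain ⟨Y, hY⟩ := ih u hu
      obtain ⟨Z, z', rfl⟩ := MvPolynomial.exists_finset_rename w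
      refine ⟨Y ∪ Z, ?_⟩
      rw [pow_succ, Ideal.map_mul]
      refine Ideal.mul_mem_mul (hmono _ _ _ Finset.subset_union_left hY) ?_
      have := hmono 1 _ _ (Finset.subset_union_right : Z ⊆ Y ∪ Z)
      rw [pow_one, pow_one] at this
      exact this (Ideal.mem_map_of_mem (ι Z) hw)
  obtain ⟨Y0, hY0⟩ := hdir N _ hpsum
  choose Yi p' hp' using fun i => MvPolynomial.exists_finset_rename (p i)
  let Y := Y0 ∪ Finset.univ.biUnion Yi
  have hsub : ∀ i, Yi i ⊆ Y := fun i => (Finset.subset_biUnion_of_mem Yi (Finset.mem_univ i)).trans Finset.subset_union_right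
  let s : Fin n → MvPolynomial Y A := fun i => MvPolynomial.rename (fun y => (⟨y.1, hsub i y.2⟩ : Y)) (p' i)
  have hs : ∀ i, ι Y (s i) = p i := fun i => by rw [hp' i]; exact MvPolynomial.rename_rename _ _ _
  have hsq : ∑ i, a i • s i ∈ (qY Y) ^ N := by
    have h1 : ι Y (∑ i, a i • s i) ∈ ((qY Y) ^ N).map (ι Y) := by
      simp only [map_sum, map_smul, hs]
      exact hmono N _ _ Finset.subset_union_left hY0
    let κ : P →ₐ[A] MvPolynomial Y A := MvPolynomial.killCompl Subtype.val_injective
    have hκ : ∀ u, κ (ι Y u) = u := fun u => MvPolynomial.killCompl_rename_app Subtype.val_injective u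
    have h2 := Ideal.mem_map_of_mem κ h1
    rw [hκ, Ideal.map_mapₐ] at h2
    rwa [show κ.comp (ι Y) = AlgHom.id A _ from AlgHom.ext hκ, Ideal.map_idₐ] at h2
  -- pass to the local ring
  let qq := qY Y
  let φ0 : MvPolynomial Y A →ₐ[A] B := π0.comp (ι Y)
  haveI : qq.IsPrime := Ideal.IsPrime.comap (ι Y) (hK := Ideal.IsPrime.comap π0 (hK := (maximalIdeal.isMaximal B).isPrime))
  have hqm : (maximalIdeal A).map MvPolynomial.C ≤ qq := by
    rw [Ideal.map_le_iff_le_comap]
    intro r hr
    show φ0 (algebraMap A (MvPolynomial Y A) r) ∈ mB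
    rw [φ0.commutes]
    exact (mem_maximalIdeal _).2 fun h => (mem_maximalIdeal r).1 hr (isUnit_of_map_unit (algebraMap A B) r h)
  let L := Localization.AtPrime qq
  have hu : ∀ y : qq.primeCompl, IsUnit (φ0 y) := fun y => notMem_maximalIdeal.1 y.2
  let φ : L →ₐ[A] B := IsLocalization.liftAlgHom (M := qq.primeCompl) hu
  have hφ : ∀ u, φ (algebraMap _ L u) = φ0 u := fun u => IsLocalization.lift_eq hu u
  have hφm : maximalIdeal L ≤ mB.comap φ := by
    rw [← IsLocalization.AtPrime.map_eq_maximalIdeal qq L, Ideal.map_le_iff_le_comap]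
    intro u hu'
    show φ (algebraMap _ L u) ∈ mB
    rw [hφ]; exact hu'
  haveI : Module.Flat A L := Module.Flat.trans A (MvPolynomial Y A) L
  obtain ⟨r, y, hyreg, hyfl, hymax⟩ := exists_regular_sequence Y qq hqm
  haveI := hyfl
  let F : Ideal L := Ideal.span (Set.range y)
  let sL : Fin n → L := fun i => algebraMap _ L (s i)
  have hsL : ∑ i, a i • sL i ∈ F ^ e ⊔ ((maximalIdeal A) ^ e).map (algebraMap A L) := by
    rw [Ideal.map_pow]
    refine Ideal.sup_pow_add_le_pow_sup_pow ?_
    rw [← hymax, ← IsLocalization.AtPrime.map_eq_maximalIdeal qq L, ← Ideal.map_pow]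
    have h1 := Ideal.mem_map_of_mem (algebraMap _ L) hsq
    simpa only [map_sum, sL, Algebra.smul_def, map_mul, ← IsScalarTower.algebraMap_apply] using h1
  obtain ⟨f, hf, g, hg, hfg⟩ := Submodule.mem_sup.1 hsL
  haveI hflj : Module.Flat A (L ⧸ F ^ e) := by
    refine Module.Flat.of_forall_isTrivialRelation fun {l a' x'} hx' => ?_
    choose w hw using fun i => Ideal.Quotient.mkₐ_surjective A (F ^ e) (x' i)
    have h1 : ∑ i, a' i • w i ∈ F ^ e := Ideal.Quotient.eq_zero_iff_mem.1 (by
      show Ideal.Quotient.mkₐ A (F ^ e) _ = 0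
      simp only [map_sum, map_smul, hw, hx'])
    obtain ⟨f', hf', hfs'⟩ := exists_mem_pow_of_flat y hyreg a' e w h1
    obtain ⟨k, α, z, hz, hα⟩ := Module.Flat.isTrivialRelation_of_sum_smul_eq_zero (f := a') (x := fun i => w i - f' i) (by
      simp only [smul_sub, Finset.sum_sub_distrib, hfs', sub_self])
    refine ⟨k, α, fun j => Ideal.Quotient.mkₐ A (F ^ e) (z j), fun i => ?_, hα⟩
    have h2 : Ideal.Quotient.mkₐ A (F ^ e) (f' i) = 0 := Ideal.Quotient.eq_zero_iff_mem.2 (hf' i)
    rw [← hw i, ← sub_zero (Ideal.Quotient.mkₐ A (F ^ e) (w i)), ← h2, ← map_sub, show w i - f' i = _ from hz i, map_sum]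
    simp only [map_smul]
  let M := L ⧸ F ^ e
  have hM : ∑ i, a i • Ideal.Quotient.mkₐ A (F ^ e) (sL i) ∈ ((maximalIdeal A) ^ e) • (⊤ : Submodule A M) := by
    refine (Ideal.smul_top_eq_map (R := A) (S := M) _).ge ?_
    show _ ∈ ((maximalIdeal A) ^ e).map (algebraMap A M)
    simp only [← map_smul, ← map_sum, ← hfg, map_add]
    rw [show Ideal.Quotient.mkₐ A (F ^ e) f = 0 from Ideal.Quotient.eq_zero_iff_mem.2 hf, zero_add,
      IsScalarTower.algebraMap_eq A L M, ← Ideal.map_map]
    exact Ideal.mem_map_of_mem (algebraMap L M) hg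
  have hspan : Ideal.span (Set.range a) = I := ha
  obtain ⟨t, ht, hts⟩ := exists_eq_of_mem_smul (T := (maximalIdeal A) ^ l) a _ (fun r hr hr' => by
    have h1 : r ∈ ((maximalIdeal A) ^ e • ⊤ : Submodule A A) ⊓ (I : Submodule A A) :=
      ⟨by simpa using hr, hspan ▸ hr'⟩
    rw [hc0 e (Nat.le_add_left c0 l), Nat.add_sub_cancel] at h1
    rw [hspan]
    exact Submodule.smul_mono le_rfl inf_le_right h1) hM
  have hlift : ∀ i, ∃ T, T ∈ ((maximalIdeal A) ^ l).map (algebraMap A L) ∧ Ideal.Quotient.mkₐ A (F ^ e) T = t i := fun i => by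
    have h1 := ht i
    replace h1 : t i ∈ ((maximalIdeal A) ^ l).map (algebraMap A M) := (Ideal.smul_top_eq_map (R := A) (S := M) _).le h1
    rw [IsScalarTower.algebraMap_eq A L M, ← Ideal.map_map] at h1
    exact (Ideal.mem_map_iff_of_surjective _ Ideal.Quotient.mk_surjective).1 h1
  choose t' ht' htt using hlift
  have hF : ∑ i, a i • (sL i - t' i) ∈ F ^ e := Ideal.Quotient.eq_zero_iff_mem.1 (by
    show Ideal.Quotient.mkₐ A (F ^ e) _ = 0
    simp only [map_sum, map_smul, map_sub, htt, smul_sub, Finset.sum_sub_distrib, hts, sub_self])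
  obtain ⟨w, hw, hws⟩ := exists_mem_pow_of_flat y hyreg a e _ hF
  obtain ⟨k, α, z, hz, hα⟩ := Module.Flat.isTrivialRelation_of_sum_smul_eq_zero (f := a) (x := fun i => sL i - t' i - w i) (by
    simp only [smul_sub, Finset.sum_sub_distrib] at hws ⊢
    rw [hws, sub_self])
  have hzero : ∑ i, φ (sL i - t' i - w i) ⊗ₜ[A] a' i = 0 := by
    simp only [hz, map_sum, map_smul, TensorProduct.sum_tmul, TensorProduct.smul_tmul]
    rw [Finset.sum_comm]
    refine Finset.sum_eq_zero fun j _ => ?_
    rw [← TensorProduct.tmul_sum, show ∑ i, α i j • a' i = 0 from Subtype.ext (by simpa [a', mul_comm] using hα j), TensorProduct.tmul_zero]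
  have hdiff : ∀ i, b i - φ (sL i - t' i - w i) ∈ mB ^ l := fun i => by
    have hφp : maximalIdeal L ^ l ≤ (mB ^ l).comap φ := (Ideal.pow_right_mono hφm l).trans (Ideal.le_comap_pow φ l)
    have h1 : t' i ∈ maximalIdeal L ^ l := by
      refine Ideal.pow_right_mono ?_ l (Ideal.map_pow (algebraMap A L) _ l ▸ ht' i)
      rw [hymax]; exact le_sup_right
    have h2 : w i ∈ maximalIdeal L ^ l := by
      refine Ideal.pow_le_pow_right (Nat.le_add_right l c0) (Ideal.pow_right_mono ?_ e (hw i))
      rw [hymax]; exact le_sup_left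
    have h3 : φ (sL i) = π0 (p i) := by rw [hφ, ← hs i]; rfl
    have h4 : π0 (p i) - b i ∈ mB ^ l := Ideal.pow_le_pow_right ((Nat.le_add_right l c0).trans (Nat.le_add_right e e)) (hpb i)
    rw [show b i - φ (sL i - t' i - w i) = -(π0 (p i) - b i) + (φ (t' i) + φ (w i)) by rw [map_sub, map_sub, h3]; ring]
    exact add_mem (neg_mem h4) (add_mem (hφp h1) (hφp h2))
  have hx' : ∑ i, b i ⊗ₜ[A] a' i = ∑ i, (b i - φ (sL i - t' i - w i)) • ((1 : B) ⊗ₜ[A] a' i) := by
    simp only [TensorProduct.smul_tmul', smul_eq_mul, mul_one, TensorProduct.sub_tmul, Finset.sum_sub_distrib, hzero, sub_zero]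
  rw [hx']
  exact sum_mem fun i _ => Submodule.smul_mem_smul (hdiff i) trivial

end Groth.Agent.H2AdicFSFlat
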