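import Mathlib
import Groth.Prelude.Def_Found
import Groth.Prelude.Def_CAlgX
import Groth.Agent.Lib.H2AdicFSFlat
set_option autoImplicit false

/-! Adic formal smoothness of flat local homomorphisms is decided on the closed fibre. -/
namespace Groth.Agent.H2AdicFSFibre
open IsLocalRing
set_option backward.isDefEq.respectTransparency.types false
universe u

section
variable {A B k T : Type u} [CommRing A] [CommRing B] [IsLocalRing A] [IsLocalRing B] [IsNoetherianRing A] [IsNoetherianRing B]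
  [Algebra A B] [IsLocalHom (algebraMap A B)] [CommRing k] [CommRing T] [Algebra A k] [Algebra k T] [Algebra A T]
  [IsScalarTower A k T] (π : B →ₐ[A] T) (hπ : Function.Surjective π)
  (hker : RingHom.ker π.toRingHom = (maximalIdeal A).map (algebraMap A B))
  (hk : Function.Surjective (algebraMap A k)) (hkk : RingHom.ker (algebraMap A k) = maximalIdeal A)

include hπ hker hk hkk in
theorem adicFS_fibre (h : CAlgX.IsAdicFormallySmooth A B (maximalIdeal B)) :
    CAlgX.IsAdicFormallySmooth k T ((maximalIdeal B).map π.toRingHom) := by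
  intro C _ _ J hJ ψ ⟨n, hn⟩
  letI : Algebra A C := ((algebraMap k C).comp (algebraMap A k)).toAlgebra
  haveI : IsScalarTower A k C := IsScalarTower.of_algebraMap_eq' rfl
  obtain ⟨v, hv⟩ := h C J hJ ((ψ.restrictScalars A).comp π) ⟨n, fun x hx => hn _ (by
    rw [← Ideal.map_pow]; exact Ideal.mem_map_of_mem π.toRingHom hx)⟩
  have hle : RingHom.ker π.toRingHom ≤ RingHom.ker v.toRingHom := by
    rw [hker, Ideal.map_le_iff_le_comap]
    intro a ha
    show v (algebraMap A B a) = 0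
    rw [v.commutes, show algebraMap A C a = algebraMap k C (algebraMap A k a) from rfl,
      RingHom.mem_ker.1 (hkk.ge ha), map_zero]
  let w : T →+* C := π.toRingHom.liftOfSurjective hπ ⟨v.toRingHom, hle⟩
  have hw : ∀ b, w (π b) = v b := fun b => RingHom.liftOfRightInverse_comp_apply _ _ _ ⟨v.toRingHom, hle⟩ b
  refine ⟨{ w with commutes' := fun r => ?_ }, AlgHom.ext fun t => ?_⟩
  · obtain ⟨a, rfl⟩ := hk r
    show w (algebraMap k T (algebraMap A k a)) = algebraMap k C (algebraMap A k a)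
    rw [← IsScalarTower.algebraMap_apply, ← π.commutes, hw, v.commutes]
    rfl
  · obtain ⟨b, rfl⟩ := hπ t
    show Ideal.Quotient.mk J (w (π b)) = ψ (π b)
    rw [hw]
    exact AlgHom.congr_fun hv b

include hπ hker hk hkk in
set_option maxHeartbeats 2000000 in
set_option synthInstance.maxHeartbeats 200000 in
/-- Lifting along an ideal killed by the maximal ideal. -/
theorem exists_lift_killed [Module.Flat A B] (h : CAlgX.IsAdicFormallySmooth k T ((maximalIdeal B).map π.toRingHom))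
    (C : Type u) [CommRing C] [Algebra A C] (J : Ideal C) (hJ : J ^ 2 = ⊥)
    (hmJ : ∀ μ ∈ maximalIdeal A, ∀ j ∈ J, algebraMap A C μ * j = 0)
    (ψ : B →ₐ[A] C ⧸ J) (hψ : ∃ n : ℕ, ∀ x ∈ maximalIdeal B ^ n, ψ x = 0) :
    ∃ v : B →ₐ[A] C, (Ideal.Quotient.mkₐ A J).comp v = ψ := by
  classical
  obtain ⟨n, hn⟩ := hψ
  obtain ⟨r, μ, hμ⟩ := Submodule.fg_iff_exists_fin_generating_family.1 (IsNoetherian.noetherian (maximalIdeal A))
  have hμm : ∀ i, μ i ∈ maximalIdeal A := fun i => hμ.le (Submodule.subset_span ⟨i, rfl⟩)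
  let mB := maximalIdeal B
  obtain ⟨c, hc⟩ := Ideal.exists_pow_inf_eq_pow_smul mB ((maximalIdeal A).map (algebraMap A B) : Submodule B B)
  let N := n + c
  have hspan : ∀ {R : Type u} [CommRing R] [Algebra A R], (maximalIdeal A).map (algebraMap A R) = Ideal.span (Set.range fun i => algebraMap A R (μ i)) :=
    fun {R} _ _ => by
      rw [← hμ]
      show (Ideal.span (Set.range μ)).map _ = _
      rw [Ideal.map_span, ← Set.range_comp]
      rfl
  let ψN : B ⧸ mB ^ N →ₐ[A] C ⧸ J := Ideal.Quotient.liftₐ (mB ^ N) ψ fun x hx => hn x (Ideal.pow_le_pow_right (Nat.le_add_right n c) hx)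
  let C' : Subalgebra A (C × (B ⧸ mB ^ N)) :=
    AlgHom.equalizer ((Ideal.Quotient.mkₐ A J).comp (AlgHom.fst A C (B ⧸ mB ^ N))) (ψN.comp (AlgHom.snd A C (B ⧸ mB ^ N)))
  have hmem : ∀ (x : C) (b : B), (x, Ideal.Quotient.mk (mB ^ N) b) ∈ C' ↔ Ideal.Quotient.mk J x = ψ b := fun x b => Iff.rfl
  have hlift : ∀ b : B, ∃ x : C, (x, Ideal.Quotient.mk (mB ^ N) b) ∈ C' := fun b => by
    obtain ⟨x, hx⟩ := Ideal.Quotient.mk_surjective (ψ b)
    exact ⟨x, (hmem x b).2 hx⟩
  let Im : Ideal C' := (maximalIdeal A).map (algebraMap A C')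
  have hinj : ∀ x : C', x.1.1 ∈ J → x.1.2 = 0 → x ∈ Im → x.1.1 = 0 := by
    intro x hxJ hx2 hx
    rw [show Im = _ from hspan, Ideal.mem_span_range_iff_exists_fun] at hx
    obtain ⟨e, he⟩ := hx
    choose b hb using fun i => Ideal.Quotient.mk_surjective (e i).1.2
    have hsum : ∑ i, μ i • b i ∈ mB ^ N := by
      rw [← Ideal.Quotient.eq_zero_iff_mem, ← hx2, ← he, map_sum, AddSubmonoidClass.coe_finsetSum, Prod.snd_sum]
      refine Finset.sum_congr rfl fun i _ => ?_
      rw [Algebra.smul_def, map_mul, hb]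
      exact mul_comm _ _
    have hsum2 : ∑ i, μ i • b i ∈ mB ^ n • ((maximalIdeal A).map (algebraMap A B) : Submodule B B) := by
      have h1 : ∑ i, μ i • b i ∈ ((mB ^ N • ⊤ : Submodule B B) ⊓ ((maximalIdeal A).map (algebraMap A B) : Submodule B B)) :=
        ⟨by simpa using hsum, sum_mem fun i _ => by
          rw [Algebra.smul_def]; exact Ideal.mul_mem_right _ _ (Ideal.mem_map_of_mem _ (hμm i))⟩
      rw [hc N (Nat.le_add_left c n), show N - c = n from Nat.add_sub_cancel n c] at h1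
      exact Submodule.smul_mono le_rfl inf_le_right h1
    rw [show ((maximalIdeal A).map (algebraMap A B)) = _ from hspan] at hsum2
    obtain ⟨β, hβ, hβs⟩ := (Submodule.mem_ideal_smul_span_iff_exists_sum (mB ^ n) (fun i => algebraMap A B (μ i)) _).1 hsum2
    obtain ⟨l, α, z, hz, hα⟩ := Module.Flat.isTrivialRelation_of_sum_smul_eq_zero (f := μ) (x := fun i => b i - β i) (by
      simp only [smul_sub, Finset.sum_sub_distrib]
      rw [sub_eq_zero, ← hβs, Finsupp.sum_fintype _ _ (fun i => by simp)]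
      exact Finset.sum_congr rfl fun i _ => by rw [smul_eq_mul, Algebra.smul_def, mul_comm])
    choose z' hz' using fun j => hlift (z j)
    have hdiff : ∀ i, (e i).1.1 - ∑ j, α i j • z' j ∈ J := fun i => by
      rw [← Ideal.Quotient.eq_zero_iff_mem, map_sub, sub_eq_zero, ← Ideal.Quotient.mkₐ_eq_mk A, map_sum]
      have h1 : Ideal.Quotient.mk J (e i).1.1 = ψ (b i) := (hmem _ _).1 (by rw [hb]; exact (e i).2)
      refine h1.trans ?_
      rw [show ψ (b i) = ψ (b i - β i) by rw [map_sub, hn _ (hβ i), sub_zero]]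
      rw [show b i - β i = _ from hz i, map_sum]
      exact Finset.sum_congr rfl fun j _ => by rw [map_smul, map_smul, ← (hmem _ _).1 (hz' j), Ideal.Quotient.mkₐ_eq_mk]
    have hfst : x.1.1 = ∑ i, μ i • (e i).1.1 := by
      rw [← he, AddSubmonoidClass.coe_finsetSum, Prod.fst_sum]
      exact Finset.sum_congr rfl fun i _ => (mul_comm _ _).trans (Algebra.smul_def _ _).symm
    calc x.1.1 = ∑ i, μ i • (∑ j, α i j • z' j) := by
          rw [hfst]
          refine Finset.sum_congr rfl fun i _ => ?_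
          rw [← sub_eq_zero, ← smul_sub, Algebra.smul_def]
          exact hmJ _ (hμm i) _ (hdiff i)
      _ = 0 := by
          simp only [Finset.smul_sum, smul_smul]
          rw [Finset.sum_comm]
          exact Finset.sum_eq_zero fun j _ => by rw [← Finset.sum_smul, hα j, zero_smul]
  let D := C' ⧸ Im
  letI : CommRing D := Ideal.Quotient.commRing Im
  have hDk : RingHom.ker (algebraMap A k) ≤ RingHom.ker (algebraMap A D) := by
    intro a ha
    rw [RingHom.mem_ker, IsScalarTower.algebraMap_apply A C' D]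
    exact Ideal.Quotient.eq_zero_iff_mem.2 (Ideal.mem_map_of_mem _ (hkk.le ha))
  let jD : k →+* D := (algebraMap A k).liftOfSurjective hk ⟨algebraMap A D, hDk⟩
  letI : Algebra k D := RingHom.toAlgebra (R := k) (S := D) jD
  have hjD : ∀ a, algebraMap k D (algebraMap A k a) = algebraMap A D a := fun a =>
    RingHom.liftOfRightInverse_comp_apply _ _ _ ⟨algebraMap A D, hDk⟩ a
  let 𝔫 : Ideal T := mB.map π.toRingHom
  let TN := T ⧸ 𝔫 ^ N
  let πN : B ⧸ mB ^ N →ₐ[A] TN := Ideal.Quotient.liftₐ (mB ^ N) ((Ideal.Quotient.mkₐ A (𝔫 ^ N)).comp π) fun x hx =>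
    Ideal.Quotient.eq_zero_iff_mem.2 (by rw [← Ideal.map_pow]; exact Ideal.mem_map_of_mem π.toRingHom hx)
  let g0 : D →ₐ[A] TN := Ideal.Quotient.liftₐ Im (πN.comp ((AlgHom.snd A C _).comp C'.val)) (by
    show Im ≤ RingHom.ker (πN.comp ((AlgHom.snd A C _).comp C'.val)).toRingHom
    rw [Ideal.map_le_iff_le_comap]
    intro a ha
    show (πN.comp ((AlgHom.snd A C _).comp C'.val)) (algebraMap A C' a) = 0
    rw [AlgHom.commutes, IsScalarTower.algebraMap_apply A k TN, RingHom.mem_ker.1 (hkk.ge ha), map_zero])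
  let g : D →ₐ[k] TN :=
    { g0.toRingHom with
      commutes' := fun r => by
        obtain ⟨a, rfl⟩ := hk r
        show g0 (algebraMap k D _) = _
        rw [hjD, g0.commutes, ← IsScalarTower.algebraMap_apply] }
  have hg : ∀ (x : C) (b : B) (hx : (x, Ideal.Quotient.mk (mB ^ N) b) ∈ C'),
      g (Ideal.Quotient.mk Im ⟨_, hx⟩) = Ideal.Quotient.mk (𝔫 ^ N) (π b) := fun x b hx => rfl
  have hgs : Function.Surjective g := fun y => by
    obtain ⟨t, rfl⟩ := Ideal.Quotient.mk_surjective y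
    obtain ⟨b, rfl⟩ := hπ t
    obtain ⟨x, hx⟩ := hlift b
    exact ⟨_, hg x b hx⟩
  have hkerg : ∀ d : D, g d = 0 → ∃ j : C', j.1.1 ∈ J ∧ j.1.2 = 0 ∧ Ideal.Quotient.mk Im j = d := by
    intro d hd
    obtain ⟨⟨⟨x, y⟩, hxy⟩, rfl⟩ := Ideal.Quotient.mk_surjective d
    obtain ⟨b, rfl⟩ := Ideal.Quotient.mk_surjective y
    rw [hg x b hxy, Ideal.Quotient.eq_zero_iff_mem, ← Ideal.map_pow, Ideal.mem_map_iff_of_surjective π.toRingHom hπ] at hd
    obtain ⟨b1, hb1, hb2⟩ := hd
    have hb3 : b - b1 ∈ (maximalIdeal A).map (algebraMap A B) := by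
      rw [← hker, RingHom.mem_ker, map_sub, hb2]; exact sub_self _
    rw [hspan, Ideal.mem_span_range_iff_exists_fun] at hb3
    obtain ⟨β, hβ⟩ := hb3
    choose z hz using fun i => hlift (β i)
    refine ⟨⟨(x, Ideal.Quotient.mk (mB ^ N) b), hxy⟩ - ∑ i, (⟨_, hz i⟩ : C') * algebraMap A C' (μ i), ?_, ?_, ?_⟩
    · rw [AddSubgroupClass.coe_sub, AddSubmonoidClass.coe_finsetSum, Prod.fst_sub, Prod.fst_sum, ← Ideal.Quotient.eq_zero_iff_mem,
        map_sub, sub_eq_zero]
      refine ((hmem x b).1 hxy).trans ?_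
      rw [show b = b1 + ∑ i, β i * algebraMap A B (μ i) by rw [hβ]; ring, map_add,
        hn b1 (Ideal.pow_le_pow_right (Nat.le_add_right n c) hb1), zero_add, map_sum, map_sum]
      refine Finset.sum_congr rfl fun i _ => ?_
      rw [map_mul, ψ.commutes, ← (hmem _ _).1 (hz i)]
      exact (map_mul (Ideal.Quotient.mk J) _ _).symm
    · rw [AddSubgroupClass.coe_sub, AddSubmonoidClass.coe_finsetSum, Prod.snd_sub, Prod.snd_sum]
      show Ideal.Quotient.mk (mB ^ N) b - ∑ i, Ideal.Quotient.mk (mB ^ N) (β i) * algebraMap A (B ⧸ mB ^ N) (μ i) = 0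
      have h1 : ∀ i, algebraMap A (B ⧸ mB ^ N) (μ i) = Ideal.Quotient.mk (mB ^ N) (algebraMap A B (μ i)) := fun i => rfl
      simp only [h1, ← map_mul, ← map_sum, ← map_sub, hβ, sub_sub_cancel]
      exact Ideal.Quotient.eq_zero_iff_mem.2 hb1
    · rw [map_sub, sub_eq_self, map_sum]
      exact Finset.sum_eq_zero fun i _ => Ideal.Quotient.eq_zero_iff_mem.2 (Ideal.mul_mem_left _ _ (Ideal.mem_map_of_mem _ (hμm i)))
  have hsq : RingHom.ker g.toRingHom ^ 2 = ⊥ := by
    rw [eq_bot_iff, pow_two (RingHom.ker g.toRingHom), Ideal.mul_le]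
    intro d hd d' hd'
    obtain ⟨j, hj, hj2, rfl⟩ := hkerg d hd
    obtain ⟨j', hj', -, rfl⟩ := hkerg d' hd'
    have : j * j' = 0 := Subtype.ext (Prod.ext (by
      show j.1.1 * j'.1.1 = 0
      exact (Ideal.mem_bot (R := C)).1 (hJ ▸ (pow_two J ▸ Ideal.mul_mem_mul hj hj'))) (by
      show j.1.2 * j'.1.2 = 0
      rw [hj2, zero_mul]))
    rw [Submodule.mem_bot, ← map_mul, this, map_zero]
  let eq := Ideal.quotientKerAlgEquivOfSurjective hgs
  obtain ⟨s, hs⟩ := h D (RingHom.ker g.toRingHom) hsq (eq.symm.toAlgHom.comp (Ideal.Quotient.mkₐ k (𝔫 ^ N))) ⟨N, fun x hx => by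
    show eq.symm (Ideal.Quotient.mk (𝔫 ^ N) x) = 0
    rw [Ideal.Quotient.eq_zero_iff_mem.2 hx, map_zero]⟩
  have hgsT : ∀ t, g (s t) = Ideal.Quotient.mk (𝔫 ^ N) t := fun t => by
    have h1 := congrArg eq (AlgHom.congr_fun hs t)
    exact h1.trans (eq.apply_symm_apply _)
  let P : B → C → Prop := fun b x => ∃ hx : (x, Ideal.Quotient.mk (mB ^ N) b) ∈ C', Ideal.Quotient.mk Im ⟨_, hx⟩ = s (π b)
  have hex : ∀ b, ∃ x, P b x := by
    intro b
    obtain ⟨x, hx⟩ := hlift b
    obtain ⟨j, hj, hj2, hjd⟩ := hkerg (s (π b) - Ideal.Quotient.mk Im ⟨_, hx⟩) (by rw [map_sub, hgsT, hg x b hx, sub_self])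
    have h1 : (⟨_, hx⟩ + j : C').1 = (x + j.1.1, Ideal.Quotient.mk (mB ^ N) b) := Prod.ext rfl (by
      show _ + j.1.2 = _
      rw [hj2, add_zero])
    refine ⟨x + j.1.1, h1 ▸ (⟨_, hx⟩ + j : C').2, ?_⟩
    refine (congrArg (Ideal.Quotient.mk Im) (Subtype.ext h1.symm)).trans ?_
    rw [map_add, hjd]
    exact add_sub_cancel _ _
  have huniq : ∀ b x x', P b x → P b x' → x = x' := by
    rintro b x x' ⟨hx, hxs⟩ ⟨hx', hxs'⟩
    refine sub_eq_zero.1 (hinj (⟨_, hx⟩ - ⟨_, hx'⟩) ?_ (sub_self _) (Ideal.Quotient.eq.1 (hxs.trans hxs'.symm)))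
    show x - x' ∈ J
    rw [← Ideal.Quotient.eq, (hmem x b).1 hx, (hmem x' b).1 hx']
  choose v hv using hex
  have hadd : ∀ b b', v (b + b') = v b + v b' := fun b b' => by
    obtain ⟨h1, h1'⟩ := hv b
    obtain ⟨h2, h2'⟩ := hv b'
    exact huniq _ _ _ (hv (b + b')) ⟨by simpa only [map_add, Prod.mk_add_mk] using add_mem h1 h2, by
      rw [map_add π, map_add s, ← h1', ← h2', ← map_add (Ideal.Quotient.mk Im)]
      exact congrArg _ (Subtype.ext (Prod.ext rfl (map_add _ b b')))⟩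
  have hmul : ∀ b b', v (b * b') = v b * v b' := fun b b' => by
    obtain ⟨h1, h1'⟩ := hv b
    obtain ⟨h2, h2'⟩ := hv b'
    exact huniq _ _ _ (hv (b * b')) ⟨by simpa only [map_mul, Prod.mk_mul_mk] using mul_mem h1 h2, by
      rw [map_mul π, map_mul s, ← h1', ← h2', ← map_mul (Ideal.Quotient.mk Im)]
      exact congrArg _ (Subtype.ext (Prod.ext rfl (map_mul _ b b')))⟩
  have hcomm : ∀ a, v (algebraMap A B a) = algebraMap A C a := fun a =>
    huniq _ _ _ (hv _) ⟨C'.algebraMap_mem a, by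
      rw [π.commutes, IsScalarTower.algebraMap_apply A k T, s.commutes, hjD]; rfl⟩
  refine ⟨{ toFun := v, map_one' := by simpa using hcomm 1, map_mul' := hmul, map_zero' := by simpa using hcomm 0,
            map_add' := hadd, commutes' := hcomm }, AlgHom.ext fun b => ?_⟩
  obtain ⟨h1, -⟩ := hv b
  exact (hmem _ _).1 h1

include hπ hker hk hkk in
/-- Flat with adically formally smooth closed fibre implies adically formally smooth. -/
theorem adicFS_of_flat [Module.Flat A B] (h : CAlgX.IsAdicFormallySmooth k T ((maximalIdeal B).map π.toRingHom)) :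
    CAlgX.IsAdicFormallySmooth A B (maximalIdeal B) := by
  intro C _ _ J hJ ψ ⟨n, hn⟩
  suffices key : ∀ e (J : Ideal C), J ^ 2 = ⊥ → (∀ μ ∈ (maximalIdeal A) ^ e, ∀ j ∈ J, algebraMap A C μ * j = 0) →
      ∀ ψ : B →ₐ[A] C ⧸ J, (∃ n : ℕ, ∀ x ∈ maximalIdeal B ^ n, ψ x = 0) → ∃ v : B →ₐ[A] C, (Ideal.Quotient.mkₐ A J).comp v = ψ by
    refine key n J hJ (fun μ hμ j hj => ?_) ψ ⟨n, hn⟩
    have h1 : algebraMap A C μ ∈ J := by
      rw [← Ideal.Quotient.eq_zero_iff_mem]
      show algebraMap A (C ⧸ J) μ = 0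
      rw [← ψ.commutes]
      refine hn _ (Ideal.pow_right_mono ?_ n (Ideal.map_pow (algebraMap A B) (maximalIdeal A) n ▸ Ideal.mem_map_of_mem _ hμ))
      rw [Ideal.map_le_iff_le_comap]
      exact fun a ha => (mem_maximalIdeal _).2 fun h => (mem_maximalIdeal a).1 ha (isUnit_of_map_unit (algebraMap A B) a h)
    exact (Ideal.mem_bot (R := C)).1 (hJ ▸ (pow_two J ▸ Ideal.mul_mem_mul h1 hj))
  clear hn hJ
  intro e
  clear ψ J
  induction e with
  | zero =>
    intro J hJ hkill ψ _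
    have hJ0 : J = ⊥ := (eq_bot_iff).2 fun j hj => by
      simpa using hkill 1 (by rw [pow_zero, Ideal.one_eq_top]; trivial) j hj
    let eq : (C ⧸ J) ≃ₐ[A] C := (Ideal.quotientEquivAlgOfEq A hJ0).trans (AlgEquiv.quotientBot A C)
    refine ⟨eq.toAlgHom.comp ψ, AlgHom.ext fun b => ?_⟩
    obtain ⟨x, hx⟩ := Ideal.Quotient.mk_surjective (ψ b)
    show Ideal.Quotient.mk J (eq (ψ b)) = ψ b
    rw [← hx]
    rfl
  | succ e ih =>
    intro J hJ hkill ψ ⟨n, hn⟩
    let K : Ideal C := (maximalIdeal A).map (algebraMap A C) * J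
    have hKJ : K ≤ J := Ideal.mul_le_right
    let q : C ⧸ K →ₐ[A] C ⧸ J := Ideal.Quotient.factorₐ A hKJ
    let J1 : Ideal (C ⧸ K) := J.map (Ideal.Quotient.mkₐ A K)
    let eq : ((C ⧸ K) ⧸ J1) ≃ₐ[A] C ⧸ J := DoubleQuot.quotQuotEquivQuotOfLEₐ A hKJ
    have hJ1 : J1 ^ 2 = ⊥ := by rw [← Ideal.map_pow, hJ, Ideal.map_bot]
    obtain ⟨w, hw⟩ := exists_lift_killed π hπ hker hk hkk h (C ⧸ K) J1 hJ1 (fun μ hμ j hj => by
      obtain ⟨j', hj', rfl⟩ := (Ideal.mem_map_iff_of_surjective _ (Ideal.Quotient.mkₐ_surjective A K)).1 hj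
      rw [IsScalarTower.algebraMap_apply A C (C ⧸ K)]
      exact (map_mul (Ideal.Quotient.mk K) _ _).symm.trans (Ideal.Quotient.eq_zero_iff_mem.2 (Ideal.mul_mem_mul (Ideal.mem_map_of_mem _ hμ) hj')))
      (eq.symm.toAlgHom.comp ψ) ⟨n, fun x hx => by show eq.symm (ψ x) = 0; rw [hn x hx, map_zero]⟩
    have hw' : ∀ b, q (w b) = ψ b := fun b => by
      have h1 := congrArg eq (AlgHom.congr_fun hw b)
      rw [AlgHom.comp_apply, AlgHom.comp_apply, AlgEquiv.coe_toAlgHom, AlgEquiv.apply_symm_apply] at h1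
      obtain ⟨x, hx⟩ := Ideal.Quotient.mk_surjective (w b)
      rw [← hx] at h1 ⊢
      exact h1
    have hK2 : K ^ 2 = ⊥ := le_bot_iff.1 (hJ ▸ Ideal.pow_right_mono hKJ 2)
    have hwc : ∀ x ∈ maximalIdeal B ^ (n * 2), w x = 0 := by
      intro x hx
      have hle : (maximalIdeal B ^ n).map w.toRingHom ≤ J1 := by
        rw [Ideal.map_le_iff_le_comap]
        intro y hy
        obtain ⟨c, hc⟩ := Ideal.Quotient.mk_surjective (w y)
        show w y ∈ J1
        rw [← hc]
        refine Ideal.mem_map_of_mem (Ideal.Quotient.mkₐ A K) (Ideal.Quotient.eq_zero_iff_mem.1 ?_)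
        have := hw' y
        rw [← hc, hn y hy] at this
        exact this
      have h2 := Ideal.pow_right_mono hle 2
      rw [← Ideal.map_pow, ← pow_mul, hJ1] at h2
      exact (Ideal.mem_bot (R := C ⧸ K)).1 (h2 (Ideal.mem_map_of_mem w.toRingHom hx))
    obtain ⟨v, hv⟩ := ih K hK2 (fun μ hμ j hj => by
      refine Submodule.mul_induction_on hj (fun a ha j' hj' => ?_) (fun a b ha hb => by rw [mul_add, ha, hb, add_zero])
      rw [← mul_assoc]
      have h1 : algebraMap A C μ * a ∈ ((maximalIdeal A) ^ (e + 1)).map (algebraMap A C) := by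
        rw [pow_succ, Ideal.map_mul]; exact Ideal.mul_mem_mul (Ideal.mem_map_of_mem _ hμ) ha
      generalize algebraMap A C μ * a = z at h1
      refine Submodule.span_induction ?_ (zero_mul _) (fun x y _ _ hx hy => by rw [add_mul, hx, hy, add_zero])
        (fun r x _ hx => by rw [smul_eq_mul, mul_assoc, hx, mul_zero]) h1
      rintro _ ⟨μ', hμ', rfl⟩
      exact hkill μ' hμ' j' hj') w ⟨n * 2, hwc⟩
    refine ⟨v, AlgHom.ext fun b => ?_⟩
    rw [← hw' b, ← AlgHom.congr_fun hv b]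
    rfl

end

end Groth.Agent.H2AdicFSFibre

namespace Groth.Agent.H2AdicFSFibre
open IsLocalRing TensorProduct
universe u

theorem surjective_residueField {A : Type u} [CommRing A] [IsLocalRing A] :
    Function.Surjective (algebraMap A (maximalIdeal A).ResidueField) := fun z => by
  obtain ⟨y, rfl⟩ := (Ideal.bijective_algebraMap_quotient_residueField (maximalIdeal A)).2 z
  obtain ⟨x, rfl⟩ := Ideal.Quotient.mk_surjective y
  exact ⟨x, rfl⟩

theorem ker_includeRight {A B : Type u} [CommRing A] [CommRing B] [IsLocalRing A] [Algebra A B] :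
    RingHom.ker (Algebra.TensorProduct.includeRight : B →ₐ[A] (maximalIdeal A).Fiber B).toRingHom =
      (maximalIdeal A).map (algebraMap A B) := by
  refine le_antisymm (fun b hb => ?_) ?_
  · let κ := (maximalIdeal A).ResidueField
    let Q := B ⧸ (maximalIdeal A).map (algebraMap A B)
    have hle : RingHom.ker (algebraMap A κ) ≤ RingHom.ker (algebraMap A Q) := fun a ha => by
      rw [Ideal.ker_algebraMap_residueField] at ha
      rw [RingHom.mem_ker, IsScalarTower.algebraMap_apply A B Q]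
      exact Ideal.Quotient.eq_zero_iff_mem.2 (Ideal.mem_map_of_mem _ ha)
    let g0 : κ →+* Q := (algebraMap A κ).liftOfSurjective surjective_residueField ⟨algebraMap A Q, hle⟩
    let g : κ →ₐ[A] Q := { g0 with commutes' := fun a => RingHom.liftOfRightInverse_comp_apply _ _ _ ⟨algebraMap A Q, hle⟩ a }
    have h2 := congrArg (Algebra.TensorProduct.lift g (Ideal.Quotient.mkₐ A _) (fun _ _ => Commute.all _ _))
      (show (Algebra.TensorProduct.includeRight : B →ₐ[A] κ ⊗[A] B) b = 0 from hb)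
    rw [map_zero, Algebra.TensorProduct.includeRight_apply, Algebra.TensorProduct.lift_tmul, map_one, one_mul] at h2
    exact Ideal.Quotient.eq_zero_iff_mem.1 h2
  · rw [Ideal.map_le_iff_le_comap]
    intro a ha
    show (Algebra.TensorProduct.includeRight : B →ₐ[A] (maximalIdeal A).Fiber B) (algebraMap A B a) = 0
    rw [AlgHom.commutes, IsScalarTower.algebraMap_apply A (maximalIdeal A).ResidueField,
      Ideal.algebraMap_residueField_eq_zero.2 ha, map_zero]

end Groth.Agent.H2AdicFSFibre
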