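import Mathlib
set_option autoImplicit false

/-! Every field extension of a perfect field is formally smooth. -/
namespace Groth.Agent.H2PerfectSmooth
open MvPolynomial
set_option backward.isDefEq.respectTransparency.types false
universe u v

variable (K : Type u) (L : Type v) [Field K] [Field L] [Algebra K L]

theorem formallySmooth_of_forall_fg
    (hfs : ∀ F : IntermediateField K L, Algebra.EssFiniteType K F → Algebra.FormallySmooth K F) :
    Algebra.FormallySmooth K L := by
  refine ⟨inferInstance, ?_⟩
  show Subsingleton (Algebra.Generators.self K L).toExtension.H1Cotangent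
  let P := Algebra.Generators.self K L
  rw [Algebra.Extension.subsingleton_h1Cotangent, injective_iff_map_eq_zero]
  intro x hx
  obtain ⟨⟨p, hp⟩, rfl⟩ := Algebra.Extension.Cotangent.mk_surjective x
  rw [Algebra.Extension.Cotangent.mk_eq_zero_iff]
  have hd : ∀ i, aeval (id : L → L) (pderiv i p) = 0 := fun i => by
    have h := congrArg (fun z => P.cotangentSpaceBasis.repr z i) hx
    rw [Algebra.Extension.cotangentComplex_mk] at h
    simp only [map_zero, Finsupp.coe_zero, Pi.zero_apply] at h
    erw [Algebra.Generators.cotangentSpaceBasis_repr_one_tmul] at h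
    exact h
  have hp0 : aeval (id : L → L) p = 0 := by
    exact hp
  obtain ⟨s, q, rfl⟩ := exists_finset_rename p
  let F : IntermediateField K L := IntermediateField.adjoin K (s : Set L)
  haveI : Algebra.EssFiniteType K F := IntermediateField.essFiniteType_iff.2 (IntermediateField.fg_adjoin_finset s)
  have hsub : ∀ a : {x // x ∈ s}, (a : L) ∈ F := fun a => IntermediateField.subset_adjoin K _ a.2
  let g : {x // x ∈ s} → F := fun a => ⟨a, hsub a⟩
  have hg : Function.Injective g := fun a b h => Subtype.ext (congrArg (fun z : F => (z : L)) h)
  let q' : MvPolynomial F K := rename g q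
  have hq : rename ((↑) : {x // x ∈ s} → L) q = rename ((↑) : F → L) q' := (rename_rename g Subtype.val q).symm
  have hev : ∀ r : MvPolynomial F K, ((aeval (id : F → F) r : F) : L) = aeval (id : L → L) (rename ((↑) : F → L) r) := fun r => by
    rw [aeval_rename]
    exact MvPolynomial.comp_aeval_apply (id : F → F) F.val r
  let P' := Algebra.Generators.self K F
  have hq' : q' ∈ P'.toExtension.ker := by
    simp only [Algebra.Extension.ker, RingHom.mem_ker, Algebra.Generators.toExtension, Algebra.Generators.algebraMap_eq]
    exact Subtype.ext ((hev q').trans (hq ▸ hp0))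
  have h0 : P'.toExtension.cotangentComplex (Algebra.Extension.Cotangent.mk ⟨q', hq'⟩) = 0 := by
    rw [Algebra.Extension.cotangentComplex_mk]
    refine P'.cotangentSpaceBasis.ext_elem fun i => ?_
    erw [Algebra.Generators.cotangentSpaceBasis_repr_one_tmul]
    rw [map_zero, Finsupp.coe_zero, Pi.zero_apply]
    refine Subtype.ext ((hev (pderiv i q')).trans ?_)
    rw [← pderiv_rename Subtype.val_injective, ← hq]
    exact hd i.1
  haveI : Algebra.FormallySmooth K F := hfs F inferInstance
  have hinj : Function.Injective P'.toExtension.cotangentComplex :=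
    (Algebra.Extension.subsingleton_h1Cotangent _).1 Algebra.FormallySmooth.subsingleton_h1Cotangent
  have h2 := (Algebra.Extension.Cotangent.mk_eq_zero_iff _).1 ((injective_iff_map_eq_zero _).1 hinj _ h0)
  show rename ((↑) : {x // x ∈ s} → L) q ∈ _
  rw [hq]
  have hle : P'.toExtension.ker.map (rename ((↑) : F → L) : MvPolynomial F K →ₐ[K] MvPolynomial L K) ≤ P.toExtension.ker := by
    rw [Ideal.map_le_iff_le_comap]
    intro r hr
    simp only [Ideal.mem_comap, Algebra.Extension.ker, RingHom.mem_ker, Algebra.Generators.toExtension,
      Algebra.Generators.algebraMap_eq] at hr ⊢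
    exact (hev r).symm.trans (congrArg Subtype.val hr)
  refine Ideal.pow_right_mono hle 2 ?_
  rw [← Ideal.map_pow]
  exact Ideal.mem_map_of_mem _ h2

theorem formallySmooth [PerfectField K] : Algebra.FormallySmooth K L :=
  formallySmooth_of_forall_fg K L fun _ _ => inferInstance

end Groth.Agent.H2PerfectSmooth
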