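import Mathlib
import Groth.Agent.Lib.RegularLocalBasic
set_option autoImplicit false

/-! Power series rings: maps to complete rings, structure of complete regular local rings. -/
namespace Groth.Agent.H2PowerSeries
open MvPowerSeries IsLocalRing
set_option backward.isDefEq.respectTransparency.types false
universe u v w

section generic
variable {R : Type u} [CommRing R] {σ : Type v} [Finite σ]

theorem mem_span_X_pow {n : ℕ} {f : MvPowerSeries σ R} (h : ∀ x, Finsupp.degree x < n → coeff x f = 0) :
    f ∈ Ideal.span (Set.range (X : σ → MvPowerSeries σ R)) ^ n := by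
  let I := MvPolynomial.idealOfVars σ R
  have hz : truncTotal n f = 0 := MvPolynomial.ext _ _ fun x => by
    rw [coeff_truncTotal_eq_ite, MvPolynomial.coeff_zero]
    split_ifs with hx
    · exact h x hx
    · rfl
  have h1 : toAdicCompletionAlgEquiv σ R f ∈
      (I ^ n).map (algebraMap (MvPolynomial σ R) (AdicCompletion I (MvPolynomial σ R))) := by
    have h0 : toAdicCompletionAlgEquiv σ R f ∈ (AdicCompletion.eval I (MvPolynomial σ R) n).ker := by
      rw [LinearMap.mem_ker, toAdicCompletionAlgEquiv_apply, AdicCompletion.eval_apply,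
        toAdicCompletion_apply_eq_mk_truncTotal, hz]
      exact Submodule.Quotient.mk_zero _
    rwa [← AdicCompletion.pow_smul_top_eq_ker_eval (MvPolynomial.idealOfVars_fg σ R), Ideal.smul_top_eq_map,
      Submodule.restrictScalars_mem] at h0
  have h2 := Ideal.mem_map_of_mem (toAdicCompletionAlgEquiv σ R).symm.toAlgHom.toRingHom h1
  rw [Ideal.map_map] at h2
  have e : (toAdicCompletionAlgEquiv σ R).symm.toAlgHom.toRingHom.comp
      (algebraMap (MvPolynomial σ R) (AdicCompletion I (MvPolynomial σ R))) =
      algebraMap (MvPolynomial σ R) (MvPowerSeries σ R) := RingHom.ext fun p => (toAdicCompletionAlgEquiv σ R).symm.commutes p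
  rw [e, Ideal.map_pow] at h2
  have e2 : I.map (algebraMap (MvPolynomial σ R) (MvPowerSeries σ R)) = Ideal.span (Set.range X) := by
    change (Ideal.span _).map _ = _
    rw [Ideal.map_span, ← Set.range_comp]
    congr 2
    funext i
    exact MvPolynomial.coe_X i
  rw [e2] at h2
  have e3 : (toAdicCompletionAlgEquiv σ R).symm.toAlgHom.toRingHom (toAdicCompletionAlgEquiv σ R f) = f :=
    (toAdicCompletionAlgEquiv σ R).symm_apply_apply f
  rwa [e3] at h2

variable {A : Type w} [CommRing A] [Algebra R A]

/-- Evaluation at elements of `I` in an `I`-adically complete algebra. -/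
theorem exists_aeval (I : Ideal A) [IsAdicComplete I A] (a : σ → A) (ha : ∀ i, a i ∈ I) :
    ∃ φ : MvPowerSeries σ R →ₐ[R] A, (∀ i, φ (X i) = a i) ∧
      ∀ f n, φ f - MvPolynomial.aeval a (truncTotal n f) ∈ I ^ n := by
  let g (n : ℕ) : (MvPolynomial σ R ⧸ MvPolynomial.idealOfVars σ R ^ n) →ₐ[R] A ⧸ I ^ n :=
    Ideal.Quotient.liftₐ _ ((Ideal.Quotient.mkₐ R (I ^ n)).comp (MvPolynomial.aeval a)) fun q hq => by
      have hle : (MvPolynomial.idealOfVars σ R).map (MvPolynomial.aeval a : MvPolynomial σ R →ₐ[R] A) ≤ I := by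
        change (Ideal.span _).map _ ≤ _
        rw [Ideal.map_span, Ideal.span_le]
        rintro _ ⟨_, ⟨i, rfl⟩, rfl⟩
        rw [MvPolynomial.aeval_X]
        exact ha i
      refine Ideal.Quotient.eq_zero_iff_mem.2 (Ideal.pow_right_mono hle n ?_)
      rw [← Ideal.map_pow]
      exact Ideal.mem_map_of_mem _ hq
  let f (n : ℕ) : MvPowerSeries σ R →ₐ[R] A ⧸ I ^ n := (g n).comp ((truncTotalAlgHom σ R n).restrictScalars R)
  have hf (n : ℕ) (p : MvPowerSeries σ R) : f n p = Ideal.Quotient.mk (I ^ n) (MvPolynomial.aeval a (truncTotal n p)) := rfl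
  have hc : ∀ {m n : ℕ} (hle : m ≤ n),
      (Ideal.Quotient.factorₐ R (Ideal.pow_le_pow_right (I := I) hle)).comp (f n) = f m := fun {m n} hle =>
    AlgHom.ext fun p => ?_
  refine ⟨IsAdicComplete.liftAlgHom I f hc, ?_⟩
  swap
  · show Ideal.Quotient.factor (Ideal.pow_le_pow_right hle) (f n p) = f m p
    rw [hf, hf, Ideal.Quotient.factor_mk]
    have h := truncTotal_sub_truncTotal_mem_pow_idealOfVars (R := R) hle le_rfl p
    have h2 := (g m).congr_arg ((Ideal.Quotient.mk_eq_mk_iff_sub_mem _ _).2 h)
    exact h2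
  · have key : ∀ (p : MvPowerSeries σ R) (n : ℕ), IsAdicComplete.liftAlgHom I f hc p - MvPolynomial.aeval a (truncTotal n p) ∈ I ^ n :=
      fun p n => Ideal.Quotient.eq.1 ((IsAdicComplete.mk_liftAlgHom I f hc n p).trans (hf n p))
    refine ⟨fun i => sub_eq_zero.1 (IsHausdorff.haus' (I := I) _ fun n => ?_), key⟩
    rw [SModEq.zero, smul_eq_mul, Ideal.mul_top]
    have h := key (X i) (n + 2)
    rw [show truncTotal (n + 2) (X i : MvPowerSeries σ R) = MvPolynomial.X i from ?_, MvPolynomial.aeval_X] at h
    · exact Ideal.pow_le_pow_right (by omega) h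
    · refine MvPolynomial.ext _ _ fun x => ?_
      classical
      rw [coeff_truncTotal_eq_ite, coeff_X, MvPolynomial.coeff_X']
      by_cases hx : x = Finsupp.single i 1
      · subst hx
        simp
      · simp [hx, Ne.symm hx]

theorem ext_of_X (I : Ideal A) [IsHausdorff I A] {φ ψ : MvPowerSeries σ R →ₐ[R] A} (hI : ∀ i, φ (X i) ∈ I)
    (h : ∀ i, φ (X i) = ψ (X i)) : φ = ψ := by
  refine AlgHom.ext fun f => sub_eq_zero.1 (IsHausdorff.haus' (I := I) _ fun n => ?_)
  rw [SModEq.zero, smul_eq_mul, Ideal.mul_top]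
  let p : MvPolynomial σ R := truncTotal n f
  have hmem : f - (p : MvPowerSeries σ R) ∈ Ideal.span (Set.range (X : σ → MvPowerSeries σ R)) ^ n :=
    mem_span_X_pow fun x hx => by rw [map_sub, MvPolynomial.coeff_coe, coeff_truncTotal _ hx, sub_self]
  have hJ : ∀ χ : MvPowerSeries σ R →ₐ[R] A, (∀ i, χ (X i) ∈ I) → χ (f - (p : MvPowerSeries σ R)) ∈ I ^ n := by
    intro χ hχ
    have hle : (Ideal.span (Set.range (X : σ → MvPowerSeries σ R))).map χ ≤ I := by
      rw [Ideal.map_span, Ideal.span_le]
      rintro _ ⟨_, ⟨i, rfl⟩, rfl⟩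
      exact hχ i
    refine Ideal.pow_right_mono hle n ?_
    rw [← Ideal.map_pow]
    exact Ideal.mem_map_of_mem _ hmem
  have hp : φ (p : MvPowerSeries σ R) = ψ (p : MvPowerSeries σ R) := by
    have : φ.comp (MvPolynomial.coeToMvPowerSeries.algHom R) = ψ.comp (MvPolynomial.coeToMvPowerSeries.algHom R) :=
      MvPolynomial.algHom_ext fun i => by simpa using h i
    simpa using AlgHom.congr_fun this p
  have := sub_mem (hJ φ hI) (hJ ψ fun i => h i ▸ hI i)
  rwa [map_sub, map_sub, hp, sub_sub_sub_cancel_right] at this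

theorem surjective_of (I : Ideal A) [IsHausdorff I A] (φ : MvPowerSeries σ R →ₐ[R] A)
    (hgen : Ideal.span (Set.range fun i => φ (X i)) = I)
    (h : Function.Surjective fun r : R => Ideal.Quotient.mk I (algebraMap R A r)) : Function.Surjective φ := by
  have hmap : (Ideal.span (Set.range (X : σ → MvPowerSeries σ R))).map φ.toRingHom = I := by
    rw [Ideal.map_span, ← Set.range_comp]
    exact hgen
  subst hmap
  refine surjective_of_mk_map_comp_surjective (I := Ideal.span (Set.range (X : σ → MvPowerSeries σ R))) φ.toRingHom ?_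
  intro y
  obtain ⟨r, hr⟩ := h y
  exact ⟨C r, by rw [← hr]; exact congrArg _ (φ.commutes r)⟩

end generic

section field
variable (k : Type u) [Field k]

theorem le_ringKrullDim (d : ℕ) : (d : WithBot ℕ∞) ≤ ringKrullDim (MvPowerSeries (Fin d) k) := by
  induction d with
  | zero => exact ringKrullDim_nonneg_of_nontrivial
  | succ d ih =>
    rw [ringKrullDim_eq_of_ringEquiv (MvPowerSeries.finSuccEquiv k d).toRingEquiv, Nat.cast_add, Nat.cast_one]
    exact (add_le_add ih le_rfl).trans ringKrullDim_succ_le_ringKrullDim_powerseries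

theorem maximalIdeal_eq (d : ℕ) :
    maximalIdeal (MvPowerSeries (Fin d) k) = Ideal.span (Set.range (X : Fin d → MvPowerSeries (Fin d) k)) := by
  refine le_antisymm (fun f hf => ?_) ?_
  · have h0 : constantCoeff f = 0 := by
      by_contra h
      exact hf (MvPowerSeries.isUnit_iff_constantCoeff.2 (isUnit_iff_ne_zero.2 h))
    rw [← pow_one (Ideal.span _)]
    refine mem_span_X_pow fun x hx => ?_
    rw [(Finsupp.degree_eq_zero_iff x).1 (by omega), coeff_zero_eq_constantCoeff_apply, h0]
  · rw [Ideal.span_le]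
    rintro _ ⟨i, rfl⟩
    exact fun h => by simpa [MvPowerSeries.isUnit_iff_constantCoeff] using h

theorem regular (d : ℕ) : IsRegularLocalRing (MvPowerSeries (Fin d) k) ∧ ringKrullDim (MvPowerSeries (Fin d) k) = d := by
  have h1 : (maximalIdeal (MvPowerSeries (Fin d) k)).spanFinrank ≤ d := by
    rw [maximalIdeal_eq]
    refine (Submodule.spanFinrank_span_le_ncard_of_finite (Set.finite_range _)).trans ?_
    rw [← Set.image_univ]
    exact (Set.ncard_image_le).trans (by simp)
  have h2 : ((maximalIdeal (MvPowerSeries (Fin d) k)).spanFinrank : WithBot ℕ∞) ≤ d := by exact_mod_cast h1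
  exact ⟨IsRegularLocalRing.of_spanFinrank_maximalIdeal_le _ (h2.trans (le_ringKrullDim k d)),
    le_antisymm ((ringKrullDim_le_spanFinrank_maximalIdeal _).trans h2) (le_ringKrullDim k d)⟩

variable {k} {A : Type w} [CommRing A]

theorem injective_of_dim {d : ℕ} (φ : MvPowerSeries (Fin d) k →+* A) (hφ : Function.Surjective φ)
    (hA : ringKrullDim A = d) : Function.Injective φ := by
  haveI := (regular k d).1
  haveI := RegLocal.isDomain (R := MvPowerSeries (Fin d) k)
  rw [injective_iff_map_eq_zero]
  intro x hx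
  by_contra hne
  have h := ringKrullDim_succ_le_of_surjective φ hφ (mem_nonZeroDivisors_of_ne_zero hne) hx
  rw [hA, (regular k d).2] at h
  have h2 : d + 1 ≤ d := by exact_mod_cast h
  omega

variable [IsLocalRing A] [IsNoetherianRing A] [Algebra k A]

theorem span_eq_maximalIdeal {ι : Type} (t : ι → A) (ht : ∀ i, t i ∈ maximalIdeal A)
    (hsp : Submodule.span (ResidueField A) (Set.range fun i => (maximalIdeal A).toCotangent ⟨t i, ht i⟩) = ⊤) :
    Ideal.span (Set.range t) = maximalIdeal A := by
  refine le_antisymm (Ideal.span_le.2 (Set.range_subset_iff.2 ht)) ?_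
  have h := IsLocalRing.CotangentSpace.span_image_eq_top_iff.1
    (show Submodule.span (ResidueField A) ((maximalIdeal A).toCotangent '' (Set.range fun i => (⟨t i, ht i⟩ : maximalIdeal A))) = ⊤ by
      rw [← Set.range_comp]; exact hsp)
  intro x hx
  have hx' : (⟨x, hx⟩ : maximalIdeal A) ∈ Submodule.span A (Set.range fun i => (⟨t i, ht i⟩ : maximalIdeal A)) := by
    rw [h]; trivial
  have := Submodule.mem_map_of_mem (f := (maximalIdeal A).subtype) hx'
  rw [Submodule.map_span, ← Set.range_comp] at this
  exact this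

variable [IsAdicComplete (maximalIdeal A) A]

theorem surjective_basis (hres : Function.Surjective ((residue A).comp (algebraMap k A))) {d : ℕ}
    (φ : MvPowerSeries (Fin d) k →ₐ[k] A) (hgen : Ideal.span (Set.range fun i => φ (X i)) = maximalIdeal A) :
    Function.Surjective φ :=
  surjective_of (maximalIdeal A) φ hgen fun y => by
    obtain ⟨r, hr⟩ := hres (show ResidueField A from y)
    exact ⟨r, hr⟩

theorem bijective_iff {d : ℕ} (hres : Function.Surjective ((residue A).comp (algebraMap k A)))
    (φ : MvPowerSeries (Fin d) k →ₐ[k] A) (hgen : Ideal.span (Set.range fun i => φ (X i)) = maximalIdeal A)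
    (hd : (maximalIdeal A).spanFinrank = d) : IsRegularLocalRing A ↔ Function.Bijective φ := by
  constructor
  · intro h
    refine ⟨injective_of_dim φ.toRingHom (surjective_basis hres φ hgen) ?_, surjective_basis hres φ hgen⟩
    rw [← IsRegularLocalRing.spanFinrank_maximalIdeal (R := A), hd]
  · intro h
    haveI := (regular k d).1
    exact IsRegularLocalRing.of_ringEquiv (AlgEquiv.ofBijective φ h).toRingEquiv

end field

end Groth.Agent.H2PowerSeries

namespace Groth.Agent.H2PowerSeries
open MvPowerSeries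
universe u

section inverse
variable {R : Type u} [CommRing R] {n : ℕ}

local notation3 "J" => Ideal.span (Set.range (MvPowerSeries.X : Fin n → MvPowerSeries (Fin n) R))

theorem constantCoeff_eq_zero_of_mem {f : MvPowerSeries (Fin n) R} (h : f ∈ J) : constantCoeff f = 0 := by
  refine (Ideal.span_le.2 ?_ : J ≤ RingHom.ker constantCoeff) h
  rintro _ ⟨i, rfl⟩
  exact constantCoeff_X i

theorem mem_J {f : MvPowerSeries (Fin n) R} (h : constantCoeff f = 0) : f ∈ J := by
  rw [← pow_one J]
  refine mem_span_X_pow fun x hx => ?_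
  rw [(Finsupp.degree_eq_zero_iff x).1 (by omega), coeff_zero_eq_constantCoeff_apply, h]

/-- linear part -/
noncomputable def lin (f : MvPowerSeries (Fin n) R) : MvPowerSeries (Fin n) R :=
  ∑ j, C (coeff (Finsupp.single j 1) f) * X j

theorem sub_lin_mem {f : MvPowerSeries (Fin n) R} (hf : constantCoeff f = 0) : f - lin f ∈ J ^ 2 := by
  refine mem_span_X_pow fun x hx => ?_
  classical
  rw [map_sub]
  simp only [lin, map_sum, coeff_C_mul, coeff_X, mul_ite, mul_one, mul_zero]
  rcases Nat.lt_or_ge (Finsupp.degree x) 1 with h0 | h1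
  · obtain rfl := (Finsupp.degree_eq_zero_iff x).1 (by omega)
    simp [hf, Finsupp.single_eq_zero, eq_comm]
  · have hp : Finsupp.degree x = 1 := by omega
    obtain ⟨j, rfl⟩ := (Finsupp.sum_eq_one_iff x).1 hp
    simp [Finsupp.single_left_inj]

theorem coeff_single_sum (c : Fin n → R) (j : Fin n) :
    coeff (Finsupp.single j 1) (∑ i, C (c i) * X i) = c j := by
  classical
  simp [map_sum, coeff_C_mul, coeff_X, Finsupp.single_left_inj]

theorem coeff_single_of_mem_sq {f : MvPowerSeries (Fin n) R} (hf : f ∈ J ^ 2) (j : Fin n) :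
    coeff (Finsupp.single j 1) f = 0 := by
  rw [pow_two] at hf
  refine Submodule.mul_induction_on hf (fun a ha b hb => ?_) fun a b ha hb => by rw [map_add, ha, hb, add_zero]
  classical
  rw [coeff_mul]
  refine Finset.sum_eq_zero fun p hp => ?_
  have h := congrArg Finsupp.degree (Finset.HasAntidiagonal.mem_antidiagonal.1 hp)
  rw [map_add, Finsupp.degree_single] at h
  rcases Nat.eq_zero_or_pos (Finsupp.degree p.1) with h1 | h1
  · rw [(Finsupp.degree_eq_zero_iff _).1 h1, coeff_zero_eq_constantCoeff_apply, constantCoeff_eq_zero_of_mem ha, zero_mul]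
  · rw [(Finsupp.degree_eq_zero_iff p.2).1 (by omega), coeff_zero_eq_constantCoeff_apply, constantCoeff_eq_zero_of_mem hb, mul_zero]

variable (φ : MvPowerSeries (Fin n) R →ₐ[R] MvPowerSeries (Fin n) R) (h0 : ∀ i, constantCoeff (φ (X i)) = 0)

/-- Jacobian matrix -/
noncomputable def jac : Matrix (Fin n) (Fin n) R := Matrix.of fun i j => coeff (Finsupp.single j 1) (φ (X i))

theorem map_C (r : R) : φ (C r) = C r := φ.commutes r

include h0

theorem map_J_pow_le (m : ℕ) : (J ^ m).map φ ≤ J ^ m := by
  rw [Ideal.map_pow]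
  refine Ideal.pow_right_mono ?_ m
  rw [Ideal.map_span, Ideal.span_le]
  rintro _ ⟨_, ⟨i, rfl⟩, rfl⟩
  exact mem_J (h0 i)

theorem map_sub_mem {f : MvPowerSeries (Fin n) R} (hf : constantCoeff f = 0) :
    φ f - ∑ j, C (∑ i, coeff (Finsupp.single i 1) f * jac φ i j) * X j ∈ J ^ 2 := by
  have h1 : φ f - φ (lin f) ∈ J ^ 2 := by
    rw [← map_sub]
    exact map_J_pow_le φ h0 2 (Ideal.mem_map_of_mem _ (sub_lin_mem hf))
  have h2 : φ (lin f) - ∑ j, C (∑ i, coeff (Finsupp.single i 1) f * jac φ i j) * X j ∈ J ^ 2 := by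
    have e : ∑ j, C (∑ i, coeff (Finsupp.single i 1) f * jac φ i j) * (X j : MvPowerSeries (Fin n) R) =
        ∑ i, C (coeff (Finsupp.single i 1) f) * lin (φ (X i)) := by
      simp only [lin, Finset.mul_sum, map_sum, map_mul, Finset.sum_mul, mul_assoc]
      exact Finset.sum_comm
    rw [e]
    simp only [lin, map_sum, map_mul, map_C, ← Finset.sum_sub_distrib, ← mul_sub]
    exact Ideal.sum_mem _ fun i _ => Ideal.mul_mem_left _ _ (sub_lin_mem (h0 i))
  have := add_mem h1 h2
  rwa [sub_add_sub_cancel] at this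

theorem surjective_of_jac (N : Matrix (Fin n) (Fin n) R) (hN : N * jac φ = 1) : Function.Surjective φ := by
  let I := Ideal.span (Set.range fun i => φ (X i))
  have hIJ : I ≤ J := Ideal.span_le.2 (Set.range_subset_iff.2 fun i => mem_J (h0 i))
  have hJ : J ≤ I ⊔ J ^ 2 := by
    rw [Ideal.span_le]
    rintro _ ⟨k, rfl⟩
    have h := map_sub_mem φ h0 (f := ∑ i, C (N k i) * X i) (by simp [map_sum])
    simp only [coeff_single_sum, ← Matrix.mul_apply, hN] at h
    have hsum : ∑ j, C ((1 : Matrix (Fin n) (Fin n) R) k j) * (X j : MvPowerSeries (Fin n) R) = X k := by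
      classical
      simp [Matrix.one_apply, apply_ite (C : R →+* MvPowerSeries (Fin n) R), ite_mul]
    rw [hsum] at h
    refine Submodule.mem_sup.2 ⟨φ (∑ i, C (N k i) * X i), ?_, -(φ (∑ i, C (N k i) * X i) - X k), neg_mem h, by abel⟩
    simp only [map_sum, map_mul, map_C]
    exact Ideal.sum_mem _ fun i _ => Ideal.mul_mem_left _ _ (Ideal.subset_span ⟨i, rfl⟩)
  have hJI : J ≤ I := Submodule.le_of_le_smul_of_le_jacobson_bot (I := J) (Submodule.fg_span (Set.finite_range _))
    (IsAdicComplete.le_jacobson_bot J) (by rw [Ideal.smul_eq_mul, ← pow_two]; exact hJ)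
  refine surjective_of J φ (le_antisymm hIJ hJI) fun y => ?_
  obtain ⟨f, rfl⟩ := Ideal.Quotient.mk_surjective y
  refine ⟨constantCoeff f, Ideal.Quotient.eq.2 (mem_J ?_)⟩
  simp [MvPowerSeries.algebraMap_apply]

theorem bijective_of_jac (hJ : IsUnit (jac φ).det) : Function.Bijective φ := by
  have hleft : (jac φ)⁻¹ * jac φ = 1 := Matrix.nonsing_inv_mul _ hJ
  have hs := surjective_of_jac φ h0 _ hleft
  choose b hb using fun i => hs (X i)
  have hb0 : ∀ i, constantCoeff (b i) = 0 := fun i => by
    have h1 : φ (b i) - C (constantCoeff (b i)) ∈ J := by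
      rw [← map_C φ, ← map_sub]
      rw [← pow_one J]
      exact map_J_pow_le φ h0 1 (Ideal.mem_map_of_mem _ (by rw [pow_one]; exact mem_J (by simp)))
    rw [hb] at h1
    simpa using constantCoeff_eq_zero_of_mem h1
  obtain ⟨ψ, hψ, -⟩ := exists_aeval (R := R) J b fun i => mem_J (hb0 i)
  have hcomp : φ.comp ψ = AlgHom.id R _ := ext_of_X J
    (fun i => by simp only [AlgHom.comp_apply, hψ, hb]; exact Ideal.subset_span ⟨i, rfl⟩) fun i => by simp [hψ, hb]
  have hψ0 : ∀ i, constantCoeff (ψ (X i)) = 0 := fun i => by rw [hψ]; exact hb0 i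
  have hNM : jac ψ * jac φ = 1 := Matrix.ext fun k j => by
    have h := coeff_single_of_mem_sq (map_sub_mem φ h0 (f := b k) (hb0 k)) j
    rw [hb, map_sub, coeff_single_sum, sub_eq_zero] at h
    rw [Matrix.mul_apply]
    classical
    simp only [jac, Matrix.of_apply, hψ]
    exact h.symm.trans (by simp [coeff_X, Matrix.one_apply, Finsupp.single_left_inj, eq_comm])
  have hψs := surjective_of_jac ψ hψ0 (jac φ) (mul_eq_one_comm.1 hNM)
  refine ⟨fun a b hab => ?_, hs⟩
  obtain ⟨a, rfl⟩ := hψs a
  obtain ⟨b, rfl⟩ := hψs b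
  have e : a = b := by
    have ha := AlgHom.congr_fun hcomp a
    have hb := AlgHom.congr_fun hcomp b
    simp only [AlgHom.comp_apply, AlgHom.id_apply] at ha hb
    rw [← ha, ← hb, hab]
  rw [e]

end inverse

section lifts
universe v w

theorem isAdicComplete_of_pow {A : Type u} [CommRing A] (I : Ideal A) {N : ℕ} (h : I ^ N = ⊥) : IsAdicComplete I A := by
  have hv : ∀ m, N ≤ m → I ^ m = ⊥ := fun m hm => le_bot_iff.1 ((Ideal.pow_le_pow_right hm).trans h.le)
  refine @IsAdicComplete.mk _ _ _ _ _ _ ⟨fun x hx => ?_⟩ ⟨fun f hf => ⟨f N, fun m => ?_⟩⟩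
  · have := hx N
    rwa [SModEq.zero, smul_eq_mul, Ideal.mul_top, h, Ideal.mem_bot] at this
  · rcases le_total m N with hm | hm
    · exact hf hm
    · have := hf hm
      rw [SModEq.sub_mem, smul_eq_mul, Ideal.mul_top, h, Ideal.mem_bot, sub_eq_zero] at this
      rw [this]

/-- power series in one variable over a lifted residue algebra -/
theorem exists_powerSeries_equiv {B A : Type u} [CommRing B] [CommRing A] [Algebra B A] (x : A)
    (hx : x ∈ nonZeroDivisors A) [IsAdicComplete (Ideal.span {x}) A]
    (hB : Function.Bijective fun b : B => Ideal.Quotient.mk (Ideal.span {x}) (algebraMap B A b)) :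
    ∃ e : PowerSeries B ≃ₐ[B] A, e PowerSeries.X = x := by
  obtain ⟨φ, hφ, -⟩ := exists_aeval (R := B) (σ := Unit) (Ideal.span {x}) (fun _ => x)
    (fun _ => Ideal.mem_span_singleton_self x)
  have hX : φ (PowerSeries.X : PowerSeries B) = x := hφ ()
  have hs : Function.Surjective φ := surjective_of (Ideal.span {x}) φ (by simp only [hφ, Set.range_const]) hB.2
  have hi : Function.Injective φ := by
    rw [injective_iff_map_eq_zero]
    intro f hf
    have key : ∀ n, ∀ g : PowerSeries B, φ g = 0 → PowerSeries.coeff n g = 0 := by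
      intro n
      induction n with
      | zero =>
        intro g hg
        rw [PowerSeries.coeff_zero_eq_constantCoeff_apply]
        refine hB.1 ?_
        show Ideal.Quotient.mk _ _ = Ideal.Quotient.mk _ _
        have hd : φ g = x * φ (PowerSeries.mk fun p => PowerSeries.coeff (p + 1) g : PowerSeries B) +
            algebraMap B A (PowerSeries.constantCoeff g) := by
          have e := congrArg φ (PowerSeries.eq_X_mul_shift_add_const g)
          refine e.trans ?_
          erw [map_add, map_mul, hX]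
          congr 1
          exact φ.commutes _
        rw [hg] at hd
        rw [map_zero, Ideal.Quotient.eq, sub_zero]
        rw [eq_comm, add_eq_zero_iff_eq_neg'] at hd
        rw [hd]
        exact neg_mem (Ideal.mul_mem_right _ _ (Ideal.mem_span_singleton_self x))
      | succ n ih =>
        intro g hg
        have h0 : PowerSeries.constantCoeff g = 0 := by
          refine hB.1 ?_
          show Ideal.Quotient.mk _ _ = Ideal.Quotient.mk _ _
          have hd : φ g = x * φ (PowerSeries.mk fun p => PowerSeries.coeff (p + 1) g : PowerSeries B) +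
              algebraMap B A (PowerSeries.constantCoeff g) := by
            have e := congrArg φ (PowerSeries.eq_X_mul_shift_add_const g)
            refine e.trans ?_
            erw [map_add, map_mul, hX]
            congr 1
            exact φ.commutes _
          rw [hg, eq_comm, add_eq_zero_iff_eq_neg'] at hd
          rw [map_zero, Ideal.Quotient.eq, sub_zero, hd]
          exact neg_mem (Ideal.mul_mem_right _ _ (Ideal.mem_span_singleton_self x))
        have e := congrArg φ (PowerSeries.eq_X_mul_shift_add_const g)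
        rw [hg, h0, map_zero, add_zero] at e
        erw [map_mul, hX] at e
        have h1 := ih (PowerSeries.mk fun p => PowerSeries.coeff (p + 1) g)
          ((mul_left_mem_nonZeroDivisors_eq_zero_iff hx).1 e.symm)
        simpa using h1
    exact PowerSeries.ext fun n => by simpa using key n f hf
  exact ⟨AlgEquiv.ofBijective φ ⟨hi, hs⟩, hX⟩

end lifts

end Groth.Agent.H2PowerSeries
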