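import Mathlib
import Groth.Prelude.Def_CAlgX
import Groth.Agent.S9318
import Groth.Agent.S0548
import Groth.Agent.Lib.H2PowerSeries
import Groth.Agent.Lib.H2PerfectSmooth
set_option autoImplicit false

/-! Regular local rings and adic formal smoothness over fields. -/
namespace Groth.Agent.H2AdicFSField
open IsLocalRing
set_option backward.isDefEq.respectTransparency.types false
universe u v

/-- A power series presentation with kernel in the square of the maximal ideal. -/
theorem exists_presentation (K A : Type u) [Field K] [CommRing A] [IsLocalRing A] [IsNoetherianRing A]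
    [IsAdicComplete (maximalIdeal A) A] [Algebra K A]
    (hres : Function.Bijective ((residue A).comp (algebraMap K A))) :
    ∃ φ : MvPowerSeries (Fin (maximalIdeal A).spanFinrank) K →ₐ[K] A, Function.Surjective φ ∧
      Ideal.span (Set.range fun i => φ (MvPowerSeries.X i)) = maximalIdeal A ∧
      RingHom.ker φ.toRingHom ≤ maximalIdeal (MvPowerSeries (Fin (maximalIdeal A).spanFinrank) K) ^ 2 := by
  let b := (Module.finBasis (ResidueField A) (CotangentSpace A)).reindex
    (finCongr (IsLocalRing.spanFinrank_maximalIdeal_eq_finrank_cotangentSpace (R := A)).symm)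
  let d := (maximalIdeal A).spanFinrank
  choose t ht using fun i : Fin d => Ideal.toCotangent_surjective (maximalIdeal A) (b i)
  have hgen : Ideal.span (Set.range fun i => (t i : A)) = maximalIdeal A :=
    H2PowerSeries.span_eq_maximalIdeal (fun i => (t i : A)) (fun i => (t i).2) (by
      rw [show (fun i => (maximalIdeal A).toCotangent ⟨(t i : A), (t i).2⟩) = b from funext ht]
      exact b.span_eq)
  obtain ⟨φ, hφ, -⟩ := H2PowerSeries.exists_aeval (R := K) (maximalIdeal A) (fun i => (t i : A)) fun i => (t i).2
  have hgen' : Ideal.span (Set.range fun i => φ (MvPowerSeries.X i)) = maximalIdeal A := by simp only [hφ]; exact hgen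
  refine ⟨φ, H2PowerSeries.surjective_basis (k := K) hres.2 φ hgen', hgen', fun f hf => ?_⟩
  rw [H2PowerSeries.maximalIdeal_eq K d]
  have hf0 : MvPowerSeries.constantCoeff f = 0 := by
    by_contra h
    have h2 := (MvPowerSeries.isUnit_iff_constantCoeff.2 (isUnit_iff_ne_zero.2 h)).map φ.toRingHom
    rw [show φ.toRingHom f = 0 from hf] at h2
    exact not_isUnit_zero h2
  have hl := H2PowerSeries.sub_lin_mem hf0
  have hmap : (Ideal.span (Set.range (MvPowerSeries.X : Fin d → MvPowerSeries (Fin d) K))).map φ.toRingHom ≤ maximalIdeal A := by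
    rw [Ideal.map_span, Ideal.span_le]
    rintro _ ⟨_, ⟨i, rfl⟩, rfl⟩
    show φ (MvPowerSeries.X i) ∈ maximalIdeal A
    rw [hφ]
    exact (t i).2
  have h2 : φ (H2PowerSeries.lin f) ∈ maximalIdeal A ^ 2 := by
    have h3 := Ideal.pow_right_mono hmap 2
    rw [← Ideal.map_pow] at h3
    have h4 := h3 (Ideal.mem_map_of_mem φ.toRingHom hl)
    rw [show φ.toRingHom (f - H2PowerSeries.lin f) = φ f - φ (H2PowerSeries.lin f) from map_sub φ _ _,
      show φ f = 0 from hf, zero_sub, neg_mem_iff] at h4
    exact h4
  let c : Fin d → K := fun j => MvPowerSeries.coeff (Finsupp.single j 1) f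
  have hsum : φ (H2PowerSeries.lin f) = (((∑ j, algebraMap K A (c j) • t j : maximalIdeal A)) : A) := by
    rw [H2PowerSeries.lin, map_sum, AddSubmonoidClass.coe_finsetSum]
    refine Finset.sum_congr rfl fun j _ => ?_
    rw [map_mul, hφ]
    show φ (MvPowerSeries.C (c j)) * _ = algebraMap K A (c j) * (t j : A)
    rw [show φ (MvPowerSeries.C (c j)) = algebraMap K A (c j) from φ.commutes (c j)]
  have h5 : (maximalIdeal A).toCotangent (∑ j, algebraMap K A (c j) • t j) = 0 := by
    rw [Ideal.toCotangent_eq_zero, ← hsum]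
    exact h2
  have h7 : ∀ j, residue A (algebraMap K A (c j)) = 0 := Fintype.linearIndependent_iff.1 b.linearIndependent _ (by
    rw [← h5, map_sum]
    refine Finset.sum_congr rfl fun j _ => ?_
    rw [map_smul, ht]
    rfl)
  have hlin : H2PowerSeries.lin f = 0 := Finset.sum_eq_zero fun j _ => by
    have h8 : c j = 0 := hres.1 ((h7 j).trans (map_zero ((residue A).comp (algebraMap K A))).symm)
    rw [show MvPowerSeries.coeff (Finsupp.single j 1) f = 0 from h8, map_zero, zero_mul]
  rwa [hlin, sub_zero] at hl

/-- A complete local ring with lifting along Artinian square zero extensions is regular. -/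
theorem regular_of_lifting (P K A : Type u) [CommRing P] [Field K] [CommRing A] [IsLocalRing A] [IsNoetherianRing A]
    [IsAdicComplete (maximalIdeal A) A] [Algebra K A] [Algebra P K] [Algebra P A] [IsScalarTower P K A]
    (hres : Function.Bijective ((residue A).comp (algebraMap K A)))
    (hlift : ∀ (R : Type u) [CommRing R] [Algebra P R] [IsArtinianRing R] [IsLocalRing R] (J : Ideal R), J ^ 2 = ⊥ →
      ∀ f : A →ₐ[P] R ⧸ J, IsLocalHom (f : A →+* R ⧸ J) → ∃ g : A →ₐ[P] R, (Ideal.Quotient.mkₐ P J).comp g = f) :
    IsRegularLocalRing A := by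
  classical
  obtain ⟨φ, hφs, hgen, hker⟩ := exists_presentation K A hres
  let W := MvPowerSeries (Fin (maximalIdeal A).spanFinrank) K
  letI : Algebra P W := ((algebraMap K W).comp (algebraMap P K)).toAlgebra
  haveI : IsScalarTower P K W := IsScalarTower.of_algebraMap_eq' rfl
  haveI : IsRegularLocalRing W := (H2PowerSeries.regular K _).1
  let M := maximalIdeal W
  let φP : W →ₐ[P] A := φ.restrictScalars P
  have hφl : ∀ x ∈ M, ¬ IsUnit (φ x) := fun x hx hu => by
    have h1 : φ x ∈ maximalIdeal A := by
      refine hgen.le ?_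
      have hle : M.map φ.toRingHom ≤ Ideal.span (Set.range fun i => φ (MvPowerSeries.X i)) := by
        show (maximalIdeal W).map _ ≤ _
        rw [H2PowerSeries.maximalIdeal_eq, Ideal.map_span, ← Set.range_comp]
        exact le_rfl
      exact hle (Ideal.mem_map_of_mem φ.toRingHom hx)
    exact (mem_maximalIdeal _).1 h1 hu
  have hQ : ∀ n : ℕ, ∃ f : A →ₐ[P] W ⧸ M ^ (n + 2), ∀ x y, Ideal.Quotient.mk (M ^ (n + 2)) y = f (φ x) → y - x ∈ M ^ 2 := by
    intro n
    induction n with
    | zero =>
      let e : (W ⧸ RingHom.ker φP.toRingHom) ≃ₐ[P] A := Ideal.quotientKerAlgEquivOfSurjective hφs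
      have hker2 : RingHom.ker φP.toRingHom ≤ M ^ (0 + 2) := by rw [zero_add]; exact hker
      refine ⟨(Ideal.Quotient.factorₐ P hker2).comp e.symm.toAlgHom,
        fun x y hy => ?_⟩
      have h1 : e.symm (φ x) = Ideal.Quotient.mk _ x := by
        rw [AlgEquiv.symm_apply_eq]; rfl
      have h2 : Ideal.Quotient.mk (M ^ (0 + 2)) y = Ideal.Quotient.mk (M ^ (0 + 2)) x := by
        rw [hy]
        show Ideal.Quotient.factor hker2 (e.symm (φ x)) = _
        rw [h1, Ideal.Quotient.factor_mk]
      have := Ideal.Quotient.eq.1 h2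
      rwa [zero_add] at this
    | succ n ih =>
      obtain ⟨f, hf⟩ := ih
      let R := W ⧸ M ^ (n + 1 + 2)
      have htop : M ^ (n + 1 + 2) ≠ ⊤ := fun h => (maximalIdeal.isMaximal W).ne_top
        (top_le_iff.1 (h.ge.trans (Ideal.pow_le_self (by omega))))
      haveI : Nontrivial R := Ideal.Quotient.nontrivial_iff.2 htop
      haveI : IsLocalRing R := IsLocalRing.of_surjective' _ Ideal.Quotient.mk_surjective
      haveI : IsLocalHom (Ideal.Quotient.mk (M ^ (n + 1 + 2))) := IsLocalHom.of_surjective _ Ideal.Quotient.mk_surjective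
      haveI : IsArtinianRing R := by
        refine (isArtinianRing_iff_isNilpotent_maximalIdeal R).2 ⟨n + 1 + 2, ?_⟩
        rw [← IsLocalRing.map_maximalIdeal_of_surjective _ (Ideal.Quotient.mk_surjective (I := M ^ (n + 1 + 2))),
          ← Ideal.map_pow, Ideal.map_quotient_self, Ideal.zero_eq_bot]
      have hle : M ^ (n + 1 + 2) ≤ M ^ (n + 2) := Ideal.pow_le_pow_right (by omega)
      let J : Ideal R := (M ^ (n + 2)).map (Ideal.Quotient.mkₐ P (M ^ (n + 1 + 2)))
      have hJ : J ^ 2 = ⊥ := by
        rw [← le_bot_iff, ← Ideal.map_pow, ← pow_mul, Ideal.map_le_iff_le_comap]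
        intro x hx
        show Ideal.Quotient.mk _ x ∈ (⊥ : Ideal R)
        rw [Ideal.mem_bot, Ideal.Quotient.eq_zero_iff_mem]
        exact Ideal.pow_le_pow_right (by omega) hx
      let e : (R ⧸ J) ≃ₐ[P] W ⧸ M ^ (n + 2) := DoubleQuot.quotQuotEquivQuotOfLEₐ P hle
      obtain ⟨g, hg⟩ := hlift R J hJ (e.symm.toAlgHom.comp f) ⟨fun a ha => by
        obtain ⟨x, rfl⟩ := hφs a
        obtain ⟨y, hy⟩ := Ideal.Quotient.mk_surjective (f (φ x))
        have hu : IsUnit (f (φ x)) := by
          have := ha.map e.toRingEquiv.toRingHom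
          rwa [show e.toRingEquiv.toRingHom ((e.symm.toAlgHom.comp f : A →+* R ⧸ J) (φ x)) = f (φ x) from e.apply_symm_apply _] at this
        rw [← hy] at hu
        have hyu : IsUnit y := by
          by_contra hyn
          have hny : IsNilpotent (Ideal.Quotient.mk (M ^ (n + 2)) y) := ⟨n + 2, by
            rw [← map_pow, Ideal.Quotient.eq_zero_iff_mem]
            exact Ideal.pow_mem_pow ((mem_maximalIdeal y).2 hyn) _⟩
          haveI : Nontrivial (W ⧸ M ^ (n + 2)) := Ideal.Quotient.nontrivial_iff.2 fun h => (maximalIdeal.isMaximal W).ne_top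
            (top_le_iff.1 (h.ge.trans (Ideal.pow_le_self (by omega))))
          exact hny.not_isUnit hu
        by_contra hxn
        have hxM : x ∈ M := (mem_maximalIdeal x).2 fun hxu => hxn (hxu.map φ.toRingHom)
        have : y ∈ M := by
          rw [← sub_add_cancel y x]
          exact add_mem (Ideal.pow_le_self two_ne_zero (hf x y hy)) hxM
        exact (mem_maximalIdeal y).1 this hyu⟩
      refine ⟨g, fun x y hy => hf x y ?_⟩
      have h1 := congrArg e (AlgHom.congr_fun hg (φ x))
      rw [show (e.symm.toAlgHom.comp f) (φ x) = e.symm (f (φ x)) from rfl, e.apply_symm_apply] at h1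
      rw [← h1]
      show _ = e (Ideal.Quotient.mk J (g (φ x)))
      rw [← hy]
      rfl
  have hinj : Function.Injective φ := by
    rw [injective_iff_map_eq_zero]
    intro x hx
    have key : ∀ j : ℕ, x ∈ M ^ j := by
      intro j
      induction j with
      | zero => simp
      | succ j ih =>
        obtain ⟨f, hf⟩ := hQ j
        let h : W →ₐ[P] W ⧸ M ^ (j + 2) := f.comp φP
        have step : ∀ i : ℕ, ∀ y ∈ M ^ i, ∀ z, Ideal.Quotient.mk (M ^ (j + 2)) z = h y → z - y ∈ M ^ (i + 1) ⊔ M ^ (j + 2) := by
          intro i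
          induction i with
          | zero =>
            intro y _ z hz
            refine Submodule.mem_sup_left ?_
            rw [zero_add, pow_one]
            exact Ideal.pow_le_self two_ne_zero (hf y z hz)
          | succ i ihi =>
            intro y hy
            rw [pow_succ'] at hy
            refine Submodule.mul_induction_on hy (fun a ha b hb z hz => ?_) fun a b ha hb z hz => ?_
            · obtain ⟨za, hza⟩ := Ideal.Quotient.mk_surjective (h a)
              obtain ⟨zb, hzb⟩ := Ideal.Quotient.mk_surjective (h b)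
              have h0 : z - za * zb ∈ M ^ (j + 2) := by
                rw [← Ideal.Quotient.eq, hz, map_mul, map_mul, hza, hzb]
              have h1 : za - a ∈ M ^ 2 := hf a za hza
              have h2 := ihi b hb zb hzb
              rw [show z - a * b = (z - za * zb) + ((za - a) * zb + a * (zb - b)) by ring]
              refine add_mem (Submodule.mem_sup_right h0) (add_mem ?_ ?_)
              · have hzb' : zb ∈ M ^ i ⊔ M ^ (j + 2) := by
                  rw [← sub_add_cancel zb b]
                  exact add_mem ((sup_le ((Ideal.pow_le_pow_right i.le_succ).trans le_sup_left) le_sup_right : M ^ (i + 1) ⊔ M ^ (j + 2) ≤ M ^ i ⊔ M ^ (j + 2)) h2) (Submodule.mem_sup_left hb)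
                obtain ⟨p, hp, q, hq, rfl⟩ := Submodule.mem_sup.1 hzb'
                rw [mul_add]
                refine add_mem (Submodule.mem_sup_left ?_) (Submodule.mem_sup_right (Ideal.mul_mem_left _ _ hq))
                have := Ideal.mul_mem_mul h1 hp
                rw [← pow_add] at this
                exact Ideal.pow_le_pow_right (by omega) this
              · obtain ⟨p, hp, q, hq, hpq⟩ := Submodule.mem_sup.1 h2
                rw [← hpq, mul_add]
                refine add_mem (Submodule.mem_sup_left ?_) (Submodule.mem_sup_right (Ideal.mul_mem_left _ _ hq))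
                rw [pow_succ' M (i + 1)]
                exact Ideal.mul_mem_mul ha hp
            · obtain ⟨za, hza⟩ := Ideal.Quotient.mk_surjective (h a)
              obtain ⟨zb, hzb⟩ := Ideal.Quotient.mk_surjective (h b)
              rw [show z - (a + b) = (z - (za + zb)) + ((za - a) + (zb - b)) by ring]
              refine add_mem (Submodule.mem_sup_right ?_) (add_mem (ha za hza) (hb zb hzb))
              rw [← Ideal.Quotient.eq, hz, map_add, map_add, hza, hzb]
        have h2 := step j x ih 0 (by rw [map_zero]; show 0 = f (φ x); rw [hx, map_zero])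
        rw [zero_sub, neg_mem_iff, sup_eq_left.2 (Ideal.pow_le_pow_right (by omega))] at h2
        exact h2
    have hH : ⨅ j, M ^ j = ⊥ := Ideal.iInf_pow_eq_bot_of_isLocalRing M (maximalIdeal.isMaximal W).ne_top
    rw [← Ideal.mem_bot, ← hH, Ideal.mem_iInf]
    exact key
  exact (H2PowerSeries.bijective_iff (k := K) hres.2 φ hgen rfl).2 ⟨hinj, hφs⟩

variable {k A : Type u} [Field k] [CommRing A] [IsLocalRing A] [IsNoetherianRing A] [Algebra k A]

theorem isRegularLocalRing_of_adicFS_aux (P : Type u) [Field P] [PerfectField P] [Algebra P k] [Algebra P A]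
    [IsScalarTower P k A] (h : CAlgX.IsAdicFormallySmooth k A (maximalIdeal A)) : IsRegularLocalRing A := by
  haveI : Algebra.FormallySmooth P k := H2PerfectSmooth.formallySmooth P k
  have hP : CAlgX.IsAdicFormallySmooth P A (maximalIdeal A) := by
    intro C _ _ J hJ ψ hψ
    obtain ⟨γ, hγ⟩ := Algebra.FormallySmooth.exists_lift J ⟨2, hJ⟩ (ψ.comp (IsScalarTower.toAlgHom P k A))
    letI : Algebra k C := γ.toRingHom.toAlgebra
    haveI : IsScalarTower P k C := IsScalarTower.of_algebraMap_eq fun x => (γ.commutes x).symm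
    let ψ' : A →ₐ[k] C ⧸ J := { ψ.toRingHom with commutes' := fun x => (AlgHom.congr_fun hγ x).symm }
    obtain ⟨χ, hχ⟩ := h C J hJ ψ' hψ
    exact ⟨χ.restrictScalars P, AlgHom.ext fun x => AlgHom.congr_fun hχ x⟩
  let Ah := AdicCompletion (maximalIdeal A) A
  haveI : IsNoetherianRing Ah := Groth.Agent.CompletionDim.completion_noetherian
  have hP' : CAlgX.IsAdicFormallySmooth P Ah (maximalIdeal Ah) := by
    have := (Groth.Agent.S9318.result (maximalIdeal A) (maximalIdeal A).fg_of_isNoetherianRing).1 hP
    rwa [← AdicCompletion.maximalIdeal_eq_map] at this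
  haveI : Algebra.FormallySmooth P (ResidueField Ah) := H2PerfectSmooth.formallySmooth P (ResidueField Ah)
  obtain ⟨σ, hσ⟩ := Algebra.FormallySmooth.exists_mkₐ_comp_eq_of_isAdicComplete (R := P) (A := ResidueField Ah)
    (S := Ah) (I := maximalIdeal Ah) (AlgHom.id P (ResidueField Ah))
  letI : Algebra (ResidueField Ah) Ah := σ.toRingHom.toAlgebra
  haveI : IsScalarTower P (ResidueField Ah) Ah := IsScalarTower.of_algebraMap_eq fun x => (σ.commutes x).symm
  rw [Groth.Agent.S0548.result]
  refine regular_of_lifting P (ResidueField Ah) Ah ?_ fun R _ _ _ _ J hJ f hf => ?_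
  · have : (residue Ah).comp (algebraMap (ResidueField Ah) Ah) = RingHom.id _ := RingHom.ext fun x => AlgHom.congr_fun hσ x
    rw [this]
    exact Function.bijective_id
  · obtain ⟨n, hn⟩ := (isArtinianRing_iff_isNilpotent_maximalIdeal R).1 inferInstance
    refine hP' R J hJ f ⟨n, fun x hx => ?_⟩
    have hle : (maximalIdeal Ah).map f.toRingHom ≤ (maximalIdeal R).map (Ideal.Quotient.mk J) := by
      rw [Ideal.map_le_iff_le_comap]
      intro y hy
      obtain ⟨c, hc⟩ := Ideal.Quotient.mk_surjective (f y)
      show f y ∈ (maximalIdeal R).map (Ideal.Quotient.mk J)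
      rw [← hc]
      refine Ideal.mem_map_of_mem _ ((mem_maximalIdeal c).2 fun hu => (mem_maximalIdeal y).1 hy ?_)
      exact hf.map_nonunit y (by
        show IsUnit (f y)
        rw [← hc]; exact hu.map _)
    have h2 := Ideal.pow_right_mono hle n
    rw [← Ideal.map_pow, ← Ideal.map_pow, hn, Ideal.zero_eq_bot, Ideal.map_bot] at h2
    exact h2 (Ideal.mem_map_of_mem f.toRingHom hx)

/-- Adically formally smooth algebras over fields are regular. -/
theorem isRegularLocalRing_of_adicFS (h : CAlgX.IsAdicFormallySmooth k A (maximalIdeal A)) : IsRegularLocalRing A := by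
  let P := (⊥ : Subfield k)
  haveI : PerfectField P := by
    obtain _ | ⟨q, hq, hqk⟩ := CharP.exists' k
    · haveI : CharZero P := charZero_of_inj_zero fun n hn => by
        have := congrArg (Subtype.val) hn
        exact_mod_cast this
      infer_instance
    · haveI := Fact.mk hq.out
      haveI : Finite P := by
        have hle : P ≤ (ZMod.castHom (dvd_refl q) k).fieldRange := bot_le
        haveI : Finite (ZMod.castHom (dvd_refl q) k).fieldRange := Finite.of_surjective _ (RingHom.rangeRestrictField_bijective _).2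
        exact Finite.of_injective _ (Subfield.inclusion hle).injective
      infer_instance
  exact isRegularLocalRing_of_adicFS_aux P h

/-- Regular local rings with formally smooth residue field are adically formally smooth. -/
theorem adicFS_of_regular [IsRegularLocalRing A] [Algebra.FormallySmooth k (ResidueField A)] :
    CAlgX.IsAdicFormallySmooth k A (maximalIdeal A) := by
  let Ah := AdicCompletion (maximalIdeal A) A
  haveI : IsNoetherianRing Ah := Groth.Agent.CompletionDim.completion_noetherian
  haveI : IsRegularLocalRing Ah := (Groth.Agent.S0548.result A).1 inferInstance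
  refine (Groth.Agent.S9318.result (maximalIdeal A) (maximalIdeal A).fg_of_isNoetherianRing).2 ?_
  rw [← AdicCompletion.maximalIdeal_eq_map]
  let r : ResidueField A →ₐ[k] ResidueField Ah :=
    { toRingHom := ResidueField.map (algebraMap A Ah)
      commutes' := fun x => by
        show ResidueField.map (algebraMap A Ah) (residue A (algebraMap k A x)) = residue Ah (algebraMap k Ah x)
        rw [ResidueField.map_residue, ← IsScalarTower.algebraMap_apply] }
  haveI : Algebra.FormallySmooth k (ResidueField Ah) := Algebra.FormallySmooth.of_equiv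
    (AlgEquiv.ofBijective r (AdicCompletion.residueField_map_bijective_of_fg (maximalIdeal A).fg_of_isNoetherianRing))
  let K := ResidueField Ah
  obtain ⟨σ, hσ⟩ := Algebra.FormallySmooth.exists_mkₐ_comp_eq_of_isAdicComplete (R := k) (A := K)
    (S := Ah) (I := maximalIdeal Ah) (AlgHom.id k K)
  letI : Algebra K Ah := σ.toRingHom.toAlgebra
  haveI : IsScalarTower k K Ah := IsScalarTower.of_algebraMap_eq fun x => (σ.commutes x).symm
  have hres : Function.Bijective ((residue Ah).comp (algebraMap K Ah)) := by
    have : (residue Ah).comp (algebraMap K Ah) = RingHom.id _ := RingHom.ext fun x => AlgHom.congr_fun hσ x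
    rw [this]
    exact Function.bijective_id
  obtain ⟨φ, hφs, hgen, -⟩ := exists_presentation K Ah hres
  have hbij : Function.Bijective φ := (H2PowerSeries.bijective_iff (k := K) hres.2 φ hgen rfl).1 inferInstance
  let e := AlgEquiv.ofBijective φ hbij
  intro C _ _ J hJ ψ hψ
  obtain ⟨N0, hN0⟩ := hψ
  obtain ⟨γ, hγ⟩ := Algebra.FormallySmooth.exists_lift J ⟨2, hJ⟩ (ψ.comp σ)
  letI : Algebra K C := γ.toRingHom.toAlgebra
  haveI : IsScalarTower k K C := IsScalarTower.of_algebraMap_eq fun x => (γ.commutes x).symm
  let u : MvPowerSeries (Fin (maximalIdeal Ah).spanFinrank) K →ₐ[K] C ⧸ J :=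
    { toRingHom := ψ.toRingHom.comp φ.toRingHom
      commutes' := fun x => by
        show ψ (φ (algebraMap K _ x)) = _
        rw [φ.commutes]
        exact (AlgHom.congr_fun hγ x).symm }
  choose c hc using fun i => Ideal.Quotient.mk_surjective (u (MvPowerSeries.X i))
  have hnil : ∀ i, IsNilpotent (c i) := fun i => ⟨N0 * 2, by
    have h0 : c i ^ N0 ∈ J := by
      rw [← Ideal.Quotient.eq_zero_iff_mem, map_pow, hc, ← map_pow]
      show ψ (φ (MvPowerSeries.X i ^ N0)) = 0
      refine hN0 _ ?_
      rw [map_pow]
      exact Ideal.pow_mem_pow (hgen.le (Ideal.subset_span ⟨i, rfl⟩)) N0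
    have := Ideal.pow_mem_pow h0 2
    rw [hJ, Ideal.mem_bot, ← pow_mul] at this
    exact this⟩
  let I : Ideal C := Ideal.span (Set.range c)
  have hIfg : I.FG := Submodule.fg_span (Set.finite_range c)
  obtain ⟨N, hN⟩ := (Ideal.FG.isNilpotent_iff_le_nilradical hIfg).2 (Ideal.span_le.2 (by rintro _ ⟨i, rfl⟩; exact hnil i))
  haveI := H2PowerSeries.isAdicComplete_of_pow I hN
  obtain ⟨v, hv, -⟩ := H2PowerSeries.exists_aeval (R := K) I c fun i => Ideal.subset_span ⟨i, rfl⟩
  haveI := H2PowerSeries.isAdicComplete_of_pow (N := N) (I.map (Ideal.Quotient.mk J))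
    (by rw [← Ideal.map_pow, hN, Ideal.zero_eq_bot, Ideal.map_bot])
  have hmk : (Ideal.Quotient.mkₐ K J).comp v = u := by
    refine H2PowerSeries.ext_of_X (I.map (Ideal.Quotient.mk J)) (fun i => ?_) fun i => ?_
    · show Ideal.Quotient.mk J (v (MvPowerSeries.X i)) ∈ _
      rw [hv]
      exact Ideal.mem_map_of_mem _ (Ideal.subset_span ⟨i, rfl⟩)
    · show Ideal.Quotient.mk J (v (MvPowerSeries.X i)) = _
      rw [hv, hc]
  refine ⟨{ toRingHom := v.toRingHom.comp e.symm.toRingEquiv.toRingHom, commutes' := fun x => ?_ }, AlgHom.ext fun a => ?_⟩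
  · show v (e.symm (algebraMap k Ah x)) = _
    rw [IsScalarTower.algebraMap_apply k K Ah, e.symm.commutes, v.commutes, ← IsScalarTower.algebraMap_apply]
  · show Ideal.Quotient.mk J (v (e.symm a)) = ψ a
    refine (AlgHom.congr_fun hmk (e.symm a)).trans ?_
    show ψ (e (e.symm a)) = ψ a
    rw [e.apply_symm_apply]

end Groth.Agent.H2AdicFSField
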