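import Mathlib
import Groth.Prelude.Def_CAlgX
set_option autoImplicit false

/-! Adic formal smoothness implies formal smoothness for local algebras essentially of finite type over a field. -/
namespace Groth.Agent.H2AdicFSLocal
open IsLocalRing TensorProduct
set_option backward.isDefEq.respectTransparency.types false
universe u

theorem formallySmooth_of_adic_of_presentation (k P S : Type u) [CommRing k] [CommRing P] [CommRing S] [IsLocalRing P] [IsLocalRing S]
    [IsNoetherianRing P] [Algebra k P] [Algebra k S] [Algebra P S] [IsScalarTower k P S]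
    [Algebra.FormallySmooth k P] [Module.Free P Ω[P⁄k]] [Module.Finite P Ω[P⁄k]]
    (hsur : Function.Surjective (algebraMap P S))
    (h : CAlgX.IsAdicFormallySmooth k S (maximalIdeal S)) : Algebra.FormallySmooth k S := by
  classical
  let I : Ideal P := RingHom.ker (algebraMap P S)
  let m := maximalIdeal P
  rw [Algebra.FormallySmooth.iff_injective_cotangentComplexBaseChange_residueField (P := P) hsur (IsNoetherian.noetherian _)]
  rw [injective_iff_map_eq_zero]
  intro z hz
  have hPκ : Function.Surjective (algebraMap P (ResidueField S)) := residue_surjective.comp hsur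
  have hkerκ : ∀ a : P, algebraMap P (ResidueField S) a = 0 ↔ a ∈ m := fun a => by
    have h1 : RingHom.ker (algebraMap P (ResidueField S)) = m :=
      IsLocalRing.eq_maximalIdeal (RingHom.ker_isMaximal_of_surjective _ hPκ)
    rw [← RingHom.mem_ker, h1]
  obtain ⟨i, rfl⟩ := TensorProduct.mk_surjective P (RingHom.ker (algebraMap P S)) (ResidueField S) hPκ z
  have hi : i.1 ∈ m * I := by
    obtain ⟨N0, hN⟩ := Ideal.exists_pow_inf_eq_pow_smul (R := P) (M := P) m I
    let N := N0 + 1
    have hAR : m ^ N ⊓ I ≤ m * I := by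
      have h1 := hN N (Nat.le_succ N0)
      simp only [smul_eq_mul, Ideal.mul_top] at h1
      rw [show m ^ N ⊓ I = m ^ (N - N0) * (m ^ N0 ⊓ I) from h1, show N - N0 = 1 by omega, pow_one]
      exact Ideal.mul_mono_right inf_le_right
    let K : Ideal P := m * I ⊔ m ^ N
    let C := P ⧸ K
    let J : Ideal C := I.map (Ideal.Quotient.mk K)
    have hIm : I ≤ m := IsLocalRing.le_maximalIdeal (RingHom.ker_ne_top _)
    have hJ : J ^ 2 = ⊥ := by
      rw [← Ideal.map_pow, Ideal.map_eq_bot_iff_le_ker, Ideal.mk_ker, pow_two]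
      exact (Ideal.mul_mono_left hIm).trans le_sup_left
    let f0 : P →ₐ[k] C ⧸ J := (Ideal.Quotient.mkₐ k J).comp (Ideal.Quotient.mkₐ k K)
    have hf0 : ∀ x ∈ I, f0 x = 0 := fun x hx => Ideal.Quotient.eq_zero_iff_mem.2 (Ideal.mem_map_of_mem _ hx)
    let e : S →ₐ[k] C ⧸ J :=
      (Ideal.Quotient.liftₐ I f0 hf0).comp
      (Ideal.quotientKerAlgEquivOfSurjective (f := IsScalarTower.toAlgHom k P S) hsur).symm.toAlgHom
    have he : ∀ p, e (algebraMap P S p) = Ideal.Quotient.mk J (Ideal.Quotient.mk K p) := fun p => by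
      have h1 : (Ideal.quotientKerAlgEquivOfSurjective (f := IsScalarTower.toAlgHom k P S) hsur).symm (algebraMap P S p) =
          Ideal.Quotient.mk _ p := by
        rw [AlgEquiv.symm_apply_eq]; rfl
      show Ideal.Quotient.liftₐ I f0 hf0 ((Ideal.quotientKerAlgEquivOfSurjective (f := IsScalarTower.toAlgHom k P S) hsur).symm (algebraMap P S p)) = _
      rw [h1]
      rfl
    obtain ⟨χ, hχ⟩ := h C J hJ e ⟨N, fun x hx => by
      obtain ⟨p, rfl⟩ := hsur x
      rw [he]
      haveI : IsLocalHom (algebraMap P S) := IsLocalHom.of_surjective _ hsur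
      have hmap : (maximalIdeal S) = m.map (algebraMap P S) :=
        (IsLocalRing.map_maximalIdeal_of_surjective _ hsur).symm
      rw [hmap, ← Ideal.map_pow, Ideal.mem_map_iff_of_surjective _ hsur] at hx
      obtain ⟨q, hq, hqp⟩ := hx
      refine Ideal.Quotient.eq_zero_iff_mem.2 ?_
      rw [← sub_add_cancel p q, map_add]
      refine add_mem (Ideal.mem_map_of_mem _ ?_) ?_
      · show algebraMap P S (p - q) = 0
        rw [map_sub, hqp, sub_self]
      · rw [Ideal.Quotient.eq_zero_iff_mem.2 (Submodule.mem_sup_right hq : q ∈ K)]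
        exact zero_mem _⟩
    have hd : ∀ p, χ (algebraMap P S p) - Ideal.Quotient.mk K p ∈ J := fun p => by
      rw [← Ideal.Quotient.eq, ← he]
      exact AlgHom.congr_fun hχ _
    let d : P →+ J :=
      { toFun := fun p => ⟨_, hd p⟩
        map_zero' := Subtype.ext (by simp)
        map_add' := fun x y => Subtype.ext (by
          show χ (algebraMap P S (x + y)) - Ideal.Quotient.mk K (x + y) = (χ _ - _) + (χ _ - _)
          rw [map_add, map_add, map_add]; ring) }
    let dk : P →ₗ[k] J :=
      { d with map_smul' := fun r x => Subtype.ext (by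
          show χ (algebraMap P S (r • x)) - Ideal.Quotient.mk K (r • x) = r • (χ (algebraMap P S x) - Ideal.Quotient.mk K x)
          rw [show algebraMap P S (r • x) = r • algebraMap P S x from map_smul (IsScalarTower.toAlgHom k P S) r x,
            map_smul χ, show Ideal.Quotient.mk K (r • x) = r • Ideal.Quotient.mk K x from map_smul (Ideal.Quotient.mkₐ k K) r x, smul_sub]) }
    let D : Derivation k P J := Derivation.mk' dk fun x y => Subtype.ext (by
      show χ (algebraMap P S (x * y)) - Ideal.Quotient.mk K (x * y) = ((x • d y + y • d x : J) : C)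
      have h0 : (χ (algebraMap P S x) - Ideal.Quotient.mk K x) * (χ (algebraMap P S y) - Ideal.Quotient.mk K y) = 0 := by
        rw [← Ideal.mem_bot, ← hJ, pow_two]
        exact Ideal.mul_mem_mul (hd x) (hd y)
      rw [Submodule.coe_add, Submodule.coe_smul_of_tower, Submodule.coe_smul_of_tower, Algebra.smul_def, Algebra.smul_def]
      show _ = Ideal.Quotient.mk K x * (χ _ - _) + Ideal.Quotient.mk K y * (χ _ - _)
      rw [map_mul, map_mul, map_mul]
      linear_combination h0)
    let L : Ω[P⁄k] →ₗ[P] J := D.liftKaehlerDifferential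
    have hann : ∀ (a : P) (w : J), a ∈ m → a • w = 0 := fun a w ha => Subtype.ext (by
      rw [Submodule.coe_smul_of_tower, ZeroMemClass.coe_zero]
      obtain ⟨q, hq, hqw⟩ := (Ideal.mem_map_iff_of_surjective _ Ideal.Quotient.mk_surjective).1 w.2
      rw [← hqw, Algebra.smul_def]
      show Ideal.Quotient.mk K a * Ideal.Quotient.mk K q = 0
      rw [← map_mul, Ideal.Quotient.eq_zero_iff_mem]
      exact Submodule.mem_sup_left (Ideal.mul_mem_mul ha hq))
    let ε : ResidueField S ⊗[P] J →ₗ[P] J :=
      TensorProduct.lift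
        (LinearMap.mk₂ P (fun c w => Function.surjInv hPκ c • w)
          (fun c1 c2 w => by
            rw [← add_smul, ← sub_eq_zero, ← sub_smul]
            refine hann _ w ((hkerκ _).1 ?_)
            simp [Function.surjInv_eq hPκ])
          (fun a c w => by
            rw [smul_smul, ← sub_eq_zero, ← sub_smul]
            refine hann _ w ((hkerκ _).1 ?_)
            simp [Function.surjInv_eq hPκ, Algebra.smul_def])
          (fun c w1 w2 => smul_add _ _ _)
          (fun a c w => smul_comm _ _ _))
    have hz' : ((1 : ResidueField S) ⊗ₜ[P] (KaehlerDifferential.D k P i.1) : ResidueField S ⊗[P] Ω[P⁄k]) = 0 := by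
      rw [← hz]
      simp [KaehlerDifferential.cotangentComplexBaseChange_tmul]
    have hLi : L (KaehlerDifferential.D k P i.1) = 0 := by
      have h1 := congrArg (fun w => ε (LinearMap.lTensor (ResidueField S) L w)) hz'
      simp only [LinearMap.lTensor_tmul, map_zero] at h1
      show L (KaehlerDifferential.D k P i.1) = 0
      rw [← h1]
      show _ = Function.surjInv hPκ (1 : ResidueField S) • L (KaehlerDifferential.D k P i.1)
      conv_lhs => rw [← one_smul P (L (KaehlerDifferential.D k P i.1))]
      rw [← sub_eq_zero, ← sub_smul]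
      refine hann _ _ ((hkerκ _).1 ?_)
      simp [Function.surjInv_eq hPκ]
    rw [Derivation.liftKaehlerDifferential_comp_D] at hLi
    have hDi : χ (algebraMap P S i.1) - Ideal.Quotient.mk K i.1 = 0 := congrArg Subtype.val hLi
    rw [show algebraMap P S i.1 = 0 from i.2, map_zero, zero_sub, neg_eq_zero, Ideal.Quotient.eq_zero_iff_mem] at hDi
    obtain ⟨a, ha, b, hb, hab⟩ := Submodule.mem_sup.1 hDi
    have hbI : b ∈ I := by
      rw [show b = i.1 - a from by rw [← hab, add_sub_cancel_left]]
      exact sub_mem i.2 (Ideal.mul_le_right ha)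
    rw [← hab]
    exact add_mem ha (hAR ⟨hb, hbI⟩)
  have hz0 : ∀ x, x ∈ m * I → ∃ hx : x ∈ RingHom.ker (algebraMap P S),
      (1 : ResidueField S) ⊗ₜ[P] (⟨x, hx⟩ : RingHom.ker (algebraMap P S)) = 0 := by
    intro x hx
    refine Submodule.mul_induction_on hx (fun a ha b hb => ⟨Ideal.mul_mem_left _ a hb, ?_⟩) ?_
    · rw [show (⟨a * b, Ideal.mul_mem_left _ a hb⟩ : RingHom.ker (algebraMap P S)) = a • ⟨b, hb⟩ from rfl, ← TensorProduct.smul_tmul,
        Algebra.smul_def, mul_one, (hkerκ a).2 ha, TensorProduct.zero_tmul]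
    · intro x y ⟨hx, hx0⟩ ⟨hy, hy0⟩
      refine ⟨add_mem hx hy, ?_⟩
      rw [show (⟨x + y, add_mem hx hy⟩ : RingHom.ker (algebraMap P S)) = ⟨x, hx⟩ + ⟨y, hy⟩ from rfl, TensorProduct.tmul_add,
        hx0, hy0, add_zero]
  obtain ⟨_, h0⟩ := hz0 i.1 hi
  exact h0

theorem formallySmooth_of_adic (k S : Type u) [CommRing k] [IsNoetherianRing k] [CommRing S] [IsLocalRing S] [Algebra k S]
    [Algebra.EssFiniteType k S] (h : CAlgX.IsAdicFormallySmooth k S (maximalIdeal S)) : Algebra.FormallySmooth k S := by
  let B := Algebra.EssFiniteType.subalgebra k S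
  let M := Algebra.EssFiniteType.submonoid k S
  obtain ⟨n, f, hf⟩ := Algebra.FiniteType.iff_quotient_mvPolynomial''.mp (inferInstance : Algebra.FiniteType k B)
  let φ : MvPolynomial (Fin n) k →ₐ[k] S := (IsScalarTower.toAlgHom k B S).comp f
  let q : Ideal (MvPolynomial (Fin n) k) := (maximalIdeal S).comap φ.toRingHom
  haveI : q.IsPrime := Ideal.IsPrime.comap _
  let P := Localization.AtPrime q
  have hu : ∀ y : q.primeCompl, IsUnit (φ y) := fun y => by
    by_contra hy
    exact y.2 ((mem_maximalIdeal _).2 hy)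
  let g : P →ₐ[k] S := IsLocalization.liftAlgHom (M := q.primeCompl) (f := φ) hu
  letI : Algebra P S := g.toRingHom.toAlgebra
  haveI : IsScalarTower k P S := IsScalarTower.of_algebraMap_eq fun r => (g.commutes r).symm
  have hgl : ∀ x : MvPolynomial (Fin n) k, g (algebraMap _ P x) = φ x := fun x => by
    show IsLocalization.lift hu (algebraMap _ P x) = φ x
    exact IsLocalization.lift_eq hu x
  have hsur : Function.Surjective (algebraMap P S) := fun y => by
    obtain ⟨x, s, rfl⟩ := IsLocalization.exists_mk'_eq M y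
    obtain ⟨x, rfl⟩ := hf x
    obtain ⟨s0, hs0⟩ := hf s.1
    have hsu : IsUnit (φ s0) := by
      show IsUnit (algebraMap B S (f s0))
      rw [hs0]; exact s.2
    have hsq : s0 ∈ q.primeCompl := fun h2 => (mem_maximalIdeal _).1 h2 hsu
    refine ⟨IsLocalization.mk' P x (⟨s0, hsq⟩ : q.primeCompl), ?_⟩
    rw [IsLocalization.eq_mk'_iff_mul_eq]
    show g (IsLocalization.mk' P x (⟨s0, hsq⟩ : q.primeCompl)) * algebraMap B S s.1 = φ x
    rw [← hs0, show algebraMap B S (f s0) = φ s0 from rfl, ← hgl s0, ← map_mul, IsLocalization.mk'_spec, hgl]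
  haveI : Algebra.FormallyEtale (MvPolynomial (Fin n) k) P := .of_isLocalization q.primeCompl
  haveI : Algebra.FormallySmooth k P := .comp _ (MvPolynomial (Fin n) k) _
  haveI : Module.Free P Ω[P⁄k] :=
    .of_equiv (KaehlerDifferential.tensorKaehlerEquivOfFormallyEtale k (MvPolynomial (Fin n) k) P)
  haveI : Module.Finite P Ω[P⁄k] :=
    .equiv (KaehlerDifferential.tensorKaehlerEquivOfFormallyEtale k (MvPolynomial (Fin n) k) P)
  haveI : IsNoetherianRing P := IsLocalization.isNoetherianRing q.primeCompl P inferInstance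
  exact formallySmooth_of_adic_of_presentation k P S hsur h

end Groth.Agent.H2AdicFSLocal
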