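import Mathlib
import Groth.Prelude.Def_EGA41
set_option autoImplicit false

/-! Lifting of adically formally smooth algebras into adically complete rings. -/
namespace Groth.Agent.H2AdicLift
set_option backward.isDefEq.respectTransparency.types false
universe u

variable {A B C : Type u} [CommRing A] [CommRing B] [CommRing C] [Algebra A B] [Algebra A C]

theorem exists_lift (𝔞 : Ideal A) (𝔟 : Ideal B) (M : Ideal C) (hB : EGA41.IsFormallySmoothAdic A 𝔞 B 𝔟)
    [IsAdicComplete M C] {a : ℕ} (ha : (𝔞 ^ a).map (algebraMap A C) ≤ M) (J : Ideal C) {t : ℕ} (hJ : J ^ t ≤ M)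
    [IsHausdorff (M.map (Ideal.Quotient.mk J)) (C ⧸ J)] (u : B →ₐ[A] C ⧸ J) {k : ℕ}
    (hu : (𝔟 ^ k).map u.toRingHom ≤ M.map (Ideal.Quotient.mk J)) :
    ∃ v : B →ₐ[A] C, (∃ k : ℕ, (𝔟 ^ k).map v.toRingHom ≤ M) ∧ (Ideal.Quotient.mkₐ A J).comp v = u := by
  classical
  have huk : ∀ n, ∀ x ∈ 𝔟 ^ (k * n), ∀ c, Ideal.Quotient.mk J c = u x → c ∈ J ⊔ M ^ n := fun n x hx c hc => by
    have h : u x ∈ (M ^ n).map (Ideal.Quotient.mk J) := by
      rw [Ideal.map_pow]
      refine Ideal.pow_right_mono hu n ?_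
      rw [← Ideal.map_pow, ← pow_mul]
      exact Ideal.mem_map_of_mem u.toRingHom hx
    rw [← hc, Ideal.mem_map_iff_of_surjective _ Ideal.Quotient.mk_surjective] at h
    obtain ⟨d, hd, hd'⟩ := h
    exact Submodule.mem_sup.2 ⟨c - d, Ideal.Quotient.eq.1 hd'.symm, d, hd, sub_add_cancel c d⟩
  have hA : ∀ n, ∃ i, (𝔞 ^ i).map (algebraMap A (C ⧸ M ^ n)) = ⊥ := fun n => ⟨a * n, by
    rw [IsScalarTower.algebraMap_eq A C (C ⧸ M ^ n), ← Ideal.map_map, Ideal.map_eq_bot_iff_le_ker,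
      Ideal.Quotient.algebraMap_eq, Ideal.mk_ker, pow_mul, Ideal.map_pow]
    exact Ideal.pow_right_mono ha n⟩
  let N := k * (t + 1)
  let Good : ∀ n : ℕ, (B →ₐ[A] C ⧸ M ^ (n + 1)) → Prop := fun n g =>
    (∀ x c d, Ideal.Quotient.mk (M ^ (n + 1)) c = g x → Ideal.Quotient.mk J d = u x → c - d ∈ J ⊔ M ^ (n + 1)) ∧
    ∀ x ∈ 𝔟 ^ N, ∀ c, Ideal.Quotient.mk (M ^ (n + 1)) c = g x → c ∈ M
  have h0 : ∃ g, Good 0 g := by
    let K := J ⊔ M ^ (0 + 1)
    let Q : Ideal (C ⧸ M ^ (0 + 1)) := K.map (Ideal.Quotient.mk _)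
    have hKt : K ^ (t + 1) ≤ M := by
      refine (Ideal.sup_pow_add_le_pow_sup_pow (n := t) (m := 1)).trans (sup_le hJ ?_)
      rw [pow_one, zero_add, pow_one]
    have hQ : IsNilpotent Q := ⟨t + 1, by
      rw [← Ideal.map_pow, Ideal.zero_eq_bot, Ideal.map_eq_bot_iff_le_ker, Ideal.mk_ker, zero_add, pow_one]
      exact hKt⟩
    have hle : J ≤ RingHom.ker (Ideal.Quotient.mkₐ A Q |>.comp (Ideal.Quotient.mkₐ A (M ^ (0 + 1)))) :=
      fun x hx => Ideal.Quotient.eq_zero_iff_mem.2 (Ideal.mem_map_of_mem _ (Submodule.mem_sup_left hx))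
    let f := (Ideal.Quotient.liftₐ J _ fun x hx => hle hx).comp u
    obtain ⟨g, hg⟩ := hB (C ⧸ M ^ (0 + 1)) Q hQ (hA _) f ⟨k, fun x hx => by
      obtain ⟨c, hc⟩ := Ideal.Quotient.mk_surjective (u x)
      show Ideal.Quotient.liftₐ J _ (fun x hx => hle hx) (u x) = 0
      rw [← hc]
      exact Ideal.Quotient.eq_zero_iff_mem.2 (Ideal.mem_map_of_mem _ (by
        simpa [K] using huk 1 x (by simpa using hx) c hc))⟩
    have hgood : ∀ x c d, Ideal.Quotient.mk (M ^ (0 + 1)) c = g x → Ideal.Quotient.mk J d = u x →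
        c - d ∈ J ⊔ M ^ (0 + 1) := fun x c d hc hd => by
      have h := AlgHom.congr_fun hg x
      simp only [f, AlgHom.comp_apply, ← hc, ← hd, Ideal.Quotient.mkₐ_eq_mk] at h
      have h2 : Ideal.Quotient.mk Q (Ideal.Quotient.mk _ c) = Ideal.Quotient.mk Q (Ideal.Quotient.mk _ d) := h
      rw [Ideal.Quotient.eq, ← map_sub, Ideal.mem_map_iff_of_surjective _ Ideal.Quotient.mk_surjective] at h2
      obtain ⟨y, hy, hy'⟩ := h2
      rw [← sub_sub_self y (c - d)]
      exact sub_mem hy (Submodule.mem_sup_right (Ideal.Quotient.eq.1 hy'))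
    refine ⟨g, hgood, fun x hx c hc => ?_⟩
    have h1 : (𝔟 ^ k).map g.toRingHom ≤ Q := by
      rw [Ideal.map_le_iff_le_comap]
      intro y hy
      obtain ⟨c', hc'⟩ := Ideal.Quotient.mk_surjective (g y)
      obtain ⟨d', hd'⟩ := Ideal.Quotient.mk_surjective (u y)
      show g y ∈ Q
      rw [← hc', ← sub_add_cancel c' d']
      exact Ideal.mem_map_of_mem _ (add_mem (hgood y c' d' hc' hd')
        (by simpa [K] using huk 1 y (by simpa using hy) d' hd'))
    have h2 : g x ∈ Q ^ (t + 1) := by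
      refine Ideal.pow_right_mono h1 _ ?_
      rw [← Ideal.map_pow, ← pow_mul]
      exact Ideal.mem_map_of_mem g.toRingHom hx
    rw [← Ideal.map_pow, ← hc, Ideal.mem_map_iff_of_surjective _ Ideal.Quotient.mk_surjective] at h2
    obtain ⟨y, hy, hy'⟩ := h2
    rw [← sub_sub_self y c]
    refine sub_mem (hKt hy) ?_
    have := Ideal.Quotient.eq.1 hy'
    rwa [zero_add, pow_one] at this
  have hstep : ∀ n g, Good n g → ∃ g', Good (n + 1) g' ∧
      (Ideal.Quotient.factorPow M (Nat.le_succ (n + 1))).comp g'.toRingHom = g.toRingHom := by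
    intro n g hg
    let K := J ⊔ M ^ (n + 1 + 1)
    let L := C ⧸ M ^ (n + 1 + 1)
    let Q : Ideal L := (M ^ (n + 1) ⊓ K).map (Ideal.Quotient.mk _)
    have hQk : M ^ (n + 1 + 1) ≤ M ^ (n + 1) ⊓ K := le_inf (Ideal.pow_le_pow_right (by omega)) le_sup_right
    have hQ2 : Q ^ 2 = ⊥ := by
      rw [← Ideal.map_pow, Ideal.map_eq_bot_iff_le_ker, Ideal.mk_ker]
      refine (Ideal.pow_right_mono inf_le_left 2).trans ?_
      rw [← pow_mul]
      exact Ideal.pow_le_pow_right (by omega)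
    let φ : C →ₐ[A] L ⧸ Q := (Ideal.Quotient.mkₐ A Q).comp (Ideal.Quotient.mkₐ A _)
    have hφ : ∀ x y, x - y ∈ M ^ (n + 1) → x - y ∈ K → φ x = φ y := fun x y h1 h2 => by
      rw [← sub_eq_zero, ← map_sub]
      exact Ideal.Quotient.eq_zero_iff_mem.2 (Ideal.mem_map_of_mem _ ⟨h1, h2⟩)
    have hex : ∀ x, ∃ c, Ideal.Quotient.mk (M ^ (n + 1)) c = g x ∧ ∀ d, Ideal.Quotient.mk J d = u x → c - d ∈ K := by
      intro x
      obtain ⟨c1, hc1⟩ := Ideal.Quotient.mk_surjective (g x)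
      obtain ⟨c2, hc2⟩ := Ideal.Quotient.mk_surjective (u x)
      obtain ⟨p, hp, q, hq, hpq⟩ := Submodule.mem_sup.1 (hg.1 x c1 c2 hc1 hc2)
      refine ⟨c1 - q, ?_, fun d hd => Submodule.mem_sup_left ?_⟩
      · rw [map_sub, hc1, Ideal.Quotient.eq_zero_iff_mem.2 hq, sub_zero]
      · rw [show c1 - q - d = p + (c2 - d) by linear_combination -hpq]
        exact add_mem hp (Ideal.Quotient.eq.1 (hc2.trans hd.symm))
    choose c hc1 hc2 using hex
    have huniq : ∀ x y, Ideal.Quotient.mk (M ^ (n + 1)) y = g x → (∃ d, Ideal.Quotient.mk J d = u x ∧ y - d ∈ K) →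
        φ (c x) = φ y := fun x y h1 ⟨d, hd, hd'⟩ => hφ _ _ (Ideal.Quotient.eq.1 ((hc1 x).trans h1.symm)) (by
      rw [show c x - y = (c x - d) - (y - d) by ring]
      exact sub_mem (hc2 x d hd) hd')
    choose d hd using fun x => Ideal.Quotient.mk_surjective (u x)
    let f : B →ₐ[A] L ⧸ Q :=
      { toFun := fun x => φ (c x)
        map_one' := (huniq 1 1 (by simp) ⟨1, by simp, by simp⟩).trans (map_one φ)
        map_zero' := (huniq 0 0 (by simp) ⟨0, by simp, by simp⟩).trans (map_zero φ)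
        map_mul' := fun x y => (huniq _ (c x * c y) (by rw [map_mul, map_mul, hc1, hc1]) ⟨d x * d y, by rw [map_mul, map_mul, hd, hd], by
          rw [show c x * c y - d x * d y = (c x - d x) * c y + d x * (c y - d y) by ring]
          exact add_mem (Ideal.mul_mem_right _ _ (hc2 x _ (hd x))) (Ideal.mul_mem_left _ _ (hc2 y _ (hd y)))⟩).trans (map_mul φ _ _)
        map_add' := fun x y => (huniq _ (c x + c y) (by rw [map_add, map_add, hc1, hc1]) ⟨d x + d y, by rw [map_add, map_add, hd, hd], by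
          rw [show c x + c y - (d x + d y) = (c x - d x) + (c y - d y) by ring]
          exact add_mem (hc2 x _ (hd x)) (hc2 y _ (hd y))⟩).trans (map_add φ _ _)
        commutes' := fun r => (huniq _ (algebraMap A C r)
          ((Ideal.Quotient.mkₐ A _).commutes r |>.trans (g.commutes r).symm)
          ⟨algebraMap A C r, ((Ideal.Quotient.mkₐ A _).commutes r |>.trans (u.commutes r).symm), by simp⟩).trans (φ.commutes r) }
    have hfk : ∀ x ∈ 𝔟 ^ (N * (n + 1) + k * (n + 1 + 1)), f x = 0 := fun x hx => by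
      refine (huniq x 0 ?_ ⟨d x, hd x, ?_⟩).trans (map_zero φ)
      · have h1 : (𝔟 ^ N).map g.toRingHom ≤ M.map (Ideal.Quotient.mk (M ^ (n + 1))) := by
          rw [Ideal.map_le_iff_le_comap]
          intro y hy
          obtain ⟨c', hc'⟩ := Ideal.Quotient.mk_surjective (g y)
          show g y ∈ M.map (Ideal.Quotient.mk (M ^ (n + 1)))
          rw [← hc']
          exact Ideal.mem_map_of_mem _ (hg.2 y hy c' hc')
        have h2 : g x ∈ (M.map (Ideal.Quotient.mk (M ^ (n + 1)))) ^ (n + 1) := by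
          refine Ideal.pow_right_mono h1 _ ?_
          rw [← Ideal.map_pow, ← pow_mul]
          exact Ideal.mem_map_of_mem g.toRingHom (Ideal.pow_le_pow_right (Nat.le_add_right _ _) hx)
        rw [← Ideal.map_pow, Ideal.map_quotient_self, Ideal.mem_bot] at h2
        rw [h2, map_zero]
      · rw [zero_sub]
        exact neg_mem (huk (n + 1 + 1) x (Ideal.pow_le_pow_right (Nat.le_add_left _ _) hx) _ (hd x))
    obtain ⟨g', hg'⟩ := hB L Q ⟨2, hQ2⟩ (hA _) f ⟨_, hfk⟩
    have hmem : ∀ x e, Ideal.Quotient.mk (M ^ (n + 1 + 1)) e = g' x → e - c x ∈ M ^ (n + 1) ⊓ K := fun x e he => by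
      have h := AlgHom.congr_fun hg' x
      simp only [AlgHom.comp_apply, ← he] at h
      have h2 : Ideal.Quotient.mk (M ^ (n + 1 + 1)) (e - c x) ∈ Q := by
        rw [map_sub]
        exact Ideal.Quotient.eq.1 h
      rw [Ideal.mem_map_iff_of_surjective _ Ideal.Quotient.mk_surjective] at h2
      obtain ⟨y, hy, hy'⟩ := h2
      rw [← sub_sub_self y (e - c x)]
      exact sub_mem hy (hQk (Ideal.Quotient.eq.1 hy'))
    refine ⟨g', ⟨fun x e d' he hd' => ?_, fun x hx e he => ?_⟩, RingHom.ext fun x => ?_⟩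
    · rw [show e - d' = (e - c x) + (c x - d') by ring]
      exact add_mem (hmem x e he).2 (hc2 x d' hd')
    · rw [← sub_add_cancel e (c x)]
      exact add_mem (Ideal.pow_le_self (Nat.succ_ne_zero n) (hmem x e he).1) (hg.2 x hx _ (hc1 x))
    · obtain ⟨e, he⟩ := Ideal.Quotient.mk_surjective (g' x)
      show Ideal.Quotient.factorPow M (Nat.le_succ (n + 1)) (g' x) = g x
      rw [← he, ← hc1 x]
      exact Ideal.Quotient.eq.2 (hmem x e he).1
  choose next hnext1 hnext2 using hstep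
  let seq : ∀ n, {g : B →ₐ[A] C ⧸ M ^ (n + 1) // Good n g} :=
    fun n => Nat.rec ⟨h0.choose, h0.choose_spec⟩ (fun n g => ⟨next n g.1 g.2, hnext1 n g.1 g.2⟩) n
  have hmono : StrictMono fun n : ℕ => n + 1 := fun a b h => Nat.add_lt_add_right h 1
  have hcomp : ∀ {m}, (Ideal.Quotient.factorPow M (hmono.monotone (Nat.le_succ m))).comp (seq (m + 1)).1.toRingHom =
      (seq m).1.toRingHom := fun {m} => hnext2 m (seq m).1 (seq m).2
  let v0 : B →+* C := IsAdicComplete.StrictMono.liftRingHom M hmono (fun n => (seq n).1.toRingHom) hcomp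
  have hv : ∀ n x, Ideal.Quotient.mk (M ^ (n + 1)) (v0 x) = (seq n).1 x := fun n x =>
    IsAdicComplete.StrictMono.mk_liftRingHom M hmono (fun n => (seq n).1.toRingHom) hcomp x
  have heq : ∀ x y : C, (∀ n : ℕ, Ideal.Quotient.mk (M ^ (n + 1)) x = Ideal.Quotient.mk _ y) → x = y := fun x y h =>
    sub_eq_zero.1 (IsHausdorff.haus' (I := M) _ fun n => by
      rw [SModEq.zero, smul_eq_mul, Ideal.mul_top]
      exact Ideal.pow_le_pow_right (Nat.le_succ n) (Ideal.Quotient.eq.1 (h n)))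
  refine ⟨⟨v0, fun r => heq _ _ fun n => (hv n _).trans ((seq n).1.commutes r)⟩, ⟨N, ?_⟩, AlgHom.ext fun x => ?_⟩
  · rw [Ideal.map_le_iff_le_comap]
    intro x hx
    exact (seq 0).2.2 x hx _ (hv 0 x)
  · obtain ⟨e, he⟩ := Ideal.Quotient.mk_surjective (u x)
    show Ideal.Quotient.mk J (v0 x) = u x
    rw [← he]
    refine sub_eq_zero.1 (IsHausdorff.haus' (I := M.map (Ideal.Quotient.mk J)) _ fun n => ?_)
    rw [SModEq.zero, smul_eq_mul, Ideal.mul_top, ← map_sub]
    obtain ⟨p, hp, q, hq, hpq⟩ := Submodule.mem_sup.1 ((seq n).2.1 x (v0 x) e (hv n x) he)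
    rw [← hpq, map_add, Ideal.Quotient.eq_zero_iff_mem.2 hp, zero_add, ← Ideal.map_pow]
    exact Ideal.mem_map_of_mem _ (Ideal.pow_le_pow_right (Nat.le_succ n) hq)

theorem hausdorff_of_ringEquiv {R S : Type u} [CommRing R] [CommRing S] (e : R ≃+* S) (I : Ideal R) (M : Ideal S)
    [IsHausdorff M S] (h : I.map e.toRingHom ≤ M) : IsHausdorff I R := by
  refine ⟨fun x hx => e.injective ((?_ : e x = 0).trans (map_zero e).symm)⟩
  refine IsHausdorff.haus' (I := M) _ fun n => ?_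
  have h1 := hx n
  rw [SModEq.zero, smul_eq_mul, Ideal.mul_top] at h1 ⊢
  have h2 := Ideal.pow_right_mono h n
  rw [← Ideal.map_pow] at h2
  exact h2 (Ideal.mem_map_of_mem e.toRingHom h1)

/-- Sections of surjections onto the algebra. -/
theorem exists_section {A B E : Type u} [CommRing A] [CommRing B] [CommRing E] [Algebra A B] [Algebra A E]
    (M : Ideal B) [IsHausdorff M B] (M' : Ideal E) [IsAdicComplete M' E] (hB : EGA41.IsFormallySmoothAdic A ⊥ B M)
    (π : E →ₐ[A] B) (hπ : Function.Surjective π) (hM : M'.map π.toRingHom = M) {t : ℕ}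
    (hker : RingHom.ker π.toRingHom ^ t ≤ M') : ∃ v : B →ₐ[A] E, ∀ b, π (v b) = b := by
  let K := RingHom.ker π.toRingHom
  let e : (E ⧸ K) ≃ₐ[A] B := Ideal.quotientKerAlgEquivOfSurjective hπ
  have hMK : (M'.map (Ideal.Quotient.mk K)).map e.toRingEquiv.toRingHom ≤ M := by
    rw [Ideal.map_map, ← hM]
    exact le_of_eq rfl
  haveI := hausdorff_of_ringEquiv e.toRingEquiv (M'.map (Ideal.Quotient.mk K)) M hMK
  obtain ⟨v, -, hv⟩ := exists_lift (a := 1) (k := 1) (⊥ : Ideal A) M M' hB (by simp) K hker e.symm.toAlgHom (by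
    rw [pow_one, Ideal.map_le_iff_le_comap]
    intro b hb
    rw [← hM] at hb
    replace hb := (Ideal.mem_map_iff_of_surjective π.toRingHom hπ).1 hb
    obtain ⟨y, hy, rfl⟩ := hb
    show e.symm (π y) ∈ M'.map (Ideal.Quotient.mk K)
    have : e.symm (π y) = Ideal.Quotient.mk K y := by
      rw [AlgEquiv.symm_apply_eq]; rfl
    rw [this]
    exact Ideal.mem_map_of_mem _ hy)
  refine ⟨v, fun b => ?_⟩
  have h := congrArg e (AlgHom.congr_fun hv b)
  rw [show (e.symm.toAlgHom) b = e.symm b from rfl, e.apply_symm_apply] at h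
  exact h

end Groth.Agent.H2AdicLift
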