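import Mathlib
import Groth.Prelude.Def_MoreMor

/-! Affine stratifications exist exactly on qcqs schemes. -/

universe u

open CategoryTheory Limits AlgebraicGeometry TopologicalSpace

namespace Groth.Agent.H2AffStrat

theorem qcqs_of_stratification {X : Scheme.{u}} {n : ℕ} (h : MoreMor.HasAffineStratification X n) :
    CompactSpace X ∧ QuasiSeparatedSpace X := by
  obtain ⟨s, -, h⟩ := h
  choose Z ι hi hZ haff hr using h
  have hcov : ∀ A : Set X, A = ⋃ i, ι i '' (ι i ⁻¹' A) := fun A => by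
    ext x
    simp only [Set.mem_iUnion, Set.mem_image, Set.mem_preimage]
    refine ⟨fun hx => ?_, fun ⟨i, z, hz, e⟩ => e ▸ hz⟩
    obtain ⟨z, hz⟩ : x ∈ Set.range (ι (s x)) := by rw [hr]; rfl
    exact ⟨s x, z, hz.symm ▸ hx, hz⟩
  refine ⟨⟨?_⟩, ⟨fun A B hA hAc hB hBc => ?_⟩⟩
  · rw [hcov Set.univ]
    refine isCompact_iUnion fun i => IsCompact.image ?_ (ι i).continuous
    haveI := hZ i
    exact isCompact_univ
  · rw [hcov (A ∩ B)]
    refine isCompact_iUnion fun i => IsCompact.image ?_ (ι i).continuous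
    haveI := hZ i
    haveI := haff i
    exact QuasiSeparatedSpace.inter_isCompact _ _ (hA.preimage (ι i).continuous) ((ι i).isCompact_preimage (U := ⟨A, hA⟩) hAc)
      (hB.preimage (ι i).continuous) ((ι i).isCompact_preimage (U := ⟨B, hB⟩) hBc)

theorem bitsum_lt {m : ℕ} (P : Finset (Fin m)) : ∑ i ∈ P, 2 ^ (i : ℕ) < 2 ^ m :=
  lt_of_le_of_lt (Finset.sum_le_sum_of_subset (Finset.subset_univ P)) (by
    rw [Fin.sum_univ_eq_sum_range (fun i => 2 ^ i) m]
    exact Nat.geomSum_lt le_rfl (by simp))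

theorem bitsum_injective {m : ℕ} {P Q : Finset (Fin m)} (h : ∑ i ∈ P, 2 ^ (i : ℕ) = ∑ i ∈ Q, 2 ^ (i : ℕ)) : P = Q := by
  have h' : ∑ i ∈ P.map Fin.valEmbedding, 2 ^ i = ∑ i ∈ Q.map Fin.valEmbedding, 2 ^ i := by simpa using h
  have := congrArg (fun n : ℕ => n.bitIndices.toFinset) h'
  simp only [Finset.toFinset_bitIndices_sum_two_pow] at this
  exact Finset.map_injective _ this

theorem exists_stratum {X : Scheme.{u}} (W : X.Opens) (hW : IsAffineOpen W) (C : Closeds X) :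
    ∃ (Z : Scheme.{u}) (ι : Z ⟶ X), IsImmersion ι ∧ IsAffine Z ∧ Set.range ι = (C : Set X) ∩ W := by
  haveI : IsAffine (W : Scheme.{u}) := hW
  let C' : Closeds (W : Scheme.{u}) := ⟨W.ι ⁻¹' C, C.isClosed.preimage W.ι.continuous⟩
  let J := Scheme.IdealSheafData.vanishingIdeal C'
  haveI : IsAffine J.subscheme := isAffine_of_isAffineHom J.subschemeι
  refine ⟨J.subscheme, J.subschemeι ≫ W.ι, inferInstance, inferInstance, ?_⟩
  rw [Scheme.Hom.comp_base, TopCat.coe_comp, Set.range_comp, Scheme.IdealSheafData.range_subschemeι,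
    Scheme.IdealSheafData.coe_support_vanishingIdeal]
  show W.ι '' (W.ι ⁻¹' (C : Set X)) = _
  rw [Set.image_preimage_eq_inter_range, Scheme.Opens.range_ι]

theorem stratification_of_qcqs (X : Scheme.{u}) [CompactSpace X] [QuasiSeparatedSpace X] :
    ∃ n, MoreMor.HasAffineStratification X n := by
  classical
  obtain ⟨t, ht, htop⟩ := isCompact_iff_finite_and_eq_biUnion_affineOpens.mp (show IsCompact ((⊤ : X.Opens) : Set X) from isCompact_univ)
  obtain ⟨n, ⟨en⟩⟩ := ht.to_subtype.exists_equiv_fin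
  let U : Fin n → X.Opens := fun j => (en.symm j).1.1
  have hU : ∀ j, IsAffineOpen (U j) := fun j => (en.symm j).1.2
  have hcov : ∀ x : X, ∃ j, x ∈ U j := fun x => by
    have hx : x ∈ (⊤ : X.Opens) := trivial
    rw [htop] at hx
    simp only [Opens.mem_iSup] at hx
    obtain ⟨V, hV, hxV⟩ := hx
    exact ⟨en ⟨V, hV⟩, by simpa [U] using hxV⟩
  -- refining basic opens
  have href : ∀ j k, ∃ T : Finset Γ(X, U j), ∀ x ∈ U j ⊓ U k, ∃ f ∈ T, x ∈ X.basicOpen f ∧ X.basicOpen f ≤ U k := by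
    intro j k
    have hc : IsCompact ((U j ⊓ U k : X.Opens) : Set X) :=
      QuasiSeparatedSpace.inter_isCompact _ _ (U j).2 (hU j).isCompact (U k).2 (hU k).isCompact
    obtain ⟨T, hT⟩ := hc.elim_finite_subcover (fun f : {f : Γ(X, U j) // X.basicOpen f ≤ U k} => (X.basicOpen f.1 : Set X))
      (fun f => (X.basicOpen f.1).2) (fun x hx => by
        obtain ⟨f, hf, hxf⟩ := (hU j).exists_basicOpen_le (V := U k) ⟨x, hx.2⟩ hx.1
        exact Set.mem_iUnion.2 ⟨⟨f, hf⟩, hxf⟩)
    refine ⟨T.map (Function.Embedding.subtype _), fun x hx => ?_⟩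
    obtain ⟨f, hfT, hxf⟩ := Set.mem_iUnion₂.1 (hT hx)
    exact ⟨f.1, Finset.mem_map_of_mem _ hfT, hxf, f.2⟩
  choose T hT using href
  let I := Σ j : Fin n, ↥(Finset.univ.biUnion (T j))
  obtain ⟨m, ⟨em⟩⟩ := Finite.exists_equiv_fin I
  let D : Fin m → X.Opens := fun i => X.basicOpen (em.symm i).2.1
  let fst : X → Fin n := fun x => (Finset.univ.filter fun j => x ∈ U j).min' (by
    obtain ⟨j, hj⟩ := hcov x; exact ⟨j, by simp [hj]⟩)
  have hfst : ∀ x, x ∈ U (fst x) ∧ ∀ j, x ∈ U j → fst x ≤ j := fun x => by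
    refine ⟨(Finset.mem_filter.1 (Finset.min'_mem (Finset.univ.filter fun j => x ∈ U j) _)).2, fun j hj => ?_⟩
    exact Finset.min'_le _ _ (by simp [hj])
  let pat : X → Finset (Fin m) := fun x => Finset.univ.filter fun i => (em.symm i).1 = fst x ∧ x ∈ D i
  let rk : X → ℕ := fun x => (n - 1 - (fst x : ℕ)) * 2 ^ m + ∑ i ∈ pat x, 2 ^ (i : ℕ)
  have hrk : ∀ x, rk x < n * 2 ^ m + 1 := fun x => by
    have h1 := bitsum_lt (pat x)
    have h2 : (n - 1 - (fst x : ℕ)) + 1 ≤ n := by have := (fst x).2; omega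
    have h3 := Nat.mul_le_mul_right (2 ^ m) h2
    rw [add_mul, one_mul] at h3
    simp only [rk]; omega
  have hkey : ∀ x y, rk x = rk y → fst x = fst y ∧ pat x = pat y := fun x y h => by
    have h1 := bitsum_lt (pat x); have h2 := bitsum_lt (pat y)
    have hq := congrArg (· / 2 ^ m) h
    simp only [rk] at hq h
    rw [mul_comm, Nat.mul_add_div (by positivity), mul_comm (n - 1 - (fst y : ℕ)), Nat.mul_add_div (by positivity),
      Nat.div_eq_of_lt h1, Nat.div_eq_of_lt h2] at hq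
    have he : fst x = fst y := Fin.ext (by have := (fst x).2; have := (fst y).2; omega)
    exact ⟨he, bitsum_injective (by rw [he] at h; omega)⟩
  let Wset : X → Set X := fun x => (U (fst x) : Set X) ∩ ⋂ i ∈ (↑(pat x) : Set (Fin m)), (D i : Set X)
  have hWmem : ∀ x, x ∈ Wset x := fun x => ⟨(hfst x).1, Set.mem_iInter₂.2 fun i hi => (Finset.mem_filter.1 hi).2.2⟩
  have hmono : ∀ x y, y ∈ Wset x → rk x ≤ rk y := fun x y hy => by
    have hle := (hfst y).2 _ hy.1
    rcases lt_or_eq_of_le hle with hlt | heq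
    · have h1 := bitsum_lt (pat x)
      have h2 : (n - 1 - (fst x : ℕ)) + 1 ≤ n - 1 - (fst y : ℕ) := by
        have := (fst x).2; have : (fst y : ℕ) < fst x := hlt; omega
      have h3 := Nat.mul_le_mul_right (2 ^ m) h2
      rw [add_mul, one_mul] at h3
      simp only [rk]; omega
    · have hsub : pat x ⊆ pat y := fun i hi => Finset.mem_filter.2
        ⟨Finset.mem_univ _, heq ▸ (Finset.mem_filter.1 hi).2.1, Set.mem_iInter₂.1 hy.2 i hi⟩
      have h2 := Finset.sum_le_sum_of_subset (f := fun i : Fin m => 2 ^ (i : ℕ)) hsub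
      simp only [rk, heq]; omega
  have hWopen : ∀ x, IsOpen (Wset x) := fun x => (U (fst x)).2.inter ((Finset.finite_toSet _).isOpen_biInter fun i _ => (D i).2)
  have hclosed : ∀ k : ℕ, IsClosed {x | rk x ≤ k} := fun k => by
    rw [← isOpen_compl_iff, isOpen_iff_forall_mem_open]
    exact fun x hx => ⟨Wset x, fun y hy hle => hx ((hmono x y hy).trans hle), hWopen x, hWmem x⟩
  have hWaff : ∀ x, ∃ W : X.Opens, IsAffineOpen W ∧ (W : Set X) = Wset x := by
    intro x
    suffices h : ∀ P : Finset (Fin m), (∀ i ∈ P, (em.symm i).1 = fst x) →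
        ∃ f : Γ(X, U (fst x)), (X.basicOpen f : Set X) = (U (fst x) : Set X) ∩ ⋂ i ∈ (↑P : Set (Fin m)), (D i : Set X) by
      obtain ⟨f, hf⟩ := h (pat x) fun i hi => (Finset.mem_filter.1 hi).2.1
      exact ⟨X.basicOpen f, (hU _).basicOpen f, hf⟩
    intro P
    induction P using Finset.induction_on with
    | empty => exact fun _ => ⟨1, by simp⟩
    | insert i P hi ih =>
      intro h
      obtain ⟨f, hf⟩ := ih fun i' hi' => h i' (Finset.mem_insert_of_mem hi')
      have e : (em.symm i).1 = fst x := h i (Finset.mem_insert_self i P)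
      obtain ⟨g, hg⟩ : ∃ g : Γ(X, U (fst x)), X.basicOpen g = D i := by
        rw [← e]; exact ⟨_, rfl⟩
      refine ⟨g * f, ?_⟩
      rw [X.basicOpen_mul, Opens.coe_inf, hf, hg, Finset.coe_insert, Set.biInter_insert]
      exact Set.inter_left_comm _ _ _
  refine ⟨n * 2 ^ m, fun x => ⟨rk x, hrk x⟩, fun i => hclosed i, fun i => ?_⟩
  by_cases hne : ∃ x, rk x = i
  · obtain ⟨x₀, hx₀⟩ := hne
    obtain ⟨W, hW, hWe⟩ := hWaff x₀
    let C : Closeds X := ⟨{x | rk x ≤ i}, hclosed i⟩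
    obtain ⟨Z, ι, _, _, hr⟩ := exists_stratum W hW C
    have hlev : Set.range ι = {x | (⟨rk x, hrk x⟩ : Fin (n * 2 ^ m + 1)) = i} := by
      rw [hr, hWe]
      ext y
      simp only [Set.mem_inter_iff, Set.mem_setOf_eq, Fin.ext_iff]
      constructor
      · rintro ⟨hy, hy'⟩
        exact le_antisymm hy (hx₀ ▸ hmono x₀ y hy')
      · intro hy
        obtain ⟨h1, h2⟩ := hkey y x₀ (hy.trans hx₀.symm)
        exact ⟨le_of_eq hy, by rw [show Wset x₀ = Wset y by simp only [Wset, h1, h2]]; exact hWmem y⟩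
    refine ⟨Z, ι, ‹_›, ‹_›, ?_, hlev⟩
    refine isAffineHom_of_forall_exists_isAffineOpen ι fun y => ?_
    obtain ⟨k, hk⟩ := hcov y
    refine ⟨U k, hk, hU k, ?_⟩
    have hkeyz : ∀ z : Z, fst (ι z) = fst x₀ ∧ pat (ι z) = pat x₀ := fun z => by
      have hz : (⟨rk (ι z), hrk _⟩ : Fin (n * 2 ^ m + 1)) = i := (Set.ext_iff.1 hlev (ι z)).1 ⟨z, rfl⟩
      exact hkey _ _ ((congrArg Fin.val hz).trans hx₀.symm)
    by_cases hz : ∃ z : Z, ι z ∈ U k
    · obtain ⟨z, hz⟩ := hz
      have htopZ : ι ⁻¹ᵁ U k = ⊤ := by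
        refine top_le_iff.1 fun z' _ => ?_
        obtain ⟨f, hfT, hxf, hfle⟩ := hT (fst (ι z)) k (ι z) ⟨(hfst _).1, hz⟩
        let i0 : Fin m := em ⟨fst (ι z), f, Finset.mem_biUnion.2 ⟨k, Finset.mem_univ _, hfT⟩⟩
        have hDi : D i0 = X.basicOpen f := by simp only [D, i0]; rw [Equiv.symm_apply_apply]
        have hi0 : i0 ∈ pat (ι z) := Finset.mem_filter.2 ⟨Finset.mem_univ _, by simp [i0], by rw [hDi]; exact hxf⟩
        rw [(hkeyz z).2, ← (hkeyz z').2] at hi0
        have h3 := (Finset.mem_filter.1 hi0).2.2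
        rw [hDi] at h3
        exact hfle h3
      rw [htopZ]; exact isAffineOpen_top Z
    · push Not at hz
      have : ι ⁻¹ᵁ U k = ⊥ := by
        ext z; simpa using hz z
      rw [this]; exact isAffineOpen_bot Z
  · push Not at hne
    refine ⟨∅, Scheme.emptyTo X, inferInstance, inferInstance, ?_, ?_⟩
    · exact isAffineHom_of_forall_exists_isAffineOpen _ fun y => by
        obtain ⟨k, hk⟩ := hcov y
        exact ⟨U k, hk, hU k, by rw [show Scheme.emptyTo X ⁻¹ᵁ U k = ⊥ from Opens.ext (Set.eq_empty_of_isEmpty _)]; exact isAffineOpen_bot _⟩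
    · rw [Set.range_eq_empty, eq_comm, Set.eq_empty_iff_forall_notMem]
      exact fun x hx => hne x (congrArg Fin.val hx)

theorem stratification_iff (X : Scheme.{u}) :
    (∃ n : ℕ, MoreMor.HasAffineStratification X n) ↔ CompactSpace X ∧ QuasiSeparatedSpace X :=
  ⟨fun ⟨_, h⟩ => qcqs_of_stratification h, fun ⟨_, _⟩ => stratification_of_qcqs X⟩

end Groth.Agent.H2AffStrat
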