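import Mathlib

/-! Flatness over Artinian rings descends along injective ring maps. -/

universe u

open TensorProduct

namespace Groth.Agent.H2ArtFlat

theorem flat_local {R S M : Type u} [CommRing R] [CommRing S] [IsArtinianRing R] [IsLocalRing R] [Algebra R S]
    (hinj : Function.Injective (algebraMap R S)) [AddCommGroup M] [Module R M] [Module.Flat S (S ⊗[R] M)] :
    Module.Flat R M := by
  classical
  let m := IsLocalRing.maximalIdeal R
  obtain ⟨N, hN⟩ : ∃ N, m ^ N = ⊥ := by
    obtain ⟨N, hN⟩ := IsArtinianRing.isNilpotent_jacobson_bot (R := R)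
    rw [IsLocalRing.jacobson_eq_maximalIdeal (⊥ : Ideal R) bot_ne_top] at hN
    exact ⟨N, hN⟩
  haveI : m.IsMaximal := IsLocalRing.maximalIdeal.isMaximal R
  letI : Field (R ⧸ m) := Ideal.Quotient.field m
  let b := Module.Free.chooseBasis (R ⧸ m) ((R ⧸ m) ⊗[R] M)
  have hsurj : Function.Surjective (TensorProduct.mk R (R ⧸ m) M 1) :=
    LinearMap.range_eq_top.1 (eq_top_iff.2 fun z _ => by
      induction z using TensorProduct.induction_on with
      | zero => exact zero_mem _
      | tmul a x =>
        obtain ⟨a, rfl⟩ := Ideal.Quotient.mk_surjective a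
        refine ⟨a • x, ?_⟩
        rw [TensorProduct.mk_apply, TensorProduct.tmul_smul, TensorProduct.smul_tmul']
        congr 1
        rw [Algebra.smul_def, mul_one]; rfl
      | add x y hx hy => exact add_mem (hx trivial) (hy trivial))
  choose e he using fun i => hsurj (b i)
  let T : _ → (M →ₗ[R] R ⧸ m) := fun l => ((b.coord l).restrictScalars R).comp (TensorProduct.mk R (R ⧸ m) M 1)
  have hT : ∀ j l, T l (e j) = if j = l then 1 else 0 := fun j l => by
    show b.coord l (TensorProduct.mk R (R ⧸ m) M 1 (e j)) = _
    rw [he, Module.Basis.coord_apply, Module.Basis.repr_self, Finsupp.single_apply]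
  have hspan : Submodule.span R (Set.range e) = ⊤ := by
    set Q := Submodule.span R (Set.range e)
    have h1 : ∀ x, ∃ q ∈ Q, x - q ∈ m • (⊤ : Submodule R M) := by
      intro x
      have hx := b.linearCombination_repr (TensorProduct.mk R (R ⧸ m) M 1 x)
      rw [Finsupp.linearCombination_apply] at hx
      choose r hr using fun l => Ideal.Quotient.mk_surjective (b.repr (TensorProduct.mk R (R ⧸ m) M 1 x) l)
      refine ⟨∑ l ∈ (b.repr (TensorProduct.mk R (R ⧸ m) M 1 x)).support, r l • e l,
        Submodule.sum_mem _ fun l _ => Submodule.smul_mem _ _ (Submodule.subset_span ⟨l, rfl⟩), ?_⟩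
      have h2 : TensorProduct.mk R (R ⧸ m) M 1 (∑ l ∈ (b.repr (TensorProduct.mk R (R ⧸ m) M 1 x)).support, r l • e l) =
          TensorProduct.mk R (R ⧸ m) M 1 x := by
        conv_rhs => rw [← hx]
        rw [map_sum, Finsupp.sum]
        refine Finset.sum_congr rfl fun l _ => ?_
        rw [map_smul, he, ← hr l]
        exact (algebraMap_smul (R ⧸ m) (r l) (b l)).symm
      have h3 := congrArg (TensorProduct.quotTensorEquivQuotSMul M m) (sub_eq_zero.2 h2.symm)
      rw [← map_sub, map_zero, TensorProduct.mk_apply, show (1 : R ⧸ m) = Ideal.Quotient.mk m 1 from rfl,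
        TensorProduct.quotTensorEquivQuotSMul_mk_tmul, one_smul] at h3
      exact (Submodule.Quotient.mk_eq_zero _).1 h3
    have h4 : ∀ n, (⊤ : Submodule R M) ≤ Q ⊔ m ^ n • ⊤ := by
      intro n
      induction n with
      | zero => simp
      | succ n ih =>
        have h5 : (⊤ : Submodule R M) ≤ Q ⊔ m • ⊤ := fun x _ => by
          obtain ⟨q, hq, hx⟩ := h1 x
          exact Submodule.mem_sup.2 ⟨q, hq, _, hx, add_sub_cancel q x⟩
        refine ih.trans (sup_le le_sup_left ?_)
        refine (Submodule.smul_mono le_rfl h5).trans ?_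
        rw [Submodule.smul_sup, ← Submodule.mul_smul, ← pow_succ]
        exact sup_le_sup Submodule.smul_le_right le_rfl
    have := h4 N
    rw [hN, Submodule.bot_smul, sup_bot_eq] at this
    exact eq_top_iff.2 this
  let mS := m.map (algebraMap R S)
  let eqv := Algebra.TensorProduct.quotIdealMapEquivTensorQuot S m
  let Φ : _ → (S ⊗[R] M →ₗ[S] S ⧸ mS) := fun l => eqv.symm.toLinearEquiv.toLinearMap.comp ((T l).baseChange S)
  have hΦ : ∀ j l, Φ l (1 ⊗ₜ[R] e j) = if j = l then 1 else 0 := fun j l => by
    show eqv.symm ((T l).baseChange S (1 ⊗ₜ[R] e j)) = _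
    rw [LinearMap.baseChange_tmul, hT]
    split
    · exact map_one eqv.symm
    · rw [TensorProduct.tmul_zero, map_zero]
  have hli : LinearIndependent R e := by
    rw [linearIndependent_iff']
    intro s r hr l hl
    apply hinj
    rw [map_zero]
    have h0 : ∑ j : s, algebraMap R S (r j) • ((1 : S) ⊗ₜ[R] e j) = 0 := by
      have h0' : (TensorProduct.mk R S M 1) (∑ j ∈ s, r j • e j) = 0 := by rw [hr, map_zero]
      rw [map_sum, ← Finset.sum_coe_sort] at h0'
      simpa [TensorProduct.tmul_smul, algebraMap_smul] using h0'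
    obtain ⟨κ, a, y, ha, hr0⟩ := Module.Flat.isTrivialRelation_of_sum_smul_eq_zero h0
    choose β hβ using fun (l : s) (k : Fin κ) => Ideal.Quotient.mk_surjective (Φ l (y k))
    let A : Ideal S := Ideal.span (Set.range fun j : s => algebraMap R S (r j))
    have hA : A ≤ mS * A := by
      refine Ideal.span_le.2 ?_
      rintro _ ⟨l, rfl⟩
      let d : s → S := fun j => (if j = l then 1 else 0) - ∑ k, a j k * β l k
      have hd : ∀ j, d j ∈ mS := fun j => by
        rw [← Ideal.Quotient.eq_zero_iff_mem]
        simp only [d, map_sub, map_sum, map_mul, hβ]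
        have := hΦ j.1 l.1
        rw [show (1 : S) ⊗ₜ[R] e j.1 = _ from ha j, map_sum] at this
        simp only [map_smul] at this
        rw [sub_eq_zero, apply_ite (Ideal.Quotient.mk mS), map_one, map_zero]
        refine Eq.trans ?_ (Finset.sum_congr rfl fun k _ => (Algebra.smul_def (a j k) (Φ l.1 (y k))))
        rw [this]
        simp only [Subtype.ext_iff]
      have hsum : ∑ j : s, algebraMap R S (r j) * d j = algebraMap R S (r l) := by
        simp only [d, mul_sub, Finset.mul_sum, Finset.sum_sub_distrib, mul_ite, mul_one, mul_zero,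
          Finset.sum_ite_eq', Finset.mem_univ, if_true]
        rw [Finset.sum_comm, sub_eq_self]
        refine Finset.sum_eq_zero fun k _ => ?_
        simp_rw [← mul_assoc, ← Finset.sum_mul, hr0 k, zero_mul]
      show algebraMap R S (r l) ∈ mS * A
      rw [← hsum]
      refine Ideal.sum_mem _ fun j _ => ?_
      rw [mul_comm (algebraMap R S _) (d j)]
      exact Ideal.mul_mem_mul (hd j) (Ideal.subset_span ⟨j, rfl⟩)
    have hn : ∀ n, A ≤ mS ^ n * A := by
      intro n
      induction n with
      | zero => simp
      | succ n ih => exact hA.trans ((Ideal.mul_mono_right ih).trans (by rw [← mul_assoc, ← pow_succ']))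
    have hA0 := hn N
    rw [← Ideal.map_pow, hN, Ideal.map_bot, Ideal.bot_mul] at hA0
    exact hA0 (Ideal.subset_span ⟨⟨l, hl⟩, rfl⟩)
  haveI := Module.Free.of_basis (Module.Basis.mk hli hspan.ge)
  infer_instance

theorem flat_of_baseChange {R S M : Type u} [CommRing R] [CommRing S] [IsArtinianRing R] [Algebra R S]
    (hinj : Function.Injective (algebraMap R S)) [AddCommGroup M] [Module R M] [Module.Flat S (S ⊗[R] M)] :
    Module.Flat R M := by
  refine Module.flat_of_localized_maximal M fun P _ => ?_
  let R' := Localization.AtPrime P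
  let S' := R' ⊗[R] S
  haveI : IsArtinianRing R' :=
    IsArtinianRing.localization_artinian P.primeCompl _
  have hinj' : Function.Injective (algebraMap R' S') := by
    have h1 := Module.Flat.lTensor_preserves_injective_linearMap (M := R') (Algebra.linearMap R S) hinj
    have h2 : ∀ x : R', algebraMap R' S' x = LinearMap.lTensor R' (Algebra.linearMap R S) (x ⊗ₜ[R] 1) := fun x => by
      simp [S', RingHom.algebraMap_toAlgebra]; rfl
    intro x y hxy
    rw [h2, h2] at hxy
    exact (TensorProduct.rid R R').symm.injective (by simpa using h1 hxy)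
  letI : Algebra S S' := Algebra.TensorProduct.rightAlgebra
  haveI : Module.Flat S' (S' ⊗[S] (S ⊗[R] M)) := inferInstance
  haveI : IsScalarTower R S S' := IsScalarTower.of_algebraMap_eq fun r => by
    show algebraMap R S' r = (1 : R') ⊗ₜ[R] algebraMap R S r
    rw [Algebra.TensorProduct.algebraMap_apply, Algebra.algebraMap_eq_smul_one, Algebra.algebraMap_eq_smul_one,
      TensorProduct.smul_tmul]
  haveI : Module.Flat S' (S' ⊗[R] M) := Module.Flat.of_linearEquiv (TensorProduct.AlgebraTensorModule.cancelBaseChange R S S' S' M).symm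
  haveI : Module.Flat S' (S' ⊗[R'] (R' ⊗[R] M)) := Module.Flat.of_linearEquiv (TensorProduct.AlgebraTensorModule.cancelBaseChange R R' S' S' M)
  haveI := flat_local hinj' (M := R' ⊗[R] M)
  haveI : Module.Flat R (R' ⊗[R] M) := Module.Flat.trans R R' _
  exact Module.Flat.of_linearEquiv ((LocalizedModule.equivTensorProduct P.primeCompl M).restrictScalars R)

end Groth.Agent.H2ArtFlat
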