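import Mathlib
import Groth.Agent.Lib.RegularLocalBasic
import Groth.Agent.Lib.RegularLocalSerre

/-! Regular local rings are integrally closed. -/

universe u

open IsLocalRing

namespace Groth.Agent.H2RegNormal

theorem isIntegrallyClosed_of_away {A : Type u} [CommRing A] [IsDomain A] {x : A} (hx : Prime x)
    (h : IsIntegrallyClosed (Localization.Away x)) : IsIntegrallyClosed A := by
  let K := FractionRing A
  have hxn : Submonoid.powers x ≤ nonZeroDivisors A := powers_le_nonZeroDivisors_of_noZeroDivisors hx.ne_zero
  letI : Algebra (Localization.Away x) K := (IsLocalization.lift (M := Submonoid.powers x) (g := algebraMap A K)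
    (fun y => IsLocalization.map_units (S := K) (M := nonZeroDivisors A) ⟨y.1, hxn y.2⟩)).toAlgebra
  haveI : IsScalarTower A (Localization.Away x) K := IsScalarTower.of_algebraMap_eq fun a => (IsLocalization.lift_eq _ a).symm
  haveI : IsFractionRing (Localization.Away x) K :=
    IsFractionRing.isFractionRing_of_isDomain_of_isLocalization (Submonoid.powers x) _ _
  refine (isIntegrallyClosed_iff K).2 fun {z} hz => ?_
  obtain ⟨w, hw⟩ := (isIntegrallyClosed_iff K).1 h (hz.tower_top (A := Localization.Away x))
  obtain ⟨⟨a, ⟨_, n, rfl⟩⟩, ha⟩ := IsLocalization.surj (Submonoid.powers x) w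
  have ha' : z * algebraMap A K x ^ n = algebraMap A K a := by
    have := congrArg (algebraMap (Localization.Away x) K) ha
    simp only [map_mul, ← IsScalarTower.algebraMap_apply, hw, map_pow] at this
    exact this
  clear ha hw w
  induction n generalizing a with
  | zero => exact ⟨a, by simpa using ha'.symm⟩
  | succ n ih =>
    obtain ⟨P, hP, hPz⟩ := hz
    have hinj : Function.Injective (algebraMap A K) := IsFractionRing.injective A K
    let r := algebraMap A K x ^ (n + 1)
    have h1 : Polynomial.eval₂ (algebraMap A K) (algebraMap A K a) (P.scaleRoots (x ^ (n + 1))) = 0 := by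
      have h0 := Polynomial.scaleRoots_eval₂_eq_zero (algebraMap A K) (s := x ^ (n + 1)) hPz
      rwa [map_pow, mul_comm, ha'] at h0
    rw [Polynomial.eval₂_at_apply] at h1
    have h2 : Polynomial.eval a (P.scaleRoots (x ^ (n + 1))) = 0 := hinj (h1.trans (map_zero _).symm)
    have h3 : x ∣ a := by
      refine hx.dvd_of_dvd_pow (n := P.natDegree) ?_
      rw [← Ideal.mem_span_singleton]
      have hm : (P.scaleRoots (x ^ (n + 1))).Monic := (Polynomial.monic_scaleRoots_iff _).2 hP
      have hsum := h2
      rw [Polynomial.eval_eq_sum_range, Polynomial.natDegree_scaleRoots, Finset.sum_range_succ] at hsum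
      have hl : (P.scaleRoots (x ^ (n + 1))).coeff P.natDegree = 1 := by
        rw [← Polynomial.natDegree_scaleRoots P (x ^ (n + 1))]; exact hm
      rw [hl, one_mul] at hsum
      rw [eq_neg_of_add_eq_zero_right hsum]
      refine neg_mem (Ideal.sum_mem _ fun i hi => Ideal.mul_mem_right _ _ ?_)
      rw [Polynomial.coeff_scaleRoots, Ideal.mem_span_singleton]
      refine Dvd.dvd.mul_left (dvd_pow (dvd_pow_self x n.succ_ne_zero) ?_) _
      have := Finset.mem_range.1 hi
      omega
    obtain ⟨b, rfl⟩ := h3
    refine ih b (mul_left_cancel₀ ((map_ne_zero_iff _ hinj).2 hx.ne_zero) ?_)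
    rw [← map_mul, ← ha', pow_succ]
    ring

theorem isIntegrallyClosed_aux : ∀ (d : ℕ) (A : Type u) [CommRing A] [IsRegularLocalRing A],
    (maximalIdeal A).spanFinrank ≤ d → IsIntegrallyClosed A := by
  intro d
  induction d using Nat.strong_induction_on with
  | _ d ih =>
    intro A _ _ hd
    haveI := RegLocal.isDomain (R := A)
    by_cases hm : maximalIdeal A = ⊥
    · exact (isField_iff_maximalIdeal_eq.2 hm).toField.instIsIntegrallyClosed
    obtain ⟨x, hx, hx2⟩ : ∃ x ∈ maximalIdeal A, x ∉ maximalIdeal A ^ 2 := by
      by_contra h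
      push Not at h
      refine hm (Submodule.eq_bot_of_le_smul_of_le_jacobson_bot (maximalIdeal A) (maximalIdeal A) (IsNoetherian.noetherian _) ?_ (maximalIdeal_le_jacobson _))
      intro y hy
      have := h y hy
      rwa [sq] at this
    obtain ⟨hq, -⟩ := RegLocal.quotient_singleton hx hx2
    have hx0 : x ≠ 0 := fun h => hx2 (h ▸ zero_mem _)
    haveI : IsDomain (A ⧸ Ideal.span {x}) := RegLocal.isDomain
    have hxp : Prime x := (Ideal.span_singleton_prime hx0).1 ((Ideal.Quotient.isDomain_iff_prime _).1 ‹_›)
    refine isIntegrallyClosed_of_away hxp ?_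
    haveI : IsDomain (Localization.Away x) := IsLocalization.isDomain_localization (powers_le_nonZeroDivisors_of_noZeroDivisors hx0)
    refine IsIntegrallyClosed.of_localization_maximal fun P _ _ => ?_
    let p := P.under A
    haveI : p.IsPrime := Ideal.comap_isPrime _ P
    have hdis := ((IsLocalization.isPrime_iff_isPrime_disjoint (Submonoid.powers x) (Localization.Away x) P).1 inferInstance).2
    have hxp' : x ∉ p := fun h => Set.disjoint_left.1 hdis ⟨1, pow_one x⟩ h
    haveI : IsLocalization.AtPrime (Localization.AtPrime P) p :=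
      IsLocalization.isLocalization_isLocalization_atPrime_isLocalization (Submonoid.powers x) (Localization.AtPrime P) P
    haveI := RegLocal.regular_localization p (Localization.AtPrime P)
    have hlt : (maximalIdeal (Localization.AtPrime P)).spanFinrank < (maximalIdeal A).spanFinrank := by
      have h1 : ringKrullDim (Localization.AtPrime P) < ringKrullDim A := by
        rw [IsLocalization.AtPrime.ringKrullDim_eq_height p, ← IsLocalRing.maximalIdeal_height_eq_ringKrullDim]
        have hne : p < maximalIdeal A := lt_of_le_of_ne (le_maximalIdeal (Ideal.IsPrime.ne_top inferInstance)) fun h => hxp' (h ▸ hx)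
        exact WithBot.coe_lt_coe.2 (Ideal.height_strict_mono_of_isPrime hne)
      rw [← IsRegularLocalRing.spanFinrank_maximalIdeal, ← IsRegularLocalRing.spanFinrank_maximalIdeal] at h1
      exact_mod_cast h1
    exact ih _ (lt_of_lt_of_le hlt hd) _ le_rfl

theorem isIntegrallyClosed_of_regularLocal (A : Type u) [CommRing A] [IsRegularLocalRing A] : IsIntegrallyClosed A :=
  isIntegrallyClosed_aux _ A le_rfl

theorem isNoetherian_descent {R S : Type u} [CommRing R] [CommRing S] [Algebra R S] [Module.FaithfullyFlat R S]
    [IsNoetherianRing S] : IsNoetherianRing R := by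
  have h : StrictMono (Ideal.map (algebraMap R S)) :=
    (Monotone.strictMono_of_injective (fun _ _ h => Ideal.map_mono h) Ideal.map_injective_of_faithfullyFlat)
  exact (isNoetherianRing_iff.2 (isNoetherian_iff'.2 (h.wellFoundedGT)))

theorem exists_prime_over {R S : Type u} [CommRing R] [CommRing S] [Algebra R S] [Module.FaithfullyFlat R S]
    [IsNoetherianRing S] (p : Ideal R) [p.IsPrime] :
    ∃ (q : Ideal S) (_ : q.IsPrime) (_ : q.LiesOver p), q ∈ (p.map (algebraMap R S)).minimalPrimes ∧ q.height = p.height := by
  obtain ⟨Q, hQ, hQp⟩ := Ideal.exists_isPrime_liesOver_of_faithfullyFlat (B := S) p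
  have hle : p.map (algebraMap R S) ≤ Q := Ideal.map_le_iff_le_comap.2 (hQp.over ▸ le_rfl)
  haveI := hQ
  obtain ⟨q, hq, hqQ⟩ := Ideal.exists_minimalPrimes_le hle
  haveI : q.IsPrime := hq.1.1
  haveI : q.LiesOver p := ⟨le_antisymm (Ideal.map_le_iff_le_comap.1 hq.1.2) ((Ideal.comap_mono hqQ).trans hQp.over.ge)⟩
  refine ⟨q, ‹_›, ‹_›, hq, ?_⟩
  haveI : IsNoetherianRing R := isNoetherian_descent (S := S)
  rw [Ideal.height_eq_height_add_of_liesOver_of_hasGoingDown p q]
  suffices h0 : (q.map (Ideal.Quotient.mk (p.map (algebraMap R S)))).height = 0 by rw [h0, add_zero]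
  haveI : (q.map (Ideal.Quotient.mk (p.map (algebraMap R S)))).IsPrime :=
    Ideal.map_isPrime_of_surjective Ideal.Quotient.mk_surjective (by rw [Ideal.mk_ker]; exact hq.1.2)
  rw [Ideal.height_eq_zero_iff]
  rw [Ideal.minimalPrimes_eq_comap] at hq
  obtain ⟨q0, hq0, rfl⟩ := hq
  rwa [Ideal.map_comap_of_surjective _ Ideal.Quotient.mk_surjective]

theorem regular_descent {R S : Type u} [CommRing R] [CommRing S] [Algebra R S] [Module.Flat R S] [IsNoetherianRing R]
    (p : Ideal R) [p.IsPrime] (q : Ideal S) [q.IsPrime] [q.LiesOver p] [IsRegularLocalRing (Localization.AtPrime q)] :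
    IsRegularLocalRing (Localization.AtPrime p) := by
  letI := Localization.AtPrime.algebraOfLiesOver p q
  haveI : Module.Flat R (Localization.AtPrime q) := Module.Flat.trans R S _
  haveI : Module.Flat (Localization.AtPrime p) (Localization.AtPrime q) :=
    (Module.flat_iff_of_isLocalization (Localization.AtPrime p) p.primeCompl _).2 inferInstance
  exact RegLocal.regular_of_flat (S := Localization.AtPrime q)

end Groth.Agent.H2RegNormal
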