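import Mathlib
import Groth.Agent.Lib.RegularLocalSerre
import Groth.Agent.Lib.CompleteNoetherian

/-!
Completions of regular rings are regular.
-/

universe u

namespace Groth.Agent.H4RegCompletion

open IsLocalRing

set_option maxHeartbeats 400000

/-- Regularity can be tested at maximal ideals. -/
theorem isRegularRing_of_maximal (C : Type u) [CommRing C] [IsNoetherianRing C]
    (h : ∀ (M : Ideal C) [M.IsMaximal], IsRegularLocalRing (Localization.AtPrime M)) : IsRegularRing C := by
  refine isRegularRing_iff.mpr fun p hp => ?_
  obtain ⟨M, hM, hpM⟩ := Ideal.exists_le_maximal p hp.ne_top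
  have := h M
  let S := Localization.AtPrime M
  let pS := p.map (algebraMap C S)
  have disj : Disjoint (M.primeCompl : Set C) (p : Set C) :=
    Set.disjoint_left.mpr fun a ha hap => ha (hpM hap)
  have hpS : pS.IsPrime := IsLocalization.isPrime_of_isPrime_disjoint M.primeCompl _ _ hp disj
  have : IsLocalization.AtPrime (Localization.AtPrime pS) p := by
    convert IsLocalization.isLocalization_isLocalization_atPrime_isLocalization M.primeCompl
      (Localization.AtPrime pS) pS
    exact (IsLocalization.under_map_of_isPrime_disjoint M.primeCompl _ hp disj).symm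
  have h2 : IsRegularLocalRing (Localization.AtPrime pS) := Groth.Agent.RegLocal.regular_localization pS _
  exact IsRegularLocalRing.of_ringEquiv (IsLocalization.algEquiv p.primeCompl
    (Localization.AtPrime pS) (Localization.AtPrime p)).toRingEquiv

theorem isRegularRing_adicCompletion (A : Type u) [CommRing A] [IsRegularRing A] (J : Ideal A) :
    IsRegularRing (AdicCompletion J A) := by
  classical
  have hJ : J.FG := IsNoetherian.noetherian J
  let C := AdicCompletion J A
  have hN : IsNoetherianRing C := CplNoeth.isNoetherianRing_completion J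
  refine isRegularRing_of_maximal C fun M hM => ?_
  have hc : IsAdicComplete (J.map (algebraMap A C)) C := AdicCompletion.isAdicComplete_self J hJ
  let ev := (AdicCompletion.evalOneₐ J).toRingHom
  have hev : Function.Surjective ev := AdicCompletion.evalOneₐ_surjective J
  have hJM : J.map (algebraMap A C) ≤ M :=
    (IsAdicComplete.le_jacobson_bot _).trans (sInf_le ⟨bot_le, hM⟩)
  have hker : RingHom.ker ev ≤ M := (AdicCompletion.ker_evalOneₐ_eq_map J hJ).le.trans hJM
  have hM' : (M.map ev).IsMaximal := Ideal.IsMaximal.map_of_surjective_of_ker_le hev hker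
  let m : Ideal A := M.comap (algebraMap A C)
  have hm' : m = (M.map ev).comap (Ideal.Quotient.mk J) := by
    conv_rhs => rw [← AdicCompletion.evalOneₐ_comp_algebraMap_eq_mk, ← Ideal.comap_comap,
      Ideal.comap_map_of_surjective' _ hev, sup_eq_left.mpr hker]
  have hm : m.IsMaximal := hm' ▸ Ideal.comap_isMaximal_of_surjective _ Ideal.Quotient.mk_surjective
  have hJm : J ≤ m := fun a ha => hJM (Ideal.mem_map_of_mem _ ha)
  have hmM : M = m.map (algebraMap A C) :=
    ((AdicCompletion.isMaximal_map_of_le J m hJm hJ).eq_of_le hM.ne_top Ideal.map_comap_le).symm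
  have hflat : Module.Flat A C := AdicCompletion.flat_of_isNoetherian J
  have hlies : M.LiesOver m := ⟨rfl⟩
  have hh : M.height = m.height := by
    rw [Ideal.height_eq_height_add_of_liesOver_of_hasGoingDown m M, ← hmM, Ideal.map_quotient_self,
      Ideal.height_bot]
    · simp
  have hregm : IsRegularLocalRing (Localization.AtPrime m) := isRegularRing_iff.mp ‹_› m
  let φ := Localization.localRingHom m M (algebraMap A C) rfl
  have hmax : maximalIdeal (Localization.AtPrime M) = (maximalIdeal (Localization.AtPrime m)).map φ := by
    rw [← Localization.AtPrime.map_eq_maximalIdeal, ← Localization.AtPrime.map_eq_maximalIdeal, Ideal.map_map,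
      show φ.comp (algebraMap A (Localization.AtPrime m)) = (algebraMap C (Localization.AtPrime M)).comp (algebraMap A C)
        from RingHom.ext fun a => Localization.localRingHom_to_map m M (algebraMap A C) rfl a, ← Ideal.map_map, ← hmM]
  refine IsRegularLocalRing.of_spanFinrank_maximalIdeal_le _ ?_
  rw [IsLocalization.AtPrime.ringKrullDim_eq_height M, hh, ← IsLocalization.AtPrime.ringKrullDim_eq_height m (Localization.AtPrime m),
    ← IsRegularLocalRing.spanFinrank_maximalIdeal (R := Localization.AtPrime m)]
  obtain ⟨F, hF1, hF2⟩ := Submodule.FG.exists_span_finset_card_eq_spanFinrank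
    (IsNoetherian.noetherian (maximalIdeal (Localization.AtPrime m)))
  have h3 : maximalIdeal (Localization.AtPrime M) = Ideal.span (φ '' (F : Set _)) := by
    rw [hmax, ← Ideal.map_span]
    exact congrArg (Ideal.map φ) hF2.symm
  rw [h3]
  refine Nat.cast_le.mpr ((Submodule.spanFinrank_span_le_ncard_of_finite (F.finite_toSet.image _)).trans ?_)
  exact (Set.ncard_image_le F.finite_toSet).trans (by rw [Set.ncard_coe_finset, hF1])

end Groth.Agent.H4RegCompletion
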