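import Mathlib
import Groth.Prelude.Def_Found
import Groth.Prelude.Def_CAlgX
import Groth.Prelude.Def_EGA41
import Groth.Agent.Lib.H2AdicNilp
import Groth.Agent.Lib.H2AdicFSField
import Groth.Agent.Lib.H4RegCompletion
import Groth.Agent.S4535
set_option autoImplicit false

/-! Adically formally smooth algebras over fields are geometrically regular. -/
namespace Groth.Agent.H2GeomRegular
open IsLocalRing TensorProduct
set_option backward.isDefEq.respectTransparency.types false
universe u

/-- Adic formal smoothness passes to the local ring at a prime containing the ideal. -/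
theorem adicFS_localization {k T : Type u} [CommRing k] [CommRing T] [Algebra k T] {𝔟 : Ideal T}
    (h : CAlgX.IsAdicFormallySmooth k T 𝔟) (Q : Ideal T) [Q.IsPrime] (hQ : 𝔟 ≤ Q) :
    CAlgX.IsAdicFormallySmooth k (Localization.AtPrime Q) (maximalIdeal (Localization.AtPrime Q)) := by
  let S := Localization.AtPrime Q
  intro C _ _ J hJ ψ hψ
  obtain ⟨n, hn⟩ := hψ
  obtain ⟨χ, hχ⟩ := h C J hJ (ψ.comp (IsScalarTower.toAlgHom k T S)) ⟨n, fun x hx => hn _ (by
    rw [← IsLocalization.AtPrime.map_eq_maximalIdeal Q S, ← Ideal.map_pow]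
    exact Ideal.mem_map_of_mem _ (Ideal.pow_right_mono hQ n hx))⟩
  have hu : ∀ y : Q.primeCompl, IsUnit (χ y) := fun y => by
    refine (IsNilpotent.isUnit_quotient_mk_iff (I := J) ⟨2, hJ⟩).1 ?_
    rw [show Ideal.Quotient.mk J (χ y) = ψ (algebraMap T S y) from AlgHom.congr_fun hχ y]
    exact (IsLocalization.map_units S y).map ψ
  refine ⟨IsLocalization.liftAlgHom (M := Q.primeCompl) (f := χ) hu, ?_⟩
  refine AlgHom.coe_ringHom_injective (IsLocalization.ringHom_ext Q.primeCompl (RingHom.ext fun x => ?_))
  show Ideal.Quotient.mk J (IsLocalization.lift hu (algebraMap T S x)) = ψ (algebraMap T S x)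
  refine (congrArg (Ideal.Quotient.mk J) (IsLocalization.lift_eq hu x)).trans ?_
  exact AlgHom.congr_fun hχ x

theorem isRegularRing_of_adicFS {k A : Type u} [Field k] [CommRing A] [IsLocalRing A] [IsNoetherianRing A] [Algebra k A]
    (h : CAlgX.IsAdicFormallySmooth k A (maximalIdeal A)) (k' : Type u) [Field k'] [Algebra k k'] [Module.Finite k k'] :
    IsRegularRing (k' ⊗[k] A) := by
  let T := k' ⊗[k] A
  let f : A →ₐ[k] T := Algebra.TensorProduct.includeRight
  haveI : IsNoetherianRing (A ⊗[k] k') := isNoetherian_of_tower A inferInstance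
  haveI : IsNoetherianRing T := isNoetherianRing_of_ringEquiv (A ⊗[k] k') (Algebra.TensorProduct.comm k A k').toRingEquiv
  have hint : f.toRingHom.IsIntegral := by
    have e : f.toRingHom = (Algebra.TensorProduct.comm k A k').toRingEquiv.toRingHom.comp (algebraMap A (A ⊗[k] k')) :=
      RingHom.ext fun a => rfl
    rw [e]
    refine RingHom.IsIntegral.trans _ _ ?_ (RingHom.isIntegral_of_surjective _ ?_)
    · exact algebraMap_isIntegral_iff.2 inferInstance
    · exact (Algebra.TensorProduct.comm k A k').surjective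
  have hT : CAlgX.IsAdicFormallySmooth k' T ((maximalIdeal A).map f.toRingHom) := by
    refine Groth.Agent.H2AdicNilp.isAdicFormallySmooth_of_isFormallySmoothAdic (⊥ : Ideal k') _ (j := 1) (by simp) ?_
    have h2 := Groth.Agent.S4535.result (A' := k') (⊥ : Ideal k) (maximalIdeal A) (⊥ : Ideal k') ⟨1, by simp⟩
      (Groth.Agent.H2AdicNilp.isFormallySmoothAdic_of_isAdicFormallySmooth _ _ h)
    rw [Ideal.map_bot, bot_sup_eq] at h2
    exact h2
  refine Groth.Agent.H4RegCompletion.isRegularRing_of_maximal T fun Q hQ => ?_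
  haveI : IsNoetherianRing (Localization.AtPrime Q) := IsLocalization.isNoetherianRing Q.primeCompl _ inferInstance
  have hc : (Q.comap f.toRingHom).IsMaximal := Ideal.isMaximal_comap_of_isIntegral_of_isMaximal' f.toRingHom hint Q
  have hle : (maximalIdeal A).map f.toRingHom ≤ Q := by
    rw [Ideal.map_le_iff_le_comap, IsLocalRing.eq_maximalIdeal hc]
  exact Groth.Agent.H2AdicFSField.isRegularLocalRing_of_adicFS (k := k') (adicFS_localization hT Q hle)

theorem isGeometricallyRegular_of_adicFS {k A : Type u} [Field k] [CommRing A] [IsLocalRing A] [IsNoetherianRing A] [Algebra k A]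
    (h : CAlgX.IsAdicFormallySmooth k A (maximalIdeal A)) : CAlg.IsGeometricallyRegular k A := by
  intro k' _ _ hfin
  haveI := hfin
  exact isRegularRing_of_adicFS h k'

end Groth.Agent.H2GeomRegular
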