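import Mathlib
set_option autoImplicit false

/-! Localizations of regular rings. -/
namespace Groth.Agent.H2RegularLoc
universe u v

theorem isRegularRing_of_isLocalization {T : Type u} [CommRing T] [IsRegularRing T] (M : Submonoid T) (T' : Type u) [CommRing T']
    [Algebra T T'] [IsLocalization M T'] : IsRegularRing T' := by
  haveI : IsNoetherianRing T' := IsLocalization.isNoetherianRing M T' inferInstance
  refine isRegularRing_iff.2 fun Q _ => ?_
  haveI : IsLocalization.AtPrime (Localization.AtPrime Q) (Q.comap (algebraMap T T')) :=
    IsLocalization.isLocalization_isLocalization_atPrime_isLocalization M (Localization.AtPrime Q) Q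
  exact IsRegularLocalRing.of_ringEquiv
    (IsLocalization.algEquiv (Q.comap (algebraMap T T')).primeCompl (Localization.AtPrime (Q.comap (algebraMap T T'))) (Localization.AtPrime Q)).toRingEquiv

end Groth.Agent.H2RegularLoc
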