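import Mathlib

/-! Geometrically reduced finitely generated field extensions are separably generated, hence formally smooth. -/

universe u

open TensorProduct

namespace Groth.Agent.H2SepGen

set_option linter.style.haveILetI false

variable {k K : Type u} [Field k] [Field K] [Algebra k K]

theorem linearIndepOn_pow [Algebra.IsGeometricallyReduced k K] (p : ℕ) (hp : p.Prime) [CharP k p] (s : Finset K)
    (hs : LinearIndepOn k _root_.id (s : Set K)) : LinearIndepOn k (· ^ p) (s : Set K) := by
  classical
  haveI : Fact p.Prime := ⟨hp⟩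
  let C := AlgebraicClosure k
  haveI : IsReduced (C ⊗[k] K) := (Algebra.isGeometricallyReduced_field_iff k K).1 ‹_›
  haveI : CharP C p := charP_of_injective_algebraMap (algebraMap k C).injective p
  haveI : Nontrivial (C ⊗[k] K) :=
    (Algebra.TensorProduct.includeLeft_injective (S := C) (A := C) (B := K) (algebraMap k K).injective).nontrivial
  haveI : CharP (C ⊗[k] K) p := charP_of_injective_algebraMap (algebraMap C (C ⊗[k] K)).injective p
  rw [LinearIndepOn, Fintype.linearIndependent_iff]
  intro c hc i
  have hroot : ∀ j, ∃ d : C, d ^ p = algebraMap k C (c j) := fun j => IsAlgClosed.exists_pow_nat_eq _ hp.pos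
  choose d hd using hroot
  let z : C ⊗[k] K := ∑ j, d j ⊗ₜ[k] (j : K)
  have hz : z = 0 := by
    refine IsReduced.eq_zero z ⟨p, ?_⟩
    rw [sum_pow_char]
    have : ∀ j, (d j ⊗ₜ[k] (j : K)) ^ p = (1 : C) ⊗ₜ[k] (c j • (j : K) ^ p) := fun j => by
      rw [Algebra.TensorProduct.tmul_pow, hd, ← TensorProduct.smul_tmul, Algebra.algebraMap_eq_smul_one]
    simp_rw [this, ← TensorProduct.tmul_sum]
    rw [hc, TensorProduct.tmul_zero]
  obtain ⟨g, hg⟩ := (Finsupp.linearCombination k (fun j : (s : Set K) => (j : K))).exists_leftInverse_of_injective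
    (LinearMap.ker_eq_bot.2 hs)
  let f : K →ₗ[k] k := Finsupp.lapply i ∘ₗ g
  have hf : ∀ j : (s : Set K), f j = if j = i then 1 else 0 := fun j => by
    have h := LinearMap.congr_fun hg (Finsupp.single j 1)
    rw [LinearMap.comp_apply, Finsupp.linearCombination_single, one_smul] at h
    show (g (j : K)) i = _
    rw [h, LinearMap.id_apply, Finsupp.single_apply]
  have h0 : (TensorProduct.rid k C) (f.lTensor C z) = d i := by
    simp only [z, map_sum, LinearMap.lTensor_tmul, TensorProduct.rid_tmul, hf]
    simp
  rw [hz, map_zero, map_zero] at h0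
  have := hd i
  rw [← h0, zero_pow hp.ne_zero] at this
  exact (map_eq_zero_iff _ (algebraMap k C).injective).1 this.symm

variable (k K)

theorem exists_separating [Algebra.IsGeometricallyReduced k K] [Algebra.EssFiniteType k K] :
    ∃ s : Finset K, IsTranscendenceBasis k ((↑) : s → K) ∧
      Algebra.IsSeparable (IntermediateField.adjoin k (s : Set K)) K := by
  obtain _ | ⟨p, hp, hpk⟩ := CharP.exists' k
  · exact exists_isTranscendenceBasis_and_isSeparable_of_perfectField k K
  · exact exists_isTranscendenceBasis_and_isSeparable_of_linearIndepOn_pow_of_essFiniteType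
      p hp.out fun s hs => linearIndepOn_pow p hp.out s hs

theorem formallySmooth [Algebra.IsGeometricallyReduced k K] [Algebra.EssFiniteType k K] :
    Algebra.FormallySmooth k K := by
  obtain ⟨s, hs, H⟩ := exists_separating k K
  have : Algebra.IsSeparable (↥(IntermediateField.adjoin k (Set.range ((↑) : s → K)))) K := by
    convert! H <;> simp
  exact .of_algebraicIndependent_of_isSeparable hs.1

theorem exists_smooth_subalgebra {k K : Type u} [Field k] [Field K] [Algebra k K] [Algebra.IsGeometricallyReduced k K]
    (E : Finset K) : ∃ A : Subalgebra k K, (↑E : Set K) ⊆ (A : Set K) ∧ Algebra.Smooth k A := by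
  let B := Algebra.adjoin k (E : Set K)
  haveI : Algebra.FiniteType k B := (Subalgebra.fg_iff_finiteType _).1 (Subalgebra.fg_adjoin_finset E)
  haveI : Algebra.FinitePresentation k B := Algebra.FinitePresentation.of_finiteType.1 inferInstance
  let L := FractionRing B
  let φ : L →ₐ[k] K := IsFractionRing.liftAlgHom (g := B.val) Subtype.val_injective
  haveI : Algebra.IsGeometricallyReduced k L :=
    Algebra.IsGeometricallyReduced.of_injective φ φ.toRingHom.injective
  haveI : Algebra.EssFiniteType k L := Algebra.EssFiniteType.comp k B L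
  haveI hL : Algebra.FormallySmooth k L := formallySmooth k L
  haveI : (⊥ : Ideal B).IsPrime := Ideal.isPrime_bot
  haveI : IsLocalization.AtPrime L (⊥ : Ideal B) := by
    show IsLocalization (⊥ : Ideal B).primeCompl L
    convert (inferInstance : IsLocalization (nonZeroDivisors B) L) using 1
    ext x; simp [Ideal.primeCompl]
  haveI : Algebra.IsSmoothAt k (⊥ : Ideal B) :=
    Algebra.FormallySmooth.of_equiv ((IsLocalization.algEquiv (⊥ : Ideal B).primeCompl L _).restrictScalars k)
  obtain ⟨g, hg, hsm⟩ := Algebra.IsSmoothAt.exists_notMem_smooth k (⊥ : Ideal B)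
  have hg0 : g ≠ 0 := fun h => hg (h ▸ Ideal.zero_mem _)
  have hu : ∀ y : Submonoid.powers g, IsUnit (B.val y) := fun ⟨_, n, rfl⟩ => by
    rw [isUnit_iff_ne_zero, map_pow]
    exact pow_ne_zero _ fun h => hg0 (Subtype.val_injective h)
  let ψ : Localization.Away g →ₐ[k] K := IsLocalization.liftAlgHom (M := Submonoid.powers g) (f := B.val) hu
  have hψ : Function.Injective ψ := by
    show Function.Injective (IsLocalization.lift (S := Localization.Away g) (g := B.val.toRingHom) hu)
    rw [IsLocalization.lift_injective_iff]
    intro x y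
    have := IsLocalization.injective (Localization.Away g) (M := Submonoid.powers g) (powers_le_nonZeroDivisors_of_noZeroDivisors hg0)
    exact ⟨fun h => congrArg _ (this h), fun h => congrArg _ (Subtype.val_injective h)⟩
  refine ⟨ψ.range, fun x hx => ⟨algebraMap B _ ⟨x, Algebra.subset_adjoin hx⟩, ?_⟩, ?_⟩
  · show IsLocalization.lift (S := Localization.Away g) (g := B.val.toRingHom) hu _ = x
    rw [IsLocalization.lift_eq]
    rfl
  · exact Algebra.Smooth.of_equiv (AlgEquiv.ofInjective ψ hψ)

end Groth.Agent.H2SepGen
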