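import Mathlib
import Groth.Agent.Lib.H2PowerSeries
import Groth.Agent.Lib.H2PerfectSmooth
import Groth.Agent.Lib.H2SepGen
set_option autoImplicit false

/-! Coefficient fields of equicharacteristic complete local rings. -/
namespace Groth.Agent.H2CohenField
open IsLocalRing
set_option backward.isDefEq.respectTransparency.types false
universe u w

theorem exists_section (R : Type u) [CommRing R] [IsLocalRing R] [IsAdicComplete (maximalIdeal R) R]
    (k₀ : Type w) [Field k₀] [Algebra k₀ R] :
    ∃ g : ResidueField R →+* R, ∀ x, residue R (g x) = x := by
  haveI : Nontrivial R := inferInstance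
  suffices key : ∀ (P : Type) [Field P] [PerfectField P] [Algebra P R],
      ∃ g : ResidueField R →+* R, ∀ x, residue R (g x) = x by
    obtain ⟨p, hp⟩ := CharP.exists k₀
    haveI : CharP R p := charP_of_injective_algebraMap (algebraMap k₀ R).injective p
    rcases CharP.char_is_prime_or_zero k₀ p with hprime | rfl
    · haveI := Fact.mk hprime
      letI := ZMod.algebra R p
      exact key (ZMod p)
    · haveI : CharZero k₀ := CharP.charP_to_charZero k₀
      letI : Algebra ℚ R := ((algebraMap k₀ R).comp (algebraMap ℚ k₀)).toAlgebra
      exact key ℚ
  intro P _ _ _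
  haveI : Algebra.FormallySmooth P (ResidueField R) := H2PerfectSmooth.formallySmooth P (ResidueField R)
  obtain ⟨g, hg⟩ := Algebra.FormallySmooth.exists_mkₐ_comp_eq_of_isAdicComplete (R := P) (A := ResidueField R)
    (S := R) (I := maximalIdeal R) (AlgHom.id P (ResidueField R))
  exact ⟨g.toRingHom, fun x => AlgHom.congr_fun hg x⟩

theorem formallySmooth_of_geometricallyReduced (k K : Type u) [Field k] [Field K] [Algebra k K]
    [Algebra.IsGeometricallyReduced k K] : Algebra.FormallySmooth k K :=
  H2PerfectSmooth.formallySmooth_of_forall_fg k K fun F _ =>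
    haveI : Algebra.IsGeometricallyReduced k F := Algebra.IsGeometricallyReduced.of_injective F.val F.val.toRingHom.injective
    H2SepGen.formallySmooth k F

end Groth.Agent.H2CohenField
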