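import Mathlib
import Groth.Prelude.Def_CAlgX
import Groth.Agent.Lib.H2AdicFSField
import Groth.Agent.Lib.H2AdicFSLocal
set_option autoImplicit false

/-! Smoothness over a field and regularity. -/
namespace Groth.Agent.H2SmoothRegular
open IsLocalRing
set_option backward.isDefEq.respectTransparency.types false
universe u

variable {k A : Type u} [Field k] [CommRing A] [IsLocalRing A] [IsNoetherianRing A] [Algebra k A]

theorem adicFS_of_formallySmooth [Algebra.FormallySmooth k A] : CAlgX.IsAdicFormallySmooth k A (maximalIdeal A) :=
  fun _ _ _ J hJ ψ _ => Algebra.FormallySmooth.exists_lift J ⟨2, hJ⟩ ψ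

theorem isRegularLocalRing_of_formallySmooth [Algebra.FormallySmooth k A] : IsRegularLocalRing A :=
  H2AdicFSField.isRegularLocalRing_of_adicFS (k := k) adicFS_of_formallySmooth

theorem formallySmooth_iff_regular [Algebra.EssFiniteType k A] [Algebra.FormallySmooth k (ResidueField A)] :
    Algebra.FormallySmooth k A ↔ IsRegularLocalRing A :=
  ⟨fun _ => isRegularLocalRing_of_formallySmooth (k := k),
    fun _ => H2AdicFSLocal.formallySmooth_of_adic k A H2AdicFSField.adicFS_of_regular⟩

theorem isSmoothAt_iff_regular {k S : Type u} [Field k] [CommRing S] [Algebra k S] [Algebra.FiniteType k S]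
    (q : Ideal S) [q.IsPrime] [Algebra.FormallySmooth k q.ResidueField] :
    Algebra.IsSmoothAt k q ↔ IsRegularLocalRing (Localization.AtPrime q) := by
  haveI : IsNoetherianRing S := Algebra.FiniteType.isNoetherianRing k S
  haveI : IsNoetherianRing (Localization.AtPrime q) := IsLocalization.isNoetherianRing q.primeCompl _ inferInstance
  haveI : Algebra.EssFiniteType S (Localization.AtPrime q) := .of_isLocalization _ q.primeCompl
  haveI : Algebra.EssFiniteType k (Localization.AtPrime q) := Algebra.EssFiniteType.comp k S _
  haveI : Algebra.FormallySmooth k (ResidueField (Localization.AtPrime q)) := ‹Algebra.FormallySmooth k q.ResidueField›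
  exact formallySmooth_iff_regular

end Groth.Agent.H2SmoothRegular
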