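import Mathlib
import Groth.Prelude.Def_CAlgX
import Groth.Agent.Lib.H2AdicFSField
import Groth.Agent.Lib.H2AdicTest
set_option autoImplicit false

/-! Extension of derivations to a local algebra, and adic formal smoothness. -/
namespace Groth.Agent.H2DerExtend
open IsLocalRing TensorProduct
set_option backward.isDefEq.respectTransparency.types false
universe u

variable {k A : Type u} [Field k] [CommRing A] [IsLocalRing A] [Algebra k A]

/-- Derivations `k → κ` extend to `A` when adic square-zero lifting holds. -/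
theorem ext_of_adicFS (h : CAlgX.IsAdicFormallySmooth k A (maximalIdeal A)) (δ : Derivation ℤ k (ResidueField A)) :
    ∃ D : Derivation ℤ A (ResidueField A), ∀ x, D (algebraMap k A x) = δ x := by
  let φ : k →+* TrivSqZeroExt (ResidueField A) (ResidueField A) :=
    { toFun := fun x => TrivSqZeroExt.inl (algebraMap k (ResidueField A) x) + TrivSqZeroExt.inr (δ x)
      map_one' := TrivSqZeroExt.ext (by simp) (by simp)
      map_zero' := TrivSqZeroExt.ext (by simp) (by simp)
      map_add' := fun x y => TrivSqZeroExt.ext (by simp) (by simp)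
      map_mul' := fun x y => TrivSqZeroExt.ext (by simp) (by simp only [TrivSqZeroExt.fst_add, TrivSqZeroExt.snd_add, TrivSqZeroExt.snd_mul, TrivSqZeroExt.fst_inl, TrivSqZeroExt.snd_inl, TrivSqZeroExt.fst_inr, TrivSqZeroExt.snd_inr, Derivation.leibniz, Algebra.smul_def, map_mul, op_smul_eq_smul, smul_eq_mul, Algebra.algebraMap_self_apply, RingHom.id_apply]; ring) }
  letI : Algebra k (TrivSqZeroExt (ResidueField A) (ResidueField A)) := φ.toAlgebra
  let π : TrivSqZeroExt (ResidueField A) (ResidueField A) →ₐ[k] (ResidueField A) :=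
    { toRingHom := (TrivSqZeroExt.fstHom (ResidueField A) (ResidueField A) (ResidueField A)).toRingHom
      commutes' := fun x => by
        show TrivSqZeroExt.fst (φ x) = _
        simp [φ] }
  have hπ : Function.Surjective π := fun x => ⟨TrivSqZeroExt.inl x, rfl⟩
  let K := RingHom.ker π.toRingHom
  have hK : K ^ 2 = ⊥ := by
    rw [eq_bot_iff, show (2 : ℕ) = 1 + 1 from rfl, Submodule.pow_succ, Submodule.pow_one, Ideal.mul_le]
    intro x hx y hy
    have hx' : TrivSqZeroExt.fst x = 0 := hx
    have hy' : TrivSqZeroExt.fst y = 0 := hy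
    refine Ideal.mem_bot.2 (TrivSqZeroExt.ext ?_ ?_) <;>
      simp [hx', hy', TrivSqZeroExt.fst_mul, TrivSqZeroExt.snd_mul]
  let e := Ideal.quotientKerAlgEquivOfSurjective hπ
  obtain ⟨g, hg⟩ := h _ K hK (e.symm.toAlgHom.comp (IsScalarTower.toAlgHom k A (ResidueField A))) ⟨1, fun x hx => by
    show e.symm (residue A x) = 0
    rw [(residue_eq_zero_iff x).2 (by simpa using hx), map_zero]⟩
  have hg' : ∀ y, TrivSqZeroExt.fst (g y) = residue A y := fun y => by
    have h2 := congrArg e (AlgHom.congr_fun hg y)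
    exact h2.trans (e.apply_symm_apply _)
  let d : A →+ (ResidueField A) :=
    { toFun := fun y => TrivSqZeroExt.snd (g y)
      map_zero' := by simp
      map_add' := fun y z => by simp }
  refine ⟨Derivation.mk' d.toIntLinearMap fun y z => ?_, fun x => ?_⟩
  · show TrivSqZeroExt.snd (g (y * z)) = y • TrivSqZeroExt.snd (g z) + z • TrivSqZeroExt.snd (g y)
    rw [map_mul, TrivSqZeroExt.snd_mul, hg', hg']
    simp [smul_eq_mul, Algebra.smul_def, mul_comm]
  · show TrivSqZeroExt.snd (g (algebraMap k A x)) = _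
    rw [g.commutes]
    show TrivSqZeroExt.snd (φ x) = _
    simp only [φ, RingHom.coe_mk, MonoidHom.coe_mk, OneHom.coe_mk, TrivSqZeroExt.snd_add, TrivSqZeroExt.snd_inl, TrivSqZeroExt.snd_inr, zero_add]

theorem injective_of_ext
    (hext : ∀ δ : Derivation ℤ k (ResidueField A), ∃ D : Derivation ℤ A (ResidueField A), ∀ x, D (algebraMap k A x) = δ x) :
    Function.Injective ((KaehlerDifferential.mapBaseChange ℤ k A).lTensor (ResidueField A)) := by
  let κ := ResidueField A
  rw [injective_iff_map_eq_zero]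
  intro z hz
  refine (Module.forall_dual_apply_eq_zero_iff κ z).1 fun G => ?_
  let j : Ω[k⁄ℤ] →ₗ[k] κ :=
    (((G.restrictScalars A).comp (TensorProduct.mk A κ (A ⊗[k] Ω[k⁄ℤ]) 1)).restrictScalars k).comp
      (TensorProduct.mk k A (Ω[k⁄ℤ]) 1)
  obtain ⟨D, hD⟩ := hext (j.compDer (KaehlerDifferential.D ℤ k))
  let G' : κ ⊗[A] Ω[A⁄ℤ] →ₗ[κ] κ := D.liftKaehlerDifferential.liftBaseChange κ
  let bc : κ ⊗[A] (A ⊗[k] Ω[k⁄ℤ]) →ₗ[κ] κ ⊗[A] Ω[A⁄ℤ] := LinearMap.baseChange κ (KaehlerDifferential.mapBaseChange ℤ k A)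
  have key : ∀ ω : Ω[k⁄ℤ], G' (bc ((1 : κ) ⊗ₜ[A] ((1 : A) ⊗ₜ[k] ω))) = G ((1 : κ) ⊗ₜ[A] ((1 : A) ⊗ₜ[k] ω)) := by
    intro ω
    have hω : ω ∈ Submodule.span k (Set.range (KaehlerDifferential.D ℤ k)) := by
      rw [KaehlerDifferential.span_range_derivation]; trivial
    induction hω using Submodule.span_induction with
    | mem y hy =>
      obtain ⟨x, rfl⟩ := hy
      simp only [G', bc, LinearMap.baseChange_tmul, LinearMap.liftBaseChange_tmul, one_smul, KaehlerDifferential.mapBaseChange_tmul,
        KaehlerDifferential.map_D, Derivation.liftKaehlerDifferential_comp_D]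
      exact hD x
    | zero => simp
    | add x y _ _ hx hy => simp only [TensorProduct.tmul_add, map_add, hx, hy]
    | smul c x _ hx =>
      have h1 : ((1 : κ) ⊗ₜ[A] ((1 : A) ⊗ₜ[k] (c • x)) : κ ⊗[A] (A ⊗[k] Ω[k⁄ℤ])) =
          algebraMap k κ c • ((1 : κ) ⊗ₜ[A] ((1 : A) ⊗ₜ[k] x)) := by
        rw [TensorProduct.tmul_smul, ← IsScalarTower.algebraMap_smul A c, TensorProduct.tmul_smul,
          ← IsScalarTower.algebraMap_smul κ (algebraMap k A c), ← IsScalarTower.algebraMap_apply]
      rw [h1, map_smul, map_smul, map_smul, hx]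
  have hGG : G'.comp bc = G := by
    refine TensorProduct.AlgebraTensorModule.ext fun c w => ?_
    have hc : (c ⊗ₜ[A] w : κ ⊗[A] (A ⊗[k] Ω[k⁄ℤ])) = c • ((1 : κ) ⊗ₜ[A] w) := by
      rw [TensorProduct.smul_tmul', smul_eq_mul, mul_one]
    rw [hc, map_smul, map_smul]
    congr 1
    clear hc
    induction w with
    | zero => simp
    | add x y hx hy => rw [TensorProduct.tmul_add, map_add, map_add, hx, hy]
    | tmul a ω =>
      have h1 : ((1 : κ) ⊗ₜ[A] (a ⊗ₜ[k] ω) : κ ⊗[A] (A ⊗[k] Ω[k⁄ℤ])) = algebraMap A κ a • ((1 : κ) ⊗ₜ[A] ((1 : A) ⊗ₜ[k] ω)) := by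
        rw [IsScalarTower.algebraMap_smul, ← TensorProduct.tmul_smul, TensorProduct.smul_tmul', smul_eq_mul, mul_one]
      rw [h1, map_smul, map_smul]
      exact congrArg (algebraMap A κ a • ·) (key ω)
  have hb : bc z = 0 := hz
  rw [← hGG, LinearMap.comp_apply, hb, map_zero]

theorem ext_of_injective
    (hinj : Function.Injective ((KaehlerDifferential.mapBaseChange ℤ k A).lTensor (ResidueField A)))
    (δ : Derivation ℤ k (ResidueField A)) : ∃ D : Derivation ℤ A (ResidueField A), ∀ x, D (algebraMap k A x) = δ x := by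
  let κ := ResidueField A
  let bc : κ ⊗[A] (A ⊗[k] Ω[k⁄ℤ]) →ₗ[κ] κ ⊗[A] Ω[A⁄ℤ] := LinearMap.baseChange κ (KaehlerDifferential.mapBaseChange ℤ k A)
  obtain ⟨g, hg⟩ := bc.exists_leftInverse_of_injective (LinearMap.ker_eq_bot.2 hinj)
  let G : κ ⊗[A] (A ⊗[k] Ω[k⁄ℤ]) →ₗ[κ] κ := (δ.liftKaehlerDifferential.liftBaseChange A).liftBaseChange κ
  let F : Ω[A⁄ℤ] →ₗ[A] κ := (((G.comp g).restrictScalars A)).comp (TensorProduct.mk A κ (Ω[A⁄ℤ]) 1)
  refine ⟨F.compDer (KaehlerDifferential.D ℤ A), fun x => ?_⟩
  show G (g ((1 : κ) ⊗ₜ[A] KaehlerDifferential.D ℤ A (algebraMap k A x))) = δ x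
  have h1 : ((1 : κ) ⊗ₜ[A] KaehlerDifferential.D ℤ A (algebraMap k A x)) =
      bc ((1 : κ) ⊗ₜ[A] ((1 : A) ⊗ₜ[k] KaehlerDifferential.D ℤ k x)) := by
    simp [bc, KaehlerDifferential.mapBaseChange_tmul]
  rw [h1, ← LinearMap.comp_apply g bc, hg, LinearMap.id_apply]
  simp [G, Derivation.liftKaehlerDifferential_comp_D]

/-- Regular plus extension of derivations implies adic formal smoothness. -/
theorem adicFS_of_regular_of_ext [IsRegularLocalRing A] (P : Type u) [Field P] [PerfectField P] [Algebra P k] [Algebra P A]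
    [IsScalarTower P k A]
    (hext : ∀ δ : Derivation ℤ k (ResidueField A), ∃ D : Derivation ℤ A (ResidueField A), ∀ x, D (algebraMap k A x) = δ x) :
    CAlgX.IsAdicFormallySmooth k A (maximalIdeal A) := by
  refine H2AdicTest.isAdicFormallySmooth_of_length_one fun C _ _ _ _ N π hπ hsq hlen => ?_
  let T := A ⧸ maximalIdeal A ^ (N + 1)
  let J := RingHom.ker π.toRingHom
  haveI : Nontrivial T := Ideal.Quotient.nontrivial_iff.2 fun h =>
    (maximalIdeal.isMaximal A).ne_top (top_le_iff.1 (h.ge.trans (Ideal.pow_le_self N.succ_ne_zero)))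
  let q : T →+* ResidueField A := Ideal.Quotient.lift _ (residue A) fun x hx =>
    (residue_eq_zero_iff x).2 (Ideal.pow_le_self N.succ_ne_zero hx)
  let φC : C →+* ResidueField A := q.comp π.toRingHom
  have hφC : Function.Surjective φC := fun y => by
    obtain ⟨a, rfl⟩ := residue_surjective y
    obtain ⟨c, hc⟩ := hπ (Ideal.Quotient.mk _ a)
    exact ⟨c, by show q (π c) = _; rw [hc]; rfl⟩
  have hkφ : RingHom.ker φC = maximalIdeal C := IsLocalRing.eq_maximalIdeal (RingHom.ker_isMaximal_of_surjective _ hφC)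
  haveI hsimp : IsSimpleModule C J := Module.length_eq_one_iff.1 hlen
  have hat : IsAtom J := isSimpleModule_iff_isAtom.1 hsimp
  obtain ⟨j1, hj1, hj0⟩ := Submodule.exists_mem_ne_zero_of_ne_bot hat.1
  have hgen : ∀ j ∈ J, ∃ c : C, j = c * j1 := fun j hj => by
    have hle : Ideal.span {j1} ≤ J := (Ideal.span_singleton_le_iff_mem _).2 hj1
    rcases hat.le_iff.1 hle with h | h
    · exact absurd (Ideal.span_singleton_eq_bot.1 h) hj0
    · obtain ⟨c, hc⟩ := Ideal.mem_span_singleton'.1 (h.symm ▸ hj)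
      exact ⟨c, hc.symm⟩
  have hann : ∀ c : C, c * j1 = 0 ↔ φC c = 0 := by
    intro c
    rw [← RingHom.mem_ker, hkφ]
    constructor
    · intro h
      rw [mem_maximalIdeal]
      exact fun hu => hj0 (hu.mul_right_eq_zero.1 h)
    · intro h
      by_contra hne
      obtain ⟨d, hd⟩ : ∃ d, j1 = d * (c * j1) := by
        have hle : Ideal.span {c * j1} ≤ J := (Ideal.span_singleton_le_iff_mem _).2 (J.mul_mem_left c hj1)
        rcases hat.le_iff.1 hle with h2 | h2
        · exact absurd (Ideal.span_singleton_eq_bot.1 h2) hne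
        · obtain ⟨d, hd⟩ := Ideal.mem_span_singleton'.1 (h2.symm ▸ hj1)
          exact ⟨d, hd.symm⟩
      have hu : IsUnit (1 - d * c) := by
        refine (IsLocalRing.isUnit_or_isUnit_one_sub_self (d * c)).resolve_left fun h3 => ?_
        exact (mem_maximalIdeal c).1 h (isUnit_of_mul_isUnit_right h3)
      exact hj0 (hu.mul_right_eq_zero.1 (by linear_combination hd))
  choose coef hcoef using hgen
  -- lift over the perfect field
  haveI : Algebra.FormallySmooth P (ResidueField A) := H2PerfectSmooth.formallySmooth P (ResidueField A)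
  letI : Algebra P C := ((algebraMap k C).comp (algebraMap P k)).toAlgebra
  haveI : IsScalarTower P k C := IsScalarTower.of_algebraMap_eq' rfl
  let e : (C ⧸ J) ≃ₐ[k] T := Ideal.quotientKerAlgEquivOfSurjective hπ
  let ψ : A →ₐ[k] C ⧸ J := e.symm.toAlgHom.comp (Ideal.Quotient.mkₐ k _)
  obtain ⟨χ, hχ⟩ := H2AdicFSField.adicFS_of_regular (k := P) C J hsq (ψ.restrictScalars P) ⟨N + 1, fun x hx => by
    show e.symm (Ideal.Quotient.mk _ x) = 0
    rw [Ideal.Quotient.eq_zero_iff_mem.2 hx, map_zero]⟩
  have hπχ : ∀ a, π (χ a) = Ideal.Quotient.mk _ a := fun a => by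
    have h1 := congrArg e (AlgHom.congr_fun hχ a)
    rw [show (ψ.restrictScalars P) a = e.symm (Ideal.Quotient.mk _ a) from rfl, e.apply_symm_apply] at h1
    exact h1
  have hφχ : ∀ a, φC (χ a) = residue A a := fun a => by
    show q (π (χ a)) = _
    rw [hπχ]; rfl
  have hd : ∀ x : k, χ (algebraMap k A x) - algebraMap k C x ∈ J := fun x => by
    show π (χ (algebraMap k A x) - algebraMap k C x) = 0
    rw [map_sub, hπχ, π.commutes, sub_eq_zero]
    rfl
  let δf : k → ResidueField A := fun x => φC (coef _ (hd x))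
  have hcoefeq : ∀ {c c' : C}, c * j1 = c' * j1 → φC c = φC c' := fun {c c'} h => by
    rw [← sub_eq_zero, ← map_sub, ← hann, sub_mul, h, sub_self]
  let δa : k →+ ResidueField A :=
    { toFun := δf
      map_zero' := by
        show φC (coef _ (hd 0)) = 0
        rw [← hann, ← hcoef]; simp
      map_add' := fun x y => by
        show φC (coef _ (hd (x + y))) = φC (coef _ (hd x)) + φC (coef _ (hd y))
        rw [← map_add]
        refine hcoefeq ?_
        rw [add_mul, ← hcoef, ← hcoef, ← hcoef, map_add, map_add, map_add]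
        ring }
  let δ : Derivation ℤ k (ResidueField A) := Derivation.mk' δa.toIntLinearMap fun x y => by
    show φC (coef _ (hd (x * y))) = x • φC (coef _ (hd y)) + y • φC (coef _ (hd x))
    rw [Algebra.smul_def, Algebra.smul_def, IsScalarTower.algebraMap_apply k A (ResidueField A),
      IsScalarTower.algebraMap_apply k A (ResidueField A) y, show algebraMap A (ResidueField A) = residue A from rfl,
      ← hφχ, ← hφχ, ← map_mul, ← map_mul, ← map_add]
    refine hcoefeq ?_
    have h0 : (χ (algebraMap k A x) - algebraMap k C x) * (χ (algebraMap k A y) - algebraMap k C y) = 0 := by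
      rw [← Ideal.mem_bot, ← hsq, pow_two]
      exact Ideal.mul_mem_mul (hd x) (hd y)
    rw [add_mul, mul_assoc, mul_assoc, ← hcoef, ← hcoef, ← hcoef, map_mul, map_mul, map_mul]
    linear_combination -h0
  obtain ⟨D, hD⟩ := hext δ
  choose l hl using fun y => hφC y
  have hl' : ∀ {y : ResidueField A} {c : C}, φC c = y → l y * j1 = c * j1 := fun {y c} h => by
    rw [← sub_eq_zero, ← sub_mul, hann, map_sub, hl, h, sub_self]
  have hDj : ∀ a b, l (D a) * j1 * (l (D b) * j1) = 0 := fun a b => by
    rw [← Ideal.mem_bot, ← hsq, pow_two]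
    exact Ideal.mul_mem_mul (J.mul_mem_left _ hj1) (J.mul_mem_left _ hj1)
  refine ⟨{ toFun := fun a => χ a - l (D a) * j1
            map_one' := ?_
            map_mul' := ?_
            map_zero' := ?_
            map_add' := ?_
            commutes' := ?_ }, AlgHom.ext fun a => ?_⟩
  · rw [map_one, D.map_one_eq_zero, hl' (map_zero φC), zero_mul, sub_zero]
  · intro a b
    have h1 : l (D (a * b)) * j1 = (χ a * l (D b) + χ b * l (D a)) * j1 := hl' (by
      rw [map_add, map_mul, map_mul, hl, hl, hφχ, hφχ, D.leibniz, Algebra.smul_def, Algebra.smul_def]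
      rfl)
    rw [h1, map_mul]
    linear_combination -(hDj a b)
  · show χ 0 - l (D 0) * j1 = 0
    rw [map_zero, map_zero, hl' (map_zero φC), zero_mul, sub_zero]
  · intro a b
    show χ (a + b) - l (D (a + b)) * j1 = (χ a - _) + (χ b - _)
    rw [map_add, map_add, hl' (c := l (D a) + l (D b)) (by rw [map_add, hl, hl]), add_mul]
    ring
  · intro x
    show χ (algebraMap k A x) - l (D (algebraMap k A x)) * j1 = _
    rw [hD]
    show χ (algebraMap k A x) - l (δf x) * j1 = _
    rw [hl' (c := coef _ (hd x)) rfl, ← hcoef, sub_sub_cancel]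
  · show π (χ a - l (D a) * j1) = _
    rw [map_sub, hπχ, show π (l (D a) * j1) = 0 from J.mul_mem_left _ hj1, sub_zero]
    rfl

end Groth.Agent.H2DerExtend

namespace Groth.Agent.H2DerExtend
open IsLocalRing TensorProduct
universe u
variable {k A : Type u} [Field k] [CommRing A] [IsLocalRing A] [Algebra k A]

theorem adicFS_iff [IsNoetherianRing A] : CAlgX.IsAdicFormallySmooth k A (maximalIdeal A) ↔
    IsRegularLocalRing A ∧ ∀ δ : Derivation ℤ k (ResidueField A),
      ∃ D : Derivation ℤ A (ResidueField A), ∀ x, D (algebraMap k A x) = δ x := by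
  constructor
  · intro h
    exact ⟨H2AdicFSField.isRegularLocalRing_of_adicFS h, ext_of_adicFS h⟩
  · rintro ⟨hreg, hext⟩
    haveI := hreg
    let P := (⊥ : Subfield k)
    haveI : PerfectField P := by
      obtain _ | ⟨q, hq, hqk⟩ := CharP.exists' k
      · haveI : CharZero P := charZero_of_inj_zero fun n hn => by
          have := congrArg (Subtype.val) hn
          exact_mod_cast this
        infer_instance
      · haveI := Fact.mk hq.out
        haveI : Finite P := by
          have hle : P ≤ (ZMod.castHom (dvd_refl q) k).fieldRange := bot_le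
          haveI : Finite (ZMod.castHom (dvd_refl q) k).fieldRange := Finite.of_surjective _ (RingHom.rangeRestrictField_bijective _).2
          exact Finite.of_injective _ (Subfield.inclusion hle).injective
        infer_instance
    exact adicFS_of_regular_of_ext P hext

end Groth.Agent.H2DerExtend
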