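import Mathlib
import Groth.Agent.Lib.H2PerfectSmooth
set_option autoImplicit false

/-! Formally smooth field extensions are geometrically reduced (Mac Lane). -/
namespace Groth.Agent.H2GeomRed
open TensorProduct
set_option backward.isDefEq.respectTransparency.types false
universe u v

theorem geometricallyReduced_of_pow (k K : Type u) [Field k] [Field K] [Algebra k K] (p : ℕ) (hp : p.Prime) [CharP k p]
    (hpow : ∀ s : Finset K, LinearIndepOn k _root_.id (s : Set K) → LinearIndepOn k (· ^ p) (s : Set K)) :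
    Algebra.IsGeometricallyReduced k K := by
  classical
  rw [Algebra.isGeometricallyReduced_field_iff]
  haveI : Fact p.Prime := ⟨hp⟩
  let C := AlgebraicClosure k
  haveI : CharP C p := charP_of_injective_algebraMap (algebraMap k C).injective p
  haveI : Nontrivial (C ⊗[k] K) :=
    (Algebra.TensorProduct.includeLeft_injective (S := C) (A := C) (B := K) (algebraMap k K).injective).nontrivial
  haveI : CharP (C ⊗[k] K) p := charP_of_injective_algebraMap (algebraMap C (C ⊗[k] K)).injective p
  rw [isReduced_iff_pow_one_lt p hp.one_lt]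
  intro z hz
  let b := Module.Basis.ofVectorSpace k K
  let bC := Algebra.TensorProduct.basis C b
  let s := (bC.repr z).support
  have hzs : z = ∑ i ∈ s, bC.repr z i • bC i := by
    conv_lhs => rw [← bC.linearCombination_repr z]
    rfl
  have hz2 : ∑ i ∈ s, (bC.repr z i) ^ p • ((1 : C) ⊗ₜ[k] (b i ^ p)) = 0 := by
    rw [← hz]
    conv_rhs => rw [hzs, sum_pow_char]
    refine Finset.sum_congr rfl fun i _ => ?_
    rw [smul_pow, Algebra.TensorProduct.basis_apply, Algebra.TensorProduct.tmul_pow, one_pow]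
  have hsi : LinearIndependent k (fun i : (s : Set (Module.Basis.ofVectorSpaceIndex k K)) => b i) := b.linearIndependent.comp (fun i : (s : Set (Module.Basis.ofVectorSpaceIndex k K)) => (i.1)) Subtype.val_injective
  have himg : LinearIndepOn k _root_.id ((s.image fun i => b i : Finset K) : Set K) := by
    rw [Finset.coe_image]
    exact LinearIndepOn.id_image hsi
  have h2 := (hpow _ himg)
  have h3 : LinearIndependent k (fun i : (s : Set (Module.Basis.ofVectorSpaceIndex k K)) => (b i : K) ^ p) :=
    h2.comp (fun i : (s : Set (Module.Basis.ofVectorSpaceIndex k K)) => (⟨b i, by simpa using Finset.mem_image_of_mem (fun i => b i) i.2⟩ :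
      ((s.image fun i => b i : Finset K) : Set K))) fun i j hij => Subtype.ext (b.injective (congrArg Subtype.val hij))
  obtain ⟨g, hg⟩ := (Finsupp.linearCombination k fun i : (s : Set (Module.Basis.ofVectorSpaceIndex k K)) => (b i : K) ^ p).exists_leftInverse_of_injective
    (LinearMap.ker_eq_bot.2 h3)
  have hc : ∀ i ∈ s, bC.repr z i = 0 := fun i hi => by
    let f : K →ₗ[k] k := Finsupp.lapply (⟨i, hi⟩ : (s : Set (Module.Basis.ofVectorSpaceIndex k K))) ∘ₗ g
    have hf : ∀ j : (s : Set (Module.Basis.ofVectorSpaceIndex k K)), f ((b j : K) ^ p) = if j = ⟨i, hi⟩ then 1 else 0 := fun j => by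
      have h := LinearMap.congr_fun hg (Finsupp.single j 1)
      rw [LinearMap.comp_apply, Finsupp.linearCombination_single, one_smul] at h
      show (g ((b j : K) ^ p)) _ = _
      rw [h, LinearMap.id_apply, Finsupp.single_apply]
    have h4 := congrArg (fun w => TensorProduct.rid k C (f.lTensor C w)) hz2
    simp only [smul_tmul', smul_eq_mul, mul_one, map_sum, LinearMap.lTensor_tmul, TensorProduct.rid_tmul, map_zero] at h4
    rw [Finset.sum_eq_single i (fun j hj hji => by
      rw [hf ⟨j, hj⟩, if_neg (fun h => hji (congrArg Subtype.val h)), zero_smul]) (fun h => absurd hi h),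
      hf ⟨i, hi⟩, if_pos rfl, one_smul] at h4
    exact pow_eq_zero_iff hp.ne_zero |>.1 h4
  rw [hzs]
  exact Finset.sum_eq_zero fun i hi => by rw [hc i hi, zero_smul]

theorem geometricallyReduced_of_charZero (k K : Type u) [Field k] [CharZero k] [Field K] [Algebra k K] :
    Algebra.IsGeometricallyReduced k K := by
  rw [Algebra.isGeometricallyReduced_field_iff]
  let C := AlgebraicClosure k
  haveI : IsReduced (K ⊗[k] C) := IsReduced.tensorProduct_of_flat_of_forall_fg fun B hB => by
    haveI : Algebra.FiniteType k B := (Subalgebra.fg_iff_finiteType _).1 hB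
    haveI : Algebra.IsIntegral k B := Algebra.IsIntegral.of_injective B.val Subtype.val_injective
    haveI : Module.Finite k B := Algebra.IsIntegral.finite
    haveI : IsField B := isField_of_isIntegral_of_isField' (Field.toIsField k)
    letI : Field B := ‹IsField B›.toField
    haveI : Algebra.IsSeparable k B := inferInstance
    haveI : Algebra.FormallyUnramified k B := Algebra.FormallyUnramified.of_isSeparable k B
    exact Algebra.FormallyUnramified.isReduced_of_field K (K ⊗[k] B)
  exact isReduced_of_injective (Algebra.TensorProduct.comm k C K) (Algebra.TensorProduct.comm k C K).injective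

/-- In characteristic `p`, an element killed by all derivations is a `p`-th power. -/
theorem exists_pow_of_derivation_eq_zero (k : Type u) [Field k] (p : ℕ) (hp : p.Prime) [CharP k p] (a : k)
    (ha : ∀ δ : Derivation ℤ k k, δ a = 0) : ∃ b : k, b ^ p = a := by
  classical
  by_contra hne
  push Not at hne
  haveI : Fact p.Prime := ⟨hp⟩
  let f : Polynomial k := Polynomial.X ^ p - Polynomial.C a
  have hfm : f.Monic := Polynomial.monic_X_pow_sub_C a hp.ne_zero
  haveI : Fact (Irreducible f) := ⟨X_pow_sub_C_irreducible_of_prime hp hne⟩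
  let k' := AdjoinRoot f
  let C2 := AdjoinRoot (f ^ 2)
  let J : Ideal C2 := Ideal.span {AdjoinRoot.mk (f ^ 2) f}
  have hJ : J ^ 2 = ⊥ := by
    rw [Ideal.span_singleton_pow, ← map_pow, AdjoinRoot.mk_self, Ideal.span_singleton_eq_bot]
  haveI : CharP k' p := charP_of_injective_algebraMap (algebraMap k k').injective p
  have hinj2 : Function.Injective (algebraMap k C2) := by
    refine AdjoinRoot.coe_injective ?_
    rw [Polynomial.degree_pow, Polynomial.degree_X_pow_sub_C hp.pos]
    simp [hp.ne_zero]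
  haveI : CharP C2 p := charP_of_injective_algebraMap hinj2 p
  letI : Algebra (ZMod p) k' := ZMod.algebra k' p
  letI : Algebra (ZMod p) C2 := ZMod.algebra C2 p
  haveI : Algebra.FormallySmooth (ZMod p) k' := H2PerfectSmooth.formallySmooth (ZMod p) k'
  let u : k' →+* C2 ⧸ J := AdjoinRoot.lift ((Ideal.Quotient.mk J).comp (algebraMap k C2))
    (Ideal.Quotient.mk J (AdjoinRoot.root (f ^ 2))) (by
      rw [← Polynomial.hom_eval₂]
      refine Ideal.Quotient.eq_zero_iff_mem.2 ?_
      rw [← Polynomial.aeval_def, AdjoinRoot.aeval_eq]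
      exact Ideal.mem_span_singleton_self _)
  let u' : k' →ₐ[ZMod p] C2 ⧸ J :=
    { u with commutes' := fun r => RingHom.congr_fun (Subsingleton.elim (u.comp (algebraMap (ZMod p) k')) (algebraMap (ZMod p) (C2 ⧸ J))) r }
  obtain ⟨s, hs⟩ := Algebra.FormallySmooth.exists_lift J ⟨2, hJ⟩ u'
  have hsk : ∀ x : k, s (algebraMap k k' x) - algebraMap k C2 x ∈ J := fun x => by
    rw [← Ideal.Quotient.eq]
    refine (AlgHom.congr_fun hs _).trans ?_
    show u (algebraMap k k' x) = _
    exact AdjoinRoot.lift_of _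
  let d : k →+ J :=
    { toFun := fun x => ⟨_, hsk x⟩
      map_zero' := Subtype.ext (by simp)
      map_add' := fun x y => Subtype.ext (by
        show s (algebraMap k k' (x + y)) - algebraMap k C2 (x + y) = (s _ - _) + (s _ - _)
        rw [map_add, map_add, map_add]; ring) }
  let D : Derivation ℤ k J := Derivation.mk' d.toIntLinearMap fun x y => Subtype.ext (by
    show s (algebraMap k k' (x * y)) - algebraMap k C2 (x * y) =
      ((x • d y + y • d x : J) : C2)
    have h0 : (s (algebraMap k k' x) - algebraMap k C2 x) * (s (algebraMap k k' y) - algebraMap k C2 y) = 0 := by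
      rw [← Ideal.mem_bot, ← hJ, pow_two J]
      exact Ideal.mul_mem_mul (hsk x) (hsk y)
    rw [Submodule.coe_add, Submodule.coe_smul_of_tower, Submodule.coe_smul_of_tower, Algebra.smul_def, Algebra.smul_def]
    show _ = algebraMap k C2 x * (s _ - _) + algebraMap k C2 y * (s _ - _)
    rw [map_mul, map_mul, map_mul]
    linear_combination h0)
  have hDa : D a = 0 := by
    refine (Module.forall_dual_apply_eq_zero_iff k (D a)).1 fun l => ?_
    exact ha (l.compDer D)
  have hsa : s (algebraMap k k' a) = algebraMap k C2 a := sub_eq_zero.1 (congrArg Subtype.val hDa)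
  have hroot : (AdjoinRoot.root f) ^ p = algebraMap k k' a := by
    rw [← sub_eq_zero]
    have := AdjoinRoot.mk_self (f := f)
    rwa [map_sub, map_pow, AdjoinRoot.mk_X, AdjoinRoot.mk_C] at this
  have hsr : s (AdjoinRoot.root f) - AdjoinRoot.root (f ^ 2) ∈ J := by
    rw [← Ideal.Quotient.eq]
    refine (AlgHom.congr_fun hs _).trans ?_
    show u (AdjoinRoot.root f) = _
    simp only [u]
    exact AdjoinRoot.lift_root _
  have h0 : (s (AdjoinRoot.root f) - AdjoinRoot.root (f ^ 2)) ^ p = 0 := by
    rw [← Ideal.mem_bot, ← hJ]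
    exact Ideal.pow_le_pow_right hp.two_le (Ideal.pow_mem_pow hsr p)
  rw [sub_pow_char, ← map_pow, hroot, hsa, sub_eq_zero] at h0
  have h1 : AdjoinRoot.mk (f ^ 2) f = 0 := by
    rw [map_sub, map_pow, AdjoinRoot.mk_X, AdjoinRoot.mk_C, ← h0]
    exact sub_self _
  rw [AdjoinRoot.mk_eq_zero] at h1
  have h2 := Polynomial.natDegree_le_of_dvd h1 hfm.ne_zero
  rw [hfm.natDegree_pow, Polynomial.natDegree_X_pow_sub_C] at h2
  have := hp.pos
  omega

/-- Derivations extend when square-zero lifting holds. -/
theorem exists_derivation (k A L : Type u) [Field k] [CommRing A] [Field L] [Algebra k A] [Algebra k L] [Algebra A L]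
    [IsScalarTower k A L]
    (hlift : ∀ (E : Type u) [CommRing E] [Algebra k E] (π : E →ₐ[k] L), Function.Surjective π →
      RingHom.ker π.toRingHom ^ 2 = ⊥ → ∃ g : A →ₐ[k] E, π.comp g = IsScalarTower.toAlgHom k A L)
    (δ : Derivation ℤ k k) : ∃ D : Derivation ℤ A L, ∀ x, D (algebraMap k A x) = algebraMap k L (δ x) := by
  let φ : k →+* TrivSqZeroExt L L :=
    { toFun := fun x => TrivSqZeroExt.inl (algebraMap k L x) + TrivSqZeroExt.inr (algebraMap k L (δ x))
      map_one' := TrivSqZeroExt.ext (by simp only [TrivSqZeroExt.fst_add, TrivSqZeroExt.snd_add, TrivSqZeroExt.fst_mul, TrivSqZeroExt.snd_mul, TrivSqZeroExt.fst_inl, TrivSqZeroExt.snd_inl, TrivSqZeroExt.fst_inr, TrivSqZeroExt.snd_inr, TrivSqZeroExt.fst_one, TrivSqZeroExt.snd_one, TrivSqZeroExt.fst_zero, TrivSqZeroExt.snd_zero, map_mul, map_add, map_one, map_zero, Derivation.leibniz, Derivation.map_one_eq_zero, smul_eq_mul, op_smul_eq_smul]; ring) (by simp only [TrivSqZeroExt.fst_add, TrivSqZeroExt.snd_add, TrivSqZeroExt.fst_mul, TrivSqZeroExt.snd_mul,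 TrivSqZeroExt.fst_inl, TrivSqZeroExt.snd_inl, TrivSqZeroExt.fst_inr, TrivSqZeroExt.snd_inr, TrivSqZeroExt.fst_one, TrivSqZeroExt.snd_one, TrivSqZeroExt.fst_zero, TrivSqZeroExt.snd_zero, map_mul, map_add, map_one, map_zero, Derivation.leibniz, Derivation.map_one_eq_zero, smul_eq_mul, op_smul_eq_smul]; ring)
      map_zero' := TrivSqZeroExt.ext (by simp only [TrivSqZeroExt.fst_add, TrivSqZeroExt.snd_add, TrivSqZeroExt.fst_mul, TrivSqZeroExt.snd_mul, TrivSqZeroExt.fst_inl, TrivSqZeroExt.snd_inl, TrivSqZeroExt.fst_inr, TrivSqZeroExt.snd_inr, TrivSqZeroExt.fst_one, TrivSqZeroExt.snd_one, TrivSqZeroExt.fst_zero, TrivSqZeroExt.snd_zero, map_mul, map_add, map_one, map_zero, Derivation.leibniz, Derivation.map_one_eq_zero, smul_eq_mul, op_smul_eq_smul]; ring) (by simp only [TrivSqZeroExt.fst_add, TrivSqZeroExt.snd_add, TrivSqZeroExt.fst_mul, TrivSqZeroExt.snd_mul, TrivSqZeroExt.fst_inl, TrivSqZeroExt.snd_inl, TrivSqZeroExt.fst_inr, TrivSqZeroExt.snd_inr, TrivSqZeroExt.fst_one, TrivSqZeroExt.snd_one, TrivSqZeroExt.fst_zero,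 TrivSqZeroExt.snd_zero, map_mul, map_add, map_one, map_zero, Derivation.leibniz, Derivation.map_one_eq_zero, smul_eq_mul, op_smul_eq_smul]; ring)
      map_add' := fun x y => TrivSqZeroExt.ext (by simp only [TrivSqZeroExt.fst_add, TrivSqZeroExt.snd_add, TrivSqZeroExt.fst_mul, TrivSqZeroExt.snd_mul, TrivSqZeroExt.fst_inl, TrivSqZeroExt.snd_inl, TrivSqZeroExt.fst_inr, TrivSqZeroExt.snd_inr, TrivSqZeroExt.fst_one, TrivSqZeroExt.snd_one, TrivSqZeroExt.fst_zero, TrivSqZeroExt.snd_zero, map_mul, map_add, map_one, map_zero, Derivation.leibniz, Derivation.map_one_eq_zero, smul_eq_mul, op_smul_eq_smul]; ring) (by simp only [TrivSqZeroExt.fst_add, TrivSqZeroExt.snd_add, TrivSqZeroExt.fst_mul, TrivSqZeroExt.snd_mul, TrivSqZeroExt.fst_inl, TrivSqZeroExt.snd_inl, TrivSqZeroExt.fst_inr, TrivSqZeroExt.snd_inr, TrivSqZeroExt.fst_one, TrivSqZeroExt.snd_one, TrivSqZeroExt.fst_zero, TrivSqZeroExt.snd_zero, map_mul, map_add, map_one, map_zero, Derivation.leibniz, Derivation.map_one_eq_zero, smul_eq_mul, op_smul_eq_smul]; ring)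
      map_mul' := fun x y => TrivSqZeroExt.ext (by simp only [TrivSqZeroExt.fst_add, TrivSqZeroExt.snd_add, TrivSqZeroExt.fst_mul, TrivSqZeroExt.snd_mul, TrivSqZeroExt.fst_inl, TrivSqZeroExt.snd_inl, TrivSqZeroExt.fst_inr, TrivSqZeroExt.snd_inr, TrivSqZeroExt.fst_one, TrivSqZeroExt.snd_one, TrivSqZeroExt.fst_zero, TrivSqZeroExt.snd_zero, map_mul, map_add, map_one, map_zero, Derivation.leibniz, Derivation.map_one_eq_zero, smul_eq_mul, op_smul_eq_smul]; ring) (by simp only [TrivSqZeroExt.fst_add, TrivSqZeroExt.snd_add, TrivSqZeroExt.fst_mul, TrivSqZeroExt.snd_mul, TrivSqZeroExt.fst_inl, TrivSqZeroExt.snd_inl, TrivSqZeroExt.fst_inr, TrivSqZeroExt.snd_inr, TrivSqZeroExt.fst_one, TrivSqZeroExt.snd_one, TrivSqZeroExt.fst_zero, TrivSqZeroExt.snd_zero, map_mul, map_add, map_one, map_zero, Derivation.leibniz, Derivation.map_one_eq_zero, smul_eq_mul, op_smul_eq_smul]; ring) }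
  letI : Algebra k (TrivSqZeroExt L L) := φ.toAlgebra
  let π : TrivSqZeroExt L L →ₐ[k] L := { TrivSqZeroExt.fstHom L L L with
    commutes' := fun x => by
      show TrivSqZeroExt.fst (φ x) = _
      simp [φ] }
  have hπ : Function.Surjective π := fun x => ⟨TrivSqZeroExt.inl x, rfl⟩
  have hker : RingHom.ker π.toRingHom ^ 2 = ⊥ := by
    rw [eq_bot_iff, show (2 : ℕ) = 1 + 1 from rfl, Submodule.pow_succ, Submodule.pow_one, Ideal.mul_le]
    intro x hx y hy
    have hx' : TrivSqZeroExt.fst x = 0 := hx
    have hy' : TrivSqZeroExt.fst y = 0 := hy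
    refine Ideal.mem_bot.2 (TrivSqZeroExt.ext ?_ ?_) <;>
      simp [hx', hy', TrivSqZeroExt.fst_mul, TrivSqZeroExt.snd_mul]
  obtain ⟨g, hg'⟩ := hlift _ π hπ hker
  have hg : ∀ y, TrivSqZeroExt.fst (g y) = algebraMap A L y := fun y => AlgHom.congr_fun hg' y
  let d : A →+ L :=
    { toFun := fun y => TrivSqZeroExt.snd (g y)
      map_zero' := by simp
      map_add' := fun y z => by simp }
  refine ⟨Derivation.mk' d.toIntLinearMap fun y z => ?_, fun x => ?_⟩
  · show TrivSqZeroExt.snd (g (y * z)) = y • TrivSqZeroExt.snd (g z) + z • TrivSqZeroExt.snd (g y)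
    rw [map_mul, TrivSqZeroExt.snd_mul, hg, hg]
    simp [smul_eq_mul, Algebra.smul_def, mul_comm]
  · show TrivSqZeroExt.snd (g (algebraMap k A x)) = _
    rw [g.commutes]
    show TrivSqZeroExt.snd (φ x) = _
    simp only [φ, RingHom.coe_mk, MonoidHom.coe_mk, OneHom.coe_mk, TrivSqZeroExt.snd_add, TrivSqZeroExt.snd_inl, TrivSqZeroExt.snd_inr, zero_add]

theorem linearIndepOn_pow_of_derivations (k K L : Type u) [Field k] [Field K] [Field L] [Algebra k K] [Algebra k L] [Algebra K L]
    [IsScalarTower k K L]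
    (hext : ∀ δ : Derivation ℤ k k, ∃ D : Derivation ℤ K L, ∀ x, D (algebraMap k K x) = algebraMap k L (δ x))
    (p : ℕ) (hp : p.Prime) [CharP k p] (s : Finset K) (hs : LinearIndepOn k _root_.id (s : Set K)) :
    LinearIndepOn k (· ^ p) (s : Set K) := by
  classical
  haveI : Fact p.Prime := ⟨hp⟩
  haveI : CharP K p := charP_of_injective_algebraMap (algebraMap k K).injective p
  haveI : CharP L p := charP_of_injective_algebraMap (algebraMap k L).injective p
  suffices key : ∀ n : ℕ, ∀ t : Finset K, t ⊆ s → t.card = n → ∀ c : K → k, ∑ x ∈ t, c x • x ^ p = 0 → ∀ x ∈ t, c x = 0 by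
    rw [linearIndepOn_finset_iff]
    exact fun c hc i hi => key _ s subset_rfl rfl c hc i hi
  intro n
  induction n using Nat.strong_induction_on with
  | _ n ih =>
    intro t hts hn c hc i hi
    by_contra hci
    let c' : K → k := fun x => c x / c i
    have hc' : ∑ x ∈ t, c' x • x ^ p = 0 := by
      have : ∀ x, c' x • x ^ p = (c i)⁻¹ • (c x • x ^ p) := fun x => by rw [smul_smul]; congr 1; simp [c', div_eq_inv_mul]
      simp_rw [this, ← Finset.smul_sum, hc, smul_zero]
    have hpow : ∀ x ∈ t, ∃ b : k, b ^ p = c' x := by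
      intro x hx
      refine exists_pow_of_derivation_eq_zero k p hp _ fun δ => ?_
      rcases eq_or_ne x i with rfl | hxi
      · rw [show c' x = 1 from div_self hci, Derivation.map_one_eq_zero]
      · obtain ⟨D, hD⟩ := hext δ
        have h1 := congrArg D hc'
        rw [map_sum, map_zero, ← Finset.add_sum_erase t _ hi] at h1
        have hterm : ∀ y, D (c' y • y ^ p) = algebraMap K L (δ (c' y) • y ^ p) := fun y => by
          rw [Algebra.smul_def, D.leibniz, hD, D.leibniz_pow]
          simp [Algebra.smul_def, CharP.cast_eq_zero L p, ← IsScalarTower.algebraMap_apply k K L, mul_comm]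
        simp only [hterm] at h1
        rw [show c' i = 1 from div_self hci, Derivation.map_one_eq_zero, zero_smul, map_zero, zero_add, ← map_sum,
          map_eq_zero_iff _ (algebraMap K L).injective] at h1
        exact ih _ (hn ▸ Finset.card_erase_lt_of_mem hi) (t.erase i) ((Finset.erase_subset _ _).trans hts) rfl _ h1 x
          (Finset.mem_erase.2 ⟨hxi, hx⟩)
    choose! b hb using hpow
    have h2 : (∑ x ∈ t, b x • x) ^ p = 0 := by
      rw [sum_pow_char, ← hc']
      exact Finset.sum_congr rfl fun x hx => by rw [smul_pow, hb x hx]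
    have h4 := linearIndepOn_finset_iff.1 (hs.mono (Finset.coe_subset.2 hts)) b (pow_eq_zero_iff hp.ne_zero |>.1 h2) i hi
    have h5 := hb i hi
    rw [h4, zero_pow hp.ne_zero, show c' i = 1 from div_self hci] at h5
    exact zero_ne_one h5

theorem geometricallyReduced_of_derivations (k K L : Type u) [Field k] [Field K] [Field L] [Algebra k K] [Algebra k L]
    [Algebra K L] [IsScalarTower k K L]
    (hext : ∀ δ : Derivation ℤ k k, ∃ D : Derivation ℤ K L, ∀ x, D (algebraMap k K x) = algebraMap k L (δ x)) :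
    Algebra.IsGeometricallyReduced k K := by
  obtain _ | ⟨p, hp, hpk⟩ := CharP.exists' k
  · exact geometricallyReduced_of_charZero k K
  · exact geometricallyReduced_of_pow k K p hp.out (linearIndepOn_pow_of_derivations k K L hext p hp.out)

theorem of_formallySmooth (k K : Type u) [Field k] [Field K] [Algebra k K] [Algebra.FormallySmooth k K] :
    Algebra.IsGeometricallyReduced k K :=
  geometricallyReduced_of_derivations k K K (exists_derivation k K K fun E _ _ π hπ hsq =>
    ⟨Algebra.FormallySmooth.liftOfSurjective (AlgHom.id k K) π hπ ⟨2, hsq⟩,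
      AlgHom.ext fun y => Algebra.FormallySmooth.liftOfSurjective_apply (AlgHom.id k K) π hπ ⟨2, hsq⟩ y⟩)

theorem of_perfect (k K : Type u) [Field k] [PerfectField k] [Field K] [Algebra k K] :
    Algebra.IsGeometricallyReduced k K :=
  haveI := H2PerfectSmooth.formallySmooth k K
  of_formallySmooth k K

end Groth.Agent.H2GeomRed
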