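import Mathlib
set_option autoImplicit false

/-! Krull dimension along integral maps surjective on spectra. -/
namespace Groth.Agent.H2IntegralDim

open PrimeSpectrum

theorem ringKrullDim_eq_of_isIntegral_of_comap_surjective {R S : Type*} [CommRing R] [CommRing S] [Algebra R S]
    [Algebra.IsIntegral R S] (hsur : Function.Surjective (PrimeSpectrum.comap (algebraMap R S))) :
    ringKrullDim S = ringKrullDim R := by
  apply le_antisymm
  · refine Order.krullDim_le_of_strictMono (PrimeSpectrum.comap (algebraMap R S)) fun I J hIJ => ?_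
    exact Ideal.IsIntegral.comap_lt_comap hIJ
  · refine iSup_le fun l => ?_
    obtain ⟨P, hP⟩ := hsur l.head
    haveI : P.asIdeal.LiesOver (RelSeries.head l).asIdeal := ⟨by rw [← hP]; rfl⟩
    obtain ⟨L, hL, -, -⟩ := Ideal.exists_ltSeries_of_hasGoingUp l P.asIdeal
    refine le_trans (le_of_eq ?_) (le_iSup _ L)
    rw [hL]

end Groth.Agent.H2IntegralDim
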