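import Mathlib
import Groth.Prelude.Def_Found
import Groth.Agent.Lib.H2GeomRed
import Groth.Agent.Lib.H2DerExtend
import Groth.Agent.Lib.H2IntegralDim
set_option autoImplicit false

/-! Regularity after radical extensions of exponent one, and extension of derivations. -/
namespace Groth.Agent.H2PRadical
open IsLocalRing TensorProduct
set_option backward.isDefEq.respectTransparency.types false
universe u

variable (p : ℕ) [hp : Fact p.Prime]

section tensor
variable (k A k1 : Type u) [Field k] [CommRing A] [Algebra k A] [Field k1] [Algebra k k1] [CharP k p]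

theorem pow_mem_range [Nontrivial A] (hk1 : ∀ x : k1, ∃ y : k, x ^ p = algebraMap k k1 y) (z : k1 ⊗[k] A) :
    ∃ a : A, z ^ p = (Algebra.TensorProduct.includeRight : A →ₐ[k] k1 ⊗[k] A) a := by
  let f : A →ₐ[k] k1 ⊗[k] A := Algebra.TensorProduct.includeRight
  haveI : CharP k1 p := charP_of_injective_algebraMap (algebraMap k k1).injective p
  haveI : Nontrivial (k1 ⊗[k] A) :=
    (Algebra.TensorProduct.includeRight_injective (A := k1) (B := A) (algebraMap k k1).injective).nontrivial
  haveI : CharP (k1 ⊗[k] A) p := charP_of_injective_algebraMap (algebraMap k (k1 ⊗[k] A)).injective p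
  induction z with
  | zero => exact ⟨0, by rw [zero_pow hp.out.ne_zero, map_zero]⟩
  | tmul x a =>
    obtain ⟨y, hy⟩ := hk1 x
    refine ⟨y • a ^ p, ?_⟩
    rw [Algebra.TensorProduct.tmul_pow, hy]
    show (algebraMap k k1 y) ⊗ₜ[k] (a ^ p) = (1 : k1) ⊗ₜ[k] (y • a ^ p)
    rw [← TensorProduct.smul_tmul, Algebra.algebraMap_eq_smul_one]
  | add x y hx hy =>
    obtain ⟨a, ha⟩ := hx
    obtain ⟨b, hb⟩ := hy
    exact ⟨a + b, by rw [add_pow_char, ha, hb, map_add]⟩

end tensor

/-- The one-step statement. -/
theorem exists_derivation_ne_zero (k A : Type u) [Field k] [CharP k p] [CommRing A] [IsRegularLocalRing A] [Algebra k A]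
    (k1 : Type u) [Field k1] [Algebra k k1] [Module.Finite k k1] (hk1 : ∀ x : k1, ∃ y : k, x ^ p = algebraMap k k1 y)
    (t : k1) (a0 : k) (ht : t ^ p = algebraMap k k1 a0)
    (hlift : ∀ (E : Type u) [CommRing E] [Algebra k E] (e : E), e ^ p = algebraMap k E a0 → ∃ g : k1 →ₐ[k] E, g t = e)
    [IsRegularLocalRing (k1 ⊗[k] A)] :
    ∃ D : Derivation ℤ A (ResidueField A), D (algebraMap k A a0) ≠ 0 := by
  classical
  let κ := ResidueField A
  haveI : CharP κ p := charP_of_injective_algebraMap (algebraMap k κ).injective p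
  by_cases hc : ∃ c0 : κ, c0 ^ p = algebraMap k κ a0
  swap
  · have : ¬ ∀ δ : Derivation ℤ κ κ, δ (algebraMap k κ a0) = 0 := fun h =>
      hc (H2GeomRed.exists_pow_of_derivation_eq_zero κ p hp.out _ h)
    push Not at this
    obtain ⟨δ, hδ⟩ := this
    refine ⟨δ.compAlgebraMap A, ?_⟩
    show δ (algebraMap A κ (algebraMap k A a0)) ≠ 0
    rwa [← IsScalarTower.algebraMap_apply]
  obtain ⟨c0, hc0⟩ := hc
  obtain ⟨c, rfl⟩ := residue_surjective c0
  let m := maximalIdeal A
  let f0 : A := algebraMap k A a0 - c ^ p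
  have hf0 : f0 ∈ m := by
    rw [← residue_eq_zero_iff, map_sub, map_pow, hc0]
    exact sub_eq_zero.2 rfl
  let A2 := A ⧸ m ^ 2
  haveI : Nontrivial A2 := Ideal.Quotient.nontrivial_iff.2 fun h =>
    (maximalIdeal.isMaximal A).ne_top (top_le_iff.1 (h.ge.trans (Ideal.pow_le_self two_ne_zero)))
  haveI : CharP A2 p := charP_of_injective_algebraMap (algebraMap k A2).injective p
  letI : Algebra A2 κ := (Ideal.Quotient.lift _ (residue A) fun x hx =>
    (residue_eq_zero_iff x).2 (Ideal.pow_le_self two_ne_zero hx)).toAlgebra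
  haveI : IsScalarTower A A2 κ := IsScalarTower.of_algebraMap_eq' rfl
  letI : Module A2ᵐᵒᵖ κ := Module.compHom κ ((RingHom.id A2).fromOpposite fun x y => mul_comm x y)
  haveI : IsCentralScalar A2 κ := ⟨fun r m => rfl⟩
  haveI : IsScalarTower k A2 κ := IsScalarTower.of_algebraMap_eq fun x => rfl
  have hcot : m.cotangentIdeal = m.map (Ideal.Quotient.mk (m ^ 2)) := by
    ext u
    rw [Ideal.mem_map_iff_of_surjective _ Ideal.Quotient.mk_surjective]
    exact Submodule.mem_map
  have hresA2 : ∀ u : A2, algebraMap A2 κ u = 0 → u ∈ m.cotangentIdeal := fun u hu => by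
    obtain ⟨x, rfl⟩ := Ideal.Quotient.mk_surjective u
    rw [hcot]
    exact Ideal.mem_map_of_mem (Ideal.Quotient.mk (m ^ 2)) ((residue_eq_zero_iff x).1 hu)
  have hsq : ∀ u v : A2, u ∈ m.cotangentIdeal → v ∈ m.cotangentIdeal → u * v = 0 := fun u v hu hv => by
    rw [hcot] at hu hv
    obtain ⟨x, hx, rfl⟩ := (Ideal.mem_map_iff_of_surjective _ Ideal.Quotient.mk_surjective).1 hu
    obtain ⟨y, hy, rfl⟩ := (Ideal.mem_map_iff_of_surjective _ Ideal.Quotient.mk_surjective).1 hv
    rw [← map_mul, Ideal.Quotient.eq_zero_iff_mem, pow_two]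
    exact Ideal.mul_mem_mul hx hy
  by_cases hf2 : f0 ∈ m ^ 2
  swap
  · -- coefficient field modulo the square
    letI : Algebra (ZMod p) κ := ZMod.algebra κ p
    letI : Algebra (ZMod p) A2 := ZMod.algebra A2 p
    haveI : Algebra.FormallySmooth (ZMod p) κ := H2PerfectSmooth.formallySmooth (ZMod p) κ
    let K2 : Ideal A2 := RingHom.ker (algebraMap A2 κ)
    have hK2 : IsNilpotent K2 := ⟨2, by
      rw [Ideal.zero_eq_bot, eq_bot_iff, pow_two K2, Ideal.mul_le]
      exact fun u hu v hv => Ideal.mem_bot.2 (hsq u v (hresA2 u hu) (hresA2 v hv))⟩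
    have hs : Function.Surjective (algebraMap A2 κ) := fun y => by
      obtain ⟨x, rfl⟩ := residue_surjective y; exact ⟨Ideal.Quotient.mk _ x, rfl⟩
    let g2 : A2 →ₐ[ZMod p] κ :=
      { toRingHom := algebraMap A2 κ
        commutes' := fun r => RingHom.congr_fun (Subsingleton.elim ((algebraMap A2 κ).comp (algebraMap (ZMod p) A2)) (algebraMap (ZMod p) κ)) r }
    let σ : κ →ₐ[ZMod p] A2 := Algebra.FormallySmooth.liftOfSurjective (AlgHom.id (ZMod p) κ) g2 hs hK2
    have hσ : ∀ y, algebraMap A2 κ (σ y) = y := fun y =>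
      Algebra.FormallySmooth.liftOfSurjective_apply (AlgHom.id (ZMod p) κ) g2 hs hK2 y
    have hmem : ∀ x : A, Ideal.Quotient.mk (m ^ 2) x - σ (residue A x) ∈ m.cotangentIdeal := fun x => hresA2 _ (by
      rw [map_sub, hσ]; exact sub_self _)
    let w : A → m.Cotangent := fun x => m.cotangentEquivIdeal.symm ⟨_, hmem x⟩
    have hw : m.cotangentEquivIdeal.symm ⟨Ideal.Quotient.mk (m ^ 2) f0, hcot.symm ▸ Ideal.mem_map_of_mem (Ideal.Quotient.mk (m ^ 2)) hf0⟩ = m.toCotangent ⟨f0, hf0⟩ :=
      Ideal.cotangentEquivIdeal_symm_apply m f0 hf0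
    have hne : m.toCotangent ⟨f0, hf0⟩ ≠ 0 := fun h => hf2 ((Ideal.toCotangent_eq_zero m _).1 h)
    obtain ⟨l, hl⟩ : ∃ l : Module.Dual κ (CotangentSpace A), l (m.toCotangent ⟨f0, hf0⟩) ≠ 0 := by
      by_contra hall
      push Not at hall
      exact hne ((Module.forall_dual_apply_eq_zero_iff κ (m.toCotangent ⟨f0, hf0⟩ : CotangentSpace A)).1 hall)
    let d : A →+ κ :=
      { toFun := fun x => l (w x)
        map_zero' := by
          show l (w 0) = 0
          have : w 0 = 0 := by
            show m.cotangentEquivIdeal.symm _ = 0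
            rw [LinearEquiv.map_eq_zero_iff]
            exact Subtype.ext (by simp)
          rw [this]; exact map_zero l
        map_add' := fun x y => by
          show l (w (x + y)) = l (w x) + l (w y)
          rw [← map_add]
          congr 1
          show _ = m.cotangentEquivIdeal.symm _ + m.cotangentEquivIdeal.symm _
          rw [← map_add]
          show m.cotangentEquivIdeal.symm _ = _
          congr 1
          refine Subtype.ext ?_
          show _ = (_ - _) + (_ - _)
          simp only [map_add]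
          ring }
    have hwmul : ∀ x y, w (x * y) = x • w y + y • w x := fun x y => by
      show _ = x • m.cotangentEquivIdeal.symm _ + y • m.cotangentEquivIdeal.symm _
      rw [← map_smul, ← map_smul, ← map_add]
      show m.cotangentEquivIdeal.symm _ = _
      congr 1
      refine Subtype.ext ?_
      show Ideal.Quotient.mk (m ^ 2) (x * y) - σ (residue A (x * y)) =
        Ideal.Quotient.mk (m ^ 2) x * (Ideal.Quotient.mk (m ^ 2) y - σ (residue A y)) + Ideal.Quotient.mk (m ^ 2) y * (Ideal.Quotient.mk (m ^ 2) x - σ (residue A x))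
      simp only [map_mul]
      linear_combination -(hsq _ _ (hmem x) (hmem y))
    refine ⟨Derivation.mk' d.toIntLinearMap fun x y => ?_, ?_⟩
    · show l (w (x * y)) = x • l (w y) + y • l (w x)
      rw [hwmul]
      have e1 : ∀ (z : A) (v : CotangentSpace A), l (z • v) = z • l v := fun z v => (l.restrictScalars A).map_smul z v
      exact (map_add l _ _).trans (congrArg₂ (· + ·) (e1 x _) (e1 y _))
    · show l (w (algebraMap k A a0)) ≠ 0
      have : w (algebraMap k A a0) = m.toCotangent ⟨f0, hf0⟩ := by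
        rw [← hw]
        show m.cotangentEquivIdeal.symm _ = _
        congr 1
        refine Subtype.ext ?_
        show Ideal.Quotient.mk (m ^ 2) (algebraMap k A a0) - σ (residue A (algebraMap k A a0)) = Ideal.Quotient.mk (m ^ 2) (algebraMap k A a0 - c ^ p)
        rw [show residue A (algebraMap k A a0) = (residue A c) ^ p from hc0.symm, map_pow, map_sub, map_pow]
        congr 1
        have h1 : (Ideal.Quotient.mk (m ^ 2) c - σ (residue A c)) ^ p = 0 :=
          pow_eq_zero_of_le hp.out.two_le ((pow_two (_ : A2)).trans (hsq _ _ (hmem c) (hmem c)))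
        rw [sub_pow_char, sub_eq_zero] at h1
        exact h1.symm
      rw [this]
      exact hl
  -- f0 in the square: impossible
  exfalso
  let A1 := k1 ⊗[k] A
  let f : A →ₐ[k] A1 := Algebra.TensorProduct.includeRight
  let E := TrivSqZeroExt A2 κ
  have hcE : (TrivSqZeroExt.inl (Ideal.Quotient.mk (m ^ 2) c) + TrivSqZeroExt.inr (1 : κ) : TrivSqZeroExt A2 κ) ^ p =
      algebraMap k (TrivSqZeroExt A2 κ) a0 := by
    refine TrivSqZeroExt.ext ?_ ?_
    · rw [TrivSqZeroExt.fst_pow, TrivSqZeroExt.fst_add, TrivSqZeroExt.fst_inl, TrivSqZeroExt.fst_inr, add_zero,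
        TrivSqZeroExt.algebraMap_eq_inl' k A2 κ, TrivSqZeroExt.fst_inl]
      rw [IsScalarTower.algebraMap_apply k A A2, ← map_pow, eq_comm]
      exact Ideal.Quotient.eq.2 hf2
    · rw [TrivSqZeroExt.snd_pow, TrivSqZeroExt.algebraMap_eq_inl' k A2 κ, TrivSqZeroExt.snd_inl]
      haveI : CharP κ p := ‹CharP κ p›
      rw [← Nat.cast_smul_eq_nsmul κ, CharP.cast_eq_zero κ p, zero_smul]
  obtain ⟨g1, hg1⟩ := hlift (TrivSqZeroExt A2 κ) _ hcE
  let g : A1 →ₐ[k] TrivSqZeroExt A2 κ := Algebra.TensorProduct.lift g1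
    ((TrivSqZeroExt.inlAlgHom k A2 κ).comp (Ideal.Quotient.mkₐ k (m ^ 2))) (fun _ _ => Commute.all _ _)
  have hgf : ∀ a, g (f a) = TrivSqZeroExt.inl (Ideal.Quotient.mk (m ^ 2) a) := fun a => by
    show g ((1 : k1) ⊗ₜ[k] a) = _
    rw [Algebra.TensorProduct.lift_tmul, map_one, one_mul]
    rfl
  have hgt : g (t ⊗ₜ[k] (1 : A)) = TrivSqZeroExt.inl (Ideal.Quotient.mk (m ^ 2) c) + TrivSqZeroExt.inr 1 := by
    rw [Algebra.TensorProduct.lift_tmul, hg1, map_one, mul_one]
  have hfinj : Function.Injective f := Algebra.TensorProduct.includeRight_injective (A := k1) (B := A) (algebraMap k k1).injective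
  have hint : f.toRingHom.IsIntegral := by
    have e : f.toRingHom = (Algebra.TensorProduct.comm k A k1).toRingEquiv.toRingHom.comp (algebraMap A (A ⊗[k] k1)) :=
      RingHom.ext fun a => rfl
    rw [e]
    refine RingHom.IsIntegral.trans _ _ ?_ (RingHom.isIntegral_of_surjective _ ?_)
    · exact algebraMap_isIntegral_iff.2 inferInstance
    · exact (Algebra.TensorProduct.comm k A k1).surjective
  have hdim : ringKrullDim A1 = ringKrullDim A := by
    letI : Algebra A A1 := f.toRingHom.toAlgebra
    haveI : Algebra.IsIntegral A A1 := algebraMap_isIntegral_iff.1 hint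
    haveI : FaithfulSMul A A1 := (faithfulSMul_iff_algebraMap_injective A A1).2 hfinj
    exact H2IntegralDim.ringKrullDim_eq_of_isIntegral_of_comap_surjective (hint.comap_surjective hfinj)
  have hfst : ∀ x ∈ maximalIdeal A1, TrivSqZeroExt.fst (g x) ∈ m.cotangentIdeal := fun x hx => hresA2 _ (by
    obtain ⟨a, ha⟩ := pow_mem_range p k A k1 hk1 x
    have ham : a ∈ m := (mem_maximalIdeal a).2 fun hu => by
      have h2 : IsUnit (x ^ p) := by rw [ha]; exact hu.map f
      exact (mem_maximalIdeal x).1 hx ((isUnit_pow_iff hp.out.ne_zero).1 h2)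
    have h3 : TrivSqZeroExt.fst (g x) ^ p = Ideal.Quotient.mk (m ^ 2) a := by
      rw [← TrivSqZeroExt.fst_pow, ← map_pow, ha]
      show TrivSqZeroExt.fst (g (f a)) = _
      rw [hgf]; rfl
    have h4 := congrArg (algebraMap A2 κ) h3
    rw [map_pow] at h4
    refine (pow_eq_zero_iff hp.out.ne_zero).1 (h4.trans ?_)
    exact (residue_eq_zero_iff a).2 ham)
  obtain ⟨s, hscard, hsspan⟩ := Submodule.FG.exists_span_set_encard_eq_spanFinrank (maximalIdeal A1).fg_of_isNoetherianRing
  have hfin : s.Finite := Set.finite_of_encard_eq_coe hscard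
  haveI := hfin.fintype
  have hy : ∀ y : s, (y : A1) ∈ maximalIdeal A1 := fun y => hsspan ▸ Submodule.subset_span y.2
  let v : s → CotangentSpace A × κ := fun y => (m.cotangentEquivIdeal.symm ⟨_, hfst _ (hy y)⟩, TrivSqZeroExt.snd (g y))
  have hspan : ∀ x, ∀ hx : x ∈ maximalIdeal A1,
      ((m.cotangentEquivIdeal.symm ⟨_, hfst x hx⟩ : CotangentSpace A), TrivSqZeroExt.snd (g x)) ∈ Submodule.span κ (Set.range v) := by
    intro x hx
    have hx' : x ∈ Submodule.span A1 (Set.range fun y : s => (y : A1)) := by rw [Subtype.range_coe]; rw [hsspan]; exact hx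
    obtain ⟨r, hr⟩ := (Submodule.mem_span_range_iff_exists_fun A1).1 hx'
    choose ρ hρ using fun y : s => Ideal.Quotient.mk_surjective (TrivSqZeroExt.fst (g (r y)))
    have hkey : ((m.cotangentEquivIdeal.symm ⟨_, hfst x hx⟩ : CotangentSpace A), TrivSqZeroExt.snd (g x)) = ∑ y : s, residue A (ρ y) • v y := by
      refine Prod.ext ?_ ?_
      · simp only [Prod.fst_sum, Prod.smul_fst, v]
        rw [LinearEquiv.symm_apply_eq]
        have h5 : ∀ (z : A) (u : m.Cotangent), (residue A z • u : CotangentSpace A) = z • u := fun z u => rfl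
        simp only [h5]
        rw [map_sum]
        simp only [map_smul, LinearEquiv.apply_symm_apply]
        refine Subtype.ext ?_
        rw [AddSubmonoidClass.coe_finsetSum]
        show TrivSqZeroExt.fst (g x) = ∑ y : s, ρ y • TrivSqZeroExt.fst (g (y : A1))
        rw [← hr, map_sum, TrivSqZeroExt.fst_sum]
        refine Finset.sum_congr rfl fun y _ => ?_
        rw [smul_eq_mul, map_mul, TrivSqZeroExt.fst_mul, ← hρ, Algebra.smul_def]
        rfl
      · simp only [Prod.snd_sum, Prod.smul_snd, v]
        rw [← hr, map_sum, TrivSqZeroExt.snd_sum]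
        refine Finset.sum_congr rfl fun y _ => ?_
        rw [smul_eq_mul, map_mul, TrivSqZeroExt.snd_mul, ← hρ, op_smul_eq_smul, Algebra.smul_def (TrivSqZeroExt.fst (g (y : A1))),
          show algebraMap A2 κ (TrivSqZeroExt.fst (g (y : A1))) = 0 from ?_, zero_mul, add_zero]
        · rfl
        · obtain ⟨z, hz, hz'⟩ := (Ideal.mem_map_iff_of_surjective (Ideal.Quotient.mk (m ^ 2)) Ideal.Quotient.mk_surjective).1 (hcot ▸ hfst _ (hy y))
          rw [← hz']
          exact (residue_eq_zero_iff z).2 hz
    rw [hkey]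
    exact Submodule.sum_mem _ fun y _ => Submodule.smul_mem _ _ (Submodule.subset_span ⟨y, rfl⟩)
  have htop : Submodule.span κ (Set.range v) = ⊤ := by
    rw [eq_top_iff]
    rintro ⟨w, e⟩ -
    obtain ⟨⟨z, hz⟩, rfl⟩ := Ideal.toCotangent_surjective m w
    have hfz : f z ∈ maximalIdeal A1 := (mem_maximalIdeal _).2 fun hu => by
      haveI := hint.isLocalHom hfinj
      exact (mem_maximalIdeal z).1 hz (isUnit_of_map_unit f.toRingHom z hu)
    have h1 := hspan (f z) hfz
    have h1' : ((m.toCotangent ⟨z, hz⟩ : CotangentSpace A), (0 : κ)) ∈ Submodule.span κ (Set.range v) := by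
      convert h1 using 2
      · rw [← Ideal.cotangentEquivIdeal_symm_apply m z hz]
        congr 1
        refine Subtype.ext ?_
        show Ideal.Quotient.mk (m ^ 2) z = TrivSqZeroExt.fst (g (f z))
        rw [hgf]; rfl
      · rw [hgf]; rfl
    let x1 : A1 := t ⊗ₜ[k] (1 : A) - f c
    have hgx : g x1 = TrivSqZeroExt.inr 1 := by
      rw [map_sub, hgt, hgf, add_sub_cancel_left]
    have hx1 : x1 ∈ maximalIdeal A1 := (mem_maximalIdeal _).2 fun hu => by
      have h2 := hu.map g
      rw [hgx, TrivSqZeroExt.isUnit_iff_isUnit_fst, TrivSqZeroExt.fst_inr] at h2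
      exact not_isUnit_zero h2
    have h3 := hspan x1 hx1
    have h3' : ((0 : CotangentSpace A), (1 : κ)) ∈ Submodule.span κ (Set.range v) := by
      convert h3 using 2
      · rw [eq_comm, LinearEquiv.map_eq_zero_iff]
        refine Subtype.ext ?_
        show TrivSqZeroExt.fst (g x1) = 0
        rw [hgx]; rfl
      · rw [hgx]; rfl
    have := add_mem h1' (Submodule.smul_mem _ e h3')
    simpa [Prod.ext_iff] using this
  have hle : Module.finrank κ (CotangentSpace A × κ) ≤ (maximalIdeal A1).spanFinrank := by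
    rw [← finrank_top κ (CotangentSpace A × κ), ← htop]
    refine (finrank_range_le_card v).trans ?_
    rw [← Nat.cast_le (α := ℕ∞), ← hscard, Set.encard_eq_coe_toFinset_card, Set.toFinset_card]
  rw [Module.finrank_prod, Module.finrank_self, ← IsLocalRing.spanFinrank_maximalIdeal_eq_finrank_cotangentSpace] at hle
  have e1 := IsRegularLocalRing.spanFinrank_maximalIdeal (R := A1)
  have e2 := IsRegularLocalRing.spanFinrank_maximalIdeal (R := A)
  rw [hdim, ← e2] at e1
  have e3 : (maximalIdeal A1).spanFinrank = (maximalIdeal A).spanFinrank := by exact_mod_cast e1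
  omega

theorem isLocalRing_tensor (k A k1 : Type u) [Field k] [CharP k p] [CommRing A] [IsLocalRing A] [Algebra k A] [Field k1]
    [Algebra k k1] [Module.Finite k k1] (hk1 : ∀ x : k1, ∃ y : k, x ^ p = algebraMap k k1 y) :
    IsLocalRing (k1 ⊗[k] A) := by
  let f : A →ₐ[k] k1 ⊗[k] A := Algebra.TensorProduct.includeRight
  have hfinj : Function.Injective f := Algebra.TensorProduct.includeRight_injective (A := k1) (B := A) (algebraMap k k1).injective
  haveI : Nontrivial (k1 ⊗[k] A) := hfinj.nontrivial
  haveI : CharP (k1 ⊗[k] A) p := charP_of_injective_algebraMap (algebraMap k (k1 ⊗[k] A)).injective p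
  have hloc : IsLocalHom f.toRingHom := by
    refine RingHom.IsIntegral.isLocalHom ?_ hfinj
    have e : f.toRingHom = (Algebra.TensorProduct.comm k A k1).toRingEquiv.toRingHom.comp (algebraMap A (A ⊗[k] k1)) :=
      RingHom.ext fun a => rfl
    rw [e]
    refine RingHom.IsIntegral.trans _ _ ?_ (RingHom.isIntegral_of_surjective _ ?_)
    · exact algebraMap_isIntegral_iff.2 inferInstance
    · exact (Algebra.TensorProduct.comm k A k1).surjective
  refine IsLocalRing.of_nonunits_add fun {x y} hx hy hxy => ?_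
  obtain ⟨a, ha⟩ := pow_mem_range p k A k1 hk1 x
  obtain ⟨b, hb⟩ := pow_mem_range p k A k1 hk1 y
  have key : ∀ z : k1 ⊗[k] A, ∀ c : A, z ^ p = f c → (IsUnit z ↔ IsUnit c) := fun z c hz =>
    ⟨fun h => isUnit_of_map_unit f.toRingHom c (show IsUnit (f c) by rw [← hz]; exact h.pow p),
      fun h => (isUnit_pow_iff hp.out.ne_zero).1 (by rw [hz]; exact h.map f)⟩
  have h1 : IsUnit (a + b) := (key (x + y) (a + b) (by rw [add_pow_char, ha, hb, map_add])).1 hxy
  have hxa : a ∈ maximalIdeal A := (mem_maximalIdeal a).2 fun h => hx ((key x a ha).2 h)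
  have hyb : b ∈ maximalIdeal A := (mem_maximalIdeal b).2 fun h => hy ((key y b hb).2 h)
  exact (mem_maximalIdeal _).1 (add_mem hxa hyb) h1

/-- The key statement, by induction on the number of elements. -/
theorem key (k0 : Type u) [Field k0] : ∀ (n : ℕ) (k A : Type u) [Field k] [CharP k p] [CommRing A] [IsLocalRing A] [IsNoetherianRing A]
    [Algebra k A] (ι : k0 →+* k)
    (_ : ∀ (k' : Type u) [Field k'] [Algebra k k'], Module.Finite k k' →
      (∀ x : k', ∃ s : k0, x ^ p = algebraMap k k' (ι s)) → IsRegularRing (k' ⊗[k] A))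
    (_ : ∀ x : k, ∃ s : k0, x ^ p = ι s)
    (a : Fin n → k0) (c : Fin n → ResidueField A),
    (∀ D : Derivation ℤ A (ResidueField A), ∑ i, c i * D (algebraMap k A (ι (a i))) = 0) →
    ∀ δ : Derivation ℤ k (ResidueField A), ∑ i, c i * δ (ι (a i)) = 0 := by
  intro n
  induction n with
  | zero => intros; simp
  | succ n ih =>
    intro k A _ _ _ _ _ _ ι hreg hk a c hrel δ
    classical
    let κ := ResidueField A
    haveI : CharP κ p := charP_of_injective_algebraMap (algebraMap k κ).injective p
    rw [Fin.sum_univ_succ]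
    by_cases hb : ∃ b : k, b ^ p = ι (a 0)
    · obtain ⟨b, hb⟩ := hb
      have h0 : ∀ {R : Type u} [CommRing R] [Algebra R κ] (D : Derivation ℤ R κ) (z : R), D (z ^ p) = 0 := fun {R} _ _ D z => by
        rw [D.leibniz_pow, ← Nat.cast_smul_eq_nsmul κ, CharP.cast_eq_zero κ p, zero_smul]
      rw [← hb, h0, mul_zero, zero_add]
      refine ih k A ι hreg hk (fun i => a i.succ) (fun i => c i.succ) (fun D => ?_) δ
      have h1 := hrel D
      rwa [Fin.sum_univ_succ, ← hb, map_pow, h0, mul_zero, zero_add] at h1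
    push Not at hb
    let a0 : k := ι (a 0)
    let fp : Polynomial k := Polynomial.X ^ p - Polynomial.C a0
    have hfm : fp.Monic := Polynomial.monic_X_pow_sub_C a0 hp.out.ne_zero
    haveI : Fact (Irreducible fp) := ⟨X_pow_sub_C_irreducible_of_prime hp.out hb⟩
    let k1 := AdjoinRoot fp
    let t : k1 := AdjoinRoot.root fp
    haveI : Module.Finite k k1 := hfm.finite_adjoinRoot
    haveI : CharP k1 p := charP_of_injective_algebraMap (algebraMap k k1).injective p
    have ht : t ^ p = algebraMap k k1 a0 := by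
      rw [← sub_eq_zero]
      have := AdjoinRoot.mk_self (f := fp)
      rwa [map_sub, map_pow, AdjoinRoot.mk_X, AdjoinRoot.mk_C] at this
    have hk0 : ∀ x : k1, ∃ s : k0, x ^ p = algebraMap k k1 (ι s) := by
      intro x
      obtain ⟨q, rfl⟩ := AdjoinRoot.mk_surjective x
      induction q using Polynomial.induction_on' with
      | add q r hq hr =>
        obtain ⟨s, hs⟩ := hq
        obtain ⟨s', hs'⟩ := hr
        exact ⟨s + s', by rw [map_add, add_pow_char, hs, hs', map_add, map_add]⟩
      | monomial m z =>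
        obtain ⟨s, hs⟩ := hk z
        refine ⟨s * a 0 ^ m, ?_⟩
        rw [← Polynomial.C_mul_X_pow_eq_monomial, map_mul, map_pow, AdjoinRoot.mk_C, AdjoinRoot.mk_X, mul_pow, ← pow_mul, mul_comm m p,
          pow_mul, ← map_pow, hs, map_mul, map_mul, map_pow, map_pow]
        congr 1
        rw [show AdjoinRoot.root fp ^ p = t ^ p from rfl, ht]
    have hk1 : ∀ x : k1, ∃ y : k, x ^ p = algebraMap k k1 y := fun x => by
      obtain ⟨s, hs⟩ := hk0 x
      exact ⟨ι s, hs⟩
    let A1 := k1 ⊗[k] A
    haveI : IsRegularRing A1 := hreg k1 inferInstance hk0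
    haveI : IsLocalRing A1 := isLocalRing_tensor p k A k1 hk1
    haveI : IsRegularLocalRing A1 := IsRegularLocalRing.of_isRegularRing_of_isLocalRing A1
    haveI : IsRegularLocalRing A := by
      have h1 : IsRegularRing (k ⊗[k] A) := hreg k inferInstance (fun x => (hk x).imp fun s hs => by rw [hs]; rfl)
      haveI := h1
      haveI : IsRegularRing A := IsRegularRing.of_ringEquiv (Algebra.TensorProduct.lid k A).toRingEquiv
      exact IsRegularLocalRing.of_isRegularRing_of_isLocalRing A
    let f : A →ₐ[k] A1 := Algebra.TensorProduct.includeRight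
    letI : Algebra A (ResidueField A1) := ((residue A1).comp f.toRingHom).toAlgebra
    haveI hfl : IsLocalHom f.toRingHom := by
      refine RingHom.IsIntegral.isLocalHom ?_ (Algebra.TensorProduct.includeRight_injective (A := k1) (B := A) (algebraMap k k1).injective)
      have e : f.toRingHom = (Algebra.TensorProduct.comm k A k1).toRingEquiv.toRingHom.comp (algebraMap A (A ⊗[k] k1)) :=
        RingHom.ext fun a => rfl
      rw [e]
      refine RingHom.IsIntegral.trans _ _ ?_ (RingHom.isIntegral_of_surjective _ ?_)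
      · exact algebraMap_isIntegral_iff.2 inferInstance
      · exact (Algebra.TensorProduct.comm k A k1).surjective
    let ι1 : κ →+* (ResidueField A1) := ResidueField.map f.toRingHom
    letI : Algebra κ (ResidueField A1) := ι1.toAlgebra
    haveI : IsScalarTower A κ (ResidueField A1) := IsScalarTower.of_algebraMap_eq fun x => rfl
    haveI : CharP (ResidueField A1) p := charP_of_injective_algebraMap (algebraMap k (ResidueField A1)).injective p
    have hf0 : ∀ x : k, f (algebraMap k A x) = algebraMap k1 A1 (algebraMap k k1 x) := fun x => by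
      rw [f.commutes, ← IsScalarTower.algebraMap_apply]
    have hrel1 : ∀ D : Derivation ℤ A1 (ResidueField A1), ∑ i : Fin n, ι1 (c i.succ) * D (algebraMap k1 A1 (algebraMap k k1 (ι (a i.succ)))) = 0 := by
      intro D
      let d : A →+ (ResidueField A1) := D.toLinearMap.toAddMonoidHom.comp f.toRingHom.toAddMonoidHom
      let D' : Derivation ℤ A (ResidueField A1) := Derivation.mk' d.toIntLinearMap fun x y => by
        show D (f (x * y)) = x • D (f y) + y • D (f x)
        rw [map_mul, D.leibniz]
        rfl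
      have hall : ∀ l : Module.Dual κ (ResidueField A1), l (∑ i, ι1 (c i) * D' (algebraMap k A (ι (a i)))) = 0 := fun l => by
        have h1 := hrel ((l.restrictScalars A).compDer D')
        rw [map_sum, ← h1]
        refine Finset.sum_congr rfl fun i _ => ?_
        show l (c i • D' _) = c i * l (D' _)
        rw [map_smul, smul_eq_mul]
      have h2 := (Module.forall_dual_apply_eq_zero_iff κ _).1 hall
      have h3 : D' (algebraMap k A (ι (a 0))) = 0 := by
        show D (f (algebraMap k A a0)) = 0
        rw [hf0, ← ht, map_pow, D.leibniz_pow, ← Nat.cast_smul_eq_nsmul (ResidueField A1), CharP.cast_eq_zero (ResidueField A1) p, zero_smul]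
      rw [Fin.sum_univ_succ, h3, mul_zero, zero_add] at h2
      rw [← h2]
      refine Finset.sum_congr rfl fun i _ => ?_
      show _ = ι1 (c i.succ) * D (f _)
      rw [hf0]
    have hreg1 : ∀ (k' : Type u) [Field k'] [Algebra k1 k'], Module.Finite k1 k' →
        (∀ x : k', ∃ s : k0, x ^ p = algebraMap k1 k' (algebraMap k k1 (ι s))) → IsRegularRing (k' ⊗[k1] A1) := by
      intro k' _ _ hfin hx
      letI : Algebra k k' := ((algebraMap k1 k').comp (algebraMap k k1)).toAlgebra
      haveI : IsScalarTower k k1 k' := IsScalarTower.of_algebraMap_eq' rfl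
      haveI := hfin
      haveI : IsRegularRing (k' ⊗[k] A) := hreg k' (Module.Finite.trans k1 k') hx
      exact IsRegularRing.of_ringEquiv (Algebra.TensorProduct.cancelBaseChange k k1 k' k' A).symm.toRingEquiv
    have htail := ih k1 A1 ((algebraMap k k1).comp ι) hreg1 hk0 (fun i => a i.succ) (fun i => ι1 (c i.succ)) hrel1
    have hzero : ∀ δ : Derivation ℤ k κ, δ a0 = 0 → ∑ i : Fin n, c i.succ * δ (ι (a i.succ)) = 0 := by
      intro δ hδ0
      let φ : k →+* TrivSqZeroExt (ResidueField A1) (ResidueField A1) :=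
        { toFun := fun x => TrivSqZeroExt.inl (algebraMap k (ResidueField A1) x) + TrivSqZeroExt.inr (ι1 (δ x))
          map_one' := TrivSqZeroExt.ext (by simp) (by simp)
          map_zero' := TrivSqZeroExt.ext (by simp) (by simp)
          map_add' := fun x y => TrivSqZeroExt.ext (by simp) (by simp)
          map_mul' := fun x y => TrivSqZeroExt.ext (by simp) (by
            simp only [TrivSqZeroExt.fst_add, TrivSqZeroExt.snd_add, TrivSqZeroExt.snd_mul, TrivSqZeroExt.fst_inl, TrivSqZeroExt.snd_inl,
              TrivSqZeroExt.fst_inr, TrivSqZeroExt.snd_inr, Derivation.leibniz, Algebra.smul_def, map_mul, map_add, op_smul_eq_smul,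
              Algebra.algebraMap_self_apply]
            have h9 : ∀ z : k, ι1 (algebraMap k κ z) = algebraMap k (ResidueField A1) z := fun z =>
              congrArg (residue A1) (f.commutes z)
            rw [h9, h9]
            ring) }
      have hroot : fp.eval₂ φ (TrivSqZeroExt.inl (algebraMap k1 (ResidueField A1) t)) = 0 := by
        simp only [fp, Polynomial.eval₂_sub, Polynomial.eval₂_X_pow, Polynomial.eval₂_C]
        rw [TrivSqZeroExt.inl_pow, ← map_pow, ht, ← IsScalarTower.algebraMap_apply, sub_eq_zero]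
        refine TrivSqZeroExt.ext ?_ ?_ <;> simp [φ, hδ0]
      let ψ : k1 →+* TrivSqZeroExt (ResidueField A1) (ResidueField A1) := AdjoinRoot.lift φ _ hroot
      have hψ : ∀ x, TrivSqZeroExt.fst (ψ x) = algebraMap k1 (ResidueField A1) x := fun x => by
        have : (TrivSqZeroExt.fstHom (ResidueField A1) (ResidueField A1) (ResidueField A1)).toRingHom.comp ψ = algebraMap k1 (ResidueField A1) := by
          refine Ideal.Quotient.ringHom_ext (Polynomial.ringHom_ext (fun z => ?_) ?_)
          · show TrivSqZeroExt.fst (ψ (AdjoinRoot.of fp z)) = algebraMap k1 (ResidueField A1) (algebraMap k k1 z)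
            rw [AdjoinRoot.lift_of hroot, ← IsScalarTower.algebraMap_apply]
            simp [φ]
          · show TrivSqZeroExt.fst (ψ (AdjoinRoot.root fp)) = algebraMap k1 (ResidueField A1) t
            rw [AdjoinRoot.lift_root hroot]
            rfl
        exact RingHom.congr_fun this x
      let d : k1 →+ (ResidueField A1) :=
        { toFun := fun y => TrivSqZeroExt.snd (ψ y)
          map_zero' := by rw [map_zero]; rfl
          map_add' := fun y z => by rw [map_add]; rfl }
      let δ1 : Derivation ℤ k1 (ResidueField A1) := Derivation.mk' d.toIntLinearMap fun y z => by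
        show TrivSqZeroExt.snd (ψ (y * z)) = y • TrivSqZeroExt.snd (ψ z) + z • TrivSqZeroExt.snd (ψ y)
        rw [map_mul, TrivSqZeroExt.snd_mul, hψ, hψ]
        simp [Algebra.smul_def, mul_comm]
      have h1 := htail δ1
      have h2 : ∀ z : k, δ1 (algebraMap k k1 z) = ι1 (δ z) := fun z => by
        show TrivSqZeroExt.snd (ψ (AdjoinRoot.of fp z)) = _
        rw [AdjoinRoot.lift_of hroot]
        simp only [φ, RingHom.coe_mk, MonoidHom.coe_mk, OneHom.coe_mk, TrivSqZeroExt.snd_add, TrivSqZeroExt.snd_inl, TrivSqZeroExt.snd_inr, zero_add]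
      refine (map_eq_zero_iff ι1 ι1.injective).1 ?_
      rw [map_sum, ← h1]
      refine Finset.sum_congr rfl fun i _ => ?_
      rw [map_mul]
      exact congrArg (ι1 (c i.succ) * ·) (h2 _).symm
    obtain ⟨δk, hδk⟩ : ∃ δk : Derivation ℤ k k, δk a0 ≠ 0 := by
      by_contra hall
      push Not at hall
      obtain ⟨b, hb'⟩ := H2GeomRed.exists_pow_of_derivation_eq_zero k p hp.out a0 hall
      exact hb b hb'
    let δ0 : Derivation ℤ k κ := (algebraMap k κ (δk a0))⁻¹ • (Algebra.linearMap k κ).compDer δk
    have hδ0 : δ0 a0 = 1 := by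
      show (algebraMap k κ (δk a0))⁻¹ • algebraMap k κ (δk a0) = 1
      rw [smul_eq_mul, inv_mul_cancel₀]
      exact fun h => hδk ((map_eq_zero_iff _ (algebraMap k κ).injective).1 h)
    let μ := ∑ i : Fin n, c i.succ * δ0 (ι (a i.succ))
    have hgen : ∀ δ : Derivation ℤ k κ, c 0 * δ a0 + ∑ i : Fin n, c i.succ * δ (ι (a i.succ)) = (c 0 + μ) * δ a0 := fun δ => by
      have h1 := hzero (δ - δ a0 • δ0) (by
        show δ a0 - δ a0 • δ0 a0 = 0
        rw [hδ0, smul_eq_mul, mul_one, sub_self])
      have h2 : ∑ i : Fin n, c i.succ * (δ - δ a0 • δ0) (ι (a i.succ)) =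
          ∑ i : Fin n, c i.succ * δ (ι (a i.succ)) - δ a0 * μ := by
        rw [Finset.mul_sum, ← Finset.sum_sub_distrib]
        refine Finset.sum_congr rfl fun i _ => ?_
        show c i.succ * (δ _ - δ a0 • δ0 _) = _
        rw [smul_eq_mul]
        ring
      rw [h2] at h1
      linear_combination h1
    obtain ⟨D, hD⟩ := exists_derivation_ne_zero p k A k1 hk1 t a0 ht fun E _ _ e he =>
      ⟨AdjoinRoot.liftAlgHom fp (Algebra.ofId k E) e (by simp [fp, he, Algebra.ofId_apply]),
        AdjoinRoot.liftAlgHom_root _ _ _ _⟩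
    have h1 := hrel D
    rw [Fin.sum_univ_succ] at h1
    have h2 := hgen (D.compAlgebraMap k)
    have h3 : (c 0 + μ) * D (algebraMap k A a0) = 0 := h2.symm.trans h1
    rw [hgen δ, (mul_eq_zero.1 h3).resolve_right hD, zero_mul]

/-- Regularity after exponent one extensions gives adic formal smoothness. -/
theorem adicFS_of_regular (k A : Type u) [Field k] [CharP k p] [CommRing A] [IsLocalRing A] [IsNoetherianRing A] [Algebra k A]
    (h : ∀ (k' : Type u) [Field k'] [Algebra k k'], Module.Finite k k' →
      (∀ x : k', x ^ p ∈ Set.range (algebraMap k k')) → IsRegularRing (k' ⊗[k] A)) :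
    CAlgX.IsAdicFormallySmooth k A (maximalIdeal A) := by
  classical
  let κ := ResidueField A
  refine H2DerExtend.adicFS_iff.2 ⟨?_, H2DerExtend.ext_of_injective ?_⟩
  · haveI : IsRegularRing (k ⊗[k] A) := h k inferInstance fun x => ⟨x ^ p, rfl⟩
    haveI : IsRegularRing A := IsRegularRing.of_ringEquiv (Algebra.TensorProduct.lid k A).toRingEquiv
    exact IsRegularLocalRing.of_isRegularRing_of_isLocalRing A
  rw [injective_iff_map_eq_zero]
  intro z hz
  let v : k → κ ⊗[A] (A ⊗[k] Ω[k⁄ℤ]) := fun a => (1 : κ) ⊗ₜ[A] ((1 : A) ⊗ₜ[k] KaehlerDifferential.D ℤ k a)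
  have hrep : ∀ z : κ ⊗[A] (A ⊗[k] Ω[k⁄ℤ]), z ∈ Submodule.span κ (Set.range v) := by
    intro z
    induction z with
    | zero => exact zero_mem _
    | add x y hx hy => exact add_mem hx hy
    | tmul c w =>
      induction w with
      | zero => rw [TensorProduct.tmul_zero]; exact zero_mem _
      | add x y hx hy => rw [TensorProduct.tmul_add]; exact add_mem hx hy
      | tmul b ω =>
        have hω : ω ∈ Submodule.span k (Set.range (KaehlerDifferential.D ℤ k)) := by
          rw [KaehlerDifferential.span_range_derivation]; trivial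
        induction hω using Submodule.span_induction generalizing b with
        | mem y hy =>
          obtain ⟨a, rfl⟩ := hy
          have : c ⊗ₜ[A] (b ⊗ₜ[k] KaehlerDifferential.D ℤ k a) = (b • c) • v a := by
            simp only [v, TensorProduct.smul_tmul']
            rw [show (b • c) • (1 : κ) = b • c from mul_one _, TensorProduct.smul_tmul, TensorProduct.smul_tmul', smul_eq_mul, mul_one]
          rw [this]
          exact Submodule.smul_mem _ _ (Submodule.subset_span ⟨a, rfl⟩)
        | zero => rw [TensorProduct.tmul_zero, TensorProduct.tmul_zero]; exact zero_mem _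
        | add x y _ _ hx hy => rw [TensorProduct.tmul_add, TensorProduct.tmul_add]; exact add_mem (hx b) (hy b)
        | smul r x _ hx =>
          have : b ⊗ₜ[k] (r • x) = (r • b) ⊗ₜ[k] x := (TensorProduct.smul_tmul r b x).symm
          rw [this]
          exact hx _
  obtain ⟨cf, hcf⟩ := Finsupp.mem_span_range_iff_exists_finsupp.1 (hrep z)
  let e := cf.support.equivFin
  let a : Fin cf.support.card → k := fun i => (e.symm i).1
  have hsum : ∑ i, cf (a i) • v (a i) = z := by
    rw [← hcf, Finsupp.sum, ← Finset.sum_attach cf.support]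
    exact Fintype.sum_equiv e.symm _ (fun x : cf.support => cf x.1 • v x.1) fun i => rfl
  refine (Module.forall_dual_apply_eq_zero_iff κ z).1 fun G => ?_
  let j : Ω[k⁄ℤ] →ₗ[k] κ :=
    (((G.restrictScalars A).comp (TensorProduct.mk A κ (A ⊗[k] Ω[k⁄ℤ]) 1)).restrictScalars k).comp
      (TensorProduct.mk k A (Ω[k⁄ℤ]) 1)
  have h1 := key p k cf.support.card k A (RingHom.id k)
    (fun k' _ _ hf hx => h k' hf fun x => (hx x).imp fun s hs => hs.symm) (fun x => ⟨x ^ p, rfl⟩) a (fun i => cf (a i))
    (fun D => by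
      let G' : κ ⊗[A] Ω[A⁄ℤ] →ₗ[κ] κ := D.liftKaehlerDifferential.liftBaseChange κ
      let bc : κ ⊗[A] (A ⊗[k] Ω[k⁄ℤ]) →ₗ[κ] κ ⊗[A] Ω[A⁄ℤ] := LinearMap.baseChange κ (KaehlerDifferential.mapBaseChange ℤ k A)
      have hb : bc z = 0 := hz
      have h2 := congrArg G' hb
      rw [← hsum, map_sum, map_sum, map_zero] at h2
      refine Eq.trans (Finset.sum_congr rfl fun i _ => ?_) h2
      rw [map_smul, map_smul, smul_eq_mul]
      congr 1
      simp [v, G', bc, KaehlerDifferential.mapBaseChange_tmul, Derivation.liftKaehlerDifferential_comp_D])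
    (j.compDer (KaehlerDifferential.D ℤ k))
  rw [← hsum, map_sum, ← h1]
  refine Finset.sum_congr rfl fun i _ => ?_
  rw [map_smul, smul_eq_mul]
  rfl

end Groth.Agent.H2PRadical
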