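import Mathlib
import Groth.Prelude.Def_Found
import Groth.Prelude.Def_CAlgX
import Groth.Agent.Lib.H2GeomRegular
import Groth.Agent.Lib.H2RegularLoc
import Groth.Agent.Lib.H2AdicFSFlat
import Groth.Agent.Lib.H2AdicFSFibre
import Groth.Agent.S2035
import Groth.Agent.S2036
set_option autoImplicit false

/-! Geometric regularity, regular homomorphisms and local adic formal smoothness. -/
namespace Groth.Agent.H2GeomRegMore
open IsLocalRing TensorProduct
set_option backward.isDefEq.respectTransparency.types false
universe u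

/-- Base change of adic formal smoothness of local rings. -/
theorem adicFS_tensor {A B A' : Type u} [CommRing A] [CommRing B] [CommRing A'] [Algebra A B] [Algebra A A']
    (Q : Ideal (A' ⊗[A] B)) [Q.IsPrime] (q : Ideal B) [q.IsPrime]
    (hq : q = Q.comap (Algebra.TensorProduct.includeRight : B →ₐ[A] A' ⊗[A] B).toRingHom)
    (h : CAlgX.IsAdicFormallySmooth A (Localization.AtPrime q) (maximalIdeal (Localization.AtPrime q))) :
    CAlgX.IsAdicFormallySmooth A' (Localization.AtPrime Q) (maximalIdeal (Localization.AtPrime Q)) := by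
  let inc : B →ₐ[A] A' ⊗[A] B := Algebra.TensorProduct.includeRight
  let S := Localization.AtPrime q
  let T := Localization.AtPrime Q
  intro C _ _ J hJ ψ ⟨n, hn⟩
  letI : Algebra A C := ((algebraMap A' C).comp (algebraMap A A')).toAlgebra
  haveI : IsScalarTower A A' C := IsScalarTower.of_algebraMap_eq' rfl
  have hu0 : ∀ y : q.primeCompl, IsUnit (algebraMap (A' ⊗[A] B) T (inc y)) := fun y =>
    IsLocalization.map_units T (⟨inc y, fun hy => y.2 (hq ▸ hy)⟩ : Q.primeCompl)
  let j : S →ₐ[A] T := IsLocalization.liftAlgHom (M := q.primeCompl)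
    (f := (IsScalarTower.toAlgHom A (A' ⊗[A] B) T).comp inc) hu0
  have hj : maximalIdeal S ≤ (maximalIdeal T).comap j := by
    rw [← IsLocalization.AtPrime.map_eq_maximalIdeal q S, Ideal.map_le_iff_le_comap]
    intro y hy
    show j (algebraMap B S y) ∈ maximalIdeal T
    rw [show j (algebraMap B S y) = algebraMap (A' ⊗[A] B) T (inc y) from IsLocalization.lift_eq hu0 y,
      ← IsLocalization.AtPrime.map_eq_maximalIdeal Q T]
    exact Ideal.mem_map_of_mem _ (show inc y ∈ Q from hq.le hy)
  obtain ⟨χ, hχ⟩ := h C J hJ ((ψ.restrictScalars A).comp j) ⟨n, fun x hx => hn _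
    (show x ∈ ((maximalIdeal T) ^ n).comap j from Ideal.le_comap_pow j n (Ideal.pow_right_mono hj n hx))⟩
  let Φ : A' ⊗[A] B →ₐ[A'] C := Algebra.TensorProduct.lift (Algebra.ofId A' C)
    (χ.comp (IsScalarTower.toAlgHom A B S)) (fun _ _ => Commute.all _ _)
  have key : ∀ z, Ideal.Quotient.mk J (Φ z) = ψ (algebraMap (A' ⊗[A] B) T z) := fun z => by
    induction z with
    | zero => simp
    | add x y hx hy => simp only [map_add, hx, hy]
    | tmul a b =>
      rw [Algebra.TensorProduct.lift_tmul, show a ⊗ₜ[A] b = algebraMap A' (A' ⊗[A] B) a * inc b by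
        simp [inc, Algebra.TensorProduct.algebraMap_apply], map_mul, map_mul, map_mul,
        ← IsScalarTower.algebraMap_apply, ψ.commutes]
      congr 1
      refine (AlgHom.congr_fun hχ (algebraMap B S b)).trans ?_
      exact congrArg ψ (IsLocalization.lift_eq hu0 b)
  have hu : ∀ y : Q.primeCompl, IsUnit (Φ y) := fun y => by
    refine (IsNilpotent.isUnit_quotient_mk_iff (I := J) ⟨2, hJ⟩).1 ?_
    rw [key]
    exact (IsLocalization.map_units T y).map ψ
  refine ⟨IsLocalization.liftAlgHom (M := Q.primeCompl) (f := Φ) hu, ?_⟩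
  refine AlgHom.coe_ringHom_injective (IsLocalization.ringHom_ext Q.primeCompl (RingHom.ext fun z => ?_))
  show Ideal.Quotient.mk J (IsLocalization.lift hu (algebraMap _ T z)) = ψ (algebraMap _ T z)
  exact (congrArg (Ideal.Quotient.mk J) (IsLocalization.lift_eq hu z)).trans (key z)

/-- Adic formal smoothness composes. -/
theorem adicFS_trans {A B C : Type u} [CommRing A] [CommRing B] [CommRing C] [Algebra A B] [Algebra B C] [Algebra A C]
    [IsScalarTower A B C] {𝔟 : Ideal B} {𝔠 : Ideal C} (hle : 𝔟.map (algebraMap B C) ≤ 𝔠)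
    (h1 : CAlgX.IsAdicFormallySmooth A B 𝔟) (h2 : CAlgX.IsAdicFormallySmooth B C 𝔠) :
    CAlgX.IsAdicFormallySmooth A C 𝔠 := by
  intro D _ _ J hJ ψ ⟨n, hn⟩
  obtain ⟨χ, hχ⟩ := h1 D J hJ (ψ.comp (IsScalarTower.toAlgHom A B C)) ⟨n, fun x hx => hn _
    (Ideal.pow_right_mono hle n (Ideal.map_pow (algebraMap B C) 𝔟 n ▸ Ideal.mem_map_of_mem _ hx))⟩
  letI : Algebra B D := χ.toRingHom.toAlgebra
  haveI : IsScalarTower A B D := IsScalarTower.of_algebraMap_eq fun a => (χ.commutes a).symm
  let ψB : C →ₐ[B] D ⧸ J := { ψ.toRingHom with commutes' := fun b => (AlgHom.congr_fun hχ b).symm }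
  obtain ⟨ω, hω⟩ := h2 D J hJ ψB ⟨n, hn⟩
  exact ⟨ω.restrictScalars A, AlgHom.ext fun c => AlgHom.congr_fun hω c⟩

/-- Adic formal smoothness over a localization of the base. -/
theorem adicFS_base {A A' B : Type u} [CommRing A] [CommRing A'] [CommRing B] [Algebra A A'] [Algebra A' B] [Algebra A B]
    [IsScalarTower A A' B] (M : Submonoid A) [IsLocalization M A'] (𝔟 : Ideal B) :
    CAlgX.IsAdicFormallySmooth A' B 𝔟 ↔ CAlgX.IsAdicFormallySmooth A B 𝔟 := by
  constructor
  · intro h C _ _ J hJ ψ ⟨n, hn⟩
    have hu : ∀ y : M, IsUnit (algebraMap A C y) := fun y => by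
      refine (IsNilpotent.isUnit_quotient_mk_iff (I := J) ⟨2, hJ⟩).1 ?_
      rw [show Ideal.Quotient.mk J (algebraMap A C y) = algebraMap A (C ⧸ J) y from rfl, ← ψ.commutes,
        IsScalarTower.algebraMap_apply A A' B]
      exact ((IsLocalization.map_units A' y).map (algebraMap A' B)).map ψ
    letI : Algebra A' C := (IsLocalization.lift hu).toAlgebra
    haveI : IsScalarTower A A' C := IsScalarTower.of_algebraMap_eq fun a => (IsLocalization.lift_eq hu a).symm
    have hc : (ψ.toRingHom).comp (algebraMap A' B) = algebraMap A' (C ⧸ J) :=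
      IsLocalization.ringHom_ext M (RingHom.ext fun a => by
        show ψ (algebraMap A' B (algebraMap A A' a)) = algebraMap A' (C ⧸ J) (algebraMap A A' a)
        rw [← IsScalarTower.algebraMap_apply, ← IsScalarTower.algebraMap_apply, ψ.commutes])
    let ψ' : B →ₐ[A'] C ⧸ J := { ψ.toRingHom with commutes' := fun r => RingHom.congr_fun hc r }
    obtain ⟨χ, hχ⟩ := h C J hJ ψ' ⟨n, hn⟩
    exact ⟨χ.restrictScalars A, AlgHom.ext fun c => AlgHom.congr_fun hχ c⟩
  · intro h C _ _ J hJ ψ ⟨n, hn⟩
    letI : Algebra A C := ((algebraMap A' C).comp (algebraMap A A')).toAlgebra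
    haveI : IsScalarTower A A' C := IsScalarTower.of_algebraMap_eq' rfl
    obtain ⟨χ, hχ⟩ := h C J hJ (ψ.restrictScalars A) ⟨n, hn⟩
    have hc : χ.toRingHom.comp (algebraMap A' B) = algebraMap A' C := IsLocalization.ringHom_ext M (RingHom.ext fun a => by
      show χ (algebraMap A' B (algebraMap A A' a)) = algebraMap A' C (algebraMap A A' a)
      rw [← IsScalarTower.algebraMap_apply, ← IsScalarTower.algebraMap_apply, χ.commutes])
    exact ⟨{ χ.toRingHom with commutes' := fun r => RingHom.congr_fun hc r }, AlgHom.ext fun c => AlgHom.congr_fun hχ c⟩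

theorem adicFS_of_formallySmooth {A B : Type u} [CommRing A] [CommRing B] [Algebra A B] [Algebra.FormallySmooth A B] (𝔟 : Ideal B) :
    CAlgX.IsAdicFormallySmooth A B 𝔟 :=
  fun _ _ _ J hJ ψ _ => Algebra.FormallySmooth.exists_lift J ⟨2, hJ⟩ ψ

/-- Composition at the level of local rings. -/
theorem adicFS_comp_localization {A B C : Type u} [CommRing A] [CommRing B] [CommRing C] [Algebra A B] [Algebra B C] [Algebra A C]
    [IsScalarTower A B C] {r : Ideal C} [r.IsPrime]
    (h1 : CAlgX.IsAdicFormallySmooth A (Localization.AtPrime (r.comap (algebraMap B C)))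
      (maximalIdeal (Localization.AtPrime (r.comap (algebraMap B C)))))
    (h2 : CAlgX.IsAdicFormallySmooth B (Localization.AtPrime r) (maximalIdeal (Localization.AtPrime r))) :
    CAlgX.IsAdicFormallySmooth A (Localization.AtPrime r) (maximalIdeal (Localization.AtPrime r)) := by
  let q := r.comap (algebraMap B C)
  let Bq := Localization.AtPrime q
  let Cr := Localization.AtPrime r
  letI : Algebra Bq Cr := (Localization.localRingHom q r (algebraMap B C) rfl).toAlgebra
  haveI : IsLocalHom (algebraMap Bq Cr) := Localization.isLocalHom_localRingHom q r (algebraMap B C) rfl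
  haveI : IsScalarTower B Bq Cr := IsScalarTower.of_algebraMap_eq fun x => by
    refine Eq.trans ?_ (Localization.localRingHom_to_map q r (algebraMap B C) rfl x).symm
    exact IsScalarTower.algebraMap_apply B C Cr x
  haveI : IsScalarTower A Bq Cr := IsScalarTower.of_algebraMap_eq fun x => by
    rw [IsScalarTower.algebraMap_apply A B Bq, ← IsScalarTower.algebraMap_apply B Bq Cr, IsScalarTower.algebraMap_apply B C Cr,
      ← IsScalarTower.algebraMap_apply A B C, ← IsScalarTower.algebraMap_apply A C Cr]
  exact adicFS_trans (((IsLocalRing.local_hom_TFAE (algebraMap Bq Cr)).out 0 2).1 ‹IsLocalHom (algebraMap Bq Cr)›) h1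
    ((adicFS_base (A' := Bq) q.primeCompl _).2 h2)

/-- For Noetherian local algebras over fields, geometric regularity is adic formal smoothness. -/
theorem geomReg_iff_adicFS {k A : Type u} [Field k] [CommRing A] [IsLocalRing A] [IsNoetherianRing A] [Algebra k A] :
    CAlg.IsGeometricallyRegular k A ↔ CAlgX.IsAdicFormallySmooth k A (maximalIdeal A) := by
  refine ⟨fun h => ?_, H2GeomRegular.isGeometricallyRegular_of_adicFS⟩
  obtain _ | ⟨q, hq, hqk⟩ := CharP.exists' k
  · refine Groth.Agent.S2035.result.1 ?_
    haveI : IsRegularRing (k ⊗[k] A) := h k inferInstance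
    haveI : IsRegularRing A := IsRegularRing.of_ringEquiv (Algebra.TensorProduct.lid k A).toRingEquiv
    exact IsRegularLocalRing.of_isRegularRing_of_isLocalRing A
  · haveI := Fact.mk hq.out
    exact (Groth.Agent.S2036.result q).1 h

/-- Regularity of a tensor product with a localization. -/
theorem isRegularRing_tensor_localization {k S S' K : Type u} [CommRing k] [CommRing S] [CommRing S'] [CommRing K] [Algebra k S]
    [Algebra k K] [Algebra S S'] [Algebra k S'] [IsScalarTower k S S'] (M : Submonoid S) [IsLocalization M S']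
    [IsRegularRing (K ⊗[k] S)] : IsRegularRing (K ⊗[k] S') := by
  haveI : IsRegularRing (S ⊗[k] K) := IsRegularRing.of_ringEquiv (Algebra.TensorProduct.comm k K S).toRingEquiv
  haveI : IsRegularRing ((S ⊗[k] K) ⊗[S] S') :=
    H2RegularLoc.isRegularRing_of_isLocalization (T := S ⊗[k] K) (Algebra.algebraMapSubmonoid (S ⊗[k] K) M) _
  exact IsRegularRing.of_ringEquiv ((((Algebra.TensorProduct.comm S (S ⊗[k] K) S').toRingEquiv).trans
    (Algebra.TensorProduct.cancelBaseChange k S S' S' K).toRingEquiv).trans (Algebra.TensorProduct.comm k S' K).toRingEquiv)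

theorem geomReg_localization {k S : Type u} [Field k] [CommRing S] [Algebra k S] (h : CAlg.IsGeometricallyRegular k S)
    (M : Submonoid S) (S' : Type u) [CommRing S'] [Algebra S S'] [Algebra k S'] [IsScalarTower k S S'] [IsLocalization M S'] :
    CAlg.IsGeometricallyRegular k S' := by
  intro k' _ _ hf
  haveI := h k' hf
  exact isRegularRing_tensor_localization M

theorem adicFS_of_geomReg {k S : Type u} [Field k] [CommRing S] [Algebra k S] [IsNoetherianRing S]
    (h : CAlg.IsGeometricallyRegular k S) (p : Ideal S) [p.IsPrime] :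
    CAlgX.IsAdicFormallySmooth k (Localization.AtPrime p) (maximalIdeal (Localization.AtPrime p)) := by
  haveI : IsNoetherianRing (Localization.AtPrime p) := IsLocalization.isNoetherianRing p.primeCompl _ inferInstance
  exact geomReg_iff_adicFS.1 (geomReg_localization h p.primeCompl _)

theorem isRegularRing_of_adicFS {k T : Type u} [Field k] [CommRing T] [Algebra k T] [IsNoetherianRing T]
    (h : ∀ (Q : Ideal T) [Q.IsPrime], CAlgX.IsAdicFormallySmooth k (Localization.AtPrime Q) (maximalIdeal (Localization.AtPrime Q))) :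
    IsRegularRing T := by
  refine isRegularRing_iff.2 fun Q _ => ?_
  haveI : IsNoetherianRing (Localization.AtPrime Q) := IsLocalization.isNoetherianRing Q.primeCompl _ inferInstance
  exact H2AdicFSField.isRegularLocalRing_of_adicFS (k := k) (h Q)

/-- Geometric regularity is adic formal smoothness of all the local rings. -/
theorem geomReg_iff_forall {k S : Type u} [Field k] [CommRing S] [Algebra k S] [IsNoetherianRing S] :
    CAlg.IsGeometricallyRegular k S ↔ ∀ (p : Ideal S) [p.IsPrime],
      CAlgX.IsAdicFormallySmooth k (Localization.AtPrime p) (maximalIdeal (Localization.AtPrime p)) := by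
  refine ⟨fun h p _ => adicFS_of_geomReg h p, fun h k' _ _ hf => ?_⟩
  haveI := hf
  haveI : IsNoetherianRing (S ⊗[k] k') := isNoetherian_of_tower S inferInstance
  haveI : IsNoetherianRing (k' ⊗[k] S) := isNoetherianRing_of_ringEquiv (S ⊗[k] k') (Algebra.TensorProduct.comm k S k').toRingEquiv
  exact isRegularRing_of_adicFS (k := k') fun Q _ => adicFS_tensor Q _ rfl (h _)

/-- Flat over regular with regular closed fibre is regular. -/
theorem isRegularLocalRing_of_flat (A B : Type u) [CommRing A] [CommRing B] [IsRegularLocalRing A] [IsLocalRing B] [IsNoetherianRing B]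
    [Algebra A B] [IsLocalHom (algebraMap A B)] [Module.Flat A B]
    [hF : IsRegularLocalRing (B ⧸ (maximalIdeal A).map (algebraMap A B))] : IsRegularLocalRing B := by
  classical
  let I := (maximalIdeal A).map (algebraMap A B)
  obtain ⟨s, hs, hsspan⟩ := Submodule.FG.exists_span_set_encard_eq_spanFinrank (maximalIdeal A).fg_of_isNoetherianRing
  obtain ⟨t, ht, htspan⟩ := Submodule.FG.exists_span_set_encard_eq_spanFinrank (maximalIdeal (B ⧸ I)).fg_of_isNoetherianRing
  have hsfin : s.Finite := Set.finite_of_encard_eq_coe hs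
  have htfin : t.Finite := Set.finite_of_encard_eq_coe ht
  let g : B ⧸ I → B := Function.surjInv Ideal.Quotient.mk_surjective
  let G : Finset B := (hsfin.toFinset.image (algebraMap A B)) ∪ (htfin.toFinset.image g)
  have hG : Ideal.span (G : Set B) = maximalIdeal B := by
    have h1 : Ideal.span (algebraMap A B '' s) = I := by
      rw [← Ideal.map_span]; exact congrArg _ hsspan
    have h2 : (Ideal.span (g '' t)).map (Ideal.Quotient.mk I) = maximalIdeal (B ⧸ I) := by
      rw [Ideal.map_span, Set.image_image]
      simp only [g, Function.surjInv_eq Ideal.Quotient.mk_surjective, Set.image_id']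
      exact htspan
    have h3 : maximalIdeal B = I ⊔ Ideal.span (g '' t) := by
      have hle : I ≤ maximalIdeal B := ((IsLocalRing.local_hom_TFAE (algebraMap A B)).out 0 2).1 ‹IsLocalHom (algebraMap A B)›
      have h4 := congrArg (Ideal.comap (Ideal.Quotient.mk I)) h2
      rw [Ideal.comap_map_of_surjective _ Ideal.Quotient.mk_surjective, ← RingHom.ker_eq_comap_bot, Ideal.mk_ker] at h4
      rw [sup_comm, h4]
      exact (IsLocalRing.eq_maximalIdeal (Ideal.comap_isMaximal_of_surjective _ Ideal.Quotient.mk_surjective)).symm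
    rw [h3]
    refine Eq.trans ?_ (congrArg (· ⊔ Ideal.span (g '' t)) h1)
    show _ = _ ⊔ _
    rw [← Ideal.span_union]
    congr 1
    simp [G]
  refine IsRegularLocalRing.of_spanFinrank_maximalIdeal_le B ?_
  have hcard : (maximalIdeal B).spanFinrank ≤ (maximalIdeal A).spanFinrank + (maximalIdeal (B ⧸ I)).spanFinrank := by
    refine le_trans (le_of_eq_of_le (congrArg _ hG.symm) (Submodule.spanFinrank_span_le_ncard_of_finite G.finite_toSet)) ?_
    rw [Set.ncard_coe_finset]
    refine (Finset.card_union_le _ _).trans (Nat.add_le_add (Finset.card_image_le.trans ?_) (Finset.card_image_le.trans ?_))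
    · rw [← Nat.cast_le (α := ℕ∞), ← hs, hsfin.encard_eq_coe_toFinset_card]
    · rw [← Nat.cast_le (α := ℕ∞), ← ht, htfin.encard_eq_coe_toFinset_card]
  haveI : (maximalIdeal B).LiesOver (maximalIdeal A) :=
    ⟨Ideal.ext fun a => ⟨fun ha => (mem_maximalIdeal _).2 fun hu => (mem_maximalIdeal a).1 ha (isUnit_of_map_unit (algebraMap A B) a hu),
      fun ha => (mem_maximalIdeal a).2 fun hu => (mem_maximalIdeal _).1 ha (hu.map _)⟩⟩
  have hdim := Ideal.height_eq_height_add_of_liesOver_of_hasGoingDown (maximalIdeal A) (maximalIdeal B)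
  rw [IsLocalRing.map_maximalIdeal_of_surjective _ Ideal.Quotient.mk_surjective] at hdim
  have eA := IsRegularLocalRing.spanFinrank_maximalIdeal (R := A)
  have eF := IsRegularLocalRing.spanFinrank_maximalIdeal (R := B ⧸ I)
  rw [← IsLocalRing.maximalIdeal_height_eq_ringKrullDim] at eA eF ⊢
  rw [hdim]
  change ((Submodule.spanFinrank _ : ℕ) : WithBot ℕ∞) ≤ _
  rw [WithBot.coe_add, ← eA, ← eF]
  exact_mod_cast hcard

/-- A Noetherian algebra over a regular ring with adically formally smooth local rings is regular. -/
theorem isRegularRing_of_adicFS_over {R S : Type u} [CommRing R] [CommRing S] [IsRegularRing R] [IsNoetherianRing S] [Algebra R S]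
    (h : ∀ (q : Ideal S) [q.IsPrime], CAlgX.IsAdicFormallySmooth R (Localization.AtPrime q) (maximalIdeal (Localization.AtPrime q))) :
    IsRegularRing S := by
  refine isRegularRing_iff.2 fun q _ => ?_
  let p := q.comap (algebraMap R S)
  let Ap := Localization.AtPrime p
  let Bq := Localization.AtPrime q
  letI : Algebra Ap Bq := (Localization.localRingHom p q (algebraMap R S) rfl).toAlgebra
  haveI : IsLocalHom (algebraMap Ap Bq) := Localization.isLocalHom_localRingHom p q (algebraMap R S) rfl
  haveI : IsScalarTower R Ap Bq := IsScalarTower.of_algebraMap_eq fun x => by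
    refine Eq.trans ?_ (Localization.localRingHom_to_map p q (algebraMap R S) rfl x).symm
    exact IsScalarTower.algebraMap_apply R S Bq x
  haveI : IsNoetherianRing Bq := IsLocalization.isNoetherianRing q.primeCompl _ inferInstance
  haveI : IsRegularLocalRing Ap := IsRegularRing.isRegularLocalRing_localization p
  have h' := (adicFS_base (A' := Ap) p.primeCompl _).2 (h q)
  haveI := H2AdicFSFlat.flat_of_adicFS h'
  let I := (maximalIdeal Ap).map (algebraMap Ap Bq)
  let F := Bq ⧸ I
  haveI : Nontrivial F := Ideal.Quotient.nontrivial_iff.2 fun htop =>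
    (maximalIdeal.isMaximal Bq).ne_top (top_le_iff.1 (htop ▸ ((IsLocalRing.local_hom_TFAE (algebraMap Ap Bq)).out 0 2).1
      ‹IsLocalHom (algebraMap Ap Bq)›))
  haveI : IsLocalRing F := IsLocalRing.of_surjective' (Ideal.Quotient.mk I) Ideal.Quotient.mk_surjective
  letI : Algebra (ResidueField Ap) F := (Ideal.quotientMap I (algebraMap Ap Bq) Ideal.le_comap_map).toAlgebra
  haveI : IsScalarTower Ap (ResidueField Ap) F := IsScalarTower.of_algebraMap_eq fun x => rfl
  have hF := H2AdicFSFibre.adicFS_fibre (k := ResidueField Ap) (Ideal.Quotient.mkₐ Ap I) (Ideal.Quotient.mkₐ_surjective Ap I)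
    Ideal.mk_ker residue_surjective (ker_residue) h'
  rw [show (maximalIdeal Bq).map (Ideal.Quotient.mkₐ Ap I).toRingHom = maximalIdeal F from
    IsLocalRing.map_maximalIdeal_of_surjective _ Ideal.Quotient.mk_surjective] at hF
  haveI : IsRegularLocalRing (Bq ⧸ (maximalIdeal Ap).map (algebraMap Ap Bq)) := H2AdicFSField.isRegularLocalRing_of_adicFS hF
  exact isRegularLocalRing_of_flat Ap Bq

/-- Tensor products of regular algebras with geometrically regular ones are regular. -/
theorem isRegularRing_tensor {k R S : Type u} [Field k] [CommRing R] [CommRing S] [Algebra k R] [Algebra k S] [IsRegularRing R]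
    [IsNoetherianRing S] [IsNoetherianRing (R ⊗[k] S)] (h : CAlg.IsGeometricallyRegular k S) : IsRegularRing (R ⊗[k] S) :=
  isRegularRing_of_adicFS_over (R := R) fun Q _ => adicFS_tensor Q _ rfl (adicFS_of_geomReg h _)

/-- The fibre criterion in terms of a surjection. -/
theorem adicFS_of_flat' {A B k T : Type u} [CommRing A] [CommRing B] [IsLocalRing A] [IsLocalRing B] [IsNoetherianRing A] [IsNoetherianRing B]
    [Algebra A B] [IsLocalHom (algebraMap A B)] [Module.Flat A B] [CommRing k] [CommRing T] [IsLocalRing T] [Algebra A k] [Algebra k T]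
    (π : B →+* T) (hπ : Function.Surjective π) (hker : RingHom.ker π = (maximalIdeal A).map (algebraMap A B))
    (hk : Function.Surjective (algebraMap A k)) (hkk : RingHom.ker (algebraMap A k) = maximalIdeal A)
    (hc : π.comp (algebraMap A B) = (algebraMap k T).comp (algebraMap A k))
    (h : CAlgX.IsAdicFormallySmooth k T (maximalIdeal T)) : CAlgX.IsAdicFormallySmooth A B (maximalIdeal B) := by
  letI : Algebra A T := ((algebraMap k T).comp (algebraMap A k)).toAlgebra
  haveI : IsScalarTower A k T := IsScalarTower.of_algebraMap_eq' rfl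
  let π' : B →ₐ[A] T := { π with commutes' := fun r => RingHom.congr_fun hc r }
  refine H2AdicFSFibre.adicFS_of_flat (k := k) π' hπ hker hk hkk ?_
  rw [show (maximalIdeal B).map π'.toRingHom = maximalIdeal T from IsLocalRing.map_maximalIdeal_of_surjective π hπ]
  exact h

set_option maxHeartbeats 2000000 in
theorem adicFS_of_regularHom_aux {A B : Type u} [CommRing A] [CommRing B] [Algebra A B] [IsNoetherianRing A] [IsNoetherianRing B]
    (h : CAlg.IsRegularHom A B) (p : Ideal A) [p.IsPrime] (Q : Ideal (p.Fiber B)) [Q.IsPrime] (q : Ideal B) [q.IsPrime]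
    (hq : q = Q.comap Algebra.TensorProduct.includeRight) :
    CAlgX.IsAdicFormallySmooth A (Localization.AtPrime q) (maximalIdeal (Localization.AtPrime q)) := by
  subst hq
  let q := Q.comap (Algebra.TensorProduct.includeRight : B →ₐ[A] p.Fiber B)
  let Ap := Localization.AtPrime p
  let Bq := Localization.AtPrime q
  have hpq : p = q.comap (algebraMap A B) := by
    rw [show p = Q.comap (algebraMap A (p.Fiber B)) from Ideal.over_def Q p]
    ext x
    simp [q]
  letI : Algebra Ap Bq := (Localization.localRingHom p q (algebraMap A B) hpq).toAlgebra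
  haveI : IsLocalHom (algebraMap Ap Bq) := Localization.isLocalHom_localRingHom p q (algebraMap A B) hpq
  haveI : IsScalarTower A Ap Bq := IsScalarTower.of_algebraMap_eq fun x => by
    refine Eq.trans ?_ (Localization.localRingHom_to_map p q (algebraMap A B) hpq x).symm
    exact IsScalarTower.algebraMap_apply A B Bq x
  haveI : IsNoetherianRing Bq := IsLocalization.isNoetherianRing q.primeCompl _ inferInstance
  haveI : IsNoetherianRing Ap := IsLocalization.isNoetherianRing p.primeCompl _ inferInstance
  haveI : Module.Flat A Bq := by haveI := h.1; exact Module.Flat.trans A B Bq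
  haveI : Module.Flat Ap Bq := (Module.flat_iff_of_isLocalization Ap p.primeCompl Bq).2 inferInstance
  obtain ⟨hN, hgr⟩ := h.2 p
  haveI := hN
  let k := p.ResidueField
  let T := Localization.AtPrime Q
  let I := (p.map (algebraMap A B)).map (algebraMap B Bq)
  let e : T ≃ₐ[A] Bq ⧸ I := Ideal.Fiber.algEquivAux₂ p Q
  let π0 : Bq →+* T := e.symm.toRingEquiv.toRingHom.comp (Ideal.Quotient.mk I)
  have hc : π0.comp (algebraMap Ap Bq) = (algebraMap k T).comp (algebraMap Ap k) :=
    IsLocalization.ringHom_ext p.primeCompl (RingHom.ext fun a => by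
      show π0 (algebraMap Ap Bq (algebraMap A Ap a)) = algebraMap k T (algebraMap Ap k (algebraMap A Ap a))
      rw [← IsScalarTower.algebraMap_apply, ← IsScalarTower.algebraMap_apply A Ap k, ← IsScalarTower.algebraMap_apply A k T]
      exact e.symm.commutes a)
  have hπ : Function.Surjective π0 := e.symm.surjective.comp Ideal.Quotient.mk_surjective
  have hker : RingHom.ker π0 = (maximalIdeal Ap).map (algebraMap Ap Bq) := by
    rw [← IsLocalization.AtPrime.map_eq_maximalIdeal p Ap, Ideal.map_map, ← IsScalarTower.algebraMap_eq]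
    rw [RingHom.ker_equiv_comp, Ideal.mk_ker]
    show (p.map (algebraMap A B)).map (algebraMap B Bq) = _
    rw [Ideal.map_map, ← IsScalarTower.algebraMap_eq]
  refine (adicFS_base (A' := Ap) p.primeCompl _).1 ?_
  exact adicFS_of_flat' π0 hπ hker residue_surjective ker_residue hc (adicFS_of_geomReg hgr Q)

/-- Regular homomorphisms of Noetherian rings are those with adically formally smooth local rings. -/
theorem isRegularHom_iff {A B : Type u} [CommRing A] [CommRing B] [Algebra A B] [IsNoetherianRing A] [IsNoetherianRing B] :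
    CAlg.IsRegularHom A B ↔ ∀ (q : Ideal B) [q.IsPrime],
      CAlgX.IsAdicFormallySmooth A (Localization.AtPrime q) (maximalIdeal (Localization.AtPrime q)) := by
  constructor
  · intro h q _
    let Q := PrimeSpectrum.preimageEquivFiber A B ⟨q.comap (algebraMap A B), inferInstance⟩ ⟨⟨q, inferInstance⟩, rfl⟩
    refine adicFS_of_regularHom_aux h (q.comap (algebraMap A B)) Q.asIdeal q ?_
    exact (congrArg (fun z => z.1.asIdeal) ((PrimeSpectrum.preimageEquivFiber A B ⟨q.comap (algebraMap A B), inferInstance⟩).symm_apply_apply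
      ⟨⟨q, inferInstance⟩, rfl⟩)).symm
  · intro h
    refine ⟨Module.flat_of_isLocalized_maximal B B (fun P _ => Localization.AtPrime P) (fun P _ => Algebra.linearMap B _) fun q _ => ?_, fun p _ => ?_⟩
    · let p := q.comap (algebraMap A B)
      let Ap := Localization.AtPrime p
      let Bq := Localization.AtPrime q
      letI : Algebra Ap Bq := (Localization.localRingHom p q (algebraMap A B) rfl).toAlgebra
      haveI : IsLocalHom (algebraMap Ap Bq) := Localization.isLocalHom_localRingHom p q (algebraMap A B) rfl
      haveI : IsScalarTower A Ap Bq := IsScalarTower.of_algebraMap_eq fun x => by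
        refine Eq.trans ?_ (Localization.localRingHom_to_map p q (algebraMap A B) rfl x).symm
        exact IsScalarTower.algebraMap_apply A B Bq x
      haveI : IsNoetherianRing Bq := IsLocalization.isNoetherianRing q.primeCompl _ inferInstance
      haveI : IsNoetherianRing Ap := IsLocalization.isNoetherianRing p.primeCompl _ inferInstance
      haveI := H2AdicFSFlat.flat_of_adicFS ((adicFS_base (A' := Ap) p.primeCompl _).2 (h q))
      exact Module.Flat.trans A Ap Bq
    · haveI : IsNoetherianRing (B ⊗[A] p.ResidueField) := Algebra.EssFiniteType.isNoetherianRing B _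
      haveI : IsNoetherianRing (p.Fiber B) := isNoetherianRing_of_ringEquiv (B ⊗[A] p.ResidueField) (Algebra.TensorProduct.comm A B p.ResidueField).toRingEquiv
      exact ⟨inferInstance, geomReg_iff_forall.2 fun Q _ => adicFS_tensor Q _ rfl (h _)⟩

/-- Regular homomorphisms compose (Noetherian rings). -/
theorem isRegularHom_trans {A B C : Type u} [CommRing A] [CommRing B] [CommRing C] [Algebra A B] [Algebra B C] [Algebra A C]
    [IsScalarTower A B C] [IsNoetherianRing A] [IsNoetherianRing B] [IsNoetherianRing C]
    (h1 : CAlg.IsRegularHom A B) (h2 : CAlg.IsRegularHom B C) : CAlg.IsRegularHom A C := by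
  refine isRegularHom_iff.2 fun r _ => adicFS_comp_localization (isRegularHom_iff.1 h1 _) (isRegularHom_iff.1 h2 r)

end Groth.Agent.H2GeomRegMore
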