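import Mathlib
import Groth.Agent.Lib.H2RegNormal
set_option autoImplicit false

/-! Regularity descends along faithfully flat maps. -/
namespace Groth.Agent.H2RegDescend
universe u

theorem isRegularRing_descend {R S : Type u} [CommRing R] [CommRing S] [Algebra R S] [Module.FaithfullyFlat R S]
    [IsRegularRing S] : IsRegularRing R := by
  haveI : IsNoetherianRing R := H2RegNormal.isNoetherian_descent (R := R) (S := S)
  refine isRegularRing_iff.2 fun p _ => ?_
  obtain ⟨q, hq, hqp⟩ := Ideal.exists_isPrime_liesOver_of_faithfullyFlat (B := S) p
  haveI := hq
  haveI := hqp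
  haveI : IsRegularLocalRing (Localization.AtPrime q) := IsRegularRing.isRegularLocalRing_localization q
  exact H2RegNormal.regular_descent p q

end Groth.Agent.H2RegDescend
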