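import Mathlib
import Groth.Prelude.Def_EGA4b
import Groth.Agent.Lib.H6.RedFlat
import Groth.Agent.S2615
import Groth.Agent.Lib.RegularLocalBasic
set_option autoImplicit false

/-! Geometrically reduced algebras after field extension, and reducedness along flat maps with such fibres. -/
namespace Groth.Agent.H2FibreReduced
open TensorProduct
set_option maxHeartbeats 800000
set_option synthInstance.maxHeartbeats 200000
universe u

theorem isReduced_of_regular (R : Type u) [CommRing R] [IsRegularRing R] : IsReduced R := by
  refine isReduced_ofLocalizationMaximal R fun m hm => ?_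
  have := hm.isPrime
  haveI : IsDomain (Localization.AtPrime m) := RegLocal.isDomain
  infer_instance

theorem geomReduced_localization {k F L : Type u} [Field k] [CommRing F] [CommRing L] [Algebra k F] [Algebra k L]
    [Algebra F L] [IsScalarTower k F L] (M : Submonoid F) [IsLocalization M L] [Algebra.IsGeometricallyReduced k F] :
    Algebra.IsGeometricallyReduced k L := by
  rw [Algebra.isGeometricallyReduced_field_iff]
  let C := AlgebraicClosure k
  haveI hFr : IsReduced (F ⊗[k] C) := isReduced_of_injective (Algebra.TensorProduct.comm k F C) (AlgEquiv.injective _)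
  haveI : IsReduced (C ⊗[k] L) := by
    let e : L ⊗[F] (F ⊗[k] C) ≃ₐ[F] L ⊗[k] C := (Algebra.TensorProduct.cancelBaseChange k F F L C)
    haveI : IsReduced (L ⊗[F] (F ⊗[k] C)) := by
      letI : Algebra (F ⊗[k] C) (L ⊗[F] (F ⊗[k] C)) := Algebra.TensorProduct.rightAlgebra
      haveI : IsLocalization (Algebra.algebraMapSubmonoid (F ⊗[k] C) M) (L ⊗[F] (F ⊗[k] C)) :=
        isLocalizedModule_iff_isLocalization.1 inferInstance
      exact isReduced_localizationPreserves (Algebra.algebraMapSubmonoid (F ⊗[k] C) M) (L ⊗[F] (F ⊗[k] C)) ‹_›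
    haveI : IsReduced (L ⊗[k] C) := isReduced_of_injective e.symm e.symm.injective
    exact isReduced_of_injective (Algebra.TensorProduct.comm k C L) (AlgEquiv.injective _)
  assumption

theorem isReduced_tensor {k F K : Type u} [Field k] [CommRing F] [Algebra k F] [IsNoetherianRing F]
    [Algebra.IsGeometricallyReduced k F] [Field K] [Algebra k K] [Algebra.EssFiniteType k K] : IsReduced (K ⊗[k] F) := by
  classical
  haveI : IsReduced F := Algebra.isReduced_of_isGeometricallyReduced k
  let S := {P : Ideal F // P ∈ minimalPrimes F}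
  haveI : Finite S := (minimalPrimes.finite_of_isNoetherianRing F).to_subtype
  haveI : Fintype S := Fintype.ofFinite S
  haveI hP : ∀ P : S, P.1.IsPrime := fun P => P.2.1.1
  let L : S → Type u := fun P => Localization.AtPrime P.1
  haveI hLf : ∀ P : S, IsField (L P) := fun P => by
    haveI : Ring.KrullDimLE 0 (L P) := by
      rw [Ring.krullDimLE_iff, IsLocalization.AtPrime.ringKrullDim_eq_height P.1, Ideal.height_eq_zero_iff.2 P.2]
      rfl
    haveI : IsReduced (L P) := isReduced_localizationPreserves P.1.primeCompl (L P) ‹_›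
    exact Ring.KrullDimLE.isField_of_isReduced
  haveI hred : ∀ P : S, IsReduced (K ⊗[k] L P) := fun P => by
    haveI : Algebra.IsGeometricallyReduced k (L P) := geomReduced_localization P.1.primeCompl
    letI : Field (L P) := (hLf P).toField
    haveI : IsNoetherianRing (K ⊗[k] L P) := by
      haveI : IsNoetherianRing (L P ⊗[k] K) := Algebra.EssFiniteType.isNoetherianRing (L P) _
      exact isNoetherianRing_of_ringEquiv _ (Algebra.TensorProduct.comm k (L P) K).toRingEquiv
    haveI := Groth.Agent.S2615.result k K (L P) (Or.inl ‹_›)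
    exact isReduced_of_regular _
  let φ : F →ₐ[k] (∀ P : S, L P) := AlgHom.pi fun P => IsScalarTower.toAlgHom k F (L P)
  have hφ : Function.Injective φ := (injective_iff_map_eq_zero _).2 fun a ha => by
    refine (nilpotent_iff_mem_prime.2 fun Q hQ => ?_).eq_zero
    obtain ⟨P, hPm, hPQ⟩ := Ideal.exists_minimalPrimes_le (bot_le (a := Q))
    refine hPQ ?_
    haveI := hP ⟨P, hPm⟩
    obtain ⟨s, hs⟩ := (IsLocalization.map_eq_zero_iff P.primeCompl (L ⟨P, hPm⟩) a).1 (congrFun ha ⟨P, hPm⟩)
    exact ((hP ⟨P, hPm⟩).mem_or_mem (hs ▸ P.zero_mem)).resolve_left s.2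
  let ψ := (Algebra.TensorProduct.piRight k K K L).toAlgHom.comp (Algebra.TensorProduct.map (.id K K) φ)
  refine isReduced_of_injective ψ ?_
  exact (Algebra.TensorProduct.piRight k K K L).injective.comp
    (Module.Flat.lTensor_preserves_injective_linearMap (M := K) φ.toLinearMap hφ)

theorem geomReduced_of_geomNormal {k F : Type u} [Field k] [CommRing F] [Algebra k F] (h : EGA4.IsGeomNormal k F) :
    Algebra.IsGeometricallyReduced k F := by
  rw [Algebra.isGeometricallyReduced_field_iff]
  haveI : IsReduced (F ⊗[k] AlgebraicClosure k) := IsReduced.tensorProduct_of_flat_of_forall_fg fun B hB => by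
    haveI : Algebra.FiniteType k B := ⟨(Subalgebra.fg_top B).2 hB⟩
    haveI : Algebra.IsIntegral k B := Algebra.IsIntegral.of_injective B.val Subtype.val_injective
    haveI : Module.Finite k B := Algebra.IsIntegral.finite
    letI : Field B := (isField_of_isIntegral_of_isField' (Field.toIsField k)).toField
    haveI : IsReduced (B ⊗[k] F) := isReduced_ofLocalizationMaximal _ fun m hm => by
      haveI := hm.isPrime
      haveI := (h B inferInstance m).1
      infer_instance
    exact isReduced_of_injective (Algebra.TensorProduct.comm k F B) (AlgEquiv.injective _)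
  exact isReduced_of_injective (Algebra.TensorProduct.comm k (AlgebraicClosure k) F) (AlgEquiv.injective _)

theorem isReduced_of_flat {R S : Type u} [CommRing R] [CommRing S] [Algebra R S] [IsNoetherianRing R] [IsReduced R]
    [Module.Flat R S] (h : ∀ p : Ideal R, p.IsPrime → ∃ (K : Type u) (_ : CommRing K) (_ : Algebra R K),
      RingHom.ker (algebraMap R K) = p ∧ IsReduced (S ⊗[R] K)) : IsReduced S := by
  refine ⟨fun b hb => ?_⟩
  by_contra hne
  obtain ⟨q, hq, hle⟩ := Ideal.exists_le_maximal (Ideal.torsionOf S S b) (by simpa [Ideal.torsionOf_eq_top_iff] using hne)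
  haveI := hq.isPrime
  haveI : IsReduced (Localization.AtPrime (q.comap (algebraMap R S))) :=
    isReduced_localizationPreserves (q.comap (algebraMap R S)).primeCompl _ ‹_›
  obtain ⟨c, hc, hcb⟩ := H6.RedFlat.exists_mul_eq_zero_of_isNilpotent q (Localization.AtPrime (q.comap (algebraMap R S))) h hb
  exact hc (hle hcb)

end Groth.Agent.H2FibreReduced
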