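import Mathlib
import Groth.Prelude.Def_EGA4b
import Groth.Agent.Lib.H2FibreReduced
set_option autoImplicit false

/-! Algebras with geometrically reduced fibres. -/
namespace Groth.Agent.H2GeomRedHom
open TensorProduct
set_option maxHeartbeats 1000000
set_option synthInstance.maxHeartbeats 400000
set_option backward.isDefEq.respectTransparency.types false
universe u

theorem isNoetherianRing_tensor (A C K : Type u) [CommRing A] [CommRing C] [CommRing K] [Algebra A C] [Algebra A K]
    [IsNoetherianRing C] [Algebra.EssFiniteType A K] : IsNoetherianRing (K ⊗[A] C) := by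
  haveI : IsNoetherianRing (C ⊗[A] K) := Algebra.EssFiniteType.isNoetherianRing C _
  exact isNoetherianRing_of_ringEquiv _ (Algebra.TensorProduct.comm A C K).toRingEquiv

/-- `K ⊗_A C` is reduced for every field `K` essentially of finite type over `A`. -/
theorem isReduced_of_fibres {A C : Type u} [CommRing A] [CommRing C] [Algebra A C] [IsNoetherianRing C]
    (h : ∀ (p : Ideal A) [p.IsPrime], Algebra.IsGeometricallyReduced p.ResidueField (p.Fiber C))
    (K : Type u) [Field K] [Algebra A K] [Algebra.EssFiniteType A K] : IsReduced (K ⊗[A] C) := by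
  let p := RingHom.ker (algebraMap A K)
  haveI : p.IsPrime := RingHom.ker_isPrime _
  let φ : p.ResidueField →+* K := Ideal.ResidueField.lift p (algebraMap A K) le_rfl (fun a ha => isUnit_iff_ne_zero.2 ha)
  letI : Algebra p.ResidueField K := φ.toAlgebra
  haveI : IsScalarTower A p.ResidueField K := IsScalarTower.of_algebraMap_eq fun a => (Ideal.ResidueField.lift_algebraMap ..).symm
  haveI : Algebra.EssFiniteType p.ResidueField K := Algebra.EssFiniteType.of_comp A p.ResidueField K
  haveI := isNoetherianRing_tensor A C p.ResidueField
  haveI : IsNoetherianRing (p.Fiber C) := ‹IsNoetherianRing (p.ResidueField ⊗[A] C)›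
  haveI := h p
  haveI := H2FibreReduced.isReduced_tensor (k := p.ResidueField) (F := p.Fiber C) (K := K)
  exact isReduced_of_injective (Algebra.TensorProduct.cancelBaseChange A p.ResidueField K K C).symm (AlgEquiv.injective _)

theorem fibres_of_isReduced {A C : Type u} [CommRing A] [CommRing C] [Algebra A C]
    (h : ∀ (K : Type u) [Field K] [Algebra A K], Algebra.EssFiniteType A K → IsReduced (K ⊗[A] C))
    (p : Ideal A) [p.IsPrime] : Algebra.IsGeometricallyReduced p.ResidueField (p.Fiber C) := by
  rw [Algebra.isGeometricallyReduced_field_iff]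
  let k := p.ResidueField
  let F := p.Fiber C
  haveI : IsReduced (F ⊗[k] AlgebraicClosure k) := IsReduced.tensorProduct_of_flat_of_forall_fg fun B hB => by
    haveI : Algebra.FiniteType k B := ⟨(Subalgebra.fg_top B).2 hB⟩
    haveI : Algebra.IsIntegral k B := Algebra.IsIntegral.of_injective B.val Subtype.val_injective
    haveI : Module.Finite k B := Algebra.IsIntegral.finite
    letI : Field B := (isField_of_isIntegral_of_isField' (Field.toIsField k)).toField
    letI : Algebra A B := ((algebraMap k B).comp (algebraMap A k)).toAlgebra
    haveI : IsScalarTower A k B := IsScalarTower.of_algebraMap_eq' rfl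
    haveI : IsReduced (B ⊗[A] C) := h B (Algebra.EssFiniteType.comp A k B)
    haveI : IsReduced (B ⊗[k] F) := isReduced_of_injective (Algebra.TensorProduct.cancelBaseChange A k B B C) (AlgEquiv.injective _)
    exact isReduced_of_injective (Algebra.TensorProduct.comm k F B) (AlgEquiv.injective _)
  exact isReduced_of_injective (Algebra.TensorProduct.comm k (AlgebraicClosure k) F) (AlgEquiv.injective _)

/-- Composition. -/
theorem isReduced_comp {A B C : Type u} [CommRing A] [CommRing B] [CommRing C] [Algebra A B] [Algebra A C] [Algebra B C]
    [IsScalarTower A B C] [IsNoetherianRing B] [Module.Flat B C]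
    (hBC : ∀ (K : Type u) [Field K] [Algebra B K], Algebra.EssFiniteType B K → IsReduced (K ⊗[B] C))
    (K : Type u) [Field K] [Algebra A K] [Algebra.EssFiniteType A K] [IsReduced (K ⊗[A] B)] : IsReduced (K ⊗[A] C) := by
  let R := B ⊗[A] K
  haveI : IsReduced R := isReduced_of_injective (Algebra.TensorProduct.comm A B K) (AlgEquiv.injective _)
  haveI : IsNoetherianRing R := Algebra.EssFiniteType.isNoetherianRing B _
  let e : C ⊗[B] R ≃ₐ[B] C ⊗[A] K := (Algebra.TensorProduct.cancelBaseChange A B B C K)
  haveI : IsReduced (R ⊗[B] C) := H2FibreReduced.isReduced_of_flat (R := R) fun P hP => by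
    haveI := hP
    refine ⟨P.ResidueField, inferInstance, inferInstance, Ideal.ker_algebraMap_residueField P, ?_⟩
    haveI : Algebra.EssFiniteType B P.ResidueField := Algebra.EssFiniteType.comp B R _
    haveI := hBC P.ResidueField inferInstance
    haveI : IsReduced (P.ResidueField ⊗[R] (R ⊗[B] C)) :=
      isReduced_of_injective (Algebra.TensorProduct.cancelBaseChange B R P.ResidueField P.ResidueField C) (AlgEquiv.injective _)
    exact isReduced_of_injective (Algebra.TensorProduct.comm R (R ⊗[B] C) P.ResidueField) (AlgEquiv.injective _)
  haveI : IsReduced (C ⊗[B] R) := isReduced_of_injective (Algebra.TensorProduct.comm B C R) (AlgEquiv.injective _)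
  haveI : IsReduced (C ⊗[A] K) := isReduced_of_injective e.symm e.symm.injective
  exact isReduced_of_injective (Algebra.TensorProduct.comm A K C) (AlgEquiv.injective _)

/-- Descent along faithfully flat maps. -/
theorem isReduced_descend {A B C : Type u} [CommRing A] [CommRing B] [CommRing C] [Algebra A B] [Algebra A C] [Algebra B C]
    [IsScalarTower A B C] [Module.FaithfullyFlat B C] (K : Type u) [CommRing K] [Algebra A K] [IsReduced (K ⊗[A] C)] :
    IsReduced (K ⊗[A] B) := by
  let R := B ⊗[A] K
  haveI : IsReduced (C ⊗[A] K) := isReduced_of_injective (Algebra.TensorProduct.comm A C K) (AlgEquiv.injective _)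
  haveI : IsReduced (C ⊗[B] R) :=
    isReduced_of_injective (Algebra.TensorProduct.cancelBaseChange A B B C K) (AlgEquiv.injective _)
  haveI : IsReduced R := isReduced_of_injective (Algebra.TensorProduct.includeRight : R →ₐ[B] C ⊗[B] R)
    (Module.FaithfullyFlat.tensorProduct_mk_injective (A := B) (B := C) R)
  exact isReduced_of_injective (Algebra.TensorProduct.comm A K B) (AlgEquiv.injective _)

theorem reduced_iff (A B K C : Type u) [CommRing A] [CommRing B] [IsDomain B] [Field K] [CommRing C] [Algebra A B] [Algebra A K]
    [Algebra B K] [IsScalarTower A B K] [IsFractionRing B K] [Algebra A C] :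
    IsReduced (K ⊗[A] C) ↔ ∀ (q : Ideal (B ⊗[A] C)) [q.IsPrime], q.comap (algebraMap B (B ⊗[A] C)) = ⊥ →
      IsReduced (Localization.AtPrime q) := by
  classical
  let R := B ⊗[A] C
  let T := K ⊗[A] C
  let f : R →ₐ[A] T := Algebra.TensorProduct.map (IsScalarTower.toAlgHom A B K) (.id A C)
  letI : Algebra R T := f.toRingHom.toAlgebra
  let M := Algebra.algebraMapSubmonoid R (nonZeroDivisors B)
  haveI : IsLocalization M T := by
    letI := Algebra.TensorProduct.rightAlgebra (R := B) (A := K) (B := R)
    haveI hloc : IsLocalization M (K ⊗[B] R) := isLocalizedModule_iff_isLocalization.1 inferInstance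
    let e : K ⊗[B] R ≃ₐ[R] T := AlgEquiv.ofRingEquiv
      (f := (Algebra.TensorProduct.cancelBaseChange A B K K C).toRingEquiv) (fun x => by
        induction x using TensorProduct.induction_on with
        | zero => simp
        | add x y hx hy => simp only [map_add, hx, hy]
        | tmul b c =>
          show Algebra.TensorProduct.cancelBaseChange A B K K C ((1 : K) ⊗ₜ[B] (b ⊗ₜ[A] c)) = f (b ⊗ₜ[A] c)
          rw [Algebra.TensorProduct.cancelBaseChange_tmul]
          simp [f, Algebra.smul_def]; rfl)
    exact IsLocalization.isLocalization_of_algEquiv M e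
  have key : ∀ (Q : Ideal T) [Q.IsPrime],
      IsReduced (Localization.AtPrime Q) ↔ IsReduced (Localization.AtPrime (Q.comap (algebraMap R T))) := by
    intro Q _
    haveI : IsLocalization.AtPrime (Localization.AtPrime Q) (Q.comap (algebraMap R T)) :=
      IsLocalization.isLocalization_isLocalization_atPrime_isLocalization M _ Q
    let e := (IsLocalization.algEquiv (Q.comap (algebraMap R T)).primeCompl (Localization.AtPrime Q)
      (Localization.AtPrime (Q.comap (algebraMap R T)))).toRingEquiv
    exact ⟨fun h => isReduced_of_injective e.symm e.symm.injective, fun h => isReduced_of_injective e e.injective⟩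
  constructor
  · intro h q _ hq
    have disj : Disjoint (M : Set R) (q : Set R) := Set.disjoint_left.2 fun x hx hxq => by
      obtain ⟨b, hb, rfl⟩ := hx
      have h2 : b ∈ (⊥ : Ideal B) := hq ▸ hxq
      exact nonZeroDivisors.ne_zero hb (Ideal.mem_bot.1 h2)
    haveI := IsLocalization.isPrime_of_isPrime_disjoint M T q ‹_› disj
    haveI h1 := (key (q.map (algebraMap R T))).1 (isReduced_localizationPreserves (q.map (algebraMap R T)).primeCompl _ h)
    have hqq : (q.map (algebraMap R T)).comap (algebraMap R T) = q := IsLocalization.under_map_of_isPrime_disjoint M T ‹_› disj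
    haveI : IsLocalization.AtPrime (Localization.AtPrime ((q.map (algebraMap R T)).comap (algebraMap R T))) q := by
      show IsLocalization q.primeCompl _
      rw [show q.primeCompl = ((q.map (algebraMap R T)).comap (algebraMap R T)).primeCompl from
        Submonoid.ext fun x => not_congr (SetLike.ext_iff.1 hqq x).symm]
      infer_instance
    exact isReduced_of_injective (IsLocalization.algEquiv q.primeCompl
      (Localization.AtPrime q) (Localization.AtPrime ((q.map (algebraMap R T)).comap (algebraMap R T)))) (AlgEquiv.injective _)
  · intro h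
    refine isReduced_ofLocalizationMaximal T fun Q hQ => ?_
    haveI := hQ.isPrime
    refine (key Q).2 (h _ ?_)
    refine (Submodule.eq_bot_iff _).2 fun b hb => ?_
    by_contra hne
    exact hQ.ne_top (Q.eq_top_of_isUnit_mem hb
      (IsLocalization.map_units T (⟨_, b, mem_nonZeroDivisors_of_ne_zero hne, rfl⟩ : M)))

end Groth.Agent.H2GeomRedHom
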