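import Mathlib
import Groth.Prelude.Def_CAlg
import Groth.Agent.Lib.H2Depth
import Groth.Agent.Lib.H2RegNormal

/-! Descent of depth and of Serre's condition along faithfully flat maps. -/

universe u

open RingTheory.Sequence Pointwise

namespace Groth.Agent.H2SkDescent

theorem depth_le_of_flat {A B : Type u} [CommRing A] [CommRing B] [IsLocalRing A] [IsLocalRing B] [IsNoetherianRing A]
    [IsNoetherianRing B] [Algebra A B] [Module.FaithfullyFlat A B]
    (hloc : (IsLocalRing.maximalIdeal A).map (algebraMap A B) ≤ IsLocalRing.maximalIdeal B)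
    (hrad : IsLocalRing.maximalIdeal B ≤ ((IsLocalRing.maximalIdeal A).map (algebraMap A B)).radical) :
    LocCoh.depth B B ≤ LocCoh.depth A A := by
  set m := IsLocalRing.maximalIdeal A
  set n := IsLocalRing.maximalIdeal B
  have hm : m • (⊤ : Submodule A A) ≠ ⊤ := by simpa using Ideal.IsPrime.ne_top (I := m) inferInstance
  have hn : n • (⊤ : Submodule B B) ≠ ⊤ := by simpa using Ideal.IsPrime.ne_top (I := n) inferInstance
  obtain ⟨rs, hrs, hmem, hno, hlen⟩ := H2Depth.exists_idealDepth_eq (M := A) hm
  rw [LocCoh.depth, LocCoh.depth, hlen]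
  refine le_of_eq ?_
  have hmem' : ∀ r ∈ rs.map (algebraMap A B), r ∈ n := fun r hr => by
    obtain ⟨a, ha, rfl⟩ := List.mem_map.1 hr
    exact hloc (Ideal.mem_map_of_mem _ (hmem a ha))
  have hrs' : IsWeaklyRegular B (rs.map (algebraMap A B)) := hrs.of_flat
  rw [H2Depth.idealDepth_eq_length hn hrs' hmem' ?_, List.length_map]
  obtain ⟨u, hu, hkill⟩ := H2Depth.exists_killed_of_noReg hno
  obtain ⟨u, rfl⟩ := Submodule.Quotient.mk_surjective _ u
  rw [Ne, Submodule.Quotient.mk_eq_zero, smul_eq_mul, Ideal.mul_top] at hu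
  intro r hr hreg
  obtain ⟨N, hN⟩ := hrad hr
  have h1 : r ^ N • (Submodule.Quotient.mk (algebraMap A B u) :
      B ⧸ (Ideal.ofList (rs.map (algebraMap A B)) • ⊤ : Submodule B B)) = 0 := by
    rw [← Submodule.Quotient.mk_smul, Submodule.Quotient.mk_eq_zero, smul_eq_mul, smul_eq_mul, Ideal.mul_top, ← Ideal.map_ofList]
    have key : m.map (algebraMap A B) ≤ Submodule.colon ((Ideal.ofList rs).map (algebraMap A B)) ({algebraMap A B u} : Set B) := by
      rw [Ideal.map_le_iff_le_comap]
      intro a ha
      rw [Ideal.mem_comap, Submodule.mem_colon_singleton, smul_eq_mul, ← map_mul]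
      refine Ideal.mem_map_of_mem _ ?_
      have := hkill a ha
      rwa [← Submodule.Quotient.mk_smul, Submodule.Quotient.mk_eq_zero, smul_eq_mul, smul_eq_mul, Ideal.mul_top] at this
    exact Submodule.mem_colon_singleton.1 (key hN)
  have h2 := (hreg.pow N) (h1.trans (smul_zero (r ^ N)).symm)
  rw [Submodule.Quotient.mk_eq_zero, smul_eq_mul, Ideal.mul_top, ← Ideal.map_ofList, ← Ideal.mem_comap,
    Ideal.comap_map_eq_self_of_faithfullyFlat] at h2
  exact hu h2

theorem idealDepth_congr {R : Type u} [CommRing R] {M M' : Type u} [AddCommGroup M] [Module R M] [AddCommGroup M'] [Module R M']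
    (e : M ≃ₗ[R] M') (I : Ideal R) : LocCoh.idealDepth I M = LocCoh.idealDepth I M' := by
  have h : I • (⊤ : Submodule R M) = ⊤ ↔ I • (⊤ : Submodule R M') = ⊤ := by
    constructor <;> intro h
    · have := congrArg (Submodule.map e.toLinearMap) h
      rwa [Submodule.map_smul'', Submodule.map_top, LinearMap.range_eq_top.2 e.surjective] at this
    · have := congrArg (Submodule.map e.symm.toLinearMap) h
      rwa [Submodule.map_smul'', Submodule.map_top, LinearMap.range_eq_top.2 e.symm.surjective] at this
  rw [LocCoh.idealDepth, LocCoh.idealDepth]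
  by_cases hc : I • (⊤ : Submodule R M) = ⊤
  · rw [if_pos hc, if_pos (h.1 hc)]
  · rw [if_neg hc, if_neg (mt h.2 hc)]
    simp only [e.isWeaklyRegular_congr]

noncomputable def selfEquiv {R : Type u} [CommRing R] (p : Ideal R) [p.IsPrime] :
    LocalizedModule p.primeCompl R ≃ₗ[Localization.AtPrime p] Localization.AtPrime p :=
  (LocalizedModule.equivTensorProduct p.primeCompl R).trans (TensorProduct.AlgebraTensorModule.rid R _ _)

theorem skAt_iff {R : Type u} [CommRing R] (k : ℕ) (p : Ideal R) [p.IsPrime] :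
    (min (k : WithBot ℕ∞) (Module.supportDim (Localization.AtPrime p) (LocalizedModule p.primeCompl R)) ≤
      ((LocCoh.depth (Localization.AtPrime p) (LocalizedModule p.primeCompl R) : ℕ∞) : WithBot ℕ∞)) ↔
    min (k : WithBot ℕ∞) (p.height : WithBot ℕ∞) ≤
      ((LocCoh.depth (Localization.AtPrime p) (Localization.AtPrime p) : ℕ∞) : WithBot ℕ∞) := by
  rw [Module.supportDim_eq_of_equiv (selfEquiv p), Module.supportDim_self_eq_ringKrullDim,
    IsLocalization.AtPrime.ringKrullDim_eq_height p]

theorem depth_localization_le {R S : Type u} [CommRing R] [CommRing S] [Algebra R S] [Module.Flat R S] [IsNoetherianRing R]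
    [IsNoetherianRing S] (p : Ideal R) [p.IsPrime] (q : Ideal S) [q.IsPrime] [q.LiesOver p]
    (hq : q ∈ (p.map (algebraMap R S)).minimalPrimes) :
    LocCoh.depth (Localization.AtPrime q) (Localization.AtPrime q) ≤
      LocCoh.depth (Localization.AtPrime p) (Localization.AtPrime p) := by
  letI := Localization.AtPrime.algebraOfLiesOver p q
  haveI : Module.Flat R (Localization.AtPrime q) := Module.Flat.trans R S _
  haveI : Module.Flat (Localization.AtPrime p) (Localization.AtPrime q) :=
    (Module.flat_iff_of_isLocalization (Localization.AtPrime p) p.primeCompl _).2 inferInstance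
  have hmap : (IsLocalRing.maximalIdeal (Localization.AtPrime p)).map (algebraMap (Localization.AtPrime p) (Localization.AtPrime q)) =
      (p.map (algebraMap R S)).map (algebraMap S (Localization.AtPrime q)) := by
    rw [← IsLocalization.AtPrime.map_eq_maximalIdeal p, Ideal.map_map, Ideal.map_map,
      ← IsScalarTower.algebraMap_eq, ← IsScalarTower.algebraMap_eq]
  have hle : (p.map (algebraMap R S)).map (algebraMap S (Localization.AtPrime q)) ≤ IsLocalRing.maximalIdeal (Localization.AtPrime q) := by
    rw [← IsLocalization.AtPrime.map_eq_maximalIdeal q]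
    exact Ideal.map_mono hq.1.2
  haveI : IsLocalHom (algebraMap (Localization.AtPrime p) (Localization.AtPrime q)) :=
    ((IsLocalRing.local_hom_TFAE _).out 2 0).1 (hmap ▸ hle)
  haveI : Module.FaithfullyFlat (Localization.AtPrime p) (Localization.AtPrime q) := Module.FaithfullyFlat.of_flat_of_isLocalHom
  refine depth_le_of_flat (hmap ▸ hle) ?_
  rw [hmap, Ideal.radical_eq_sInf]
  refine le_sInf fun Q hQ => ?_
  obtain ⟨hQle, hQp⟩ := hQ
  haveI := hQp
  obtain ⟨hP, hdis⟩ := (IsLocalization.isPrime_iff_isPrime_disjoint q.primeCompl (Localization.AtPrime q) Q).1 hQp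
  have hqQ : q ≤ Q.comap (algebraMap S (Localization.AtPrime q)) :=
    hq.2 ⟨hP, (Ideal.map_le_iff_le_comap.1 hQle)⟩ (fun x hx => by_contra fun hxq => Set.disjoint_left.1 hdis hxq hx)
  rw [← IsLocalization.AtPrime.map_eq_maximalIdeal q]
  exact Ideal.map_le_iff_le_comap.2 hqQ

theorem hasSk_descent {R S : Type u} [CommRing R] [CommRing S] [Algebra R S] [Module.FaithfullyFlat R S] [IsNoetherianRing S]
    (k : ℕ) (hS : LocCoh.HasSk k S S) : IsNoetherianRing R ∧ LocCoh.HasSk k R R := by
  haveI hR : IsNoetherianRing R := H2RegNormal.isNoetherian_descent (S := S)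
  refine ⟨hR, fun p _ => (skAt_iff k p).2 ?_⟩
  obtain ⟨q, _, _, hq, hh⟩ := H2RegNormal.exists_prime_over (S := S) p
  refine le_trans ?_ (WithBot.coe_le_coe.2 (depth_localization_le p q hq))
  rw [← hh]
  exact (skAt_iff k q).1 (hS q)

end Groth.Agent.H2SkDescent
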