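import Mathlib
import Groth.Prelude.Def_EGA4b
import Groth.Prelude.Def_CAlg
import Groth.Agent.Lib.H2FibreDepth
import Groth.Agent.Lib.H2GeomRegMore
import Groth.Agent.Lib.H2SkDescent
set_option autoImplicit false

/-! Regularity, depth and Serre conditions ascend along flat maps with good fibres. -/
namespace Groth.Agent.H2FlatAscent
open IsLocalRing RingTheory.Sequence
set_option maxHeartbeats 1000000
set_option synthInstance.maxHeartbeats 400000
set_option backward.isDefEq.respectTransparency.types false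
universe u

section Local
variable {A B : Type u} [CommRing A] [CommRing B] [IsLocalRing A] [IsLocalRing B] [IsNoetherianRing A] [IsNoetherianRing B]
  [Algebra A B] [IsLocalHom (algebraMap A B)] [Module.Flat A B]

omit [IsNoetherianRing A] [IsNoetherianRing B] [Module.Flat A B] in
theorem map_le : ((maximalIdeal A).map (algebraMap A B)) ≤ maximalIdeal B :=
  ((IsLocalRing.local_hom_TFAE (algebraMap A B)).out 0 2).1 ‹IsLocalHom (algebraMap A B)›

omit [IsNoetherianRing A] [IsNoetherianRing B] [Module.Flat A B] in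
theorem nontrivial_fibre : Nontrivial (B ⧸ ((maximalIdeal A).map (algebraMap A B))) :=
  Ideal.Quotient.nontrivial_iff.2 (ne_top_of_le_ne_top (maximalIdeal.isMaximal B).ne_top map_le)

theorem dim_eq : ringKrullDim B = ringKrullDim A + ringKrullDim (B ⧸ ((maximalIdeal A).map (algebraMap A B))) := by
  haveI := nontrivial_fibre (A := A) (B := B)
  haveI : IsLocalRing (B ⧸ ((maximalIdeal A).map (algebraMap A B))) := IsLocalRing.of_surjective' (Ideal.Quotient.mk ((maximalIdeal A).map (algebraMap A B))) Ideal.Quotient.mk_surjective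
  haveI : (maximalIdeal B).LiesOver (maximalIdeal A) :=
    ⟨Ideal.ext fun a => ⟨fun ha => (mem_maximalIdeal _).2 fun hu => (mem_maximalIdeal a).1 ha (isUnit_of_map_unit (algebraMap A B) a hu),
      fun ha => (mem_maximalIdeal a).2 fun hu => (mem_maximalIdeal _).1 ha (hu.map _)⟩⟩
  have hdim := Ideal.height_eq_height_add_of_liesOver_of_hasGoingDown (maximalIdeal A) (maximalIdeal B)
  rw [IsLocalRing.map_maximalIdeal_of_surjective _ Ideal.Quotient.mk_surjective] at hdim
  simp only [← IsLocalRing.maximalIdeal_height_eq_ringKrullDim, hdim, WithBot.coe_add]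

/-- Regular sequences of the fibre and of the base combine. -/
theorem hasReg_add {i j : ℕ} (hA : H2Depth.HasReg (maximalIdeal A) A i)
    (hF : ∃ ss : List B, ss.length = j ∧ (∀ r ∈ ss, r ∈ maximalIdeal B) ∧
      IsWeaklyRegular (B ⧸ ((maximalIdeal A).map (algebraMap A B))) (ss.map (Ideal.Quotient.mk ((maximalIdeal A).map (algebraMap A B))))) :
    H2Depth.HasReg (maximalIdeal B) B (i + j) := by
  obtain ⟨rs, rfl, hrs, hrsm⟩ := hA
  obtain ⟨ss, rfl, hssm, hss⟩ := hF
  have key : ∀ n, n ≤ ss.length → Module.Flat A (B ⧸ Ideal.ofList (ss.take n)) ∧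
      ∀ j (hj : j < n) (hj' : j < ss.length) (y : B),
        ss[j] * y ∈ Ideal.ofList (ss.take j) → y ∈ Ideal.ofList (ss.take j) := by
    intro n
    induction n with
    | zero =>
      refine fun _ => ⟨?_, fun j hj => absurd hj (Nat.not_lt_zero j)⟩
      rw [List.take_zero, Ideal.ofList_nil]
      exact Module.Flat.of_linearEquiv (AlgEquiv.quotientBot A B).toLinearEquiv
    | succ n ih =>
      intro hn
      obtain ⟨hflat, hreg⟩ := ih (by omega)
      let K := Ideal.ofList (ss.take n)
      haveI : Nontrivial (B ⧸ K) := Ideal.Quotient.nontrivial_iff.2 (ne_top_of_le_ne_top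
        (IsLocalRing.maximalIdeal.isMaximal B).ne_top (Ideal.span_le.2 fun r hr => hssm r (List.take_subset n ss hr)))
      haveI : IsLocalRing (B ⧸ K) := IsLocalRing.of_surjective' (Ideal.Quotient.mk K) Ideal.Quotient.mk_surjective
      haveI : IsLocalHom (algebraMap A (B ⧸ K)) := by
        haveI : IsLocalHom (Ideal.Quotient.mk K) :=
          IsLocalHom.of_surjective _ Ideal.Quotient.mk_surjective
        rw [IsScalarTower.algebraMap_eq A B (B ⧸ K)]
        exact RingHom.isLocalHom_comp (Ideal.Quotient.mk K) (algebraMap A B)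
      haveI : Module.Flat A (B ⧸ K) := hflat
      have hmem : ∀ y, Ideal.Quotient.mk K y ∈ (maximalIdeal A).map (algebraMap A (B ⧸ K)) ↔ y ∈ K ⊔ ((maximalIdeal A).map (algebraMap A B)) := by
        intro y
        rw [IsScalarTower.algebraMap_eq A B (B ⧸ K), ← Ideal.map_map]
        exact (Ideal.mem_quotient_iff_mem_sup (I := K) (J := ((maximalIdeal A).map (algebraMap A B)))).trans (by rw [sup_comm])
      have hn' : n < (ss.map (Ideal.Quotient.mk ((maximalIdeal A).map (algebraMap A B)))).length := by simpa using (show n < ss.length by omega)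
      have hr := H2FibreDepth.mul_mem_iff_of_isSMulRegular.1 (isWeaklyRegular_iff_Fin (B ⧸ ((maximalIdeal A).map (algebraMap A B))) _ |>.1 hss ⟨n, hn'⟩)
      obtain ⟨hfl, hrg⟩ := H2FibreDepth.flat_quotient_span (R := A) (Ideal.Quotient.mk K ss[n]) (fun z hz => by
        obtain ⟨y, rfl⟩ := Ideal.Quotient.mk_surjective z
        rw [← map_mul, hmem] at hz
        rw [hmem]
        have hmapK : Ideal.ofList ((ss.map (Ideal.Quotient.mk ((maximalIdeal A).map (algebraMap A B)))).take n) = K.map (Ideal.Quotient.mk ((maximalIdeal A).map (algebraMap A B))) := by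
          rw [Ideal.map_ofList, List.map_take]
        have h1 := hr (Ideal.Quotient.mk ((maximalIdeal A).map (algebraMap A B)) y) (by
          simp only [Fin.getElem_fin, List.getElem_map]
          rw [← map_mul, hmapK]
          exact Ideal.mem_quotient_iff_mem_sup.2 hz)
        simp only at h1
        rw [hmapK] at h1
        exact Ideal.mem_quotient_iff_mem_sup.1 h1)
      refine ⟨?_, fun j hj hj' y hy => ?_⟩
      · have e0 : Ideal.ofList (ss.take (n + 1)) = K ⊔ Ideal.span {ss[n]} := by
          rw [List.take_add_one, Ideal.ofList_append, List.getElem?_eq_getElem (by omega), Option.toList_some,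
            Ideal.ofList_singleton]
        have e1 : (Ideal.span {ss[n]}).map (Ideal.Quotient.mkₐ A K) = Ideal.span {Ideal.Quotient.mk K ss[n]} := by
          rw [Ideal.map_span, Set.image_singleton]; rfl
        haveI : Module.Flat A ((B ⧸ K) ⧸ (Ideal.span {ss[n]}).map (Ideal.Quotient.mkₐ A K)) := e1 ▸ hfl
        rw [e0]
        exact Module.Flat.of_linearEquiv (DoubleQuot.quotQuotEquivQuotSupₐ A K (Ideal.span {ss[n]})).toLinearEquiv.symm
      · rcases Nat.lt_succ_iff_lt_or_eq.1 hj with hj | rfl
        · exact hreg j hj hj' y hy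
        · refine Ideal.Quotient.eq_zero_iff_mem.1 (hrg.right_eq_zero_of_smul ?_)
          rw [smul_eq_mul, ← map_mul]
          exact Ideal.Quotient.eq_zero_iff_mem.2 hy
  let Q := B ⧸ Ideal.ofList ss
  haveI : Module.Flat A Q := by
    have h0 := (key ss.length le_rfl).1
    rw [List.take_length] at h0
    exact h0
  refine ⟨ss ++ rs.map (algebraMap A B), by simp [add_comm], ?_, fun r hr => ?_⟩
  · refine (isWeaklyRegular_append_iff B _ _).2 ⟨?_, ?_⟩
    · rw [isWeaklyRegular_iff_Fin]
      intro i
      exact H2FibreDepth.mul_mem_iff_of_isSMulRegular.2 ((key ss.length le_rfl).2 i i.2 i.2)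
    · have h1 : IsWeaklyRegular Q (rs.map (algebraMap A Q)) := hrs.of_flat
      rw [isWeaklyRegular_map_algebraMap_iff] at h1
      have h2 : IsWeaklyRegular (B ⧸ (Ideal.ofList ss • ⊤ : Submodule B B)) rs :=
        ((Submodule.quotEquivOfEq (Ideal.ofList ss • ⊤ : Submodule B B) (Ideal.ofList ss)
          (by rw [Ideal.smul_eq_mul, Ideal.mul_top])).restrictScalars A |>.isWeaklyRegular_congr rs).2 h1
      exact (isWeaklyRegular_map_algebraMap_iff B _ rs).2 h2
  · rcases List.mem_append.1 hr with hr | hr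
    · exact hssm r hr
    · obtain ⟨a, ha, rfl⟩ := List.mem_map.1 hr
      exact map_le (Ideal.mem_map_of_mem _ (hrsm a ha))

theorem depth_add_le {i j : ℕ} (hA : (i : ℕ∞) ≤ LocCoh.depth A A) [IsLocalRing (B ⧸ ((maximalIdeal A).map (algebraMap A B)))]
    (hF : (j : ℕ∞) ≤ LocCoh.depth (B ⧸ ((maximalIdeal A).map (algebraMap A B))) (B ⧸ ((maximalIdeal A).map (algebraMap A B)))) : ((i + j : ℕ) : ℕ∞) ≤ LocCoh.depth B B := by
  have hne : ∀ (R : Type u) [CommRing R] [IsLocalRing R], maximalIdeal R • (⊤ : Submodule R R) ≠ ⊤ := fun R _ _ => by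
    rw [Ideal.smul_eq_mul, Ideal.mul_top]
    exact (maximalIdeal.isMaximal R).ne_top
  refine H2Depth.le_idealDepth (hasReg_add ((H2Depth.hasReg_iff_le_idealDepth (hne A)).2 hA) ?_)
  obtain ⟨ts, hl, hts, htsm⟩ := (H2Depth.hasReg_iff_le_idealDepth (hne (B ⧸ ((maximalIdeal A).map (algebraMap A B))))).2 hF
  refine ⟨ts.map (Function.surjInv Ideal.Quotient.mk_surjective), by simp [hl], fun r hr => ?_, ?_⟩
  · obtain ⟨z, hz, rfl⟩ := List.mem_map.1 hr
    by_contra hu
    rw [mem_maximalIdeal, mem_nonunits_iff, not_not] at hu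
    refine (mem_maximalIdeal z).1 (htsm z hz) ?_
    simpa [Function.surjInv_eq Ideal.Quotient.mk_surjective] using hu.map (Ideal.Quotient.mk ((maximalIdeal A).map (algebraMap A B)))
  · rw [List.map_map]
    simpa [Function.comp_def, Function.surjInv_eq Ideal.Quotient.mk_surjective] using hts

/-- The inequality defining `(S_k)` at a point ascends. -/
theorem sk_local (k : ℕ) [IsLocalRing (B ⧸ ((maximalIdeal A).map (algebraMap A B)))]
    (hA : min (k : WithBot ℕ∞) (ringKrullDim A) ≤ ((LocCoh.depth A A : ℕ∞) : WithBot ℕ∞))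
    (hF : min (k : WithBot ℕ∞) (ringKrullDim (B ⧸ ((maximalIdeal A).map (algebraMap A B)))) ≤ ((LocCoh.depth (B ⧸ ((maximalIdeal A).map (algebraMap A B))) (B ⧸ ((maximalIdeal A).map (algebraMap A B))) : ℕ∞) : WithBot ℕ∞)) :
    min (k : WithBot ℕ∞) (ringKrullDim B) ≤ ((LocCoh.depth B B : ℕ∞) : WithBot ℕ∞) := by
  have hd : ∀ (R : Type u) [CommRing R] [IsLocalRing R] [IsNoetherianRing R], ∃ d : ℕ, ringKrullDim R = d := by
    intro R _ _ _
    have h1 := ringKrullDim_ne_bot (R := R)
    have h2 := ringKrullDim_ne_top (R := R)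
    cases hx : ringKrullDim R with
    | bot => exact absurd hx h1
    | coe x => cases x using ENat.recTopCoe with
      | top => exact absurd hx h2
      | coe n => exact ⟨n, rfl⟩
  obtain ⟨a, ha⟩ := hd A
  obtain ⟨f, hf⟩ := hd (B ⧸ ((maximalIdeal A).map (algebraMap A B)))
  have h1 : ((min k a : ℕ) : ℕ∞) ≤ LocCoh.depth A A := WithBot.coe_le_coe.1 (le_trans (le_of_eq (by rw [ha]; exact_mod_cast rfl)) hA)
  have h2 : ((min k f : ℕ) : ℕ∞) ≤ LocCoh.depth (B ⧸ ((maximalIdeal A).map (algebraMap A B))) (B ⧸ ((maximalIdeal A).map (algebraMap A B))) :=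
    WithBot.coe_le_coe.1 (le_trans (le_of_eq (by rw [hf]; exact_mod_cast rfl)) hF)
  refine le_trans ?_ (WithBot.coe_le_coe.2 (depth_add_le h1 h2))
  rw [dim_eq (A := A), ha, hf, ← Nat.cast_add]
  show min ((k : ℕ) : WithBot ℕ∞) ((a + f : ℕ) : WithBot ℕ∞) ≤ (((min k a + min k f : ℕ) : ℕ∞) : WithBot ℕ∞)
  rcases le_total k (a + f) with h | h
  · exact (min_le_left _ _).trans (Nat.cast_le.2 (by omega : k ≤ min k a + min k f))
  · exact (min_le_right _ _).trans (Nat.cast_le.2 (by omega : a + f ≤ min k a + min k f))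

end Local

section Point
variable {A B : Type u} [CommRing A] [CommRing B] [IsNoetherianRing A] [IsNoetherianRing B] [Algebra A B] [Module.Flat A B]

theorem point (q : Ideal B) [q.IsPrime] :
    ((q.height : ℕ∞) : WithBot ℕ∞) = (((q.comap (algebraMap A B)).height : ℕ∞) : WithBot ℕ∞) + ringKrullDim (EGA4.FibLocRing A B q) ∧
    (IsRegularLocalRing (Localization.AtPrime (q.comap (algebraMap A B))) → IsRegularLocalRing (EGA4.FibLocRing A B q) →
      IsRegularLocalRing (Localization.AtPrime q)) ∧
    IsLocalRing (EGA4.FibLocRing A B q) ∧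
    ∀ (k : ℕ) [IsLocalRing (EGA4.FibLocRing A B q)],
      min (k : WithBot ℕ∞) (ringKrullDim (Localization.AtPrime (q.comap (algebraMap A B)))) ≤
        ((LocCoh.depth (Localization.AtPrime (q.comap (algebraMap A B))) (Localization.AtPrime (q.comap (algebraMap A B))) : ℕ∞) : WithBot ℕ∞) →
      min (k : WithBot ℕ∞) (ringKrullDim (EGA4.FibLocRing A B q)) ≤
        ((LocCoh.depth (EGA4.FibLocRing A B q) (EGA4.FibLocRing A B q) : ℕ∞) : WithBot ℕ∞) →
      min (k : WithBot ℕ∞) (ringKrullDim (Localization.AtPrime q)) ≤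
        ((LocCoh.depth (Localization.AtPrime q) (Localization.AtPrime q) : ℕ∞) : WithBot ℕ∞) := by
  let p := q.comap (algebraMap A B)
  haveI : q.LiesOver p := ⟨rfl⟩
  letI := Localization.AtPrime.algebraOfLiesOver p q
  let A' := Localization.AtPrime p
  let B' := Localization.AtPrime q
  haveI : IsNoetherianRing A' := IsLocalization.isNoetherianRing p.primeCompl _ inferInstance
  haveI : IsNoetherianRing B' := IsLocalization.isNoetherianRing q.primeCompl _ inferInstance
  haveI : Module.Flat A B' := Module.Flat.trans A B _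
  haveI : Module.Flat A' B' := (Module.flat_iff_of_isLocalization A' p.primeCompl _).2 inferInstance
  haveI : IsLocalHom (algebraMap A' B') := Localization.isLocalHom_localRingHom p q (algebraMap A B) (q.over_def p)
  have hI : (maximalIdeal A').map (algebraMap A' B') = p.map (algebraMap A B') := by
    rw [← IsLocalization.AtPrime.map_eq_maximalIdeal p A', Ideal.map_map, ← IsScalarTower.algebraMap_eq]
  haveI := nontrivial_fibre (A := A') (B := B')
  haveI hl : IsLocalRing (B' ⧸ (maximalIdeal A').map (algebraMap A' B')) :=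
    IsLocalRing.of_surjective' (Ideal.Quotient.mk _) Ideal.Quotient.mk_surjective
  have hdim := dim_eq (A := A') (B := B')
  have hreg := fun (h₁ : IsRegularLocalRing A') (h₂ : IsRegularLocalRing (B' ⧸ p.map (algebraMap A B'))) =>
    @H2GeomRegMore.isRegularLocalRing_of_flat A' B' _ _ h₁ _ _ _ _ _
      (@IsRegularLocalRing.of_ringEquiv _ _ h₂ _ _ (Ideal.quotEquivOfEq hI.symm))
  have hsk := fun k => @sk_local A' B' _ _ _ _ _ _ _ _ _ k hl
  rw [IsLocalization.AtPrime.ringKrullDim_eq_height q B', IsLocalization.AtPrime.ringKrullDim_eq_height p A'] at hdim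
  revert hdim hsk hl
  rw [hI]
  intro hl hdim hsk
  exact ⟨hdim, hreg, hl, fun k _ h1 h2 => hsk k h1 h2⟩

end Point

end Groth.Agent.H2FlatAscent
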