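import Mathlib
import Groth.Prelude
import Groth.Agent.Lib.H2Depth
set_option autoImplicit false
set_option backward.isDefEq.respectTransparency.types false

/-! Serre's condition `(S_k)` for a ring gives regular sequences in the localisations. -/
namespace Groth.Agent.H2SkRing
open RingTheory.Sequence
universe u

/-- `(S_k)` at `p`: weakly regular sequences of length `min k (height p)` in `pR_p`. -/
theorem hasReg {R : Type u} [CommRing R] [IsNoetherianRing R] {k : ℕ} (hS : LocCoh.HasSk k R R) (p : Ideal R) [p.IsPrime]
    {j : ℕ} (hjk : j ≤ k) (hj : (j : ℕ∞) ≤ p.height) :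
    H2Depth.HasReg (IsLocalRing.maximalIdeal (Localization.AtPrime p)) (Localization.AtPrime p) j := by
  let A := Localization.AtPrime p
  let e : LocalizedModule p.primeCompl R ≃ₗ[A] A :=
    (IsLocalizedModule.iso p.primeCompl (Algebra.linearMap R A)).extendScalarsOfIsLocalization p.primeCompl A
  haveI : Module.Finite A (LocalizedModule p.primeCompl R) := Module.Finite.equiv e.symm
  haveI : Nontrivial (LocalizedModule p.primeCompl R) := e.toEquiv.nontrivial
  have hne : IsLocalRing.maximalIdeal A • (⊤ : Submodule A (LocalizedModule p.primeCompl R)) ≠ ⊤ := fun h =>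
    top_ne_bot (Submodule.eq_bot_of_le_smul_of_le_jacobson_bot _ _ Module.Finite.fg_top h.ge (IsLocalRing.maximalIdeal_le_jacobson _))
  refine H2Depth.HasReg.congr e ((H2Depth.hasReg_iff_le_idealDepth hne).mpr ?_)
  have h := hS p
  rw [Module.supportDim_eq_of_equiv e, Module.supportDim_self_eq_ringKrullDim, IsLocalization.AtPrime.ringKrullDim_eq_height p A] at h
  have h2 : ((j : ℕ∞) : WithBot ℕ∞) ≤ min (k : WithBot ℕ∞) (p.height : WithBot ℕ∞) :=
    le_min (by exact_mod_cast hjk) (WithBot.coe_le_coe.mpr hj)
  exact WithBot.coe_le_coe.mp (h2.trans h)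

end Groth.Agent.H2SkRing
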