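/-
Serre criterion: reduced = R0 + S1
-/
import Mathlib
import Groth.Prelude.Def_CAlg
import Groth.Agent.Lib.RegularLocalBasic

open RingTheory.Sequence

universe u

namespace Groth.Agent.ReducedR0S1


/-- the localised ring as a localised module -/
noncomputable def selfEquiv {R : Type u} [CommRing R] (p : Ideal R) [p.IsPrime] :
    LocalizedModule p.primeCompl R ≃ₗ[Localization.AtPrime p] Localization.AtPrime p :=
  (IsLocalizedModule.linearEquiv p.primeCompl (LocalizedModule.mkLinearMap p.primeCompl R)
    (Algebra.linearMap R (Localization.AtPrime p))).extendScalarsOfIsLocalization p.primeCompl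
    (Localization.AtPrime p)

theorem exists_regular_of_one_le_depth {A : Type u} [CommRing A] [IsLocalRing A]
    (h : (1 : ℕ∞) ≤ LocCoh.depth A A) :
    ∃ r ∈ IsLocalRing.maximalIdeal A, IsSMulRegular A r := by
  have htop : IsLocalRing.maximalIdeal A • (⊤ : Submodule A A) ≠ ⊤ := by
    rw [Ideal.smul_eq_mul, Ideal.mul_top]
    exact (IsLocalRing.maximalIdeal.isMaximal A).ne_top
  rw [LocCoh.depth, LocCoh.idealDepth, if_neg htop] at h
  by_contra hc
  push_neg at hc
  have : (⨆ (rs : List A) (_ : IsWeaklyRegular A rs ∧ ∀ r ∈ rs, r ∈ IsLocalRing.maximalIdeal A),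
      (rs.length : ℕ∞)) ≤ 0 := by
    refine iSup₂_le fun rs hrs => ?_
    rcases rs with _ | ⟨r, rs⟩
    · simp
    · exact absurd ((isWeaklyRegular_cons_iff A r rs).mp hrs.1).1 (hc r (hrs.2 r (by simp)))
  exact absurd (le_trans h this) (by simp)

theorem one_le_depth_of_regular {A : Type u} [CommRing A] [IsLocalRing A] {r : A}
    (hr : r ∈ IsLocalRing.maximalIdeal A) (hreg : IsSMulRegular A r) :
    (1 : ℕ∞) ≤ LocCoh.depth A A := by
  rw [LocCoh.depth, LocCoh.idealDepth]
  split_ifs
  · exact le_top
  · exact le_iSup₂_of_le [r] ⟨by simpa using hreg, by simpa using hr⟩ (by simp)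

theorem depth_congr_self {A : Type u} [CommRing A] [IsLocalRing A] {M : Type u} [AddCommGroup M] [Module A M]
    (e : M ≃ₗ[A] A) : LocCoh.depth A M = LocCoh.depth A A := by
  simp only [LocCoh.depth, LocCoh.idealDepth]
  have h1 : ∀ rs : List A, IsWeaklyRegular M rs ↔ IsWeaklyRegular A rs := fun rs => e.isWeaklyRegular_congr rs
  have h2 : (IsLocalRing.maximalIdeal A • (⊤ : Submodule A M) = ⊤) ↔
      (IsLocalRing.maximalIdeal A • (⊤ : Submodule A A) = ⊤) := by
    rw [← (Submodule.map_injective_of_injective (f := e.toLinearMap) e.injective).eq_iff,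
      Submodule.map_smul'', Submodule.map_top, LinearMap.range_eq_top.mpr e.surjective]
  simp only [h1, h2]

theorem s1_iff {R : Type u} [CommRing R] (p : Ideal R) [p.IsPrime] :
    (min ((1 : ℕ) : WithBot ℕ∞) (Module.supportDim (Localization.AtPrime p) (LocalizedModule p.primeCompl R)) ≤
      ((LocCoh.depth (Localization.AtPrime p) (LocalizedModule p.primeCompl R) : ℕ∞) : WithBot ℕ∞)) ↔
    (p.height = 0 ∨ ∃ r ∈ IsLocalRing.maximalIdeal (Localization.AtPrime p), IsSMulRegular (Localization.AtPrime p) r) := by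
  rw [depth_congr_self (selfEquiv p), Module.supportDim_eq_of_equiv (selfEquiv p), Module.supportDim_self_eq_ringKrullDim,
    IsLocalization.AtPrime.ringKrullDim_eq_height p]
  constructor
  · intro h
    rcases eq_or_ne p.height 0 with h0 | h0
    · exact Or.inl h0
    refine Or.inr (exists_regular_of_one_le_depth ?_)
    rw [min_eq_left] at h
    · exact WithBot.coe_le_coe.mp (by simpa using h)
    · exact_mod_cast ENat.one_le_iff_ne_zero.mpr h0
  · rintro (h0 | ⟨r, hr, hreg⟩)
    · exact (min_le_right _ _).trans (by rw [h0]; exact WithBot.coe_le_coe.mpr bot_le)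
    · exact (min_le_left _ _).trans (WithBot.coe_le_coe.mpr (one_le_depth_of_regular hr hreg))

end Groth.Agent.ReducedR0S1
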