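import Mathlib
import Groth.Prelude.Def_EGA4b
import Groth.Prelude.Def_CAlg
import Groth.Agent.Lib.H2FlatAscent
import Groth.Agent.S0601
set_option autoImplicit false

/-! Serre conditions and normality along flat maps. -/
namespace Groth.Agent.H2SerreAscent
open IsLocalRing TensorProduct
set_option maxHeartbeats 1000000
set_option synthInstance.maxHeartbeats 400000
set_option backward.isDefEq.respectTransparency.types false
universe u

/-- The inequality of `(S_k)` for a local ring. -/
def SkLoc (k : ℕ) (R : Type u) [CommRing R] [IsLocalRing R] : Prop :=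
  min (k : WithBot ℕ∞) (ringKrullDim R) ≤ ((LocCoh.depth R R : ℕ∞) : WithBot ℕ∞)

theorem skLoc_congr {k : ℕ} {R S : Type u} [CommRing R] [CommRing S] [IsLocalRing R] [IsLocalRing S] [IsNoetherianRing R]
    (e : R ≃+* S) (h : SkLoc k R) : SkLoc k S := by
  haveI : IsNoetherianRing S := isNoetherianRing_of_ringEquiv R e
  letI : Algebra R S := e.toRingHom.toAlgebra
  haveI : IsLocalHom (algebraMap R S) := ⟨fun a ha => (MulEquiv.isUnit_map e).1 ha⟩
  haveI : Module.Flat R S := Module.Flat.of_linearEquiv (AlgEquiv.ofBijective (Algebra.ofId R S) e.bijective).toLinearEquiv.symm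
  let I := (maximalIdeal R).map (algebraMap R S)
  have hI : I = maximalIdeal S := IsLocalRing.map_maximalIdeal_of_surjective _ e.surjective
  haveI : Nontrivial (S ⧸ I) := Ideal.Quotient.nontrivial_iff.2 (hI ▸ (maximalIdeal.isMaximal S).ne_top)
  haveI : IsLocalRing (S ⧸ I) := IsLocalRing.of_surjective' (Ideal.Quotient.mk I) Ideal.Quotient.mk_surjective
  refine H2FlatAscent.sk_local k h ?_
  haveI : I.IsMaximal := hI ▸ maximalIdeal.isMaximal S
  refine (min_le_right _ _).trans ?_
  rw [show ringKrullDim (S ⧸ I) = 0 from ringKrullDim_eq_zero_of_isField ((Ideal.Quotient.maximal_ideal_iff_isField_quotient I).1 ‹_›)]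
  exact WithBot.coe_le_coe.2 bot_le

theorem hasSk_iff {R : Type u} [CommRing R] (k : ℕ) :
    LocCoh.HasSk k R R ↔ ∀ (p : Ideal R) [p.IsPrime], SkLoc k (Localization.AtPrime p) := by
  refine forall_congr' fun p => forall_congr' fun _ => ?_
  rw [H2SkDescent.skAt_iff, SkLoc, IsLocalization.AtPrime.ringKrullDim_eq_height p (Localization.AtPrime p)]

theorem exists_equiv_of_localization {R R' : Type u} [CommRing R] [CommRing R'] [Algebra R R'] (M : Submonoid R)
    [IsLocalization M R'] (Q : Ideal R') [Q.IsPrime] :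
    Nonempty (Localization.AtPrime Q ≃+* Localization.AtPrime (Q.comap (algebraMap R R'))) := by
  haveI : IsLocalization.AtPrime (Localization.AtPrime Q) (Q.comap (algebraMap R R')) :=
    IsLocalization.isLocalization_isLocalization_atPrime_isLocalization M _ Q
  exact ⟨(IsLocalization.algEquiv (Q.comap (algebraMap R R')).primeCompl _ _).toRingEquiv⟩

theorem equiv_of_eq {R : Type u} [CommRing R] (P P' : Ideal R) [P.IsPrime] [P'.IsPrime] (h : P = P') :
    Nonempty (Localization.AtPrime P ≃+* Localization.AtPrime P') := by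
  subst h
  exact ⟨RingEquiv.refl _⟩

theorem exists_fibre_equiv {A B : Type u} [CommRing A] [CommRing B] [Algebra A B] (q : Ideal B) [q.IsPrime] :
    ∃ (P : Ideal ((q.comap (algebraMap A B)).Fiber B)) (_ : P.IsPrime),
      Nonempty (Localization.AtPrime P ≃+* EGA4.FibLocRing A B q) := by
  let p : PrimeSpectrum A := PrimeSpectrum.comap (algebraMap A B) ⟨q, inferInstance⟩
  let x := PrimeSpectrum.preimageEquivFiber A B p ⟨⟨q, inferInstance⟩, rfl⟩
  refine ⟨x.asIdeal, x.isPrime, ?_⟩
  haveI := x.isPrime
  have hr : x.asIdeal.comap (Algebra.TensorProduct.includeRight : B →ₐ[A] p.asIdeal.Fiber B) = q :=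
    congrArg PrimeSpectrum.asIdeal
      (congrArg Subtype.val ((PrimeSpectrum.preimageEquivFiber A B p).symm_apply_apply ⟨⟨q, inferInstance⟩, rfl⟩))
  have e1 := (Ideal.Fiber.algEquivAux₂ p.asIdeal x.asIdeal).toRingEquiv
  let r := x.asIdeal.comap (Algebra.TensorProduct.includeRight : B →ₐ[A] p.asIdeal.Fiber B)
  haveI hq : IsLocalization.AtPrime (Localization.AtPrime r) q := by
    show IsLocalization q.primeCompl _
    rw [show q.primeCompl = r.primeCompl from Submonoid.ext fun y => not_congr (SetLike.ext_iff.1 hr y).symm]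
    infer_instance
  let e2 := IsLocalization.algEquiv q.primeCompl (Localization.AtPrime r) (Localization.AtPrime q)
  refine ⟨e1.trans (Ideal.quotientEquiv _ _ e2.toRingEquiv ?_)⟩
  rw [Ideal.map_map, Ideal.map_map]
  congr 1
  refine RingHom.ext fun a => ?_
  show algebraMap A (Localization.AtPrime q) a = e2 (algebraMap B (Localization.AtPrime r) (algebraMap A B a))
  rw [AlgEquiv.commutes, ← IsScalarTower.algebraMap_apply]

variable {A B : Type u} [CommRing A] [CommRing B] [IsNoetherianRing A] [IsNoetherianRing B] [Algebra A B] [Module.Flat A B]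

theorem skLoc_ascend {k : ℕ} (q : Ideal B) [q.IsPrime] [IsLocalRing (EGA4.FibLocRing A B q)]
    (hA : SkLoc k (Localization.AtPrime (q.comap (algebraMap A B)))) (hF : SkLoc k (EGA4.FibLocRing A B q)) :
    SkLoc k (Localization.AtPrime q) :=
  (H2FlatAscent.point q).2.2.2 k hA hF

theorem hasSk_ascend {k : ℕ} (hA : LocCoh.HasSk k A A)
    (hfib : ∀ (p : Ideal A) [p.IsPrime], LocCoh.HasSk k (p.Fiber B) (p.Fiber B)) : LocCoh.HasSk k B B := by
  refine (hasSk_iff k).2 fun q _ => ?_
  obtain ⟨P, hP, ⟨e⟩⟩ := exists_fibre_equiv (A := A) q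
  haveI := (H2FlatAscent.point (A := A) q).2.2.1
  haveI : IsNoetherianRing ((q.comap (algebraMap A B)).Fiber B) := by
    haveI : IsNoetherianRing (B ⊗[A] (q.comap (algebraMap A B)).ResidueField) := Algebra.EssFiniteType.isNoetherianRing B _
    exact isNoetherianRing_of_ringEquiv _ (Algebra.TensorProduct.comm A B _).toRingEquiv
  haveI : IsNoetherianRing (Localization.AtPrime P) := IsLocalization.isNoetherianRing P.primeCompl _ inferInstance
  exact skLoc_ascend q ((hasSk_iff k).1 hA _) (skLoc_congr e ((hasSk_iff k).1 (hfib _) P))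

theorem height_le (q : Ideal B) [q.IsPrime] :
    (q.comap (algebraMap A B)).height ≤ q.height ∧ ringKrullDim (EGA4.FibLocRing A B q) ≤ q.height := by
  obtain ⟨h, -, hl, -⟩ := H2FlatAscent.point (A := A) q
  haveI := hl
  have h0 : (0 : WithBot ℕ∞) ≤ ringKrullDim (EGA4.FibLocRing A B q) := ringKrullDim_nonneg_of_nontrivial
  have h0' : (0 : WithBot ℕ∞) ≤ ((q.comap (algebraMap A B)).height : WithBot ℕ∞) := WithBot.coe_le_coe.2 bot_le
  constructor
  · refine WithBot.coe_le_coe.1 (le_trans ?_ h.ge)
    conv_lhs => rw [← add_zero ((((q.comap (algebraMap A B)).height : ℕ∞) : WithBot ℕ∞))]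
    exact add_le_add le_rfl h0
  · refine le_trans ?_ h.ge
    conv_lhs => rw [← zero_add (ringKrullDim (EGA4.FibLocRing A B q))]
    exact add_le_add h0' le_rfl

/-- `(R_k)` ascends at a point. -/
theorem rk_ascend {k : ℕ} (q : Ideal B) [q.IsPrime] (hq : q.height ≤ (k : ℕ∞))
    (hA : (q.comap (algebraMap A B)).height ≤ (k : ℕ∞) → IsRegularLocalRing (Localization.AtPrime (q.comap (algebraMap A B))))
    (hF : LocCoh.HasRk k (EGA4.FibLocRing A B q)) : IsRegularLocalRing (Localization.AtPrime q) := by
  obtain ⟨-, hreg, hl, -⟩ := H2FlatAscent.point (A := A) q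
  haveI := hl
  obtain ⟨hh1, hh2⟩ := height_le (A := A) q
  refine hreg (hA (hh1.trans hq)) ?_
  let F := EGA4.FibLocRing A B q
  have h1 := hF (maximalIdeal F) (WithBot.coe_le_coe.1 (by
    rw [IsLocalRing.maximalIdeal_height_eq_ringKrullDim]; exact hh2.trans (WithBot.coe_le_coe.2 hq)))
  exact @IsRegularLocalRing.of_ringEquiv _ _ h1 _ _
    (IsLocalization.atUnits F (maximalIdeal F).primeCompl (S := Localization.AtPrime (maximalIdeal F))
      (fun x hx => by simpa [IsUnit.mem_submonoid_iff] using hx)).toRingEquiv.symm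

/-- Normality ascends at a point. -/
theorem normal_ascend (hfib : ∀ (q : Ideal B) [q.IsPrime], IsDomain (EGA4.FibLocRing A B q) ∧ IsIntegrallyClosed (EGA4.FibLocRing A B q))
    (q : Ideal B) [q.IsPrime] [IsDomain (Localization.AtPrime (q.comap (algebraMap A B)))]
    [IsIntegrallyClosed (Localization.AtPrime (q.comap (algebraMap A B)))] :
    IsDomain (Localization.AtPrime q) ∧ IsIntegrallyClosed (Localization.AtPrime q) := by
  let p := q.comap (algebraMap A B)
  have serre : ∀ (R : Type u) [CommRing R] [IsNoetherianRing R] [IsDomain R] [IsIntegrallyClosed R],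
      LocCoh.HasRk 1 R ∧ LocCoh.HasSk 2 R R := by
    intro R _ _ _ _
    refine (Groth.Agent.S0601.result R).1 fun P _ => ?_
    haveI : IsDomain (Localization.AtPrime P) := IsLocalization.isDomain_localization P.primeCompl_le_nonZeroDivisors
    exact ⟨inferInstance, isIntegrallyClosed_of_isLocalization _ P.primeCompl P.primeCompl_le_nonZeroDivisors⟩
  haveI : IsNoetherianRing (Localization.AtPrime p) := IsLocalization.isNoetherianRing p.primeCompl _ inferInstance
  haveI : IsNoetherianRing (Localization.AtPrime q) := IsLocalization.isNoetherianRing q.primeCompl _ inferInstance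
  obtain ⟨hAR, hAS⟩ := serre (Localization.AtPrime p)
  have hA : ∀ (p0 : Ideal A) [p0.IsPrime], p0 ≤ p →
      (p0.height ≤ ((1 : ℕ) : ℕ∞) → IsRegularLocalRing (Localization.AtPrime p0)) ∧ SkLoc 2 (Localization.AtPrime p0) := by
    intro p0 _ hle
    have disj : Disjoint (p.primeCompl : Set A) (p0 : Set A) := Set.disjoint_left.2 fun a ha hap => ha (hle hap)
    let Q := p0.map (algebraMap A (Localization.AtPrime p))
    haveI : Q.IsPrime := IsLocalization.isPrime_of_isPrime_disjoint p.primeCompl _ _ ‹_› disj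
    have hQ : Q.comap (algebraMap A (Localization.AtPrime p)) = p0 :=
      IsLocalization.under_map_of_isPrime_disjoint p.primeCompl _ ‹_› disj
    obtain ⟨e0⟩ := exists_equiv_of_localization p.primeCompl Q
    obtain ⟨e1⟩ := equiv_of_eq _ p0 hQ
    let e := e0.trans e1
    have hQh : Q.height = p0.height := (IsLocalization.height_under p.primeCompl Q).symm.trans (congrArg Ideal.height hQ)
    haveI : IsNoetherianRing (Localization.AtPrime Q) := IsLocalization.isNoetherianRing Q.primeCompl _ inferInstance
    exact ⟨fun h => @IsRegularLocalRing.of_ringEquiv _ _ (hAR Q (hQh ▸ h)) _ _ e, skLoc_congr e ((hasSk_iff 2).1 hAS Q)⟩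
  refine (fun h : ∀ (P : Ideal (Localization.AtPrime q)) [P.IsPrime],
      IsDomain (Localization.AtPrime P) ∧ IsIntegrallyClosed (Localization.AtPrime P) => ?_) ?_
  · let L := Localization.AtPrime q
    obtain ⟨h1, h2⟩ := h (maximalIdeal L)
    let e := (IsLocalization.atUnits L (maximalIdeal L).primeCompl (S := Localization.AtPrime (maximalIdeal L))
      (fun x hx => by simpa [IsUnit.mem_submonoid_iff] using hx)).toRingEquiv
    exact ⟨e.toMulEquiv.isDomain, IsIntegrallyClosed.of_equiv e.symm⟩
  refine (Groth.Agent.S0601.result _).2 ⟨fun Q _ hQ => ?_, (hasSk_iff 2).2 fun Q _ => ?_⟩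
  · obtain ⟨e⟩ := exists_equiv_of_localization q.primeCompl Q
    let q0 := Q.comap (algebraMap B (Localization.AtPrime q))
    have hle : q0 ≤ q := (IsLocalization.AtPrime.orderIsoOfPrime (Localization.AtPrime q) q ⟨Q, ‹_›⟩).2.2
    obtain ⟨hd, hi⟩ := hfib q0
    haveI := (H2FlatAscent.point (A := A) q0).2.2.1
    haveI : IsNoetherianRing (Localization.AtPrime q0) := IsLocalization.isNoetherianRing q0.primeCompl _ inferInstance
    haveI : IsNoetherianRing (EGA4.FibLocRing A B q0) := inferInstance
    haveI := hd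
    haveI := hi
    exact @IsRegularLocalRing.of_ringEquiv _ _ (rk_ascend (k := 1) q0
      ((IsLocalization.height_under q.primeCompl Q).le.trans hQ)
      (hA (q0.comap (algebraMap A B)) (Ideal.comap_mono hle)).1 (serre (EGA4.FibLocRing A B q0)).1) _ _ e.symm
  · obtain ⟨e⟩ := exists_equiv_of_localization q.primeCompl Q
    let q0 := Q.comap (algebraMap B (Localization.AtPrime q))
    have hle : q0 ≤ q := (IsLocalization.AtPrime.orderIsoOfPrime (Localization.AtPrime q) q ⟨Q, ‹_›⟩).2.2
    obtain ⟨hd, hi⟩ := hfib q0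
    haveI := (H2FlatAscent.point (A := A) q0).2.2.1
    haveI : IsNoetherianRing (Localization.AtPrime q0) := IsLocalization.isNoetherianRing q0.primeCompl _ inferInstance
    haveI := hd
    haveI := hi
    let F := EGA4.FibLocRing A B q0
    have hF := (hasSk_iff 2).1 (serre F).2 (maximalIdeal F)
    haveI : IsNoetherianRing (Localization.AtPrime (maximalIdeal F)) := IsLocalization.isNoetherianRing (maximalIdeal F).primeCompl _ inferInstance
    have hF' : SkLoc 2 F := skLoc_congr (IsLocalization.atUnits F (maximalIdeal F).primeCompl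
      (S := Localization.AtPrime (maximalIdeal F)) (fun x hx => by simpa [IsUnit.mem_submonoid_iff] using hx)).toRingEquiv.symm hF
    exact skLoc_congr e.symm (skLoc_ascend q0 (hA (q0.comap (algebraMap A B)) (Ideal.comap_mono hle)).2 hF')

end Groth.Agent.H2SerreAscent
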