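import Mathlib
import Groth.Agent.Lib.H2SmoothRegular
import Groth.Agent.Lib.H2RegNormal
import Groth.Agent.Lib.RegularLocalBasic

/-! Normality ascends and descends along smooth maps. -/

set_option autoImplicit false
set_option linter.all false
universe u
open TensorProduct

namespace Groth.Agent.LSmoothNormal
set_option backward.isDefEq.respectTransparency.types false
set_option backward.isDefEq.respectTransparency false

attribute [local instance] Algebra.TensorProduct.rightAlgebra

theorem isDomain_of_local (T : Type u) [CommRing T] [IsNoetherianRing T] [Nontrivial T]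
    (hid : ∀ e : T, e * e = e → e = 0 ∨ e = 1)
    (hloc : ∀ (P : Ideal T) [P.IsPrime], IsDomain (Localization.AtPrime P)) : IsDomain T := by
  classical
  have : NoZeroDivisors T := by
    refine ⟨fun {a b} hab => ?_⟩
    let I : Ideal T := Submodule.colon (⊥ : Ideal T) {a}
    let J : Ideal T := Submodule.colon (⊥ : Ideal T) (I : Set T)
    have haJ : a ∈ J := by
      simp only [J, Submodule.mem_colon, Submodule.mem_bot, smul_eq_mul]
      intro i hi
      rw [SetLike.mem_coe, Submodule.mem_colon_singleton, Submodule.mem_bot, smul_eq_mul] at hi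
      rw [mul_comm, hi]
    have htop : I ⊔ J = ⊤ := by
      by_contra h
      obtain ⟨P, hP, hle⟩ := Ideal.exists_le_maximal _ h
      haveI := hP.isPrime
      haveI := hloc P
      let f := algebraMap T (Localization.AtPrime P)
      by_cases ha : f a = 0
      · obtain ⟨⟨s, hs⟩, h'⟩ := (IsLocalization.map_eq_zero_iff P.primeCompl _ a).1 ha
        exact hs (hle (Ideal.mem_sup_left (by simpa [I, Submodule.mem_colon_singleton] using h')))
      · obtain ⟨g, hg⟩ := (isNoetherian_def.1 inferInstance) I
        have h0 : ∀ i ∈ g, ∃ s : P.primeCompl, (s : T) * i = 0 := fun i hi => by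
          have hiI : i ∈ I := hg ▸ Submodule.subset_span hi
          rw [Submodule.mem_colon_singleton, Submodule.mem_bot, smul_eq_mul] at hiI
          have := congrArg f hiI
          rw [map_mul, map_zero] at this
          exact (IsLocalization.map_eq_zero_iff P.primeCompl _ i).1 ((mul_eq_zero.1 this).resolve_right ha)
        choose s hs using h0
        let S : P.primeCompl := ∏ i ∈ g.attach, s i.1 i.2
        have hS : (S : T) ∈ J := by
          simp only [J, Submodule.mem_colon, Submodule.mem_bot, smul_eq_mul]
          intro i hi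
          rw [SetLike.mem_coe, ← hg] at hi
          induction hi using Submodule.span_induction with
          | mem x hx =>
            obtain ⟨c, hc⟩ : s x hx ∣ S :=
              Finset.dvd_prod_of_mem (fun i => s i.1 i.2) (Finset.mem_attach g ⟨x, hx⟩)
            rw [hc, Submonoid.coe_mul, mul_comm (s x hx : T), mul_assoc, hs x hx, mul_zero]
          | zero => rw [mul_zero]
          | add x y _ _ hx hy => rw [mul_add, hx, hy, add_zero]
          | smul c x _ hx => rw [smul_eq_mul, mul_left_comm, hx, mul_zero]
        exact S.2 (hle (Ideal.mem_sup_right hS))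
    obtain ⟨i, hi, j, hj, hij⟩ := Submodule.mem_sup.1 (htop ▸ Submodule.mem_top (x := (1 : T)))
    have hji : j * i = 0 := by
      simpa [J, Submodule.mem_colon] using (Submodule.mem_colon.1 hj i hi)
    have hii : i * i = i := by linear_combination i * hij - hji
    have hai : i * a = 0 := by simpa [I, Submodule.mem_colon_singleton] using hi
    rcases hid i hii with h | h
    · rw [h, zero_add] at hij
      subst hij
      refine Or.inr ?_
      have hb : b ∈ I := by simpa [I, Submodule.mem_colon_singleton, mul_comm] using hab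
      simpa using (Submodule.mem_colon.1 hj b hb)
    · exact Or.inl (by rw [h, one_mul] at hai; exact hai)
  exact NoZeroDivisors.to_isDomain T

theorem closed_localization {B T Bq Tq : Type u} [CommRing B] [CommRing T] [CommRing Bq] [CommRing Tq]
    [Algebra B T] [Algebra B Bq] [Algebra T Tq] [Algebra Bq Tq] [Algebra B Tq] [IsScalarTower B T Tq]
    [IsScalarTower B Bq Tq] [IsIntegrallyClosedIn B T] (S : Submonoid B) [IsLocalization S Bq]
    [IsLocalization (Algebra.algebraMapSubmonoid T S) Tq] {y : Tq} (hy : IsIntegral Bq y) :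
    ∃ x, algebraMap Bq Tq x = y := by
  obtain ⟨⟨t, _, m₁, hm₁, rfl⟩, e⟩ := IsLocalization.surj (Algebra.algebraMapSubmonoid T S) y
  obtain ⟨⟨m₂, hm₂⟩, hm₂s⟩ := IsIntegral.exists_multiple_integral_of_isLocalization S _ hy
  simp only [← IsScalarTower.algebraMap_apply] at e
  simp only [Submonoid.smul_def, Algebra.smul_def] at hm₂s
  obtain ⟨m₃, hm₃, hm₃s⟩ := IsLocalization.exists_isIntegral_smul_of_isIntegral_map (Sₘ := Tq)
    S (x := m₂ • t) <| by
      simp only [Algebra.smul_def, map_mul, ← IsScalarTower.algebraMap_apply, ← e, ← mul_assoc]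
      exact hm₂s.mul isIntegral_algebraMap
  obtain ⟨b, hb⟩ := (isIntegrallyClosedIn_iff.1 ‹IsIntegrallyClosedIn B T›).2 hm₃s
  have h := congrArg (algebraMap T Tq) hb
  simp only [Algebra.smul_def, map_mul, ← IsScalarTower.algebraMap_apply, ← e] at h
  let w : S := ⟨m₁ * m₂ * m₃, mul_mem (mul_mem hm₁ hm₂) hm₃⟩
  refine ⟨IsLocalization.mk' Bq b w, ?_⟩
  have hu := (IsLocalization.map_units Bq w).map (algebraMap Bq Tq)
  refine hu.mul_right_cancel ?_
  rw [← map_mul, IsLocalization.mk'_spec, ← IsScalarTower.algebraMap_apply, h,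
    ← IsScalarTower.algebraMap_apply B Bq Tq, map_mul, map_mul]
  ring

theorem regular_localization {K T Tq : Type u} [Field K] [CommRing T] [CommRing Tq] [Algebra K T]
    [Algebra.Smooth K T] [IsNoetherianRing T] [Algebra T Tq] (M : Submonoid T) [IsLocalization M Tq]
    (P : Ideal Tq) [P.IsPrime] : IsRegularLocalRing (Localization.AtPrime P) := by
  letI : Algebra K Tq := ((algebraMap T Tq).comp (algebraMap K T)).toAlgebra
  haveI : IsScalarTower K T Tq := IsScalarTower.of_algebraMap_eq' rfl
  haveI : IsNoetherianRing Tq := IsLocalization.isNoetherianRing M Tq inferInstance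
  haveI : Algebra.FormallyEtale T Tq := Algebra.FormallyEtale.of_isLocalization M
  haveI : Algebra.FormallySmooth K Tq := Algebra.FormallySmooth.comp K T Tq
  haveI : Algebra.FormallyEtale Tq (Localization.AtPrime P) := Algebra.FormallyEtale.of_isLocalization P.primeCompl
  haveI : Algebra.FormallySmooth K (Localization.AtPrime P) := Algebra.FormallySmooth.comp K Tq _
  haveI : IsNoetherianRing (Localization.AtPrime P) := IsLocalization.isNoetherianRing P.primeCompl _ inferInstance
  exact H2SmoothRegular.isRegularLocalRing_of_formallySmooth (k := K)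

/-- ascent from a normal domain -/
theorem normal_atPrime (A B : Type u) [CommRing A] [IsDomain A] [IsIntegrallyClosed A] [CommRing B] [Algebra A B]
    [Algebra.Smooth A B] (q : Ideal B) [q.IsPrime] :
    IsDomain (Localization.AtPrime q) ∧ IsIntegrallyClosed (Localization.AtPrime q) := by
  classical
  let K := FractionRing A
  let T := B ⊗[A] K
  have hinj : Function.Injective (algebraMap B T) :=
    Algebra.TensorProduct.includeLeft_injective (S := A) (IsFractionRing.injective A K)
  haveI hBT : IsIntegrallyClosedIn B T := by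
    refine isIntegrallyClosedIn_iff.2 ⟨hinj, fun {x} hx => ?_⟩
    obtain ⟨y, hy⟩ := (TensorProduct.toIntegralClosure_bijective_of_smooth (R := A) (S := B) (B := K)).2 ⟨x, hx⟩
    have hy' := congrArg Subtype.val hy
    subst hy'
    clear hx hy
    induction y with
    | zero => exact ⟨0, by simp⟩
    | add y z hy hz =>
      obtain ⟨a, ha⟩ := hy; obtain ⟨b, hb⟩ := hz
      exact ⟨a + b, by rw [map_add, ha, hb, map_add, Subalgebra.coe_add]⟩
    | tmul b k =>
      obtain ⟨a, ha⟩ := (isIntegrallyClosed_iff K).1 inferInstance k.2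
      refine ⟨a • b, ?_⟩
      show (a • b) ⊗ₜ[A] (1 : K) = b ⊗ₜ[A] (k : K)
      rw [TensorProduct.smul_tmul, ← ha, Algebra.smul_def, mul_one]
  haveI : Algebra.Smooth K T := Algebra.Smooth.of_equiv (Algebra.TensorProduct.commRight A K B)
  haveI : IsNoetherianRing T := Algebra.FiniteType.isNoetherianRing K T
  let Bq := Localization.AtPrime q
  let M := Algebra.algebraMapSubmonoid T q.primeCompl
  let Tq := Localization M
  haveI : IsNoetherianRing Tq := IsLocalization.isNoetherianRing M Tq inferInstance
  haveI : IsLocalization (q.primeCompl.map (algebraMap B T)) Tq :=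
    inferInstanceAs (IsLocalization M Tq)
  have hinj' : Function.Injective (algebraMap Bq Tq) :=
    IsLocalization.map_injective_of_injective q.primeCompl Bq Tq hinj
  haveI : Nontrivial Tq := hinj'.nontrivial
  have hcl : ∀ {y : Tq}, IsIntegral Bq y → ∃ x, algebraMap Bq Tq x = y :=
    fun {y} hy => closed_localization (B := B) (T := T) (Bq := Bq) (Tq := Tq) q.primeCompl hy
  haveI hTq : IsDomain Tq := by
    refine isDomain_of_local Tq (fun e he => ?_) (fun P hP => by
      haveI := regular_localization (K := K) M P; exact RegLocal.isDomain)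
    obtain ⟨x, rfl⟩ := hcl (y := e) ⟨Polynomial.X ^ 2 - Polynomial.X, by monicity!, by simp [sq, he]⟩
    rw [← map_mul] at he
    rcases (IsLocalRing.isUnit_or_isUnit_one_sub_self x) with hx | hx
    · exact Or.inr (by rw [hx.mul_eq_left.1 (hinj' he)]; exact map_one _)
    · refine Or.inl ?_
      have : (1 - x) * x = 0 := by rw [sub_mul, one_mul, hinj' he, sub_self]
      rw [hx.mul_right_eq_zero.1 this, map_zero]
  haveI : IsIntegrallyClosed Tq := IsIntegrallyClosed.of_localization_maximal fun P _ hP => by
    haveI := regular_localization (K := K) M P; exact H2RegNormal.isIntegrallyClosed_of_regularLocal _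
  haveI hBq : IsDomain Bq := hinj'.isDomain (algebraMap Bq Tq)
  refine ⟨hBq, (isIntegrallyClosed_iff (FractionRing Bq)).2 fun {x} hx => ?_⟩
  let L := FractionRing Tq
  let g : Bq →+* L := algebraMap Bq L
  have hg : Function.Injective g := by
    show Function.Injective (algebraMap Bq L)
    intro x y h
    rw [IsScalarTower.algebraMap_apply Bq Tq L, IsScalarTower.algebraMap_apply Bq Tq L] at h
    exact hinj' (IsFractionRing.injective Tq L h)
  let φ : FractionRing Bq →+* L := IsFractionRing.lift hg
  let φ' : FractionRing Bq →ₐ[Bq] L := { φ with commutes' := fun b => IsFractionRing.lift_algebraMap hg b }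
  have hxL : IsIntegral Bq (φ' x) := hx.map φ'
  obtain ⟨t, ht⟩ := (isIntegrallyClosed_iff L).1 inferInstance (hxL.tower_top (A := Tq))
  rw [← ht] at hxL
  obtain ⟨b, hb⟩ := hcl ((isIntegral_algHom_iff (IsScalarTower.toAlgHom Bq Tq L) (IsFractionRing.injective Tq L)).1 hxL)
  refine ⟨b, φ'.toRingHom.injective ?_⟩
  show φ' _ = φ' x
  rw [φ'.commutes, IsScalarTower.algebraMap_apply Bq Tq L, hb, ht]

/-- descent along a faithfully flat map -/
theorem descent (R S : Type u) [CommRing R] [CommRing S] [Algebra R S] [Module.FaithfullyFlat R S]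
    [IsDomain S] [IsIntegrallyClosed S] : IsDomain R ∧ IsIntegrallyClosed R := by
  have hinj : Function.Injective (algebraMap R S) := FaithfulSMul.algebraMap_injective R S
  haveI : IsDomain R := hinj.isDomain (algebraMap R S)
  refine ⟨‹_›, (isIntegrallyClosed_iff (FractionRing R)).2 fun {x} hx => ?_⟩
  let L := FractionRing S
  let g : R →+* L := (algebraMap S L).comp (algebraMap R S)
  have hg : Function.Injective g := (IsFractionRing.injective S L).comp hinj
  let φ : FractionRing R →ₐ[R] L :=
    { IsFractionRing.lift hg with commutes' := fun b =>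
        (IsFractionRing.lift_algebraMap hg b).trans (IsScalarTower.algebraMap_apply R S L b).symm }
  obtain ⟨c, hc⟩ := (isIntegrallyClosed_iff L).1 inferInstance ((hx.map φ).tower_top (A := S))
  obtain ⟨a, b, hb, rfl⟩ := IsFractionRing.div_surjective (A := R) x
  have hb0 : algebraMap R (FractionRing R) b ≠ 0 := IsFractionRing.to_map_ne_zero_of_mem_nonZeroDivisors hb
  have h1 : φ (algebraMap R _ a) = φ (algebraMap R _ b) * algebraMap S L c := by
    rw [hc, ← map_mul, mul_div_cancel₀ _ hb0]
  rw [φ.commutes, φ.commutes, IsScalarTower.algebraMap_apply R S L a, IsScalarTower.algebraMap_apply R S L b,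
    ← map_mul] at h1
  have h2 : a ∈ ((Ideal.span {b}).map (algebraMap R S)).comap (algebraMap R S) := by
    rw [Ideal.mem_comap, IsFractionRing.injective S L h1, Ideal.map_span, Set.image_singleton]
    exact Ideal.mem_span_singleton'.2 ⟨c, mul_comm _ _⟩
  rw [Ideal.comap_map_eq_self_of_faithfullyFlat] at h2
  obtain ⟨d, rfl⟩ := Ideal.mem_span_singleton'.1 h2
  exact ⟨d, by rw [map_mul, mul_div_assoc, div_self hb0, mul_one]⟩

/-- the main equivalence, at a prime -/
theorem atPrime_iff (A B : Type u) [CommRing A] [CommRing B] [Algebra A B] [Algebra.Smooth A B]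
    (q : Ideal B) [q.IsPrime] :
    (IsDomain (Localization.AtPrime q) ∧ IsIntegrallyClosed (Localization.AtPrime q)) ↔
      (IsDomain (Localization.AtPrime (q.comap (algebraMap A B))) ∧
        IsIntegrallyClosed (Localization.AtPrime (q.comap (algebraMap A B)))) := by
  classical
  let p := q.comap (algebraMap A B)
  let Ap := Localization.AtPrime p
  constructor
  · rintro ⟨h1, h2⟩
    letI : Algebra Ap (Localization.AtPrime q) := (Localization.localRingHom p q (algebraMap A B) rfl).toAlgebra
    haveI : IsLocalHom (algebraMap Ap (Localization.AtPrime q)) := Localization.isLocalHom_localRingHom p q (algebraMap A B) rfl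
    haveI : IsScalarTower A Ap (Localization.AtPrime q) := IsScalarTower.of_algebraMap_eq fun a => by
      rw [IsScalarTower.algebraMap_apply A B (Localization.AtPrime q)]
      exact (Localization.localRingHom_to_map p q (algebraMap A B) rfl a).symm
    haveI : Module.Flat A (Localization.AtPrime q) := Module.Flat.trans A B _
    haveI : Module.Flat Ap (Localization.AtPrime q) :=
      (Module.flat_iff_of_isLocalization Ap p.primeCompl (Localization.AtPrime q)).2 inferInstance
    haveI : Module.FaithfullyFlat Ap (Localization.AtPrime q) := Module.FaithfullyFlat.of_flat_of_isLocalHom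
    exact descent Ap (Localization.AtPrime q)
  · rintro ⟨h1, h2⟩
    let Bp := B ⊗[A] Ap
    haveI : Algebra.Smooth Ap Bp := Algebra.Smooth.of_equiv (Algebra.TensorProduct.commRight A Ap B)
    let N := Algebra.algebraMapSubmonoid B p.primeCompl
    have hN : Disjoint (N : Set B) (q : Set B) := Set.disjoint_left.2 fun x ⟨a, ha, hx⟩ hxq => ha (by
      subst hx; exact hxq)
    let q' : Ideal Bp := q.map (algebraMap B Bp)
    haveI : q'.IsPrime := IsLocalization.isPrime_of_isPrime_disjoint N Bp q inferInstance hN
    have hq' : q'.comap (algebraMap B Bp) = q := IsLocalization.comap_map_of_isPrime_disjoint N Bp ‹_› hN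
    have h := normal_atPrime Ap Bp q'
    haveI : IsLocalization.AtPrime (Localization.AtPrime q') q := by
      have := IsLocalization.isLocalization_isLocalization_atPrime_isLocalization N (Localization.AtPrime q') q'
      simpa only [hq'] using this
    let e := (IsLocalization.algEquiv q.primeCompl (Localization.AtPrime q') (Localization.AtPrime q)).toRingEquiv
    haveI := h.1; haveI := h.2
    exact ⟨e.toMulEquiv.isDomain_iff.1 inferInstance, @IsIntegrallyClosed.of_equiv (Localization.AtPrime q') (Localization.AtPrime q) _ _ e _⟩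

end Groth.Agent.LSmoothNormal

namespace Groth.Agent.LSmoothNormal
open CategoryTheory AlgebraicGeometry

theorem stalk_iff {X Y : Scheme.{u}} (f : X ⟶ Y) [Smooth f] (x : X) :
    (IsDomain (X.presheaf.stalk x) ∧ IsIntegrallyClosed (X.presheaf.stalk x)) ↔
      (IsDomain (Y.presheaf.stalk (f.base x)) ∧ IsIntegrallyClosed (Y.presheaf.stalk (f.base x))) := by
  obtain ⟨_, ⟨V, hV, rfl⟩, hyV, -⟩ := Y.isBasis_affineOpens.exists_subset_of_mem_open (Set.mem_univ (f.base x)) isOpen_univ
  obtain ⟨_, ⟨U, hU, rfl⟩, hxU, hUV⟩ := X.isBasis_affineOpens.exists_subset_of_mem_open (show x ∈ ((f ⁻¹ᵁ V : X.Opens) : Set X) from hyV) (f ⁻¹ᵁ V).2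
  replace hV : IsAffineOpen V := hV
  replace hU : IsAffineOpen U := hU
  have he : (f.appLE V U hUV).hom.Smooth := HasRingHomProperty.appLE @Smooth f ‹_› ⟨V, hV⟩ ⟨U, hU⟩ hUV
  algebraize [(f.appLE V U hUV).hom]
  let q := (hU.primeIdealOf ⟨x, hxU⟩).asIdeal
  let p := (hV.primeIdealOf ⟨f x, hyV⟩).asIdeal
  haveI := hU.isLocalization_stalk ⟨x, hxU⟩
  haveI := hV.isLocalization_stalk ⟨f x, hyV⟩
  letI := X.presheaf.algebra_section_stalk ⟨x, hxU⟩
  letI := Y.presheaf.algebra_section_stalk ⟨f x, hyV⟩
  let eX : ↑(X.presheaf.stalk x) ≃+* Localization.AtPrime q :=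
    (IsLocalization.algEquiv q.primeCompl _ _).toRingEquiv
  let eY : ↑(Y.presheaf.stalk (f.base x)) ≃+* Localization.AtPrime p :=
    (IsLocalization.algEquiv p.primeCompl _ _).toRingEquiv
  have hpq : q.comap (algebraMap Γ(Y, V) Γ(X, U)) = p :=
    congrArg PrimeSpectrum.asIdeal (IsAffineOpen.comap_primeIdealOf_appLE V hV U hU hUV hxU)
  have key0 : ∀ (p' : Ideal Γ(Y, V)) [p'.IsPrime], q.comap (algebraMap Γ(Y, V) Γ(X, U)) = p' →
      ((IsDomain (Localization.AtPrime q) ∧ IsIntegrallyClosed (Localization.AtPrime q)) ↔
        (IsDomain (Localization.AtPrime p') ∧ IsIntegrallyClosed (Localization.AtPrime p'))) := by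
    intro p' _ h
    subst h
    exact atPrime_iff Γ(Y, V) Γ(X, U) q
  constructor
  · rintro ⟨h1, h2⟩
    haveI := eX.symm.toMulEquiv.isDomain_iff.2 h1
    haveI := @IsIntegrallyClosed.of_equiv _ (Localization.AtPrime q) _ _ eX h2
    obtain ⟨h3, h4⟩ := (key0 p hpq).1 ⟨inferInstance, inferInstance⟩
    exact ⟨eY.toMulEquiv.isDomain_iff.2 h3, @IsIntegrallyClosed.of_equiv (Localization.AtPrime p) _ _ _ eY.symm h4⟩
  · rintro ⟨h1, h2⟩
    have h3 : IsDomain (Localization.AtPrime p) := eY.symm.toMulEquiv.isDomain_iff.2 h1
    have h4 : IsIntegrallyClosed (Localization.AtPrime p) := @IsIntegrallyClosed.of_equiv _ (Localization.AtPrime p) _ _ eY h2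
    obtain ⟨h5, h6⟩ := (key0 p hpq).2 ⟨h3, h4⟩
    exact ⟨eX.toMulEquiv.isDomain_iff.2 h5, @IsIntegrallyClosed.of_equiv (Localization.AtPrime q) _ _ _ eX.symm h6⟩

end Groth.Agent.LSmoothNormal
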