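import Mathlib
import Groth.Prelude.Def_EGA4b
import Groth.Prelude.Def_CAlg
import Groth.Prelude.Def_Found
import Groth.Agent.Lib.H2SerreAscent
import Groth.Agent.Lib.H2RegNormal
import Groth.Agent.Lib.RegularLocalBasic
import Groth.Agent.Lib.LSmoothNormal
import Groth.Agent.Lib.H2GeomRedHom
import Groth.Agent.Lib.H2AdicComplFS
set_option autoImplicit false

/-! Normal rings and normal homomorphisms. -/
namespace Groth.Agent.H2NormalHom
open IsLocalRing TensorProduct Groth.Agent.H2SerreAscent
set_option maxHeartbeats 1000000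
set_option synthInstance.maxHeartbeats 400000
set_option backward.isDefEq.respectTransparency.types false
universe u

theorem normalDomain_congr {R S : Type u} [CommRing R] [CommRing S] (e : R ≃+* S)
    (h : IsDomain R ∧ IsIntegrallyClosed R) : IsDomain S ∧ IsIntegrallyClosed S :=
  haveI := h.1
  haveI := h.2
  ⟨e.symm.toMulEquiv.isDomain, IsIntegrallyClosed.of_equiv e⟩

theorem normal_localization {R R' : Type u} [CommRing R] [CommRing R'] [Algebra R R'] (M : Submonoid R)
    [IsLocalization M R'] (h : EGA4.IsNormalRing R) : EGA4.IsNormalRing R' := fun Q _ =>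
  (exists_equiv_of_localization M Q).elim fun e => normalDomain_congr e.symm (h _)

theorem normal_congr {R S : Type u} [CommRing R] [CommRing S] (e : R ≃+* S) (h : EGA4.IsNormalRing R) : EGA4.IsNormalRing S :=
  letI : Algebra R S := e.toRingHom.toAlgebra
  haveI : IsLocalization (⊥ : Submonoid R) S :=
    IsLocalization.of_le_isUnit_of_bijective (fun x hx => by
      obtain ⟨y, rfl, rfl⟩ := hx
      simp [IsUnit.mem_submonoid_iff]) e.bijective
  normal_localization ⊥ h

theorem normal_of_local {T R : Type u} [CommRing T] [CommRing R] [Algebra T R]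
    (h : ∀ (M : Ideal T) [M.IsMaximal], EGA4.IsNormalRing (R ⊗[T] Localization.AtPrime M)) : EGA4.IsNormalRing R := by
  intro w _
  obtain ⟨M, hM, hle⟩ := Ideal.exists_le_maximal (w.comap (algebraMap T R)) (Ideal.IsPrime.ne_top inferInstance)
  let L := Localization.AtPrime M
  let S := Algebra.algebraMapSubmonoid R M.primeCompl
  haveI : IsLocalization S (R ⊗[T] L) := isLocalizedModule_iff_isLocalization.1 inferInstance
  have disj : Disjoint (S : Set R) (w : Set R) := Set.disjoint_left.2 fun x hx hxw => by
    obtain ⟨s, hs, rfl⟩ := hx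
    exact hs (hle hxw)
  let Q := w.map (algebraMap R (R ⊗[T] L))
  haveI : Q.IsPrime := IsLocalization.isPrime_of_isPrime_disjoint S (R ⊗[T] L) w inferInstance disj
  obtain ⟨e0⟩ := exists_equiv_of_localization S Q
  obtain ⟨e1⟩ := equiv_of_eq _ w (IsLocalization.under_map_of_isPrime_disjoint S (R ⊗[T] L) (inferInstance : w.IsPrime) disj)
  exact normalDomain_congr (e0.trans e1) (h M Q)

theorem normal_of_regular (R : Type u) [CommRing R] [IsRegularRing R] : EGA4.IsNormalRing R := fun p _ => by
  haveI : IsRegularLocalRing (Localization.AtPrime p) := isRegularRing_iff.1 inferInstance p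
  exact ⟨RegLocal.isDomain, H2RegNormal.isIntegrallyClosed_of_regularLocal _⟩

theorem normal_of_field (K : Type u) [Field K] : EGA4.IsNormalRing K := fun p _ =>
  haveI : IsDomain (Localization.AtPrime p) := IsLocalization.isDomain_localization p.primeCompl_le_nonZeroDivisors
  ⟨inferInstance, isIntegrallyClosed_of_isLocalization _ p.primeCompl p.primeCompl_le_nonZeroDivisors⟩

theorem fibre_normal {A B : Type u} [CommRing A] [CommRing B] [Algebra A B] (p : Ideal A) [p.IsPrime]
    (h : EGA4.IsGeomNormal p.ResidueField (p.Fiber B)) : EGA4.IsNormalRing (p.Fiber B) :=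
  normal_congr (Algebra.TensorProduct.lid p.ResidueField (p.Fiber B)).toRingEquiv (h p.ResidueField inferInstance)

theorem fibLoc_normal {A B : Type u} [CommRing A] [CommRing B] [Algebra A B]
    (h : ∀ (p : Ideal A) [p.IsPrime], EGA4.IsNormalRing (p.Fiber B)) (q : Ideal B) [q.IsPrime] :
    IsDomain (EGA4.FibLocRing A B q) ∧ IsIntegrallyClosed (EGA4.FibLocRing A B q) := by
  obtain ⟨P, hP, ⟨e⟩⟩ := exists_fibre_equiv (A := A) q
  exact normalDomain_congr e (h _ P)

theorem ascend {A B : Type u} [CommRing A] [CommRing B] [IsNoetherianRing A] [IsNoetherianRing B] [Algebra A B] [Module.Flat A B]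
    (hA : EGA4.IsNormalRing A) (h : ∀ (p : Ideal A) [p.IsPrime], EGA4.IsNormalRing (p.Fiber B)) : EGA4.IsNormalRing B := fun q _ =>
  haveI := (hA (q.comap (algebraMap A B))).1
  haveI := (hA (q.comap (algebraMap A B))).2
  normal_ascend (fun q _ => fibLoc_normal h q) q

theorem descend {A B : Type u} [CommRing A] [CommRing B] [Algebra A B] [Module.FaithfullyFlat A B]
    (hB : EGA4.IsNormalRing B) : EGA4.IsNormalRing A := fun p _ => by
  obtain ⟨⟨q, hq⟩, hqp⟩ := PrimeSpectrum.comap_surjective_of_faithfullyFlat (A := A) (B := B) ⟨p, ‹_›⟩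
  haveI := hq
  haveI : q.LiesOver p := ⟨(congrArg PrimeSpectrum.asIdeal hqp).symm⟩
  letI := Localization.AtPrime.algebraOfLiesOver p q
  haveI : Module.Flat A (Localization.AtPrime q) := Module.Flat.trans A B _
  haveI : Module.Flat (Localization.AtPrime p) (Localization.AtPrime q) :=
    (Module.flat_iff_of_isLocalization (Localization.AtPrime p) p.primeCompl _).2 inferInstance
  haveI : IsLocalHom (algebraMap (Localization.AtPrime p) (Localization.AtPrime q)) :=
    Localization.isLocalHom_localRingHom p q (algebraMap A B) (q.over_def p)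
  haveI : Module.FaithfullyFlat (Localization.AtPrime p) (Localization.AtPrime q) := Module.FaithfullyFlat.of_flat_of_isLocalHom
  haveI := (hB q).1
  haveI := (hB q).2
  exact LSmoothNormal.descent (Localization.AtPrime p) (Localization.AtPrime q)

/-- The base changes `k' ⊗ B` to finite extensions of the residue fields are normal. -/
def NormalBC (A B : Type u) [CommRing A] [CommRing B] [Algebra A B] : Prop :=
  ∀ (p : Ideal A) [p.IsPrime] (k' : Type u) [Field k'] [Algebra p.ResidueField k'] [Algebra A k']
    [IsScalarTower A p.ResidueField k'], Module.Finite p.ResidueField k' → EGA4.IsNormalRing (k' ⊗[A] B)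

theorem normalBC_iff {A B : Type u} [CommRing A] [CommRing B] [Algebra A B] :
    NormalBC A B ↔ ∀ (p : Ideal A) [p.IsPrime], EGA4.IsGeomNormal p.ResidueField (p.Fiber B) := by
  constructor
  · intro h p _ k' _ _ hf
    letI : Algebra A k' := ((algebraMap p.ResidueField k').comp (algebraMap A p.ResidueField)).toAlgebra
    haveI : IsScalarTower A p.ResidueField k' := IsScalarTower.of_algebraMap_eq' rfl
    exact normal_congr (Algebra.TensorProduct.cancelBaseChange A p.ResidueField k' k' B).symm.toRingEquiv (h p k' hf)
  · intro h p _ k' _ _ _ _ hf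
    exact normal_congr (Algebra.TensorProduct.cancelBaseChange A p.ResidueField k' k' B).toRingEquiv (h p k' hf)

/-- The residue field of a point of `B ⊗ k'` is finite over that of its image in `Spec B`. -/
theorem residue_finite {A B : Type u} [CommRing A] [CommRing B] [Algebra A B] (p : Ideal A) [p.IsPrime]
    (k' : Type u) [Field k'] [Algebra p.ResidueField k'] [Algebra A k'] [IsScalarTower A p.ResidueField k']
    [Module.Finite p.ResidueField k'] (Q : Ideal (B ⊗[A] k')) [Q.IsPrime]
    [Algebra (Q.comap (algebraMap B (B ⊗[A] k'))).ResidueField Q.ResidueField]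
    [IsScalarTower B (Q.comap (algebraMap B (B ⊗[A] k'))).ResidueField Q.ResidueField] :
    Module.Finite (Q.comap (algebraMap B (B ⊗[A] k'))).ResidueField Q.ResidueField := by
  let T := B ⊗[A] k'
  let q := Q.comap (algebraMap B T)
  let L := Q.ResidueField
  let ι : k' →ₐ[A] L := (IsScalarTower.toAlgHom A T L).comp (Algebra.TensorProduct.includeRight : k' →ₐ[A] B ⊗[A] k')
  haveI : IsScalarTower A q.ResidueField L := IsScalarTower.of_algebraMap_eq fun a => by
    rw [IsScalarTower.algebraMap_apply A T L, IsScalarTower.algebraMap_apply A B T,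
      ← IsScalarTower.algebraMap_apply B T L, IsScalarTower.algebraMap_apply B q.ResidueField L,
      ← IsScalarTower.algebraMap_apply A B q.ResidueField]
  let V : Subalgebra q.ResidueField L := Algebra.adjoin q.ResidueField (Set.range ι)
  have hqp : q.comap (algebraMap A B) = p := by
    ext a
    constructor
    · intro ha
      by_contra hap
      have h1 : IsUnit (algebraMap A k' a) := by
        rw [IsScalarTower.algebraMap_apply A p.ResidueField k']
        exact ((isUnit_iff_ne_zero).2 fun h0 => hap (Ideal.algebraMap_residueField_eq_zero.1 h0)).map _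
      have h2 : algebraMap A T a ∈ Q := by rw [IsScalarTower.algebraMap_apply A B T]; exact ha
      exact ‹Q.IsPrime›.ne_top (Ideal.eq_top_of_isUnit_mem _ h2 (by
        have h3 := h1.map (Algebra.TensorProduct.includeRight : k' →ₐ[A] B ⊗[A] k')
        rwa [AlgHom.commutes] at h3))
    · intro ha
      show algebraMap B T (algebraMap A B a) ∈ Q
      rw [← IsScalarTower.algebraMap_apply, ← (Algebra.TensorProduct.includeRight : k' →ₐ[A] B ⊗[A] k').commutes a,
        IsScalarTower.algebraMap_apply A p.ResidueField k', Ideal.algebraMap_residueField_eq_zero.2 ha, map_zero, map_zero]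
      exact Q.zero_mem
  let j : p.ResidueField →+* q.ResidueField := Ideal.ResidueField.map p q (algebraMap A B) hqp.symm
  have hj : (algebraMap q.ResidueField L).comp j = (ι : k' →+* L).comp (algebraMap p.ResidueField k') := by
    refine Ideal.ResidueField.ringHom_ext (RingHom.ext fun a => ?_)
    simp only [RingHom.comp_apply]
    rw [← IsScalarTower.algebraMap_apply A p.ResidueField k', RingHom.coe_coe, ι.commutes]
    simp only [j, Ideal.ResidueField.map_algebraMap]
    rw [IsScalarTower.algebraMap_apply A T L, IsScalarTower.algebraMap_apply A B T,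
      ← IsScalarTower.algebraMap_apply B q.ResidueField L, IsScalarTower.algebraMap_apply B T L]
  have hint : ∀ x : k', IsIntegral q.ResidueField (ι x) := by
    intro x
    obtain ⟨f, hf, hfx⟩ := Algebra.IsIntegral.isIntegral (R := p.ResidueField) x
    refine ⟨f.map j, hf.map j, ?_⟩
    rw [Polynomial.eval₂_map, hj]
    exact ((Polynomial.hom_eval₂ f (algebraMap p.ResidueField k') (ι : k' →+* L) x).symm.trans
      (by rw [hfx, map_zero]))
  haveI hV : Module.Finite q.ResidueField V := by
    obtain ⟨n, b, hb⟩ := Module.Finite.exists_fin (R := p.ResidueField) (M := k')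
    suffices hfg : (Subalgebra.toSubmodule V).FG from Module.Finite.iff_fg.2 hfg
    have hVe : V = Algebra.adjoin q.ResidueField (Set.range (ι ∘ b)) := by
      refine le_antisymm (Algebra.adjoin_le ?_) (Algebra.adjoin_mono (Set.range_comp_subset_range b ι))
      rintro _ ⟨x, rfl⟩
      have hx : x ∈ Submodule.span p.ResidueField (Set.range b) := hb ▸ Submodule.mem_top
      induction hx using Submodule.span_induction with
      | mem y hy => obtain ⟨i, rfl⟩ := hy; exact Algebra.subset_adjoin ⟨i, rfl⟩
      | zero => rw [map_zero]; exact zero_mem _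
      | add y z _ _ h1 h2 => rw [map_add]; exact add_mem h1 h2
      | smul c y _ h1 =>
        rw [Algebra.smul_def, map_mul]
        refine mul_mem ?_ h1
        rw [← RingHom.coe_coe ι, ← RingHom.comp_apply, ← hj]
        exact Subalgebra.algebraMap_mem _ _
    rw [hVe]
    exact fg_adjoin_of_finite (Set.finite_range _) (by rintro _ ⟨i, rfl⟩; exact hint (b i))
  have hT : ∀ t : T, algebraMap T L t ∈ V := by
    intro t
    induction t using TensorProduct.induction_on with
    | zero => rw [map_zero]; exact zero_mem _
    | add x y hx hy => rw [map_add]; exact add_mem hx hy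
    | tmul b x =>
      have e : (b ⊗ₜ[A] x : T) = algebraMap B T b * Algebra.TensorProduct.includeRight x := by simp [T]
      rw [e, map_mul, ← IsScalarTower.algebraMap_apply B T L, IsScalarTower.algebraMap_apply B q.ResidueField L]
      exact mul_mem (Subalgebra.algebraMap_mem _ _) (Algebra.subset_adjoin ⟨x, rfl⟩)
  refine Module.Finite.of_surjective V.val.toLinearMap fun z => ?_
  obtain ⟨a, s, hs, rfl⟩ := IsFractionRing.div_surjective (A := T ⧸ Q) z
  obtain ⟨a, rfl⟩ := Ideal.Quotient.mk_surjective a
  obtain ⟨s, rfl⟩ := Ideal.Quotient.mk_surjective s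
  simp only [Ideal.algebraMap_quotient_residueField_mk]
  refine ⟨⟨_, ?_⟩, rfl⟩
  refine mul_mem (hT a) ?_
  have hs' : IsIntegral q.ResidueField (algebraMap T L s) := isIntegral_algHom_iff V.val Subtype.val_injective |>.2
    (Algebra.IsIntegral.isIntegral (R := q.ResidueField) (⟨_, hT s⟩ : V))
  exact V.inv_mem_of_algebraic (x := ⟨_, hT s⟩) hs'.isAlgebraic

theorem comp {A B C : Type u} [CommRing A] [CommRing B] [CommRing C] [IsNoetherianRing B] [IsNoetherianRing C]
    [Algebra A B] [Algebra B C] [Algebra A C] [IsScalarTower A B C] [Module.Flat B C]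
    (hAB : NormalBC A B) (hBC : NormalBC B C) : NormalBC A C := by
  intro p _ k' _ _ _ _ hf
  haveI := hf
  haveI : Algebra.EssFiniteType A k' := Algebra.EssFiniteType.comp A p.ResidueField k'
  let T := B ⊗[A] k'
  let U := T ⊗[B] C
  haveI : IsNoetherianRing T := Algebra.EssFiniteType.isNoetherianRing B _
  haveI : IsNoetherianRing U := H2GeomRedHom.isNoetherianRing_tensor B C T
  have hT : EGA4.IsNormalRing T := normal_congr (Algebra.TensorProduct.comm A k' B).toRingEquiv (hAB p k' hf)
  have hU : EGA4.IsNormalRing U := by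
    refine ascend hT fun Q _ => ?_
    let q := Q.comap (algebraMap B T)
    letI : Algebra q.ResidueField Q.ResidueField := (Ideal.ResidueField.map q Q (algebraMap B T) rfl).toAlgebra
    haveI : IsScalarTower B q.ResidueField Q.ResidueField := IsScalarTower.of_algebraMap_eq fun b => by
      simp [RingHom.algebraMap_toAlgebra, ← IsScalarTower.algebraMap_apply]
    exact normal_congr (Algebra.TensorProduct.cancelBaseChange B T Q.ResidueField Q.ResidueField C).symm.toRingEquiv
      (hBC q Q.ResidueField (residue_finite p k' Q))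
  exact normal_congr (((Algebra.TensorProduct.comm B T C).toRingEquiv.trans
    (Algebra.TensorProduct.cancelBaseChange A B B C k').toRingEquiv).trans
      (Algebra.TensorProduct.comm A C k').toRingEquiv) hU

theorem of_regularHom {A B : Type u} [CommRing A] [CommRing B] [Algebra A B] (h : CAlg.IsRegularHom A B) : NormalBC A B :=
  normalBC_iff.2 fun p _ k' _ _ hf => haveI := (h.2 p).2 k' hf; normal_of_regular _

theorem descend_hom {A B C : Type u} [CommRing A] [CommRing B] [CommRing C] [Algebra A B] [Algebra B C] [Algebra A C]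
    [IsScalarTower A B C] [Module.FaithfullyFlat B C] (h : NormalBC A C) : NormalBC A B := by
  intro p _ k' _ _ _ _ hf
  let T := B ⊗[A] k'
  have hU : EGA4.IsNormalRing (T ⊗[B] C) := normal_congr (((Algebra.TensorProduct.comm B T C).toRingEquiv.trans
    (Algebra.TensorProduct.cancelBaseChange A B B C k').toRingEquiv).trans
      (Algebra.TensorProduct.comm A C k').toRingEquiv).symm (h p k' hf)
  exact normal_congr (Algebra.TensorProduct.comm A B k').toRingEquiv (descend hU)

/-- Localisation is a normal homomorphism. -/
theorem localization {A A' : Type u} [CommRing A] [CommRing A'] [Algebra A A'] (M : Submonoid A) [IsLocalization M A'] :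
    NormalBC A A' := by
  intro p _ k' _ _ _ _ hf
  haveI : IsLocalization (Algebra.algebraMapSubmonoid k' M) (k' ⊗[A] A') :=
    isLocalizedModule_iff_isLocalization.1 inferInstance
  exact normal_localization (Algebra.algebraMapSubmonoid k' M) (normal_of_field k')

theorem dense_loc {A : Type u} [CommRing A] {I : Ideal A} (hI : I.FG) (m : Ideal A) (M : Ideal (AdicCompletion I A))
    [hm : m.IsMaximal] [M.IsPrime] (hIm : I ≤ m) (hIM : I.map (algebraMap A (AdicCompletion I A)) ≤ M)
    (hmc : m = M.comap (algebraMap A (AdicCompletion I A))) (n : ℕ) (x : Localization.AtPrime M) :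
    ∃ a, x - algebraMap A (Localization.AtPrime M) a ∈ (m.map (algebraMap A (Localization.AtPrime M))) ^ n := by
  let T := AdicCompletion I A
  let L := Localization.AtPrime M
  rcases Nat.eq_zero_or_pos n with rfl | hn0
  · exact ⟨0, by simp⟩
  obtain ⟨⟨r, s⟩, hxs⟩ := IsLocalization.surj M.primeCompl x
  obtain ⟨a, ha⟩ := Groth.Agent.H2AdicComplFS.exists_sub_mem hI n r
  obtain ⟨b, hb⟩ := Groth.Agent.H2AdicComplFS.exists_sub_mem hI n (s : T)
  have hmn : ∀ z ∈ (I.map (algebraMap A T)) ^ n, algebraMap T L z ∈ (m.map (algebraMap A L)) ^ n := fun z hz => by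
    rw [IsScalarTower.algebraMap_eq A T L, ← Ideal.map_map, ← Ideal.map_pow]
    exact Ideal.mem_map_of_mem _ (Ideal.pow_right_mono (Ideal.map_mono hIm) n hz)
  have hbm : b ∉ m := fun hb' => s.2 (by
    rw [← sub_add_cancel (s : T) (algebraMap A T b)]
    exact add_mem (hIM (Ideal.pow_le_self hn0.ne' hb)) (hmc.le hb'))
  obtain ⟨c, hc⟩ : ∃ c, b * c - 1 ∈ m ^ n := by
    have htop : Ideal.span {b} ⊔ m ^ n = ⊤ := Ideal.sup_pow_eq_top (by
      by_contra hne
      exact hbm ((hm.eq_of_le hne le_sup_right).ge (Ideal.mem_sup_left (Ideal.mem_span_singleton_self b))))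
    obtain ⟨u, hu', v, hv, huv⟩ := Submodule.mem_sup.1 ((Ideal.eq_top_iff_one _).1 htop)
    obtain ⟨c, rfl⟩ := Ideal.mem_span_singleton.1 hu'
    exact ⟨c, by rw [← huv]; simpa using neg_mem hv⟩
  refine ⟨a * c, ?_⟩
  have hsu : IsUnit (algebraMap T L s) := IsLocalization.map_units L s
  refine (Ideal.unit_mul_mem_iff_mem _ hsu).1 ?_
  have h1 := hmn _ ha
  have h2 := hmn _ hb
  have h3 : algebraMap A L (b * c - 1) ∈ (m.map (algebraMap A L)) ^ n := by
    rw [← Ideal.map_pow]; exact Ideal.mem_map_of_mem _ hc
  simp only [map_sub, map_mul, map_one, ← IsScalarTower.algebraMap_apply] at h1 h2 h3 ⊢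
  have h4 : algebraMap T L s * (x - algebraMap A L a * algebraMap A L c) =
      (algebraMap T L r - algebraMap A L a) - algebraMap A L a * algebraMap A L c * (algebraMap T L s - algebraMap A L b)
        - algebraMap A L a * (algebraMap A L b * algebraMap A L c - 1) := by
    rw [← hxs]; ring
  rw [h4]
  exact sub_mem (sub_mem h1 (Ideal.mul_mem_left _ _ h2)) (Ideal.mul_mem_left _ _ h3)

end Groth.Agent.H2NormalHom
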