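import Mathlib
import Groth.Prelude.Def_EGA4b
import Groth.Prelude.Def_CAlg
import Groth.Agent.Lib.H2NormalHom
import Groth.Agent.Lib.H2Depth
import Groth.Agent.S9437
import Groth.Agent.S0341
import Groth.Agent.Lib.GorensteinRings
set_option autoImplicit false

/-! Homomorphisms with `(S_n)` fibres; Cohen–Macaulay rings as rings with all `(S_n)`. -/
namespace Groth.Agent.H2SkHom
open IsLocalRing TensorProduct Groth.Agent.H2SerreAscent
set_option maxHeartbeats 1000000
set_option synthInstance.maxHeartbeats 400000
set_option backward.isDefEq.respectTransparency.types false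
universe u

theorem hasSk_congr {k : ℕ} {R S : Type u} [CommRing R] [CommRing S] [IsNoetherianRing R] (e : R ≃+* S)
    (h : LocCoh.HasSk k R R) : LocCoh.HasSk k S S := (hasSk_iff k).2 fun P _ => by
  haveI : IsNoetherianRing (Localization.AtPrime (P.comap e.toRingHom)) :=
    IsLocalization.isNoetherianRing (P.comap e.toRingHom).primeCompl _ inferInstance
  exact skLoc_congr (Localization.localRingEquiv (P.comap e.toRingHom) P e rfl) ((hasSk_iff k).1 h _)

theorem hasSk_localization {k : ℕ} {R R' : Type u} [CommRing R] [CommRing R'] [IsNoetherianRing R] [Algebra R R']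
    (M : Submonoid R) [IsLocalization M R'] (h : LocCoh.HasSk k R R) : LocCoh.HasSk k R' R' := (hasSk_iff k).2 fun Q _ => by
  obtain ⟨e⟩ := exists_equiv_of_localization M Q
  haveI : IsNoetherianRing (Localization.AtPrime (Q.comap (algebraMap R R'))) :=
    IsLocalization.isNoetherianRing (Q.comap (algebraMap R R')).primeCompl _ inferInstance
  exact skLoc_congr e.symm ((hasSk_iff k).1 h _)

theorem skLoc_of_cm (k : ℕ) (R : Type u) [CommRing R] [LocCoh.IsCohenMacaulayLocalRing R] : SkLoc k R :=
  (min_le_right _ _).trans ((Module.supportDim_self_eq_ringKrullDim (R := R)).symm.trans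
    LocCoh.IsCohenMacaulayLocalRing.supportDim_eq_depth).le

theorem hasSk_of_cm (k : ℕ) (R : Type u) [CommRing R] [LocCoh.IsCohenMacaulayRing R] : LocCoh.HasSk k R R :=
  (hasSk_iff k).2 fun p _ =>
    haveI := LocCoh.IsCohenMacaulayRing.isCohenMacaulayLocalRing_localization (R := R) p
    skLoc_of_cm k _

theorem depth_le_dim (R : Type u) [CommRing R] [IsLocalRing R] [IsNoetherianRing R] :
    ((LocCoh.depth R R : ℕ∞) : WithBot ℕ∞) ≤ ringKrullDim R := by
  have hne : maximalIdeal R • (⊤ : Submodule R R) ≠ ⊤ := by
    rw [Ideal.smul_eq_mul, Ideal.mul_top]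
    exact (maximalIdeal.isMaximal R).ne_top
  obtain ⟨p, hp⟩ := associatedPrimes.nonempty R R
  have key : ∀ j : ℕ, (j : ℕ∞) ≤ LocCoh.depth R R → (j : WithBot ℕ∞) ≤ ringKrullDim R := fun j hj =>
    (H2Depth.hasReg_le_dim_quotient ((H2Depth.hasReg_iff_le_idealDepth hne).2 hj) p hp).trans
      (ringKrullDim_le_of_surjective _ Ideal.Quotient.mk_surjective)
  cases hd : LocCoh.depth R R using ENat.recTopCoe with
  | top =>
    have h0 := ringKrullDim_ne_top (R := R)
    have h1 := ringKrullDim_ne_bot (R := R)
    cases hx : ringKrullDim R with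
    | bot => exact absurd hx h1
    | coe x => cases x using ENat.recTopCoe with
      | top => exact absurd hx h0
      | coe n =>
        have h2 := key (n + 1) (by rw [hd]; exact le_top)
        rw [hx] at h2
        exact absurd (WithBot.coe_le_coe.1 h2) (by exact_mod_cast Nat.not_succ_le_self n)
  | coe j => exact key j hd.ge

theorem cm_of_hasSk {R : Type u} [CommRing R] [IsNoetherianRing R] (h : ∀ k, LocCoh.HasSk k R R) :
    LocCoh.IsCohenMacaulayRing R := ⟨fun p _ => by
  haveI : IsNoetherianRing (Localization.AtPrime p) := IsLocalization.isNoetherianRing p.primeCompl _ inferInstance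
  refine { supportDim_eq_depth := ?_ }
  rw [Module.supportDim_self_eq_ringKrullDim]
  refine le_antisymm ?_ (depth_le_dim _)
  obtain ⟨d, hd⟩ : ∃ d : ℕ, ringKrullDim (Localization.AtPrime p) ≤ d := by
    cases hx : ringKrullDim (Localization.AtPrime p) with
    | bot => exact ⟨0, bot_le⟩
    | coe x => cases x using ENat.recTopCoe with
      | top => exact absurd hx ringKrullDim_ne_top
      | coe n => exact ⟨n, le_rfl⟩
  exact (le_min hd le_rfl).trans ((hasSk_iff d).1 (h d) p)⟩

theorem residue_surjective {A B : Type u} [CommRing A] [CommRing B] [Algebra A B] (p : Ideal A) [p.IsPrime]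
    (Q : Ideal (B ⊗[A] p.ResidueField)) [Q.IsPrime]
    [Algebra (Q.comap (algebraMap B (B ⊗[A] p.ResidueField))).ResidueField Q.ResidueField]
    [IsScalarTower B (Q.comap (algebraMap B (B ⊗[A] p.ResidueField))).ResidueField Q.ResidueField] :
    Function.Surjective (algebraMap (Q.comap (algebraMap B (B ⊗[A] p.ResidueField))).ResidueField Q.ResidueField) := by
  let T := B ⊗[A] p.ResidueField
  let q := Q.comap (algebraMap B T)
  let L := Q.ResidueField
  let ι : p.ResidueField →ₐ[A] L := (IsScalarTower.toAlgHom A T L).comp (Algebra.TensorProduct.includeRight : p.ResidueField →ₐ[A] B ⊗[A] p.ResidueField)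
  haveI : IsScalarTower A q.ResidueField L := IsScalarTower.of_algebraMap_eq fun a => by
    rw [IsScalarTower.algebraMap_apply A T L, IsScalarTower.algebraMap_apply A B T,
      ← IsScalarTower.algebraMap_apply B T L, IsScalarTower.algebraMap_apply B q.ResidueField L,
      ← IsScalarTower.algebraMap_apply A B q.ResidueField]
  have hqp : q.comap (algebraMap A B) = p := by
    ext a
    constructor
    · intro ha
      by_contra hap
      have h1 : IsUnit (algebraMap A p.ResidueField a) := by
        exact (isUnit_iff_ne_zero).2 fun h0 => hap (Ideal.algebraMap_residueField_eq_zero.1 h0)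
      have h2 : algebraMap A T a ∈ Q := by rw [IsScalarTower.algebraMap_apply A B T]; exact ha
      exact ‹Q.IsPrime›.ne_top (Ideal.eq_top_of_isUnit_mem _ h2 (by
        have h3 := h1.map (Algebra.TensorProduct.includeRight : p.ResidueField →ₐ[A] B ⊗[A] p.ResidueField)
        rwa [AlgHom.commutes] at h3))
    · intro ha
      show algebraMap B T (algebraMap A B a) ∈ Q
      rw [← IsScalarTower.algebraMap_apply, ← (Algebra.TensorProduct.includeRight : p.ResidueField →ₐ[A] B ⊗[A] p.ResidueField).commutes a,
        Ideal.algebraMap_residueField_eq_zero.2 ha, map_zero]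
      exact Q.zero_mem
  let j : p.ResidueField →+* q.ResidueField := Ideal.ResidueField.map p q (algebraMap A B) hqp.symm
  have hj : (algebraMap q.ResidueField L).comp j = (ι : p.ResidueField →+* L).comp (algebraMap p.ResidueField p.ResidueField) := by
    refine Ideal.ResidueField.ringHom_ext (RingHom.ext fun a => ?_)
    simp only [RingHom.comp_apply]
    rw [Algebra.algebraMap_self_apply, RingHom.coe_coe, ι.commutes]
    simp only [j, Ideal.ResidueField.map_algebraMap]
    rw [IsScalarTower.algebraMap_apply A T L, IsScalarTower.algebraMap_apply A B T,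
      ← IsScalarTower.algebraMap_apply B q.ResidueField L, IsScalarTower.algebraMap_apply B T L]
  let V := (algebraMap q.ResidueField L).range
  have hT : ∀ t : T, algebraMap T L t ∈ V := by
    intro t
    induction t using TensorProduct.induction_on with
    | zero => rw [map_zero]; exact zero_mem _
    | add x y hx hy => rw [map_add]; exact add_mem hx hy
    | tmul b x =>
      have e : (b ⊗ₜ[A] x : T) = algebraMap B T b * Algebra.TensorProduct.includeRight x := by simp [T]
      rw [e, map_mul, ← IsScalarTower.algebraMap_apply B T L, IsScalarTower.algebraMap_apply B q.ResidueField L]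
      exact mul_mem ⟨_, rfl⟩ ⟨j x, (RingHom.congr_fun hj x).trans rfl⟩
  intro z
  obtain ⟨a, s, hs, rfl⟩ := IsFractionRing.div_surjective (A := T ⧸ Q) z
  obtain ⟨a, rfl⟩ := Ideal.Quotient.mk_surjective a
  obtain ⟨s, rfl⟩ := Ideal.Quotient.mk_surjective s
  simp only [Ideal.algebraMap_quotient_residueField_mk]
  obtain ⟨a', ha'⟩ := hT a
  obtain ⟨s', hs'⟩ := hT s
  exact ⟨a' / s', by rw [map_div₀, ha', hs']⟩

/-- All fibres satisfy `(S_n)`. -/
def SkFib (n : ℕ) (A B : Type u) [CommRing A] [CommRing B] [Algebra A B] : Prop :=
  ∀ (p : Ideal A) [p.IsPrime], LocCoh.HasSk n (p.Fiber B) (p.Fiber B)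

theorem skFib_comp {n : ℕ} {A B C : Type u} [CommRing A] [CommRing B] [CommRing C] [IsNoetherianRing B] [IsNoetherianRing C]
    [Algebra A B] [Algebra B C] [Algebra A C] [IsScalarTower A B C] [Module.Flat B C]
    (hAB : SkFib n A B) (hBC : SkFib n B C) : SkFib n A C := by
  intro p _
  haveI : IsNoetherianRing (p.Fiber B) := H2GeomRedHom.isNoetherianRing_tensor A B p.ResidueField
  let T := B ⊗[A] p.ResidueField
  let U := T ⊗[B] C
  haveI : IsNoetherianRing T := Algebra.EssFiniteType.isNoetherianRing B _
  haveI : IsNoetherianRing U := H2GeomRedHom.isNoetherianRing_tensor B C T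
  have hT : LocCoh.HasSk n T T := hasSk_congr (Algebra.TensorProduct.comm A p.ResidueField B).toRingEquiv (hAB p)
  have hU : LocCoh.HasSk n U U := by
    refine hasSk_ascend hT fun Q _ => ?_
    let q := Q.comap (algebraMap B T)
    letI : Algebra q.ResidueField Q.ResidueField := (Ideal.ResidueField.map q Q (algebraMap B T) rfl).toAlgebra
    haveI : IsScalarTower B q.ResidueField Q.ResidueField := IsScalarTower.of_algebraMap_eq fun b => by
      simp [RingHom.algebraMap_toAlgebra, ← IsScalarTower.algebraMap_apply]
    haveI : IsNoetherianRing (q.Fiber C) := H2GeomRedHom.isNoetherianRing_tensor B C q.ResidueField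
    let e : q.ResidueField ≃ₐ[B] Q.ResidueField := AlgEquiv.ofBijective (IsScalarTower.toAlgHom B _ _)
      ⟨(algebraMap q.ResidueField Q.ResidueField).injective, residue_surjective p Q⟩
    exact hasSk_congr ((Algebra.TensorProduct.congr e AlgEquiv.refl).toRingEquiv.trans
      (Algebra.TensorProduct.cancelBaseChange B T Q.ResidueField Q.ResidueField C).symm.toRingEquiv) (hBC q)
  exact hasSk_congr (((Algebra.TensorProduct.comm B T C).toRingEquiv.trans
    (Algebra.TensorProduct.cancelBaseChange A B B C p.ResidueField).toRingEquiv).trans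
      (Algebra.TensorProduct.comm A C p.ResidueField).toRingEquiv) hU

theorem skFib_descend {n : ℕ} {A B C : Type u} [CommRing A] [CommRing B] [CommRing C] [IsNoetherianRing C]
    [Algebra A B] [Algebra B C] [Algebra A C] [IsScalarTower A B C] [Module.FaithfullyFlat B C]
    (hAC : SkFib n A C) : SkFib n A B := by
  intro p _
  let T := B ⊗[A] p.ResidueField
  haveI : IsNoetherianRing (p.Fiber C) := H2GeomRedHom.isNoetherianRing_tensor A C p.ResidueField
  let e := (((Algebra.TensorProduct.comm B T C).toRingEquiv.trans
    (Algebra.TensorProduct.cancelBaseChange A B B C p.ResidueField).toRingEquiv).trans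
      (Algebra.TensorProduct.comm A C p.ResidueField).toRingEquiv).symm
  haveI : IsNoetherianRing (T ⊗[B] C) := isNoetherianRing_of_ringEquiv _ e
  obtain ⟨hN, hS⟩ := Groth.Agent.S9437.result n T (T ⊗[B] C) (hasSk_congr e (hAC p))
  haveI := hN
  exact hasSk_congr (Algebra.TensorProduct.comm A p.ResidueField B).toRingEquiv.symm hS

theorem cm_of_regular (R : Type u) [CommRing R] [IsRegularRing R] : LocCoh.IsCohenMacaulayRing R := ⟨fun p _ => by
  haveI : IsRegularLocalRing (Localization.AtPrime p) := isRegularRing_iff.1 inferInstance p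
  haveI := GorensteinRings.gor_of_regular (Localization.AtPrime p)
  exact Groth.Agent.S0341.result _⟩

theorem skFib_of_regularHom (n : ℕ) {A B : Type u} [CommRing A] [CommRing B] [Algebra A B] (h : CAlg.IsRegularHom A B) :
    SkFib n A B := fun p _ => by
  haveI := (h.2 p).2 p.ResidueField inferInstance
  haveI : IsRegularRing (p.Fiber B) := IsRegularRing.of_ringEquiv (R := p.ResidueField ⊗[p.ResidueField] p.Fiber B) (Algebra.TensorProduct.lid p.ResidueField (p.Fiber B)).toRingEquiv
  haveI := cm_of_regular (p.Fiber B)
  exact hasSk_of_cm n _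

theorem flat_descend {A B C : Type u} [CommRing A] [CommRing B] [CommRing C] [Algebra A B] [Algebra B C] [Algebra A C]
    [IsScalarTower A B C] [Module.FaithfullyFlat B C] [Module.Flat A C] : Module.Flat A B := by
  rw [Module.Flat.iff_lTensor_preserves_injective_linearMap]
  intro M N _ _ _ _ g hg
  let gB := TensorProduct.AlgebraTensorModule.map (R := A) (A := B) (LinearMap.id : B →ₗ[B] B) g
  suffices hgB : Function.Injective gB from hgB
  rw [← Module.FaithfullyFlat.lTensor_injective_iff_injective B C]
  let eM := TensorProduct.AlgebraTensorModule.cancelBaseChange A B C C M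
  let eN := TensorProduct.AlgebraTensorModule.cancelBaseChange A B C C N
  have hC : Function.Injective (g.lTensor C) :=
    Module.Flat.lTensor_preserves_injective_linearMap g hg
  have key : ∀ x, eN (gB.lTensor C x) = g.lTensor C (eM x) := by
    intro x
    induction x using TensorProduct.induction_on with
    | zero => simp
    | tmul c y =>
      induction y using TensorProduct.induction_on with
      | zero => simp
      | tmul b m => simp [gB, eM, eN]
      | add y y' hy hy' => simp only [TensorProduct.tmul_add, map_add, hy, hy']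
    | add x y hx hy => simp only [map_add, hx, hy]
  intro x y hxy
  exact eM.injective (hC (by rw [← key, ← key, hxy]))

end Groth.Agent.H2SkHom
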