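import Mathlib
import Groth.Prelude.Def_EGA4b
import Groth.Prelude.Def_CAlg
import Groth.Agent.Lib.H2SkHom
import Groth.Agent.Lib.H2RegNormal
import Groth.Agent.Lib.GorensteinFibres
import Groth.Agent.S8948
set_option autoImplicit false

/-! Flat maps with Cohen–Macaulay fibres; tensor products of fields. -/
namespace Groth.Agent.H2CMFibre
open IsLocalRing TensorProduct RingTheory.Sequence Groth.Agent.H2SerreAscent Groth.Agent.H2SkHom
set_option maxHeartbeats 1000000
set_option synthInstance.maxHeartbeats 400000
set_option backward.isDefEq.respectTransparency.types false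
universe u

/-- The codepth of a flat local map with Cohen–Macaulay closed fibre is invariant. -/
theorem codepth_eq {A B : Type u} [CommRing A] [CommRing B] [IsLocalRing A] [IsLocalRing B] [IsNoetherianRing A] [IsNoetherianRing B]
    [Algebra A B] [IsLocalHom (algebraMap A B)] [Module.Flat A B]
    [LocCoh.IsCohenMacaulayLocalRing (B ⧸ ((maximalIdeal A).map (algebraMap A B)))] :
    ringKrullDim A + ((LocCoh.depth B B : ℕ∞) : WithBot ℕ∞) = ringKrullDim B + ((LocCoh.depth A A : ℕ∞) : WithBot ℕ∞) := by
  have hne : ∀ (R : Type u) [CommRing R] [IsLocalRing R], maximalIdeal R • (⊤ : Submodule R R) ≠ ⊤ := fun R _ _ => by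
    rw [Ideal.smul_eq_mul, Ideal.mul_top]
    exact (maximalIdeal.isMaximal R).ne_top
  haveI : Module.FaithfullyFlat A B := Module.FaithfullyFlat.of_flat_of_isLocalHom
  let F := B ⧸ ((maximalIdeal A).map (algebraMap A B))
  obtain ⟨f, hf⟩ : ∃ f : ℕ, ringKrullDim F = f := by
    cases hx : ringKrullDim F with
    | bot => exact absurd hx ringKrullDim_ne_bot
    | coe x => cases x using ENat.recTopCoe with
      | top => exact absurd hx ringKrullDim_ne_top
      | coe n => exact ⟨n, rfl⟩
  have hdF : LocCoh.depth F F = (f : ℕ∞) := by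
    have := LocCoh.IsCohenMacaulayLocalRing.supportDim_eq_depth (R := F)
    rw [Module.supportDim_self_eq_ringKrullDim, hf] at this
    exact_mod_cast this.symm
  obtain ⟨rs, h1, h2, h3, h4⟩ := H2Depth.exists_idealDepth_eq (hne A)
  have hlow := H2FlatAscent.depth_add_le (B := B) (i := rs.length) (j := f) h4.ge hdF.ge
  obtain ⟨u, hu, hkill⟩ := H2Depth.exists_killed_of_noReg h3
  obtain ⟨u, rfl⟩ := Submodule.Quotient.mk_surjective _ u
  rw [Ne, Submodule.Quotient.mk_eq_zero, smul_eq_mul, Ideal.mul_top] at hu
  let ss := rs.map (algebraMap A B)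
  have hss : IsWeaklyRegular B ss := h1.of_flat
  have hmem : ∀ r ∈ ss, r ∈ maximalIdeal B := fun r hr => by
    obtain ⟨a, ha, rfl⟩ := List.mem_map.1 hr
    exact H2FlatAscent.map_le (Ideal.mem_map_of_mem _ (h2 a ha))
  have hup : ∀ j : ℕ, (j : ℕ∞) ≤ LocCoh.depth B B → j ≤ rs.length + f := by
    intro j hj
    by_contra hc
    push Not at hc
    have hj' : ((ss.length + (j - rs.length) : ℕ) : ℕ∞) ≤ LocCoh.depth B B := le_trans (Nat.cast_le.2 (by simp [ss]; omega)) hj
    have hr := H2Depth.HasReg.extend hss hmem ((H2Depth.hasReg_iff_le_idealDepth (hne B)).2 hj')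
    let y : B ⧸ (Ideal.ofList ss • ⊤ : Submodule B B) := Submodule.Quotient.mk (algebraMap A B u)
    have hy : y ≠ 0 := fun h => by
      rw [Submodule.Quotient.mk_eq_zero, smul_eq_mul, Ideal.mul_top, ← Ideal.map_ofList, ← Ideal.mem_comap,
        Ideal.comap_map_eq_self_of_faithfullyFlat] at h
      exact hu h
    obtain ⟨P, hP, hPy⟩ := exists_le_isAssociatedPrime_of_isNoetherianRing B y hy
    have hmP : (maximalIdeal A).map (algebraMap A B) ≤ P := by
      refine le_trans ?_ hPy
      rw [Ideal.map_le_iff_le_comap]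
      intro a ha
      rw [Ideal.mem_comap, Submodule.mem_colon_singleton, Submodule.mem_bot]
      have := hkill a ha
      rw [← Submodule.Quotient.mk_smul, Submodule.Quotient.mk_eq_zero, smul_eq_mul, smul_eq_mul, Ideal.mul_top] at this
      show algebraMap A B a • (Submodule.Quotient.mk (algebraMap A B u) : B ⧸ _) = 0
      rw [← Submodule.Quotient.mk_smul, Submodule.Quotient.mk_eq_zero, smul_eq_mul, smul_eq_mul, Ideal.mul_top, ← map_mul, ← Ideal.map_ofList]
      exact Ideal.mem_map_of_mem _ this
    have h5 := (H2Depth.hasReg_le_dim_quotient hr P hP).trans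
      ((ringKrullDim_le_of_surjective (Ideal.Quotient.factor hmP) (Ideal.Quotient.factor_surjective hmP)).trans hf.le)
    have h6 : j - rs.length ≤ f := by exact_mod_cast h5
    omega
  have hB : LocCoh.depth B B = ((rs.length + f : ℕ) : ℕ∞) := by
    refine le_antisymm ?_ hlow
    cases hd : LocCoh.depth B B using ENat.recTopCoe with
    | top => exact absurd (hup (rs.length + f + 1) (by rw [hd]; exact le_top)) (by omega)
    | coe j => exact Nat.cast_le.2 (hup j hd.ge)
  rw [H2FlatAscent.dim_eq (A := A) (B := B), hf, show LocCoh.depth A A = (rs.length : ℕ∞) from h4, hB]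
  push_cast
  ac_rfl

theorem cm_tensor_fields (k K L : Type u) [Field k] [Field K] [Field L] [Algebra k K] [Algebra k L]
    (h : Algebra.EssFiniteType k K ∨ Algebra.EssFiniteType k L) : LocCoh.IsCohenMacaulayRing (K ⊗[k] L) := by
  haveI : LocCoh.IsGorensteinRing L := GorensteinRings.gorRing_field L
  haveI : LocCoh.IsGorensteinRing K := GorensteinRings.gorRing_field K
  haveI : LocCoh.IsGorensteinRing (K ⊗[k] L) := by
    rcases h with h | h
    · exact Groth.Agent.S8948.result k K L (IntermediateField.fg_top_iff.mpr h)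
    · exact GorensteinRings.gorRing_of_ringEquiv (Algebra.TensorProduct.comm k K L).toRingEquiv
        (Groth.Agent.S8948.result k L K (IntermediateField.fg_top_iff.mpr h))
  haveI : IsNoetherianRing (K ⊗[k] L) := inferInstance
  exact ⟨fun p _ => by
    haveI := LocCoh.IsGorensteinRing.isGorensteinLocalRing_localization (A := K ⊗[k] L) p
    exact Groth.Agent.S0341.result _⟩

theorem cm_congr {R S : Type u} [CommRing R] [CommRing S] [LocCoh.IsCohenMacaulayRing R] (e : R ≃+* S) :
    LocCoh.IsCohenMacaulayRing S :=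
  haveI : IsNoetherianRing S := isNoetherianRing_of_ringEquiv R e
  cm_of_hasSk fun k => hasSk_congr e (hasSk_of_cm k R)

theorem cmLocal_congr {R S : Type u} [CommRing R] [CommRing S] [LocCoh.IsCohenMacaulayLocalRing R] (e : R ≃+* S) :
    LocCoh.IsCohenMacaulayLocalRing S := by
  haveI : IsNoetherianRing S := isNoetherianRing_of_ringEquiv R e
  haveI : IsLocalRing S := e.isLocalRing
  obtain ⟨d, hd⟩ : ∃ d : ℕ, ringKrullDim S ≤ d := by
    cases hx : ringKrullDim S with
    | bot => exact ⟨0, bot_le⟩
    | coe x => cases x using ENat.recTopCoe with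
      | top => exact absurd hx ringKrullDim_ne_top
      | coe n => exact ⟨n, le_rfl⟩
  refine { supportDim_eq_depth := ?_ }
  rw [Module.supportDim_self_eq_ringKrullDim]
  exact le_antisymm ((le_min hd le_rfl).trans (skLoc_congr e (skLoc_of_cm d R))) (depth_le_dim _)

section AtPoint
variable {A B : Type u} [CommRing A] [CommRing B] [IsNoetherianRing A] [IsNoetherianRing B] [Algebra A B] [Module.Flat A B]

/-- The codepth at a point with Cohen–Macaulay fibre. -/
theorem codepth_point (q : Ideal B) [q.IsPrime] (hF : LocCoh.IsCohenMacaulayLocalRing (EGA4.FibLocRing A B q)) :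
    ringKrullDim (Localization.AtPrime (q.comap (algebraMap A B))) +
      ((LocCoh.depth (Localization.AtPrime q) (Localization.AtPrime q) : ℕ∞) : WithBot ℕ∞) =
    ringKrullDim (Localization.AtPrime q) +
      ((LocCoh.depth (Localization.AtPrime (q.comap (algebraMap A B))) (Localization.AtPrime (q.comap (algebraMap A B))) : ℕ∞) : WithBot ℕ∞) := by
  let p := q.comap (algebraMap A B)
  haveI : q.LiesOver p := ⟨rfl⟩
  letI := Localization.AtPrime.algebraOfLiesOver p q
  let A' := Localization.AtPrime p
  let B' := Localization.AtPrime q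
  haveI : IsNoetherianRing A' := IsLocalization.isNoetherianRing p.primeCompl _ inferInstance
  haveI : IsNoetherianRing B' := IsLocalization.isNoetherianRing q.primeCompl _ inferInstance
  haveI : Module.Flat A B' := Module.Flat.trans A B _
  haveI : Module.Flat A' B' := (Module.flat_iff_of_isLocalization A' p.primeCompl _).2 inferInstance
  haveI : IsLocalHom (algebraMap A' B') := Localization.isLocalHom_localRingHom p q (algebraMap A B) (q.over_def p)
  haveI : LocCoh.IsCohenMacaulayLocalRing (B' ⧸ (maximalIdeal A').map (algebraMap A' B')) :=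
    haveI := hF
    cmLocal_congr (Ideal.quotEquivOfEq (show p.map (algebraMap A B') = (maximalIdeal A').map (algebraMap A' B') by
      rw [← IsLocalization.AtPrime.map_eq_maximalIdeal p A', Ideal.map_map, ← IsScalarTower.algebraMap_eq]))
  exact codepth_eq (A := A') (B := B')

theorem skAt_ascend {k : ℕ} (q : Ideal B) [q.IsPrime] (hfib : ∀ (Q : Ideal B) [Q.IsPrime] [IsLocalRing (EGA4.FibLocRing A B Q)], SkLoc k (EGA4.FibLocRing A B Q))
    (hA : LocCoh.HasSk k (Localization.AtPrime (q.comap (algebraMap A B))) (Localization.AtPrime (q.comap (algebraMap A B)))) :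
    LocCoh.HasSk k (Localization.AtPrime q) (Localization.AtPrime q) := (hasSk_iff k).2 fun Q _ => by
  let p := q.comap (algebraMap A B)
  obtain ⟨e⟩ := exists_equiv_of_localization q.primeCompl Q
  let q0 := Q.comap (algebraMap B (Localization.AtPrime q))
  have hle : q0 ≤ q := (IsLocalization.AtPrime.orderIsoOfPrime (Localization.AtPrime q) q ⟨Q, ‹_›⟩).2.2
  haveI := (H2FlatAscent.point (A := A) q0).2.2.1
  haveI : IsNoetherianRing (Localization.AtPrime q0) := IsLocalization.isNoetherianRing q0.primeCompl _ inferInstance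
  let p0 := q0.comap (algebraMap A B)
  have disj : Disjoint (p.primeCompl : Set A) (p0 : Set A) := Set.disjoint_left.2 fun a ha hap => ha (Ideal.comap_mono hle hap)
  let P := p0.map (algebraMap A (Localization.AtPrime p))
  haveI : P.IsPrime := IsLocalization.isPrime_of_isPrime_disjoint p.primeCompl _ _ inferInstance disj
  obtain ⟨e0⟩ := exists_equiv_of_localization p.primeCompl P
  obtain ⟨e1⟩ := equiv_of_eq _ p0 (IsLocalization.under_map_of_isPrime_disjoint p.primeCompl (Localization.AtPrime p) (inferInstance : p0.IsPrime) disj)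
  haveI : IsNoetherianRing (Localization.AtPrime p) := IsLocalization.isNoetherianRing p.primeCompl _ inferInstance
  haveI : IsNoetherianRing (Localization.AtPrime P) := IsLocalization.isNoetherianRing P.primeCompl _ inferInstance
  exact skLoc_congr e.symm (skLoc_ascend q0 (skLoc_congr (e0.trans e1) ((hasSk_iff k).1 hA P)) (hfib q0))

end AtPoint

theorem hasSk_congr_module {k : ℕ} {R : Type u} [CommRing R] {M N : Type u} [AddCommGroup M] [Module R M] [AddCommGroup N] [Module R N]
    (e : M ≃ₗ[R] N) (h : LocCoh.HasSk k R M) : LocCoh.HasSk k R N := fun p _ => by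
  let e' := IsLocalizedModule.mapEquiv p.primeCompl (LocalizedModule.mkLinearMap p.primeCompl M)
    (LocalizedModule.mkLinearMap p.primeCompl N) (Localization.AtPrime p) e
  have := h p
  rwa [Module.supportDim_eq_of_equiv e', LocCoh.depth, H2SkDescent.idealDepth_congr e'] at this

theorem hasSkAt_iff {k : ℕ} {R : Type u} [CommRing R] (p : Ideal R) [p.IsPrime] :
    EGA4.HasSkAt k R R p ↔ LocCoh.HasSk k (Localization.AtPrime p) (Localization.AtPrime p) :=
  ⟨hasSk_congr_module (H2SkDescent.selfEquiv p), hasSk_congr_module (H2SkDescent.selfEquiv p).symm⟩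

/-- The fibres of `S → S ⊗ k'`. -/
theorem exists_fibre_tensor {k S k' : Type u} [Field k] [CommRing S] [Algebra k S] [CommRing k'] [Algebra k k']
    (q : Ideal (S ⊗[k] k')) [q.IsPrime] :
    ∃ (P : Ideal ((q.comap (algebraMap S (S ⊗[k] k'))).ResidueField ⊗[k] k')) (_ : P.IsPrime),
      Nonempty (Localization.AtPrime P ≃+* EGA4.FibLocRing S (S ⊗[k] k') q) := by
  obtain ⟨P, hP, ⟨e⟩⟩ := exists_fibre_equiv (A := S) q
  let p := q.comap (algebraMap S (S ⊗[k] k'))
  let c := (Algebra.TensorProduct.cancelBaseChange k S S p.ResidueField k').toRingEquiv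
  exact ⟨P.comap c.symm.toRingHom, inferInstance, ⟨(Localization.localRingEquiv (P.comap c.symm.toRingHom) P c.symm rfl).trans e⟩⟩

end Groth.Agent.H2CMFibre
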