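import Mathlib
set_option autoImplicit false

/-! Chevalley's lemma for decreasing ideals in a complete noetherian local ring. -/
namespace Groth.Agent.H2Chevalley
open IsLocalRing

variable {A : Type*} [CommRing A] [IsLocalRing A] [IsNoetherianRing A]

theorem exists_eq_sup_pow (b : ℕ → Ideal A) (hb : Antitone b) (k : ℕ) :
    ∃ J, ∀ j, J ≤ j → b j ⊔ maximalIdeal A ^ k = b J ⊔ maximalIdeal A ^ k := by
  let q := Ideal.Quotient.mk (maximalIdeal A ^ k)
  have : IsArtinianRing (A ⧸ maximalIdeal A ^ k) := by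
    rcases Nat.eq_zero_or_pos k with rfl | hk
    · haveI : Subsingleton (A ⧸ maximalIdeal A ^ 0) := Ideal.Quotient.subsingleton_iff.mpr (by simp)
      infer_instance
    · exact (IsLocalRing.quotient_artinian_of_mem_minimalPrimes_of_isLocalRing _ <| by
        refine ⟨⟨inferInstance, Ideal.pow_le_self (Nat.pos_iff_ne_zero.mp hk)⟩, fun p hp _ => ?_⟩
        exact le_of_eq ((IsLocalRing.eq_maximalIdeal ((maximalIdeal.isMaximal A).eq_of_le hp.1.ne_top
          ((hp.1.pow_le_iff (Nat.pos_iff_ne_zero.mp hk)).mp hp.2) ▸ maximalIdeal.isMaximal A))).symm)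
  obtain ⟨J, hJ⟩ := IsArtinian.monotone_stabilizes
    ⟨fun j => OrderDual.toDual ((b j).map q), fun i j hij => Ideal.map_mono (hb hij)⟩
  refine ⟨J, fun j hj => ?_⟩
  have h := congrArg (Ideal.comap q) (congrArg OrderDual.ofDual (hJ j hj))
  simp only [OrderHom.coe_mk, OrderDual.ofDual_toDual, Ideal.comap_map_of_surjective q Ideal.Quotient.mk_surjective, ← RingHom.ker_eq_comap_bot] at h
  simpa [q, Ideal.mk_ker] using h.symm

theorem exists_le_pow [IsAdicComplete (maximalIdeal A) A] (b : ℕ → Ideal A) (hb : Antitone b)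
    (h0 : ⨅ j, b j = ⊥) (k : ℕ) : ∃ j, b j ≤ maximalIdeal A ^ k := by
  let m := maximalIdeal A
  choose J hJ using exists_eq_sup_pow b hb
  refine ⟨J k, fun x hx => ?_⟩
  let Q : ℕ → Ideal A := fun i => b (J i) ⊔ m ^ i
  have hQ : ∀ i j, Q i ≤ b j ⊔ m ^ i := by
    intro i j
    rcases le_total (J i) j with h | h
    · exact (hJ i j h).symm.le
    · exact sup_le_sup_right (hb h) _
  have hstep : ∀ i, ∀ y ∈ Q i, ∃ z ∈ Q (i + 1), z - y ∈ m ^ i := by
    intro i y hy
    obtain ⟨a, ha, u, hu, rfl⟩ := Submodule.mem_sup.mp (hQ i (max (J i) (J (i+1))) hy)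
    exact ⟨a, Submodule.mem_sup_left (hb (le_max_right _ _) ha), by simpa using hu⟩
  choose g hg hg' using hstep
  let s : ∀ n, {y : A // y ∈ Q (k + n)} :=
    fun n => Nat.rec ⟨x, Submodule.mem_sup_left hx⟩ (fun n y => ⟨g (k + n) y.1 y.2, hg _ _ _⟩) n
  have hcauchy : ∀ n, (s (n + 1)).1 - (s n).1 ∈ m ^ (k + n) := fun n => hg' (k + n) _ (s n).2
  have hdiff : ∀ a b, a ≤ b → (s b).1 - (s a).1 ∈ m ^ (k + a) := by
    intro a b hab
    induction b, hab using Nat.le_induction with
    | base => simp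
    | succ b hab ih =>
      have := Ideal.pow_le_pow_right (show k + a ≤ k + b by omega) (hcauchy b)
      simpa using add_mem this ih
  obtain ⟨L, hL⟩ := IsPrecomplete.prec (I := m) (M := A) inferInstance (f := fun n => (s n).1) (fun {a b} hab => by
    rw [SModEq.sub_mem, smul_eq_mul, Ideal.mul_top]
    have := Ideal.pow_le_pow_right (show a ≤ k + a by omega) (hdiff a b hab)
    simpa using (m ^ a).neg_mem this)
  have hLn : ∀ n, (s n).1 - L ∈ m ^ n := fun n => by
    have := hL n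
    rwa [SModEq.sub_mem, smul_eq_mul, Ideal.mul_top] at this
  have hLb : ∀ j, L ∈ b j := by
    intro j
    rw [← Ideal.Quotient.eq_zero_iff_mem]
    have hmem : Ideal.Quotient.mk (b j) L ∈ ⨅ n : ℕ, (m ^ n • ⊤ : Submodule A (A ⧸ b j)) := by
      rw [Submodule.mem_iInf]
      intro n
      have h1 : L ∈ b j ⊔ m ^ n := by
        have h3 : (s n).1 ∈ b j ⊔ m ^ n :=
          (sup_le_sup_left (Ideal.pow_le_pow_right (by omega)) _ : b j ⊔ m ^ (k + n) ≤ b j ⊔ m ^ n) (hQ _ j (s n).2)
        have := sub_mem h3 (Submodule.mem_sup_right (hLn n) : (s n).1 - L ∈ b j ⊔ m ^ n)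
        simpa using this
      obtain ⟨a, ha, u, hu, rfl⟩ := Submodule.mem_sup.mp h1
      rw [map_add, Ideal.Quotient.eq_zero_iff_mem.mpr ha, zero_add]
      have : Ideal.Quotient.mk (b j) u = u • (1 : A ⧸ b j) := by rw [Algebra.smul_def, mul_one]; rfl
      rw [this]; exact Submodule.smul_mem_smul hu trivial
    rwa [Ideal.iInf_pow_smul_eq_bot_of_le_jacobson (M := A ⧸ b j) m (IsLocalRing.maximalIdeal_le_jacobson _), Submodule.mem_bot] at hmem
  have hL0 : L = 0 := by
    have := Submodule.mem_iInf b |>.mpr hLb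
    rwa [h0, Submodule.mem_bot] at this
  have := hLn k
  have h2 := hdiff 0 k (Nat.zero_le _)
  rw [hL0, sub_zero] at this
  have := sub_mem this h2
  simpa [s] using this

end Groth.Agent.H2Chevalley
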