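import Groth.Agent.Lib.H9ArtPresent
import Mathlib.RingTheory.MvPowerSeries.Equiv
import Mathlib.RingTheory.MvPowerSeries.Inverse
import Mathlib.RingTheory.MvPowerSeries.Trunc
import Mathlib.RingTheory.AdicCompletion.Completeness

/-!
Power series rings over coefficient rings, as coefficient rings.
-/

set_option backward.isDefEq.respectTransparency false
set_option backward.isDefEq.respectTransparency.types false
set_option linter.deprecated false
set_option linter.unusedTactic false

universe u v

open CategoryTheory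

namespace Groth.Agent.H9Art

open ArtFun ArtFun.Art IsLocalRing MvPowerSeries

section Basic

variable {R : Type u} [CommRing R] {σ : Type} [Finite σ]

/-- Series without terms of degree `< n` lie in the `n`-th power of the ideal of the variables. -/
lemma mem_span_X_pow {n : ℕ} {f : MvPowerSeries σ R} (h : ∀ x, Finsupp.degree x < n → coeff x f = 0) :
    f ∈ Ideal.span (Set.range (X : σ → MvPowerSeries σ R)) ^ n := by
  let I := MvPolynomial.idealOfVars σ R
  have hz : truncTotal n f = 0 := MvPolynomial.ext _ _ fun x => by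
    rw [coeff_truncTotal_eq_ite, MvPolynomial.coeff_zero]
    split_ifs with hx
    · exact h x hx
    · rfl
  have h1 : toAdicCompletionAlgEquiv σ R f ∈
      (I ^ n).map (algebraMap (MvPolynomial σ R) (AdicCompletion I (MvPolynomial σ R))) := by
    have h0 : toAdicCompletionAlgEquiv σ R f ∈ (AdicCompletion.eval I (MvPolynomial σ R) n).ker := by
      rw [LinearMap.mem_ker, toAdicCompletionAlgEquiv_apply, AdicCompletion.eval_apply,
        toAdicCompletion_apply_eq_mk_truncTotal, hz]
      exact Submodule.Quotient.mk_zero _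
    rwa [← AdicCompletion.pow_smul_top_eq_ker_eval (MvPolynomial.idealOfVars_fg σ R), Ideal.smul_top_eq_map,
      Submodule.restrictScalars_mem] at h0
  have h2 := Ideal.mem_map_of_mem (toAdicCompletionAlgEquiv σ R).symm.toAlgHom.toRingHom h1
  rw [Ideal.map_map] at h2
  have e : (toAdicCompletionAlgEquiv σ R).symm.toAlgHom.toRingHom.comp
      (algebraMap (MvPolynomial σ R) (AdicCompletion I (MvPolynomial σ R))) =
      algebraMap (MvPolynomial σ R) (MvPowerSeries σ R) := RingHom.ext fun p => (toAdicCompletionAlgEquiv σ R).symm.commutes p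
  rw [e, Ideal.map_pow] at h2
  have e2 : I.map (algebraMap (MvPolynomial σ R) (MvPowerSeries σ R)) = Ideal.span (Set.range X) := by
    change (Ideal.span _).map _ = _
    rw [Ideal.map_span, ← Set.range_comp]
    congr 2
    funext i
    exact MvPolynomial.coe_X i
  rw [e2] at h2
  have e3 : (toAdicCompletionAlgEquiv σ R).symm.toAlgHom.toRingHom (toAdicCompletionAlgEquiv σ R f) = f :=
    (toAdicCompletionAlgEquiv σ R).symm_apply_apply f
  rwa [e3] at h2

end Basic

/-- Evaluation of power series at nilpotent arguments. -/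
lemma exists_evalHom {R A : Type u} [CommRing R] [CommRing A] {σ : Type} [Finite σ] {M : Ideal A}
    (hM : ∃ m : ℕ, M ^ m = ⊥) (g : R →+* A) (a : σ → A) (ha : ∀ i, a i ∈ M) :
    ∃ φ : MvPowerSeries σ R →+* A, (∀ r, φ (C r) = g r) ∧ ∀ i, φ (X i) = a i := by
  obtain ⟨m, hm⟩ := hM
  let ev : MvPolynomial σ R →+* A := MvPolynomial.eval₂Hom g a
  have hev : ∀ q ∈ MvPolynomial.idealOfVars σ R ^ m, ev q = 0 := fun q hq => by
    have hle : (MvPolynomial.idealOfVars σ R).map ev ≤ M := by
      change (Ideal.span _).map ev ≤ _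
      rw [Ideal.map_span, Ideal.span_le]
      rintro _ ⟨_, ⟨i, rfl⟩, rfl⟩
      rw [SetLike.mem_coe, show ev (MvPolynomial.X i) = a i from MvPolynomial.eval₂Hom_X' _ _ i]
      exact ha i
    have h1 : ev q ∈ M ^ m := Ideal.pow_right_mono hle _ (Ideal.map_pow ev _ _ ▸ Ideal.mem_map_of_mem ev hq)
    rwa [hm, Ideal.mem_bot] at h1
  let L : (MvPolynomial σ R ⧸ MvPolynomial.idealOfVars σ R ^ m) →+* A :=
    Ideal.Quotient.lift (MvPolynomial.idealOfVars σ R ^ m) ev hev
  have hL : ∀ p, L (Ideal.Quotient.mk _ p) = ev p := fun p => Ideal.Quotient.lift_mk _ _ _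
  refine ⟨L.comp (truncTotalAlgHom σ R m).toRingHom, fun r => ?_, fun i => ?_⟩
  · rw [← MvPolynomial.coe_C]
    refine (congrArg L ((truncTotalAlgHom σ R m).commutes (MvPolynomial.C r))).trans ?_
    exact (hL _).trans (MvPolynomial.eval₂Hom_C _ _ r)
  · rw [← MvPolynomial.coe_X]
    refine (congrArg L ((truncTotalAlgHom σ R m).commutes (MvPolynomial.X i))).trans ?_
    exact (hL _).trans (MvPolynomial.eval₂Hom_X' _ _ i)

section Local

variable {R : Type u} [CommRing R] [IsLocalRing R] {σ : Type} [Finite σ]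

lemma mem_maximalIdeal_mvPowerSeries {f : MvPowerSeries σ R} :
    f ∈ maximalIdeal (MvPowerSeries σ R) ↔ constantCoeff f ∈ maximalIdeal R := by
  rw [mem_maximalIdeal, mem_maximalIdeal, mem_nonunits_iff, mem_nonunits_iff, MvPowerSeries.isUnit_iff_constantCoeff]

/-- Coefficient bounds characterise the powers of the maximal ideal. -/
theorem mem_maximalIdeal_pow_iff {n : ℕ} {f : MvPowerSeries σ R} :
    f ∈ maximalIdeal (MvPowerSeries σ R) ^ n ↔
      ∀ x, coeff x f ∈ maximalIdeal R ^ (n - Finsupp.degree x) := by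
  classical
  constructor
  · intro hf
    induction n generalizing f with
    | zero => intro x; simp
    | succ n ih =>
      rw [pow_succ] at hf
      refine Submodule.mul_induction_on hf (fun a ha b hb x => ?_) (fun a b ha hb x => ?_)
      · rw [coeff_mul]
        refine Ideal.sum_mem _ fun p hp => ?_
        have hxy : Finsupp.degree p.1 + Finsupp.degree p.2 = Finsupp.degree x := by
          rw [← map_add, Finset.HasAntidiagonal.mem_antidiagonal.1 hp]
        rcases Nat.eq_zero_or_pos (Finsupp.degree p.2) with h0 | h0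
        · have hp2 : p.2 = 0 := (Finsupp.degree_eq_zero_iff _).1 h0
          have hb0 : coeff p.2 b ∈ maximalIdeal R := by
            rw [hp2, coeff_zero_eq_constantCoeff_apply]
            exact mem_maximalIdeal_mvPowerSeries.1 hb
          have := Ideal.mul_mem_mul (ih ha p.1) hb0
          rw [← pow_succ] at this
          exact Ideal.pow_le_pow_right (by omega) this
        · exact Ideal.mul_mem_right _ _ (Ideal.pow_le_pow_right (by omega) (ih ha p.1))
      · rw [map_add]
        exact add_mem (ha x) (hb x)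
  · intro hf
    have hX : Ideal.span (Set.range (X : σ → MvPowerSeries σ R)) ≤ maximalIdeal (MvPowerSeries σ R) := by
      rw [Ideal.span_le]
      rintro _ ⟨i, rfl⟩
      rw [SetLike.mem_coe, mem_maximalIdeal_mvPowerSeries, constantCoeff_X]
      exact zero_mem _
    have hC : (maximalIdeal R).map (C : R →+* MvPowerSeries σ R) ≤ maximalIdeal (MvPowerSeries σ R) :=
      Ideal.map_le_iff_le_comap.2 fun a ha => by
        rw [Ideal.mem_comap, mem_maximalIdeal_mvPowerSeries, constantCoeff_C]
        exact ha
    have hrest : f - (truncTotal n f : MvPowerSeries σ R) ∈ maximalIdeal (MvPowerSeries σ R) ^ n :=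
      Ideal.pow_right_mono hX n (mem_span_X_pow fun x hx => by
        rw [map_sub, MvPolynomial.coeff_coe, coeff_truncTotal _ hx, sub_self])
    have hpoly : (truncTotal n f : MvPowerSeries σ R) ∈ maximalIdeal (MvPowerSeries σ R) ^ n := by
      rw [(truncTotal n f).as_sum, ← MvPolynomial.coeToMvPowerSeries.ringHom_apply, map_sum]
      refine Ideal.sum_mem _ fun x hx => ?_
      rw [MvPolynomial.coeToMvPowerSeries.ringHom_apply, MvPolynomial.coe_monomial]
      have hxn : Finsupp.degree x < n := by
        by_contra hn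
        exact MvPolynomial.mem_support_iff.1 hx (coeff_truncTotal_eq_zero _ (not_lt.1 hn))
      have e : monomial x ((truncTotal n f).coeff x) = C (coeff x f) * monomial x 1 := by
        rw [coeff_truncTotal _ hxn, ← monomial_zero_eq_C_apply, monomial_mul_monomial, zero_add, mul_one]
      rw [e]
      have h1 : C (coeff x f) ∈ maximalIdeal (MvPowerSeries σ R) ^ (n - Finsupp.degree x) :=
        Ideal.pow_right_mono hC _ (Ideal.map_pow (C : R →+* MvPowerSeries σ R) _ _ ▸ Ideal.mem_map_of_mem _ (hf x))
      have h2 : monomial x (1 : R) ∈ maximalIdeal (MvPowerSeries σ R) ^ Finsupp.degree x :=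
        Ideal.pow_right_mono hX _ (mem_span_X_pow fun y hy => coeff_monomial_ne (fun h => by subst h; omega) 1)
      have h3 := Ideal.mul_mem_mul h1 h2
      rwa [← pow_add, Nat.sub_add_cancel hxn.le] at h3
    have := add_mem hrest hpoly
    rwa [sub_add_cancel] at this

theorem isAdicComplete_mvPowerSeries [IsAdicComplete (maximalIdeal R) R] :
    IsAdicComplete (maximalIdeal (MvPowerSeries σ R)) (MvPowerSeries σ R) := by
  have hsm : ∀ {P : Type u} [CommRing P] (I : Ideal P) (j : ℕ) (a b : P),
      a ≡ b [SMOD (I ^ j • ⊤ : Submodule P P)] ↔ a - b ∈ I ^ j := fun I j a b => by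
    rw [SModEq.sub_mem, smul_eq_mul, Ideal.mul_top]
  refine @IsAdicComplete.mk _ _ _ _ _ _ ⟨fun f hf => ?_⟩ ⟨fun f hf => ?_⟩
  · ext x
    refine IsHausdorff.haus' (I := maximalIdeal R) _ fun j => ?_
    rw [hsm, sub_zero]
    have h := hf (j + Finsupp.degree x)
    rw [hsm, sub_zero] at h
    simpa using mem_maximalIdeal_pow_iff.1 h x
  · have hx : ∀ x, ∃ L : R, ∀ a, coeff x (f (a + Finsupp.degree x)) - L ∈ maximalIdeal R ^ a := by
      intro x
      obtain ⟨L, hL⟩ := IsPrecomplete.prec' (I := maximalIdeal R) (fun a => coeff x (f (a + Finsupp.degree x)))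
        (fun {a b} hab => by
          rw [hsm]
          have h := hf (Nat.add_le_add_right hab (Finsupp.degree x))
          rw [hsm] at h
          simpa using mem_maximalIdeal_pow_iff.1 h x)
      exact ⟨L, fun a => (hsm _ _ _ _).1 (hL a)⟩
    choose L hL using hx
    refine ⟨show MvPowerSeries σ R from fun x => L x, fun j => ?_⟩
    rw [hsm, mem_maximalIdeal_pow_iff]
    intro x
    rw [map_sub]
    change coeff x (f j) - L x ∈ _
    rcases le_or_gt (Finsupp.degree x) j with h | h
    · have := hL x (j - Finsupp.degree x)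
      rwa [Nat.sub_add_cancel h] at this
    · rw [Nat.sub_eq_zero_of_le h.le, pow_zero, Ideal.one_eq_top]
      trivial

end Local

variable {Λ : Type u} {k : Type u} [CommRing Λ] [Field k] [Algebra Λ k]

/-- The power series ring over a coefficient ring. -/
noncomputable def psCRing (R : CRing Λ k) (n : ℕ) : CRing Λ k :=
  haveI := R.isAdicComplete
  { carrier := MvPowerSeries (Fin n) R.carrier
    res :=
      { toRingHom := R.res.toRingHom.comp constantCoeff
        commutes' := fun r => by
          change R.res (constantCoeff (algebraMap Λ (MvPowerSeries (Fin n) R.carrier) r)) = _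
          rw [MvPowerSeries.algebraMap_apply, constantCoeff_C, AlgHom.commutes] }
    res_surjective := fun a => by
      obtain ⟨r, rfl⟩ := R.res_surjective a
      exact ⟨C r, congrArg R.res (constantCoeff_C r)⟩
    isAdicComplete := isAdicComplete_mvPowerSeries }

/-- The coefficients inclusion. -/
noncomputable def psC (R : CRing Λ k) (n : ℕ) : R.carrier →ₐ[Λ] (psCRing R n).carrier :=
  { toRingHom := C, commutes' := fun r => (MvPowerSeries.algebraMap_apply (σ := Fin n) (R := Λ) (A := R.carrier)).symm }

lemma psC_res (R : CRing Λ k) (n : ℕ) : (psCRing R n).res.comp (psC R n) = R.res :=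
  AlgHom.ext fun r => by
    change R.res (constantCoeff (C r)) = R.res r
    rw [constantCoeff_C]

/-- The coordinates. -/
noncomputable def psX (R : CRing Λ k) (n : ℕ) (i : Fin n) : (psCRing R n).carrier := MvPowerSeries.X i

lemma psX_res (R : CRing Λ k) (n : ℕ) (i : Fin n) : (psCRing R n).res (psX R n i) = 0 :=
  (congrArg R.res (constantCoeff_X i)).trans (map_zero _)

lemma ps_mem_maximalIdeal (R : CRing Λ k) (n : ℕ) (f : MvPowerSeries (Fin n) R.carrier) :
    (f : (psCRing R n).carrier) ∈ maximalIdeal (psCRing R n).carrier ↔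
      constantCoeff f ∈ maximalIdeal R.carrier := by
  rw [CRing.mem_maximalIdeal_iff (psCRing R n), CRing.mem_maximalIdeal_iff R]
  rfl

/-- Maps to Artinian algebras out of a power series ring. -/
theorem psCRing_hom_exists (R : CRing Λ k) {n : ℕ} {A : Art Λ k} (g : HomSet R.carrier R.res A) (a : Fin n → A)
    (ha : ∀ i, A.res (a i) = 0) :
    ∃ φ : HomSet (psCRing R n).carrier (psCRing R n).res A,
      φ.1.comp (psC R n) = g.1 ∧ ∀ i, φ.1 (psX R n i) = a i := by
  obtain ⟨φ₀, hC, hX⟩ := exists_evalHom (exists_pow_maximalIdeal_eq_bot A) g.1.toRingHom a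
    (fun i => (Art.mem_maximalIdeal_iff A _).2 (ha i))
  let φ : (psCRing R n).carrier →ₐ[Λ] A :=
    { toRingHom := φ₀
      commutes' := fun r => by
        change φ₀ (algebraMap Λ (MvPowerSeries (Fin n) R.carrier) r) = _
        rw [MvPowerSeries.algebraMap_apply, hC]
        exact g.1.commutes r }
  refine ⟨⟨φ, AlgHom.ext fun (f : MvPowerSeries (Fin n) R.carrier) => ?_⟩, AlgHom.ext hC, hX⟩
  change A.res (φ₀ f) = R.res (constantCoeff f)
  have hd : φ₀ (f - C (constantCoeff f)) ∈ maximalIdeal A := by
    by_contra hu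
    rw [mem_maximalIdeal, mem_nonunits_iff, not_not] at hu
    have hmem : f - C (constantCoeff f) ∈ Ideal.span (Set.range (X : Fin n → MvPowerSeries (Fin n) R.carrier)) := by
      have := mem_span_X_pow (n := 1) (f := f - C (constantCoeff f)) fun x hx => by
        rw [(Finsupp.degree_eq_zero_iff x).1 (by omega), coeff_zero_eq_constantCoeff_apply, map_sub, constantCoeff_C, sub_self]
      rwa [pow_one] at this
    have hle : (Ideal.span (Set.range (X : Fin n → MvPowerSeries (Fin n) R.carrier))).map φ₀ ≤ maximalIdeal A := by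
      rw [Ideal.map_span, Ideal.span_le]
      rintro _ ⟨_, ⟨i, rfl⟩, rfl⟩
      rw [SetLike.mem_coe, hX, Art.mem_maximalIdeal_iff]
      exact ha i
    exact (mem_maximalIdeal _).1 (hle (Ideal.mem_map_of_mem φ₀ hmem)) hu
  rw [Art.mem_maximalIdeal_iff, map_sub, map_sub, hC, sub_eq_zero] at hd
  rw [hd]
  exact congrArg (fun t : R.carrier →ₐ[Λ] k => t _) g.2

/-- Maps out of a power series ring are determined by coefficients and coordinates. -/
theorem psCRing_hom_ext (R : CRing Λ k) {n : ℕ} {A : Art Λ k} {φ ψ : HomSet (psCRing R n).carrier (psCRing R n).res A}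
    (hC : φ.1.comp (psC R n) = ψ.1.comp (psC R n)) (hX : ∀ i, φ.1 (psX R n i) = ψ.1 (psX R n i)) : φ = ψ := by
  obtain ⟨e, he⟩ := exists_pow_kill (psCRing R n) φ
  obtain ⟨e', he'⟩ := exists_pow_kill (psCRing R n) ψ
  refine Subtype.ext (AlgHom.ext fun f => ?_)
  let f' : MvPowerSeries (Fin n) R.carrier := f
  let p : MvPolynomial (Fin n) R.carrier := truncTotal (e + e') f'
  have hd : (f' - (p : MvPowerSeries (Fin n) R.carrier) : (psCRing R n).carrier) ∈
      maximalIdeal (psCRing R n).carrier ^ (e + e') := by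
    refine Ideal.pow_right_mono ?_ _ (mem_span_X_pow (R := R.carrier) fun x hx => by
      rw [map_sub, MvPolynomial.coeff_coe, coeff_truncTotal _ hx, sub_self])
    rw [Ideal.span_le]
    rintro _ ⟨i, rfl⟩
    exact (CRing.mem_maximalIdeal_iff (psCRing R n) _).2 (psX_res R n i)
  have hp : φ.1 (p : MvPowerSeries (Fin n) R.carrier) = ψ.1 (p : MvPowerSeries (Fin n) R.carrier) := by
    have h : φ.1.toRingHom.comp (MvPolynomial.coeToMvPowerSeries.ringHom) =
        ψ.1.toRingHom.comp (MvPolynomial.coeToMvPowerSeries.ringHom) :=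
      MvPolynomial.ringHom_ext (fun r => by
        change φ.1 ((MvPolynomial.C r : MvPolynomial (Fin n) R.carrier) : MvPowerSeries (Fin n) R.carrier) = ψ.1 ((MvPolynomial.C r : MvPolynomial (Fin n) R.carrier) : MvPowerSeries (Fin n) R.carrier)
        rw [MvPolynomial.coe_C]
        exact congrArg (fun t : R.carrier →ₐ[Λ] A => t r) hC) (fun i => by
        change φ.1 ((MvPolynomial.X i : MvPolynomial (Fin n) R.carrier) : MvPowerSeries (Fin n) R.carrier) = ψ.1 ((MvPolynomial.X i : MvPolynomial (Fin n) R.carrier) : MvPowerSeries (Fin n) R.carrier)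
        rw [MvPolynomial.coe_X]
        exact hX i)
    exact congrArg (fun t : MvPolynomial (Fin n) R.carrier →+* A => t p) h
  have h1 := he _ (Ideal.pow_le_pow_right (Nat.le_add_right e e') hd)
  have h2 := he' _ (Ideal.pow_le_pow_right (Nat.le_add_left e' e) hd)
  rw [map_sub, sub_eq_zero] at h1 h2
  exact h1.trans (hp.trans h2.symm)

/-- Maps to coefficient rings out of a power series ring. -/
theorem psCRing_exists_hom_cring (R T : CRing Λ k) {n : ℕ} (g : R.carrier →ₐ[Λ] T.carrier) (hg : T.res.comp g = R.res)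
    (a : Fin n → T.carrier) (ha : ∀ i, T.res (a i) = 0) :
    ∃ φ : (psCRing R n).carrier →ₐ[Λ] T.carrier,
      T.res.comp φ = (psCRing R n).res ∧ φ.comp (psC R n) = g ∧ ∀ i, φ (psX R n i) = a i := by
  let gm : ∀ m, HomSet R.carrier R.res (T.trunc m) := fun m =>
    ⟨(T.truncHom m).1.comp g, by rw [← AlgHom.comp_assoc, (T.truncHom m).2, hg]⟩
  choose φ hφC hφX using fun m => psCRing_hom_exists R (gm m) (fun i => (T.truncHom m).1 (a i))
    (fun i => (congrArg (fun t : T.carrier →ₐ[Λ] k => t (a i)) (T.truncHom m).2).trans (ha i))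
  have hc : ∀ m, HomSet.map (T.truncMap m) (φ (m + 1)) = φ m := fun m => psCRing_hom_ext R
    (AlgHom.ext fun r => by
      refine (congrArg (T.truncMap m).toAlgHom (congrArg (fun t : R.carrier →ₐ[Λ] _ => t r) (hφC (m + 1)))).trans ?_
      refine Eq.trans ?_ (congrArg (fun t : R.carrier →ₐ[Λ] _ => t r) (hφC m)).symm
      exact congrArg (fun t : HomSet T.carrier T.res _ => t.1 (g r)) (T.truncMap_truncHom m))
    (fun i => by
      refine (congrArg (T.truncMap m).toAlgHom (hφX (m + 1) i)).trans ?_
      rw [hφX m i]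
      exact congrArg (fun t : HomSet T.carrier T.res _ => t.1 (a i)) (T.truncMap_truncHom m))
  obtain ⟨Φ, hΦ, hΦm⟩ := exists_lim T φ hc
  refine ⟨Φ, hΦ, hom_ext_trunc T fun m => ?_, fun i => sub_eq_zero.1 ?_⟩
  · rw [← AlgHom.comp_assoc, hΦm, hφC]
  · have hx : Φ (psX R n i) - a i ∈ ⨅ j : ℕ, maximalIdeal T.carrier ^ j := Ideal.mem_iInf.2 fun j =>
      Ideal.pow_le_pow_right j.le_succ (Ideal.Quotient.eq.1
        ((congrArg (fun t : (psCRing R n).carrier →ₐ[Λ] _ => t (psX R n i)) (hΦm j)).trans (hφX j i)))
    rwa [Ideal.iInf_pow_eq_bot_of_isLocalRing _ (IsLocalRing.maximalIdeal.isMaximal T.carrier).ne_top,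
      Ideal.mem_bot] at hx

end Groth.Agent.H9Art
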