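import Mathlib
import Groth.Agent.Lib.H2PowerSeries
import Groth.Agent.Lib.H4AdicLim
import Groth.Agent.Lib.H9ArtPowerSeries
set_option autoImplicit false

/-! Finite maps of power series rings onto complete local rings. -/
namespace Groth.Agent.H2CohenFinite
open IsLocalRing
set_option backward.isDefEq.respectTransparency.types false
universe u v

variable {P : Type u} [CommRing P] {A : Type v} [CommRing A] [Algebra P A]

theorem finite_quotient_pow (M : Ideal A) (hM : M.FG) [Module.Finite P (A ⧸ M)] : ∀ N : ℕ, Module.Finite P (A ⧸ M ^ N) := by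
  classical
  intro N
  induction N with
  | zero =>
    haveI : Subsingleton (A ⧸ M ^ 0) := Ideal.Quotient.subsingleton_iff.2 (by simp)
    infer_instance
  | succ N ih =>
    haveI := ih
    let f : (A ⧸ M ^ (N + 1)) →ₐ[P] (A ⧸ M ^ N) := Ideal.Quotient.factorₐ P (Ideal.pow_le_pow_right N.le_succ)
    have hf : Function.Surjective f := Ideal.Quotient.factor_surjective (Ideal.pow_le_pow_right (I := M) N.le_succ)
    refine ⟨Submodule.fg_of_fg_map_of_fg_inf_ker f.toLinearMap ?_ ?_⟩
    · rw [Submodule.map_top, LinearMap.range_eq_top.2 hf]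
      exact Module.Finite.fg_top
    · rw [top_inf_eq]
      obtain ⟨s, hs⟩ := Ideal.FG.pow (n := N) hM
      obtain ⟨t, ht⟩ := (Module.Finite.fg_top : (⊤ : Submodule P (A ⧸ M)).FG)
      choose r hr using Ideal.Quotient.mk_surjective (I := M)
      let G : Finset (A ⧸ M ^ (N + 1)) := (s ×ˢ t).image fun z => Ideal.Quotient.mk _ (z.1 * r z.2)
      refine ⟨G, le_antisymm ?_ ?_⟩
      · rw [Submodule.span_le]
        intro z hz
        obtain ⟨⟨g, b⟩, hgb, rfl⟩ := Finset.mem_image.1 hz
        show f (Ideal.Quotient.mk _ (g * r b)) = 0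
        refine Ideal.Quotient.eq_zero_iff_mem.2 (Ideal.mul_mem_right _ _ ?_)
        rw [← hs]
        exact Submodule.subset_span (Finset.mem_product.1 hgb).1
      · intro z hz
        obtain ⟨z, rfl⟩ := Ideal.Quotient.mk_surjective z
        have hz' : z ∈ M ^ N := Ideal.Quotient.eq_zero_iff_mem.1 hz
        suffices key : ∀ y : A, Ideal.Quotient.mk (M ^ (N + 1)) (y * z) ∈ Submodule.span P (G : Set (A ⧸ M ^ (N + 1))) by
          simpa using key 1
        clear hz
        rw [← hs] at hz'
        induction hz' using Submodule.span_induction with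
        | mem g hg =>
          intro y
          have hy : Ideal.Quotient.mk M y ∈ Submodule.span P (t : Set (A ⧸ M)) := ht ▸ Submodule.mem_top
          let lin : (A ⧸ M) →ₗ[P] (A ⧸ M ^ (N + 1)) :=
            (Submodule.liftQ M (LinearMap.toSpanSingleton A (A ⧸ M ^ (N + 1)) (Ideal.Quotient.mk _ g)) fun m hm => by
              show m • Ideal.Quotient.mk (M ^ (N + 1)) g = 0
              refine (Ideal.Quotient.eq_zero_iff_mem (a := m * g)).2 ?_
              rw [pow_succ']
              exact Ideal.mul_mem_mul hm (hs ▸ Submodule.subset_span hg)).restrictScalars P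
          have h1 := Submodule.mem_map_of_mem (f := lin) hy
          rw [Submodule.map_span] at h1
          refine Submodule.span_le.2 ?_ h1
          rintro _ ⟨b, hb, rfl⟩
          rw [← hr b]
          refine Submodule.subset_span (Finset.mem_image.2 ⟨(g, b), Finset.mem_product.2 ⟨hg, hb⟩, ?_⟩)
          show Ideal.Quotient.mk _ (g * r b) = Ideal.Quotient.mk _ (r b * g)
          rw [mul_comm]
        | zero => intro y; simp
        | add a b _ _ iha ihb => intro y; rw [mul_add, map_add]; exact add_mem (iha y) (ihb y)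
        | smul c a _ iha => intro y; rw [smul_eq_mul, ← mul_assoc]; exact iha _

theorem finite_of_quotient (J : Ideal P) [IsPrecomplete J P] [IsHausdorff (J.map (algebraMap P A)) A]
    (I : Ideal A) (hI : I ≤ J.map (algebraMap P A)) [Module.Finite P (A ⧸ I)] : Module.Finite P A := by
  obtain ⟨r, g, hg⟩ := Module.Finite.exists_fin (R := P) (M := A ⧸ I)
  choose g' hg' using fun i => Ideal.Quotient.mk_surjective (g i)
  haveI : IsHausdorff J A := (IsHausdorff.map_algebraMap_iff (I := J) (S := A) (M := A)).1 inferInstance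
  have h : Submodule.span P (Set.range g') ⊔ J • (⊤ : Submodule P A) = ⊤ := by
    rw [eq_top_iff]
    intro x _
    have hx : Ideal.Quotient.mk I x ∈ Submodule.span P (Set.range g) := hg ▸ Submodule.mem_top
    rw [show g = (Ideal.Quotient.mkₐ P I).toLinearMap ∘ g' from funext fun i => (hg' i).symm, Set.range_comp,
      ← Submodule.map_span] at hx
    obtain ⟨y, hy, hyx⟩ := hx
    refine Submodule.mem_sup.2 ⟨y, hy, x - y, ?_, add_sub_cancel _ _⟩
    rw [Ideal.smul_top_eq_map, Submodule.restrictScalars_mem]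
    exact hI (Ideal.Quotient.eq.1 (show Ideal.Quotient.mk I x = Ideal.Quotient.mk I y from hyx.symm))
  exact ⟨(H4AdicLim.span_eq_top J g' h) ▸ Submodule.fg_span (Set.finite_range g')⟩

theorem ringKrullDim_le_of_isIntegral [IsDomain A] [Algebra.IsIntegral P A] : ringKrullDim A ≤ ringKrullDim P :=
  Order.krullDim_le_of_strictMono (fun q : PrimeSpectrum A => PrimeSpectrum.comap (algebraMap P A) q) fun q q' h =>
    Ideal.IsIntegral.comap_lt_comap h

theorem injective_of_finite [IsDomain P] [IsDomain A] [Module.Finite P A] {d : ℕ}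
    (hP : ringKrullDim P ≤ (d : ℕ)) (hA : (d : WithBot ℕ∞) ≤ ringKrullDim A) : Function.Injective (algebraMap P A) := by
  rw [injective_iff_map_eq_zero]
  intro x hx
  by_contra hne
  let K := RingHom.ker (algebraMap P A)
  letI : Algebra (P ⧸ K) A := (RingHom.kerLift (algebraMap P A)).toAlgebra
  haveI : IsScalarTower P (P ⧸ K) A := IsScalarTower.of_algebraMap_eq fun _ => rfl
  haveI : Module.Finite (P ⧸ K) A := Module.Finite.of_restrictScalars_finite P _ A
  have h1 := ringKrullDim_le_of_isIntegral (P := P ⧸ K) (A := A)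
  have h2 := ringKrullDim_succ_le_of_surjective (Ideal.Quotient.mk K) Ideal.Quotient.mk_surjective
    (mem_nonZeroDivisors_of_ne_zero hne) (Ideal.Quotient.eq_zero_iff_mem.2 hx)
  have h3 : ((d + 1 : ℕ) : WithBot ℕ∞) ≤ (d : ℕ) := by
    push_cast
    exact (add_le_add (hA.trans h1) le_rfl).trans (h2.trans hP)
  have : d + 1 ≤ d := by exact_mod_cast h3
  omega

theorem exists_sop (A : Type v) [CommRing A] [IsNoetherianRing A] [IsLocalRing A] :
    ∃ (n : ℕ) (t : Fin n → A) (N : ℕ), ringKrullDim A = n ∧ (∀ i, t i ∈ maximalIdeal A) ∧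
      maximalIdeal A ^ N ≤ Ideal.span (Set.range t) := by
  obtain ⟨s, hs, hcard⟩ := Ideal.exists_finset_card_eq_height_of_isNoetherianRing (maximalIdeal A)
  have hrange : Set.range (fun i => (s.equivFin.symm i : A)) = (s : Set A) := by
    ext y
    exact ⟨by rintro ⟨i, rfl⟩; exact (s.equivFin.symm i).2, fun hy => ⟨s.equivFin ⟨y, hy⟩, by simp⟩⟩
  have hrad : maximalIdeal A ≤ (Ideal.span (s : Set A)).radical := by
    rw [Ideal.radical_eq_sInf]
    refine le_sInf fun q ⟨hq, hqp⟩ => hs.2 ⟨hqp, hq⟩ (IsLocalRing.le_maximalIdeal hqp.ne_top)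
  obtain ⟨N, hN⟩ := Ideal.exists_pow_le_of_le_radical_of_fg hrad (IsNoetherian.noetherian _)
  refine ⟨s.card, fun i => (s.equivFin.symm i : A), N, ?_, fun i => hs.1.2 (Ideal.subset_span (s.equivFin.symm i).2), ?_⟩
  · rw [← IsLocalRing.maximalIdeal_height_eq_ringKrullDim, ← hcard]
    rfl
  · rw [hrange]; exact hN

theorem maximalIdeal_powerSeries (Λ : Type u) [CommRing Λ] [IsLocalRing Λ] (n : ℕ) :
    maximalIdeal (MvPowerSeries (Fin n) Λ) =
      (maximalIdeal Λ).map MvPowerSeries.C ⊔ Ideal.span (Set.range MvPowerSeries.X) := by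
  refine le_antisymm (fun f hf => ?_) ?_
  · have hc := H9Art.mem_maximalIdeal_mvPowerSeries.1 hf
    rw [show f = MvPowerSeries.C (MvPowerSeries.constantCoeff f) + (f - MvPowerSeries.C (MvPowerSeries.constantCoeff f)) by abel]
    refine add_mem (Submodule.mem_sup_left (Ideal.mem_map_of_mem _ hc)) (Submodule.mem_sup_right ?_)
    exact H2PowerSeries.mem_J (by simp)
  · refine sup_le (Ideal.map_le_iff_le_comap.2 fun a ha => H9Art.mem_maximalIdeal_mvPowerSeries.2 (by simpa using ha)) ?_
    rw [Ideal.span_le]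
    rintro _ ⟨i, rfl⟩
    exact H9Art.mem_maximalIdeal_mvPowerSeries.2 (by simp)

/-- A finite injective map from a power series ring over a coefficient ring. -/
theorem exists_finite_injective {Λ : Type u} [CommRing Λ] [IsLocalRing Λ] [IsNoetherianRing Λ] [IsDomain Λ]
    [IsAdicComplete (maximalIdeal Λ) Λ] {A : Type v} [CommRing A] [IsLocalRing A] [IsNoetherianRing A] [IsDomain A]
    [IsAdicComplete (maximalIdeal A) A] (g : Λ →+* A) (hg : (maximalIdeal Λ).map g ≤ maximalIdeal A)
    (hres : ((residue A).comp g).Finite) {n : ℕ} (t : Fin n → A) (ht : ∀ i, t i ∈ maximalIdeal A)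
    {N : ℕ} (hN : maximalIdeal A ^ N ≤ (maximalIdeal Λ).map g ⊔ Ideal.span (Set.range t)) {d : ℕ}
    (hdP : (maximalIdeal Λ).spanFinrank + n ≤ d) (hdA : (d : WithBot ℕ∞) ≤ ringKrullDim A) :
    ∃ f : MvPowerSeries (Fin n) Λ →+* A, (∀ a, f (MvPowerSeries.C a) = g a) ∧ (∀ i, f (MvPowerSeries.X i) = t i) ∧
      Function.Injective f ∧ f.Finite := by
  letI := g.toAlgebra
  obtain ⟨φ, hφ, -⟩ := H2PowerSeries.exists_aeval (R := Λ) (maximalIdeal A) t ht
  let P := MvPowerSeries (Fin n) Λ
  letI : Algebra P A := φ.toRingHom.toAlgebra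
  haveI : IsScalarTower Λ P A := IsScalarTower.of_algebraMap_eq fun r => (φ.commutes r).symm
  haveI := H9Art.isAdicComplete_mvPowerSeries (R := Λ) (σ := Fin n)
  have hmap : (maximalIdeal P).map (algebraMap P A) = (maximalIdeal Λ).map g ⊔ Ideal.span (Set.range t) := by
    rw [maximalIdeal_powerSeries, Ideal.map_sup, Ideal.map_map, Ideal.map_span, ← Set.range_comp,
      show (algebraMap P A).comp MvPowerSeries.C = g from RingHom.ext φ.commutes]
    congr 2
    exact congrArg Set.range (funext hφ)
  have hle : (maximalIdeal P).map (algebraMap P A) ≤ maximalIdeal A :=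
    hmap.le.trans (sup_le hg (Ideal.span_le.2 (Set.range_subset_iff.2 ht)))
  haveI : IsHausdorff ((maximalIdeal P).map (algebraMap P A)) A :=
    ⟨fun x hx => IsHausdorff.haus' (I := maximalIdeal A) x fun k => (hx k).mono
      (Submodule.smul_mono (Ideal.pow_right_mono hle k) le_rfl)⟩
  haveI : Module.Finite Λ (A ⧸ maximalIdeal A) := RingHom.finite_algebraMap.1 hres
  haveI : Module.Finite P (A ⧸ maximalIdeal A) := Module.Finite.of_restrictScalars_finite Λ P _
  haveI := finite_quotient_pow (P := P) (maximalIdeal A) (IsNoetherian.noetherian _) N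
  haveI : Module.Finite P A := finite_of_quotient (maximalIdeal P) (maximalIdeal A ^ N) (hN.trans hmap.ge)
  haveI : IsDomain P := NoZeroDivisors.to_isDomain _
  have hP : ringKrullDim P ≤ (d : ℕ) := by
    refine (ringKrullDim_le_spanFinrank_maximalIdeal P).trans ?_
    norm_cast
    classical
    obtain ⟨s, hcard, hs⟩ := Submodule.FG.exists_span_set_encard_eq_spanFinrank (maximalIdeal Λ).fg_of_isNoetherianRing
    have hfin : s.Finite := Set.finite_of_encard_eq_coe hcard
    have hsn : s.ncard = (maximalIdeal Λ).spanFinrank := by rw [Set.ncard_def, hcard]; rfl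
    rw [maximalIdeal_powerSeries]
    conv_lhs => rw [← hs]
    erw [Ideal.map_span, ← Ideal.span_union]
    refine (Submodule.spanFinrank_span_le_ncard_of_finite ((hfin.image _).union (Set.finite_range _))).trans ?_
    refine (Set.ncard_union_le _ _).trans (le_trans (add_le_add ((Set.ncard_image_le hfin).trans hsn.le) ?_) hdP)
    rw [← Set.image_univ]
    exact (Set.ncard_image_le).trans (by simp)
  exact ⟨φ.toRingHom, φ.commutes, hφ, injective_of_finite hP hdA, RingHom.finite_algebraMap.2 inferInstance⟩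

end Groth.Agent.H2CohenFinite
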