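import Mathlib
import Groth.Agent.Lib.H2CohenField
set_option autoImplicit false

/-! Formal smoothness over a thickening of the base, and Cohen rings. -/
namespace Groth.Agent.H2CohenSmooth
open MvPolynomial
set_option backward.isDefEq.respectTransparency.types false
universe u v w w'

/-- Formal smoothness lifts along a nilpotent thickening by a "flat" element. -/
theorem formallySmooth_of_thickening {R : Type u} {R0 : Type v} {L : Type w} {L0 : Type w'}
    [CommRing R] [CommRing R0] [CommRing L] [CommRing L0] [Algebra R L] [Algebra R R0] [Algebra R0 L0]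
    [Algebra R L0] [IsScalarTower R R0 L0] [Algebra L L0] [IsScalarTower R L L0]
    (a : R) (n : ℕ) (ha : a ^ (n + 1) = 0) (hR : Function.Surjective (algebraMap R R0))
    (hRk : RingHom.ker (algebraMap R R0) = Ideal.span {a}) (hL : Function.Surjective (algebraMap L L0))
    (hLk : RingHom.ker (algebraMap L L0) = Ideal.span {algebraMap R L a})
    (hflat : ∀ y : L, algebraMap R L a * y = 0 → ∃ w, y = algebraMap R L a ^ n * w)
    [Algebra.FormallySmooth R0 L0] : Algebra.FormallySmooth R L := by
  classical
  let P := Algebra.Generators.self R L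
  let P0 : Algebra.Generators R0 L0 L :=
    { val := algebraMap L L0
      σ' := fun x => X (Function.surjInv hL x)
      aeval_val_σ' := fun x => by simp [Function.surjInv_eq hL x] }
  let f : P.Hom P0 := ⟨fun i => X i, fun i => by simp [P, P0]⟩
  let F := f.toExtensionHom
  haveI : Algebra.FormallySmooth R P.toExtension.Ring := inferInstanceAs (Algebra.FormallySmooth R (MvPolynomial L R))
  haveI : Algebra.FormallySmooth R0 P0.toExtension.Ring := inferInstanceAs (Algebra.FormallySmooth R0 (MvPolynomial L R0))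
  rw [P.toExtension.formallySmooth_iff_split_injection]
  obtain ⟨l0, hl0⟩ := P0.toExtension.formallySmooth_iff_split_injection.1 ‹Algebra.FormallySmooth R0 L0›
  let πN := Algebra.Extension.Cotangent.map F
  let πF := Algebra.Extension.CotangentSpace.map F
  have hmap : ∀ p : MvPolynomial L R, f.toAlgHom p = MvPolynomial.map (algebraMap R R0) p := fun p => by
    have : f.toAlgHom = MvPolynomial.mapAlgHom (Algebra.ofId R R0) :=
      MvPolynomial.algHom_ext fun i => by simp [Algebra.Generators.Hom.toAlgHom, f]
    rw [this]; rfl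
  have hev : ∀ p : MvPolynomial L R, algebraMap L L0 (aeval (id : L → L) p) = aeval P0.val (f.toAlgHom p) :=
    fun p => (f.algebraMap_toAlgHom p).symm
  have hker : ∀ p : MvPolynomial L R, p ∈ P.toExtension.ker ↔ aeval (id : L → L) p = 0 := fun p => Iff.rfl
  have hker0 : ∀ p : MvPolynomial L R0, p ∈ P0.toExtension.ker ↔ aeval P0.val p = 0 := fun p => Iff.rfl
  let I : Ideal (MvPolynomial L R) := P.toExtension.ker
  let I0 : Ideal (MvPolynomial L R0) := P0.toExtension.ker
  let g : MvPolynomial L R →+* MvPolynomial L R0 := MvPolynomial.map (algebraMap R R0)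
  have hg : Function.Surjective g := MvPolynomial.map_surjective (algebraMap R R0) hR
  have hga : g (C a) = 0 := by
    show MvPolynomial.map _ (C a) = 0
    rw [MvPolynomial.map_C, show algebraMap R R0 a = 0 from RingHom.mem_ker.1 (hRk ▸ Ideal.mem_span_singleton_self a), C_0]
  have hI0 : ∀ q ∈ I0, ∃ p ∈ I, g p = q := by
    intro q hq
    obtain ⟨p, rfl⟩ := hg q
    have h0 : aeval (id : L → L) p ∈ RingHom.ker (algebraMap L L0) := by
      rw [RingHom.mem_ker, hev, hmap]; exact (hker0 _).1 hq
    rw [hLk, Ideal.mem_span_singleton] at h0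
    obtain ⟨y, hy⟩ := h0
    refine ⟨p - C a * X y, (hker _).2 (by simp [hy]), ?_⟩
    rw [map_sub, map_mul, hga, zero_mul, sub_zero]
  have hmk : ∀ (p : MvPolynomial L R) (hp : p ∈ I) (q : MvPolynomial L R0) (hq : q ∈ I0), g p = q →
      πN (Algebra.Extension.Cotangent.mk ⟨p, hp⟩) = Algebra.Extension.Cotangent.mk ⟨q, hq⟩ := by
    intro p hp q hq h
    refine (Algebra.Extension.Cotangent.map_mk F ⟨p, hp⟩).trans ?_
    congr 2
    exact (hmap p).trans h
  have hπN : Function.Surjective πN := fun z => by
    obtain ⟨⟨q, hq⟩, rfl⟩ := Algebra.Extension.Cotangent.mk_surjective z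
    obtain ⟨p, hp, h⟩ := hI0 q hq
    exact ⟨Algebra.Extension.Cotangent.mk ⟨p, hp⟩, hmk p hp q hq h⟩
  have hkerπ : ∀ x, πN x = 0 → ∃ y, x = algebraMap R L a • y := by
    intro x hx
    obtain ⟨⟨(p : MvPolynomial L R), (hp : p ∈ I)⟩, rfl⟩ := Algebra.Extension.Cotangent.mk_surjective x
    have hgp : g p ∈ I0 := by
      show aeval P0.val (g p) = 0
      rw [show g p = f.toAlgHom p from (hmap p).symm, ← hev, (hker p).1 hp, map_zero]
    rw [hmk p hp (g p) hgp rfl] at hx
    have hsq : g p ∈ I0 ^ 2 := (Algebra.Extension.Cotangent.mk_eq_zero_iff _).1 hx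
    have hle : I0 ≤ I.map g := fun q hq => by
      obtain ⟨p, hp, rfl⟩ := hI0 q hq
      exact Ideal.mem_map_of_mem _ hp
    have hx' : g p ∈ (I ^ 2).map g := by
      rw [Ideal.map_pow]
      exact Ideal.pow_right_mono hle 2 hsq
    rw [Ideal.mem_map_iff_of_surjective _ hg] at hx'
    obtain ⟨y, hy, hyp⟩ := hx'
    have hd : p - y ∈ RingHom.ker g := by
      rw [RingHom.mem_ker, map_sub, hyp, sub_self]
    rw [MvPolynomial.ker_map, hRk, Ideal.map_span, Set.image_singleton, Ideal.mem_span_singleton] at hd
    obtain ⟨z, hz⟩ := hd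
    have hy1 : y ∈ I := Ideal.pow_le_self two_ne_zero hy
    have haz : algebraMap R L a * aeval (id : L → L) z = 0 := by
      have h1 : aeval (id : L → L) (p - y) = 0 := (hker _).1 (sub_mem hp hy1)
      rwa [hz, map_mul, aeval_C] at h1
    obtain ⟨w, hw⟩ := hflat _ haz
    have hz' : z - C (a ^ n) * X w ∈ I := (hker _).2 (by simp [hw])
    refine ⟨Algebra.Extension.Cotangent.mk ⟨_, hz'⟩, ?_⟩
    have key : p - C a * (z - C (a ^ n) * X w) ∈ I ^ 2 := by
      rw [mul_sub, ← mul_assoc, ← map_mul, ← pow_succ', ha, map_zero, zero_mul, sub_zero, ← hz, sub_sub_cancel]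
      exact hy
    rw [IsScalarTower.algebraMap_smul, ← IsScalarTower.algebraMap_smul P.toExtension.Ring a,
      ← map_smul, ← sub_eq_zero, ← map_sub, Algebra.Extension.Cotangent.mk_eq_zero_iff]
    exact key
  let b := P.cotangentSpaceBasis
  choose lift hlift using hπN
  let s : P.toExtension.CotangentSpace →ₗ[L] P.toExtension.Cotangent := b.constr L fun i => lift (l0 (P0.cotangentSpaceBasis i))
  have hs : πN ∘ₗ s = (l0.restrictScalars L) ∘ₗ πF := b.ext fun i => by
    simp only [LinearMap.comp_apply, LinearMap.coe_restrictScalars, s, Module.Basis.constr_basis, hlift, b]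
    congr 1
    rw [Algebra.Generators.cotangentSpaceBasis_apply, Algebra.Generators.cotangentSpaceBasis_apply]
    erw [Algebra.Extension.CotangentSpace.map_tmul]
    rw [map_one]
    congr 2
    show X i = f.toAlgHom (X i)
    simp [Algebra.Generators.Hom.toAlgHom, f]
  let δ : Module.End L P.toExtension.Cotangent := s ∘ₗ P.toExtension.cotangentComplex - 1
  have hδ : ∀ x, ∃ y, δ x = algebraMap R L a • y := fun x => hkerπ _ (by
    show πN (s (P.toExtension.cotangentComplex x) - x) = 0
    rw [map_sub, sub_eq_zero]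
    refine (LinearMap.congr_fun hs (P.toExtension.cotangentComplex x)).trans ?_
    show l0 (Algebra.Extension.CotangentSpace.map F (P.toExtension.cotangentComplex x)) = πN x
    rw [Algebra.Extension.CotangentSpace.map_cotangentComplex]
    exact LinearMap.congr_fun hl0 _)
  have hpow : ∀ k x, ∃ y, (δ ^ k) x = (algebraMap R L a) ^ k • y := by
    intro k
    induction k with
    | zero => exact fun x => ⟨x, by simp⟩
    | succ k ih =>
      intro x
      obtain ⟨y, hy⟩ := ih x
      obtain ⟨y', hy'⟩ := hδ y
      exact ⟨y', by rw [pow_succ', Module.End.mul_apply, hy, map_smul, hy', smul_smul, ← pow_succ]⟩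
  have hnil : IsNilpotent δ := ⟨n + 1, LinearMap.ext fun x => by
    obtain ⟨y, hy⟩ := hpow (n + 1) x
    rw [hy, ← map_pow, ha, map_zero, zero_smul, LinearMap.zero_apply]⟩
  have hu : IsUnit (s ∘ₗ P.toExtension.cotangentComplex : Module.End L P.toExtension.Cotangent) := by
    have := hnil.isUnit_one_add
    rwa [show (1 : Module.End L P.toExtension.Cotangent) + δ = s ∘ₗ P.toExtension.cotangentComplex from add_sub_cancel _ _] at this
  obtain ⟨v, hv⟩ := hu.exists_left_inv
  exact ⟨v ∘ₗ s, (LinearMap.comp_assoc _ _ _).trans hv⟩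

end Groth.Agent.H2CohenSmooth
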