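import Mathlib
import Groth.Prelude.Def_Found
import Groth.Agent.Lib.H2CohenSmooth
set_option autoImplicit false

/-! Lifting homomorphisms out of Cohen rings. -/
namespace Groth.Agent.H2CohenLift
open IsLocalRing
set_option backward.isDefEq.respectTransparency.types false
universe u v

/-- Maps from `W` lift along square zero ideals of rings in which `p` is nilpotent. -/
def HasLift (W : Type u) [CommRing W] (p : ℕ) : Prop :=
  ∀ (B : Type v) [CommRing B] (Q : Ideal B), Q ^ 2 = ⊥ → IsNilpotent (p : B) →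
    ∀ f : W →+* B ⧸ Q, ∃ g : W →+* B, (Ideal.Quotient.mk Q).comp g = f

theorem formallySmooth_quotient (Λ : Type u) [CommRing Λ] [IsDomain Λ] [IsDiscreteValuationRing Λ] (p : ℕ)
    (hp : p.Prime) (hm : maximalIdeal Λ = Ideal.span {(p : Λ)}) (m : ℕ)
    [Algebra (ZMod (p ^ (m + 1))) (Λ ⧸ Ideal.span {(p : Λ) ^ (m + 1)})] :
    Algebra.FormallySmooth (ZMod (p ^ (m + 1))) (Λ ⧸ Ideal.span {(p : Λ) ^ (m + 1)}) := by
  haveI := Fact.mk hp
  have hp0 : (p : Λ) ≠ 0 := fun h => IsDiscreteValuationRing.not_a_field Λ (by rw [hm, h, Ideal.span_singleton_eq_bot])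
  let I : Ideal Λ := Ideal.span {(p : Λ) ^ (m + 1)}
  have hI : I ≤ maximalIdeal Λ := by
    rw [hm, Ideal.span_singleton_le_iff_mem, Ideal.mem_span_singleton]
    exact dvd_pow_self _ (Nat.succ_ne_zero m)
  let L := Λ ⧸ I
  let k := ResidueField Λ
  haveI : CharP k p := by
    refine ⟨fun x => ?_⟩
    rw [← map_natCast (residue Λ), residue_eq_zero_iff, hm, Ideal.mem_span_singleton]
    constructor
    · intro h
      by_contra hx
      obtain ⟨a, b, hab⟩ := Nat.isCoprime_iff_coprime.2 (hp.coprime_iff_not_dvd.2 hx)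
      obtain ⟨c, hc⟩ := h
      have h1 : (1 : Λ) = (p : Λ) * ((a : Λ) + (b : Λ) * c) := by
        have := congrArg (fun z : ℤ => (z : Λ)) hab
        push_cast at this
        rw [hc] at this
        linear_combination -this
      exact (maximalIdeal.isMaximal Λ).ne_top ((Ideal.eq_top_iff_one _).2 (hm ▸ Ideal.mem_span_singleton.2 ⟨_, h1⟩))
    · rintro ⟨c, rfl⟩
      exact ⟨c, by push_cast; ring⟩
  letI : Algebra (ZMod p) k := ZMod.algebra k p
  letI : Algebra (ZMod (p ^ (m + 1))) (ZMod p) := (ZMod.castHom (dvd_pow_self p (Nat.succ_ne_zero m)) (ZMod p)).toAlgebra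
  letI : Algebra L k := (Ideal.Quotient.lift I (residue Λ) (fun x hx => (residue_eq_zero_iff x).2 (hI hx))).toAlgebra
  letI : Algebra (ZMod (p ^ (m + 1))) k := ((algebraMap (ZMod p) k).comp (algebraMap (ZMod (p ^ (m + 1))) (ZMod p))).toAlgebra
  haveI : IsScalarTower (ZMod (p ^ (m + 1))) (ZMod p) k := IsScalarTower.of_algebraMap_eq' rfl
  haveI : IsScalarTower (ZMod (p ^ (m + 1))) L k := IsScalarTower.of_algebraMap_eq' (Subsingleton.elim _ _)
  haveI : Algebra.FormallySmooth (ZMod p) k := H2PerfectSmooth.formallySmooth (ZMod p) k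
  have haL : algebraMap (ZMod (p ^ (m + 1))) L (p : ZMod (p ^ (m + 1))) = (p : L) := map_natCast _ _
  refine H2CohenSmooth.formallySmooth_of_thickening (R0 := ZMod p) (L0 := k) (p : ZMod (p ^ (m + 1))) m ?_ ?_ ?_ ?_ ?_ ?_
  · rw [← Nat.cast_pow, ZMod.natCast_self]
  · exact ZMod.ringHom_surjective _
  · refine le_antisymm (fun x hx => ?_) ?_
    · obtain ⟨x, rfl⟩ := ZMod.intCast_surjective x
      rw [RingHom.mem_ker, map_intCast, ZMod.intCast_zmod_eq_zero_iff_dvd] at hx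
      obtain ⟨c, rfl⟩ := hx
      exact Ideal.mem_span_singleton.2 ⟨c, by push_cast; rfl⟩
    · rw [Ideal.span_singleton_le_iff_mem, RingHom.mem_ker, map_natCast, ZMod.natCast_self]
  · intro y
    obtain ⟨y, rfl⟩ := residue_surjective y
    exact ⟨Ideal.Quotient.mk I y, rfl⟩
  · rw [haL]
    refine le_antisymm (fun x hx => ?_) ?_
    · obtain ⟨x, rfl⟩ := Ideal.Quotient.mk_surjective x
      have h1 : residue Λ x = 0 := hx
      rw [residue_eq_zero_iff, hm, Ideal.mem_span_singleton] at h1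
      obtain ⟨c, rfl⟩ := h1
      exact Ideal.mem_span_singleton.2 ⟨Ideal.Quotient.mk I c, by rw [map_mul, map_natCast]⟩
    · rw [Ideal.span_singleton_le_iff_mem, RingHom.mem_ker, map_natCast, CharP.cast_eq_zero k p]
  · intro y hy
    rw [haL] at hy ⊢
    obtain ⟨y, rfl⟩ := Ideal.Quotient.mk_surjective y
    rw [← map_natCast (Ideal.Quotient.mk I), ← map_mul, Ideal.Quotient.eq_zero_iff_mem, Ideal.mem_span_singleton,
      pow_succ'] at hy
    obtain ⟨c, hc⟩ := (mul_dvd_mul_iff_left hp0).1 hy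
    exact ⟨Ideal.Quotient.mk I c, by rw [hc, map_mul, map_pow, map_natCast]⟩

theorem hasLift_cohen (Λ : Type u) [CommRing Λ] [IsDomain Λ] [IsDiscreteValuationRing Λ] (p : ℕ)
    (hp : p.Prime) (hm : maximalIdeal Λ = Ideal.span {(p : Λ)}) : HasLift.{u, v} Λ p := by
  intro B _ Q hQ hpB f
  obtain ⟨m, hm0⟩ := hpB
  let I : Ideal Λ := Ideal.span {(p : Λ) ^ (m + 1)}
  let n := p ^ (m + 1)
  have hnB : ((n : ℕ) : B) = 0 := by rw [Nat.cast_pow, pow_succ, hm0, zero_mul]
  obtain ⟨c, _⟩ := CharP.exists B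
  haveI := ‹CharP B c›
  letI : Algebra (ZMod n) B := (ZMod.castHom ((CharP.cast_eq_zero_iff B c n).1 hnB) B).toAlgebra
  obtain ⟨d, _⟩ := CharP.exists (Λ ⧸ I)
  haveI := ‹CharP (Λ ⧸ I) d›
  letI : Algebra (ZMod n) (Λ ⧸ I) := (ZMod.castHom ((CharP.cast_eq_zero_iff (Λ ⧸ I) d n).1 (by
      rw [← map_natCast (Ideal.Quotient.mk I), Ideal.Quotient.eq_zero_iff_mem, Nat.cast_pow]
      exact Ideal.mem_span_singleton_self _)) (Λ ⧸ I)).toAlgebra
  haveI : Algebra.FormallySmooth (ZMod n) (Λ ⧸ I) := formallySmooth_quotient Λ p hp hm m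
  have hfI : ∀ x ∈ I, f x = 0 := fun x hx => by
    obtain ⟨y, rfl⟩ := Ideal.mem_span_singleton.1 hx
    rw [map_mul, map_pow, map_natCast, ← map_natCast (Ideal.Quotient.mk Q), ← map_pow, pow_succ, hm0, zero_mul, map_zero, zero_mul]
  let f' : (Λ ⧸ I) →ₐ[ZMod n] B ⧸ Q :=
    { toRingHom := Ideal.Quotient.lift I f hfI
      commutes' := fun r => RingHom.congr_fun (Subsingleton.elim ((Ideal.Quotient.lift I f hfI).comp (algebraMap (ZMod n) (Λ ⧸ I))) (algebraMap (ZMod n) (B ⧸ Q))) r }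
  obtain ⟨g, hg⟩ := Algebra.FormallySmooth.exists_lift Q ⟨2, hQ⟩ f'
  exact ⟨g.toRingHom.comp (Ideal.Quotient.mk I), RingHom.ext fun x => AlgHom.congr_fun hg (Ideal.Quotient.mk I x)⟩

theorem hasLift_field (W : Type u) [Field W] [CharZero W] (p : ℕ) : HasLift.{u, v} W p := by
  intro B _ Q hQ _ f
  have hu : ∀ y : nonZeroDivisors ℤ, IsUnit (Int.castRingHom B (y : ℤ)) := fun y => by
    refine (IsNilpotent.isUnit_quotient_mk_iff (I := Q) ⟨2, hQ⟩).1 ?_
    have h : IsUnit (f ((y : ℤ) : W)) := (isUnit_iff_ne_zero.2 (Int.cast_ne_zero.2 (nonZeroDivisors.ne_zero y.2))).map f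
    simpa using h
  letI : Algebra ℚ B := (IsLocalization.lift (S := ℚ) (M := nonZeroDivisors ℤ) hu).toAlgebra
  haveI : Algebra.FormallySmooth ℚ W := H2PerfectSmooth.formallySmooth ℚ W
  let f' : W →ₐ[ℚ] B ⧸ Q := { toRingHom := f, commutes' := fun r => RingHom.congr_fun (Subsingleton.elim (f.comp (algebraMap ℚ W)) (algebraMap ℚ (B ⧸ Q))) r }
  obtain ⟨g, hg⟩ := Algebra.FormallySmooth.exists_lift Q ⟨2, hQ⟩ f'
  exact ⟨g.toRingHom, RingHom.ext fun x => AlgHom.congr_fun hg x⟩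

/-- Lift to a complete local ring. -/
theorem exists_lift {W : Type u} [CommRing W] {p : ℕ} (hW : HasLift.{u, v} W p) {C : Type v} [CommRing C]
    [IsLocalRing C] [IsAdicComplete (maximalIdeal C) C] (J : Ideal C) (hJ : J ≤ maximalIdeal C)
    (hJc : ∀ x, (∀ n, x ∈ J ⊔ maximalIdeal C ^ (n + 1)) → x ∈ J) (hpC : (p : C) ∈ maximalIdeal C)
    (u : W →+* C ⧸ J) : ∃ g : W →+* C, (Ideal.Quotient.mk J).comp g = u := by
  let M := maximalIdeal C
  let Good : ∀ n : ℕ, (W →+* C ⧸ M ^ (n + 1)) → Prop := fun n g =>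
    (Ideal.Quotient.factor (le_sup_right : M ^ (n + 1) ≤ J ⊔ M ^ (n + 1))).comp g =
      (Ideal.Quotient.factor (le_sup_left : J ≤ J ⊔ M ^ (n + 1))).comp u
  have h0 : ∃ g, Good 0 g := by
    have hle : J ≤ M ^ (0 + 1) := by rw [zero_add, pow_one]; exact hJ
    refine ⟨(Ideal.Quotient.factor hle).comp u, RingHom.ext fun w => ?_⟩
    obtain ⟨c, hc⟩ := Ideal.Quotient.mk_surjective (u w)
    simp [← hc]
  have hstep : ∀ n g, Good n g → ∃ g', Good (n + 1) g' ∧
      (Ideal.Quotient.factorPow M (Nat.le_succ (n + 1))).comp g' = g := by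
    intro n g hg
    let K := J ⊔ M ^ (n + 1 + 1)
    have hQk : M ^ (n + 1 + 1) ≤ M ^ (n + 1) ⊓ K := le_inf (Ideal.pow_le_pow_right (by omega)) le_sup_right
    let B := C ⧸ M ^ (n + 1 + 1)
    let Q : Ideal B := (M ^ (n + 1) ⊓ K).map (Ideal.Quotient.mk _)
    have hQ2 : Q ^ 2 = ⊥ := by
      rw [← Ideal.map_pow, Ideal.map_eq_bot_iff_le_ker, Ideal.mk_ker]
      refine (Ideal.pow_right_mono inf_le_left 2).trans ?_
      rw [← pow_mul]
      exact Ideal.pow_le_pow_right (by omega)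
    have hnil : IsNilpotent (p : B) := ⟨n + 1 + 1, by
      rw [← map_natCast (Ideal.Quotient.mk (M ^ (n + 1 + 1))), ← map_pow, Ideal.Quotient.eq_zero_iff_mem]
      exact Ideal.pow_mem_pow hpC _⟩
    have hex : ∀ w, ∃ c, Ideal.Quotient.mk (M ^ (n + 1)) c = g w ∧
        Ideal.Quotient.mk K c = Ideal.Quotient.factor (le_sup_left : J ≤ K) (u w) := by
      intro w
      obtain ⟨c1, hc1⟩ := Ideal.Quotient.mk_surjective (g w)
      obtain ⟨c2, hc2⟩ := Ideal.Quotient.mk_surjective (u w)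
      have h := RingHom.congr_fun hg w
      simp only [RingHom.comp_apply, ← hc1, ← hc2, Ideal.Quotient.factor_mk, Ideal.Quotient.eq] at h
      obtain ⟨a, ha, b, hb, hab⟩ := Submodule.mem_sup.1 h
      refine ⟨c1 - b, ?_, ?_⟩
      · rw [map_sub, hc1, Ideal.Quotient.eq_zero_iff_mem.2 hb, sub_zero]
      · rw [← hc2, Ideal.Quotient.factor_mk, Ideal.Quotient.eq]
        refine Submodule.mem_sup_left ?_
        rw [show c1 - b - c2 = a from by linear_combination -hab]
        exact ha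
    choose c hc1 hc2 using hex
    let φ : C →+* B ⧸ Q := (Ideal.Quotient.mk Q).comp (Ideal.Quotient.mk _)
    have hφ : ∀ x y, Ideal.Quotient.mk (M ^ (n + 1)) x = Ideal.Quotient.mk _ y →
        Ideal.Quotient.mk K x = Ideal.Quotient.mk K y → φ x = φ y := fun x y h1 h2 => by
      rw [← sub_eq_zero, ← map_sub]
      exact Ideal.Quotient.eq_zero_iff_mem.2 (Ideal.mem_map_of_mem _ ⟨Ideal.Quotient.eq.1 h1, Ideal.Quotient.eq.1 h2⟩)
    let f : W →+* B ⧸ Q :=
      { toFun := fun w => φ (c w)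
        map_one' := (hφ _ 1 (by rw [hc1, map_one, map_one]) (by rw [hc2, map_one, map_one, map_one])).trans (map_one φ)
        map_mul' := fun x y => (hφ _ (c x * c y) (by rw [hc1, map_mul, map_mul, hc1, hc1])
          (by rw [hc2, map_mul, map_mul, map_mul, hc2, hc2])).trans (map_mul φ _ _)
        map_zero' := (hφ _ 0 (by rw [hc1, map_zero, map_zero]) (by rw [hc2, map_zero, map_zero, map_zero])).trans (map_zero φ)
        map_add' := fun x y => (hφ _ (c x + c y) (by rw [hc1, map_add, map_add, hc1, hc1])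
          (by rw [hc2, map_add, map_add, map_add, hc2, hc2])).trans (map_add φ _ _) }
    obtain ⟨g', hg'⟩ := hW B Q hQ2 hnil f
    have hmem : ∀ w d, Ideal.Quotient.mk (M ^ (n + 1 + 1)) d = g' w → d - c w ∈ M ^ (n + 1) ⊓ K := fun w d hd => by
      have h := RingHom.congr_fun hg' w
      simp only [RingHom.comp_apply, ← hd] at h
      have h2 := Ideal.Quotient.eq.1 h
      rw [← map_sub, Ideal.mem_map_iff_of_surjective _ Ideal.Quotient.mk_surjective] at h2
      obtain ⟨x, hx, hx'⟩ := h2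
      rw [← sub_sub_self x (d - c w)]
      exact sub_mem hx (hQk (Ideal.Quotient.eq.1 hx'))
    refine ⟨g', RingHom.ext fun w => ?_, RingHom.ext fun w => ?_⟩
    · obtain ⟨d, hd⟩ := Ideal.Quotient.mk_surjective (g' w)
      simp only [RingHom.comp_apply, ← hd, Ideal.Quotient.factor_mk]
      rw [← hc2 w, Ideal.Quotient.eq]
      exact (hmem w d hd).2
    · obtain ⟨d, hd⟩ := Ideal.Quotient.mk_surjective (g' w)
      simp only [RingHom.comp_apply, ← hd, Ideal.Quotient.factor_mk]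
      rw [← hc1 w, Ideal.Quotient.eq]
      exact (hmem w d hd).1
  choose next hnext1 hnext2 using hstep
  let seq : ∀ n, {g : W →+* C ⧸ M ^ (n + 1) // Good n g} :=
    fun n => Nat.rec ⟨h0.choose, h0.choose_spec⟩ (fun n g => ⟨next n g.1 g.2, hnext1 n g.1 g.2⟩) n
  have hmono : StrictMono fun n : ℕ => n + 1 := fun a b h => Nat.add_lt_add_right h 1
  refine ⟨IsAdicComplete.StrictMono.liftRingHom M hmono (fun n => (seq n).1)
    (fun {m} => hnext2 m (seq m).1 (seq m).2), RingHom.ext fun w => ?_⟩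
  obtain ⟨c, hc⟩ := Ideal.Quotient.mk_surjective (u w)
  rw [RingHom.comp_apply, ← hc, Ideal.Quotient.eq]
  refine hJc _ fun n => ?_
  have h := RingHom.congr_fun (seq n).2 w
  rw [RingHom.comp_apply, RingHom.comp_apply, ← hc, ← IsAdicComplete.StrictMono.mk_liftRingHom M hmono (fun n => (seq n).1)
    (fun {m} => hnext2 m (seq m).1 (seq m).2), Ideal.Quotient.factor_mk, Ideal.Quotient.factor_mk] at h
  exact Ideal.Quotient.eq.1 h

end Groth.Agent.H2CohenLift
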