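import Mathlib
import Groth.Prelude.Def_Wider
import Groth.Agent.Lib.H2Depth
import Groth.Agent.Lib.H6.Hartogs
set_option autoImplicit false

/-! Connected components and opens with complement of depth at least two. -/
namespace Groth.Agent.H2CompDepth
open CategoryTheory AlgebraicGeometry TopologicalSpace Opposite
set_option backward.isDefEq.respectTransparency.types false
universe u

theorem isOpen_connectedComponent {T : Type u} [TopologicalSpace T]
    (h : ∀ x : T, ∃ W : Opens T, x ∈ W ∧ NoetherianSpace W) (x : T) : IsOpen (connectedComponent x) := by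
  rw [isOpen_iff_mem_nhds]
  intro y hy
  rw [connectedComponent_eq hy]
  obtain ⟨W, hyW, hW⟩ := h y
  let w : W := ⟨y, hyW⟩
  let S := {C ∈ irreducibleComponents W | w ∉ C}
  have hS : IsClosed (⋃₀ S) := by
    rw [Set.sUnion_eq_biUnion]
    exact (NoetherianSpace.finite_irreducibleComponents.subset fun C hC => hC.1).isClosed_biUnion
      fun C hC => isClosed_of_mem_irreducibleComponents C hC.1
  have hsub : (⋃₀ S)ᶜ ⊆ Subtype.val ⁻¹' connectedComponent y := by
    intro z hz
    have hC := irreducibleComponent_mem_irreducibleComponents z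
    by_cases hw : w ∈ irreducibleComponent z
    · exact ((isIrreducible_irreducibleComponent.isPreirreducible.isPreconnected.image _
        continuous_subtype_val.continuousOn).subset_connectedComponent ⟨w, hw, rfl⟩) ⟨z, mem_irreducibleComponent, rfl⟩
    · exact absurd ⟨_, ⟨hC, hw⟩, mem_irreducibleComponent⟩ hz
  refine Filter.mem_of_superset ((W.2.isOpenMap_subtype_val _ hS.isOpen_compl).mem_nhds ⟨w, ?_, rfl⟩)
    (Set.image_subset_iff.2 hsub)
  rintro ⟨C, hC, hwC⟩
  exact hC.2 hwC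

variable (X : Scheme.{u}) [IsLocallyNoetherian X] (U : X.Opens)

theorem noetherianSpace_of_isAffine [IsAffine X] : NoetherianSpace X := by
  haveI : IsNoetherian X := { }
  infer_instance

theorem exists_noetherian_nhd (x : X) : ∃ W : Opens X, x ∈ W ∧ NoetherianSpace W := by
  obtain ⟨_, ⟨W, hW, rfl⟩, hxW, -⟩ := X.isBasis_affineOpens.exists_subset_of_mem_open (Set.mem_univ x) isOpen_univ
  haveI : IsAffine (W : Scheme.{u}) := hW
  exact ⟨W, hxW, noetherianSpace_of_isAffine (W : Scheme.{u})⟩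

theorem exists_noetherian_nhd_opens (x : U) : ∃ W : Opens U, x ∈ W ∧ NoetherianSpace W :=
  exists_noetherian_nhd (U : Scheme.{u}) x

theorem exists_affine_subset {X : Scheme.{u}} {O : Set X} (hO : IsOpen O) {x : X} (hx : x ∈ O) :
    ∃ W : X.Opens, IsAffineOpen W ∧ x ∈ W ∧ (W : Set X) ⊆ O := by
  obtain ⟨_, ⟨W, hW, rfl⟩, h1, h2⟩ := X.isBasis_affineOpens.exists_subset_of_mem_open hx hO
  exact ⟨W, hW, h1, h2⟩

/-- stalkwise depth two off `U`. -/
def Deep : Prop := ∀ x : X, x ∉ (U : Set X) → (2 : ℕ∞) ≤ LocCoh.depth (X.presheaf.stalk x) (X.presheaf.stalk x)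

variable {X U}

theorem Deep.preimage (h : Deep X U) (W : X.Opens) :
    ∀ z : (W : Scheme.{u}), z ∉ (W.ι ⁻¹ᵁ U) → ∃ a b : (W : Scheme.{u}).presheaf.stalk z,
      a ∈ IsLocalRing.maximalIdeal ((W : Scheme.{u}).presheaf.stalk z) ∧
      b ∈ IsLocalRing.maximalIdeal ((W : Scheme.{u}).presheaf.stalk z) ∧
      RingTheory.Sequence.IsWeaklyRegular ((W : Scheme.{u}).presheaf.stalk z) [a, b] := by
  intro z hz
  let L := X.presheaf.stalk (W.ι z)
  haveI : IsNoetherianRing L := inferInstance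
  have hne : IsLocalRing.maximalIdeal L • (⊤ : Submodule L L) ≠ ⊤ := by
    rw [Ideal.smul_eq_mul, Ideal.mul_top]
    exact (IsLocalRing.maximalIdeal.isMaximal L).ne_top
  obtain ⟨rs, hlen, hreg, hmem⟩ := (H2Depth.hasReg_iff_le_idealDepth hne (k := 2)).2 (h (W.ι z) hz)
  obtain ⟨a, b, rfl⟩ := List.length_eq_two.1 hlen
  let e : L ≃+* (W : Scheme.{u}).presheaf.stalk z := (W.stalkIso z).symm.commRingCatIsoToRingEquiv
  refine ⟨e a, e b, ?_, ?_, (AddEquiv.isWeaklyRegular_congr (e := e.toAddEquiv)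
    (List.Forall₂.cons (fun _ => map_mul e _ _) (List.Forall₂.cons (fun _ => map_mul e _ _) List.Forall₂.nil))).1 hreg⟩
  · simpa using hmem a (by simp)
  · simpa using hmem b (by simp)

theorem Deep.exists_section (h : Deep X U) (W : X.Opens) [IsAffine (W : Scheme.{u})] :
    Function.Bijective ((W : Scheme.{u}).presheaf.map (homOfLE (le_top : W.ι ⁻¹ᵁ U ≤ ⊤)).op) := by
  haveI := noetherianSpace_of_isAffine (W : Scheme.{u})
  haveI : NoetherianSpace (W.ι ⁻¹ᵁ U : (W : Scheme.{u}).Opens) := NoetherianSpace.set ((W.ι ⁻¹ᵁ U : (W : Scheme.{u}).Opens) : Set (W : Scheme.{u}))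
  haveI : QuasiCompact (W.ι ⁻¹ᵁ U).ι := inferInstance
  exact H6.Hartogs.restrict_bijective (W : Scheme.{u}) (W.ι ⁻¹ᵁ U) (h.preimage W)

theorem Deep.dense (h : Deep X U) : Dense (U : Set X) := by
  rw [dense_iff_inter_open]
  intro O hO ⟨x, hx⟩
  obtain ⟨W, hW, hxW, hWO⟩ := exists_affine_subset hO hx
  by_contra hne
  rw [Set.not_nonempty_iff_eq_empty] at hne
  haveI : IsAffine (W : Scheme.{u}) := hW
  have he : W.ι ⁻¹ᵁ U = ⊥ := by
    ext z
    simp only [Scheme.Hom.coe_preimage, Set.mem_preimage, Opens.coe_bot, Set.mem_empty_iff_false, iff_false]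
    exact fun hz => (hne ▸ (⟨hWO z.2, hz⟩ : W.ι z ∈ O ∩ (U : Set X)) : W.ι z ∈ (∅ : Set X))
  have hb := (h.exists_section W).1
  haveI : Subsingleton Γ((W : Scheme.{u}), W.ι ⁻¹ᵁ U) := by
    rw [he]
    exact CommRingCat.subsingleton_of_isTerminal (W : Scheme.{u}).sheaf.isTerminalOfEmpty
  haveI : Subsingleton Γ((W : Scheme.{u}), ⊤) := hb.subsingleton
  have h1 : (1 : Γ((W : Scheme.{u}), ⊤)) = 0 := Subsingleton.elim _ _
  have : (⟨x, hxW⟩ : W) ∈ (W : Scheme.{u}).basicOpen (1 : Γ((W : Scheme.{u}), ⊤)) := by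
    rw [Scheme.basicOpen_of_isUnit _ isUnit_one]; trivial
  rw [h1, Scheme.basicOpen_zero] at this
  exact this

/-- the closures of complementary opens of `U` do not meet. -/
theorem Deep.disjoint_closure (h : Deep X U) (V₁ V₂ : X.Opens) (hd : Disjoint V₁ V₂) (hu : V₁ ⊔ V₂ = U) :
    Disjoint (closure (V₁ : Set X)) (closure (V₂ : Set X)) := by
  rw [Set.disjoint_left]
  intro z hz₁ hz₂
  obtain ⟨W, hW, hzW, -⟩ := exists_affine_subset isOpen_univ (Set.mem_univ z)
  haveI : IsAffine (W : Scheme.{u}) := hW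
  let Y : Scheme.{u} := W
  let P : Bool → Y.Opens := fun b => W.ι ⁻¹ᵁ (cond b V₁ V₂)
  let U' : Y.Opens := W.ι ⁻¹ᵁ U
  have hP : ∀ b, P b ≤ U' := fun b => by
    refine (fun q hq => ?_)
    show W.ι q ∈ U
    rw [← hu]
    cases b
    · exact Or.inr hq
    · exact Or.inl hq
  have hsub : ∀ b c, b ≠ c → Subsingleton Γ(Y, P b ⊓ P c) := fun b c hbc => by
    have : P b ⊓ P c = ⊥ := by
      ext q
      simp only [Opens.coe_inf, Set.mem_inter_iff, Opens.coe_bot, Set.mem_empty_iff_false, iff_false]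
      have h0 : ∀ y, y ∈ V₁ → y ∈ V₂ → False := fun y h1 h2 => (hd.le_bot ⟨h1, h2⟩ : y ∈ (⊥ : X.Opens))
      cases b <;> cases c
      · exact absurd rfl hbc
      · exact fun ⟨a, b⟩ => h0 _ b a
      · exact fun ⟨a, b⟩ => h0 _ a b
      · exact absurd rfl hbc
    rw [this]
    exact CommRingCat.subsingleton_of_isTerminal Y.sheaf.isTerminalOfEmpty
  let sf : ∀ b, Γ(Y, P b) := fun b => cond b 1 0
  obtain ⟨e, he, -⟩ := TopCat.Sheaf.existsUnique_gluing' Y.sheaf P U' (fun b => homOfLE (hP b)) (fun q hq => by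
    rw [Opens.mem_iSup]
    rcases (hu ▸ hq : W.ι q ∈ V₁ ⊔ V₂) with h1 | h2
    · exact ⟨true, h1⟩
    · exact ⟨false, h2⟩) sf (fun b c => by
      by_cases hbc : b = c
      · subst hbc; rfl
      · exact (hsub b c hbc).elim _ _)
  obtain ⟨f, hf⟩ := (h.exists_section W).2 e
  have hres : ∀ b, Y.presheaf.map (homOfLE (le_top : P b ≤ ⊤)).op f = sf b := fun b => by
    rw [← homOfLE_comp (hP b) le_top, op_comp, Functor.map_comp, CommRingCat.comp_apply, hf]
    exact he b
  have hP1 : P true ≤ Y.basicOpen f := by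
    have := Y.basicOpen_res f (homOfLE (le_top : P true ≤ ⊤)).op
    rw [hres] at this
    intro q hq
    have : q ∈ P true ⊓ Y.basicOpen f := by rw [← this]; simp [sf]; exact hq
    exact this.2
  have hP2 : P false ≤ Y.basicOpen (1 - f) := by
    have := Y.basicOpen_res (1 - f) (homOfLE (le_top : P false ≤ ⊤)).op
    rw [map_sub, map_one, hres] at this
    intro q hq
    have : q ∈ P false ⊓ Y.basicOpen (1 - f) := by rw [← this]; simp [sf]; exact hq
    exact this.2
  have hidem : f * (1 - f) = 0 := by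
    apply (h.exists_section W).1
    rw [map_mul, map_sub, map_one, map_zero, hf]
    refine TopCat.Sheaf.eq_of_locally_eq' Y.sheaf P U' (fun b => homOfLE (hP b)) (fun q hq => ?_) _ _ fun b => ?_
    · rw [Opens.mem_iSup]
      rcases (hu ▸ hq : W.ι q ∈ V₁ ⊔ V₂) with h1 | h2
      · exact ⟨true, h1⟩
      · exact ⟨false, h2⟩
    · change Y.presheaf.map (homOfLE (hP b)).op _ = Y.presheaf.map (homOfLE (hP b)).op _
      rw [map_zero, map_mul, map_sub, map_one]
      erw [he b]
      cases b <;> simp [sf]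
  have hcap : ∀ q : Y, q ∈ Y.basicOpen f → q ∈ Y.basicOpen (1 - f) → False := fun q h1 h2 => by
    have : q ∈ Y.basicOpen (f * (1 - f)) := by rw [Y.basicOpen_mul]; exact ⟨h1, h2⟩
    rw [hidem, Scheme.basicOpen_zero] at this
    exact this
  let q : Y := ⟨z, hzW⟩
  have hor : q ∈ Y.basicOpen f ∨ q ∈ Y.basicOpen (1 - f) := by
    rw [Scheme.mem_basicOpen_top, Scheme.mem_basicOpen_top]
    refine IsLocalRing.isUnit_or_isUnit_of_add_one ?_
    rw [← map_add, add_sub_cancel, map_one]
  have hmeet : ∀ (b : Bool) (O : Y.Opens), q ∈ O → z ∈ closure ((cond b V₁ V₂ : X.Opens) : Set X) →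
      ∃ r, r ∈ O ∧ r ∈ P b := fun b O hqO hz => by
    obtain ⟨_, ⟨r, hr, rfl⟩, hr'⟩ := mem_closure_iff.1 hz _ (W.ι.isOpenEmbedding.isOpenMap _ O.2) ⟨q, hqO, rfl⟩
    exact ⟨r, hr, hr'⟩
  rcases hor with hq | hq
  · obtain ⟨r, h1, h2⟩ := hmeet false _ hq hz₂
    exact hcap r h1 (hP2 h2)
  · obtain ⟨r, h1, h2⟩ := hmeet true _ hq hz₁
    exact hcap r (hP1 h2) h1

theorem Deep.bijective (h : Deep X U) :
    Function.Bijective (Continuous.connectedComponentsMap (continuous_subtype_val : Continuous (fun x : U => (x : X)))) := by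
  refine ⟨?_, fun c => ?_⟩
  · intro a b
    obtain ⟨x, rfl⟩ := ConnectedComponents.surjective_coe a
    obtain ⟨y, rfl⟩ := ConnectedComponents.surjective_coe b
    intro hab
    have hab' : connectedComponent (x : X) = connectedComponent (y : X) := ConnectedComponents.coe_eq_coe.1 hab
    rw [ConnectedComponents.coe_eq_coe']
    by_contra hxy
    have hV : IsOpen (connectedComponent y) := isOpen_connectedComponent (exists_noetherian_nhd_opens X U) y
    let V₁ : X.Opens := ⟨Subtype.val '' connectedComponent y, U.2.isOpenMap_subtype_val _ hV⟩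
    let V₂ : X.Opens := ⟨Subtype.val '' (connectedComponent y)ᶜ, U.2.isOpenMap_subtype_val _ isClosed_connectedComponent.isOpen_compl⟩
    have hd : Disjoint V₁ V₂ := by
      rw [disjoint_iff_inf_le]
      rintro _ ⟨⟨s, hs, rfl⟩, ⟨t, ht, hts⟩⟩
      exact ht (Subtype.ext hts ▸ hs)
    have hu : V₁ ⊔ V₂ = U := by
      ext q
      simp only [Opens.coe_sup, Set.mem_union, SetLike.mem_coe]
      constructor
      · rintro (⟨s, -, rfl⟩ | ⟨s, -, rfl⟩) <;> exact s.2
      · intro hq
        by_cases hs : (⟨q, hq⟩ : U) ∈ connectedComponent y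
        · exact Or.inl ⟨_, hs, rfl⟩
        · exact Or.inr ⟨_, hs, rfl⟩
    have hcov : closure (V₁ : Set X) ∪ closure (V₂ : Set X) = Set.univ := by
      rw [← closure_union, ← Opens.coe_sup, hu]; exact h.dense.closure_eq
    have hcl : IsClopen (closure (V₁ : Set X)) := by
      refine ⟨isClosed_closure, ?_⟩
      have he : closure (V₁ : Set X) = (closure (V₂ : Set X))ᶜ :=
        Set.Subset.antisymm (fun q hq hq' => Set.disjoint_left.1 (h.disjoint_closure V₁ V₂ hd hu) hq hq')
          fun q hq => (hcov.ge (Set.mem_univ q)).resolve_right hq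
      rw [he]
      exact isClosed_closure.isOpen_compl
    have hy : (y : X) ∈ closure (V₁ : Set X) := subset_closure ⟨y, mem_connectedComponent, rfl⟩
    have hx := hcl.connectedComponent_subset hy (hab' ▸ mem_connectedComponent : (x : X) ∈ connectedComponent (y : X))
    exact Set.disjoint_left.1 (h.disjoint_closure V₁ V₂ hd hu) hx (subset_closure ⟨x, hxy, rfl⟩)
  · obtain ⟨x, rfl⟩ := ConnectedComponents.surjective_coe c
    obtain ⟨q, hq, hqU⟩ := h.dense.inter_open_nonempty _ (isOpen_connectedComponent (exists_noetherian_nhd X) x)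
      ⟨x, mem_connectedComponent⟩
    exact ⟨ConnectedComponents.mk ⟨q, hqU⟩, ConnectedComponents.coe_eq_coe'.2 hq⟩

end Groth.Agent.H2CompDepth
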