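import Mathlib
import Groth.Prelude.Def_Found
import Groth.Agent.Lib.H2DerExtend
set_option autoImplicit false

/-! Extension of derivations can be tested on finite sets. -/
namespace Groth.Agent.H2DerFinite
open IsLocalRing TensorProduct
set_option backward.isDefEq.respectTransparency.types false
universe u

theorem ext_of_finite {k A : Type u} [Field k] [CommRing A] [IsLocalRing A] [Algebra k A]
    (h : ∀ (n : ℕ) (a : Fin n → k) (δ : Derivation ℤ k (ResidueField A)),
      ∃ D : Derivation ℤ A (ResidueField A), ∀ i, D (algebraMap k A (a i)) = δ (a i))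
    (δ : Derivation ℤ k (ResidueField A)) : ∃ D : Derivation ℤ A (ResidueField A), ∀ x, D (algebraMap k A x) = δ x := by
  classical
  let κ := ResidueField A
  refine H2DerExtend.ext_of_injective ?_ δ
  rw [injective_iff_map_eq_zero]
  intro z hz
  let v : k → κ ⊗[A] (A ⊗[k] Ω[k⁄ℤ]) := fun a => (1 : κ) ⊗ₜ[A] ((1 : A) ⊗ₜ[k] KaehlerDifferential.D ℤ k a)
  have hrep : ∀ z : κ ⊗[A] (A ⊗[k] Ω[k⁄ℤ]), z ∈ Submodule.span κ (Set.range v) := by
    intro z
    induction z with
    | zero => exact zero_mem _
    | add x y hx hy => exact add_mem hx hy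
    | tmul c w =>
      induction w with
      | zero => rw [TensorProduct.tmul_zero]; exact zero_mem _
      | add x y hx hy => rw [TensorProduct.tmul_add]; exact add_mem hx hy
      | tmul b ω =>
        have hω : ω ∈ Submodule.span k (Set.range (KaehlerDifferential.D ℤ k)) := by
          rw [KaehlerDifferential.span_range_derivation]; trivial
        induction hω using Submodule.span_induction generalizing b with
        | mem y hy =>
          obtain ⟨a, rfl⟩ := hy
          have : c ⊗ₜ[A] (b ⊗ₜ[k] KaehlerDifferential.D ℤ k a) = (b • c) • v a := by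
            simp only [v, TensorProduct.smul_tmul']
            rw [show (b • c) • (1 : κ) = b • c from mul_one _, TensorProduct.smul_tmul, TensorProduct.smul_tmul', smul_eq_mul, mul_one]
          rw [this]
          exact Submodule.smul_mem _ _ (Submodule.subset_span ⟨a, rfl⟩)
        | zero => rw [TensorProduct.tmul_zero, TensorProduct.tmul_zero]; exact zero_mem _
        | add x y _ _ hx hy => rw [TensorProduct.tmul_add, TensorProduct.tmul_add]; exact add_mem (hx b) (hy b)
        | smul r x _ hx =>
          have : b ⊗ₜ[k] (r • x) = (r • b) ⊗ₜ[k] x := (TensorProduct.smul_tmul r b x).symm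
          rw [this]
          exact hx _
  obtain ⟨cf, hcf⟩ := Finsupp.mem_span_range_iff_exists_finsupp.1 (hrep z)
  let e := cf.support.equivFin
  let a : Fin cf.support.card → k := fun i => (e.symm i).1
  have hsum : ∑ i, cf (a i) • v (a i) = z := by
    rw [← hcf, Finsupp.sum, ← Finset.sum_attach cf.support]
    exact Fintype.sum_equiv e.symm _ (fun x : cf.support => cf x.1 • v x.1) fun i => rfl
  refine (Module.forall_dual_apply_eq_zero_iff κ z).1 fun G => ?_
  let j : Ω[k⁄ℤ] →ₗ[k] κ :=
    (((G.restrictScalars A).comp (TensorProduct.mk A κ (A ⊗[k] Ω[k⁄ℤ]) 1)).restrictScalars k).comp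
      (TensorProduct.mk k A (Ω[k⁄ℤ]) 1)
  obtain ⟨D, hD⟩ := h _ a (j.compDer (KaehlerDifferential.D ℤ k))
  let G' : κ ⊗[A] Ω[A⁄ℤ] →ₗ[κ] κ := D.liftKaehlerDifferential.liftBaseChange κ
  let bc : κ ⊗[A] (A ⊗[k] Ω[k⁄ℤ]) →ₗ[κ] κ ⊗[A] Ω[A⁄ℤ] := LinearMap.baseChange κ (KaehlerDifferential.mapBaseChange ℤ k A)
  have hb : bc z = 0 := hz
  have h2 := congrArg G' hb
  rw [← hsum, map_sum, map_sum, map_zero] at h2
  rw [← hsum, map_sum]
  refine Eq.trans (Finset.sum_congr rfl fun i _ => ?_) h2
  rw [map_smul, map_smul, map_smul, smul_eq_mul, smul_eq_mul]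
  congr 1
  refine ((hD i).symm.trans ?_)
  simp [v, G', bc, KaehlerDifferential.mapBaseChange_tmul, Derivation.liftKaehlerDifferential_comp_D]

end Groth.Agent.H2DerFinite
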