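import Mathlib
import Groth.Prelude.Def_Found
import Groth.Agent.Lib.H2GeomRegMore
import Groth.Agent.Lib.H2RegDescend
set_option autoImplicit false

/-! Geometric regularity and field extensions. -/
namespace Groth.Agent.H2GeomRegBase
open TensorProduct IsLocalRing Groth.Agent.H2GeomRegMore
set_option backward.isDefEq.respectTransparency.types false
set_option synthInstance.maxHeartbeats 400000
set_option maxHeartbeats 1000000
universe u

theorem geomReg_baseChange {k S K : Type u} [Field k] [CommRing S] [Algebra k S] [IsNoetherianRing S] [Field K] [Algebra k K]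
    [IsNoetherianRing (K ⊗[k] S)] (h : CAlg.IsGeometricallyRegular k S) : CAlg.IsGeometricallyRegular K (K ⊗[k] S) :=
  geomReg_iff_forall.2 fun Q _ => adicFS_tensor Q _ rfl (adicFS_of_geomReg h _)

theorem geomReg_descend {k S K : Type u} [Field k] [CommRing S] [Algebra k S] [Field K] [Algebra k K]
    (h : CAlg.IsGeometricallyRegular K (K ⊗[k] S)) : CAlg.IsGeometricallyRegular k S := by
  intro k' _ _ hf
  haveI := hf
  haveI : Nontrivial (K ⊗[k] k') :=
    (Algebra.TensorProduct.includeLeft_injective (R := k) (S := k) (A := K) (B := k') (algebraMap k k').injective).nontrivial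
  obtain ⟨M, hM⟩ := Ideal.exists_maximal (K ⊗[k] k')
  haveI := hM
  let K' := (K ⊗[k] k') ⧸ M
  letI : Field K' := Ideal.Quotient.field M
  haveI : Module.Finite K K' := Module.Finite.of_surjective (Ideal.Quotient.mkₐ K M).toLinearMap Ideal.Quotient.mk_surjective
  haveI : IsRegularRing (K' ⊗[K] (K ⊗[k] S)) := h K' inferInstance
  haveI : IsRegularRing (K' ⊗[k] S) := IsRegularRing.of_ringEquiv (Algebra.TensorProduct.cancelBaseChange k K K' K' S).toRingEquiv
  letI : Algebra k' K' := ((Ideal.Quotient.mkₐ k M).comp (Algebra.TensorProduct.includeRight : k' →ₐ[k] K ⊗[k] k')).toRingHom.toAlgebra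
  haveI : IsScalarTower k k' K' := IsScalarTower.of_algebraMap_eq fun x =>
    (((Ideal.Quotient.mkₐ k M).comp (Algebra.TensorProduct.includeRight : k' →ₐ[k] K ⊗[k] k')).commutes x).symm
  haveI : IsRegularRing (K' ⊗[k'] (k' ⊗[k] S)) := IsRegularRing.of_ringEquiv (Algebra.TensorProduct.cancelBaseChange k k' K' K' S).symm.toRingEquiv
  haveI : IsRegularRing ((k' ⊗[k] S) ⊗[k'] K') := IsRegularRing.of_ringEquiv (Algebra.TensorProduct.comm k' K' (k' ⊗[k] S)).toRingEquiv
  exact H2RegDescend.isRegularRing_descend (S := (k' ⊗[k] S) ⊗[k'] K')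

theorem geomReg_of_equiv {k S T : Type u} [Field k] [CommRing S] [CommRing T] [Algebra k S] [Algebra k T] (e : S ≃ₐ[k] T)
    (h : CAlg.IsGeometricallyRegular k S) : CAlg.IsGeometricallyRegular k T := by
  intro k' _ _ hf
  haveI := h k' hf
  exact IsRegularRing.of_ringEquiv (Algebra.TensorProduct.congr (AlgEquiv.refl : k' ≃ₐ[k] k') e).toRingEquiv

theorem geomReg_of_ringEquiv {k S T : Type u} [Field k] [CommRing S] [CommRing T] [Algebra k S] [Algebra k T] (e : S ≃+* T)
    (he : ∀ c : k, e (algebraMap k S c) = algebraMap k T c)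
    (h : CAlg.IsGeometricallyRegular k S) : CAlg.IsGeometricallyRegular k T :=
  geomReg_of_equiv { e with commutes' := he } h

/-- Base change of a regular homomorphism along an essentially finite type map. -/
theorem isRegularHom_baseChange_eft {B C : Type u} [CommRing B] [CommRing C] [Algebra B C] (R0 : Type u) [CommRing R0] [Algebra B R0]
    [Algebra.EssFiniteType B R0] (hBC : CAlg.IsRegularHom B C) : CAlg.IsRegularHom R0 (R0 ⊗[B] C) := by
  haveI := hBC.1
  refine ⟨inferInstance, fun P _ => ?_⟩
  let q := P.comap (algebraMap B R0)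
  letI : Algebra q.ResidueField P.ResidueField := (Ideal.ResidueField.map q P (algebraMap B R0) rfl).toAlgebra
  haveI : IsScalarTower B q.ResidueField P.ResidueField := IsScalarTower.of_algebraMap_eq fun x => by
    rw [RingHom.algebraMap_toAlgebra, Ideal.ResidueField.map_algebraMap, ← IsScalarTower.algebraMap_apply]
  haveI : Algebra.EssFiniteType B P.ResidueField := Algebra.EssFiniteType.comp B R0 P.ResidueField
  haveI : Algebra.EssFiniteType q.ResidueField P.ResidueField := Algebra.EssFiniteType.of_comp B q.ResidueField P.ResidueField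
  obtain ⟨hqN, hqg⟩ := hBC.2 q
  haveI := hqN
  haveI : IsNoetherianRing ((q.Fiber C) ⊗[q.ResidueField] P.ResidueField) :=
    @Algebra.EssFiniteType.isNoetherianRing (q.Fiber C) ((q.Fiber C) ⊗[q.ResidueField] P.ResidueField) _ _ _ inferInstance hqN
  haveI : IsNoetherianRing (P.ResidueField ⊗[q.ResidueField] q.Fiber C) :=
    isNoetherianRing_of_ringEquiv _ (Algebra.TensorProduct.comm q.ResidueField (q.Fiber C) P.ResidueField).toRingEquiv
  let e2 := (Algebra.TensorProduct.cancelBaseChange B q.ResidueField P.ResidueField P.ResidueField C).trans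
    (Algebra.TensorProduct.cancelBaseChange B R0 P.ResidueField P.ResidueField C).symm
  exact ⟨isNoetherianRing_of_ringEquiv _ e2.toRingEquiv, geomReg_of_equiv e2 (geomReg_baseChange hqg)⟩

end Groth.Agent.H2GeomRegBase
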