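import Mathlib
import Groth.Prelude.Def_Found
import Groth.Agent.Lib.H2LocalCrit
import Groth.Agent.Lib.H2AdicComplFS
import Groth.Agent.Lib.CompleteNoetherian
import Groth.Agent.Lib.H2GeomRegMore
import Groth.Agent.S9295
set_option autoImplicit false

/-! Completions and regular homomorphisms. -/
namespace Groth.Agent.H2ComplReg
open IsLocalRing TensorProduct Groth.Agent.H2GeomRegMore
set_option backward.isDefEq.respectTransparency.types false
set_option synthInstance.maxHeartbeats 400000
set_option maxHeartbeats 1000000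
universe u

/-- The map of completions induced by a ring map. -/
theorem exists_map {A B : Type u} [CommRing A] [CommRing B] (I : Ideal A) (hI : I.FG) (J : Ideal B) (φ : A →+* B)
    (h : I.map φ ≤ J) :
    ∃ Φ : AdicCompletion I A →+* AdicCompletion J B, ∀ a, Φ (algebraMap A _ a) = algebraMap B _ (φ a) := by
  have hle : ∀ n, I ^ n ≤ (J ^ n).comap φ := fun n => by
    rw [← Ideal.map_le_iff_le_comap, Ideal.map_pow]; exact Ideal.pow_right_mono h n
  let f : ∀ n, AdicCompletion I A →+* B ⧸ J ^ n := fun n =>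
    (Ideal.quotientMap (J ^ n) φ (hle n)).comp (AdicCompletion.evalₐ I n).toRingHom
  have hf : ∀ {m n : ℕ} (hmn : m ≤ n), (Ideal.Quotient.factorPow J hmn).comp (f n) = f m := fun {m n} hmn => by
    refine RingHom.ext fun x => ?_
    obtain ⟨s, hs⟩ := H2AdicComplFS.exists_sub_mem hI n x
    have h1 : ∀ k, k ≤ n → AdicCompletion.evalₐ I k x = Ideal.Quotient.mk (I ^ k) s := fun k hk => by
      have h2 := (H2AdicComplFS.mem_pow_map_iff hI k _).1 (Ideal.pow_le_pow_right hk hs)
      rw [map_sub, H2AdicComplFS.evalₐ_algebraMap, sub_eq_zero] at h2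
      exact h2
    show Ideal.Quotient.factorPow J hmn (Ideal.quotientMap (J ^ n) φ (hle n) (AdicCompletion.evalₐ I n x)) =
      Ideal.quotientMap (J ^ m) φ (hle m) (AdicCompletion.evalₐ I m x)
    rw [h1 n le_rfl, h1 m hmn]
    rfl
  refine ⟨AdicCompletion.liftRingHom J f hf, fun a => AdicCompletion.ext_evalₐ fun n => ?_⟩
  rw [AdicCompletion.evalₐ_liftRingHom, H2AdicComplFS.evalₐ_algebraMap]
  show Ideal.quotientMap (J ^ n) φ (hle n) (AdicCompletion.evalₐ I n (algebraMap A _ a)) = _
  rw [H2AdicComplFS.evalₐ_algebraMap]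
  rfl

/-- Flatness over a ring in which the base is dense. -/
theorem flat_of_dense {A R S : Type u} [CommRing A] [CommRing R] [CommRing S] [Algebra A R] [Algebra A S] [Algebra R S]
    [IsScalarTower A R S] [IsNoetherianRing R] [IsNoetherianRing S] [Module.Flat A S] (I : Ideal A)
    (hI : I.map (algebraMap A S) ≤ Ideal.jacobson ⊥)
    (hd : ∀ (n : ℕ) (x : R), ∃ a : A, x - algebraMap A R a ∈ (I.map (algebraMap A R)) ^ n) : Module.Flat R S := by
  refine H2LocalCrit.flat_of_flat_pow (S := S) (M := S) (I.map (algebraMap A R))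
    (by rwa [Ideal.map_map, ← IsScalarTower.algebraMap_eq]) fun n _ => ?_
  let Rn := R ⧸ (I.map (algebraMap A R)) ^ n
  haveI : TensorProduct.CompatibleSMul A R Rn S := ⟨fun r x y => by
    obtain ⟨a, ha⟩ := hd n r
    have key : ∀ z ∈ (I.map (algebraMap A R)) ^ n, ∀ (x : Rn) (y : S), (z • x) ⊗ₜ[A] y = x ⊗ₜ[A] (z • y) := by
      intro z hz
      rw [← Ideal.map_pow] at hz
      refine Submodule.span_induction ?_ (fun x y => by rw [zero_smul, zero_smul, zero_tmul, tmul_zero])
        (fun u v _ _ hu hv x y => by rw [add_smul, add_smul, add_tmul, tmul_add, hu, hv]) (fun c u hu' hu x y => ?_) hz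
      · rintro _ ⟨μ, -, rfl⟩ x y
        rw [IsScalarTower.algebraMap_smul, IsScalarTower.algebraMap_smul, TensorProduct.smul_tmul]
      · have h0 : ∀ (w : R), w ∈ (I ^ n).map (algebraMap A R) → ∀ x : Rn, w • x = 0 := fun w hw x => by
          obtain ⟨x, rfl⟩ := Ideal.Quotient.mk_surjective x
          rw [Algebra.smul_def, Ideal.Quotient.algebraMap_eq, ← map_mul, Ideal.Quotient.eq_zero_iff_mem, ← Ideal.map_pow]
          exact Ideal.mul_mem_right _ _ hw
        have hcu : c * u ∈ (I ^ n).map (algebraMap A R) := Ideal.mul_mem_left _ _ hu'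
        rw [smul_eq_mul, h0 _ hcu, zero_tmul, mul_comm, mul_smul, ← hu x (c • y), h0 u hu' x, zero_tmul]
    calc (r • x) ⊗ₜ[A] y = ((r - algebraMap A R a) • x) ⊗ₜ[A] y + (algebraMap A R a • x) ⊗ₜ[A] y := by
          rw [← add_tmul, ← add_smul, sub_add_cancel]
      _ = x ⊗ₜ[A] ((r - algebraMap A R a) • y) + x ⊗ₜ[A] (algebraMap A R a • y) := by
          rw [key _ ha, IsScalarTower.algebraMap_smul, IsScalarTower.algebraMap_smul, TensorProduct.smul_tmul]
      _ = x ⊗ₜ[A] (r • y) := by rw [← tmul_add, ← add_smul, sub_add_cancel]⟩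
  show Module.Flat Rn (Rn ⊗[R] S)
  exact Module.Flat.of_linearEquiv (TensorProduct.equivOfCompatibleSMul R A Rn Rn S).symm

theorem adicFS_congr {A B B' : Type u} [CommRing A] [CommRing B] [CommRing B'] [Algebra A B] [Algebra A B'] (e : B ≃ₐ[A] B')
    {𝔟 : Ideal B} {𝔟' : Ideal B'} (he : 𝔟.map e.toRingEquiv.toRingHom ≤ 𝔟') (h : CAlgX.IsAdicFormallySmooth A B 𝔟) :
    CAlgX.IsAdicFormallySmooth A B' 𝔟' := by
  intro C _ _ J hJ ψ ⟨n, hn⟩
  obtain ⟨χ, hχ⟩ := h C J hJ (ψ.comp e.toAlgHom) ⟨n, fun x hx => hn _ (Ideal.pow_right_mono he n (by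
    rw [← Ideal.map_pow]; exact Ideal.mem_map_of_mem _ hx))⟩
  refine ⟨χ.comp e.symm.toAlgHom, AlgHom.ext fun x => ?_⟩
  refine (AlgHom.congr_fun hχ (e.symm x)).trans ?_
  exact congrArg ψ (e.apply_symm_apply x)

/-- The completion of a G-ring along any ideal is regular over it. -/
theorem isRegularHom_completion (A : Type u) [CommRing A] (hA : CAlg.IsGRing A) (I : Ideal A) :
    CAlg.IsRegularHom A (AdicCompletion I A) := by
  haveI := hA.1
  have hI : I.FG := IsNoetherian.noetherian I
  let T := AdicCompletion I A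
  haveI : IsNoetherianRing T := CplNoeth.isNoetherianRing_completion I
  refine isRegularHom_iff.2 fun q hq => ?_
  obtain ⟨M, hM, hqM⟩ := Ideal.exists_le_maximal q hq.ne_top
  haveI := hM
  have hIM : I.map (algebraMap A T) ≤ M := by
    haveI : IsAdicComplete (I.map (algebraMap A T)) T := AdicCompletion.isAdicComplete_self I hI
    exact (IsAdicComplete.le_jacobson_bot _).trans (sInf_le ⟨bot_le, hM⟩)
  let m := M.comap (algebraMap A T)
  have hIm : I ≤ m := Ideal.map_le_iff_le_comap.1 hIM
  haveI hm : m.IsMaximal := by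
    have hs : Function.Surjective ((Ideal.Quotient.mk M).comp (algebraMap A T)) := fun z => by
      obtain ⟨x, rfl⟩ := Ideal.Quotient.mk_surjective z
      obtain ⟨s, hs⟩ := H2AdicComplFS.exists_sub_mem hI 1 x
      rw [pow_one] at hs
      exact ⟨s, (Ideal.Quotient.eq.2 (hIM hs)).symm⟩
    have hk : RingHom.ker ((Ideal.Quotient.mk M).comp (algebraMap A T)) = m := by
      rw [← RingHom.comap_ker, Ideal.mk_ker]
    letI : Field (T ⧸ M) := Ideal.Quotient.field M
    exact hk ▸ RingHom.ker_isMaximal_of_surjective _ hs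
  have hmM : M = m.map (algebraMap A T) :=
    ((AdicCompletion.isMaximal_map_of_le I m hIm hI).eq_of_le hM.ne_top Ideal.map_comap_le).symm
  let Am := Localization.AtPrime m
  haveI : IsNoetherianRing Am := IsLocalization.isNoetherianRing m.primeCompl _ inferInstance
  let C := AdicCompletion (maximalIdeal Am) Am
  haveI : IsNoetherianRing C := CplNoeth.isNoetherianRing_completion _
  have hle : I.map (algebraMap A Am) ≤ maximalIdeal Am := by
    rw [← IsLocalization.AtPrime.map_eq_maximalIdeal m Am]; exact Ideal.map_mono hIm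
  obtain ⟨Φ, hΦ⟩ := exists_map I hI (maximalIdeal Am) (algebraMap A Am) hle
  have hΦM : M ≤ (maximalIdeal C).comap Φ := by
    refine hmM.le.trans (Ideal.map_le_iff_le_comap.2 ?_)
    intro a ha
    show Φ (algebraMap A T a) ∈ maximalIdeal C
    rw [hΦ, AdicCompletion.maximalIdeal_eq_map]
    exact Ideal.mem_map_of_mem _ (IsLocalization.AtPrime.map_eq_maximalIdeal m Am ▸ Ideal.mem_map_of_mem _ ha)
  have hΦM' : M = (maximalIdeal C).comap Φ := hM.eq_of_le (Ideal.IsPrime.comap Φ).ne_top hΦM
  have hu : ∀ y : M.primeCompl, IsUnit (Φ y) := fun y => notMem_maximalIdeal.1 fun h => y.2 (hΦM'.ge h)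
  let L := Localization.AtPrime M
  haveI : IsNoetherianRing L := IsLocalization.isNoetherianRing M.primeCompl _ inferInstance
  letI : Algebra L C := (IsLocalization.lift hu).toAlgebra
  haveI : IsScalarTower A L C := IsScalarTower.of_algebraMap_eq fun a => by
    rw [IsScalarTower.algebraMap_apply A T L]
    show _ = IsLocalization.lift hu (algebraMap T L (algebraMap A T a))
    rw [IsLocalization.lift_eq, hΦ]
    exact IsScalarTower.algebraMap_apply A Am C a
  haveI : Module.Flat Am C := AdicCompletion.flat_of_isNoetherian _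
  haveI : Module.Flat A C := Module.Flat.trans A Am C
  have hmL : m.map (algebraMap A L) = maximalIdeal L := by
    rw [IsScalarTower.algebraMap_eq A T L, ← Ideal.map_map, ← hmM, IsLocalization.AtPrime.map_eq_maximalIdeal M L]
  haveI : Module.Flat L C := by
    refine flat_of_dense m ?_ fun n x => ?_
    · rw [IsLocalRing.jacobson_eq_maximalIdeal ⊥ bot_ne_top, IsScalarTower.algebraMap_eq A Am C, ← Ideal.map_map,
        IsLocalization.AtPrime.map_eq_maximalIdeal m Am, ← AdicCompletion.maximalIdeal_eq_map]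
    · rcases Nat.eq_zero_or_pos n with rfl | hn0
      · exact ⟨0, by simp⟩
      obtain ⟨⟨r, s⟩, hxs⟩ := IsLocalization.surj M.primeCompl x
      obtain ⟨a, ha⟩ := H2AdicComplFS.exists_sub_mem hI n r
      obtain ⟨b, hb⟩ := H2AdicComplFS.exists_sub_mem hI n (s : T)
      have hmn : ∀ z ∈ (I.map (algebraMap A T)) ^ n, algebraMap T L z ∈ (m.map (algebraMap A L)) ^ n := fun z hz => by
        rw [IsScalarTower.algebraMap_eq A T L, ← Ideal.map_map, ← Ideal.map_pow]
        exact Ideal.mem_map_of_mem _ (Ideal.pow_right_mono (Ideal.map_mono hIm) n hz)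
      have hbm : b ∉ m := fun hb' => s.2 (by
        rw [← sub_add_cancel (s : T) (algebraMap A T b)]
        exact add_mem (hIM (Ideal.pow_le_self hn0.ne' hb)) hb')
      obtain ⟨c, hc⟩ : ∃ c, b * c - 1 ∈ m ^ n := by
        have htop : Ideal.span {b} ⊔ m ^ n = ⊤ := Ideal.sup_pow_eq_top (by
          by_contra hne
          exact hbm ((hm.eq_of_le hne le_sup_right).ge (Ideal.mem_sup_left (Ideal.mem_span_singleton_self b))))
        obtain ⟨u, hu', v, hv, huv⟩ := Submodule.mem_sup.1 ((Ideal.eq_top_iff_one _).1 htop)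
        obtain ⟨c, rfl⟩ := Ideal.mem_span_singleton.1 hu'
        exact ⟨c, by rw [← huv]; simpa using neg_mem hv⟩
      refine ⟨a * c, ?_⟩
      have hsu : IsUnit (algebraMap T L s) := IsLocalization.map_units L s
      refine (Ideal.unit_mul_mem_iff_mem _ hsu).1 ?_
      have h1 := hmn _ ha
      have h2 := hmn _ hb
      have h3 : algebraMap A L (b * c - 1) ∈ (m.map (algebraMap A L)) ^ n := by
        rw [← Ideal.map_pow]; exact Ideal.mem_map_of_mem _ hc
      simp only [map_sub, map_mul, map_one, ← IsScalarTower.algebraMap_apply] at h1 h2 h3 ⊢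
      have h4 : algebraMap T L s * (x - algebraMap A L a * algebraMap A L c) =
          (algebraMap T L r - algebraMap A L a) - algebraMap A L a * algebraMap A L c * (algebraMap T L s - algebraMap A L b)
            - algebraMap A L a * (algebraMap A L b * algebraMap A L c - 1) := by
        rw [← hxs]; ring
      rw [h4]
      exact sub_mem (sub_mem h1 (Ideal.mul_mem_left _ _ h2)) (Ideal.mul_mem_left _ _ h3)
  haveI : IsLocalHom (algebraMap L C) := by
    refine ((IsLocalRing.local_hom_TFAE (algebraMap L C)).out 0 2).2 ?_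
    rw [← hmL, Ideal.map_map, ← IsScalarTower.algebraMap_eq, IsScalarTower.algebraMap_eq A Am C, ← Ideal.map_map,
      IsLocalization.AtPrime.map_eq_maximalIdeal m Am, ← AdicCompletion.maximalIdeal_eq_map]
  haveI : Module.FaithfullyFlat L C := Module.FaithfullyFlat.of_flat_of_isLocalHom
  haveI : Algebra.FormallySmooth A Am := Algebra.FormallySmooth.of_isLocalization m.primeCompl
  have h1 : CAlg.IsRegularHom A Am := isRegularHom_iff.2 fun Q _ => by
    haveI : Algebra.FormallySmooth Am (Localization.AtPrime Q) := Algebra.FormallySmooth.of_isLocalization Q.primeCompl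
    haveI : Algebra.FormallySmooth A (Localization.AtPrime Q) := Algebra.FormallySmooth.comp A Am _
    exact adicFS_of_formallySmooth _
  have hAC : CAlg.IsRegularHom A C := isRegularHom_trans h1 (hA.2 m)
  have hAL : CAlg.IsRegularHom A L :=
    Groth.Agent.S9295.result A L C hAC PrimeSpectrum.comap_surjective_of_faithfullyFlat
  have disj : Disjoint (M.primeCompl : Set T) (q : Set T) := Set.disjoint_left.mpr fun a ha hap => ha (hqM hap)
  let qL := q.map (algebraMap T L)
  haveI : qL.IsPrime := IsLocalization.isPrime_of_isPrime_disjoint M.primeCompl _ _ hq disj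
  haveI : IsLocalization.AtPrime (Localization.AtPrime qL) q := by
    convert IsLocalization.isLocalization_isLocalization_atPrime_isLocalization M.primeCompl (Localization.AtPrime qL) qL
    exact (IsLocalization.under_map_of_isPrime_disjoint M.primeCompl _ hq disj).symm
  let e := (IsLocalization.algEquiv q.primeCompl (Localization.AtPrime qL) (Localization.AtPrime q)).restrictScalars A
  refine adicFS_congr e (le_of_eq ?_) (isRegularHom_iff.1 hAL qL)
  exact IsLocalRing.map_maximalIdeal_of_surjective e.toRingEquiv.toRingHom e.surjective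

end Groth.Agent.H2ComplReg
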