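import Mathlib

/-! Covers by constructible sets; a constructible neighbourhood of a prime with one geometric point. -/

universe u

open Topology TensorProduct

namespace Groth.Agent.H2Constr

variable {X : Type*} [TopologicalSpace X]

theorem isOpen_constructibleTopology [CompactSpace X] [QuasiSeparatedSpace X] [PrespectralSpace X] {s : Set X}
    (hs : IsConstructible s) : IsOpen[constructibleTopology X] s := by
  haveI : Nonempty {U : Set X // IsOpen U ∧ IsCompact U} := ⟨⟨∅, isOpen_empty, isCompact_empty⟩⟩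
  refine IsConstructible.induction_of_isTopologicalBasis (fun U : {U : Set X // IsOpen U ∧ IsCompact U} => U.1)
    (by simpa using PrespectralSpace.isTopologicalBasis (X := X)) (fun U => U.2.2) (P := fun s _ => IsOpen[constructibleTopology X] s)
    (fun i t ht => ?_) (fun s _ t _ h1 h2 => by letI := constructibleTopology X; exact h1.union h2) s hs
  have h1 : IsOpen[constructibleTopology X] i.1 := i.2.2.isOpen_constructibleTopology_of_isOpen i.2.1
  have h2 : IsOpen[constructibleTopology X] (⋃ j ∈ t, j.1)ᶜ := by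
    refine IsCompact.isOpen_constructibleTopology_of_isClosed ?_ (isOpen_biUnion fun j _ => j.2.1).isClosed_compl
    rw [compl_compl]; exact ht.isCompact_biUnion fun j _ => j.2.2
  letI := constructibleTopology X
  exact h1.inter h2

/-- finite subcover of a cover by constructible sets. -/
theorem exists_finite_subcover [CompactSpace X] [QuasiSeparatedSpace X] [QuasiSober X] [PrespectralSpace X]
    {ι : Type*} (E : ι → Set X) (hE : ∀ i, IsConstructible (E i)) (hcov : ∀ x, ∃ i, x ∈ E i) :
    ∃ t : Finset ι, ∀ x, ∃ i ∈ t, x ∈ E i := by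
  obtain ⟨t, ht⟩ := isCompact_univ.elim_finite_subcover
    (fun i => ((WithTopology.ofTopology : WithConstructibleTopology X → X) ⁻¹' E i))
    (fun i => (WithConstructibleTopology.isOpen_iff).2 (isOpen_constructibleTopology (hE i)))
    (fun x _ => Set.mem_iUnion.2 (hcov _))
  refine ⟨t, fun x => ?_⟩
  obtain ⟨i, hi, hx⟩ := Set.mem_iUnion₂.1 (ht (Set.mem_univ (WithTopology.toTopology _ x)))
  exact ⟨i, hi, hx⟩

/-- locally constant on constructible sets: finitely many values with constructible level sets. -/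
theorem finite_range_of_constructible [CompactSpace X] [QuasiSeparatedSpace X] [QuasiSober X] [PrespectralSpace X]
    {α : Type*} (φ : X → α) (h : ∀ x, ∃ E : Set X, x ∈ E ∧ IsConstructible E ∧ ∀ z ∈ E, φ z = φ x) :
    (Set.range φ).Finite ∧ ∀ a, IsConstructible {x | φ x = a} := by
  classical
  choose E hxE hE hconst using h
  obtain ⟨t, ht⟩ := exists_finite_subcover E hE fun x => ⟨x, hxE x⟩
  refine ⟨(t.finite_toSet.image φ).subset ?_, fun a => ?_⟩
  · rintro _ ⟨z, rfl⟩
    obtain ⟨i, hi, hz⟩ := ht z
    exact ⟨i, hi, (hconst i z hz).symm⟩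
  · have : {x | φ x = a} = ⋃ i ∈ (↑(t.filter fun i => φ i = a) : Set X), E i := by
      ext z
      simp only [Finset.coe_filter, Set.mem_setOf_eq, Set.mem_iUnion, exists_prop]
      constructor
      · intro hz
        obtain ⟨i, hi, hzi⟩ := ht z
        exact ⟨i, ⟨hi, (hconst i z hzi).symm.trans hz⟩, hzi⟩
      · rintro ⟨i, ⟨-, hi⟩, hzi⟩; exact (hconst i z hzi).trans hi
    rw [this]
    exact IsConstructible.biUnion (Finset.finite_toSet _) fun i _ => hE i

/-- ring-level: near a prime with one geometric point a finite algebra has one geometric point. -/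
theorem exists_unique_nhd {R B : Type u} [CommRing R] [CommRing B] [Algebra R B] [Module.Finite R B] (P : Ideal R) [P.IsPrime]
    (H : ∀ (K : Type u) [Field K] [IsAlgClosed K] (φ χ : B →+* K), φ.comp (algebraMap R B) = χ.comp (algebraMap R B) →
      RingHom.ker (φ.comp (algebraMap R B)) = P → φ = χ) :
    ∃ (I : Ideal R) (s : R), I.FG ∧ I ≤ P ∧ s ∉ P ∧ ∀ (K : Type u) [Field K] (φ χ : B →+* K),
      φ.comp (algebraMap R B) = χ.comp (algebraMap R B) → I ≤ RingHom.ker (φ.comp (algebraMap R B)) →
      φ (algebraMap R B s) ≠ 0 → φ = χ := by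
  classical
  obtain ⟨S, hS⟩ := Module.Finite.fg_top (R := R) (M := B)
  let C := B ⊗[R] B
  have key : ∀ b : B, ∃ (T : Finset R) (s : R), ↑T ⊆ (P : Set R) ∧ s ∉ P ∧ ∃ N : ℕ,
      algebraMap R C s * (b ⊗ₜ[R] 1 - 1 ⊗ₜ[R] b : C) ^ N ∈ (Ideal.span (T : Set R)).map (algebraMap R C) := by
    intro b
    set t : C := b ⊗ₜ[R] 1 - 1 ⊗ₜ[R] b
    let M : Submonoid C := (P.primeCompl.map (algebraMap R C).toMonoidHom) ⊔ Submonoid.powers t
    by_cases hd : ∃ s ∉ P, ∃ N : ℕ, algebraMap R C s * t ^ N ∈ P.map (algebraMap R C)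
    · obtain ⟨s, hs, N, hN⟩ := hd
      rw [Ideal.map] at hN
      obtain ⟨T', hT', hT''⟩ := Submodule.mem_span_finite_of_mem_span hN
      choose! g hg1 hg2 using fun c (hc : c ∈ (T' : Set C)) => hT' hc
      refine ⟨T'.image g, s, ?_, hs, N, ?_⟩
      · intro x hx; obtain ⟨c, hc, rfl⟩ := Finset.mem_image.1 hx; exact hg1 c hc
      · refine (Submodule.span_le.2 ?_) hT''
        intro c hc
        rw [← hg2 c hc]
        exact Ideal.mem_map_of_mem _ (Ideal.subset_span (Finset.mem_image_of_mem g hc))
    · exfalso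
      push Not at hd
      have hdis : Disjoint (P.map (algebraMap R C) : Set C) (M : Set C) := by
        rw [Set.disjoint_left]
        rintro c hc hcM
        obtain ⟨_, ⟨s, hs, rfl⟩, _, ⟨N, rfl⟩, rfl⟩ := Submonoid.mem_sup.1 hcM
        exact hd s hs N hc
      obtain ⟨Q, hQ, hPQ, hQM⟩ := Ideal.exists_le_prime_disjoint _ M hdis
      haveI := hQ
      let K := AlgebraicClosure Q.ResidueField
      let ψ : C →+* K := (algebraMap Q.ResidueField K).comp (algebraMap C Q.ResidueField)
      have hψ : ∀ c, ψ c = 0 ↔ c ∈ Q := fun c => by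
        show algebraMap Q.ResidueField K _ = 0 ↔ _
        rw [map_eq_zero_iff _ (RingHom.injective _), Ideal.algebraMap_residueField_eq_zero]
      let φ := ψ.comp (Algebra.TensorProduct.includeLeftRingHom : B →+* C)
      let χ := ψ.comp (Algebra.TensorProduct.includeRight (R := R) (A := B) (B := B)).toRingHom
      have hcomp : φ.comp (algebraMap R B) = χ.comp (algebraMap R B) := RingHom.ext fun r => by
        show ψ (algebraMap R B r ⊗ₜ[R] 1) = ψ (1 ⊗ₜ[R] algebraMap R B r)
        rw [Algebra.algebraMap_eq_smul_one, TensorProduct.smul_tmul]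
      have hker : RingHom.ker (φ.comp (algebraMap R B)) = P := by
        ext r
        rw [RingHom.mem_ker]
        show ψ (algebraMap R B r ⊗ₜ[R] 1) = 0 ↔ _
        rw [show algebraMap R B r ⊗ₜ[R] (1 : B) = algebraMap R C r from rfl, hψ]
        refine ⟨fun h => ?_, fun h => hPQ (Ideal.mem_map_of_mem _ h)⟩
        by_contra hr
        exact Set.disjoint_left.1 hQM h (Submonoid.mem_sup_left ⟨r, hr, rfl⟩)
      have h1 : ψ t = 0 := by
        rw [map_sub, sub_eq_zero]
        exact congrArg (fun f : B →+* K => f b) (H K φ χ hcomp hker)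
      exact Set.disjoint_left.1 hQM ((hψ t).1 h1) (Submonoid.mem_sup_right ⟨1, pow_one t⟩)
  choose T s hT hs N hN using key
  refine ⟨Ideal.span ((S.biUnion T : Finset R) : Set R), ∏ b ∈ S, s b, ⟨_, rfl⟩, Ideal.span_le.2 ?_, ?_, ?_⟩
  · intro x hx; obtain ⟨b, -, hb⟩ := Finset.mem_biUnion.1 hx; exact hT b hb
  · intro h
    obtain ⟨b, -, hb⟩ := (Ideal.IsPrime.prod_mem_iff (p := P)).1 h
    exact hs b hb
  · intro K _ φ χ hc hI hs0
    let ρ : R →+* K := φ.comp (algebraMap R B)
    letI : Algebra R K := ρ.toAlgebra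
    let φa : B →ₐ[R] K := { φ with commutes' := fun r => rfl }
    let χa : B →ₐ[R] K := { χ with commutes' := fun r => (congrArg (fun f : R →+* K => f r) hc).symm }
    let ψ : C →ₐ[R] K := Algebra.TensorProduct.lift φa χa (fun _ _ => .all _ _)
    have hgen : ∀ b ∈ S, φ b = χ b := by
      intro b hb
      have h0 : ψ (algebraMap R C (s b) * (b ⊗ₜ[R] 1 - 1 ⊗ₜ[R] b : C) ^ N b) = 0 := by
        have hle : (Ideal.span (T b : Set R)).map (algebraMap R C) ≤ RingHom.ker ψ.toRingHom := by
          rw [Ideal.map_le_iff_le_comap, Ideal.span_le]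
          intro x hx
          show ψ (algebraMap R C x) = 0
          rw [AlgHom.commutes]
          exact hI (Ideal.subset_span (Finset.mem_biUnion.2 ⟨b, hb, hx⟩))
        exact hle (hN b)
      rw [map_mul, map_pow, AlgHom.commutes, mul_eq_zero] at h0
      rcases h0 with h0 | h0
      · exact absurd (by
          show ρ (∏ b ∈ S, s b) = 0
          rw [map_prod]; exact Finset.prod_eq_zero hb h0) hs0
      · have h1 := eq_zero_of_pow_eq_zero h0
        rw [map_sub, Algebra.TensorProduct.lift_tmul, Algebra.TensorProduct.lift_tmul, map_one, map_one, one_mul, mul_one, sub_eq_zero] at h1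
        exact h1
    refine RingHom.ext fun b => ?_
    have hb : b ∈ Submodule.span R (S : Set B) := by rw [hS]; trivial
    exact LinearMap.eqOn_span (f := φa.toLinearMap) (g := χa.toLinearMap) hgen hb

end Groth.Agent.H2Constr
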