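import Mathlib
import Groth.Prelude.Def_EGA4b
import Groth.Agent.Lib.H2GeomRegMore
import Groth.Agent.Lib.H2GeomRegBase
set_option autoImplicit false

/-! Regularity of fibres through finite domains. -/
namespace Groth.Agent.H2FormalFibreDomain
open TensorProduct IsLocalRing
set_option maxHeartbeats 1000000
set_option synthInstance.maxHeartbeats 400000
set_option backward.isDefEq.respectTransparency.types false
universe u

theorem regular_iff (A B K C : Type u) [CommRing A] [CommRing B] [IsDomain B] [Field K] [CommRing C] [Algebra A B] [Algebra A K]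
    [Algebra B K] [IsScalarTower A B K] [IsFractionRing B K] [Algebra A C] [IsNoetherianRing (K ⊗[A] C)] :
    IsRegularRing (K ⊗[A] C) ↔ ∀ (q : Ideal (B ⊗[A] C)) [q.IsPrime], q.comap (algebraMap B (B ⊗[A] C)) = ⊥ →
      IsRegularLocalRing (Localization.AtPrime q) := by
  classical
  let R := B ⊗[A] C
  let T := K ⊗[A] C
  let f : R →ₐ[A] T := Algebra.TensorProduct.map (IsScalarTower.toAlgHom A B K) (.id A C)
  letI : Algebra R T := f.toRingHom.toAlgebra
  let M := Algebra.algebraMapSubmonoid R (nonZeroDivisors B)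
  haveI : IsLocalization M T := by
    letI := Algebra.TensorProduct.rightAlgebra (R := B) (A := K) (B := R)
    haveI hloc : IsLocalization M (K ⊗[B] R) := isLocalizedModule_iff_isLocalization.1 inferInstance
    let e : K ⊗[B] R ≃ₐ[R] T := AlgEquiv.ofRingEquiv
      (f := (Algebra.TensorProduct.cancelBaseChange A B K K C).toRingEquiv) (fun x => by
        induction x using TensorProduct.induction_on with
        | zero => simp
        | add x y hx hy => simp only [map_add, hx, hy]
        | tmul b c =>
          show Algebra.TensorProduct.cancelBaseChange A B K K C ((1 : K) ⊗ₜ[B] (b ⊗ₜ[A] c)) = f (b ⊗ₜ[A] c)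
          rw [Algebra.TensorProduct.cancelBaseChange_tmul]
          simp [f, Algebra.smul_def]; rfl)
    exact IsLocalization.isLocalization_of_algEquiv M e
  have key : ∀ (Q : Ideal T) [Q.IsPrime],
      IsRegularLocalRing (Localization.AtPrime Q) ↔ IsRegularLocalRing (Localization.AtPrime (Q.comap (algebraMap R T))) := by
    intro Q _
    haveI : IsLocalization.AtPrime (Localization.AtPrime Q) (Q.comap (algebraMap R T)) :=
      IsLocalization.isLocalization_isLocalization_atPrime_isLocalization M _ Q
    let e := (IsLocalization.algEquiv (Q.comap (algebraMap R T)).primeCompl (Localization.AtPrime Q)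
      (Localization.AtPrime (Q.comap (algebraMap R T)))).toRingEquiv
    exact ⟨fun h => @IsRegularLocalRing.of_ringEquiv _ _ h _ _ e, fun h => @IsRegularLocalRing.of_ringEquiv _ _ h _ _ e.symm⟩
  constructor
  · intro h q _ hq
    have disj : Disjoint (M : Set R) (q : Set R) := Set.disjoint_left.2 fun x hx hxq => by
      obtain ⟨b, hb, rfl⟩ := hx
      have h2 : b ∈ (⊥ : Ideal B) := hq ▸ hxq
      exact nonZeroDivisors.ne_zero hb (Ideal.mem_bot.1 h2)
    haveI := IsLocalization.isPrime_of_isPrime_disjoint M T q ‹_› disj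
    haveI h1 := (key (q.map (algebraMap R T))).1 (IsRegularRing.isRegularLocalRing_localization _)
    have hqq : (q.map (algebraMap R T)).comap (algebraMap R T) = q := IsLocalization.under_map_of_isPrime_disjoint M T ‹_› disj
    haveI : IsLocalization.AtPrime (Localization.AtPrime ((q.map (algebraMap R T)).comap (algebraMap R T))) q := by
      show IsLocalization q.primeCompl _
      rw [show q.primeCompl = ((q.map (algebraMap R T)).comap (algebraMap R T)).primeCompl from
        Submonoid.ext fun x => not_congr (SetLike.ext_iff.1 hqq x).symm]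
      infer_instance
    exact IsRegularLocalRing.of_ringEquiv (IsLocalization.algEquiv q.primeCompl
      (Localization.AtPrime ((q.map (algebraMap R T)).comap (algebraMap R T))) (Localization.AtPrime q)).toRingEquiv
  · intro h
    refine isRegularRing_iff.2 fun Q _ => (key Q).2 (h _ ?_)
    refine (Submodule.eq_bot_iff _).2 fun b hb => ?_
    by_contra hne
    exact (‹Q.IsPrime›).ne_top (Q.eq_top_of_isUnit_mem hb
      (IsLocalization.map_units T (⟨_, b, mem_nonZeroDivisors_of_ne_zero hne, rfl⟩ : M)))

theorem exists_domain {A : Type u} [CommRing A] (p : Ideal A) [p.IsPrime] (k' : Type u) [Field k'] [Algebra p.ResidueField k']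
    [Module.Finite p.ResidueField k'] [Algebra A k'] [IsScalarTower A p.ResidueField k'] :
    ∃ B : Subalgebra A k', Module.Finite A B ∧ IsFractionRing B k' := by
  classical
  letI : Algebra (A ⧸ p) k' := ((algebraMap p.ResidueField k').comp (algebraMap (A ⧸ p) p.ResidueField)).toAlgebra
  haveI : IsScalarTower (A ⧸ p) p.ResidueField k' := IsScalarTower.of_algebraMap_eq' rfl
  haveI : IsScalarTower A (A ⧸ p) k' := IsScalarTower.of_algebraMap_eq fun a => by
    show _ = algebraMap p.ResidueField k' (algebraMap (A ⧸ p) p.ResidueField (algebraMap A (A ⧸ p) a))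
    rw [← IsScalarTower.algebraMap_apply A (A ⧸ p) p.ResidueField, ← IsScalarTower.algebraMap_apply]
  have hint : ∀ x : k', ∃ a : A, a ∉ p ∧ IsIntegral A (a • x) := fun x => by
    obtain ⟨⟨m, hm⟩, h⟩ := IsIntegral.exists_multiple_integral_of_isLocalization (nonZeroDivisors (A ⧸ p)) x
      (Algebra.IsIntegral.isIntegral (R := p.ResidueField) x)
    obtain ⟨a, rfl⟩ := Ideal.Quotient.mk_surjective m
    refine ⟨a, fun ha => nonZeroDivisors.ne_zero hm (Ideal.Quotient.eq_zero_iff_mem.2 ha), isIntegral_trans (A := A ⧸ p) _ ?_⟩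
    have e : a • x = (Ideal.Quotient.mk p a) • x := (algebraMap_smul (A ⧸ p) a x).symm
    rw [e]
    exact h
  choose a ha hai using hint
  let b := Module.Free.chooseBasis p.ResidueField k'
  haveI := Fintype.ofFinite (Module.Free.ChooseBasisIndex p.ResidueField k')
  let s : Finset k' := Finset.univ.image fun i => a (b i) • b i
  let B := Algebra.adjoin A (s : Set k')
  haveI hfin : Module.Finite A B := ⟨(Submodule.fg_top _).2 (fg_adjoin_of_finite s.finite_toSet fun x hx => by
    obtain ⟨i, -, rfl⟩ := Finset.mem_image.1 hx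
    exact hai _)⟩
  have hne : ∀ c : A, c ∉ p → algebraMap A k' c ≠ 0 := fun c hc h => hc (by
    rw [IsScalarTower.algebraMap_apply A p.ResidueField k'] at h
    exact Ideal.algebraMap_residueField_eq_zero.1 ((map_eq_zero_iff _ (algebraMap p.ResidueField k').injective).1 h))
  have hx : ∀ x : k', ∃ c : A, c ∉ p ∧ c • x ∈ B := fun x => by
    rw [← b.sum_repr x]
    refine Finset.sum_induction _ (fun x => ∃ c : A, c ∉ p ∧ c • x ∈ B) ?_ ⟨1, p.one_notMem, by simp⟩ fun i _ => ?_
    · rintro x y ⟨c, hc, hcx⟩ ⟨d, hd, hdy⟩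
      refine ⟨c * d, ‹p.IsPrime›.mul_notMem hc hd, ?_⟩
      rw [smul_add, mul_comm c d, mul_smul, mul_comm d c, mul_smul]
      exact add_mem (B.smul_mem hcx d) (B.smul_mem hdy c)
    · obtain ⟨⟨r, t⟩, hrt⟩ := IsLocalization.surj (nonZeroDivisors (A ⧸ p)) (b.repr x i)
      obtain ⟨r, rfl⟩ := Ideal.Quotient.mk_surjective r
      obtain ⟨⟨t, ht⟩, ht'⟩ : ∃ t' : {t : A // t ∉ p}, Ideal.Quotient.mk p t'.1 = t.1 := by
        obtain ⟨t', ht'⟩ := Ideal.Quotient.mk_surjective t.1
        exact ⟨⟨t', fun h => nonZeroDivisors.ne_zero t.2 (ht'.symm.trans (Ideal.Quotient.eq_zero_iff_mem.2 h))⟩, ht'⟩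
      refine ⟨a (b i) * t, ‹p.IsPrime›.mul_notMem (ha _) ht, ?_⟩
      have h1 : t • b.repr x i = algebraMap A p.ResidueField r := by
        rw [Algebra.smul_def, mul_comm, IsScalarTower.algebraMap_apply A (A ⧸ p) p.ResidueField]
        exact (congrArg (fun z => b.repr x i * algebraMap (A ⧸ p) p.ResidueField z) ht').trans
          (hrt.trans (IsScalarTower.algebraMap_apply A (A ⧸ p) p.ResidueField r).symm)
      rw [mul_smul, ← smul_assoc t, h1, algebraMap_smul, smul_comm]
      exact B.smul_mem (Algebra.subset_adjoin (Finset.mem_coe.2 (Finset.mem_image_of_mem (fun i => a (b i) • b i) (Finset.mem_univ i)))) r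
  refine ⟨B, hfin, ?_⟩
  refine IsFractionRing.of_field B k' fun x => ?_
  obtain ⟨c, hc, hcx⟩ := hx x
  exact ⟨⟨c • x, hcx⟩, algebraMap A B c, by
    rw [← IsScalarTower.algebraMap_apply]
    show _ = (c • x) / _
    rw [eq_div_iff (hne c hc), Algebra.smul_def, mul_comm]⟩

end Groth.Agent.H2FormalFibreDomain
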