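import Mathlib
import Groth.Prelude.Def_EGA4b
import Groth.Prelude.Def_CAlg
import Groth.Agent.Lib.H2ComplReg
import Groth.Agent.Lib.CompleteNoetherian
import Groth.Agent.Lib.H2NormalHom
import Groth.Agent.Lib.H2CMFibre
import Groth.Agent.Lib.H2GeomRedHom
import Groth.Agent.Lib.H2FormalFibreDomain
set_option autoImplicit false

/-! Completion and formal fibres of a quotient of a local ring. -/
namespace Groth.Agent.H2CplQuot
open IsLocalRing TensorProduct
set_option maxHeartbeats 1000000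
set_option synthInstance.maxHeartbeats 400000
set_option backward.isDefEq.respectTransparency.types false
universe u

theorem exists_cpl_quot (A : Type u) [CommRing A] [IsNoetherianRing A] [IsLocalRing A] (I : Ideal A) [Nontrivial (A ⧸ I)] :
    Nonempty ((A ⧸ I) ⊗[A] EGA4.Cpl A ≃ₐ[A ⧸ I] EGA4.Cpl (A ⧸ I)) := by
  let C := EGA4.Cpl A
  let C' := EGA4.Cpl (A ⧸ I)
  haveI : IsNoetherianRing C := Groth.Agent.CplNoeth.isNoetherianRing_completion _
  haveI : IsNoetherianRing C' := Groth.Agent.CplNoeth.isNoetherianRing_completion _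
  have hI : (maximalIdeal A).FG := IsNoetherian.noetherian _
  have hm : (maximalIdeal A).map (Ideal.Quotient.mk I) = maximalIdeal (A ⧸ I) :=
    IsLocalRing.map_maximalIdeal_of_surjective _ Ideal.Quotient.mk_surjective
  obtain ⟨Φ, hΦ⟩ := Groth.Agent.H2ComplReg.exists_map (maximalIdeal A) hI (maximalIdeal (A ⧸ I)) (Ideal.Quotient.mk I) hm.le
  let f : C →ₐ[A] C' := { Φ with commutes' := fun a => (hΦ a).trans (IsScalarTower.algebraMap_apply A (A ⧸ I) C' a).symm }
  have hmC : ((maximalIdeal A).map (algebraMap A C)).map Φ = maximalIdeal C' := by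
    rw [Ideal.map_map, show Φ.comp (algebraMap A C) = (algebraMap (A ⧸ I) C').comp (Ideal.Quotient.mk I) from RingHom.ext hΦ,
      ← Ideal.map_map, hm, AdicCompletion.maximalIdeal_eq_map]
  have hs : Function.Surjective Φ := by
    haveI : IsAdicComplete ((maximalIdeal A).map (algebraMap A C)) C := AdicCompletion.isAdicComplete_self (maximalIdeal A) hI
    haveI : IsHausdorff (((maximalIdeal A).map (algebraMap A C)).map Φ) C' := by rw [hmC]; infer_instance
    refine surjective_of_mk_map_comp_surjective Φ (I := (maximalIdeal A).map (algebraMap A C)) fun z => ?_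
    obtain ⟨z, rfl⟩ := Ideal.Quotient.mk_surjective z
    obtain ⟨s, hs⟩ := Groth.Agent.H2AdicComplFS.exists_sub_mem (IsNoetherian.noetherian (maximalIdeal (A ⧸ I))) 1 z
    obtain ⟨a, rfl⟩ := Ideal.Quotient.mk_surjective s
    refine ⟨algebraMap A C a, Ideal.Quotient.eq.2 ?_⟩
    rw [hmC, hΦ]
    rw [pow_one, ← AdicCompletion.maximalIdeal_eq_map] at hs
    rw [← neg_sub]
    exact neg_mem hs
  haveI : Module.Flat (A ⧸ I) C' := AdicCompletion.flat_of_isNoetherian _
  haveI : IsLocalHom (algebraMap (A ⧸ I) C') := by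
    refine ((local_hom_TFAE (algebraMap (A ⧸ I) C')).out 0 2).2 ?_
    rw [AdicCompletion.maximalIdeal_eq_map]
  haveI : Module.FaithfullyFlat (A ⧸ I) C' := Module.FaithfullyFlat.of_flat_of_isLocalHom
  let J := I.map (algebraMap A C)
  have hker : ∀ x, Φ x = 0 → x ∈ J := by
    intro x hx
    haveI : Nontrivial (C ⧸ J) := by
      refine Ideal.Quotient.nontrivial_iff.2 (ne_top_of_le_ne_top (maximalIdeal.isMaximal C).ne_top ?_)
      rw [AdicCompletion.maximalIdeal_eq_map]
      exact Ideal.map_mono (le_maximalIdeal (Ideal.Quotient.nontrivial_iff.1 inferInstance))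
    haveI : IsLocalRing (C ⧸ J) := IsLocalRing.of_surjective' (Ideal.Quotient.mk J) Ideal.Quotient.mk_surjective
    refine Ideal.Quotient.eq_zero_iff_mem.1 ((Submodule.mem_bot (C ⧸ J) (x := Ideal.Quotient.mk J x)).1 ?_)
    rw [← Ideal.iInf_pow_eq_bot_of_isLocalRing (maximalIdeal (C ⧸ J)) (maximalIdeal.isMaximal _).ne_top, Ideal.mem_iInf]
    intro n
    obtain ⟨a, ha⟩ := Groth.Agent.H2AdicComplFS.exists_sub_mem hI n x
    have h1 := Ideal.mem_map_of_mem Φ ha
    rw [Ideal.map_pow, hmC, map_sub, hx, zero_sub, neg_mem_iff, hΦ, AdicCompletion.maximalIdeal_eq_map, ← Ideal.map_pow,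
      ← Ideal.mem_comap, Ideal.comap_map_eq_self_of_faithfullyFlat, ← hm, ← Ideal.map_pow, Ideal.mem_quotient_iff_mem_sup] at h1
    obtain ⟨b, hb, i, hi, rfl⟩ := Submodule.mem_sup.1 h1
    rw [← IsLocalRing.map_maximalIdeal_of_surjective (Ideal.Quotient.mk J) Ideal.Quotient.mk_surjective, ← Ideal.map_pow,
      Ideal.mem_quotient_iff_mem_sup, AdicCompletion.maximalIdeal_eq_map]
    refine Submodule.mem_sup.2 ⟨_, add_mem ha (?_ : algebraMap A C b ∈ _), algebraMap A C i, Ideal.mem_map_of_mem _ hi, ?_⟩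
    · rw [← Ideal.map_pow]; exact Ideal.mem_map_of_mem _ hb
    · rw [map_add]; ring
  let F : (A ⧸ I) ⊗[A] C →ₐ[A ⧸ I] C' := Algebra.TensorProduct.lift (Algebra.ofId (A ⧸ I) C') f fun _ _ => .all _ _
  have hF : ∀ z, ∃ x : C, z = (1 : A ⧸ I) ⊗ₜ[A] x := by
    intro z
    induction z using TensorProduct.induction_on with
    | zero => exact ⟨0, (TensorProduct.tmul_zero _ _).symm⟩
    | tmul c x =>
      obtain ⟨a, rfl⟩ := Ideal.Quotient.mk_surjective c
      exact ⟨a • x, by rw [← TensorProduct.smul_tmul, Algebra.smul_def, mul_one]; rfl⟩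
    | add u v hu hv =>
      obtain ⟨x, rfl⟩ := hu
      obtain ⟨y, rfl⟩ := hv
      exact ⟨x + y, (TensorProduct.tmul_add _ _ _).symm⟩
  refine ⟨AlgEquiv.ofBijective F ⟨(injective_iff_map_eq_zero F).2 fun z hz => ?_, fun y => ?_⟩⟩
  · obtain ⟨x, rfl⟩ := hF z
    have hxJ : x ∈ I.map (algebraMap A C) := hker x (by simpa [F, f] using hz)
    clear hz
    induction hxJ using Submodule.span_induction with
    | mem w hw =>
      obtain ⟨i, hi, rfl⟩ := hw
      rw [Algebra.algebraMap_eq_smul_one, ← TensorProduct.smul_tmul, Algebra.smul_def, mul_one,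
        show algebraMap A (A ⧸ I) i = 0 from Ideal.Quotient.eq_zero_iff_mem.2 hi, TensorProduct.zero_tmul]
    | zero => exact TensorProduct.tmul_zero _ _
    | add u v _ _ hu hv => rw [TensorProduct.tmul_add, hu, hv, add_zero]
    | smul c w _ hw =>
      rw [smul_eq_mul, show ((1 : A ⧸ I) ⊗ₜ[A] (c * w)) = (1 ⊗ₜ[A] c) * (1 ⊗ₜ[A] w) by
        rw [Algebra.TensorProduct.tmul_mul_tmul, mul_one], hw, mul_zero]
  · obtain ⟨x, rfl⟩ := hs y
    exact ⟨1 ⊗ₜ x, by simp [F, f]⟩

theorem residueQuot {A : Type u} [CommRing A] (I : Ideal A) (p' : Ideal (A ⧸ I)) [p'.IsPrime] :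
    Nonempty ((p'.comap (algebraMap A (A ⧸ I))).ResidueField ≃ₐ[A] p'.ResidueField) := by
  let p := p'.comap (algebraMap A (A ⧸ I))
  letI : Algebra p.ResidueField p'.ResidueField := (Ideal.ResidueField.map p p' (algebraMap A (A ⧸ I)) rfl).toAlgebra
  haveI : IsScalarTower A p.ResidueField p'.ResidueField := IsScalarTower.of_algebraMap_eq fun a => by
    simp [RingHom.algebraMap_toAlgebra, ← IsScalarTower.algebraMap_apply]
    exact IsScalarTower.algebraMap_apply A (A ⧸ I) p'.ResidueField a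
  refine ⟨AlgEquiv.ofBijective (IsScalarTower.toAlgHom A p.ResidueField p'.ResidueField) ⟨RingHom.injective _, fun z => ?_⟩⟩
  obtain ⟨x, y, hy, rfl⟩ := IsFractionRing.div_surjective (A := (A ⧸ I) ⧸ p') z
  obtain ⟨x, rfl⟩ := Ideal.Quotient.mk_surjective x
  obtain ⟨y, rfl⟩ := Ideal.Quotient.mk_surjective y
  obtain ⟨a, rfl⟩ := Ideal.Quotient.mk_surjective x
  obtain ⟨b, rfl⟩ := Ideal.Quotient.mk_surjective y
  refine ⟨algebraMap A _ a / algebraMap A _ b, ?_⟩
  rw [map_div₀, AlgHom.commutes, AlgHom.commutes]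
  rfl

theorem baseChange {A C : Type u} [CommRing A] [CommRing C] [Algebra A C] (I : Ideal A) {C' : Type u} [CommRing C'] [Algebra (A ⧸ I) C']
    (e : (A ⧸ I) ⊗[A] C ≃ₐ[A ⧸ I] C') (K : Type u) [CommRing K] [Algebra (A ⧸ I) K] [Algebra A K] [IsScalarTower A (A ⧸ I) K] :
    Nonempty (K ⊗[A] C ≃+* K ⊗[A ⧸ I] C') :=
  ⟨((Algebra.TensorProduct.cancelBaseChange A (A ⧸ I) K K C).symm.toRingEquiv).trans
    (Algebra.TensorProduct.congr (AlgEquiv.refl : K ≃ₐ[K] K) e).toRingEquiv⟩

theorem normalFibres {A : Type u} [CommRing A] [IsNoetherianRing A] [IsLocalRing A] (I : Ideal A) [Nontrivial (A ⧸ I)]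
    (h : EGA4.HasGeomNormalFormalFibres A) : EGA4.HasGeomNormalFormalFibres (A ⧸ I) := by
  obtain ⟨e⟩ := exists_cpl_quot A I
  refine H2NormalHom.normalBC_iff.1 fun p' _ k' _ _ _ _ hf => ?_
  haveI := hf
  let p := p'.comap (algebraMap A (A ⧸ I))
  obtain ⟨er⟩ := residueQuot I p'
  letI : Algebra p.ResidueField p'.ResidueField := er.toRingEquiv.toRingHom.toAlgebra
  haveI : Module.Finite p.ResidueField p'.ResidueField := Module.Finite.of_surjective (Algebra.linearMap _ _) er.surjective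
  letI : Algebra p.ResidueField k' := ((algebraMap p'.ResidueField k').comp (algebraMap p.ResidueField p'.ResidueField)).toAlgebra
  haveI : IsScalarTower p.ResidueField p'.ResidueField k' := IsScalarTower.of_algebraMap_eq' rfl
  letI : Algebra A k' := ((algebraMap (A ⧸ I) k').comp (algebraMap A (A ⧸ I))).toAlgebra
  haveI : IsScalarTower A (A ⧸ I) k' := IsScalarTower.of_algebraMap_eq' rfl
  haveI : IsScalarTower A p.ResidueField k' := IsScalarTower.of_algebraMap_eq fun a => by
    show algebraMap (A ⧸ I) k' (algebraMap A (A ⧸ I) a) = algebraMap p'.ResidueField k' (er (algebraMap A p.ResidueField a))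
    rw [er.commutes, IsScalarTower.algebraMap_apply A (A ⧸ I) p'.ResidueField]
    exact IsScalarTower.algebraMap_apply (A ⧸ I) p'.ResidueField k' _
  obtain ⟨eK⟩ := baseChange I e k'
  exact H2NormalHom.normal_congr eK (H2NormalHom.normalBC_iff.2 h p k' (Module.Finite.trans p'.ResidueField k'))

theorem reducedFibres {A : Type u} [CommRing A] [IsNoetherianRing A] [IsLocalRing A] (I : Ideal A) [Nontrivial (A ⧸ I)]
    (h : EGA4.HasGeomReducedFormalFibres A) : EGA4.HasGeomReducedFormalFibres (A ⧸ I) := by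
  obtain ⟨e⟩ := exists_cpl_quot A I
  haveI : IsNoetherianRing (EGA4.Cpl A) := Groth.Agent.CplNoeth.isNoetherianRing_completion _
  intro p' _
  refine H2GeomRedHom.fibres_of_isReduced (fun K _ _ hK => ?_) p'
  haveI := hK
  letI : Algebra A K := ((algebraMap (A ⧸ I) K).comp (algebraMap A (A ⧸ I))).toAlgebra
  haveI : IsScalarTower A (A ⧸ I) K := IsScalarTower.of_algebraMap_eq' rfl
  haveI : Algebra.EssFiniteType A K := Algebra.EssFiniteType.comp A (A ⧸ I) K
  haveI := H2GeomRedHom.isReduced_of_fibres h K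
  obtain ⟨eK⟩ := baseChange I e K
  exact isReduced_of_injective eK.symm eK.symm.injective

theorem cmFibres {A : Type u} [CommRing A] [IsNoetherianRing A] [IsLocalRing A] (I : Ideal A) [Nontrivial (A ⧸ I)]
    (h : EGA4.HasCMFormalFibres A) : EGA4.HasCMFormalFibres (A ⧸ I) := by
  obtain ⟨e⟩ := exists_cpl_quot A I
  intro p' _
  obtain ⟨er⟩ := residueQuot I p'
  obtain ⟨eK⟩ := baseChange I e p'.ResidueField
  haveI := h (p'.comap (algebraMap A (A ⧸ I)))
  exact H2CMFibre.cm_congr ((Algebra.TensorProduct.congr er AlgEquiv.refl).toRingEquiv.trans eK)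

end Groth.Agent.H2CplQuot
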