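import Mathlib
import Groth.Prelude.Def_W4c5adicflatcomplDec

/-! Modules of adically decaying functions. -/

open W4c5adicflatcompl

namespace Groth.Agent.H2Decay

set_option linter.style.haveILetI false

universe u v w w'

variable {A : Type u} [CommRing A] {I : Ideal A} {Z : Type v} {M : Type w} [AddCommGroup M] [Module A M]
  {N : Type w'} [AddCommGroup N] [Module A N]

theorem map_mem {n : ℕ} (f : M →ₗ[A] N) {x : M} (hx : x ∈ (I ^ n • ⊤ : Submodule A M)) :
    f x ∈ (I ^ n • ⊤ : Submodule A N) := by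
  have h := Submodule.mem_map_of_mem (f := f) hx
  rw [Submodule.map_smul''] at h
  exact Submodule.smul_mono le_rfl le_top h

theorem coeff_mem {n : ℕ} {f : decaying I Z M} (hf : f ∈ (I ^ n • ⊤ : Submodule A (decaying I Z M))) (z : Z) :
    (f : Z → M) z ∈ (I ^ n • ⊤ : Submodule A M) :=
  map_mem ((LinearMap.proj z).comp (decaying I Z M).subtype) hf

theorem isHausdorff [IsHausdorff I M] : IsHausdorff I (decaying I Z M) := by
  refine ⟨fun f hf => Subtype.ext (funext fun z => ?_)⟩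
  refine IsHausdorff.haus' (I := I) _ fun n => ?_
  rw [SModEq.zero]
  exact coeff_mem (SModEq.zero.1 (hf n)) z

/-- a sum `m` of a family. -/
def IsSum (I : Ideal A) (f : Z → M) (m : M) : Prop :=
  ∀ n : ℕ, ∃ S : Finset Z, (∀ z, z ∉ S → f z ∈ (I ^ n • ⊤ : Submodule A M)) ∧
    m - (∑ z ∈ S, f z) ∈ (I ^ n • ⊤ : Submodule A M)

theorem sum_sub_mem {n : ℕ} {f : Z → M} {S T : Finset Z} (hS : ∀ z, z ∉ S → f z ∈ (I ^ n • ⊤ : Submodule A M))
    (hT : ∀ z, z ∉ T → f z ∈ (I ^ n • ⊤ : Submodule A M)) :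
    (∑ z ∈ S, f z) - (∑ z ∈ T, f z) ∈ (I ^ n • ⊤ : Submodule A M) := by
  classical
  rw [← Finset.sum_sdiff_sub_sum_sdiff]
  exact Submodule.sub_mem _ (Submodule.sum_mem _ fun z hz => hT z (Finset.mem_sdiff.1 hz).2)
    (Submodule.sum_mem _ fun z hz => hS z (Finset.mem_sdiff.1 hz).2)

theorem IsSum.unique [IsHausdorff I M] {f : Z → M} {m m' : M} (h : IsSum I f m) (h' : IsSum I f m') : m = m' := by
  rw [← sub_eq_zero]
  refine IsHausdorff.haus' (I := I) _ fun n => ?_
  rw [SModEq.zero]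
  obtain ⟨S, hS, hm⟩ := h n
  obtain ⟨T, hT, hm'⟩ := h' n
  have := Submodule.add_mem _ (Submodule.sub_mem _ hm hm') (sum_sub_mem hS hT)
  convert this using 1
  abel

theorem mem_decaying_of_isSum {f : Z → M} {m : M} (h : IsSum I f m) : f ∈ decaying I Z M := fun n => by
  obtain ⟨S, hS, -⟩ := h n
  exact S.finite_toSet.subset fun z hz => by_contra fun h' => hz (hS z h')

theorem IsSum.add {f g : Z → M} {a b : M} (hf : IsSum I f a) (hg : IsSum I g b) : IsSum I (f + g) (a + b) := by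
  classical
  intro n
  obtain ⟨S, hS, ha⟩ := hf n
  obtain ⟨T, hT, hb⟩ := hg n
  refine ⟨S ∪ T, fun z hz => ?_, ?_⟩
  · rw [Finset.mem_union, not_or] at hz
    exact Submodule.add_mem _ (hS z hz.1) (hT z hz.2)
  · have h1 := sum_sub_mem (S := S) (T := S ∪ T) hS fun z hz => hS z fun h => hz (Finset.mem_union_left _ h)
    have h2 := sum_sub_mem (S := T) (T := S ∪ T) hT fun z hz => hT z fun h => hz (Finset.mem_union_right _ h)
    have := Submodule.add_mem _ (Submodule.add_mem _ ha hb) (Submodule.add_mem _ h1 h2)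
    simp only [Pi.add_apply, Finset.sum_add_distrib]
    convert this using 1
    abel

theorem IsSum.map {f : Z → M} {a : M} (hf : IsSum I f a) (φ : M →ₗ[A] N) : IsSum I (fun z => φ (f z)) (φ a) := by
  intro n
  obtain ⟨S, hS, ha⟩ := hf n
  refine ⟨S, fun z hz => map_mem φ (hS z hz), ?_⟩
  rw [← map_sum, ← map_sub]
  exact map_mem φ ha

theorem isSum_finset (f : Z → M) (S : Finset Z) (h : ∀ z, z ∉ S → f z = 0) : IsSum I f (∑ z ∈ S, f z) :=
  fun n => ⟨S, fun z hz => by rw [h z hz]; exact Submodule.zero_mem _, by rw [sub_self]; exact Submodule.zero_mem _⟩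

theorem exists_isSum [IsPrecomplete I M] {f : Z → M} (hf : f ∈ decaying I Z M) : ∃ m, IsSum I f m := by
  have hS : ∀ n, ∀ z, z ∉ (hf n).toFinset → f z ∈ (I ^ n • ⊤ : Submodule A M) := fun n z hz => by
    simpa using hz
  obtain ⟨L, hL⟩ := IsPrecomplete.prec (I := I) ‹_› (f := fun n => ∑ z ∈ (hf n).toFinset, f z) (fun {m n} hmn => by
    rw [SModEq.sub_mem]
    exact sum_sub_mem (hS m) fun z hz => Submodule.smul_mono (Ideal.pow_le_pow_right hmn) le_rfl (hS n z hz))
  refine ⟨L, fun n => ⟨(hf n).toFinset, hS n, ?_⟩⟩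
  rw [← Submodule.neg_mem_iff, neg_sub]
  exact SModEq.sub_mem.1 (hL n)

variable (I Z M) in
/-- summation of decaying families. -/
noncomputable def dsum [IsAdicComplete I M] : decaying I Z M →ₗ[A] M where
  toFun f := (exists_isSum f.2).choose
  map_add' f g := IsSum.unique (exists_isSum (f + g).2).choose_spec
    (IsSum.add (exists_isSum f.2).choose_spec (exists_isSum g.2).choose_spec)
  map_smul' c f := IsSum.unique (exists_isSum (c • f).2).choose_spec
    (IsSum.map (exists_isSum f.2).choose_spec (LinearMap.lsmul A M c))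

theorem isSum_dsum [IsAdicComplete I M] (f : decaying I Z M) : IsSum I (f : Z → M) (dsum I Z M f) :=
  (exists_isSum f.2).choose_spec

theorem comp_mem_decaying (h : Z → (M →ₗ[A] N)) {f : Z → M} (hf : f ∈ decaying I Z M) :
    (fun z => h z (f z)) ∈ decaying I Z N := fun n =>
  (hf n).subset fun z hz h' => hz (map_mem (h z) h')

/-- `f ↦ ∑ h_z (f z)`. -/
noncomputable def pairing [IsAdicComplete I N] (h : Z → (M →ₗ[A] N)) : decaying I Z M →ₗ[A] N :=
  dsum I Z N ∘ₗ LinearMap.codRestrict (decaying I Z N)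
    ((LinearMap.pi fun z => h z ∘ₗ LinearMap.proj z) ∘ₗ (decaying I Z M).subtype) fun f => comp_mem_decaying h f.2

theorem isSum_pairing [IsAdicComplete I N] (h : Z → (M →ₗ[A] N)) (f : decaying I Z M) :
    IsSum I (fun z => h z ((f : Z → M) z)) (pairing h f) :=
  isSum_dsum (LinearMap.codRestrict (decaying I Z N)
    ((LinearMap.pi fun z => h z ∘ₗ LinearMap.proj z) ∘ₗ (decaying I Z M).subtype) (fun f => comp_mem_decaying h f.2) f)

theorem pairing_single [IsAdicComplete I N] [DecidableEq Z] (h : Z → (M →ₗ[A] N)) (z : Z) (m : M) :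
    pairing h (W4c5adicflatcompl.single I z m) = h z m := by
  refine IsSum.unique (isSum_pairing h _) ?_
  have h1 := isSum_finset (I := I) (fun y => h y (((W4c5adicflatcompl.single I z m : decaying I Z M) : Z → M) y)) {z}
    (fun y hy => by rw [coe_single, Pi.single_eq_of_ne (by simpa using hy), map_zero])
  simpa using h1

section fg

variable [IsHausdorff I M]

/-- a maximal index. -/
theorem exists_max {x : M} (hx : x ≠ 0) {n : ℕ} (hn : x ∈ (I ^ n • ⊤ : Submodule A M)) :
    ∃ m, n ≤ m ∧ x ∈ (I ^ m • ⊤ : Submodule A M) ∧ ∀ m', x ∈ (I ^ m' • ⊤ : Submodule A M) → m' ≤ m := by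
  classical
  obtain ⟨N, hN⟩ : ∃ N, x ∉ (I ^ N • ⊤ : Submodule A M) := by
    by_contra h
    push Not at h
    exact hx (IsHausdorff.haus' (I := I) x fun k => SModEq.zero.2 (h k))
  have hb : ∀ m', x ∈ (I ^ m' • ⊤ : Submodule A M) → m' < N := fun m' hm => by
    by_contra h
    exact hN (Submodule.smul_mono (Ideal.pow_le_pow_right (not_lt.1 h)) le_rfl hm)
  refine ⟨Nat.findGreatest (fun k => x ∈ (I ^ k • ⊤ : Submodule A M)) N, Nat.le_findGreatest (hb n hn).le hn, ?_,
    fun m' hm => Nat.le_findGreatest (hb m' hm).le hm⟩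
  exact Nat.findGreatest_spec (P := fun k => x ∈ (I ^ k • ⊤ : Submodule A M)) (hb n hn).le hn

theorem exists_coeff {k n : ℕ} {a : Fin k → A} (ha : Ideal.span (Set.range a) = I ^ n) {x : M}
    (hx : x ∈ (I ^ n • ⊤ : Submodule A M)) :
    ∃ c : Fin k → M, x = ∑ j, a j • c j ∧
      ∀ m, n ≤ m → x ∈ (I ^ m • ⊤ : Submodule A M) → ∀ j, c j ∈ (I ^ (m - n) • ⊤ : Submodule A M) := by
  by_cases hx0 : x = 0
  · exact ⟨0, by simp [hx0], fun m _ _ j => Submodule.zero_mem _⟩
  obtain ⟨m₀, hm₀, hxm, hmax⟩ := exists_max (I := I) hx0 hx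
  obtain ⟨d, rfl⟩ := Nat.exists_eq_add_of_le hm₀
  rw [pow_add, Submodule.mul_smul] at hxm
  suffices ∀ y ∈ (I ^ n • (I ^ d • ⊤ : Submodule A M) : Submodule A M),
      ∃ c : Fin k → M, y = ∑ j, a j • c j ∧ ∀ j, c j ∈ (I ^ d • ⊤ : Submodule A M) by
    obtain ⟨c, hc, hc'⟩ := this x hxm
    exact ⟨c, hc, fun m hm hxm' j => Submodule.smul_mono (Ideal.pow_le_pow_right (by have := hmax m hxm'; omega)) le_rfl (hc' j)⟩
  intro y hy
  refine Submodule.smul_induction_on hy (fun r hr y hy => ?_) (fun u v hu hv => ?_)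
  · obtain ⟨t, ht⟩ := Ideal.mem_span_range_iff_exists_fun.1 (ha.symm ▸ hr : r ∈ Ideal.span (Set.range a))
    refine ⟨fun j => t j • y, ?_, fun j => Submodule.smul_mem _ _ hy⟩
    rw [← ht, Finset.sum_smul]
    exact Finset.sum_congr rfl fun j _ => by rw [← mul_smul, mul_comm]
  · obtain ⟨c, rfl, hc⟩ := hu
    obtain ⟨e, rfl, he⟩ := hv
    exact ⟨c + e, by simp only [Pi.add_apply, smul_add, Finset.sum_add_distrib], fun j => Submodule.add_mem _ (hc j) (he j)⟩

/-- the coefficient criterion. -/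
theorem mem_pow_smul (hI : I.FG) {n : ℕ} {f : decaying I Z M}
    (hf : ∀ z, (f : Z → M) z ∈ (I ^ n • ⊤ : Submodule A M)) : f ∈ (I ^ n • ⊤ : Submodule A (decaying I Z M)) := by
  classical
  obtain ⟨k, a, ha⟩ := Submodule.fg_iff_exists_fin_generating_family.1 (Submodule.FG.pow hI n)
  choose c hc hc' using fun z => exists_coeff (I := I) ha (hf z)
  have hdec : ∀ j, (fun z => c z j) ∈ decaying I Z M := fun j m =>
    (f.2 (n + m)).subset fun z hz h => hz (by simpa using hc' z (n + m) (by omega) h j)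
  have : f = ∑ j, a j • (⟨fun z => c z j, hdec j⟩ : decaying I Z M) := by
    refine Subtype.ext (funext fun z => ?_)
    simp only [AddSubmonoidClass.coe_finsetSum, Finset.sum_apply, SetLike.val_smul, Pi.smul_apply]
    exact hc z
  rw [this]
  exact Submodule.sum_mem _ fun j _ => Submodule.smul_mem_smul (ha ▸ Ideal.subset_span ⟨j, rfl⟩) Submodule.mem_top

end fg

theorem isAdicComplete_decaying [IsAdicComplete I M] (hI : I.FG) : IsAdicComplete I (decaying I Z M) := by
  haveI := isHausdorff (I := I) (Z := Z) (M := M)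
  refine { prec' := fun F hF => ?_ }
  have hFz : ∀ z, ∃ L : M, ∀ k, ((F k : decaying I Z M) : Z → M) z ≡ L [SMOD (I ^ k • ⊤ : Submodule A M)] := fun z =>
    IsPrecomplete.prec (I := I) inferInstance fun {m k} hmk => SModEq.sub_mem.2 (coeff_mem (SModEq.sub_mem.1 (hF hmk)) z)
  choose L hL using hFz
  have hdec : L ∈ decaying I Z M := fun k => ((F k).2 k).subset fun z hz h => hz (by
    have := Submodule.sub_mem _ h (SModEq.sub_mem.1 (hL z k))
    simpa using this)
  refine ⟨⟨L, hdec⟩, fun k => SModEq.sub_mem.2 (mem_pow_smul hI fun z => ?_)⟩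
  exact SModEq.sub_mem.1 (hL z k)

end Groth.Agent.H2Decay
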