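import Mathlib
import Groth.Prelude.Def_W4c5adicflatcomplDec
import Groth.Agent.Lib.H2Decay

/-! Decaying functions over Noetherian rings. -/

open W4c5adicflatcompl TensorProduct

namespace Groth.Agent.H2Decay

set_option linter.style.haveILetI false
set_option backward.isDefEq.respectTransparency.types false

universe u v w w'

variable {A : Type u} [CommRing A] {I : Ideal A} {Z : Type v}

section noeth
variable [IsNoetherianRing A] [IsAdicComplete I A] {M : Type w} [AddCommGroup M] [Module A M] [Module.Finite A M]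

theorem mem_decaying_submodule_iff (N : Submodule A M) (f : Z → N) :
    f ∈ decaying I Z N ↔ (fun z => (f z : M)) ∈ decaying I Z M := by
  refine ⟨fun h n => (h n).subset fun z hz h' => hz (map_mem N.subtype h'), fun h n => ?_⟩
  obtain ⟨k, hk⟩ := I.exists_pow_inf_eq_pow_smul N
  refine (h (n + k)).subset fun z hz h' => hz ?_
  have h2 : (f z : M) ∈ (I ^ (n + k) • ⊤ ⊓ N : Submodule A M) := ⟨h', (f z).2⟩
  rw [hk (n + k) (Nat.le_add_left k n), Nat.add_sub_cancel] at h2
  have h3 : (f z : M) ∈ Submodule.map N.subtype (I ^ n • ⊤ : Submodule A N) := by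
    rw [Submodule.map_smul'', Submodule.map_top, Submodule.range_subtype]
    exact Submodule.smul_mono le_rfl inf_le_right h2
  obtain ⟨y, hy, he⟩ := h3
  exact (Subtype.ext he : y = f z) ▸ hy

theorem isHausdorff_of_finite (M : Type w) [AddCommGroup M] [Module A M] [Module.Finite A M] : IsHausdorff I M :=
  IsHausdorff.of_le_jacobson I M (IsAdicComplete.le_jacobson_bot I)

theorem exists_lift {M'' : Type w'} [AddCommGroup M''] [Module A M''] (φ : M →ₗ[A] M'') (hφ : Function.Surjective φ)
    (g : Z → M'') (hg : g ∈ decaying I Z M'') : ∃ f : Z → M, f ∈ decaying I Z M ∧ ∀ z, φ (f z) = g z := by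
  haveI : Module.Finite A M'' := Module.Finite.of_surjective φ hφ
  haveI := isHausdorff_of_finite (I := I) M''
  have key : ∀ z, ∃ m, φ m = g z ∧ ∀ k, g z ∈ (I ^ k • ⊤ : Submodule A M'') → m ∈ (I ^ k • ⊤ : Submodule A M) := by
    intro z
    by_cases h0 : g z = 0
    · exact ⟨0, by rw [map_zero, h0], fun k _ => Submodule.zero_mem _⟩
    obtain ⟨m₀, -, hm₀, hmax⟩ := exists_max (I := I) h0 (n := 0) (by simp)
    have : g z ∈ Submodule.map φ (I ^ m₀ • ⊤ : Submodule A M) := by
      rwa [Submodule.map_smul'', Submodule.map_top, LinearMap.range_eq_top.2 hφ]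
    obtain ⟨m, hm, he⟩ := this
    exact ⟨m, he, fun k hk => Submodule.smul_mono (Ideal.pow_le_pow_right (hmax k hk)) le_rfl hm⟩
  choose f hf hf' using key
  exact ⟨f, fun n => (hg n).subset fun z hz h => hz (hf' z n h), hf⟩

variable (I Z M) in
/-- `M ⊗ decaying A → (Z → M)`. -/
noncomputable abbrev Phi : M ⊗[A] decaying I Z A →ₗ[A] (Z → M) :=
  (TensorProduct.piScalarRightHom A A M Z) ∘ₗ ((decaying I Z A).subtype.lTensor M)

theorem Phi_tmul {M : Type w} [AddCommGroup M] [Module A M] (m : M) (g : decaying I Z A) (z : Z) :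
    Phi I Z M (m ⊗ₜ g) z = (g : Z → A) z • m := by
  simp [Phi]

theorem Phi_natural {M : Type w} {M' : Type w'} [AddCommGroup M] [Module A M] [AddCommGroup M'] [Module A M']
    (ψ : M →ₗ[A] M') (x : M ⊗[A] decaying I Z A) (z : Z) :
    Phi I Z M' (ψ.rTensor _ x) z = ψ (Phi I Z M x z) := by
  induction x with
  | zero => simp
  | tmul m g => rw [LinearMap.rTensor_tmul, Phi_tmul, Phi_tmul, map_smul]
  | add a b ha hb => simp only [map_add, Pi.add_apply, ha, hb]

theorem range_Phi_le : LinearMap.range (Phi I Z M) ≤ decaying I Z M := by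
  rintro _ ⟨x, rfl⟩
  induction x with
  | zero => rw [map_zero]; exact Submodule.zero_mem _
  | tmul m g =>
    rw [show Phi I Z M (m ⊗ₜ g) = fun z => LinearMap.toSpanSingleton A M m ((g : Z → A) z) from
      funext fun z => Phi_tmul m g z]
    exact comp_mem_decaying (fun _ => LinearMap.toSpanSingleton A M m) g.2
  | add a b ha hb => rw [map_add]; exact Submodule.add_mem _ ha hb

theorem range_Phi : LinearMap.range (Phi I Z M) = decaying I Z M := by
  refine le_antisymm range_Phi_le fun f hf => ?_
  obtain ⟨k, π, hπ⟩ := Module.Finite.exists_fin' A M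
  obtain ⟨h, hh, he⟩ := exists_lift π hπ f hf
  have hc : ∀ j, (fun z => h z j) ∈ decaying I Z A := fun j =>
    comp_mem_decaying (fun _ => (LinearMap.proj j : (Fin k → A) →ₗ[A] A)) hh
  refine ⟨∑ j, π (Pi.single j 1) ⊗ₜ ⟨fun z => h z j, hc j⟩, funext fun z => ?_⟩
  classical
  simp only [map_sum, Finset.sum_apply, Phi_tmul]
  rw [← he z]
  conv_rhs => rw [pi_eq_sum_univ' (h z), map_sum]
  exact Finset.sum_congr rfl fun j _ => by rw [map_smul]

theorem Phi_injective_pi (k : ℕ) : Function.Injective (Phi I Z (Fin k → A)) := by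
  classical
  rw [injective_iff_map_eq_zero]
  intro x hx
  let inv : (Fin k → decaying I Z A) → (Fin k → A) ⊗[A] decaying I Z A := fun g => ∑ j, Pi.single j 1 ⊗ₜ g j
  let coord : Fin k → ((Fin k → A) ⊗[A] decaying I Z A →ₗ[A] decaying I Z A) := fun j =>
    (TensorProduct.lid A _).toLinearMap ∘ₗ (LinearMap.proj j : (Fin k → A) →ₗ[A] A).rTensor _
  have key : ∀ y : (Fin k → A) ⊗[A] decaying I Z A, y = inv (fun j => coord j y) := by
    intro y
    induction y with
    | zero => simp [inv]
    | tmul m g =>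
      conv_lhs => rw [pi_eq_sum_univ' m, TensorProduct.sum_tmul]
      refine Finset.sum_congr rfl fun j _ => ?_
      simp only [coord, LinearMap.comp_apply, LinearMap.rTensor_tmul, LinearEquiv.coe_coe, TensorProduct.lid_tmul,
        LinearMap.proj_apply]
      rw [TensorProduct.smul_tmul]
    | add a b ha hb =>
      conv_lhs => rw [ha, hb]
      simp only [inv, map_add, TensorProduct.tmul_add, Finset.sum_add_distrib]
  have hval : ∀ (y : (Fin k → A) ⊗[A] decaying I Z A) (j : Fin k) (z : Z),
      (coord j y : Z → A) z = Phi I Z (Fin k → A) y z j := by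
    intro y j z
    induction y with
    | zero => simp
    | tmul m g =>
      simp only [coord, LinearMap.comp_apply, LinearMap.rTensor_tmul, LinearEquiv.coe_coe, TensorProduct.lid_tmul,
        LinearMap.proj_apply, Phi_tmul, SetLike.val_smul, Pi.smul_apply, smul_eq_mul]
      ring
    | add a b ha hb => simp only [map_add, Submodule.coe_add, Pi.add_apply, ha, hb]
  rw [key x]
  have h0 : ∀ j, coord j x = 0 := fun j => Subtype.ext (funext fun z => by rw [hval, hx]; rfl)
  simp [inv, h0]

theorem Phi_injective : Function.Injective (Phi I Z M) := by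
  obtain ⟨k, π, hπ⟩ := Module.Finite.exists_fin' A M
  haveI : Module.Finite A (LinearMap.ker π) := Module.Finite.iff_fg.2 (IsNoetherian.noetherian _)
  rw [injective_iff_map_eq_zero]
  intro x hx
  obtain ⟨y, rfl⟩ := LinearMap.rTensor_surjective (decaying I Z A) hπ x
  have hK : ∀ z, Phi I Z (Fin k → A) y z ∈ LinearMap.ker π := fun z => by
    rw [LinearMap.mem_ker, ← Phi_natural, hx]; rfl
  have hdec : (fun z => (⟨Phi I Z (Fin k → A) y z, hK z⟩ : LinearMap.ker π)) ∈ decaying I Z (LinearMap.ker π) :=
    (mem_decaying_submodule_iff (LinearMap.ker π) _).2 (range_Phi_le ⟨y, rfl⟩)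
  rw [← range_Phi] at hdec
  obtain ⟨w, hw⟩ := hdec
  have : y = (LinearMap.ker π).subtype.rTensor _ w := Phi_injective_pi k (funext fun z => by
    rw [Phi_natural, hw]; rfl)
  rw [this, ← LinearMap.rTensor_comp_apply, LinearMap.comp_ker_subtype, LinearMap.rTensor_zero, LinearMap.zero_apply]


theorem flat_decaying : Module.Flat A (decaying I Z A) := by
  refine Module.Flat.iff_rTensor_injective.2 fun {J} hJ => ?_
  haveI : Module.Finite A J := Module.Finite.iff_fg.2 hJ
  intro x y h
  refine Phi_injective (I := I) (Z := Z) (M := J) (funext fun z => Subtype.ext ?_)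
  have hx := Phi_natural (I := I) (Z := Z) J.subtype x z
  have hy := Phi_natural (I := I) (Z := Z) J.subtype y z
  rw [h, hy] at hx
  exact hx.symm

end noeth

end Groth.Agent.H2Decay
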