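import Mathlib
import Groth.Prelude.Def_W4c5adicflatcomplDec
import Groth.Agent.Lib.H2Decay

/-! Completions and decaying functions. -/

open W4c5adicflatcompl

namespace Groth.Agent.H2Decay

set_option linter.style.haveILetI false
set_option backward.isDefEq.respectTransparency.types false

universe u v w w'

variable {A : Type u} [CommRing A] {I : Ideal A} {M : Type w} [AddCommGroup M] [Module A M]

theorem ker_eval_eq_of_isAdicComplete (h : IsAdicComplete I (AdicCompletion I M)) (n : ℕ) :
    LinearMap.ker (AdicCompletion.eval I M n) = (I ^ n • ⊤ : Submodule A (AdicCompletion I M)) := by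
  refine le_antisymm (fun x hx => ?_) (AdicCompletion.pow_smul_top_le_ker_eval I n)
  -- successive approximation inside the kernels
  have step : ∀ (m : ℕ) (y : LinearMap.ker (AdicCompletion.eval I M (n + m))),
      ∃ y' : LinearMap.ker (AdicCompletion.eval I M (n + (m + 1))),
        (y : AdicCompletion I M) - y' ∈ (I ^ (n + m) • ⊤ : Submodule A (AdicCompletion I M)) := by
    intro m y
    obtain ⟨t, ht⟩ := Submodule.mkQ_surjective _ (y.1.val (n + (m + 1)))
    refine ⟨⟨y.1 - AdicCompletion.of I M t, ?_⟩, ?_⟩
    · rw [LinearMap.mem_ker, map_sub, AdicCompletion.eval_of, AdicCompletion.eval_apply, ht, sub_self]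
    · rw [sub_sub_cancel]
      have h1 : y.1.val (n + m) = Submodule.mkQ _ t := by
        rw [← y.1.prop (show n + m ≤ n + (m + 1) by omega), ← ht]
        rfl
      have h2 : y.1.val (n + m) = 0 := LinearMap.mem_ker.1 y.2
      rw [h2] at h1
      exact map_mem (AdicCompletion.of I M) ((Submodule.Quotient.mk_eq_zero _).1 h1.symm)
  choose g hg using step
  let seq : ∀ m, LinearMap.ker (AdicCompletion.eval I M (n + m)) := fun m => Nat.rec ⟨x, hx⟩ g m
  let s : ℕ → AdicCompletion I M := fun m => (seq m).1
  have hs : ∀ m, s m - s (m + 1) ∈ (I ^ (n + m) • ⊤ : Submodule A (AdicCompletion I M)) := fun m => hg m (seq m)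
  have hsle : ∀ m d, s m - s (m + d) ∈ (I ^ (n + m) • ⊤ : Submodule A (AdicCompletion I M)) := by
    intro m d
    induction d with
    | zero => simp
    | succ d ih =>
      have h2 := Submodule.smul_mono (Ideal.pow_le_pow_right (show n + m ≤ n + (m + d) by omega)) le_rfl (hs (m + d))
      have := Submodule.add_mem _ ih h2
      rwa [sub_add_sub_cancel] at this
  obtain ⟨L, hL⟩ := IsPrecomplete.prec (I := I) h.toIsPrecomplete (f := s) (fun {m k} hmk => by
    obtain ⟨d, rfl⟩ := Nat.exists_eq_add_of_le hmk
    exact SModEq.sub_mem.2 (Submodule.smul_mono (Ideal.pow_le_pow_right (Nat.le_add_left m n)) le_rfl (hsle m d)))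
  have hL0 : L = 0 := by
    ext j
    have h1 := AdicCompletion.pow_smul_top_le_ker_eval I j (SModEq.sub_mem.1 (hL j))
    rw [LinearMap.mem_ker, map_sub, sub_eq_zero, AdicCompletion.eval_apply] at h1
    have h2 : (s j).val (n + j) = 0 := LinearMap.mem_ker.1 (seq j).2
    rw [AdicCompletion.eval_apply] at h1
    rw [← h1, ← (s j).prop (show j ≤ n + j by omega), h2, map_zero]
    rfl
  have h3 := Submodule.add_mem _ (Submodule.smul_mono (Ideal.pow_le_pow_right (Nat.le_add_right n 0)) le_rfl (hsle 0 n))
    (SModEq.sub_mem.1 (hL n))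
  rwa [Nat.zero_add, sub_add_sub_cancel, hL0, sub_zero] at h3

theorem isAdicComplete_of_ker_eval_le (h : ∀ n : ℕ, LinearMap.ker (AdicCompletion.eval I M n) ≤
    (I ^ n • ⊤ : Submodule A (AdicCompletion I M))) : IsAdicComplete I (AdicCompletion I M) := by
  refine { prec' := fun x hx => ?_ }
  let L : AdicCompletion I M :=
    { val := fun i => (x i).val i
      property := fun {m n} h' => by
        have := AdicCompletion.pow_smul_top_le_ker_eval I m (SModEq.sub_mem.1 (hx h'))
        rw [LinearMap.mem_ker, map_sub, sub_eq_zero, AdicCompletion.eval_apply, AdicCompletion.eval_apply] at this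
        show AdicCompletion.transitionMap I M h' ((x n).val n) = (x m).val m
        rw [(x n).prop h']
        exact this.symm }
  refine ⟨L, fun i => SModEq.sub_mem.2 (h i ?_)⟩
  rw [LinearMap.mem_ker, map_sub, sub_eq_zero]
  rfl

theorem isAdicComplete_iff_ker : IsAdicComplete I (AdicCompletion I M) ↔
    ∀ n : ℕ, 1 ≤ n → LinearMap.ker (AdicCompletion.eval I M n) = (I ^ n • ⊤ : Submodule A (AdicCompletion I M)) := by
  refine ⟨fun h n _ => ker_eval_eq_of_isAdicComplete h n, fun h => isAdicComplete_of_ker_eval_le fun n => ?_⟩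
  rcases n with _ | n
  · simp
  · exact (h (n + 1) (by omega)).le

theorem isAdicComplete_iff_dense : IsAdicComplete I (AdicCompletion I M) ↔
    ∀ (n : ℕ) (x : AdicCompletion I M), ∃ y : M, x - AdicCompletion.of I M y ∈ (I ^ n • ⊤ : Submodule A (AdicCompletion I M)) := by
  refine ⟨fun h n x => ?_, fun h => isAdicComplete_of_ker_eval_le fun n x hx => ?_⟩
  · obtain ⟨t, ht⟩ := Submodule.mkQ_surjective _ (x.val n)
    refine ⟨t, (ker_eval_eq_of_isAdicComplete h n).le ?_⟩
    rw [LinearMap.mem_ker, map_sub, AdicCompletion.eval_of, AdicCompletion.eval_apply, ht, sub_self]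
  · obtain ⟨y, hy⟩ := h n x
    have h1 := AdicCompletion.pow_smul_top_le_ker_eval I n hy
    rw [LinearMap.mem_ker, map_sub, sub_eq_zero, LinearMap.mem_ker.1 hx, AdicCompletion.eval_of] at h1
    have := Submodule.add_mem _ hy (map_mem (AdicCompletion.of I M) ((Submodule.Quotient.mk_eq_zero _).1 h1.symm))
    rwa [sub_add_cancel] at this

theorem exists_retraction : ∃ ψ : AdicCompletion I (AdicCompletion I M) →ₗ[A] AdicCompletion I M,
    ψ ∘ₗ AdicCompletion.of I (AdicCompletion I M) = LinearMap.id := by
  let q : ∀ n, (AdicCompletion I M ⧸ (I ^ n • ⊤ : Submodule A (AdicCompletion I M))) →ₗ[A]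
      (M ⧸ (I ^ n • ⊤ : Submodule A M)) := fun n =>
    Submodule.liftQ _ (AdicCompletion.eval I M n) (AdicCompletion.pow_smul_top_le_ker_eval I n)
  refine ⟨{ toFun := fun x => ⟨fun n => q n (x.val n), fun {m n} h => ?_⟩
            map_add' := fun x y => AdicCompletion.ext fun n => map_add (q n) _ _
            map_smul' := fun c x => AdicCompletion.ext fun n => map_smul (q n) _ _ }, LinearMap.ext fun x => AdicCompletion.ext fun n => rfl⟩
  show AdicCompletion.transitionMap I M h (q n (x.val n)) = q m (x.val m)
  rw [← x.prop h]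
  obtain ⟨t, ht⟩ := Submodule.mkQ_surjective _ (x.val n)
  rw [← ht]
  exact t.prop h

section pi
variable {Z : Type v}

theorem finsupp_mem_smul {n : ℕ} (s : Z →₀ M) (h : ∀ z, s z ∈ (I ^ n • ⊤ : Submodule A M)) :
    s ∈ (I ^ n • ⊤ : Submodule A (Z →₀ M)) := by
  rw [← Finsupp.sum_single s]
  exact Submodule.sum_mem _ fun z _ => map_mem (Finsupp.lsingle z) (h z)

theorem pi_map_lapply [IsAdicComplete I (AdicCompletion I M)] :
    Function.Injective (LinearMap.pi fun z : Z => (AdicCompletion.map I (Finsupp.lapply (M := M) (R := A) z)).restrictScalars A) ∧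
    LinearMap.range (LinearMap.pi fun z : Z => (AdicCompletion.map I (Finsupp.lapply (M := M) (R := A) z)).restrictScalars A) =
      decaying I Z (AdicCompletion I M) := by
  classical
  set Φ := LinearMap.pi fun z : Z => (AdicCompletion.map I (Finsupp.lapply (M := M) (R := A) z)).restrictScalars A with hΦ
  have hval : ∀ (x : AdicCompletion I (Z →₀ M)) (n : ℕ) (s : Z →₀ M), Submodule.mkQ _ s = x.val n →
      ∀ z, (Φ x z).val n = Submodule.mkQ _ (s z) := fun x n s hs z => by
    show (AdicCompletion.map I (Finsupp.lapply (M := M) (R := A) z) x).val n = _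
    rw [AdicCompletion.map_val_apply, ← hs]
    rfl
  constructor
  · rw [injective_iff_map_eq_zero]
    intro x hx
    ext n
    obtain ⟨s, hs⟩ := Submodule.mkQ_surjective _ (x.val n)
    rw [← hs]
    refine (Submodule.Quotient.mk_eq_zero _).2 (finsupp_mem_smul s fun z => (Submodule.Quotient.mk_eq_zero _).1 ?_)
    have := hval x n s hs z
    rw [hx] at this
    exact this.symm
  · refine le_antisymm ?_ fun f hf => ?_
    · rintro _ ⟨x, rfl⟩ n
      obtain ⟨s, hs⟩ := Submodule.mkQ_surjective _ (x.val n)
      refine s.support.finite_toSet.subset fun z hz => ?_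
      rw [Finset.mem_coe, Finsupp.mem_support_iff]
      intro h0
      refine hz ((ker_eval_eq_of_isAdicComplete ‹_› n).le (LinearMap.mem_ker.2 ?_))
      rw [AdicCompletion.eval_apply, hval x n s hs z, h0, map_zero]
    · have hrep : ∀ n z, ∃ m : M, Submodule.mkQ _ m = (f z).val n ∧ (f z ∈ (I ^ n • ⊤ : Submodule A (AdicCompletion I M)) → m = 0) := by
        intro n z
        by_cases h : f z ∈ (I ^ n • ⊤ : Submodule A (AdicCompletion I M))
        · refine ⟨0, ?_, fun _ => rfl⟩
          rw [map_zero]
          exact (AdicCompletion.pow_smul_top_le_ker_eval I n h).symm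
        · obtain ⟨m, hm⟩ := Submodule.mkQ_surjective _ ((f z).val n)
          exact ⟨m, hm, fun h' => absurd h' h⟩
      choose r hr hr0 using hrep
      let s : ℕ → (Z →₀ M) := fun n => Finsupp.onFinset (hf n).toFinset (r n) fun z hz => by
        simpa using fun h => hz (hr0 n z h)
      refine ⟨⟨fun n => Submodule.mkQ _ (s n), fun {m n} hmn => ?_⟩, funext fun z => AdicCompletion.ext fun n => ?_⟩
      · show Submodule.mkQ _ (s n) = Submodule.mkQ _ (s m)
        refine (Submodule.Quotient.eq _).2 (finsupp_mem_smul _ fun z => ?_)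
        rw [Finsupp.sub_apply, Finsupp.onFinset_apply, Finsupp.onFinset_apply, ← Submodule.Quotient.eq]
        have := (f z).prop hmn
        rw [← hr n z, ← hr m z] at this
        exact this
      · rw [hval _ n (s n) rfl z, Finsupp.onFinset_apply, hr n z]

end pi

section universal

variable {Z : Type v} [IsAdicComplete I M]

/-- the extension of `a ↦ a • m` to the completion. -/
noncomputable def toM (m : M) : AdicCompletion I A →ₗ[A] M :=
  (AdicCompletion.ofLinearEquiv I M).symm.toLinearMap ∘ₗ
    (AdicCompletion.map I (LinearMap.toSpanSingleton A M m)).restrictScalars A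

theorem toM_one (m : M) : toM m (1 : AdicCompletion I A) = m := by
  show (AdicCompletion.ofLinearEquiv I M).symm (AdicCompletion.map I (LinearMap.toSpanSingleton A M m) 1) = m
  rw [show (1 : AdicCompletion I A) = AdicCompletion.of I A 1 from AdicCompletion.ext fun n => rfl, AdicCompletion.map_of,
    LinearMap.toSpanSingleton_apply_one, AdicCompletion.ofLinearEquiv_symm_of]

theorem existsUnique_decaying [DecidableEq Z] (hI : I.FG) (f : Z → M) :
    ∃! φ : decaying I Z (AdicCompletion I A) →ₗ[A] M, ∀ z, φ (W4c5adicflatcompl.single I z (1 : AdicCompletion I A)) = f z := by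
  refine ⟨pairing fun z => toM (f z), fun z => by rw [pairing_single, toM_one], fun φ hφ => LinearMap.ext fun g => ?_⟩
  haveI := AdicCompletion.isAdicComplete (M := A) hI
  have hag : ∀ (z : Z) (a : A), φ (W4c5adicflatcompl.single I z (AdicCompletion.of I A a)) = a • f z := fun z a => by
    rw [← hφ z, ← map_smul]
    congr 1
    refine Subtype.ext ?_
    rw [SetLike.val_smul, coe_single, coe_single, ← Pi.single_smul]
    congr 1
    rw [show (1 : AdicCompletion I A) = AdicCompletion.of I A 1 from AdicCompletion.ext fun n => rfl, ← map_smul, smul_eq_mul, mul_one]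
  rw [← sub_eq_zero]
  refine IsHausdorff.haus' (I := I) _ fun n => SModEq.zero.2 ?_
  let T := (g.2 n).toFinset
  have hT : ∀ z, z ∉ T → (g : Z → AdicCompletion I A) z ∈ (I ^ n • ⊤ : Submodule A (AdicCompletion I A)) := fun z hz => by
    simpa [T] using hz
  have hrep : ∀ z, ∃ a : A, (g : Z → AdicCompletion I A) z - AdicCompletion.of I A a ∈ (I ^ n • ⊤ : Submodule A (AdicCompletion I A)) :=
    fun z => isAdicComplete_iff_dense.1 inferInstance n _
  choose a ha using hrep
  let p : decaying I Z (AdicCompletion I A) := ∑ z ∈ T, W4c5adicflatcompl.single I z (AdicCompletion.of I A (a z))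
  have hp : g - p ∈ (I ^ n • ⊤ : Submodule A (decaying I Z (AdicCompletion I A))) := by
    refine mem_pow_smul hI fun z => ?_
    have hpz : (p : Z → AdicCompletion I A) z = if z ∈ T then AdicCompletion.of I A (a z) else 0 := by
      simp [p, AddSubmonoidClass.coe_finsetSum, Finset.sum_apply, Pi.single_apply]
    rw [Submodule.coe_sub, Pi.sub_apply, hpz]
    split_ifs with h
    · exact ha z
    · rw [sub_zero]; exact hT z h
  let δ : decaying I Z (AdicCompletion I A) →ₗ[A] M := φ - pairing fun z => toM (f z)
  have h1 := map_mem δ hp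
  have h2 : δ p = 0 := by
    refine (map_sum _ _ _).trans (Finset.sum_eq_zero fun z _ => ?_)
    show φ _ - pairing (fun z => toM (f z)) _ = 0
    rw [hag, pairing_single, sub_eq_zero,
      show AdicCompletion.of I A (a z) = a z • (1 : AdicCompletion I A) by
        rw [show (1 : AdicCompletion I A) = AdicCompletion.of I A 1 from AdicCompletion.ext fun n => rfl, ← map_smul, smul_eq_mul, mul_one],
      map_smul, toM_one]
  rw [map_sub, h2, sub_zero] at h1
  exact h1

end universal

end Groth.Agent.H2Decay
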