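import Mathlib
import Groth.Prelude.Def_W4c5adicflatcomplDec
import Groth.Agent.Lib.H2Decay
import Groth.Agent.Lib.H2Decay2
import Groth.Agent.Lib.H2Decay3

/-! Topological generation, adically projective and adically free modules. -/

open W4c5adicflatcompl TensorProduct

namespace Groth.Agent.H2Decay

set_option linter.style.haveILetI false
set_option backward.isDefEq.respectTransparency.types false

universe u v w

section span
variable {A : Type u} [CommRing A] {I : Ideal A} [IsAdicComplete I A] {M : Type w} [AddCommGroup M] [Module A M]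
  [IsAdicComplete I M] {Z : Type v} (m : Z → M)

theorem mem_top_iff (a : A) (n : ℕ) : a ∈ (I ^ n • ⊤ : Submodule A A) ↔ a ∈ I ^ n := by
  rw [smul_eq_mul, Ideal.mul_top]

theorem exists_decaying_of_span (h : Submodule.span A (Set.range m) ⊔ I • ⊤ = ⊤) (x : M) :
    ∃ g : Z → A, g ∈ decaying I Z A ∧ IsSum I (fun z => g z • m z) x := by
  classical
  have key : ∀ n, ∀ y ∈ (I ^ n • ⊤ : Submodule A M), ∃ c : Z →₀ A, (∀ z, c z ∈ I ^ n) ∧
      y - c.sum (fun z a => a • m z) ∈ (I ^ (n + 1) • ⊤ : Submodule A M) := by
    intro n y hy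
    refine Submodule.smul_induction_on hy (fun a ha w _ => ?_) fun u v hu hv => ?_
    · have hw : w ∈ Submodule.span A (Set.range m) ⊔ I • ⊤ := by rw [h]; exact Submodule.mem_top
      obtain ⟨p, hp, q, hq, rfl⟩ := Submodule.mem_sup.1 hw
      obtain ⟨c, rfl⟩ := Finsupp.mem_span_range_iff_exists_finsupp.1 hp
      refine ⟨a • c, fun z => Ideal.mul_mem_right _ _ ha, ?_⟩
      rw [Finsupp.sum_smul_index (by simp), smul_add, Finsupp.smul_sum]
      simp_rw [mul_smul]
      rw [add_sub_cancel_left, pow_succ, Submodule.mul_smul]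
      exact Submodule.smul_mem_smul ha hq
    · obtain ⟨c, hc, hu⟩ := hu
      obtain ⟨e, he, hv⟩ := hv
      refine ⟨c + e, fun z => Ideal.add_mem _ (hc z) (he z), ?_⟩
      rw [Finsupp.sum_add_index' (by simp) (fun z a b => add_smul a b _)]
      have := Submodule.add_mem _ hu hv
      convert this using 1
      abel
  choose! c hc hy using key
  let y : ℕ → M := fun n => Nat.rec x (fun k yk => yk - (c k yk).sum fun z a => a • m z) n
  have hyn : ∀ n, y n ∈ (I ^ n • ⊤ : Submodule A M) := by
    intro n
    induction n with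
    | zero => simp
    | succ k ih => exact hy k (y k) ih
  let P : ℕ → (Z →₀ A) := fun n => ∑ j ∈ Finset.range n, c j (y j)
  have hP : ∀ {a b : ℕ}, a ≤ b → ∀ z, P b z - P a z ∈ I ^ a := fun {a b} hab z => by
    have h1 : P b - P a = ∑ j ∈ Finset.Ico a b, c j (y j) := (Finset.sum_Ico_eq_sub _ hab).symm
    rw [← Finsupp.sub_apply, h1, Finsupp.finsetSum_apply]
    exact Ideal.sum_mem _ fun j hj => Ideal.pow_le_pow_right (Finset.mem_Ico.1 hj).1 (hc j (y j) (hyn j) z)
  have hlim : ∀ z, ∃ L : A, ∀ k, P k z ≡ L [SMOD (I ^ k • ⊤ : Submodule A A)] := fun z =>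
    IsPrecomplete.prec (I := I) inferInstance fun {a b} hab => SModEq.sub_mem.2 ((mem_top_iff _ a).2 (by
      rw [← Ideal.neg_mem_iff, neg_sub]; exact hP hab z))
  choose g hg using hlim
  have hgn : ∀ n z, g z - P n z ∈ I ^ n := fun n z => by
    rw [← Ideal.neg_mem_iff, neg_sub, ← mem_top_iff]; exact SModEq.sub_mem.1 (hg z n)
  have hsupp : ∀ n z, z ∉ (P n).support → g z ∈ I ^ n := fun n z hz => by
    simpa [Finsupp.notMem_support_iff.1 hz] using hgn n z
  have hxy : ∀ n, x - (P n).sum (fun z a => a • m z) = y n := by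
    intro n
    induction n with
    | zero => simp [P, y]
    | succ k ih =>
      show x - (∑ j ∈ Finset.range (k + 1), c j (y j)).sum _ = y k - _
      rw [Finset.sum_range_succ, Finsupp.sum_add_index' (by simp) (fun z a b => add_smul a b _), ← sub_sub]
      exact congrArg (· - _) ih
  refine ⟨g, fun n => (P n).support.finite_toSet.subset fun z hz => by_contra fun h' => hz ((mem_top_iff _ n).2 (hsupp n z h')),
    fun n => ⟨(P n).support, fun z hz => Submodule.smul_mem_smul (hsupp n z hz) Submodule.mem_top, ?_⟩⟩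
  have h1 : (P n).sum (fun z a => a • m z) - ∑ z ∈ (P n).support, g z • m z ∈ (I ^ n • ⊤ : Submodule A M) := by
    rw [Finsupp.sum, ← Finset.sum_sub_distrib]
    refine Submodule.sum_mem _ fun z _ => ?_
    rw [← sub_smul, ← neg_sub, neg_smul]
    exact Submodule.neg_mem _ (Submodule.smul_mem_smul (hgn n z) Submodule.mem_top)
  have := Submodule.add_mem _ (hyn n) h1
  rw [← hxy n, sub_add_sub_cancel] at this
  exact this

omit [IsAdicComplete I A] [IsAdicComplete I M] in
theorem span_of_decaying (h : ∀ x : M, ∃ g : Z → A, g ∈ decaying I Z A ∧ IsSum I (fun z => g z • m z) x) :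
    Submodule.span A (Set.range m) ⊔ I • ⊤ = ⊤ := by
  refine eq_top_iff.2 fun x _ => ?_
  obtain ⟨g, -, hg⟩ := h x
  obtain ⟨S, -, hS⟩ := hg 1
  rw [pow_one] at hS
  rw [← sub_add_cancel x (∑ z ∈ S, g z • m z), add_comm]
  exact Submodule.add_mem_sup (Submodule.sum_mem _ fun z _ => Submodule.smul_mem _ _ (Submodule.subset_span ⟨z, rfl⟩)) hS

end span

section projective
variable {A : Type u} [CommRing A] [IsNoetherianRing A] {I : Ideal A} {P : Type u} [AddCommGroup P] [Module A P]

theorem isAdicProjective_iff : IsAdicProjective I P ↔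
    ∃ (Z : Type u) (i : P →ₗ[A] decaying I Z (AdicCompletion I A)) (r : decaying I Z (AdicCompletion I A) →ₗ[A] P),
      r ∘ₗ i = LinearMap.id := by
  classical
  have hI : I.FG := IsNoetherian.noetherian I
  haveI := AdicCompletion.isAdicComplete (M := A) hI
  constructor
  · rintro ⟨hP, hlift⟩
    haveI := hP
    obtain ⟨r, hr, -⟩ := existsUnique_decaying (Z := P) hI (fun p : P => p)
    have hD : IsAdicComplete I (decaying I P (AdicCompletion I A)) := isAdicComplete_decaying hI
    obtain ⟨i, hi⟩ := hlift _ P hD hP r (fun p => ⟨_, hr p⟩) LinearMap.id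
    exact ⟨P, i, r, hi⟩
  · rintro ⟨Z, i, r, hri⟩
    have hri' : ∀ p, r (i p) = p := LinearMap.congr_fun hri
    haveI hD : IsAdicComplete I (decaying I Z (AdicCompletion I A)) := isAdicComplete_decaying hI
    haveI : IsHausdorff I P := ⟨fun p hp => by
      rw [← hri' p, IsHausdorff.haus' (I := I) (i p) fun n => SModEq.zero.2 (map_mem i (SModEq.zero.1 (hp n))), map_zero]⟩
    haveI hP : IsAdicComplete I P :=
      { prec' := fun f hf => by
          obtain ⟨L, hL⟩ := IsPrecomplete.prec (I := I) hD.toIsPrecomplete (f := fun n => i (f n))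
            (fun {m n} hmn => SModEq.sub_mem.2 (by rw [← map_sub]; exact map_mem i (SModEq.sub_mem.1 (hf hmn))))
          refine ⟨r L, fun n => SModEq.sub_mem.2 ?_⟩
          have := map_mem r (SModEq.sub_mem.1 (hL n))
          rwa [map_sub, hri'] at this }
    refine ⟨hP, fun M N _ _ _ _ hM hN φ hφ ψ => ?_⟩
    haveI := hM
    haveI := hN
    choose t ht using fun z : Z => hφ (ψ (r (W4c5adicflatcompl.single I z (1 : AdicCompletion I A))))
    obtain ⟨χ, hχ, -⟩ := existsUnique_decaying (Z := Z) hI t
    obtain ⟨u, -, huniq⟩ := existsUnique_decaying (Z := Z) hI fun z => ψ (r (W4c5adicflatcompl.single I z (1 : AdicCompletion I A)))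
    have h1 : φ ∘ₗ χ = ψ ∘ₗ r := (huniq (φ ∘ₗ χ) fun z => by rw [LinearMap.comp_apply, hχ, ht]).trans
      (huniq (ψ ∘ₗ r) fun z => rfl).symm
    refine ⟨χ ∘ₗ i, ?_⟩
    rw [← LinearMap.comp_assoc, h1, LinearMap.comp_assoc, hri, LinearMap.comp_id]

end projective

section congr
variable {A : Type u} [CommRing A] {I : Ideal A} {Z : Type v} {M N : Type w} [AddCommGroup M] [Module A M] [AddCommGroup N] [Module A N]

/-- decaying functions with values in isomorphic modules. -/
noncomputable def congrEquiv (e : M ≃ₗ[A] N) : decaying I Z M ≃ₗ[A] decaying I Z N :=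
  (LinearEquiv.piCongrRight fun _ : Z => e).ofSubmodules (decaying I Z M) (decaying I Z N) (by
    ext f
    refine ⟨?_, fun hf => ⟨fun z => e.symm (f z), comp_mem_decaying (fun _ => e.symm.toLinearMap) hf, funext fun z => e.apply_symm_apply _⟩⟩
    rintro ⟨g, hg, rfl⟩
    exact comp_mem_decaying (fun _ => e.toLinearMap) hg)

theorem isAdicComplete_congr (e : M ≃ₗ[A] N) [IsAdicComplete I M] : IsAdicComplete I N := by
  haveI : IsHausdorff I N := ⟨fun x hx => by
    rw [← e.apply_symm_apply x, IsHausdorff.haus' (I := I) (e.symm x)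
      fun n => SModEq.zero.2 (map_mem e.symm.toLinearMap (SModEq.zero.1 (hx n))), map_zero]⟩
  refine { prec' := fun f hf => ?_ }
  obtain ⟨L, hL⟩ := IsPrecomplete.prec (I := I) (M := M) inferInstance (f := fun n => e.symm (f n))
    (fun {m n} hmn => SModEq.sub_mem.2 (by
      rw [← map_sub]; exact map_mem e.symm.toLinearMap (SModEq.sub_mem.1 (hf hmn))))
  refine ⟨e L, fun n => SModEq.sub_mem.2 ?_⟩
  have := map_mem e.toLinearMap (SModEq.sub_mem.1 (hL n))
  rw [map_sub] at this
  simpa using this

end congr

section free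
variable {A : Type u} [CommRing A] [IsNoetherianRing A] [IsLocalRing A] [IsAdicComplete (IsLocalRing.maximalIdeal A) A]

local notation3 "𝔪" => IsLocalRing.maximalIdeal A

theorem isAdicFree_iff (M : Type u) [AddCommGroup M] [Module A M] :
    IsAdicFree 𝔪 M ↔ Module.Flat A M ∧ IsAdicComplete 𝔪 M := by
  classical
  have hI : (𝔪).FG := IsNoetherian.noetherian _
  let eA := AdicCompletion.ofLinearEquiv (IsLocalRing.maximalIdeal A) A
  constructor
  · rintro ⟨Z, ⟨e⟩⟩
    let e' : decaying 𝔪 Z A ≃ₗ[A] M := (congrEquiv eA).trans e.symm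
    haveI := flat_decaying (I := IsLocalRing.maximalIdeal A) (Z := Z)
    haveI := isAdicComplete_decaying (I := IsLocalRing.maximalIdeal A) (Z := Z) (M := A) hI
    exact ⟨Module.Flat.of_linearEquiv e'.symm, isAdicComplete_congr e'⟩
  · rintro ⟨hflat, hM⟩
    haveI := hflat
    haveI := hM
    let k := A ⧸ IsLocalRing.maximalIdeal A
    letI : Field k := Ideal.Quotient.field _
    let V := M ⧸ ((IsLocalRing.maximalIdeal A) • ⊤ : Submodule A M)
    let b := Module.Basis.ofVectorSpace k V
    let Z := Module.Basis.ofVectorSpaceIndex k V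
    choose f hf using fun z : Z => Submodule.mkQ_surjective ((IsLocalRing.maximalIdeal A) • ⊤ : Submodule A M) (b z)
    let φ : decaying 𝔪 Z A →ₗ[A] M := pairing fun z => LinearMap.toSpanSingleton A M (f z)
    have hφ : ∀ g : decaying 𝔪 Z A, IsSum 𝔪 (fun z => (g : Z → A) z • f z) (φ g) := isSum_pairing (fun z => LinearMap.toSpanSingleton A M (f z))
    have hsurj : Function.Surjective φ := by
      intro x
      have hspan : Submodule.span A (Set.range f) ⊔ (IsLocalRing.maximalIdeal A) • ⊤ = ⊤ := by
        refine eq_top_iff.2 fun y _ => ?_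
        obtain ⟨c, hc⟩ := Finsupp.mem_span_range_iff_exists_finsupp.1 (b.mem_span (Submodule.mkQ _ y) : _ ∈ Submodule.span k (Set.range b))
        choose a ha using fun z => Ideal.Quotient.mk_surjective (c z)
        rw [← sub_add_cancel y (∑ z ∈ c.support, a z • f z), add_comm]
        refine Submodule.add_mem_sup (Submodule.sum_mem _ fun z _ => Submodule.smul_mem _ _ (Submodule.subset_span ⟨z, rfl⟩)) ?_
        rw [← Submodule.Quotient.mk_eq_zero, Submodule.Quotient.mk_sub, sub_eq_zero]
        show Submodule.mkQ _ y = Submodule.mkQ _ _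
        rw [map_sum, ← hc, Finsupp.sum]
        refine Finset.sum_congr rfl fun z _ => ?_
        rw [map_smul, hf, ← ha z]
        rfl
      obtain ⟨g, hg, hs⟩ := exists_decaying_of_span f hspan x
      exact ⟨⟨g, hg⟩, IsSum.unique (hφ ⟨g, hg⟩) hs⟩
    have hinj : Function.Injective φ := by
      rw [injective_iff_map_eq_zero]
      intro g hg
      have key : ∀ n z, (g : Z → A) z ∈ (IsLocalRing.maximalIdeal A) ^ n := by
        intro n
        induction n with
        | zero => simp
        | succ n ih =>
          intro z₀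
          obtain ⟨S, hS, hsum⟩ := hφ g (n + 1)
          rw [hg, zero_sub, Submodule.neg_mem_iff] at hsum
          set J : Ideal A := (IsLocalRing.maximalIdeal A) ^ n
          set J' : Submodule A J := (IsLocalRing.maximalIdeal A) • ⊤
          -- `J ⊗ M → J/mJ`
          let μ : M →ₗ[A] k := (b.coord z₀).restrictScalars A ∘ₗ Submodule.mkQ _
          let ev : J ⊗[A] M →ₗ[A] (J ⧸ J') := (TensorProduct.quotTensorEquivQuotSMul (M := J) (IsLocalRing.maximalIdeal A)).toLinearMap ∘ₗ
            (TensorProduct.comm A J k).toLinearMap ∘ₗ μ.lTensor J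
          have hinjJ : Function.Injective ((TensorProduct.lid A M).toLinearMap ∘ₗ J.subtype.rTensor M) :=
            (TensorProduct.lid A M).injective.comp (Module.Flat.rTensor_preserves_injective_linearMap _ J.injective_subtype)
          have hev : ∀ (a : J) (x : M) (c : A), μ x = Ideal.Quotient.mk _ c → ev (a ⊗ₜ x) = Submodule.Quotient.mk (c • a) := fun a x c hc => by
            simp only [ev, LinearMap.comp_apply, LinearMap.lTensor_tmul, hc, LinearEquiv.coe_coe, TensorProduct.comm_tmul]
            exact TensorProduct.quotTensorEquivQuotSMul_mk_tmul _ c a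
          have hzero : ∀ y ∈ ((IsLocalRing.maximalIdeal A) ^ (n + 1) • ⊤ : Submodule A M),
              ∃ ξ : J ⊗[A] M, TensorProduct.lid A M (J.subtype.rTensor M ξ) = y ∧ ev ξ = 0 := by
            intro y hy
            refine Submodule.smul_induction_on hy (fun a ha x _ => ?_) fun u v hu hv => ?_
            · have haJ : a ∈ J := Ideal.pow_le_pow_right (Nat.le_succ n) ha
              refine ⟨(⟨a, haJ⟩ : J) ⊗ₜ x, by simp, ?_⟩
              obtain ⟨c, hc⟩ := Ideal.Quotient.mk_surjective (μ x)
              rw [hev _ _ c hc.symm, Submodule.Quotient.mk_eq_zero]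
              refine Submodule.smul_mem _ c ?_
              have : a ∈ Submodule.map J.subtype J' := by
                rw [Submodule.map_smul'', Submodule.map_top, Submodule.range_subtype, smul_eq_mul, ← pow_succ']
                exact ha
              obtain ⟨a', ha', he⟩ := this
              exact (Subtype.ext he : a' = ⟨a, haJ⟩) ▸ ha'
            · obtain ⟨p, rfl, hp⟩ := hu
              obtain ⟨q, rfl, hq⟩ := hv
              exact ⟨p + q, by simp, by simp [hp, hq]⟩
          obtain ⟨ξ, hξ, hξ0⟩ := hzero _ hsum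
          have heq : ξ = ∑ z ∈ S, (⟨(g : Z → A) z, ih z⟩ : J) ⊗ₜ[A] f z := hinjJ (by
            simp only [LinearMap.coe_comp, LinearEquiv.coe_coe, Function.comp_apply]
            rw [hξ, map_sum, map_sum]
            simp)
          rw [heq, map_sum] at hξ0
          have hterm : ∀ z ∈ S, ev ((⟨(g : Z → A) z, ih z⟩ : J) ⊗ₜ[A] f z) =
              Submodule.Quotient.mk ((if z = z₀ then (1 : A) else 0) • (⟨(g : Z → A) z, ih z⟩ : J)) := fun z _ => by
            refine hev _ _ _ ?_
            show b.coord z₀ (Submodule.mkQ _ (f z)) = _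
            rw [hf, Module.Basis.coord_apply, Module.Basis.repr_self, Finsupp.single_apply]
            split_ifs <;> simp
          rw [Finset.sum_congr rfl hterm] at hξ0
          by_cases hz : z₀ ∈ S
          · rw [Finset.sum_eq_single_of_mem z₀ hz (fun z _ hne => by simp [hne]), if_pos rfl, one_smul,
              Submodule.Quotient.mk_eq_zero] at hξ0
            have := Submodule.mem_map_of_mem (f := J.subtype) hξ0
            rw [Submodule.map_smul'', Submodule.map_top, Submodule.range_subtype, smul_eq_mul, ← pow_succ'] at this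
            exact this
          · by_contra hnot
            -- outside `S` the term `g z₀ • f z₀` lies in `m^(n+1) M`
            obtain ⟨ξ', hξ', hξ'0⟩ := hzero _ (hS z₀ hz)
            have heq' : ξ' = (⟨(g : Z → A) z₀, ih z₀⟩ : J) ⊗ₜ[A] f z₀ := hinjJ (by
              simp only [LinearMap.coe_comp, LinearEquiv.coe_coe, Function.comp_apply]
              rw [hξ']
              simp)
            rw [heq', hev _ _ 1 (by
              show b.coord z₀ (Submodule.mkQ _ (f z₀)) = _
              rw [hf, Module.Basis.coord_apply, Module.Basis.repr_self, Finsupp.single_eq_same, map_one]),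
              one_smul, Submodule.Quotient.mk_eq_zero] at hξ'0
            have := Submodule.mem_map_of_mem (f := J.subtype) hξ'0
            rw [Submodule.map_smul'', Submodule.map_top, Submodule.range_subtype, smul_eq_mul, ← pow_succ'] at this
            exact hnot this
      refine Subtype.ext (funext fun z => ?_)
      exact IsHausdorff.haus' (I := IsLocalRing.maximalIdeal A) _ fun n => SModEq.zero.2 ((mem_top_iff _ n).2 (key n z))
    exact ⟨Z, ⟨((congrEquiv eA).symm.trans (LinearEquiv.ofBijective φ ⟨hinj, hsurj⟩)).symm⟩⟩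

end free

end Groth.Agent.H2Decay
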