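import Mathlib
import Groth.Prelude.Def_EGA41
set_option autoImplicit false
/-! Lifting derivations along adically formally smooth algebras. -/
namespace Groth.Agent.H2DerLift
universe u
open TensorProduct IsLocalRing
set_option maxHeartbeats 1000000
set_option synthInstance.maxHeartbeats 400000
set_option backward.isDefEq.respectTransparency.types false

theorem lift_derivation {A B R P M : Type u} [CommRing A] [CommRing B] [CommRing R] [Algebra A B] [Algebra B R] [Algebra A R]
    [IsScalarTower A B R] (𝔞 : Ideal A) (𝔟 : Ideal B) {k n : ℕ} (hk : (𝔞 ^ k).map (algebraMap A B) ≤ 𝔟)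
    (hn : 𝔟 ^ n ≤ RingHom.ker (algebraMap B R)) (h : EGA41.IsFormallySmoothAdic A 𝔞 B 𝔟)
    [AddCommGroup P] [Module R P] [Module Rᵐᵒᵖ P] [IsCentralScalar R P] [Module B P] [IsScalarTower B R P] [Module A P]
    [IsScalarTower A R P] [IsScalarTower A B P]
    [AddCommGroup M] [Module R M] [Module Rᵐᵒᵖ M] [IsCentralScalar R M] [Module B M] [IsScalarTower B R M] [Module A M]
    [IsScalarTower A R M] [IsScalarTower A B M]
    (f : P →ₗ[R] M) (hf : Function.Surjective f) (D : Derivation A B M) :
    ∃ D' : Derivation A B P, ∀ b, f (D' b) = D b := by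
  let π : TrivSqZeroExt R P →ₐ[R] TrivSqZeroExt R M := TrivSqZeroExt.map f
  have hπ : Function.Surjective π := fun z => by
    obtain ⟨y, hy⟩ := hf z.snd
    exact ⟨TrivSqZeroExt.inl z.fst + TrivSqZeroExt.inr y, TrivSqZeroExt.ext (by simp [π]) (by simp [π, hy])⟩
  let u1 : B →ₐ[A] TrivSqZeroExt R M :=
    { toFun := fun b => TrivSqZeroExt.inl (algebraMap B R b) + TrivSqZeroExt.inr (D b)
      map_one' := by ext <;> simp
      map_mul' := fun x y => by
        ext
        · simp
        · simp [D.leibniz, algebraMap_smul]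
      map_zero' := by ext <;> simp
      map_add' := fun x y => by
        ext
        · simp
        · simp
      commutes' := fun a => by
        ext
        · simp [TrivSqZeroExt.algebraMap_eq_inl', ← IsScalarTower.algebraMap_apply]
        · simp [TrivSqZeroExt.algebraMap_eq_inl'] }
  let J : Ideal (TrivSqZeroExt R P) := RingHom.ker (π.restrictScalars A)
  let e := Ideal.quotientKerAlgEquivOfSurjective (f := π.restrictScalars A) hπ
  have hJ : J ^ 2 = ⊥ := by
    rw [pow_two, eq_bot_iff, Ideal.mul_le]
    intro x hx y hy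
    have hx1 : x.fst = 0 := by simpa [π] using congrArg TrivSqZeroExt.fst (RingHom.mem_ker.1 hx)
    have hy1 : y.fst = 0 := by simpa [π] using congrArg TrivSqZeroExt.fst (RingHom.mem_ker.1 hy)
    rw [Ideal.mem_bot]
    ext <;> simp [hx1, hy1]
  obtain ⟨χ, hχ⟩ := h (TrivSqZeroExt R P) J ⟨2, hJ⟩ ⟨k * n, by
    rw [eq_bot_iff, Ideal.map_le_iff_le_comap]
    intro a ha
    have h1 : algebraMap A B a ∈ RingHom.ker (algebraMap B R) := hn (Ideal.pow_right_mono hk n (by
      rw [← Ideal.map_pow, ← pow_mul]; exact Ideal.mem_map_of_mem _ ha))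
    rw [Ideal.mem_comap, Ideal.mem_bot, TrivSqZeroExt.algebraMap_eq_inl', IsScalarTower.algebraMap_apply A B R,
      show algebraMap B R (algebraMap A B a) = 0 from RingHom.mem_ker.1 h1, TrivSqZeroExt.inl_zero]⟩
    (e.symm.toAlgHom.comp u1) ⟨n + n, fun x hx => by
      show e.symm (u1 x) = 0
      rw [map_eq_zero_iff _ e.symm.injective]
      rw [pow_add] at hx
      refine Submodule.mul_induction_on hx (fun y hy z hz => ?_) (fun y z hy hz => by rw [map_add, hy, hz, add_zero])
      have h0 : ∀ y ∈ 𝔟 ^ n, algebraMap B R y = 0 := fun y hy => RingHom.mem_ker.1 (hn hy)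
      rw [map_mul]
      ext <;> simp [u1, h0 y hy, h0 z hz]⟩
  have hχ' : ∀ b, π (χ b) = u1 b := fun b => by
    have := congrArg e (AlgHom.congr_fun hχ b)
    rw [AlgHom.comp_apply, Ideal.Quotient.mkₐ_eq_mk] at this
    refine Eq.trans ?_ (this.trans (e.apply_symm_apply (u1 b)))
    exact (Ideal.quotientKerAlgEquivOfSurjective_apply (f := π.restrictScalars A) hπ (χ b)).symm
  have hf1 : ∀ b, (χ b).fst = algebraMap B R b := fun b => by
    simpa [π, u1] using congrArg TrivSqZeroExt.fst (hχ' b)
  let Dl : B →ₗ[A] P :=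
    { toFun := fun b => (χ b).snd
      map_add' := by simp
      map_smul' := fun a b => by simp }
  let D' : Derivation A B P := Derivation.mk' Dl fun a b => by
    rw [← IsScalarTower.algebraMap_smul R a (Dl b), ← IsScalarTower.algebraMap_smul R b (Dl a)]
    show (χ (a * b)).snd = algebraMap B R a • (χ b).snd + algebraMap B R b • (χ a).snd
    rw [map_mul, TrivSqZeroExt.snd_mul, hf1, hf1, op_smul_eq_smul]
  refine ⟨D', fun b => ?_⟩
  simpa [π, u1, D', Dl] using congrArg TrivSqZeroExt.snd (hχ' b)

end Groth.Agent.H2DerLift
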