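import Mathlib
import Groth.Prelude.Def_Wider
import Groth.Prelude.Def_Found
import Groth.Agent.Lib.H2CompDepth
set_option autoImplicit false

/-! Catenary local rings with depth two in height two are equidimensional. -/
namespace Groth.Agent.H2Equidim
open CategoryTheory AlgebraicGeometry Order
set_option backward.isDefEq.respectTransparency.types false
universe u
variable {A : Type u} [CommRing A]

theorem ringKrullDim_quotient_eq (q : PrimeSpectrum A) :
    ringKrullDim (A ⧸ q.asIdeal) = ((coheight q : ℕ∞) : WithBot ℕ∞) := by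
  rw [coheight_eq_krullDim_Ici, ringKrullDim_quotient]
  refine Order.krullDim_eq_of_orderIso (OrderIso.setCongr _ _ ?_)
  ext x; rfl

variable [IsLocalRing A] [IsNoetherianRing A]

theorem coheight_lt_top (q : PrimeSpectrum A) : coheight q < ⊤ := by
  have h1 : ((coheight q : ℕ∞) : WithBot ℕ∞) ≤ ringKrullDim A := coheight_le_krullDim q
  have h2 : ringKrullDim A < ⊤ := ringKrullDim_lt_top
  exact WithBot.coe_lt_coe.1 (h1.trans_lt h2)

/-- a saturated chain from `q` to the closed point of length the coheight of `q`. -/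
theorem exists_saturated (q : PrimeSpectrum A) :
    ∃ s : LTSeries (PrimeSpectrum A), s.head = q ∧ s.last = IsLocalRing.closedPoint A ∧
      (s.length : ℕ∞) = coheight q ∧ ∀ i : Fin s.length, s (Fin.castSucc i) ⋖ s (Fin.succ i) := by
  obtain ⟨n, hn⟩ := WithTop.ne_top_iff_exists.1 (coheight_lt_top q).ne
  obtain ⟨s, hs, hl⟩ := exists_series_of_coheight_eq_coe q hn.symm
  have hmax : ∀ t : LTSeries (PrimeSpectrum A), t.head = q → t.length ≤ s.length := fun t ht => by
    have h1 : (t.length : ℕ∞) ≤ (s.length : ℕ∞) := by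
      rw [hl]; exact (length_le_coheight_head).trans (le_of_eq (ht ▸ hn.symm))
    exact_mod_cast h1
  refine ⟨s, hs, ?_, by rw [hl]; exact hn, fun i => ⟨s.step i, fun c h1 h2 => ?_⟩⟩
  · by_contra hne
    have hlt : s.last < IsLocalRing.closedPoint A := lt_of_le_of_ne (IsLocalRing.le_maximalIdeal s.last.2.ne_top) hne
    have := hmax (s.snoc _ hlt) (by rw [RelSeries.head_snoc, hs])
    simp at this
  · have := hmax (s.insertNth i c h1 h2) (by
      rw [← hs]; simp only [RelSeries.head, RelSeries.insertNth, Fin.insertNth, Fin.succAboveCases]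
      split_ifs with u v <;> first | rfl | exact absurd (congrArg Fin.val u) (by simp) | simp [Fin.lt_def] at *)
    simp [RelSeries.insertNth] at this

theorem coheight_covBy (hc : CAlg.IsCatenary A) {q P : PrimeSpectrum A} (h : q ⋖ P) :
    coheight q = coheight P + 1 := by
  obtain ⟨s, hs, hsl, hsn, hss⟩ := exists_saturated q
  obtain ⟨t, ht, htl, htn, hts⟩ := exists_saturated P
  let t' : LTSeries (PrimeSpectrum A) := t.cons q (ht ▸ h.1)
  have ht' : ∀ i : Fin t'.length, t' (Fin.castSucc i) ⋖ t' (Fin.succ i) := by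
    have hget : ∀ j : Fin (t.length + 1), t'.toFun ⟨j.1 + 1, by simp [t']; omega⟩ = t j := fun j => by
      simp [t', RelSeries.cons, RelSeries.append, Fin.append, Fin.addCases]
    intro i
    rcases i with ⟨_ | j, hj⟩
    · have h0 : t' (Fin.succ ⟨0, hj⟩) = P := (hget 0).trans ht
      rw [h0]; exact h
    · have hj' : j < t.length := by simpa [t'] using hj
      have e1 : t' (Fin.castSucc ⟨j + 1, hj⟩) = t (Fin.castSucc ⟨j, hj'⟩) := hget ⟨j, by omega⟩
      have e2 : t' (Fin.succ ⟨j + 1, hj⟩) = t (Fin.succ ⟨j, hj'⟩) := hget ⟨j + 1, by omega⟩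
      rw [e1, e2]; exact hts _
  have hlen := hc.2 s t' (hs.trans (RelSeries.head_cons _ _ _).symm)
    (hsl.trans (by rw [RelSeries.last_cons]; exact htl.symm)) hss ht'
  rw [← hsn, ← htn, hlen]
  simp [t']

theorem depth_of_ringEquiv {L S : Type u} [CommRing L] [IsLocalRing L] [IsNoetherianRing L] [CommRing S] [IsLocalRing S]
    (e : L ≃+* S) (h : (2 : ℕ∞) ≤ LocCoh.depth L L) : (2 : ℕ∞) ≤ LocCoh.depth S S := by
  have hne : IsLocalRing.maximalIdeal L • (⊤ : Submodule L L) ≠ ⊤ := by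
    rw [Ideal.smul_eq_mul, Ideal.mul_top]
    exact (IsLocalRing.maximalIdeal.isMaximal L).ne_top
  obtain ⟨rs, hlen, hreg, hmem⟩ := (H2Depth.hasReg_iff_le_idealDepth hne (k := 2)).2 h
  obtain ⟨a, b, rfl⟩ := List.length_eq_two.1 hlen
  haveI : IsNoetherianRing S := isNoetherianRing_of_ringEquiv L e
  refine H2Depth.le_idealDepth (k := 2) ⟨[e a, e b], rfl, ?_, ?_⟩
  · exact (AddEquiv.isWeaklyRegular_congr (e := e.toAddEquiv)
      (List.Forall₂.cons (fun _ => map_mul e _ _) (List.Forall₂.cons (fun _ => map_mul e _ _) List.Forall₂.nil))).1 hreg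
  · intro r hr
    simp only [List.mem_cons, List.not_mem_nil, or_false] at hr
    rcases hr with rfl | rfl
    · simpa using hmem a (by simp)
    · simpa using hmem b (by simp)

theorem hasReg_stalk (x : PrimeSpectrum A)
    (h : (2 : ℕ∞) ≤ LocCoh.depth (Localization.AtPrime x.asIdeal) (Localization.AtPrime x.asIdeal)) :
    (2 : ℕ∞) ≤ LocCoh.depth ((Spec (CommRingCat.of A)).presheaf.stalk x) ((Spec (CommRingCat.of A)).presheaf.stalk x) :=
  depth_of_ringEquiv (L := Localization.AtPrime x.asIdeal) (S := (Spec (CommRingCat.of A)).presheaf.stalk x)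
    (StructureSheaf.stalkIso A x).toRingEquiv h

theorem eq_ringKrullDim (hc : CAlg.IsCatenary A)
    (h : ∀ p : PrimeSpectrum A, (2 : ℕ∞) ≤ p.asIdeal.height →
      (2 : ℕ∞) ≤ LocCoh.depth (Localization.AtPrime p.asIdeal) (Localization.AtPrime p.asIdeal))
    (p : Ideal A) (hp : p ∈ minimalPrimes A) : ringKrullDim (A ⧸ p) = ringKrullDim A := by
  haveI := hp.isPrime
  let p' : PrimeSpectrum A := ⟨p, inferInstance⟩
  let k := coheight p'
  let M : Set (PrimeSpectrum A) := {q | q.asIdeal ∈ minimalPrimes A}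
  have hM : M.Finite := (minimalPrimes.finite_of_isNoetherianRing A).preimage (fun a _ b _ hab => PrimeSpectrum.ext hab)
  by_cases hall : ∀ q ∈ M, coheight q = k
  · refine le_antisymm (ringKrullDim_quotient_le p) ?_
    rw [ringKrullDim_quotient_eq p', ringKrullDim, Order.krullDim_eq_iSup_coheight]
    refine iSup_le fun x => ?_
    obtain ⟨q, hq, hqx⟩ := Ideal.exists_minimalPrimes_le (I := (⊥ : Ideal A)) (J := x.asIdeal) bot_le
    haveI := hq.isPrime
    refine WithBot.coe_le_coe.2 ?_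
    exact (coheight_anti (show (⟨q, inferInstance⟩ : PrimeSpectrum A) ≤ x from hqx)).trans
      (le_of_eq (hall ⟨q, inferInstance⟩ hq))
  exfalso
  push Not at hall
  obtain ⟨q₀, hq₀, hk⟩ := hall
  let Z : Bool → Set (PrimeSpectrum A) := fun b =>
    ⋃ q ∈ {q ∈ M | cond b (coheight q = k) (coheight q ≠ k)}, PrimeSpectrum.zeroLocus (q.asIdeal : Set A)
  have hZ : ∀ b, IsClosed (Z b) := fun b =>
    (hM.subset fun q hq => hq.1).isClosed_biUnion fun q _ => PrimeSpectrum.isClosed_zeroLocus _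
  have hcov : Z true ∪ Z false = Set.univ := Set.eq_univ_of_forall fun x => by
    obtain ⟨q, hq, hqx⟩ := Ideal.exists_minimalPrimes_le (I := (⊥ : Ideal A)) (J := x.asIdeal) bot_le
    haveI := hq.isPrime
    rw [Set.mem_union, Set.mem_iUnion₂, Set.mem_iUnion₂]
    by_cases hqk : coheight (⟨q, inferInstance⟩ : PrimeSpectrum A) = k
    · exact Or.inl ⟨⟨q, inferInstance⟩, ⟨hq, hqk⟩, hqx⟩
    · exact Or.inr ⟨⟨q, inferInstance⟩, ⟨hq, hqk⟩, hqx⟩
  have key : ∀ x, x ∈ Z true → x ∈ Z false → (2 : ℕ∞) ≤ x.asIdeal.height := by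
    intro x h1 h2
    obtain ⟨q₁, ⟨hq₁, hk₁⟩, hx₁⟩ := Set.mem_iUnion₂.1 h1
    obtain ⟨q₂, ⟨hq₂, hk₂⟩, hx₂⟩ := Set.mem_iUnion₂.1 h2
    by_contra hlt
    push Not at hlt
    have hcb : ∀ q : PrimeSpectrum A, q ∈ M → q ≤ x → coheight q = coheight x ∨ coheight q = coheight x + 1 := by
      intro q _ hqx
      rcases eq_or_lt_of_le hqx with rfl | hqx
      · exact Or.inl rfl
      · refine Or.inr (coheight_covBy hc ⟨hqx, fun c hc1 hc2 => ?_⟩)
        have a1 := Ideal.height_strict_mono_of_isPrime (I := q.asIdeal) (J := c.asIdeal) hc1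
        have a2 := Ideal.height_strict_mono_of_isPrime (I := c.asIdeal) (J := x.asIdeal) hc2
        have b1 : (1 : ℕ∞) ≤ c.asIdeal.height := Order.one_le_iff_pos.2 (pos_of_gt a1)
        have b2 : (2 : ℕ∞) ≤ x.asIdeal.height := by
          have := Order.add_one_le_of_lt a2
          exact le_trans (by rw [show (2 : ℕ∞) = 1 + 1 from rfl]; gcongr) this
        exact absurd b2 (not_le.2 hlt)
    have hne : q₁ ≠ q₂ := fun e => hk₂ (e ▸ hk₁)
    have hlt₁ : q₁ < x := lt_of_le_of_ne hx₁ fun e => hne (e.trans (le_antisymm (e ▸ hq₁.2 ⟨q₂.2, bot_le⟩ (e ▸ hx₂)) hx₂))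
    have hlt₂ : q₂ < x := lt_of_le_of_ne hx₂ fun e => hne ((le_antisymm hx₁ (e ▸ hq₂.2 ⟨q₁.2, bot_le⟩ (e ▸ hx₁))).trans e.symm)
    have e₁ : coheight q₁ = coheight x + 1 := (hcb q₁ hq₁ hx₁).resolve_left fun e =>
      (coheight_strictAnti hlt₁ (coheight_lt_top x)).ne' e
    have e₂ : coheight q₂ = coheight x + 1 := (hcb q₂ hq₂ hx₂).resolve_left fun e =>
      (coheight_strictAnti hlt₂ (coheight_lt_top x)).ne' e
    exact hk₂ (e₂.trans (e₁.symm.trans hk₁))
  let X := Spec (CommRingCat.of A)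
  let V₁ : X.Opens := ⟨(Z false)ᶜ, (hZ false).isOpen_compl⟩
  let V₂ : X.Opens := ⟨(Z true)ᶜ, (hZ true).isOpen_compl⟩
  have hd : Disjoint V₁ V₂ := by
    rw [disjoint_iff_inf_le]
    rintro x ⟨hx1, hx2⟩
    exact ((hcov ▸ Set.mem_univ x : x ∈ Z true ∪ Z false)).elim (fun h => hx2 h) fun h => hx1 h
  have hdeep : H2CompDepth.Deep X (V₁ ⊔ V₂) := by
    intro x hx
    have hx' : x ∈ Z true ∧ x ∈ Z false := by
      constructor <;> by_contra h' <;> [exact hx (Or.inr h'); exact hx (Or.inl h')]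
    exact hasReg_stalk x (h x (key x hx'.1 hx'.2))
  haveI : IsNoetherianRing (CommRingCat.of A) := ‹IsNoetherianRing A›
  have hdis := hdeep.disjoint_closure V₁ V₂ hd rfl
  have hcl : ∀ (q : PrimeSpectrum A) (V : X.Opens), (q : X) ∈ V → (IsLocalRing.closedPoint A : X) ∈ closure (V : Set X) := by
    intro q V hqV
    refine closure_mono (Set.singleton_subset_iff.2 hqV) ?_
    rw [← specializes_iff_mem_closure]
    exact (PrimeSpectrum.le_iff_specializes q _).1 (IsLocalRing.le_maximalIdeal q.2.ne_top)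
  have hnot : ∀ q ∈ M, ∀ b, ¬ cond b (coheight q = k) (coheight q ≠ k) → q ∉ Z b := by
    intro q hq b hb hqb
    obtain ⟨r, ⟨hr, hr'⟩, hrq⟩ := Set.mem_iUnion₂.1 hqb
    exact hb ((PrimeSpectrum.ext (le_antisymm hrq (hq.2 ⟨r.2, bot_le⟩ hrq)) : r = q) ▸ hr')
  exact Set.disjoint_left.1 hdis (hcl p' V₁ (hnot p' hp false (fun h => h rfl))) (hcl q₀ V₂ (hnot q₀ hq₀ true hk))

end Groth.Agent.H2Equidim
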