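import Mathlib
import Groth.Prelude.Def_PBC
set_option autoImplicit false

/-! Flatness over algebras exhausted by étale algebras. -/
namespace Groth.Agent.H2EtaleCover
open TensorProduct CategoryTheory CategoryTheory.Limits
set_option maxHeartbeats 1000000
set_option synthInstance.maxHeartbeats 400000
set_option backward.isDefEq.respectTransparency.types false
universe u

/-- Every finite subset is contained in the image of an étale algebra. -/
def Covered (A T : Type u) [CommRing A] [CommRing T] [Algebra A T] : Prop :=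
  ∀ l : List T, ∃ (X : Type u) (_ : CommRing X) (_ : Algebra A X) (_ : Algebra.Etale A X) (f : X →ₐ[A] T),
    ∀ t ∈ l, ∃ x, f x = t

theorem flat_of_covered {A T M : Type u} [CommRing A] [CommRing T] [Algebra A T] [AddCommGroup M] [Module T M] [Module A M]
    [IsScalarTower A T M] [Module.Flat A M] (h : Covered A T) : Module.Flat T M := by
  rw [Module.Flat.iff_forall_isTrivialRelation]
  intro n g m hgm
  obtain ⟨X, _, _, _, f, hf⟩ := h (List.ofFn g)
  choose x hx using fun i => hf (g i) (List.mem_ofFn.2 ⟨i, rfl⟩)
  letI : Module X M := Module.compHom M (f : X →+* T)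
  haveI : IsScalarTower A X M := ⟨fun a y z => by
    show (f : X →+* T) (a • y) • z = a • ((f : X →+* T) y • z)
    rw [RingHom.coe_coe, map_smul, smul_assoc]⟩
  haveI : Module.Flat X M := Algebra.FormallyUnramified.flat_of_restrictScalars A X M
  obtain ⟨k, a, y, h1, h2⟩ := Module.Flat.iff_forall_isTrivialRelation.1 ‹Module.Flat X M› (f := x) (x := m) (by
    rw [← hgm]
    exact Finset.sum_congr rfl fun i _ => by show (f (x i)) • m i = _; rw [hx])
  refine ⟨k, fun i j => f (a i j), y, fun i => (h1 i).trans rfl, fun j => ?_⟩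
  have := congrArg f (h2 j)
  simpa [map_sum, hx] using this

theorem covered_baseChange {A T : Type u} [CommRing A] [CommRing T] [Algebra A T] (h : Covered A T)
    (A' : Type u) [CommRing A'] [Algebra A A'] : Covered A' (A' ⊗[A] T) := by
  intro l
  have key : ∀ z : A' ⊗[A] T, ∃ s : List T, ∀ (X : Type u) [CommRing X] [Algebra A X] (f : X →ₐ[A] T),
      (∀ t ∈ s, ∃ x, f x = t) → ∃ w, Algebra.TensorProduct.map (AlgHom.id A' A') f w = z := by
    intro z
    induction z using TensorProduct.induction_on with
    | zero => exact ⟨[], fun X _ _ f _ => ⟨0, map_zero _⟩⟩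
    | tmul a t =>
      exact ⟨[t], fun X _ _ f hf => by obtain ⟨x, rfl⟩ := hf t (by simp); exact ⟨a ⊗ₜ x, by simp⟩⟩
    | add a b ha hb =>
      obtain ⟨s, hs⟩ := ha
      obtain ⟨s', hs'⟩ := hb
      refine ⟨s ++ s', fun X _ _ f hf => ?_⟩
      obtain ⟨w, rfl⟩ := hs X f fun t ht => hf t (List.mem_append_left _ ht)
      obtain ⟨w', rfl⟩ := hs' X f fun t ht => hf t (List.mem_append_right _ ht)
      exact ⟨w + w', map_add _ _ _⟩
  choose s hs using key
  obtain ⟨X, _, _, _, f, hf⟩ := h (l.flatMap s)
  exact ⟨A' ⊗[A] X, inferInstance, inferInstance, inferInstance, Algebra.TensorProduct.map (AlgHom.id A' A') f,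
    fun z hz => hs z X f fun t ht => hf t (List.mem_flatMap.2 ⟨z, hz, ht⟩)⟩

theorem weaklyEtale {A T : Type u} [CommRing A] [CommRing T] [Algebra A T] [Module.Flat A T] (h : Covered A T) :
    Algebra.WeaklyEtale A T where
  flat_lmul' := by
    let μ := Algebra.TensorProduct.lmul' A (S := T)
    letI : Module (T ⊗[A] T) T := Module.compHom T μ.toRingHom
    haveI : IsScalarTower T (T ⊗[A] T) T := ⟨fun a y z => by
      show μ (a • y) • z = a • (μ y • z)
      rw [show μ (a • y) = a * μ y by
        induction y using TensorProduct.induction_on with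
        | zero => simp
        | tmul b c => simp [μ, TensorProduct.smul_tmul', mul_assoc]
        | add b c hb hc => simp [smul_add, hb, hc, mul_add]]
      exact mul_assoc _ _ _⟩
    haveI := flat_of_covered (M := T) (covered_baseChange h T)
    exact ‹Module.Flat (T ⊗[A] T) T›

theorem covered_of_isIndEtale {A T : Type u} [CommRing A] [CommRing T] [Algebra A T] (h : EtPBC.IsIndEtale A T) :
    Covered A T := by
  obtain ⟨J, _, _, D, c, hc, het, ⟨e⟩⟩ := h
  haveI : Nonempty J := IsFiltered.nonempty
  letI : Algebra A c.pt.right := c.pt.hom.hom.toAlgebra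
  let g : ∀ j, letI := (D.obj j).hom.hom.toAlgebra; (D.obj j).right →ₐ[A] T := fun j =>
    letI := (D.obj j).hom.hom.toAlgebra
    { (e.hom.right.hom).comp (c.ι.app j).right.hom with
      commutes' := fun a => by
        have := RingHom.congr_fun (congrArg CommRingCat.Hom.hom (Under.w (c.ι.app j ≫ e.hom))) a
        exact this }
  have hw : ∀ {i j} (φ : i ⟶ j) (x : (D.obj i).right), g j ((D.map φ).right.hom x) = g i x := fun {i j} φ x =>
    congrArg e.hom.right.hom (RingHom.congr_fun (congrArg CommRingCat.Hom.hom (congrArg CommaMorphism.right (c.w φ))) x)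
  let S : Subalgebra A T :=
    { carrier := {t | ∃ j x, g j x = t}
      one_mem' := ⟨Classical.arbitrary J, 1, map_one _⟩
      zero_mem' := ⟨Classical.arbitrary J, 0, map_zero _⟩
      mul_mem' := fun {a b} ha hb => by
        obtain ⟨i, x, rfl⟩ := ha
        obtain ⟨j, y, rfl⟩ := hb
        exact ⟨IsFiltered.max i j, (D.map (IsFiltered.leftToMax i j)).right.hom x * (D.map (IsFiltered.rightToMax i j)).right.hom y,
          by rw [map_mul, hw, hw]⟩
      add_mem' := fun {a b} ha hb => by
        obtain ⟨i, x, rfl⟩ := ha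
        obtain ⟨j, y, rfl⟩ := hb
        exact ⟨IsFiltered.max i j, (D.map (IsFiltered.leftToMax i j)).right.hom x + (D.map (IsFiltered.rightToMax i j)).right.hom y,
          by rw [map_add, hw, hw]⟩
      algebraMap_mem' := fun a => by
        letI := (D.obj (Classical.arbitrary J)).hom.hom.toAlgebra
        exact ⟨Classical.arbitrary J, algebraMap A (D.obj (Classical.arbitrary J)).right a, (g _).commutes a⟩ }
  let s : Cocone D :=
    { pt := Under.mk (CommRingCat.ofHom (algebraMap A S))
      ι :=
        { app := fun j => Under.homMk (CommRingCat.ofHom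
            (letI := (D.obj j).hom.hom.toAlgebra; ((g j).codRestrict S fun x => ⟨j, x, rfl⟩).toRingHom))
            (CommRingCat.hom_ext (RingHom.ext fun a => Subtype.ext (by
              letI := (D.obj j).hom.hom.toAlgebra
              exact (g j).commutes a)))
          naturality := fun i j φ => by
            ext x
            exact Subtype.ext (hw φ x) } }
  let v : Under.mk (CommRingCat.ofHom (algebraMap A S)) ⟶ Under.mk (CommRingCat.ofHom (algebraMap A T)) :=
    Under.homMk (CommRingCat.ofHom S.val.toRingHom) (CommRingCat.hom_ext (RingHom.ext fun a => rfl))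
  have hv : hc.desc s ≫ v = e.hom := hc.hom_ext fun j => by
    rw [← Category.assoc, hc.fac]
    ext x
    rfl
  have hsurj : ∀ t : T, t ∈ S := fun t => by
    have h1 : v.right.hom ((hc.desc s).right.hom (e.inv.right.hom t)) = t := by
      have h2 := RingHom.congr_fun (congrArg CommRingCat.Hom.hom (congrArg CommaMorphism.right hv)) (e.inv.right.hom t)
      exact h2.trans (RingHom.congr_fun (congrArg CommRingCat.Hom.hom (congrArg CommaMorphism.right e.inv_hom_id)) t)
    rw [← h1]
    exact Subtype.mem _
  intro l
  induction l with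
  | nil =>
    let j := Classical.arbitrary J
    letI := (D.obj j).hom.hom.toAlgebra
    exact ⟨(D.obj j).right, inferInstance, inferInstance, het j, g j, by simp⟩
  | cons t l _ =>
    have key : ∀ m : List T, ∃ j, ∀ b ∈ m, ∃ x, g j x = b := by
      intro m
      induction m with
      | nil => exact ⟨Classical.arbitrary J, by simp⟩
      | cons b m ih =>
        obtain ⟨i, hi⟩ := ih
        obtain ⟨j, y, hy⟩ := hsurj b
        refine ⟨IsFiltered.max i j, fun c hc' => ?_⟩
        rcases List.mem_cons.1 hc' with rfl | hc'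
        · exact ⟨(D.map (IsFiltered.rightToMax i j)).right.hom y, (hw _ _).trans hy⟩
        · obtain ⟨x, rfl⟩ := hi c hc'
          exact ⟨(D.map (IsFiltered.leftToMax i j)).right.hom x, hw _ _⟩
    obtain ⟨j, hj⟩ := key (t :: l)
    letI := (D.obj j).hom.hom.toAlgebra
    exact ⟨(D.obj j).right, inferInstance, inferInstance, het j, g j, hj⟩

theorem flat_of_isIndEtale {A T : Type u} [CommRing A] [CommRing T] [Algebra A T] (h : EtPBC.IsIndEtale A T) :
    Module.Flat A T := by
  have hcov := covered_of_isIndEtale h
  obtain ⟨J, _, _, D, c, hc, het, ⟨e⟩⟩ := h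
  haveI : Nonempty J := IsFiltered.nonempty
  let hc' := isColimitOfPreserves (Under.forget (CommRingCat.of A)) hc
  let g : ∀ j, letI := (D.obj j).hom.hom.toAlgebra; (D.obj j).right →ₐ[A] T := fun j =>
    letI := (D.obj j).hom.hom.toAlgebra
    { (e.hom.right.hom).comp (c.ι.app j).right.hom with
      commutes' := fun a => by
        have := RingHom.congr_fun (congrArg CommRingCat.Hom.hom (Under.w (c.ι.app j ≫ e.hom))) a
        exact this }
  have hw : ∀ {i j} (φ : i ⟶ j) (x : (D.obj i).right), g j ((D.map φ).right.hom x) = g i x := fun {i j} φ x =>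
    congrArg e.hom.right.hom (RingHom.congr_fun (congrArg CommRingCat.Hom.hom (congrArg CommaMorphism.right (c.w φ))) x)
  have hinj : Function.Injective e.hom.right.hom := Function.LeftInverse.injective (g := e.inv.right.hom)
    (RingHom.congr_fun (congrArg CommRingCat.Hom.hom (congrArg CommaMorphism.right e.hom_inv_id)))
  have heq : ∀ {i} (x : (D.obj i).right), g i x = 0 → ∃ (j : J) (φ : i ⟶ j), (D.map φ).right.hom x = 0 := fun {i} x hx => by
    obtain ⟨j, φ, ψ, hφ⟩ := (Concrete.isColimit_rep_eq_iff_exists _ hc' x (0 : (D.obj i).right)).1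
      (hinj (hx.trans ((map_zero (g i)).symm)))
    exact ⟨j, φ, hφ.trans (map_zero _)⟩
  have hrep : ∀ m : List T, ∃ j, ∀ b ∈ m, ∃ x, g j x = b := by
    have hs : ∀ b : T, ∃ j x, g j x = b := fun b => by
      obtain ⟨j, x, hx⟩ := Concrete.isColimit_exists_rep _ hc' (e.inv.right.hom b)
      exact ⟨j, x, (congrArg e.hom.right.hom hx).trans
        (RingHom.congr_fun (congrArg CommRingCat.Hom.hom (congrArg CommaMorphism.right e.inv_hom_id)) b)⟩
    intro m
    induction m with
    | nil => exact ⟨Classical.arbitrary J, by simp⟩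
    | cons b m ih =>
      obtain ⟨i, hi⟩ := ih
      obtain ⟨j, y, hy⟩ := hs b
      refine ⟨IsFiltered.max i j, fun c hc'' => ?_⟩
      rcases List.mem_cons.1 hc'' with rfl | hc''
      · exact ⟨(D.map (IsFiltered.rightToMax i j)).right.hom y, (hw _ _).trans hy⟩
      · obtain ⟨x, rfl⟩ := hi c hc''
        exact ⟨(D.map (IsFiltered.leftToMax i j)).right.hom x, hw _ _⟩
  rw [Module.Flat.iff_forall_isTrivialRelation]
  intro n a t hat
  obtain ⟨i, hi⟩ := hrep (List.ofFn t)
  choose x hx using fun k => hi (t k) (List.mem_ofFn.2 ⟨k, rfl⟩)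
  letI := (D.obj i).hom.hom.toAlgebra
  obtain ⟨j, φ, hφ⟩ := heq (∑ k, a k • x k) (by simp only [map_sum, map_smul, hx]; exact hat)
  letI := (D.obj j).hom.hom.toAlgebra
  let F : (D.obj i).right →ₐ[A] (D.obj j).right :=
    { (D.map φ).right.hom with commutes' := fun r => RingHom.congr_fun (congrArg CommRingCat.Hom.hom (Under.w (D.map φ))) r }
  haveI : Algebra.Etale A (D.obj j).right := het j
  obtain ⟨m, b, y, h1, h2⟩ := Module.Flat.iff_forall_isTrivialRelation.1 (inferInstance : Module.Flat A (D.obj j).right)
    (f := a) (x := fun k => F (x k)) (by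
      refine Eq.trans ?_ hφ
      show _ = F (∑ k, a k • x k)
      simp only [map_sum, map_smul])
  refine ⟨m, b, fun l => g j (y l), fun k => ?_, h2⟩
  have := congrArg (g j) (h1 k)
  rw [map_sum] at this
  simp only [map_smul] at this
  rw [← this, show g j (F (x k)) = g i (x k) from hw φ (x k), hx]

end Groth.Agent.H2EtaleCover
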