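import Mathlib
import Groth.Prelude.Def_MoreMor

/-! `MoreMor.fibreIntegral` as a sum over geometric lifts, and its formal consequences. -/

universe u

open CategoryTheory Limits AlgebraicGeometry

namespace Groth.Agent.H2Weight

variable {U V : Scheme.{u}} (π : U ⟶ V) {K : Type u} [Field K]

theorem sigma_subtype_ext {α : Type*} {β : α → Type*} {P : α → Prop} {Q : ∀ a : {a // P a}, β a.1 → Prop}
    {s t : Σ a : {a // P a}, {b : β a.1 // Q a b}} (h : (⟨s.1.1, s.2.1⟩ : Σ a, β a) = ⟨t.1.1, t.2.1⟩) : s = t := by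
  obtain ⟨⟨a, _⟩, b, _⟩ := s
  obtain ⟨⟨a', _⟩, b', _⟩ := t
  cases h
  rfl

/-- lifts of a field valued point. -/
abbrev Lifts (ξ : Spec (CommRingCat.of K) ⟶ V) : Type u :=
  {p : Spec (CommRingCat.of K) ⟶ U // p ≫ π = ξ}

/-- the image point. -/
noncomputable abbrev pt {T : Scheme.{u}} (p : Spec (CommRingCat.of K) ⟶ T) : T := p (IsLocalRing.closedPoint K)

theorem exists_geomPoint (v : V) :
    ∃ (K : Type u) (_ : Field K) (_ : IsAlgClosed K) (ξ : Spec (CommRingCat.of K) ⟶ V), pt ξ = v :=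
  ⟨AlgebraicClosure (V.residueField v), inferInstance, inferInstance,
    Spec.map (CommRingCat.ofHom (algebraMap (V.residueField v) _)) ≫ V.fromSpecResidueField v,
    (Scheme.Hom.comp_apply _ _ _).trans (Scheme.fromSpecResidueField_apply _ _)⟩

theorem finite_residueField [LocallyQuasiFinite π] (u : U) :
    letI := (π.residueFieldMap u).hom.toAlgebra
    Module.Finite (V.residueField (π u)) (U.residueField u) := by
  algebraize [(π.residueFieldMap u).hom]
  haveI : LocallyQuasiFinite (Spec.map (π.residueFieldMap u) ≫ V.fromSpecResidueField (π u)) := by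
    rw [Scheme.Hom.SpecMap_residueFieldMap_fromSpecResidueField]; infer_instance
  have h := LocallyQuasiFinite.of_comp (Spec.map (π.residueFieldMap u)) (V.fromSpecResidueField (π u))
  haveI : Algebra.QuasiFinite (V.residueField (π u)) (U.residueField u) := HasRingHomProperty.Spec_iff.mp h
  exact Module.Finite.of_quasiFinite

/-- morphisms `Spec K ⟶ U` over `ξ` with image `u`. -/
theorem nonempty_lifts_equiv (ξ : Spec (CommRingCat.of K) ⟶ V) :
    ∃ j : V.residueField (pt ξ) ⟶ CommRingCat.of K,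
      Nonempty {e : Lifts π ξ ≃ Σ u : {u : U // π u = pt ξ},
        {m : U.residueField u.1 ⟶ CommRingCat.of K //
          π.residueFieldMap u.1 ≫ m = (V.residueFieldCongr u.2).hom ≫ j} // ∀ p, ((e p).1 : U) = pt p.1} := by
  refine ⟨V.descResidueField (Scheme.stalkClosedPointTo ξ), ⟨⟨
    { toFun := fun p => ⟨⟨pt p.1, (Scheme.Hom.comp_apply p.1 π _).symm.trans (congrArg pt p.2)⟩, ⟨U.descResidueField (Scheme.stalkClosedPointTo p.1), ?_⟩⟩
      invFun := fun s => ⟨Spec.map s.2.1 ≫ U.fromSpecResidueField s.1.1, ?_⟩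
      left_inv := fun p => Subtype.ext (Scheme.descResidueField_stalkClosedPointTo_fromSpecResidueField K U p.1)
      right_inv := ?_ }, fun p => rfl⟩⟩⟩
  · rw [← Spec.map_inj, Spec.map_comp, Spec.map_comp, ← cancel_mono (V.fromSpecResidueField _), Category.assoc,
      Category.assoc, Scheme.Hom.SpecMap_residueFieldMap_fromSpecResidueField,
      Scheme.residueFieldCongr_fromSpecResidueField, Scheme.descResidueField_stalkClosedPointTo_fromSpecResidueField K V ξ,
      ← Category.assoc, Scheme.descResidueField_stalkClosedPointTo_fromSpecResidueField K U p.1]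
    exact p.2
  · rw [Category.assoc, ← Scheme.Hom.SpecMap_residueFieldMap_fromSpecResidueField, ← Category.assoc, ← Spec.map_comp,
      s.2.2, Spec.map_comp, Category.assoc, Scheme.residueFieldCongr_fromSpecResidueField,
      Scheme.descResidueField_stalkClosedPointTo_fromSpecResidueField K V ξ]
  · intro s
    exact sigma_subtype_ext (α := U) (β := fun x => U.residueField x ⟶ CommRingCat.of K) (P := fun u => π u = pt ξ)
      (Q := fun u m => π.residueFieldMap u.1 ≫ m = (V.residueFieldCongr u.2).hom ≫ V.descResidueField (Scheme.stalkClosedPointTo ξ))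
      ((Scheme.SpecToEquivOfField K U).right_inv ⟨s.1.1, s.2.1⟩)

variable [LocallyQuasiFinite π] [IsAlgClosed K]

theorem card_embeddings (ξ : Spec (CommRingCat.of K) ⟶ V) (j : V.residueField (pt ξ) ⟶ CommRingCat.of K)
    (u : {u : U // π u = pt ξ}) :
    Nat.card {m : U.residueField u.1 ⟶ CommRingCat.of K // π.residueFieldMap u.1 ≫ m = (V.residueFieldCongr u.2).hom ≫ j} =
      (letI := (π.residueFieldMap u.1).hom.toAlgebra
       Field.finSepDegree (V.residueField (π u.1)) (U.residueField u.1)) ∧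
    Finite {m : U.residueField u.1 ⟶ CommRingCat.of K // π.residueFieldMap u.1 ≫ m = (V.residueFieldCongr u.2).hom ≫ j} := by
  letI := (π.residueFieldMap u.1).hom.toAlgebra
  letI : Algebra (V.residueField (π u.1)) K := ((V.residueFieldCongr u.2).hom ≫ j).hom.toAlgebra
  haveI : Module.Finite (V.residueField (π u.1)) (U.residueField u.1) := finite_residueField π u.1
  let e : {m : U.residueField u.1 ⟶ CommRingCat.of K // π.residueFieldMap u.1 ≫ m = (V.residueFieldCongr u.2).hom ≫ j} ≃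
      (U.residueField u.1 →ₐ[V.residueField (π u.1)] K) :=
    { toFun := fun m => { m.1.hom with commutes' := fun r => congrArg (fun t => t.hom r) m.2 }
      invFun := fun f => ⟨CommRingCat.ofHom f.toRingHom, CommRingCat.hom_ext (RingHom.ext f.commutes)⟩
      left_inv := fun m => rfl
      right_inv := fun f => rfl }
  exact ⟨(Nat.card_congr e).trans (Field.finSepDegree_eq_of_isAlgClosed _ _ K).symm, Finite.of_equiv _ e.symm⟩

theorem finite_lifts (ξ : Spec (CommRingCat.of K) ⟶ V) (hfin : (π ⁻¹' {pt ξ}).Finite) : Finite (Lifts π ξ) := by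
  obtain ⟨j, ⟨e, -⟩⟩ := nonempty_lifts_equiv π ξ
  haveI : Finite {u : U // π u = pt ξ} := hfin
  haveI := fun u => (card_embeddings π ξ j u).2
  exact Finite.of_equiv _ e.symm

theorem nonempty_lifts (ξ : Spec (CommRingCat.of K) ⟶ V) (u : U) (hu : π u = pt ξ) :
    ∃ p : Lifts π ξ, pt p.1 = u := by
  obtain ⟨j, ⟨e, he⟩⟩ := nonempty_lifts_equiv π ξ
  obtain ⟨h1, h2⟩ := card_embeddings π ξ j ⟨u, hu⟩
  letI := (π.residueFieldMap u).hom.toAlgebra
  haveI := finite_residueField π u
  have h3 : 0 < Field.finSepDegree (V.residueField (π u)) (U.residueField u) :=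
    Nat.pos_of_ne_zero (NeZero.ne _)
  obtain ⟨⟨m⟩⟩ := Nat.card_pos_iff.1 (h1 ▸ h3)
  exact ⟨e.symm ⟨⟨u, hu⟩, m⟩, (he _).symm.trans (by rw [e.apply_symm_apply])⟩

/-- the fibre integral as a sum over geometric lifts. -/
theorem fibreIntegral_eq (w : U → ℤ) (ξ : Spec (CommRingCat.of K) ⟶ V) (hfin : (π ⁻¹' {pt ξ}).Finite) :
    MoreMor.fibreIntegral π w (pt ξ) = ∑ᶠ p : Lifts π ξ, w (pt p.1) := by
  classical
  obtain ⟨j, ⟨e, he⟩⟩ := nonempty_lifts_equiv π ξ
  haveI : Finite {u : U // π u = pt ξ} := hfin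
  haveI := fun u => (card_embeddings π ξ j u).2
  letI := Fintype.ofFinite {u : U // π u = pt ξ}
  letI := fun u => Fintype.ofFinite {m : U.residueField (u : {u : U // π u = pt ξ}).1 ⟶ CommRingCat.of K //
          π.residueFieldMap u.1 ≫ m = (V.residueFieldCongr u.2).hom ≫ j}
  rw [finsum_eq_of_bijective (g := fun s => w (s : Σ u : {u : U // π u = pt ξ}, _).1.1) e e.bijective
    (fun p => (congrArg w (he p)).symm)]
  rw [MoreMor.fibreIntegral, finsum_eq_sum_of_fintype, finsum_eq_sum_of_fintype, Fintype.sum_sigma]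
  refine Finset.sum_congr rfl fun u _ => ?_
  show _ = ∑ _m, w u.1
  rw [Finset.sum_const, Finset.card_univ, ← Nat.card_eq_fintype_card, (card_embeddings π ξ j u).1, nsmul_eq_mul, mul_comm]

theorem finite_fibre_of_finite_lifts (ξ : Spec (CommRingCat.of K) ⟶ V) [Finite (Lifts π ξ)] :
    (π ⁻¹' {pt ξ}).Finite :=
  (Set.finite_range fun p : Lifts π ξ => pt p.1).subset fun u hu => nonempty_lifts π ξ u hu

omit [LocallyQuasiFinite π] [IsAlgClosed K] in
/-- lifts along a base change. -/
noncomputable def liftsPullback {U' V' : Scheme.{u}} {π' : U' ⟶ V'} {h : U' ⟶ U} {g : V' ⟶ V}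
    (hc : IsPullback h π' π g) (ξ : Spec (CommRingCat.of K) ⟶ V') : Lifts π' ξ ≃ Lifts π (ξ ≫ g) where
  toFun p := ⟨p.1 ≫ h, by rw [Category.assoc, hc.w, ← Category.assoc, p.2]⟩
  invFun q := ⟨hc.lift q.1 ξ q.2, hc.lift_snd _ _ _⟩
  left_inv p := Subtype.ext (hc.hom_ext (hc.lift_fst _ _ _) ((hc.lift_snd _ _ _).trans p.2.symm))
  right_inv q := Subtype.ext (hc.lift_fst _ _ _)

theorem finsum_liftsPullback {U' V' : Scheme.{u}} {π' : U' ⟶ V'} {h : U' ⟶ U} {g : V' ⟶ V}
    (hc : IsPullback h π' π g) (w : U → ℤ) (ξ : Spec (CommRingCat.of K) ⟶ V') :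
    ∑ᶠ p : Lifts π' ξ, w (h (pt p.1)) = ∑ᶠ q : Lifts π (ξ ≫ g), w (pt q.1) :=
  finsum_eq_of_bijective (liftsPullback π hc ξ) (liftsPullback π hc ξ).bijective fun _ => rfl

omit [IsAlgClosed K] in
/-- base change of the fibre integral, fibrewise finiteness only at the point. -/
theorem fibreIntegral_baseChange {U' V' : Scheme.{u}} {π' : U' ⟶ V'} {h : U' ⟶ U} {g : V' ⟶ V}
    (hc : IsPullback h π' π g) (w : U → ℤ) (v' : V') (hfin : (π ⁻¹' {g v'}).Finite) :
    MoreMor.fibreIntegral π' (w ∘ ⇑h) v' = MoreMor.fibreIntegral π w (g v') := by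
  haveI : LocallyQuasiFinite π' := MorphismProperty.of_isPullback (P := @LocallyQuasiFinite) hc ‹_›
  obtain ⟨L, _, _, ξ, rfl⟩ := exists_geomPoint v'
  have hpt : pt (ξ ≫ g) = g (pt ξ) := Scheme.Hom.comp_apply ξ g _
  rw [← hpt] at hfin ⊢
  haveI := finite_lifts π (ξ ≫ g) hfin
  haveI : Finite (Lifts π' ξ) := Finite.of_equiv _ (liftsPullback π hc ξ).symm
  rw [fibreIntegral_eq π w (ξ ≫ g) hfin, fibreIntegral_eq π' (w ∘ ⇑h) ξ (finite_fibre_of_finite_lifts π' ξ)]
  exact finsum_liftsPullback π hc w ξ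

end Groth.Agent.H2Weight
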