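import Mathlib

/-! Etale neighbourhoods of a geometric point splitting a finite algebra into pieces with one geometric point. -/

universe u

open Polynomial TensorProduct
open scoped IntermediateField

namespace Groth.Agent.H2EtaleSplit

variable (A : Type u) [CommRing A] (K : Type u) [Field K] [Algebra A K]

/-- fraction field of the image. -/
noncomputable def imField : Subfield K := Subfield.closure (Set.range (algebraMap A K))

theorem mem_imField_iff {x : K} :
    x ∈ imField A K ↔ ∃ a s : A, algebraMap A K a / algebraMap A K s = x := by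
  rw [imField, Subfield.mem_closure_iff]
  have h : Subring.closure (Set.range (algebraMap A K)) = (algebraMap A K).range := by
    rw [← RingHom.coe_range, Subring.closure_eq]
  constructor
  · rintro ⟨y, hy, z, hz, rfl⟩
    rw [h] at hy hz
    obtain ⟨a, rfl⟩ := hy; obtain ⟨s, rfl⟩ := hz
    exact ⟨a, s, rfl⟩
  · rintro ⟨a, s, rfl⟩
    exact ⟨_, Subring.subset_closure ⟨a, rfl⟩, _, Subring.subset_closure ⟨s, rfl⟩, rfl⟩

theorem algebraMap_mem (a : A) : algebraMap A K a ∈ imField A K := Subfield.subset_closure ⟨a, rfl⟩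

/-- `A → imField`. -/
noncomputable def toIm : A →+* imField A K := (algebraMap A K).codRestrict _ (algebraMap_mem A K)

theorem isIntegral_imField {x : K} (hx : IsIntegral A x) : IsIntegral (imField A K) x := by
  obtain ⟨p, hp, hp0⟩ := hx
  refine ⟨p.map (toIm A K), hp.map _, ?_⟩
  rw [eval₂_map]
  exact hp0

theorem exists_injective_pow_isSeparable {x : K} (hx : IsIntegral (imField A K) x) :
    ∃ N : ℕ, (Function.Injective fun y : K => y ^ N) ∧ IsSeparable (imField A K) (x ^ N) := by
  set F := imField A K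
  let E := IntermediateField.adjoin F {x}
  haveI : FiniteDimensional F E := IntermediateField.adjoin.finiteDimensional hx
  haveI := separableClosure.isPurelyInseparable F E
  obtain ⟨q, hq⟩ := ExpChar.exists (separableClosure F E)
  haveI := hq
  haveI : ExpChar K q := expChar_of_injective_ringHom (RingHom.injective (algebraMap (separableClosure F E) K)) q
  obtain ⟨n, y, hy⟩ := IsPurelyInseparable.pow_mem (separableClosure F E) q
    (⟨x, IntermediateField.mem_adjoin_simple_self F x⟩ : E)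
  refine ⟨q ^ n, iterateFrobenius_inj K q n, ?_⟩
  have h1 : IsSeparable F (y : E) := mem_separableClosure_iff.1 y.2
  have h2 := h1.map (f := E.val) E.val.injective
  rwa [show E.val (y : E) = x ^ q ^ n from congrArg Subtype.val hy] at h2

theorem exists_scaled_monic {θ : K} (hθ : IsSeparable (imField A K) θ) :
    ∃ (s : A) (g : A[X]), algebraMap A K s ≠ 0 ∧ g.Monic ∧ aeval (algebraMap A K s * θ) g = 0 ∧
      aeval (algebraMap A K s * θ) (derivative g) ≠ 0 := by
  classical
  set F := imField A K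
  set m := minpoly F θ
  have hm : m.Monic := minpoly.monic hθ.isIntegral
  choose a t hat using fun i => (mem_imField_iff A K).1 (m.coeff i).2
  -- denominators, replacing zero ones by one
  let t' : ℕ → A := fun i => if algebraMap A K (t i) = 0 then 1 else t i
  let s : A := ∏ i ∈ Finset.range (m.natDegree + 1), t' i
  have ht' : ∀ i, algebraMap A K (t' i) ≠ 0 := fun i => by
    by_cases h : algebraMap A K (t i) = 0 <;> simp [t', h]
  have hs : algebraMap A K s ≠ 0 := by
    rw [map_prod]; exact Finset.prod_ne_zero_iff.2 fun i _ => ht' i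
  let m' : F[X] := scaleRoots m (toIm A K s)
  have hdeg : m'.natDegree = m.natDegree := natDegree_scaleRoots _ _
  have hmem : ∀ i, ∃ b, toIm A K b = m'.coeff i := by
    intro i
    rcases lt_trichotomy i m.natDegree with h | h | h
    · obtain ⟨k, hk⟩ : ∃ k, m.natDegree - i = k + 1 := ⟨m.natDegree - i - 1, by omega⟩
      obtain ⟨c, hc⟩ : t' i ∣ s := Finset.dvd_prod_of_mem _ (Finset.mem_range.2 (by omega))
      refine ⟨(if algebraMap A K (t i) = 0 then 0 else a i) * c * s ^ k, Subtype.ext ?_⟩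
      rw [coeff_scaleRoots, hk, pow_succ']
      show algebraMap A K _ = (m.coeff i : K) * (algebraMap A K s * algebraMap A K s ^ k)
      rw [map_mul, map_mul, map_pow, ← hat i, hc, map_mul]
      by_cases h0 : algebraMap A K (t i) = 0
      · simp [h0]
      · simp only [t', h0, if_false]
        field_simp
    · exact ⟨1, by rw [map_one, h, coeff_scaleRoots_natDegree, hm.leadingCoeff]⟩
    · exact ⟨0, by rw [map_zero, coeff_eq_zero_of_natDegree_lt (hdeg ▸ h)]⟩
  have hlift : m' ∈ lifts (toIm A K) := (lifts_iff_coeff_lifts _).2 fun i => hmem i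
  obtain ⟨g, hg, -, hgm⟩ := lifts_and_degree_eq_and_monic hlift ((monic_scaleRoots_iff _).2 hm)
  have hev : ∀ p : A[X], aeval (algebraMap A K s * θ) p = aeval (algebraMap A K s * θ) (p.map (toIm A K)) := fun p => by
    rw [aeval_def, aeval_def, eval₂_map]; rfl
  refine ⟨s, g, hs, hgm, ?_, ?_⟩
  · rw [hev, hg]
    exact scaleRoots_aeval_eq_zero (A := K) (r := toIm A K s) (minpoly.aeval F θ)
  · rw [hev, ← derivative_map, hg]
    have hsep : IsSeparable F (algebraMap A K s * θ) :=
      Field.isSeparable_mul (isSeparable_algebraMap (toIm A K s)) hθ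
    intro h0
    obtain ⟨r, hr⟩ := minpoly.dvd F (algebraMap A K s * θ)
      (scaleRoots_aeval_eq_zero (A := K) (r := toIm A K s) (minpoly.aeval F θ))
    have hfd : (minpoly F (algebraMap A K s * θ)).natDegree = m.natDegree := by
      have hs' : (toIm A K s : F) ≠ 0 := fun h => hs (congrArg Subtype.val h)
      have h1 : IntermediateField.adjoin F {algebraMap A K s * θ} = IntermediateField.adjoin F {θ} := by
        refine le_antisymm (IntermediateField.adjoin_simple_le_iff.2 (mul_mem ?_ (IntermediateField.mem_adjoin_simple_self F θ)))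
          (IntermediateField.adjoin_simple_le_iff.2 ?_)
        · exact IntermediateField.algebraMap_mem _ (toIm A K s)
        · have := mul_mem (IntermediateField.algebraMap_mem (IntermediateField.adjoin F {algebraMap A K s * θ}) (toIm A K s)⁻¹)
            (IntermediateField.mem_adjoin_simple_self F (algebraMap A K s * θ))
          rwa [map_inv₀, show algebraMap F K (toIm A K s) = algebraMap A K s from rfl, inv_mul_cancel_left₀ hs] at this
      rw [← IntermediateField.adjoin.finrank hθ.isIntegral, ← h1, IntermediateField.adjoin.finrank hsep.isIntegral]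
    have hmm : m' = minpoly F (algebraMap A K s * θ) :=
      eq_of_monic_of_dvd_of_natDegree_le (minpoly.monic hsep.isIntegral) ((monic_scaleRoots_iff _).2 hm) ⟨r, hr⟩
        (by rw [hdeg, hfd])
    exact hsep.aeval_derivative_ne_zero (minpoly.aeval _ _) (hmm ▸ h0)

/-- an etale algebra with a `K`-point whose image field contains a given separable element. -/
theorem exists_etale_mem {θ : K} (hθ : IsSeparable (imField A K) θ) :
    ∃ (A' : Type u) (_ : CommRing A') (_ : Algebra A A') (_ : Algebra.Etale A A') (ψ : A' →ₐ[A] K),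
      θ ∈ Subfield.closure (Set.range ψ) := by
  obtain ⟨s, g, hs, hgm, hg0, hg1⟩ := exists_scaled_monic A K hθ
  let P : StandardEtalePair A := ⟨g, hgm, derivative g, 1, 0, 1, by ring⟩
  have hmap : P.HasMap (algebraMap A K s * θ) := ⟨hg0, isUnit_iff_ne_zero.mpr hg1⟩
  refine ⟨P.Ring, inferInstance, inferInstance, inferInstance, P.lift _ hmap, ?_⟩
  have h1 : algebraMap A K s * θ ∈ Subfield.closure (Set.range (P.lift _ hmap)) :=
    Subfield.subset_closure ⟨P.X, P.lift_X _ hmap⟩
  have h2 : algebraMap A K s ∈ Subfield.closure (Set.range (P.lift _ hmap)) :=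
    Subfield.subset_closure ⟨algebraMap A P.Ring s, AlgHom.commutes _ _⟩
  simpa [inv_mul_cancel_left₀ hs] using mul_mem (inv_mem h2) h1

variable {A K}

/-- After an etale neighbourhood, a `K`-point of a finite algebra is determined by its kernel. -/
theorem exists_etale_insep {B : Type u} [CommRing B] [Algebra A B] [Module.Finite A B] (φ : B →ₐ[A] K) :
    ∃ (A' : Type u) (_ : CommRing A') (_ : Algebra A A') (_ : Algebra.Etale A A') (ψ : A' →ₐ[A] K),
      ∀ φ' χ' : A' ⊗[A] B →+* K, (∀ a, φ' (a ⊗ₜ[A] 1) = ψ a) → (∀ a, χ' (a ⊗ₜ[A] 1) = ψ a) →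
        (∀ b, φ' (1 ⊗ₜ[A] b) = φ b) → RingHom.ker φ' = RingHom.ker χ' → φ' = χ' := by
  classical
  set F := imField A K
  obtain ⟨S, hS⟩ := Module.Finite.fg_top (R := A) (M := B)
  choose N hN hsep using fun b : B => exists_injective_pow_isSeparable A K
    (isIntegral_imField A K ((Algebra.IsIntegral.isIntegral (R := A) b).map φ))
  let C : Finset K := S.image fun b => φ b ^ N b
  have hC : ∀ c ∈ C, IsSeparable F c := fun c hc => by
    obtain ⟨b, -, rfl⟩ := Finset.mem_image.1 hc; exact hsep b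
  let L := IntermediateField.adjoin F (C : Set K)
  haveI : FiniteDimensional F L := IntermediateField.finiteDimensional_adjoin fun c hc => (hC c hc).isIntegral
  haveI : Algebra.IsSeparable F L := (IntermediateField.isSeparable_adjoin_iff_isSeparable F K).2 hC
  obtain ⟨θ, hθ⟩ := Field.exists_primitive_element F L
  have hθsep : IsSeparable F (θ : K) := (Algebra.IsSeparable.isSeparable F θ).map (f := L.val) L.val.injective
  obtain ⟨A', _, _, hA', ψ, hψ⟩ := exists_etale_mem A K hθsep
  refine ⟨A', inferInstance, inferInstance, hA', ψ, fun φ' χ' hφ' hχ' hφ hker => ?_⟩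
  have hF : F ≤ Subfield.closure (Set.range ψ) := Subfield.closure_le.2 (by
    rintro _ ⟨a, rfl⟩; exact Subfield.subset_closure ⟨algebraMap A A' a, AlgHom.commutes _ _⟩)
  have hL : ∀ c ∈ C, c ∈ Subfield.closure (Set.range ψ) := by
    intro c hc
    let M : IntermediateField F K :=
      { Subfield.closure (Set.range ψ) with algebraMap_mem' := fun r => hF r.2 }
    have h1 : L ≤ M := by
      have h2 : IntermediateField.adjoin F {(θ : K)} = L := by
        have := congrArg IntermediateField.lift hθ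
        rwa [IntermediateField.lift_top, IntermediateField.lift_adjoin_simple] at this
      rw [← h2, IntermediateField.adjoin_simple_le_iff]
      exact hψ
    exact h1 (IntermediateField.subset_adjoin F _ hc)
  have hz : ∀ z, φ' z = 0 ↔ χ' z = 0 := fun z => by
    rw [← RingHom.mem_ker, hker, RingHom.mem_ker]
  have key : ∀ b ∈ S, χ' (1 ⊗ₜ[A] b) = φ' (1 ⊗ₜ[A] b) := by
    intro b hb
    obtain ⟨y, hy, z, hz', hyz⟩ := Subfield.mem_closure_iff.1 (hL _ (Finset.mem_image_of_mem _ hb))
    have hrng : Subring.closure (Set.range ψ) = ψ.toRingHom.range := by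
      rw [show Set.range ψ = (ψ.toRingHom.range : Set K) from (RingHom.coe_range _).symm, Subring.closure_eq]
    rw [hrng] at hy hz'
    obtain ⟨a, rfl⟩ := hy; obtain ⟨t, rfl⟩ := hz'
    apply hN b
    show χ' (1 ⊗ₜ[A] b) ^ N b = φ' (1 ⊗ₜ[A] b) ^ N b
    by_cases ht : ψ t = 0
    · have h1 : φ (b) ^ N b = 0 := by rw [← hyz, show ψ.toRingHom t = 0 from ht, div_zero]
      have h2 := (hz ((1 ⊗ₜ[A] b) ^ N b)).1 (by rw [map_pow, hφ]; exact h1)
      rw [map_pow] at h2
      rw [h2, hφ, h1]
    · have h1 : φ b ^ N b * ψ t = ψ a := by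
        rw [← hyz]; exact div_mul_cancel₀ _ ht
      have h2 := (hz ((t ⊗ₜ[A] 1) * (1 ⊗ₜ[A] b) ^ N b - a ⊗ₜ[A] 1)).1 (by
        rw [map_sub, map_mul, map_pow, hφ', hφ', hφ, mul_comm, h1, sub_self])
      rw [map_sub, map_mul, map_pow, hχ', hχ', sub_eq_zero] at h2
      rw [hφ]
      exact mul_left_cancel₀ ht (h2.trans (by rw [mul_comm, h1]))
  have key' : ∀ b, χ' (1 ⊗ₜ[A] b) = φ' (1 ⊗ₜ[A] b) := by
    intro b
    have hb : b ∈ Submodule.span A (S : Set B) := by rw [hS]; trivial
    induction hb using Submodule.span_induction with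
    | mem x hx => exact key x hx
    | zero => simp
    | add x y _ _ hx hy => simp only [TensorProduct.tmul_add, map_add, hx, hy]
    | smul r x _ hx =>
      have : (1 : A') ⊗ₜ[A] (r • x) = (algebraMap A A' r ⊗ₜ[A] 1) * (1 ⊗ₜ[A] x) := by
        rw [Algebra.TensorProduct.tmul_mul_tmul, one_mul, mul_one, Algebra.algebraMap_eq_smul_one, TensorProduct.smul_tmul]
      rw [this, map_mul, map_mul, hx, hφ', hχ']
  refine RingHom.ext fun z => ?_
  induction z with
  | zero => simp
  | tmul a b =>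
    rw [show a ⊗ₜ[A] b = (a ⊗ₜ[A] 1) * (1 ⊗ₜ[A] b) by simp, map_mul, map_mul, key', hφ', hχ']
  | add x y hx hy => simp only [map_add, hx, hy]

/-- Etale neighbourhood of a geometric point in which a finite algebra has an idempotent piece with
a single geometric point. -/
theorem exists_etale_piece {B : Type u} [CommRing B] [Algebra A B] [Module.Finite A B] (φ : B →ₐ[A] K) :
    ∃ (A' : Type u) (_ : CommRing A') (_ : Algebra A A') (_ : Algebra.Etale A A') (ψ : A' →ₐ[A] K)
      (e : A' ⊗[A] B), IsIdempotentElem e ∧ Algebra.TensorProduct.lift ψ φ (fun _ _ => .all _ _) e ≠ 0 ∧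
      ∀ χ : A' ⊗[A] B →+* K, (∀ a, χ (a ⊗ₜ[A] 1) = ψ a) → χ e ≠ 0 →
        χ = (Algebra.TensorProduct.lift ψ φ (fun _ _ => .all _ _)).toRingHom := by
  obtain ⟨A₁, _, _, _, ψ₁, hins⟩ := exists_etale_insep φ
  let P : Ideal A₁ := RingHom.ker ψ₁.toRingHom
  haveI : P.IsPrime := RingHom.ker_isPrime _
  obtain ⟨R, _, _, _, Q, _, _, n, e, he, P', hP', hP'Q, hbij, hPe, huniq⟩ :=
    Algebra.exists_etale_completeOrthogonalIdempotents_forall_liesOver_eq (R := A₁) (S := A₁ ⊗[A] B) P
  -- the point of `R`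
  let j : P.ResidueField →+* K := Ideal.ResidueField.lift P ψ₁.toRingHom le_rfl fun x hx => isUnit_iff_ne_zero.mpr hx
  let r := RingEquiv.ofBijective _ hbij
  let ψ₂r : R →+* K := (j.comp r.symm.toRingHom).comp (algebraMap R Q.ResidueField)
  have hψ₂ : ∀ a, ψ₂r (algebraMap A₁ R a) = ψ₁ a := fun a => by
    have h1 : r (algebraMap A₁ P.ResidueField a) = algebraMap R Q.ResidueField (algebraMap A₁ R a) :=
      (AlgHom.commutes (Ideal.ResidueField.mapₐ P Q (Algebra.ofId A₁ R) (Q.over_def P)) a).trans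
        (IsScalarTower.algebraMap_apply A₁ R Q.ResidueField a)
    show j (r.symm (algebraMap R Q.ResidueField (algebraMap A₁ R a))) = _
    rw [← h1, r.symm_apply_apply, Ideal.ResidueField.lift_algebraMap]
    rfl
  have hker₂ : ∀ x, ψ₂r x = 0 ↔ x ∈ Q := fun x => by
    show j (r.symm (algebraMap R Q.ResidueField x)) = 0 ↔ _
    rw [map_eq_zero_iff _ j.injective, map_eq_zero_iff _ r.symm.injective, Ideal.algebraMap_residueField_eq_zero]
  letI : Algebra A R := ((algebraMap A₁ R).comp (algebraMap A A₁)).toAlgebra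
  haveI : IsScalarTower A A₁ R := IsScalarTower.of_algebraMap_eq fun _ => rfl
  haveI : Algebra.Etale A R := Algebra.Etale.comp A A₁ R
  let ψ : R →ₐ[A] K := { ψ₂r with commutes' := fun a => (hψ₂ _).trans (ψ₁.commutes a) }
  let φ₂ := Algebra.TensorProduct.lift ψ φ (fun _ _ => .all _ _)
  let c := Algebra.TensorProduct.cancelBaseChange A A₁ R R B
  let φT : R ⊗[A₁] (A₁ ⊗[A] B) →+* K := φ₂.toRingHom.comp c.toRingEquiv.toRingHom
  have hc : ∀ (x : R) (a : A₁) (b : B), c (x ⊗ₜ[A₁] (a ⊗ₜ[A] b)) = (a • x) ⊗ₜ[A] b := fun _ _ _ =>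
    Algebra.TensorProduct.cancelBaseChange_tmul ..
  have hover : ∀ χ : R ⊗[A₁] (A₁ ⊗[A] B) →+* K, (∀ x, χ (x ⊗ₜ[A₁] 1) = ψ x) →
      (RingHom.ker χ).LiesOver Q := fun χ h => ⟨by
    ext x; show x ∈ Q ↔ χ (x ⊗ₜ[A₁] 1) = 0; rw [h]; exact (hker₂ x).symm⟩
  have hφT : ∀ x, φT (x ⊗ₜ[A₁] 1) = ψ x := fun x => by
    show φ₂ (c (x ⊗ₜ[A₁] (1 ⊗ₜ[A] 1))) = _
    rw [hc, one_smul]
    simp [φ₂]
  haveI : (RingHom.ker φT).IsPrime := RingHom.ker_isPrime _
  haveI := hover φT hφT
  obtain ⟨hlast, hi0⟩ := huniq (RingHom.ker φT) inferInstance inferInstance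
  obtain ⟨i, hi⟩ : ∃ i : Fin n, φT (e i.castSucc) ≠ 0 := by
    by_contra hall
    push Not at hall
    have h1 := congrArg φT he.complete
    rw [map_sum, map_one, Fin.sum_univ_castSucc] at h1
    simp only [hall, Finset.sum_const_zero, show φT (e (Fin.last n)) = 0 from hlast, add_zero] at h1
    exact zero_ne_one h1
  refine ⟨R, inferInstance, inferInstance, inferInstance, ψ, c (e i.castSucc),
    (he.idem _).map c, hi, fun χ hχ hχe => ?_⟩
  let χT : R ⊗[A₁] (A₁ ⊗[A] B) →+* K := χ.comp c.toRingEquiv.toRingHom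
  have hχT : ∀ x, χT (x ⊗ₜ[A₁] 1) = ψ x := fun x => by
    show χ (c (x ⊗ₜ[A₁] (1 ⊗ₜ[A] 1))) = _
    rw [hc, one_smul, hχ]
  haveI : (RingHom.ker χT).IsPrime := RingHom.ker_isPrime _
  haveI := hover χT hχT
  have hkk : RingHom.ker χT = RingHom.ker φT :=
    ((huniq _ inferInstance inferInstance).2 i hχe).trans (hi0 i hi).symm
  let inc : A₁ ⊗[A] B →+* R ⊗[A₁] (A₁ ⊗[A] B) := Algebra.TensorProduct.includeRight.toRingHom
  have hinc : ∀ (a : A₁), inc (a ⊗ₜ[A] (1 : B)) = (algebraMap A₁ R a) ⊗ₜ[A₁] 1 := fun a => by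
    show (1 : R) ⊗ₜ[A₁] (a ⊗ₜ[A] (1 : B)) = _
    rw [Algebra.algebraMap_eq_smul_one, TensorProduct.smul_tmul, Algebra.TensorProduct.one_def, TensorProduct.smul_tmul',
      smul_eq_mul, mul_one]
  have h12 : φT.comp inc = χT.comp inc := by
    refine hins _ _ (fun a => ?_) (fun a => ?_) (fun b => ?_) ?_
    · rw [RingHom.comp_apply, hinc, hφT]; exact hψ₂ a
    · rw [RingHom.comp_apply, hinc, hχT]; exact hψ₂ a
    · show φ₂ (c ((1 : R) ⊗ₜ[A₁] ((1 : A₁) ⊗ₜ[A] b))) = _
      rw [hc, one_smul]; simp [φ₂]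
    · exact (RingHom.comap_ker φT inc).symm.trans ((congrArg (Ideal.comap inc) hkk.symm).trans (RingHom.comap_ker χT inc))
  refine RingHom.ext fun z => ?_
  induction z with
  | zero => simp
  | tmul x b =>
    show χ (x ⊗ₜ[A] b) = φ₂ (x ⊗ₜ[A] b)
    have h1 : x ⊗ₜ[A] b = (x ⊗ₜ[A] (1 : B)) * c (inc (1 ⊗ₜ[A] b)) := by
      show _ = _ * c ((1 : R) ⊗ₜ[A₁] ((1 : A₁) ⊗ₜ[A] b))
      rw [hc, one_smul, Algebra.TensorProduct.tmul_mul_tmul, mul_one, one_mul]
    rw [h1, map_mul, map_mul, hχ]
    have h2 : φT (inc (1 ⊗ₜ[A] b)) = χT (inc (1 ⊗ₜ[A] b)) := congrArg (fun t : _ →+* K => t (1 ⊗ₜ[A] b)) h12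
    show ψ x * χT (inc (1 ⊗ₜ[A] b)) = _ * φT (inc (1 ⊗ₜ[A] b))
    rw [h2]; simp [φ₂]
  | add x y hx hy => simp only [map_add, hx, hy]

end Groth.Agent.H2EtaleSplit
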