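import Mathlib
import Groth.Prelude.Def_MoreMor
import Groth.Agent.Lib.H2Weight
import Groth.Agent.Lib.H2EtaleSplit

/-! Etale localisation of quasi-finite morphisms into finite pieces with one geometric point. -/

universe u

open CategoryTheory Limits AlgebraicGeometry TensorProduct

namespace Groth.Agent.H2Weight

/-- at most one geometric point over `v`. -/
def UniqueLift {U V : Scheme.{u}} (π : U ⟶ V) (v : V) : Prop :=
  ∀ (K : Type u) [Field K] [IsAlgClosed K] (ξ : Spec (CommRingCat.of K) ⟶ V), pt ξ = v → Subsingleton (Lifts π ξ)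

theorem uniqueLift_of_subsingleton {U V : Scheme.{u}} (π : U ⟶ V) [LocallyQuasiFinite π] {K : Type u} [Field K]
    [IsAlgClosed K] (ξ : Spec (CommRingCat.of K) ⟶ V) [Subsingleton (Lifts π ξ)] : UniqueLift π (pt ξ) := by
  intro L _ _ η hη
  have h1 : ∀ {M : Type u} [Field M] [IsAlgClosed M] (ζ : Spec (CommRingCat.of M) ⟶ V) [Finite (Lifts π ζ)],
      (π ⁻¹' {pt ζ}).Finite → MoreMor.fibreIntegral π (fun _ => 1) (pt ζ) = Nat.card (Lifts π ζ) := by
    intro M _ _ ζ _ hf
    letI := Fintype.ofFinite (Lifts π ζ)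
    rw [fibreIntegral_eq π _ ζ hf, finsum_eq_sum_of_fintype, Finset.sum_const, Finset.card_univ, ← Nat.card_eq_fintype_card]
    simp
  haveI : Finite (Lifts π ξ) := Finite.of_subsingleton
  have hf := finite_fibre_of_finite_lifts π ξ
  haveI := finite_lifts π η (hη ▸ hf)
  have h2 := h1 η (hη ▸ hf)
  rw [hη, h1 ξ hf] at h2
  rw [← Finite.card_le_one_iff_subsingleton]
  have h3 : Nat.card (Lifts π ξ) ≤ 1 := Finite.card_le_one_iff_subsingleton.2 inferInstance
  omega

theorem UniqueLift.baseChange {U V U' V' : Scheme.{u}} {π : U ⟶ V} {π' : U' ⟶ V'} {h : U' ⟶ U} {g : V' ⟶ V}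
    {v : V} (H : UniqueLift π v) (hc : IsPullback h π' π g) (v' : V') (hv : g v' = v) : UniqueLift π' v' := by
  intro K _ _ ξ hξ
  haveI := H K (ξ ≫ g) ((Scheme.Hom.comp_apply ξ g _).trans ((congrArg g hξ).trans hv))
  exact (liftsPullback π hc ξ).subsingleton

theorem UniqueLift.eq_point {U V : Scheme.{u}} {π : U ⟶ V} [LocallyQuasiFinite π] {v : V} (H : UniqueLift π v)
    {a b : U} (ha : π a = v) (hb : π b = v) : a = b := by
  obtain ⟨K, _, _, ξ, rfl⟩ := exists_geomPoint v
  haveI := H K ξ rfl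
  obtain ⟨p, rfl⟩ := nonempty_lifts π ξ a ha
  obtain ⟨q, rfl⟩ := nonempty_lifts π ξ b hb
  rw [Subsingleton.elim p q]

theorem locallyQuasiFinite_of_etale {A B : Scheme.{u}} (f : A ⟶ B) [Etale f] : LocallyQuasiFinite f := by
  rw [HasRingHomProperty.iff_appLE (P := @LocallyQuasiFinite)]
  intro U V e
  have hE := HasRingHomProperty.appLE @Etale f inferInstance U V e
  letI := (f.appLE U V e).hom.toAlgebra
  have : Algebra.Etale Γ(B, U) Γ(A, V) := hE
  exact (inferInstance : Algebra.QuasiFinite Γ(B, U) Γ(A, V))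

/-- open immersions base change to open immersions between pullbacks. -/
theorem exists_openImmersion_pullback {X Y V V' W T : Scheme.{u}} (f : X ⟶ Y) (g : V ⟶ Y) (a : W ⟶ pullback f g)
    [IsOpenImmersion a] (g' : V' ⟶ V) {t : T ⟶ W} {s : T ⟶ V'} (hT : IsPullback t s (a ≫ pullback.snd f g) g') :
    ∃ j : T ⟶ pullback f (g' ≫ g), IsOpenImmersion j ∧ j ≫ pullback.snd f (g' ≫ g) = s ∧
      j ≫ pullback.fst f (g' ≫ g) = t ≫ a ≫ pullback.fst f g := by
  let j : T ⟶ pullback f (g' ≫ g) := pullback.lift (t ≫ a ≫ pullback.fst f g) s (by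
    rw [Category.assoc, Category.assoc, pullback.condition, ← Category.assoc a, ← Category.assoc t, hT.w, Category.assoc])
  let q : pullback f (g' ≫ g) ⟶ pullback f g :=
    pullback.lift (pullback.fst _ _) (pullback.snd _ _ ≫ g') (by rw [Category.assoc, pullback.condition])
  have hQ : IsPullback q (pullback.snd f (g' ≫ g)) (pullback.snd f g) g' :=
    IsPullback.of_right (by rw [pullback.lift_fst]; exact IsPullback.of_hasPullback f (g' ≫ g)) (pullback.lift_snd _ _ _)
      (IsPullback.of_hasPullback f g)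
  have hj : t ≫ a = j ≫ q := by
    apply pullback.hom_ext
    · rw [Category.assoc, Category.assoc, pullback.lift_fst, pullback.lift_fst]
    · rw [Category.assoc, Category.assoc, pullback.lift_snd, ← Category.assoc j, pullback.lift_snd, hT.w]
  have hjp : IsPullback t j a q :=
    IsPullback.of_bot (by rw [pullback.lift_snd]; exact hT) hj hQ
  exact ⟨j, MorphismProperty.of_isPullback (P := @IsOpenImmersion) hjp ‹_›, pullback.lift_snd _ _ _, pullback.lift_fst _ _ _⟩

theorem exists_piece_spec {A B : CommRingCat.{u}} (φ₀ : A ⟶ B) [IsFinite (Spec.map φ₀)] {K : Type u} [Field K]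
    [IsAlgClosed K] (p : Spec (CommRingCat.of K) ⟶ Spec B) :
    ∃ (A' : CommRingCat.{u}) (g : Spec A' ⟶ Spec A) (T Z : Scheme.{u}) (t : T ⟶ Spec B) (s : T ⟶ Spec A') (ι : Z ⟶ T)
      (q : Spec (CommRingCat.of K) ⟶ Z), Etale g ∧ IsPullback t s (Spec.map φ₀) g ∧ IsOpenImmersion ι ∧ IsFinite (ι ≫ s) ∧ q ≫ ι ≫ t = p ∧
      UniqueLift (ι ≫ s) (pt (q ≫ ι ≫ s)) := by
  algebraize [φ₀.hom]
  haveI : Module.Finite A B := RingHom.finite_algebraMap.1 ((IsFinite.SpecMap_iff _).1 ‹_›)
  letI : Algebra A K := ((Spec.preimage p).hom.comp φ₀.hom).toAlgebra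
  let φ : B →ₐ[A] K := { (Spec.preimage p).hom with commutes' := fun _ => rfl }
  obtain ⟨A', _, _, hA', ψ, e, he, heφ, huniq⟩ := H2EtaleSplit.exists_etale_piece φ
  let φ2 := Algebra.TensorProduct.lift ψ φ (fun _ _ => .all _ _)
  let C := Localization.Away e
  let φC : C →+* K := IsLocalization.Away.lift e (g := φ2.toRingHom) (isUnit_iff_ne_zero.mpr heφ)
  haveI : Module.Finite (A' ⊗[A] B) C :=
    Module.Finite.of_surjective (Algebra.linearMap _ C) (IsLocalization.Away.algebraMap_surjective_of_isIdempotentElem e he)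
  haveI : Module.Finite A' C := Module.Finite.trans (A' ⊗[A] B) C
  let gA : Spec (CommRingCat.of A') ⟶ Spec A := Spec.map (CommRingCat.ofHom (algebraMap A A'))
  let t : Spec (CommRingCat.of (A' ⊗[A] B)) ⟶ Spec B :=
    Spec.map (CommRingCat.ofHom Algebra.TensorProduct.includeRight.toRingHom)
  let s : Spec (CommRingCat.of (A' ⊗[A] B)) ⟶ Spec (CommRingCat.of A') :=
    Spec.map (CommRingCat.ofHom Algebra.TensorProduct.includeLeftRingHom)
  let ι : Spec (CommRingCat.of C) ⟶ Spec (CommRingCat.of (A' ⊗[A] B)) :=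
    Spec.map (CommRingCat.ofHom (algebraMap _ C))
  haveI : IsOpenImmersion ι := IsOpenImmersion.of_isLocalization e
  have hfin : IsFinite (ι ≫ s) := by
    rw [← Spec.map_comp, IsFinite.SpecMap_iff]
    exact RingHom.finite_algebraMap.2 ‹Module.Finite A' C›
  let q : Spec (CommRingCat.of K) ⟶ Spec (CommRingCat.of C) := Spec.map (CommRingCat.ofHom φC)
  have hz : q ≫ ι ≫ t = p := by
    rw [← Spec.map_comp, ← Spec.map_comp, ← CommRingCat.ofHom_comp, ← CommRingCat.ofHom_comp, ← Spec.map_preimage p]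
    congr 1
    refine CommRingCat.hom_ext (RingHom.ext fun x => ?_)
    show φC (algebraMap _ C ((1 : A') ⊗ₜ[A] x)) = φ x
    rw [IsLocalization.Away.lift_eq]; simp [φ2]
  have hpush : IsPushout φ₀ (CommRingCat.ofHom (algebraMap A A'))
      (CommRingCat.ofHom Algebra.TensorProduct.includeRight.toRingHom)
      (CommRingCat.ofHom (Algebra.TensorProduct.includeLeftRingHom : A' →+* A' ⊗[A] B)) :=
    (CommRingCat.isPushout_tensorProduct A A' B).flip
  refine ⟨CommRingCat.of A', gA, _, _, t, s, ι, q, ?_, isPullback_SpecMap_of_isPushout _ _ _ _ hpush, inferInstance,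
    hfin, hz, ?_⟩
  · exact HasRingHomProperty.Spec_iff.mpr (RingHom.etale_algebraMap.mpr hA')
  · let ξ : Spec (CommRingCat.of K) ⟶ Spec (CommRingCat.of A') := Spec.map (CommRingCat.ofHom ψ.toRingHom)
    have hξ : q ≫ ι ≫ s = ξ := by
      have h1 : ψ.toRingHom = φC.comp ((algebraMap (A' ⊗[A] B) C).comp Algebra.TensorProduct.includeLeftRingHom) := by
        refine RingHom.ext fun a => ?_
        show ψ a = φC (algebraMap _ C (a ⊗ₜ[A] (1 : B)))
        rw [IsLocalization.Away.lift_eq]; simp [φ2]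
      rw [← Spec.map_comp, ← Spec.map_comp, ← CommRingCat.ofHom_comp, ← CommRingCat.ofHom_comp]
      show _ = Spec.map (CommRingCat.ofHom ψ.toRingHom)
      rw [h1]
    haveI : Subsingleton (Lifts (ι ≫ s) ξ) := by
      have key : ∀ p : Lifts (ι ≫ s) ξ, (Spec.preimage p.1).hom = φC := by
        intro p
        obtain ⟨m, hm⟩ := p
        have hp : (Spec.preimage m).hom.comp ((algebraMap (A' ⊗[A] B) C).comp
            Algebra.TensorProduct.includeLeftRingHom) = ψ.toRingHom := by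
          have h : Spec.map (Spec.preimage m) ≫ ι ≫ s = ξ := by rw [Spec.map_preimage]; exact hm
          rw [← Spec.map_comp, ← Spec.map_comp, ← CommRingCat.ofHom_comp] at h
          exact congrArg CommRingCat.Hom.hom (Spec.map_injective h)
        refine IsLocalization.ringHom_ext (Submonoid.powers e) ?_
        rw [IsLocalization.Away.lift_comp]
        refine huniq _ (fun a => RingHom.congr_fun hp a) ?_
        exact (((IsLocalization.Away.algebraMap_isUnit e).map (Spec.preimage m).hom)).ne_zero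
      exact ⟨fun p q => Subtype.ext (by
        rw [← Spec.map_preimage p.1, ← Spec.map_preimage q.1]
        exact congrArg Spec.map (CommRingCat.hom_ext ((key p).trans (key q).symm)))⟩
    rw [hξ]
    exact uniqueLift_of_subsingleton _ ξ

/-- etale neighbourhood with a finite piece having a single geometric point, through a given geometric point. -/
theorem exists_piece {X Y : Scheme.{u}} (f : X ⟶ Y) [LocallyQuasiFinite f] [LocallyOfFiniteType f] {K : Type u}
    [Field K] [IsAlgClosed K] (p : Spec (CommRingCat.of K) ⟶ X) :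
    ∃ (V : Scheme.{u}) (g : V ⟶ Y) (_ : Etale g) (W : (pullback f g).Opens) (q : Spec (CommRingCat.of K) ⟶ W),
      q ≫ W.ι ≫ pullback.fst f g = p ∧ IsFinite (W.ι ≫ pullback.snd f g) ∧
      UniqueLift (W.ι ≫ pullback.snd f g) (pt (q ≫ W.ι ≫ pullback.snd f g)) := by
  obtain ⟨_, ⟨X0', hX0, rfl⟩, hxX0, -⟩ := (Scheme.isBasis_affineOpens X).exists_subset_of_mem_open (Set.mem_univ (pt p)) isOpen_univ
  let X0 : X.Opens := X0'
  haveI : IsAffine (X0 : Scheme.{u}) := hX0
  haveI : IsSeparated (X0.ι ≫ f) := by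
    haveI : IsSeparated ((X0.ι ≫ f) ≫ terminal.from Y) := by rw [terminal.comp_from]; infer_instance
    exact IsSeparated.of_comp _ (terminal.from Y)
  obtain ⟨V1, g1, hg1, -, W1, -, w1, -, hW1, hw1⟩ := exists_etale_isCompl_of_quasiFiniteAt (X0.ι ≫ f)
    (x := ⟨pt p, hxX0⟩) rfl (Scheme.Hom.quasiFiniteAt _ _)
  -- lift the geometric point
  let p0 : Spec (CommRingCat.of K) ⟶ (X0 : Scheme.{u}) := IsOpenImmersion.lift X0.ι p (by
    rw [Scheme.Opens.range_ι]; rintro _ ⟨k, rfl⟩; rw [Subsingleton.elim k (IsLocalRing.closedPoint K)]; exact hxX0)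
  have hp0 : p0 ≫ X0.ι = p := IsOpenImmersion.lift_fac _ _ _
  haveI := locallyQuasiFinite_of_etale g1
  haveI : LocallyQuasiFinite (pullback.fst (X0.ι ≫ f) g1) :=
    MorphismProperty.of_isPullback (P := @LocallyQuasiFinite) (IsPullback.of_hasPullback (X0.ι ≫ f) g1).flip inferInstance
  have hpt0 : (W1.ι ≫ pullback.fst (X0.ι ≫ f) g1) w1 = pt p0 := by
    refine X0.ι.isOpenEmbedding.injective ?_
    show X0.ι _ = X0.ι (p0 _)
    rw [← Scheme.Hom.comp_apply p0, hp0]
    exact congrArg X0.ι hw1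
  obtain ⟨⟨p1, hp1⟩, -⟩ := nonempty_lifts (W1.ι ≫ pullback.fst (X0.ι ≫ f) g1) p0 w1 hpt0
  obtain ⟨_, ⟨V0, hV0, rfl⟩, hvV0, -⟩ := (Scheme.isBasis_affineOpens V1).exists_subset_of_mem_open
    (Set.mem_univ (pt (p1 ≫ W1.ι ≫ pullback.snd _ g1))) isOpen_univ
  let v0 : Spec (CommRingCat.of K) ⟶ Spec Γ(V1, V0) := IsOpenImmersion.lift hV0.fromSpec (p1 ≫ W1.ι ≫ pullback.snd _ g1) (by
    rw [hV0.range_fromSpec]; rintro _ ⟨k, rfl⟩; rw [Subsingleton.elim k (IsLocalRing.closedPoint K)]; exact hvV0)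
  -- the finite piece over an affine base
  let P := pullback (W1.ι ≫ pullback.snd _ g1) hV0.fromSpec
  let π : P ⟶ Spec Γ(V1, V0) := pullback.snd _ _
  haveI : IsFinite π := MorphismProperty.of_isPullback (P := @IsFinite) (IsPullback.of_hasPullback _ _) hW1
  haveI : IsAffine P := isAffine_of_isAffineHom π
  let pP : Spec (CommRingCat.of K) ⟶ P := pullback.lift p1 v0 (IsOpenImmersion.lift_fac _ _ _).symm
  let φ₀ : Γ(V1, V0) ⟶ Γ(P, ⊤) := Spec.preimage (P.isoSpec.inv ≫ π)
  have hφ₀ : Spec.map φ₀ = P.isoSpec.inv ≫ π := Spec.map_preimage _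
  haveI : IsFinite (Spec.map φ₀) := by rw [hφ₀]; infer_instance
  obtain ⟨A', gA, T, Z, t, s, ι, q, hgA, hT, hι, hfin, hq, huniq⟩ := exists_piece_spec φ₀ (pP ≫ P.isoSpec.hom)
  let m : pullback (X0.ι ≫ f) g1 ⟶ pullback f g1 :=
    pullback.map _ _ _ _ X0.ι (𝟙 _) (𝟙 _) (by simp) (by simp)
  let a : (W1 : Scheme.{u}) ⟶ pullback f g1 := W1.ι ≫ m
  have hTW : IsPullback (t ≫ P.isoSpec.inv ≫ pullback.fst _ _) s (a ≫ pullback.snd f g1) (gA ≫ hV0.fromSpec) := by
    have h2 : IsPullback (P.isoSpec.inv ≫ pullback.fst (W1.ι ≫ pullback.snd _ g1) hV0.fromSpec) (Spec.map φ₀)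
        (a ≫ pullback.snd f g1) hV0.fromSpec := by
      rw [show a ≫ pullback.snd f g1 = W1.ι ≫ pullback.snd _ g1 by
        rw [Category.assoc, pullback.lift_snd, Category.comp_id]]
      exact IsPullback.of_iso (IsPullback.of_hasPullback _ _) P.isoSpec (Iso.refl _) (Iso.refl _) (Iso.refl _)
        (by simp) (by simp [hφ₀, π]) (by simp) (by simp)
    exact hT.paste_horiz h2
  haveI : IsOpenImmersion a := by dsimp only [a, m]; infer_instance
  obtain ⟨j, hjo, hjs, hjt⟩ := exists_openImmersion_pullback f g1 a (gA ≫ hV0.fromSpec) hTW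
  let G := (gA ≫ hV0.fromSpec) ≫ g1
  let j2 : Z ⟶ pullback f G := ι ≫ j
  haveI : IsOpenImmersion j2 := by dsimp only [j2]; infer_instance
  have hj2 : j2 ≫ pullback.snd f G = ι ≫ s := (Category.assoc _ _ _).trans (congrArg (ι ≫ ·) hjs)
  let e := j2.isoOpensRange
  have he : e.inv ≫ ι ≫ s = j2.opensRange.ι ≫ pullback.snd f G := by
    exact (congrArg (e.inv ≫ ·) hj2.symm).trans ((Category.assoc _ _ _).symm.trans (congrArg (· ≫ _) j2.isoOpensRange_inv_comp))
  refine ⟨Spec A', G, inferInstance, j2.opensRange, q ≫ e.hom, ?_, ?_, ?_⟩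
  · have h1 : e.hom ≫ j2.opensRange.ι ≫ pullback.fst f G = j2 ≫ pullback.fst f G :=
      (Category.assoc _ _ _).symm.trans (congrArg (· ≫ _) j2.isoOpensRange_hom_ι)
    have h2 : j2 ≫ pullback.fst f G = ι ≫ (t ≫ P.isoSpec.inv ≫ pullback.fst _ _) ≫ a ≫ pullback.fst f g1 :=
      (Category.assoc _ _ _).trans (congrArg (ι ≫ ·) hjt)
    rw [Category.assoc, h1, h2]
    simp only [Category.assoc]
    rw [reassoc_of% hq, Iso.hom_inv_id_assoc, pullback.lift_fst_assoc]
    show p1 ≫ W1.ι ≫ m ≫ pullback.fst f g1 = p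
    rw [pullback.lift_fst, ← hp0]
    simp only [← Category.assoc]
    rw [Category.assoc p1, hp1]
  · rw [← he]; infer_instance
  · rw [← he]
    have h1 : (q ≫ e.hom) ≫ e.inv ≫ ι ≫ s = q ≫ ι ≫ s := by rw [Category.assoc, Iso.hom_inv_id_assoc]
    rw [h1]
    refine huniq.baseChange (g := 𝟙 _) (h := e.inv) ?_ _ rfl
    exact IsPullback.of_horiz_isIso ⟨by simp⟩

end Groth.Agent.H2Weight
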