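import Mathlib
import Groth.Prelude.Def_MoreMor
import Groth.Agent.Lib.H2Weight
import Groth.Agent.Lib.H2WeightSplit

/-! Weightings: the fibre integral along any finite piece of any base change is locally constant. -/

universe u

open CategoryTheory Limits AlgebraicGeometry

namespace Groth.Agent.H2Weight

theorem finite_fibre {U V : Scheme.{u}} (π : U ⟶ V) [IsFinite π] (v : V) : (π ⁻¹' {v}).Finite :=
  π.finite_preimage_singleton v

/-- splitting along two open pieces. -/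
theorem fibreIntegral_add {U V A B : Scheme.{u}} (π : U ⟶ V) [LocallyQuasiFinite π] (a : A ⟶ U) (b : B ⟶ U)
    [IsOpenImmersion a] [IsOpenImmersion b] (hcov : ∀ x, x ∈ Set.range a ∨ x ∈ Set.range b)
    (hdis : ∀ x, x ∈ Set.range a → x ∉ Set.range b) (w : U → ℤ) (v : V) (hfin : (π ⁻¹' {v}).Finite) :
    MoreMor.fibreIntegral π w v =
      MoreMor.fibreIntegral (a ≫ π) (w ∘ ⇑a) v + MoreMor.fibreIntegral (b ≫ π) (w ∘ ⇑b) v := by
  classical
  obtain ⟨K, _, _, ξ, rfl⟩ := exists_geomPoint v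
  haveI := finite_lifts π ξ hfin
  let i : Lifts (a ≫ π) ξ ⊕ Lifts (b ≫ π) ξ → Lifts π ξ :=
    Sum.elim (fun p => ⟨p.1 ≫ a, (Category.assoc _ _ _).trans p.2⟩) (fun p => ⟨p.1 ≫ b, (Category.assoc _ _ _).trans p.2⟩)
  have hr : ∀ (p : Spec (CommRingCat.of K) ⟶ A) (q : Spec (CommRingCat.of K) ⟶ B), p ≫ a ≠ q ≫ b := fun p q h =>
    hdis (pt (p ≫ a)) ⟨pt p, (Scheme.Hom.comp_apply _ _ _).symm⟩ ⟨pt q, (Scheme.Hom.comp_apply _ _ _).symm.trans (congrArg pt h.symm)⟩
  have hi : Function.Bijective i := by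
    constructor
    · rintro (⟨p, hp⟩ | ⟨p, hp⟩) (⟨q, hq⟩ | ⟨q, hq⟩) h
      · exact congrArg Sum.inl (Subtype.ext ((cancel_mono a).1 (congrArg Subtype.val h)))
      · exact absurd (congrArg Subtype.val h) (hr p q)
      · exact absurd (congrArg Subtype.val h).symm (hr q p)
      · exact congrArg Sum.inr (Subtype.ext ((cancel_mono b).1 (congrArg Subtype.val h)))
    · rintro ⟨p, hp⟩
      rcases hcov (pt p) with h | h
      · have hl : Set.range p ⊆ Set.range a := by
          rintro _ ⟨k, rfl⟩; rwa [Subsingleton.elim k (IsLocalRing.closedPoint K)]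
        exact ⟨Sum.inl ⟨IsOpenImmersion.lift a p hl, by rw [← Category.assoc, IsOpenImmersion.lift_fac, hp]⟩,
          Subtype.ext (IsOpenImmersion.lift_fac _ _ _)⟩
      · have hl : Set.range p ⊆ Set.range b := by
          rintro _ ⟨k, rfl⟩; rwa [Subsingleton.elim k (IsLocalRing.closedPoint K)]
        exact ⟨Sum.inr ⟨IsOpenImmersion.lift b p hl, by rw [← Category.assoc, IsOpenImmersion.lift_fac, hp]⟩,
          Subtype.ext (IsOpenImmersion.lift_fac _ _ _)⟩
  haveI : Finite (Lifts (a ≫ π) ξ ⊕ Lifts (b ≫ π) ξ) := Finite.of_injective _ hi.injective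
  haveI : Finite (Lifts (a ≫ π) ξ) := Finite.of_injective (Sum.inl (β := Lifts (b ≫ π) ξ)) Sum.inl_injective
  haveI : Finite (Lifts (b ≫ π) ξ) := Finite.of_injective (Sum.inr (α := Lifts (a ≫ π) ξ)) Sum.inr_injective
  rw [fibreIntegral_eq π w ξ hfin, fibreIntegral_eq _ _ ξ (finite_fibre_of_finite_lifts (a ≫ π) ξ),
    fibreIntegral_eq _ _ ξ (finite_fibre_of_finite_lifts (b ≫ π) ξ)]
  letI := Fintype.ofFinite (Lifts π ξ); letI := Fintype.ofFinite (Lifts (a ≫ π) ξ); letI := Fintype.ofFinite (Lifts (b ≫ π) ξ)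
  rw [finsum_eq_sum_of_fintype, finsum_eq_sum_of_fintype, finsum_eq_sum_of_fintype,
    ← Fintype.sum_bijective i hi (fun x => w (pt (i x).1)) _ (fun _ => rfl), Fintype.sum_sum_type]
  rfl

theorem range_eq_of_isPullback {P W Q Q' : Scheme.{u}} {t : P ⟶ W} {j : P ⟶ Q'} {a : W ⟶ Q} {q : Q' ⟶ Q}
    (h : IsPullback t j a q) : Set.range j = q ⁻¹' Set.range a := by
  have : j = h.isoPullback.hom ≫ pullback.snd a q := h.isoPullback_hom_snd.symm
  rw [this, Scheme.Hom.comp_base, TopCat.coe_comp, Set.range_comp, Set.range_eq_univ.2 h.isoPullback.hom.surjective,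
    Set.image_univ, Scheme.Pullback.range_snd]

theorem finite_fibre_baseChange {U V U' V' : Scheme.{u}} (π : U ⟶ V) [LocallyQuasiFinite π] {π' : U' ⟶ V'} {h : U' ⟶ U}
    {g : V' ⟶ V} (hc : IsPullback h π' π g) (v' : V') (hfin : (π ⁻¹' {g v'}).Finite) : (π' ⁻¹' {v'}).Finite := by
  haveI : LocallyQuasiFinite π' := MorphismProperty.of_isPullback (P := @LocallyQuasiFinite) hc ‹_›
  obtain ⟨L, _, _, ξ, rfl⟩ := exists_geomPoint v'
  haveI := finite_lifts π (ξ ≫ g) (show (π ⁻¹' {pt (ξ ≫ g)}).Finite by rw [show pt (ξ ≫ g) = g (pt ξ) from Scheme.Hom.comp_apply ξ g _]; exact hfin)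
  haveI : Finite (Lifts π' ξ) := Finite.of_equiv _ (liftsPullback π hc ξ).symm
  exact finite_fibre_of_finite_lifts π' ξ

variable {X Y : Scheme.{u}} (f : X ⟶ Y) [LocallyQuasiFinite f] [LocallyOfFiniteType f] (w : X → ℤ)

/-- the splitting step, with the finite part. -/
theorem exists_step' {K : Type u} [Field K] [IsAlgClosed K] {V U : Scheme.{u}} (c : V ⟶ Y) (j : U ⟶ pullback f c)
    [IsOpenImmersion j] [IsSeparated (j ≫ pullback.snd f c)] [LocallyQuasiFinite (j ≫ pullback.snd f c)]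
    (hfin : ∀ v, ((j ≫ pullback.snd f c) ⁻¹' {v}).Finite) (ξ : Spec (CommRingCat.of K) ⟶ V)
    (hpos : 0 < Nat.card (Lifts (j ≫ pullback.snd f c) ξ)) :
    ∃ (V' : Scheme.{u}) (g : V' ⟶ V) (ξ' : Spec (CommRingCat.of K) ⟶ V') (Vi : Scheme.{u}) (gi : Vi ⟶ Y)
      (Wi : (pullback f gi).Opens) (h : V' ⟶ Vi) (U' : Scheme.{u}) (j' : U' ⟶ pullback f (g ≫ c)) (T : Scheme.{u})
      (tU : T ⟶ U) (s : T ⟶ V') (k : U' ⟶ T),
      Etale g ∧ Etale gi ∧ ξ' ≫ g = ξ ∧ IsFinite (Wi.ι ≫ pullback.snd f gi) ∧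
      UniqueLift (Wi.ι ≫ pullback.snd f gi) (h (pt ξ')) ∧ IsOpenImmersion j' ∧
      IsPullback tU s (j ≫ pullback.snd f c) g ∧ IsClosedImmersion k ∧ j' ≫ pullback.snd f (g ≫ c) = k ≫ s ∧
      Nat.card (Lifts (j' ≫ pullback.snd f (g ≫ c)) ξ') < Nat.card (Lifts (j ≫ pullback.snd f c) ξ) ∧
      (∃ (A : Scheme.{u}) (e : A ⟶ T), IsFinite (e ≫ s) ∧ ∀ x, x ∈ Set.range e ∨ x ∈ Set.range k) ∧
      ∀ v, MoreMor.fibreIntegral (j ≫ pullback.snd f c) (fun u => w (pullback.fst f c (j u))) (g v) =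
        MoreMor.fibreIntegral (Wi.ι ≫ pullback.snd f gi) (fun u => w (pullback.fst f gi (Wi.ι u))) (h v) +
          MoreMor.fibreIntegral (j' ≫ pullback.snd f (g ≫ c)) (fun u => w (pullback.fst f (g ≫ c) (j' u))) v := by
  let π := j ≫ pullback.snd f c
  obtain ⟨⟨p, hp⟩⟩ : Nonempty (Lifts π ξ) := (Nat.card_pos_iff.1 hpos).1
  obtain ⟨Vi, gi, hgi, Wi, qi, hqi, hWfin, hWu⟩ := exists_piece f (p ≫ j ≫ pullback.fst f c)
  let πi := Wi.ι ≫ pullback.snd f gi
  let V' := pullback c gi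
  have hξ' : ξ ≫ c = (qi ≫ πi) ≫ gi := by
    have : qi ≫ Wi.ι ≫ pullback.fst f gi ≫ f = p ≫ j ≫ pullback.fst f c ≫ f := by
      rw [reassoc_of% hqi]
    rw [← hp]
    simp only [π, πi, Category.assoc]
    rw [← pullback.condition, ← pullback.condition, this]
  let ξ' : Spec (CommRingCat.of K) ⟶ V' := pullback.lift ξ (qi ≫ πi) hξ'
  let W' := pullback πi (pullback.snd c gi)
  let π' : W' ⟶ V' := pullback.snd _ _
  haveI : IsFinite π' := MorphismProperty.of_isPullback (P := @IsFinite) (IsPullback.of_hasPullback _ _) hWfin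
  let r : W' ⟶ pullback f c := pullback.lift (pullback.fst _ _ ≫ Wi.ι ≫ pullback.fst f gi) (π' ≫ pullback.fst c gi) (by
    simp only [Category.assoc]
    rw [pullback.condition (f := f) (g := gi), pullback.condition (f := c) (g := gi)]
    exact pullback.condition_assoc (f := πi) (g := pullback.snd c gi) gi |>.trans rfl |> fun h => by simpa [πi] using h)
  let q' : Spec (CommRingCat.of K) ⟶ W' := pullback.lift qi ξ' (pullback.lift_snd _ _ _).symm
  let C : Set W' := (r ⁻¹' Set.range j)ᶜ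
  have hC : IsClosed C := (j.isOpenEmbedding.isOpen_range.preimage r.continuous).isClosed_compl
  let O : V'.Opens := ⟨(π' '' C)ᶜ, (π'.isClosedMap C hC).isOpen_compl⟩
  have hq'r : q' ≫ r = p ≫ j := by
    apply pullback.hom_ext
    · rw [Category.assoc, pullback.lift_fst, pullback.lift_fst_assoc, hqi, Category.assoc]
    · rw [Category.assoc, pullback.lift_snd, pullback.lift_snd_assoc, pullback.lift_fst, Category.assoc]
      exact hp.symm
  have hUi : UniqueLift π' (pt ξ') := hWu.baseChange (IsPullback.of_hasPullback _ _) _ (by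
    rw [← Scheme.Hom.comp_apply, pullback.lift_snd])
  have hξO : pt ξ' ∈ O := by
    rintro ⟨z, hz, hzv⟩
    have h1 : π' (pt q') = pt ξ' := by rw [← Scheme.Hom.comp_apply, pullback.lift_snd]
    rw [hUi.eq_point hzv h1] at hz
    exact hz ⟨pt p, by rw [← Scheme.Hom.comp_apply, ← Scheme.Hom.comp_apply, hq'r]⟩
  -- the new base
  let g'' : (O : Scheme.{u}) ⟶ V := O.ι ≫ pullback.fst c gi
  haveI : Etale (pullback.fst c gi) := MorphismProperty.pullback_fst _ _ hgi
  haveI : Etale g'' := inferInstance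
  let ξ'' : Spec (CommRingCat.of K) ⟶ (O : Scheme.{u}) := IsOpenImmersion.lift O.ι ξ' (by
    rw [Scheme.Opens.range_ι]; rintro _ ⟨k, rfl⟩; rw [Subsingleton.elim k (IsLocalRing.closedPoint K)]; exact hξO)
  have hξ''V : ξ'' ≫ g'' = ξ := by rw [IsOpenImmersion.lift_fac_assoc, pullback.lift_fst]
  let T := pullback π g''
  let s : T ⟶ (O : Scheme.{u}) := pullback.snd _ _
  obtain ⟨j'', hj''o, hj''s, hj''t⟩ := exists_openImmersion_pullback f c j g'' (IsPullback.of_hasPullback π g'')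
  haveI : IsSeparated s := MorphismProperty.of_isPullback (P := @IsSeparated) (IsPullback.of_hasPullback _ _) ‹_›
  haveI : LocallyQuasiFinite s := MorphismProperty.of_isPullback (P := @LocallyQuasiFinite) (IsPullback.of_hasPullback _ _) ‹_›
  let h'' : (O : Scheme.{u}) ⟶ Vi := O.ι ≫ pullback.snd c gi
  let W'' := pullback πi h''
  let πW : W'' ⟶ (O : Scheme.{u}) := pullback.snd _ _
  haveI : IsFinite πW := MorphismProperty.of_isPullback (P := @IsFinite) (IsPullback.of_hasPullback _ _) hWfin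
  obtain ⟨jW, hjWo, hjWs, hjWt⟩ := exists_openImmersion_pullback f gi Wi.ι h'' (IsPullback.of_hasPullback πi h'')
  have hGeq : h'' ≫ gi = g'' ≫ c := by rw [Category.assoc, Category.assoc, pullback.condition]
  let jW' : W'' ⟶ pullback f (g'' ≫ c) := jW ≫ (pullback.congrHom rfl hGeq).hom
  have hjW's : jW' ≫ pullback.snd f (g'' ≫ c) = πW := by
    rw [Category.assoc, pullback.congrHom_hom, pullback.lift_snd, Category.comp_id]; exact hjWs
  have hjW't : jW' ≫ pullback.fst f (g'' ≫ c) = pullback.fst πi h'' ≫ Wi.ι ≫ pullback.fst f gi := by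
    rw [Category.assoc, pullback.congrHom_hom, pullback.lift_fst, Category.comp_id]; exact hjWt
  let toW' : W'' ⟶ W' := pullback.lift (pullback.fst _ _) (πW ≫ O.ι) (by rw [Category.assoc]; exact pullback.condition)
  have hsub : Set.range (toW' ≫ r) ⊆ Set.range j := by
    rintro _ ⟨z, rfl⟩
    by_contra hz
    refine (πW z).2 ⟨toW' z, hz, ?_⟩
    show (toW' ≫ π') z = (πW ≫ O.ι) z
    rw [pullback.lift_snd]
  let l : W'' ⟶ U := IsOpenImmersion.lift j (toW' ≫ r) hsub
  have hl : l ≫ j = toW' ≫ r := IsOpenImmersion.lift_fac _ _ _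
  let e : W'' ⟶ T := pullback.lift l πW (by
    rw [reassoc_of% hl, pullback.lift_snd, pullback.lift_snd_assoc, Category.assoc])
  have hej : e ≫ j'' = jW' := by
    apply pullback.hom_ext
    · rw [Category.assoc, hj''t, hjW't, pullback.lift_fst_assoc, reassoc_of% hl, pullback.lift_fst,
        pullback.lift_fst_assoc]
    · rw [Category.assoc, hj''s, hjW's, pullback.lift_snd]
  haveI : IsOpenImmersion (e ≫ j'') := by rw [hej]; infer_instance
  haveI : IsOpenImmersion e := IsOpenImmersion.of_comp e j''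
  haveI : IsFinite (e ≫ s) := by rw [pullback.lift_snd]; infer_instance
  haveI : IsFinite e := IsFinite.of_comp e s
  let R : T.Opens := ⟨(Set.range e)ᶜ, e.isClosedMap.isClosed_range.isOpen_compl⟩
  haveI : IsClosedImmersion R.ι := .of_isPreimmersion R.ι (by
    rw [Scheme.Opens.range_ι]; exact e.isOpenEmbedding.isOpen_range.isClosed_compl)
  let jR : (R : Scheme.{u}) ⟶ pullback f (g'' ≫ c) := R.ι ≫ j''
  have hjRs : jR ≫ pullback.snd f (g'' ≫ c) = R.ι ≫ s := by rw [Category.assoc, hj''s]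
  have hcov : ∀ x, x ∈ Set.range e ∨ x ∈ Set.range R.ι := fun x => by
    rw [Scheme.Opens.range_ι]; exact Classical.em _
  have hdis : ∀ x, x ∈ Set.range e → x ∉ Set.range R.ι := fun x hx => by
    rw [Scheme.Opens.range_ι]; exact fun h => h hx
  -- fewer lifts in the rest
  haveI := finite_lifts π ξ (hfin _)
  have hcard : Nat.card (Lifts (jR ≫ pullback.snd f (g'' ≫ c)) ξ'') < Nat.card (Lifts π ξ) := by
    let e1 := (liftsPullback π (IsPullback.of_hasPullback π g'') ξ'').trans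
      (Equiv.subtypeEquivRight fun m => by rw [hξ''V])
    let i : Lifts (jR ≫ pullback.snd f (g'' ≫ c)) ξ'' → Lifts π ξ := fun m =>
      e1 ⟨m.1 ≫ R.ι, by rw [Category.assoc, ← hjRs]; exact m.2⟩
    have hinj : Function.Injective i := fun a b h =>
      Subtype.ext ((cancel_mono R.ι).1 (congrArg Subtype.val (e1.injective h)))
    have hns : (⟨p, hp⟩ : Lifts π ξ) ∉ Set.range i := by
      rintro ⟨m, hm⟩
      let qq : Spec (CommRingCat.of K) ⟶ W'' := pullback.lift qi ξ'' (by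
        rw [IsOpenImmersion.lift_fac_assoc, pullback.lift_snd])
      have hmm : m.1 ≫ R.ι = qq ≫ e := by
        apply pullback.hom_ext
        · rw [Category.assoc qq, pullback.lift_fst]
          refine (congrArg Subtype.val hm).trans ?_
          rw [← cancel_mono j, Category.assoc, hl, ← hq'r, ← Category.assoc]
          refine congrArg (· ≫ r) (Eq.symm ?_)
          apply pullback.hom_ext
          · rw [pullback.lift_fst, Category.assoc, pullback.lift_fst, pullback.lift_fst]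
          · rw [pullback.lift_snd, Category.assoc, pullback.lift_snd, pullback.lift_snd_assoc, IsOpenImmersion.lift_fac]
        · rw [Category.assoc qq, pullback.lift_snd, pullback.lift_snd, Category.assoc, ← hjRs]
          exact m.2
      exact hdis (pt (qq ≫ e)) ⟨pt qq, (Scheme.Hom.comp_apply _ _ _).symm⟩
        ⟨pt m.1, (Scheme.Hom.comp_apply _ _ _).symm.trans (congrArg pt hmm)⟩
    letI := Fintype.ofFinite (Lifts π ξ)
    haveI : Finite (Lifts (jR ≫ pullback.snd f (g'' ≫ c)) ξ'') := Finite.of_injective i hinj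
    letI := Fintype.ofFinite (Lifts (jR ≫ pullback.snd f (g'' ≫ c)) ξ'')
    have := Fintype.card_lt_of_injective_of_notMem i hinj hns
    rw [← Nat.card_eq_fintype_card, ← Nat.card_eq_fintype_card] at this
    exact this
  have hsplit : ∀ v, MoreMor.fibreIntegral π (fun u => w (pullback.fst f c (j u))) (g'' v) =
      MoreMor.fibreIntegral πi (fun u => w (pullback.fst f gi (Wi.ι u))) (h'' v) +
        MoreMor.fibreIntegral (jR ≫ pullback.snd f (g'' ≫ c)) (fun u => w (pullback.fst f (g'' ≫ c) (jR u))) v := by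
    intro v
    rw [← fibreIntegral_baseChange π (IsPullback.of_hasPullback π g'') _ v (hfin _),
      fibreIntegral_add s e R.ι hcov hdis _ v (finite_fibre_baseChange π (IsPullback.of_hasPullback π g'') _ (hfin _)),
      ← fibreIntegral_baseChange πi (IsPullback.of_hasPullback πi h'') _ v (finite_fibre πi _)]
    congr 1
    · congr 1
      · exact pullback.lift_snd _ _ _
      · funext z
        show w _ = w _
        congr 1
        show (e ≫ pullback.fst π g'' ≫ j ≫ pullback.fst f c) z = (pullback.fst πi h'' ≫ Wi.ι ≫ pullback.fst f gi) z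
        rw [← hjW't, ← hej, Category.assoc, hj''t]
    · congr 1
      · exact hjRs.symm
      · funext z
        show w _ = w _
        congr 1
        show (R.ι ≫ pullback.fst π g'' ≫ j ≫ pullback.fst f c) z = (jR ≫ pullback.fst f (g'' ≫ c)) z
        rw [Category.assoc, hj''t]
  have hu' : UniqueLift (Wi.ι ≫ pullback.snd f gi) (h'' (pt ξ'')) := by
    have : h'' (pt ξ'') = pt (qi ≫ Wi.ι ≫ pullback.snd f gi) := by
      rw [← Scheme.Hom.comp_apply, IsOpenImmersion.lift_fac_assoc, pullback.lift_snd]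
    rw [this]; exact hWu
  exact ⟨_, g'', ξ'', Vi, gi, Wi, h'', _, jR, T, pullback.fst π g'', s, R.ι, inferInstance, hgi, hξ''V, hWfin, hu',
    inferInstance, IsPullback.of_hasPullback π g'', inferInstance, hjRs, hcard, ⟨_, e, inferInstance, hcov⟩, hsplit⟩

/-- the splitting step. -/
theorem exists_step {K : Type u} [Field K] [IsAlgClosed K] {V U : Scheme.{u}} (c : V ⟶ Y) (j : U ⟶ pullback f c)
    [IsOpenImmersion j] [IsSeparated (j ≫ pullback.snd f c)] [LocallyQuasiFinite (j ≫ pullback.snd f c)]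
    (hfin : ∀ v, ((j ≫ pullback.snd f c) ⁻¹' {v}).Finite) (ξ : Spec (CommRingCat.of K) ⟶ V)
    (hpos : 0 < Nat.card (Lifts (j ≫ pullback.snd f c) ξ)) :
    ∃ (V' : Scheme.{u}) (g : V' ⟶ V) (ξ' : Spec (CommRingCat.of K) ⟶ V') (Vi : Scheme.{u}) (gi : Vi ⟶ Y)
      (Wi : (pullback f gi).Opens) (h : V' ⟶ Vi) (U' : Scheme.{u}) (j' : U' ⟶ pullback f (g ≫ c)) (T : Scheme.{u})
      (tU : T ⟶ U) (s : T ⟶ V') (k : U' ⟶ T),
      Etale g ∧ Etale gi ∧ ξ' ≫ g = ξ ∧ IsFinite (Wi.ι ≫ pullback.snd f gi) ∧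
      UniqueLift (Wi.ι ≫ pullback.snd f gi) (h (pt ξ')) ∧ IsOpenImmersion j' ∧
      IsPullback tU s (j ≫ pullback.snd f c) g ∧ IsClosedImmersion k ∧ j' ≫ pullback.snd f (g ≫ c) = k ≫ s ∧
      Nat.card (Lifts (j' ≫ pullback.snd f (g ≫ c)) ξ') < Nat.card (Lifts (j ≫ pullback.snd f c) ξ) ∧
      ∀ v, MoreMor.fibreIntegral (j ≫ pullback.snd f c) (fun u => w (pullback.fst f c (j u))) (g v) =
        MoreMor.fibreIntegral (Wi.ι ≫ pullback.snd f gi) (fun u => w (pullback.fst f gi (Wi.ι u))) (h v) +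
          MoreMor.fibreIntegral (j' ≫ pullback.snd f (g ≫ c)) (fun u => w (pullback.fst f (g ≫ c) (j' u))) v := by
  obtain ⟨V', g, ξ', Vi, gi, Wi, h, U', j', T, tU, s, k, h1, h2, h3, h4, h5, h6, h7, h8, h9, h10, -, h11⟩ :=
    exists_step' f w c j hfin ξ hpos
  exact ⟨V', g, ξ', Vi, gi, Wi, h, U', j', T, tU, s, k, h1, h2, h3, h4, h5, h6, h7, h8, h9, h10, h11⟩

theorem eventually_const (hw' : ∀ (Vi : Scheme.{u}) (gi : Vi ⟶ Y) [Etale gi] (Wi : (pullback f gi).Opens),
    IsFinite (Wi.ι ≫ pullback.snd f gi) → ∀ vi : Vi, UniqueLift (Wi.ι ≫ pullback.snd f gi) vi →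
      ∃ O : Vi.Opens, vi ∈ O ∧ ∀ v ∈ O, MoreMor.fibreIntegral (Wi.ι ≫ pullback.snd f gi) (fun u => w (pullback.fst f gi (Wi.ι u))) v =
        MoreMor.fibreIntegral (Wi.ι ≫ pullback.snd f gi) (fun u => w (pullback.fst f gi (Wi.ι u))) vi) {K : Type u} [Field K] [IsAlgClosed K] : ∀ (n : ℕ) {V U : Scheme.{u}} (c : V ⟶ Y) (j : U ⟶ pullback f c) [IsOpenImmersion j]
    [IsFinite (j ≫ pullback.snd f c)] (ξ : Spec (CommRingCat.of K) ⟶ V),
    Nat.card (Lifts (j ≫ pullback.snd f c) ξ) ≤ n →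
    ∃ O : V.Opens, pt ξ ∈ O ∧ ∀ v ∈ O, MoreMor.fibreIntegral (j ≫ pullback.snd f c) (fun u => w (pullback.fst f c (j u))) v =
      MoreMor.fibreIntegral (j ≫ pullback.snd f c) (fun u => w (pullback.fst f c (j u))) (pt ξ) := by
  intro n
  induction n with
  | zero =>
    intro V U c j _ _ ξ hn
    let π := j ≫ pullback.snd f c
    haveI := finite_lifts π ξ (finite_fibre π _)
    have hemp : ∀ u, π u ≠ pt ξ := fun u hu => by
      obtain ⟨p, -⟩ := nonempty_lifts π ξ u hu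
      have : 0 < Nat.card (Lifts π ξ) := Nat.card_pos_iff.2 ⟨⟨p⟩, inferInstance⟩
      have hn' : Nat.card (Lifts π ξ) ≤ 0 := hn
      omega
    have h0 : ∀ v, v ∉ Set.range π → MoreMor.fibreIntegral π (fun u => w (pullback.fst f c (j u))) v = 0 := fun v hv => by
      haveI : IsEmpty {u : U // π u = v} := ⟨fun u => hv ⟨u.1, u.2⟩⟩
      rw [MoreMor.fibreIntegral, finsum_of_isEmpty]
    refine ⟨⟨(Set.range π)ᶜ, π.isClosedMap.isClosed_range.isOpen_compl⟩, fun ⟨u, hu⟩ => hemp u hu, fun v hv => ?_⟩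
    rw [h0 v hv, h0 _ (fun ⟨u, hu⟩ => hemp u hu)]
  | succ n ih =>
    intro V U c j _ _ ξ hn
    let π := j ≫ pullback.snd f c
    rcases Nat.lt_or_ge (Nat.card (Lifts π ξ)) (n + 1) with hlt | hge
    · exact ih c j ξ (Nat.lt_succ_iff.1 hlt)
    obtain ⟨V', g, ξ', Vi, gi, Wi, h, U', j', T, tU, s, k, hg, hgi, hξ, hWfin, hWu, hj', hT, hk, hks, hlt', hsplit⟩ :=
      exists_step f w c j (finite_fibre π) ξ (show 0 < Nat.card (Lifts π ξ) by omega)
    haveI : IsFinite s := MorphismProperty.of_isPullback (P := @IsFinite) hT ‹_›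
    haveI : IsFinite (j' ≫ pullback.snd f (g ≫ c)) := by rw [hks]; infer_instance
    obtain ⟨O₁, hO₁, hO₁c⟩ := ih (g ≫ c) j' ξ' (by have : Nat.card (Lifts π ξ) ≤ n + 1 := hn; omega)
    obtain ⟨O₂', hO₂', hO₂c⟩ := hw' Vi gi Wi hWfin _ hWu
    refine ⟨⟨g '' (O₁ ⊓ (h ⁻¹ᵁ O₂') : TopologicalSpace.Opens _), g.isOpenMap _ (TopologicalSpace.Opens.isOpen _)⟩, ⟨pt ξ', ⟨hO₁, hO₂'⟩, ?_⟩, ?_⟩
    · rw [← Scheme.Hom.comp_apply, hξ]
    rintro _ ⟨v, ⟨hv₁, hv₂⟩, rfl⟩
    have hptξ : g (pt ξ') = pt ξ := by rw [← Scheme.Hom.comp_apply, hξ]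
    rw [← hptξ, hsplit v, hsplit (pt ξ'), hO₁c v hv₁, hO₂c (h v) hv₂]

/-- local constancy on all finite pieces follows from that on pieces with one geometric point. -/
theorem isLocallyConstant_of_pieces (hw' : ∀ (Vi : Scheme.{u}) (gi : Vi ⟶ Y) [Etale gi] (Wi : (pullback f gi).Opens),
    IsFinite (Wi.ι ≫ pullback.snd f gi) → ∀ vi : Vi, UniqueLift (Wi.ι ≫ pullback.snd f gi) vi →
      ∃ O : Vi.Opens, vi ∈ O ∧ ∀ v ∈ O, MoreMor.fibreIntegral (Wi.ι ≫ pullback.snd f gi) (fun u => w (pullback.fst f gi (Wi.ι u))) v =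
        MoreMor.fibreIntegral (Wi.ι ≫ pullback.snd f gi) (fun u => w (pullback.fst f gi (Wi.ι u))) vi)
    {V U : Scheme.{u}} (c : V ⟶ Y) (j : U ⟶ pullback f c) [IsOpenImmersion j] (π : U ⟶ V)
    (hπ : j ≫ pullback.snd f c = π) [IsFinite π] :
    IsLocallyConstant (MoreMor.fibreIntegral π (fun u => w (pullback.fst f c (j u)))) := by
  subst hπ
  rw [IsLocallyConstant.iff_exists_open]
  intro v
  obtain ⟨K, _, _, ξ, rfl⟩ := exists_geomPoint v
  obtain ⟨O, h1, h2⟩ := eventually_const f w hw' (Nat.card (Lifts (j ≫ pullback.snd f c) ξ)) c j ξ le_rfl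
  exact ⟨O, O.2, h1, h2⟩

/-- the fibre integral of a weighting along a finite piece of any base change is locally constant. -/
theorem isLocallyConstant_fibreIntegral (hw : MoreMor.IsWeighting f w) {V U : Scheme.{u}} (c : V ⟶ Y)
    (j : U ⟶ pullback f c) [IsOpenImmersion j] (π : U ⟶ V) (hπ : j ≫ pullback.snd f c = π) [IsFinite π] :
    IsLocallyConstant (MoreMor.fibreIntegral π (fun u => w (pullback.fst f c (j u)))) := by
  refine isLocallyConstant_of_pieces f w (fun Vi gi _ Wi hfin vi _ => ?_) c j π hπ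
  obtain ⟨O, h0, h1, h2⟩ := (hw Vi gi Wi hfin).exists_open vi
  exact ⟨⟨O, h0⟩, h1, h2⟩

end Groth.Agent.H2Weight
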