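import Mathlib
import Groth.Prelude.Def_MoreMor
import Groth.Agent.Lib.H2Weight
import Groth.Agent.Lib.H2WeightSplit
import Groth.Agent.Lib.H2WeightMain

/-! Etale localisation of a separated morphism at finitely many quasi-finite points of one fibre. -/

universe u

open CategoryTheory Limits AlgebraicGeometry

namespace Groth.Agent.H2Weight

/-- common refinement of finitely many pointed etale neighbourhoods. -/
theorem exists_common {S : Scheme.{u}} {K : Type u} [Field K] (ξ : Spec (CommRingCat.of K) ⟶ S) :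
    ∀ (n : ℕ) (V : Fin n → Scheme.{u}) (g : ∀ a, V a ⟶ S) (_ : ∀ a, Etale (g a))
      (ξp : ∀ a, Spec (CommRingCat.of K) ⟶ V a) (_ : ∀ a, ξp a ≫ g a = ξ),
    ∃ (U : Scheme.{u}) (G : U ⟶ S) (ξU : Spec (CommRingCat.of K) ⟶ U) (h : ∀ a, U ⟶ V a),
      Etale G ∧ ξU ≫ G = ξ ∧ ∀ a, h a ≫ g a = G ∧ ξU ≫ h a = ξp a := by
  intro n
  induction n with
  | zero => exact fun V g _ ξp _ => ⟨S, 𝟙 S, ξ, fun a => a.elim0, inferInstance, Category.comp_id _, fun a => a.elim0⟩
  | succ n ih =>
    intro V g hg ξp hξ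
    obtain ⟨U, G, ξU, h, hG, hξU, hh⟩ := ih (fun a => V a.succ) (fun a => g a.succ) (fun a => hg _) (fun a => ξp a.succ) (fun a => hξ _)
    haveI := hg 0
    let U' := pullback (g 0) G
    refine ⟨U', pullback.snd _ _ ≫ G, pullback.lift (ξp 0) ξU (by rw [hξ, hξU]),
      Fin.cases (pullback.fst (g 0) G) (fun a => pullback.snd (g 0) G ≫ h a), inferInstance, ?_, ?_⟩
    · rw [pullback.lift_snd_assoc, hξU]
    · refine Fin.cases ?_ fun a => ?_
      · exact ⟨pullback.condition, pullback.lift_fst _ _ _⟩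
      · simp only [Fin.cases_succ]
        exact ⟨by rw [Category.assoc, (hh a).1], by rw [pullback.lift_snd_assoc, (hh a).2]⟩

theorem etale_localisation_multi {X S : Scheme.{u}} (f : X ⟶ S) [LocallyOfFiniteType f] [IsSeparated f] (s : S) {ι : Type}
    [Finite ι] (x : ι → ↑X) (hinj : Function.Injective x) (hs : ∀ i, f (x i) = s) (hx : ∀ i, f.QuasiFiniteAt (x i)) :
    ∃ (U : Scheme.{u}) (g : U ⟶ S) (u : U), Etale g ∧ g u = s ∧ ∃ (J : ι → Type) (_ : ∀ i, Finite (J i))
      (V : ∀ i, J i → (pullback f g).Opens) (v : ∀ i, J i → ↑(pullback f g)),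
      (∀ i j, IsClopen ((V i j : Set ↑(pullback f g)))) ∧
      (∀ i j i' j', ((V i j : Set ↑(pullback f g)) ∩ (V i' j')).Nonempty → i = i' ∧ HEq j j') ∧
      (∀ i j, v i j ∈ V i j ∧ IsFinite ((V i j).ι ≫ pullback.snd f g) ∧ pullback.snd f g (v i j) = u ∧
        (∀ w : ↑(pullback f g), w ∈ V i j → pullback.snd f g w = u → w = v i j) ∧
        (letI := ((pullback.snd f g).residueFieldMap (v i j)).hom.toAlgebra;
          IsPurelyInseparable ↑(U.residueField (pullback.snd f g (v i j))) ↑((pullback f g).residueField (v i j))) ∧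
        pullback.fst f g (v i j) = x i) ∧
      (∀ (w : ↑(pullback f g)) (i : ι), pullback.snd f g w = u → pullback.fst f g w = x i → ∃ j, w ∈ V i j) := by
  classical
  let Xq : X.Opens := f.quasiFiniteLocus
  let fq := Xq.ι ≫ f
  let x' : ι → (Xq : Scheme.{u}) := fun i => ⟨x i, hx i⟩
  obtain ⟨K, _, _, ξ, hξs⟩ := exists_geomPoint s
  let P := {p : Lifts fq ξ // ∃ i, pt p.1 = x' i}
  haveI : Finite P := by
    obtain ⟨j, ⟨e, he⟩⟩ := nonempty_lifts_equiv fq ξ
    haveI := fun u => (card_embeddings fq ξ j u).2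
    have hu : ∀ i, fq (x' i) = pt ξ := fun i => by rw [Scheme.Hom.comp_apply, hξs]; exact hs i
    refine Set.Finite.to_subtype (s := {p : Lifts fq ξ | ∃ i, pt p.1 = x' i}) ((Set.finite_iUnion fun i =>
      Set.finite_range fun m => e.symm ⟨⟨x' i, hu i⟩, m⟩).subset ?_)
    rintro p ⟨i, hi⟩
    refine Set.mem_iUnion.2 ⟨i, ?_⟩
    have h1 : (e p).1 = ⟨x' i, hu i⟩ := Subtype.ext ((he p).trans hi)
    rcases h2 : e p with ⟨u0, m⟩
    rw [h2] at h1
    cases h1
    exact ⟨m, (congrArg e.symm h2).symm.trans (e.symm_apply_apply p)⟩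
  obtain ⟨n, ⟨eP⟩⟩ := Finite.exists_equiv_fin P
  let p : Fin n → (Spec (CommRingCat.of K) ⟶ (Xq : Scheme.{u})) := fun a => (eP.symm a).1.1
  have hpf : ∀ a, p a ≫ fq = ξ := fun a => (eP.symm a).1.2
  have hpinj : Function.Injective p := fun a b h => eP.symm.injective (Subtype.ext (Subtype.ext h))
  choose Vp gp hgp W q hqp hWfin hWu using fun a => exists_piece fq (p a)
  obtain ⟨U, G, ξU, h, hG, hξU, hh⟩ := exists_common ξ n Vp gp hgp (fun a => q a ≫ (W a).ι ≫ pullback.snd fq (gp a))
    (fun a => by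
      rw [Category.assoc, Category.assoc, ← pullback.condition]
      simp only [← Category.assoc] at hqp ⊢
      rw [hqp a, hpf a])
  let m : pullback fq G ⟶ pullback f G := pullback.map _ _ _ _ Xq.ι (𝟙 _) (𝟙 _) (by simp [fq]) (by simp)
  -- the pieces over `U`
  have hex : ∀ a, ∃ (T : Scheme.{u}) (l : T ⟶ pullback f G) (t : T ⟶ W a) (s : T ⟶ U), IsOpenImmersion l ∧
      IsPullback t s ((W a).ι ≫ pullback.snd fq (gp a)) (h a) ∧ l ≫ pullback.snd f G = s ∧
      l ≫ pullback.fst f G = (t ≫ (W a).ι ≫ pullback.fst fq (gp a)) ≫ Xq.ι := by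
    intro a
    obtain ⟨jq, hjo, hjs, hjt⟩ := exists_openImmersion_pullback fq (gp a) (W a).ι (h a)
      (IsPullback.of_hasPullback ((W a).ι ≫ pullback.snd fq (gp a)) (h a))
    refine ⟨_, jq ≫ (pullback.congrHom rfl (hh a).1).hom ≫ m, pullback.fst _ _, pullback.snd _ _, inferInstance,
      IsPullback.of_hasPullback _ _, ?_, ?_⟩
    · simp only [m, pullback.congrHom_hom, pullback.map, Category.assoc, pullback.lift_snd, Category.comp_id]
      exact hjs
    · simp only [m, pullback.congrHom_hom, pullback.map, Category.assoc, pullback.lift_fst, Category.comp_id,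
        pullback.lift_fst_assoc]
      rw [reassoc_of% hjt]
  choose T l t sT hlo hsq hls hlf using hex
  have hfin : ∀ a, IsFinite (sT a) := fun a => MorphismProperty.of_isPullback (P := @IsFinite) (hsq a) (hWfin a)
  have hptU : ∀ a, h a (pt ξU) = pt (q a ≫ (W a).ι ≫ pullback.snd fq (gp a)) := fun a => by
    rw [← Scheme.Hom.comp_apply, (hh a).2]
  have huT : ∀ a, UniqueLift (sT a) (pt ξU) := fun a => (hWu a).baseChange (hsq a) _ (hptU a)
  let qT : ∀ a, Spec (CommRingCat.of K) ⟶ T a := fun a => (hsq a).lift (q a) ξU ((hh a).2).symm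
  have hqT1 : ∀ a, (qT a ≫ l a) ≫ pullback.fst f G = p a ≫ Xq.ι := fun a => by
    rw [Category.assoc, hlf, ← Category.assoc, ← Category.assoc, (hsq a).lift_fst, hqp a]
  have hqT2 : ∀ a, qT a ≫ sT a = ξU := fun a => (hsq a).lift_snd _ _ _
  have hqT3 : ∀ a, (qT a ≫ l a) ≫ pullback.snd f G = ξU := fun a => by rw [Category.assoc, hls, hqT2]
  let v : Fin n → ↑(pullback f G) := fun a => pt (qT a ≫ l a)
  have hvu : ∀ a, pullback.snd f G (v a) = pt ξU := fun a => by
    show pullback.snd f G ((qT a ≫ l a) _) = _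
    rw [← Scheme.Hom.comp_apply, hqT3]
  let A : Fin n → (pullback f G).Opens := fun a => (l a).opensRange
  have hvA : ∀ a, v a ∈ A a := fun a => ⟨pt (qT a), (Scheme.Hom.comp_apply _ _ _).symm⟩
  have huniq : ∀ a w, w ∈ A a → pullback.snd f G w = pt ξU → w = v a := by
    rintro a _ ⟨z, rfl⟩ hz
    haveI := hfin a
    rw [← Scheme.Hom.comp_apply, hls] at hz
    rw [(huT a).eq_point hz (show sT a (pt (qT a)) = pt ξU by rw [← Scheme.Hom.comp_apply, hqT2])]
    exact (Scheme.Hom.comp_apply _ _ _).symm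
  have hvinj : Function.Injective v := by
    intro a b hab
    have hl : Set.range (qT b ≫ l b) ⊆ Set.range (l a) := by
      rintro _ ⟨k, rfl⟩
      rw [Subsingleton.elim k (IsLocalRing.closedPoint K)]
      show v b ∈ A a
      rw [← hab]; exact hvA a
    let r := IsOpenImmersion.lift (l a) (qT b ≫ l b) hl
    have hr : r ≫ sT a = ξU := by rw [← hls a, ← Category.assoc, IsOpenImmersion.lift_fac]; exact hqT3 b
    haveI := huT a K ξU rfl
    have he : (⟨r, hr⟩ : Lifts (sT a) ξU) = ⟨qT a, hqT2 a⟩ := Subsingleton.elim _ _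
    refine hpinj ((cancel_mono Xq.ι).1 ?_)
    rw [← hqT1 a, ← hqT1 b, ← IsOpenImmersion.lift_fac (l a) (qT b ≫ l b) hl]
    exact congrArg (fun z => (z ≫ l a) ≫ pullback.fst f G) (congrArg Subtype.val he).symm
  haveI : IsSeparated (pullback.snd f G) := inferInstance
  have hAfin : ∀ a, IsFinite ((A a).ι ≫ pullback.snd f G) := fun a => by
    haveI := hfin a
    rw [← Scheme.Hom.isoOpensRange_inv_comp (l a), Category.assoc, hls]
    infer_instance
  have hAclosed : ∀ a, IsClosed (A a : Set ↑(pullback f G)) := fun a => by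
    haveI : IsFinite (l a ≫ pullback.snd f G) := by rw [hls]; exact hfin a
    haveI : IsFinite (l a) := IsFinite.of_comp (l a) (pullback.snd f G)
    exact (l a).isClosedMap.isClosed_range
  let B : Fin n → (pullback f G).Opens := fun a =>
    ⟨(A a : Set ↑(pullback f G)) ∩ (⋃ b ∈ {b | b ≠ a}, (A b : Set ↑(pullback f G)))ᶜ,
      (A a).2.inter ((Set.toFinite _).isClosed_biUnion fun b _ => hAclosed b).isOpen_compl⟩
  have hBclosed : ∀ a, IsClosed (B a : Set ↑(pullback f G)) := fun a =>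
    (hAclosed a).inter (isOpen_biUnion fun b _ => (A b).2).isClosed_compl
  have hvB : ∀ a, v a ∈ B a := fun a => ⟨hvA a, fun hmem => by
    obtain ⟨b, hb, hb'⟩ := Set.mem_iUnion₂.1 hmem
    exact hb (hvinj (huniq b (v a) hb' (hvu a))).symm⟩
  have hBfin : ∀ a, IsFinite ((B a).ι ≫ pullback.snd f G) := fun a => by
    have hle : B a ≤ A a := fun w hw => hw.1
    haveI : IsClosedImmersion (B a).ι := .of_isPreimmersion _ (by rw [Scheme.Opens.range_ι]; exact hBclosed a)
    haveI : IsClosedImmersion ((pullback f G).homOfLE hle ≫ (A a).ι) := by rw [Scheme.homOfLE_ι]; infer_instance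
    haveI : IsClosedImmersion ((pullback f G).homOfLE hle) := IsClosedImmersion.of_comp _ (A a).ι
    haveI := hAfin a
    rw [← Scheme.homOfLE_ι _ hle, Category.assoc]
    infer_instance
  have hpi : ∀ a, letI := ((pullback.snd f G).residueFieldMap (v a)).hom.toAlgebra
      IsPurelyInseparable ↑(U.residueField (pullback.snd f G (v a))) ↑((pullback f G).residueField (v a)) := by
    intro a
    letI := ((pullback.snd f G).residueFieldMap (v a)).hom.toAlgebra
    rw [isPurelyInseparable_iff_subsingleton_emb]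
    let F := U.residueField (pullback.snd f G (v a))
    let E := (pullback f G).residueField (v a)
    let L := AlgebraicClosure E
    let P2 := pullback.snd f G
    let toP : Field.Emb F E → (Spec (CommRingCat.of L) ⟶ pullback f G) := fun φ =>
      Spec.map (CommRingCat.ofHom φ.toRingHom) ≫ (pullback f G).fromSpecResidueField (v a)
    let η : Spec (CommRingCat.of L) ⟶ U :=
      Spec.map (CommRingCat.ofHom (algebraMap F L)) ≫ U.fromSpecResidueField (pullback.snd f G (v a))
    have h1 : ∀ φ, toP φ ≫ pullback.snd f G = η := fun φ => by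
      rw [Category.assoc, ← Scheme.Hom.SpecMap_residueFieldMap_fromSpecResidueField, ← Category.assoc, ← Spec.map_comp]
      congr 2
      exact CommRingCat.hom_ext (RingHom.ext fun r => φ.commutes r)
    have hη : pt η = pt ξU := by
      show (Spec.map _ ≫ U.fromSpecResidueField _) _ = _
      rw [Scheme.Hom.comp_apply, Scheme.fromSpecResidueField_apply, hvu]
    have h2 : ∀ φ, Set.range (toP φ) ⊆ Set.range (l a) := fun φ => by
      rintro _ ⟨k, rfl⟩
      show (Spec.map _ ≫ (pullback f G).fromSpecResidueField (v a)) k ∈ A a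
      rw [Scheme.Hom.comp_apply, Scheme.fromSpecResidueField_apply]
      exact hvA a
    haveI := huT a L η hη
    refine ⟨fun φ χ => ?_⟩
    have h3 : (⟨IsOpenImmersion.lift (l a) (toP φ) (h2 φ), by
        rw [← hls a, ← Category.assoc, IsOpenImmersion.lift_fac, h1]⟩ : Lifts (sT a) η) =
        ⟨IsOpenImmersion.lift (l a) (toP χ) (h2 χ), by
        rw [← hls a, ← Category.assoc, IsOpenImmersion.lift_fac, h1]⟩ := Subsingleton.elim _ _
    have h4 := congrArg (fun z : Lifts (sT a) η => z.1 ≫ l a) h3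
    simp only [IsOpenImmersion.lift_fac] at h4
    have h5 := Spec.map_injective ((cancel_mono _).1 h4)
    exact AlgHom.ext fun e => congrArg (fun z => CommRingCat.Hom.hom z e) h5
  have hvx : ∀ a i, pt (p a) = x' i → pullback.fst f G (v a) = x i := fun a i hi => by
    show pullback.fst f G ((qT a ≫ l a) _) = x i
    rw [← Scheme.Hom.comp_apply, hqT1, Scheme.Hom.comp_apply]
    exact congrArg Xq.ι hi
  refine ⟨U, G, pt ξU, hG, ?_, fun i => {a : Fin n // pt (p a) = x' i}, fun i => inferInstance,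
    fun i j => B j.1, fun i j => v j.1, fun i j => ⟨hBclosed j.1, (B j.1).2⟩, ?_, ?_, ?_⟩
  · rw [← Scheme.Hom.comp_apply, hξU]; exact hξs
  · rintro i ⟨a, ha⟩ i' ⟨b, hb⟩ ⟨w, ⟨hwa, -⟩, hwb, hwb'⟩
    obtain rfl : a = b := by
      by_contra hne
      exact hwb' (Set.mem_iUnion₂.2 ⟨a, hne, hwa⟩)
    obtain rfl : i = i' := hinj (congrArg Xq.ι (ha.symm.trans hb))
    exact ⟨rfl, HEq.rfl⟩
  · rintro i ⟨a, ha⟩
    exact ⟨hvB a, hBfin a, hvu a, fun w hw hwu => huniq a w hw.1 hwu, hpi a, hvx a i ha⟩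
  intro w i hwu hwx
  haveI : LocallyQuasiFinite (((pullback.fst f G) ⁻¹ᵁ Xq).ι ≫ pullback.snd f G) :=
    MorphismProperty.of_isPullback (P := @LocallyQuasiFinite)
      ((isPullback_morphismRestrict (pullback.fst f G) Xq).paste_vert (IsPullback.of_hasPullback f G))
      (inferInstance : LocallyQuasiFinite fq)
  obtain ⟨r, hr⟩ := nonempty_lifts (((pullback.fst f G) ⁻¹ᵁ Xq).ι ≫ pullback.snd f G) ξU
    ⟨w, show pullback.fst f G w ∈ Xq by rw [hwx]; exact hx i⟩ hwu
  have hc : ((pullback.fst f G ∣_ Xq) ≫ fq) = ((pullback.fst f G) ⁻¹ᵁ Xq).ι ≫ pullback.snd f G ≫ G := by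
    simp only [fq, ← Category.assoc, morphismRestrict_ι]
    simp only [Category.assoc, pullback.condition]
  have hl0 : (r.1 ≫ (pullback.fst f G ∣_ Xq)) ≫ fq = ξ := by
    rw [Category.assoc, hc]
    refine Eq.trans ?_ hξU
    refine Eq.trans ?_ (congrArg (· ≫ G) r.2)
    simp only [Category.assoc]
  have hpt0 : pt (r.1 ≫ (pullback.fst f G ∣_ Xq)) = x' i := by
    refine Xq.ι.isOpenEmbedding.injective ?_
    show Xq.ι ((r.1 ≫ _) _) = x i
    rw [← Scheme.Hom.comp_apply, Category.assoc, morphismRestrict_ι, Scheme.Hom.comp_apply,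
      show r.1 (IsLocalRing.closedPoint K) = _ from hr, Scheme.Hom.comp_apply]
    exact hwx
  obtain ⟨a, ha⟩ : ∃ a, p a = r.1 ≫ (pullback.fst f G ∣_ Xq) :=
    ⟨eP ⟨⟨_, hl0⟩, i, hpt0⟩, congrArg (fun z : P => z.1.1) (eP.symm_apply_apply _)⟩
  refine ⟨⟨a, by rw [ha]; exact hpt0⟩, ?_⟩
  have : r.1 ≫ ((pullback.fst f G) ⁻¹ᵁ Xq).ι = qT a ≫ l a := by
    apply pullback.hom_ext
    · rw [hqT1, ha]; simp only [Category.assoc, morphismRestrict_ι]
    · rw [hqT3]; exact (Category.assoc _ _ _).trans r.2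
  have hw : v a = w := by
    show pt (qT a ≫ l a) = w
    rw [← this]
    exact (Scheme.Hom.comp_apply _ _ _).trans (congrArg _ hr)
  exact hw ▸ hvB a

/-- the same without separatedness. -/
theorem etale_localisation_multi_points {X S : Scheme.{u}} (f : X ⟶ S) [LocallyOfFiniteType f] (s : S) {ι : Type}
    [Finite ι] (x : ι → ↑X) (hinj : Function.Injective x) (hs : ∀ i, f (x i) = s) (hx : ∀ i, f.QuasiFiniteAt (x i)) :
    ∃ (U : Scheme.{u}) (g : U ⟶ S) (u : U), Etale g ∧ g u = s ∧ ∃ (J : ι → Type) (_ : ∀ i, Finite (J i))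
      (V : ∀ i, J i → (pullback f g).Opens) (v : ∀ i, J i → ↑(pullback f g)),
      (∀ i j, v i j ∈ V i j ∧ IsFinite ((V i j).ι ≫ pullback.snd f g) ∧ pullback.snd f g (v i j) = u ∧
        (∀ w : ↑(pullback f g), w ∈ V i j → pullback.snd f g w = u → w = v i j) ∧
        (letI := ((pullback.snd f g).residueFieldMap (v i j)).hom.toAlgebra;
          Module.Finite ↑(U.residueField (pullback.snd f g (v i j))) ↑((pullback f g).residueField (v i j)) ∧
          IsPurelyInseparable ↑(U.residueField (pullback.snd f g (v i j))) ↑((pullback f g).residueField (v i j))) ∧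
        pullback.fst f g (v i j) = x i) ∧
      (∀ i j i' j', v i j = v i' j' → i = i' ∧ HEq j j') ∧
      (∀ (w : ↑(pullback f g)) (i : ι), pullback.snd f g w = u → pullback.fst f g w = x i → ∃ j, w = v i j) := by
  classical
  let Xq : X.Opens := f.quasiFiniteLocus
  let fq := Xq.ι ≫ f
  let x' : ι → (Xq : Scheme.{u}) := fun i => ⟨x i, hx i⟩
  obtain ⟨K, _, _, ξ, hξs⟩ := exists_geomPoint s
  let P := {p : Lifts fq ξ // ∃ i, pt p.1 = x' i}
  haveI : Finite P := by
    obtain ⟨j, ⟨e, he⟩⟩ := nonempty_lifts_equiv fq ξ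
    haveI := fun u => (card_embeddings fq ξ j u).2
    have hu : ∀ i, fq (x' i) = pt ξ := fun i => by rw [Scheme.Hom.comp_apply, hξs]; exact hs i
    refine Set.Finite.to_subtype (s := {p : Lifts fq ξ | ∃ i, pt p.1 = x' i}) ((Set.finite_iUnion fun i =>
      Set.finite_range fun m => e.symm ⟨⟨x' i, hu i⟩, m⟩).subset ?_)
    rintro p ⟨i, hi⟩
    refine Set.mem_iUnion.2 ⟨i, ?_⟩
    have h1 : (e p).1 = ⟨x' i, hu i⟩ := Subtype.ext ((he p).trans hi)
    rcases h2 : e p with ⟨u0, m⟩
    rw [h2] at h1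
    cases h1
    exact ⟨m, (congrArg e.symm h2).symm.trans (e.symm_apply_apply p)⟩
  obtain ⟨n, ⟨eP⟩⟩ := Finite.exists_equiv_fin P
  let p : Fin n → (Spec (CommRingCat.of K) ⟶ (Xq : Scheme.{u})) := fun a => (eP.symm a).1.1
  have hpf : ∀ a, p a ≫ fq = ξ := fun a => (eP.symm a).1.2
  have hpinj : Function.Injective p := fun a b h => eP.symm.injective (Subtype.ext (Subtype.ext h))
  choose Vp gp hgp W q hqp hWfin hWu using fun a => exists_piece fq (p a)
  obtain ⟨U, G, ξU, h, hG, hξU, hh⟩ := exists_common ξ n Vp gp hgp (fun a => q a ≫ (W a).ι ≫ pullback.snd fq (gp a))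
    (fun a => by
      rw [Category.assoc, Category.assoc, ← pullback.condition]
      simp only [← Category.assoc] at hqp ⊢
      rw [hqp a, hpf a])
  let m : pullback fq G ⟶ pullback f G := pullback.map _ _ _ _ Xq.ι (𝟙 _) (𝟙 _) (by simp [fq]) (by simp)
  -- the pieces over `U`
  have hex : ∀ a, ∃ (T : Scheme.{u}) (l : T ⟶ pullback f G) (t : T ⟶ W a) (s : T ⟶ U), IsOpenImmersion l ∧
      IsPullback t s ((W a).ι ≫ pullback.snd fq (gp a)) (h a) ∧ l ≫ pullback.snd f G = s ∧
      l ≫ pullback.fst f G = (t ≫ (W a).ι ≫ pullback.fst fq (gp a)) ≫ Xq.ι := by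
    intro a
    obtain ⟨jq, hjo, hjs, hjt⟩ := exists_openImmersion_pullback fq (gp a) (W a).ι (h a)
      (IsPullback.of_hasPullback ((W a).ι ≫ pullback.snd fq (gp a)) (h a))
    refine ⟨_, jq ≫ (pullback.congrHom rfl (hh a).1).hom ≫ m, pullback.fst _ _, pullback.snd _ _, inferInstance,
      IsPullback.of_hasPullback _ _, ?_, ?_⟩
    · simp only [m, pullback.congrHom_hom, pullback.map, Category.assoc, pullback.lift_snd, Category.comp_id]
      exact hjs
    · simp only [m, pullback.congrHom_hom, pullback.map, Category.assoc, pullback.lift_fst, Category.comp_id,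
        pullback.lift_fst_assoc]
      rw [reassoc_of% hjt]
  choose T l t sT hlo hsq hls hlf using hex
  have hfin : ∀ a, IsFinite (sT a) := fun a => MorphismProperty.of_isPullback (P := @IsFinite) (hsq a) (hWfin a)
  have hptU : ∀ a, h a (pt ξU) = pt (q a ≫ (W a).ι ≫ pullback.snd fq (gp a)) := fun a => by
    rw [← Scheme.Hom.comp_apply, (hh a).2]
  have huT : ∀ a, UniqueLift (sT a) (pt ξU) := fun a => (hWu a).baseChange (hsq a) _ (hptU a)
  let qT : ∀ a, Spec (CommRingCat.of K) ⟶ T a := fun a => (hsq a).lift (q a) ξU ((hh a).2).symm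
  have hqT1 : ∀ a, (qT a ≫ l a) ≫ pullback.fst f G = p a ≫ Xq.ι := fun a => by
    rw [Category.assoc, hlf, ← Category.assoc, ← Category.assoc, (hsq a).lift_fst, hqp a]
  have hqT2 : ∀ a, qT a ≫ sT a = ξU := fun a => (hsq a).lift_snd _ _ _
  have hqT3 : ∀ a, (qT a ≫ l a) ≫ pullback.snd f G = ξU := fun a => by rw [Category.assoc, hls, hqT2]
  let v : Fin n → ↑(pullback f G) := fun a => pt (qT a ≫ l a)
  have hvu : ∀ a, pullback.snd f G (v a) = pt ξU := fun a => by
    show pullback.snd f G ((qT a ≫ l a) _) = _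
    rw [← Scheme.Hom.comp_apply, hqT3]
  let A : Fin n → (pullback f G).Opens := fun a => (l a).opensRange
  have hvA : ∀ a, v a ∈ A a := fun a => ⟨pt (qT a), (Scheme.Hom.comp_apply _ _ _).symm⟩
  have huniq : ∀ a w, w ∈ A a → pullback.snd f G w = pt ξU → w = v a := by
    rintro a _ ⟨z, rfl⟩ hz
    haveI := hfin a
    rw [← Scheme.Hom.comp_apply, hls] at hz
    rw [(huT a).eq_point hz (show sT a (pt (qT a)) = pt ξU by rw [← Scheme.Hom.comp_apply, hqT2])]
    exact (Scheme.Hom.comp_apply _ _ _).symm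
  have hvinj : Function.Injective v := by
    intro a b hab
    have hl : Set.range (qT b ≫ l b) ⊆ Set.range (l a) := by
      rintro _ ⟨k, rfl⟩
      rw [Subsingleton.elim k (IsLocalRing.closedPoint K)]
      show v b ∈ A a
      rw [← hab]; exact hvA a
    let r := IsOpenImmersion.lift (l a) (qT b ≫ l b) hl
    have hr : r ≫ sT a = ξU := by rw [← hls a, ← Category.assoc, IsOpenImmersion.lift_fac]; exact hqT3 b
    haveI := huT a K ξU rfl
    have he : (⟨r, hr⟩ : Lifts (sT a) ξU) = ⟨qT a, hqT2 a⟩ := Subsingleton.elim _ _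
    refine hpinj ((cancel_mono Xq.ι).1 ?_)
    rw [← hqT1 a, ← hqT1 b, ← IsOpenImmersion.lift_fac (l a) (qT b ≫ l b) hl]
    exact congrArg (fun z => (z ≫ l a) ≫ pullback.fst f G) (congrArg Subtype.val he).symm
  have hAfin : ∀ a, IsFinite ((A a).ι ≫ pullback.snd f G) := fun a => by
    haveI := hfin a
    rw [← Scheme.Hom.isoOpensRange_inv_comp (l a), Category.assoc, hls]
    infer_instance
  have hpi : ∀ a, letI := ((pullback.snd f G).residueFieldMap (v a)).hom.toAlgebra
      IsPurelyInseparable ↑(U.residueField (pullback.snd f G (v a))) ↑((pullback f G).residueField (v a)) := by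
    intro a
    letI := ((pullback.snd f G).residueFieldMap (v a)).hom.toAlgebra
    rw [isPurelyInseparable_iff_subsingleton_emb]
    let F := U.residueField (pullback.snd f G (v a))
    let E := (pullback f G).residueField (v a)
    let L := AlgebraicClosure E
    let P2 := pullback.snd f G
    let toP : Field.Emb F E → (Spec (CommRingCat.of L) ⟶ pullback f G) := fun φ =>
      Spec.map (CommRingCat.ofHom φ.toRingHom) ≫ (pullback f G).fromSpecResidueField (v a)
    let η : Spec (CommRingCat.of L) ⟶ U :=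
      Spec.map (CommRingCat.ofHom (algebraMap F L)) ≫ U.fromSpecResidueField (pullback.snd f G (v a))
    have h1 : ∀ φ, toP φ ≫ pullback.snd f G = η := fun φ => by
      rw [Category.assoc, ← Scheme.Hom.SpecMap_residueFieldMap_fromSpecResidueField, ← Category.assoc, ← Spec.map_comp]
      congr 2
      exact CommRingCat.hom_ext (RingHom.ext fun r => φ.commutes r)
    have hη : pt η = pt ξU := by
      show (Spec.map _ ≫ U.fromSpecResidueField _) _ = _
      rw [Scheme.Hom.comp_apply, Scheme.fromSpecResidueField_apply, hvu]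
    have h2 : ∀ φ, Set.range (toP φ) ⊆ Set.range (l a) := fun φ => by
      rintro _ ⟨k, rfl⟩
      show (Spec.map _ ≫ (pullback f G).fromSpecResidueField (v a)) k ∈ A a
      rw [Scheme.Hom.comp_apply, Scheme.fromSpecResidueField_apply]
      exact hvA a
    haveI := huT a L η hη
    refine ⟨fun φ χ => ?_⟩
    have h3 : (⟨IsOpenImmersion.lift (l a) (toP φ) (h2 φ), by
        rw [← hls a, ← Category.assoc, IsOpenImmersion.lift_fac, h1]⟩ : Lifts (sT a) η) =
        ⟨IsOpenImmersion.lift (l a) (toP χ) (h2 χ), by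
        rw [← hls a, ← Category.assoc, IsOpenImmersion.lift_fac, h1]⟩ := Subsingleton.elim _ _
    have h4 := congrArg (fun z : Lifts (sT a) η => z.1 ≫ l a) h3
    simp only [IsOpenImmersion.lift_fac] at h4
    have h5 := Spec.map_injective ((cancel_mono _).1 h4)
    exact AlgHom.ext fun e => congrArg (fun z => CommRingCat.Hom.hom z e) h5
  have hvx : ∀ a i, pt (p a) = x' i → pullback.fst f G (v a) = x i := fun a i hi => by
    show pullback.fst f G ((qT a ≫ l a) _) = x i
    rw [← Scheme.Hom.comp_apply, hqT1, Scheme.Hom.comp_apply]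
    exact congrArg Xq.ι hi
  have hres : ∀ a, ((pullback.snd f G).residueFieldMap (v a)).hom.Finite := fun a => by
    haveI := hAfin a
    let z : (A a : Scheme.{u}) := ⟨v a, hvA a⟩
    have h1 := finite_residueField ((A a).ι ≫ pullback.snd f G) z
    have h2 : (((A a).ι ≫ pullback.snd f G).residueFieldMap z).hom.Finite := h1
    rw [Scheme.residueFieldMap_comp] at h2
    haveI : IsIso ((A a).ι.residueFieldMap z) := inferInstance
    have h3 : ((((pullback.snd f G).residueFieldMap ((A a).ι z)) ≫ (A a).ι.residueFieldMap z) ≫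
        inv ((A a).ι.residueFieldMap z)).hom.Finite :=
      RingHom.Finite.comp (RingHom.Finite.of_surjective _ (ConcreteCategory.bijective_of_isIso (inv ((A a).ι.residueFieldMap z))).2) h2
    rw [Category.assoc, IsIso.hom_inv_id, Category.comp_id] at h3
    exact h3
  refine ⟨U, G, pt ξU, hG, ?_, fun i => {a : Fin n // pt (p a) = x' i}, fun i => inferInstance,
    fun i j => A j.1, fun i j => v j.1, ?_, ?_, ?_⟩
  · rw [← Scheme.Hom.comp_apply, hξU]; exact hξs
  · rintro i ⟨a, ha⟩
    exact ⟨hvA a, hAfin a, hvu a, fun w hw hwu => huniq a w hw hwu, ⟨hres a, hpi a⟩, hvx a i ha⟩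
  · rintro i ⟨a, ha⟩ i' ⟨b, hb⟩ hab
    obtain rfl : a = b := hvinj hab
    obtain rfl : i = i' := hinj (congrArg Xq.ι (ha.symm.trans hb))
    exact ⟨rfl, HEq.rfl⟩
  intro w i hwu hwx
  haveI : LocallyQuasiFinite (((pullback.fst f G) ⁻¹ᵁ Xq).ι ≫ pullback.snd f G) :=
    MorphismProperty.of_isPullback (P := @LocallyQuasiFinite)
      ((isPullback_morphismRestrict (pullback.fst f G) Xq).paste_vert (IsPullback.of_hasPullback f G))
      (inferInstance : LocallyQuasiFinite fq)
  obtain ⟨r, hr⟩ := nonempty_lifts (((pullback.fst f G) ⁻¹ᵁ Xq).ι ≫ pullback.snd f G) ξU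
    ⟨w, show pullback.fst f G w ∈ Xq by rw [hwx]; exact hx i⟩ hwu
  have hc : ((pullback.fst f G ∣_ Xq) ≫ fq) = ((pullback.fst f G) ⁻¹ᵁ Xq).ι ≫ pullback.snd f G ≫ G := by
    simp only [fq, ← Category.assoc, morphismRestrict_ι]
    simp only [Category.assoc, pullback.condition]
  have hl0 : (r.1 ≫ (pullback.fst f G ∣_ Xq)) ≫ fq = ξ := by
    rw [Category.assoc, hc]
    refine Eq.trans ?_ hξU
    refine Eq.trans ?_ (congrArg (· ≫ G) r.2)
    simp only [Category.assoc]
  have hpt0 : pt (r.1 ≫ (pullback.fst f G ∣_ Xq)) = x' i := by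
    refine Xq.ι.isOpenEmbedding.injective ?_
    show Xq.ι ((r.1 ≫ _) _) = x i
    rw [← Scheme.Hom.comp_apply, Category.assoc, morphismRestrict_ι, Scheme.Hom.comp_apply,
      show r.1 (IsLocalRing.closedPoint K) = _ from hr, Scheme.Hom.comp_apply]
    exact hwx
  obtain ⟨a, ha⟩ : ∃ a, p a = r.1 ≫ (pullback.fst f G ∣_ Xq) :=
    ⟨eP ⟨⟨_, hl0⟩, i, hpt0⟩, congrArg (fun z : P => z.1.1) (eP.symm_apply_apply _)⟩
  refine ⟨⟨a, by rw [ha]; exact hpt0⟩, ?_⟩
  have : r.1 ≫ ((pullback.fst f G) ⁻¹ᵁ Xq).ι = qT a ≫ l a := by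
    apply pullback.hom_ext
    · rw [hqT1, ha]; simp only [Category.assoc, morphismRestrict_ι]
    · rw [hqT3]; exact (Category.assoc _ _ _).trans r.2
  have hw : v a = w := by
    show pt (qT a ≫ l a) = w
    rw [← this]
    exact (Scheme.Hom.comp_apply _ _ _).trans (congrArg _ hr)
  exact hw.symm

end Groth.Agent.H2Weight
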