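import Mathlib

namespace Groth.Agent.H2EtaleXn
universe u
open Polynomial

theorem etale_iff (A : Type u) [CommRing A] (a : A) (n : ℕ) (hn : 1 ≤ n) :
    Algebra.Etale A (AdjoinRoot ((X : A[X]) ^ n - C a)) ↔ n = 1 ∨ IsUnit ((n : A) * a) := by
  constructor
  · intro he
    by_contra hcon
    push Not at hcon
    obtain ⟨m, hm, hmem⟩ := exists_max_ideal_of_mem_nonunits (a := (n : A) * a) hcon.2
    letI : Field (A ⧸ m) := Ideal.Quotient.field m
    let φ : A →+* AlgebraicClosure (A ⧸ m) := (algebraMap (A ⧸ m) _).comp (Ideal.Quotient.mk m)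
    obtain ⟨x, hx⟩ := IsAlgClosed.exists_pow_nat_eq (φ a) (show 0 < n by omega)
    have hz : (n : AlgebraicClosure (A ⧸ m)) * x ^ (n - 1) = 0 := by
      have h0 : φ ((n : A) * a) = 0 := by simp [φ, Ideal.Quotient.eq_zero_iff_mem.2 hmem]
      rw [map_mul, map_natCast, mul_eq_zero] at h0
      rcases h0 with h0 | h0
      · simp [h0]
      · rw [h0] at hx
        have : x = 0 := pow_eq_zero_iff (by omega : n ≠ 0) |>.1 hx
        rw [this, zero_pow (by omega), mul_zero]
    letI : Algebra A (AlgebraicClosure (A ⧸ m)) := φ.toAlgebra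
    let D := DualNumber (AlgebraicClosure (A ⧸ m))
    let x0 : D := TrivSqZeroExt.inl x
    let x1 : D := TrivSqZeroExt.inl x + TrivSqZeroExt.inr 1
    have h0 : aeval x0 ((X : A[X]) ^ n - C a) = 0 := by
      simp only [x0, map_sub, map_pow, aeval_X, aeval_C]
      refine sub_eq_zero.2 ((TrivSqZeroExt.inl_pow _ _).trans ?_)
      rw [hx]; rfl
    have h1 : aeval x1 ((X : A[X]) ^ n - C a) = 0 := by
      simp only [map_sub, map_pow, aeval_X, aeval_C]
      refine sub_eq_zero.2 ?_
      have hf : x1.fst = x := add_zero x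
      have hs : x1.snd = 1 := zero_add 1
      refine TrivSqZeroExt.ext ?_ ?_
      · rw [TrivSqZeroExt.fst_pow, hf, hx]; rfl
      · rw [TrivSqZeroExt.snd_pow, hf, hs, smul_eq_mul, mul_one, Nat.pred_eq_sub_one, nsmul_eq_mul, hz]; rfl
    let I : Ideal D := RingHom.ker (TrivSqZeroExt.fstHom (AlgebraicClosure (A ⧸ m)) (AlgebraicClosure (A ⧸ m)) (AlgebraicClosure (A ⧸ m))).toRingHom
    have hI : I ^ 2 = ⊥ := by
      rw [pow_two, eq_bot_iff]
      refine Ideal.mul_le.2 fun p hp q hq => ?_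
      change p.fst = 0 at hp
      change q.fst = 0 at hq
      show p * q = 0
      refine TrivSqZeroExt.ext ?_ ?_
      · rw [TrivSqZeroExt.fst_mul, hp, zero_mul]; rfl
      · rw [TrivSqZeroExt.snd_mul, hp, hq]; simp
    have := Algebra.FormallyUnramified.comp_injective (R := A) (A := AdjoinRoot ((X : A[X]) ^ n - C a)) I hI
      (a₁ := AdjoinRoot.liftAlgHom _ (Algebra.ofId A D) x0 h0)
      (a₂ := AdjoinRoot.liftAlgHom _ (Algebra.ofId A D) x1 h1) (by
        apply AdjoinRoot.algHom_ext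
        simp only [AlgHom.comp_apply, AdjoinRoot.liftAlgHom_root, Ideal.Quotient.mkₐ_eq_mk]
        rw [Ideal.Quotient.eq]
        show x - (x + 0) = 0
        simp)
    have h2 := congrArg TrivSqZeroExt.snd (DFunLike.congr_fun this (AdjoinRoot.root _))
    erw [AdjoinRoot.liftAlgHom_root, AdjoinRoot.liftAlgHom_root] at h2
    have h3 : (0 : AlgebraicClosure (A ⧸ m)) = 0 + 1 := h2
    simp at h3
  · intro h
    have hcond : ∃ p₁ p₂ k, derivative ((X : A[X]) ^ n - C a) * p₁ + ((X : A[X]) ^ n - C a) * p₂ = (1 : A[X]) ^ k := by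
      rcases h with rfl | h
      · exact ⟨1, 0, 0, by simp⟩
      · obtain ⟨w, hw⟩ := h.exists_left_inv
        refine ⟨X * C w, C (-((n : A) * w)), 0, ?_⟩
        obtain ⟨j, rfl⟩ := Nat.exists_eq_add_of_le hn
        have hc : C ((( 1 + j : ℕ) : A)) * C a * C w = 1 := by rw [← C_mul, ← C_mul, mul_comm _ w, hw, C_1]
        simp only [derivative_sub, derivative_X_pow, derivative_C, sub_zero, map_neg, map_mul, pow_zero]
        rw [← hc, Nat.add_sub_cancel_left]
        ring
    let P : StandardEtalePair A := ⟨(X : A[X]) ^ n - C a, monic_X_pow_sub_C a (by omega), 1, hcond⟩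
    have hu : IsUnit (AdjoinRoot.mk P.f P.g) := by simp [P]
    haveI := IsLocalization.atUnits (AdjoinRoot P.f) (Submonoid.powers (AdjoinRoot.mk P.f P.g))
      (S := Localization.Away (AdjoinRoot.mk P.f P.g)) (by rintro _ ⟨k, rfl⟩; exact hu.pow k)
    exact Algebra.Etale.of_equiv (P.equivAwayAdjoinRoot.trans
      (((IsLocalization.atUnits (AdjoinRoot P.f) (Submonoid.powers (AdjoinRoot.mk P.f P.g))
        (S := Localization.Away (AdjoinRoot.mk P.f P.g)) (by rintro _ ⟨k, rfl⟩; exact hu.pow k)).restrictScalars A).symm))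

end Groth.Agent.H2EtaleXn
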