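import Mathlib
import Groth.Prelude.Def_EGA41
set_option autoImplicit false

/-! Formal smoothness can be checked modulo the ideal of definition of the base (formally projective algebras). -/
namespace Groth.Agent.H2FSModA
set_option backward.isDefEq.respectTransparency.types false
set_option maxHeartbeats 1000000
set_option synthInstance.maxHeartbeats 400000
universe u
variable {A B : Type u} [CommRing A] [CommRing B] [Algebra A B]

/-- Define an algebra map by a functional relation closed under the operations. -/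
theorem exists_algHom {C : Type u} [CommRing C] [Algebra A C] (r : B → C → Prop) (hex : ∀ b, ∃ c, r b c)
    (huniq : ∀ b c c', r b c → r b c' → c = c') (hadd : ∀ b b' c c', r b c → r b' c' → r (b + b') (c + c'))
    (hmul : ∀ b b' c c', r b c → r b' c' → r (b * b') (c * c')) (halg : ∀ a, r (algebraMap A B a) (algebraMap A C a)) :
    ∃ v : B →ₐ[A] C, ∀ b, r b (v b) := by
  choose f hf using hex
  exact ⟨{ toFun := f
           map_one' := huniq _ _ _ (hf 1) (by simpa using halg 1)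
           map_mul' := fun x y => huniq _ _ _ (hf _) (hmul _ _ _ _ (hf x) (hf y))
           map_zero' := huniq _ _ _ (hf 0) (by simpa using halg 0)
           map_add' := fun x y => huniq _ _ _ (hf _) (hadd _ _ _ _ (hf x) (hf y))
           commutes' := fun a => huniq _ _ _ (hf _) (halg a) }, hf⟩

/-- A lift of a map killing `𝔟 ^ l` through a nilpotent ideal kills a power of `𝔟`. -/
theorem kills_pow {C : Type u} [CommRing C] [Algebra A C] (J : Ideal C) (v : B →ₐ[A] C) (𝔟 : Ideal B) (l e : ℕ)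
    (h : ∀ x ∈ 𝔟 ^ l, v x ∈ J) (he : J ^ e = ⊥) : ∀ x ∈ 𝔟 ^ (l * e), v x = 0 := fun x hx => by
  have hle : 𝔟 ^ l ≤ J.comap v := h
  rw [pow_mul] at hx
  have h2 : x ∈ (J ^ e).comap v := Ideal.le_comap_pow v e (Ideal.pow_right_mono hle e hx)
  rwa [he, Ideal.mem_comap, Ideal.mem_bot] at h2

theorem step (𝔞 : Ideal A) (𝔟 : Ideal B)
    (hproj : ∀ (n : ℕ) (P Q : Type u) [AddCommGroup P] [Module A P] [AddCommGroup Q] [Module A Q], (∀ a ∈ 𝔞 ^ n, ∀ y : P, a • y = 0) → (∀ a ∈ 𝔞 ^ n, ∀ y : Q, a • y = 0) → ∀ f : P →ₗ[A] Q, Function.Surjective f → ∀ v : B →ₗ[A] Q, (∃ m : ℕ, ∀ x ∈ 𝔟 ^ m, v x = 0) → ∃ w : B →ₗ[A] P, (∃ m : ℕ, ∀ x ∈ 𝔟 ^ m, w x = 0) ∧ f ∘ₗ w = v)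
    (h : EGA41.IsFormallySmoothAdic (A ⧸ 𝔞) ⊥ (B ⧸ 𝔞.map (algebraMap A B)) (𝔟.map (Ideal.Quotient.mk (𝔞.map (algebraMap A B)))))
    {C : Type u} [CommRing C] [Algebra A C] (K : Ideal C) (hK : K ^ 2 = ⊥) (haK : ∀ a ∈ 𝔞, ∀ x ∈ K, a • x = 0)
    (n : ℕ) (hn : ∀ a ∈ 𝔞 ^ n, algebraMap A C a = 0) (u : B →ₐ[A] C ⧸ K) (l : ℕ) (hu : ∀ x ∈ 𝔟 ^ l, u x = 0) :
    ∃ v : B →ₐ[A] C, (Ideal.Quotient.mkₐ A K).comp v = u ∧ ∀ x ∈ 𝔟 ^ (l * 2), v x = 0 := by
  obtain ⟨w, ⟨m, hm⟩, hw⟩ := hproj n C (C ⧸ K) (fun a ha y => by rw [Algebra.smul_def, hn a ha, zero_mul])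
    (fun a ha y => by rw [Algebra.smul_def, IsScalarTower.algebraMap_apply A C (C ⧸ K), hn a ha, map_zero, zero_mul])
    (Ideal.Quotient.mkₐ A K).toLinearMap Ideal.Quotient.mk_surjective u.toLinearMap ⟨l, hu⟩
  have hwu : ∀ b, Ideal.Quotient.mk K (w b) = u b := fun b => LinearMap.congr_fun hw b
  let R := B ⧸ 𝔟 ^ m
  let uR : R →ₐ[A] C ⧸ K := Ideal.Quotient.liftₐ (𝔟 ^ m) u fun b hb => by rw [← hwu, hm b hb, map_zero]
  let P : Subalgebra A (R × C) := AlgHom.equalizer (uR.comp (AlgHom.fst A R C)) ((Ideal.Quotient.mkₐ A K).comp (AlgHom.snd A R C))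
  have hmemP : ∀ (b : B) (c : C), Ideal.Quotient.mk K c = u b → ((Ideal.Quotient.mk (𝔟 ^ m) b, c) : R × C) ∈ P := fun b c hc => by
    show uR (Ideal.Quotient.mk (𝔟 ^ m) b) = Ideal.Quotient.mk K c
    rw [hc]; rfl
  let I : Ideal P := 𝔞.map (algebraMap A P)
  -- elements of `I` lie on the graph of `w`
  have hI : ∀ x ∈ I, ∃ b ∈ 𝔞.map (algebraMap A B), (x : R × C).1 = Ideal.Quotient.mk (𝔟 ^ m) b ∧ (x : R × C).2 = w b := by
    intro x hx
    have hx' : x ∈ (𝔞 • (⊤ : Submodule A P)) := by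
      rw [Ideal.smul_top_eq_map]
      exact hx
    refine Submodule.smul_induction_on hx' (fun a ha y _ => ?_) ?_
    · obtain ⟨⟨r, c⟩, hy⟩ := y
      obtain ⟨b, rfl⟩ := Ideal.Quotient.mk_surjective r
      have hc : c - w b ∈ K := by
        rw [← Ideal.Quotient.eq_zero_iff_mem, map_sub, hwu, sub_eq_zero]
        exact (show uR (Ideal.Quotient.mk (𝔟 ^ m) b) = Ideal.Quotient.mk K c from hy).symm
      refine ⟨a • b, by rw [Algebra.smul_def]; exact Ideal.mul_mem_right _ _ (Ideal.mem_map_of_mem _ ha),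
        (map_smul (Ideal.Quotient.mkₐ A (𝔟 ^ m)) a b).symm, ?_⟩
      show a • c = w (a • b)
      rw [map_smul, ← sub_eq_zero, ← smul_sub]
      exact haK a ha _ hc
    · rintro x y ⟨b, hb, h1, h2⟩ ⟨b', hb', h1', h2'⟩
      exact ⟨b + b', add_mem hb hb', by simp [h1, h1'], by simp [h2, h2']⟩
  have hI0 : ∀ x ∈ I, (x : R × C).1 = 0 → x = 0 := fun x hx h1 => by
    obtain ⟨b, -, hb1, hb2⟩ := hI x hx
    rw [hb1, Ideal.Quotient.eq_zero_iff_mem] at h1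
    exact Subtype.ext (Prod.ext (by rw [hb1]; exact Ideal.Quotient.eq_zero_iff_mem.2 h1) (by rw [hb2]; exact hm b h1))
  -- the kernel of `P → B / (𝔟 ^ m + 𝔞 B)` is `I` plus elements with vanishing first coordinate
  let R0 := B ⧸ (𝔟 ^ m ⊔ 𝔞.map (algebraMap A B))
  let π : P →ₐ[A] R0 := ((Ideal.Quotient.factorₐ A (le_sup_left : 𝔟 ^ m ≤ 𝔟 ^ m ⊔ 𝔞.map (algebraMap A B))).comp
    (AlgHom.fst A R C)).comp P.val
  have hπ : Function.Surjective π := fun z => by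
    obtain ⟨b, rfl⟩ := Ideal.Quotient.mk_surjective z
    exact ⟨⟨_, hmemP b (w b) (hwu b)⟩, rfl⟩
  have hred : ∀ x : P, ∀ b : B, π x = Ideal.Quotient.mk _ b → ∃ y : P, x - y ∈ I ∧ (y : R × C).1 = Ideal.Quotient.mk (𝔟 ^ m) b := by
    intro x b hxb
    obtain ⟨b', hb'⟩ := Ideal.Quotient.mk_surjective (x : R × C).1
    have hd : b' - b ∈ 𝔟 ^ m ⊔ 𝔞.map (algebraMap A B) := by
      refine Ideal.Quotient.eq.1 (Eq.trans ?_ hxb)
      show _ = (Ideal.Quotient.factorₐ A le_sup_left) (x : R × C).1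
      rw [← hb']; rfl
    obtain ⟨p, hp, q, hq, hpq⟩ := Submodule.mem_sup.1 hd
    obtain ⟨z, hz, hz1⟩ : ∃ z : P, z ∈ I ∧ (z : R × C).1 = Ideal.Quotient.mk (𝔟 ^ m) q := by
      refine Submodule.span_induction (p := fun q _ => ∃ z : P, z ∈ I ∧ (z : R × C).1 = Ideal.Quotient.mk (𝔟 ^ m) q)
        ?_ ⟨0, I.zero_mem, by simp⟩ ?_ ?_ hq
      · rintro _ ⟨a, ha, rfl⟩
        exact ⟨algebraMap A P a, Ideal.mem_map_of_mem _ ha, rfl⟩
      · rintro q q' _ _ ⟨z, hz, h1⟩ ⟨z', hz', h1'⟩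
        exact ⟨z + z', add_mem hz hz', by simp [h1, h1']⟩
      · rintro c q _ ⟨z, hz, h1⟩
        exact ⟨⟨_, hmemP c (w c) (hwu c)⟩ * z, I.mul_mem_left _ hz, by simp [h1]⟩
    refine ⟨x - z, by simpa using hz, ?_⟩
    show (x : R × C).1 - (z : R × C).1 = _
    rw [← hb', hz1, ← map_sub, Ideal.Quotient.eq, show b' - q - b = p by linear_combination -hpq]
    exact hp
  have hπI : ∀ x ∈ I, π x = 0 := fun x hx => by
    obtain ⟨b, hb, h1, -⟩ := hI x hx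
    show (Ideal.Quotient.factorₐ A le_sup_left) (x : R × C).1 = 0
    rw [h1]
    exact Ideal.Quotient.eq_zero_iff_mem.2 (Ideal.mem_sup_right hb)
  let P0 := P ⧸ I
  letI : CommRing P0 := Ideal.Quotient.commRing I
  letI : Algebra A P0 := Ideal.Quotient.algebra A
  let π0 : P0 →ₐ[A] R0 := Ideal.Quotient.liftₐ I π hπI
  have hπ0 : Function.Surjective π0 := Ideal.Quotient.lift_surjective_of_surjective _ _ hπ
  let J0 : Ideal P0 := RingHom.ker π0
  have hJ0 : J0 ^ 2 = ⊥ := by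
    rw [eq_bot_iff]
    refine le_trans (le_of_eq (pow_two J0)) (Ideal.mul_le.2 fun x hx y hy => ?_)
    obtain ⟨x, rfl⟩ := Ideal.Quotient.mk_surjective x
    obtain ⟨y, rfl⟩ := Ideal.Quotient.mk_surjective y
    obtain ⟨x', hx', hx1⟩ := hred x 0 ((RingHom.mem_ker.1 hx).trans (map_zero _).symm)
    obtain ⟨y', hy', hy1⟩ := hred y 0 ((RingHom.mem_ker.1 hy).trans (map_zero _).symm)
    rw [map_zero] at hx1 hy1
    rw [Ideal.Quotient.eq.2 hx', Ideal.Quotient.eq.2 hy', ← map_mul, Ideal.mem_bot]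
    refine Ideal.Quotient.eq_zero_iff_mem.2 ?_
    have h2 : ∀ z : P, (z : R × C).1 = 0 → (z : R × C).2 ∈ K := fun z hz => by
      have := z.2
      rw [AlgHom.mem_equalizer] at this
      rw [← Ideal.Quotient.eq_zero_iff_mem]
      refine this.symm.trans ?_
      show uR (z : R × C).1 = 0
      rw [hz, map_zero]
    have h0 : x' * y' = 0 := Subtype.ext (Prod.ext (by simp [hx1]) (by
      have := Ideal.mul_mem_mul (h2 x' hx1) (h2 y' hy1)
      rw [← pow_two, hK, Ideal.mem_bot] at this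
      simpa using this))
    rw [h0]; exact I.zero_mem
  -- apply formal smoothness over `A / 𝔞`
  let A0 := A ⧸ 𝔞
  let B0 := B ⧸ 𝔞.map (algebraMap A B)
  letI : Algebra A0 P0 := RingHom.toAlgebra (R := A ⧸ 𝔞) (S := P ⧸ I) (Ideal.quotientMap I (algebraMap A P) Ideal.le_comap_map)
  haveI : IsScalarTower A A0 P0 := IsScalarTower.of_algebraMap_eq fun a => rfl
  let e := Ideal.quotientKerAlgEquivOfSurjective hπ0
  let g : B →ₐ[A] P0 ⧸ J0 := e.symm.toAlgHom.comp (Ideal.Quotient.mkₐ A _)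
  let g0 : B0 →ₐ[A] P0 ⧸ J0 := Ideal.Quotient.liftₐ _ g fun b hb => by
    show e.symm (Ideal.Quotient.mk _ b) = 0
    rw [Ideal.Quotient.eq_zero_iff_mem.2 (Ideal.mem_sup_right hb), map_zero]
  let g00 : B0 →ₐ[A0] P0 ⧸ J0 :=
    { g0.toRingHom with
      commutes' := fun a => by
        obtain ⟨a, rfl⟩ := Ideal.Quotient.mk_surjective a
        exact g0.commutes a }
  obtain ⟨s, hs⟩ := h P0 J0 ⟨2, hJ0⟩ ⟨1, by rw [pow_one, Ideal.map_bot]⟩ g00 ⟨m, fun x hx => by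
    rw [← Ideal.map_pow] at hx
    obtain ⟨b, hb, rfl⟩ := (Ideal.mem_map_iff_of_surjective _ Ideal.Quotient.mk_surjective).1 hx
    show e.symm (Ideal.Quotient.mk _ b) = 0
    rw [Ideal.Quotient.eq_zero_iff_mem.2 (Ideal.mem_sup_left hb), map_zero]⟩
  let sA : B →ₐ[A] P0 := (s.restrictScalars A).comp (Ideal.Quotient.mkₐ A _)
  have hsA : ∀ b, π0 (sA b) = Ideal.Quotient.mk _ b := fun b => by
    have h1 := congrArg e (AlgHom.congr_fun hs (Ideal.Quotient.mk _ b))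
    refine Eq.trans ?_ (h1.trans (e.apply_symm_apply (Ideal.Quotient.mk _ b)))
    exact (Ideal.quotientKerAlgEquivOfSurjective_apply hπ0 (sA b)).symm
  -- the lift
  let r : B → C → Prop := fun b c => ∃ x : P, Ideal.Quotient.mk I x = sA b ∧ (x : R × C).1 = Ideal.Quotient.mk (𝔟 ^ m) b ∧ (x : R × C).2 = c
  obtain ⟨v, hv⟩ := exists_algHom (A := A) r
    (fun b => by
      obtain ⟨y, hy⟩ := Ideal.Quotient.mk_surjective (sA b)
      obtain ⟨x, hx, hx1⟩ := hred y b (by rw [← hsA b, ← hy]; rfl)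
      exact ⟨_, x, by rw [← hy]; exact (Ideal.Quotient.eq.2 hx).symm, hx1, rfl⟩)
    (fun b c c' ⟨x, hx, hx1, hx2⟩ ⟨x', hx', hx1', hx2'⟩ => by
      have h0 := hI0 (x - x') (Ideal.Quotient.eq.1 (hx.trans hx'.symm)) (by simp [hx1, hx1'])
      rw [sub_eq_zero] at h0
      rw [← hx2, ← hx2', h0])
    (fun b b' c c' ⟨x, hx, hx1, hx2⟩ ⟨x', hx', hx1', hx2'⟩ =>
      ⟨x + x', by rw [map_add, map_add, hx, hx'], by simp [hx1, hx1'], by simp [hx2, hx2']⟩)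
    (fun b b' c c' ⟨x, hx, hx1, hx2⟩ ⟨x', hx', hx1', hx2'⟩ =>
      ⟨x * x', by rw [map_mul, map_mul, hx, hx'], by simp [hx1, hx1'], by simp [hx2, hx2']⟩)
    (fun a => ⟨algebraMap A P a, by rw [sA.commutes]; rfl, rfl, rfl⟩)
  have hvu : ∀ b, Ideal.Quotient.mk K (v b) = u b := fun b => by
    obtain ⟨x, -, hx1, hx2⟩ := hv b
    have h2 := x.2
    rw [AlgHom.mem_equalizer] at h2
    rw [← hx2]
    refine h2.symm.trans ?_
    show uR (x : R × C).1 = _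
    rw [hx1]; rfl
  refine ⟨v, AlgHom.ext hvu, kills_pow K v 𝔟 l 2 (fun x hx => ?_) hK⟩
  rw [← Ideal.Quotient.eq_zero_iff_mem, hvu, hu x hx]

/-- Compatible maps to `C / J` and `C / N` give one to `C / (J ⊓ N)`. -/
theorem combine {C : Type u} [CommRing C] [Algebra A C] (J N : Ideal C) (u : B →ₐ[A] C ⧸ J) (v : B →ₐ[A] C ⧸ N)
    (h : ∀ b c c', Ideal.Quotient.mk J c = u b → Ideal.Quotient.mk N c' = v b → c - c' ∈ J ⊔ N) :
    ∃ w : B →ₐ[A] C ⧸ (J ⊓ N), ∀ b, ∀ c, Ideal.Quotient.mk (J ⊓ N) c = w b →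
      Ideal.Quotient.mk J c = u b ∧ Ideal.Quotient.mk N c = v b := by
  let r : B → C ⧸ (J ⊓ N) → Prop := fun b z =>
    Ideal.Quotient.factorₐ A (inf_le_left : J ⊓ N ≤ J) z = u b ∧ Ideal.Quotient.factorₐ A (inf_le_right : J ⊓ N ≤ N) z = v b
  obtain ⟨w, hw⟩ := exists_algHom (A := A) r
    (fun b => by
      obtain ⟨c, hc⟩ := Ideal.Quotient.mk_surjective (u b)
      obtain ⟨c', hc'⟩ := Ideal.Quotient.mk_surjective (v b)
      obtain ⟨j, hj, k, hk, hjk⟩ := Submodule.mem_sup.1 (h b c c' hc hc')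
      refine ⟨Ideal.Quotient.mk _ (c - j), ?_, ?_⟩
      · show Ideal.Quotient.mk J (c - j) = u b
        rw [map_sub, hc, Ideal.Quotient.eq_zero_iff_mem.2 hj, sub_zero]
      · show Ideal.Quotient.mk N (c - j) = v b
        rw [← hc', Ideal.Quotient.eq, show c - j - c' = k by linear_combination -hjk]
        exact hk)
    (fun b z z' h1 h2 => by
      obtain ⟨c, rfl⟩ := Ideal.Quotient.mk_surjective z
      obtain ⟨c', rfl⟩ := Ideal.Quotient.mk_surjective z'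
      exact Ideal.Quotient.eq.2 ⟨Ideal.Quotient.eq.1 (h1.1.trans h2.1.symm), Ideal.Quotient.eq.1 (h1.2.trans h2.2.symm)⟩)
    (fun b b' z z' h1 h2 => ⟨by rw [map_add, map_add, h1.1, h2.1], by rw [map_add, map_add, h1.2, h2.2]⟩)
    (fun b b' z z' h1 h2 => ⟨by rw [map_mul, map_mul, h1.1, h2.1], by rw [map_mul, map_mul, h1.2, h2.2]⟩)
    (fun a => ⟨by rw [AlgHom.commutes, AlgHom.commutes], by rw [AlgHom.commutes, AlgHom.commutes]⟩)
  refine ⟨w, fun b c hc => ?_⟩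
  have h1 := hw b
  rw [← hc] at h1
  exact h1

theorem of_quotient (𝔞 : Ideal A) (𝔟 : Ideal B)
    (hproj : ∀ (n : ℕ) (P Q : Type u) [AddCommGroup P] [Module A P] [AddCommGroup Q] [Module A Q], (∀ a ∈ 𝔞 ^ n, ∀ y : P, a • y = 0) → (∀ a ∈ 𝔞 ^ n, ∀ y : Q, a • y = 0) → ∀ f : P →ₗ[A] Q, Function.Surjective f → ∀ v : B →ₗ[A] Q, (∃ m : ℕ, ∀ x ∈ 𝔟 ^ m, v x = 0) → ∃ w : B →ₗ[A] P, (∃ m : ℕ, ∀ x ∈ 𝔟 ^ m, w x = 0) ∧ f ∘ₗ w = v)
    (h : EGA41.IsFormallySmoothAdic (A ⧸ 𝔞) ⊥ (B ⧸ 𝔞.map (algebraMap A B)) (𝔟.map (Ideal.Quotient.mk (𝔞.map (algebraMap A B))))) :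
    EGA41.IsFormallySmoothAdic A 𝔞 B 𝔟 := by
  intro C _ _ J ⟨e, he⟩ ⟨k, hk⟩ u ⟨l, hl⟩
  let N : Ideal C := 𝔞.map (algebraMap A C)
  have hNk : N ^ (k + 1) = ⊥ := by
    refine le_bot_iff.1 ((Ideal.pow_le_pow_right k.le_succ).trans ?_)
    rw [← Ideal.map_pow, hk]
  have hB : ∀ b ∈ 𝔞.map (algebraMap A B), ∀ c, Ideal.Quotient.mk J c = u b → c ∈ J ⊔ N := fun b hb c hc => by
    have h1 : u b ∈ N.map (Ideal.Quotient.mk J) := by
      have h2 := Ideal.mem_map_of_mem u.toRingHom hb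
      rw [Ideal.map_map, AlgHom.toRingHom_eq_coe, AlgHom.comp_algebraMap, IsScalarTower.algebraMap_eq A C (C ⧸ J), ← Ideal.map_map] at h2
      exact h2
    rw [← hc, Ideal.mem_quotient_iff_mem_sup] at h1
    rwa [sup_comm]
  -- the lift modulo `𝔞`
  let J1 : Ideal (C ⧸ N) := J.map (Ideal.Quotient.mk N)
  letI : Algebra (A ⧸ 𝔞) (C ⧸ N) :=
    RingHom.toAlgebra (R := A ⧸ 𝔞) (S := C ⧸ N) (Ideal.quotientMap N (algebraMap A C) Ideal.le_comap_map)
  haveI : IsScalarTower A (A ⧸ 𝔞) (C ⧸ N) := IsScalarTower.of_algebraMap_eq fun a => rfl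
  let gC : C ⧸ J →ₐ[A] (C ⧸ N) ⧸ J1 := Ideal.Quotient.liftₐ J ((Ideal.Quotient.mkₐ A J1).comp (Ideal.Quotient.mkₐ A N))
    fun c hc => Ideal.Quotient.eq_zero_iff_mem.2 (Ideal.mem_map_of_mem _ hc)
  let g : B →ₐ[A] (C ⧸ N) ⧸ J1 := gC.comp u
  let g0 : (B ⧸ 𝔞.map (algebraMap A B)) →ₐ[A] (C ⧸ N) ⧸ J1 := Ideal.Quotient.liftₐ _ g fun b hb => by
    obtain ⟨c, hc⟩ := Ideal.Quotient.mk_surjective (u b)
    obtain ⟨j, hj, n, hn, hjn⟩ := Submodule.mem_sup.1 (hB b hb c hc)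
    show gC (u b) = 0
    rw [← hc, ← hjn]
    show Ideal.Quotient.mk J1 (Ideal.Quotient.mk N (j + n)) = 0
    rw [map_add, Ideal.Quotient.eq_zero_iff_mem.2 hn, add_zero]
    exact Ideal.Quotient.eq_zero_iff_mem.2 (Ideal.mem_map_of_mem _ hj)
  let g00 : (B ⧸ 𝔞.map (algebraMap A B)) →ₐ[A ⧸ 𝔞] (C ⧸ N) ⧸ J1 :=
    { g0.toRingHom with
      commutes' := fun a => by
        obtain ⟨a, rfl⟩ := Ideal.Quotient.mk_surjective a
        exact g0.commutes a }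
  obtain ⟨s, hs⟩ := h (C ⧸ N) J1 ⟨e, by rw [Ideal.zero_eq_bot] at he ⊢; rw [← Ideal.map_pow, he, Ideal.map_bot]⟩
    ⟨1, by rw [pow_one, Ideal.map_bot]⟩ g00 ⟨l, fun x hx => by
      rw [← Ideal.map_pow] at hx
      obtain ⟨b, hb, rfl⟩ := (Ideal.mem_map_iff_of_surjective _ Ideal.Quotient.mk_surjective).1 hx
      show g b = 0
      simp [g, hl b hb]⟩
  let v1 : B →ₐ[A] C ⧸ N := (s.restrictScalars A).comp (Ideal.Quotient.mkₐ A _)
  have hv1 : ∀ b c c', Ideal.Quotient.mk J c = u b → Ideal.Quotient.mk N c' = v1 b → c - c' ∈ J ⊔ N := fun b c c' hc hc' => by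
    have h1 : Ideal.Quotient.mk J1 (v1 b) = g b := AlgHom.congr_fun hs (Ideal.Quotient.mk _ b)
    have h2 : g b = Ideal.Quotient.mk J1 (Ideal.Quotient.mk N c) := by
      show gC (u b) = _
      rw [← hc]; rfl
    rw [← hc', h2, Ideal.Quotient.eq, ← map_sub, Ideal.mem_quotient_iff_mem_sup] at h1
    rw [← neg_sub]; exact neg_mem h1
  obtain ⟨w1, hw1⟩ := combine J N u v1 hv1
  -- induction along the powers of `N`
  have key : ∀ i, ∃ w : B →ₐ[A] C ⧸ (J ⊓ N ^ (i + 1)), (∃ l, ∀ x ∈ 𝔟 ^ l, w x = 0) ∧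
      ∀ b c, Ideal.Quotient.mk (J ⊓ N ^ (i + 1)) c = w b → Ideal.Quotient.mk J c = u b := by
    intro i
    induction i with
    | zero =>
      rw [zero_add, pow_one]
      refine ⟨w1, ⟨l * e, kills_pow (J.map (Ideal.Quotient.mk (J ⊓ N))) w1 𝔟 l e (fun x hx => ?_) ?_⟩, fun b c hc => (hw1 b c hc).1⟩
      · obtain ⟨c, hc⟩ := Ideal.Quotient.mk_surjective (w1 x)
        rw [← hc]
        exact Ideal.mem_map_of_mem _ (Ideal.Quotient.eq_zero_iff_mem.1 ((hw1 x c hc).1.trans (hl x hx)))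
      · rw [Ideal.zero_eq_bot] at he
        rw [← Ideal.map_pow, he, Ideal.map_bot]
    | succ i ih =>
      obtain ⟨w, ⟨l', hl'⟩, hw⟩ := ih
      have hle : J ⊓ N ^ (i + 1 + 1) ≤ J ⊓ N ^ (i + 1) := inf_le_inf_left J (Ideal.pow_le_pow_right (by omega))
      let K : Ideal (C ⧸ (J ⊓ N ^ (i + 1 + 1))) := (J ⊓ N ^ (i + 1)).map (Ideal.Quotient.mkₐ A (J ⊓ N ^ (i + 1 + 1)))
      let d := DoubleQuot.quotQuotEquivQuotOfLEₐ A hle
      obtain ⟨v, hv, hvl⟩ := step 𝔞 𝔟 hproj h K (by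
          show ((J ⊓ N ^ (i + 1)).map (Ideal.Quotient.mkₐ A _)) ^ 2 = ⊥
          refine eq_bot_iff.2 ((Ideal.map_pow (Ideal.Quotient.mkₐ A (J ⊓ N ^ (i + 1 + 1))) _ 2).symm.le.trans (Ideal.map_le_iff_le_comap.2 fun x hx => ?_))
          rw [Ideal.mem_comap, Ideal.mem_bot, Ideal.Quotient.mkₐ_eq_mk, Ideal.Quotient.eq_zero_iff_mem]
          rw [pow_two] at hx
          refine ⟨Ideal.mul_le_right.trans inf_le_left hx, ?_⟩
          have h2 := Ideal.mul_mono (inf_le_right (a := J) (b := N ^ (i + 1))) (inf_le_right (a := J) (b := N ^ (i + 1))) hx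
          rw [← pow_add] at h2
          exact Ideal.pow_le_pow_right (by omega) h2)
        (fun a ha x hx => by
          obtain ⟨c, hc, rfl⟩ := (Ideal.mem_map_iff_of_surjective (Ideal.Quotient.mkₐ A (J ⊓ N ^ (i + 1 + 1))) Ideal.Quotient.mk_surjective).1 hx
          rw [← map_smul, Ideal.Quotient.mkₐ_eq_mk, Ideal.Quotient.eq_zero_iff_mem, Algebra.smul_def]
          exact ⟨Ideal.mul_mem_left _ _ hc.1, by rw [pow_succ' N (i + 1)]; exact Ideal.mul_mem_mul (Ideal.mem_map_of_mem _ ha) hc.2⟩)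
        k (fun a ha => by
          have h1 : algebraMap A C a = 0 := Ideal.mem_bot.1 (hk.le (Ideal.mem_map_of_mem _ ha))
          rw [IsScalarTower.algebraMap_apply A C, h1, map_zero])
        (d.symm.toAlgHom.comp w) l' (fun x hx => by show d.symm (w x) = 0; rw [hl' x hx, map_zero])
      refine ⟨v, ⟨_, hvl⟩, fun b c hc => hw b c ?_⟩
      have h1 := congrArg d (AlgHom.congr_fun hv b)
      rw [AlgHom.comp_apply, ← hc] at h1
      exact h1.trans (d.apply_symm_apply (w b))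
  obtain ⟨w, -, hw⟩ := key k
  have hbot : J ⊓ N ^ (k + 1) = ⊥ := by rw [hNk, inf_bot_eq]
  let q := (Ideal.quotientEquivAlgOfEq A hbot).trans (AlgEquiv.quotientBot A C)
  refine ⟨q.toAlgHom.comp w, AlgHom.ext fun b => hw b _ ?_⟩
  obtain ⟨c, hc⟩ := Ideal.Quotient.mk_surjective (w b)
  show Ideal.Quotient.mk _ (q (w b)) = w b
  rw [← hc]
  rfl

end Groth.Agent.H2FSModA
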