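import Mathlib
import Groth.Prelude.Def_FSRel
set_option autoImplicit false

/-! Formal smoothness relative to a base and extension of derivations. -/
namespace Groth.Agent.H2FSRelDer
open TensorProduct
set_option maxHeartbeats 1000000
set_option synthInstance.maxHeartbeats 400000
set_option backward.isDefEq.respectTransparency.types false
universe u
variable {A B C : Type u} [CommRing A] [CommRing B] [CommRing C] [Algebra A B] [Algebra B C] [Algebra A C] [IsScalarTower A B C]

theorem lift_of_leftInverse (l : Ω[C⁄A] →ₗ[C] C ⊗[B] Ω[B⁄A]) (hl : l ∘ₗ KaehlerDifferential.mapBaseChange A B C = LinearMap.id)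
    {X : Type u} [CommRing X] [Algebra A X] [Algebra C X] [IsScalarTower A C X] [Algebra B X] [IsScalarTower B C X]
    [IsScalarTower A B X] (J : Ideal X) (hJ : J ^ 2 = ⊥) (φ : B →ₐ[A] X) (hφ : ∀ b, φ b - algebraMap B X b ∈ J) :
    ∃ v : C →ₐ[A] X, (∀ b, v (algebraMap B C b) = φ b) ∧ ∀ c, v c - algebraMap C X c ∈ J := by
  let Dl : B →ₗ[A] J := (φ.toLinearMap - (IsScalarTower.toAlgHom A B X).toLinearMap).codRestrict (J.restrictScalars A) hφ
  let D : Derivation A B J := Derivation.mk' Dl fun b b' => Subtype.ext (by
    show φ (b * b') - algebraMap B X (b * b') = b • (φ b' - algebraMap B X b') + b' • (φ b - algebraMap B X b)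
    have h0 : (φ b - algebraMap B X b) * (φ b' - algebraMap B X b') = 0 := by
      have := Ideal.mul_mem_mul (hφ b) (hφ b')
      rwa [← pow_two, hJ, Ideal.mem_bot] at this
    rw [map_mul, map_mul, Algebra.smul_def, Algebra.smul_def]
    linear_combination h0)
  let E : Derivation A C J := ((D.liftKaehlerDifferential.liftBaseChange C) ∘ₗ l).compDer (KaehlerDifferential.D A C)
  have hE : ∀ b, (E (algebraMap B C b) : X) = φ b - algebraMap B X b := fun b => by
    have h1 : l (KaehlerDifferential.D A C (algebraMap B C b)) = (1 : C) ⊗ₜ[B] KaehlerDifferential.D A B b := by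
      have h2 := LinearMap.congr_fun hl ((1 : C) ⊗ₜ[B] KaehlerDifferential.D A B b)
      rw [LinearMap.comp_apply, KaehlerDifferential.mapBaseChange_tmul, one_smul, KaehlerDifferential.map_D] at h2
      exact h2
    show (((D.liftKaehlerDifferential.liftBaseChange C) (l (KaehlerDifferential.D A C (algebraMap B C b))) : J) : X) = _
    rw [h1, LinearMap.liftBaseChange_tmul, one_smul, Derivation.liftKaehlerDifferential_comp_D]
    rfl
  refine ⟨{ toFun := fun c => algebraMap C X c + (E c : X)
            map_one' := by simp
            map_mul' := fun c c' => by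
              have h0 : (E c : X) * (E c' : X) = 0 := by
                have := Ideal.mul_mem_mul (E c).2 (E c').2
                rwa [← pow_two, hJ, Ideal.mem_bot] at this
              have h3 : (E (c * c') : X) = c • (E c' : X) + c' • (E c : X) := congrArg Subtype.val (E.leibniz c c')
              rw [map_mul, h3, Algebra.smul_def, Algebra.smul_def]
              linear_combination -h0
            map_zero' := by simp
            map_add' := fun c c' => by simp; ring
            commutes' := fun a => by simp [← IsScalarTower.algebraMap_apply] }, fun b => ?_, fun c => ?_⟩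
  · show algebraMap C X (algebraMap B C b) + (E (algebraMap B C b) : X) = φ b
    rw [hE, ← IsScalarTower.algebraMap_apply]
    ring
  · show algebraMap C X c + (E c : X) - algebraMap C X c ∈ J
    rw [add_sub_cancel_left]
    exact (E c).2

theorem exists_section (h : EGA41.IsFormallySmoothRel A B C) {T : Type u} [CommRing T] (π : T →+* C)
    (hK : (RingHom.ker π) ^ 2 = ⊥) (s : C →+* T) (hs : ∀ c, π (s c) = c) (g : B →+* T) (hg : ∀ b, π (g b) = algebraMap B C b)
    (hsg : ∀ a, g (algebraMap A B a) = s (algebraMap A C a)) :
    ∃ v : C →+* T, (∀ c, π (v c) = c) ∧ ∀ b, v (algebraMap B C b) = g b := by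
  letI : Algebra B T := g.toAlgebra
  letI : Algebra A T := (g.comp (algebraMap A B)).toAlgebra
  haveI : IsScalarTower A B T := IsScalarTower.of_algebraMap_eq' rfl
  let π' : T →ₐ[B] C := { π with commutes' := hg }
  have hπ : Function.Surjective π' := fun c => ⟨s c, hs c⟩
  let e := Ideal.quotientKerAlgEquivOfSurjective hπ
  let u : C →ₐ[A] T := { s with commutes' := fun a => (hsg a).symm }
  have he : ∀ x : T, e (Ideal.Quotient.mk _ x) = π' x := fun x => Ideal.quotientKerAlgEquivOfSurjective_apply hπ x
  obtain ⟨v, hv⟩ := h T (RingHom.ker π') hK e.symm.toAlgHom ⟨u, AlgHom.ext fun c => e.injective (by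
    rw [AlgHom.comp_apply, Ideal.Quotient.mkₐ_eq_mk, he]
    exact (hs c).trans (e.apply_symm_apply c).symm)⟩
  refine ⟨v.toRingHom, fun c => ?_, fun b => v.commutes b⟩
  have h1 := congrArg e (AlgHom.congr_fun hv c)
  rw [AlgHom.comp_apply, Ideal.Quotient.mkₐ_eq_mk, he] at h1
  exact h1.trans (e.apply_symm_apply c)

theorem extend_derivation (h : EGA41.IsFormallySmoothRel A B C) {M : Type u} [AddCommGroup M] [Module C M] [Module Cᵐᵒᵖ M]
    [IsCentralScalar C M] [Module A M] [IsScalarTower A C M] [Module B M] [IsScalarTower B C M] [IsScalarTower A B M]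
    (d : Derivation A B M) : ∃ D : Derivation A C M, ∀ b, D (algebraMap B C b) = d b := by
  let g : B →+* (TrivSqZeroExt C M) :=
    { toFun := fun b => TrivSqZeroExt.inl (algebraMap B C b) + TrivSqZeroExt.inr (d b)
      map_one' := by ext <;> simp
      map_mul' := fun x y => by
        ext
        · simp
        · simp [d.leibniz, algebraMap_smul]
      map_zero' := by ext <;> simp
      map_add' := fun x y => by
        ext
        · simp
        · simp }
  have hsg : ∀ a, g (algebraMap A B a) = TrivSqZeroExt.inl (algebraMap A C a) := fun a => by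
    show TrivSqZeroExt.inl (algebraMap B C (algebraMap A B a)) + TrivSqZeroExt.inr (d (algebraMap A B a)) = _
    simp [← IsScalarTower.algebraMap_apply]
  obtain ⟨v, hv1', hvb⟩ := exists_section h (T := TrivSqZeroExt C M) (TrivSqZeroExt.fstHom C C M : TrivSqZeroExt C M →+* C)
    (by
      rw [pow_two, eq_bot_iff, Ideal.mul_le]
      intro x hx y hy
      have hx1 : x.fst = 0 := hx
      have hy1 : y.fst = 0 := hy
      rw [Ideal.mem_bot]
      ext <;> simp [hx1, hy1])
    (TrivSqZeroExt.inlHom C M) (fun c => rfl) g (fun b => by show TrivSqZeroExt.fst (g b) = _; simp [g]) hsg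
  have hv1 : ∀ c, (v c).fst = c := hv1'
  have hva : ∀ a, v (algebraMap A C a) = TrivSqZeroExt.inl (algebraMap A C a) := fun a => by
    rw [IsScalarTower.algebraMap_apply A B C, hvb, hsg, IsScalarTower.algebraMap_apply A B C]
  let Dl : C →ₗ[A] M :=
    { toFun := fun c => (v c).snd
      map_add' := by simp
      map_smul' := fun a c => by
        rw [RingHom.id_apply, Algebra.smul_def, map_mul, hva,
          TrivSqZeroExt.snd_mul, TrivSqZeroExt.fst_inl, TrivSqZeroExt.snd_inl, smul_zero, add_zero, algebraMap_smul]
        }
  let D : Derivation A C M := Derivation.mk' Dl fun c c' => by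
    show (v (c * c')).snd = c • (v c').snd + c' • (v c).snd
    rw [map_mul, TrivSqZeroExt.snd_mul, hv1, hv1, op_smul_eq_smul]
  refine ⟨D, fun b => ?_⟩
  show (v (algebraMap B C b)).snd = d b
  rw [hvb]
  simp [g]

end Groth.Agent.H2FSRelDer
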