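import Mathlib

/-! Elements of a prime minimal over an ideal are locally nilpotent modulo the ideal. -/

namespace Groth.Agent.H2MinPrime

lemma exists_notMem_mul_pow_mem {R : Type*} [CommRing R] {I p : Ideal R} (hp : p ∈ I.minimalPrimes) {x : R} (hx : x ∈ p) :
    ∃ s ∉ p, ∃ n : ℕ, s * x ^ n ∈ I := by
  haveI := hp.1.1
  by_contra h
  push Not at h
  have hd : Disjoint (I : Set R) ((p.primeCompl ⊔ Submonoid.powers x : Submonoid R) : Set R) := by
    rw [Set.disjoint_left]
    intro a ha hmem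
    obtain ⟨s, hs, y, ⟨n, rfl⟩, rfl⟩ := Submonoid.mem_sup.1 hmem
    exact h s hs n ha
  obtain ⟨q, hq, hIq, hd'⟩ := Ideal.exists_le_prime_disjoint I (p.primeCompl ⊔ Submonoid.powers x) hd
  have hqp : q ≤ p := fun a ha => by
    by_contra hap
    exact Set.disjoint_left.1 hd' ha (Submonoid.mem_sup_left hap)
  have := hp.2 ⟨hq, hIq⟩ hqp hx
  exact Set.disjoint_left.1 hd' this (Submonoid.mem_sup_right (Submonoid.mem_powers x))

end Groth.Agent.H2MinPrime
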