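import Mathlib
import Groth.Prelude.Def_FlatCA
import Groth.Agent.Lib.H2MinPrime

/-! Elementary API for weakly associated primes and for primes which are annihilators. -/

universe u v

namespace Groth.Agent.H2WeakAss

variable {R : Type u} [CommRing R]

/-- The annihilator of an element. -/
abbrev ann (R : Type u) [CommRing R] {M : Type v} [AddCommGroup M] [Module R M] (m : M) : Ideal R :=
  (Submodule.span R {m}).annihilator

variable {M : Type v} [AddCommGroup M] [Module R M]

lemma mem_ann {m : M} {r : R} : r ∈ ann R m ↔ r • m = 0 :=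
  Submodule.mem_annihilator_span_singleton m r

lemma minimalPrimes_iff {I p : Ideal R} (hp : p.IsPrime) :
    p ∈ I.minimalPrimes ↔ I ≤ p ∧ ∀ a ∈ p, ∃ s ∉ p, ∃ n : ℕ, s * a ^ n ∈ I := by
  refine ⟨fun h => ⟨h.1.2, fun a ha => H2MinPrime.exists_notMem_mul_pow_mem h ha⟩,
    fun h => ⟨⟨hp, h.1⟩, fun Q hQ hQp a ha => ?_⟩⟩
  obtain ⟨s, hs, n, hn⟩ := h.2 a ha
  exact hQ.1.mem_of_pow_mem n ((hQ.1.mem_or_mem (hQ.2 hn)).resolve_left fun h' => hs (hQp h'))

lemma mem_weakAss_iff {p : Ideal R} (hp : p.IsPrime) :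
    p ∈ FlatCA.weakAss R M ↔
      ∃ m : M, (∀ r : R, r • m = 0 → r ∈ p) ∧ ∀ a ∈ p, ∃ s ∉ p, ∃ n : ℕ, (s * a ^ n) • m = 0 := by
  refine exists_congr fun m => (minimalPrimes_iff hp).trans ⟨fun h => ⟨fun r hr => h.1 (mem_ann.2 hr),
    fun a ha => ?_⟩, fun h => ⟨fun r hr => h.1 r (mem_ann.1 hr), fun a ha => ?_⟩⟩
  · obtain ⟨s, hs, n, hn⟩ := h.2 a ha
    exact ⟨s, hs, n, mem_ann.1 hn⟩
  · obtain ⟨s, hs, n, hn⟩ := h.2 a ha
    exact ⟨s, hs, n, mem_ann.2 hn⟩

lemma ann_tower {A : Type*} [CommRing A] [Algebra R A] {N : Type v} [AddCommGroup N] [Module A N]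
    [Module R N] [IsScalarTower R A N] (x : N) :
    ann R x = (Submodule.span A {x}).annihilator.comap (algebraMap R A) := by
  ext r
  rw [Ideal.mem_comap, mem_ann, Submodule.mem_annihilator_span_singleton, algebraMap_smul]

lemma image_comap_ass_subset {A : Type u} [CommRing A] [Algebra R A] {N : Type v} [AddCommGroup N]
    [Module A N] [Module R N] [IsScalarTower R A N] :
    Ideal.comap (algebraMap R A) '' FlatCA.ass A N ⊆ FlatCA.ass R N := by
  rintro _ ⟨Q, ⟨hQ, m, hm⟩, rfl⟩
  exact ⟨hQ.comap _, m, by rw [hm]; exact (ann_tower m).symm⟩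

variable (S : Submonoid R) {L : Type u} [CommRing L] [Algebra R L] [IsLocalization S L]
  {N : Type v} [AddCommGroup N] [Module L N] [Module R N] [IsScalarTower R L N]

include S in
lemma weakAss_localization :
    FlatCA.weakAss R N = Ideal.comap (algebraMap R L) '' FlatCA.weakAss L N := by
  ext p
  constructor
  · rintro ⟨x, hx⟩
    rw [show (Submodule.span R {x}).annihilator = _ from ann_tower (A := L) x,
      IsLocalization.minimalPrimes_comap S L] at hx
    obtain ⟨Q, hQ, rfl⟩ := hx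
    exact ⟨Q, ⟨x, hQ⟩, rfl⟩
  · rintro ⟨Q, ⟨x, hQ⟩, rfl⟩
    refine ⟨x, ?_⟩
    rw [show (Submodule.span R {x}).annihilator = _ from ann_tower (A := L) x,
      IsLocalization.minimalPrimes_comap S L]
    exact ⟨Q, hQ, rfl⟩

include S in
lemma ass_localization :
    FlatCA.ass R N = Ideal.comap (algebraMap R L) '' FlatCA.ass L N := by
  refine Set.Subset.antisymm (fun p hp => ?_) image_comap_ass_subset
  obtain ⟨hp, x, hx⟩ := hp
  have hd : Disjoint (S : Set R) (p : Set R) := by
    rw [Set.disjoint_left]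
    intro s hs hsp
    have h1 : algebraMap R L s • x = 0 := by
      rw [algebraMap_smul]; exact mem_ann.1 (hx.le hsp)
    have h2 : x = 0 := (IsLocalization.map_units L (⟨s, hs⟩ : S)).smul_eq_zero.1 h1
    refine hp.ne_top ((Ideal.eq_top_iff_one _).2 ?_)
    rw [hx]; exact mem_ann.2 (by rw [h2, smul_zero])
  refine ⟨p.map (algebraMap R L), ⟨IsLocalization.isPrime_of_isPrime_disjoint S L p hp hd, x, ?_⟩,
    IsLocalization.comap_map_of_isPrime_disjoint S L hp hd⟩
  conv_lhs => rw [hx, show (Submodule.span R {x}).annihilator = _ from ann_tower (A := L) x]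
  exact IsLocalization.map_comap S L _

omit [Algebra R L] [IsLocalization S L] in
lemma ann_mk_of_disjoint {p : Ideal R} (hp : p.IsPrime) (hd : Disjoint (S : Set R) (p : Set R))
    {m : M} (h : ∀ r : R, r • m = 0 → r ∈ p) (s : S) (r : R)
    (hr : r • LocalizedModule.mk m s = 0) : r ∈ p := by
  rw [LocalizedModule.smul'_mk, ← LocalizedModule.zero_mk s, LocalizedModule.mk_eq] at hr
  obtain ⟨c, hc⟩ := hr
  simp only [smul_zero, Submonoid.smul_def, smul_smul] at hc
  have := h _ hc
  exact (hp.mem_or_mem ((hp.mem_or_mem this).resolve_left fun h' => Set.disjoint_left.1 hd c.2 h')).resolve_left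
    fun h' => Set.disjoint_left.1 hd s.2 h'

omit [Algebra R L] [IsLocalization S L] in
lemma weakAss_localizedModule_iff {p : Ideal R} (hp : p.IsPrime)
    (hd : Disjoint (S : Set R) (p : Set R)) :
    p ∈ FlatCA.weakAss R (LocalizedModule S M) ↔ p ∈ FlatCA.weakAss R M := by
  rw [mem_weakAss_iff hp, mem_weakAss_iff hp]
  constructor
  · rintro ⟨x, h1, h2⟩
    induction x using LocalizedModule.induction_on with
    | h m s =>
      refine ⟨m, fun r hr => h1 r (by rw [LocalizedModule.smul'_mk, hr, LocalizedModule.zero_mk]),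
        fun a ha => ?_⟩
      obtain ⟨t, ht, n, hn⟩ := h2 a ha
      rw [LocalizedModule.smul'_mk, ← LocalizedModule.zero_mk s, LocalizedModule.mk_eq] at hn
      obtain ⟨c, hc⟩ := hn
      simp only [smul_zero, Submonoid.smul_def, smul_smul] at hc
      refine ⟨c * s * t, fun h' => ?_, n, by rwa [show (c : R) * s * t * a ^ n = c * (s * (t * a ^ n)) by ring]⟩
      rcases hp.mem_or_mem h' with h' | h'
      · rcases hp.mem_or_mem h' with h' | h'
        · exact Set.disjoint_left.1 hd c.2 h'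
        · exact Set.disjoint_left.1 hd s.2 h'
      · exact ht h'
  · rintro ⟨m, h1, h2⟩
    refine ⟨LocalizedModule.mk m 1, fun r hr => ann_mk_of_disjoint S hp hd h1 1 r hr, fun a ha => ?_⟩
    obtain ⟨t, ht, n, hn⟩ := h2 a ha
    exact ⟨t, ht, n, by rw [LocalizedModule.smul'_mk, hn, LocalizedModule.zero_mk]⟩

omit [Algebra R L] [IsLocalization S L] in
lemma ass_localizedModule_of_disjoint {p : Ideal R} (hd : Disjoint (S : Set R) (p : Set R))
    (h : p ∈ FlatCA.ass R M) : p ∈ FlatCA.ass R (LocalizedModule S M) := by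
  obtain ⟨hp, m, hm⟩ := h
  refine ⟨hp, LocalizedModule.mk m 1, le_antisymm (fun r hr => mem_ann.2 ?_) fun r hr => ?_⟩
  · rw [LocalizedModule.smul'_mk, mem_ann.1 (hm.le hr), LocalizedModule.zero_mk]
  · exact ann_mk_of_disjoint S hp hd (fun r hr => hm.ge (mem_ann.2 hr)) 1 r (mem_ann.1 hr)

end Groth.Agent.H2WeakAss
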