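import Mathlib
import Groth.Prelude.Def_FlatCA
import Groth.Agent.Lib.H2WeakAss

/-! The fibre module as the localisation of `N / pN`. -/

universe u

open scoped TensorProduct
open Groth.Agent.H2WeakAss

namespace Groth.Agent.H2FiberMod

attribute [local instance] Algebra.TensorProduct.rightAlgebra

variable {R S : Type u} [CommRing R] [CommRing S] [Algebra R S] {N : Type u} [AddCommGroup N]
  [Module S N] [Module R N] [IsScalarTower R S N] (p : Ideal R)

lemma mem_map_smul_top {x : N} :
    x ∈ (p.map (algebraMap R S)) • (⊤ : Submodule S N) ↔ x ∈ (p • ⊤ : Submodule R N) := by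
  constructor
  · intro hx
    refine Submodule.smul_induction_on hx ?_ fun a b ha hb => Submodule.add_mem _ ha hb
    intro c hc n _
    induction hc using Submodule.span_induction generalizing n with
    | mem y hy =>
      obtain ⟨r, hr, rfl⟩ := hy
      rw [algebraMap_smul]; exact Submodule.smul_mem_smul hr trivial
    | zero => rw [zero_smul]; exact Submodule.zero_mem _
    | add a b _ _ ha hb => rw [add_smul]; exact Submodule.add_mem _ (ha n trivial) (hb n trivial)
    | smul s a _ ha => rw [smul_eq_mul, mul_comm, mul_smul]; exact ha _ trivial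
  · intro hx
    refine Submodule.smul_induction_on hx ?_ fun a b ha hb => Submodule.add_mem _ ha hb
    intro r hr n _
    rw [← algebraMap_smul S r n]
    exact Submodule.smul_mem_smul (Ideal.mem_map_of_mem _ hr) trivial

/-- Elements of `R` outside `p` act injectively on `N / pN` when `N` is flat. -/
lemma mem_smul_top_of_smul_mem [p.IsPrime] [Module.Flat R N] {r : R} (hr : r ∉ p) {n : N}
    (h : r • n ∈ (p • ⊤ : Submodule R N)) : n ∈ (p • ⊤ : Submodule R N) := by
  let g : (R ⧸ p) →ₗ[R] R ⧸ p := LinearMap.lsmul R (R ⧸ p) r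
  have hg : Function.Injective g := by
    refine (injective_iff_map_eq_zero _).2 fun a ha => ?_
    obtain ⟨a, rfl⟩ := Ideal.Quotient.mk_surjective a
    change Ideal.Quotient.mk p (r * a) = 0 at ha
    rw [Ideal.Quotient.eq_zero_iff_mem] at ha ⊢
    exact ((Ideal.IsPrime.mem_or_mem inferInstance ha).resolve_left hr)
  have hg' := Module.Flat.rTensor_preserves_injective_linearMap (M := N) g hg
  rw [← Submodule.Quotient.mk_eq_zero] at h ⊢
  have key : TensorProduct.quotTensorEquivQuotSMul N p ((1 : R ⧸ p) ⊗ₜ n) = Submodule.Quotient.mk n := by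
    rw [show (1 : R ⧸ p) = Ideal.Quotient.mk p 1 from rfl,
      TensorProduct.quotTensorEquivQuotSMul_mk_tmul, one_smul]
  rw [← key]
  refine (LinearEquiv.map_eq_zero_iff _).2 (hg' ?_)
  rw [map_zero, LinearMap.rTensor_tmul, ← (TensorProduct.quotTensorEquivQuotSMul N p).map_eq_zero_iff,
    show g 1 = Ideal.Quotient.mk p r from (by show r • (1 : R ⧸ p) = _; rw [Algebra.smul_def, mul_one]; rfl), TensorProduct.quotTensorEquivQuotSMul_mk_tmul]
  exact h

variable [p.IsPrime]

/-- The canonical map to the fibre module. -/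
noncomputable abbrev toFib : N →ₗ[S] FlatCA.fiberMod p S N := FlatCA.toFiberMod p S N

lemma exists_smul_eq (x : FlatCA.fiberMod p S N) :
    ∃ r ∉ p, ∃ n : N, algebraMap R S r • x = toFib p n := by
  change (p.Fiber S) ⊗[S] N at x
  induction x using TensorProduct.induction_on with
  | zero => exact ⟨1, fun h => (inferInstance : p.IsPrime).ne_top ((Ideal.eq_top_iff_one _).2 h), 0,
      by show algebraMap R S 1 • (0 : (p.Fiber S) ⊗[S] N) = _; rw [smul_zero, map_zero]; rfl⟩
  | tmul f n =>
    obtain ⟨r, hr, s, h⟩ := Ideal.Fiber.exists_smul_eq_one_tmul p f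
    refine ⟨r, hr, s • n, ?_⟩
    show algebraMap R S r • (f ⊗ₜ[S] n) = (1 : p.Fiber S) ⊗ₜ[S] (s • n)
    rw [TensorProduct.smul_tmul', algebraMap_smul, h, TensorProduct.tmul_smul, TensorProduct.smul_tmul']
    congr 1
    rw [Algebra.smul_def, mul_one]
    rfl
  | add a b ha hb =>
    obtain ⟨r, hr, n, hn⟩ := ha
    obtain ⟨r', hr', n', hn'⟩ := hb
    refine ⟨r * r', fun h => ((inferInstance : p.IsPrime).mem_or_mem h).elim hr hr',
      algebraMap R S r' • n + algebraMap R S r • n', ?_⟩
    rw [map_add, map_smul, map_smul, ← hn, ← hn']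
    show algebraMap R S (r * r') • (a + b) = algebraMap R S r' • algebraMap R S r • a + algebraMap R S r • algebraMap R S r' • b
    rw [map_mul, smul_add, smul_smul, smul_smul, mul_comm (algebraMap R S r')]

lemma toFib_eq_zero_iff {n : N} :
    toFib (S := S) p n = 0 ↔ ∃ r ∉ p, algebraMap R S r • n ∈ (p.map (algebraMap R S)) • (⊤ : Submodule S N) := by
  constructor
  · intro h
    let f : p.Fiber S →+ (N →+ p.ResidueField ⊗[R] N) :=
      { toFun := fun z => AddMonoidHom.mk' (fun n => ((LinearMap.toSpanSingleton S N n).restrictScalars R).lTensor p.ResidueField z)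
          (fun a b => by
            induction z using TensorProduct.induction_on with
            | zero => simp
            | tmul k s => simp [TensorProduct.tmul_add]
            | add u v hu hv => simp only [map_add, hu, hv]; abel)
        map_zero' := by ext a; simp
        map_add' := fun u v => by ext a; simp }
    have hf : ∀ (s : S) (z : p.Fiber S) (m : N), f (s • z) m = f z (s • m) := by
      intro s z m
      induction z using TensorProduct.induction_on with
      | zero => rw [smul_zero, map_zero]; rfl
      | tmul k t =>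
        have h1 : s • (k ⊗ₜ[R] t : p.Fiber S) = k ⊗ₜ[R] (s * t) := by
          rw [Algebra.smul_def]
          show ((1 : p.ResidueField) ⊗ₜ[R] s) * (k ⊗ₜ[R] t) = _
          rw [Algebra.TensorProduct.tmul_mul_tmul, one_mul]
        rw [h1]
        simp [f, smul_smul, mul_comm]
      | add u v hu hv => simp only [smul_add, map_add, AddMonoidHom.add_apply, hu, hv]
    let Ψ := TensorProduct.liftAddHom (R := S) f hf
    have h1 : ((1 : p.ResidueField) ⊗ₜ[R] n : p.ResidueField ⊗[R] N) = 0 := by
      have h2 : Ψ ((1 : p.Fiber S) ⊗ₜ[S] n) = 0 := by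
        rw [show ((1 : p.Fiber S) ⊗ₜ[S] n) = (0 : (p.Fiber S) ⊗[S] N) from h, map_zero]
      simpa [Ψ, f, Algebra.TensorProduct.one_def] using h2
    haveI : IsLocalization (Algebra.algebraMapSubmonoid (R ⧸ p) p.primeCompl) p.ResidueField := by
      have he : Algebra.algebraMapSubmonoid (R ⧸ p) p.primeCompl = nonZeroDivisors (R ⧸ p) := by
        ext y
        constructor
        · rintro ⟨r, hr, rfl⟩
          exact mem_nonZeroDivisors_of_ne_zero fun h0 => hr (Ideal.Quotient.eq_zero_iff_mem.1 h0)
        · intro hy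
          obtain ⟨r, rfl⟩ := Ideal.Quotient.mk_surjective y
          exact ⟨r, fun h0 => nonZeroDivisors.ne_zero hy (Ideal.Quotient.eq_zero_iff_mem.2 h0), rfl⟩
      rw [he]; exact inferInstanceAs (IsFractionRing (R ⧸ p) p.ResidueField)
    haveI : IsLocalizedModule p.primeCompl (IsScalarTower.toAlgHom R (R ⧸ p) p.ResidueField).toLinearMap :=
      isLocalizedModule_iff_isLocalization.2 inferInstance
    let G := TensorProduct.AlgebraTensorModule.rTensor R N (IsScalarTower.toAlgHom R (R ⧸ p) p.ResidueField).toLinearMap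
    have h3 : G ((1 : R ⧸ p) ⊗ₜ[R] n) = 0 := by simpa [G] using h1
    obtain ⟨c, hc⟩ := (IsLocalizedModule.eq_zero_iff p.primeCompl G).1 h3
    refine ⟨c, c.2, (mem_map_smul_top p).2 ?_⟩
    have h4 := congrArg (TensorProduct.quotTensorEquivQuotSMul N p) hc
    rw [Submonoid.smul_def, map_smul, map_zero, show (1 : R ⧸ p) = Ideal.Quotient.mk p 1 from rfl,
      TensorProduct.quotTensorEquivQuotSMul_mk_tmul, one_smul, ← Submodule.Quotient.mk_smul,
      Submodule.Quotient.mk_eq_zero] at h4
    rwa [algebraMap_smul]
  · rintro ⟨r, hr, h⟩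
    have h1 : ∀ a ∈ (p.map (algebraMap R S)), ∀ m : N, ((1 : p.Fiber S) ⊗ₜ[S] (a • m)) = 0 := by
      intro a ha
      induction ha using Submodule.span_induction with
      | mem y hy =>
        obtain ⟨t, ht, rfl⟩ := hy
        intro m
        rw [TensorProduct.tmul_smul, TensorProduct.smul_tmul', algebraMap_smul,
          show t • (1 : p.Fiber S) = 0 by
            rw [Algebra.TensorProduct.one_def, TensorProduct.smul_tmul', ← Algebra.algebraMap_eq_smul_one,
              Ideal.algebraMap_residueField_eq_zero.2 ht, TensorProduct.zero_tmul],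
          TensorProduct.zero_tmul]
      | zero => intro m; rw [zero_smul, TensorProduct.tmul_zero]
      | add a b _ _ ha hb => intro m; rw [add_smul, TensorProduct.tmul_add, ha, hb, add_zero]
      | smul s a _ ha => intro m; rw [smul_eq_mul, mul_comm, mul_smul]; exact ha _
    have h2 : ((1 : p.Fiber S) ⊗ₜ[S] (algebraMap R S r • n)) = 0 := by
      refine Submodule.smul_induction_on h (fun a ha m _ => h1 a ha m) ?_
      intro a b ha hb; rw [TensorProduct.tmul_add, ha, hb, add_zero]
    rw [TensorProduct.tmul_smul, TensorProduct.smul_tmul', algebraMap_smul] at h2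
    have hu : IsUnit (algebraMap R (p.Fiber S) r) := by
      rw [IsScalarTower.algebraMap_apply R p.ResidueField (p.Fiber S)]
      exact (isUnit_iff_ne_zero.2 fun h0 => hr (Ideal.algebraMap_residueField_eq_zero.1 h0)).map _
    rw [Algebra.smul_def, mul_one] at h2
    show ((1 : p.Fiber S) ⊗ₜ[S] n) = 0
    obtain ⟨v, hv⟩ := hu
    have h3 : (v : p.Fiber S) • ((1 : p.Fiber S) ⊗ₜ[S] n) = 0 := by
      rw [TensorProduct.smul_tmul', smul_eq_mul, mul_one, hv]; exact h2
    exact (v.isUnit.smul_eq_zero).1 h3

lemma includeRight_smul (s : S) (x : FlatCA.fiberMod p S N) :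
    (Algebra.TensorProduct.includeRight (R := R) (A := p.ResidueField) (B := S)) s • x = s • x := by
  change (p.Fiber S) ⊗[S] N at x
  show ((Algebra.TensorProduct.includeRight (R := R) (A := p.ResidueField) (B := S)) s) • x = (s • x : (p.Fiber S) ⊗[S] N)
  induction x using TensorProduct.induction_on with
  | zero => rw [smul_zero, smul_zero]
  | tmul f n => rw [TensorProduct.smul_tmul', TensorProduct.smul_tmul', smul_eq_mul, Algebra.smul_def]; rfl
  | add a b ha hb => rw [smul_add, smul_add, ha, hb]

lemma smul_eq_zero_of_notMem {r : R} (hr : r ∉ p) {x : FlatCA.fiberMod p S N}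
    (h : algebraMap R S r • x = 0) : x = 0 := by
  rw [← includeRight_smul, AlgHom.commutes] at h
  have hu : IsUnit (algebraMap R (p.Fiber S) r) := by
    rw [IsScalarTower.algebraMap_apply R p.ResidueField (p.Fiber S)]
    exact (isUnit_iff_ne_zero.2 fun h0 => hr (Ideal.algebraMap_residueField_eq_zero.1 h0)).map _
  exact hu.smul_eq_zero.1 h

lemma ann_eq_of_smul_eq {r : R} (hr : r ∉ p) {x y : FlatCA.fiberMod p S N}
    (h : algebraMap R S r • x = y) : ann S y = ann S x := by
  ext s
  rw [mem_ann, mem_ann, ← h, smul_comm]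
  exact ⟨fun h' => smul_eq_zero_of_notMem p hr h', fun h' => by rw [h', smul_zero]⟩

end Groth.Agent.H2FiberMod
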