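import Mathlib
import Groth.Agent.Lib.H2LocalCrit

/-! Fibrewise criterion of flatness, Noetherian local version. -/

universe u

open TensorProduct LinearMap

namespace Groth.Agent.H2FibreCrit

variable {R S S' M : Type u} [CommRing R] [CommRing S] [CommRing S'] [Algebra R S] [Algebra S S']
  [AddCommGroup M] [Module S' M] [Module S M] [Module R M] [IsScalarTower S S' M] [IsScalarTower R S M]

omit [CommRing S'] [Algebra S S'] [Module S' M] [IsScalarTower S S' M] in
/-- `IS ⊗_S M → M` is injective when `M` is flat over `R`. -/
lemma injective_map_ideal_rTensor [Module.Flat R M] (I : Ideal R) :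
    Function.Injective ((I.map (algebraMap R S)).subtype.rTensor M) := by
  set IS := I.map (algebraMap R S)
  let g : I ⊗[R] M →ₗ[R] IS ⊗[S] M := TensorProduct.lift
    (LinearMap.mk₂ R (fun a x => (⟨algebraMap R S a, Ideal.mem_map_of_mem _ a.2⟩ : IS) ⊗ₜ[S] x)
      (fun a b x => by rw [← add_tmul]; congr 1; exact Subtype.ext (map_add _ _ _))
      (fun c a x => by rw [smul_tmul']; congr 1; exact Subtype.ext (by simp [Algebra.smul_def]))
      (fun a x y => tmul_add _ _ _) (fun c a x => by
        rw [← algebraMap_smul S c x, tmul_smul, algebraMap_smul]))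
  have hg : ∀ z : IS ⊗[S] M, z ∈ LinearMap.range g := by
    intro z
    induction z using TensorProduct.induction_on with
    | zero => exact zero_mem _
    | add a b ha hb => exact add_mem ha hb
    | tmul i x =>
      obtain ⟨i, hi⟩ := i
      suffices h : ∀ (i : S) (hi : i ∈ IS) (x : M), (⟨i, hi⟩ : IS) ⊗ₜ[S] x ∈ LinearMap.range g from h i hi x
      intro i hi
      induction hi using Submodule.span_induction with
      | mem i hi =>
        obtain ⟨a, ha, rfl⟩ := hi
        exact fun x => ⟨⟨a, ha⟩ ⊗ₜ x, by simp [g]⟩
      | zero => intro x; rw [show (⟨0, _⟩ : IS) = 0 from rfl, zero_tmul]; exact zero_mem _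
      | add a b ha hb h1 h2 =>
        intro x
        rw [show (⟨a + b, _⟩ : IS) = ⟨a, ha⟩ + ⟨b, hb⟩ from rfl, add_tmul]
        exact add_mem (h1 x) (h2 x)
      | smul c a ha h1 =>
        intro x
        rw [show (⟨c • a, _⟩ : IS) = c • ⟨a, ha⟩ from rfl, smul_tmul]
        exact h1 (c • x)
  rw [injective_iff_map_eq_zero]
  intro z hz
  obtain ⟨w, rfl⟩ := hg z
  have key : TensorProduct.lid S M (IS.subtype.rTensor M (g w)) = TensorProduct.lid R M (I.subtype.rTensor M w) := by
    clear hz
    induction w using TensorProduct.induction_on with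
    | zero => simp
    | add a b ha hb => simp only [map_add, ha, hb]
    | tmul a x => simp [g, algebraMap_smul]
  rw [hz, map_zero] at key
  have hw : w = 0 := Module.Flat.rTensor_preserves_injective_linearMap (M := M) I.subtype I.injective_subtype
    (((TensorProduct.lid R M).map_eq_zero_iff.1 key.symm).trans (map_zero _).symm)
  rw [hw, map_zero]

variable [IsLocalRing R] [IsLocalRing S] [IsLocalRing S'] [IsNoetherianRing S] [IsNoetherianRing S']
  [IsLocalHom (algebraMap R S)] [IsLocalHom (algebraMap S S')] [Module.Finite S' M] [Nontrivial M] [Module.Flat R M]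

include S' in
lemma faithfullyFlat [Module.Flat S M] : Module.FaithfullyFlat S M := by
  rw [Module.FaithfullyFlat.iff_flat_and_ideal_smul_eq_top]
  refine ⟨inferInstance, fun J hJ => ?_⟩
  by_contra hne
  have h1 : (⊤ : Submodule S' M) ≤ J.map (algebraMap S S') • (⊤ : Submodule S' M) := by
    intro x _
    have : x ∈ (J • ⊤ : Submodule S M) := by rw [hJ]; exact trivial
    refine Submodule.smul_induction_on this (fun a ha y _ => ?_) (fun y z hy hz => add_mem hy hz)
    rw [← algebraMap_smul S' a y]
    exact Submodule.smul_mem_smul (Ideal.mem_map_of_mem _ ha) trivial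
  have h2 : J.map (algebraMap S S') ≤ Ideal.jacobson ⊥ := by
    rw [IsLocalRing.jacobson_eq_maximalIdeal (⊥ : Ideal S') bot_ne_top]
    exact (Ideal.map_mono (IsLocalRing.le_maximalIdeal hne)).trans
      (((IsLocalRing.local_hom_TFAE (algebraMap S S')).out 0 2).1 ‹IsLocalHom (algebraMap S S')›)
  have := Submodule.eq_bot_of_le_smul_of_le_jacobson_bot _ _ (Module.Finite.fg_top (R := S') (M := M)) h1 h2
  exact not_subsingleton M ⟨fun a b => ((Submodule.eq_bot_iff _).1 this a trivial).trans ((Submodule.eq_bot_iff _).1 this b trivial).symm⟩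

include S' in
lemma flat_base [Module.Flat S M] : Module.Flat R S := by
  haveI := faithfullyFlat (S := S) (S' := S') (M := M)
  rw [Module.Flat.iff_lTensor_injective']
  intro J
  let F := TensorProduct.AlgebraTensorModule.lTensor S S J.subtype
  have hF : Function.Injective F := by
    rw [← Module.FaithfullyFlat.lTensor_injective_iff_injective S M F]
    let eJ := AlgebraTensorModule.cancelBaseChange R S S M J
    let eR := AlgebraTensorModule.cancelBaseChange R S S M R
    have key : ∀ z, eR (F.lTensor M z) = J.subtype.lTensor M (eJ z) := by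
      intro z
      induction z using TensorProduct.induction_on with
      | zero => simp
      | add a b ha hb => simp only [map_add, ha, hb]
      | tmul x w =>
        induction w using TensorProduct.induction_on with
        | zero => simp
        | add a b ha hb => simp only [map_add, tmul_add, ha, hb]
        | tmul s j => simp [F, eJ, eR]
    intro a b hab
    refine eJ.injective (Module.Flat.lTensor_preserves_injective_linearMap (M := M) J.subtype J.injective_subtype ?_)
    rw [← key, ← key, hab]
  intro a b hab
  exact hF hab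

include S' in
theorem fibre_criterion (h : Module.Flat (S ⧸ ((IsLocalRing.maximalIdeal R).map (algebraMap R S)))
    ((S ⧸ ((IsLocalRing.maximalIdeal R).map (algebraMap R S))) ⊗[S] M)) : Module.Flat R S ∧ Module.Flat S M := by
  haveI hM : Module.Flat S M := by
    refine Groth.Agent.H2LocalCrit.flat_of_jacobson (S := S') _ ?_ (injective_map_ideal_rTensor _) h
    rw [IsLocalRing.jacobson_eq_maximalIdeal (⊥ : Ideal S') bot_ne_top]
    exact (Ideal.map_mono (((IsLocalRing.local_hom_TFAE (algebraMap R S)).out 0 2).1 ‹IsLocalHom (algebraMap R S)›)).trans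
      (((IsLocalRing.local_hom_TFAE (algebraMap S S')).out 0 2).1 ‹IsLocalHom (algebraMap S S')›)
  exact ⟨flat_base (S' := S') (M := M), hM⟩

end Groth.Agent.H2FibreCrit
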