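import Mathlib
import Groth.Prelude.Def_W4stkschemesremainderFib

/-!
API for `BddFib.FiniteOfDegLE`.
-/

universe u

open CategoryTheory Limits AlgebraicGeometry TensorProduct

namespace Groth.Agent.H2FibreDeg

set_option backward.isDefEq.respectTransparency.types false
set_option linter.style.haveILetI false

variable {K : Type u} [Field K] {n : ℕ}

lemma spec_iff (A : Type u) [CommRing A] [Algebra K A] :
    BddFib.FiniteOfDegLE (CommRingCat.of K) (Spec.map (CommRingCat.ofHom (algebraMap K A))) n ↔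
      Module.Finite K A ∧ Module.finrank K A ≤ n := by
  letI := BddFib.secAlgebra (CommRingCat.of K) (Spec.map (CommRingCat.ofHom (algebraMap K A)))
  let e : Γ(Spec (CommRingCat.of A), ⊤) ≃ₐ[K] A :=
    AlgEquiv.ofRingEquiv (f := (Scheme.ΓSpecIso (CommRingCat.of A)).commRingCatIsoToRingEquiv) (fun x => by
      show ((Scheme.ΓSpecIso (CommRingCat.of K)).inv ≫ (Spec.map (CommRingCat.ofHom (algebraMap K A))).appTop ≫
        (Scheme.ΓSpecIso (CommRingCat.of A)).hom).hom x = _
      rw [Scheme.ΓSpecIso_naturality, Iso.inv_hom_id_assoc]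
      rfl)
  have h1 : Module.Finite K Γ(Spec (CommRingCat.of A), ⊤) ↔ Module.Finite K A :=
    ⟨fun _ => Module.Finite.equiv e.toLinearEquiv, fun _ => Module.Finite.equiv e.toLinearEquiv.symm⟩
  show IsAffine _ ∧ Module.Finite K Γ(Spec (CommRingCat.of A), ⊤) ∧
    Module.finrank K Γ(Spec (CommRingCat.of A), ⊤) ≤ n ↔ _
  rw [h1, e.toLinearEquiv.finrank_eq]
  exact ⟨fun h => h.2, fun h => ⟨isAffine_Spec _, h⟩⟩

lemma of_iso {T T' : Scheme.{u}} {p : T ⟶ Spec (CommRingCat.of K)} {p' : T' ⟶ Spec (CommRingCat.of K)}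
    (e : T ≅ T') (he : e.hom ≫ p' = p) (h : BddFib.FiniteOfDegLE (CommRingCat.of K) p n) :
    BddFib.FiniteOfDegLE (CommRingCat.of K) p' n := by
  letI := BddFib.secAlgebra (CommRingCat.of K) p
  letI := BddFib.secAlgebra (CommRingCat.of K) p'
  obtain ⟨ha, hf, hr⟩ := h
  let ι : Γ(T', ⊤) ≅ Γ(T, ⊤) := Scheme.Γ.mapIso e.op
  let a : Γ(T', ⊤) ≃ₐ[K] Γ(T, ⊤) := AlgEquiv.ofRingEquiv (f := ι.commRingCatIsoToRingEquiv) (fun x => by
    show ((Scheme.ΓSpecIso (CommRingCat.of K)).inv ≫ p'.appTop ≫ e.hom.appTop).hom x = _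
    rw [← Scheme.Hom.comp_appTop, he]; rfl)
  haveI := hf
  exact ⟨IsAffine.of_isIso e.inv, Module.Finite.equiv a.toLinearEquiv.symm, a.toLinearEquiv.finrank_eq ▸ hr⟩

/-- An affine scheme over a field is isomorphic to the spectrum of its algebra of sections. -/
lemma iff_sections {T : Scheme.{u}} (p : T ⟶ Spec (CommRingCat.of K)) [IsAffine T] :
    letI := BddFib.secAlgebra (CommRingCat.of K) p
    T.isoSpec.hom ≫ Spec.map (CommRingCat.ofHom (algebraMap K Γ(T, ⊤))) = p := by
  show T.toSpecΓ ≫ Spec.map ((Scheme.ΓSpecIso (CommRingCat.of K)).inv ≫ p.appTop) = p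
  rw [Spec.map_comp, ← Category.assoc, ← Scheme.toSpecΓ_naturality, Category.assoc,
    toSpecΓ_SpecMap_ΓSpecIso_inv, Category.comp_id]

lemma of_isPullback {L : Type u} [Field L] (φ : K →+* L) {T T' : Scheme.{u}} {p : T ⟶ Spec (CommRingCat.of K)}
    {p' : T' ⟶ Spec (CommRingCat.of L)} {q : T' ⟶ T}
    (hc : IsPullback q p' p (Spec.map (CommRingCat.ofHom φ))) :
    (BddFib.FiniteOfDegLE (CommRingCat.of K) p n → BddFib.FiniteOfDegLE (CommRingCat.of L) p' n) ∧
    (IsAffine T → BddFib.FiniteOfDegLE (CommRingCat.of L) p' n → BddFib.FiniteOfDegLE (CommRingCat.of K) p n) := by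
  letI := φ.toAlgebra
  letI := BddFib.secAlgebra (CommRingCat.of K) p
  have key : ∀ [IsAffine T], BddFib.FiniteOfDegLE (CommRingCat.of L) p' n ↔
      Module.Finite L (L ⊗[K] Γ(T, ⊤)) ∧ Module.finrank L (L ⊗[K] Γ(T, ⊤)) ≤ n := by
    intro _
    rw [← spec_iff (K := L) (n := n) (L ⊗[K] Γ(T, ⊤))]
    have hc' : IsPullback (q ≫ T.isoSpec.hom) p' (Spec.map (CommRingCat.ofHom (algebraMap K Γ(T, ⊤))))
        (Spec.map (CommRingCat.ofHom (algebraMap K L))) := by
      refine hc.of_iso (Iso.refl _) T.isoSpec (Iso.refl _) (Iso.refl _) (by simp) (by simp) ?_ (by simp [RingHom.algebraMap_toAlgebra])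
      simp only [Iso.refl_hom, Category.comp_id]
      exact (iff_sections p).symm
    let e : T' ≅ Spec (CommRingCat.of (L ⊗[K] Γ(T, ⊤))) :=
      hc'.flip.isoPullback ≪≫ pullbackSpecIso K L Γ(T, ⊤)
    have he : e.hom ≫ Spec.map (CommRingCat.ofHom (algebraMap L (L ⊗[K] Γ(T, ⊤)))) = p' := by
      simp only [e, Iso.trans_hom, Category.assoc]
      erw [pullbackSpecIso_hom_fst]
      exact hc'.flip.isoPullback_hom_fst
    refine ⟨of_iso e he, of_iso e.symm ?_⟩
    rw [Iso.symm_hom, ← he, Iso.inv_hom_id_assoc]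
  refine ⟨fun h => ?_, fun hT h => ?_⟩
  · obtain ⟨ha, hf, hr⟩ := h
    haveI := ha
    haveI := hf
    rw [key, Module.finrank_baseChange]
    exact ⟨inferInstance, hr⟩
  · obtain ⟨hf, hr⟩ := key.1 h
    rw [Module.finrank_baseChange] at hr
    haveI := hf
    exact ⟨hT, Module.Finite.of_finite_tensorProduct_of_faithfullyFlat L, hr⟩

lemma finite_discrete {T : Scheme.{u}} {p : T ⟶ Spec (CommRingCat.of K)}
    (h : BddFib.FiniteOfDegLE (CommRingCat.of K) p n) : Finite T ∧ DiscreteTopology T := by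
  letI := BddFib.secAlgebra (CommRingCat.of K) p
  obtain ⟨ha, hf, -⟩ := h
  haveI := ha
  haveI : IsArtinianRing Γ(T, ⊤) := @IsArtinianRing.of_finite K Γ(T, ⊤) _ _ _ _ _ hf
  haveI : IsArtinianScheme (Spec (CommRingCat.of Γ(T, ⊤))) := inferInstance
  exact ⟨Finite.of_equiv _ T.isoSpec.hom.homeomorph.symm.toEquiv, T.isoSpec.hom.homeomorph.symm.discreteTopology⟩

lemma isAffine_of_flat_surjective {T' T : Scheme.{u}} (q : T' ⟶ T) [Flat q] [Surjective q]
    [Finite T'] [DiscreteTopology T'] : IsAffine T := by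
  haveI : Finite T := Finite.of_surjective _ q.surjective
  haveI : T1Space T := t1Space_iff_specializes_imp_eq.2 fun x y hxy => by
    obtain ⟨y', rfl⟩ := q.surjective y
    obtain ⟨x', hx', rfl⟩ := (Flat.generalizingMap q) hxy
    rw [hx'.eq]
  infer_instance

lemma descend_flat_surjective {T' T : Scheme.{u}} (q : T' ⟶ T) [Flat q] [Surjective q]
    (p : T ⟶ Spec (CommRingCat.of K)) (h : BddFib.FiniteOfDegLE (CommRingCat.of K) (q ≫ p) n) :
    BddFib.FiniteOfDegLE (CommRingCat.of K) p n := by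
  obtain ⟨h1, h2⟩ := finite_discrete h
  haveI := isAffine_of_flat_surjective q
  letI := BddFib.secAlgebra (CommRingCat.of K) p
  letI := BddFib.secAlgebra (CommRingCat.of K) (q ≫ p)
  obtain ⟨ha, hf, hr⟩ := h
  haveI := ha
  haveI := hf
  let a : Γ(T, ⊤) →ₐ[K] Γ(T', ⊤) := AlgHom.mk' q.appTop.hom (fun c x => by
    rw [Algebra.smul_def, Algebra.smul_def, map_mul]
    congr 1)
  have hinj : Function.Injective a := by
    have := (AlgebraicGeometry.Flat.flat_and_surjective_iff_faithfullyFlat_of_isAffine (f := q)).1 ⟨inferInstance, inferInstance⟩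
    exact this.injective
  exact ⟨inferInstance, Module.Finite.of_injective a.toLinearMap hinj,
    (LinearMap.finrank_le_finrank_of_injective (f := a.toLinearMap) hinj).trans hr⟩

end Groth.Agent.H2FibreDeg
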