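import Mathlib
import Groth.Prelude.Def_W4stkschemesremainderFib
import Groth.Agent.Lib.H2FibreDeg

/-!
More API for `BddFib.FiniteOfDegLE` and `BddFib.FibreDegLE`: field points, finite covers, residue degrees, towers.
-/

universe u

open CategoryTheory Limits AlgebraicGeometry TensorProduct

namespace Groth.Agent.H2FibreDeg

set_option backward.isDefEq.respectTransparency.types false
set_option linter.style.haveILetI false

variable {X Y : Scheme.{u}} {f : X ⟶ Y} {n : ℕ}

lemma iff_field_points : BddFib.FibreDegLE f n ↔ ∀ (k : Type u) [Field k] (g : Spec (CommRingCat.of k) ⟶ Y),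
    BddFib.FiniteOfDegLE (CommRingCat.of k) (Limits.pullback.snd f g) n := by
  refine ⟨fun h k _ g => ?_, fun h y => h (Y.residueField y) (Y.fromSpecResidueField y)⟩
  obtain ⟨⟨y, φ⟩, rfl⟩ := (Scheme.SpecToEquivOfField k Y).symm.surjective g
  let g' := Spec.map φ ≫ Y.fromSpecResidueField y
  change BddFib.FiniteOfDegLE (CommRingCat.of k) (Limits.pullback.snd f g') n
  let q : pullback f g' ⟶ pullback f (Y.fromSpecResidueField y) :=
    pullback.lift (pullback.fst f g') (pullback.snd f g' ≫ Spec.map φ) (by rw [Category.assoc]; exact pullback.condition)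
  refine (of_isPullback φ.hom (T := pullback f (Y.fromSpecResidueField y))
    (p := pullback.snd f (Y.fromSpecResidueField y)) (q := q) ?_).1 (h y)
  refine IsPullback.of_right ?_ (pullback.lift_snd _ _ _) (IsPullback.of_hasPullback f (Y.fromSpecResidueField y))
  simp only [q, pullback.lift_fst]
  exact IsPullback.of_hasPullback f g'

variable {K : Type u} [Field K]

lemma isAffine_of_finite_discrete (T : Scheme.{u}) [Finite T] [DiscreteTopology T] : IsAffine T := inferInstance

/-- A scheme covered by finitely many schemes finite of bounded degree is finite of bounded degree. -/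
lemma of_cover {T : Scheme.{u}} {p : T ⟶ Spec (CommRingCat.of K)} {ι : Type*} [Fintype ι] {U : ι → Scheme.{u}}
    (j : ∀ i, U i ⟶ T) [∀ i, IsOpenImmersion (j i)] (hcov : ∀ t : T, ∃ i, t ∈ Set.range (j i))
    (d : ι → ℕ) (h : ∀ i, BddFib.FiniteOfDegLE (CommRingCat.of K) (j i ≫ p) (d i)) :
    BddFib.FiniteOfDegLE (CommRingCat.of K) p (∑ i, d i) := by
  classical
  haveI := fun i => (finite_discrete (h i)).1
  haveI := fun i => (finite_discrete (h i)).2
  haveI : Finite T := Finite.of_surjective (fun s : Σ i, U i => j s.1 s.2) fun t =>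
    let ⟨i, x, hx⟩ := hcov t; ⟨⟨i, x⟩, hx⟩
  haveI : DiscreteTopology T := discreteTopology_iff_isOpen_singleton.2 fun t => by
    obtain ⟨i, x, rfl⟩ := hcov t
    simpa using (j i).isOpenEmbedding.isOpenMap {x} (isOpen_discrete _)
  haveI := isAffine_of_finite_discrete T
  letI := BddFib.secAlgebra (CommRingCat.of K) p
  letI : ∀ i, Algebra K Γ(U i, ⊤) := fun i => BddFib.secAlgebra (CommRingCat.of K) (j i ≫ p)
  haveI : ∀ i, Module.Finite K Γ(U i, ⊤) := fun i => (h i).2.1
  let a : ∀ i, Γ(T, ⊤) →ₐ[K] Γ(U i, ⊤) := fun i => AlgHom.mk' (j i).appTop.hom (fun c x => by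
    rw [Algebra.smul_def, Algebra.smul_def, map_mul]; congr 1)
  let r : Γ(T, ⊤) →ₗ[K] Π i, Γ(U i, ⊤) := LinearMap.pi fun i => (a i).toLinearMap
  have hr : Function.Injective r := by
    intro s t hst
    refine TopCat.Sheaf.eq_of_locally_eq' T.sheaf (fun i => (j i) ''ᵁ ((j i) ⁻¹ᵁ ⊤)) ⊤ (fun i => homOfLE le_top) ?_ s t fun i => ?_
    · intro x _
      obtain ⟨i, y, hy⟩ := hcov x
      exact TopologicalSpace.Opens.mem_iSup.2 ⟨i, ⟨y, trivial, hy⟩⟩
    · have h1 : (j i).appTop s = (j i).appTop t := congrFun hst i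
      have h2 := congrArg ((j i).appIso ((j i) ⁻¹ᵁ ⊤)).inv h1
      have key : ∀ z : Γ(T, ⊤), ((j i).appIso ((j i) ⁻¹ᵁ ⊤)).inv ((j i).appTop z) =
          T.presheaf.map (homOfLE le_top : (j i) ''ᵁ ((j i) ⁻¹ᵁ ⊤) ⟶ ⊤).op z := fun z =>
        congrArg (fun m : Γ(T, ⊤) ⟶ Γ(T, (j i) ''ᵁ ((j i) ⁻¹ᵁ ⊤)) => m.hom z) ((j i).app_appIso_inv ⊤)
      exact (key s).symm.trans (h2.trans (key t))
  refine ⟨inferInstance, Module.Finite.of_injective r hr, (LinearMap.finrank_le_finrank_of_injective hr).trans ?_⟩
  rw [Module.finrank_pi_fintype]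
  exact Finset.sum_le_sum fun i _ => (h i).2.2

/-- residue degrees add up to at most the degree. -/
lemma sum_residue_le {T : Scheme.{u}} (p : T ⟶ Spec (CommRingCat.of K))
    (h : BddFib.FiniteOfDegLE (CommRingCat.of K) p n) [Fintype T] :
    ∑ x : T, (letI := ((Scheme.ΓSpecIso (CommRingCat.of K)).inv ≫ p.appTop ≫ T.presheaf.Γgerm x ≫ T.residue x).hom.toAlgebra;
      Module.finrank K (T.residueField x)) ≤ n := by
  classical
  obtain ⟨ha, hf, hr⟩ := h
  letI := BddFib.secAlgebra (CommRingCat.of K) p
  haveI := ha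
  haveI := hf
  haveI : IsArtinianRing Γ(T, ⊤) := IsArtinianRing.of_finite K Γ(T, ⊤)
  letI : ∀ x : T, Algebra K (T.residueField x) := fun x =>
    ((Scheme.ΓSpecIso (CommRingCat.of K)).inv ≫ p.appTop ≫ T.presheaf.Γgerm x ≫ T.residue x).hom.toAlgebra
  let ev : ∀ x : T, Γ(T, ⊤) →ₐ[K] T.residueField x := fun x =>
    { (T.presheaf.Γgerm x ≫ T.residue x).hom with commutes' := fun c => rfl }
  have hsurj : ∀ x, Function.Surjective (ev x) := by
    intro x
    have hU := isAffineOpen_top T
    letI := T.presheaf.algebra_section_stalk (U := ⊤) ⟨x, trivial⟩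
    haveI := hU.isLocalization_stalk ⟨x, trivial⟩
    exact (T.residue_surjective x).comp
      (IsArtinianRing.localization_surjective (hU.primeIdealOf ⟨x, trivial⟩).asIdeal.primeCompl (T.presheaf.stalk x))
  have hker : ∀ x, RingHom.ker (ev x).toRingHom = ((isAffineOpen_top T).primeIdealOf ⟨x, trivial⟩).asIdeal := by
    intro x
    rw [(isAffineOpen_top T).primeIdealOf_eq_map_closedPoint]
    ext a
    exact IsLocalRing.residue_eq_zero_iff _
  let r : Γ(T, ⊤) →ₗ[K] Π x, T.residueField x := LinearMap.pi fun x => (ev x).toLinearMap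
  have hrs : Function.Surjective r := by
    intro y
    choose a ha using fun x => hsurj x (y x)
    obtain ⟨b, hb⟩ := Ideal.exists_forall_sub_mem_ideal (I := fun x => RingHom.ker (ev x).toRingHom) (fun x z hxz => by
      haveI : (RingHom.ker (ev x).toRingHom).IsMaximal := RingHom.ker_isMaximal_of_surjective _ (hsurj x)
      haveI : (RingHom.ker (ev z).toRingHom).IsMaximal := RingHom.ker_isMaximal_of_surjective _ (hsurj z)
      refine Ideal.isCoprime_of_isMaximal fun he => hxz ?_
      simp only [hker] at he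
      have := congrArg (isAffineOpen_top T).fromSpec (PrimeSpectrum.ext he)
      simpa [IsAffineOpen.fromSpec_primeIdealOf] using this) a
    refine ⟨b, funext fun x => ?_⟩
    have := hb x
    rw [RingHom.mem_ker, map_sub, sub_eq_zero] at this
    exact this.trans (ha x)
  haveI : ∀ x, Module.Finite K (T.residueField x) := fun x => Module.Finite.of_surjective (ev x).toLinearMap (hsurj x)
  calc ∑ x : T, Module.finrank K (T.residueField x) = Module.finrank K (Π x, T.residueField x) :=
        (Module.finrank_pi_fintype K).symm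
    _ ≤ Module.finrank K Γ(T, ⊤) := LinearMap.finrank_le_finrank_of_surjective hrs
    _ ≤ n := hr

/-- An algebra over an Artinian algebra all of whose fibres are spanned by `n` elements. -/
lemma finite_of_fibres {A B : Type u} [CommRing A] [Algebra K A] [Module.Finite K A] [CommRing B] [Algebra K B] [Algebra A B]
    [IsScalarTower K A B] (h : ∀ m : Ideal A, m.IsMaximal → Module.Finite (A ⧸ m) ((A ⧸ m) ⊗[A] B) ∧
      Module.finrank (A ⧸ m) ((A ⧸ m) ⊗[A] B) ≤ n) :
    Module.Finite K B ∧ Module.finrank K B ≤ n * Module.finrank K A := by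
  classical
  haveI : IsArtinianRing A := IsArtinianRing.of_finite K A
  haveI : Fintype (MaximalSpectrum A) := Fintype.ofFinite _
  have hgen : ∀ m : MaximalSpectrum A, ∃ b : Fin n → B, ∀ x : B,
      ∃ c : Fin n → A, x - ∑ i, c i • b i ∈ (m.asIdeal • (⊤ : Submodule A B)) := by
    intro m
    haveI := m.isMaximal
    letI := Ideal.Quotient.field m.asIdeal
    obtain ⟨hf, hd⟩ := h m.asIdeal m.isMaximal
    let e := TensorProduct.quotTensorEquivQuotSMul B m.asIdeal
    obtain ⟨s, hs⟩ : ∃ s : Fin n → (A ⧸ m.asIdeal) ⊗[A] B, Submodule.span (A ⧸ m.asIdeal) (Set.range s) = ⊤ := by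
      let bas := Module.finBasis (A ⧸ m.asIdeal) ((A ⧸ m.asIdeal) ⊗[A] B)
      refine ⟨fun i => if hi : (i : ℕ) < _ then bas ⟨i, hi⟩ else 0, top_le_iff.1 ?_⟩
      rw [← bas.span_eq]
      refine Submodule.span_mono ?_
      rintro _ ⟨j, rfl⟩
      exact ⟨⟨j, lt_of_lt_of_le j.2 hd⟩, by simp⟩
    choose b hb using fun i => Submodule.mkQ_surjective (m.asIdeal • (⊤ : Submodule A B)) (e (s i))
    refine ⟨b, fun x => ?_⟩
    obtain ⟨c, hc⟩ := (Submodule.mem_span_range_iff_exists_fun (A ⧸ m.asIdeal)).1
      (hs ▸ Submodule.mem_top (x := e.symm (Submodule.Quotient.mk x)))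
    choose c' hc' using fun i => Ideal.Quotient.mk_surjective (c i)
    refine ⟨c', (Submodule.Quotient.eq _).1 ?_⟩
    have := congrArg e hc
    rw [LinearEquiv.apply_symm_apply, map_sum] at this
    rw [← this, ← Submodule.mkQ_apply, map_sum]
    refine Finset.sum_congr rfl fun i _ => ?_
    rw [← hc' i, ← Ideal.Quotient.algebraMap_eq, algebraMap_smul, map_smul, ← hb i, ← map_smul]
  choose b hb using hgen
  have hcop : Pairwise (Function.onFun IsCoprime fun m : MaximalSpectrum A => m.asIdeal) := fun x y hxy => by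
    haveI := x.isMaximal; haveI := y.isMaximal
    exact Ideal.isCoprime_of_isMaximal fun he => hxy (MaximalSpectrum.ext he)
  have hone : ∀ m : MaximalSpectrum A, ∃ e : A, ∀ m', e - (if m' = m then 1 else 0) ∈ m'.asIdeal := fun m =>
    Ideal.exists_forall_sub_mem_ideal hcop _
  choose e he using hone
  let g : Fin n → B := fun i => ∑ m, e m • b m i
  let N : Submodule A B := Submodule.span A (Set.range g)
  have hN : ∀ m : MaximalSpectrum A, (⊤ : Submodule A B) ≤ N ⊔ m.asIdeal • ⊤ := by
    intro m x _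
    obtain ⟨c, hc⟩ := hb m x
    have hg : ∀ i, g i - b m i ∈ m.asIdeal • (⊤ : Submodule A B) := by
      intro i
      have h2 : g i - b m i = ∑ m', (e m' - if m = m' then 1 else 0) • b m' i := by
        simp [g, sub_smul, Finset.sum_sub_distrib, ite_smul]
      rw [h2]
      exact Submodule.sum_mem _ fun m' _ => Submodule.smul_mem_smul (he m' m) trivial
    refine Submodule.mem_sup.2 ⟨∑ i, c i • g i, Submodule.sum_mem _ fun i _ =>
      Submodule.smul_mem _ _ (Submodule.subset_span ⟨i, rfl⟩), (x - ∑ i, c i • b m i) - ∑ i, c i • (g i - b m i),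
      Submodule.sub_mem _ hc (Submodule.sum_mem _ fun i _ => Submodule.smul_mem _ _ (hg i)), ?_⟩
    simp [smul_sub, Finset.sum_sub_distrib]
  have hall : ∀ (s : Finset (MaximalSpectrum A)), (⊤ : Submodule A B) ≤ N ⊔ (∏ m ∈ s, m.asIdeal) • ⊤ := by
    intro s
    induction s using Finset.induction_on with
    | empty => rw [Finset.prod_empty, Ideal.one_eq_top, Submodule.top_smul]; exact le_sup_right
    | insert m s hms ih =>
      rw [Finset.prod_insert hms]
      refine (hN m).trans (sup_le le_sup_left ?_)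
      refine (Submodule.smul_mono le_rfl ih).trans ?_
      rw [Submodule.smul_sup, Submodule.mul_smul]
      exact sup_le_sup Submodule.smul_le_right le_rfl
  set J := ∏ m : MaximalSpectrum A, m.asIdeal with hJ
  have hnil : IsNilpotent J := by
    obtain ⟨k, hk⟩ := IsArtinianRing.isNilpotent_jacobson_bot (R := A)
    refine ⟨k, le_bot_iff.1 ?_⟩
    rw [← Ideal.zero_eq_bot, ← hk]
    refine Ideal.pow_right_mono (le_sInf fun M hM => ?_) k
    exact (Ideal.prod_le_inf).trans ((Finset.inf_le (Finset.mem_univ (⟨M, hM.2⟩ : MaximalSpectrum A))))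
  have hpow : ∀ k, (⊤ : Submodule A B) ≤ N ⊔ J ^ k • ⊤ := by
    intro k
    induction k with
    | zero => rw [pow_zero, Ideal.one_eq_top, Submodule.top_smul]; exact le_sup_right
    | succ k ih =>
      refine ih.trans (sup_le le_sup_left ?_)
      refine (Submodule.smul_mono le_rfl (hall Finset.univ)).trans ?_
      rw [Submodule.smul_sup, ← Submodule.mul_smul, pow_succ]
      exact sup_le_sup Submodule.smul_le_right le_rfl
  obtain ⟨k, hk⟩ := hnil
  have htop : N = ⊤ := top_le_iff.1 (by simpa [hk] using hpow k)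
  let π : (Fin n → A) →ₗ[K] B := ((Fintype.linearCombination A g).restrictScalars K)
  have hπ : Function.Surjective π := by
    intro x
    obtain ⟨c, hc⟩ := (Submodule.mem_span_range_iff_exists_fun A).1 (htop ▸ Submodule.mem_top (x := x) : x ∈ N)
    exact ⟨c, by simpa [π, Fintype.linearCombination_apply] using hc⟩
  refine ⟨Module.Finite.of_surjective π hπ, (LinearMap.finrank_le_finrank_of_surjective hπ).trans ?_⟩
  simp [Module.finrank_pi_fintype]

/-- The fibres of a quasi-finite algebra of finite type have bounded degree. -/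
lemma exists_bound_fibres (A B : Type u) [CommRing A] [CommRing B] [Algebra A B] [Algebra.FiniteType A B]
    [Algebra.QuasiFinite A B] :
    ∃ d : ℕ, ∀ (K : Type u) [Field K] [Algebra A K],
      BddFib.FiniteOfDegLE (CommRingCat.of K) (Spec.map (CommRingCat.ofHom (algebraMap K (K ⊗[A] B)))) d := by
  classical
  choose S hS r hrq hbij using fun q : PrimeSpectrum B =>
    (Algebra.ZariskisMainProperty.of_finiteType (R := A) q.asIdeal).exists_fg_and_exists_notMem_and_awayMap_bijective
  obtain ⟨t, ht⟩ := isCompact_univ.elim_finite_subcover (fun q : PrimeSpectrum B => (PrimeSpectrum.basicOpen (r q).1 : Set (PrimeSpectrum B)))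
    (fun q => (PrimeSpectrum.basicOpen (r q).1).2) (fun q _ => Set.mem_iUnion.2 ⟨q, hrq q⟩)
  have hgen : ∀ q, ∃ G : Finset (S q), Submodule.span A (G : Set (S q)) = ⊤ := fun q =>
    ((Module.Finite.iff_fg).2 (hS q)).fg_top
  choose G hG using hgen
  refine ⟨∑ q : t, (G q.1).card, fun K _ _ => ?_⟩
  let x : t → K ⊗[A] B := fun q => Algebra.TensorProduct.includeRight (r q.1).1
  let L : t → Type u := fun q => Localization.Away (x q)
  let j : ∀ q : t, Spec (CommRingCat.of (L q)) ⟶ Spec (CommRingCat.of (K ⊗[A] B)) := fun q =>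
    Spec.map (CommRingCat.ofHom (algebraMap (K ⊗[A] B) (L q)))
  haveI : ∀ q, IsOpenImmersion (j q) := fun q => IsOpenImmersion.of_isLocalization (x q)
  refine of_cover j (fun p => ?_) (fun q : t => (G q.1).card) fun q => ?_
  · let p' : PrimeSpectrum B := ⟨(p : PrimeSpectrum (K ⊗[A] B)).asIdeal.comap (Algebra.TensorProduct.includeRight : B →ₐ[A] K ⊗[A] B).toRingHom, inferInstance⟩
    obtain ⟨q, hq, hmem⟩ := Set.mem_iUnion₂.1 (ht (Set.mem_univ p'))
    refine ⟨⟨q, hq⟩, ?_⟩
    change p ∈ Set.range (PrimeSpectrum.comap (algebraMap (K ⊗[A] B) (Localization.Away (x ⟨q, hq⟩))))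
    rw [PrimeSpectrum.localization_away_comap_range (Localization.Away (x ⟨q, hq⟩)) (x ⟨q, hq⟩)]
    exact hmem
  · rw [show j q ≫ Spec.map (CommRingCat.ofHom (algebraMap K (K ⊗[A] B))) =
        Spec.map (CommRingCat.ofHom (algebraMap K (L q))) from (Spec.map_comp _ _).symm, spec_iff]
    let φ : (K ⊗[A] S q.1) →ₐ[K] Localization.Away (x q) := (IsScalarTower.toAlgHom K (K ⊗[A] B) (Localization.Away (x q))).comp
      (Algebra.TensorProduct.map (AlgHom.id K K) (S q.1).val)
    let ψ : ((G q.1) → K) →ₗ[K] K ⊗[A] S q.1 := Fintype.linearCombination K (fun g : G q.1 => (1 : K) ⊗ₜ[A] g.1)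
    have hψ : Function.Surjective ψ := by
      rw [← LinearMap.range_eq_top, Fintype.range_linearCombination, top_le_iff.symm]
      intro z hz; clear hz
      induction z using TensorProduct.induction_on with
      | zero => exact zero_mem _
      | tmul a s =>
        have hs : s ∈ Submodule.span A (G q.1 : Set (S q.1)) := hG q.1 ▸ Submodule.mem_top
        induction hs using Submodule.span_induction with
        | mem y hy =>
          rw [show a ⊗ₜ[A] y = a • ((1 : K) ⊗ₜ[A] y) by rw [TensorProduct.smul_tmul', smul_eq_mul, mul_one]]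
          exact Submodule.smul_mem _ _ (Submodule.subset_span ⟨⟨y, hy⟩, rfl⟩)
        | zero => rw [TensorProduct.tmul_zero]; exact zero_mem _
        | add _ _ _ _ h1 h2 => rw [TensorProduct.tmul_add]; exact add_mem h1 h2
        | smul c y _ h1 =>
          rw [TensorProduct.tmul_smul, ← algebraMap_smul K c (a ⊗ₜ[A] y)]
          exact Submodule.smul_mem _ _ h1
      | add a b h1 h2 => exact add_mem h1 h2
    haveI : Module.Finite K (K ⊗[A] S q.1) := Module.Finite.of_surjective ψ hψ
    have hdim : Module.finrank K (K ⊗[A] S q.1) ≤ (G q.1).card :=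
      (LinearMap.finrank_le_finrank_of_surjective hψ).trans (by simp)
    haveI : Module.Finite K φ.range := Module.Finite.range φ.toLinearMap
    haveI : IsArtinianRing φ.range := IsArtinianRing.of_finite K φ.range
    have hru : IsUnit (algebraMap (K ⊗[A] B) (Localization.Away (x q)) (x q)) := IsLocalization.Away.algebraMap_isUnit _
    let r' : φ.range := ⟨_, (1 : K) ⊗ₜ[A] r q.1, rfl⟩
    have hr' : IsUnit r' := IsArtinianRing.isUnit_of_mem_nonZeroDivisors (mem_nonZeroDivisors_iff_right.2 fun y hy => by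
      refine Subtype.ext ((hru.mul_left_eq_zero).1 ?_)
      exact congrArg Subtype.val hy)
    obtain ⟨v, hv⟩ := hr'.exists_right_inv
    have hvx : algebraMap (K ⊗[A] B) (Localization.Away (x q)) (x q) * v.1 = 1 := by
      exact congrArg Subtype.val hv
    have himg : ∀ z : K ⊗[A] B, algebraMap (K ⊗[A] B) (Localization.Away (x q)) z ∈ φ.range := by
      intro z
      induction z using TensorProduct.induction_on with
      | zero => rw [map_zero]; exact zero_mem _
      | add a b h1 h2 => rw [map_add]; exact add_mem h1 h2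
      | tmul a b =>
        obtain ⟨s, m, hb⟩ := Localization.awayMap_surjective_iff.1 (hbij q.1).2 b
        change (s : B) = (r q.1).1 ^ m * b at hb
        have h1 : algebraMap (K ⊗[A] B) (Localization.Away (x q)) (a ⊗ₜ b) * algebraMap _ _ (x q) ^ m = φ (a ⊗ₜ s) := by
          rw [← map_pow, ← map_mul, show x q ^ m = (1 : K) ⊗ₜ[A] ((r q.1).1 ^ m) from by simp [x, Algebra.TensorProduct.tmul_pow],
            Algebra.TensorProduct.tmul_mul_tmul, mul_one, mul_comm b, ← hb]
          rfl
        have h2 : algebraMap (K ⊗[A] B) (Localization.Away (x q)) (a ⊗ₜ b) = φ (a ⊗ₜ s) * (v.1) ^ m := by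
          rw [← h1, mul_assoc, ← mul_pow, hvx, one_pow, mul_one]
        rw [h2]
        exact mul_mem ⟨_, rfl⟩ (pow_mem v.2 m)
    have hsurj : Function.Surjective φ := by
      intro y
      obtain ⟨⟨z, w, m, rfl⟩, hy⟩ := IsLocalization.surj (Submonoid.powers (x q)) y
      obtain ⟨y', hy'⟩ := mul_mem (himg z) (pow_mem v.2 m)
      refine ⟨y', hy'.trans ?_⟩
      simp only at hy
      rw [← hy, map_pow, mul_assoc, ← mul_pow, hvx, one_pow, mul_one]
    exact ⟨Module.Finite.of_surjective φ.toLinearMap hsurj,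
      (LinearMap.finrank_le_finrank_of_surjective (f := φ.toLinearMap) hsurj).trans hdim⟩

end Groth.Agent.H2FibreDeg
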