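import Mathlib

/-! Reduced finite algebras over an algebraically closed field are formally etale. -/

universe u v

namespace Groth.Agent.H2FiniteAlgClosed

variable (k : Type u) [Field k] [IsAlgClosed k] (A : Type v) [CommRing A] [Algebra k A]
  [Module.Finite k A]

lemma formallyEtale_of_isReduced [IsReduced A] : Algebra.FormallyEtale k A := by
  classical
  haveI : IsArtinianRing A := IsArtinianRing.of_finite k A
  letI (m : MaximalSpectrum A) : Field (A ⧸ m.asIdeal) := Ideal.Quotient.field m.asIdeal
  haveI (m : MaximalSpectrum A) : Algebra.FormallyEtale k (A ⧸ m.asIdeal) := by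
    haveI : Algebra.IsAlgebraic k (A ⧸ m.asIdeal) := Algebra.IsAlgebraic.of_finite k _
    exact Algebra.FormallyEtale.of_equiv (AlgEquiv.ofBijective (Algebra.ofId k (A ⧸ m.asIdeal))
      (IsAlgClosed.algebraMap_bijective_of_isIntegral (k := k) (K := A ⧸ m.asIdeal)))
  exact Algebra.FormallyEtale.of_equiv ((IsArtinianRing.equivPi A).restrictScalars k).symm

end Groth.Agent.H2FiniteAlgClosed
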