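import Mathlib

/-! Invariants of a finite group of invertible order are finitely presented. -/

universe u v w

namespace Groth.Agent.H2FixedFP

set_option linter.style.haveILetI false

variable {R : Type u} {A : Type v} [CommRing R] [CommRing A] [Algebra R A] {G : Type w} [Group G] [Finite G]
  [MulSemiringAction G A] [SMulCommClass G R A]

theorem finitePresentation [Algebra.FinitePresentation R A] (hG : IsUnit ((Nat.card G : ℕ) : R)) :
    Algebra.FinitePresentation R (FixedPoints.subalgebra R A G) := by
  classical
  cases nonempty_fintype G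
  let S := FixedPoints.subalgebra R A G
  obtain ⟨u, hu⟩ := hG
  have hmem : ∀ a : A, (↑u⁻¹ : R) • ∑ g : G, g • a ∈ S := fun a h => by
    show h • ((↑u⁻¹ : R) • ∑ g : G, g • a) = _
    rw [smul_comm, Finset.smul_sum]
    congr 1
    exact Fintype.sum_equiv (Equiv.mulLeft h) _ _ fun g => (mul_smul h g a).symm
  let e : A →ₗ[S] S :=
    { toFun := fun a => ⟨_, hmem a⟩
      map_add' := fun a b => Subtype.ext (by simp [smul_add, Finset.sum_add_distrib])
      map_smul' := fun s a => Subtype.ext (by
        show (↑u⁻¹ : R) • ∑ g : G, g • ((s : A) * a) = (s : A) * ((↑u⁻¹ : R) • ∑ g : G, g • a)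
        rw [mul_smul_comm, Finset.mul_sum]
        congr 1
        exact Finset.sum_congr rfl fun g _ => by rw [smul_mul', show g • (s : A) = s from s.2 g]) }
  have he : ∀ s : S, e s = s := fun s => Subtype.ext (by
    show (↑u⁻¹ : R) • ∑ g : G, g • (s : A) = s
    rw [Finset.sum_congr rfl fun g _ => show g • (s : A) = s from s.2 g, Finset.sum_const, Finset.card_univ,
      ← Nat.card_eq_fintype_card, ← Nat.cast_smul_eq_nsmul R, ← mul_smul, ← hu, Units.inv_mul, one_smul])
  haveI : Algebra.IsInvariant S A G := ⟨fun a ha => ⟨⟨a, ha⟩, rfl⟩⟩
  haveI hint : Algebra.IsIntegral S A := Algebra.IsInvariant.isIntegral S A G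
  haveI : Algebra.FiniteType S A := Algebra.FiniteType.of_restrictScalars_finiteType R S A
  haveI : Module.Finite S A := Algebra.IsIntegral.finite
  -- finite type
  obtain ⟨gs, hgs⟩ := (inferInstance : Algebra.FiniteType R A).out
  have hch : ∀ x : A, ∃ p : Polynomial S, p.Monic ∧ Polynomial.aeval x p = 0 := fun x => hint.isIntegral x
  choose p hp hpx using hch
  let B₀ : Subalgebra R S := Algebra.adjoin R (↑(gs.biUnion fun x => (p x).coeffs) : Set S)
  haveI : Algebra.FiniteType R B₀ := (Subalgebra.fg_iff_finiteType _).1 (Subalgebra.fg_adjoin_finset _)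
  haveI : IsScalarTower R B₀ A := IsScalarTower.of_algebraMap_eq fun r => rfl
  haveI hfin : Module.Finite B₀ A := by
    haveI : Algebra.FiniteType B₀ A := Algebra.FiniteType.of_restrictScalars_finiteType R B₀ A
    haveI : Algebra.IsIntegral B₀ A := by
      refine ⟨fun a => ?_⟩
      have hint' : ∀ x ∈ gs, IsIntegral B₀ x := fun x hx => by
        have hsub : (↑(p x).coeffs : Set S) ⊆ (B₀.toSubring : Set S) := fun c hc =>
          Algebra.subset_adjoin (Finset.mem_coe.2 (Finset.mem_biUnion.2 ⟨x, hx, hc⟩))
        refine ⟨(p x).toSubring B₀.toSubring hsub, (Polynomial.monic_toSubring _ _ _).2 (hp x), ?_⟩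
        have h1 := Polynomial.map_toSubring (p x) B₀.toSubring hsub
        have h2 := hpx x
        rw [← h1, Polynomial.aeval_def, Polynomial.eval₂_map] at h2
        exact h2
      have ha : a ∈ Algebra.adjoin R (gs : Set A) := by rw [hgs]; exact Algebra.mem_top
      induction ha using Algebra.adjoin_induction with
      | mem x hx => exact hint' x hx
      | algebraMap r =>
        rw [IsScalarTower.algebraMap_apply R B₀ A]
        exact isIntegral_algebraMap
      | add x y _ _ hx hy => exact hx.add hy
      | mul x y _ _ hx hy => exact hx.mul hy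
    exact Algebra.IsIntegral.finite
  haveI : Module.Finite B₀ S := by
    haveI : IsScalarTower B₀ S A := IsScalarTower.of_algebraMap_eq fun r => rfl
    exact Module.Finite.of_surjective (e.restrictScalars B₀) fun s => ⟨s, he s⟩
  haveI : Algebra.FiniteType R S := Algebra.FiniteType.trans (S := B₀) inferInstance inferInstance
  -- finite presentation
  obtain ⟨n, f, hf⟩ := Algebra.FiniteType.iff_quotient_mvPolynomial''.1 ‹Algebra.FiniteType R S›
  let P := MvPolynomial (Fin n) R
  letI : Algebra P S := f.toAlgebra
  letI : Algebra P A := (S.val.comp f).toAlgebra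
  haveI : IsScalarTower P S A := IsScalarTower.of_algebraMap_eq fun _ => rfl
  haveI : IsScalarTower R P A := IsScalarTower.of_algebraMap_eq fun r => ((S.val.comp f).commutes r).symm
  haveI : Module.Finite P S := Module.Finite.of_surjective (Algebra.linearMap P S) hf
  haveI : Module.Finite P A := Module.Finite.trans S A
  haveI : Algebra.FinitePresentation P A := Algebra.FinitePresentation.of_restrict_scalars_finitePresentation R P A
  haveI : Module.FinitePresentation P A := Module.FinitePresentation.of_finite_of_finitePresentation P A
  let e' : A →ₗ[P] S := e.restrictScalars P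
  let i : S →ₗ[P] A := (Algebra.linearMap S A).restrictScalars P
  haveI : Module.FinitePresentation P S := by
    refine Module.finitePresentation_of_surjective e' (fun s => ⟨s, he s⟩) ?_
    have : LinearMap.ker e' = LinearMap.range (LinearMap.id - i ∘ₗ e') := by
      ext a
      constructor
      · intro ha
        exact ⟨a, by simp [LinearMap.mem_ker.1 ha]⟩
      · rintro ⟨b, rfl⟩
        rw [LinearMap.mem_ker, LinearMap.sub_apply, map_sub, sub_eq_zero, LinearMap.id_apply]
        exact (he (e b)).symm
    rw [this, LinearMap.range_eq_map]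
    exact Submodule.FG.map _ Module.Finite.fg_top
  exact Algebra.FinitePresentation.of_surjective hf (Module.FinitePresentation.fg_ker (Algebra.linearMap P S) hf)

end Groth.Agent.H2FixedFP
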