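import Mathlib
set_option autoImplicit false

/-! Formal smoothness lifts along nilpotent thickenings of the base for flat algebras. -/
namespace Groth.Agent.H2FlatThickening
open MvPolynomial
set_option backward.isDefEq.respectTransparency.types false
universe u v w w'

theorem formallySmooth_of_flat {R : Type u} {R0 : Type v} {L : Type w} {L0 : Type w'}
    [CommRing R] [CommRing R0] [CommRing L] [CommRing L0] [Algebra R L] [Algebra R R0] [Algebra R0 L0]
    [Algebra R L0] [IsScalarTower R R0 L0] [Algebra L L0] [IsScalarTower R L L0]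
    [Module.Flat R L]
    (a : Ideal R) (n : ℕ) (ha : a ^ n = ⊥) (hR : Function.Surjective (algebraMap R R0))
    (hRk : RingHom.ker (algebraMap R R0) = a) (hL : Function.Surjective (algebraMap L L0))
    (hLk : RingHom.ker (algebraMap L L0) = a.map (algebraMap R L))
    [Algebra.FormallySmooth R0 L0] : Algebra.FormallySmooth R L := by
  classical
  let P := Algebra.Generators.self R L
  let P0 : Algebra.Generators R0 L0 L :=
    { val := algebraMap L L0
      σ' := fun x => X (Function.surjInv hL x)
      aeval_val_σ' := fun x => by simp [Function.surjInv_eq hL x] }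
  let f : P.Hom P0 := ⟨fun i => X i, fun i => by simp [P, P0]⟩
  let F := f.toExtensionHom
  haveI : Algebra.FormallySmooth R P.toExtension.Ring := inferInstanceAs (Algebra.FormallySmooth R (MvPolynomial L R))
  haveI : Algebra.FormallySmooth R0 P0.toExtension.Ring := inferInstanceAs (Algebra.FormallySmooth R0 (MvPolynomial L R0))
  rw [P.toExtension.formallySmooth_iff_split_injection]
  obtain ⟨l0, hl0⟩ := P0.toExtension.formallySmooth_iff_split_injection.1 ‹Algebra.FormallySmooth R0 L0›
  let πN := Algebra.Extension.Cotangent.map F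
  let πF := Algebra.Extension.CotangentSpace.map F
  have hmap : ∀ p : MvPolynomial L R, f.toAlgHom p = MvPolynomial.map (algebraMap R R0) p := fun p => by
    have : f.toAlgHom = MvPolynomial.mapAlgHom (Algebra.ofId R R0) :=
      MvPolynomial.algHom_ext fun i => by simp [Algebra.Generators.Hom.toAlgHom, f]
    rw [this]; rfl
  have hev : ∀ p : MvPolynomial L R, algebraMap L L0 (aeval (id : L → L) p) = aeval P0.val (f.toAlgHom p) :=
    fun p => (f.algebraMap_toAlgHom p).symm
  have hker : ∀ p : MvPolynomial L R, p ∈ P.toExtension.ker ↔ aeval (id : L → L) p = 0 := fun p => Iff.rfl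
  have hker0 : ∀ p : MvPolynomial L R0, p ∈ P0.toExtension.ker ↔ aeval P0.val p = 0 := fun p => Iff.rfl
  let I : Ideal (MvPolynomial L R) := P.toExtension.ker
  let I0 : Ideal (MvPolynomial L R0) := P0.toExtension.ker
  let g : MvPolynomial L R →+* MvPolynomial L R0 := MvPolynomial.map (algebraMap R R0)
  have hg : Function.Surjective g := MvPolynomial.map_surjective (algebraMap R R0) hR
  let ev : MvPolynomial L R →ₐ[R] L := aeval (id : L → L)
  have hevs : Function.Surjective ev := fun x => ⟨X x, aeval_X _ _⟩
  have hevA : (a.map (C : R →+* MvPolynomial L R)).map ev.toRingHom = a.map (algebraMap R L) := by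
    rw [Ideal.map_map]
    congr 1
    exact RingHom.ext fun r => ev.commutes r
  have hkg : RingHom.ker g = a.map C := by rw [MvPolynomial.ker_map, hRk]
  have hI0 : ∀ q ∈ I0, ∃ p ∈ I, g p = q := by
    intro q hq
    obtain ⟨p, rfl⟩ := hg q
    have h0 : ev p ∈ (a.map (C : R →+* MvPolynomial L R)).map ev.toRingHom := by
      rw [hevA, ← hLk, RingHom.mem_ker, hev, hmap]
      exact (hker0 _).1 hq
    obtain ⟨y, hy, hy'⟩ := (Ideal.mem_map_iff_of_surjective _ hevs).1 h0
    refine ⟨p - y, (hker _).2 ?_, ?_⟩
    · show ev (p - y) = 0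
      rw [map_sub, show ev y = ev p from hy', sub_self]
    · rw [map_sub, RingHom.mem_ker.1 (hkg ▸ hy : y ∈ RingHom.ker g), sub_zero]
  have hmk : ∀ (p : MvPolynomial L R) (hp : p ∈ I) (q : MvPolynomial L R0) (hq : q ∈ I0), g p = q →
      πN (Algebra.Extension.Cotangent.mk ⟨p, hp⟩) = Algebra.Extension.Cotangent.mk ⟨q, hq⟩ := by
    intro p hp q hq h
    refine (Algebra.Extension.Cotangent.map_mk F ⟨p, hp⟩).trans ?_
    congr 2
    exact (hmap p).trans h
  have hπN : Function.Surjective πN := fun z => by
    obtain ⟨⟨q, hq⟩, rfl⟩ := Algebra.Extension.Cotangent.mk_surjective z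
    obtain ⟨p, hp, h⟩ := hI0 q hq
    exact ⟨Algebra.Extension.Cotangent.mk ⟨p, hp⟩, hmk p hp q hq h⟩
  let AL : Ideal L := a.map (algebraMap R L)
  let M := P.toExtension.Cotangent
  have hkerπ : ∀ x, πN x = 0 → x ∈ AL • (⊤ : Submodule L M) := by
    intro x hx
    obtain ⟨⟨(p : MvPolynomial L R), (hp : p ∈ I)⟩, rfl⟩ := Algebra.Extension.Cotangent.mk_surjective x
    have hgp : g p ∈ I0 := by
      show aeval P0.val (g p) = 0
      rw [show g p = f.toAlgHom p from (hmap p).symm, ← hev, (hker p).1 hp, map_zero]
    rw [hmk p hp (g p) hgp rfl] at hx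
    have hsq : g p ∈ I0 ^ 2 := (Algebra.Extension.Cotangent.mk_eq_zero_iff _).1 hx
    have hle : I0 ≤ I.map g := fun q hq => by
      obtain ⟨p, hp, rfl⟩ := hI0 q hq
      exact Ideal.mem_map_of_mem _ hp
    have hx' : g p ∈ (I ^ 2).map g := by
      rw [Ideal.map_pow]
      exact Ideal.pow_right_mono hle 2 hsq
    rw [Ideal.mem_map_iff_of_surjective _ hg] at hx'
    obtain ⟨y, hy, hyp⟩ := hx'
    have hd : p - y ∈ a.map (C : R →+* MvPolynomial L R) := by
      rw [← hkg, RingHom.mem_ker, map_sub, hyp, sub_self]
    have hy1 : y ∈ I := Ideal.pow_le_self two_ne_zero hy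
    let z := p - y
    let ι := {m // m ∈ z.support}
    let c : ι → R := fun m => z.coeff m.1
    let t : ι → MvPolynomial L R := fun m => monomial m.1 1
    have hz : z = ∑ m, c m • t m := by
      conv_lhs => rw [z.as_sum]
      rw [← Finset.sum_coe_sort z.support]
      exact Finset.sum_congr rfl fun m _ => by rw [smul_monomial, smul_eq_mul, mul_one]
    have hrel : ∑ m, c m • ev (t m) = 0 := by
      rw [← Finset.sum_congr rfl fun m _ => (map_smul ev (c m) (t m)), ← map_sum, ← hz]
      exact (hker _).1 (sub_mem hp hy1)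
    obtain ⟨k, b, w, hb, hc⟩ := Module.Flat.isTrivialRelation_of_sum_smul_eq_zero (R := R) (M := L) (f := c) (x := fun m => ev (t m)) hrel
    let q : ι → MvPolynomial L R := fun m => t m - ∑ j, b m j • X (w j)
    have hq : ∀ m, q m ∈ I := fun m => (hker _).2 (by
      show ev (q m) = 0
      simp only [q, map_sub, map_sum, map_smul]
      rw [show ev (t m) = _ from hb m, sub_eq_zero]
      exact Finset.sum_congr rfl fun j _ => by rw [show ev (X (w j)) = w j from aeval_X _ _])
    have hzq : z = ∑ m, c m • q m := by
      simp only [q, smul_sub, Finset.sum_sub_distrib, Finset.smul_sum, smul_smul]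
      rw [Finset.sum_comm (γ := ι)]
      simp only [← Finset.sum_smul, hc, zero_smul, Finset.sum_const_zero, sub_zero]
      exact hz
    have hpy : Algebra.Extension.Cotangent.mk (P := P.toExtension) ⟨p, hp⟩ =
        Algebra.Extension.Cotangent.mk ⟨z, sub_mem hp hy1⟩ := by
      rw [← sub_eq_zero, ← map_sub, Algebra.Extension.Cotangent.mk_eq_zero_iff]
      show p - (p - y) ∈ I ^ 2
      rwa [sub_sub_cancel]
    let cc : ι → P.toExtension.Ring := fun m => C (c m)
    have hsum : (⟨z, sub_mem hp hy1⟩ : P.toExtension.ker) = ∑ m, cc m • (⟨q m, hq m⟩ : P.toExtension.ker) := by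
      refine Subtype.ext ?_
      rw [AddSubmonoidClass.coe_finsetSum]
      refine hzq.trans (Finset.sum_congr rfl fun m _ => ?_)
      show c m • q m = C (c m) * q m
      rw [smul_eq_C_mul]
    rw [hpy, hsum, map_sum]
    refine Submodule.sum_mem _ fun m _ => ?_
    rw [map_smul, ← IsScalarTower.algebraMap_smul L (cc m)]
    refine Submodule.smul_mem_smul ?_ Submodule.mem_top
    show ev (C (c m)) ∈ AL
    rw [show ev (C (c m)) = algebraMap R L (c m) from ev.commutes _]
    exact Ideal.mem_map_of_mem _ (mem_map_C_iff.1 hd m.1)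
  let b := P.cotangentSpaceBasis
  choose lift hlift using hπN
  let s : P.toExtension.CotangentSpace →ₗ[L] P.toExtension.Cotangent := b.constr L fun i => lift (l0 (P0.cotangentSpaceBasis i))
  have hs : πN ∘ₗ s = (l0.restrictScalars L) ∘ₗ πF := b.ext fun i => by
    simp only [LinearMap.comp_apply, LinearMap.coe_restrictScalars, s, Module.Basis.constr_basis, hlift, b]
    congr 1
    rw [Algebra.Generators.cotangentSpaceBasis_apply, Algebra.Generators.cotangentSpaceBasis_apply]
    erw [Algebra.Extension.CotangentSpace.map_tmul]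
    rw [map_one]
    congr 2
    show X i = f.toAlgHom (X i)
    simp [Algebra.Generators.Hom.toAlgHom, f]
  let δ : Module.End L P.toExtension.Cotangent := s ∘ₗ P.toExtension.cotangentComplex - 1
  have hδ : ∀ x, δ x ∈ AL • (⊤ : Submodule L M) := fun x => hkerπ _ (by
    show πN (s (P.toExtension.cotangentComplex x) - x) = 0
    rw [map_sub, sub_eq_zero]
    refine (LinearMap.congr_fun hs (P.toExtension.cotangentComplex x)).trans ?_
    show l0 (Algebra.Extension.CotangentSpace.map F (P.toExtension.cotangentComplex x)) = πN x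
    rw [Algebra.Extension.CotangentSpace.map_cotangentComplex]
    exact LinearMap.congr_fun hl0 _)
  have hpow : ∀ k, LinearMap.range (δ ^ k) ≤ AL ^ k • (⊤ : Submodule L M) := by
    intro k
    induction k with
    | zero => simp
    | succ k ih =>
      rw [pow_succ', Module.End.mul_eq_comp, LinearMap.range_comp]
      refine (Submodule.map_mono ih).trans ?_
      rw [Submodule.map_smul'', pow_succ, Submodule.mul_smul]
      refine Submodule.smul_mono le_rfl ?_
      rintro _ ⟨x, -, rfl⟩
      exact hδ x
  have hnil : IsNilpotent δ := ⟨n, LinearMap.ext fun x => by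
    have h1 := hpow n (LinearMap.mem_range_self _ x)
    rw [← Ideal.map_pow, ha, Ideal.map_bot, Submodule.bot_smul, Submodule.mem_bot] at h1
    rw [h1, LinearMap.zero_apply]⟩
  have hu : IsUnit (s ∘ₗ P.toExtension.cotangentComplex : Module.End L P.toExtension.Cotangent) := by
    have := hnil.isUnit_one_add
    rwa [show (1 : Module.End L P.toExtension.Cotangent) + δ = s ∘ₗ P.toExtension.cotangentComplex from add_sub_cancel _ _] at this
  obtain ⟨v, hv⟩ := hu.exists_left_inv
  exact ⟨v ∘ₗ s, (LinearMap.comp_assoc _ _ _).trans hv⟩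

end Groth.Agent.H2FlatThickening
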