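import Mathlib
import Groth.Agent.Lib.H2GenericFree

/-! Generic freeness with finite presentation. -/

universe u

open TensorProduct

namespace Groth.Agent.H2GenericFP

open Groth.Agent.H2GenericFree

variable {R S : Type u} [CommRing R] [CommRing S] [Algebra R S]

lemma free_tensor_of_dvd {M : Type u} [AddCommGroup M] [Module R M] {f g : R} (h : f ∣ g)
    [Module.Free (Localization.Away f) (LocalizedModule (Submonoid.powers f) M)] :
    Module.Free (Localization.Away g) (Localization.Away g ⊗[R] M) := by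
  haveI := free_away_of_dvd (M := M) h
  exact Module.Free.of_equiv (IsLocalizedModule.isBaseChange (Submonoid.powers g) (Localization.Away g)
    (LocalizedModule.mkLinearMap (Submonoid.powers g) M)).equiv.symm

/-- after inverting `f`, algebra of finite presentation (relations fg up to `f`-torsion). -/
theorem exists_algebra_fp (R S : Type u) [CommRing R] [IsDomain R] [CommRing S] [Algebra R S] [Algebra.FiniteType R S] :
    ∃ f : R, f ≠ 0 ∧ ∀ g : R, f ∣ g → Algebra.FinitePresentation (Localization.Away g) (Localization.Away g ⊗[R] S) := by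
  classical
  obtain ⟨n, π, hπ⟩ := Algebra.FiniteType.iff_quotient_mvPolynomial''.1 ‹Algebra.FiniteType R S›
  let P := MvPolynomial (Fin n) R
  let ev : (Fin 1 → P) →ₗ[P] P := LinearMap.proj 0
  let Kr : Submodule P (Fin 1 → P) := Submodule.comap ev (RingHom.ker π)
  obtain ⟨f, K0, hf, hfg, hle, hpow⟩ := exists_fg_relations R n 1 Kr
  refine ⟨f, hf, fun g hg => ?_⟩
  let I0 : Ideal P := K0.map ev
  have hI0 : I0.FG := hfg.map ev
  have hker : ∀ x ∈ I0, π x = 0 := by
    rintro _ ⟨y, hy, rfl⟩
    exact hle hy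
  haveI : Algebra.FinitePresentation R (P ⧸ I0) := Algebra.FinitePresentation.quotient hI0
  let ψ : (P ⧸ I0) →ₐ[R] S := Ideal.Quotient.liftₐ I0 π hker
  have hψs : Function.Surjective ψ := fun s => by
    obtain ⟨x, rfl⟩ := hπ s
    exact ⟨Ideal.Quotient.mk I0 x, rfl⟩
  have hψk : ∀ z, ψ z = 0 → ∃ N : ℕ, g ^ N • z = 0 := by
    intro z hz
    obtain ⟨x, rfl⟩ := Ideal.Quotient.mk_surjective z
    obtain ⟨N, hN⟩ := hpow (fun _ => x) (show π x = 0 from hz)
    obtain ⟨c, rfl⟩ := hg
    refine ⟨N, ?_⟩
    rw [← Ideal.Quotient.mkₐ_eq_mk R, ← map_smul, Ideal.Quotient.mkₐ_eq_mk, Ideal.Quotient.eq_zero_iff_mem, mul_pow, mul_comm, mul_smul]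
    exact I0.smul_of_tower_mem _ ⟨_, hN, by simp [ev]⟩
  set A := Localization.Away g
  let Ψ : A ⊗[R] (P ⧸ I0) →ₐ[A] A ⊗[R] S := Algebra.TensorProduct.map (AlgHom.id A A) ψ
  have hΨ : ∀ z, Ψ z = ψ.toLinearMap.lTensor A z := fun z => by
    induction z using TensorProduct.induction_on with
    | zero => simp
    | add a b ha hb => simp only [map_add, ha, hb]
    | tmul a b => simp [Ψ]
  have hsurj : Function.Surjective Ψ := fun z => by
    obtain ⟨w, rfl⟩ := LinearMap.lTensor_surjective A (g := ψ.toLinearMap) hψs z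
    exact ⟨w, hΨ w⟩
  have hinj : Function.Injective Ψ := by
    rw [injective_iff_map_eq_zero]
    intro z hz
    rw [hΨ] at hz
    obtain ⟨w, rfl⟩ := (lTensor_exact A (LinearMap.exact_subtype_ker_map ψ.toLinearMap) hψs z).1 hz
    clear hz
    induction w using TensorProduct.induction_on with
    | zero => simp
    | add a b ha hb => rw [map_add, ha, hb, add_zero]
    | tmul a y =>
      obtain ⟨N, hN⟩ := hψk y.1 y.2
      have hu : IsUnit (algebraMap R A (g ^ N)) := by
        rw [map_pow]; exact (IsLocalization.Away.algebraMap_isUnit g).pow N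
      obtain ⟨b, rfl⟩ : ∃ b, a = g ^ N • b := ⟨hu.unit⁻¹ * a, by simp [Algebra.smul_def, ← mul_assoc]⟩
      rw [LinearMap.lTensor_tmul, smul_tmul, Submodule.subtype_apply, hN, tmul_zero]
  haveI : Algebra.FinitePresentation A (A ⊗[R] (P ⧸ I0)) := inferInstance
  exact Algebra.FinitePresentation.equiv (R := A) (A := A ⊗[R] (P ⧸ I0)) (AlgEquiv.ofBijective Ψ ⟨hinj, hsurj⟩)

theorem exists_module_fp (R S M : Type u) [CommRing R] [IsDomain R] [CommRing S] [Algebra R S] [Algebra.FiniteType R S]
    [AddCommGroup M] [Module S M] [Module.Finite S M] : ∃ f : R, f ≠ 0 ∧ ∀ g : R, f ∣ g →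
      Module.FinitePresentation (Localization.Away (algebraMap R S g))
        (LocalizedModule (Submonoid.powers (algebraMap R S g)) M) := by
  classical
  obtain ⟨n, π, hπ⟩ := Algebra.FiniteType.iff_quotient_mvPolynomial''.1 ‹Algebra.FiniteType R S›
  obtain ⟨k, s, hs⟩ := Module.Finite.exists_fin (R := S) (M := M)
  let P := MvPolynomial (Fin n) R
  let χ0 : (Fin k → S) →ₗ[S] M := Fintype.linearCombination S s
  have hχ0 : Function.Surjective χ0 := by
    rw [← LinearMap.range_eq_top, Fintype.range_linearCombination, hs]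
  letI := π.toAlgebra
  let red : (Fin k → P) →ₗ[P] (Fin k → S) := LinearMap.compLeft (Algebra.linearMap P S) (Fin k)
  have hred : Function.Surjective red := fun v => by
    choose w hw using fun i => hπ (v i)
    exact ⟨w, _root_.funext hw⟩
  let Kr : Submodule P (Fin k → P) := ((LinearMap.ker χ0).restrictScalars P).comap red
  obtain ⟨f, K0, hf, hfg, hle, hpow⟩ := exists_fg_relations R n k Kr
  refine ⟨f, hf, fun g hg => ?_⟩
  obtain ⟨t, ht⟩ := hfg
  let K1 : Submodule S (Fin k → S) := Submodule.span S ((t.image red : Finset _) : Set (Fin k → S))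
  have hK1 : K1 ≤ LinearMap.ker χ0 := by
    rw [Submodule.span_le]
    intro v hv
    obtain ⟨x, hx, rfl⟩ := Finset.mem_image.1 hv
    exact hle (ht ▸ Submodule.subset_span hx)
  have hK0 : ∀ x ∈ K0, red x ∈ K1 := by
    intro x hx
    rw [← ht] at hx
    induction hx using Submodule.span_induction with
    | mem x hx => exact Submodule.subset_span (Finset.mem_image_of_mem red hx)
    | zero => rw [map_zero]; exact zero_mem _
    | add a b _ _ ha hb => rw [map_add]; exact add_mem ha hb
    | smul c a _ ha => rw [map_smul]; exact K1.smul_of_tower_mem c ha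
  haveI : Module.FinitePresentation S ((Fin k → S) ⧸ K1) :=
    Module.finitePresentation_of_surjective K1.mkQ K1.mkQ_surjective (by rw [Submodule.ker_mkQ]; exact Submodule.fg_span (Finset.finite_toSet _))
  let χ : ((Fin k → S) ⧸ K1) →ₗ[S] M := K1.liftQ χ0 hK1
  have hχ : Function.Surjective χ := fun m => by
    obtain ⟨v, rfl⟩ := hχ0 m; exact ⟨Submodule.Quotient.mk v, rfl⟩
  let G := Submonoid.powers (algebraMap R S g)
  let χ' := LocalizedModule.map G χ
  have hχ' : Function.Injective χ' := by
    rw [injective_iff_map_eq_zero]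
    intro z hz
    obtain ⟨⟨v, c⟩, hv⟩ := IsLocalizedModule.surj G (LocalizedModule.mkLinearMap G _) z
    have h0 : LocalizedModule.mkLinearMap G M (χ v) = 0 := by
      rw [← IsLocalizedModule.map_apply G (LocalizedModule.mkLinearMap G _) (LocalizedModule.mkLinearMap G M) χ, ← hv]
      show χ' ((c : S) • z) = 0
      rw [LinearMap.map_smul_of_tower, hz, smul_zero]
    obtain ⟨⟨_, e, rfl⟩, he⟩ := (IsLocalizedModule.eq_zero_iff G _).1 h0
    obtain ⟨v0, hv0⟩ := Submodule.Quotient.mk_surjective K1 ((algebraMap R S g) ^ e • v)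
    obtain ⟨x, hx⟩ := hred v0
    have hxK : x ∈ Kr := by
      show χ0 (red x) = 0
      rw [hx]
      have := congrArg χ hv0
      rw [map_smul] at this
      exact this.trans he
    obtain ⟨N, hN⟩ := hpow x hxK
    obtain ⟨c', rfl⟩ := hg
    have h1 : (algebraMap R S (f * c')) ^ N • v0 ∈ K1 := by
      rw [← map_pow, mul_pow, mul_comm, map_mul, mul_smul, algebraMap_smul, algebraMap_smul, ← hx]
      refine K1.smul_of_tower_mem _ ?_
      rw [← LinearMap.map_smul_of_tower]
      exact hK0 _ hN
    have h2 : LocalizedModule.mkLinearMap G _ v = 0 := by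
      rw [IsLocalizedModule.eq_zero_iff G]
      refine ⟨⟨(algebraMap R S (f * c')) ^ (N + e), N + e, rfl⟩, ?_⟩
      show (algebraMap R S (f * c')) ^ (N + e) • v = 0
      rw [pow_add, mul_smul, ← hv0, ← Submodule.Quotient.mk_smul, Submodule.Quotient.mk_eq_zero]
      exact h1
    have hcu := IsLocalizedModule.map_units (LocalizedModule.mkLinearMap G ((Fin k → S) ⧸ K1)) c
    rw [Module.End.isUnit_iff] at hcu
    refine hcu.1 ?_
    rw [Module.algebraMap_end_apply, Module.algebraMap_end_apply, smul_zero]
    exact hv.trans h2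
  haveI : Module.FinitePresentation (Localization.Away (algebraMap R S g)) (LocalizedModule G ((Fin k → S) ⧸ K1)) :=
    Module.FinitePresentation.of_equiv (IsLocalizedModule.isBaseChange G (Localization.Away (algebraMap R S g))
      (LocalizedModule.mkLinearMap G ((Fin k → S) ⧸ K1))).equiv
  exact Module.FinitePresentation.of_equiv (LinearEquiv.ofBijective χ' ⟨hχ', LocalizedModule.map_surjective G χ hχ⟩)

theorem generic_freeness {R S M : Type u} [CommRing R] [IsDomain R] [CommRing S] [Algebra R S] [Algebra.FiniteType R S]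
    [AddCommGroup M] [Module S M] [Module R M] [IsScalarTower R S M] [Module.Finite S M] :
    ∃ f : R, f ≠ 0 ∧ ∀ g : R, f ∣ g → Module.Free (Localization.Away g) (Localization.Away g ⊗[R] M) ∧
      Module.Free (Localization.Away g) (Localization.Away g ⊗[R] S) ∧
      Algebra.FinitePresentation (Localization.Away g) (Localization.Away g ⊗[R] S) ∧
      Module.FinitePresentation (Localization.Away (algebraMap R S g))
        (LocalizedModule (Submonoid.powers (algebraMap R S g)) M) := by
  obtain ⟨a, ha, h1⟩ := gf R S M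
  obtain ⟨b, hb, h2⟩ := gf R S S
  obtain ⟨c, hc, h3⟩ := exists_algebra_fp R S
  obtain ⟨d, hd, h4⟩ := exists_module_fp R S M
  refine ⟨a * b * c * d, by simp [ha, hb, hc, hd], fun g hg => ⟨free_tensor_of_dvd (f := a) ?_, free_tensor_of_dvd (f := b) ?_, h3 g ?_, h4 g ?_⟩⟩
  · exact (((dvd_mul_right a b).mul_right c).mul_right d).trans hg
  · exact (((dvd_mul_left b a).mul_right c).mul_right d).trans hg
  · exact ((dvd_mul_left c (a * b)).mul_right d).trans hg
  · exact (dvd_mul_left d (a * b * c)).trans hg

end Groth.Agent.H2GenericFP
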