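import Mathlib
import Groth.Agent.Lib.H2GenericFree

/-! Generic freeness and finite presentation over an arbitrary commutative ring, in the form:
for every `g ≠ 0` there is a nonzero multiple `f` of `g` after inverting which things are free / fp.
No domain or Noetherian hypothesis; for a reduced ring this gives a dense open. -/

universe u

open MvPolynomial

namespace Groth.Agent.H2GenericFlat

open Groth.Agent.H2GenericFree (free_away_of_dvd)

section coord

variable {R : Type u} [CommRing R] [Nontrivial R] {n : ℕ} (f : MvPolynomial (Fin (n + 1)) R)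

local notation3 "up" => 2 + f.totalDegree
local notation3 "r" => fun (i : Fin (n + 1)) ↦ up ^ i.1

noncomputable abbrev T1 (c : R) : MvPolynomial (Fin (n + 1)) R →ₐ[R] MvPolynomial (Fin (n + 1)) R :=
  aeval fun i ↦ if i = 0 then X 0 else X i + c • X 0 ^ r i

omit [Nontrivial R] in
lemma t1_comp (c : R) : (T1 f c).comp (T1 f (-c)) = AlgHom.id _ _ := by
  rw [comp_aeval, ← MvPolynomial.aeval_X_left]
  ext i v
  cases i using Fin.cases <;> simp

noncomputable abbrev T : MvPolynomial (Fin (n + 1)) R ≃ₐ[R] MvPolynomial (Fin (n + 1)) R :=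
  AlgEquiv.ofAlgHom (T1 f 1) (T1 f (-1)) (t1_comp f 1) (by simpa using t1_comp f (-1))

omit [Nontrivial R] in
lemma sum_r_mul_ne (v w : Fin (n + 1) →₀ ℕ) (vlt : ∀ i, v i < up) (wlt : ∀ i, w i < up) (ne : v ≠ w) :
    ∑ x : Fin (n + 1), r x * v x ≠ ∑ x : Fin (n + 1), r x * w x := by
  intro h
  have hup : ∀ z : Fin (n + 1) →₀ ℕ, (∀ i, z i < up) → ∀ l ∈ List.ofFn (z : Fin (n + 1) → ℕ), l < up := by
    intro z hz l hl
    obtain ⟨i, rfl⟩ := List.mem_ofFn.1 hl
    exact hz i
  refine ne <| Finsupp.ext <| congrFun <| List.ofFn_inj.mp ?_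
  apply Nat.ofDigits_inj_of_len_eq (Nat.lt_add_right f.totalDegree Nat.one_lt_two)
    (by simp) (hup v vlt) (hup w wlt)
  simpa only [Nat.ofDigits_eq_sum_mapIdx, List.mapIdx_eq_ofFn, List.get_ofFn, List.length_ofFn,
    Fin.val_cast, mul_comm, List.sum_ofFn] using! h

/-- the image of a monomial is a constant times a monic polynomial of the weighted degree. -/
lemma image_monomial (v : Fin (n + 1) →₀ ℕ) (a : R) : ∃ m : Polynomial (MvPolynomial (Fin n) R), m.Monic ∧
    m.natDegree = ∑ i : Fin (n + 1), (r i) * v i ∧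
    finSuccEquiv R n (T f (monomial v a)) = Polynomial.C (C a) * m := by
  classical
  let im : Fin (n + 1) → Polynomial (MvPolynomial (Fin n) R) := fun i => finSuccEquiv R n (T f (X i))
  have him : ∀ i, (im i).Monic ∧ (im i).natDegree = r i := by
    intro i
    cases i using Fin.cases with
    | zero => simp [im, finSuccEquiv_X_zero]
    | succ j =>
      have : im j.succ = Polynomial.X ^ r j.succ + Polynomial.C (X j) := by
        simp [im, finSuccEquiv_X_succ, finSuccEquiv_X_zero, Fin.succ_ne_zero, add_comm]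
      rw [this]
      exact ⟨Polynomial.monic_X_pow_add_C _ (pow_pos (Nat.add_pos_left two_pos _) _).ne', Polynomial.natDegree_X_pow_add_C⟩
  refine ⟨∏ i, im i ^ v i, Polynomial.monic_prod_of_monic _ _ fun i _ => (him i).1.pow _, ?_, ?_⟩
  · rw [Polynomial.natDegree_prod_of_monic _ _ fun i _ => (him i).1.pow _]
    refine Finset.sum_congr rfl fun i _ => ?_
    rw [(him i).1.natDegree_pow, (him i).2, mul_comm]
  · rw [monomial_eq, Finsupp.prod_fintype _ _ (fun i => pow_zero _), map_mul, map_mul, map_prod, map_prod]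
    congr 1
    · simp [MvPolynomial.finSuccEquiv_apply]
    · exact Finset.prod_congr rfl fun i _ => by rw [map_pow, map_pow]

/-- after a coordinate change the leading coefficient in the first variable is a nonzero constant,
namely one of the coefficients. -/
theorem exists_coord_change (fne : f ≠ 0) :
    ∃ (e : MvPolynomial (Fin (n + 1)) R ≃ₐ[R] MvPolynomial (Fin (n + 1)) R) (v : Fin (n + 1) →₀ ℕ),
      f.coeff v ≠ 0 ∧ (finSuccEquiv R n (e f)).leadingCoeff = C (f.coeff v) := by
  classical
  choose m hm hdeg heq using fun v => image_monomial f v (f.coeff v)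
  obtain ⟨v, vin, vs⟩ := Finset.exists_max_image f.support
    (fun v => ∑ i : Fin (n + 1), (r i) * v i) (support_nonempty.mpr fne)
  refine ⟨T f, v, mem_support_iff.mp vin, ?_⟩
  have hlt : ∀ w ∈ f.support, ∀ i, w i < up := fun w hw i =>
    lt_of_le_of_lt ((monomial_le_degreeOf i hw).trans (degreeOf_le_totalDegree f i)) (by lia)
  have hsum : finSuccEquiv R n (T f f) = ∑ w ∈ f.support, Polynomial.C (C (f.coeff w)) * m w := by
    conv_lhs => arg 2; arg 2; rw [← f.support_sum_monomial_coeff]
    rw [map_sum, map_sum]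
    exact Finset.sum_congr rfl fun w _ => heq w
  have hco : (finSuccEquiv R n (T f f)).coeff (m v).natDegree = C (f.coeff v) := by
    rw [hsum, Polynomial.finsetSum_coeff, Finset.sum_eq_single v]
    · rw [Polynomial.coeff_C_mul, (hm v).coeff_natDegree, mul_one]
    · intro w hw hne
      rw [Polynomial.coeff_C_mul, Polynomial.coeff_eq_zero_of_natDegree_lt, mul_zero]
      refine lt_of_le_of_ne (by rw [hdeg, hdeg]; exact vs w hw) ?_
      rw [hdeg, hdeg]
      exact sum_r_mul_ne f w v (hlt w hw) (hlt v vin) hne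
    · exact fun h => absurd vin h
  have hne : C (σ := Fin n) (f.coeff v) ≠ 0 := fun h => mem_support_iff.mp vin (C_eq_zero.1 h)
  have hdeg' : (finSuccEquiv R n (T f f)).natDegree = (m v).natDegree := by
    refine le_antisymm ?_ (Polynomial.le_natDegree_of_ne_zero (hco ▸ hne))
    rw [hsum]
    refine Polynomial.natDegree_sum_le_of_forall_le _ _ fun w hw => (Polynomial.natDegree_C_mul_le _ _).trans ?_
    rw [hdeg, hdeg]; exact vs w hw
  rw [Polynomial.leadingCoeff, hdeg', hco]

end coord

/-- pseudo-division by a polynomial whose top coefficient is `a`. -/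
theorem exists_pseudo_div {Q : Type u} [CommRing Q] (G : Polynomial Q) (a : Q) (d : ℕ) (hd : G.natDegree ≤ d)
    (ha : G.coeff d = a) (x : Polynomial Q) :
    ∃ (N : ℕ) (q : Polynomial Q) (c : Fin d → Q), a ^ N • x = q * G + ∑ i, Polynomial.C (c i) * Polynomial.X ^ (i : ℕ) := by
  classical
  let W : Submodule Q (Polynomial Q) :=
    { carrier := {x | ∃ (N : ℕ) (q : Polynomial Q) (c : Fin d → Q), a ^ N • x = q * G + ∑ i, Polynomial.C (c i) * Polynomial.X ^ (i : ℕ)}
      add_mem' := by
        rintro x y ⟨N, q, c, h⟩ ⟨N', q', c', h'⟩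
        refine ⟨N + N', a ^ N' • q + a ^ N • q', a ^ N' • c + a ^ N • c', ?_⟩
        have e1 : a ^ (N + N') • x = a ^ N' • (a ^ N • x) := by rw [smul_smul, ← pow_add, add_comm]
        have e2 : a ^ (N + N') • y = a ^ N • (a ^ N' • y) := by rw [smul_smul, ← pow_add]
        rw [smul_add, e1, e2, h, h']
        simp only [Polynomial.smul_eq_C_mul, Pi.add_apply, Pi.smul_apply, smul_eq_mul, map_add, map_mul, add_mul,
          Finset.sum_add_distrib, mul_add, Finset.mul_sum, mul_assoc]
        ring
      zero_mem' := ⟨0, 0, 0, by simp⟩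
      smul_mem' := by
        rintro b x ⟨N, q, c, h⟩
        refine ⟨N, b • q, b • c, ?_⟩
        rw [smul_comm, h]
        simp [Polynomial.smul_eq_C_mul, mul_add, Finset.mul_sum, mul_assoc] }
  have hlow : ∀ i < d, Polynomial.X ^ i ∈ W := fun i hi => ⟨0, 0, Pi.single ⟨i, hi⟩ 1, by
    simp only [pow_zero, one_smul, zero_mul, zero_add]
    rw [Finset.sum_eq_single ⟨i, hi⟩ (fun b _ hb => by simp [Pi.single_eq_of_ne hb]) (by simp)]
    simp⟩
  have htop : Polynomial.X ^ d ∈ W := by
    refine ⟨1, 1, fun i => - G.coeff i, ?_⟩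
    have hG : G = (∑ i : Fin d, Polynomial.C (G.coeff i) * Polynomial.X ^ (i : ℕ)) + Polynomial.C a * Polynomial.X ^ d := by
      rw [← ha, ← Finset.sum_range (fun i => Polynomial.C (G.coeff i) * Polynomial.X ^ i),
        ← Finset.sum_range_succ (fun i => Polynomial.C (G.coeff i) * Polynomial.X ^ i)]
      exact G.as_sum_range_C_mul_X_pow' (by omega)
    simp only [pow_one, one_mul, map_neg, neg_mul, Finset.sum_neg_distrib, Polynomial.smul_eq_C_mul]
    linear_combination -hG
  have hpow : ∀ m, Polynomial.X ^ m ∈ W := by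
    intro m
    induction m with
    | zero =>
      rcases Nat.eq_zero_or_pos d with h | h
      · exact h ▸ htop
      · exact hlow 0 h
    | succ m ih =>
      obtain ⟨N, q, c, h⟩ := ih
      have hrest : (∑ i, Polynomial.C (c i) * Polynomial.X ^ ((i : ℕ) + 1)) ∈ W := by
        refine Submodule.sum_mem _ fun i _ => ?_
        rw [← Polynomial.smul_eq_C_mul]
        refine W.smul_mem _ ?_
        rcases lt_or_eq_of_le (Nat.succ_le_iff.2 i.2) with h' | h'
        · exact hlow _ h'
        · rw [show (i : ℕ) + 1 = d from h']; exact htop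
      obtain ⟨N', q', c', h'⟩ := hrest
      refine ⟨N' + N, a ^ N' • (q * Polynomial.X) + q', c', ?_⟩
      rw [pow_add, mul_smul, pow_succ, ← smul_mul_assoc (a ^ N), h, add_mul, Finset.sum_mul,
        show (∑ i, Polynomial.C (c i) * Polynomial.X ^ (i : ℕ) * Polynomial.X) = ∑ i, Polynomial.C (c i) * Polynomial.X ^ ((i : ℕ) + 1) from
          Finset.sum_congr rfl fun i _ => by rw [pow_succ, mul_assoc], smul_add, h']
      simp only [Polynomial.smul_eq_C_mul]
      ring
  have : x ∈ W := by
    rw [x.as_sum_range_C_mul_X_pow]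
    exact Submodule.sum_mem _ fun i _ => by rw [← Polynomial.smul_eq_C_mul]; exact W.smul_mem _ (hpow i)
  exact this

section good

variable {R : Type u} [CommRing R]

/-- `M` is free after inverting `f`. -/
abbrev FreeAt (f : R) (M : Type u) [AddCommGroup M] [Module R M] : Prop :=
  Module.Free (Localization.Away f) (LocalizedModule (Submonoid.powers f) M)

lemma freeAt_ext {f : R} {X M Z : Type u} [AddCommGroup X] [Module R X] [AddCommGroup M] [Module R M] [AddCommGroup Z] [Module R Z]
    (i : X →ₗ[R] M) (p : M →ₗ[R] Z) (hi : Function.Injective i) (he : Function.Exact i p) (hp : Function.Surjective p)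
    (hX : FreeAt f X) (hZ : FreeAt f Z) : FreeAt f M := by
  let S := Submonoid.powers f
  let i' := LocalizedModule.map S i
  let p' := LocalizedModule.map S p
  have hi' : Function.Injective i' := LocalizedModule.map_injective S i hi
  have he' : Function.Exact i' p' := LocalizedModule.map_exact S i p he
  have hp' : Function.Surjective p' := LocalizedModule.map_surjective S p hp
  obtain ⟨s, hs⟩ := Module.projective_lifting_property p' LinearMap.id hp'
  exact Module.Free.of_equiv (((he'.splitSurjectiveEquiv hi') ⟨s, hs⟩).1).symm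

/-- maps with `f`-power torsion kernel and cokernel. -/
lemma freeAt_congr {f : R} {M N : Type u} [AddCommGroup M] [Module R M] [AddCommGroup N] [Module R N] (φ : M →ₗ[R] N)
    (hker : ∀ x, φ x = 0 → ∃ k : ℕ, f ^ k • x = 0) (hco : ∀ y, ∃ k : ℕ, f ^ k • y ∈ LinearMap.range φ)
    (h : FreeAt f M) : FreeAt f N := by
  let S := Submonoid.powers f
  let φ' := LocalizedModule.map S φ
  have e : ∀ x, φ' (LocalizedModule.mkLinearMap S M x) = LocalizedModule.mkLinearMap S N (φ x) := fun x =>
    IsLocalizedModule.map_apply S (LocalizedModule.mkLinearMap S M) (LocalizedModule.mkLinearMap S N) φ x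
  have hu : ∀ c : S, Function.Bijective fun z : LocalizedModule S N => (c : R) • z := fun c =>
    (Module.End.isUnit_iff _).1 (IsLocalizedModule.map_units (LocalizedModule.mkLinearMap S N) c)
  have hinj : Function.Injective φ' := by
    rw [injective_iff_map_eq_zero]
    intro z hz
    obtain ⟨⟨v, c⟩, hv⟩ := IsLocalizedModule.surj S (LocalizedModule.mkLinearMap S M) z
    have hv' : (c : R) • z = LocalizedModule.mkLinearMap S M v := hv
    have h0 : LocalizedModule.mkLinearMap S N (φ v) = 0 := by
      rw [← e, ← hv', LinearMap.map_smul_of_tower, hz, smul_zero]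
    obtain ⟨⟨_, k, rfl⟩, hk⟩ := (IsLocalizedModule.eq_zero_iff S _).1 h0
    obtain ⟨l, hl⟩ := hker (f ^ k • v) (by rw [map_smul]; exact hk)
    have h1 : LocalizedModule.mkLinearMap S M v = 0 := by
      rw [IsLocalizedModule.eq_zero_iff S]
      exact ⟨⟨f ^ (l + k), l + k, rfl⟩, by show f ^ (l + k) • v = 0; rw [pow_add, mul_smul]; exact hl⟩
    refine ((Module.End.isUnit_iff _).1 (IsLocalizedModule.map_units (LocalizedModule.mkLinearMap S M) c)).1 ?_
    simp only [Module.algebraMap_end_apply, smul_zero]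
    exact hv'.trans h1
  have hsurj : Function.Surjective φ' := by
    intro z
    obtain ⟨⟨v, c⟩, hv⟩ := IsLocalizedModule.surj S (LocalizedModule.mkLinearMap S N) z
    obtain ⟨k, x, hx⟩ := hco v
    obtain ⟨y, hy⟩ := ((Module.End.isUnit_iff _).1
      (IsLocalizedModule.map_units (LocalizedModule.mkLinearMap S M) (⟨f ^ k, k, rfl⟩ * c))).2 (LocalizedModule.mkLinearMap S M x)
    refine ⟨y, (hu (⟨f ^ k, k, rfl⟩ * c)).1 ?_⟩
    simp only
    rw [← LinearMap.map_smul_of_tower]
    have hy' : ((⟨f ^ k, k, rfl⟩ * c : S) : R) • y = LocalizedModule.mkLinearMap S M x := hy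
    rw [hy', e, hx, map_smul, ← hv]
    show f ^ k • (c : R) • z = _
    rw [smul_smul]; rfl
  exact Module.Free.of_equiv (LinearEquiv.ofBijective φ' ⟨hinj, hsurj⟩)

lemma freeAt_torsion {f : R} {M : Type u} [AddCommGroup M] [Module R M] (h : ∀ x : M, ∃ k : ℕ, f ^ k • x = 0) : FreeAt f M := by
  haveI : Subsingleton (LocalizedModule (Submonoid.powers f) M) :=
    LocalizedModule.subsingleton_iff.2 fun z => by
      obtain ⟨N, hN⟩ := h z
      exact ⟨f ^ N, ⟨N, rfl⟩, hN⟩
  exact inferInstanceAs (Module.Free _ _)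

lemma freeAt_free {f : R} {M : Type u} [AddCommGroup M] [Module R M] [Module.Free R M] : FreeAt f M :=
  Module.Free.of_equiv (IsLocalizedModule.isBaseChange (Submonoid.powers f) (Localization.Away f)
    (LocalizedModule.mkLinearMap (Submonoid.powers f) M)).equiv

/-- the quotient is free and the relations are finitely generated, after inverting a nonzero multiple of `g`. -/
def Good (n k : ℕ) (K : Submodule (MvPolynomial (Fin n) R) (Fin k → MvPolynomial (Fin n) R)) : Prop :=
  ∀ g : R, g ≠ 0 → ∃ f : R, f ≠ 0 ∧ g ∣ f ∧ FreeAt f ((Fin k → MvPolynomial (Fin n) R) ⧸ K) ∧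
    ∃ K0 : Submodule (MvPolynomial (Fin n) R) (Fin k → MvPolynomial (Fin n) R), K0.FG ∧ K0 ≤ K ∧
      ∀ x ∈ K, ∃ N : ℕ, f ^ N • x ∈ K0

/-- the ideal case. -/
def GoodI (n : ℕ) (I : Ideal (MvPolynomial (Fin n) R)) : Prop :=
  ∀ g : R, g ≠ 0 → ∃ f : R, f ≠ 0 ∧ g ∣ f ∧ FreeAt f (MvPolynomial (Fin n) R ⧸ I) ∧
    ∃ I0 : Ideal (MvPolynomial (Fin n) R), I0.FG ∧ I0 ≤ I ∧ ∀ x ∈ I, ∃ N : ℕ, f ^ N • x ∈ I0

theorem good_of_goodI (n : ℕ) (hI : ∀ I : Ideal (MvPolynomial (Fin n) R), GoodI n I) : ∀ (k : ℕ) (K), Good (R := R) n k K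
  | 0, K, g, hg => by
    refine ⟨g, hg, dvd_rfl, freeAt_torsion fun x => ⟨0, ?_⟩, ⊥, Submodule.fg_bot, bot_le, fun x _ => ⟨0, ?_⟩⟩
    · obtain ⟨y, rfl⟩ := K.mkQ_surjective x
      rw [Subsingleton.elim y 0, map_zero, smul_zero]
    · rw [Subsingleton.elim x 0, smul_zero]; exact zero_mem _
  | k + 1, K, g, hg => by
    classical
    let P := MvPolynomial (Fin n) R
    let p : (Fin (k + 1) → P) →ₗ[P] P := LinearMap.proj 0
    let c : (Fin k → P) →ₗ[P] (Fin (k + 1) → P) :=
      { toFun := fun v => Fin.cons 0 v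
        map_add' := fun v w => by ext i; cases i using Fin.cases <;> simp
        map_smul' := fun a v => by ext i; cases i using Fin.cases <;> simp }
    have hc : ∀ x, p x = 0 → x = c (Fin.tail x) := fun x hx => by
      refine _root_.funext fun i => ?_
      cases i using Fin.cases with
      | zero => simpa [c, p] using hx
      | succ j => simp [c, Fin.tail]
    let I : Ideal P := K.map p
    obtain ⟨f1, hf1, hgf1, hfree1, I0, ⟨t, ht⟩, hI0, hpow1⟩ := hI I g hg
    obtain ⟨f2, hf2, ⟨e, rfl⟩, hfree2, K0, hfg2, hK0, hpow2⟩ := good_of_goodI n hI k (K.comap c) f1 hf1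
    have ht' : ∀ y ∈ t, ∃ x ∈ K, p x = y := fun y hy => hI0 (ht ▸ Submodule.subset_span hy)
    choose lift hlK hlp using ht'
    let L := Submodule.span P ((t.attach.image fun y => lift y.1 y.2 : Finset _) : Set (Fin (k + 1) → P))
    refine ⟨f1 * e, hf2, hgf1.trans (dvd_mul_right _ _), ?_, L ⊔ K0.map c,
      Submodule.FG.sup (Submodule.fg_span (Finset.finite_toSet _)) (hfg2.map c), sup_le ?_ (Submodule.map_le_iff_le_comap.2 hK0), ?_⟩
    · haveI := free_away_of_dvd (M := P ⧸ I) (dvd_mul_right f1 e)
      refine freeAt_ext ((Submodule.mapQ (K.comap c) K c le_rfl).restrictScalars R)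
        ((Submodule.mapQ K I p (Submodule.le_comap_map p K)).restrictScalars R) ?_ ?_ ?_ hfree2 this
      · show Function.Injective (Submodule.mapQ (K.comap c) K c le_rfl)
        rw [injective_iff_map_eq_zero]
        intro z hz
        obtain ⟨z, rfl⟩ := Submodule.mkQ_surjective _ z
        exact (Submodule.Quotient.mk_eq_zero _).2 ((Submodule.Quotient.mk_eq_zero K).1 hz)
      · intro z
        obtain ⟨z, rfl⟩ := K.mkQ_surjective z
        refine ⟨fun h => ?_, ?_⟩
        · obtain ⟨x, hx, hxz⟩ := (Submodule.Quotient.mk_eq_zero I).1 h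
          refine ⟨Submodule.Quotient.mk (Fin.tail (z - x)), ?_⟩
          show Submodule.Quotient.mk (c (Fin.tail (z - x))) = Submodule.Quotient.mk z
          rw [← hc (z - x) (by rw [map_sub, hxz, sub_self]), Submodule.Quotient.eq]
          simpa using neg_mem hx
        · rintro ⟨w, hw⟩
          obtain ⟨w, rfl⟩ := Submodule.mkQ_surjective _ w
          rw [← hw]
          show Submodule.Quotient.mk (p (c w)) = 0
          simp [p, c]
      · intro z
        obtain ⟨z, rfl⟩ := Submodule.mkQ_surjective _ z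
        exact ⟨Submodule.Quotient.mk (fun _ => z), rfl⟩
    · rw [Submodule.span_le]
      intro v hv
      obtain ⟨y, -, rfl⟩ := Finset.mem_image.1 hv
      exact hlK _ _
    · intro x hx
      obtain ⟨N, hN⟩ := hpow1 (p x) ⟨x, hx, rfl⟩
      obtain ⟨l, hl, hlx⟩ : ∃ l ∈ L, p l = f1 ^ N • p x := by
        have : I0 ≤ L.map p := by
          rw [← ht, Submodule.span_le]
          intro y hy
          exact ⟨lift y hy, Submodule.subset_span (Finset.mem_image.2 ⟨⟨y, hy⟩, Finset.mem_attach _ _, rfl⟩), hlp y hy⟩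
        exact this hN
      have hlK' : l ∈ K := by
        refine (Submodule.span_le.2 ?_) hl
        intro v hv
        obtain ⟨y, -, rfl⟩ := Finset.mem_image.1 hv
        exact hlK _ _
      have hd : p (f1 ^ N • x - l) = 0 := by rw [map_sub, LinearMap.map_smul_of_tower, hlx, sub_self]
      obtain ⟨N', hN'⟩ := hpow2 (Fin.tail (f1 ^ N • x - l)) (show c _ ∈ K by
        rw [← hc _ hd]; exact sub_mem (K.smul_of_tower_mem _ hx) hlK')
      refine ⟨N' + N, ?_⟩
      have : (f1 * e) ^ (N' + N) • x = e ^ N • (f1 * e) ^ N' • (f1 ^ N • x - l) + e ^ N • (f1 * e) ^ N' • l := by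
        rw [← smul_add, ← smul_add, sub_add_cancel, smul_smul, smul_smul]
        congr 1
        ring
      rw [this]
      refine add_mem (Submodule.mem_sup_right ?_) (Submodule.mem_sup_left (L.smul_of_tower_mem _ (L.smul_of_tower_mem _ hl)))
      refine Submodule.smul_of_tower_mem _ _ ⟨_, hN', ?_⟩
      rw [LinearMap.map_smul_of_tower, ← hc _ hd]

theorem goodI [Nontrivial R] : ∀ (n : ℕ) (I : Ideal (MvPolynomial (Fin n) R)), GoodI n I := by
  intro n
  induction n with
  | zero =>
    intro I g hg
    by_cases h : ∀ x ∈ I, g • x = 0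
    · refine ⟨g, hg, dvd_rfl, ?_, ⊥, Submodule.fg_bot, bot_le, fun x hx => ⟨1, by rw [pow_one, h x hx]; exact zero_mem _⟩⟩
      refine freeAt_congr (I.mkQ.restrictScalars R) (fun x hx => ⟨1, by rw [pow_one]; exact h x ((Submodule.Quotient.mk_eq_zero I).1 hx)⟩)
        (fun y => ⟨0, by rw [pow_zero, one_smul]; exact I.mkQ_surjective y⟩) freeAt_free
    · push Not at h
      obtain ⟨x, hx, hgx⟩ := h
      have hgxI : g • x ∈ I := I.smul_of_tower_mem g hx
      have hC : g • x = C (g * x.coeff 0) := by
        rw [eq_C_of_isEmpty (g • x), coeff_smul, smul_eq_mul]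
      have hne : g * x.coeff 0 ≠ 0 := fun h0 => hgx (by rw [hC, h0, map_zero])
      refine ⟨g * x.coeff 0, hne, dvd_mul_right _ _, freeAt_torsion fun z => ⟨1, ?_⟩, Ideal.span {g • x}, Submodule.fg_span_singleton _,
        (Ideal.span_singleton_le_iff_mem _).2 hgxI, fun y _ => ⟨1, ?_⟩⟩
      · obtain ⟨z, rfl⟩ := I.mkQ_surjective z
        rw [pow_one, ← LinearMap.map_smul_of_tower, Submodule.mkQ_apply, Submodule.Quotient.mk_eq_zero, Algebra.smul_def,
          MvPolynomial.algebraMap_eq, ← hC]
        exact I.mul_mem_right _ hgxI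
      · rw [pow_one, show (g * x.coeff 0) • y = (g • x) * y by rw [hC, C_mul']]
        exact Ideal.mul_mem_right _ _ (Ideal.mem_span_singleton_self _)
  | succ n ih =>
    intro I g hg
    by_cases h : ∀ x ∈ I, g • x = 0
    · refine ⟨g, hg, dvd_rfl, ?_, ⊥, Submodule.fg_bot, bot_le, fun x hx => ⟨1, by rw [pow_one, h x hx]; exact zero_mem _⟩⟩
      refine freeAt_congr (I.mkQ.restrictScalars R) (fun x hx => ⟨1, by rw [pow_one]; exact h x ((Submodule.Quotient.mk_eq_zero I).1 hx)⟩)
        (fun y => ⟨0, by rw [pow_zero, one_smul]; exact I.mkQ_surjective y⟩) freeAt_free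
    · push Not at h
      obtain ⟨x, hx, hgx⟩ := h
      have hgxI : g • x ∈ I := I.smul_of_tower_mem g hx
      obtain ⟨e, v, hv, hlead⟩ := exists_coord_change (g • x) hgx
      let P := MvPolynomial (Fin (n + 1)) R
      let Q := MvPolynomial (Fin n) R
      let E : P ≃ₐ[R] Polynomial Q := e.trans (finSuccEquiv R n)
      let φ : Q →ₐ[R] P := E.symm.toAlgHom.comp ((Algebra.ofId Q (Polynomial Q)).restrictScalars R)
      set a : R := (g • x).coeff v
      have hga : g ∣ a := ⟨x.coeff v, by simp [a]⟩
      set d := (E (g • x)).natDegree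
      let t : P := E.symm Polynomial.X
      -- `Q^d → P ⧸ I`
      letI : Module Q (P ⧸ I) := Module.compHom (P ⧸ I) φ.toRingHom
      haveI : IsScalarTower R Q (P ⧸ I) := IsScalarTower.of_algebraMap_smul fun c z => by
        show φ (algebraMap R Q c) • z = c • z
        rw [φ.commutes, algebraMap_smul]
      let χ : (Fin d → Q) →ₗ[Q] P ⧸ I := Fintype.linearCombination Q fun i : Fin d => Submodule.Quotient.mk (t ^ (i : ℕ))
      have hχ : ∀ c : Fin d → Q, χ c = Submodule.Quotient.mk (∑ i, φ (c i) * t ^ (i : ℕ)) := fun c => by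
        rw [← Submodule.mkQ_apply, map_sum, Fintype.linearCombination_apply]
        rfl
      obtain ⟨f, hf, ⟨b, rfl⟩, hfree, K0, ⟨T0, hT0⟩, hK0, hpow⟩ := good_of_goodI n ih d (LinearMap.ker χ) a hv
      have hdiv : ∀ z : P, ∃ (N : ℕ) (q : P) (c : Fin d → Q), a ^ N • z = q * (g • x) + ∑ i, φ (c i) * t ^ (i : ℕ) := by
        intro z
        obtain ⟨N, q, c, h⟩ := exists_pseudo_div (E (g • x)) (C a) d le_rfl hlead (E z)
        refine ⟨N, E.symm q, c, E.injective ?_⟩
        rw [map_smul, map_add, map_mul, AlgEquiv.apply_symm_apply, map_sum, ← algebraMap_smul Q (a ^ N), map_pow,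
          MvPolynomial.algebraMap_eq, h]
        simp [φ, t]
      refine ⟨a * b, hf, hga.trans (dvd_mul_right _ _), ?_, ?_⟩
      · refine freeAt_congr (((LinearMap.ker χ).liftQ χ le_rfl).restrictScalars R) (fun z hz => ⟨0, ?_⟩) ?_ hfree
        · obtain ⟨z, rfl⟩ := Submodule.mkQ_surjective _ z
          rw [pow_zero, one_smul]
          exact (Submodule.Quotient.mk_eq_zero _).2 hz
        · intro y
          obtain ⟨y, rfl⟩ := I.mkQ_surjective y
          obtain ⟨N, q, c, h⟩ := hdiv y
          refine ⟨N, Submodule.Quotient.mk (b ^ N • c), ?_⟩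
          show χ (b ^ N • c) = (a * b) ^ N • Submodule.Quotient.mk y
          rw [LinearMap.map_smul_of_tower, hχ, mul_pow, mul_comm, mul_smul, ← Submodule.Quotient.mk_smul (r := a ^ N), h,
            Submodule.Quotient.mk_add, (Submodule.Quotient.mk_eq_zero I).2 (I.mul_mem_left q hgxI), zero_add]
      · classical
        let lft : (Fin d → Q) → P := fun c => ∑ i, φ (c i) * t ^ (i : ℕ)
        refine ⟨Ideal.span (insert (g • x) ((T0.image lft : Finset P) : Set P)),
          Submodule.fg_span ((Finset.finite_toSet _).insert _), ?_, fun y hy => ?_⟩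
        · rw [Ideal.span_le]
          rintro z (rfl | hz)
          · exact hgxI
          · obtain ⟨c, hc, rfl⟩ := Finset.mem_image.1 hz
            have := hK0 (hT0 ▸ Submodule.subset_span hc)
            rw [LinearMap.mem_ker, hχ, Submodule.Quotient.mk_eq_zero] at this
            exact this
        · set I0 := Ideal.span (insert (g • x) ((T0.image lft : Finset P) : Set P))
          have hgI0 : g • x ∈ I0 := Ideal.subset_span (Set.mem_insert _ _)
          have hcI0 : ∀ c ∈ K0, lft c ∈ I0 := by
            intro c hc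
            rw [← hT0] at hc
            induction hc using Submodule.span_induction with
            | mem c hc => exact Ideal.subset_span (Set.mem_insert_of_mem _ (Finset.mem_image_of_mem lft hc))
            | zero => simp [lft]
            | add c c' _ _ h1 h2 => simpa [lft, add_mul, Finset.sum_add_distrib] using add_mem h1 h2
            | smul r c _ h1 =>
              rw [show lft (r • c) = φ r * lft c from ?_]
              · exact I0.mul_mem_left (φ r) h1
              · simp only [lft, Pi.smul_apply, smul_eq_mul, map_mul, mul_assoc]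
                exact (Finset.mul_sum _ _ _).symm
          obtain ⟨N, q, c, h⟩ := hdiv y
          have hcker : c ∈ LinearMap.ker χ := by
            rw [LinearMap.mem_ker, hχ, Submodule.Quotient.mk_eq_zero, ← add_sub_cancel_left (q * (g • x)) (∑ i, φ (c i) * t ^ (i : ℕ)), ← h]
            exact sub_mem (I.smul_of_tower_mem _ hy) (I.mul_mem_left q hgxI)
          obtain ⟨N', hN'⟩ := hpow c hcker
          refine ⟨N' + N, ?_⟩
          have hl : lft ((a * b) ^ N' • c) = (a * b) ^ N' • ∑ i, φ (c i) * t ^ (i : ℕ) := by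
            simp [lft, Finset.smul_sum]
          rw [pow_add, mul_smul, mul_pow a b N, mul_comm (a ^ N), mul_smul (b ^ N), h, smul_add, smul_add]
          refine add_mem (I0.smul_of_tower_mem _ (I0.smul_of_tower_mem _ (I0.mul_mem_left q hgI0))) ?_
          rw [smul_comm, ← hl]
          exact I0.smul_of_tower_mem _ (hcI0 _ hN')

theorem good [Nontrivial R] (n k : ℕ) (K) : Good (R := R) n k K := good_of_goodI n (goodI n) k K

end good

end Groth.Agent.H2GenericFlat
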