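import Mathlib
import Groth.Agent.Lib.H2GenericFlat

/-! Generic freeness for finite type algebras over an arbitrary nontrivial ring, and reduced base version. -/

universe u

open TensorProduct MvPolynomial

namespace Groth.Agent.H2GenericFlat

variable {R : Type u} [CommRing R] [Nontrivial R] (S : Type u) [CommRing S] [Algebra R S] [Algebra.FiniteType R S]

/-- `S` becomes free and of finite presentation. -/
theorem exists_algebra (g : R) (hg : g ≠ 0) : ∃ f : R, f ≠ 0 ∧ g ∣ f ∧ FreeAt f S ∧
    (Localization.awayMap (algebraMap R S) f).FinitePresentation := by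
  classical
  obtain ⟨n, π, hπ⟩ := Algebra.FiniteType.iff_quotient_mvPolynomial''.1 ‹Algebra.FiniteType R S›
  let P := MvPolynomial (Fin n) R
  obtain ⟨f, hf, hgf, hfree, I0, hI0, hle, hpow⟩ := goodI n (RingHom.ker π) g hg
  refine ⟨f, hf, hgf, ?_, ?_⟩
  · refine freeAt_congr (Ideal.quotientKerAlgEquivOfSurjective hπ).toLinearMap (fun x hx => ⟨0, ?_⟩) (fun y => ⟨0, ?_⟩) hfree
    · rw [pow_zero, one_smul]; exact (AlgEquiv.toLinearEquiv (Ideal.quotientKerAlgEquivOfSurjective hπ)).map_eq_zero_iff.1 hx
    · rw [pow_zero, one_smul]; exact (Ideal.quotientKerAlgEquivOfSurjective hπ).surjective y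
  have hker : ∀ x ∈ I0, π x = 0 := fun x hx => hle hx
  haveI : Algebra.FinitePresentation R (P ⧸ I0) := Algebra.FinitePresentation.quotient hI0
  let ψ : (P ⧸ I0) →ₐ[R] S := Ideal.Quotient.liftₐ I0 π hker
  have hψs : Function.Surjective ψ := fun s => by
    obtain ⟨x, rfl⟩ := hπ s
    exact ⟨Ideal.Quotient.mk I0 x, rfl⟩
  set A := Localization.Away f
  let B := Localization.Away (algebraMap R S f)
  let Ψ : A ⊗[R] (P ⧸ I0) →ₐ[A] A ⊗[R] S := Algebra.TensorProduct.map (AlgHom.id A A) ψ
  have hΨ : ∀ z, Ψ z = ψ.toLinearMap.lTensor A z := fun z => by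
    induction z using TensorProduct.induction_on with
    | zero => simp
    | add a b ha hb => simp only [map_add, ha, hb]
    | tmul a b => simp [Ψ]
  have hsurj : Function.Surjective Ψ := fun z => by
    obtain ⟨w, rfl⟩ := LinearMap.lTensor_surjective A (g := ψ.toLinearMap) hψs z
    exact ⟨w, hΨ w⟩
  have hinj : Function.Injective Ψ := by
    rw [injective_iff_map_eq_zero]
    intro z hz
    rw [hΨ] at hz
    obtain ⟨w, rfl⟩ := (lTensor_exact A (LinearMap.exact_subtype_ker_map ψ.toLinearMap) hψs z).1 hz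
    clear hz
    induction w using TensorProduct.induction_on with
    | zero => simp
    | add a b ha hb => rw [map_add, ha, hb, add_zero]
    | tmul a y =>
      obtain ⟨y, hy⟩ := y
      obtain ⟨x, rfl⟩ := Ideal.Quotient.mk_surjective y
      obtain ⟨N, hN⟩ := hpow x hy
      have hu : IsUnit (algebraMap R A (f ^ N)) := by
        rw [map_pow]; exact (IsLocalization.Away.algebraMap_isUnit f).pow N
      obtain ⟨b, rfl⟩ : ∃ b, a = f ^ N • b := ⟨hu.unit⁻¹ * a, by simp [Algebra.smul_def, ← mul_assoc]⟩
      have h0 : f ^ N • (Ideal.Quotient.mk I0 x) = 0 := by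
        rw [← Ideal.Quotient.mkₐ_eq_mk R, ← map_smul, Ideal.Quotient.mkₐ_eq_mk, Ideal.Quotient.eq_zero_iff_mem.2 hN]
      rw [LinearMap.lTensor_tmul, smul_tmul]
      show b ⊗ₜ[R] (f ^ N • Ideal.Quotient.mk I0 x) = 0
      rw [h0, tmul_zero]
  haveI : Algebra.FinitePresentation A (A ⊗[R] (P ⧸ I0)) := inferInstance
  haveI hFP : Algebra.FinitePresentation A (A ⊗[R] S) :=
    Algebra.FinitePresentation.equiv (R := A) (A := A ⊗[R] (P ⧸ I0)) (AlgEquiv.ofBijective Ψ ⟨hinj, hsurj⟩)
  -- transport to the localisation of `S`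
  letI algAB : Algebra A B := (Localization.awayMap (algebraMap R S) f).toAlgebra
  haveI : IsScalarTower R A B := IsScalarTower.of_algebraMap_eq fun x => by
    show _ = Localization.awayMap (algebraMap R S) f (algebraMap R A x)
    rw [IsScalarTower.algebraMap_apply R S B x]
    simp [Localization.awayMap, IsLocalization.Away.map, IsLocalization.map_eq, B, A]
  haveI : IsLocalization (Algebra.algebraMapSubmonoid S (Submonoid.powers f)) B := by
    rw [Algebra.algebraMapSubmonoid_powers]; infer_instance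
  haveI : Algebra.IsPushout R S A B := Algebra.isPushout_of_isLocalization (Submonoid.powers f) A S B
  show Algebra.FinitePresentation A B
  haveI : Algebra.IsPushout R A S B := Algebra.IsPushout.symm ‹Algebra.IsPushout R S A B›
  exact Algebra.FinitePresentation.equiv (Algebra.IsPushout.equiv R A S B)

variable (M : Type u) [AddCommGroup M] [Module S M] [Module R M] [IsScalarTower R S M] [Module.Finite S M]

/-- `M` becomes free over the base and finitely presented over `S`. -/
theorem exists_module (g : R) (hg : g ≠ 0) : ∃ f : R, f ≠ 0 ∧ g ∣ f ∧ FreeAt f M ∧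
    ∀ f' : R, f ∣ f' → Module.FinitePresentation (Localization.Away (algebraMap R S f'))
      (LocalizedModule (Submonoid.powers (algebraMap R S f')) M) := by
  classical
  obtain ⟨n, π, hπ⟩ := Algebra.FiniteType.iff_quotient_mvPolynomial''.1 ‹Algebra.FiniteType R S›
  obtain ⟨k, s, hs⟩ := Module.Finite.exists_fin (R := S) (M := M)
  let P := MvPolynomial (Fin n) R
  let χ0 : (Fin k → S) →ₗ[S] M := Fintype.linearCombination S s
  have hχ0 : Function.Surjective χ0 := by
    rw [← LinearMap.range_eq_top, Fintype.range_linearCombination, hs]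
  letI := π.toAlgebra
  let red : (Fin k → P) →ₗ[P] (Fin k → S) := LinearMap.compLeft (Algebra.linearMap P S) (Fin k)
  have hred : Function.Surjective red := fun v => by
    choose w hw using fun i => hπ (v i)
    exact ⟨w, _root_.funext hw⟩
  let Kr : Submodule P (Fin k → P) := ((LinearMap.ker χ0).restrictScalars P).comap red
  obtain ⟨f, hf, hgf, hfree, K0, hfg, hle, hpow⟩ := good n k Kr g hg
  haveI : IsScalarTower R P S := IsScalarTower.of_algHom π
  refine ⟨f, hf, hgf, ?_, fun g' hg' => ?_⟩
  · let ev : (Fin k → P) →ₗ[R] M := (χ0.restrictScalars R) ∘ₗ (red.restrictScalars R)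
    have hev : Function.Surjective ev := hχ0.comp hred
    let e : ((Fin k → P) ⧸ Kr) →ₗ[R] M :=
      (LinearMap.ker ev).liftQ ev le_rfl ∘ₗ (Submodule.quotEquivOfEq (Kr.restrictScalars R) (LinearMap.ker ev) (by ext; rfl)).toLinearMap ∘ₗ
        (Submodule.Quotient.restrictScalarsEquiv R Kr).symm.toLinearMap
    refine freeAt_congr e (fun x hx => ⟨0, ?_⟩) (fun y => ⟨0, ?_⟩) hfree
    · obtain ⟨x, rfl⟩ := Kr.mkQ_surjective x
      rw [pow_zero, one_smul]
      exact (Submodule.Quotient.mk_eq_zero Kr).2 hx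
    · obtain ⟨v, rfl⟩ := hev y
      exact ⟨Submodule.Quotient.mk v, by rw [pow_zero, one_smul]; rfl⟩
  obtain ⟨t, ht⟩ := hfg
  let K1 : Submodule S (Fin k → S) := Submodule.span S ((t.image red : Finset _) : Set (Fin k → S))
  have hK1 : K1 ≤ LinearMap.ker χ0 := by
    rw [Submodule.span_le]
    intro v hv
    obtain ⟨x, hx, rfl⟩ := Finset.mem_image.1 hv
    exact hle (ht ▸ Submodule.subset_span hx)
  have hK0 : ∀ x ∈ K0, red x ∈ K1 := by
    intro x hx
    rw [← ht] at hx
    induction hx using Submodule.span_induction with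
    | mem x hx => exact Submodule.subset_span (Finset.mem_image_of_mem red hx)
    | zero => rw [map_zero]; exact zero_mem _
    | add a b _ _ ha hb => rw [map_add]; exact add_mem ha hb
    | smul c a _ ha => rw [map_smul]; exact K1.smul_of_tower_mem c ha
  haveI : Module.FinitePresentation S ((Fin k → S) ⧸ K1) :=
    Module.finitePresentation_of_surjective K1.mkQ K1.mkQ_surjective (by rw [Submodule.ker_mkQ]; exact Submodule.fg_span (Finset.finite_toSet _))
  let χ : ((Fin k → S) ⧸ K1) →ₗ[S] M := K1.liftQ χ0 hK1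
  have hχ : Function.Surjective χ := fun m => by
    obtain ⟨v, rfl⟩ := hχ0 m; exact ⟨Submodule.Quotient.mk v, rfl⟩
  let G := Submonoid.powers (algebraMap R S g')
  let χ' := LocalizedModule.map G χ
  have hχ' : Function.Injective χ' := by
    rw [injective_iff_map_eq_zero]
    intro z hz
    obtain ⟨⟨v, c⟩, hv⟩ := IsLocalizedModule.surj G (LocalizedModule.mkLinearMap G _) z
    have h0 : LocalizedModule.mkLinearMap G M (χ v) = 0 := by
      rw [← IsLocalizedModule.map_apply G (LocalizedModule.mkLinearMap G _) (LocalizedModule.mkLinearMap G M) χ, ← hv]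
      show χ' ((c : S) • z) = 0
      rw [LinearMap.map_smul_of_tower, hz, smul_zero]
    obtain ⟨⟨_, e, rfl⟩, he⟩ := (IsLocalizedModule.eq_zero_iff G _).1 h0
    obtain ⟨v0, hv0⟩ := Submodule.Quotient.mk_surjective K1 ((algebraMap R S g') ^ e • v)
    obtain ⟨x, hx⟩ := hred v0
    have hxK : x ∈ Kr := by
      show χ0 (red x) = 0
      rw [hx]
      have := congrArg χ hv0
      rw [map_smul] at this
      exact this.trans he
    obtain ⟨N, hN⟩ := hpow x hxK
    obtain ⟨c', rfl⟩ := hg'
    have h1 : (algebraMap R S (f * c')) ^ N • v0 ∈ K1 := by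
      rw [← map_pow, mul_pow, mul_comm, map_mul, mul_smul, algebraMap_smul, algebraMap_smul, ← hx]
      refine K1.smul_of_tower_mem _ ?_
      rw [← LinearMap.map_smul_of_tower]
      exact hK0 _ hN
    have h2 : LocalizedModule.mkLinearMap G _ v = 0 := by
      rw [IsLocalizedModule.eq_zero_iff G]
      refine ⟨⟨(algebraMap R S (f * c')) ^ (N + e), N + e, rfl⟩, ?_⟩
      show (algebraMap R S (f * c')) ^ (N + e) • v = 0
      rw [pow_add, mul_smul, ← hv0, ← Submodule.Quotient.mk_smul, Submodule.Quotient.mk_eq_zero]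
      exact h1
    have hcu := IsLocalizedModule.map_units (LocalizedModule.mkLinearMap G ((Fin k → S) ⧸ K1)) c
    rw [Module.End.isUnit_iff] at hcu
    refine hcu.1 ?_
    rw [Module.algebraMap_end_apply, Module.algebraMap_end_apply, smul_zero]
    exact hv.trans h2
  haveI : Module.FinitePresentation (Localization.Away (algebraMap R S g')) (LocalizedModule G ((Fin k → S) ⧸ K1)) :=
    Module.FinitePresentation.of_equiv (IsLocalizedModule.isBaseChange G (Localization.Away (algebraMap R S g'))
      (LocalizedModule.mkLinearMap G ((Fin k → S) ⧸ K1))).equiv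
  exact Module.FinitePresentation.of_equiv (LinearEquiv.ofBijective χ' ⟨hχ', LocalizedModule.map_surjective G χ hχ⟩)

/-- everything at once. -/
theorem exists_generic (g : R) (hg : g ≠ 0) : ∃ f : R, f ≠ 0 ∧ g ∣ f ∧ FreeAt f M ∧ FreeAt f S ∧
    (Localization.awayMap (algebraMap R S) f).FinitePresentation ∧
    Module.FinitePresentation (Localization.Away (algebraMap R S f)) (LocalizedModule (Submonoid.powers (algebraMap R S f)) M) := by
  obtain ⟨a, ha, hga, h1, h2⟩ := exists_module S M g hg
  obtain ⟨f, hf, haf, h3, h4⟩ := exists_algebra S a ha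
  exact ⟨f, hf, hga.trans haf, Groth.Agent.H2GenericFree.free_away_of_dvd haf, h3, h4, h2 f haf⟩

omit [Nontrivial R] in
/-- over a reduced ring the good set is dense. -/
theorem exists_dense (R : Type u) [CommRing R] [IsReduced R] (P : R → Prop)
    (h : ∀ g : R, g ≠ 0 → ∃ f : R, f ≠ 0 ∧ g ∣ f ∧ P f) :
    Dense (⋃ f ∈ {f : R | P f}, (PrimeSpectrum.basicOpen f : Set (PrimeSpectrum R))) := by
  rw [PrimeSpectrum.isTopologicalBasis_basic_opens.dense_iff]
  rintro _ ⟨g, rfl⟩ hne
  have hg : g ≠ 0 := by rintro rfl; simp at hne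
  obtain ⟨f, hf, hgf, hPf⟩ := h g hg
  obtain ⟨q, hq⟩ : ∃ q : PrimeSpectrum R, q ∈ PrimeSpectrum.basicOpen f := by
    by_contra hno
    push Not at hno
    exact hf (IsNilpotent.eq_zero (PrimeSpectrum.basicOpen_eq_bot_iff f |>.1 (eq_bot_iff.2 fun q hq => (hno q hq).elim)))
  refine ⟨q, ?_, Set.mem_biUnion (show f ∈ {f | P f} from hPf) hq⟩
  obtain ⟨c, rfl⟩ := hgf
  exact fun hc => hq (q.asIdeal.mul_mem_right c hc)

end Groth.Agent.H2GenericFlat
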