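import Mathlib
import Groth.Agent.Lib.H2GenericFlat2

/-! Generic flatness over a reduced base scheme. -/

universe u

open AlgebraicGeometry CategoryTheory TopologicalSpace

namespace Groth.Agent.H2GenericFlatSch

open Groth.Agent.H2GenericFlat

/-- `P` at restrictions is monotone. -/
lemma restrict_mono {X S : Scheme.{u}} (P : MorphismProperty Scheme.{u}) [IsZariskiLocalAtTarget P] (f : X ⟶ S)
    {D D' : S.Opens} (h : D' ≤ D) (hP : P (f ∣_ D)) : P (f ∣_ D') := by
  refine (P.arrow_mk_iso_iff (morphismRestrictRestrict f D (D.ι ⁻¹ᵁ D') ≪≫ morphismRestrictEq f ?_)).1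
    (IsZariskiLocalAtTarget.restrict hP _)
  rw [Scheme.Hom.image_preimage_eq_opensRange_inf, Scheme.Opens.opensRange_ι]
  exact inf_eq_right.2 h

set_option backward.isDefEq.respectTransparency false in
/-- affine case. -/
theorem exists_good_affine {X S : Scheme.{u}} [IsAffine X] [IsAffine S] [IsReduced S] (f : X ⟶ S) [LocallyOfFiniteType f]
    (O : S.Opens) (hO : (O : Set S).Nonempty) :
    ∃ D ≤ O, (D : Set S).Nonempty ∧ Flat (f ∣_ D) ∧ LocallyOfFinitePresentation (f ∣_ D) := by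
  classical
  obtain ⟨x, hx⟩ := hO
  obtain ⟨_, ⟨_, ⟨g, rfl⟩, rfl⟩, hxg, hgO⟩ := (isBasis_basicOpen S).exists_subset_of_mem_open hx O.2
  have hft : (f.appTop).hom.FiniteType := HasRingHomProperty.appTop (P := @LocallyOfFiniteType) f inferInstance
  algebraize [f.appTop.hom]
  haveI : _root_.IsReduced Γ(S, ⊤) := inferInstance
  have hg : g ≠ 0 := by
    rintro rfl
    rw [Scheme.basicOpen_zero] at hxg
    exact hxg
  haveI : Nontrivial Γ(S, ⊤) := ⟨⟨g, 0, hg⟩⟩
  obtain ⟨r, hr, hgr, hfree, hfp⟩ := exists_algebra Γ(X, ⊤) g hg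
  refine ⟨S.basicOpen r, ?_, ?_, ?_⟩
  · obtain ⟨c, rfl⟩ := hgr
    rw [Scheme.basicOpen_mul]
    exact inf_le_left.trans hgO
  · rw [Set.nonempty_iff_ne_empty]
    intro he
    have hbot : S.basicOpen r = ⊥ := Opens.ext he
    rw [basicOpen_eq_bot_iff] at hbot
    exact hr hbot
  -- transport to the away map
  have hflat : (Localization.awayMap f.appTop.hom r).Flat := by
    show @Module.Flat _ _ _ _ (Localization.awayMap f.appTop.hom r).toAlgebra.toModule
    letI algAB : Algebra (Localization.Away r) (Localization.Away (f.appTop.hom r)) := (Localization.awayMap f.appTop.hom r).toAlgebra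
    haveI : IsScalarTower Γ(S, ⊤) (Localization.Away r) (Localization.Away (f.appTop.hom r)) :=
      IsScalarTower.of_algebraMap_eq fun x => by
        show _ = Localization.awayMap f.appTop.hom r (algebraMap _ (Localization.Away r) x)
        rw [IsScalarTower.algebraMap_apply Γ(S, ⊤) Γ(X, ⊤) (Localization.Away (f.appTop.hom r)) x]
        simp [Localization.awayMap, IsLocalization.Away.map, IsLocalization.map_eq, RingHom.algebraMap_toAlgebra]
    haveI : Module.Flat Γ(S, ⊤) (LocalizedModule (Submonoid.powers r) Γ(X, ⊤)) := by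
      haveI := IsLocalization.flat (Localization.Away r) (Submonoid.powers r)
      exact Module.Flat.trans Γ(S, ⊤) (Localization.Away r) _
    haveI : IsLocalization (Algebra.algebraMapSubmonoid Γ(X, ⊤) (Submonoid.powers r)) (Localization.Away (f.appTop.hom r)) := by
      rw [Algebra.algebraMapSubmonoid_powers]; exact inferInstanceAs (IsLocalization.Away _ _)
    haveI : IsLocalizedModule (Submonoid.powers r) (IsScalarTower.toAlgHom Γ(S, ⊤) Γ(X, ⊤) (Localization.Away (f.appTop.hom r))).toLinearMap :=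
      isLocalizedModule_iff_isLocalization.2 inferInstance
    haveI : Module.Flat Γ(S, ⊤) (Localization.Away (f.appTop.hom r)) :=
      Module.Flat.of_linearEquiv (IsLocalizedModule.linearEquiv (Submonoid.powers r)
        (IsScalarTower.toAlgHom Γ(S, ⊤) Γ(X, ⊤) (Localization.Away (f.appTop.hom r))).toLinearMap
        (LocalizedModule.mkLinearMap (Submonoid.powers r) Γ(X, ⊤)))
    exact (Module.flat_iff_of_isLocalization (Localization.Away r) (Submonoid.powers r) _).2 inferInstance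
  have key : ∀ (Q : ∀ {A B : Type u} [CommRing A] [CommRing B], (A →+* B) → Prop), RingHom.RespectsIso Q →
      Q (Localization.awayMap f.appTop.hom r) → Q (f ∣_ S.basicOpen r).appTop.hom := by
    intro Q hQ hq
    rw [morphismRestrict_appTop, CommRingCat.hom_comp, hQ.cancel_right_isIso]
    change Q (Scheme.Hom.app f ((S.basicOpen r).ι ''ᵁ ⊤)).hom
    rw [Scheme.Opens.ι_image_top]
    rw [(isAffineOpen_top S).app_basicOpen_eq_away_map f (isAffineOpen_top X), CommRingCat.hom_comp, hQ.cancel_right_isIso]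
    haveI := (isAffineOpen_top S).isLocalization_basicOpen r
    haveI := (isAffineOpen_top X).isLocalization_basicOpen (f.app ⊤ r)
    exact (hQ.isLocalization_away_iff Γ(S, S.basicOpen r) Γ(X, X.basicOpen (f.app ⊤ r)) f.appTop.hom r).1 hq
  haveI : IsAffine (S.basicOpen r).toScheme := (isAffineOpen_top S).basicOpen r
  haveI : IsAffine (f ⁻¹ᵁ S.basicOpen r).toScheme := by
    rw [Scheme.preimage_basicOpen]; exact (isAffineOpen_top X).basicOpen _
  exact ⟨(HasRingHomProperty.iff_of_isAffine (P := @Flat)).2 (key _ RingHom.Flat.respectsIso hflat),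
    (HasRingHomProperty.iff_of_isAffine (P := @LocallyOfFinitePresentation)).2 (key _ RingHom.finitePresentation_respectsIso hfp)⟩

/-- every nonempty open contains a nonempty open over which `f` is flat and lfp. -/
theorem exists_good {X S : Scheme.{u}} (f : X ⟶ S) [IsReduced S] [LocallyOfFiniteType f] [QuasiCompact f]
    (O : S.Opens) (hO : (O : Set S).Nonempty) :
    ∃ D ≤ O, (D : Set S).Nonempty ∧ Flat (f ∣_ D) ∧ LocallyOfFinitePresentation (f ∣_ D) := by
  classical
  obtain ⟨x, hx⟩ := hO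
  obtain ⟨V, hV, hxV, hVO⟩ : ∃ V : S.Opens, IsAffineOpen V ∧ x ∈ V ∧ V ≤ O := by
    obtain ⟨_, ⟨V, hV, rfl⟩, hxV, hVO⟩ := S.isBasis_affineOpens.exists_subset_of_mem_open hx O.2
    exact ⟨V, hV, hxV, hVO⟩
  haveI : IsAffine V.toScheme := hV
  let g := f ∣_ V
  haveI : LocallyOfFiniteType g := IsZariskiLocalAtTarget.restrict ‹_› V
  haveI : QuasiCompact g := IsZariskiLocalAtTarget.restrict ‹_› V
  haveI : CompactSpace (f ⁻¹ᵁ V).toScheme := QuasiCompact.compactSpace_of_compactSpace g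
  let 𝒰 := (f ⁻¹ᵁ V).toScheme.affineCover.finiteSubcover
  have main : ∀ t : Finset 𝒰.I₀, ∃ D : V.toScheme.Opens, (D : Set V.toScheme).Nonempty ∧
      ∀ i ∈ t, Flat ((𝒰.f i ≫ g) ∣_ D) ∧ LocallyOfFinitePresentation ((𝒰.f i ≫ g) ∣_ D) := by
    intro t
    induction t using Finset.induction with
    | empty => exact ⟨⊤, ⟨⟨x, hxV⟩, trivial⟩, by simp⟩
    | insert i t _ ih =>
      obtain ⟨D, hD, hDt⟩ := ih
      obtain ⟨D', hD'D, hD', h1, h2⟩ := exists_good_affine (𝒰.f i ≫ g) D hD
      refine ⟨D', hD', fun j hj => ?_⟩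
      rcases Finset.mem_insert.1 hj with rfl | hj
      · exact ⟨h1, h2⟩
      · exact ⟨restrict_mono @Flat _ hD'D (hDt j hj).1, restrict_mono @LocallyOfFinitePresentation _ hD'D (hDt j hj).2⟩
  obtain ⟨D, hD, hDall⟩ := main Finset.univ
  have hgood : ∀ (P : MorphismProperty Scheme.{u}) [IsZariskiLocalAtSource P],
      (∀ i, P ((𝒰.f i ≫ g) ∣_ D)) → P (g ∣_ D) := by
    intro P _ hP
    refine IsZariskiLocalAtSource.of_openCover (𝒰.pullback₁ (g ⁻¹ᵁ D).ι) fun i => ?_
    have h1 := hP i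
    rw [morphismRestrict_comp] at h1
    have e : ((pullbackRestrictIsoRestrict (𝒰.f i) (g ⁻¹ᵁ D)).inv ≫ (Limits.pullbackSymmetry _ _).hom) ≫
        Limits.pullback.fst (g ⁻¹ᵁ D).ι (𝒰.f i) = 𝒰.f i ∣_ g ⁻¹ᵁ D := by
      rw [Category.assoc, Limits.pullbackSymmetry_hom_comp_fst]
      rfl
    refine (P.cancel_left_of_respectsIso ((pullbackRestrictIsoRestrict (𝒰.f i) (g ⁻¹ᵁ D)).inv ≫ (Limits.pullbackSymmetry _ _).hom) _).1 ?_
    show P (_ ≫ Limits.pullback.fst (g ⁻¹ᵁ D).ι (𝒰.f i) ≫ g ∣_ D)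
    rw [← Category.assoc, e]
    exact h1
  refine ⟨V.ι ''ᵁ D, ?_, ?_, ?_, ?_⟩
  · exact (Scheme.Opens.ι_image_le V D).trans hVO
  · obtain ⟨d, hd⟩ := hD
    exact ⟨V.ι.base d, d, hd, rfl⟩
  · exact ((MorphismProperty.arrow_mk_iso_iff @Flat (morphismRestrictRestrict f V D)).1 (hgood @Flat fun i => (hDall i (Finset.mem_univ i)).1))
  · exact ((MorphismProperty.arrow_mk_iso_iff @LocallyOfFinitePresentation (morphismRestrictRestrict f V D)).1 (hgood @LocallyOfFinitePresentation fun i => (hDall i (Finset.mem_univ i)).2))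

theorem generic_flatness {X S : Scheme.{u}} (f : X ⟶ S) [IsReduced S] [LocallyOfFiniteType f] [QuasiCompact f] :
    ∃ U : S.Opens, Dense (U : Set S) ∧ Flat (f ∣_ U) ∧ LocallyOfFinitePresentation (f ∣_ U) := by
  let G := {D : S.Opens | Flat (f ∣_ D) ∧ LocallyOfFinitePresentation (f ∣_ D)}
  let U : S.Opens := ⨆ D : G, D.1
  have hU : ∀ (P : MorphismProperty Scheme.{u}) [IsZariskiLocalAtTarget P], (∀ D : G, P (f ∣_ D.1)) → P (f ∣_ U) := by
    intro P _ hP
    refine IsZariskiLocalAtTarget.of_iSup_eq_top (fun D : G => U.ι ⁻¹ᵁ D.1) ?_ fun D => ?_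
    · rw [← Scheme.Hom.preimage_iSup]; exact Scheme.Opens.ι_preimage_self U
    · refine (P.arrow_mk_iso_iff (morphismRestrictRestrict f U (U.ι ⁻¹ᵁ D.1) ≪≫ morphismRestrictEq f ?_)).2 (hP D)
      rw [Scheme.Hom.image_preimage_eq_opensRange_inf, Scheme.Opens.opensRange_ι]
      exact inf_eq_right.2 (le_iSup (fun D : G => D.1) D)
  refine ⟨U, ?_, hU @Flat fun D => D.2.1, hU @LocallyOfFinitePresentation fun D => D.2.2⟩
  rw [dense_iff_inter_open]
  intro O hO hne
  obtain ⟨D, hDO, ⟨d, hd⟩, h1, h2⟩ := exists_good f ⟨O, hO⟩ hne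
  exact ⟨d, hDO hd, Opens.mem_iSup.2 ⟨⟨D, h1, h2⟩, hd⟩⟩

end Groth.Agent.H2GenericFlatSch
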