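import Mathlib

/-!
Geometric properties of a morphism over a field descend along field extensions.
-/

universe u

open CategoryTheory Limits MorphismProperty

namespace Groth.Agent.H2GeomDescent

open AlgebraicGeometry

/-- A property of schemes descends along flat surjective morphisms. -/
def Descends (P : ObjectProperty Scheme.{u}) : Prop :=
  ∀ ⦃Z' Z : Scheme.{u}⦄ (q : Z' ⟶ Z) [Flat q] [Surjective q], P Z' → P Z

lemma descends_connected : Descends.{u} (fun X => ConnectedSpace X) := by
  intro Z' Z q _ _ h
  have : Nonempty Z := ⟨q h.toNonempty.some⟩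
  have := q.surjective.connectedSpace q.continuous
  exact this

lemma descends_irreducible : Descends.{u} (fun X => IrreducibleSpace X) := by
  intro Z' Z q _ _ h
  have h2 : IsIrreducible (Set.univ : Set Z) := by
    rw [← q.surjective.range_eq, ← Set.image_univ]
    exact (IrreducibleSpace.isIrreducible_univ Z').image _ q.continuous.continuousOn
  exact (irreducibleSpace_def _).2 h2

lemma descends_reduced : Descends.{u} (fun X => IsReduced X) := by
  intro Z' Z q _ _ h
  have : ∀ z : Z, _root_.IsReduced (Z.presheaf.stalk z) := by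
    intro z
    obtain ⟨z', rfl⟩ := q.surjective z
    have hf : (q.stalkMap z').hom.Flat := Flat.stalkMap q z'
    algebraize [(q.stalkMap z').hom]
    haveI : IsLocalHom (algebraMap (Z.presheaf.stalk (q z')) (Z'.presheaf.stalk z')) :=
      inferInstanceAs (IsLocalHom (q.stalkMap z').hom)
    haveI := Module.FaithfullyFlat.of_flat_of_isLocalHom
      (A := Z.presheaf.stalk (q z')) (B := Z'.presheaf.stalk z')
    exact isReduced_of_injective (q.stalkMap z').hom
      (FaithfulSMul.algebraMap_injective (Z.presheaf.stalk (q z')) (Z'.presheaf.stalk z'))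
  exact isReduced_of_isReduced_stalk Z

variable {P : ObjectProperty Scheme.{u}}

lemma geometrically_of_isPullback [P.IsClosedUnderIsomorphisms] (hP : Descends P)
    {X S X' T : Scheme.{u}} {f : X ⟶ S} {e : T ⟶ S} [Surjective e]
    {f' : X' ⟶ T} {e' : X' ⟶ X} (hc : IsPullback e' f' f e) (h : geometrically P f') :
    geometrically P f := by
  intro K _ y Z fst snd hZ
  obtain ⟨w⟩ : Nonempty ↥(pullback y e) := by
    obtain ⟨w, hw⟩ := (pullback.fst y e).surjective (IsLocalRing.closedPoint K)
    exact ⟨w⟩
  let j : Spec ((pullback y e).residueField w) ⟶ pullback y e := (pullback y e).fromSpecResidueField w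
  let a : Spec ((pullback y e).residueField w) ⟶ Spec (.of K) := j ≫ pullback.fst y e
  haveI : Surjective a := ⟨fun x => ⟨IsLocalRing.closedPoint _, Subsingleton.elim (α := PrimeSpectrum K) _ _⟩⟩
  have : IsPullback (pullback.fst snd a ≫ fst) (pullback.snd snd a) f (a ≫ y) :=
    (IsPullback.of_hasPullback snd a).paste_horiz hZ
  let b : Spec ((pullback y e).residueField w) ⟶ T := j ≫ pullback.snd y e
  have hb : a ≫ y = b ≫ e := by simp [a, b, pullback.condition]
  rw [hb] at this
  obtain ⟨l, hl1, hl2⟩ := hc.exists_lift (pullback.fst snd a ≫ fst) (pullback.snd snd a ≫ b)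
    (by simpa using this.w)
  have h2 : IsPullback l (pullback.snd snd a) f' b := .of_right (by rw [hl1]; exact this) hl2 hc
  exact hP (pullback.fst snd a) (h _ _ _ h2)

lemma geometrically_fibre_iff [P.IsClosedUnderIsomorphisms] (hP : Descends P)
    {X Y X' Y' : Scheme.{u}} {f : X ⟶ Y} {g : Y' ⟶ Y} {f' : X' ⟶ Y'} {g' : X' ⟶ X}
    (hc : IsPullback g' f' f g) (y : Y') :
    geometrically P (f'.fiberToSpecResidueField y) ↔
      geometrically P (f.fiberToSpecResidueField (g y)) := by
  have h := isPullback_fiberToSpecResidueField_of_isPullback hc y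
  haveI : Surjective (Spec.map (g.residueFieldMap y)) :=
    ⟨fun x => ⟨IsLocalRing.closedPoint _, Subsingleton.elim (α := PrimeSpectrum (Y.residueField (g y))) _ _⟩⟩
  exact ⟨geometrically_of_isPullback hP h, fun hh => (geometrically P).of_isPullback h hh⟩

instance : ObjectProperty.IsClosedUnderIsomorphisms (fun X : Scheme.{u} => ConnectedSpace X) :=
  ⟨fun e h => descends_connected (Z' := _) e.hom h⟩

instance : ObjectProperty.IsClosedUnderIsomorphisms (fun X : Scheme.{u} => IrreducibleSpace X) :=
  ⟨fun e h => descends_irreducible (Z' := _) e.hom h⟩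

end Groth.Agent.H2GeomDescent
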