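import Mathlib
import Groth.Prelude.Def_MoreMor
import Groth.Agent.Lib.H2Weight
import Groth.Agent.Lib.H2WeightSplit
import Groth.Agent.Lib.H2WeightMain

/-! Consequences for weightings: base change, openness, semicontinuity. -/

universe u

open CategoryTheory Limits AlgebraicGeometry

namespace Groth.Agent.H2Weight

variable {X Y : Scheme.{u}} (f : X ⟶ Y) [LocallyQuasiFinite f] [LocallyOfFiniteType f] (w : X → ℤ)

theorem isWeighting_baseChange (hw : MoreMor.IsWeighting f w) {X' Y' : Scheme.{u}} (f' : X' ⟶ Y') (h : X' ⟶ X)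
    (g : Y' ⟶ Y) (hc : IsPullback h f' f g) : MoreMor.IsWeighting f' (w ∘ ⇑h) := by
  intro V gV _ U hU
  have hp : IsPullback (pullback.fst f' gV ≫ h) (pullback.snd f' gV) f (gV ≫ g) :=
    (IsPullback.of_hasPullback f' gV).paste_horiz hc
  let j : (U : Scheme.{u}) ⟶ pullback f (gV ≫ g) := U.ι ≫ hp.isoPullback.hom
  haveI := hU
  have := isLocallyConstant_fibreIntegral f w hw (gV ≫ g) j (U.ι ≫ pullback.snd f' gV)
    (by rw [Category.assoc, hp.isoPullback_hom_snd])
  convert this using 3 with u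
  show w ((U.ι ≫ pullback.fst f' gV ≫ h) u) = w ((j ≫ pullback.fst f (gV ≫ g)) u)
  rw [Category.assoc, hp.isoPullback_hom_fst]

theorem isWeighting_restrict (hw : MoreMor.IsWeighting f w) (X' : X.Opens) :
    MoreMor.IsWeighting (X'.ι ≫ f) (fun x => w (X'.ι x)) := by
  intro V gV _ U hU
  let m : pullback (X'.ι ≫ f) gV ⟶ pullback f gV := pullback.map _ _ _ _ X'.ι (𝟙 _) (𝟙 _) (by simp) (by simp)
  let j : (U : Scheme.{u}) ⟶ pullback f gV := U.ι ≫ m
  haveI : IsOpenImmersion j := by dsimp only [j, m]; infer_instance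
  haveI := hU
  have := isLocallyConstant_fibreIntegral f w hw gV j (U.ι ≫ pullback.snd (X'.ι ≫ f) gV)
    (by rw [Category.assoc, pullback.lift_snd, Category.comp_id])
  convert this using 3 with u
  show w ((pullback.fst (X'.ι ≫ f) gV ≫ X'.ι) (U.ι u)) = w ((j ≫ pullback.fst f gV) u)
  rw [Category.assoc, pullback.lift_fst]
  rfl

omit [LocallyOfFiniteType f] in
theorem fibreIntegral_nonneg {V U : Scheme.{u}} (π : U ⟶ V) [LocallyQuasiFinite π] (wu : U → ℤ) (hpos : ∀ u, 0 < wu u) (v : V)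
    (hfin : (π ⁻¹' {v}).Finite) :
    0 ≤ MoreMor.fibreIntegral π wu v ∧ (MoreMor.fibreIntegral π wu v = 0 → v ∉ Set.range π) ∧
      ∀ u, π u = v → wu u ≤ MoreMor.fibreIntegral π wu v := by
  classical
  obtain ⟨K, _, _, ξ, rfl⟩ := exists_geomPoint v
  haveI := finite_lifts π ξ hfin
  letI := Fintype.ofFinite (Lifts π ξ)
  rw [fibreIntegral_eq π wu ξ hfin, finsum_eq_sum_of_fintype]
  refine ⟨Finset.sum_nonneg fun p _ => (hpos _).le, fun h0 => ?_, fun u hu => ?_⟩
  · rintro ⟨u, hu⟩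
    obtain ⟨p, -⟩ := nonempty_lifts π ξ u hu
    exact absurd ((Finset.sum_eq_zero_iff_of_nonneg fun p _ => (hpos _).le).1 h0 p (Finset.mem_univ p)) (hpos _).ne'
  · obtain ⟨p, rfl⟩ := nonempty_lifts π ξ u hu
    exact Finset.single_le_sum (fun q _ => (hpos (pt q.1)).le) (Finset.mem_univ p)

omit [LocallyQuasiFinite f] [LocallyOfFiniteType f] in
theorem fibreIntegral_eq_of_uniqueLift {V U : Scheme.{u}} (π : U ⟶ V) [IsFinite π] (wu : U → ℤ) (u : U)
    (H : UniqueLift π (π u)) : MoreMor.fibreIntegral π wu (π u) = wu u := by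
  obtain ⟨K, _, _, ξ, hξ⟩ := exists_geomPoint (π u)
  obtain ⟨p, hp⟩ := nonempty_lifts π ξ u hξ.symm
  haveI := H K ξ hξ
  rw [← hξ, fibreIntegral_eq π wu ξ (finite_fibre π _), finsum_eq_single _ p (fun q hq => absurd (Subsingleton.elim q p) hq), hp]

/-- openness. -/
theorem isOpenMap_of_positive (hw : MoreMor.IsWeighting f w) (hpos : ∀ x, 0 < w x) : IsOpenMap f := by
  intro S hS
  rw [isOpen_iff_forall_mem_open]
  rintro _ ⟨x, hx, rfl⟩
  obtain ⟨K, _, _, p, rfl⟩ := exists_geomPoint x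
  obtain ⟨V, g, hg, W, q, hq, hfin, hu⟩ := exists_piece f p
  let π := W.ι ≫ pullback.snd f g
  haveI : IsFinite π := hfin
  let C : Set W := ((W.ι ≫ pullback.fst f g) ⁻¹' S)ᶜ
  have hC : IsClosed C := (hS.preimage (W.ι ≫ pullback.fst f g).continuous).isClosed_compl
  let wW : W → ℤ := fun u => w (pullback.fst f g (W.ι u))
  have hlc : IsLocallyConstant (MoreMor.fibreIntegral π wW) := hw V g W hfin
  let O : Set V := (π '' C)ᶜ ∩ {v | MoreMor.fibreIntegral π wW v = wW (pt q)}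
  have hO : IsOpen O := (π.isClosedMap C hC).isOpen_compl.inter (hlc.isOpen_fiber _)
  refine ⟨g '' O, ?_, g.isOpenMap O hO, pt (q ≫ π), ⟨?_, ?_⟩, ?_⟩
  · rintro _ ⟨v, ⟨hv1, hv2⟩, rfl⟩
    obtain ⟨-, hne, -⟩ := fibreIntegral_nonneg π wW (fun u => hpos _) v (finite_fibre π v)
    obtain ⟨u, hu⟩ : v ∈ Set.range π := by
      by_contra h
      haveI : IsEmpty {u : (W : Scheme.{u}) // π u = v} := ⟨fun u => h ⟨u.1, u.2⟩⟩
      have h0 : MoreMor.fibreIntegral π wW v = 0 := by rw [MoreMor.fibreIntegral, finsum_of_isEmpty]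
      exact (hpos _).ne' ((Set.mem_setOf.1 hv2).symm.trans h0)
    refine ⟨(W.ι ≫ pullback.fst f g) u, ?_, ?_⟩
    · by_contra h
      exact hv1 ⟨u, h, hu⟩
    · rw [← hu]
      show ((W.ι ≫ pullback.fst f g) ≫ f) u = (π ≫ g) u
      rw [Category.assoc, Category.assoc, pullback.condition]
  · rintro ⟨z, hz, hzv⟩
    rw [hu.eq_point hzv (Scheme.Hom.comp_apply q π _).symm] at hz
    exact hz (show (q ≫ W.ι ≫ pullback.fst f g) _ ∈ S by rw [hq]; exact hx)
  · show MoreMor.fibreIntegral π wW (pt (q ≫ π)) = _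
    rw [show pt (q ≫ π) = π (pt q) from Scheme.Hom.comp_apply q π _]
    exact fibreIntegral_eq_of_uniqueLift π wW _ (by rw [← Scheme.Hom.comp_apply]; exact hu)
  · show (q ≫ π ≫ g) (IsLocalRing.closedPoint K) = (p ≫ f) (IsLocalRing.closedPoint K)
    rw [Category.assoc, ← pullback.condition, ← hq, Category.assoc, Category.assoc]

theorem universallyOpen_of_positive (hw : MoreMor.IsWeighting f w) (hpos : ∀ x, 0 < w x) : UniversallyOpen f := by
  refine ⟨fun X' Y' i₁ i₂ f' hc => ?_⟩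
  haveI : LocallyQuasiFinite f' := MorphismProperty.of_isPullback (P := @LocallyQuasiFinite) hc.flip ‹_›
  haveI : LocallyOfFiniteType f' := MorphismProperty.of_isPullback (P := @LocallyOfFiniteType) hc.flip ‹_›
  exact isOpenMap_of_positive f' _ (isWeighting_baseChange f w hw f' i₁ i₂ hc.flip) (fun x => hpos _)

/-- upper semicontinuity. -/
theorem upperSemicontinuous_of_positive (hw : MoreMor.IsWeighting f w) (hpos : ∀ x, 0 < w x) : UpperSemicontinuous w := by
  intro x y hy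
  obtain ⟨K, _, _, p, rfl⟩ := exists_geomPoint x
  obtain ⟨V, g, hg, W, q, hq, hfin, hu⟩ := exists_piece f p
  let π := W.ι ≫ pullback.snd f g
  haveI : IsFinite π := hfin
  let wW : W → ℤ := fun u => w (pullback.fst f g (W.ι u))
  have hlc : IsLocallyConstant (MoreMor.fibreIntegral π wW) := hw V g W hfin
  have hval : MoreMor.fibreIntegral π wW (π (pt q)) = wW (pt q) :=
    fibreIntegral_eq_of_uniqueLift π wW _ (by rw [← Scheme.Hom.comp_apply]; exact hu)
  have hxq : (W.ι ≫ pullback.fst f g) (pt q) = pt p :=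
    (Scheme.Hom.comp_apply q (W.ι ≫ pullback.fst f g) _).symm.trans (congrArg pt hq)
  haveI : Etale (pullback.fst f g) := MorphismProperty.pullback_fst _ _ hg
  let G : Set W := π ⁻¹' {v | MoreMor.fibreIntegral π wW v = wW (pt q)}
  have hG : IsOpen G := (hlc.isOpen_fiber _).preimage π.continuous
  refine Filter.mem_of_superset (((W.ι ≫ pullback.fst f g).isOpenMap G hG).mem_nhds ⟨pt q, hval, hxq⟩) ?_
  rintro _ ⟨u, hu', rfl⟩
  refine lt_of_le_of_lt ?_ hy
  refine ((fibreIntegral_nonneg π wW (fun u => hpos _) (π u) (finite_fibre π _)).2.2 u rfl).trans ?_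
  rw [Set.mem_setOf.1 hu']
  exact (congrArg w hxq).le

theorem eventually_ge (hw : MoreMor.IsWeighting f w) (hpos : ∀ x, 0 < w x) {K : Type u} [Field K] [IsAlgClosed K] :
    ∀ (n : ℕ) {V U : Scheme.{u}} (c : V ⟶ Y) (j : U ⟶ pullback f c) [IsOpenImmersion j]
      [IsSeparated (j ≫ pullback.snd f c)] [LocallyQuasiFinite (j ≫ pullback.snd f c)]
      (_ : ∀ v, ((j ≫ pullback.snd f c) ⁻¹' {v}).Finite) (ξ : Spec (CommRingCat.of K) ⟶ V),
    Nat.card (Lifts (j ≫ pullback.snd f c) ξ) ≤ n →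
    ∃ O : V.Opens, pt ξ ∈ O ∧ ∀ v ∈ O, MoreMor.fibreIntegral (j ≫ pullback.snd f c) (fun u => w (pullback.fst f c (j u))) (pt ξ) ≤
      MoreMor.fibreIntegral (j ≫ pullback.snd f c) (fun u => w (pullback.fst f c (j u))) v := by
  intro n
  induction n with
  | zero =>
    intro V U c j _ _ _ hfin ξ hn
    let π := j ≫ pullback.snd f c
    haveI := finite_lifts π ξ (hfin _)
    refine ⟨⊤, trivial, fun v _ => ?_⟩
    haveI : IsEmpty (Lifts π ξ) := Finite.card_eq_zero_iff.1 (Nat.le_zero.1 hn)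
    rw [fibreIntegral_eq π _ ξ (hfin _), finsum_of_isEmpty]
    exact (fibreIntegral_nonneg π _ (fun u => hpos _) v (hfin v)).1
  | succ n ih =>
    intro V U c j _ _ _ hfin ξ hn
    let π := j ≫ pullback.snd f c
    rcases Nat.lt_or_ge (Nat.card (Lifts π ξ)) (n + 1) with hlt | hge
    · exact ih c j hfin ξ (Nat.lt_succ_iff.1 hlt)
    obtain ⟨V', g, ξ', Vi, gi, Wi, h, U', j', T, tU, s, k, hg, hgi, hξ, hWfin, hWu, hj', hT, hk, hks, hlt', hsplit⟩ :=
      exists_step f w c j hfin ξ (show 0 < Nat.card (Lifts π ξ) by omega)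
    haveI : IsSeparated s := MorphismProperty.of_isPullback (P := @IsSeparated) hT ‹_›
    haveI : LocallyQuasiFinite s := MorphismProperty.of_isPullback (P := @LocallyQuasiFinite) hT ‹_›
    haveI : IsSeparated (j' ≫ pullback.snd f (g ≫ c)) := by rw [hks]; infer_instance
    haveI : LocallyQuasiFinite (j' ≫ pullback.snd f (g ≫ c)) := by rw [hks]; infer_instance
    have hfin' : ∀ v, ((j' ≫ pullback.snd f (g ≫ c)) ⁻¹' {v}).Finite := fun v => by
      rw [hks, Scheme.Hom.comp_base, TopCat.coe_comp, Set.preimage_comp]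
      exact (finite_fibre_baseChange π hT v (hfin _)).preimage k.isClosedEmbedding.injective.injOn
    obtain ⟨O₁, hO₁, hO₁c⟩ := ih (g ≫ c) j' hfin' ξ' (by have : Nat.card (Lifts π ξ) ≤ n + 1 := hn; omega)
    have hlc : IsLocallyConstant fun v => MoreMor.fibreIntegral (Wi.ι ≫ pullback.snd f gi) (fun u => w (pullback.fst f gi (Wi.ι u))) (h v) :=
      (hw Vi gi Wi hWfin).comp_continuous h.continuous
    obtain ⟨O₂, hO₂o, hO₂, hO₂c⟩ := hlc.exists_open (pt ξ')
    refine ⟨⟨g '' (O₁ ⊓ ⟨O₂, hO₂o⟩ : TopologicalSpace.Opens _), g.isOpenMap _ (TopologicalSpace.Opens.isOpen _)⟩, ⟨pt ξ', ⟨hO₁, hO₂⟩, ?_⟩, ?_⟩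
    · rw [← Scheme.Hom.comp_apply, hξ]
    rintro _ ⟨v, ⟨hv₁, hv₂⟩, rfl⟩
    have hptξ : g (pt ξ') = pt ξ := by rw [← Scheme.Hom.comp_apply, hξ]
    rw [← hptξ, hsplit v, hsplit (pt ξ'), hO₂c v hv₂]
    exact add_le_add le_rfl (hO₁c v hv₁)

/-- lower semicontinuity of the fibre integral. -/
theorem lowerSemicontinuous_fibreIntegral (hw : MoreMor.IsWeighting f w) (hpos : ∀ x, 0 < w x) [IsSeparated f]
    (hfin : ∀ y : Y, (f ⁻¹' {y}).Finite) : LowerSemicontinuous (MoreMor.fibreIntegral f w) := by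
  intro y b hb
  obtain ⟨K, _, _, ξ, rfl⟩ := exists_geomPoint y
  let j : X ⟶ pullback f (𝟙 Y) := pullback.lift (𝟙 X) f (by simp)
  haveI : IsIso j := ⟨pullback.fst _ _, pullback.lift_fst _ _ _, by
    apply pullback.hom_ext
    · rw [Category.assoc, pullback.lift_fst, Category.comp_id, Category.id_comp]
    · rw [Category.assoc, pullback.lift_snd, pullback.condition, Category.comp_id, Category.id_comp]⟩
  have hj : j ≫ pullback.snd f (𝟙 Y) = f := pullback.lift_snd _ _ _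
  haveI : IsSeparated (j ≫ pullback.snd f (𝟙 Y)) := by rw [hj]; infer_instance
  haveI : LocallyQuasiFinite (j ≫ pullback.snd f (𝟙 Y)) := by rw [hj]; infer_instance
  obtain ⟨O, h1, h2⟩ := eventually_ge f w hw hpos (Nat.card (Lifts (j ≫ pullback.snd f (𝟙 Y)) ξ)) (𝟙 Y) j
    (fun v => by rw [hj]; exact hfin v) ξ le_rfl
  have hwj : (fun u => w (pullback.fst f (𝟙 Y) (j u))) = w := funext fun u => by
    rw [← Scheme.Hom.comp_apply, pullback.lift_fst]; rfl
  rw [hwj, hj] at h2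
  exact Filter.mem_of_superset (O.2.mem_nhds h1) fun v hv => lt_of_lt_of_le hb (h2 v hv)

end Groth.Agent.H2Weight
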