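import Mathlib
import Groth.Prelude.Def_MoreMor
import Groth.Agent.Lib.H2Weight
import Groth.Agent.Lib.H2WeightSplit
import Groth.Agent.Lib.H2WeightApps
import Groth.Agent.Lib.H2Constr

/-! Level sets of weightings are locally constructible. -/

universe u

open CategoryTheory Limits AlgebraicGeometry Topology

namespace Groth.Agent.H2Weight

theorem uniqueLift_ring {A B : CommRingCat.{u}} (φ₀ : A ⟶ B) (v : Spec A) (H : UniqueLift (Spec.map φ₀) v)
    (K : Type u) [Field K] [IsAlgClosed K] (φ χ : B →+* K) (hc : φ.comp φ₀.hom = χ.comp φ₀.hom)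
    (hk : RingHom.ker (φ.comp φ₀.hom) = v.asIdeal) : φ = χ := by
  let ξ : Spec (CommRingCat.of K) ⟶ Spec A := Spec.map (φ₀ ≫ CommRingCat.ofHom φ)
  have hξ : pt ξ = v := PrimeSpectrum.ext (by
    show Ideal.comap (φ.comp φ₀.hom) (IsLocalRing.maximalIdeal K) = _
    rw [IsLocalRing.maximalIdeal_eq_bot, ← hk]; rfl)
  haveI := H K ξ hξ
  have := @Subsingleton.elim (Lifts (Spec.map φ₀) ξ) _
    ⟨Spec.map (CommRingCat.ofHom φ), by rw [← Spec.map_comp]⟩
    ⟨Spec.map (CommRingCat.ofHom χ), by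
      rw [← Spec.map_comp]; exact congrArg Spec.map (CommRingCat.hom_ext hc.symm)⟩
  exact congrArg CommRingCat.Hom.hom (Spec.map_injective (congrArg Subtype.val this))

variable {X Y : Scheme.{u}} (f : X ⟶ Y) [LocallyQuasiFinite f] [LocallyOfFiniteType f] (w : X → ℤ)

theorem exists_constructible_nhd (hw : MoreMor.IsWeighting f w) {X0 : X.Opens} (hX0 : IsAffineOpen X0) (x : X0) :
    ∃ E : Set X0, x ∈ E ∧ IsConstructible E ∧ ∀ z ∈ E, w (X0.ι z) = w (X0.ι x) := by
  haveI : IsAffine (X0 : Scheme.{u}) := hX0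
  obtain ⟨K, _, _, p, hp⟩ := exists_geomPoint (X0.ι x)
  obtain ⟨V, g, hg, W, q, hq, hfin, hu⟩ := exists_piece f p
  let π := W.ι ≫ pullback.snd f g
  haveI : IsFinite π := hfin
  obtain ⟨_, ⟨V0, hV0, rfl⟩, hvV0, -⟩ := (Scheme.isBasis_affineOpens V).exists_subset_of_mem_open
    (Set.mem_univ (pt (q ≫ π))) isOpen_univ
  obtain ⟨v0, hv0⟩ : ∃ v0, hV0.fromSpec v0 = pt (q ≫ π) := by
    rw [← Set.mem_range, hV0.range_fromSpec]; exact hvV0
  let W0 := pullback π hV0.fromSpec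
  let π0 : W0 ⟶ Spec Γ(V, V0) := pullback.snd _ _
  haveI : IsFinite π0 := MorphismProperty.of_isPullback (P := @IsFinite) (IsPullback.of_hasPullback _ _) ‹_›
  haveI : IsAffine W0 := isAffine_of_isAffineHom π0
  let φ₀ : Γ(V, V0) ⟶ Γ(W0, ⊤) := Spec.preimage (W0.isoSpec.inv ≫ π0)
  have hφ₀ : Spec.map φ₀ = W0.isoSpec.inv ≫ π0 := Spec.map_preimage _
  haveI : IsFinite (Spec.map φ₀) := by rw [hφ₀]; infer_instance
  have hu0 : UniqueLift π0 v0 := hu.baseChange (IsPullback.of_hasPullback π hV0.fromSpec) v0 hv0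
  have hu1 : UniqueLift (Spec.map φ₀) v0 :=
    hu0.baseChange (h := W0.isoSpec.inv) (g := 𝟙 _) (IsPullback.of_horiz_isIso ⟨by simp [hφ₀]⟩) v0 rfl
  algebraize [φ₀.hom]
  haveI : Module.Finite Γ(V, V0) Γ(W0, ⊤) := RingHom.finite_algebraMap.1 ((IsFinite.SpecMap_iff _).1 ‹_›)
  obtain ⟨I, s, hI, hIP, hs, huniq⟩ := H2Constr.exists_unique_nhd (B := Γ(W0, ⊤)) v0.asIdeal
    (fun L _ _ φ χ hc hk => uniqueLift_ring φ₀ v0 hu1 L φ χ hc hk)
  let EV : Set (Spec Γ(V, V0)) := PrimeSpectrum.zeroLocus (I : Set Γ(V, V0)) ∩ (PrimeSpectrum.basicOpen s : Set (PrimeSpectrum Γ(V, V0)))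
  have hEV : IsConstructible EV := by
    obtain ⟨T, hT⟩ := hI
    have h1 : IsCompact (PrimeSpectrum.zeroLocus (I : Set Γ(V, V0)))ᶜ := by
      rw [← hT, PrimeSpectrum.zeroLocus_span, ← Set.biUnion_of_singleton (T : Set Γ(V, V0))]
      simp only [PrimeSpectrum.zeroLocus_iUnion, Set.compl_iInter]
      exact T.finite_toSet.isCompact_biUnion fun r _ => by
        rw [← PrimeSpectrum.basicOpen_eq_zeroLocus_compl]; exact PrimeSpectrum.isCompact_basicOpen r
    have h2 : IsConstructible (PrimeSpectrum.zeroLocus (I : Set Γ(V, V0)))ᶜ :=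
      h1.isConstructible (PrimeSpectrum.isClosed_zeroLocus _).isOpen_compl
    have h3 := h2.compl
    rw [compl_compl] at h3
    exact h3.inter ((PrimeSpectrum.isCompact_basicOpen s).isConstructible (PrimeSpectrum.basicOpen s).2)
  have hEVu : ∀ v ∈ EV, UniqueLift π0 v := by
    rintro v ⟨hv1, hv2⟩
    have hker : ∀ {L : Type u} [Field L] {ξ : Spec (CommRingCat.of L) ⟶ Spec Γ(V, V0)},
        (pt ξ).asIdeal = RingHom.ker (Spec.preimage ξ).hom := by
      intro L _ ξ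
      obtain ⟨ψ, rfl⟩ := Spec.map_surjective ξ
      rw [Spec.preimage_map]
      show Ideal.comap ψ.hom (IsLocalRing.maximalIdeal L) = _
      rw [IsLocalRing.maximalIdeal_eq_bot]; rfl
    have h1 : UniqueLift (Spec.map φ₀) v := by
      intro L _ _ ξ hξ
      refine ⟨fun a b => Subtype.ext ?_⟩
      obtain ⟨a, ha⟩ := a; obtain ⟨b, hb⟩ := b
      show a = b
      have ha' : φ₀ ≫ Spec.preimage a = Spec.preimage ξ := Spec.map_injective (by
        rw [Spec.map_comp, Spec.map_preimage a, Spec.map_preimage ξ]; exact ha)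
      have hb' : φ₀ ≫ Spec.preimage b = Spec.preimage ξ := Spec.map_injective (by
        rw [Spec.map_comp, Spec.map_preimage b, Spec.map_preimage ξ]; exact hb)
      rw [← Spec.map_preimage a, ← Spec.map_preimage b]
      congr 1
      refine CommRingCat.hom_ext (huniq L _ _ (congrArg CommRingCat.Hom.hom (ha'.trans hb'.symm)) ?_ ?_)
      · show I ≤ RingHom.ker (φ₀ ≫ Spec.preimage a).hom
        rw [ha', ← hker, hξ]
        exact hv1
      · intro h
        refine hv2 ?_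
        show s ∈ v.asIdeal
        rw [← hξ, hker, RingHom.mem_ker, ← ha']
        exact h
    exact h1.baseChange (h := W0.isoSpec.hom) (g := 𝟙 _) (IsPullback.of_horiz_isIso ⟨by simp [hφ₀]⟩) v rfl
  let wW : W0 → ℤ := fun u => w (pullback.fst f g (W.ι (pullback.fst π hV0.fromSpec u)))
  have hlc : IsLocallyConstant (MoreMor.fibreIntegral π0 wW) := by
    have h1 : MoreMor.fibreIntegral π0 wW = fun v => MoreMor.fibreIntegral π (fun u => w (pullback.fst f g (W.ι u))) (hV0.fromSpec v) :=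
      funext fun v => fibreIntegral_baseChange π (IsPullback.of_hasPullback π hV0.fromSpec) (fun u => w (pullback.fst f g (W.ι u))) v (finite_fibre π _)
    rw [h1]
    exact (hw V g W hfin).comp_continuous hV0.fromSpec.continuous
  let ξ0 : Spec (CommRingCat.of K) ⟶ Spec Γ(V, V0) := IsOpenImmersion.lift hV0.fromSpec (q ≫ π) (by
    rintro _ ⟨k, rfl⟩; rw [Subsingleton.elim k (IsLocalRing.closedPoint K)]; exact ⟨v0, hv0⟩)
  let q0 : Spec (CommRingCat.of K) ⟶ W0 := pullback.lift q ξ0 (IsOpenImmersion.lift_fac _ _ _).symm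
  have hπq0 : π0 (pt q0) = v0 := by
    apply hV0.fromSpec.isOpenEmbedding.injective
    rw [hv0]
    show ((q0 ≫ pullback.snd π hV0.fromSpec) ≫ hV0.fromSpec) _ = pt (q ≫ π)
    rw [pullback.lift_snd, IsOpenImmersion.lift_fac]
  let a : W0 ⟶ X := pullback.fst π hV0.fromSpec ≫ W.ι ≫ pullback.fst f g
  have haq : a (pt q0) = X0.ι x := by
    rw [← hp, ← Scheme.Hom.comp_apply]
    refine congrArg pt ?_
    rw [pullback.lift_fst_assoc]; exact hq
  obtain ⟨_, ⟨Z, hZ, rfl⟩, hqZ, hZX⟩ := (Scheme.isBasis_affineOpens W0).exists_subset_of_mem_open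
    (show pt q0 ∈ ((a ⁻¹ᵁ X0 : W0.Opens) : Set W0) by show a (pt q0) ∈ X0; rw [haq]; exact x.2) (a ⁻¹ᵁ X0).2
  haveI : IsAffine (Z : Scheme.{u}) := hZ
  haveI : Etale (pullback.fst f g) := MorphismProperty.pullback_fst _ _ hg
  let a' : (Scheme.Opens.toScheme Z) ⟶ (X0 : Scheme.{u}) := a.resLE X0 Z hZX
  have ha' : a' ≫ X0.ι = Scheme.Opens.ι Z ≫ a := Scheme.Hom.resLE_comp_ι _ _
  let G : Set W0 := π0 ⁻¹' (EV ∩ {v | MoreMor.fibreIntegral π0 wW v = MoreMor.fibreIntegral π0 wW v0})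
  have hG : IsConstructible G := π0.isConstructible_preimage
    (hEV.inter (((hlc.isClopen_fiber _).1.isCompact).isConstructible (hlc.isClopen_fiber _).2))
  refine ⟨a' '' (Scheme.Opens.ι Z ⁻¹' G), ⟨⟨pt q0, hqZ⟩, ⟨?_, ?_⟩, ?_⟩,
    a'.isConstructible_image ((Scheme.Opens.ι Z).isConstructible_preimage hG), ?_⟩
  · show π0 (pt q0) ∈ EV
    rw [hπq0]; exact ⟨hIP, hs⟩
  · show MoreMor.fibreIntegral π0 wW (π0 (pt q0)) = _
    rw [hπq0]
  · refine X0.ι.isOpenEmbedding.injective ?_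
    rw [← Scheme.Hom.comp_apply, ha']; exact haq
  rintro _ ⟨z, ⟨hz1, hz2⟩, rfl⟩
  have h1 : wW (Scheme.Opens.ι Z z) = wW (pt q0) := by
    rw [← fibreIntegral_eq_of_uniqueLift π0 wW _ (hEVu _ hz1), ← fibreIntegral_eq_of_uniqueLift π0 wW _ (hπq0 ▸ hu0), hπq0]
    exact hz2
  rw [← haq]
  refine (congrArg w ?_).trans h1
  rw [← Scheme.Hom.comp_apply, ha']; rfl

theorem level_sets_affine (hw : MoreMor.IsWeighting f w) {X0 : X.Opens} (hX0 : IsAffineOpen X0) :
    (Set.range fun x : X0 => w (X0.ι x)).Finite ∧ ∀ n, IsConstructible {x : X0 | w (X0.ι x) = n} := by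
  haveI : IsAffine (X0 : Scheme.{u}) := hX0
  exact H2Constr.finite_range_of_constructible (X := ↥(X0 : Scheme.{u})) (fun x => w (X0.ι x)) (exists_constructible_nhd f w hw hX0)

theorem isLocallyConstructible_levelSet (hw : MoreMor.IsWeighting f w) (n : ℤ) :
    IsLocallyConstructible {x : X | w x = n} := by
  intro x
  obtain ⟨_, ⟨X0, hX0, rfl⟩, hx, -⟩ := (Scheme.isBasis_affineOpens X).exists_subset_of_mem_open (Set.mem_univ x) isOpen_univ
  exact ⟨X0, IsOpen.mem_nhds (TopologicalSpace.Opens.isOpen X0) hx, TopologicalSpace.Opens.isOpen X0, (level_sets_affine f w hw hX0).2 n⟩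

theorem finite_range_weighting (hw : MoreMor.IsWeighting f w) [CompactSpace X] : (Set.range w).Finite := by
  obtain ⟨t, ht⟩ := isCompact_univ.elim_finite_subcover (fun U : X.affineOpens => (U.1 : Set X)) (fun U => U.1.2) (fun x _ => by
    obtain ⟨_, ⟨U, hU, rfl⟩, hx, -⟩ := (Scheme.isBasis_affineOpens X).exists_subset_of_mem_open (Set.mem_univ x) isOpen_univ
    exact Set.mem_iUnion.2 ⟨⟨U, hU⟩, hx⟩)
  refine (t.finite_toSet.biUnion fun U _ => (level_sets_affine f w hw U.2).1).subset ?_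
  rintro _ ⟨x, rfl⟩
  obtain ⟨U, hU, hx⟩ := Set.mem_iUnion₂.1 (ht (Set.mem_univ x))
  exact Set.mem_iUnion₂.2 ⟨U, hU, ⟨x, hx⟩, rfl⟩

end Groth.Agent.H2Weight
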