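import Mathlib
import Groth.Prelude.Def_MoreMor
import Groth.Agent.Lib.H2Weight
import Groth.Agent.Lib.H2WeightConstr

/-! Geometric fibres of a quasi-finite morphism with quasi-compact source are uniformly bounded. -/

universe u

open CategoryTheory Limits AlgebraicGeometry

namespace Groth.Agent.H2Weight

theorem exists_bound_homs {A B : Type u} [CommRing A] [CommRing B] [Algebra A B] [Algebra.FiniteType A B]
    [Algebra.QuasiFinite A B] :
    ∃ d : ℕ, ∀ (K : Type u) [Field K] [Algebra A K], Finite (B →ₐ[A] K) ∧ Nat.card (B →ₐ[A] K) ≤ d := by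
  classical
  choose S hS r hrq hbij using fun q : PrimeSpectrum B =>
    (Algebra.ZariskisMainProperty.of_finiteType (R := A) q.asIdeal).exists_fg_and_exists_notMem_and_awayMap_bijective
  obtain ⟨t, ht⟩ := isCompact_univ.elim_finite_subcover (fun q : PrimeSpectrum B => (PrimeSpectrum.basicOpen (r q).1 : Set (PrimeSpectrum B)))
    (fun q => (PrimeSpectrum.basicOpen (r q).1).2) (fun q _ => Set.mem_iUnion.2 ⟨q, hrq q⟩)
  have hgen : ∀ q, ∃ G : Finset (S q), Submodule.span A (G : Set (S q)) = ⊤ := fun q =>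
    ((Module.Finite.iff_fg).2 (hS q)).fg_top
  choose G hG using hgen
  refine ⟨∑ q ∈ t, (G q).card, fun K _ _ => ?_⟩
  have hrestr : ∀ q, Finite (S q →ₐ[A] K) ∧ Nat.card (S q →ₐ[A] K) ≤ (G q).card := by
    intro q
    let ev : (S q →ₗ[A] K) →ₗ[K] ((G q) → K) :=
      { toFun := fun l g => l g.1, map_add' := fun _ _ => rfl, map_smul' := fun _ _ => rfl }
    have hinj : LinearMap.ker ev = ⊥ := by
      rw [LinearMap.ker_eq_bot]
      intro l l' h
      exact LinearMap.ext_on (hG q) fun g hg => congrFun h ⟨g, hg⟩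
    have hli := (linearIndependent_algHom_toLinearMap A (S q) K).map' ev hinj
    haveI := hli.finite
    letI := Fintype.ofFinite (S q →ₐ[A] K)
    refine ⟨inferInstance, ?_⟩
    rw [Nat.card_eq_fintype_card]
    simpa using hli.fintype_card_le_finrank
  have hcov : ∀ φ : B →ₐ[A] K, ∃ q ∈ t, φ (r q).1 ≠ 0 := by
    intro φ
    haveI : (RingHom.ker φ.toRingHom).IsPrime := RingHom.ker_isPrime _
    obtain ⟨q, hq, hmem⟩ := Set.mem_iUnion₂.1 (ht (Set.mem_univ (⟨RingHom.ker φ.toRingHom, inferInstance⟩ : PrimeSpectrum B)))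
    exact ⟨q, hq, fun h => hmem h⟩
  choose qq hqt hqne using hcov
  haveI := fun q => (hrestr q).1
  let i : (B →ₐ[A] K) → Σ q : t, (S q.1 →ₐ[A] K) := fun φ => ⟨⟨qq φ, hqt φ⟩, φ.comp (S (qq φ)).val⟩
  have hi : Function.Injective i := by
    intro φ ψ h
    obtain ⟨q, hq, hne, hne', heq⟩ : ∃ q, q ∈ t ∧ φ (r q).1 ≠ 0 ∧ ψ (r q).1 ≠ 0 ∧ ∀ s : S q, φ s.1 = ψ s.1 := by
      have h1 : qq φ = qq ψ := congrArg (fun s => s.1.1) h
      refine ⟨qq φ, hqt φ, hqne φ, h1 ▸ hqne ψ, fun s => ?_⟩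
      have h2 : ∀ (q q' : PrimeSpectrum B) (hq : q ∈ t) (hq' : q' ∈ t) (a : S q →ₐ[A] K) (b : S q' →ₐ[A] K),
          (⟨⟨q, hq⟩, a⟩ : Σ q : t, (S q.1 →ₐ[A] K)) = ⟨⟨q', hq'⟩, b⟩ → ∀ (s : S q) (hs : s.1 ∈ S q'), a s = b ⟨s.1, hs⟩ := by
        intro q q' hq hq' a b hab s hs
        cases hab
        rfl
      exact h2 _ _ _ _ _ _ h s (h1 ▸ s.2)
    refine AlgHom.ext fun x => ?_
    obtain ⟨b, m, hb⟩ := Localization.awayMap_surjective_iff.1 (hbij q).2 x
    have h3 := heq b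
    change (b : B) = (r q).1 ^ m * x at hb
    rw [hb, map_mul, map_mul, map_pow, map_pow, heq (r q)] at h3
    exact mul_left_cancel₀ (pow_ne_zero _ hne') h3
  refine ⟨Finite.of_injective i hi, (Nat.card_le_card_of_injective i hi).trans ?_⟩
  rw [Nat.card_sigma, ← Finset.sum_coe_sort t fun q => (G q).card]
  exact Finset.sum_le_sum fun q _ => (hrestr q.1).2

/-- uniform bound on the geometric fibres. -/
theorem exists_bound_lifts {X Y : Scheme.{u}} (f : X ⟶ Y) [LocallyQuasiFinite f] [LocallyOfFiniteType f] [CompactSpace X] :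
    ∃ d : ℕ, ∀ (K : Type u) [Field K] (ξ : Spec (CommRingCat.of K) ⟶ Y), Finite (Lifts f ξ) ∧ Nat.card (Lifts f ξ) ≤ d := by
  classical
  have hc : ∀ x : X, ∃ (U : X.Opens) (V : Y.Opens) (_ : IsAffineOpen U) (_ : IsAffineOpen V) (_ : U ≤ f ⁻¹ᵁ V), x ∈ U := by
    intro x
    obtain ⟨_, ⟨V, hV, rfl⟩, hxV, -⟩ := (Scheme.isBasis_affineOpens Y).exists_subset_of_mem_open (Set.mem_univ (f x)) isOpen_univ
    obtain ⟨_, ⟨U, hU, rfl⟩, hxU, hUV⟩ := (Scheme.isBasis_affineOpens X).exists_subset_of_mem_open hxV ((f ⁻¹ᵁ V : X.Opens)).2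
    exact ⟨U, V, hU, hV, hUV, hxU⟩
  choose U V hU hV hUV hxU using hc
  obtain ⟨t, ht⟩ := isCompact_univ.elim_finite_subcover (fun x => (U x : Set X)) (fun x => (U x).2)
    (fun x _ => Set.mem_iUnion.2 ⟨x, hxU x⟩)
  have hb : ∀ x, ∃ d : ℕ, ∀ (K : Type u) [Field K] (ξ : Spec (CommRingCat.of K) ⟶ Y),
      Finite {p : Lifts f ξ // pt p.1 ∈ U x} ∧ Nat.card {p : Lifts f ξ // pt p.1 ∈ U x} ≤ d := by
    intro x
    let a := f.appLE (V x) (U x) (hUV x)
    have hft : a.hom.FiniteType := f.finiteType_appLE (hV x) (hU x) (hUV x)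
    have hqf : a.hom.QuasiFinite := HasRingHomProperty.appLE @LocallyQuasiFinite f inferInstance ⟨V x, hV x⟩ ⟨U x, hU x⟩ (hUV x)
    algebraize [a.hom]
    obtain ⟨d, hd⟩ := exists_bound_homs (A := Γ(Y, V x)) (B := Γ(X, U x))
    refine ⟨d, fun K _ ξ => ?_⟩
    by_cases hne : Nonempty {p : Lifts f ξ // pt p.1 ∈ U x}
    swap
    · haveI := not_nonempty_iff.1 hne
      exact ⟨inferInstance, by simp⟩
    obtain ⟨⟨⟨p0, hp0⟩, hp0U⟩⟩ := hne
    have hpre : ∀ p : {p : Lifts f ξ // pt p.1 ∈ U x}, ∃ ψ : Γ(X, U x) ⟶ CommRingCat.of K, Spec.map ψ ≫ (hU x).fromSpec = p.1.1 := fun p => by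
      refine ⟨Spec.preimage (IsOpenImmersion.lift (hU x).fromSpec p.1.1 ?_), by rw [Spec.map_preimage, IsOpenImmersion.lift_fac]⟩
      rw [(hU x).range_fromSpec]
      rintro _ ⟨k, rfl⟩; rw [Subsingleton.elim k (IsLocalRing.closedPoint K)]; exact p.2
    choose ψ hψ using hpre
    let p' : {p : Lifts f ξ // pt p.1 ∈ U x} := ⟨⟨p0, hp0⟩, hp0U⟩
    letI : Algebra Γ(Y, V x) K := (a ≫ ψ p').hom.toAlgebra
    have hsame : ∀ p, a ≫ ψ p = a ≫ ψ p' := fun p => by
      apply Spec.map_injective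
      rw [← cancel_mono (hV x).fromSpec, Spec.map_comp, Spec.map_comp, Category.assoc, Category.assoc,
        IsAffineOpen.SpecMap_appLE_fromSpec f (hV x) (hU x) (hUV x), reassoc_of% hψ p, reassoc_of% hψ p', p.1.2, p'.1.2]
    let i : {p : Lifts f ξ // pt p.1 ∈ U x} → (Γ(X, U x) →ₐ[Γ(Y, V x)] K) := fun p =>
      { (ψ p).hom with commutes' := fun c => congrArg (fun m : Γ(Y, V x) ⟶ CommRingCat.of K => m.hom c) (hsame p) }
    have hi : Function.Injective i := fun p q h => by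
      refine Subtype.ext (Subtype.ext ?_)
      rw [← hψ p, ← hψ q]
      congr 2
      exact CommRingCat.hom_ext (congrArg AlgHom.toRingHom h)
    obtain ⟨h1, h2⟩ := hd K
    exact ⟨Finite.of_injective i hi, (Nat.card_le_card_of_injective i hi).trans h2⟩
  choose d hd using hb
  refine ⟨∑ x ∈ t, d x, fun K _ ξ => ?_⟩
  haveI := fun x => (hd x K ξ).1
  let i : Lifts f ξ → Σ x : t, {p : Lifts f ξ // pt p.1 ∈ U x.1} := fun p =>
    ⟨⟨(Set.mem_iUnion₂.1 (ht (Set.mem_univ (pt p.1)))).choose, (Set.mem_iUnion₂.1 (ht (Set.mem_univ (pt p.1)))).choose_spec.choose⟩,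
      ⟨p, (Set.mem_iUnion₂.1 (ht (Set.mem_univ (pt p.1)))).choose_spec.choose_spec⟩⟩
  have hi : Function.Injective i := fun p q h => congrArg (fun s => s.2.1) h
  refine ⟨Finite.of_injective i hi, (Nat.card_le_card_of_injective i hi).trans ?_⟩
  rw [Nat.card_sigma, ← Finset.sum_coe_sort t d]
  exact Finset.sum_le_sum fun x _ => (hd x.1 K ξ).2

theorem exists_max {X Y : Scheme.{u}} (f : X ⟶ Y) [LocallyQuasiFinite f] [LocallyOfFiniteType f] [CompactSpace X]
    (w : X → ℤ) (hw : MoreMor.IsWeighting f w) [Nonempty Y] :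
    ∃ y₀ : Y, ∀ y : Y, MoreMor.fibreIntegral f w y ≤ MoreMor.fibreIntegral f w y₀ := by
  obtain ⟨M, hM⟩ := (finite_range_weighting f w hw).bddAbove
  obtain ⟨d, hd⟩ := exists_bound_lifts f
  have hb : ∀ y, MoreMor.fibreIntegral f w y ≤ (d : ℤ) * max M 0 := by
    intro y
    obtain ⟨K, _, _, ξ, rfl⟩ := exists_geomPoint y
    obtain ⟨h1, h2⟩ := hd K ξ
    haveI := h1
    letI := Fintype.ofFinite (Lifts f ξ)
    rw [fibreIntegral_eq f w ξ (finite_fibre_of_finite_lifts f ξ), finsum_eq_sum_of_fintype]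
    refine (Finset.sum_le_card_nsmul _ _ (max M 0) fun p _ => (hM ⟨pt p.1, rfl⟩).trans (le_max_left _ _)).trans ?_
    rw [Finset.card_univ, ← Nat.card_eq_fintype_card, nsmul_eq_mul]
    exact mul_le_mul_of_nonneg_right (by exact_mod_cast h2) (le_max_right _ _)
  obtain ⟨m, ⟨y0, hy0⟩, hm⟩ := Int.exists_greatest_of_bdd (P := fun n => ∃ y, MoreMor.fibreIntegral f w y = n)
    ⟨(d : ℤ) * max M 0, fun z ⟨y, hy⟩ => hy ▸ hb y⟩ ⟨_, Classical.arbitrary Y, rfl⟩
  exact ⟨y0, fun y => hy0 ▸ hm _ ⟨y, rfl⟩⟩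

end Groth.Agent.H2Weight
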