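import Mathlib
import Groth.Prelude.Def_MoreMor
import Groth.Agent.Lib.H2Weight
import Groth.Agent.Lib.H2QFBound

/-! Geometric fibres of quasi-finite morphisms are discrete; their size is bounded. -/

universe u

open CategoryTheory Limits AlgebraicGeometry

namespace Groth.Agent.H2Weight

theorem irreducibleComponents_encard_eq {T : Type u} [TopologicalSpace T] [DiscreteTopology T] :
    (irreducibleComponents T).encard = ENat.card T ∧ ENat.card (ConnectedComponents T) = ENat.card T := by
  constructor
  · have h1 : irreducibleComponents T = Set.range fun t : T => ({t} : Set T) := by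
      ext s
      constructor
      · intro hs
        obtain ⟨⟨t, ht⟩, hp⟩ := hs.1
        refine ⟨t, (Set.eq_singleton_iff_unique_mem.2 ⟨ht, fun u hu => ?_⟩).symm⟩
        by_contra hne
        obtain ⟨z, -, hz1, hz2⟩ := hp {u} {t} (isOpen_discrete _) (isOpen_discrete _) ⟨u, hu, rfl⟩ ⟨t, ht, rfl⟩
        exact hne ((Set.mem_singleton_iff.1 hz1).symm.trans (Set.mem_singleton_iff.1 hz2))
      · rintro ⟨t, rfl⟩
        refine ⟨isIrreducible_singleton, fun s hs hts u hu => ?_⟩
        by_contra hne
        obtain ⟨z, -, hz1, hz2⟩ := hs.2 {u} {t} (isOpen_discrete _) (isOpen_discrete _) ⟨u, hu, rfl⟩ ⟨t, hts rfl, rfl⟩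
        exact hne ((Set.mem_singleton_iff.1 hz1).symm.trans (Set.mem_singleton_iff.1 hz2))
    rw [h1, ← Set.image_univ, Set.InjOn.encard_image fun a _ b _ h => Set.singleton_eq_singleton_iff.1 h, Set.encard_univ]
  · refine (ENat.card_congr (Equiv.ofBijective (fun t : T => (t : ConnectedComponents T)) ⟨fun a b h => ?_, ?_⟩)).symm
    · simpa using ConnectedComponents.coe_eq_coe'.1 h
    · exact ConnectedComponents.surjective_coe

theorem discreteTopology_of_lqf {T : Scheme.{u}} {F : Type u} [Field F] (s : T ⟶ Spec (CommRingCat.of F)) [LocallyQuasiFinite s] :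
    DiscreteTopology T := by
  have h := s.isDiscrete_preimage_singleton (IsLocalRing.closedPoint F)
  exact (isDiscrete_univ_iff).1 (h.mono fun t _ => Subsingleton.elim (s t) _)

theorem nGeom_eq {X Y : Scheme.{u}} (f : X ⟶ Y) [LocallyQuasiFinite f] (y : Y) :
    MoreMor.nGeomIrredComp f y = MoreMor.nGeomConnComp f y := by
  haveI : LocallyQuasiFinite (f.fiberToSpecResidueField y) :=
    MorphismProperty.of_isPullback (P := @LocallyQuasiFinite) (IsPullback.of_hasPullback f (Y.fromSpecResidueField y)) ‹_›
  let F := SeparableClosure (Y.residueField y)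
  let m : Spec (CommRingCat.of F) ⟶ Spec (Y.residueField y) := Spec.map (CommRingCat.ofHom (algebraMap (Y.residueField y) F))
  let s : MoreMor.geomFiber f y ⟶ Spec (CommRingCat.of F) := pullback.snd (f.fiberToSpecResidueField y) m
  haveI : LocallyQuasiFinite s := MorphismProperty.of_isPullback (P := @LocallyQuasiFinite) (IsPullback.of_hasPullback _ m) ‹_›
  haveI : DiscreteTopology ↥(MoreMor.geomFiber f y) := discreteTopology_of_lqf s
  obtain ⟨h1, h2⟩ := irreducibleComponents_encard_eq (T := ↥(MoreMor.geomFiber f y))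
  exact h1.trans h2.symm

theorem nGeomConnComp_le {X Y : Scheme.{u}} (f : X ⟶ Y) [LocallyQuasiFinite f] [LocallyOfFiniteType f] [CompactSpace X] :
    ∃ d : ℕ, ∀ y : Y, MoreMor.nGeomConnComp f y ≤ d := by
  obtain ⟨d, hd⟩ := exists_bound_lifts f
  refine ⟨d, fun y => ?_⟩
  let F := SeparableClosure (Y.residueField y)
  let K := AlgebraicClosure F
  let m : Spec (CommRingCat.of F) ⟶ Spec (Y.residueField y) := Spec.map (CommRingCat.ofHom (algebraMap (Y.residueField y) F))
  let s : MoreMor.geomFiber f y ⟶ Spec (CommRingCat.of F) := pullback.snd (f.fiberToSpecResidueField y) m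
  let h : MoreMor.geomFiber f y ⟶ X := pullback.fst (f.fiberToSpecResidueField y) m ≫ f.fiberι y
  have hc : IsPullback h s f (m ≫ Y.fromSpecResidueField y) :=
    (IsPullback.of_hasPullback (f.fiberToSpecResidueField y) m).paste_horiz (IsPullback.of_hasPullback f (Y.fromSpecResidueField y))
  haveI : LocallyQuasiFinite s := MorphismProperty.of_isPullback (P := @LocallyQuasiFinite) hc ‹_›
  haveI : DiscreteTopology ↥(MoreMor.geomFiber f y) := discreteTopology_of_lqf s
  let ξ : Spec (CommRingCat.of K) ⟶ Spec (CommRingCat.of F) := Spec.map (CommRingCat.ofHom (algebraMap F K))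
  obtain ⟨h1, h2⟩ := hd K (ξ ≫ m ≫ Y.fromSpecResidueField y)
  haveI := h1
  haveI : Finite (Lifts s ξ) := Finite.of_equiv _ (liftsPullback f hc ξ).symm
  have hcard : Nat.card (Lifts s ξ) ≤ d := (Nat.card_congr (liftsPullback f hc ξ)).trans_le h2
  have hsurj : Function.Surjective fun p : Lifts s ξ => pt p.1 := fun t => by
    obtain ⟨p, hp⟩ := nonempty_lifts s ξ t (Subsingleton.elim _ _)
    exact ⟨p, hp⟩
  haveI : Finite ↥(MoreMor.geomFiber f y) := Finite.of_surjective _ hsurj
  rw [MoreMor.nGeomConnComp, (irreducibleComponents_encard_eq (T := ↥(MoreMor.geomFiber f y))).2, ENat.card_eq_coe_natCard]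
  exact_mod_cast (Nat.card_le_card_of_surjective _ hsurj).trans hcard

end Groth.Agent.H2Weight
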