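import Mathlib
import Groth.Prelude.Def_Wider
import Groth.Prelude.Def_DRing3
import Groth.Agent.Lib.H2AdjDepth
import Groth.Agent.Lib.H2AdjDepthGlobal

/-! Finiteness of local cohomology. -/

universe u

open CategoryTheory Pointwise

namespace Groth.Agent.H2LC

variable {R : Type u} [CommRing R] {I : Ideal R}

/-- a power of `I` kills `H^j_I(M)`. -/
def KilledPow (I : Ideal R) (M : Type u) [AddCommGroup M] [Module R M] (j : ℕ) : Prop :=
  ∃ N : ℕ, ∀ a ∈ I ^ N, KillsH I a M j

section seq
variable {A B C : Type u} [AddCommGroup A] [Module R A] [AddCommGroup B] [Module R B]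
  [AddCommGroup C] [Module R C] {f : A →ₗ[R] B} {g : B →ₗ[R] C}

theorem KilledPow.right (hf : Function.Injective f) (hg : Function.Surjective g) (hfg : Function.Exact f g)
    {j : ℕ} (hB : KilledPow I B j) (hA : KilledPow I A (j + 1)) : KilledPow I C j := by
  obtain ⟨m, hm⟩ := hB
  obtain ⟨n, hn⟩ := hA
  refine ⟨m + n, fun c hc y => ?_⟩
  rw [pow_add] at hc
  exact Submodule.mul_induction_on hc (fun a ha b hb => KillsH.right hf hg hfg (hm a ha) (hn b hb) y)
    fun u v hu hv => by rw [add_smul, hu, hv, add_zero]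

theorem KilledPow.mid (hf : Function.Injective f) (hg : Function.Surjective g) (hfg : Function.Exact f g)
    {j : ℕ} (hA : KilledPow I A j) (hC : KilledPow I C j) : KilledPow I B j := by
  obtain ⟨m, hm⟩ := hA
  obtain ⟨n, hn⟩ := hC
  refine ⟨m + n, fun c hc y => ?_⟩
  rw [pow_add] at hc
  exact Submodule.mul_induction_on hc (fun a ha b hb => KillsH.mid hf hg hfg (hm a ha) (hn b hb) y)
    fun u v hu hv => by rw [add_smul, hu, hv, add_zero]

end seq

theorem killedPow_of_subsingleton {M : Type u} [AddCommGroup M] [Module R M] {j : ℕ}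
    (h : Subsingleton (LocCoh.H I j M)) : KilledPow I M j :=
  ⟨0, fun _ _ _ => Subsingleton.elim _ _⟩

variable [IsNoetherianRing R]

theorem finite_H0 (M : Type u) [AddCommGroup M] [Module R M] [Module.Finite R M] :
    Module.Finite R (LocCoh.H I 0 M) :=
  Module.Finite.equiv (torsionEquiv (I := I) M).symm

theorem killedPow_of_finite {M : Type u} [AddCommGroup M] [Module R M] {j : ℕ}
    [Module.Finite R (LocCoh.H I j M)] : KilledPow I M j := by
  obtain ⟨k, hk⟩ := exists_uniform_torsion' (R := R) I (LocCoh.H I j M)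
  exact ⟨k, fun a ha y => hk a ha y (isPowerTorsion (I := I) j (ModuleCat.of R M) y)⟩
where
  exists_uniform_torsion' {R : Type u} [CommRing R] [IsNoetherianRing R] (p : Ideal R) (N : Type u) [AddCommGroup N] [Module R N]
      [Module.Finite R N] : ∃ k : ℕ, ∀ c ∈ p ^ k, ∀ m ∈ DRing.torsionSub p N, c • m = 0 :=
    exists_killer_torsion.exists_uniform_torsion' p N

/-- the reduction modulo torsion. -/
theorem exists_torsionfree_reduction (I : Ideal R) (M : Type u) [AddCommGroup M] [Module R M] [Module.Finite R M] :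
    ∃ x ∈ I, IsSMulRegular (M ⧸ DRing.torsionSub I M) x ∧
      ∀ j : ℕ, Nonempty (LocCoh.H I (j + 1) M ≃ₗ[R] LocCoh.H I (j + 1) (M ⧸ DRing.torsionSub I M)) := by
  set T := DRing.torsionSub I M
  obtain ⟨x, hx, hreg⟩ := exists_regular_of_torsion (torsionSub_quot_eq_bot (I := I) M)
  refine ⟨x, hx, hreg, fun j => ?_⟩
  have hS := lseq_shortExact T.injective_subtype T.mkQ_surjective (LinearMap.exact_subtype_mkQ T)
  have h1 := subsingleton_of_isPowerTorsion j T (isPowerTorsion_torsionSub (I := I) M)
  have h2 := subsingleton_of_isPowerTorsion (j + 1) T (isPowerTorsion_torsionSub (I := I) M)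
  refine ⟨LinearEquiv.ofBijective (cmap I (j + 1) (ModuleCat.ofHom T.mkQ)) ⟨?_, fun y => ?_⟩⟩
  · rw [injective_iff_map_eq_zero]
    intro y hy
    obtain ⟨z, rfl⟩ := (exact_map hS (j + 1) y).1 hy
    exact (congrArg _ (@Subsingleton.elim _ h1 z 0)).trans (map_zero _)
  · exact (exact_map_dMap hS (j + 1) y).1 (@Subsingleton.elim _ h2 _ 0)

theorem KilledPow.congr {M N : Type u} [AddCommGroup M] [Module R M] [AddCommGroup N] [Module R N] {j : ℕ}
    (e : LocCoh.H I j M ≃ₗ[R] LocCoh.H I j N) (h : KilledPow I M j) : KilledPow I N j := by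
  obtain ⟨m, hm⟩ := h
  exact ⟨m, fun a ha y => by rw [← e.apply_symm_apply y, ← map_smul, hm a ha, map_zero]⟩

theorem isSMulRegular_pow {M : Type u} [AddCommGroup M] [Module R M] {x : R} (h : IsSMulRegular M x) (k : ℕ) :
    IsSMulRegular M (x ^ k) := h.pow k

theorem finite_of_killedPow : ∀ (i : ℕ) (M : Type u) [AddCommGroup M] [Module R M] [Module.Finite R M],
    (∀ j, j ≤ i → KilledPow I M j) → Module.Finite R (LocCoh.H I i M) := by
  intro i
  induction i with
  | zero => exact fun M _ _ _ _ => finite_H0 M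
  | succ i ih =>
    intro M _ _ _ h
    obtain ⟨x, hx, hreg, he⟩ := exists_torsionfree_reduction I M
    set M' := M ⧸ DRing.torsionSub I M
    obtain ⟨e⟩ := he i
    have h' : ∀ j, j ≤ i + 1 → KilledPow I M' j := fun j hj => by
      rcases j with _ | j
      · exact killedPow_of_subsingleton ((subsingleton_H0_iff _).2 (torsionSub_quot_eq_bot M))
      · obtain ⟨e'⟩ := he j
        exact (h _ hj).congr e'
    obtain ⟨N, hN⟩ := h' (i + 1) le_rfl
    obtain ⟨hex, hS⟩ := quotSMulTop_shortExact (hreg.pow N)
    haveI := ih (M' ⧸ (x ^ N • ⊤ : Submodule R M')) fun j hj =>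
      KilledPow.right (fun a b hab => (hreg.pow N) hab) (Submodule.mkQ_surjective _) hex (h' j (by omega))
        (h' (j + 1) (by omega))
    refine Module.Finite.of_surjective (e.symm.toLinearMap ∘ₗ dMap hS i) (e.symm.surjective.comp fun y => ?_)
    refine (exact_dMap_map hS i y).1 ?_
    refine (cmap_smul_id (I := I) (i + 1) (x ^ N) (ModuleCat.of R M') y).trans ?_
    exact hN _ (Ideal.pow_mem_pow hx N) y

theorem finite_iff_exists_killing (M : Type u) [AddCommGroup M] [Module R M] [Module.Finite R M] (n : ℕ) :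
    (∀ i : ℕ, i ≤ n → Module.Finite R (LocCoh.H I i M)) ↔
      ∃ J : Ideal R, I ≤ J.radical ∧ ∀ i : ℕ, i ≤ n → ∀ a ∈ J, ∀ x : LocCoh.H I i M, a • x = 0 := by
  constructor
  · intro h
    have hk : ∀ i, i ≤ n → KilledPow I M i := fun i hi => by
      haveI := h i hi
      exact killedPow_of_finite
    choose! N hN using hk
    refine ⟨I ^ (Finset.range (n + 1)).sup N, fun a ha => ⟨_, Ideal.pow_mem_pow ha _⟩, fun i hi a ha y => ?_⟩
    exact hN i hi a (Ideal.pow_le_pow_right (Finset.le_sup (Finset.mem_range.2 (by omega))) ha) y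
  · rintro ⟨J, hIJ, hJ⟩ i hi
    obtain ⟨N, hN⟩ := Ideal.exists_pow_le_of_le_radical_of_fg hIJ (IsNoetherian.noetherian I)
    exact finite_of_killedPow i M fun j hj => ⟨N, fun a ha y => hJ j (hj.trans hi) a (hN ha) y⟩

/-- `H^i_I(M)` is finite locally. -/
def LocFinite (I : Ideal R) (M : Type u) [AddCommGroup M] [Module R M] (i : ℕ) : Prop :=
  ∀ (p : Ideal R) [p.IsPrime], Module.Finite (Localization.AtPrime p) (LocalizedModule p.primeCompl (LocCoh.H I i M))

theorem LocFinite.of_exact {A B C : Type u} [AddCommGroup A] [Module R A] [AddCommGroup B] [Module R B]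
    [AddCommGroup C] [Module R C] (f : A →ₗ[R] B) (g : B →ₗ[R] C) (hfg : Function.Exact f g)
    (p : Ideal R) [p.IsPrime] [Module.Finite (Localization.AtPrime p) (LocalizedModule p.primeCompl A)]
    [Module.Finite (Localization.AtPrime p) (LocalizedModule p.primeCompl C)] :
    Module.Finite (Localization.AtPrime p) (LocalizedModule p.primeCompl B) := by
  let f' := LocalizedModule.map p.primeCompl f
  let g' := LocalizedModule.map p.primeCompl g
  have h : Function.Exact f' g' := IsLocalizedModule.map_exact p.primeCompl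
    (LocalizedModule.mkLinearMap p.primeCompl A) (LocalizedModule.mkLinearMap p.primeCompl B)
    (LocalizedModule.mkLinearMap p.primeCompl C) f g hfg
  haveI : IsNoetherian (Localization.AtPrime p) (LocalizedModule p.primeCompl B) :=
    isNoetherian_of_range_eq_ker f' g' h.linearMap_ker_eq.symm
  infer_instance

theorem LocFinite.congr {M N : Type u} [AddCommGroup M] [Module R M] [AddCommGroup N] [Module R N] {i : ℕ}
    (e : LocCoh.H I i M ≃ₗ[R] LocCoh.H I i N) (h : LocFinite I M i) : LocFinite I N i := by
  intro p _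
  haveI := h p
  exact LocFinite.of_exact (e.toLinearMap) (0 : LocCoh.H I i N →ₗ[R] PUnit.{u + 1})
    (fun y => ⟨fun _ => e.surjective y, fun _ => rfl⟩) p

theorem finite_of_locFinite : ∀ (i : ℕ) (M : Type u) [AddCommGroup M] [Module R M] [Module.Finite R M],
    (∀ j, j ≤ i → LocFinite I M j) → Module.Finite R (LocCoh.H I i M) := by
  intro i
  induction i with
  | zero => exact fun M _ _ _ _ => finite_H0 M
  | succ i ih =>
    intro M _ _ _ h
    obtain ⟨x, hx, hreg, he⟩ := exists_torsionfree_reduction I M
    set M' := M ⧸ DRing.torsionSub I M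
    obtain ⟨e⟩ := he i
    have h' : ∀ j, j ≤ i + 1 → LocFinite I M' j := fun j hj => by
      rcases j with _ | j
      · intro p _
        haveI := finite_H0 (I := I) M'
        infer_instance
      · obtain ⟨e'⟩ := he j
        exact (h _ hj).congr e'
    suffices Module.Finite R (LocCoh.H I (i + 1) M') from Module.Finite.equiv e.symm
    set H := LocCoh.H I (i + 1) M'
    let mul : ℕ → H →ₗ[R] H := fun n => x ^ n • (LinearMap.id : H →ₗ[R] H)
    have hker : ∀ n, (LinearMap.ker (mul n)).FG := fun n => by
      obtain ⟨hex, hS⟩ := quotSMulTop_shortExact (hreg.pow n)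
      haveI := ih (M' ⧸ (x ^ n • ⊤ : Submodule R M')) fun j hj p _ => by
        haveI := h' j (by omega) p
        haveI := h' (j + 1) (by omega) p
        exact LocFinite.of_exact _ _ (exact_map_dMap hS j) p
      have hr : LinearMap.range (dMap hS i) = LinearMap.ker (mul n) := by
        rw [← (exact_dMap_map hS i).linearMap_ker_eq]
        ext y
        exact ⟨fun hy => (cmap_smul_id (I := I) (i + 1) (x ^ n) (ModuleCat.of R M') y).symm.trans hy,
          fun hy => (cmap_smul_id (I := I) (i + 1) (x ^ n) (ModuleCat.of R M') y).trans hy⟩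
      exact hr ▸ Module.Finite.iff_fg.1 inferInstance
    let L : ℕ → Submodule R H := fun n => (LinearMap.ker (mul (n + 1))).map (mul n)
    let A : ℕ → Ideal R := fun n => (L n).annihilator
    have hmono : Monotone A := monotone_nat_of_le_succ fun n => Submodule.annihilator_mono (by
      rintro _ ⟨z, hz, rfl⟩
      refine ⟨x • z, ?_, ?_⟩
      · show x ^ (n + 1) • x • z = 0
        rw [← mul_smul, ← pow_succ]; exact hz
      · show x ^ n • x • z = x ^ (n + 1) • z
        rw [← mul_smul, ← pow_succ])
    obtain ⟨n0, hn0⟩ := monotone_stabilizes_iff_noetherian.2 ‹IsNoetherianRing R› ⟨A, hmono⟩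
    have htop : A n0 = ⊤ := by
      by_contra hne
      obtain ⟨p, hp, hle⟩ := Ideal.exists_le_maximal _ hne
      haveI := hp.isPrime
      haveI := h' (i + 1) le_rfl p
      obtain ⟨t, ht⟩ := Module.Finite.fg_top (R := Localization.AtPrime p) (M := LocalizedModule p.primeCompl H)
      classical
      have hex : ∀ z ∈ t, ∃ k : ℕ, x ^ k • z = 0 := fun z _ => by
        induction z using LocalizedModule.induction_on with
        | _ y s =>
          obtain ⟨k, hk⟩ := isPowerTorsion (I := I) (i + 1) (ModuleCat.of R M') y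
          exact ⟨k, by rw [LocalizedModule.smul'_mk, hk _ (Ideal.pow_mem_pow hx k), LocalizedModule.zero_mk]⟩
      choose! k hk using hex
      set K := max (t.sup k) n0
      have hK : ∀ z : LocalizedModule p.primeCompl H, x ^ K • z = 0 := fun z => by
        have hz : z ∈ Submodule.span (Localization.AtPrime p) (t : Set (LocalizedModule p.primeCompl H)) :=
          ht ▸ Submodule.mem_top
        induction hz using Submodule.span_induction with
        | mem z hz =>
          rw [← Nat.sub_add_cancel (show k z ≤ K from (Finset.le_sup hz).trans (le_max_left _ _)), pow_add,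
            mul_smul, hk z hz, smul_zero]
        | zero => rw [smul_zero]
        | add u v _ _ hu hv => rw [smul_add, hu, hv, add_zero]
        | smul c u _ hu => rw [smul_comm, hu, smul_zero]
      obtain ⟨g, hg⟩ : (L K).FG := (hker (K + 1)).map _
      have hex' : ∀ y ∈ g, ∃ s ∉ p, s • y = 0 := fun y hy => by
        obtain ⟨z, -, rfl⟩ := (hg ▸ Submodule.subset_span hy : y ∈ L K)
        have h0 : LocalizedModule.mkLinearMap p.primeCompl H (x ^ K • z) = 0 := by rw [map_smul, hK]
        obtain ⟨⟨s, hs⟩, hs0⟩ := (IsLocalizedModule.eq_zero_iff p.primeCompl (LocalizedModule.mkLinearMap p.primeCompl H)).1 h0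
        exact ⟨s, hs, hs0⟩
      choose! s hs hs0 using hex'
      have hA : (∏ y ∈ g, s y) ∈ A K := by
        rw [Submodule.mem_annihilator, ← hg]
        intro y hy
        induction hy using Submodule.span_induction with
        | mem y hy =>
          rw [← Finset.prod_erase_mul g s hy, mul_smul, hs0 y hy, smul_zero]
        | zero => rw [smul_zero]
        | add u v _ _ hu hv => rw [smul_add, hu, hv, add_zero]
        | smul c u _ hu => rw [smul_comm, hu, smul_zero]
      have hnp : (∏ y ∈ g, s y) ∉ p := fun hmem => by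
        obtain ⟨y, hy, hys⟩ := (Ideal.IsPrime.prod_mem_iff).1 hmem
        exact hs y hy hys
      have hAK : A n0 = A K := hn0 K (le_max_right _ _)
      exact hnp (hle (by rw [hAK]; exact hA))
    have hall : ∀ k, ∀ y : H, x ^ k • y = 0 → x ^ n0 • y = 0 := by
      intro k
      induction k with
      | zero => intro y hy; rw [pow_zero, one_smul] at hy; rw [hy, smul_zero]
      | succ k ihk =>
        intro y hy
        rcases le_or_gt (k + 1) n0 with hle | hlt
        · rw [← Nat.sub_add_cancel hle, pow_add, mul_smul, hy, smul_zero]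
        · refine ihk y ?_
          have hAk : A k = ⊤ := (hn0 k (by omega)).symm.trans htop
          have := Submodule.mem_annihilator.1 (hAk ▸ Submodule.mem_top : (1 : R) ∈ A k) (x ^ k • y) ⟨y, hy, rfl⟩
          rw [one_smul] at this; exact this
    have hH : LinearMap.ker (mul n0) = ⊤ := by
      rw [eq_top_iff]
      intro y _
      obtain ⟨k, hk⟩ := isPowerTorsion (I := I) (i + 1) (ModuleCat.of R M') y
      exact hall k y (hk _ (Ideal.pow_mem_pow hx k))
    exact ⟨hH ▸ hker n0⟩

theorem exists_factor_free (M : Type u) [AddCommGroup M] [Module R M] [Module.Finite R M] (f : R)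
    [hP : Module.Projective (Localization.Away f) (LocalizedModule (Submonoid.powers f) M)] :
    ∃ (k N : ℕ) (α : M →ₗ[R] (Fin k → R)) (β : (Fin k → R) →ₗ[R] M), β ∘ₗ α = f ^ N • LinearMap.id := by
  obtain ⟨k, π, hπ⟩ := Module.Finite.exists_fin' R M
  set S := Submonoid.powers f
  let πS := LocalizedModule.map S π
  have hπS : Function.Surjective πS := IsLocalizedModule.map_surjective S
    (LocalizedModule.mkLinearMap S _) (LocalizedModule.mkLinearMap S M) π hπ
  obtain ⟨σ, hσ⟩ := Module.projective_lifting_property πS LinearMap.id hπS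
  haveI : Module.FinitePresentation R M := Module.finitePresentation_of_finite R M
  obtain ⟨α, ⟨c, a, rfl⟩, hα⟩ := Module.FinitePresentation.exists_lift_of_isLocalizedModule S
    (LocalizedModule.mkLinearMap S (Fin k → R)) ((σ.restrictScalars R) ∘ₗ LocalizedModule.mkLinearMap S M)
  have hcomp : (LocalizedModule.mkLinearMap S M) ∘ₗ (π ∘ₗ α) =
      (LocalizedModule.mkLinearMap S M) ∘ₗ (f ^ a • LinearMap.id) := by
    ext m
    have h1 : LocalizedModule.mkLinearMap S M (π (α m)) = πS (LocalizedModule.mkLinearMap S _ (α m)) :=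
      (IsLocalizedModule.map_apply S (LocalizedModule.mkLinearMap S _) (LocalizedModule.mkLinearMap S M) π (α m)).symm
    have h2 : LocalizedModule.mkLinearMap S _ (α m) = f ^ a • σ (LocalizedModule.mkLinearMap S M m) :=
      LinearMap.congr_fun hα m
    simp only [LinearMap.comp_apply, LinearMap.smul_apply, LinearMap.id_apply]
    rw [h1, h2, LinearMap.map_smul_of_tower]
    rw [map_smul]
    exact congrArg (f ^ a • ·) (LinearMap.congr_fun hσ _)
  obtain ⟨⟨c, b, rfl⟩, hb⟩ := Module.Finite.exists_smul_of_comp_eq_of_isLocalizedModule S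
    (LocalizedModule.mkLinearMap S M) _ _ hcomp
  refine ⟨k, b + a, α, f ^ b • π, ?_⟩
  rw [LinearMap.smul_comp, pow_add, mul_smul]
  exact hb

theorem killsH_free {J : Ideal R} {n i : ℕ} (hA : ∀ a ∈ J ^ n, ∀ x : LocCoh.H I i R, a • x = 0)
    {a : R} (ha : a ∈ J ^ n) : ∀ k : ℕ, KillsH I a (Fin k → R) i := by
  intro k
  induction k with
  | zero =>
    intro y
    haveI := subsingleton_of_subsingleton (I := I) (M := Fin 0 → R) i
    exact Subsingleton.elim _ _
  | succ k ih =>
    intro y
    let d : (Fin (k + 1) → R) →ₗ[R] (Fin k → R) := LinearMap.funLeft R R Fin.succ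
    let p0 : (Fin (k + 1) → R) →ₗ[R] R := LinearMap.proj 0
    let j0 : R →ₗ[R] (Fin (k + 1) → R) := LinearMap.single R (fun _ => R) 0
    have hex : Function.Exact j0 d := fun v => by
      constructor
      · intro hv
        refine ⟨v 0, funext fun l => ?_⟩
        refine Fin.cases ?_ (fun l => ?_) l
        · simp [j0]
        · simp only [j0, LinearMap.single_apply, ne_eq, Fin.succ_ne_zero, not_false_eq_true, Pi.single_eq_of_ne]
          exact (congrFun hv l).symm
      · rintro ⟨r, rfl⟩
        funext l
        simp [d, j0, Fin.succ_ne_zero]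
    have hd : Function.Surjective d := fun v => ⟨Fin.cases 0 v, rfl⟩
    have hj : Function.Injective j0 := fun u v h => by simpa [j0] using congrFun h 0
    have hS := lseq_shortExact hj hd hex
    obtain ⟨z, hz⟩ := (exact_map hS i (a • y)).1
      ((map_smul (cmap I i (ModuleCat.ofHom d)) a y).trans (ih _))
    have hp : cmap I i (ModuleCat.ofHom p0) (cmap I i (ModuleCat.ofHom j0) z) = z := by
      have h1 : ModuleCat.ofHom j0 ≫ ModuleCat.ofHom p0 = 𝟙 (ModuleCat.of R R) := by
        ext r; simp [j0, p0]
      have h2 := congrArg (fun t => (localCohomology I i).map t) h1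
      simp only [Functor.map_comp, CategoryTheory.Functor.map_id] at h2
      exact congrArg (fun t => t.hom z) h2
    have hz0 : z = 0 := by
      rw [← hp]
      refine (congrArg (cmap I i (ModuleCat.ofHom p0)) hz).trans ?_
      rw [map_smul]; exact hA a ha _
    rw [← hz, hz0]
    exact map_zero _

theorem killedPow_of_projective_punctured {J : Ideal R} (hJI : J ≤ I) {i n : ℕ}
    (hA : ∀ a ∈ J ^ n, ∀ x : LocCoh.H I i R, a • x = 0) (M : Type u) [AddCommGroup M] [Module R M]
    [Module.Finite R M] (hM : ∀ f ∈ I, Module.Projective (Localization.Away f) (LocalizedModule (Submonoid.powers f) M)) :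
    ∃ m : ℕ, ∀ a ∈ J ^ m, ∀ x : LocCoh.H I i M, a • x = 0 := by
  let K : Ideal R :=
    { carrier := {c | ∀ a ∈ J ^ n, ∀ x : LocCoh.H I i M, (c * a) • x = 0}
      zero_mem' := fun a _ x => by rw [zero_mul, zero_smul]
      add_mem' := fun {u v} hu hv a ha x => by rw [add_mul, add_smul, hu a ha x, hv a ha x, add_zero]
      smul_mem' := fun r c hc a ha x => by rw [smul_eq_mul, mul_assoc, mul_smul, hc a ha x, smul_zero] }
  have hIK : I ≤ K.radical := fun f hf => by
    haveI := hM f hf
    obtain ⟨k, N, α, β, hαβ⟩ := exists_factor_free M f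
    refine ⟨N, fun a ha x => ?_⟩
    have h1 : f ^ N • x = cmap I i (ModuleCat.ofHom β) (cmap I i (ModuleCat.ofHom α) x) := by
      rw [← cmap_smul_id (I := I) i (f ^ N) (ModuleCat.of R M) x, show (f ^ N • 𝟙 (ModuleCat.of R M)) =
        ModuleCat.ofHom α ≫ ModuleCat.ofHom β from by rw [← ModuleCat.ofHom_comp, hαβ]; rfl]
      simp [cmap, Functor.map_comp]
    rw [mul_comm, mul_smul, h1, ← map_smul, killsH_free hA ha k _, map_zero]
  obtain ⟨N, hN⟩ := Ideal.exists_pow_le_of_le_radical_of_fg hIK (IsNoetherian.noetherian I)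
  refine ⟨N + n, fun c hc x => ?_⟩
  rw [pow_add] at hc
  exact Submodule.mul_induction_on hc (fun u hu v hv => hN (Ideal.pow_right_mono hJI N hu) v hv x)
    fun u v hu hv => by rw [add_smul, hu, hv, add_zero]

theorem finite_of_projective_punctured {n : ℕ} (hR : ∀ i : ℕ, i ≤ n → Module.Finite R (LocCoh.H I i R))
    (M : Type u) [AddCommGroup M] [Module R M] [Module.Finite R M]
    (hM : ∀ f ∈ I, Module.Projective (Localization.Away f) (LocalizedModule (Submonoid.powers f) M))
    {i : ℕ} (hi : i ≤ n) : Module.Finite R (LocCoh.H I i M) := by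
  refine finite_of_killedPow i M fun j hj => ?_
  haveI := hR j (hj.trans hi)
  obtain ⟨N, hN⟩ := killedPow_of_finite (I := I) (M := R) (j := j)
  exact killedPow_of_projective_punctured le_rfl hN M hM

end Groth.Agent.H2LC
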