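import Mathlib
import Groth.Prelude.Def_Wider
import Groth.Prelude.Def_DRing3
import Groth.Agent.Lib.H2LCFinite
set_option autoImplicit false

/-! Finiteness of `H¹_I` through associated primes. -/
namespace Groth.Agent.H2H1Assoc
open CategoryTheory Groth.Agent.H2LC
set_option backward.isDefEq.respectTransparency.types false
universe u
variable {A : Type u} [CommRing A]

theorem exists_embedding (p : Ideal A) [p.IsPrime] (N : Type u) [AddCommGroup N] [Module A N] [Module.Finite A N]
    (hp : ∀ a ∈ p, ∀ x : N, a • x = 0) (hinj : ∀ s ∉ p, ∀ x : N, s • x = 0 → x = 0) :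
    ∃ (r : ℕ) (f : N →ₗ[A] (Fin r → A ⧸ p)), Function.Injective f := by
  classical
  have key : ∀ s : Finset N, ∃ (r : ℕ) (φ : (Fin r → A ⧸ p) →ₗ[A] N) (d : A),
      d ∉ p ∧ Function.Injective φ ∧ ∀ x ∈ s, d • x ∈ LinearMap.range φ := by
    intro s
    induction s using Finset.induction_on with
    | empty => exact ⟨0, 0, 1, fun h => ‹p.IsPrime›.ne_top ((Ideal.eq_top_iff_one p).2 h),
        fun a b _ => Subsingleton.elim a b, fun x hx => absurd hx (Finset.notMem_empty x)⟩
    | @insert a t hat ih =>
      obtain ⟨r, φ, d, hd, hφ, hall⟩ := ih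
      by_cases hc : ∃ c ∉ p, c • a ∈ LinearMap.range φ
      · obtain ⟨c, hc, hca⟩ := hc
        refine ⟨r, φ, c * d, ‹p.IsPrime›.mul_notMem hc hd, hφ, fun x hx => ?_⟩
        rcases Finset.mem_insert.1 hx with rfl | hx
        · rw [mul_comm, mul_smul]; exact Submodule.smul_mem _ d hca
        · rw [mul_smul]; exact Submodule.smul_mem _ c (hall x hx)
      · push Not at hc
        let h : (A ⧸ p) →ₗ[A] N := p.liftQ (LinearMap.toSpanSingleton A N a) fun b hb => hp b hb a
        let φ' : (Fin (r + 1) → A ⧸ p) →ₗ[A] N :=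
          φ ∘ₗ LinearMap.funLeft A (A ⧸ p) Fin.succ + h ∘ₗ LinearMap.proj 0
        have hin : ∀ z : Fin r → A ⧸ p, ∀ c, φ' (Fin.cons c z) = φ z + h c := fun z c => by
          simp [φ', LinearMap.funLeft, Function.comp_def]
        refine ⟨r + 1, φ', d, hd, ?_, fun x hx => ?_⟩
        · rw [injective_iff_map_eq_zero]
          intro z hz
          rw [← Fin.cons_self_tail z, hin] at hz
          obtain ⟨c, hc'⟩ := Submodule.Quotient.mk_surjective p (z 0)
          have hmem : c • a ∈ LinearMap.range φ := ⟨-(Fin.tail z), by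
            rw [map_neg, eq_neg_of_add_eq_zero_left hz, neg_neg, ← hc']; rfl⟩
          have hcp : c ∈ p := by_contra fun hcp => hc c hcp hmem
          have h0 : z 0 = 0 := by rw [← hc']; exact (Submodule.Quotient.mk_eq_zero p).2 hcp
          rw [h0, map_zero, add_zero] at hz
          have h1 : Fin.tail z = 0 := hφ (hz.trans (map_zero φ).symm)
          funext i
          exact Fin.cases h0 (fun j => congrFun h1 j) i
        · rcases Finset.mem_insert.1 hx with rfl | hx
          · refine ⟨Fin.cons (Submodule.Quotient.mk d) 0, ?_⟩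
            rw [hin, map_zero, zero_add]; rfl
          · obtain ⟨z, hz⟩ := hall x hx
            exact ⟨Fin.cons 0 z, by rw [hin, map_zero, add_zero, hz]⟩
  obtain ⟨s, hs⟩ := Module.Finite.fg_top (R := A) (M := N)
  obtain ⟨r, φ, d, hd, hφ, hall⟩ := key s
  have hmem : ∀ x, d • x ∈ LinearMap.range φ := fun x => by
    have : (⊤ : Submodule A N) ≤ (LinearMap.range φ).comap (LinearMap.lsmul A N d) := hs ▸ Submodule.span_le.2 hall
    exact this (Submodule.mem_top (x := x))
  refine ⟨r, (LinearEquiv.ofInjective φ hφ).symm.toLinearMap ∘ₗ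
    LinearMap.codRestrict (LinearMap.range φ) (LinearMap.lsmul A N d) hmem, ?_⟩
  intro x y hxy
  have h1 : d • x = d • y := congrArg Subtype.val ((LinearEquiv.ofInjective φ hφ).symm.injective hxy)
  refine sub_eq_zero.1 (hinj d hd _ ?_)
  rw [smul_sub, h1, sub_self]

variable [IsNoetherianRing A] {I : Ideal A}

section seq
variable {X Y Z : Type u} [AddCommGroup X] [Module A X] [AddCommGroup Y] [Module A Y] [AddCommGroup Z] [Module A Z]
  (f : X →ₗ[A] Y) (g : Y →ₗ[A] Z)

theorem finite_mid (hf : Function.Injective f) (hg : Function.Surjective g) (hfg : Function.Exact f g)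
    [Module.Finite A (LocCoh.H I 1 X)] [Module.Finite A (LocCoh.H I 1 Z)] : Module.Finite A (LocCoh.H I 1 Y) := by
  have hex := exact_map (I := I) (lseq_shortExact hf hg hfg) 1
  haveI := isNoetherian_of_range_eq_ker (cmap I 1 (ModuleCat.ofHom f)) (cmap I 1 (ModuleCat.ofHom g))
    (LinearMap.exact_iff.1 hex).symm
  exact Module.IsNoetherian.finite A _

theorem finite_left (hf : Function.Injective f) (hg : Function.Surjective g) (hfg : Function.Exact f g)
    [Module.Finite A Z] [Module.Finite A (LocCoh.H I 1 Y)] : Module.Finite A (LocCoh.H I 1 X) := by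
  have hS := lseq_shortExact hf hg hfg
  have hex := exact_dMap_map (I := I) hS 0
  haveI := finite_H0 (I := I) Z
  haveI := isNoetherian_of_range_eq_ker (dMap hS 0) (cmap I 1 (ModuleCat.ofHom f))
    (LinearMap.exact_iff.1 hex).symm
  exact Module.IsNoetherian.finite A _

end seq

theorem finite_of_injective {X Y : Type u} [AddCommGroup X] [Module A X] [AddCommGroup Y] [Module A Y]
    [Module.Finite A Y] (f : X →ₗ[A] Y) (hf : Function.Injective f)
    [Module.Finite A (LocCoh.H I 1 Y)] : Module.Finite A (LocCoh.H I 1 X) :=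
  finite_left f (LinearMap.range f).mkQ hf (Submodule.mkQ_surjective _) (LinearMap.exact_map_mkQ_range f)

theorem finite_pi (P : Type u) [AddCommGroup P] [Module A P] [Module.Finite A (LocCoh.H I 1 P)] :
    ∀ k : ℕ, Module.Finite A (LocCoh.H I 1 (Fin k → P)) := by
  intro k
  induction k with
  | zero =>
    haveI := subsingleton_of_isPowerTorsion (I := I) 0 (Fin 0 → P) fun x => ⟨0, fun _ _ => Subsingleton.elim _ _⟩
    infer_instance
  | succ k ih =>
    let f : (Fin k → P) →ₗ[A] (Fin (k + 1) → P) :=
      LinearMap.pi (Fin.cons (α := fun _ => (Fin k → P) →ₗ[A] P) 0 fun i => LinearMap.proj i)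
    refine finite_mid f (LinearMap.proj 0) (fun a b h => ?_) (fun x => ⟨fun _ => x, rfl⟩) ?_
    · funext i; simpa [f] using congrFun h i.succ
    · refine LinearMap.exact_iff.2 (le_antisymm (fun z hz => ⟨Fin.tail z, ?_⟩) ?_)
      · rintro _ ⟨z, rfl⟩; simp [f]
      · funext i; exact Fin.cases (by simpa [f] using hz.symm) (fun j => by simp [f, Fin.tail]) i

theorem finite_coprimary (p : Ideal A) [p.IsPrime] [Module.Finite A (LocCoh.H I 1 (A ⧸ p))] :
    ∀ (e : ℕ) (N : Type u) [AddCommGroup N] [Module A N] [Module.Finite A N],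
      (∀ s ∉ p, ∀ x : N, s • x = 0 → x = 0) → (∀ a ∈ p ^ e, ∀ x : N, a • x = 0) →
        Module.Finite A (LocCoh.H I 1 N) := by
  intro e
  induction e with
  | zero =>
    intro N _ _ _ _ h
    haveI : Subsingleton N := ⟨fun a b => by
      rw [← one_smul A a, ← one_smul A b, h 1 (by simp) a, h 1 (by simp) b]⟩
    haveI := subsingleton_of_isPowerTorsion (I := I) 0 N fun x => ⟨0, fun _ _ => Subsingleton.elim _ _⟩
    infer_instance
  | succ e ih =>
    intro N _ _ _ hs h
    let L : Submodule A N := Submodule.torsionBySet A N p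
    have hL : ∀ a ∈ p, ∀ x : L, a • x = 0 := fun a ha x =>
      Subtype.ext ((Submodule.mem_torsionBySet_iff _ _).1 x.2 ⟨a, ha⟩)
    obtain ⟨r, f, hf⟩ := exists_embedding p L hL fun s hsp x hx =>
      Subtype.ext (hs s hsp x.1 (congrArg Subtype.val hx))
    haveI := finite_pi (I := I) (A ⧸ p) r
    haveI : Module.Finite A (LocCoh.H I 1 L) := finite_of_injective f hf
    haveI : Module.Finite A (LocCoh.H I 1 (N ⧸ L)) := by
      refine ih _ (fun s hsp x hx => ?_) (fun a ha x => ?_) <;> obtain ⟨x, rfl⟩ := L.mkQ_surjective x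
      · rw [Submodule.mkQ_apply, ← Submodule.Quotient.mk_smul, Submodule.Quotient.mk_eq_zero,
          Submodule.mem_torsionBySet_iff] at hx
        rw [Submodule.mkQ_apply, Submodule.Quotient.mk_eq_zero, Submodule.mem_torsionBySet_iff]
        refine fun a => hs s hsp _ ?_
        rw [smul_comm]; exact hx a
      · rw [Submodule.mkQ_apply, ← Submodule.Quotient.mk_smul, Submodule.Quotient.mk_eq_zero,
          Submodule.mem_torsionBySet_iff]
        rintro ⟨b, hb⟩
        rw [Subtype.coe_mk, smul_smul]
        exact h _ (by rw [pow_succ, mul_comm b a]; exact Ideal.mul_mem_mul ha hb) x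
    exact finite_mid L.subtype L.mkQ L.injective_subtype L.mkQ_surjective (LinearMap.exact_subtype_mkQ L)

theorem finite_of_assoc : ∀ (n : ℕ) (M : Type u) [AddCommGroup M] [Module A M] [Module.Finite A M],
    (associatedPrimes A M).ncard ≤ n →
    (∀ p ∈ associatedPrimes A M, Module.Finite A (LocCoh.H I 1 (A ⧸ p))) →
      Module.Finite A (LocCoh.H I 1 M) := by
  intro n
  induction n with
  | zero =>
    intro M _ _ _ hn _
    rw [Nat.le_zero, Set.ncard_eq_zero (associatedPrimes.finite A M)] at hn
    haveI : Subsingleton M := not_nontrivial_iff_subsingleton.1 fun _ => (associatedPrimes.nonempty A M).ne_empty hn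
    haveI := subsingleton_of_isPowerTorsion (I := I) 0 M fun x => ⟨0, fun _ _ => Subsingleton.elim _ _⟩
    infer_instance
  | succ n ih =>
    intro M _ _ _ hn h
    by_cases hne : (associatedPrimes A M).Nonempty
    swap
    · refine ih M ?_ h
      simp [Set.not_nonempty_iff_eq_empty.1 hne]
    obtain ⟨p, hp, hmin⟩ := (associatedPrimes.finite A M).exists_minimal hne
    haveI : p.IsPrime := IsAssociatedPrime.isPrime hp
    let N : Submodule A M := LinearMap.ker (LocalizedModule.mkLinearMap p.primeCompl M)
    have hN : ∀ m, m ∈ N ↔ ∃ s ∉ p, s • m = 0 := fun m => by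
      rw [LinearMap.mem_ker, LocalizedModule.mkLinearMap_apply, ← LocalizedModule.zero_mk (1 : p.primeCompl),
        LocalizedModule.mk_eq]
      constructor
      · rintro ⟨⟨c, hc⟩, hc'⟩
        exact ⟨c, hc, by simpa [Submonoid.smul_def] using hc'⟩
      · rintro ⟨c, hc, hc'⟩
        exact ⟨⟨c, hc⟩, by simpa [Submonoid.smul_def] using hc'⟩
    haveI : Module.Finite A (LocCoh.H I 1 N) := by
      have hsub := associatedPrimes.subset_of_injective (R := A) N.injective_subtype
      refine ih N ?_ fun q hq => h q (hsub hq)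
      have hpN : p ∉ associatedPrimes A N := fun hpN => by
        obtain ⟨hpr, x, hx⟩ := isAssociatedPrime_iff.1 hpN
        obtain ⟨c, hc, hcx⟩ := (hN x.1).1 x.2
        refine hc ?_
        rw [hx, Submodule.mem_colon_singleton, Submodule.mem_bot]
        exact Subtype.ext hcx
      have := Set.ncard_lt_ncard (⟨hsub, fun h' => hpN (h' hp)⟩ : associatedPrimes A N ⊂ associatedPrimes A M)
        (associatedPrimes.finite A M)
      omega
    haveI := h p hp
    have hs : ∀ s ∉ p, ∀ x : M ⧸ N, s • x = 0 → x = 0 := fun s hsp x hx => by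
      obtain ⟨x, rfl⟩ := N.mkQ_surjective x
      rw [Submodule.mkQ_apply, ← Submodule.Quotient.mk_smul, Submodule.Quotient.mk_eq_zero, hN] at hx
      obtain ⟨c, hc, hcx⟩ := hx
      rw [Submodule.mkQ_apply, Submodule.Quotient.mk_eq_zero, hN]
      exact ⟨c * s, ‹p.IsPrime›.mul_notMem hc hsp, by rw [mul_smul, hcx]⟩
    have hrad : p ≤ (Module.annihilator A (M ⧸ N)).radical := by
      rw [Ideal.radical_eq_sInf]
      refine le_sInf fun P ⟨hPJ, hP⟩ => ?_
      haveI := hP
      obtain ⟨q, hq, hqP⟩ := Ideal.exists_minimalPrimes_le hPJ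
      refine le_trans (le_of_eq ?_) hqP
      have hqp : q ≤ p := by
        obtain ⟨hqpr, x, hx⟩ := isAssociatedPrime_iff.1 (Module.associatedPrimes.minimalPrimes_annihilator_subset_associatedPrimes A (M ⧸ N) hq)
        intro a ha
        by_contra hap
        rw [hx, Submodule.mem_colon_singleton, Submodule.mem_bot] at ha
        have h0 := hs a hap x ha
        refine hqpr.ne_top ((Ideal.eq_top_iff_one q).2 ?_)
        rw [hx, Submodule.mem_colon_singleton, Submodule.mem_bot, h0, smul_zero]
      haveI : q.IsPrime := hq.isPrime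
      have hMq : Module.annihilator A M ≤ q :=
        (LinearMap.annihilator_le_of_surjective _ N.mkQ_surjective).trans hq.1.2
      obtain ⟨q', hq', hq'q⟩ := Ideal.exists_minimalPrimes_le hMq
      exact le_antisymm ((hmin (Module.associatedPrimes.minimalPrimes_annihilator_subset_associatedPrimes A M hq') (hq'q.trans hqp)).trans hq'q) hqp
    obtain ⟨e, he⟩ := Ideal.exists_pow_le_of_le_radical_of_fg hrad (IsNoetherian.noetherian p)
    haveI : Module.Finite A (LocCoh.H I 1 (M ⧸ N)) :=
      finite_coprimary p e _ hs fun a ha x => Module.mem_annihilator.1 (he ha) x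
    exact finite_mid N.subtype N.mkQ N.injective_subtype N.mkQ_surjective (LinearMap.exact_subtype_mkQ N)

theorem finite_quotient_of_finite {M : Type u} [AddCommGroup M] [Module A M] [Module.Finite A M]
    [Module.Finite A (LocCoh.H I 1 M)] {p : Ideal A} (hp : p ∈ associatedPrimes A M) :
    Module.Finite A (LocCoh.H I 1 (A ⧸ p)) := by
  obtain ⟨-, f, hf⟩ := (isAssociatedPrime_iff_exists_injective_linearMap _ _).1 hp
  exact finite_of_injective f hf

end Groth.Agent.H2H1Assoc
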