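import Mathlib

set_option autoImplicit false

namespace Groth.Agent.H4Hensel

open Polynomial

variable {A : Type*} [CommRing A]

/-- A unit modulo an ideal inside the Jacobson radical is a unit. -/
theorem isUnit_of_isUnit_mk {I : Ideal A} (hI : I ≤ Ideal.jacobson ⊥) {a : A}
    (h : IsUnit (Ideal.Quotient.mk I a)) : IsUnit a := by
  have := isLocalHom_of_le_jacobson_bot I hI
  exact IsUnit.of_map (Ideal.Quotient.mk I) a h

theorem isUnit_mk_of_le {I J : Ideal A} (hIJ : I ≤ J) {a : A}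
    (h : IsUnit (Ideal.Quotient.mk I a)) : IsUnit (Ideal.Quotient.mk J a) := by
  simpa using h.map (Ideal.Quotient.factor hIJ)

/-- If a root lies near `a₀` modulo `J` in the Jacobson radical and `f'(a₀)` is a unit,
then it lies as near as `f(a₀)` is small. -/
theorem sub_mem_of_isRoot {I J : Ideal A} (hJ : J ≤ Ideal.jacobson ⊥) (f : A[X]) {a a₀ : A}
    (ha : f.IsRoot a) (haJ : a - a₀ ∈ J) (h0 : f.eval a₀ ∈ I)
    (hu : IsUnit (f.derivative.eval a₀)) : a - a₀ ∈ I := by
  obtain ⟨c, hc⟩ := f.binomExpansion a₀ (a - a₀)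
  rw [add_sub_cancel, ha.eq_zero] at hc
  have hv : IsUnit (f.derivative.eval a₀ + c * (a - a₀)) := by
    refine isUnit_of_isUnit_mk hJ ?_
    rw [map_add, map_mul, Ideal.Quotient.eq_zero_iff_mem.mpr haJ, mul_zero, add_zero]
    exact hu.map _
  have : (f.derivative.eval a₀ + c * (a - a₀)) * (a - a₀) ∈ I := by
    have e : (f.derivative.eval a₀ + c * (a - a₀)) * (a - a₀) = - f.eval a₀ := by
      linear_combination -hc
    rw [e]; exact I.neg_mem h0
  exact ((Ideal.unit_mul_mem_iff_mem I hv).mp this)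

theorem of_locally_nilpotent (I : Ideal A) (hI : ∀ x ∈ I, IsNilpotent x) : HenselianRing A I := by
  have hjac : I ≤ Ideal.jacobson ⊥ := fun x hx =>
    Ideal.radical_le_jacobson (show x ∈ (⊥ : Ideal A).radical from (hI x hx).imp fun n hn => by simpa using hn)
  refine ⟨hjac, fun f _ a₀ h₁ h₂ => ?_⟩
  have hu : IsUnit (f.derivative.eval a₀) := isUnit_of_isUnit_mk hjac h₂
  obtain ⟨r, ⟨hr1, hr2⟩, -⟩ := Polynomial.existsUnique_nilpotent_sub_and_aeval_eq_zero
    (x := a₀) (P := f) (by simpa using hI _ h₁) (by simpa using hu)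
  have hr2' : f.IsRoot r := by simpa using hr2
  refine ⟨r, hr2', sub_mem_of_isRoot (J := nilradical A) ?_ f hr2' ?_ h₁ hu⟩
  · exact Ideal.radical_le_jacobson
  · rw [mem_nilradical]; simpa using hr1.neg

/-- Gabber's special polynomials have roots congruent to one. -/
def HasGabberRoots (A : Type*) [CommRing A] (I : Ideal A) : Prop :=
  ∀ (n : ℕ), 0 < n → ∀ p : A[X], p.natDegree ≤ n → (∀ i, p.coeff i ∈ I) →
    ∃ α : A, α - 1 ∈ I ∧ (X ^ n * (X - 1) + p).IsRoot α

theorem eval_mem_of_coeff_mem {I : Ideal A} {p : A[X]} (hp : ∀ i, p.coeff i ∈ I) (a : A) :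
    p.eval a ∈ I := by
  rw [eval_eq_sum_range]
  exact I.sum_mem fun i _ => I.mul_mem_right _ (hp i)

theorem derivative_eval_mem {I : Ideal A} {p : A[X]} (hp : ∀ i, p.coeff i ∈ I) (a : A) :
    p.derivative.eval a ∈ I := by
  refine eval_mem_of_coeff_mem (fun i => ?_) a
  rw [coeff_derivative]
  exact I.mul_mem_right _ (hp _)

theorem hasGabberRoots (I : Ideal A) [HenselianRing A I] : HasGabberRoots A I := by
  intro n hn p hdeg hp
  rcases subsingleton_or_nontrivial A with hA | hA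
  · exact ⟨1, by simp, Subsingleton.elim _ _⟩
  have hm : (X ^ n * (X - 1) + p : A[X]).Monic := by
    have h0 : (X ^ n * (X - C 1) : A[X]).Monic := (monic_X_pow n).mul (monic_X_sub_C 1)
    rw [C_1] at h0
    refine h0.add_of_left ?_
    refine degree_le_natDegree.trans_lt ?_
    rw [degree_eq_natDegree h0.ne_zero]
    have : (X ^ n * (X - 1) : A[X]).natDegree = n + 1 := by
      rw [← C_1, (monic_X_pow n).natDegree_mul (monic_X_sub_C 1), natDegree_X_pow,
        natDegree_X_sub_C]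
    rw [this]
    exact_mod_cast Nat.lt_succ_of_le hdeg
  obtain ⟨a, ha, ha'⟩ := HenselianRing.is_henselian (R := A) (I := I) _ hm 1
    (by simpa using eval_mem_of_coeff_mem hp 1)
    (by simp [derivative_mul, derivative_pow, Ideal.Quotient.eq_zero_iff_mem.mpr
          (derivative_eval_mem hp 1)])
  exact ⟨a, ha', ha⟩

theorem HasGabberRoots.exists_root {I : Ideal A} (h : HasGabberRoots A I)
    (hI : I ≤ Ideal.jacobson ⊥) (f : A[X]) (a₀ : A) (h₁ : f.eval a₀ ∈ I)
    (h₂ : IsUnit (Ideal.Quotient.mk I (f.derivative.eval a₀))) :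
    ∃ a : A, f.IsRoot a ∧ a - a₀ ∈ I := by
  obtain ⟨v, hv⟩ := (isUnit_of_isUnit_mk hI h₂).exists_right_inv
  obtain ⟨c, hc0, hc1, hc⟩ : ∃ c : A[X], c.coeff 0 = f.eval a₀ ∧
      c.coeff 1 = f.derivative.eval a₀ ∧ ∀ y, c.eval y = f.eval (y + a₀) :=
    ⟨taylor a₀ f, taylor_coeff_zero a₀ f, taylor_coeff_one a₀ f, fun y => taylor_eval a₀ f y⟩
  set m := c.natDegree
  set d : ℕ → A := fun j => c.coeff (j + 2) * (-v) ^ (j + 2) * c.coeff 0 ^ (j + 1) with hd
  set p : A[X] := ∑ j ∈ Finset.range (m + 1), C (d j) * X ^ (m - j) with hp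
  have hcoeff : ∀ i, p.coeff i ∈ I := fun i => by
    rw [hp, finsetSum_coeff]
    refine I.sum_mem fun j _ => ?_
    rw [coeff_C_mul]
    refine I.mul_mem_right _ (I.mul_mem_left _ ?_)
    rw [pow_succ', hc0]
    exact I.mul_mem_right _ h₁
  have hdeg : p.natDegree ≤ m + 1 :=
    natDegree_sum_le_of_forall_le _ _ fun j _ => (natDegree_C_mul_X_pow_le _ _).trans (by omega)
  obtain ⟨α, hα1, hα⟩ := h (m + 1) m.succ_pos p hdeg hcoeff
  obtain ⟨β, hβ⟩ := (isUnit_of_isUnit_mk hI (a := α) (by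
    rw [(Ideal.Quotient.eq.mpr hα1 : Ideal.Quotient.mk I α = Ideal.Quotient.mk I 1)]
    simp)).exists_right_inv
  refine ⟨a₀ + -(c.coeff 0 * v * β), ?_, ?_⟩
  · rw [IsRoot, add_comm, ← hc]
    have hroot : α ^ (m + 1) * (α - 1) + ∑ j ∈ Finset.range (m + 1), d j * α ^ (m - j) = 0 := by
      simpa [IsRoot, hp, eval_finsetSum] using hα
    rw [eval_eq_sum_range' (n := m + 1 + 2) (by omega), Finset.sum_range_succ', Finset.sum_range_succ']
    have key : ∀ j ∈ Finset.range (m + 1),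
        c.coeff (j + 1 + 1) * (-(c.coeff 0 * v * β)) ^ (j + 1 + 1)
          = c.coeff 0 * β ^ (m + 2) * (d j * α ^ (m - j)) := by
      intro j hj
      have hj' : j ≤ m := Nat.lt_succ_iff.mp (Finset.mem_range.mp hj)
      have e : β ^ (m + 2) * α ^ (m - j) = β ^ (j + 2) := by
        rw [show m + 2 = (j + 2) + (m - j) by omega, pow_add, mul_assoc, ← mul_pow, mul_comm β α,
          hβ, one_pow, mul_one]
      calc c.coeff (j + 1 + 1) * (-(c.coeff 0 * v * β)) ^ (j + 1 + 1)
          = c.coeff 0 * d j * β ^ (j + 2) := by simp only [hd]; ring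
        _ = c.coeff 0 * β ^ (m + 2) * (d j * α ^ (m - j)) := by rw [← e]; ring
    rw [Finset.sum_congr rfl key, ← Finset.mul_sum, eq_neg_of_add_eq_zero_right hroot, hc1]
    have e1 : β ^ (m + 2) * α ^ (m + 1) = β := by
      rw [pow_succ', mul_assoc, ← mul_pow, mul_comm β α, hβ, one_pow, mul_one]
    simp only [zero_add, pow_zero, mul_one, pow_one]
    linear_combination
      (-(c.coeff 0)) * (α - 1) * e1 + (-(c.coeff 0)) * hβ + (-(c.coeff 0 * β)) * hv
  · rw [add_sub_cancel_left, hc0]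
    exact I.neg_mem (I.mul_mem_right _ (I.mul_mem_right _ h₁))

/-- Roots of arbitrary (not necessarily monic) polynomials lift along a Henselian pair. -/
theorem exists_root (I : Ideal A) [HenselianRing A I] (f : A[X]) (a₀ : A) (h₁ : f.eval a₀ ∈ I)
    (h₂ : IsUnit (Ideal.Quotient.mk I (f.derivative.eval a₀))) :
    ∃ a : A, f.IsRoot a ∧ a - a₀ ∈ I :=
  (hasGabberRoots I).exists_root HenselianRing.jac f a₀ h₁ h₂

theorem of_gabber {I : Ideal A} (hI : I ≤ Ideal.jacobson ⊥) (h : HasGabberRoots A I) :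
    HenselianRing A I :=
  ⟨hI, fun f _ => h.exists_root hI f⟩

theorem root_unique {I : Ideal A} (hI : I ≤ Ideal.jacobson ⊥) (f : A[X]) {a b : A}
    (ha : f.IsRoot a) (hb : f.IsRoot b) (hab : b - a ∈ I)
    (hu : IsUnit (f.derivative.eval a)) : b = a := by
  have := sub_mem_of_isRoot (I := ⊥) hI f hb hab (by simpa using ha.eq_zero) hu
  exact sub_eq_zero.mp (by simpa using this)

theorem coeffs_lift {B : Type*} [CommRing B] (φ : A →+* B) (hφ : Function.Surjective φ)
    {I : Ideal A} {n : ℕ} {p : B[X]} (hdeg : p.natDegree ≤ n)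
    (hp : ∀ i, p.coeff i ∈ I.map φ) :
    ∃ q : A[X], q.natDegree ≤ n ∧ (∀ i, q.coeff i ∈ I) ∧ q.map φ = p := by
  choose x hx hxe using fun i => (Ideal.mem_map_iff_of_surjective φ hφ).mp (hp i)
  refine ⟨∑ i ∈ Finset.range (n + 1), C (x i) * X ^ i, ?_, fun i => ?_, ?_⟩
  · exact natDegree_sum_le_of_forall_le _ _ fun j hj =>
      (natDegree_C_mul_X_pow_le _ _).trans (Nat.lt_succ_iff.mp (Finset.mem_range.mp hj))
  · rw [finsetSum_coeff]
    exact I.sum_mem fun j _ => by rw [coeff_C_mul]; exact I.mul_mem_right _ (hx j)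
  · simp only [Polynomial.map_sum, Polynomial.map_mul, map_C, Polynomial.map_pow, map_X, hxe]
    exact (as_sum_range_C_mul_X_pow' (p := p) (Nat.lt_succ_of_le hdeg)).symm

/-- Henselian pairs pass to quotient rings. -/
theorem of_surjective {B : Type*} [CommRing B] (φ : A →+* B) (hφ : Function.Surjective φ)
    (I : Ideal A) [HenselianRing A I] : HenselianRing B (I.map φ) := by
  refine of_gabber ?_ ?_
  · intro y hy
    obtain ⟨x, hx, rfl⟩ := (Ideal.mem_map_iff_of_surjective φ hφ).mp hy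
    rw [Ideal.mem_jacobson_bot]
    intro z
    obtain ⟨w, rfl⟩ := hφ z
    have := ((Ideal.mem_jacobson_bot.mp (HenselianRing.jac (R := A) hx) w)).map φ
    simpa using this
  · intro n hn p hdeg hp
    obtain ⟨q, hqd, hqc, rfl⟩ := coeffs_lift φ hφ hdeg hp
    obtain ⟨α, hα1, hα⟩ := hasGabberRoots I n hn q hqd hqc
    refine ⟨φ α, by simpa using Ideal.mem_map_of_mem φ hα1, ?_⟩
    have := hα.map (f := φ)
    simpa using this

theorem le_of_henselianRing {I J : Ideal A} (hIJ : I ≤ J) [HenselianRing A J] :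
    HenselianRing A I := by
  have hJ : J ≤ Ideal.jacobson ⊥ := HenselianRing.jac
  refine ⟨hIJ.trans hJ, fun f _ a₀ h₁ h₂ => ?_⟩
  have h₂' := isUnit_mk_of_le hIJ h₂
  obtain ⟨a, ha, haJ⟩ := exists_root J f a₀ (hIJ h₁) h₂'
  exact ⟨a, ha, sub_mem_of_isRoot hJ f ha haJ h₁ (isUnit_of_isUnit_mk hJ h₂')⟩

theorem of_quotient {I J : Ideal A} (hIJ : I ≤ J) [hI : HenselianRing A I]
    [hQ : HenselianRing (A ⧸ I) (J.map (Ideal.Quotient.mk I))] : HenselianRing A J := by
  have hJ : J ≤ Ideal.jacobson ⊥ := by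
    intro x hx
    rw [Ideal.mem_jacobson_bot]
    intro y
    refine isUnit_of_isUnit_mk HenselianRing.jac (I := I) ?_
    have := Ideal.mem_jacobson_bot.mp
      (HenselianRing.jac (Ideal.mem_map_of_mem (Ideal.Quotient.mk I) hx)) (Ideal.Quotient.mk I y)
    simpa using this
  refine ⟨hJ, fun f _ a₀ h₁ h₂ => ?_⟩
  have hu : IsUnit (f.derivative.eval a₀) := isUnit_of_isUnit_mk hJ h₂
  obtain ⟨b, hb, hbJ⟩ := exists_root (J.map (Ideal.Quotient.mk I)) (f.map (Ideal.Quotient.mk I))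
    (Ideal.Quotient.mk I a₀) (by rw [eval_map_apply]; exact Ideal.mem_map_of_mem _ h₁)
    (by rw [derivative_map, eval_map_apply]; exact (hu.map _).map _)
  obtain ⟨b, rfl⟩ := Ideal.Quotient.mk_surjective b
  have hbJ' : b - a₀ ∈ J := (Ideal.mem_quotient_iff_mem hIJ).mp (by simpa using hbJ)
  have hbI : f.eval b ∈ I := by
    rw [← Ideal.Quotient.eq_zero_iff_mem, ← eval_map_apply]
    exact hb.eq_zero
  have hub : IsUnit (f.derivative.eval b) := by
    refine isUnit_of_isUnit_mk hJ ?_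
    have : Ideal.Quotient.mk J b = Ideal.Quotient.mk J a₀ := Ideal.Quotient.eq.mpr hbJ'
    rw [← eval_map_apply, this, eval_map_apply]
    exact hu.map _
  obtain ⟨a, ha, haI⟩ := exists_root I f b hbI (hub.map _)
  refine ⟨a, ha, ?_⟩
  simpa using J.add_mem (hIJ haI) hbJ'

theorem map_nil_of_le_radical {I J : Ideal A} (h : J ≤ I.radical) :
    ∀ x ∈ J.map (Ideal.Quotient.mk I), IsNilpotent x := by
  intro x hx
  obtain ⟨y, hy, rfl⟩ := (Ideal.mem_map_iff_of_surjective _ Ideal.Quotient.mk_surjective).mp hx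
  obtain ⟨n, hn⟩ := h hy
  exact ⟨n, by rw [← map_pow, Ideal.Quotient.eq_zero_iff_mem]; exact hn⟩

theorem of_le_radical {I J : Ideal A} (h : J ≤ I.radical) [HenselianRing A I] :
    HenselianRing A J := by
  have hsup : I ⊔ J ≤ I.radical := sup_le Ideal.le_radical h
  have hQ : HenselianRing (A ⧸ I) ((I ⊔ J).map (Ideal.Quotient.mk I)) :=
    of_locally_nilpotent _ (map_nil_of_le_radical hsup)
  have : HenselianRing A (I ⊔ J) := of_quotient le_sup_left
  exact le_of_henselianRing (J := I ⊔ J) le_sup_right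

theorem sup {I J : Ideal A} [HenselianRing A I] [HenselianRing A J] :
    HenselianRing A (I ⊔ J) := by
  have hQ : HenselianRing (A ⧸ I) ((I ⊔ J).map (Ideal.Quotient.mk I)) := by
    rw [Ideal.map_sup, Ideal.map_quotient_self, bot_sup_eq]
    exact of_surjective _ Ideal.Quotient.mk_surjective J
  exact of_quotient le_sup_left

end Groth.Agent.H4Hensel
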