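import Mathlib
import Groth.Agent.Lib.H4Hensel

/-! Henselian pairs: lifting of sections of étale algebras, of coprime factorisations and of
idempotents in integral algebras. -/

set_option autoImplicit false

universe u v w

namespace Groth.Agent.H4HenselPair

open Polynomial

variable {A : Type u} [CommRing A] (I : Ideal A)

theorem isUnit_of_sub_mem {I : Ideal A} (hI : I ≤ Ideal.jacobson ⊥) {a : A} (h : a - 1 ∈ I) :
    IsUnit a := by
  refine H4Hensel.isUnit_of_isUnit_mk hI ?_
  rw [Ideal.Quotient.eq.mpr h, map_one]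
  exact isUnit_one

/-- A flat algebra with an idempotent spanning a cyclic summand lying over a section modulo `I`
has a section. -/
theorem section_of_idempotent (hI : I ≤ Ideal.jacobson ⊥) {C' : Type v} [CommRing C'] [Algebra A C']
    [Module.Flat A C'] (σ : C' →ₐ[A] A ⧸ I) (e : C') (he : IsIdempotentElem e) (hσe : σ e = 1)
    (hcyc : ∀ y, ∃ a : A, y * e = a • e) :
    ∃ τ : C' →ₐ[A] A, (Ideal.Quotient.mkₐ A I).comp τ = σ := by
  have hinj : ∀ a : A, a • e = 0 → a = 0 := by
    intro a ha
    obtain ⟨k, c', y, hy', hc'⟩ := Module.Flat.isTrivialRelation_of_sum_smul_eq_zero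
      (f := fun _ : Fin 1 => a) (x := fun _ => e) (by simpa using ha)
    set c : Fin k → A := fun j => c' 0 j with hcdef
    have hy : e = ∑ j, c j • y j := hy' 0
    have hc : ∀ j, a * c j = 0 := fun j => by simpa [hcdef, mul_comm] using hc' j
    choose b hb using fun j => hcyc (y j)
    have h1 : (1 - ∑ j, c j * b j) • e = 0 := by
      have : e * e = (∑ j, c j * b j) • e := by
        nth_rewrite 1 [hy]
        rw [Finset.sum_mul, Finset.sum_smul]
        exact Finset.sum_congr rfl fun j _ => by rw [smul_mul_assoc, hb, smul_smul]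
      rw [sub_smul, one_smul, ← this, he.eq, sub_self]
    have h2 : (1 - ∑ j, c j * b j) ∈ I := by
      have := congrArg σ h1
      rw [map_smul, map_zero, hσe, Algebra.smul_def, mul_one] at this
      exact Ideal.Quotient.eq_zero_iff_mem.mp this
    have h3 : IsUnit (∑ j, c j * b j) := isUnit_of_sub_mem hI (by simpa using I.neg_mem h2)
    refine h3.mul_left_eq_zero.mp ?_
    rw [Finset.mul_sum]
    exact Finset.sum_eq_zero fun j _ => by rw [← mul_assoc, hc, zero_mul]
  choose t ht using hcyc
  have uniq : ∀ {y : C'} {a : A}, y * e = a • e → t y = a := fun {y a} h => by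
    refine sub_eq_zero.mp (hinj _ ?_)
    rw [sub_smul, ← ht, h, sub_self]
  let τ : C' →ₐ[A] A := AlgHom.ofLinearMap
    { toFun := t
      map_add' := fun x y => uniq (by rw [add_mul, ht, ht, add_smul])
      map_smul' := fun a x => uniq (by rw [smul_mul_assoc, ht, smul_smul]; rfl) }
    (uniq (by rw [one_mul, one_smul]))
    (fun x y => uniq (by
      calc x * y * e = x * e * (y * e) := by rw [mul_mul_mul_comm, he.eq]
        _ = (t x * t y) • e := by rw [ht, ht, smul_mul_smul_comm, he.eq]))
  refine ⟨τ, AlgHom.ext fun x => ?_⟩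
  have := congrArg σ (ht x)
  rw [map_mul, map_smul, hσe, mul_one, Algebra.smul_def, mul_one] at this
  exact this.symm

variable [HenselianRing A I]

set_option maxHeartbeats 1000000 in
theorem exists_idempotent_of_finite {C : Type v} [CommRing C] [Algebra A C] [Module.Finite A C]
    (σ : C →ₐ[A] A ⧸ I) (w : C) (hσw : σ w = 1)
    (hw : ∀ x (a : A), σ x = Ideal.Quotient.mk I a → x * w - a • w ∈ I.map (algebraMap A C)) :
    ∃ ε : C, IsIdempotentElem ε ∧ σ ε = 1 ∧ ∀ x, ∃ a : A, x * ε = a • ε := by
  classical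
  have hI : I ≤ Ideal.jacobson ⊥ := HenselianRing.jac
  have hmem : ∀ {x : C}, x ∈ I.map (algebraMap A C) → x ∈ I • (⊤ : Submodule A C) := fun hx => by
    rw [Ideal.smul_top_eq_map]; exact hx
  obtain ⟨s, hs⟩ := (Module.Finite.fg_top : (⊤ : Submodule A C).FG)
  let g : Option ↥s → C := fun i => i.elim w fun y => (y : C) - (y : C) * w
  choose r hr using fun x => Ideal.Quotient.mk_surjective (σ x)
  have hspan : Submodule.span A (Set.range g) = ⊤ := by
    refine top_le_iff.mp (Submodule.le_of_le_smul_of_le_jacobson_bot Module.Finite.fg_top hI ?_)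
    rw [← hs, Submodule.span_le]
    intro y hy
    have h0 : w ∈ Submodule.span A (Set.range g) := Submodule.subset_span ⟨none, rfl⟩
    have h1 : g (some ⟨y, hy⟩) ∈ Submodule.span A (Set.range g) :=
      Submodule.subset_span ⟨_, rfl⟩
    have h2 := hmem (hw y (r y) (hr y).symm)
    rw [← hs] at h2
    have : y = (g (some ⟨y, hy⟩) + r y • w) + (y * w - r y • w) := by
      simp only [g, Option.elim_some]; abel
    rw [SetLike.mem_coe, this]
    exact Submodule.add_mem_sup (add_mem h1 (Submodule.smul_mem _ _ h0)) h2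
  have hww : w * w - w ∈ I.map (algebraMap A C) := by
    simpa using hw w 1 (by rw [hσw, map_one])
  let E : Matrix (Option ↥s) (Option ↥s) A := Matrix.diagonal fun i => i.elim 1 fun _ => 0
  have hrow : ∀ i, w * g i - ∑ j, E i j • g j ∈ I.map (algebraMap A C) := by
    intro i
    have hE : ∑ j, E i j • g j = (i.elim 1 fun _ => 0 : A) • g i := by
      rw [Finset.sum_eq_single i]
      · simp [E]
      · intro j _ hj; simp [E, Matrix.diagonal_apply_ne _ hj.symm]
      · simp
    rw [hE]
    cases i with
    | none => simpa [g] using hww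
    | some y =>
      have : w * g (some y) - (0 : A) • g (some y) = -((y : C) * (w * w - w)) := by
        simp only [g, Option.elim_some, zero_smul]; ring
      simp only [Option.elim_some]
      rw [this]
      exact neg_mem (Ideal.mul_mem_left _ _ hww)
  have hrow' : ∀ i, ∃ c : Option ↥s → A, (∀ j, c j ∈ I) ∧
      ∑ j, c j • g j = w * g i - ∑ j, E i j • g j := by
    intro i
    have h := hmem (hrow i)
    rw [← hspan, Submodule.mem_ideal_smul_span_iff_exists_sum] at h
    obtain ⟨a, ha, ha'⟩ := h
    refine ⟨a, ha, ?_⟩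
    rw [← ha', Finsupp.sum_fintype _ _ (fun j => zero_smul A (g j))]
  choose c hc hc' using hrow'
  let M : Matrix (Option ↥s) (Option ↥s) A := E + Matrix.of c
  have hMmk : M.map (Ideal.Quotient.mk I) = E.map (Ideal.Quotient.mk I) := by
    ext i j
    simp [M, Ideal.Quotient.eq_zero_iff_mem.mpr (hc i j)]
  let P := M.charpoly
  let n := Fintype.card ↥s
  have hP : P.map (Ideal.Quotient.mk I) = (X - 1) * X ^ n := by
    rw [← Matrix.charpoly_map, hMmk, Matrix.charpoly_map, Matrix.charpoly_diagonal]
    rw [Polynomial.map_prod, Fintype.prod_option]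
    simp [n]
  have haev : Polynomial.aeval w P = 0 := by
    have hN : (Matrix.scalar (Option ↥s) w - M.map (algebraMap A C)).mulVec g = 0 := by
      ext i
      have := hc' i
      simp only [Matrix.mulVec, dotProduct, Pi.zero_apply, Matrix.sub_apply, sub_mul,
        Finset.sum_sub_distrib]
      rw [Finset.sum_eq_single i (fun j _ hj => by simp [Matrix.diagonal_apply_ne _ hj.symm])
        (by simp)]
      simp only [M, Matrix.map_apply, Matrix.add_apply, Matrix.of_apply, map_add, add_mul,
        Finset.sum_add_distrib, ← Algebra.smul_def, this]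
      simp
    have hdet : ∀ i, Polynomial.aeval w P * g i = 0 := by
      intro i
      have h := congrArg ((Matrix.scalar (Option ↥s) w - M.map (algebraMap A C)).adjugate.mulVec) hN
      rw [Matrix.mulVec_mulVec, Matrix.adjugate_mul, Matrix.mulVec_zero, Matrix.smul_mulVec,
        Matrix.one_mulVec] at h
      rw [aeval_def, ← eval_map, ← Matrix.charpoly_map, Matrix.eval_charpoly]
      simpa using congrFun h i
    have : (LinearMap.mulLeft A (Polynomial.aeval w P)) = 0 := by
      refine LinearMap.ext_on_range hspan fun i => ?_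
      simpa using hdet i
    simpa using LinearMap.congr_fun this 1
  obtain ⟨α, hα, hα1⟩ := H4Hensel.exists_root I P 1
    (by
      rw [← Ideal.Quotient.eq_zero_iff_mem, ← eval_map_apply, hP]
      simp)
    (by
      rw [← eval_map_apply, ← derivative_map, hP]
      simp [derivative_mul, derivative_pow])
  set Q := P /ₘ (X - Polynomial.C α) with hQ
  have hPQ : (X - Polynomial.C α) * Q = P := Polynomial.mul_divByMonic_eq_iff_isRoot.mpr hα
  have hαmk : Ideal.Quotient.mk I α = 1 := by
    rw [Ideal.Quotient.eq.mpr hα1, map_one]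
  have hQmap : Q.map (Ideal.Quotient.mk I) = X ^ n := by
    have := congrArg (Polynomial.map (Ideal.Quotient.mk I)) hPQ
    rw [hP, Polynomial.map_mul, Polynomial.map_sub, map_X, map_C, hαmk] at this
    simp only [map_one] at this
    exact (Polynomial.monic_X_sub_C (1 : A ⧸ I)).isRegular.left (by simpa using this)
  have hQα : Q.eval α - 1 ∈ I := by
    rw [← Ideal.Quotient.eq, ← eval_map_apply, hQmap, hαmk]
    simp
  obtain ⟨v, hv⟩ := (isUnit_of_sub_mem hI hQα).exists_left_inv
  set ε := v • Polynomial.aeval w Q with hε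
  have hkey : (w - algebraMap A C α) * ε = 0 := by
    have := congrArg (Polynomial.aeval w) hPQ
    rw [map_mul, map_sub, aeval_X, aeval_C, haev] at this
    rw [hε, mul_smul_comm, this, smul_zero]
  have hid : IsIdempotentElem ε := by
    obtain ⟨R, hR⟩ := Polynomial.X_sub_C_dvd_sub_C_eval (p := Q) (a := α)
    have h := congrArg (fun p => Polynomial.aeval w p * ε) hR
    simp only [map_sub, map_mul, aeval_X, aeval_C] at h
    rw [mul_right_comm, hkey, zero_mul, sub_mul, sub_eq_zero] at h
    show ε * ε = ε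
    nth_rewrite 1 [hε]
    rw [smul_mul_assoc, h, ← Algebra.smul_def, smul_smul, hv, one_smul]
  have hσI : ∀ x ∈ I.map (algebraMap A C), σ x = 0 := by
    intro x hx
    have : I.map (algebraMap A C) ≤ RingHom.ker (σ : C →+* A ⧸ I) := by
      rw [Ideal.map_le_iff_le_comap]
      intro a ha
      simp [Ideal.Quotient.eq_zero_iff_mem.mpr ha]
    exact this hx
  have hεw : ε - w ∈ I.map (algebraMap A C) := by
    set L := I.map (algebraMap A C)
    have hL : ∀ {a : A}, a ∈ I → Ideal.Quotient.mk L (algebraMap A C a) = 0 := fun ha =>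
      Ideal.Quotient.eq_zero_iff_mem.mpr (Ideal.mem_map_of_mem _ ha)
    rw [← Ideal.Quotient.eq]
    have hw2 : IsIdempotentElem (Ideal.Quotient.mk L w) := by
      show _ * _ = _
      rw [← map_mul]; exact Ideal.Quotient.eq.mpr hww
    have hα' : Ideal.Quotient.mk L (algebraMap A C α) = 1 := by
      have := hL hα1; rwa [map_sub, map_sub, map_one, map_one, sub_eq_zero] at this
    have hv' : Ideal.Quotient.mk L (algebraMap A C v) = 1 := by
      have h1 : v - 1 ∈ I := by
        have : v - 1 = - (v * (Q.eval α - 1)) := by linear_combination (hv)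
        rw [this]; exact I.neg_mem (I.mul_mem_left _ hQα)
      have := hL h1; rwa [map_sub, map_sub, map_one, map_one, sub_eq_zero] at this
    have h1 : Ideal.Quotient.mk L ε = Ideal.Quotient.mk L w * Ideal.Quotient.mk L ε := by
      have := congrArg (Ideal.Quotient.mk L) hkey
      rw [map_mul, map_sub, map_zero, hα', sub_mul, one_mul, sub_eq_zero] at this
      exact this.symm
    have h2 : Ideal.Quotient.mk L ε = Ideal.Quotient.mk L w ^ n := by
      rw [hε, Algebra.smul_def, map_mul, hv', one_mul]
      let f : A ⧸ I →+* C ⧸ L := Ideal.quotientMap L (algebraMap A C) Ideal.le_comap_map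
      have := congrArg (fun p => Polynomial.eval₂ f (Ideal.Quotient.mk L w) p) hQmap
      simp only [eval₂_map, eval₂_X_pow] at this
      rw [← this, aeval_def, hom_eval₂]
      rfl
    rw [h1, h2, ← pow_succ', hw2.pow_succ_eq]
  have hσε : σ ε = 1 := by
    have := hσI _ hεw
    rwa [map_sub, hσw, sub_eq_zero] at this
  refine ⟨ε, hid, hσε, fun x => ?_⟩
  let N : Submodule A C := LinearMap.range (LinearMap.mulRight A ε)
  have hN : N ≤ Submodule.span A {ε} := by
    refine Submodule.le_of_le_smul_of_le_jacobson_bot ?_ hI ?_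
    · show (LinearMap.range (LinearMap.mulRight A ε)).FG
      rw [LinearMap.range_eq_map]
      exact Module.Finite.fg_top.map _
    · rintro _ ⟨y, rfl⟩
      simp only [LinearMap.mulRight_apply]
      have h := hw y (r y) (hr y).symm
      have h2 : y * ε - r y • ε ∈ I.map (algebraMap A C) := by
        have : y * ε - r y • ε = (y * w - r y • w) + (y - algebraMap A C (r y)) * (ε - w) := by
          simp only [Algebra.smul_def]; ring
        rw [this]
        exact add_mem h (Ideal.mul_mem_left _ _ hεw)
      have h3 : y * ε - r y • ε ∈ I • N := by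
        have h4 := Submodule.mem_map_of_mem (f := LinearMap.mulRight A ε) (hmem h2)
        rw [Submodule.map_smul'', Submodule.map_top] at h4
        convert h4 using 1
        show y * ε - r y • ε = (y * ε - r y • ε) * ε
        rw [sub_mul, smul_mul_assoc, mul_assoc, hid.eq]
      have : y * ε = r y • ε + (y * ε - r y • ε) := by abel
      rw [this]
      exact Submodule.add_mem_sup (Submodule.smul_mem _ _ (Submodule.mem_span_singleton_self ε)) h3
  obtain ⟨a, ha⟩ := Submodule.mem_span_singleton.mp (hN ⟨x, rfl⟩)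
  exact ⟨a, ha.symm⟩

set_option maxHeartbeats 1000000 in
/-- Sections modulo `I` lift for flat formally unramified algebras which are locally, along the
section, localisations of a finite algebra. -/
theorem exists_lift_of_finite_cover {C : Type v} [CommRing C] [Algebra A C] [Module.Finite A C]
    {C' : Type w} [CommRing C'] [Algebra A C'] [Module.Flat A C'] [Algebra.FormallyUnramified A C']
    (ψ : C →ₐ[A] C') (σ : C' →ₐ[A] A ⧸ I) (s : Set C)
    (hspan : Ideal.span ((fun g => σ (ψ g)) '' s) = ⊤)
    (hsurj : ∀ g ∈ s, ∀ y : C', ∃ (k : ℕ) (x : C), ψ g ^ k * y = ψ x)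
    (hθ : ∀ g ∈ s, ∃ θ : C' →ₐ[A] Localization.Away g,
      ∀ x, θ (ψ x) = algebraMap C (Localization.Away g) x) :
    ∃ τ : C' →ₐ[A] A, (Ideal.Quotient.mkₐ A I).comp τ = σ := by
  classical
  have hI : I ≤ Ideal.jacobson ⊥ := HenselianRing.jac
  let σC : C →ₐ[A] A ⧸ I := σ.comp ψ
  let L := I.map (algebraMap A C)
  let J := RingHom.ker (σC : C →+* A ⧸ I)
  have hLJ : L ≤ J := by
    rw [Ideal.map_le_iff_le_comap]
    intro a ha
    simp [J, Ideal.Quotient.eq_zero_iff_mem.mpr ha]
  choose r hr using fun x => Ideal.Quotient.mk_surjective (σC x)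
  obtain ⟨S, hS⟩ := (Module.Finite.fg_top : (⊤ : Submodule A C).FG)
  let D : Set C := (fun y => y - algebraMap A C (r y)) '' ↑S
  have hDfin : D.Finite := S.finite_toSet.image _
  have hD : J = Ideal.span D ⊔ L := by
    refine le_antisymm ?_ (sup_le ?_ hLJ)
    · intro x hx
      have key : ∀ z : C, ∃ a : A, σC z = Ideal.Quotient.mk I a ∧
          z - algebraMap A C a ∈ Ideal.span D ⊔ L := by
        intro z
        have hz : z ∈ Submodule.span A (S : Set C) := by rw [hS]; trivial
        induction hz using Submodule.span_induction with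
        | mem y hy =>
          exact ⟨r y, (hr y).symm, Ideal.mem_sup_left (Ideal.subset_span ⟨y, hy, rfl⟩)⟩
        | zero =>
          refine ⟨0, by rw [map_zero, map_zero], ?_⟩
          rw [map_zero, sub_zero]
          exact zero_mem _
        | add y z _ _ hy hz =>
          obtain ⟨a, ha, ha'⟩ := hy
          obtain ⟨b, hb, hb'⟩ := hz
          refine ⟨a + b, by rw [map_add, map_add, ha, hb], ?_⟩
          have h := add_mem ha' hb'
          rwa [sub_add_sub_comm, ← map_add] at h
        | smul c y _ hy =>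
          obtain ⟨a, ha, ha'⟩ := hy
          refine ⟨c * a, ?_, ?_⟩
          · rw [map_smul, ha, map_mul, Algebra.smul_def, Ideal.Quotient.algebraMap_eq]
          · have h := Ideal.mul_mem_left _ (algebraMap A C c) ha'
            rwa [mul_sub, ← Algebra.smul_def, ← map_mul] at h
      obtain ⟨a, ha, ha'⟩ := key x
      have ha0 : a ∈ I := by
        rw [← Ideal.Quotient.eq_zero_iff_mem, ← ha]; exact hx
      have hmem : algebraMap A C a ∈ Ideal.span D ⊔ L :=
        Ideal.mem_sup_right (Ideal.mem_map_of_mem (algebraMap A C) ha0)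
      have := add_mem ha' hmem
      rwa [sub_add_cancel] at this
    · rw [Ideal.span_le]
      rintro _ ⟨y, -, rfl⟩
      show y - algebraMap A C (r y) ∈ J
      rw [RingHom.mem_ker, AlgHom.coe_toRingHom, map_sub, AlgHom.commutes, ← hr y]
      exact sub_self _
  have hJ2 : J ≤ J * J ⊔ L := by
    intro x hx
    set R := C ⧸ (J * J ⊔ L)
    let π : C →ₐ[A] R := Ideal.Quotient.mkₐ A (J * J ⊔ L)
    have hI0 : ∀ a ∈ I, algebraMap A R a = 0 := fun a ha => by
      show Ideal.Quotient.mk (J * J ⊔ L) (algebraMap A C a) = 0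
      rw [Ideal.Quotient.eq_zero_iff_mem]
      exact Ideal.mem_sup_right (Ideal.mem_map_of_mem _ ha)
    let ι : A ⧸ I →ₐ[A] R := Ideal.Quotient.liftₐ I (Algebra.ofId A R) hI0
    have hlocal : ∀ g ∈ s, ∃ k, g ^ k * x ∈ J * J ⊔ L := by
      intro g hg
      obtain ⟨θ, hθ'⟩ := hθ g hg
      let Rg := Localization.Away (π g)
      let loc : R →ₐ[A] Rg := IsScalarTower.toAlgHom A R Rg
      let ext' : Localization.Away g →ₐ[A] Rg :=
        IsLocalization.Away.liftAlgHom (f := loc.comp π) g
          (IsLocalization.Away.algebraMap_isUnit (π g))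
      let g₁ : C' →ₐ[A] Rg := ext'.comp θ
      let g₂ : C' →ₐ[A] Rg := (loc.comp ι).comp σ
      have hg₁ : ∀ z, g₁ (ψ z) = loc (π z) := fun z => by
        simp [g₁, ext', hθ', IsLocalization.Away.liftAlgHom]
      have hg₂ : ∀ z, g₂ (ψ z) = loc (π (algebraMap A C (r z))) := fun z => by
        simp only [g₂, AlgHom.comp_apply]
        rw [show σ (ψ z) = σC z from rfl, ← hr z]
        simp [ι]
        try rfl
      let N : Ideal Rg := J.map ((loc.comp π : C →ₐ[A] Rg) : C →+* Rg)
      have hN : IsNilpotent N := by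
        refine ⟨2, ?_⟩
        rw [pow_two, ← Ideal.map_mul, Ideal.zero_eq_bot, Ideal.map_eq_bot_iff_le_ker]
        intro z hz
        show loc (Ideal.Quotient.mk (J * J ⊔ L) z) = 0
        rw [Ideal.Quotient.eq_zero_iff_mem.mpr (Ideal.mem_sup_left hz), map_zero]
      have hdiff : ∀ z, g₁ (ψ z) - g₂ (ψ z) ∈ N := fun z => by
        rw [hg₁, hg₂, ← map_sub, ← map_sub]
        exact Ideal.mem_map_of_mem ((loc.comp π : C →ₐ[A] Rg) : C →+* Rg)
          (show z - algebraMap A C (r z) ∈ J by simp [J, ← hr z])
      have heq : g₁ = g₂ := by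
        refine Algebra.FormallyUnramified.ext N hN fun y => ?_
        obtain ⟨k, z, hz⟩ := hsurj g hg y
        have e1 := Ideal.Quotient.eq.mpr (hdiff z)
        rw [← hz, map_mul, map_mul, map_mul, map_mul, map_pow, map_pow, map_pow, map_pow,
          ← Ideal.Quotient.eq.mpr (hdiff g)] at e1
        refine IsUnit.mul_left_cancel (IsUnit.pow k (IsUnit.map _ ?_)) e1
        rw [hg₁]
        exact IsLocalization.Away.algebraMap_isUnit (π g)
      have h0 : loc (π x) = 0 := by
        rw [← hg₁, heq]
        simp only [g₂, AlgHom.comp_apply]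
        rw [show σ (ψ x) = 0 from hx, map_zero, map_zero]
      obtain ⟨⟨_, k, rfl⟩, hk⟩ := (IsLocalization.map_eq_zero_iff (Submonoid.powers (π g)) Rg _).mp h0
      refine ⟨k, ?_⟩
      rw [← Ideal.Quotient.eq_zero_iff_mem]
      rw [map_mul, map_pow]
      exact hk
    let T : Ideal C := (J * J ⊔ L).colon {x}
    have hJT : J ≤ T := fun z hz => by
      rw [Submodule.mem_colon_singleton, smul_eq_mul]
      exact Ideal.mem_sup_left (Ideal.mul_mem_mul hz hx)
    have hT : T = ⊤ := by
      by_contra hT
      obtain ⟨M, hM, hTM⟩ := Ideal.exists_le_maximal _ hT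
      have hsM : ∀ g ∈ s, g ∈ M := fun g hg => by
        obtain ⟨k, hk⟩ := hlocal g hg
        exact hM.isPrime.mem_of_pow_mem k (hTM (Submodule.mem_colon_singleton.mpr hk))
      have hsurjσ : Function.Surjective σC := fun z => by
        obtain ⟨a, rfl⟩ := Ideal.Quotient.mk_surjective z
        exact ⟨algebraMap A C a, by simp⟩
      have : (M.map (σC : C →+* A ⧸ I)) = ⊤ := by
        rw [eq_top_iff, ← hspan, Ideal.span_le]
        rintro _ ⟨g, hg, rfl⟩
        exact Ideal.mem_map_of_mem (σC : C →+* A ⧸ I) (hsM g hg)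
      have h2 := congrArg (Ideal.comap (σC : C →+* A ⧸ I)) this
      rw [Ideal.comap_map_of_surjective (σC : C →+* A ⧸ I) hsurjσ, Ideal.comap_top] at h2
      refine hM.ne_top (eq_top_iff.mpr (h2.ge.trans (sup_le le_rfl ?_)))
      exact fun z hz => hTM (hJT (Ideal.mem_comap.mp hz |> fun h => (show z ∈ J from h)))
    have h1 : (1 : C) ∈ T := by rw [hT]; trivial
    simpa [T, Submodule.mem_colon_singleton] using h1
  have hidem : IsIdempotentElem (J.map (Ideal.Quotient.mk L)) := by
    show _ * _ = _
    refine le_antisymm Ideal.mul_le_right ?_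
    calc J.map (Ideal.Quotient.mk L) ≤ (J * J ⊔ L).map (Ideal.Quotient.mk L) := Ideal.map_mono hJ2
      _ = _ := by rw [Ideal.map_sup, Ideal.map_quotient_self, sup_bot_eq, Ideal.map_mul]
  have hfg : (J.map (Ideal.Quotient.mk L)).FG := by
    rw [hD, Ideal.map_sup, Ideal.map_quotient_self, sup_bot_eq, Ideal.map_span]
    exact Submodule.fg_span (hDfin.image _)
  obtain ⟨f, hf, hf'⟩ := ((Ideal.isIdempotentElem_iff_of_fg _ hfg).mp hidem)
  obtain ⟨f, rfl⟩ := Ideal.Quotient.mk_surjective f
  have hfJ : f ∈ J := by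
    have : Ideal.Quotient.mk L f ∈ J.map (Ideal.Quotient.mk L) := by
      rw [hf']; exact Ideal.mem_span_singleton_self _
    exact (Ideal.mem_quotient_iff_mem hLJ).mp this
  obtain ⟨ε, hε, hσε, hcyc⟩ := exists_idempotent_of_finite I σC (1 - f)
    (by rw [map_sub, map_one, show σC f = 0 from hfJ, sub_zero]) (by
    intro x a hxa
    rw [← Ideal.Quotient.eq_zero_iff_mem]
    have hd : x - algebraMap A C a ∈ J := by simp [J, hxa]
    have hd' := Ideal.mem_map_of_mem (Ideal.Quotient.mk L) hd
    rw [hf'] at hd'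
    obtain ⟨c, hc⟩ := Ideal.mem_span_singleton'.mp hd'
    rw [Algebra.smul_def, ← sub_mul, map_mul, ← hc, map_sub, map_one, mul_assoc, mul_sub, mul_one,
      hf.eq, sub_self, mul_zero])
  refine section_of_idempotent I hI σ (ψ ε) (hε.map ψ) hσε fun y => ?_
  let T : Ideal A := (Submodule.span A {ψ ε}).colon {y * ψ ε}
  have hIT : I ⊔ T = ⊤ := by
    by_contra hne
    obtain ⟨M, hM, hle⟩ := Ideal.exists_le_maximal _ hne
    have hsM : (fun g => σ (ψ g)) '' s ⊆ (M.map (Ideal.Quotient.mk I) : Set (A ⧸ I)) := by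
      rintro _ ⟨g, hg, rfl⟩
      obtain ⟨k, z, hz⟩ := hsurj g hg y
      obtain ⟨γ, hγ⟩ := hcyc g
      obtain ⟨b, hb⟩ := hcyc z
      have hgm : σ (ψ g) = Ideal.Quotient.mk I γ := by
        have := congrArg (fun z => σ (ψ z)) hγ
        simp only [map_mul, map_smul, show σ (ψ ε) = 1 from hσε, mul_one] at this
        rw [this, Algebra.smul_def, mul_one]; rfl
      have hγT : γ ^ k ∈ T := by
        rw [Submodule.mem_colon_singleton]
        have e1 : ∀ j : ℕ, γ ^ j • ψ ε = ψ g ^ j * ψ ε := by
          intro j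
          induction j with
          | zero => simp
          | succ j ih =>
            rw [pow_succ γ, mul_smul, ← map_smul, ← hγ, map_mul, ← mul_smul_comm, ih, pow_succ]
            ring
        have e2 : γ ^ k • (y * ψ ε) = b • ψ ε := by
          rw [← mul_smul_comm, e1, ← mul_assoc, mul_comm y, hz, ← map_mul, hb, map_smul]
        rw [e2]
        exact Submodule.smul_mem _ _ (Submodule.mem_span_singleton_self _)
      show σ (ψ g) ∈ M.map (Ideal.Quotient.mk I)
      rw [hgm]
      exact Ideal.mem_map_of_mem _ (hM.isPrime.mem_of_pow_mem k (hle (Ideal.mem_sup_right hγT)))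
    rw [← Ideal.span_le, hspan, top_le_iff] at hsM
    have h2 := congrArg (Ideal.comap (Ideal.Quotient.mk I)) hsM
    rw [Ideal.comap_map_of_surjective _ Ideal.Quotient.mk_surjective, Ideal.comap_top] at h2
    refine hM.ne_top (eq_top_iff.mpr (h2.ge.trans (sup_le le_rfl ?_)))
    exact fun z hz => hle (Ideal.mem_sup_left (Ideal.Quotient.eq_zero_iff_mem.mp hz))
  have hT : T = ⊤ := by
    obtain ⟨i, hi, t, ht, hit⟩ := Submodule.mem_sup.mp (hIT.ge (Submodule.mem_top (x := (1 : A))))
    refine Ideal.eq_top_of_isUnit_mem _ ht (isUnit_of_sub_mem hI ?_)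
    rw [← hit]; simpa using I.neg_mem hi
  have h1 : (1 : A) ∈ T := by rw [hT]; trivial
  rw [Submodule.mem_colon_singleton, one_smul, Submodule.mem_span_singleton] at h1
  exact h1.imp fun a ha => ha.symm

/-- Sections modulo `I` lift along the universal coprime factorisation: coprime factorisations of a
monic polynomial lift uniquely along a Henselian pair (existence part). -/
theorem exists_factorization (F : A[X]) (hF : F.Monic) (G₀ H₀ : (A ⧸ I)[X]) (hG : G₀.Monic)
    (hH : H₀.Monic) (hco : IsCoprime G₀ H₀) (hmul : F.map (Ideal.Quotient.mk I) = G₀ * H₀)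
    (hdeg : F.natDegree = G₀.natDegree + H₀.natDegree) :
    ∃ G H : A[X], G.Monic ∧ H.Monic ∧ IsCoprime G H ∧ G * H = F ∧
      G.map (Ideal.Quotient.mk I) = G₀ ∧ H.map (Ideal.Quotient.mk I) = H₀ := by
  let p : MonicDegreeEq A F.natDegree := .mk F hF rfl
  set m := G₀.natDegree
  set k := H₀.natDegree
  let q : { q : MonicDegreeEq (A ⧸ I) m × MonicDegreeEq (A ⧸ I) k //
      q.1.1 * q.2.1 = p.1.map (algebraMap A (A ⧸ I)) ∧ IsCoprime q.1.1 q.2.1 } :=
    ⟨(.mk G₀ hG rfl, .mk H₀ hH rfl), hmul.symm, hco⟩
  let σ := (UniversalCoprimeFactorizationRing.homEquiv (A ⧸ I) m k hdeg p).symm q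
  let Δ := (UniversalFactorizationRing.presentation m k hdeg p).jacobian
  obtain ⟨τ, hτ⟩ := exists_lift_of_finite_cover I (C := UniversalFactorizationRing m k hdeg p)
    (IsScalarTower.toAlgHom A _ (UniversalCoprimeFactorizationRing m k hdeg p)) σ {Δ}
    (by
      rw [Set.image_singleton, Ideal.span_singleton_eq_top]
      exact (IsLocalization.Away.algebraMap_isUnit Δ).map σ)
    (by
      rintro g rfl y
      obtain ⟨⟨x, ⟨_, j, rfl⟩⟩, hx⟩ := IsLocalization.surj (Submonoid.powers Δ) y
      refine ⟨j, x, ?_⟩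
      rw [mul_comm, IsScalarTower.coe_toAlgHom', ← map_pow]
      exact hx)
    (by rintro g rfl; exact ⟨AlgHom.id A _, fun x => rfl⟩)
  obtain ⟨⟨⟨G, H⟩, h1, h2⟩, hGH⟩ : ∃ z, UniversalCoprimeFactorizationRing.homEquiv A m k hdeg p τ = z :=
    ⟨_, rfl⟩
  refine ⟨G.1, H.1, G.monic, H.monic, h2, ?_, ?_, ?_⟩
  · simpa [p] using h1
  · have := UniversalCoprimeFactorizationRing.homEquiv_comp_fst (A) m k hdeg p τ
      (Ideal.Quotient.mkₐ A I)
    rw [hτ, hGH, Equiv.apply_symm_apply] at this
    exact (congrArg Subtype.val this).symm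
  · have := UniversalCoprimeFactorizationRing.homEquiv_comp_snd (A) m k hdeg p τ
      (Ideal.Quotient.mkₐ A I)
    rw [hτ, hGH, Equiv.apply_symm_apply] at this
    exact (congrArg Subtype.val this).symm

/-- Idempotents lift along a Henselian pair for every integral algebra. -/
theorem exists_idempotent_lift {B : Type v} [CommRing B] [Algebra A B] [Algebra.IsIntegral A B]
    (b : B) (hb : b * b - b ∈ I.map (algebraMap A B)) :
    ∃ e : B, IsIdempotentElem e ∧ e - b ∈ I.map (algebraMap A B) := by
  classical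
  rcases subsingleton_or_nontrivial (A ⧸ I) with hAI | hAI
  · refine ⟨0, IsIdempotentElem.zero, ?_⟩
    have h1 : (1 : A) ∈ I := Ideal.Quotient.eq_zero_iff_mem.mp (Subsingleton.elim _ _)
    have : I.map (algebraMap A B) = ⊤ :=
      Ideal.eq_top_of_isUnit_mem _ (Ideal.mem_map_of_mem _ h1) (by simp)
    rw [this]; trivial
  obtain ⟨c, hc⟩ := Submodule.mem_span_set.mp (show b * b - b ∈ Submodule.span B (algebraMap A B '' I) from hb)
  have hS : (Algebra.adjoin A (insert b (c.support.image c : Finset B) : Set B)).toSubmodule.FG :=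
    fg_adjoin_of_finite ((Finset.finite_toSet _).insert _) fun z _ => Algebra.IsIntegral.isIntegral z
  set S := Algebra.adjoin A (insert b (c.support.image c : Finset B) : Set B) with hSdef
  have hSfin : Module.Finite A S := ⟨(Submodule.fg_top _).mpr hS⟩
  have hcS : ∀ z ∈ c.support, c z ∈ S := fun z hz =>
    Algebra.subset_adjoin (Set.mem_insert_of_mem _ (by simpa using ⟨z, Finsupp.mem_support_iff.mp hz, rfl⟩))
  let b' : S := ⟨b, Algebra.subset_adjoin (Set.mem_insert _ _)⟩
  have hb' : b' * b' - b' ∈ I • (⊤ : Submodule A S) := by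
    choose a ha ha' using fun z : c.support => hc.1 z.2
    have : b' * b' - b' = ∑ z : c.support, a z • (⟨c z, hcS _ z.2⟩ : S) := by
      apply Subtype.ext
      push_cast
      rw [← hc.2, Finsupp.sum, ← Finset.sum_coe_sort]
      refine Finset.sum_congr rfl fun z _ => ?_
      simp only [smul_eq_mul]
      rw [Algebra.smul_def (a z), ha', mul_comm]
    rw [this]
    exact Submodule.sum_mem _ fun z _ => Submodule.smul_mem_smul (ha z) trivial
  obtain ⟨p, hp, -, hpI, hp0⟩ := LinearMap.exists_monic_and_natDegree_eq_and_coeff_mem_pow_and_aeval_eq_zero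
    A (LinearMap.mulLeft A (b' * b' - b')) I (by
      rintro _ ⟨z, rfl⟩
      rw [Ideal.smul_top_eq_map, Submodule.restrictScalars_mem, LinearMap.mulLeft_apply]
      refine Ideal.mul_mem_right _ _ ?_
      rwa [Ideal.smul_top_eq_map, Submodule.restrictScalars_mem] at hb')
  have hp1 : Polynomial.aeval (b' * b' - b') p = 0 := by
    rw [show LinearMap.mulLeft A (b' * b' - b') = Algebra.lmul A S (b' * b' - b') from rfl,
      Polynomial.aeval_algHom_apply] at hp0
    have := LinearMap.congr_fun hp0 1
    simpa using this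
  set N := p.natDegree + 1 with hNdef
  let F : A[X] := (X ^ 2 - X) * p.comp (X ^ 2 - X)
  have hbot : (p.map (Ideal.Quotient.mk I)) = X ^ p.natDegree := by
    ext j
    rw [coeff_map, coeff_X_pow]
    split_ifs with h
    · subst h; rw [hp.coeff_natDegree, map_one]
    · rw [Ideal.Quotient.eq_zero_iff_mem]
      rcases lt_or_gt_of_ne h with h | h
      · have := Ideal.pow_le_self (I := I) (n := p.natDegree - j) (by omega) (hpI j)
        exact this
      · rw [coeff_eq_zero_of_natDegree_lt h]; exact I.zero_mem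
  have : Nontrivial A := (Ideal.Quotient.mk I).domain_nontrivial
  have hdegq : ∀ {R : Type u} [CommRing R] [Nontrivial R], (X ^ 2 - X : R[X]).Monic ∧
      (X ^ 2 - X : R[X]).natDegree = 2 := by
    intro R _ _
    refine ⟨monic_X_pow_sub (degree_X_le.trans_lt (by norm_num)), ?_⟩
    rw [natDegree_sub_eq_left_of_natDegree_lt (by simp), natDegree_X_pow]
  have hFm : F.Monic := hdegq.1.mul (hp.comp hdegq.1 (by rw [hdegq.2]; norm_num))
  have hG : (X ^ N : (A ⧸ I)[X]).Monic := monic_X_pow _
  have hH : ((X - Polynomial.C (1 : A ⧸ I)) ^ N).Monic := (monic_X_sub_C _).pow _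
  have hFmap : F.map (Ideal.Quotient.mk I) = X ^ N * (X - Polynomial.C 1) ^ N := by
    simp only [F, Polynomial.map_mul, Polynomial.map_comp, Polynomial.map_sub, Polynomial.map_pow,
      map_X, hbot, X_pow_comp, N, C_1, ← mul_pow]
    ring
  obtain ⟨G, H, -, -, ⟨u, v, huv⟩, hGH, hG1, hH1⟩ := exists_factorization I F hFm _ _ hG hH
    (IsCoprime.pow (by exact ⟨1, -1, by simp⟩)) hFmap
    (by
      rw [← hFm.natDegree_map (Ideal.Quotient.mk I), hFmap, hG.natDegree_mul hH])
  let ev := Polynomial.aeval (R := A) b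
  have hzero : ev G * ev H = 0 := by
    rw [← map_mul, hGH]
    simp only [F, ev, map_mul, aeval_comp, map_sub, map_pow, aeval_X]
    have := congrArg S.val hp1
    rw [← Polynomial.aeval_algHom_apply, map_zero] at this
    rw [show b ^ 2 - b = S.val (b' * b' - b') by simp [b', pow_two], this, mul_zero]
  have huv' : ev u * ev G + ev v * ev H = 1 := by rw [← map_mul, ← map_mul, ← map_add, huv, map_one]
  refine ⟨ev u * ev G, ?_, ?_⟩
  · show _ * _ = _
    linear_combination (ev u * ev G) * huv' - ev u * ev v * hzero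
  · set L := I.map (algebraMap A B)
    let f : A ⧸ I →+* B ⧸ L := Ideal.quotientMap L (algebraMap A B) Ideal.le_comap_map
    have hmk : ∀ P : A[X], Ideal.Quotient.mk L (ev P) =
        (P.map (Ideal.Quotient.mk I)).eval₂ f (Ideal.Quotient.mk L b) := fun P => by
      simp only [ev, aeval_def, hom_eval₂, eval₂_map]
      rfl
    have hbi : IsIdempotentElem (Ideal.Quotient.mk L b) := by
      show _ * _ = _
      rw [← map_mul]; exact Ideal.Quotient.eq.mpr hb
    set β := Ideal.Quotient.mk L b
    have hβN : β ^ N = β := hbi.pow_succ_eq _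
    have e := congrArg (Ideal.Quotient.mk L) huv'
    rw [map_add, map_mul, map_mul, hmk G, hmk H, hG1, hH1, map_one] at e
    simp only [eval₂_pow, eval₂_sub, eval₂_X, eval₂_one, hβN] at e
    rw [map_one (Ideal.Quotient.mk L)] at e
    rw [← Ideal.Quotient.eq, map_mul, hmk G, hG1]
    simp only [eval₂_pow, eval₂_X, hβN]
    have hk : β * (β - 1) ^ N = 0 := by
      rw [hNdef, pow_succ', ← mul_assoc, mul_sub, mul_one, hbi.eq, sub_self, zero_mul]
    linear_combination β * e - (Ideal.Quotient.mk L (ev v)) * hk -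
      (Ideal.Quotient.mk L (ev u)) * hbi.eq

omit [HenselianRing A I] in
theorem map_le_jacobson_of_isIntegral (hI : I ≤ Ideal.jacobson ⊥) (B : Type v) [CommRing B]
    [Algebra A B] [Algebra.IsIntegral A B] :
    I.map (algebraMap A B) ≤ Ideal.jacobson ⊥ := by
  rw [Ideal.map_le_iff_le_comap]
  intro x hx
  rw [Ideal.mem_comap, Ideal.jacobson, Submodule.mem_sInf]
  rintro m ⟨-, hm⟩
  have : (Ideal.comap (algebraMap A B) m).IsMaximal :=
    Ideal.isMaximal_comap_of_isIntegral_of_isMaximal m
  exact (Ideal.mem_sInf.mp (hI hx)) ⟨bot_le, this⟩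

/-- Idempotents biject along a Henselian pair in every integral algebra. -/
theorem idempotents_bijOn (B : Type v) [CommRing B] [Algebra A B] [Algebra.IsIntegral A B] :
    Set.BijOn (Ideal.Quotient.mk (I.map (algebraMap A B))) {e : B | IsIdempotentElem e}
      {e | IsIdempotentElem e} := by
  refine ⟨fun e he => IsIdempotentElem.map he _, ?_, ?_⟩
  · intro e he e' he' hee
    have hd := Ideal.mem_jacobson_bot.mp
      (map_le_jacobson_of_isIntegral I HenselianRing.jac B (Ideal.Quotient.eq.mp hee)) (-(e - e'))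
    have h3 : ((e - e') * (-(e - e')) + 1) * (e - e') = 0 := by
      have a := IsIdempotentElem.eq he
      have b := IsIdempotentElem.eq he'
      linear_combination (-(e + 1) + 3 * e') * a + (e' + 1 - 3 * e) * b
    exact sub_eq_zero.mp (hd.mul_right_eq_zero.mp h3)
  · intro z hz
    obtain ⟨b, rfl⟩ := Ideal.Quotient.mk_surjective z
    have hz' : IsIdempotentElem (Ideal.Quotient.mk (I.map (algebraMap A B)) b) := hz
    obtain ⟨e, he, he'⟩ := exists_idempotent_lift I b
      (Ideal.Quotient.eq.mp (by rw [map_mul]; exact hz'.eq))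
    exact ⟨e, he, Ideal.Quotient.eq.mpr he'⟩

end Groth.Agent.H4HenselPair
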