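import Mathlib
import Groth.Agent.Lib.H4HenselPair

/-! Consequences of idempotent lifting along Henselian pairs. -/

set_option autoImplicit false

universe u v

namespace Groth.Agent.H4HenselPair

open Polynomial

theorem of_idempotents_monogenic {A : Type u} [CommRing A] (I : Ideal A)
    (hI : I ≤ Ideal.jacobson ⊥)
    (h : ∀ P : A[X], P.Monic →
      Set.BijOn (Ideal.Quotient.mk (Ideal.map (algebraMap A (AdjoinRoot P)) I))
        {e : AdjoinRoot P | IsIdempotentElem e} {e | IsIdempotentElem e}) :
    HenselianRing A I := by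
  refine H4Hensel.of_gabber hI fun n hn p hd hp => ?_
  rcases subsingleton_or_nontrivial A with hA | hA
  · exact ⟨1, by simp, Subsingleton.elim _ _⟩
  set P := X ^ n * (X - 1) + p with hP
  have hPm : P.Monic := by
    have h0 : (X ^ n * (X - Polynomial.C 1) : A[X]).Monic := (monic_X_pow n).mul (monic_X_sub_C 1)
    rw [C_1] at h0
    refine h0.add_of_left (degree_le_natDegree.trans_lt ?_)
    rw [degree_eq_natDegree h0.ne_zero]
    have : (X ^ n * (X - 1) : A[X]).natDegree = n + 1 := by
      rw [← C_1, (monic_X_pow n).natDegree_mul (monic_X_sub_C 1), natDegree_X_pow,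
        natDegree_X_sub_C]
    rw [this]
    exact_mod_cast Nat.lt_succ_of_le hd
  have := hPm.finite_adjoinRoot
  have := hPm.free_adjoinRoot
  let B := AdjoinRoot P
  let σ : B →ₐ[A] A ⧸ I := AdjoinRoot.liftAlgHom P (Algebra.ofId A _) 1 (by
    have : (Algebra.ofId A (A ⧸ I) : A →+* A ⧸ I) = Ideal.Quotient.mk I := rfl
    rw [this, ← map_one (Ideal.Quotient.mk I), eval₂_at_apply,
      Ideal.Quotient.eq_zero_iff_mem, hP]
    simpa using H4Hensel.eval_mem_of_coeff_mem hp 1)
  let T := AdjoinRoot.root P
  let L := I.map (algebraMap A B)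
  let f : A ⧸ I →+* B ⧸ L := Ideal.quotientMap L (algebraMap A B) Ideal.le_comap_map
  have hσT : σ T = 1 := AdjoinRoot.liftAlgHom_root _ _ _ _
  have hTn : Ideal.Quotient.mk L (T ^ (n + 1)) = Ideal.Quotient.mk L (T ^ n) := by
    have h0 : Polynomial.aeval T P = 0 := AdjoinRoot.aeval_eq P ▸ AdjoinRoot.mk_self
    have h0' : Polynomial.aeval T (X ^ n * (X - 1) : A[X]) + Polynomial.aeval T p = 0 := by
      rw [← map_add]; exact h0
    have := congrArg (Ideal.Quotient.mk L) h0'
    rw [map_add, map_zero] at this
    have hp0 : Ideal.Quotient.mk L (Polynomial.aeval T p) = 0 := by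
      have : p.map (Ideal.Quotient.mk I) = 0 := by
        ext i; simp [Ideal.Quotient.eq_zero_iff_mem.mpr (hp i)]
      have h2 := congrArg (fun q => Polynomial.eval₂ f (Ideal.Quotient.mk L T) q) this
      simp only [eval₂_zero, eval₂_map] at h2
      rw [aeval_def, hom_eval₂]; exact h2
    rw [hp0, add_zero] at this
    rw [← sub_eq_zero, ← map_sub, ← this]
    congr 1
    simp [pow_succ, mul_sub]
  have hst : ∀ j, Ideal.Quotient.mk L (T ^ j * T ^ n) = Ideal.Quotient.mk L (T ^ n) := by
    intro j
    induction j with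
    | zero => simp
    | succ j ih => rw [pow_succ, mul_assoc, ← pow_succ', map_mul, hTn, ← map_mul, ih]
  obtain ⟨e, he, he'⟩ := (h P hPm).surjOn
    (show IsIdempotentElem (Ideal.Quotient.mk L (T ^ n)) by
      show _ * _ = _
      rw [← map_mul, hst])
  have hσL : ∀ z ∈ L, σ z = 0 := by
    intro z hz
    have : L ≤ RingHom.ker (σ : B →+* A ⧸ I) := by
      rw [Ideal.map_le_iff_le_comap]
      intro a ha
      simp [Ideal.Quotient.eq_zero_iff_mem.mpr ha]
    exact this hz
  have hσe : σ e = 1 := by
    have := hσL _ (Ideal.Quotient.eq.mp he')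
    rwa [map_sub, map_pow, hσT, one_pow, sub_eq_zero] at this
  have hcyc : ∀ y, ∃ a : A, y * e = a • e := by
    intro y
    let N : Submodule A B := LinearMap.range (LinearMap.mulRight A e)
    have hN : N ≤ Submodule.span A {e} := by
      refine Submodule.le_of_le_smul_of_le_jacobson_bot ?_ hI ?_
      · show (LinearMap.range (LinearMap.mulRight A e)).FG
        rw [LinearMap.range_eq_map]
        exact Module.Finite.fg_top.map _
      · rintro _ ⟨z, rfl⟩
        simp only [LinearMap.mulRight_apply]
        obtain ⟨q, rfl⟩ := AdjoinRoot.mk_surjective z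
        set a := q.eval 1
        have h2 : AdjoinRoot.mk P q * e - a • e ∈ L := by
          rw [← Ideal.Quotient.eq, Algebra.smul_def, map_mul, map_mul, he', ← map_mul, ← map_mul,
            ← AdjoinRoot.aeval_eq]
          simp only [a]
          induction q using Polynomial.induction_on' with
          | add q r hq hr => simp only [map_add, add_mul, eval_add, hq, hr]
          | monomial j c =>
            simp only [aeval_monomial, eval_monomial, one_pow, mul_one, mul_assoc, map_mul]
            rw [← map_mul, hst]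
        have h3 : AdjoinRoot.mk P q * e - a • e ∈ I • N := by
          have h4 := Submodule.mem_map_of_mem (f := LinearMap.mulRight A e)
            (show _ ∈ I • (⊤ : Submodule A B) by rw [Ideal.smul_top_eq_map]; exact h2)
          rw [Submodule.map_smul'', Submodule.map_top] at h4
          convert h4 using 1
          show AdjoinRoot.mk P q * e - a • e = (AdjoinRoot.mk P q * e - a • e) * e
          rw [sub_mul, smul_mul_assoc, mul_assoc, he.eq]
        have e2 : AdjoinRoot.mk P q * e = a • e + (AdjoinRoot.mk P q * e - a • e) := by abel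
        rw [e2]
        exact Submodule.add_mem_sup
          (Submodule.smul_mem _ _ (Submodule.mem_span_singleton_self e)) h3
    obtain ⟨a, ha⟩ := Submodule.mem_span_singleton.mp (hN ⟨y, rfl⟩)
    exact ⟨a, ha.symm⟩
  obtain ⟨τ, hτ⟩ := section_of_idempotent I hI σ e he hσe hcyc
  refine ⟨τ T, ?_, ?_⟩
  · have := AlgHom.congr_fun hτ T
    rw [hσT] at this
    exact Ideal.Quotient.eq.mp (this.trans (map_one _).symm)
  · show IsRoot P (τ T)
    rw [IsRoot, ← coe_aeval_eq_eval, Polynomial.aeval_algHom_apply, AdjoinRoot.aeval_eq,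
      AdjoinRoot.mk_self, map_zero]

theorem of_idempotents_finite {A : Type u} [CommRing A] (I : Ideal A)
    (h : ∀ (B : Type u) [CommRing B] [Algebra A B], Module.Finite A B →
      Set.BijOn (Ideal.Quotient.mk (Ideal.map (algebraMap A B) I)) {e : B | IsIdempotentElem e}
        {e | IsIdempotentElem e}) :
    HenselianRing A I := by
  have hI : I ≤ Ideal.jacobson ⊥ := by
    intro x hx
    rw [Ideal.mem_jacobson_bot]
    intro y
    have h' := (h (A ⧸ Ideal.span {x * y + 1}) inferInstance).injOn
    have h1 : (1 : A ⧸ Ideal.span {x * y + 1}) ∈ I.map (algebraMap A _) := by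
      have hm := Ideal.mem_map_of_mem (algebraMap A (A ⧸ Ideal.span {x * y + 1}))
        (I.neg_mem (I.mul_mem_right y hx))
      convert hm
      rw [eq_comm, Ideal.Quotient.algebraMap_eq, ← map_one (Ideal.Quotient.mk _), Ideal.Quotient.eq]
      rw [show -(x * y) - 1 = -(x * y + 1) by ring]
      exact Ideal.neg_mem_iff _ |>.mpr (Ideal.mem_span_singleton_self _)
    have h0 : (1 : A ⧸ Ideal.span {x * y + 1}) = 0 := h' IsIdempotentElem.one IsIdempotentElem.zero
      (Ideal.Quotient.eq.mpr (by simpa using h1))
    rw [← map_one (Ideal.Quotient.mk _), Ideal.Quotient.eq_zero_iff_mem,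
      Ideal.mem_span_singleton] at h0
    exact isUnit_of_dvd_one h0
  exact of_idempotents_monogenic I hI fun P hP => by
    have := hP.finite_adjoinRoot
    exact h _ inferInstance

/-- In a finite product of local rings any element is congruent to an idempotent modulo
`w * w - w`. -/
theorem exists_idempotent_pi {ι : Type*} {R : ι → Type*} [∀ i, CommRing (R i)]
    [∀ i, IsLocalRing (R i)] (w : ∀ i, R i) :
    ∃ e : ∀ i, R i, IsIdempotentElem e ∧ e - w ∈ Ideal.span {w * w - w} := by
  classical
  have key : ∀ i, ∃ e c : R i, IsIdempotentElem e ∧ e - w i = c * (w i * w i - w i) := by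
    intro i
    rcases IsLocalRing.isUnit_or_isUnit_one_sub_self (w i) with h | h
    · obtain ⟨v, hv⟩ := h.exists_left_inv
      exact ⟨1, -v, IsIdempotentElem.one, by linear_combination (w i - 1) * hv⟩
    · obtain ⟨v, hv⟩ := h.exists_left_inv
      exact ⟨0, v, IsIdempotentElem.zero, by linear_combination (w i) * hv⟩
  choose e c he hc using key
  exact ⟨e, funext he, Ideal.mem_span_singleton'.mpr ⟨c, funext fun i => (hc i).symm⟩⟩

theorem idempotents_bijOn_of_pi_local {R : Type u} [CommRing R] [IsLocalRing R] (S : Type u)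
    [CommRing S] [Algebra R S] [Module.Finite R S] {ι : Type u} (A : ι → Type u)
    [∀ i, CommRing (A i)] [∀ i, IsLocalRing (A i)] (φ : S ≃+* (∀ i, A i)) :
    Set.BijOn (Ideal.Quotient.mk (Ideal.map (algebraMap R S) (IsLocalRing.maximalIdeal R)))
      {e : S | IsIdempotentElem e} {e | IsIdempotentElem e} := by
  refine ⟨fun e he => IsIdempotentElem.map he _, ?_, ?_⟩
  · intro e he e' he' hee
    have hd := Ideal.mem_jacobson_bot.mp (map_le_jacobson_of_isIntegral _
      (IsLocalRing.jacobson_eq_maximalIdeal ⊥ bot_ne_top).ge S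
      (Ideal.Quotient.eq.mp hee)) (-(e - e'))
    have h3 : ((e - e') * (-(e - e')) + 1) * (e - e') = 0 := by
      have a := IsIdempotentElem.eq he
      have b := IsIdempotentElem.eq he'
      linear_combination (-(e + 1) + 3 * e') * a + (e' + 1 - 3 * e) * b
    exact sub_eq_zero.mp (hd.mul_right_eq_zero.mp h3)
  · intro z hz
    obtain ⟨w, rfl⟩ := Ideal.Quotient.mk_surjective z
    obtain ⟨e, he, he'⟩ := exists_idempotent_pi (φ w)
    obtain ⟨c, hc⟩ := Ideal.mem_span_singleton'.mp he'
    refine ⟨φ.symm e, he.map φ.symm, Ideal.Quotient.eq.mpr ?_⟩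
    have := congrArg φ.symm hc
    simp only [map_sub, map_mul, RingEquiv.symm_apply_apply] at this
    rw [← this]
    refine Ideal.mul_mem_left _ _ (Ideal.Quotient.eq.mp ?_)
    rw [map_mul]
    exact hz

/-- A finite algebra over a local ring whose idempotents biject with those of the closed fibre is
a finite product of local rings. -/
theorem exists_pi_local_of_bijOn (R : Type u) [CommRing R] [IsLocalRing R]
    (S : Type u) [CommRing S] [Algebra R S] [Module.Finite R S]
    (hbij : Set.BijOn (Ideal.Quotient.mk (Ideal.map (algebraMap R S) (IsLocalRing.maximalIdeal R)))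
      {e : S | IsIdempotentElem e} {e | IsIdempotentElem e}) :
    ∃ (ι : Type u) (_ : Fintype ι) (A : ι → Type u) (_ : ∀ i, CommRing (A i)),
      (∀ i, IsLocalRing (A i)) ∧ Nonempty (S ≃+* (∀ i, A i)) := by
  classical
  let m := IsLocalRing.maximalIdeal R
  let L := m.map (algebraMap R S)
  have : Module.Finite (R ⧸ m) (S ⧸ L) :=
    Module.Finite.of_restrictScalars_finite R (R ⧸ m) (S ⧸ L)
  have : IsArtinianRing (R ⧸ m) := by
    letI := Ideal.Quotient.field m
    infer_instance
  have : IsArtinianRing (S ⧸ L) := IsArtinianRing.of_finite (R ⧸ m) (S ⧸ L)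
  let P := PrimeSpectrum (S ⧸ L)
  have : Finite P := inferInstance
  have : DiscreteTopology P :=
    PrimeSpectrum.discreteTopology_iff_finite_and_krullDimLE_zero.mpr ⟨inferInstance, inferInstance⟩
  let Φ := PrimeSpectrum.toPiLocalizationEquiv (R := S ⧸ L)
  let ē : P → S ⧸ L := fun p => Φ.symm (Pi.single p 1)
  have hē : ∀ p, IsIdempotentElem (ē p) := fun p => by
    show _ * _ = _
    simp [ē, ← map_mul, ← Pi.single_mul]
  choose e he he' using fun p => (hbij).surjOn (hē p)
  letI := Fintype.ofFinite P
  have hinj := (hbij).injOn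
  have horth : OrthogonalIdempotents e := by
    refine ⟨he, fun p q hpq => ?_⟩
    refine hinj (IsIdempotentElem.mul (he p) (he q)) IsIdempotentElem.zero ?_
    rw [map_mul, map_zero, he', he']
    simp only [ē, ← map_mul]
    rw [← map_zero Φ.symm]
    congr 1
    ext r
    rcases eq_or_ne r p with rfl | hr
    · simp [Pi.single_eq_of_ne hpq]
    · simp [Pi.single_eq_of_ne hr]
  have hc : CompleteOrthogonalIdempotents e := by
    refine ⟨horth, hinj horth.isIdempotentElem_sum IsIdempotentElem.one ?_⟩
    rw [map_sum, map_one, Finset.sum_congr rfl (fun p _ => he' p)]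
    simp only [ē, ← map_sum, Finset.univ_sum_single]
    exact map_one Φ.symm
  refine ⟨P, inferInstance, fun p => S ⧸ Ideal.span {1 - e p}, inferInstance, fun p => ?_,
    ⟨RingEquiv.ofBijective _ hc.bijective_pi⟩⟩
  have key : ∀ Q : Ideal S, Q.IsMaximal → Ideal.span {1 - e p} ≤ Q →
      ∃ h : L ≤ Q, Q = p.asIdeal.comap (Ideal.Quotient.mk L) := by
    intro Q hQ hle
    have hLQ : L ≤ Q := le_trans
      (map_le_jacobson_of_isIntegral _ (IsLocalRing.jacobson_eq_maximalIdeal ⊥ bot_ne_top).ge S)
      (sInf_le ⟨bot_le, hQ⟩)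
    have hQ' : (Q.map (Ideal.Quotient.mk L)).IsMaximal :=
      Ideal.IsMaximal.map_of_surjective_of_ker_le Ideal.Quotient.mk_surjective (by simpa using hLQ)
    let q : P := ⟨_, hQ'.isPrime⟩
    have hqp : q = p := by
      by_contra hne
      have h0 : algebraMap (S ⧸ L) (Localization.AtPrime q.asIdeal) (ē p) = 0 := by
        have := congrFun (Φ.apply_symm_apply (Pi.single p 1)) q
        rw [Pi.single_eq_of_ne hne] at this
        exact this
      have h1 : ē p ∉ q.asIdeal := by
        intro hmem
        have hm : 1 - ē p ∈ q.asIdeal := by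
          rw [← he' p, ← map_one (Ideal.Quotient.mk L), ← map_sub]
          exact Ideal.mem_map_of_mem _ (hle (Ideal.mem_span_singleton_self _))
        exact hQ'.ne_top ((Ideal.eq_top_iff_one _).mpr (by simpa using add_mem hm hmem))
      rw [← IsLocalization.AtPrime.to_map_mem_maximal_iff (Localization.AtPrime q.asIdeal) q.asIdeal,
        h0] at h1
      exact h1 (zero_mem _)
    refine ⟨hLQ, ?_⟩
    rw [← hqp, Ideal.comap_map_of_surjective _ Ideal.Quotient.mk_surjective]
    exact le_antisymm le_sup_left (sup_le le_rfl (by simpa [← RingHom.ker_eq_comap_bot] using hLQ))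
  have : Nontrivial (S ⧸ Ideal.span {1 - e p}) := by
    rw [Ideal.Quotient.nontrivial_iff]
    intro htop
    have hu : IsUnit (1 - e p) := Ideal.span_singleton_eq_top.mp htop
    have h0 : e p = 0 := by
      have := hu.mul_right_eq_zero (b := e p)
      exact this.mp (by rw [sub_mul, one_mul, (he p).eq, sub_self])
    have := he' p
    rw [h0, map_zero] at this
    have := congrArg Φ this
    simp only [ē, map_zero, AlgEquiv.apply_symm_apply] at this
    exact one_ne_zero ((Pi.single_eq_same p 1).symm.trans (congrFun this p).symm)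
  refine IsLocalRing.of_unique_max_ideal (existsUnique_of_exists_of_unique ?_ ?_)
  · exact Ideal.exists_maximal _
  · intro Q₁ Q₂ h₁ h₂
    have h₁' := Ideal.comap_isMaximal_of_surjective (Ideal.Quotient.mk (Ideal.span {1 - e p})) Ideal.Quotient.mk_surjective (K := Q₁)
    have h₂' := Ideal.comap_isMaximal_of_surjective (Ideal.Quotient.mk (Ideal.span {1 - e p})) Ideal.Quotient.mk_surjective (K := Q₂)
    obtain ⟨-, e₁⟩ := key _ h₁' (fun x hx => by simp [Ideal.mem_comap, Ideal.Quotient.eq_zero_iff_mem.mpr hx])
    obtain ⟨-, e₂⟩ := key _ h₂' (fun x hx => by simp [Ideal.mem_comap, Ideal.Quotient.eq_zero_iff_mem.mpr hx])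
    exact Ideal.comap_injective_of_surjective _ Ideal.Quotient.mk_surjective (e₁.trans e₂.symm)

/-- A finite algebra over a Henselian local ring is a finite product of local rings. -/
theorem exists_pi_local (R : Type u) [CommRing R] [HenselianLocalRing R]
    (S : Type u) [CommRing S] [Algebra R S] [Module.Finite R S] :
    ∃ (ι : Type u) (_ : Fintype ι) (A : ι → Type u) (_ : ∀ i, CommRing (A i)),
      (∀ i, IsLocalRing (A i)) ∧ Nonempty (S ≃+* (∀ i, A i)) :=
  exists_pi_local_of_bijOn R S (idempotents_bijOn _ S)

theorem injOn_of_isLocalRing (R : Type u) [CommRing R] [IsLocalRing R]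
    (S : Type u) [CommRing S] [Algebra R S] [Module.Finite R S] :
    Set.InjOn (Ideal.Quotient.mk (Ideal.map (algebraMap R S) (IsLocalRing.maximalIdeal R)))
      {e : S | IsIdempotentElem e} := by
  intro e he e' he' hee
  have hd := Ideal.mem_jacobson_bot.mp (map_le_jacobson_of_isIntegral _
    (IsLocalRing.jacobson_eq_maximalIdeal ⊥ bot_ne_top).ge S
    (Ideal.Quotient.eq.mp hee)) (-(e - e'))
  have h3 : ((e - e') * (-(e - e')) + 1) * (e - e') = 0 := by
    have a := IsIdempotentElem.eq he
    have b := IsIdempotentElem.eq he'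
    linear_combination (-(e + 1) + 3 * e') * a + (e' + 1 - 3 * e) * b
  exact sub_eq_zero.mp (hd.mul_right_eq_zero.mp h3)

end Groth.Agent.H4HenselPair
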