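import Mathlib
import Groth.Agent.Lib.H4HenselApps

/-! Sections of étale algebras lift along Henselian pairs. -/

set_option autoImplicit false

universe u v

namespace Groth.Agent.H4HenselPair

open Polynomial

set_option maxHeartbeats 800000 in
theorem exists_lift_of_etale {A : Type u} [CommRing A] (I : Ideal A) [HenselianRing A I]
    (A' : Type u) [CommRing A'] [Algebra A A'] [Algebra.Etale A A'] (σ : A' →ₐ[A] A ⧸ I) :
    ∃ τ : A' →ₐ[A] A, (Ideal.Quotient.mkₐ A I).comp τ = σ := by
  classical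
  let G : Set A' := {r | ∃ S' : Subalgebra A A', S'.toSubmodule.FG ∧ ∃ h : r ∈ S',
    Function.Bijective (Localization.awayMap S'.val.toRingHom ⟨r, h⟩)}
  have hG : Ideal.span (σ '' G) = ⊤ := by
    by_contra hne
    obtain ⟨M, hM, hGM⟩ := Ideal.exists_le_maximal _ hne
    let q : Ideal A' := M.comap (σ : A' →+* A ⧸ I)
    have : q.IsPrime := Ideal.IsPrime.comap _
    obtain ⟨S', hS', r, hr, hb⟩ :=
      Algebra.QuasiFiniteAt.exists_fg_and_exists_notMem_and_awayMap_bijective (R := A) q
    exact hr (hGM (Ideal.subset_span ⟨r.1, ⟨S', hS', r.2, hb⟩, rfl⟩))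
  obtain ⟨T₀, hT₀, hT₀'⟩ := Submodule.mem_span_finite_of_mem_span
    (hG.ge (Submodule.mem_top (x := (1 : A ⧸ I))))
  choose g hg hg' using fun t : ↥T₀ => hT₀ t.2
  choose S' hS' hgS hbij using hg
  choose gens hgens using hS'
  let U : Finset A' := Finset.univ.biUnion gens
  have hint : ∀ z ∈ (U : Set A'), IsIntegral A z := by
    intro z hz
    simp only [U, Finset.mem_coe, Finset.mem_biUnion, Finset.mem_univ, true_and] at hz
    obtain ⟨t, ht⟩ := hz
    have hzS : z ∈ (S' t).toSubmodule := by rw [← hgens t]; exact Submodule.subset_span ht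
    exact IsIntegral.of_mem_of_fg (S' t) (hgens t ▸ Submodule.fg_span (gens t).finite_toSet) z hzS
  let C := Algebra.adjoin A (U : Set A')
  have hCfin : Module.Finite A C :=
    ⟨(Submodule.fg_top _).mpr (fg_adjoin_of_finite U.finite_toSet hint)⟩
  have hle : ∀ t, S' t ≤ C := by
    intro t x hx
    have hx' : x ∈ (S' t).toSubmodule := hx
    rw [← hgens t] at hx'
    refine (Submodule.span_le (p := C.toSubmodule)).mpr (fun z hz => ?_) hx'
    exact Algebra.subset_adjoin (Finset.mem_biUnion.mpr ⟨t, Finset.mem_univ _, hz⟩)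
  let gC : ↥T₀ → C := fun t => ⟨g t, hle t (hgS t)⟩
  have hsurj : ∀ t (y : A'), ∃ (k : ℕ) (x : C), g t ^ k * y = x := by
    intro t y
    obtain ⟨z, hz⟩ := (hbij t).2 (algebraMap A' _ y)
    obtain ⟨x, ⟨_, j, rfl⟩, rfl⟩ := IsLocalization.exists_mk'_eq
      (Submonoid.powers (⟨g t, hgS t⟩ : S' t)) z
    simp only [Localization.awayMap, IsLocalization.Away.map, IsLocalization.map_mk',
      IsLocalization.mk'_eq_iff_eq_mul, ← map_mul] at hz
    obtain ⟨⟨_, i, rfl⟩, hi⟩ := (IsLocalization.eq_iff_exists (Submonoid.powers ((S' t).val.toRingHom ⟨g t, hgS t⟩)) _).mp hz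
    simp at hi
    refine ⟨i + j, gC t ^ i * ⟨x, hle t x.2⟩, ?_⟩
    simp [gC, hi, pow_add]
    ring
  have hθ : ∀ t, ∃ θ : A' →ₐ[A] Localization.Away (gC t),
      ∀ x : C, θ (C.val x) = algebraMap C (Localization.Away (gC t)) x := by
    intro t
    let f := Localization.awayMapₐ C.val (gC t)
    have hf : Function.Bijective f := by
      constructor
      · exact (Localization.awayMap_injective_iff (f := C.val.toRingHom) (r := gC t)).mpr
          fun x hx => ⟨0, by rw [pow_zero, one_mul]; exact Subtype.ext hx⟩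
      · intro z
        obtain ⟨y, ⟨_, j, rfl⟩, rfl⟩ := IsLocalization.exists_mk'_eq (Submonoid.powers (C.val (gC t))) z
        obtain ⟨k, x, hx⟩ := hsurj t y
        refine ⟨IsLocalization.mk' (Localization.Away (gC t)) x (⟨gC t ^ (k + j), k + j, rfl⟩ : Submonoid.powers (gC t)), ?_⟩
        simp only [f, Localization.awayMapₐ, IsLocalization.Away.mapₐ_apply, IsLocalization.Away.map,
          IsLocalization.map_mk']
        rw [IsLocalization.mk'_eq_iff_eq]
        refine congrArg _ ?_
        simp [gC, ← hx, pow_add]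
        ring
    let e := AlgEquiv.ofBijective f hf
    refine ⟨(e.symm : _ →ₐ[A] _).comp (IsScalarTower.toAlgHom A A' (Localization.Away (C.val (gC t)))),
      fun x => ?_⟩
    refine e.injective ?_
    simp only [AlgHom.comp_apply, AlgEquiv.coe_toAlgHom, AlgEquiv.apply_symm_apply]
    simp only [e, f, AlgEquiv.ofBijective_apply, Localization.awayMapₐ,
      IsLocalization.Away.mapₐ_apply, IsLocalization.Away.map, IsLocalization.map_eq,
      IsScalarTower.coe_toAlgHom']
    try rfl
  refine exists_lift_of_finite_cover I C.val σ (Set.range gC) ?_ ?_ ?_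
  · rw [Ideal.eq_top_iff_one]
    refine Submodule.span_mono ?_ hT₀'
    intro t ht
    exact ⟨gC ⟨t, ht⟩, ⟨_, rfl⟩, hg' ⟨t, ht⟩⟩
  · rintro _ ⟨t, rfl⟩ y
    exact hsurj t y
  · rintro _ ⟨t, rfl⟩
    exact hθ t

theorem of_etale_lift {A : Type u} [CommRing A] (I : Ideal A)
    (h : ∀ (A' : Type u) [CommRing A'] [Algebra A A'] [Algebra.Etale A A'] (σ : A' →ₐ[A] A ⧸ I),
      ∃ τ : A' →ₐ[A] A, (Ideal.Quotient.mkₐ A I).comp τ = σ) :
    HenselianRing A I := by
  refine ⟨?_, fun f hf a₀ h1 h2 => ?_⟩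
  · intro x hx
    rw [Ideal.mem_jacobson_bot]
    intro y
    have hu : IsUnit (algebraMap A (A ⧸ I) (x * y + 1)) := by
      rw [Ideal.Quotient.algebraMap_eq, map_add,
        Ideal.Quotient.eq_zero_iff_mem.mpr (I.mul_mem_right _ hx), zero_add, map_one]
      exact isUnit_one
    have : Algebra.Etale A (Localization.Away (x * y + 1)) := .of_isLocalizationAway (x * y + 1)
    obtain ⟨τ, -⟩ := h (Localization.Away (x * y + 1))
      (IsLocalization.Away.liftAlgHom (f := Algebra.ofId A (A ⧸ I)) (x * y + 1) hu)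
    have := (IsLocalization.Away.algebraMap_isUnit (S := Localization.Away (x * y + 1))
      (x * y + 1)).map τ
    rwa [τ.commutes] at this
  · let P : StandardEtalePair A := ⟨f, hf, derivative f, 1, 0, 1, by ring⟩
    obtain ⟨τ, hτ⟩ := h P.Ring (P.lift (Ideal.Quotient.mk I a₀) (by
      refine ⟨?_, ?_⟩
      · rw [← Ideal.Quotient.algebraMap_eq, aeval_algebraMap_apply_eq_algebraMap_eval,
          Ideal.Quotient.algebraMap_eq, Ideal.Quotient.eq_zero_iff_mem]
        exact h1
      · rw [← Ideal.Quotient.algebraMap_eq, aeval_algebraMap_apply_eq_algebraMap_eval]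
        exact h2))
    refine ⟨τ P.X, ?_, ?_⟩
    · have := (StandardEtalePair.hasMap_X.map τ : P.HasMap (τ P.X)).1
      rwa [coe_aeval_eq_eval] at this
    · have := AlgHom.congr_fun hτ P.X
      erw [StandardEtalePair.lift_X] at this
      exact Ideal.Quotient.eq.mp this

end Groth.Agent.H4HenselPair
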