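import Mathlib
import Groth.Agent.Lib.H4HenselEtale

/-! Hom sets out of étale algebras along Henselian pairs; root criteria. -/

set_option autoImplicit false

universe u v w

namespace Groth.Agent.H4HenselPair

open Polynomial TensorProduct

theorem unramified_algHom_ext {A : Type u} [CommRing A] {B : Type v} [CommRing B] [Algebra A B]
    [Algebra.FormallyUnramified A B] [Algebra.EssFiniteType A B] {C : Type w} [CommRing C]
    [Algebra A C] (J : Ideal C) (hJ : J ≤ Ideal.jacobson ⊥) (f₁ f₂ : B →ₐ[A] C)
    (h : ∀ b, f₁ b - f₂ b ∈ J) : f₁ = f₂ := by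
  obtain ⟨t, ht, ht1⟩ :=
    (Algebra.FormallyUnramified.iff_exists_tensorProduct (R := A) (S := B)).mp inferInstance
  let F : B ⊗[A] B →ₐ[A] C := Algebra.TensorProduct.lift f₁ f₂ fun _ _ => .all _ _
  have hF : ∀ z, F z - f₁ (Algebra.TensorProduct.lmul' A z) ∈ J := by
    intro z
    induction z with
    | zero => simp
    | tmul x y =>
      simp only [F, Algebra.TensorProduct.lift_tmul, Algebra.TensorProduct.lmul'_apply_tmul, map_mul]
      rw [← mul_sub]
      exact J.mul_mem_left _ (by simpa using J.neg_mem (h y))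
    | add x y hx hy =>
      simp only [map_add]
      rw [add_sub_add_comm]
      exact J.add_mem hx hy
  have hu : IsUnit (F t) := by
    have := hF t
    rw [show Algebra.TensorProduct.lmul' A t = 1 from ht1, map_one] at this
    exact isUnit_of_sub_mem hJ this
  ext b
  have := congrArg F (ht b)
  simp only [map_mul, map_sub, map_zero, F, Algebra.TensorProduct.lift_tmul, map_one, one_mul,
    mul_one] at this
  exact (sub_eq_zero.mp (hu.mul_left_eq_zero.mp this)).symm

/-- Maps out of étale algebras lift uniquely along a Henselian pair. -/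
theorem algHom_bijective_of_etale {A : Type u} [CommRing A] (C : Type u) [CommRing C] [Algebra A C]
    (J : Ideal C) [HenselianRing C J] (E : Type u) [CommRing E] [Algebra A E]
    [Algebra.Etale A E] :
    Function.Bijective (fun φ : E →ₐ[A] C => (Ideal.Quotient.mkₐ A J).comp φ) := by
  refine ⟨fun f g h => ?_, fun σ => ?_⟩
  · refine unramified_algHom_ext J HenselianRing.jac f g fun b => ?_
    exact Ideal.Quotient.eq.mp (AlgHom.congr_fun h b)
  · let σ' : C ⊗[A] E →ₐ[C] C ⧸ J :=
      Algebra.TensorProduct.lift (Algebra.ofId C (C ⧸ J)) σ fun _ _ => .all _ _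
    obtain ⟨τ, hτ⟩ := exists_lift_of_etale J (C ⊗[A] E) σ'
    refine ⟨(τ.restrictScalars A).comp Algebra.TensorProduct.includeRight, AlgHom.ext fun e => ?_⟩
    have := AlgHom.congr_fun hτ ((1 : C) ⊗ₜ[A] e)
    simpa [σ'] using this

theorem henselianRing_of_isIntegral {A : Type u} [CommRing A] (I : Ideal A) [HenselianRing A I]
    (B : Type u) [CommRing B] [Algebra A B] [Algebra.IsIntegral A B] :
    HenselianRing B (I.map (algebraMap A B)) := by
  refine of_idempotents_finite _ fun C _ _ _ => ?_
  let : Algebra A C := Algebra.compHom C (algebraMap A B)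
  have : IsScalarTower A B C := .of_algebraMap_eq' rfl
  have : Algebra.IsIntegral A C := Algebra.IsIntegral.trans B
  rw [Ideal.map_map, ← IsScalarTower.algebraMap_eq A B C]
  exact idempotents_bijOn I C

theorem henselianLocalRing_of_henselianRing {R : Type u} [CommRing R] [IsLocalRing R]
    (H : HenselianRing R (IsLocalRing.maximalIdeal R)) : HenselianLocalRing R :=
  ⟨fun f hf a₀ h1 h2 => H.is_henselian f hf a₀ h1 (h2.map _)⟩

/-- A standard étale algebra having a unique rational point in the closed fibre. -/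
theorem of_standardEtale {R : Type u} [CommRing R] [IsLocalRing R]
    (h : ∀ (P : StandardEtalePair R) (σ : P.Ring →ₐ[R] IsLocalRing.ResidueField R),
      (IsLocalRing.maximalIdeal R).map (algebraMap R P.Ring) = RingHom.ker (σ : P.Ring →+* IsLocalRing.ResidueField R) → Nonempty (P.Ring →ₐ[R] R)) :
    HenselianLocalRing R := by
  refine ⟨fun f hf a₀ h1 h2 => ?_⟩
  obtain ⟨q, hq⟩ := X_sub_C_dvd_sub_C_eval (p := f) (a := a₀)
  set res := algebraMap R (IsLocalRing.ResidueField R)
  have hres : ∀ r, res r = 0 ↔ r ∈ IsLocalRing.maximalIdeal R := fun r =>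
    IsLocalRing.residue_eq_zero_iff r
  have hqa : q.eval a₀ = f.derivative.eval a₀ := by
    have := congrArg (fun p => (derivative p).eval a₀) hq
    simpa [derivative_mul] using this.symm
  let P : StandardEtalePair R := ⟨f, hf, derivative f * q, q, 0, 1, by ring⟩
  have key : ∀ (K : Type u) [Field K] [Algebra R K],
      (∀ r ∈ IsLocalRing.maximalIdeal R, algebraMap R K r = 0) →
      ∀ x : K, P.HasMap x → x = algebraMap R K a₀ := by
    intro K _ _ hK x hx
    have h3 := congrArg (aeval x) hq
    simp only [map_sub, map_mul, aeval_X, aeval_C, show aeval x f = 0 from hx.1,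
      hK _ h1] at h3
    have hg : IsUnit (aeval x q) := isUnit_of_mul_isUnit_right (by simpa [P] using hx.2)
    rw [sub_zero, eq_comm, mul_eq_zero, sub_eq_zero] at h3
    exact h3.resolve_right hg.ne_zero
  have hmap : P.HasMap (res a₀) := by
    refine ⟨?_, ?_⟩
    · rw [aeval_algebraMap_apply_eq_algebraMap_eval]
      exact (hres _).mpr h1
    · rw [aeval_algebraMap_apply_eq_algebraMap_eval, eval_mul, hqa]
      exact (h2.mul h2).map res
  let σ := P.lift _ hmap
  set L := (IsLocalRing.maximalIdeal R).map (algebraMap R P.Ring)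
  have hL : L = RingHom.ker (σ : P.Ring →+* IsLocalRing.ResidueField R) := by
    have hle : L ≤ RingHom.ker (σ : P.Ring →+* IsLocalRing.ResidueField R) := by
      rw [Ideal.map_le_iff_le_comap]
      intro r hr
      rw [Ideal.mem_comap, RingHom.mem_ker, AlgHom.coe_toRingHom, AlgHom.commutes]
      exact (hres r).mpr hr
    refine le_antisymm hle ?_
    have hrad : L.IsRadical := Algebra.FormallyUnramified.isRadical_map_isMaximal (A := R) P.Ring (IsLocalRing.maximalIdeal R)
    intro z hz
    rw [← hrad.radical, Ideal.radical_eq_sInf, Submodule.mem_sInf]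
    rintro Q ⟨hQ, hQp⟩
    let π : P.Ring →ₐ[R] FractionRing (P.Ring ⧸ Q) := IsScalarTower.toAlgHom R _ _
    have hK : ∀ r ∈ IsLocalRing.maximalIdeal R, algebraMap R (FractionRing (P.Ring ⧸ Q)) r = 0 := by
      intro r hr
      rw [IsScalarTower.algebraMap_apply R (P.Ring ⧸ Q) (FractionRing (P.Ring ⧸ Q))]
      rw [show algebraMap R (P.Ring ⧸ Q) r = 0 from
        Ideal.Quotient.eq_zero_iff_mem.mpr (hQ (Ideal.mem_map_of_mem _ hr)), map_zero]
    have hπ : π = (Ideal.Quotient.liftₐ (IsLocalRing.maximalIdeal R)
        (Algebra.ofId R (FractionRing (P.Ring ⧸ Q))) hK).comp σ := by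
      refine P.hom_ext ?_
      rw [key _ hK _ (StandardEtalePair.hasMap_X.map π), AlgHom.comp_apply]
      erw [StandardEtalePair.lift_X]
      exact (AlgHom.commutes _ a₀).symm
    have h0 : π z = 0 := by
      have hz0 : σ z = 0 := hz
      rw [hπ, AlgHom.comp_apply]
      erw [hz0]
      exact map_zero _
    have h0' : algebraMap (P.Ring ⧸ Q) (FractionRing (P.Ring ⧸ Q)) (Ideal.Quotient.mk Q z) = 0 := h0
    rw [map_eq_zero_iff _ (IsFractionRing.injective _ _), Ideal.Quotient.eq_zero_iff_mem] at h0'
    exact h0'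
  obtain ⟨τ⟩ := h P σ hL
  refine ⟨τ P.X, ?_, ?_⟩
  · have := (StandardEtalePair.hasMap_X.map τ : P.HasMap (τ P.X)).1
    rwa [coe_aeval_eq_eval] at this
  · rw [← hres, map_sub, sub_eq_zero]
    have hm := (StandardEtalePair.hasMap_X.map τ : P.HasMap (τ P.X)).map
      (Algebra.ofId R (IsLocalRing.ResidueField R))
    exact key _ (fun r hr => (hres r).mpr hr) _ hm

end Groth.Agent.H4HenselPair
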