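import Mathlib
import Groth.Agent.Lib.H4HenselSections

/-! The filtered colimit of étale algebras with a point in a test algebra. -/

set_option autoImplicit false

universe u

noncomputable section

namespace Groth.Agent.H4Henzn

open CategoryTheory Limits TensorProduct Polynomial

variable (A K : Type u) [CommRing A] [CommRing K] [Algebra A K]

/-- An étale algebra with a point in `K`. -/
structure Nbhd : Type u where
  n : ℕ
  J : Ideal (MvPolynomial (Fin n) A)
  etale : Algebra.Etale A (MvPolynomial (Fin n) A ⧸ J)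
  σ : (MvPolynomial (Fin n) A ⧸ J) →ₐ[A] K

variable {A K}

abbrev Nbhd.ring (X : Nbhd A K) : Type u := MvPolynomial (Fin X.n) A ⧸ X.J

instance (X : Nbhd A K) : Algebra.Etale A X.ring := X.etale

@[ext] structure Nbhd.Hom (X Y : Nbhd A K) : Type u where
  f : X.ring →ₐ[A] Y.ring
  comp : Y.σ.comp f = X.σ

instance : SmallCategory (Nbhd A K) where
  Hom := Nbhd.Hom
  id X := ⟨AlgHom.id A _, rfl⟩
  comp φ ψ := ⟨ψ.f.comp φ.f, by rw [← AlgHom.comp_assoc, ψ.comp, φ.comp]⟩
  id_comp φ := Nbhd.Hom.ext (AlgHom.comp_id _)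
  comp_id φ := Nbhd.Hom.ext (AlgHom.id_comp _)
  assoc φ ψ χ := Nbhd.Hom.ext (AlgHom.comp_assoc _ _ _).symm

@[simp] theorem comp_f {X Y Z : Nbhd A K} (φ : X ⟶ Y) (ψ : Y ⟶ Z) :
    (φ ≫ ψ).f = ψ.f.comp φ.f := rfl

theorem σ_f {X Y : Nbhd A K} (φ : X ⟶ Y) (x : X.ring) : Y.σ (φ.f x) = X.σ x :=
  AlgHom.congr_fun φ.comp x

theorem exists_nbhd (A' : Type u) [CommRing A'] [Algebra A A'] [Algebra.Etale A A']
    (σ : A' →ₐ[A] K) :
    ∃ (X : Nbhd A K) (e : X.ring ≃ₐ[A] A'), ∀ x, X.σ x = σ (e x) := by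
  obtain ⟨n, π, hπ, -⟩ := Algebra.FinitePresentation.out (R := A) (A := A')
  let e := Ideal.quotientKerAlgEquivOfSurjective hπ
  exact ⟨⟨n, RingHom.ker π, Algebra.Etale.of_equiv e.symm, σ.comp e.toAlgHom⟩, e, fun x => rfl⟩

theorem etale_tensor (A₁ A₂ : Type u) [CommRing A₁] [Algebra A A₁] [Algebra.Etale A A₁]
    [CommRing A₂] [Algebra A A₂] [Algebra.Etale A A₂] : Algebra.Etale A (A₁ ⊗[A] A₂) :=
  Algebra.Etale.comp A A₁ (A₁ ⊗[A] A₂)

theorem exists_equalizer {X Y : Nbhd A K} (φ ψ : X ⟶ Y) :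
    ∃ (Z : Nbhd A K) (h : Y ⟶ Z), φ ≫ h = ψ ≫ h := by
  obtain ⟨t, ht, ht1⟩ :=
    (Algebra.FormallyUnramified.iff_exists_tensorProduct (R := A) (S := X.ring)).mp inferInstance
  let F : X.ring ⊗[A] X.ring →ₐ[A] Y.ring :=
    Algebra.TensorProduct.lift φ.f ψ.f fun _ _ => .all _ _
  have hF : ∀ z, Y.σ (F z) = X.σ (Algebra.TensorProduct.lmul' A z) := by
    intro z
    induction z with
    | zero => simp
    | tmul x y =>
      simp only [F, Algebra.TensorProduct.lift_tmul, Algebra.TensorProduct.lmul'_apply_tmul,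
        map_mul, σ_f]
    | add x y hx hy => simp only [map_add, hx, hy]
  have hu : IsUnit (Y.σ (F t)) := by
    rw [hF, show Algebra.TensorProduct.lmul' A t = 1 from ht1, map_one]
    exact isUnit_one
  obtain ⟨Z, e, he⟩ := exists_nbhd (Localization.Away (F t))
    (IsLocalization.Away.liftAlgHom (f := Y.σ) (F t) hu)
  let L := IsScalarTower.toAlgHom A Y.ring (Localization.Away (F t))
  let h : Y ⟶ Z := ⟨e.symm.toAlgHom.comp L, by
    ext y
    simp [he, L, IsLocalization.Away.liftAlgHom]⟩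
  refine ⟨Z, h, Nbhd.Hom.ext (AlgHom.ext fun s => e.injective ?_)⟩
  have h0 := congrArg (fun z => L (F z)) (ht s)
  simp only [map_mul, map_sub, map_zero, F, Algebra.TensorProduct.lift_tmul, map_one, one_mul,
    mul_one] at h0
  simp only [h, comp_f, AlgHom.comp_apply, AlgEquiv.coe_toAlgHom, AlgEquiv.apply_symm_apply]
  exact (sub_eq_zero.mp
    ((IsLocalization.Away.algebraMap_isUnit (F t)).mul_left_eq_zero.mp h0)).symm

variable (A K)

theorem nonempty : Nonempty (Nbhd A K) :=
  let ⟨X, _⟩ := exists_nbhd A (Algebra.ofId A K)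
  ⟨X⟩

instance isFiltered : IsFiltered (Nbhd A K) where
  cocone_objs X Y := by
    have := etale_tensor (A := A) X.ring Y.ring
    obtain ⟨Z, e, he⟩ := exists_nbhd (X.ring ⊗[A] Y.ring)
      (Algebra.TensorProduct.lift X.σ Y.σ fun _ _ => .all _ _)
    refine ⟨Z, ⟨e.symm.toAlgHom.comp Algebra.TensorProduct.includeLeft, ?_⟩,
      ⟨e.symm.toAlgHom.comp Algebra.TensorProduct.includeRight, ?_⟩, trivial⟩ <;>
    · ext x
      simp [he]
  cocone_maps _ _ φ ψ := exists_equalizer φ ψ
  nonempty := nonempty A K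

def diagram : Nbhd A K ⥤ CommRingCat.{u} where
  obj X := CommRingCat.of X.ring
  map φ := CommRingCat.ofHom φ.f.toRingHom

/-- The colimit of all étale algebras with a point in `K`. -/
def Ring : Type u := (colimit (diagram A K) : CommRingCat.{u})

instance : CommRing (Ring A K) := inferInstanceAs (CommRing (colimit (diagram A K) : CommRingCat.{u}))

variable {A K}

def ιR (X : Nbhd A K) : X.ring →+* Ring A K := (colimit.ι (diagram A K) X).hom

theorem ιR_map {X Y : Nbhd A K} (φ : X ⟶ Y) (x : X.ring) : ιR Y (φ.f x) = ιR X x :=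
  RingHom.congr_fun (congrArg CommRingCat.Hom.hom (colimit.w (diagram A K) φ)) x

theorem ιR_algebraMap (X Y : Nbhd A K) (a : A) :
    ιR X (algebraMap A X.ring a) = ιR Y (algebraMap A Y.ring a) := by
  obtain ⟨Z, φ, ψ, -⟩ := IsFilteredOrEmpty.cocone_objs X Y
  rw [← ιR_map φ, ← ιR_map ψ, φ.f.commutes, ψ.f.commutes]

instance : Algebra A (Ring A K) :=
  ((ιR (Classical.choice (nonempty A K))).comp (algebraMap A _)).toAlgebra

def ι (X : Nbhd A K) : X.ring →ₐ[A] Ring A K :=
  { ιR X with commutes' := fun a => ιR_algebraMap X _ a }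

@[simp] theorem ι_map {X Y : Nbhd A K} (φ : X ⟶ Y) (x : X.ring) : ι Y (φ.f x) = ι X x :=
  ιR_map φ x

theorem exists_rep (b : Ring A K) : ∃ (X : Nbhd A K) (x : X.ring), ι X x = b :=
  Concrete.colimit_exists_rep (diagram A K) b

theorem exists_of_eq {X : Nbhd A K} {x y : X.ring} (h : ι X x = ι X y) :
    ∃ (Z : Nbhd A K) (φ : X ⟶ Z), φ.f x = φ.f y := by
  obtain ⟨W, φ, ψ, h'⟩ := (Concrete.colimit_rep_eq_iff_exists (diagram A K) x y).mp h
  obtain ⟨Z, χ, hχ⟩ := exists_equalizer φ ψ
  refine ⟨Z, φ ≫ χ, ?_⟩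
  nth_rewrite 2 [hχ]
  exact congrArg χ.f h'

theorem exists_rep₂ (X : Nbhd A K) (b : Ring A K) :
    ∃ (Z : Nbhd A K) (_ : X ⟶ Z) (z : Z.ring), ι Z z = b := by
  obtain ⟨Y, y, rfl⟩ := exists_rep b
  obtain ⟨Z, φ, ψ, -⟩ := IsFilteredOrEmpty.cocone_objs X Y
  exact ⟨Z, φ, ψ.f y, ι_map ψ y⟩

theorem exists_rep_poly (X : Nbhd A K) (p : (Ring A K)[X]) :
    ∃ (Z : Nbhd A K) (_ : X ⟶ Z) (q : Z.ring[X]), q.map (ι Z : Z.ring →+* Ring A K) = p := by
  induction p using Polynomial.induction_on' generalizing X with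
  | add p q hp hq =>
    obtain ⟨Y, φ, p', rfl⟩ := hp X
    obtain ⟨Z, ψ, q', rfl⟩ := hq Y
    refine ⟨Z, φ ≫ ψ, p'.map (ψ.f : Y.ring →+* Z.ring) + q', ?_⟩
    rw [Polynomial.map_add, Polynomial.map_map]
    congr 2
    exact RingHom.ext fun y => ι_map ψ y
  | monomial k b =>
    obtain ⟨Z, φ, z, rfl⟩ := exists_rep₂ X b
    exact ⟨Z, φ, monomial k z, Polynomial.map_monomial _⟩

theorem desc_ι (c : Cocone (diagram A K)) (X : Nbhd A K) (x : X.ring) :
    (colimit.desc (diagram A K) c).hom (ιR X x) = (c.ι.app X).hom x :=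
  RingHom.congr_fun (congrArg CommRingCat.Hom.hom (colimit.ι_desc c X)) x

variable (A K)

def toKCocone : Cocone (diagram A K) :=
  { pt := CommRingCat.of K
    ι :=
      { app := fun X => CommRingCat.ofHom X.σ.toRingHom
        naturality := fun X Y φ => CommRingCat.hom_ext (RingHom.ext fun x => σ_f φ x) } }

def toK : Ring A K →ₐ[A] K :=
  { (colimit.desc (diagram A K) (toKCocone A K)).hom with
    commutes' := fun a => by
      let X := Classical.choice (nonempty A K)
      show (colimit.desc (diagram A K) (toKCocone A K)).hom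
        (ιR X (algebraMap A X.ring a)) = _
      rw [desc_ι]
      exact X.σ.commutes a }

variable {A K}

@[simp] theorem toK_ι (X : Nbhd A K) (x : X.ring) : toK A K (ι X x) = X.σ x := by
  show (colimit.desc (diagram A K) (toKCocone A K)).hom (ιR X x) = _
  rw [desc_ι]
  rfl

theorem isUnit_of_isUnit_toK {b : Ring A K} (h : IsUnit (toK A K b)) : IsUnit b := by
  obtain ⟨X, x, rfl⟩ := exists_rep b
  rw [toK_ι] at h
  obtain ⟨Z, e, he⟩ := exists_nbhd (Localization.Away x)
    (IsLocalization.Away.liftAlgHom (f := X.σ) x h)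
  let φ : X ⟶ Z := ⟨e.symm.toAlgHom.comp (IsScalarTower.toAlgHom A X.ring (Localization.Away x)), by
    ext y
    simp [he, IsLocalization.Away.liftAlgHom]⟩
  rw [← ι_map φ]
  exact ((IsLocalization.Away.algebraMap_isUnit x).map e.symm.toAlgHom).map (ι Z)

instance henselianRing : HenselianRing (Ring A K) (RingHom.ker (toK A K).toRingHom) where
  jac x hx := by
    rw [Ideal.mem_jacobson_bot]
    intro y
    refine isUnit_of_isUnit_toK ?_
    rw [map_add, map_mul, show toK A K x = 0 from hx, zero_mul, zero_add, map_one]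
    exact isUnit_one
  is_henselian f hf a₀ h₁ h₂ := by
    have hu : IsUnit (toK A K (f.derivative.eval a₀)) := by
      exact h₂.map (RingHom.kerLift (toK A K).toRingHom)
    rcases subsingleton_or_nontrivial (Ring A K) with hR | hR
    · exact ⟨a₀, Subsingleton.elim _ _, by simp⟩
    obtain ⟨X₀, x₀, rfl⟩ := exists_rep a₀
    obtain ⟨X₁, φ₁, f₁, hf₁⟩ := exists_rep_poly X₀ f
    obtain ⟨g, hgmap, -, hgm⟩ := Polynomial.lifts_and_degree_eq_and_monic
      (f := (ι X₁ : X₁.ring →+* Ring A K)) (p := f) ⟨f₁, hf₁⟩ hf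
    let a₁ := φ₁.f x₀
    let P : StandardEtalePair X₁.ring := ⟨g, hgm, derivative g, 1, 0, 1, by ring⟩
    let : Algebra X₁.ring K := X₁.σ.toRingHom.toAlgebra
    have : IsScalarTower A X₁.ring K := ⟨fun a y k => by
      show X₁.σ (a • y) * k = a • (X₁.σ y * k)
      rw [map_smul, smul_mul_assoc]⟩
    have hev : ∀ q : X₁.ring[X], X₁.σ (q.eval a₁) =
        toK A K ((q.map (ι X₁ : X₁.ring →+* Ring A K)).eval (ι X₀ x₀)) := fun q => by
      rw [← toK_ι, ← ι_map φ₁ x₀]
      exact congrArg _ (Polynomial.eval_map_apply (f := (ι X₁ : X₁.ring →+* Ring A K)) (p := q) a₁).symm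
    have hmap : P.HasMap (algebraMap X₁.ring K a₁) := by
      refine ⟨?_, ?_⟩
      · rw [aeval_algebraMap_apply_eq_algebraMap_eval]
        show X₁.σ (g.eval a₁) = 0
        rw [hev, hgmap]; exact h₁
      · rw [aeval_algebraMap_apply_eq_algebraMap_eval]
        show IsUnit (X₁.σ ((derivative g).eval a₁))
        rw [hev, ← derivative_map, hgmap]; exact hu
    let : Algebra A P.Ring := ((algebraMap X₁.ring P.Ring).comp (algebraMap A X₁.ring)).toAlgebra
    have : IsScalarTower A X₁.ring P.Ring := ⟨fun a y z => by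
      rw [Algebra.smul_def, Algebra.smul_def, Algebra.smul_def,
        show a • y = algebraMap A X₁.ring a * y from Algebra.smul_def a y, map_mul, mul_assoc]
      rfl⟩
    have : Algebra.Etale A P.Ring := Algebra.Etale.comp A X₁.ring P.Ring
    let σ' := P.lift _ hmap
    obtain ⟨Z, e, he⟩ := exists_nbhd P.Ring (σ'.restrictScalars A)
    let φ₂ : X₁ ⟶ Z := ⟨e.symm.toAlgHom.comp (IsScalarTower.toAlgHom A X₁.ring P.Ring), by
      ext y
      simp only [AlgHom.comp_apply, he, AlgEquiv.coe_toAlgHom, AlgEquiv.apply_symm_apply,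
        IsScalarTower.coe_toAlgHom', AlgHom.restrictScalars_apply, AlgHom.commutes]
      rfl⟩
    let j : P.Ring →+* Ring A K := (ι Z : Z.ring →+* Ring A K).comp e.symm.toAlgHom.toRingHom
    have hj : j.comp (algebraMap X₁.ring P.Ring) = (ι X₁ : X₁.ring →+* Ring A K) :=
      RingHom.ext fun y => ι_map φ₂ y
    refine ⟨j P.X, ?_, ?_⟩
    · show f.eval _ = 0
      rw [← hgmap, ← hj, Polynomial.eval_map, ← hom_eval₂]
      have h0 : Polynomial.eval₂ (algebraMap X₁.ring P.Ring) P.X g = 0 := StandardEtalePair.hasMap_X.1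
      rw [h0, map_zero]
    · show toK A K (j P.X - ι X₀ x₀) = 0
      rw [map_sub, sub_eq_zero, toK_ι, ← σ_f φ₁]
      show toK A K (ι Z (e.symm P.X)) = _
      rw [toK_ι, he, AlgEquiv.apply_symm_apply]
      show σ' P.X = _
      erw [StandardEtalePair.lift_X]
      rfl

set_option maxHeartbeats 1000000 in
instance flat : Module.Flat A (Ring A K) := by
  rw [Module.Flat.iff_rTensor_injective']
  intro I
  have hcomp : ∀ {Y Z : Nbhd A K} (φ : Y ⟶ Z),
      (ι Z).toLinearMap.comp φ.f.toLinearMap = (ι Y).toLinearMap :=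
    fun φ => LinearMap.ext fun y => ι_map φ y
  have key : ∀ z : (I : Type u) ⊗[A] Ring A K, ∃ (X : Nbhd A K) (w : (I : Type u) ⊗[A] X.ring),
      LinearMap.lTensor I (ι X).toLinearMap w = z := by
    intro z
    induction z with
    | zero => exact ⟨Classical.choice (nonempty A K), 0, map_zero _⟩
    | tmul i b =>
      obtain ⟨X, x, rfl⟩ := exists_rep b
      exact ⟨X, i ⊗ₜ x, LinearMap.lTensor_tmul _ _ _ _⟩
    | add a b ha hb =>
      obtain ⟨X, u, rfl⟩ := ha
      obtain ⟨Y, v, rfl⟩ := hb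
      obtain ⟨Z, φ, ψ, -⟩ := IsFilteredOrEmpty.cocone_objs X Y
      refine ⟨Z, LinearMap.lTensor I φ.f.toLinearMap u + LinearMap.lTensor I ψ.f.toLinearMap v, ?_⟩
      rw [map_add, ← LinearMap.lTensor_comp_apply, ← LinearMap.lTensor_comp_apply]
      rw [hcomp φ, hcomp ψ]
  rw [injective_iff_map_eq_zero]
  intro z hz
  obtain ⟨X, w, rfl⟩ := key z
  let c : ∀ Y : Nbhd A K, (I : Type u) ⊗[A] Y.ring →ₗ[A] Y.ring := fun Y =>
    (TensorProduct.lid A Y.ring).toLinearMap.comp (LinearMap.rTensor Y.ring I.subtype)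
  have hc : ∀ {Y Z : Nbhd A K} (φ : Y ⟶ Z) (w : (I : Type u) ⊗[A] Y.ring),
      c Z (LinearMap.lTensor I φ.f.toLinearMap w) = φ.f (c Y w) := by
    intro Y Z φ w
    induction w with
    | zero => simp
    | tmul i y => simp [c]
    | add a b ha hb => simp only [map_add, ha, hb]
  have hι : ι X (c X w) = 0 := by
    have h := congrArg (TensorProduct.lid A (Ring A K)) hz
    rw [map_zero] at h
    rw [← h]
    clear h hz
    induction w with
    | zero => simp
    | tmul i y => simp [c]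
    | add a b ha hb => simp only [map_add, ha, hb]
  obtain ⟨Z, φ, hφ⟩ := exists_of_eq (x := c X w) (y := 0) (by rw [hι, map_zero])
  rw [← hc, map_zero] at hφ
  have hinj : Function.Injective (c Z) :=
    (TensorProduct.lid A Z.ring).injective.comp
      (Module.Flat.rTensor_preserves_injective_linearMap _ I.injective_subtype)
  have h0 : LinearMap.lTensor I φ.f.toLinearMap w = 0 := hinj (hφ.trans (map_zero _).symm)
  have he : LinearMap.lTensor I (ι X).toLinearMap w =
      LinearMap.lTensor I (ι Z).toLinearMap (LinearMap.lTensor I φ.f.toLinearMap w) := by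
    rw [← LinearMap.lTensor_comp_apply]
    rw [hcomp φ]
  rw [he, h0, map_zero]

variable (A K)

/-- Universal property: `Ring A K` is initial among Henselian pairs receiving `A` and `K`. -/
theorem existsUnique_lift (C : Type u) [CommRing C] [Algebra A C] (J : Ideal C)
    [HenselianRing C J] (τ : K →ₐ[A] C ⧸ J) :
    ∃! g : Ring A K →ₐ[A] C, (Ideal.Quotient.mkₐ A J).comp g = τ.comp (toK A K) := by
  choose g hg using fun X : Nbhd A K =>
    (H4HenselPair.algHom_bijective_of_etale (A := A) C J X.ring).surjective (τ.comp X.σ)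
  have huniq : ∀ (X : Nbhd A K) (g' : X.ring →ₐ[A] C),
      (Ideal.Quotient.mkₐ A J).comp g' = τ.comp X.σ → g' = g X := fun X g' h =>
    (H4HenselPair.algHom_bijective_of_etale (A := A) C J X.ring).injective (h.trans (hg X).symm)
  let c : Cocone (diagram A K) :=
    { pt := CommRingCat.of C
      ι :=
        { app := fun X => CommRingCat.ofHom (g X).toRingHom
          naturality := fun X Y φ => CommRingCat.hom_ext (RingHom.ext fun x => by
            show g Y (φ.f x) = g X x
            rw [← huniq X ((g Y).comp φ.f) (AlgHom.ext fun y => by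
              have := AlgHom.congr_fun (hg Y) (φ.f y)
              simpa [σ_f] using this)]
            rfl) } }
  let G : Ring A K →+* C := (colimit.desc (diagram A K) c).hom
  have hG : ∀ X x, G (ι X x) = g X x := fun X x => by
    show (colimit.desc (diagram A K) c).hom (ιR X x) = _
    rw [desc_ι]
    rfl
  refine ⟨{ G with commutes' := fun a => ?_ }, AlgHom.ext fun b => ?_, fun g' hg' => ?_⟩
  · let X := Classical.choice (nonempty A K)
    show G (algebraMap A _ a) = _
    rw [← (ι X).commutes a, hG, AlgHom.commutes]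
  · obtain ⟨X, x, rfl⟩ := exists_rep b
    show Ideal.Quotient.mk J (G (ι X x)) = τ (toK A K (ι X x))
    rw [hG, toK_ι]
    exact AlgHom.congr_fun (hg X) x
  · refine AlgHom.ext fun b => ?_
    obtain ⟨X, x, rfl⟩ := exists_rep b
    show g' (ι X x) = G (ι X x)
    rw [hG, ← huniq X (g'.comp (ι X)) (AlgHom.ext fun y => by
      have := AlgHom.congr_fun hg' (ι X y)
      simpa using this)]
    rfl

end Groth.Agent.H4Henzn
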