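import Mathlib
import Groth.Prelude.Def_Hensel
import Groth.Agent.Lib.H4Henselization

/-! Henselization and strict henselization of a local ring. -/

set_option autoImplicit false

universe u

noncomputable section

namespace Groth.Agent.H4Henzn

open IsLocalRing Polynomial

variable {A K : Type u} [CommRing A] [IsLocalRing A] [Field K] [Algebra A K]
  [Algebra (ResidueField A) K] [IsScalarTower A (ResidueField A) K]

theorem algebraMap_eq_zero_iff_mem {a : A} :
    algebraMap A K a = 0 ↔ a ∈ maximalIdeal A := by
  rw [IsScalarTower.algebraMap_apply A (ResidueField A) K, map_eq_zero_iff _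
    (algebraMap (ResidueField A) K).injective, ResidueField.algebraMap_eq, residue_eq_zero_iff]

instance isLocalRing_ring : IsLocalRing (Ring A K) := by
  have : Nontrivial (Ring A K) := (toK A K).toRingHom.domain_nontrivial
  refine IsLocalRing.of_isUnit_or_isUnit_one_sub_self fun b => ?_
  by_cases h : toK A K b = 0
  · exact Or.inr (isUnit_of_isUnit_toK (by simp [h]))
  · exact Or.inl (isUnit_of_isUnit_toK (isUnit_iff_ne_zero.mpr h))

omit [IsLocalRing A] in
theorem maximalIdeal_ring [IsLocalRing (Ring A K)] :
    maximalIdeal (Ring A K) = RingHom.ker (toK A K).toRingHom := by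
  ext b
  rw [mem_maximalIdeal, mem_nonunits_iff, RingHom.mem_ker]
  exact ⟨fun h => by_contra fun hb => h (isUnit_of_isUnit_toK (isUnit_iff_ne_zero.mpr hb)),
    fun h hu => not_isUnit_zero (h ▸ hu.map (toK A K).toRingHom)⟩

theorem residue_ring_eq_zero_iff [IsLocalRing (Ring A K)] {b : Ring A K} : residue (Ring A K) b = 0 ↔ toK A K b = 0 := by
  rw [residue_eq_zero_iff, maximalIdeal_ring]; rfl

instance henselianLocalRing_ring : HenselianLocalRing (Ring A K) :=
  H4HenselPair.henselianLocalRing_of_henselianRing (by
    rw [maximalIdeal_ring]; exact henselianRing)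

instance isLocalHom_algebraMap_ring : IsLocalHom (algebraMap A (Ring A K)) := by
  refine ⟨fun a ha => ?_⟩
  by_contra hn
  have h := ha.map (toK A K)
  rw [AlgHom.commutes, algebraMap_eq_zero_iff_mem.mpr hn] at h
  exact not_isUnit_zero h

theorem map_maximalIdeal_ring :
    (maximalIdeal A).map (algebraMap A (Ring A K)) = maximalIdeal (Ring A K) := by
  refine le_antisymm ((local_hom_TFAE (algebraMap A (Ring A K))).out 0 2 rfl rfl |>.mp
    inferInstance) fun b hb => ?_
  obtain ⟨X, x, rfl⟩ := exists_rep b
  rw [maximalIdeal_ring, RingHom.mem_ker] at hb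
  replace hb : X.σ x = 0 := by
    rw [← toK_ι]; exact hb
  let q : Ideal X.ring := RingHom.ker X.σ.toRingHom
  have : q.IsPrime := RingHom.ker_isPrime _
  let L := Localization.AtPrime q
  have : IsLocalHom (algebraMap A L) := by
    refine ⟨fun a ha => ?_⟩
    by_contra hn
    rw [IsScalarTower.algebraMap_apply A X.ring L,
      IsLocalization.AtPrime.isUnit_to_map_iff L q] at ha
    refine ha ?_
    show X.σ (algebraMap A X.ring a) = 0
    rw [AlgHom.commutes, algebraMap_eq_zero_iff_mem.mpr hn]
  have : Algebra.FormallyUnramified X.ring L :=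
    Algebra.FormallyUnramified.of_isLocalization q.primeCompl
  have : Algebra.FormallyUnramified A L := Algebra.FormallyUnramified.comp A X.ring L
  have : Algebra.EssFiniteType X.ring L := Algebra.EssFiniteType.of_isLocalization L q.primeCompl
  have : Algebra.EssFiniteType A L := Algebra.EssFiniteType.comp A X.ring L
  have hm := Algebra.FormallyUnramified.map_maximalIdeal (R := A) (S := L)
  have hx : algebraMap X.ring L x ∈ maximalIdeal L := by
    rw [IsLocalization.AtPrime.to_map_mem_maximal_iff L q]
    exact hb
  rw [← hm, IsScalarTower.algebraMap_eq A X.ring L, ← Ideal.map_map,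
    IsLocalization.algebraMap_mem_map_algebraMap_iff q.primeCompl] at hx
  obtain ⟨s, hs, hsx⟩ := hx
  have hu : IsUnit (ι X s) := isUnit_of_isUnit_toK (by
    rw [toK_ι]; exact isUnit_iff_ne_zero.mpr hs)
  have h := Ideal.mem_map_of_mem (ι X : X.ring →+* Ring A K) hsx
  rw [Ideal.map_map, show (ι X : X.ring →+* Ring A K).comp (algebraMap A X.ring) =
    algebraMap A (Ring A K) from (ι X).comp_algebraMap, map_mul] at h
  exact (Ideal.unit_mul_mem_iff_mem _ hu).mp h

theorem toK_surjective [Algebra.IsSeparable (ResidueField A) K] :
    Function.Surjective (toK A K) := by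
  intro θ
  let p := minpoly (ResidueField A) θ
  have hp : p.Monic := minpoly.monic (Algebra.IsIntegral.isIntegral θ)
  obtain ⟨g, hg, -, hgm⟩ := Polynomial.lifts_and_degree_eq_and_monic
    (f := residue A) (p := p) (Polynomial.map_surjective _ residue_surjective p) hp
  let P : StandardEtalePair A := ⟨g, hgm, derivative g, 1, 0, 1, by ring⟩
  have hev : ∀ q : A[X], aeval θ q = aeval θ (q.map (residue A)) := fun q =>
    (aeval_map_algebraMap (ResidueField A) θ q).symm
  have hmap : P.HasMap θ := by
    refine ⟨?_, ?_⟩
    · show aeval θ g = 0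
      rw [hev, hg]; exact minpoly.aeval _ _
    · show IsUnit (aeval θ (derivative g))
      rw [hev, ← derivative_map, hg]
      exact isUnit_iff_ne_zero.mpr ((Algebra.IsSeparable.isSeparable (ResidueField A) θ).aeval_derivative_ne_zero (minpoly.aeval _ _))
  obtain ⟨Z, e, he⟩ := exists_nbhd P.Ring (P.lift θ hmap)
  refine ⟨ι Z (e.symm P.X), ?_⟩
  rw [toK_ι, he, AlgEquiv.apply_symm_apply]
  exact P.lift_X θ hmap

variable (A K)

/-- The residue field of `Ring A K`. -/
def resEquiv [Algebra.IsSeparable (ResidueField A) K] : ResidueField (Ring A K) ≃+* K :=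
  (Ideal.quotEquivOfEq (maximalIdeal_ring (A := A) (K := K))).trans
    (RingHom.quotientKerEquivOfSurjective (f := (toK A K).toRingHom) toK_surjective)

variable {A K}

@[simp] theorem resEquiv_residue [Algebra.IsSeparable (ResidueField A) K] (b : Ring A K) :
    resEquiv A K (residue (Ring A K) b) = toK A K b := rfl

@[simp] theorem resEquiv_symm_toK [Algebra.IsSeparable (ResidueField A) K] (b : Ring A K) :
    (resEquiv A K).symm (toK A K b) = residue (Ring A K) b := by
  rw [← resEquiv_residue, RingEquiv.symm_apply_apply]

/-- Universal property in terms of residue fields. -/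
theorem existsUnique_lift_local {T : Type u} [CommRing T] [HenselianLocalRing T] [Algebra A T]
    (τ : K →ₐ[A] ResidueField T) :
    ∃! g : Ring A K →ₐ[A] T, ∀ b, residue T (g b) = τ (toK A K b) := by
  obtain ⟨g, hg, hu⟩ := existsUnique_lift A K T (maximalIdeal T) τ
  exact ⟨g, fun b => AlgHom.congr_fun hg b, fun g' hg' => hu g' (AlgHom.ext hg')⟩

theorem existsUnique_lift_residue [Algebra.IsSeparable (ResidueField A) K]
    (T : Type u) [CommRing T] [HenselianLocalRing T] (f : A →+* T) [IsLocalHom f]
    (τ : ResidueField (Ring A K) →+* ResidueField T)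
    (hτ : τ.comp (ResidueField.map (algebraMap A (Ring A K))) = ResidueField.map f) :
    ∃! g : Ring A K →+* T, g.comp (algebraMap A (Ring A K)) = f ∧
      ∀ x, residue T (g x) = τ (residue _ x) := by
  let : Algebra A T := f.toAlgebra
  let τ' : K →ₐ[A] ResidueField T :=
    { τ.comp (resEquiv A K).symm.toRingHom with
      commutes' := fun a => by
        show τ ((resEquiv A K).symm (algebraMap A K a)) = _
        rw [← (toK A K).commutes a, resEquiv_symm_toK]
        exact RingHom.congr_fun hτ (residue A a) }
  obtain ⟨g, hg, hu⟩ := existsUnique_lift_local τ'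
  refine ⟨g.toRingHom, ⟨g.comp_algebraMap, fun x => ?_⟩, ?_⟩
  · rw [show residue T (g.toRingHom x) = residue T (g x) from rfl, hg]
    show τ ((resEquiv A K).symm (toK A K x)) = _
    rw [resEquiv_symm_toK]
  · rintro g' ⟨h1, h2⟩
    have := hu { g' with commutes' := fun a => RingHom.congr_fun h1 a } fun b => by
      show residue T (g' b) = τ ((resEquiv A K).symm (toK A K b))
      rw [resEquiv_symm_toK, h2]
    exact congrArg AlgHom.toRingHom this

theorem isSepClosure_residueField [IsSepClosure (ResidueField A) K] :
    IsSepClosure (ResidueField A) (ResidueField (Ring A K)) := by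
  have hsep : IsSepClosed K := IsSepClosure.sep_closed (ResidueField A)
  have : Algebra.IsSeparable (ResidueField A) K := IsSepClosure.separable
  let e : ResidueField (Ring A K) ≃ₐ[ResidueField A] K :=
    AlgEquiv.ofRingEquiv (f := resEquiv A K) fun c => by
      obtain ⟨a, rfl⟩ := residue_surjective c
      show resEquiv A K (residue _ (algebraMap A (Ring A K) a)) = _
      rw [resEquiv_residue, AlgHom.commutes, IsScalarTower.algebraMap_apply A (ResidueField A) K]
      rfl
  refine ⟨?_, Algebra.IsSeparable.of_algHom _ _ e.toAlgHom⟩
  refine IsSepClosed.of_exists_root _ fun p hp hirr hs => ?_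
  obtain ⟨x, hx⟩ := IsSepClosed.exists_root (p.map (resEquiv A K).toRingHom)
    (by
      rw [degree_map]
      exact (degree_pos_of_irreducible hirr).ne')
    (hs.map)
  refine ⟨(resEquiv A K).symm x, (resEquiv A K).injective ?_⟩
  rw [map_zero]
  refine Eq.trans ?_ hx
  rw [eval_map]
  refine Eq.trans ?_ (congrArg (fun y => eval₂ _ y p) ((resEquiv A K).apply_symm_apply x))
  exact (eval₂_at_apply (resEquiv A K).toRingHom _).symm

instance isStrictHenselization_ring [IsSepClosure (ResidueField A) K] :
    Hensel.IsStrictHenselization A (Ring A K) :=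
  have : Algebra.IsSeparable (ResidueField A) K := IsSepClosure.separable
  { henselian := inferInstance
    isSepClosure := isSepClosure_residueField
    universal := fun T _ _ f _ τ hτ => existsUnique_lift_residue T f τ hτ }

instance isHenselization_ring : Hensel.IsHenselization A (Ring A (ResidueField A)) where
  henselian := inferInstance
  universal := fun T _ _ f hf => by
    let : Algebra A T := f.toAlgebra
    let τ : ResidueField A →ₐ[A] ResidueField T :=
      { ResidueField.map f with commutes' := fun a => rfl }
    obtain ⟨g, hg, hu⟩ := existsUnique_lift_local τ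
    refine ⟨g.toRingHom, g.comp_algebraMap, fun g' hg' => ?_⟩
    have := hu { g' with commutes' := fun a => RingHom.congr_fun hg' a } fun b => by
      obtain ⟨a, ha⟩ := residue_surjective (toK A (ResidueField A) b)
      have hk : b - algebraMap A (Ring A (ResidueField A)) a ∈
          (maximalIdeal A).map (algebraMap A (Ring A (ResidueField A))) := by
        rw [map_maximalIdeal_ring, maximalIdeal_ring, RingHom.mem_ker]
        show toK A _ (b - _) = 0
        rw [map_sub, AlgHom.commutes, ← ha, ResidueField.algebraMap_eq, sub_self]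
      have h := Ideal.mem_map_of_mem g' hk
      rw [Ideal.map_map, hg'] at h
      have h' : g' b - f a ∈ maximalIdeal T := by
        rw [← hg', RingHom.comp_apply, ← map_sub]
        exact ((local_hom_TFAE f).out 0 2 rfl rfl).mp hf h
      show residue T (g' b) = ResidueField.map f (toK A _ b)
      rw [← ha, ResidueField.map_residue, ← sub_eq_zero, ← map_sub, residue_eq_zero_iff]
      exact h'
    exact congrArg AlgHom.toRingHom this

variable (A) (S : Type u) [CommRing S] [IsLocalRing S] [Algebra A S] [IsLocalHom (algebraMap A S)]

/-- Every henselization is isomorphic to the constructed one. -/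
theorem exists_algEquiv_henselization [hS : Hensel.IsHenselization A S] :
    Nonempty (Ring A (ResidueField A) ≃ₐ[A] S) := by
  have := hS.henselian
  have hR := isHenselization_ring (A := A)
  obtain ⟨g, hg, -⟩ := hR.universal S (algebraMap A S) inferInstance
  obtain ⟨h, hh, -⟩ :=
    hS.universal (Ring A (ResidueField A)) (algebraMap A _) inferInstance
  have h1 : g.comp h = RingHom.id S :=
    (hS.universal S (algebraMap A S) inferInstance).unique
      (by rw [RingHom.comp_assoc, hh, hg]) (RingHom.id_comp _)
  have h2 : h.comp g = RingHom.id _ :=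
    (hR.universal _ (algebraMap A (Ring A (ResidueField A))) inferInstance).unique
      (by rw [RingHom.comp_assoc, hg, hh]) (RingHom.id_comp _)
  exact ⟨AlgEquiv.ofRingEquiv (f := RingEquiv.ofRingHom g h h1 h2) (RingHom.congr_fun hg)⟩

/-- Every strict henselization is isomorphic to the constructed one. -/
theorem exists_algEquiv_strictHenselization [hS : Hensel.IsStrictHenselization A S] :
    Nonempty (Ring A (ResidueField S) ≃ₐ[A] S) := by
  have := hS.henselian
  have := hS.isSepClosure
  have hsep : Algebra.IsSeparable (ResidueField A) (ResidueField S) := IsSepClosure.separable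
  let r := resEquiv A (ResidueField S)
  have hr1 : r.toRingHom.comp (ResidueField.map (algebraMap A (Ring A (ResidueField S)))) =
      ResidueField.map (algebraMap A S) := by
    refine RingHom.ext fun c => ?_
    obtain ⟨a, rfl⟩ := residue_surjective c
    exact (toK A (ResidueField S)).commutes a
  have hr2 : r.symm.toRingHom.comp (ResidueField.map (algebraMap A S)) =
      ResidueField.map (algebraMap A (Ring A (ResidueField S))) := by
    rw [← hr1, ← RingHom.comp_assoc, RingEquiv.symm_toRingHom_comp_toRingHom, RingHom.id_comp]
  have hR := isStrictHenselization_ring (A := A) (K := ResidueField S)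
  obtain ⟨g, ⟨hg, hgr⟩, -⟩ := hR.universal S (algebraMap A S) r.toRingHom hr1
  obtain ⟨h, ⟨hh, hhr⟩, -⟩ :=
    hS.universal (Ring A (ResidueField S)) (algebraMap A _) r.symm.toRingHom hr2
  have h1 : g.comp h = RingHom.id S :=
    (hS.universal S (algebraMap A S) (RingHom.id _) (RingHom.id_comp _)).unique
      ⟨by rw [RingHom.comp_assoc, hh, hg], fun x => by
        show residue S (g (h x)) = residue S x
        rw [hgr, hhr]; exact r.apply_symm_apply _⟩ ⟨RingHom.id_comp _, fun _ => rfl⟩
  have h2 : h.comp g = RingHom.id _ :=
    (hR.universal _ (algebraMap A (Ring A (ResidueField S))) (RingHom.id _) (RingHom.id_comp _)).unique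
      ⟨by rw [RingHom.comp_assoc, hg, hh], fun x => by
        show residue _ (h (g x)) = residue _ x
        rw [hhr, hgr]; exact r.symm_apply_apply _⟩ ⟨RingHom.id_comp _, fun _ => rfl⟩
  exact ⟨AlgEquiv.ofRingEquiv (f := RingEquiv.ofRingHom g h h1 h2) (RingHom.congr_fun hg)⟩

end Groth.Agent.H4Henzn
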