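import Mathlib
import Groth.Agent.Lib.H4HenzLocal

/-! Flatness, dimension, Noetherianity, regularity of henselizations. -/

set_option autoImplicit false

universe u

noncomputable section

namespace Groth.Agent.H4Henzn

open IsLocalRing CategoryTheory

/-- A Noetherianity criterion for local rings. -/
theorem isNoetherianRing_of_closed_fg {H : Type u} [CommRing H] [IsLocalRing H]
    (hm : (maximalIdeal H).FG)
    (hcl : ∀ I : Ideal H, I.FG → ∀ x, (∀ n, x ∈ I ⊔ maximalIdeal H ^ n) → x ∈ I) :
    IsNoetherianRing H := by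
  obtain ⟨r, t, ht⟩ := (Submodule.fg_iff_exists_fin_generating_family).mp hm
  have htm : ∀ i, t i ∈ maximalIdeal H := fun i => ht ▸ Submodule.subset_span ⟨i, rfl⟩
  have hdeg : ∀ (n : ℕ) (P : MvPolynomial (Fin r) H), P.IsHomogeneous n →
      ∀ J : Ideal H, (∀ d, P.coeff d ∈ J) →
      MvPolynomial.aeval t P ∈ J * maximalIdeal H ^ n := by
    intro n P hP J hJ
    rw [MvPolynomial.aeval_def, MvPolynomial.eval₂_eq]
    refine Ideal.sum_mem _ fun d hd => Ideal.mul_mem_mul (hJ d) ?_
    have hn : ∑ i ∈ d.support, d i = n := by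
      have := hP (MvPolynomial.mem_support_iff.mp hd)
      rw [← this]; simp [Finsupp.weight_apply, Finsupp.sum]
    rw [← hn, ← Finset.prod_pow_eq_pow_sum]
    exact Ideal.prod_mem_prod fun i _ => Ideal.pow_mem_pow (htm i) _
  have hrep : ∀ n : ℕ, ∀ x ∈ maximalIdeal H ^ n, ∃ P : MvPolynomial (Fin r) H,
      P.IsHomogeneous n ∧ MvPolynomial.aeval t P = x := by
    intro n
    induction n with
    | zero => exact fun x _ => ⟨.C x, MvPolynomial.isHomogeneous_C _ _, by simp⟩
    | succ n ih =>
      intro x hx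
      rw [pow_succ] at hx
      induction hx using Submodule.mul_induction_on' with
      | mem_mul_mem a ha b hb =>
        obtain ⟨P, hP, hPa⟩ := ih a ha
        rw [← ht, Submodule.mem_span_range_iff_exists_fun] at hb
        obtain ⟨c, hc⟩ := hb
        refine ⟨P * ∑ i, .C (c i) * .X i, hP.mul ?_, ?_⟩
        · exact MvPolynomial.IsHomogeneous.sum _ _ _ fun i _ =>
            (MvPolynomial.isHomogeneous_X H i).C_mul (c i)
        · simp [← hPa, ← hc, map_sum, MvPolynomial.aeval_eq_eval]
      | add a _ b _ ha hb =>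
        obtain ⟨P, hP, rfl⟩ := ha
        obtain ⟨Q, hQ, rfl⟩ := hb
        exact ⟨P + Q, hP.add hQ, map_add _ _ _⟩
  refine (isNoetherianRing_iff_ideal_fg H).mpr fun I => ?_
  let κ := ResidueField H
  let G : Set (MvPolynomial (Fin r) κ) := {q | ∃ (d : ℕ) (P : MvPolynomial (Fin r) H),
    P.IsHomogeneous d ∧ P.map (residue H) = q ∧ MvPolynomial.aeval t P ∈ I ⊔ maximalIdeal H ^ (d + 1)}
  obtain ⟨s, hsG, hs⟩ := (Submodule.fg_span_iff_fg_span_finset_subset G).mp
    (IsNoetherian.noetherian (Submodule.span (MvPolynomial (Fin r) κ) G))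
  choose d P hP hPq hPI using hsG
  choose g hg w hw hgw using fun q : MvPolynomial (Fin r) κ => fun hq : q ∈ s =>
    Submodule.mem_sup.mp (hPI hq)
  let g' : s → H := fun q => g q.1 q.2
  let I₀ : Ideal H := Ideal.span (Set.range g')
  have hI₀I : I₀ ≤ I := Ideal.span_le.mpr (by rintro _ ⟨q, rfl⟩; exact hg q.1 q.2)
  have step : ∀ n : ℕ, ∀ x ∈ I, x ∈ maximalIdeal H ^ n →
      x ∈ I₀ ⊔ (I ⊓ maximalIdeal H ^ (n + 1)) := by
    intro n x hxI hxn
    obtain ⟨Q, hQ, hQx⟩ := hrep n x hxn
    have hQG : Q.map (residue H) ∈ Submodule.span (MvPolynomial (Fin r) κ) G :=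
      Submodule.subset_span ⟨n, Q, hQ, rfl, hQx ▸ Ideal.mem_sup_left hxI⟩
    rw [hs, Submodule.mem_span_finset'] at hQG
    obtain ⟨c, hc⟩ := hQG
    choose C hC using fun q : s => MvPolynomial.map_surjective (residue H) residue_surjective (c q)
    let C' : s → MvPolynomial (Fin r) H := fun q =>
      if d q.2 ≤ n then MvPolynomial.homogeneousComponent (n - d q.2) (C q) else 0
    let R := Q - ∑ q : s, C' q * P q.2
    have hR : R.IsHomogeneous n := by
      refine (MvPolynomial.homogeneousSubmodule (Fin r) H n).sub_mem hQ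
        ((MvPolynomial.homogeneousSubmodule (Fin r) H n).sum_mem fun q _ => ?_)
      simp only [C', MvPolynomial.mem_homogeneousSubmodule]
      split_ifs with h
      · have := (MvPolynomial.homogeneousComponent_isHomogeneous (n - d q.2) (C q)).mul (hP q.2)
        rwa [Nat.sub_add_cancel h] at this
      · rw [zero_mul]; exact MvPolynomial.isHomogeneous_zero _ _ _
    have hmapComp : ∀ (k : ℕ) (F : MvPolynomial (Fin r) H),
        (MvPolynomial.homogeneousComponent k F).map (residue H) =
          MvPolynomial.homogeneousComponent k (F.map (residue H)) := fun k F => by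
      ext e
      simp only [MvPolynomial.coeff_map, MvPolynomial.coeff_homogeneousComponent]
      split_ifs <;> simp
    have hkey : R.map (residue H) = 0 := by
      have h0 := congrArg (MvPolynomial.homogeneousComponent n) hc
      rw [map_sum] at h0
      rw [map_sub, map_sum, sub_eq_zero]
      have hQ' : MvPolynomial.homogeneousComponent n (Q.map (residue H)) = Q.map (residue H) := by
        rw [← hmapComp, MvPolynomial.homogeneousComponent_of_mem hQ, if_pos rfl]
      rw [← hQ', ← h0]
      refine Finset.sum_congr rfl fun q _ => ?_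
      have hq : (q : MvPolynomial (Fin r) κ).IsHomogeneous (d q.2) := by
        have := (hP q.2).map (residue H); rwa [hPq q.2] at this
      rw [smul_eq_mul, map_mul (MvPolynomial.map (residue H)), hPq q.2]
      conv_lhs => rw [← MvPolynomial.sum_homogeneousComponent (c q), Finset.sum_mul, map_sum]
      simp only [C']
      have hcomp : ∀ k, MvPolynomial.homogeneousComponent n
          (MvPolynomial.homogeneousComponent k (c q) * (q : MvPolynomial (Fin r) κ)) =
          if n = k + d q.2 then MvPolynomial.homogeneousComponent k (c q) * q else 0 := fun k =>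
        MvPolynomial.homogeneousComponent_of_mem
          ((MvPolynomial.homogeneousComponent_isHomogeneous k (c q)).mul hq)
      simp only [hcomp]
      split_ifs with h
      · rw [hmapComp, hC, Finset.sum_eq_single (n - d q.2)]
        · rw [if_pos (Nat.sub_add_cancel h).symm]
        · intro k _ hk; rw [if_neg (by omega)]
        · intro hk
          rw [Finset.mem_range, not_lt] at hk
          rw [MvPolynomial.homogeneousComponent_eq_zero _ _ (by omega)]
          simp
      · simp only [map_zero, zero_mul]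
        refine Finset.sum_eq_zero fun k _ => ?_
        rw [if_neg (by omega)]
    have hR2 : MvPolynomial.aeval t R ∈ maximalIdeal H ^ (n + 1) := by
      rw [pow_succ']
      refine hdeg n R hR _ fun e => ?_
      rw [← residue_eq_zero_iff, ← MvPolynomial.coeff_map, hkey, MvPolynomial.coeff_zero]
    let y := ∑ q : s, MvPolynomial.aeval t (C' q) * g' q
    have hy : y ∈ I₀ := Ideal.sum_mem _ fun q _ =>
      I₀.mul_mem_left _ (Ideal.subset_span ⟨q, rfl⟩)
    refine Submodule.mem_sup.mpr ⟨y, hy, x - y, ⟨I.sub_mem hxI (hI₀I hy), ?_⟩, by ring⟩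
    have hxy : x - y = MvPolynomial.aeval t R +
        ∑ q : s, MvPolynomial.aeval t (C' q) * w q.1 q.2 := by
      simp only [R, y, g', map_sub, map_sum, map_mul, hQx]
      rw [sub_add, ← Finset.sum_sub_distrib]
      congr 1
      refine Finset.sum_congr rfl fun q _ => ?_
      rw [← hgw q.1 q.2]; ring
    rw [hxy]
    refine Ideal.add_mem _ hR2 (Ideal.sum_mem _ fun q _ => ?_)
    simp only [C']
    split_ifs with h
    · have h1 := hdeg _ _ (MvPolynomial.homogeneousComponent_isHomogeneous (n - d q.2) (C q)) ⊤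
        (fun _ => trivial)
      rw [Ideal.top_mul] at h1
      have h2 := Ideal.mul_mem_mul h1 (hw q.1 q.2)
      rwa [← pow_add, show n - d q.2 + (d q.2 + 1) = n + 1 by omega] at h2
    · simp
  have hle : ∀ n, I ≤ I₀ ⊔ (I ⊓ maximalIdeal H ^ n) := by
    intro n
    induction n with
    | zero => simp
    | succ n ih =>
      refine ih.trans (sup_le le_sup_left ?_)
      exact fun x hx => step n x hx.1 hx.2
  have hfg : I₀.FG := Submodule.fg_span (Set.finite_range g')
  have : I = I₀ := le_antisymm (fun x hx => hcl I₀ hfg x fun n =>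
    sup_le le_sup_left ((inf_le_right (a := I)).trans le_sup_right) (hle n hx)) hI₀I
  exact this ▸ hfg

/-- Krull intersection. -/
theorem mem_of_forall_mem_sup_pow {L : Type u} [CommRing L] [IsLocalRing L] [IsNoetherianRing L]
    (J : Ideal L) {x : L} (h : ∀ n, x ∈ J ⊔ maximalIdeal L ^ n) : x ∈ J := by
  by_cases htop : J = ⊤
  · rw [htop]; trivial
  have : Nontrivial (L ⧸ J) := Ideal.Quotient.nontrivial_iff.mpr htop
  have : IsLocalRing (L ⧸ J) := .of_surjective' _ Ideal.Quotient.mk_surjective
  rw [← Ideal.Quotient.eq_zero_iff_mem, ← Submodule.mem_bot (L ⧸ J),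
    ← Ideal.iInf_pow_eq_bot_of_isLocalRing ((maximalIdeal L).map (Ideal.Quotient.mk J))
      (by
        rw [IsLocalRing.map_maximalIdeal_of_surjective _ Ideal.Quotient.mk_surjective]
        exact (maximalIdeal.isMaximal _).ne_top), Ideal.mem_iInf]
  intro n
  rw [← Ideal.map_pow]
  have h' := Ideal.mem_map_of_mem (Ideal.Quotient.mk J) (h n)
  rwa [Ideal.map_sup, Ideal.map_quotient_self, bot_sup_eq] at h'

variable {A K : Type u} [CommRing A] [Field K] [Algebra A K]

theorem exists_mem_map {X : Nbhd A K} {J : Ideal X.ring} {b : Ring A K}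
    (hb : b ∈ J.map (ι X : X.ring →+* Ring A K)) :
    ∃ (Z : Nbhd A K) (φ : X ⟶ Z) (z : Z.ring), z ∈ J.map (φ.f : X.ring →+* Z.ring) ∧
      ι Z z = b := by
  induction hb using Submodule.span_induction with
  | mem b hb =>
    obtain ⟨x, hx, rfl⟩ := hb
    exact ⟨X, 𝟙 X, x, Ideal.mem_map_of_mem _ hx, rfl⟩
  | zero => exact ⟨X, 𝟙 X, 0, zero_mem _, map_zero _⟩
  | add a b _ _ ha hb =>
    obtain ⟨Y₁, φ₁, y₁, hy₁, rfl⟩ := ha
    obtain ⟨Y₂, φ₂, y₂, hy₂, rfl⟩ := hb
    obtain ⟨Z, ψ₁, ψ₂, -⟩ := IsFilteredOrEmpty.cocone_objs Y₁ Y₂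
    obtain ⟨W, χ, hχ⟩ := exists_equalizer (φ₁ ≫ ψ₁) (φ₂ ≫ ψ₂)
    refine ⟨W, φ₁ ≫ ψ₁ ≫ χ, (ψ₁ ≫ χ).f y₁ + (ψ₂ ≫ χ).f y₂, Ideal.add_mem _ ?_ ?_, ?_⟩
    · have h := Ideal.mem_map_of_mem ((ψ₁ ≫ χ).f : Y₁.ring →+* W.ring) hy₁
      rw [Ideal.map_map] at h
      exact h
    · have h := Ideal.mem_map_of_mem ((ψ₂ ≫ χ).f : Y₂.ring →+* W.ring) hy₂
      rw [Ideal.map_map] at h
      have e : φ₂ ≫ ψ₂ ≫ χ = φ₁ ≫ ψ₁ ≫ χ := by
        rw [← Category.assoc, ← Category.assoc, hχ]
      rw [← e]
      exact h
    · rw [map_add, ι_map, ι_map]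
  | smul c b _ hb =>
    obtain ⟨Y, φ, y, hy, rfl⟩ := hb
    obtain ⟨Z, ψ, z, rfl⟩ := exists_rep₂ Y c
    refine ⟨Z, φ ≫ ψ, z * ψ.f y, Ideal.mul_mem_left _ _ ?_, by rw [map_mul, ι_map]; rfl⟩
    have h := Ideal.mem_map_of_mem (ψ.f : Y.ring →+* Z.ring) hy
    rwa [Ideal.map_map] at h

variable [IsLocalRing A] [Algebra (ResidueField A) K] [IsScalarTower A (ResidueField A) K]

instance faithfullyFlat_ring : Module.FaithfullyFlat A (Ring A K) :=
  Module.FaithfullyFlat.of_flat_of_isLocalHom


omit [IsLocalRing A] [Algebra (ResidueField A) K] [IsScalarTower A (ResidueField A) K] in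
theorem mem_of_algebraMap_mem_map {L L' : Type u} [CommRing L] [CommRing L'] [IsLocalRing L]
    [IsLocalRing L'] [Algebra L L'] [Module.Flat L L'] [IsLocalHom (algebraMap L L')]
    {J : Ideal L} {x : L} (h : algebraMap L L' x ∈ J.map (algebraMap L L')) : x ∈ J := by
  have : Module.FaithfullyFlat L L' := Module.FaithfullyFlat.of_flat_of_isLocalHom
  rwa [← Ideal.comap_map_eq_self_of_faithfullyFlat (B := L') J]

theorem mem_localization_of_mem_map {X : Nbhd A K} [(RingHom.ker X.σ.toRingHom).IsPrime]
    {J : Ideal X.ring} {x : X.ring} (hx : ι X x ∈ J.map (ι X : X.ring →+* Ring A K)) :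
    algebraMap X.ring (Localization.AtPrime (RingHom.ker X.σ.toRingHom)) x ∈
      J.map (algebraMap X.ring (Localization.AtPrime (RingHom.ker X.σ.toRingHom))) := by
  obtain ⟨Z₀, φ₀, z, hz, hzx⟩ := exists_mem_map hx
  rw [← ι_map φ₀ x] at hzx
  obtain ⟨Z, ψ, hψ⟩ := exists_of_eq hzx
  let φ := φ₀ ≫ ψ
  have hφx : φ.f x ∈ J.map (φ.f : X.ring →+* Z.ring) := by
    have h := Ideal.mem_map_of_mem (ψ.f : Z₀.ring →+* Z.ring) hz
    rw [Ideal.map_map] at h
    show ψ.f (φ₀.f x) ∈ _
    rw [← hψ]
    exact h
  let : Algebra X.ring Z.ring := φ.f.toRingHom.toAlgebra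
  have : IsScalarTower A X.ring Z.ring := .of_algebraMap_eq fun a => (φ.f.commutes a).symm
  have : Algebra.Etale X.ring Z.ring := Algebra.Etale.of_restrictScalars A X.ring Z.ring
  let q' := RingHom.ker Z.σ.toRingHom
  have : q'.IsPrime := RingHom.ker_isPrime _
  have : q'.LiesOver (RingHom.ker X.σ.toRingHom) := by
    refine ⟨Ideal.ext fun y => ?_⟩
    show X.σ y = 0 ↔ Z.σ (φ.f y) = 0
    rw [σ_f]
  let := Localization.AtPrime.algebraOfLiesOver (RingHom.ker X.σ.toRingHom) q'
  have : IsLocalHom (algebraMap (Localization.AtPrime (RingHom.ker X.σ.toRingHom))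
      (Localization.AtPrime q')) := by
    rw [RingHom.algebraMap_toAlgebra]
    exact Localization.isLocalHom_localRingHom _ q' (algebraMap X.ring Z.ring) Ideal.LiesOver.over
  have : Module.Flat (Localization.AtPrime (RingHom.ker X.σ.toRingHom))
      (Localization.AtPrime q') := inferInstance
  have hcomp : (algebraMap (Localization.AtPrime (RingHom.ker X.σ.toRingHom))
      (Localization.AtPrime q')).comp (algebraMap X.ring _) =
      (algebraMap Z.ring (Localization.AtPrime q')).comp (φ.f : X.ring →+* Z.ring) := by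
    refine RingHom.ext fun y => ?_
    simp only [RingHom.comp_apply, RingHom.algebraMap_toAlgebra, Localization.localRingHom_to_map]
    rfl
  have h := Ideal.mem_map_of_mem (algebraMap Z.ring (Localization.AtPrime q')) hφx
  rw [Ideal.map_map] at h
  refine mem_of_algebraMap_mem_map (L := Localization.AtPrime (RingHom.ker X.σ.toRingHom))
    (L' := Localization.AtPrime q') ?_
  rw [Ideal.map_map, hcomp, ← RingHom.comp_apply, hcomp]
  exact h

instance isNoetherianRing_ring [IsNoetherianRing A] : IsNoetherianRing (Ring A K) := by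
  refine isNoetherianRing_of_closed_fg ?_ fun I hI x hx => ?_
  · rw [← map_maximalIdeal_ring]
    exact Ideal.FG.map (IsNoetherian.noetherian (maximalIdeal A)) _
  classical
  obtain ⟨k, g, hg⟩ := Submodule.fg_iff_exists_fin_generating_family.mp hI
  obtain ⟨X₀, x₀, hx₀⟩ := exists_rep x
  choose Y y hy using fun i => exists_rep (g i)
  obtain ⟨X, hX⟩ := IsFiltered.sup_objs_exists (insert X₀ (Finset.univ.image Y))
  obtain ⟨φ₀⟩ := hX (Finset.mem_insert_self _ _)
  have hY : ∀ i, Nonempty (Y i ⟶ X) := fun i => hX (by simp)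
  let xX := φ₀.f x₀
  let gX := fun i => (hY i).some.f (y i)
  have hxX : ι X xX = x := by rw [ι_map, hx₀]
  have hgX : ∀ i, ι X (gX i) = g i := fun i => by rw [ι_map, hy]
  let J : Ideal X.ring := Ideal.span (Set.range gX)
  have hJ : J.map (ι X : X.ring →+* Ring A K) = I := by
    rw [Ideal.map_span, ← hg, ← Set.range_comp]
    congr 1
    exact congrArg Set.range (funext hgX)
  have : (RingHom.ker X.σ.toRingHom).IsPrime := RingHom.ker_isPrime _
  let L := Localization.AtPrime (RingHom.ker X.σ.toRingHom)
  have : IsNoetherianRing X.ring := Algebra.FiniteType.isNoetherianRing A X.ring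
  have : IsNoetherianRing L :=
    IsLocalization.isNoetherianRing (RingHom.ker X.σ.toRingHom).primeCompl L inferInstance
  have key : ∀ n, algebraMap X.ring L xX ∈
      J.map (algebraMap X.ring L) ⊔ maximalIdeal L ^ n := by
    intro n
    have h : ι X xX ∈ (J ⊔ (maximalIdeal A).map (algebraMap A X.ring) ^ n).map
        (ι X : X.ring →+* Ring A K) := by
      rw [hxX, Ideal.map_sup, hJ, Ideal.map_pow, Ideal.map_map,
        show (ι X : X.ring →+* Ring A K).comp (algebraMap A X.ring) =
          algebraMap A (Ring A K) from (ι X).comp_algebraMap, map_maximalIdeal_ring]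
      exact hx n
    have h' := mem_localization_of_mem_map h
    rw [Ideal.map_sup, Ideal.map_pow, Ideal.map_map, ← IsScalarTower.algebraMap_eq] at h'
    have hle : (maximalIdeal A).map (algebraMap A L) ≤ maximalIdeal L := by
      rw [IsScalarTower.algebraMap_eq A X.ring L, ← Ideal.map_map,
        ← IsLocalization.AtPrime.map_eq_maximalIdeal (RingHom.ker X.σ.toRingHom) L]
      refine Ideal.map_mono (Ideal.map_le_iff_le_comap.mpr fun a ha => ?_)
      show X.σ (algebraMap A X.ring a) = 0
      rw [AlgHom.commutes, algebraMap_eq_zero_iff_mem.mpr ha]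
    exact SetLike.le_def.mp
      (sup_le le_sup_left ((Ideal.pow_right_mono hle n).trans le_sup_right)) h'
  have hxJ : algebraMap X.ring L xX ∈ J.map (algebraMap X.ring L) :=
    mem_of_forall_mem_sup_pow (L := L) _ key
  rw [IsLocalization.algebraMap_mem_map_algebraMap_iff
    (RingHom.ker X.σ.toRingHom).primeCompl] at hxJ
  obtain ⟨s, hs, hsx⟩ := hxJ
  have hu : IsUnit (ι X s) := isUnit_of_isUnit_toK (by
    rw [toK_ι]; exact isUnit_iff_ne_zero.mpr hs)
  have h := Ideal.mem_map_of_mem (ι X : X.ring →+* Ring A K) hsx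
  rw [hJ, map_mul] at h
  rw [← hxX]
  exact (Ideal.unit_mul_mem_iff_mem _ hu).mp h

theorem ringKrullDim_ring : ringKrullDim (Ring A K) = ringKrullDim A := by
  refine le_antisymm ?_ ?_
  · refine Order.krullDim_le_of_strictMono (PrimeSpectrum.comap (algebraMap A (Ring A K)))
      fun P Q hPQ => ?_
    refine lt_of_le_of_ne (fun a ha => hPQ.le ha) fun he => ?_
    obtain ⟨b, hbQ, hbP⟩ := SetLike.exists_of_lt (show P.asIdeal < Q.asIdeal from hPQ)
    obtain ⟨X, x, rfl⟩ := exists_rep b
    have hle : P.asIdeal.comap (ι X : X.ring →+* Ring A K) ≤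
        Q.asIdeal.comap (ι X : X.ring →+* Ring A K) := Ideal.comap_mono hPQ.le
    have := Algebra.QuasiFinite.eq_of_le_of_under_eq (R := A) _ _ hle (by
      rw [Ideal.under_def, Ideal.under_def, Ideal.comap_comap, Ideal.comap_comap,
        show (ι X : X.ring →+* Ring A K).comp (algebraMap A X.ring) = algebraMap A (Ring A K) from
          (ι X).comp_algebraMap]
      exact congrArg PrimeSpectrum.asIdeal he)
    exact hbP (SetLike.ext_iff.mp this x |>.mpr hbQ)
  · rw [ringKrullDim, Order.krullDim]
    refine iSup_le fun l => ?_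
    obtain ⟨P, hP⟩ := PrimeSpectrum.comap_surjective_of_faithfullyFlat (B := Ring A K) l.last
    have : P.asIdeal.LiesOver l.last.asIdeal := ⟨(congrArg PrimeSpectrum.asIdeal hP).symm⟩
    obtain ⟨L, hL, -, -⟩ := Ideal.exists_ltSeries_of_hasGoingDown l P.asIdeal
    rw [← hL]
    exact Order.LTSeries.length_le_krullDim L

omit [Field K] [Algebra A K] [Algebra (ResidueField A) K] [IsScalarTower A (ResidueField A) K]
  [IsLocalRing A] in
theorem isNoetherianRing_of_faithfullyFlat (B : Type u) [CommRing B] [Algebra A B]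
    [Module.FaithfullyFlat A B] [IsNoetherianRing B] : IsNoetherianRing A := by
  rw [isNoetherianRing_iff, isNoetherian_iff']
  have : WellFoundedGT (Ideal A) := StrictMono.wellFoundedGT (f := Ideal.map (algebraMap A B))
    (Monotone.strictMono_of_injective (fun _ _ => Ideal.map_mono) fun I J h => by
      rw [← Ideal.comap_map_eq_self_of_faithfullyFlat (B := B) I, h,
        Ideal.comap_map_eq_self_of_faithfullyFlat])
  exact this

theorem spanFinrank_maximalIdeal_eq {A B : Type u} [CommRing A] [IsLocalRing A]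
    [IsNoetherianRing A] [CommRing B] [IsLocalRing B] [IsNoetherianRing B] [Algebra A B]
    [Module.FaithfullyFlat A B] (h : (maximalIdeal A).map (algebraMap A B) = maximalIdeal B) :
    (maximalIdeal B).spanFinrank = (maximalIdeal A).spanFinrank := by
  refine le_antisymm (h ▸ Ideal.spanFinrank_map_le_of_fg _ (IsNoetherian.noetherian _)) ?_
  let f : maximalIdeal A → maximalIdeal B := fun a =>
    ⟨algebraMap A B a, h ▸ Ideal.mem_map_of_mem _ a.2⟩
  let v : maximalIdeal A → CotangentSpace B := fun a => (maximalIdeal B).toCotangent (f a)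
  have hv : Submodule.span (ResidueField B) (Set.range v) = ⊤ := by
    rw [show Set.range v = (maximalIdeal B).toCotangent '' Set.range f from Set.range_comp _ f]
    rw [CotangentSpace.span_image_eq_top_iff]
    refine Submodule.map_injective_of_injective (maximalIdeal B).injective_subtype ?_
    rw [Submodule.map_top, Submodule.range_subtype, Submodule.map_span, ← Set.range_comp]
    calc Submodule.span B (Set.range ((maximalIdeal B).subtype ∘ f))
        = Ideal.span ((algebraMap A B) '' (maximalIdeal A : Set A)) := by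
          congr 1; ext b; simp [f]
      _ = maximalIdeal B := h
  obtain ⟨κ', e, -, hspan, hli⟩ := exists_linearIndependent' (ResidueField B) v
  have : Fintype κ' := @Fintype.ofFinite _ hli.finite
  have hcard : Fintype.card κ' = (maximalIdeal B).spanFinrank := by
    rw [spanFinrank_maximalIdeal_eq_finrank_cotangentSpace,
      Module.finrank_eq_card_basis (Module.Basis.mk hli (by rw [hspan, hv]))]
  let J : Ideal A := Ideal.span (Set.range fun i => (e i : A))
  have hJ : J = maximalIdeal A := by
    rw [← Ideal.comap_map_eq_self_of_faithfullyFlat (B := B) J,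
      ← Ideal.comap_map_eq_self_of_faithfullyFlat (B := B) (maximalIdeal A), h]
    congr 1
    have h2 : Submodule.span (ResidueField B)
        ((maximalIdeal B).toCotangent '' Set.range (f ∘ e)) = ⊤ := by
      rw [← Set.range_comp, show ((maximalIdeal B).toCotangent ∘ f ∘ e) = v ∘ e from rfl, hspan, hv]
    rw [CotangentSpace.span_image_eq_top_iff] at h2
    have h3 := congrArg (Submodule.map (maximalIdeal B).subtype) h2
    rw [Submodule.map_top, Submodule.range_subtype, Submodule.map_span, ← Set.range_comp] at h3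
    rw [Ideal.map_span, ← Set.range_comp]
    exact h3
  rw [← hcard, ← hJ]
  exact (Submodule.spanFinrank_span_le_ncard_of_finite (Set.finite_range _)).trans
    ((Set.ncard_image_le Set.finite_univ).trans_eq' (by rw [Set.image_univ]) |>.trans_eq (by rw [Set.ncard_univ, Nat.card_eq_fintype_card]))

section Transfer

variable {S : Type u} [CommRing S] [IsLocalRing S] [Algebra A S] (e : Ring A K ≃ₐ[A] S)

include e

theorem map_maximalIdeal_of_equiv :
    (maximalIdeal A).map (algebraMap A S) = maximalIdeal S := by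
  rw [← e.toAlgHom.comp_algebraMap, ← Ideal.map_map, map_maximalIdeal_ring]
  exact map_ringEquiv_maximalIdeal e.toRingEquiv

omit [IsLocalRing S] in
theorem faithfullyFlat_of_equiv : Module.FaithfullyFlat A S :=
  Module.FaithfullyFlat.of_linearEquiv _ _ e.symm.toLinearEquiv

omit [IsLocalRing S] in
theorem ringKrullDim_of_equiv : ringKrullDim S = ringKrullDim A := by
  rw [← ringKrullDim_eq_of_ringEquiv e.toRingEquiv, ringKrullDim_ring]

omit [IsLocalRing S] in
theorem isNoetherianRing_iff_of_equiv : IsNoetherianRing A ↔ IsNoetherianRing S := by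
  have := faithfullyFlat_of_equiv e
  exact ⟨fun h => isNoetherianRing_of_ringEquiv (Ring A K) e.toRingEquiv,
    fun h => isNoetherianRing_of_faithfullyFlat S⟩

theorem isRegularLocalRing_iff_of_equiv [IsNoetherianRing A] :
    IsRegularLocalRing A ↔ IsRegularLocalRing S := by
  have := (isNoetherianRing_iff_of_equiv e).mp inferInstance
  have := faithfullyFlat_of_equiv e
  rw [isRegularLocalRing_iff, isRegularLocalRing_iff, ringKrullDim_of_equiv e,
    spanFinrank_maximalIdeal_eq (map_maximalIdeal_of_equiv e)]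

end Transfer

section Henselization

variable (A) in
theorem quotient_pow_bijective {S : Type u} [CommRing S] [IsLocalRing S] [Algebra A S]
    (e : Ring A (ResidueField A) ≃ₐ[A] S) (n : ℕ) :
    Function.Bijective (Ideal.quotientMap ((maximalIdeal A ^ n).map (algebraMap A S))
      (algebraMap A S) Ideal.le_comap_map) := by
  have := faithfullyFlat_of_equiv e
  refine ⟨Ideal.quotientMap_injective' ?_, ?_⟩
  · rw [Ideal.comap_map_eq_self_of_faithfullyFlat]
  have hstep : ∀ b : S, ∃ a : A, b - algebraMap A S a ∈ (maximalIdeal A).map (algebraMap A S) := by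
    intro b
    obtain ⟨a, ha⟩ := residue_surjective (toK A (ResidueField A) (e.symm b))
    refine ⟨a, ?_⟩
    have h : e.symm (b - algebraMap A S a) ∈ maximalIdeal (Ring A (ResidueField A)) := by
      rw [maximalIdeal_ring, RingHom.mem_ker, map_sub, AlgEquiv.commutes]
      show toK A _ (_ - _) = 0
      rw [map_sub, AlgHom.commutes, ← ha, ResidueField.algebraMap_eq, sub_self]
    rw [map_maximalIdeal_of_equiv e, ← map_ringEquiv_maximalIdeal e.toRingEquiv]
    exact e.apply_symm_apply (b - algebraMap A S a) ▸ Ideal.mem_map_of_mem e.toRingEquiv h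
  have hind : ∀ (k : ℕ) (b : S), ∃ a : A,
      b - algebraMap A S a ∈ (maximalIdeal A ^ k).map (algebraMap A S) := by
    intro k
    induction k with
    | zero => exact fun b => ⟨0, by simp [Ideal.map_top]⟩
    | succ k ih =>
      intro b
      obtain ⟨a, ha⟩ := ih b
      have : ∀ x ∈ (maximalIdeal A ^ k).map (algebraMap A S), ∃ a : A,
          x - algebraMap A S a ∈ (maximalIdeal A ^ (k + 1)).map (algebraMap A S) := by
        intro x hx
        induction hx using Submodule.span_induction with
        | mem x hx => obtain ⟨a, -, rfl⟩ := hx; exact ⟨a, by simp⟩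
        | zero => exact ⟨0, by simp⟩
        | add x y _ _ hx hy =>
          obtain ⟨a, ha⟩ := hx
          obtain ⟨a', ha'⟩ := hy
          refine ⟨a + a', ?_⟩
          rw [map_add, add_sub_add_comm]
          exact add_mem ha ha'
        | smul c x hxm hx =>
          obtain ⟨a, ha⟩ := hx
          obtain ⟨a', ha'⟩ := hstep c
          refine ⟨a' * a, ?_⟩
          rw [map_mul, smul_eq_mul, show c * x - algebraMap A S a' * algebraMap A S a =
            (c - algebraMap A S a') * x + algebraMap A S a' * (x - algebraMap A S a) by ring]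
          refine add_mem ?_ (Ideal.mul_mem_left _ _ ha)
          rw [pow_succ', Ideal.map_mul]
          exact Ideal.mul_mem_mul ha' hxm
      obtain ⟨a', ha'⟩ := this _ ha
      exact ⟨a + a', by rw [map_add, ← sub_sub]; exact ha'⟩
  intro q
  obtain ⟨b, rfl⟩ := Ideal.Quotient.mk_surjective q
  obtain ⟨a, ha⟩ := hind n b
  exact ⟨Ideal.Quotient.mk _ a, (Ideal.Quotient.eq.mpr ha).symm⟩

end Henselization

end Groth.Agent.H4Henzn
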