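import Mathlib
import Groth.Prelude.Def_EGA4b
import Groth.Prelude.Def_CAlg
import Groth.Agent.Lib.H2CMFibre
import Groth.Agent.Lib.H4HenzProps
import Groth.Agent.Lib.H6.EtaleReduced
import Groth.Agent.Lib.LSmoothNormal
import Groth.Agent.S5752
set_option autoImplicit false

/-! Fibres of henselizations; ascent and descent of properties along maps with discrete reduced fibres. -/
namespace Groth.Agent.H2HenzFibre
open IsLocalRing TensorProduct Groth.Agent.H2SerreAscent Groth.Agent.H2SkHom Groth.Agent.H2CMFibre Groth.Agent.H4Henzn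
set_option maxHeartbeats 1000000
set_option synthInstance.maxHeartbeats 400000
set_option backward.isDefEq.respectTransparency.types false
universe u

/-- Incomparable primes in the fibres and reduced fibres. -/
structure ZeroFib (A S : Type u) [CommRing A] [CommRing S] [Algebra A S] : Prop where
  incomp : ∀ (P Q : Ideal S) [P.IsPrime] [Q.IsPrime], P ≤ Q → P.comap (algebraMap A S) = Q.comap (algebraMap A S) → P = Q
  radical : ∀ (p : Ideal A) [p.IsPrime], (p.map (algebraMap A S)).IsRadical

theorem ZeroFib.congr {A S T : Type u} [CommRing A] [CommRing S] [CommRing T] [Algebra A S] [Algebra A T] (e : S ≃ₐ[A] T)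
    (h : ZeroFib A S) : ZeroFib A T where
  incomp P Q _ _ hle hc := by
    have hinj := Ideal.comap_injective_of_surjective (e : S →+* T) e.surjective
    refine hinj (h.incomp _ _ (Ideal.comap_mono hle) ?_)
    rw [Ideal.comap_comap, Ideal.comap_comap, show (e : S →+* T).comp (algebraMap A S) = algebraMap A T from
      RingHom.ext e.commutes]
    exact hc
  radical p _ := fun y hy => by
    obtain ⟨n, hn⟩ := hy
    obtain ⟨x, rfl⟩ := e.surjective y
    have he : (p.map (algebraMap A S)).map (e : S →+* T) = p.map (algebraMap A T) := by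
      rw [Ideal.map_map, show (e : S →+* T).comp (algebraMap A S) = algebraMap A T from RingHom.ext e.commutes]
    rw [← he] at hn ⊢
    rw [← map_pow] at hn
    obtain ⟨z, hz, hze⟩ := (Ideal.mem_map_iff_of_surjective (e : S →+* T) e.surjective).1 hn
    have : z = x ^ n := e.injective hze
    exact Ideal.mem_map_of_mem _ (h.radical p ⟨n, this ▸ hz⟩)

theorem zeroFib_ring {A K : Type u} [CommRing A] [Field K] [Algebra A K] : ZeroFib A (Ring A K) where
  incomp P Q _ _ hle hc := by
    refine le_antisymm hle fun b hb => ?_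
    obtain ⟨X, x, rfl⟩ := exists_rep b
    have := Algebra.QuasiFinite.eq_of_le_of_under_eq (R := A) _ _
      (Ideal.comap_mono (f := (ι X : X.ring →+* Ring A K)) hle) (by
      rw [Ideal.under_def, Ideal.under_def, Ideal.comap_comap, Ideal.comap_comap,
        show (ι X : X.ring →+* Ring A K).comp (algebraMap A X.ring) = algebraMap A (Ring A K) from
          (ι X).comp_algebraMap]
      exact hc)
    exact (SetLike.ext_iff.mp this x).mpr hb
  radical p _ := fun b hb => by
    obtain ⟨n, hn⟩ := hb
    obtain ⟨X, x, rfl⟩ := exists_rep b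
    have hn' : ι X (x ^ n) ∈ (p.map (algebraMap A X.ring)).map (ι X : X.ring →+* Ring A K) := by
      rw [Ideal.map_map, show (ι X : X.ring →+* Ring A K).comp (algebraMap A X.ring) = algebraMap A (Ring A K) from
        (ι X).comp_algebraMap, map_pow]
      exact hn
    obtain ⟨Z, φ, z, hz, hzx⟩ := exists_mem_map hn'
    rw [← ι_map φ (x ^ n)] at hzx
    obtain ⟨W, ψ, hψ⟩ := exists_of_eq hzx
    let y := ψ.f (φ.f x)
    have hy : y ^ n ∈ p.map (algebraMap A W.ring) := by
      rw [Ideal.map_map, show (φ.f : X.ring →+* Z.ring).comp (algebraMap A X.ring) = algebraMap A Z.ring from φ.f.comp_algebraMap] at hz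
      have := Ideal.mem_map_of_mem (ψ.f : Z.ring →+* W.ring) hz
      rw [Ideal.map_map, show (ψ.f : Z.ring →+* W.ring).comp (algebraMap A Z.ring) = algebraMap A W.ring from ψ.f.comp_algebraMap] at this
      show (ψ.f (φ.f x)) ^ n ∈ _
      rw [← map_pow, ← map_pow, ← hψ]
      exact this
    haveI : IsReduced ((A ⧸ p) ⊗[A] W.ring) := H6.EtaleReduced.isReduced_of_smooth (A ⧸ p) ((A ⧸ p) ⊗[A] W.ring)
    haveI : IsReduced (W.ring ⊗[A] (A ⧸ p)) :=
      isReduced_of_injective (Algebra.TensorProduct.comm A W.ring (A ⧸ p)) (AlgEquiv.injective _)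
    haveI : IsReduced (W.ring ⧸ p.map (algebraMap A W.ring)) :=
      isReduced_of_injective (Algebra.TensorProduct.quotIdealMapEquivTensorQuot W.ring p) (AlgEquiv.injective _)
    have hy' : y ∈ p.map (algebraMap A W.ring) :=
      (Ideal.isRadical_iff_quotient_reduced _).2 inferInstance ⟨n, hy⟩
    have := Ideal.mem_map_of_mem (ι W : W.ring →+* Ring A K) hy'
    rw [Ideal.map_map, show (ι W : W.ring →+* Ring A K).comp (algebraMap A W.ring) = algebraMap A (Ring A K) from
        (ι W).comp_algebraMap] at this
    simpa [y, ι_map] using this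

theorem cm_of_isField {F : Type u} [CommRing F] (h : IsField F) : LocCoh.IsCohenMacaulayLocalRing F := by
  letI := h.toField
  haveI : IsLocalRing F := inferInstance
  refine { supportDim_eq_depth := ?_ }
  rw [Module.supportDim_self_eq_ringKrullDim]
  refine le_antisymm ?_ (depth_le_dim F)
  rw [ringKrullDim_eq_zero_of_isField h]
  exact WithBot.coe_le_coe.2 bot_le

section Consequences
variable {A S : Type u} [CommRing A] [CommRing S] [Algebra A S] (h : ZeroFib A S)
include h

theorem fibLoc_isField (q : Ideal S) [q.IsPrime] : IsField (EGA4.FibLocRing A S q) := by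
  let p := q.comap (algebraMap A S)
  let L := Localization.AtPrime q
  let I := p.map (algebraMap A L)
  have hI : I = (p.map (algebraMap A S)).map (algebraMap S L) := by
    rw [Ideal.map_map, ← IsScalarTower.algebraMap_eq]
  have hIm : I ≤ maximalIdeal L := by
    rw [hI, ← IsLocalization.AtPrime.map_eq_maximalIdeal q L]
    exact Ideal.map_mono Ideal.map_comap_le
  have hrad : I.IsRadical := by
    intro x hx
    obtain ⟨n, hn⟩ := hx
    obtain ⟨a, s, rfl⟩ := IsLocalization.exists_mk'_eq q.primeCompl x
    have h1 : algebraMap S L (a ^ n) ∈ I := by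
      have := I.mul_mem_left (algebraMap S L ((s : S) ^ n)) hn
      rwa [map_pow, ← mul_pow, IsLocalization.mk'_spec'_mk, ← map_pow] at this
    rw [hI, IsLocalization.algebraMap_mem_map_algebraMap_iff q.primeCompl] at h1
    obtain ⟨t, ht, hta⟩ := h1
    have h2 : t * a ∈ p.map (algebraMap A S) := by
      rcases n with _ | n
      · exact Ideal.mul_mem_right _ _ (by simpa using hta)
      · exact h.radical p ⟨n + 1, by
          rw [mul_pow, pow_succ, mul_assoc]
          exact Ideal.mul_mem_left _ _ hta⟩
    rw [hI, IsLocalization.mk'_eq_mul_mk'_one]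
    exact Ideal.mul_mem_right _ _ ((IsLocalization.algebraMap_mem_map_algebraMap_iff q.primeCompl L _ _).2 ⟨t, ht, h2⟩)
  have hmax : I = maximalIdeal L := by
    refine le_antisymm hIm ?_
    rw [← hrad.radical, Ideal.radical_eq_sInf]
    refine le_sInf fun Q ⟨hQI, hQ⟩ => ?_
    haveI := hQ
    let Q0 := Q.comap (algebraMap S L)
    have hle : Q0 ≤ q := (IsLocalization.AtPrime.orderIsoOfPrime L q ⟨Q, hQ⟩).2.2
    have hc : Q0.comap (algebraMap A S) = p := le_antisymm (Ideal.comap_mono hle) fun a ha => by
      show algebraMap S L (algebraMap A S a) ∈ Q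
      rw [← IsScalarTower.algebraMap_apply]
      exact hQI (Ideal.mem_map_of_mem _ ha)
    rw [← IsLocalization.AtPrime.map_eq_maximalIdeal q L, Ideal.map_le_iff_le_comap]
    exact (h.incomp Q0 q hle hc).ge
  exact (Ideal.Quotient.maximal_ideal_iff_isField_quotient I).1 (hmax ▸ maximalIdeal.isMaximal L)

variable [IsNoetherianRing A] [IsNoetherianRing S] [Module.Flat A S]

theorem height_eq (q : Ideal S) [q.IsPrime] : q.height = (q.comap (algebraMap A S)).height := by
  have := (H2FlatAscent.point (A := A) q).1
  rw [ringKrullDim_eq_zero_of_isField (fibLoc_isField h q), add_zero] at this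
  exact WithBot.coe_le_coe.1 this.le |>.antisymm (WithBot.coe_le_coe.1 this.ge)

theorem depth_eq (q : Ideal S) [q.IsPrime] :
    LocCoh.depth (Localization.AtPrime q) (Localization.AtPrime q) =
      LocCoh.depth (Localization.AtPrime (q.comap (algebraMap A S))) (Localization.AtPrime (q.comap (algebraMap A S))) := by
  have hco := codepth_point (A := A) q (cm_of_isField (fibLoc_isField h q))
  rw [IsLocalization.AtPrime.ringKrullDim_eq_height q (Localization.AtPrime q),
    IsLocalization.AtPrime.ringKrullDim_eq_height (q.comap (algebraMap A S)), height_eq h q] at hco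
  haveI : IsNoetherianRing (Localization.AtPrime (q.comap (algebraMap A S))) :=
    IsLocalization.isNoetherianRing (q.comap (algebraMap A S)).primeCompl _ inferInstance
  have h2 := WithBot.coe_le_coe.1 hco.le
  have h3 := WithBot.coe_le_coe.1 hco.ge
  exact WithTop.add_left_cancel (Ideal.height_ne_top (Ideal.IsPrime.ne_top inferInstance)) (le_antisymm h2 h3)

theorem skLoc_fibre (k : ℕ) (q : Ideal S) [q.IsPrime] [IsLocalRing (EGA4.FibLocRing A S q)] : SkLoc k (EGA4.FibLocRing A S q) :=
  haveI := cm_of_isField (fibLoc_isField h q)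
  skLoc_of_cm k _

theorem hasSk_iff_of_ff [Module.FaithfullyFlat A S] (k : ℕ) : LocCoh.HasSk k S S ↔ LocCoh.HasSk k A A := by
  refine ⟨fun hS => (Groth.Agent.S9437.result k A S hS).2, fun hA => (hasSk_iff k).2 fun q _ => ?_⟩
  haveI := (H2FlatAscent.point (A := A) q).2.2.1
  exact skLoc_ascend q ((hasSk_iff k).1 hA _) (skLoc_fibre h k q)

theorem hasRk_iff_of_ff [Module.FaithfullyFlat A S] (k : ℕ) : LocCoh.HasRk k S ↔ LocCoh.HasRk k A := by
  constructor
  · intro hS p _ hp
    obtain ⟨⟨q, hq⟩, hqp⟩ := PrimeSpectrum.comap_surjective_of_faithfullyFlat (A := A) (B := S) ⟨p, ‹_›⟩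
    haveI := hq
    have hc : q.comap (algebraMap A S) = p := congrArg PrimeSpectrum.asIdeal hqp
    haveI : q.LiesOver p := ⟨hc.symm⟩
    haveI := hS q (by rw [height_eq h q]; simp only [hc]; exact hp)
    exact H2RegNormal.regular_descent p q
  · intro hA q _ hq
    refine (H2FlatAscent.point (A := A) q).2.1 (hA _ (by rw [← height_eq h q]; exact hq)) ?_
    letI := (fibLoc_isField h q).toField
    exact inferInstance

theorem mem_ass_iff (P : Ideal S) [P.IsPrime] :
    P ∈ associatedPrimes S S ↔ P.comap (algebraMap A S) ∈ associatedPrimes A A := by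
  have key : ∀ (R : Type u) [CommRing R] [IsNoetherianRing R] (Q : Ideal R) [Q.IsPrime],
      Q ∈ associatedPrimes R R ↔ LocCoh.depth (Localization.AtPrime Q) (Localization.AtPrime Q) = 0 := by
    intro R _ _ Q _
    haveI : IsNoetherianRing (Localization.AtPrime Q) := IsLocalization.isNoetherianRing Q.primeCompl _ inferInstance
    rw [Groth.Agent.S5752.result, ← Module.associatedPrimes.preimage_comap_associatedPrimes_eq_associatedPrimes_of_isLocalizedModule
      Q.primeCompl (Algebra.linearMap R (Localization.AtPrime Q)) (R' := Localization.AtPrime Q), Set.mem_preimage]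
    have hc := IsLocalization.AtPrime.under_maximalIdeal (Localization.AtPrime Q) Q
    simp only [Ideal.under_def] at hc
    rw [hc]
  rw [key, key, depth_eq h P]

end Consequences

end Groth.Agent.H2HenzFibre
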