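import Mathlib
import Groth.Agent.Lib.H4HenzProps
import Groth.Agent.Lib.H6.EtaleReduced
import Groth.Agent.Lib.LSmoothNormal
set_option autoImplicit false

/-! Reducedness and normality of henselizations, without Noetherian hypotheses. -/
namespace Groth.Agent.H2HenzNormal
open IsLocalRing Groth.Agent.H4Henzn
set_option maxHeartbeats 1000000
set_option synthInstance.maxHeartbeats 400000
set_option backward.isDefEq.respectTransparency.types false
universe u

variable {A K : Type u} [CommRing A] [Field K] [Algebra A K]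

theorem isReduced_ring [IsReduced A] : IsReduced (Ring A K) := by
  refine ⟨fun b hb => ?_⟩
  obtain ⟨n, hn⟩ := hb
  obtain ⟨X, x, rfl⟩ := exists_rep b
  rw [← map_pow, ← map_zero (ι X)] at hn
  obtain ⟨Z, φ, hφ⟩ := exists_of_eq hn
  haveI : IsReduced Z.ring := H6.EtaleReduced.isReduced_of_smooth A Z.ring
  rw [map_pow, map_zero] at hφ
  rw [← ι_map φ, IsNilpotent.eq_zero ⟨n, hφ⟩, map_zero]

theorem exists_common (l : List (Ring A K)) (X : Nbhd A K) :
    ∃ (Z : Nbhd A K) (_ : X ⟶ Z), ∀ b ∈ l, ∃ z : Z.ring, ι Z z = b := by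
  induction l with
  | nil => exact ⟨X, CategoryTheory.CategoryStruct.id X, by simp⟩
  | cons b l ih =>
    obtain ⟨Z, φ, hZ⟩ := ih
    obtain ⟨W, ψ, w, hw⟩ := exists_rep₂ Z b
    refine ⟨W, CategoryTheory.CategoryStruct.comp φ ψ, fun c hc => ?_⟩
    rcases List.mem_cons.1 hc with rfl | hc
    · exact ⟨w, hw⟩
    · obtain ⟨z, rfl⟩ := hZ c hc
      exact ⟨ψ.f z, ι_map ψ z⟩

/-- The point of a neighbourhood. -/
noncomputable abbrev pt (X : Nbhd A K) : Ideal X.ring := RingHom.ker X.σ.toRingHom

instance pt_isPrime (X : Nbhd A K) : (pt X).IsPrime := RingHom.ker_isPrime _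

/-- The map from the local ring at the point to the henselization. -/
noncomputable def toRing (X : Nbhd A K) : Localization.AtPrime (pt X) →+* Ring A K :=
  IsLocalization.lift (M := (pt X).primeCompl) (g := (ι X : X.ring →+* Ring A K)) fun s =>
    isUnit_of_isUnit_toK (by
      show IsUnit (toK A K (ι X s))
      rw [toK_ι]
      exact isUnit_iff_ne_zero.mpr fun h => s.2 h)

theorem toRing_algebraMap (X : Nbhd A K) (x : X.ring) : toRing X (algebraMap X.ring _ x) = ι X x :=
  IsLocalization.lift_eq _ x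

theorem isDomain_and_normal [IsLocalRing A] [IsDomain A] [IsIntegrallyClosed A] [Algebra (ResidueField A) K]
    [IsScalarTower A (ResidueField A) K] : IsDomain (Ring A K) ∧ IsIntegrallyClosed (Ring A K) := by
  haveI hdom : IsDomain (Ring A K) := by
    have : NoZeroDivisors (Ring A K) := ⟨fun {a b} hab => by
      obtain ⟨X₀⟩ := Groth.Agent.H4Henzn.nonempty A K
      obtain ⟨X, -, hX⟩ := exists_common [a, b] X₀
      obtain ⟨x, rfl⟩ := hX a (by simp)
      obtain ⟨y, rfl⟩ := hX b (by simp)
      rw [← map_mul, ← map_zero (ι X)] at hab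
      obtain ⟨Z, φ, hφ⟩ := exists_of_eq hab
      rw [map_mul, map_zero] at hφ
      haveI := (LSmoothNormal.normal_atPrime A Z.ring (pt Z)).1
      rw [← ι_map φ x, ← ι_map φ y, ← toRing_algebraMap, ← toRing_algebraMap]
      rcases mul_eq_zero.1 (show algebraMap Z.ring (Localization.AtPrime (pt Z)) (φ.f x) * algebraMap _ _ (φ.f y) = 0 by
        rw [← map_mul, hφ, map_zero]) with h | h
      · exact Or.inl (by rw [h, map_zero])
      · exact Or.inr (by rw [h, map_zero])⟩
    exact NoZeroDivisors.to_isDomain _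
  refine ⟨hdom, (isIntegrallyClosed_iff (FractionRing (Ring A K))).2 fun {z} hz => ?_⟩
  obtain ⟨a, b, hb, rfl⟩ := IsFractionRing.div_surjective (A := Ring A K) z
  obtain ⟨f, hf, hfz⟩ := hz
  have hb0 : b ≠ 0 := nonZeroDivisors.ne_zero hb
  obtain ⟨X₀, -, f₀, rfl⟩ := exists_rep_poly (Classical.choice (Groth.Agent.H4Henzn.nonempty A K)) f
  obtain ⟨g, hgmap, -, hgm⟩ := Polynomial.lifts_and_degree_eq_and_monic
    (f := (ι X₀ : X₀.ring →+* Ring A K)) (p := f₀.map (ι X₀ : X₀.ring →+* Ring A K)) ⟨f₀, rfl⟩ hf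
  obtain ⟨X, φ, hX⟩ := exists_common [a, b] X₀
  obtain ⟨x, rfl⟩ := hX a (by simp)
  obtain ⟨y, rfl⟩ := hX b (by simp)
  let g' : Polynomial X.ring := g.map (φ.f : X₀.ring →+* X.ring)
  have hg' : g'.map (ι X : X.ring →+* Ring A K) = f₀.map (ι X₀ : X₀.ring →+* Ring A K) := by
    rw [← hgmap, Polynomial.map_map]
    congr 1
    exact RingHom.ext fun w => ι_map φ w
  let L := Localization.AtPrime (pt X)
  haveI := (LSmoothNormal.normal_atPrime A X.ring (pt X)).1
  haveI := (LSmoothNormal.normal_atPrime A X.ring (pt X)).2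
  let F := FractionRing (Ring A K)
  let ψ : L →+* F := (algebraMap (Ring A K) F).comp (toRing X)
  have hψ : ∀ w : X.ring, ψ (algebraMap X.ring L w) = algebraMap (Ring A K) F (ι X w) := fun w => by
    show algebraMap (Ring A K) F (toRing X (algebraMap X.ring L w)) = _
    rw [toRing_algebraMap]
  have h0 : Polynomial.eval₂ (ι X : X.ring →+* Ring A K) (ι X x) (g'.scaleRoots y) = 0 := by
    refine IsFractionRing.injective (Ring A K) F ?_
    rw [map_zero, Polynomial.hom_eval₂]
    rw [← hg', Polynomial.eval₂_map] at hfz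
    have h1 := Polynomial.scaleRoots_eval₂_eq_zero ((algebraMap (Ring A K) F).comp (ι X : X.ring →+* Ring A K))
      (s := y) hfz
    rwa [RingHom.comp_apply, RingHom.coe_coe, mul_div_cancel₀ _ (IsFractionRing.to_map_ne_zero_of_mem_nonZeroDivisors hb)] at h1
  rw [show (ι X) x = (ι X : X.ring →+* Ring A K) x from rfl, Polynomial.eval₂_at_apply, RingHom.coe_coe, ← map_zero (ι X)] at h0
  obtain ⟨W, χ, hW⟩ := exists_of_eq h0
  rw [map_zero] at hW
  let LW := Localization.AtPrime (pt W)
  haveI := (LSmoothNormal.normal_atPrime A W.ring (pt W)).1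
  haveI := (LSmoothNormal.normal_atPrime A W.ring (pt W)).2
  let x' := algebraMap W.ring LW (χ.f x)
  let y' := algebraMap W.ring LW (χ.f y)
  let G := (g'.map (χ.f : X.ring →+* W.ring)).map (algebraMap W.ring LW)
  have hy' : y' ≠ 0 := fun h => by
    refine hb0 ?_
    rw [← ι_map χ y, ← toRing_algebraMap W, show algebraMap W.ring LW (χ.f y) = y' from rfl, h, map_zero]
  have hmon : g'.Monic := hgm.map _
  have hx' : Polynomial.eval x' (G.scaleRoots y') = 0 := by
    have h2 := congrArg (algebraMap W.ring LW) hW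
    rw [map_zero] at h2
    refine Eq.trans ?_ h2
    rw [show G.scaleRoots y' = ((g'.scaleRoots y).map ((algebraMap W.ring LW).comp (χ.f : X.ring →+* W.ring))) by
      rw [Polynomial.map_scaleRoots _ _ _ (by rw [hmon.leadingCoeff, map_one]; exact one_ne_zero),
        ← Polynomial.map_map]; rfl,
      Polynomial.eval_map, show x' = ((algebraMap W.ring LW).comp (χ.f : X.ring →+* W.ring)) x from rfl, Polynomial.eval₂_at_apply]
    rfl
  let FW := FractionRing LW
  have hi : IsIntegral LW (algebraMap LW FW x' / algebraMap LW FW y') := by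
    refine ⟨G, (hmon.map _).map _, ?_⟩
    have hy0 : algebraMap LW FW y' ≠ 0 := (map_ne_zero_iff _ (IsFractionRing.injective LW FW)).2 hy'
    have h3 : Polynomial.eval₂ (algebraMap LW FW) (algebraMap LW FW y' * (algebraMap LW FW x' / algebraMap LW FW y')) (G.scaleRoots y') = 0 := by
      rw [mul_div_cancel₀ _ hy0, Polynomial.eval₂_at_apply, hx', map_zero]
    rw [Polynomial.scaleRoots_eval₂_mul] at h3
    exact (mul_eq_zero.1 h3).resolve_left (pow_ne_zero _ hy0)
  obtain ⟨c, hc⟩ := (isIntegrallyClosed_iff FW).1 inferInstance hi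
  rw [eq_div_iff ((map_ne_zero_iff _ (IsFractionRing.injective LW FW)).2 hy'), ← map_mul] at hc
  have hc' := congrArg (toRing W) (IsFractionRing.injective LW FW hc)
  have ex : toRing W x' = ι X x := (toRing_algebraMap W _).trans (ι_map χ x)
  have ey : toRing W y' = ι X y := (toRing_algebraMap W _).trans (ι_map χ y)
  rw [map_mul, ex, ey] at hc'
  refine ⟨toRing W c, ?_⟩
  rw [eq_div_iff (IsFractionRing.to_map_ne_zero_of_mem_nonZeroDivisors hb), ← map_mul, hc']

end Groth.Agent.H2HenzNormal
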