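import Mathlib
import Groth.Agent.Lib.H2HenzFibre
import Groth.Agent.Lib.H2HenzNormal
import Groth.Agent.Lib.RegularLocalBasic
set_option autoImplicit false

/-! Properties shared by a local ring and its (strict) henselization. -/
namespace Groth.Agent.H2HenzApply
open IsLocalRing Groth.Agent.H2SerreAscent Groth.Agent.H2SkHom Groth.Agent.H4Henzn
set_option maxHeartbeats 1000000
set_option synthInstance.maxHeartbeats 400000
set_option backward.isDefEq.respectTransparency.types false
universe u

variable {A S K : Type u} [CommRing A] [CommRing S] [Field K] [Algebra A K] [IsLocalRing A] [IsLocalRing S]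
  [Algebra (ResidueField A) K] [IsScalarTower A (ResidueField A) K] [Algebra A S] (e : Ring A K ≃ₐ[A] S)
include e

theorem zeroFib : H2HenzFibre.ZeroFib A S := H2HenzFibre.zeroFib_ring.congr e

theorem isReduced_iff : IsReduced S ↔ IsReduced A := by
  haveI := faithfullyFlat_of_equiv e
  refine ⟨fun h => isReduced_of_injective (algebraMap A S) (FaithfulSMul.algebraMap_injective A S), fun h => ?_⟩
  haveI := H2HenzNormal.isReduced_ring (A := A) (K := K)
  exact isReduced_of_injective e.symm e.symm.injective

theorem normal_iff : (IsDomain S ∧ IsIntegrallyClosed S) ↔ (IsDomain A ∧ IsIntegrallyClosed A) := by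
  haveI := faithfullyFlat_of_equiv e
  refine ⟨fun h => haveI := h.1; haveI := h.2; LSmoothNormal.descent A S, fun h => ?_⟩
  haveI := h.1
  haveI := h.2
  obtain ⟨h1, h2⟩ := H2HenzNormal.isDomain_and_normal (A := A) (K := K)
  exact ⟨e.symm.toRingEquiv.toMulEquiv.isDomain, IsIntegrallyClosed.of_equiv e.toRingEquiv⟩

variable [IsNoetherianRing A]

theorem hasSk_iff' (k : ℕ) : LocCoh.HasSk k S S ↔ LocCoh.HasSk k A A := by
  haveI := faithfullyFlat_of_equiv e
  haveI := (isNoetherianRing_iff_of_equiv e).1 inferInstance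
  exact H2HenzFibre.hasSk_iff_of_ff (zeroFib e) k

theorem hasRk_iff' (k : ℕ) : LocCoh.HasRk k S ↔ LocCoh.HasRk k A := by
  haveI := faithfullyFlat_of_equiv e
  haveI := (isNoetherianRing_iff_of_equiv e).1 inferInstance
  exact H2HenzFibre.hasRk_iff_of_ff (zeroFib e) k

theorem mem_ass_iff' (P : Ideal S) [P.IsPrime] :
    P ∈ associatedPrimes S S ↔ P.comap (algebraMap A S) ∈ associatedPrimes A A := by
  haveI := faithfullyFlat_of_equiv e
  haveI := (isNoetherianRing_iff_of_equiv e).1 inferInstance
  exact H2HenzFibre.mem_ass_iff (zeroFib e) P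

theorem depth_eq' : LocCoh.depth S S = LocCoh.depth A A := by
  haveI := faithfullyFlat_of_equiv e
  haveI := (isNoetherianRing_iff_of_equiv e).1 inferInstance
  haveI : IsLocalHom (algebraMap A S) := by
    refine ((local_hom_TFAE (algebraMap A S)).out 0 2).2 ?_
    rw [map_maximalIdeal_of_equiv e]
  haveI : LocCoh.IsCohenMacaulayLocalRing (S ⧸ (maximalIdeal A).map (algebraMap A S)) := by
    refine H2HenzFibre.cm_of_isField ((Ideal.Quotient.maximal_ideal_iff_isField_quotient _).1 ?_)
    rw [map_maximalIdeal_of_equiv e]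
    exact maximalIdeal.isMaximal S
  have h := H2CMFibre.codepth_eq (A := A) (B := S)
  rw [ringKrullDim_of_equiv e] at h
  obtain ⟨d, hd⟩ : ∃ d : ℕ, ringKrullDim A = d := by
    cases hx : ringKrullDim A with
    | bot => exact absurd hx ringKrullDim_ne_bot
    | coe x => cases x using ENat.recTopCoe with
      | top => exact absurd hx ringKrullDim_ne_top
      | coe n => exact ⟨n, rfl⟩
  rw [hd] at h
  exact WithTop.add_left_cancel (ENat.coe_ne_top d)
    (le_antisymm (WithBot.coe_le_coe.1 h.le) (WithBot.coe_le_coe.1 h.ge))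

theorem cm_iff : LocCoh.IsCohenMacaulayLocalRing S ↔ LocCoh.IsCohenMacaulayLocalRing A := by
  haveI := (isNoetherianRing_iff_of_equiv e).1 inferInstance
  constructor <;> intro h <;> haveI := h
  · refine { supportDim_eq_depth := ?_ }
    rw [← depth_eq' e, Module.supportDim_self_eq_ringKrullDim, ← ringKrullDim_of_equiv e, ← Module.supportDim_self_eq_ringKrullDim]
    exact LocCoh.IsCohenMacaulayLocalRing.supportDim_eq_depth
  · refine { supportDim_eq_depth := ?_ }
    rw [depth_eq' e, Module.supportDim_self_eq_ringKrullDim, ringKrullDim_of_equiv e, ← Module.supportDim_self_eq_ringKrullDim]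
    exact LocCoh.IsCohenMacaulayLocalRing.supportDim_eq_depth

omit e in
theorem dvr_iff_regular (R : Type u) [CommRing R] [IsLocalRing R] [IsNoetherianRing R] :
    (∃ _ : IsDomain R, IsDiscreteValuationRing R) ↔ (IsRegularLocalRing R ∧ ringKrullDim R = 1) := by
  constructor
  · rintro ⟨h, h'⟩
    haveI := h'
    exact ⟨inferInstance, IsDiscreteValuationRing.ringKrullDim_eq_one R⟩
  · rintro ⟨h, hd⟩
    haveI := h
    haveI : IsDomain R := RegLocal.isDomain
    refine ⟨inferInstance, ?_⟩
    have hs : (maximalIdeal R).spanFinrank = 1 := by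
      have := ((isRegularLocalRing_iff R).1 h).trans hd
      exact_mod_cast this
    obtain ⟨hp, hne⟩ := (Submodule.spanFinrank_eq_one_iff _).1 hs
    haveI := ((tfae_of_isNoetherianRing_of_isLocalRing_of_isDomain R).out 0 4).2 hp
    exact { toIsPrincipalIdealRing := this, not_a_field' := hne }

theorem dvr_iff : (∃ _ : IsDomain A, IsDiscreteValuationRing A) ↔ (∃ _ : IsDomain S, IsDiscreteValuationRing S) := by
  haveI := (isNoetherianRing_iff_of_equiv e).1 inferInstance
  rw [dvr_iff_regular, dvr_iff_regular, isRegularLocalRing_iff_of_equiv e, ringKrullDim_of_equiv e]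

end Groth.Agent.H2HenzApply
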