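import Mathlib
import Groth.Prelude.Def_PBC
import Groth.Agent.Lib.H4HenzProps
import Groth.Agent.Lib.H6.EtaleReduced
set_option autoImplicit false

/-! The (strict) henselization is ind-étale and formally étale. -/
namespace Groth.Agent.H2HenzEtale
open IsLocalRing Groth.Agent.H4Henzn CategoryTheory CategoryTheory.Limits TensorProduct
set_option maxHeartbeats 1000000
set_option synthInstance.maxHeartbeats 400000
set_option backward.isDefEq.respectTransparency.types false
universe u

variable {A K : Type u} [CommRing A] [Field K] [Algebra A K]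

/-- A compatible family of maps out of the neighbourhoods gives a map out of the henselization. -/
theorem existsUnique_desc {B : Type u} [CommRing B] [Algebra A B] (g : ∀ X : Nbhd A K, X.ring →ₐ[A] B)
    (hg : ∀ (X Y : Nbhd A K) (φ : X ⟶ Y), (g Y).comp φ.f = g X) :
    ∃ G : Ring A K →ₐ[A] B, ∀ X, G.comp (ι X) = g X := by
  let c : Cocone (diagram A K) :=
    { pt := CommRingCat.of B
      ι :=
        { app := fun X => CommRingCat.ofHom (g X).toRingHom
          naturality := fun X Y φ => CommRingCat.hom_ext (RingHom.ext fun x => AlgHom.congr_fun (hg X Y φ) x) } }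
  have hι : ∀ (X : Nbhd A K) (x : X.ring), (colimit.desc (diagram A K) c).hom (ιR X x) = g X x := fun X x => by
    rw [desc_ι]; rfl
  let X₀ := Classical.choice (nonempty A K)
  refine ⟨{ (colimit.desc (diagram A K) c).hom with commutes' := fun a => ?_ }, fun X => AlgHom.ext (hι X)⟩
  exact (hι X₀ (algebraMap A X₀.ring a)).trans ((g X₀).commutes a)

theorem hom_ext {B : Type u} [CommRing B] [Algebra A B] {f g : Ring A K →ₐ[A] B}
    (h : ∀ (X : Nbhd A K) (x : X.ring), f (ι X x) = g (ι X x)) : f = g :=
  AlgHom.ext fun b => by obtain ⟨X, x, rfl⟩ := exists_rep b; exact h X x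

theorem formallyEtale_ring : Algebra.FormallyEtale A (Ring A K) := by
  refine Algebra.FormallyEtale.iff_comp_bijective.2 fun B _ _ I hI => ⟨fun f g hfg => hom_ext fun X x => ?_, fun f => ?_⟩
  · exact AlgHom.congr_fun (Algebra.FormallyUnramified.comp_injective (A := X.ring) I hI
      (show (Ideal.Quotient.mkₐ A I).comp (f.comp (ι X)) = (Ideal.Quotient.mkₐ A I).comp (g.comp (ι X)) by
        rw [← AlgHom.comp_assoc, ← AlgHom.comp_assoc]; exact congrArg (fun (h : Ring A K →ₐ[A] B ⧸ I) => h.comp (ι X)) hfg)) x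
  · choose g hg using fun X : Nbhd A K =>
      (Algebra.FormallyEtale.comp_bijective A X.ring I hI).2 (f.comp (ι X))
    obtain ⟨G, hG⟩ := existsUnique_desc g fun X Y φ => Algebra.FormallyUnramified.comp_injective (A := X.ring) I hI (by
      show (Ideal.Quotient.mkₐ A I).comp ((g Y).comp φ.f) = (Ideal.Quotient.mkₐ A I).comp (g X)
      rw [← AlgHom.comp_assoc, hg Y, hg X]
      exact AlgHom.ext fun x => congrArg f (ι_map φ x))
    refine ⟨G, hom_ext fun X x => ?_⟩
    exact (congrArg (Ideal.Quotient.mk I) (AlgHom.congr_fun (hG X) x)).trans (AlgHom.congr_fun (hg X) x)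

theorem isRadical_map (J : Ideal A) (hJ : J.IsRadical) : (J.map (algebraMap A (Ring A K))).IsRadical := fun b hb => by
  obtain ⟨n, hn⟩ := hb
  obtain ⟨X, x, rfl⟩ := exists_rep b
  have hn' : ι X (x ^ n) ∈ (J.map (algebraMap A X.ring)).map (ι X : X.ring →+* Ring A K) := by
    rw [Ideal.map_map, show (ι X : X.ring →+* Ring A K).comp (algebraMap A X.ring) = algebraMap A (Ring A K) from
      (ι X).comp_algebraMap, map_pow]
    exact hn
  obtain ⟨Z, φ, z, hz, hzx⟩ := exists_mem_map hn'
  rw [← ι_map φ (x ^ n)] at hzx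
  obtain ⟨W, ψ, hψ⟩ := exists_of_eq hzx
  let y := ψ.f (φ.f x)
  have hy : y ^ n ∈ J.map (algebraMap A W.ring) := by
    rw [Ideal.map_map, show (φ.f : X.ring →+* Z.ring).comp (algebraMap A X.ring) = algebraMap A Z.ring from φ.f.comp_algebraMap] at hz
    have := Ideal.mem_map_of_mem (ψ.f : Z.ring →+* W.ring) hz
    rw [Ideal.map_map, show (ψ.f : Z.ring →+* W.ring).comp (algebraMap A Z.ring) = algebraMap A W.ring from ψ.f.comp_algebraMap] at this
    show (ψ.f (φ.f x)) ^ n ∈ _
    rw [← map_pow, ← map_pow, ← hψ]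
    exact this
  haveI : IsReduced (A ⧸ J) := (Ideal.isRadical_iff_quotient_reduced _).1 hJ
  haveI : IsReduced ((A ⧸ J) ⊗[A] W.ring) := H6.EtaleReduced.isReduced_of_smooth (A ⧸ J) ((A ⧸ J) ⊗[A] W.ring)
  haveI : IsReduced (W.ring ⊗[A] (A ⧸ J)) :=
    isReduced_of_injective (Algebra.TensorProduct.comm A W.ring (A ⧸ J)) (AlgEquiv.injective _)
  haveI : IsReduced (W.ring ⧸ J.map (algebraMap A W.ring)) :=
    isReduced_of_injective (Algebra.TensorProduct.quotIdealMapEquivTensorQuot W.ring J) (AlgEquiv.injective _)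
  have hy' : y ∈ J.map (algebraMap A W.ring) :=
    (Ideal.isRadical_iff_quotient_reduced _).2 inferInstance ⟨n, hy⟩
  have := Ideal.mem_map_of_mem (ι W : W.ring →+* Ring A K) hy'
  rw [Ideal.map_map, show (ι W : W.ring →+* Ring A K).comp (algebraMap A W.ring) = algebraMap A (Ring A K) from
      (ι W).comp_algebraMap] at this
  simpa [y, ι_map] using this

theorem formallyEtale_of_equiv {S : Type u} [CommRing S] [Algebra A S] (e : Ring A K ≃ₐ[A] S) :
    Algebra.FormallyEtale A S :=
  haveI := formallyEtale_ring (A := A) (K := K)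
  Algebra.FormallyEtale.of_equiv e

theorem map_nilradical {S : Type u} [CommRing S] [Algebra A S] (e : Ring A K ≃ₐ[A] S) :
    (nilradical A).map (algebraMap A S) = nilradical S := by
  refine le_antisymm (Ideal.map_le_iff_le_comap.2 fun a ha => IsNilpotent.map ha _) fun y hy => ?_
  obtain ⟨x, rfl⟩ := e.surjective y
  have hx : IsNilpotent x := by
    obtain ⟨n, hn⟩ := hy
    exact ⟨n, e.injective (by rw [map_pow, map_zero, hn])⟩
  have h : x ∈ (nilradical A).map (algebraMap A (Ring A K)) := by
    obtain ⟨n, hn⟩ := hx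
    exact isRadical_map (nilradical A) (Ideal.radical_isRadical (⊥ : Ideal A)) ⟨n, hn ▸ Ideal.zero_mem _⟩
  have := Ideal.mem_map_of_mem (e : Ring A K →+* S) h
  rwa [Ideal.map_map, show (e : Ring A K →+* S).comp (algebraMap A (Ring A K)) = algebraMap A S from RingHom.ext e.commutes] at this

theorem isIndEtale_of_equiv {S : Type u} [CommRing S] [Algebra A S] (e : Ring A K ≃ₐ[A] S) :
    EtPBC.IsIndEtale A S := by
  let D : Nbhd A K ⥤ Under (CommRingCat.of A) :=
    { obj := fun X => Under.mk (CommRingCat.ofHom (algebraMap A X.ring))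
      map := fun φ => Under.homMk (CommRingCat.ofHom φ.f.toRingHom) (CommRingCat.hom_ext φ.f.comp_algebraMap) }
  let c : Cocone D :=
    { pt := Under.mk (CommRingCat.ofHom (algebraMap A (Ring A K)))
      ι :=
        { app := fun X => Under.homMk (CommRingCat.ofHom (ι X).toRingHom) (CommRingCat.hom_ext (ι X).comp_algebraMap)
          naturality := fun X Y φ => by
            ext x
            exact ι_map φ x } }
  have hc : Nonempty (IsColimit c) := by
    refine ⟨IsColimit.ofExistsUnique fun s => ?_⟩
    letI : Algebra A s.pt.right := s.pt.hom.hom.toAlgebra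
    let g : ∀ X : Nbhd A K, X.ring →ₐ[A] s.pt.right := fun X =>
      { (s.ι.app X).right.hom with commutes' := fun a => RingHom.congr_fun (congrArg CommRingCat.Hom.hom (Under.w (s.ι.app X))) a }
    obtain ⟨G, hG⟩ := existsUnique_desc g fun X Y φ => AlgHom.ext fun x =>
      RingHom.congr_fun (congrArg CommRingCat.Hom.hom (congrArg CommaMorphism.right (s.w φ))) x
    refine ⟨Under.homMk (CommRingCat.ofHom G.toRingHom) (CommRingCat.hom_ext G.comp_algebraMap), fun X => ?_, fun m hm => ?_⟩
    · ext x; exact AlgHom.congr_fun (hG X) x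
    · ext b
      obtain ⟨X, x, rfl⟩ := exists_rep b
      exact (RingHom.congr_fun (congrArg CommRingCat.Hom.hom (congrArg CommaMorphism.right (hm X))) x).trans
        (AlgHom.congr_fun (hG X) x).symm
  refine ⟨Nbhd A K, inferInstance, inferInstance, D, c, hc.some, fun X => ?_, ⟨Under.isoMk ((AlgEquiv.toRingEquiv e).toCommRingCatIso) (CommRingCat.hom_ext (RingHom.ext e.commutes))⟩⟩
  show @Algebra.Etale A X.ring _ _ (algebraMap A X.ring).toAlgebra
  rw [show (algebraMap A X.ring).toAlgebra = (inferInstance : Algebra A X.ring) from Algebra.algebra_ext _ _ fun _ => rfl]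
  exact X.etale

end Groth.Agent.H2HenzEtale
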