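import Mathlib
import Groth.Prelude.Def_PBC
import Groth.Agent.Lib.H2EtaleCover
set_option autoImplicit false

/-! Ind-étale = flat and exhausted by étale algebras; permanence properties. -/
namespace Groth.Agent.H2IndEtale
open TensorProduct CategoryTheory CategoryTheory.Limits Groth.Agent.H2EtaleCover
set_option maxHeartbeats 1000000
set_option synthInstance.maxHeartbeats 400000
set_option backward.isDefEq.respectTransparency.types false
universe u

variable {A T : Type u} [CommRing A] [CommRing T] [Algebra A T]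

/-- A relation holding in `T` already holds in a finer étale algebra. -/
theorem kill_one (hcov : Covered A T) (hflat : Module.Flat A T) {X : Type u} [CommRing X] [Algebra A X] [Algebra.Etale A X]
    (f : X →ₐ[A] T) (r : X) (hr : f r = 0) :
    ∃ (X' : Type u) (_ : CommRing X') (_ : Algebra A X') (_ : Algebra.Etale A X') (g : X →ₐ[A] X') (f' : X' →ₐ[A] T),
      f'.comp g = f ∧ g r = 0 := by
  letI : Algebra X T := (f : X →+* T).toAlgebra
  haveI : IsScalarTower A X T := IsScalarTower.of_algebraMap_eq fun a => (f.commutes a).symm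
  haveI : Module.Flat X T := Algebra.FormallyUnramified.flat_of_restrictScalars A X T
  obtain ⟨k, a, y, h1, h2⟩ := Module.Flat.iff_forall_isTrivialRelation.1 ‹Module.Flat X T› (l := 1) (f := fun _ => r)
    (x := fun _ => (1 : T)) (by
      simp only [Finset.univ_unique, Finset.sum_singleton]
      show f r * 1 = 0
      rw [hr, zero_mul])
  obtain ⟨X2, _, _, _, f2, hf2⟩ := hcov (List.ofFn y)
  choose y' hy' using fun j => hf2 (y j) (List.mem_ofFn.2 ⟨j, rfl⟩)
  haveI : Algebra.Etale A (X ⊗[A] X2) := Algebra.Etale.comp A X (X ⊗[A] X2)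
  let F : X ⊗[A] X2 →ₐ[A] T := Algebra.TensorProduct.lift f f2 fun _ _ => Commute.all _ _
  let u : X ⊗[A] X2 := ∑ j, a 0 j ⊗ₜ y' j
  have hu : F u = 1 := by
    rw [map_sum]
    refine Eq.trans (Finset.sum_congr rfl fun j _ => ?_) (h1 0).symm
    show f (a 0 j) * f2 (y' j) = f (a 0 j) * y j
    rw [hy']
  have hru : (r ⊗ₜ 1 : X ⊗[A] X2) * u = 0 := by
    rw [Finset.mul_sum]
    refine Finset.sum_eq_zero fun j _ => ?_
    rw [Algebra.TensorProduct.tmul_mul_tmul, show r * a 0 j = 0 by simpa using h2 j, zero_tmul]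
  haveI : Algebra.Etale (X ⊗[A] X2) (Localization.Away u) := Algebra.Etale.of_isLocalizationAway u
  haveI : Algebra.Etale A (Localization.Away u) := Algebra.Etale.comp A (X ⊗[A] X2) (Localization.Away u)
  have hu' : IsUnit (F u) := by rw [hu]; exact isUnit_one
  let L : Localization.Away u →+* T := IsLocalization.Away.lift u (g := F.toRingHom) hu'
  refine ⟨Localization.Away u, inferInstance, inferInstance, inferInstance,
    (IsScalarTower.toAlgHom A (X ⊗[A] X2) _).comp Algebra.TensorProduct.includeLeft,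
    { L with commutes' := fun c => ?_ }, AlgHom.ext fun x => ?_, ?_⟩
  · show L (algebraMap A _ c) = _
    rw [IsScalarTower.algebraMap_apply A (X ⊗[A] X2) (Localization.Away u)]
    exact (IsLocalization.Away.lift_eq u hu' _).trans (F.commutes c)
  · show L (algebraMap (X ⊗[A] X2) _ (x ⊗ₜ 1)) = f x
    refine (IsLocalization.Away.lift_eq u hu' _).trans ?_
    show f x * f2 1 = f x
    rw [map_one, mul_one]
  · show algebraMap (X ⊗[A] X2) (Localization.Away u) (r ⊗ₜ 1) = 0
    refine (IsLocalization.Away.algebraMap_isUnit u (S := Localization.Away u)).mul_left_eq_zero.mp ?_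
    rw [← map_mul, hru, map_zero]

theorem kill (hcov : Covered A T) (hflat : Module.Flat A T) {X : Type u} [CommRing X] [Algebra A X] [Algebra.Etale A X]
    (f : X →ₐ[A] T) (l : List X) (hl : ∀ r ∈ l, f r = 0) :
    ∃ (X' : Type u) (_ : CommRing X') (_ : Algebra A X') (_ : Algebra.Etale A X') (g : X →ₐ[A] X') (f' : X' →ₐ[A] T),
      f'.comp g = f ∧ ∀ r ∈ l, g r = 0 := by
  induction l with
  | nil => exact ⟨X, inferInstance, inferInstance, inferInstance, AlgHom.id A X, f, rfl, by simp⟩
  | cons b l ih =>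
    obtain ⟨X1, _, _, _, g1, f1, h1, h1'⟩ := ih fun r hr => hl r (List.mem_cons_of_mem _ hr)
    obtain ⟨X2, _, _, _, g2, f2, h2, h2'⟩ := kill_one hcov hflat f1 (g1 b)
      ((AlgHom.congr_fun h1 b).trans (hl b (List.mem_cons_self ..)))
    refine ⟨X2, inferInstance, inferInstance, inferInstance, g2.comp g1, f2, ?_, fun r hr => ?_⟩
    · rw [← AlgHom.comp_assoc, h2, h1]
    · rcases List.mem_cons.1 hr with rfl | hr
      · exact h2'
      · show g2 (g1 r) = 0
        rw [h1' r hr, map_zero]

/-- An étale algebra over `T`, by a presentation. -/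
structure Chart (A T : Type u) [CommRing A] [CommRing T] [Algebra A T] : Type u where
  n : ℕ
  I : Ideal (MvPolynomial (Fin n) A)
  f : (MvPolynomial (Fin n) A ⧸ I) →ₐ[A] T
  et : Algebra.Etale A (MvPolynomial (Fin n) A ⧸ I)

abbrev Chart.ring (X : Chart A T) : Type u := MvPolynomial (Fin X.n) A ⧸ X.I

instance (X : Chart A T) : Algebra.Etale A X.ring := X.et

@[ext] structure Chart.Hom (X Y : Chart A T) : Type u where
  g : X.ring →ₐ[A] Y.ring
  w : Y.f.comp g = X.f

noncomputable instance : Category.{u} (Chart A T) where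
  Hom := Chart.Hom
  id X := ⟨AlgHom.id A _, rfl⟩
  comp φ ψ := ⟨ψ.g.comp φ.g, by rw [← AlgHom.comp_assoc, ψ.w, φ.w]⟩

theorem exists_chart {X : Type u} [CommRing X] [Algebra A X] [Algebra.Etale A X] (f : X →ₐ[A] T) :
    ∃ (Z : Chart A T) (e : X ≃ₐ[A] Z.ring), Z.f.comp e.toAlgHom = f := by
  obtain ⟨n, π, hπ, -⟩ := (inferInstance : Algebra.FinitePresentation A X).out
  let e : (MvPolynomial (Fin n) A ⧸ RingHom.ker π) ≃ₐ[A] X := Ideal.quotientKerAlgEquivOfSurjective hπ
  exact ⟨⟨n, RingHom.ker π, f.comp e.toAlgHom, Algebra.Etale.of_equiv e.symm⟩, e.symm,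
    AlgHom.ext fun x => congrArg f (e.apply_symm_apply x)⟩

theorem isFiltered_chart (hcov : Covered A T) (hflat : Module.Flat A T) : IsFiltered (Chart A T) := by
  haveI : Nonempty (Chart A T) := by
    obtain ⟨X, _, _, _, f, -⟩ := hcov []
    exact ⟨(exists_chart f).choose⟩
  haveI : IsFilteredOrEmpty (Chart A T) := by
    refine ⟨fun X Y => ?_, fun X Y φ ψ => ?_⟩
    · haveI : Algebra.Etale A (X.ring ⊗[A] Y.ring) := Algebra.Etale.comp A X.ring (X.ring ⊗[A] Y.ring)
      obtain ⟨Z, e, he⟩ := exists_chart (X := X.ring ⊗[A] Y.ring) (Algebra.TensorProduct.lift X.f Y.f fun _ _ => Commute.all _ _)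
      refine ⟨Z, ⟨e.toAlgHom.comp Algebra.TensorProduct.includeLeft, ?_⟩, ⟨e.toAlgHom.comp Algebra.TensorProduct.includeRight, ?_⟩, trivial⟩
      · rw [← AlgHom.comp_assoc, he]; exact Algebra.TensorProduct.lift_comp_includeLeft _ _ (fun _ _ => Commute.all _ _)
      · rw [← AlgHom.comp_assoc, he]; exact Algebra.TensorProduct.lift_comp_includeRight _ _ (fun _ _ => Commute.all _ _)
    · let v : Fin X.n → X.ring := fun i => Ideal.Quotient.mk X.I (MvPolynomial.X i)
      obtain ⟨X', _, _, _, g, f', hgf, hg⟩ := kill hcov hflat Y.f (List.ofFn fun i => φ.g (v i) - ψ.g (v i)) (fun r hr => by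
        obtain ⟨i, rfl⟩ := List.mem_ofFn.1 hr
        rw [map_sub, sub_eq_zero]
        exact (AlgHom.congr_fun φ.w _).trans (AlgHom.congr_fun ψ.w _).symm)
      obtain ⟨Z, e, he⟩ := exists_chart f'
      refine ⟨Z, ⟨e.toAlgHom.comp g, by rw [← AlgHom.comp_assoc, he, hgf]⟩, Chart.Hom.ext (Ideal.Quotient.algHom_ext A (MvPolynomial.algHom_ext fun i => ?_))⟩
      have := hg _ (List.mem_ofFn.2 ⟨i, rfl⟩)
      rw [map_sub, sub_eq_zero] at this
      exact congrArg e this
  exact { toIsFilteredOrEmpty := inferInstance, nonempty := inferInstance }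

theorem isIndEtale_of_covered (hcov : Covered A T) (hflat : Module.Flat A T) : EtPBC.IsIndEtale A T := by
  haveI := isFiltered_chart hcov hflat
  let D : Chart A T ⥤ Under (CommRingCat.of A) :=
    { obj := fun X => Under.mk (CommRingCat.ofHom (algebraMap A X.ring))
      map := fun φ => Under.homMk (CommRingCat.ofHom φ.g.toRingHom) (CommRingCat.hom_ext φ.g.comp_algebraMap) }
  let c : Cocone D :=
    { pt := Under.mk (CommRingCat.ofHom (algebraMap A T))
      ι :=
        { app := fun X => Under.homMk (CommRingCat.ofHom X.f.toRingHom) (CommRingCat.hom_ext X.f.comp_algebraMap)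
          naturality := fun X Y φ => by
            ext x
            exact AlgHom.congr_fun φ.w x } }
  have hrep : ∀ l : List T, ∃ X : Chart A T, ∀ t ∈ l, ∃ x, X.f x = t := fun l => by
    obtain ⟨X, _, _, _, f, hf⟩ := hcov l
    obtain ⟨Z, e, he⟩ := exists_chart f
    exact ⟨Z, fun t ht => by obtain ⟨x, hx⟩ := hf t ht; exact ⟨e x, (AlgHom.congr_fun he x).trans hx⟩⟩
  have hc : Nonempty (IsColimit c) := by
    refine ⟨IsColimit.ofExistsUnique fun s => ?_⟩
    letI : Algebra A s.pt.right := s.pt.hom.hom.toAlgebra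
    let g : ∀ X : Chart A T, X.ring →ₐ[A] s.pt.right := fun X =>
      { (s.ι.app X).right.hom with commutes' := fun a => RingHom.congr_fun (congrArg CommRingCat.Hom.hom (Under.w (s.ι.app X))) a }
    have hg : ∀ {X Y : Chart A T} (φ : X ⟶ Y) (x : X.ring), g Y (φ.g x) = g X x := fun φ x =>
      RingHom.congr_fun (congrArg CommRingCat.Hom.hom (congrArg CommaMorphism.right (s.w φ))) x
    have hwd : ∀ (X Y : Chart A T) (x : X.ring) (y : Y.ring), X.f x = Y.f y → g X x = g Y y := fun X Y x y hxy => by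
      let Z := IsFiltered.max X Y
      let a := IsFiltered.leftToMax X Y
      let b := IsFiltered.rightToMax X Y
      obtain ⟨X', _, _, _, h, f', hf', hh⟩ := kill hcov hflat Z.f [a.g x - b.g y] (fun r hr => by
        rw [List.mem_singleton] at hr
        subst hr
        rw [map_sub, sub_eq_zero]
        exact (AlgHom.congr_fun a.w x).trans (hxy.trans (AlgHom.congr_fun b.w y).symm))
      obtain ⟨W, e, he⟩ := exists_chart f'
      let c' : Z ⟶ W := ⟨e.toAlgHom.comp h, by rw [← AlgHom.comp_assoc, he, hf']⟩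
      have h0 := hh _ (List.mem_singleton_self _)
      rw [map_sub, sub_eq_zero] at h0
      rw [← hg a x, ← hg b y, ← hg c' (a.g x), ← hg c' (b.g y)]
      exact congrArg (g W) (congrArg e h0)
    choose Xt hXt using fun t : T => hrep [t]
    choose xt hxt using fun t : T => hXt t t (List.mem_singleton_self t)
    let G0 : T → s.pt.right := fun t => g (Xt t) (xt t)
    have hG : ∀ (X : Chart A T) (x : X.ring), G0 (X.f x) = g X x := fun X x => hwd _ _ _ _ (hxt _)
    let G : T →ₐ[A] s.pt.right :=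
      { toFun := G0
        map_one' := by
          obtain ⟨X, -⟩ := hrep []
          rw [← map_one X.f, hG, map_one]
        map_zero' := by
          obtain ⟨X, -⟩ := hrep []
          rw [← map_zero X.f, hG, map_zero]
        map_mul' := fun p q => by
          obtain ⟨X, hX⟩ := hrep [p, q]
          obtain ⟨x, rfl⟩ := hX p (by simp)
          obtain ⟨y, rfl⟩ := hX q (by simp)
          rw [← map_mul X.f, hG, hG, hG, map_mul]
        map_add' := fun p q => by
          obtain ⟨X, hX⟩ := hrep [p, q]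
          obtain ⟨x, rfl⟩ := hX p (by simp)
          obtain ⟨y, rfl⟩ := hX q (by simp)
          rw [← map_add X.f, hG, hG, hG, map_add]
        commutes' := fun a => by
          obtain ⟨X, -⟩ := hrep []
          show G0 (algebraMap A T a) = _
          rw [← X.f.commutes a, hG, AlgHom.commutes] }
    refine ⟨Under.homMk (CommRingCat.ofHom G.toRingHom) (CommRingCat.hom_ext G.comp_algebraMap), fun X => ?_, fun m hm => ?_⟩
    · ext x; exact hG X x
    · ext t
      refine Eq.trans (congrArg m.right.hom (hxt t).symm) ?_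
      exact (RingHom.congr_fun (congrArg CommRingCat.Hom.hom (congrArg CommaMorphism.right (hm (Xt t)))) (xt t))
  refine ⟨Chart A T, inferInstance, inferInstance, D, c, hc.some, fun X => ?_, ⟨Iso.refl _⟩⟩
  show @Algebra.Etale A X.ring _ _ (algebraMap A X.ring).toAlgebra
  rw [show (algebraMap A X.ring).toAlgebra = (inferInstance : Algebra A X.ring) from Algebra.algebra_ext _ _ fun _ => rfl]
  exact X.et

theorem covered_cancel {C : Type u} [CommRing C] [Algebra A C] [Algebra T C] [IsScalarTower A T C]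
    (hC : Covered A C) : Covered T C := fun l => by
  obtain ⟨X, _, _, _, f, hf⟩ := hC l
  refine ⟨T ⊗[A] X, inferInstance, inferInstance, inferInstance,
    Algebra.TensorProduct.lift (Algebra.ofId T C) f fun _ _ => Commute.all _ _, fun t ht => ?_⟩
  obtain ⟨x, rfl⟩ := hf t ht
  exact ⟨1 ⊗ₜ x, by simp⟩

theorem covered_trans {C : Type u} [CommRing C] [Algebra A C] [Algebra T C] [IsScalarTower A T C]
    (hT : Covered A T) (hflat : Module.Flat A T) (hC : Covered T C) : Covered A C := by
  intro l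
  obtain ⟨Y, _, _, _, fY, hfY⟩ := hC l
  obtain ⟨T0, Y0, _, _, ⟨s, hs⟩, _, ⟨e⟩⟩ := Algebra.Etale.exists_subalgebra_fg (R := ℤ) (A := T) (B := Y)
  choose w hw using fun t : {t // t ∈ l} => hfY t.1 t.2
  have key : ∀ z : T ⊗[T0] Y0, ∃ S : List T, ∀ (X : Type u) [CommRing X] [Algebra T0 X] (f : X →ₐ[T0] T),
      (∀ t ∈ S, ∃ x, f x = t) → ∃ v, Algebra.TensorProduct.map f (AlgHom.id T0 Y0) v = z := by
    intro z
    induction z using TensorProduct.induction_on with
    | zero => exact ⟨[], fun X _ _ f _ => ⟨0, map_zero _⟩⟩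
    | tmul t y =>
      exact ⟨[t], fun X _ _ f hf => by obtain ⟨x, rfl⟩ := hf t (by simp); exact ⟨x ⊗ₜ y, by simp⟩⟩
    | add a b ha hb =>
      obtain ⟨S, hS⟩ := ha
      obtain ⟨S', hS'⟩ := hb
      refine ⟨S ++ S', fun X _ _ f hf => ?_⟩
      obtain ⟨v, rfl⟩ := hS X f fun t ht => hf t (List.mem_append_left _ ht)
      obtain ⟨v', rfl⟩ := hS' X f fun t ht => hf t (List.mem_append_right _ ht)
      exact ⟨v + v', map_add _ _ _⟩
  choose S hS using key
  obtain ⟨X, _, _, _, f, hf⟩ := hT (s.toList ++ l.attach.flatMap fun t => S (e (w t)))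
  choose x hx using fun i : s => hf i.1 (List.mem_append_left _ (Finset.mem_toList.2 i.2))
  let π : MvPolynomial s ℤ →ₐ[ℤ] T := MvPolynomial.aeval fun i => (i : T)
  have hπ : π.range = T0 := by
    rw [← hs, ← Algebra.adjoin_range_eq_range_aeval]
    exact congrArg _ (by simp)
  obtain ⟨rel, hrel⟩ := (IsNoetherian.noetherian (RingHom.ker π.toRingHom) : (RingHom.ker π.toRingHom).FG)
  have hψ : ∀ p, f (MvPolynomial.aeval (R := ℤ) x p) = π p := fun p =>
    AlgHom.congr_fun (show ((f : X →+* T).toIntAlgHom).comp (MvPolynomial.aeval x) = π from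
      MvPolynomial.algHom_ext fun i => by simp [π]; exact hx i) p
  obtain ⟨X', _, _, _, g, f', hgf, hg⟩ := kill hT hflat f (rel.toList.map fun p => MvPolynomial.aeval (R := ℤ) x p) (fun r hr => by
    obtain ⟨p, hp, rfl⟩ := List.mem_map.1 hr
    rw [hψ]
    have : p ∈ RingHom.ker π.toRingHom := hrel ▸ Ideal.subset_span (Finset.mem_toList.1 hp)
    exact this)
  let ψ : MvPolynomial s ℤ →+* X' := (g : X →+* X').comp (MvPolynomial.aeval (R := ℤ) x).toRingHom
  have hker : RingHom.ker π.toRingHom ≤ RingHom.ker ψ := by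
    rw [← hrel, Ideal.span_le]
    exact fun p hp => hg _ (List.mem_map.2 ⟨p, Finset.mem_toList.2 hp, rfl⟩)
  let π' : MvPolynomial s ℤ →+* T0 := π.toRingHom.codRestrict T0.toSubring fun p => hπ ▸ ⟨p, rfl⟩
  have hπ' : Function.Surjective π' := fun t => by
    obtain ⟨p, hp⟩ := (hπ.symm ▸ t.2 : (t : T) ∈ π.range)
    exact ⟨p, Subtype.ext hp⟩
  let φ : T0 →+* X' := RingHom.liftOfSurjective π' hπ' ⟨ψ, fun p hp => hker (by
    rw [RingHom.mem_ker] at hp ⊢
    exact congrArg Subtype.val hp)⟩
  have hφ : ∀ t : T0, f' (φ t) = t := fun t => by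
    obtain ⟨p, rfl⟩ := hπ' t
    rw [show φ (π' p) = ψ p from RingHom.liftOfRightInverse_comp_apply _ _ _ _ _]
    exact (AlgHom.congr_fun hgf _).trans (hψ p)
  letI : Algebra T0 X' := φ.toAlgebra
  let f0 : X' →ₐ[T0] T := { (f' : X' →+* T) with commutes' := hφ }
  haveI : SMulCommClass T0 A X' := ⟨fun t a x => by simp only [Algebra.smul_def]; exact mul_left_comm _ _ _⟩
  haveI : IsScalarTower A X' (X' ⊗[T0] Y0) := IsScalarTower.of_algebraMap_eq' rfl
  haveI : Algebra.Etale A (X' ⊗[T0] Y0) := Algebra.Etale.comp A X' (X' ⊗[T0] Y0)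
  let Φ : X' ⊗[T0] Y0 →+* C :=
    ((fY : Y →+* C).comp (e.symm : T ⊗[T0] Y0 →+* Y)).comp (Algebra.TensorProduct.map f0 (AlgHom.id T0 Y0)).toRingHom
  refine ⟨X' ⊗[T0] Y0, inferInstance, inferInstance, inferInstance,
    { Φ with commutes' := fun a => ?_ }, fun t ht => ?_⟩
  · show fY (e.symm (Algebra.TensorProduct.map f0 (AlgHom.id T0 Y0) ((algebraMap A X' a) ⊗ₜ 1))) = _
    rw [Algebra.TensorProduct.map_tmul, map_one, IsScalarTower.algebraMap_apply A T C]
    have h1 : f0 (algebraMap A X' a) = algebraMap A T a := f'.commutes a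
    rw [h1, show (algebraMap A T a ⊗ₜ[T0] (1 : Y0) : T ⊗[T0] Y0) = algebraMap T _ (algebraMap A T a) from rfl,
      AlgEquiv.commutes, AlgHom.commutes]
  · obtain ⟨v, hv⟩ := hS (e (w ⟨t, ht⟩)) X' f0 fun b hb => by
      obtain ⟨x', hx'⟩ := hf b (List.mem_append_right _ (List.mem_flatMap.2 ⟨⟨t, ht⟩, List.mem_attach _ _, hb⟩))
      exact ⟨g x', (AlgHom.congr_fun hgf x').trans hx'⟩
    refine ⟨v, ?_⟩
    show fY (e.symm (Algebra.TensorProduct.map f0 (AlgHom.id T0 Y0) v)) = t
    rw [hv, AlgEquiv.symm_apply_apply, hw]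

theorem isIndEtale_trans {C : Type u} [CommRing C] [Algebra A C] [Algebra T C] [IsScalarTower A T C]
    (hT : EtPBC.IsIndEtale A T) (hC : EtPBC.IsIndEtale T C) : EtPBC.IsIndEtale A C := by
  haveI := flat_of_isIndEtale hT
  haveI := flat_of_isIndEtale hC
  exact isIndEtale_of_covered (covered_trans (covered_of_isIndEtale hT) inferInstance (covered_of_isIndEtale hC))
    (Module.Flat.trans A T C)

theorem isIndEtale_cancel {C : Type u} [CommRing C] [Algebra A C] [Algebra T C] [IsScalarTower A T C]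
    (hT : EtPBC.IsIndEtale A T) (hC : EtPBC.IsIndEtale A C) : EtPBC.IsIndEtale T C := by
  haveI := flat_of_isIndEtale hC
  exact isIndEtale_of_covered (covered_cancel (covered_of_isIndEtale hC)) (flat_of_covered (covered_of_isIndEtale hT))

theorem covered_flat_of_isColimit {A T : Type u} [CommRing A] [CommRing T] [Algebra A T] {J : Type u} [SmallCategory J] [IsFiltered J]
    (D : J ⥤ Under (CommRingCat.of A)) (hD : ∀ j, letI := (D.obj j).hom.hom.toAlgebra; EtPBC.IsIndEtale A ↥(D.obj j).right)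
    (c : Cocone D) (hc : IsColimit c) (e : c.pt ≅ Under.mk (CommRingCat.ofHom (algebraMap A T))) :
    Covered A T ∧ Module.Flat A T := by
  haveI : Nonempty J := IsFiltered.nonempty
  let hc' := isColimitOfPreserves (Under.forget (CommRingCat.of A)) hc
  let g : ∀ j, letI := (D.obj j).hom.hom.toAlgebra; (D.obj j).right →ₐ[A] T := fun j =>
    letI := (D.obj j).hom.hom.toAlgebra
    { (e.hom.right.hom).comp (c.ι.app j).right.hom with
      commutes' := fun a => by
        have := RingHom.congr_fun (congrArg CommRingCat.Hom.hom (Under.w (c.ι.app j ≫ e.hom))) a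
        exact this }
  have hw : ∀ {i j} (φ : i ⟶ j) (x : (D.obj i).right), g j ((D.map φ).right.hom x) = g i x := fun {i j} φ x =>
    congrArg e.hom.right.hom (RingHom.congr_fun (congrArg CommRingCat.Hom.hom (congrArg CommaMorphism.right (c.w φ))) x)
  have hinj : Function.Injective e.hom.right.hom := Function.LeftInverse.injective (g := e.inv.right.hom)
    (RingHom.congr_fun (congrArg CommRingCat.Hom.hom (congrArg CommaMorphism.right e.hom_inv_id)))
  have heq : ∀ {i} (x : (D.obj i).right), g i x = 0 → ∃ (j : J) (φ : i ⟶ j), (D.map φ).right.hom x = 0 := fun {i} x hx => by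
    obtain ⟨j, φ, ψ, hφ⟩ := (Concrete.isColimit_rep_eq_iff_exists _ hc' x (0 : (D.obj i).right)).1
      (hinj (hx.trans ((map_zero (g i)).symm)))
    exact ⟨j, φ, hφ.trans (map_zero _)⟩
  have hrep : ∀ m : List T, ∃ j, ∀ b ∈ m, ∃ x, g j x = b := by
    have hs : ∀ b : T, ∃ j x, g j x = b := fun b => by
      obtain ⟨j, x, hx⟩ := Concrete.isColimit_exists_rep _ hc' (e.inv.right.hom b)
      exact ⟨j, x, (congrArg e.hom.right.hom hx).trans
        (RingHom.congr_fun (congrArg CommRingCat.Hom.hom (congrArg CommaMorphism.right e.inv_hom_id)) b)⟩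
    intro m
    induction m with
    | nil => exact ⟨Classical.arbitrary J, by simp⟩
    | cons b m ih =>
      obtain ⟨i, hi⟩ := ih
      obtain ⟨j, y, hy⟩ := hs b
      refine ⟨IsFiltered.max i j, fun c hc'' => ?_⟩
      rcases List.mem_cons.1 hc'' with rfl | hc''
      · exact ⟨(D.map (IsFiltered.rightToMax i j)).right.hom y, (hw _ _).trans hy⟩
      · obtain ⟨x, rfl⟩ := hi c hc''
        exact ⟨(D.map (IsFiltered.leftToMax i j)).right.hom x, hw _ _⟩
  refine ⟨fun l => ?_, ?_⟩
  · obtain ⟨j, hj⟩ := hrep l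
    letI := (D.obj j).hom.hom.toAlgebra
    choose x hx using fun t : {t // t ∈ l} => hj t.1 t.2
    obtain ⟨X, _, _, _, f, hf⟩ := covered_of_isIndEtale (hD j) (l.attach.map x)
    refine ⟨X, inferInstance, inferInstance, inferInstance, (g j).comp f, fun t ht => ?_⟩
    obtain ⟨y, hy⟩ := hf (x ⟨t, ht⟩) (List.mem_map.2 ⟨⟨t, ht⟩, List.mem_attach _ _, rfl⟩)
    exact ⟨y, (congrArg (g j) hy).trans (hx ⟨t, ht⟩)⟩
  rw [Module.Flat.iff_forall_isTrivialRelation]
  intro n a t hat
  obtain ⟨i, hi⟩ := hrep (List.ofFn t)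
  choose x hx using fun k => hi (t k) (List.mem_ofFn.2 ⟨k, rfl⟩)
  letI := (D.obj i).hom.hom.toAlgebra
  obtain ⟨j, φ, hφ⟩ := heq (∑ k, a k • x k) (by simp only [map_sum, map_smul, hx]; exact hat)
  letI := (D.obj j).hom.hom.toAlgebra
  let F : (D.obj i).right →ₐ[A] (D.obj j).right :=
    { (D.map φ).right.hom with commutes' := fun r => RingHom.congr_fun (congrArg CommRingCat.Hom.hom (Under.w (D.map φ))) r }
  haveI : Module.Flat A (D.obj j).right := flat_of_isIndEtale (hD j)
  obtain ⟨m, b, y, h1, h2⟩ := Module.Flat.iff_forall_isTrivialRelation.1 (inferInstance : Module.Flat A (D.obj j).right)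
    (f := a) (x := fun k => F (x k)) (by
      refine Eq.trans ?_ hφ
      show _ = F (∑ k, a k • x k)
      simp only [map_sum, map_smul])
  refine ⟨m, b, fun l => g j (y l), fun k => ?_, h2⟩
  have := congrArg (g j) (h1 k)
  rw [map_sum] at this
  simp only [map_smul] at this
  rw [← this, show g j (F (x k)) = g i (x k) from hw φ (x k), hx]

end Groth.Agent.H2IndEtale
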