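import Mathlib
import Groth.Prelude.Def_PBC
import Groth.Agent.Lib.H2EtaleCover
import Groth.Agent.Lib.H4HenselSections
set_option autoImplicit false

/-! Maps out of ind-étale algebras lift uniquely along Henselian pairs. -/
namespace Groth.Agent.H2IndEtaleLift
open CategoryTheory CategoryTheory.Limits
set_option maxHeartbeats 1000000
set_option synthInstance.maxHeartbeats 400000
set_option backward.isDefEq.respectTransparency.types false
universe u

theorem existsUnique_lift {A T : Type u} [CommRing A] [CommRing T] [Algebra A T] (h : EtPBC.IsIndEtale A T)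
    (C : Type u) [CommRing C] [Algebra A C] (J : Ideal C) [HenselianRing C J] (τ : T →ₐ[A] C ⧸ J) :
    ∃! φ : T →ₐ[A] C, (Ideal.Quotient.mkₐ A J).comp φ = τ := by
  have hcov := H2EtaleCover.covered_of_isIndEtale h
  obtain ⟨I, _, _, D, c, hc, het, ⟨e⟩⟩ := h
  let g : ∀ j, letI := (D.obj j).hom.hom.toAlgebra; (D.obj j).right →ₐ[A] T := fun j =>
    letI := (D.obj j).hom.hom.toAlgebra
    { (e.hom.right.hom).comp (c.ι.app j).right.hom with
      commutes' := fun a => RingHom.congr_fun (congrArg CommRingCat.Hom.hom (Under.w (c.ι.app j ≫ e.hom))) a }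
  have hex : ∀ j, letI := (D.obj j).hom.hom.toAlgebra
      ∃ φ : (D.obj j).right →ₐ[A] C, (Ideal.Quotient.mkₐ A J).comp φ = τ.comp (g j) := fun j => by
    letI := (D.obj j).hom.hom.toAlgebra
    haveI : Algebra.Etale A (D.obj j).right := het j
    exact (H4HenselPair.algHom_bijective_of_etale C J (D.obj j).right).2 (τ.comp (g j))
  choose l hl using hex
  have hnat : ∀ {i j} (φ : i ⟶ j) (x : (D.obj i).right), l j ((D.map φ).right.hom x) = l i x := fun {i j} φ x => by
    letI := (D.obj i).hom.hom.toAlgebra
    letI := (D.obj j).hom.hom.toAlgebra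
    haveI : Algebra.Etale A (D.obj i).right := het i
    let F : (D.obj i).right →ₐ[A] (D.obj j).right :=
      { (D.map φ).right.hom with commutes' := fun r => RingHom.congr_fun (congrArg CommRingCat.Hom.hom (Under.w (D.map φ))) r }
    refine AlgHom.congr_fun ((H4HenselPair.algHom_bijective_of_etale C J (D.obj i).right).1
      (a₁ := (l j).comp F) (a₂ := l i) ?_) x
    show (Ideal.Quotient.mkₐ A J).comp ((l j).comp F) = (Ideal.Quotient.mkₐ A J).comp (l i)
    rw [← AlgHom.comp_assoc, hl j, hl i]
    exact AlgHom.ext fun y => congrArg τ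
      (congrArg e.hom.right.hom (RingHom.congr_fun (congrArg CommRingCat.Hom.hom (congrArg CommaMorphism.right (c.w φ))) y))
  let s : Cocone D :=
    { pt := Under.mk (CommRingCat.ofHom (algebraMap A C))
      ι :=
        { app := fun j => Under.homMk (CommRingCat.ofHom (letI := (D.obj j).hom.hom.toAlgebra; (l j).toRingHom))
            (CommRingCat.hom_ext (RingHom.ext fun a => by
              letI := (D.obj j).hom.hom.toAlgebra
              exact (l j).commutes a))
          naturality := fun i j φ => by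
            ext x
            exact hnat φ x } }
  let Φ := e.inv ≫ hc.desc s
  let φ : T →ₐ[A] C := { Φ.right.hom with commutes' := fun a => RingHom.congr_fun (congrArg CommRingCat.Hom.hom (Under.w Φ)) a }
  have hφ : ∀ j (x : (D.obj j).right), letI := (D.obj j).hom.hom.toAlgebra; φ (g j x) = l j x := fun j x => by
    have h1 : (c.ι.app j ≫ e.hom) ≫ Φ = s.ι.app j := by simp [Φ, hc.fac]
    exact RingHom.congr_fun (congrArg CommRingCat.Hom.hom (congrArg CommaMorphism.right h1)) x
  have hmk : (Ideal.Quotient.mkₐ A J).comp φ = τ := by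
    have h1 : ∀ t : T, ∃ (j : I) (x : (D.obj j).right), letI := (D.obj j).hom.hom.toAlgebra; g j x = t := fun t => by
      let hc' := isColimitOfPreserves (Under.forget (CommRingCat.of A)) hc
      obtain ⟨j, x, hx⟩ := Concrete.isColimit_exists_rep _ hc' (e.inv.right.hom t)
      exact ⟨j, x, (congrArg e.hom.right.hom hx).trans
        (RingHom.congr_fun (congrArg CommRingCat.Hom.hom (congrArg CommaMorphism.right e.inv_hom_id)) t)⟩
    refine AlgHom.ext fun t => ?_
    obtain ⟨j, x, rfl⟩ := h1 t
    let _ := (D.obj j).hom.hom.toAlgebra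
    exact (congrArg (Ideal.Quotient.mk J) (hφ j x)).trans (AlgHom.congr_fun (hl j) x)
  refine ⟨φ, hmk, fun ψ hψ => AlgHom.ext fun t => ?_⟩
  obtain ⟨X, _, _, _, f, hf⟩ := hcov [t]
  obtain ⟨x, rfl⟩ := hf t (by simp)
  refine AlgHom.congr_fun ((H4HenselPair.algHom_bijective_of_etale C J X).1 (a₁ := ψ.comp f) (a₂ := φ.comp f) ?_) x
  show (Ideal.Quotient.mkₐ A J).comp (ψ.comp f) = (Ideal.Quotient.mkₐ A J).comp (φ.comp f)
  rw [← AlgHom.comp_assoc, ← AlgHom.comp_assoc, hψ, hmk]

end Groth.Agent.H2IndEtaleLift
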