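import Mathlib
set_option autoImplicit false

/-! Descending equations in `S ⊗ B` to finitely presented algebras mapping to `S`. -/
namespace Groth.Agent.H2IndSmoothTensor
open TensorProduct MvPolynomial
set_option maxHeartbeats 800000
universe u
variable (R : Type u) [CommRing R] (S : Type u) [CommRing S] [Algebra R S] (B : Type u) [CommRing B] [Algebra R B]

/-- The tautological presentation. -/
noncomputable abbrev taut : MvPolynomial S R →ₐ[R] S := aeval id

theorem exists_fp {B' : Type u} [CommRing B'] [Algebra R B'] (z : MvPolynomial S R ⊗[R] B) (w : MvPolynomial S R ⊗[R] B')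
    (hz : Algebra.TensorProduct.map (taut R S) (.id R B) z = 0) :
    ∃ (A : Type u) (_ : CommRing A) (_ : Algebra R A) (_ : Algebra.FinitePresentation R A) (g : MvPolynomial S R →ₐ[R] A)
      (f : A →ₐ[R] S), Algebra.TensorProduct.map g (.id R B) z = 0 ∧
      Algebra.TensorProduct.map f (.id R B') (Algebra.TensorProduct.map g (.id R B') w) =
        Algebra.TensorProduct.map (taut R S) (.id R B') w := by
  classical
  have hs : Function.Surjective (taut R S) := fun s => ⟨X s, aeval_X _ _⟩
  have hzk : z ∈ (RingHom.ker (taut R S)).map (Algebra.TensorProduct.includeLeft : MvPolynomial S R →ₐ[R] MvPolynomial S R ⊗[R] B) := by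
    rw [← Algebra.TensorProduct.rTensor_ker _ hs]
    exact hz
  obtain ⟨T, hT, hzT⟩ := Submodule.mem_span_finite_of_mem_span hzk
  obtain ⟨K, hKker, rfl⟩ := Finset.subset_set_image_iff.1 hT
  obtain ⟨F, hF⟩ : ∃ F : Finset S, ∀ F' : Finset S, F ⊆ F' → ∀ (g' : MvPolynomial S R →ₐ[R] S), (∀ s ∈ F', g' (X s) = s) →
        Algebra.TensorProduct.map g' (.id R B') w = Algebra.TensorProduct.map (taut R S) (.id R B') w := by
    clear hz hzk hzT
    induction w using TensorProduct.induction_on with
    | zero => exact ⟨∅, fun _ _ _ _ => by simp⟩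
    | tmul p b =>
      refine ⟨p.vars, fun F' hF' g' hg' => ?_⟩
      simp only [Algebra.TensorProduct.map_tmul]
      congr 1
      refine hom_congr_vars (f₁ := (g' : MvPolynomial S R →+* S)) (f₂ := ((taut R S) : MvPolynomial S R →+* S)) ?_ ?_ rfl
      · ext r; simp
      · intro i hi _
        simp [hg' i (hF' hi)]
    | add x y hx hy =>
      obtain ⟨F1, h1⟩ := hx
      obtain ⟨F2, h2⟩ := hy
      exact ⟨F1 ∪ F2, fun F' hF' g' hg' => by
        rw [map_add, map_add, h1 F' (Finset.union_subset_left hF') g' hg', h2 F' (Finset.union_subset_right hF') g' hg']⟩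
  let F' : Finset S := F ∪ K.biUnion vars
  let σ := {s : S // s ∈ F'}
  let kill : MvPolynomial S R →ₐ[R] MvPolynomial σ R := killCompl (f := ((↑) : σ → S)) Subtype.val_injective
  let I : Ideal (MvPolynomial σ R) := Ideal.span ((K.image kill : Finset _) : Set (MvPolynomial σ R))
  let π' : MvPolynomial σ R →ₐ[R] S := aeval fun s : σ => (s : S)
  have hkill : ∀ p : MvPolynomial S R, p.vars ⊆ F' → π' (kill p) = taut R S p := fun p hp => by
    obtain ⟨q, rfl⟩ := exists_rename_eq_of_vars_subset_range p ((↑) : σ → S) Subtype.val_injective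
      (fun s hs' => ⟨⟨s, hp hs'⟩, rfl⟩)
    show π' (killCompl _ (rename _ q)) = _
    rw [killCompl_rename_app, aeval_rename]
    rfl
  have hI : I ≤ RingHom.ker π' := Ideal.span_le.2 fun x hx => by
    obtain ⟨k, hk, rfl⟩ := Finset.mem_image.1 hx
    show π' (kill k) = 0
    rw [hkill k ((Finset.subset_biUnion_of_mem vars hk).trans Finset.subset_union_right)]
    exact hKker hk
  haveI hfp : Algebra.FinitePresentation R (MvPolynomial σ R ⧸ I) := Algebra.FinitePresentation.quotient ⟨_, rfl⟩
  refine ⟨MvPolynomial σ R ⧸ I, inferInstance, inferInstance, hfp, (Ideal.Quotient.mkₐ R I).comp kill,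
    Ideal.Quotient.liftₐ I π' (fun a ha => RingHom.mem_ker.1 (hI ha)), ?_, ?_⟩
  · refine Submodule.span_induction (fun x hx => ?_) (map_zero _) (fun x y _ _ hx hy => by rw [map_add, hx, hy, add_zero])
      (fun c x _ hx => by rw [smul_eq_mul, map_mul, hx, mul_zero]) hzT
    obtain ⟨k, hk, rfl⟩ := Finset.mem_image.1 hx
    show Algebra.TensorProduct.map ((Ideal.Quotient.mkₐ R I).comp kill) (.id R B) (k ⊗ₜ 1) = 0
    rw [Algebra.TensorProduct.map_tmul, AlgHom.comp_apply, Ideal.Quotient.mkₐ_eq_mk,
      Ideal.Quotient.eq_zero_iff_mem.2 (Ideal.subset_span (Finset.mem_image_of_mem _ hk)), zero_tmul]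
  · rw [← AlgHom.comp_apply, ← Algebra.TensorProduct.map_comp, AlgHom.comp_id]
    refine hF F' Finset.subset_union_left _ fun s hs' => ?_
    refine Eq.trans (show _ = π' (kill (X s)) from rfl) ?_
    have h1 : (X s : MvPolynomial S R) = rename ((↑) : σ → S) (X ⟨s, hs'⟩) := (rename_X ((↑) : σ → S) (⟨s, hs'⟩ : σ)).symm
    have h2 : kill (X s) = X ⟨s, hs'⟩ := by rw [h1]; exact killCompl_rename_app _ _
    rw [h2]
    exact aeval_X (R := R) (fun t : σ => (t : S)) ⟨s, hs'⟩

end Groth.Agent.H2IndSmoothTensor
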