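import Mathlib
set_option autoImplicit false

/-! Kernels of morphisms out of reduced schemes. -/
namespace Groth.Agent.H2KerReduced
open AlgebraicGeometry CategoryTheory Scheme IdealSheafData
universe u
set_option backward.defeqAttrib.useBackward true
set_option backward.isDefEq.respectTransparency false

theorem ker_apply {X Y : Scheme.{u}} [IsReduced X] (f : X ⟶ Y) (U : Y.affineOpens) :
    f.ker.ideal U = RingHom.ker (f.app U).hom := by
  let I : IdealSheafData Y := ⟨fun U ↦ RingHom.ker (f.app U).hom, ?_, _, rfl⟩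
  · exact congr($(ofIdeals_ideal I).ideal U)
  intro U s
  apply le_antisymm
  · refine Ideal.map_le_iff_le_comap.mpr fun x hx ↦ ?_
    simp_rw [RingHom.comap_ker, ← CommRingCat.hom_comp, Scheme.affineBasicOpen_coe, f.naturality,
      CommRingCat.hom_comp, ← RingHom.comap_ker]
    exact Ideal.ker_le_comap _ hx
  · intro x hx
    have := U.2.isLocalization_basicOpen s
    obtain ⟨x, ⟨_, n, rfl⟩, rfl⟩ := IsLocalization.exists_mk'_eq (.powers s) x
    refine (IsLocalization.mk'_mem_map_algebraMap_iff _ _ _ _ _).mpr ?_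
    suffices ∃ (V : X.Opens) (hV : V = X.basicOpen ((f.app U).hom s)),
        letI := hV.trans_le (X.basicOpen_le _); ((f.app U).hom x |_ V) = 0 by
      obtain ⟨_, rfl, H⟩ := this
      refine ⟨_, ⟨1, rfl⟩, ?_⟩
      simp only [pow_one, RingHom.mem_ker, map_mul]
      apply eq_zero_of_basicOpen_eq_bot
      rw [Scheme.basicOpen_mul]
      have h1 : X.basicOpen ((f.app U).hom x |_ X.basicOpen ((f.app U).hom s)) = ⊥ := by rw [H, Scheme.basicOpen_zero]
      erw [Scheme.basicOpen_res] at h1
      exact h1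
    refine ⟨f ⁻¹ᵁ Y.basicOpen s, by simp, ?_⟩
    replace hx : (Y.presheaf.map (homOfLE (Y.basicOpen_le s)).op ≫ f.app _).hom x = 0 := by
      trans (f.app (Y.basicOpen s)).hom (algebraMap Γ(Y, U) _ x)
      · simp [-NatTrans.naturality, RingHom.algebraMap_toAlgebra]
      · simp only [Scheme.affineBasicOpen_coe, RingHom.mem_ker] at hx
        rw [← IsLocalization.mk'_spec' (M := .powers s), map_mul, hx, mul_zero]
    rwa [f.naturality] at hx

theorem support_ker {X Y : Scheme.{u}} [IsReduced X] (f : X ⟶ Y) :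
    (f.ker.support : Set Y) = closure (Set.range f) := by
  refine Set.Subset.antisymm (fun y hy => ?_) ((f.ker.support).isClosed.closure_subset_iff.2 f.range_subset_ker_support)
  by_contra hn
  obtain ⟨_, ⟨U, hU, rfl⟩, hyU, hUr⟩ := Y.isBasis_affineOpens.exists_subset_of_mem_open
    (show y ∈ (closure (Set.range f))ᶜ from hn) isClosed_closure.isOpen_compl
  have h1 := ((coe_support_inter f.ker ⟨U, hU⟩).le ⟨hy, hyU⟩).1
  simp only [Scheme.mem_zeroLocus_iff, SetLike.mem_coe] at h1
  refine h1 (1 : Γ(Y, U)) ?_ (by rw [Scheme.basicOpen_of_isUnit _ isUnit_one]; exact hyU)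
  rw [ker_apply, RingHom.mem_ker, map_one]
  apply eq_zero_of_basicOpen_eq_bot
  rw [Scheme.basicOpen_of_isUnit _ isUnit_one]
  ext x
  simp only [TopologicalSpace.Opens.coe_bot, Set.mem_empty_iff_false, iff_false]
  exact fun hx => hUr hx (subset_closure ⟨x, rfl⟩)

end Groth.Agent.H2KerReduced
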