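import Mathlib
set_option autoImplicit false
set_option backward.isDefEq.respectTransparency.types false

/-! Ext from the quotient by a weakly regular sequence. -/
namespace Groth.Agent.H2KoszulExt
universe u
open CategoryTheory RingTheory.Sequence
open scoped Pointwise

variable {A : Type u} [CommRing A]

theorem smul_eq_comp {X Y : ModuleCat.{u} A} {i : ℕ} (y : A) (e : Abelian.Ext X Y i) :
    (Abelian.Ext.mk₀ (y • 𝟙 X)).comp e (zero_add i) = y • e := by
  rw [Abelian.Ext.mk₀_smul, Abelian.Ext.smul_comp, Abelian.Ext.mk₀_id_comp]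

theorem main (M : Type u) [AddCommGroup M] [Module A M] : ∀ (xs : List A), IsWeaklyRegular A xs →
    (∀ i, xs.length < i → Subsingleton (Abelian.Ext (ModuleCat.of A (A ⧸ Ideal.ofList xs)) (ModuleCat.of A M) i)) ∧
    Nonempty (Abelian.Ext (ModuleCat.of A (A ⧸ Ideal.ofList xs)) (ModuleCat.of A M) xs.length ≃ₗ[A]
      (M ⧸ (Ideal.ofList xs • (⊤ : Submodule A M)))) := by
  intro xs
  induction xs using List.reverseRecOn with
  | nil =>
    intro _
    have e0 : (A ⧸ Ideal.ofList ([] : List A)) ≃ₗ[A] A :=
      (Submodule.quotEquivOfEq _ ⊥ Ideal.ofList_nil).trans (Submodule.quotEquivOfEqBot ⊥ rfl)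
    haveI : Module.Projective A (A ⧸ Ideal.ofList ([] : List A)) := Module.Projective.of_equiv e0.symm
    haveI : Projective (ModuleCat.of A (A ⧸ Ideal.ofList ([] : List A))) := ModuleCat.projective_of_categoryTheory_projective _
    refine ⟨fun i hi => ?_, ?_⟩
    · obtain ⟨j, rfl⟩ := Nat.exists_eq_succ_of_ne_zero (by simp at hi; omega : i ≠ 0)
      exact subsingleton_of_forall_eq 0 fun e => e.eq_zero_of_projective
    · exact ⟨(Abelian.Ext.linearEquiv₀ (R := A)).trans <|
        (ModuleCat.homLinearEquiv (S := A)).trans <|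
        (e0.arrowCongr (LinearEquiv.refl A M)).trans <| (LinearMap.ringLmapEquivSelf A A M).trans
          (Submodule.quotEquivOfEqBot _ (by rw [Ideal.ofList_nil, Submodule.bot_smul])).symm⟩
  | append_singleton xs y ih =>
    intro h
    rw [isWeaklyRegular_append_iff] at h
    obtain ⟨hvan, ⟨eI⟩⟩ := ih h.1
    set J := Ideal.ofList xs with hJ
    set J' := Ideal.ofList (xs ++ [y]) with hJ'
    have hsup : J' = J ⊔ Ideal.span {y} := by rw [hJ', hJ, Ideal.ofList_append, Ideal.ofList_singleton]
    have hyreg : IsSMulRegular (A ⧸ J) y := by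
      have h2 := ((isWeaklyRegular_cons_iff _ _ _).mp h.2).1
      exact ((Submodule.quotEquivOfEq _ J (by rw [smul_eq_mul, Ideal.mul_top])).isSMulRegular_congr y).mp h2
    let f : (A ⧸ J) →ₗ[A] (A ⧸ J) := y • LinearMap.id
    let g : (A ⧸ J) →ₗ[A] (A ⧸ J') := Submodule.factor (hsup ▸ le_sup_left : J ≤ J')
    have hfg : Function.Exact f g := by
      intro q
      obtain ⟨a, rfl⟩ := Ideal.Quotient.mk_surjective q
      constructor
      · intro hq
        have ha : a ∈ J' := Ideal.Quotient.eq_zero_iff_mem.mp hq
        rw [hsup] at ha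
        obtain ⟨b, hb, c, hc, rfl⟩ := Submodule.mem_sup.mp ha
        obtain ⟨r, rfl⟩ := Ideal.mem_span_singleton.mp hc
        exact ⟨Ideal.Quotient.mk J r, by
          show y • Ideal.Quotient.mk J r = _
          rw [map_add, Ideal.Quotient.eq_zero_iff_mem.mpr hb, zero_add, Algebra.smul_def, Ideal.Quotient.algebraMap_eq, map_mul]⟩
      · rintro ⟨r, hr⟩
        obtain ⟨r, rfl⟩ := Ideal.Quotient.mk_surjective r
        rw [← hr]
        show g (y • Ideal.Quotient.mk J r) = 0
        rw [Algebra.smul_def, Ideal.Quotient.algebraMap_eq, ← map_mul]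
        exact Ideal.Quotient.eq_zero_iff_mem.mpr (hsup ▸ Ideal.mem_sup_right (Ideal.mem_span_singleton.mpr ⟨r, rfl⟩))
    have hgs : Function.Surjective g := Submodule.factor_surjective _
    let S : ShortComplex (ModuleCat.{u} A) := ShortComplex.mk (ModuleCat.ofHom f) (ModuleCat.ofHom g)
      (ModuleCat.hom_ext (LinearMap.ext fun z => hfg.apply_apply_eq_zero z))
    have hS : S.ShortExact :=
      { exact := (ShortComplex.ShortExact.moduleCat_exact_iff_function_exact S).mpr hfg
        mono_f := (ModuleCat.mono_iff_injective _).mpr hyreg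
        epi_g := (ModuleCat.epi_iff_surjective _).mpr hgs }
    have hSf : S.f = y • 𝟙 S.X₁ := rfl
    have hlen : (xs ++ [y]).length = xs.length + 1 := by simp
    refine ⟨fun i hi => ?_, ?_⟩
    · obtain ⟨j, rfl⟩ : ∃ j, i = 1 + j := ⟨i - 1, by omega⟩
      refine subsingleton_of_forall_eq 0 fun e => ?_
      haveI : Subsingleton (Abelian.Ext S.X₂ (ModuleCat.of A M) (1 + j)) := hvan _ (by omega)
      haveI : Subsingleton (Abelian.Ext S.X₁ (ModuleCat.of A M) j) := hvan _ (by omega)
      obtain ⟨x, hx⟩ := Abelian.Ext.contravariant_sequence_exact₃ hS (ModuleCat.of A M) (x₃ := e) (Subsingleton.elim _ _) rfl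
      rw [← hx, Subsingleton.elim x 0, Abelian.Ext.comp_zero]
    rw [hlen]
    have h1 : 1 + xs.length = xs.length + 1 := add_comm _ _
    let L : Abelian.Ext S.X₁ (ModuleCat.of A M) xs.length →ₗ[A] Abelian.Ext S.X₃ (ModuleCat.of A M) (xs.length + 1) :=
      { toFun := fun e => hS.extClass.comp e h1
        map_add' := fun a b => Abelian.Ext.comp_add _ _ _ _
        map_smul' := fun a e => Abelian.Ext.comp_smul _ _ _ _ }
    have hLs : Function.Surjective L := by
      intro e
      haveI : Subsingleton (Abelian.Ext S.X₂ (ModuleCat.of A M) (xs.length + 1)) := hvan _ (by omega)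
      exact Abelian.Ext.contravariant_sequence_exact₃ hS (ModuleCat.of A M) (x₃ := e) (Subsingleton.elim _ _) h1
    let φ : M →ₗ[A] Abelian.Ext S.X₃ (ModuleCat.of A M) (xs.length + 1) :=
      (L.comp eI.symm.toLinearMap).comp (J • (⊤ : Submodule A M)).mkQ
    have hφs : Function.Surjective φ := (hLs.comp eI.symm.surjective).comp (Submodule.mkQ_surjective _)
    have hker : LinearMap.ker φ = J' • (⊤ : Submodule A M) := by
      rw [hsup, Submodule.sup_smul, Submodule.ideal_span_singleton_smul]
      apply le_antisymm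
      · intro m hm
        obtain ⟨e', he'⟩ := Abelian.Ext.contravariant_sequence_exact₁ hS (ModuleCat.of A M)
          (eI.symm (Submodule.Quotient.mk m) : Abelian.Ext S.X₁ (ModuleCat.of A M) xs.length) h1 hm
        rw [hSf] at he'
        have he : y • eI e' = Submodule.Quotient.mk m := by
          rw [← map_smul, ← smul_eq_comp]
          exact (congrArg eI he').trans (eI.apply_symm_apply _)
        obtain ⟨m', hm'⟩ := Submodule.Quotient.mk_surjective _ (eI e')
        rw [← hm', ← Submodule.Quotient.mk_smul, Submodule.Quotient.eq] at he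
        rw [show m = (-(y • m' - m)) + y • m' by abel]
        exact Submodule.add_mem_sup (Submodule.neg_mem _ he) (Submodule.smul_mem_pointwise_smul _ _ _ trivial)
      · rw [sup_le_iff]
        constructor
        · intro m hm
          show L (eI.symm (Submodule.Quotient.mk m)) = 0
          rw [(Submodule.Quotient.mk_eq_zero _).mpr hm, map_zero, map_zero]
        · intro m hm
          obtain ⟨m', -, rfl⟩ := (Submodule.mem_smul_pointwise_iff_exists _ _ _).mp hm
          rw [LinearMap.mem_ker, map_smul]
          show y • hS.extClass.comp _ h1 = 0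
          rw [← Abelian.Ext.comp_smul, ← smul_eq_comp]
          exact hS.extClass_comp_assoc _
    exact ⟨((Submodule.quotEquivOfEq _ _ hker.symm).trans (φ.quotKerEquivOfSurjective hφs)).symm⟩

end Groth.Agent.H2KoszulExt
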