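import Mathlib
import Groth.Prelude.Def_Wider
import Groth.Agent.Lib.H2LCAway
import Groth.Agent.Lib.H2LCFinite

/-! Lifting `J`-torsion classes of `H^i_I(M)` to `H^i_{I + J}(M)`. -/

universe u

open CategoryTheory Pointwise

namespace Groth.Agent.H2LC

set_option backward.isDefEq.respectTransparency.types false
set_option linter.style.haveILetI false

variable {R : Type u} [CommRing R] [IsNoetherianRing R] {M : Type u} [AddCommGroup M] [Module R M]

theorem hmap_zero_injective {I J : Ideal R} (h : I ≤ J) :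
    Function.Injective (hmap h 0 (ModuleCat.of R M)) := fun a b hab =>
  toMod_injective _ ((toMod_hmap _ _ a).symm.trans ((congrArg _ hab).trans (toMod_hmap _ _ b)))

/-- elements of the kernel of `H^{q+1}_{J+(b)} → H^{q+1}_J` are killed when `H^q_J` is. -/
theorem kills_ker_hmap {J : Ideal R} (b : R) {q : ℕ} {c : R} (hc : ∀ y : LocCoh.H J q M, c • y = 0)
    (z : LocCoh.H (J ⊔ Ideal.span {b}) (q + 1) M)
    (hz : hmap (le_sup_left : J ≤ J ⊔ Ideal.span {b}) (q + 1) (ModuleCat.of R M) z = 0) : c • z = 0 := by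
  obtain ⟨e⟩ := exists_cokerEquiv J b q M
  obtain ⟨v, hv⟩ := e.surjective ⟨z, hz⟩
  obtain ⟨w, rfl⟩ := Submodule.mkQ_surjective _ v
  haveI := isLocalizedModule_hloc J b q M
  obtain ⟨⟨y, s⟩, hy⟩ := IsLocalizedModule.surj (Submonoid.powers b) (hloc J b q M) w
  have hw : c • w = 0 := by
    apply ((Module.End.isUnit_iff _).1 (IsLocalizedModule.map_units (hloc J b q M) s)).1
    simp only [Module.algebraMap_end_apply]
    rw [smul_comm, ← Submonoid.smul_def, hy, ← map_smul, hc, map_zero, smul_zero]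
  have h1 : ((c • e (Submodule.mkQ _ w) : LinearMap.ker (hmap (le_sup_left : J ≤ J ⊔ Ideal.span {b}) (q + 1) (ModuleCat.of R M))) :
      LocCoh.H (J ⊔ Ideal.span {b}) (q + 1) M) = c • z := by
    rw [hv]; rfl
  rw [← h1, ← map_smul, ← map_smul, hw, map_zero, map_zero]
  rfl

theorem kills_lower_sup {J : Ideal R} (b : R) {i : ℕ} {c : R}
    (h : ∀ q < i, ∀ y : LocCoh.H J q M, c • y = 0) :
    ∀ q < i, ∀ y : LocCoh.H (J ⊔ Ideal.span {b}) q M, (c * c) • y = 0 := by
  intro q hq y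
  rcases q with _ | q
  · apply hmap_zero_injective (le_sup_left : J ≤ J ⊔ Ideal.span {b})
    rw [map_smul, map_zero, mul_smul, h 0 hq]
  · rw [mul_smul]
    refine kills_ker_hmap b (h q (by omega)) _ ?_
    rw [map_smul]
    exact h _ hq _

/-- If powers of `x` kill `H^q_J`, `q < i`, and `H^i_{J'}` locally at `r`, where `J' = J + (ws) = r`,
a power of `x` kills locally at `r` every class of `H^i_J` annihilated by a power of `r`. -/
theorem exists_kills_torsion (x : R) (i : ℕ) (hi : 0 < i) (r : Ideal R) : ∀ (ws : List R) (J : Ideal R) (k : ℕ),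
    J ⊔ Ideal.ofList ws = r → (∀ q < i, ∀ y : LocCoh.H J q M, x ^ k • y = 0) →
    (∃ N : ℕ, ∀ y : LocCoh.H r i M, ∃ u ∉ r, u • x ^ N • y = 0) →
    ∃ N : ℕ, ∀ z : LocCoh.H J i M, (∃ l : ℕ, ∀ c ∈ r ^ l, c • z = 0) → ∃ u ∉ r, u • x ^ N • z = 0 := by
  intro ws
  induction ws with
  | nil =>
    intro J k hJ _ ⟨N, hN⟩
    rw [Ideal.ofList_nil, sup_bot_eq] at hJ
    subst hJ
    exact ⟨N, fun z _ => hN z⟩
  | cons b ws ih =>
    intro J k hJ hk hN
    rw [Ideal.ofList_cons, ← sup_assoc] at hJ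
    obtain ⟨N, hN'⟩ := ih (J ⊔ Ideal.span {b}) (k + k) hJ (fun q hq y => by
      rw [pow_add]; exact kills_lower_sup b hk q hq y) hN
    refine ⟨N + k, fun z ⟨l, hl⟩ => ?_⟩
    have hbr : b ∈ r := hJ ▸ Ideal.mem_sup_left (Ideal.mem_sup_right (Ideal.mem_span_singleton_self b))
    obtain ⟨z', hz'⟩ := (mem_range_hmap_iff J b i M z).2 ⟨l, hl _ (Ideal.pow_mem_pow hbr l)⟩
    obtain ⟨i', rfl⟩ : ∃ i', i = i' + 1 := ⟨i - 1, by omega⟩
    obtain ⟨u, hu, hu0⟩ := hN' (x ^ k • z') ⟨l, fun c hc => by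
      rw [smul_comm]
      refine kills_ker_hmap b (hk i' (by omega)) _ ?_
      rw [map_smul, hz', hl c hc]⟩
    refine ⟨u, hu, ?_⟩
    rw [← hz', ← map_smul, ← map_smul, pow_add, mul_smul, hu0, map_zero]

/-- a torsion element killed by an element at each prime smaller than `r`. -/
theorem exists_pow_torsion {H : Type u} [AddCommGroup H] [Module R H] (r : Ideal R) [r.IsPrime] (w : H)
    (h : ∀ p ∈ associatedPrimes R H, p < r → ∃ u ∉ p, u • w = 0) :
    ∃ u ∉ r, ∃ l : ℕ, ∀ c ∈ r ^ l, c • (u • w) = 0 := by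
  classical
  let A : Ideal R := LinearMap.ker (LinearMap.toSpanSingleton R H w)
  let e : (R ⧸ A) →ₗ[R] H := Submodule.liftQ A (LinearMap.toSpanSingleton R H w) le_rfl
  have he : Function.Injective e := by
    rw [← LinearMap.ker_eq_bot]; exact Submodule.ker_liftQ_eq_bot _ _ _ le_rfl
  set Rr := Localization.AtPrime r
  let B : Ideal R := Ideal.comap (algebraMap R Rr) (Ideal.map (algebraMap R Rr) A)
  have hB : ∀ c, c ∈ B ↔ ∃ u ∉ r, u * c ∈ A := by
    intro c
    show algebraMap R Rr c ∈ Ideal.map (algebraMap R Rr) A ↔ _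
    rw [IsLocalization.algebraMap_mem_map_algebraMap_iff r.primeCompl]
    rfl
  have key : r ≤ Ideal.radical B := by
    intro c hc
    by_contra hcB
    let S : Submonoid R := r.primeCompl ⊔ Submonoid.powers c
    have hd : Disjoint (A : Set R) (S : Set R) := by
      rw [Set.disjoint_left]
      intro t ht htS
      obtain ⟨u, hu, _, ⟨n, rfl⟩, rfl⟩ := Submonoid.mem_sup.1 (htS : t ∈ r.primeCompl ⊔ Submonoid.powers c)
      exact hcB ⟨n, (hB _).2 ⟨u, hu, ht⟩⟩
    obtain ⟨P, hP, hAP, hPS⟩ := Ideal.exists_le_prime_disjoint A S hd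
    haveI := hP
    have hPr : P ≤ r := fun t ht => by
      by_contra h'
      exact Set.disjoint_left.1 hPS ht (Submonoid.mem_sup_left h')
    have hcP : c ∉ P := fun h' => Set.disjoint_left.1 hPS h' (Submonoid.mem_sup_right (Submonoid.mem_powers c))
    obtain ⟨Q, hQ, hQP⟩ := Ideal.exists_minimalPrimes_le hAP
    haveI := hQ.1.1
    have hA1 : (Module.annihilator R (R ⧸ A)) = A := Ideal.annihilator_quotient
    have hQass : Q ∈ associatedPrimes R H := associatedPrimes.subset_of_injective he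
      (Module.associatedPrimes.minimalPrimes_annihilator_subset_associatedPrimes R (R ⧸ A) (by rwa [hA1]))
    obtain ⟨u, hu, hu0⟩ := h Q hQass (lt_of_le_of_ne (hQP.trans hPr) fun he' => hcP (hQP (he' ▸ hc)))
    exact hu (hQ.1.2 (LinearMap.mem_ker.2 hu0))
  obtain ⟨l, hl⟩ := Ideal.exists_pow_le_of_le_radical_of_fg key (IsNoetherian.noetherian r)
  obtain ⟨g, hg⟩ := IsNoetherian.noetherian (r ^ l)
  have hex : ∀ c ∈ g, ∃ u ∉ r, u * c ∈ A := fun c hc => (hB c).1 (hl (hg ▸ Submodule.subset_span hc))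
  choose! u hu hu0 using hex
  refine ⟨∏ c ∈ g, u c, fun hmem => ?_, l, fun c hc => ?_⟩
  · obtain ⟨c, hc, hcu⟩ := (Ideal.IsPrime.prod_mem_iff).1 hmem
    exact hu c hc hcu
  rw [← hg] at hc
  induction hc using Submodule.span_induction with
  | mem c hc =>
    have h2 : (u c * c) • w = 0 := hu0 c hc
    rw [← Finset.mul_prod_erase g u hc, ← mul_smul, show c * (u c * ∏ x ∈ g.erase c, u x) = (∏ x ∈ g.erase c, u x) * (u c * c) by ring,
      mul_smul, h2, smul_zero]
  | zero => rw [zero_smul]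
  | add a b _ _ ha hb => rw [add_smul, ha, hb, add_zero]
  | smul a c _ hc => rw [smul_eq_mul, mul_smul, hc, smul_zero]

end Groth.Agent.H2LC
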