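import Mathlib
import Groth.Prelude.Def_Wider
import Groth.Agent.Lib.H2LCLift
import Groth.Agent.Lib.H2LDualQuot
import Groth.Agent.Lib.H2DepthLocal
import Groth.Agent.Lib.H2LCFlat

/-! The finiteness theorem for local cohomology over quotients of regular rings. -/

universe u

open CategoryTheory Pointwise TensorProduct

namespace Groth.Agent.H2LCFin

open Groth.Agent.H2LC

set_option backward.isDefEq.respectTransparency.types false
set_option backward.isDefEq.respectTransparency false
set_option linter.style.haveILetI false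

section double
variable {A : Type u} [CommRing A] [IsNoetherianRing A] {M : Type u} [AddCommGroup M] [Module A M]

/-- vanishing for a localisation of a localisation. -/
theorem subsingleton_localize_localize (r : Ideal A) [r.IsPrime] (P : Ideal (Localization.AtPrime r)) [P.IsPrime] (j : ℕ) :
    Subsingleton (LocCoh.H (IsLocalRing.maximalIdeal (Localization.AtPrime P)) j
      (LocalizedModule P.primeCompl (LocalizedModule r.primeCompl M))) ↔
    Subsingleton (LocCoh.H (IsLocalRing.maximalIdeal (Localization.AtPrime (P.comap (algebraMap A (Localization.AtPrime r))))) j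
      (LocalizedModule (P.comap (algebraMap A (Localization.AtPrime r))).primeCompl M)) := by
  set p := P.comap (algebraMap A (Localization.AtPrime r))
  set A' := Localization.AtPrime r
  set A'' := Localization.AtPrime P
  haveI : IsLocalization.AtPrime A'' p :=
    IsLocalization.isLocalization_isLocalization_atPrime_isLocalization r.primeCompl A'' P
  set M'' := LocalizedModule P.primeCompl (LocalizedModule r.primeCompl M)
  haveI : IsScalarTower A A'' M'' := IsScalarTower.of_algebraMap_smul fun a m => by
    rw [IsScalarTower.algebraMap_apply A A' A'', algebraMap_smul, algebraMap_smul]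
  let g := ((LocalizedModule.mkLinearMap P.primeCompl (LocalizedModule r.primeCompl M)).restrictScalars A) ∘ₗ
    LocalizedModule.mkLinearMap r.primeCompl M
  have hg : IsBaseChange A'' g :=
    IsBaseChange.comp (IsLocalizedModule.isBaseChange r.primeCompl A' (LocalizedModule.mkLinearMap r.primeCompl M))
      (IsLocalizedModule.isBaseChange P.primeCompl A'' (LocalizedModule.mkLinearMap P.primeCompl _))
  haveI : IsLocalizedModule p.primeCompl g := (isLocalizedModule_iff_isBaseChange p.primeCompl A'' g).2 hg
  let φ : Localization.AtPrime p ≃ₐ[A] A'' := IsLocalization.algEquiv p.primeCompl _ _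
  letI : Algebra (Localization.AtPrime p) A'' := (φ : Localization.AtPrime p →+* A'').toAlgebra
  letI : Module (Localization.AtPrime p) M'' := Module.compHom _ (φ : Localization.AtPrime p →+* A'')
  haveI : IsScalarTower (Localization.AtPrime p) A'' M'' := IsScalarTower.of_algebraMap_smul fun _ _ => rfl
  haveI : IsScalarTower A (Localization.AtPrime p) M'' := IsScalarTower.of_algebraMap_smul fun a y => by
    show φ (algebraMap A _ a) • y = a • y
    rw [AlgEquiv.commutes, algebraMap_smul]
  have hs : Function.Surjective (algebraMap (Localization.AtPrime p) A'') := φ.surjective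
  have hmap : (IsLocalRing.maximalIdeal (Localization.AtPrime p)).map (algebraMap (Localization.AtPrime p) A'') =
      IsLocalRing.maximalIdeal A'' :=
    IsLocalRing.map_maximalIdeal_of_surjective _ hs
  rw [← hmap, H2LDual.subsingleton_H_baseChange]
  exact (H2LDual.subsingleton_H_congr ((IsLocalizedModule.iso p.primeCompl g).extendScalarsOfIsLocalization p.primeCompl (Localization.AtPrime p)) j).symm

end double

variable {A : Type u} [CommRing A] [IsNoetherianRing A]

/-- `depth M_p + ht(q/p) > n` for `p ∉ V(I)`, `q ∈ V(I)`, `p ≤ q`. -/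
def Hyp (I : Ideal A) (M : Type u) [AddCommGroup M] [Module A M] (n : ℕ) : Prop :=
  ∀ (p q : PrimeSpectrum A), ¬ I ≤ p.asIdeal → I ≤ q.asIdeal → ∀ hpq : p ≤ q,
    (n : ℕ∞) < LocCoh.depth (Localization.AtPrime p.asIdeal) (LocalizedModule p.asIdeal.primeCompl M) +
      Order.height (⟨q, hpq⟩ : Set.Ici p)

theorem Hyp.mono {I : Ideal A} {M : Type u} [AddCommGroup M] [Module A M] {m n : ℕ} (hmn : m ≤ n) (h : Hyp I M n) :
    Hyp I M m := fun p q hp hq hpq => lt_of_le_of_lt (by exact_mod_cast hmn) (h p q hp hq hpq)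

theorem le_depth_congr {S : Type u} [CommRing S] [IsLocalRing S] [IsNoetherianRing S] {M N : Type u} [AddCommGroup M]
    [Module S M] [Module.Finite S M] [AddCommGroup N] [Module S N] [Module.Finite S N] (e : M ≃ₗ[S] N) :
    LocCoh.depth S M = LocCoh.depth S N := by
  refine ENat.eq_of_forall_natCast_le_iff fun k => ?_
  show (k : ℕ∞) ≤ LocCoh.idealDepth _ M ↔ (k : ℕ∞) ≤ LocCoh.idealDepth _ N
  rw [H2DepthLocal.le_idealDepth_iff, H2DepthLocal.le_idealDepth_iff]
  exact forall₂_congr fun i _ => H2LDual.subsingleton_H_congr e i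

/-- the hypothesis passes to the quotient by the `I`-torsion. -/
theorem Hyp.quot_torsion {I : Ideal A} {M : Type u} [AddCommGroup M] [Module A M] [Module.Finite A M] {n : ℕ}
    (h : Hyp I M n) : Hyp I (M ⧸ DRing.torsionSub I M) n := by
  intro p q hp hq hpq
  have := h p q hp hq hpq
  obtain ⟨a, haI, hap⟩ := SetLike.not_le_iff_exists.1 hp
  let T := DRing.torsionSub I M
  let f := LocalizedModule.map p.asIdeal.primeCompl T.mkQ
  have hf : Function.Bijective f := by
    refine ⟨?_, LocalizedModule.map_surjective p.asIdeal.primeCompl _ T.mkQ_surjective⟩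
    rw [injective_iff_map_eq_zero]
    intro z hz
    obtain ⟨w, rfl⟩ := (LocalizedModule.map_exact p.asIdeal.primeCompl T.subtype T.mkQ (LinearMap.exact_subtype_mkQ T) z).1 hz
    haveI : Subsingleton (LocalizedModule p.asIdeal.primeCompl T) := LocalizedModule.subsingleton_iff.2 fun t => by
      obtain ⟨k, hk⟩ := t.2
      exact ⟨a ^ k, fun hm => hap (p.2.mem_of_pow_mem k hm), Subtype.ext (hk _ (Ideal.pow_mem_pow haI k))⟩
    rw [Subsingleton.elim w 0, map_zero]
  rwa [← le_depth_congr (LinearEquiv.ofBijective f hf)]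

/-- the hypothesis drops by one modulo a regular element. -/
theorem Hyp.quot_smul {I : Ideal A} {M : Type u} [AddCommGroup M] [Module A M] [Module.Finite A M] {n : ℕ}
    (h : Hyp I M (n + 1)) {x : A} (hx : IsSMulRegular M x) : Hyp I (M ⧸ (x • ⊤ : Submodule A M)) n := by
  intro p q hp hq hpq
  have h0 := h p q hp hq hpq
  set S := p.asIdeal.primeCompl
  set Ap := Localization.AtPrime p.asIdeal
  have hex : Function.Exact (x • (LinearMap.id : M →ₗ[A] M)) (Submodule.mkQ (x • (⊤ : Submodule A M))) := fun m =>
    H2Depth.mk_eq_zero_iff_exists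
  have hex' : Function.Exact (LocalizedModule.map S (x • (LinearMap.id : M →ₗ[A] M)))
      (LocalizedModule.map S (Submodule.mkQ (x • (⊤ : Submodule A M)))) := LocalizedModule.map_exact S _ _ hex
  have hS := lseq_shortExact (R := Ap) (A := LocalizedModule S M) (B := LocalizedModule S M)
    (C := LocalizedModule S (M ⧸ (x • ⊤ : Submodule A M)))
    (LocalizedModule.map_injective S _ (fun a b hab => hx hab)) (LocalizedModule.map_surjective S _ (Submodule.mkQ_surjective _)) hex'
  have key : ∀ k : ℕ, ((k + 1 : ℕ) : ℕ∞) ≤ LocCoh.depth Ap (LocalizedModule S M) →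
      (k : ℕ∞) ≤ LocCoh.depth Ap (LocalizedModule S (M ⧸ (x • ⊤ : Submodule A M))) := by
    intro k hk
    refine H2DepthLocal.le_idealDepth_iff.2 fun i hi => ⟨fun a b => ?_⟩
    have hk' := H2DepthLocal.le_idealDepth_iff.1 hk
    haveI := hk' (i + 1) (by omega)
    suffices hz : ∀ a : LocCoh.H (IsLocalRing.maximalIdeal Ap) i (LocalizedModule S (M ⧸ (x • ⊤ : Submodule A M))), a = 0 from
      (hz a).trans (hz b).symm
    intro a
    obtain ⟨w, rfl⟩ := (exact_map_dMap hS i a).1 (Subsingleton.elim _ _)
    rw [@Subsingleton.elim _ (hk' i (by omega)) w 0, map_zero]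
  cases hd : LocCoh.depth Ap (LocalizedModule S (M ⧸ (x • ⊤ : Submodule A M))) using ENat.recTopCoe with
  | top => rw [top_add]; exact ENat.coe_lt_top n
  | coe d =>
    cases hh : Order.height (⟨q, hpq⟩ : Set.Ici p) using ENat.recTopCoe with
    | top => rw [add_top]; exact ENat.coe_lt_top n
    | coe c =>
      rw [hh] at h0
      rw [← Nat.cast_add, Nat.cast_lt]
      by_contra hlt
      cases hD : LocCoh.depth Ap (LocalizedModule S M) using ENat.recTopCoe with
      | top =>
        have := key (d + 1) (by rw [hD]; exact le_top)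
        rw [hd, Nat.cast_le] at this
        omega
      | coe D =>
        rw [hD, ← Nat.cast_add, Nat.cast_lt] at h0
        have := key (D - 1) (by rw [hD, Nat.cast_le]; omega)
        rw [hd, Nat.cast_le] at this
        omega

theorem height_Ici_le_ringKrullDim (r : Ideal A) [r.IsPrime] (P : Ideal (Localization.AtPrime r)) [P.IsPrime] {c : ℕ}
    (hc : ringKrullDim (Localization.AtPrime r ⧸ P) = c) {p : PrimeSpectrum A}
    (hp : p.asIdeal = P.comap (algebraMap A (Localization.AtPrime r))) (hpr : p ≤ ⟨r, inferInstance⟩) :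
    Order.height (⟨⟨r, inferInstance⟩, hpr⟩ : Set.Ici p) ≤ (c : ℕ∞) := by
  refine Order.height_le fun l hl => ?_
  set A' := Localization.AtPrime r
  have hle : ∀ k, (l k).1.asIdeal ≤ r := fun k => by
    have h := LTSeries.monotone l (Fin.le_last k)
    rw [show l (Fin.last _) = l.last from rfl, hl] at h
    exact h
  have hdisj : ∀ k, Disjoint (r.primeCompl : Set A) ((l k).1.asIdeal : Set A) := fun k =>
    Set.disjoint_left.2 fun a ha hak => ha (hle k hak)
  haveI hprime : ∀ k, ((l k).1.asIdeal.map (algebraMap A A')).IsPrime := fun k =>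
    IsLocalization.isPrime_of_isPrime_disjoint r.primeCompl A' _ (l k).1.2 (hdisj k)
  have hback : ∀ k, ((l k).1.asIdeal.map (algebraMap A A')).comap (algebraMap A A') = (l k).1.asIdeal := fun k =>
    IsLocalization.under_map_of_isPrime_disjoint r.primeCompl A' (l k).1.2 (hdisj k)
  let z : Fin (l.length + 1) → PrimeSpectrum.zeroLocus (R := A') P := fun k =>
    ⟨⟨(l k).1.asIdeal.map (algebraMap A A'), hprime k⟩, fun a ha => by
      have h1 : P.comap (algebraMap A A') ≤ (l k).1.asIdeal := hp.ge.trans (l k).2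
      have h2 := Ideal.map_mono (f := algebraMap A A') h1
      rw [IsLocalization.map_comap r.primeCompl A'] at h2
      exact h2 ha⟩
  have hstep : ∀ k : Fin l.length, z k.castSucc < z k.succ := fun k => by
    have hlt : l k.castSucc < l k.succ := l.step k
    refine lt_of_le_of_ne (Ideal.map_mono (f := algebraMap A A') hlt.le) fun he => hlt.ne ?_
    refine Subtype.ext (PrimeSpectrum.ext ?_)
    rw [← hback k.castSucc, ← hback k.succ]
    exact congrArg (fun t : PrimeSpectrum.zeroLocus (R := A') P => t.1.asIdeal.comap (algebraMap A A')) he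
  have := Order.LTSeries.length_le_krullDim (LTSeries.mk l.length z (Fin.strictMono_iff_lt_succ.2 hstep))
  rw [← ringKrullDim_quotient, hc] at this
  exact_mod_cast this

theorem localRingHom_surjective {R : Type u} [CommRing R] (π : R →+* A) (hπ : Function.Surjective π) (r : Ideal A) [r.IsPrime] :
    Function.Surjective (Localization.localRingHom (r.comap π) r π rfl) := by
  intro y
  obtain ⟨a, ⟨s, hs⟩, rfl⟩ := IsLocalization.exists_mk'_eq r.primeCompl y
  obtain ⟨a', rfl⟩ := hπ a
  obtain ⟨s', rfl⟩ := hπ s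
  exact ⟨IsLocalization.mk' _ a' (⟨s', hs⟩ : (r.comap π).primeCompl), Localization.localRingHom_mk' _ _ _ _ _ _⟩

/-- the local step: a power of `x ∈ I` kills `H^i_r(M)` locally at `r`. -/
theorem exists_kills_local {R : Type u} [CommRing R] [IsRegularRing R] (π : R →+* A) (hπ : Function.Surjective π)
    {I : Ideal A} {M : Type u} [AddCommGroup M] [Module A M] [Module.Finite A M] {i : ℕ} (h : Hyp I M i)
    (r : Ideal A) [r.IsPrime] (hIr : I ≤ r) {x : A} (hx : x ∈ I) :
    ∃ N : ℕ, ∀ y : LocCoh.H r i M, ∃ u ∉ r, u • x ^ N • y = 0 := by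
  set A' := Localization.AtPrime r
  haveI : IsRegularLocalRing (Localization.AtPrime (r.comap π)) := IsRegularRing.isRegularLocalRing_localization _
  obtain ⟨N, hN⟩ := H2LDual.exists_pow_kills_quot (Localization.localRingHom (r.comap π) r π rfl)
    (localRingHom_surjective π hπ r) (M := LocalizedModule r.primeCompl M) (algebraMap A A' x) i fun P _ hxP j c hc hj => by
      rw [subsingleton_localize_localize]
      let p : PrimeSpectrum A := ⟨P.comap (algebraMap A A'), inferInstance⟩
      have hpr : p ≤ ⟨r, inferInstance⟩ := fun a ha => by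
        have := IsLocalRing.le_maximalIdeal (‹P.IsPrime›.ne_top) (ha : algebraMap A A' a ∈ P)
        rwa [IsLocalization.AtPrime.to_map_mem_maximal_iff A' r] at this
      have h1 := h p ⟨r, inferInstance⟩ (fun hI => hxP (hI hx)) hIr hpr
      have h2 := height_Ici_le_ringKrullDim r P hc (p := p) rfl hpr
      refine (H2DepthLocal.le_idealDepth_iff (k := j + 1)).1 ?_ j (Nat.lt_succ_self j)
      show ((j + 1 : ℕ) : ℕ∞) ≤ LocCoh.depth (Localization.AtPrime p.asIdeal) (LocalizedModule p.asIdeal.primeCompl M)
      cases hd : LocCoh.depth (Localization.AtPrime p.asIdeal) (LocalizedModule p.asIdeal.primeCompl M) using ENat.recTopCoe with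
      | top => exact le_top
      | coe d =>
        have h3 := lt_of_lt_of_le h1 (add_le_add le_rfl h2)
        rw [hd, ← Nat.cast_add, Nat.cast_lt] at h3
        exact Nat.cast_le.2 (by omega)
  refine ⟨N, fun y => ?_⟩
  obtain ⟨e₀⟩ := exists_flatEquiv (R' := A') r i M
  rw [Localization.AtPrime.map_eq_maximalIdeal] at e₀
  let c₁ := ((localCohomology (IsLocalRing.maximalIdeal A') i).mapIso
    (LocalizedModule.equivTensorProduct r.primeCompl M).symm.toModuleIso).toLinearEquiv
  have h0 : (algebraMap A A' x) ^ N • e₀ ((1 : A') ⊗ₜ[A] y) = 0 := c₁.injective (by rw [map_smul, map_zero]; exact hN _)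
  rw [← map_smul, map_eq_zero_iff e₀ e₀.injective, ← map_pow, algebraMap_smul, ← TensorProduct.tmul_smul] at h0
  obtain ⟨⟨u, hu⟩, hu0⟩ := (IsLocalizedModule.eq_zero_iff r.primeCompl (TensorProduct.mk A A' _ 1)).1 h0
  exact ⟨u, hu, hu0⟩

theorem associatedPrime_ge {I : Ideal A} {M : Type u} [AddCommGroup M] [Module A M] {i : ℕ} {r : Ideal A}
    (hr : r ∈ associatedPrimes A (LocCoh.H I i M)) : I ≤ r := by
  obtain ⟨w, hw⟩ := (isAssociatedPrime_iff.1 hr).2
  obtain ⟨n, hn⟩ := isPowerTorsion (I := I) i (ModuleCat.of A M) w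
  intro a ha
  refine hr.isPrime.mem_of_pow_mem n ?_
  rw [hw, Submodule.mem_colon_singleton]
  exact hn _ (Ideal.pow_mem_pow ha n)

/-- **Finiteness theorem**: over a quotient of a regular ring, `H^j_I(M)` is finite for `j ≤ i` if
`depth M_p + ht(q/p) > i` for all `p ∉ V(I)`, `q ∈ V(I)` with `p ≤ q`. -/
theorem finite_of_hyp {R : Type u} [CommRing R] [IsRegularRing R] (π : R →+* A) (hπ : Function.Surjective π)
    (I : Ideal A) : ∀ (i : ℕ) (M : Type u) [AddCommGroup M] [Module A M] [Module.Finite A M], Hyp I M i →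
      Module.Finite A (LocCoh.H I i M) := by
  intro i
  induction i using Nat.strong_induction_on with
  | _ i ih =>
  intro M _ _ _ h
  classical
  rcases i with _ | i
  · exact finite_H0 M
  obtain ⟨x₀, hx₀, hreg, he⟩ := exists_torsionfree_reduction I M
  obtain ⟨e⟩ := he i
  set M' := M ⧸ DRing.torsionSub I M
  have h' : Hyp I M' (i + 1) := h.quot_torsion
  suffices Module.Finite A (LocCoh.H I (i + 1) M') from Module.Finite.equiv e.symm
  set H := LocCoh.H I (i + 1) M'
  have hlow : ∀ q < i + 1, Module.Finite A (LocCoh.H I q M') := fun q hq => ih q hq M' (h'.mono hq.le)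
  -- the `x₀`-socle is finite
  obtain ⟨hex, hS⟩ := quotSMulTop_shortExact hreg
  haveI := ih i (Nat.lt_succ_self i) (M' ⧸ (x₀ • ⊤ : Submodule A M')) (h'.quot_smul hreg)
  set K : Submodule A H := LinearMap.range (dMap hS i)
  haveI : Module.Finite A K := Module.Finite.range _
  have hAss : (associatedPrimes A H).Finite := by
    refine Set.Finite.subset (associatedPrimes.finite A K) fun r hr => ?_
    obtain ⟨hr1, w, hw⟩ := isAssociatedPrime_iff.1 hr
    have hmem : w ∈ K := by
      obtain ⟨z, hz⟩ := (exact_dMap_map hS i w).1 ((cmap_smul_id (I := I) (i + 1) x₀ (ModuleCat.of A M') w).trans (by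
        have : x₀ ∈ r := associatedPrime_ge hr hx₀
        rw [hw, Submodule.mem_colon_singleton] at this
        exact this))
      exact ⟨z, hz⟩
    refine isAssociatedPrime_iff.2 ⟨hr1, ⟨w, hmem⟩, ?_⟩
    rw [hw]
    ext a
    simp only [Submodule.mem_colon_singleton, Submodule.mem_bot]
    exact ⟨fun ha => Subtype.ext ha, fun ha => congrArg Subtype.val ha⟩
  have hkill : ∀ x ∈ I, ∃ N : ℕ, ∀ z : H, x ^ N • z = 0 := by
    intro x hx
    obtain ⟨k, hk⟩ : ∃ k : ℕ, ∀ q < i + 1, ∀ y : LocCoh.H I q M', x ^ k • y = 0 := by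
      have hq : ∀ q, q < i + 1 → KilledPow I M' q := fun q hq => by
        haveI := hlow q hq
        exact killedPow_of_finite
      choose! n hn using hq
      exact ⟨(Finset.range (i + 1)).sup n, fun q hq y =>
        hn q hq _ (Ideal.pow_le_pow_right (Finset.le_sup (Finset.mem_range.2 hq)) (Ideal.pow_mem_pow hx _)) y⟩
    have hloc : ∀ (n : ℕ) (r : Ideal A), r ∈ associatedPrimes A H → (hAss.toFinset.filter (· < r)).card ≤ n →
        ∃ N : ℕ, ∀ z : H, ∃ u ∉ r, u • x ^ N • z = 0 := by
      intro n
      induction n using Nat.strong_induction_on with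
      | _ n ihn =>
      intro r hr hcard
      haveI := hr.isPrime
      have hbelow : ∀ p ∈ hAss.toFinset.filter (· < r), ∃ N : ℕ, ∀ z : H, ∃ u ∉ p, u • x ^ N • z = 0 := fun p hp => by
        simp only [Finset.mem_filter, Set.Finite.mem_toFinset] at hp
        refine ihn (hAss.toFinset.filter (· < p)).card (lt_of_lt_of_le (Finset.card_lt_card ?_) hcard) p hp.1 le_rfl
        refine Finset.ssubset_iff_subset_ne.2 ⟨fun q hq => ?_, fun heq => ?_⟩
        · simp only [Finset.mem_filter] at hq ⊢
          exact ⟨hq.1, hq.2.trans hp.2⟩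
        · have : p ∈ hAss.toFinset.filter (· < p) := by
            rw [heq]; simp only [Finset.mem_filter, Set.Finite.mem_toFinset]; exact hp
          exact lt_irrefl p (Finset.mem_filter.1 this).2
      choose! N0 hN0 using hbelow
      obtain ⟨ws, hws⟩ : ∃ ws : List A, I ⊔ Ideal.ofList ws = r := by
        obtain ⟨g, hg⟩ := IsNoetherian.noetherian r
        refine ⟨g.toList, ?_⟩
        rw [show Ideal.ofList g.toList = r from by rw [← hg, Ideal.ofList]; simp]
        exact sup_eq_right.2 (associatedPrime_ge hr)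
      obtain ⟨N, hN⟩ := exists_kills_torsion x (i + 1) (Nat.succ_pos i) r ws I k hws hk
        (exists_kills_local π hπ h' r (associatedPrime_ge hr) hx)
      set B := (hAss.toFinset.filter (· < r)).sup N0
      refine ⟨N + B, fun z => ?_⟩
      obtain ⟨u, hu, l, hl⟩ := exists_pow_torsion r (x ^ B • z) fun p hp hpr => by
        have hpm : p ∈ hAss.toFinset.filter (· < r) := by
          simp only [Finset.mem_filter, Set.Finite.mem_toFinset]; exact ⟨hp, hpr⟩
        obtain ⟨v, hv, hv0⟩ := hN0 p hpm z
        refine ⟨v, hv, ?_⟩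
        obtain ⟨m, hm⟩ := Nat.exists_eq_add_of_le (Finset.le_sup (f := N0) hpm)
        rw [show B = N0 p + m from hm, pow_add, mul_comm, mul_smul, smul_comm, hv0, smul_zero]
      obtain ⟨v, hv, hv0⟩ := hN (u • x ^ B • z) ⟨l, hl⟩
      refine ⟨v * u, fun hm => (hr.isPrime.mem_or_mem hm).elim hv hu, ?_⟩
      rw [pow_add, mul_smul, mul_smul, smul_comm u]
      exact hv0
    have hall : ∀ r ∈ hAss.toFinset, ∃ N : ℕ, ∀ z : H, ∃ u ∉ r, u • x ^ N • z = 0 := fun r hr =>
      hloc _ r (hAss.mem_toFinset.1 hr) le_rfl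
    choose! N hN using hall
    refine ⟨hAss.toFinset.sup N, fun z => ?_⟩
    by_contra hz
    obtain ⟨r, hr, hle⟩ := exists_le_isAssociatedPrime_of_isNoetherianRing A _ hz
    have hr' : r ∈ hAss.toFinset := hAss.mem_toFinset.2 hr
    obtain ⟨u, hu, hu0⟩ := hN r hr' z
    obtain ⟨m, hm⟩ := Nat.exists_eq_add_of_le (Finset.le_sup (f := N) hr')
    refine hu (hle ?_)
    rw [Submodule.mem_colon_singleton, Submodule.mem_bot, hm, pow_add, mul_comm, mul_smul, smul_comm, hu0, smul_zero]
  obtain ⟨n, hn⟩ : ∃ n : ℕ, I ^ n ≤ Module.annihilator A H :=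
    Ideal.exists_pow_le_of_le_radical_of_fg (fun x hx => by
      obtain ⟨N, hN⟩ := hkill x hx
      exact ⟨N, Module.mem_annihilator.2 hN⟩) (IsNoetherian.noetherian I)
  refine finite_of_killedPow (i + 1) M' fun j hj => ?_
  rcases Nat.lt_or_ge j (i + 1) with hlt | hge
  · haveI := hlow j hlt
    exact killedPow_of_finite
  · obtain rfl : j = i + 1 := le_antisymm hj hge
    exact ⟨n, fun a ha y => Module.mem_annihilator.1 (hn ha) y⟩

end Groth.Agent.H2LCFin
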