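import Mathlib
import Groth.Prelude.Def_Wider
import Groth.Agent.Lib.H2LDualQuot
import Groth.Agent.Lib.H2DepthLocal
import Groth.Agent.Lib.H2LCFinite
import Groth.Agent.S0817

/-! Finite length of `H^i_m(M)`. -/

universe u

open CategoryTheory Pointwise

namespace Groth.Agent.H2LDual

open Groth.Agent.H2LC

set_option backward.isDefEq.respectTransparency.types false
set_option linter.style.haveILetI false

variable {A : Type u} [CommRing A] [IsLocalRing A] [IsNoetherianRing A]

theorem isFiniteLength_of_killed {H : Type u} [AddCommGroup H] [Module A H] [IsArtinian A H] (N : ℕ)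
    (h : ∀ a ∈ IsLocalRing.maximalIdeal A ^ N, ∀ y : H, a • y = 0) : IsFiniteLength A H := by
  induction N generalizing H with
  | zero =>
    haveI : Subsingleton H := ⟨fun a b => by
      have h1 := fun y => h 1 (by simp) y
      simp only [one_smul] at h1
      rw [h1 a, h1 b]⟩
    exact .of_subsingleton
  | succ N ih =>
    let S : Submodule A H := IsLocalRing.maximalIdeal A • (⊤ : Submodule A H)
    have hS : IsFiniteLength A S := ih fun a ha y => Subtype.ext <| by
      obtain ⟨y, hy⟩ := y
      show a • y = 0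
      refine Submodule.smul_induction_on hy (fun b hb m _ => ?_) fun u v hu hv => by rw [smul_add, hu, hv, add_zero]
      rw [← mul_smul]
      exact h _ (by rw [pow_succ]; exact Ideal.mul_mem_mul ha hb) m
    have hQ : IsFiniteLength A (H ⧸ S) := by
      rw [isFiniteLength_iff_isNoetherian_isArtinian]
      refine ⟨?_, inferInstance⟩
      have hT : Module.IsTorsionBySet A (H ⧸ S) (IsLocalRing.maximalIdeal A) := Module.isTorsionBySet_quotient_ideal_smul H _
      letI := hT.module
      letI : Field (A ⧸ IsLocalRing.maximalIdeal A) := Ideal.Quotient.field _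
      haveI : IsScalarTower A (A ⧸ IsLocalRing.maximalIdeal A) (H ⧸ S) := hT.isScalarTower
      haveI : IsArtinian (A ⧸ IsLocalRing.maximalIdeal A) (H ⧸ S) := isArtinian_of_tower A inferInstance
      haveI : IsNoetherian (A ⧸ IsLocalRing.maximalIdeal A) (H ⧸ S) := IsSemiprimaryRing.isNoetherian_iff_isArtinian.2 inferInstance
      haveI : Module.Finite A (H ⧸ S) := Module.Finite.trans (A ⧸ IsLocalRing.maximalIdeal A) (H ⧸ S)
      exact isNoetherian_of_isNoetherianRing_of_finite A (H ⧸ S)
    rw [isFiniteLength_iff_isNoetherian_isArtinian] at hS hQ ⊢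
    obtain ⟨_, _⟩ := hS
    obtain ⟨_, _⟩ := hQ
    exact ⟨isNoetherian_of_range_eq_ker S.subtype S.mkQ (by rw [Submodule.range_subtype, Submodule.ker_mkQ]), inferInstance⟩

variable {R : Type u} [CommRing R] [IsRegularLocalRing R] (π : R →+* A) (hπ : Function.Surjective π)
  {M : Type u} [AddCommGroup M] [Module A M] [Module.Finite A M]

include hπ

/-- `H^i_m(M)` has finite length iff `H^j_p(M_p) = 0` for the non-maximal `p` with `j + dim A/p = i`. -/
theorem isFiniteLength_iff (i : ℕ) :
    IsFiniteLength A (LocCoh.H (IsLocalRing.maximalIdeal A) i M) ↔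
    ∀ p : PrimeSpectrum A, p.asIdeal ≠ IsLocalRing.maximalIdeal A → ∀ c j : ℕ, ringKrullDim (A ⧸ p.asIdeal) = c → j + c = i →
      Subsingleton (LocCoh.H (IsLocalRing.maximalIdeal (Localization.AtPrime p.asIdeal)) j (LocalizedModule p.asIdeal.primeCompl M)) := by
  constructor
  · intro hf p hp c j hc hj
    obtain ⟨hN, -⟩ := isFiniteLength_iff_isNoetherian_isArtinian.1 hf
    haveI := hN
    obtain ⟨N, hN'⟩ := killedPow_of_finite (I := IsLocalRing.maximalIdeal A) (M := M) (j := i)
    obtain ⟨x, hx, hxp⟩ := SetLike.exists_of_lt (lt_of_le_of_ne (IsLocalRing.le_maximalIdeal p.2.ne_top) hp)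
    exact subsingleton_of_kills_quot π hπ (x ^ N) i (hN' _ (Ideal.pow_mem_pow hx N)) p.asIdeal
      (fun h => hxp (p.2.mem_of_pow_mem N h)) j c hc hj
  · intro h
    haveI := Groth.Agent.S0817.result A M i
    have hk : ∀ x ∈ IsLocalRing.maximalIdeal A, x ∈ Ideal.radical (Module.annihilator A (LocCoh.H (IsLocalRing.maximalIdeal A) i M)) := by
      intro x hx
      obtain ⟨N, hN⟩ := exists_pow_kills_quot π hπ (M := M) x i fun p _ hxp j c hc hj =>
        h ⟨p, inferInstance⟩ (fun (he : p = IsLocalRing.maximalIdeal A) => hxp (by rw [he]; exact hx)) c j hc hj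
      exact ⟨N, Module.mem_annihilator.2 hN⟩
    obtain ⟨N, hN⟩ := Ideal.exists_pow_le_of_le_radical_of_fg (fun x hx => hk x hx) (IsNoetherian.noetherian _)
    exact isFiniteLength_of_killed N fun a ha y => Module.mem_annihilator.1 (hN ha) y

end Groth.Agent.H2LDual
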