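import Mathlib
import Groth.Agent.Lib.H2LDual
import Groth.Agent.Lib.RegularLocalBasic

/-! The socle of the top local cohomology of a regular local ring is one-dimensional. -/

universe u

open CategoryTheory Pointwise

namespace Groth.Agent.H2LDual

set_option backward.isDefEq.respectTransparency.types false
set_option linter.style.haveILetI false

open Groth.Agent.H2LC

section
variable {R : Type u} [CommRing R] [IsLocalRing R] [IsNoetherianRing R]

local notation3 "𝔪" => IsLocalRing.maximalIdeal R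

theorem socle_cyclic : ∀ (rs : List R) (N : Type u) [AddCommGroup N] [Module R N],
    RingTheory.Sequence.IsWeaklyRegular N rs → (∀ r ∈ rs, r ∈ 𝔪) →
    (∀ a ∈ 𝔪, ∀ v : N, a • v ∈ (Ideal.ofList rs • ⊤ : Submodule R N)) →
    (∃ n₀ : N, ∀ v : N, ∃ c : R, v - c • n₀ ∈ (Ideal.ofList rs • ⊤ : Submodule R N)) →
    ∀ u v : LocCoh.H 𝔪 rs.length N, u ≠ 0 → (∀ a ∈ 𝔪, a • u = 0) → (∀ a ∈ 𝔪, a • v = 0) →
      ∃ c : R, v = c • u := by
  intro rs
  induction rs with
  | nil =>
    intro N _ _ _ _ hkill ⟨n₀, hn⟩ u v hu _ _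
    simp only [Ideal.ofList_nil, Submodule.bot_smul, Submodule.mem_bot] at hkill hn
    let e := toMod (I := 𝔪) (ModuleCat.of R N)
    obtain ⟨a, ha⟩ := hn (e u)
    obtain ⟨b, hb⟩ := hn (e v)
    have ha' : IsUnit a := by
      by_contra h
      apply hu
      apply toMod_injective (I := 𝔪) (ModuleCat.of R N)
      rw [map_zero]
      exact (sub_eq_zero.1 ha).trans (hkill a ((IsLocalRing.mem_maximalIdeal a).2 h) n₀)
    obtain ⟨a', rfl⟩ := ha'
    refine ⟨b * ((a'⁻¹ : Rˣ) : R), toMod_injective (I := 𝔪) (ModuleCat.of R N) ?_⟩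
    rw [map_smul]
    show e v = (b * ((a'⁻¹ : Rˣ) : R)) • e u
    rw [sub_eq_zero.1 ha, sub_eq_zero.1 hb, ← mul_smul, mul_assoc, Units.inv_mul, mul_one]
  | cons x rs ih =>
    intro N _ _ hreg hmem hkill ⟨n₀, hn⟩ u v hu huk hvk
    obtain ⟨hx, hrs⟩ := (RingTheory.Sequence.isWeaklyRegular_cons_iff N x rs).1 hreg
    let π : N →ₗ[R] QuotSMulTop x N := (x • (⊤ : Submodule R N)).mkQ
    have hπ : Function.Surjective π := Submodule.mkQ_surjective _
    have hex : Function.Exact (x • LinearMap.id : N →ₗ[R] N) π := by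
      intro w
      rw [← LinearMap.mem_ker, Submodule.ker_mkQ, Submodule.mem_smul_pointwise_iff_exists]
      exact ⟨fun ⟨b, _, hb⟩ => ⟨b, hb⟩, fun ⟨b, hb⟩ => ⟨b, trivial, hb⟩⟩
    have hS := lseq_shortExact (f := (x • LinearMap.id : N →ₗ[R] N)) (fun a b h => hx h) hπ hex
    have hle : Submodule.map π (Ideal.ofList (x :: rs) • ⊤ : Submodule R N) ≤
        (Ideal.ofList rs • ⊤ : Submodule R (QuotSMulTop x N)) := by
      rw [Ideal.ofList_cons, Submodule.sup_smul, Submodule.map_sup, Submodule.map_smul'', Submodule.map_smul'']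
      refine sup_le ?_ (Submodule.smul_mono le_rfl le_top)
      rw [Submodule.smul_le]
      intro r hr n hn
      obtain ⟨c, rfl⟩ := Ideal.mem_span_singleton'.1 hr
      obtain ⟨w, -, rfl⟩ := hn
      have : π (x • w) = 0 := by
        rw [← LinearMap.mem_ker, Submodule.ker_mkQ]
        exact Submodule.smul_mem_pointwise_smul _ _ _ trivial
      rw [mul_smul, ← map_smul, this, smul_zero]
      exact Submodule.zero_mem _
    have hmem' : ∀ r ∈ rs, r ∈ 𝔪 := fun r hr => hmem r (List.mem_cons_of_mem x hr)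
    have hkill' : ∀ a ∈ 𝔪, ∀ w : QuotSMulTop x N, a • w ∈ (Ideal.ofList rs • ⊤ : Submodule R (QuotSMulTop x N)) := by
      intro a ha w
      obtain ⟨w, rfl⟩ := hπ w
      exact hle ⟨a • w, hkill a ha w, map_smul π a w⟩
    have hn' : ∃ m₀ : QuotSMulTop x N, ∀ w, ∃ c : R, w - c • m₀ ∈ (Ideal.ofList rs • ⊤ : Submodule R (QuotSMulTop x N)) := by
      refine ⟨π n₀, fun w => ?_⟩
      obtain ⟨w, rfl⟩ := hπ w
      obtain ⟨c, hc⟩ := hn w
      exact ⟨c, hle ⟨_, hc, by rw [map_sub, map_smul]⟩⟩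
    have hN : Subsingleton (LocCoh.H 𝔪 rs.length N) :=
      subsingleton_of_hasReg (k := (x :: rs).length) ⟨x :: rs, rfl, hreg, hmem⟩ _ (by simp)
    have hinj := dMap_injective (I := 𝔪) hS rs.length hN
    have hlift : ∀ w : LocCoh.H 𝔪 (rs.length + 1) N, (∀ a ∈ 𝔪, a • w = 0) →
        ∃ w' : LocCoh.H 𝔪 rs.length (QuotSMulTop x N), dMap (I := 𝔪) hS rs.length w' = w ∧ ∀ a ∈ 𝔪, a • w' = 0 := by
      intro w hw
      obtain ⟨w', hw'⟩ := (exact_dMap_map (I := 𝔪) hS rs.length w).1 (by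
        refine (cmap_smul (rs.length + 1) x (ModuleCat.ofHom (LinearMap.id : N →ₗ[R] N)) w).trans ?_
        rw [cmap_eq_id]
        exact hw x (hmem x (List.mem_cons_self ..)))
      exact ⟨w', hw', fun a ha => hinj ((map_smul _ a w').trans (((congrArg (a • ·) hw').trans (hw a ha)).trans (map_zero _).symm))⟩
    obtain ⟨u', rfl, hu'⟩ := hlift u huk
    obtain ⟨v', rfl, hv'⟩ := hlift v hvk
    obtain ⟨c, rfl⟩ := ih (QuotSMulTop x N) hrs hmem' hkill' hn' u' v' (fun h => hu (by rw [h]; exact map_zero _)) hu' hv'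
    exact ⟨c, map_smul _ c u'⟩

end

theorem exists_injectiveHull (R : Type u) [CommRing R] [IsRegularLocalRing R] (d : ℕ) (hd : ringKrullDim R = d) :
    ∃ f : IsLocalRing.ResidueField R →ₗ[R] LocCoh.H (IsLocalRing.maximalIdeal R) d R,
      Function.Injective f ∧ (∀ N : Submodule R (LocCoh.H (IsLocalRing.maximalIdeal R) d R), N ≠ ⊥ → N ⊓ LinearMap.range f ≠ ⊥) := by
  classical
  set m := IsLocalRing.maximalIdeal R
  obtain ⟨s, hs, hsc⟩ := Submodule.FG.exists_span_set_encard_eq_spanFinrank m.fg_of_isNoetherianRing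
  have hfin : s.Finite := Set.encard_ne_top_iff.1 (by rw [hs]; exact ENat.coe_ne_top _)
  have hspanrank : (m.spanFinrank : ℕ) = d := by
    have h : ((m.spanFinrank : ℕ) : WithBot ℕ∞) = (d : ℕ) := IsRegularLocalRing.spanFinrank_maximalIdeal.trans hd
    exact_mod_cast h
  let rs := hfin.toFinset.toList
  have hspan : Ideal.ofList rs = m := by
    rw [← hsc]; simp [rs, Ideal.ofList, Ideal.span]
  have hlen : rs.length = d := by
    have h := hfin.encard_eq_coe_toFinset_card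
    rw [hs, Nat.cast_inj] at h
    rw [Finset.length_toList, ← h, hspanrank]
  have hreg := RegLocal.isRegular_of_span_eq rs [] (by simpa using hspan) (by simp [hlen, hspanrank, m])
  have hmem : ∀ r ∈ rs, r ∈ m := fun r hr => hspan ▸ Ideal.subset_span hr
  have hsoc : ∀ u v : LocCoh.H m d R, u ≠ 0 → (∀ a ∈ m, a • u = 0) → (∀ a ∈ m, a • v = 0) → ∃ c : R, v = c • u :=
    hlen ▸ socle_cyclic rs R hreg.toIsWeaklyRegular hmem (fun a ha v => Submodule.smul_mem_smul (hspan.symm ▸ ha) Submodule.mem_top)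
      ⟨1, fun v => ⟨v, by simp⟩⟩
  have hex : ∀ w : LocCoh.H m d R, w ≠ 0 → ∃ b : R, b • w ≠ 0 ∧ ∀ a ∈ m, a • (b • w) = 0 := by
    intro w hw
    have hex : ∃ k : ℕ, ∀ a ∈ m ^ k, a • w = 0 := isPowerTorsion (I := m) d (ModuleCat.of R R) w
    rcases hk : Nat.find hex with _ | k
    · exact absurd (one_smul R w ▸ (hk ▸ Nat.find_spec hex) 1 (by simp)) hw
    · have := Nat.find_min hex (m := k) (by omega)
      simp only [not_forall] at this
      obtain ⟨b, hb, hbw⟩ := this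
      exact ⟨b, hbw, fun a ha => by
        rw [← mul_smul]; exact (hk ▸ Nat.find_spec hex) _ (by rw [pow_succ']; exact Ideal.mul_mem_mul ha hb)⟩
  haveI : Module.Finite R R := inferInstance
  haveI := nontrivial_H_top (R := R) d R ((Module.supportDim_self_eq_ringKrullDim R).trans hd)
  obtain ⟨w, hw⟩ := exists_ne (0 : LocCoh.H m d R)
  obtain ⟨b, hu, hu0⟩ := hex w hw
  set u := b • w
  refine ⟨Submodule.liftQ m (LinearMap.toSpanSingleton R _ u) fun a ha => hu0 a ha, ?_, fun N hN => ?_⟩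
  · refine LinearMap.ker_eq_bot.1 (Submodule.ker_liftQ_eq_bot _ _ _ fun a ha => ?_)
    by_contra ham
    obtain ⟨a', rfl⟩ : IsUnit a := by simpa [m] using ham
    exact hu ((Units.isUnit a').smul_eq_zero.1 (LinearMap.mem_ker.1 ha))
  · obtain ⟨y, hyN, hy⟩ := (Submodule.ne_bot_iff N).1 hN
    obtain ⟨c, hc0, hck⟩ := hex y hy
    obtain ⟨e, he⟩ := hsoc u (c • y) hu hu0 hck
    exact (Submodule.ne_bot_iff _).2 ⟨c • y, ⟨N.smul_mem c hyN, ⟨Submodule.Quotient.mk e, he.symm⟩⟩, hc0⟩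

end Groth.Agent.H2LDual
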