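import Mathlib
set_option autoImplicit false
set_option backward.isDefEq.respectTransparency.types false

/-! Frobenius preservation of linear independence from a spanning family. -/
namespace Groth.Agent.H2LiPow

theorem li_pow {k K : Type*} [Field k] [Field K] [Algebra k K] (p : ℕ) [ExpChar k p] [ExpChar K p]
    {I σ : Type*} [Fintype σ] (z : I → K) (hz : LinearIndependent k (fun m => z m ^ p)) (v : σ → K) (d : K) (hd : d ≠ 0)
    (hv : LinearIndependent k v) (hs : ∀ i, d * v i ∈ Submodule.span k (Set.range z)) :
    LinearIndependent k (fun i => v i ^ p) := by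
  classical
  choose c hc using fun i => Finsupp.mem_span_range_iff_exists_finsupp.mp (hs i)
  have hci : LinearIndependent k c := by
    apply LinearIndependent.of_comp (Finsupp.linearCombination k z)
    have : (Finsupp.linearCombination k z) ∘ c = fun i => d * v i := by
      funext i; simp [Finsupp.linearCombination_apply, hc]
    rw [this]
    exact hv.map' (LinearMap.mulLeft k d) (LinearMap.ker_eq_bot.mpr (mul_right_injective₀ hd))
  obtain ⟨L, hL⟩ := LinearMap.exists_leftInverse_of_injective (Fintype.linearCombination k c)
    (LinearMap.ker_eq_bot.mpr hci.fintypeLinearCombination_injective)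
  rw [Fintype.linearIndependent_iff]
  intro a ha
  let U : Finset I := Finset.univ.biUnion (fun i => (c i).support)
  have hcU : ∀ i, ∑ m ∈ U, c i m • z m = d * v i := by
    intro i; rw [← hc i, Finsupp.sum_of_support_subset (c i) (s := U) _ (fun m a => a • z m) (fun m _ => zero_smul _ _)]
    exact Finset.subset_biUnion_of_mem (fun i => (c i).support) (Finset.mem_univ i)
  have h0 : ∑ m ∈ U, (∑ i, a i * c i m ^ p) • z m ^ p = 0 := by
    have : ∀ i, ∑ m ∈ U, (c i m ^ p) • z m ^ p = d ^ p * v i ^ p := by
      intro i; rw [← mul_pow, ← hcU i, sum_pow_char p]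
      simp [Algebra.smul_def, mul_pow, map_pow]
    calc ∑ m ∈ U, (∑ i, a i * c i m ^ p) • z m ^ p = ∑ i, a i • ∑ m ∈ U, (c i m ^ p) • z m ^ p := by
          simp only [Finset.sum_smul, Finset.smul_sum, smul_smul]; rw [Finset.sum_comm]
      _ = d ^ p * ∑ i, a i • v i ^ p := by simp only [this, Finset.mul_sum, mul_smul_comm]
      _ = 0 := by rw [ha, mul_zero]
  have h1 := linearIndependent_iff'.mp hz U _ h0
  intro l
  have hB : ∀ i, ∑ m ∈ U, c i m * L (Finsupp.single m 1) l = if i = l then 1 else 0 := by
    intro i
    have := congrArg (fun f => f (Pi.single i 1) l) hL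
    simp only [LinearMap.comp_apply, Fintype.linearCombination_apply_single, one_smul, LinearMap.id_apply] at this
    rw [show c i = ∑ m ∈ U, c i m • Finsupp.single m (1:k) by
      conv_lhs => rw [← Finsupp.sum_single (c i)]
      rw [Finsupp.sum_of_support_subset (c i) (s := U)]
      · simp
      · exact Finset.subset_biUnion_of_mem (fun i => (c i).support) (Finset.mem_univ i)
      · simp] at this
    rw [map_sum, Finset.sum_apply] at this
    simp only [map_smul, Pi.smul_apply, smul_eq_mul, Pi.single_apply] at this
    rw [this]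
    simp [eq_comm]
  calc a l = ∑ i, a i * (∑ m ∈ U, c i m * L (Finsupp.single m 1) l) ^ p := by
        simp [hB, (expChar_pos k p).ne']
    _ = ∑ m ∈ U, (∑ i, a i * c i m ^ p) * L (Finsupp.single m 1) l ^ p := by
        simp only [sum_pow_char p, mul_pow, Finset.mul_sum, Finset.sum_mul, mul_assoc]; rw [Finset.sum_comm]
    _ = 0 := Finset.sum_eq_zero fun m hm => by rw [h1 m hm, zero_mul]

end Groth.Agent.H2LiPow
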