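import Mathlib
set_option autoImplicit false

/-! Maximal points and flat morphisms. -/
namespace Groth.Agent.H2MaxPts
open AlgebraicGeometry CategoryTheory TopologicalSpace
universe u

variable {T : Type u} [TopologicalSpace T] [QuasiSober T] [T0Space T]

theorem maximal_of_generic {Z : Set T} (hZ : Z ∈ irreducibleComponents T) {η : T} (hη : IsGenericPoint η Z)
    {y : T} (hy : y ⤳ η) : y = η := by
  have h1 : closure ({y} : Set T) ≤ Z := hZ.2 isIrreducible_singleton.closure (by
    rw [← hη.def]; exact closure_mono_of_specializes hy)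
  exact (hy.antisymm (by
    rw [specializes_iff_mem_closure, hη.def]; exact h1 (subset_closure rfl))).eq
where
  closure_mono_of_specializes {a b : T} (h : a ⤳ b) : closure ({b} : Set T) ⊆ closure {a} := h.closure_subset

theorem exists_max (x : T) : ∃ η : T, η ⤳ x ∧ ∃ Z ∈ irreducibleComponents T, IsGenericPoint η Z := by
  refine ⟨_, ?_, irreducibleComponent x, irreducibleComponent_mem_irreducibleComponents x,
    isIrreducible_irreducibleComponent.isGenericPoint_genericPoint isClosed_irreducibleComponent⟩
  exact (isIrreducible_irreducibleComponent.isGenericPoint_genericPoint isClosed_irreducibleComponent).specializes mem_irreducibleComponent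

theorem isMax_map {X Y : Scheme.{u}} (f : X ⟶ Y) [Flat f] {η : X} (hη : ∀ y : X, y ⤳ η → y = η) {y : Y} (hy : y ⤳ f η) :
    y = f η := by
  obtain ⟨x, hx, rfl⟩ := Flat.generalizingMap f hy
  rw [hη x hx]

theorem max_mem_aux [NoetherianSpace T] {U : Set T} (hUo : IsOpen U) (hU : Dense U) {η : T}
    (hη : ∀ y : T, y ⤳ η → y = η) : η ∈ U := by
  let Z := closure ({η} : Set T)
  have hZ : Z ∈ irreducibleComponents T := by
    refine ⟨isIrreducible_singleton.closure, fun W hW hle => ?_⟩
    have hc : IsIrreducible (closure W) := hW.closure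
    have hg := hc.isGenericPoint_genericPoint_closure
    intro w hw
    show w ∈ closure ({η} : Set T)
    rw [← hη _ (hg.specializes (subset_closure (subset_closure (hle (subset_closure rfl))))), hg.def]
    exact subset_closure (subset_closure hw)
  let O : Set T := (⋃₀ (irreducibleComponents T \ {Z}))ᶜ
  have hO : IsOpen O := by
    rw [isOpen_compl_iff, Set.sUnion_eq_biUnion]
    exact Set.Finite.isClosed_biUnion (NoetherianSpace.finite_irreducibleComponents.sdiff) fun W hW => isClosed_of_mem_irreducibleComponents W hW.1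
  have hηO : η ∈ O := by
    rintro ⟨W, ⟨hW, hne⟩, hmem⟩
    have hle : Z ⊆ W := closure_minimal (Set.singleton_subset_iff.2 hmem) (isClosed_of_mem_irreducibleComponents W hW)
    exact hne (le_antisymm (hZ.2 hW.1 hle) hle)
  obtain ⟨y, hy, hyU⟩ := hU.inter_open_nonempty O hO ⟨η, hηO⟩
  have hyZ : y ∈ Z := by
    by_contra hn
    exact hy ⟨irreducibleComponent y, ⟨irreducibleComponent_mem_irreducibleComponents y, fun h => hn (h ▸ mem_irreducibleComponent)⟩, mem_irreducibleComponent⟩
  exact (specializes_iff_mem_closure.2 hyZ).mem_open hUo hyU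

theorem max_mem_of_dense {Y : Scheme.{u}} [IsLocallyNoetherian Y] {U : Set Y} (hUo : IsOpen U) (hU : Dense U) {η : Y}
    (hη : ∀ y : Y, y ⤳ η → y = η) : η ∈ U := by
  obtain ⟨_, ⟨V, hV, rfl⟩, hηV, -⟩ := Y.isBasis_affineOpens.exists_subset_of_mem_open (Set.mem_univ η) isOpen_univ
  let j : (Scheme.Opens.toScheme V) ⟶ Y := Scheme.Opens.ι V
  haveI : IsAffine (Scheme.Opens.toScheme V) := hV
  haveI : IsNoetherian (Scheme.Opens.toScheme V) := ⟨⟩
  obtain ⟨x, rfl⟩ : ∃ x, j x = η := ⟨⟨η, hηV⟩, rfl⟩
  exact max_mem_aux (T := Scheme.Opens.toScheme V) (hUo.preimage j.continuous) (hU.preimage j.isOpenEmbedding.isOpenMap)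
    fun z hz => j.isOpenEmbedding.injective (hη _ (hz.map j.continuous))

end Groth.Agent.H2MaxPts
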