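import Mathlib
import Groth.Prelude.Def_Hens2
import Groth.Agent.Lib.H2IndEtale
import Groth.Agent.Lib.H2IndEtaleLift
import Groth.Agent.Lib.H4Henselization
import Groth.Agent.Lib.H4Hensel
import Groth.Agent.S9436
set_option autoImplicit false

/-! Henselization of a pair as the colimit of étale algebras with a point in `A ⧸ I`. -/
namespace Groth.Agent.H2PairHenz
open TensorProduct Groth.Agent.H4Henzn
set_option maxHeartbeats 1000000
set_option synthInstance.maxHeartbeats 400000
set_option backward.isDefEq.respectTransparency.types false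
universe u

variable (A : Type u) [CommRing A] (I : Ideal A)

/-- The model of the henselization of `(A, I)`. -/
abbrev PH : Type u := Groth.Agent.H4Henzn.Ring A (A ⧸ I)

theorem covered : H2EtaleCover.Covered A (PH A I) := fun l => by
  have key : ∀ m : List (PH A I), ∃ X : Nbhd A (A ⧸ I), ∀ b ∈ m, ∃ x, ι X x = b := fun m => by
    induction m with
    | nil => exact ⟨Classical.choice (H4Henzn.nonempty A (A ⧸ I)), by simp⟩
    | cons b m ih =>
      obtain ⟨X, hX⟩ := ih
      obtain ⟨Z, φ, z, hz⟩ := exists_rep₂ X b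
      refine ⟨Z, fun c hc => ?_⟩
      rcases List.mem_cons.1 hc with rfl | hc
      · exact ⟨z, hz⟩
      · obtain ⟨x, rfl⟩ := hX c hc
        exact ⟨φ.f x, ι_map φ x⟩
  obtain ⟨X, hX⟩ := key l
  exact ⟨X.ring, inferInstance, inferInstance, X.etale, ι X, hX⟩

theorem isIndEtale : EtPBC.IsIndEtale A (PH A I) :=
  H2IndEtale.isIndEtale_of_covered (covered A I) inferInstance

theorem toK_surjective : Function.Surjective (toK A (A ⧸ I)) := fun q => by
  obtain ⟨a, rfl⟩ := Ideal.Quotient.mk_surjective q
  exact ⟨algebraMap A _ a, (toK A (A ⧸ I)).commutes a⟩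

theorem ker_toK : RingHom.ker (toK A (A ⧸ I)).toRingHom = I.map (algebraMap A (PH A I)) := by
  have hone : ∀ {R S : Type u} [CommRing R] [CommRing S] [Algebra R S] (K : Ideal R) (a : R),
      ((1 : R ⧸ K) ⊗ₜ[R] algebraMap R S a) = algebraMap (R ⧸ K) ((R ⧸ K) ⊗[R] S) (Ideal.Quotient.mk K a) :=
    fun {R S} _ _ _ K a => by
      rw [Algebra.algebraMap_eq_smul_one, ← TensorProduct.smul_tmul, Algebra.TensorProduct.algebraMap_apply,
        Algebra.algebraMap_self, RingHom.id_apply, Algebra.smul_def, mul_one]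
      rfl
  have hlift : ∀ (P : Type u) [CommRing P] (J : Ideal P) (X' : Type u) [CommRing X'] [Algebra (P ⧸ J) X'] [Algebra.Etale (P ⧸ J) X'],
      ∃ (S : Type u) (_ : CommRing S) (_ : Algebra P S) (_ : Algebra.Etale P S) (ρ : S →+* X'),
        (∀ z, ρ (algebraMap P S z) = algebraMap (P ⧸ J) X' (Ideal.Quotient.mk J z)) ∧
        ∀ x, algebraMap (P ⧸ J) X' (Ideal.Quotient.mk J x) = 0 → algebraMap P S x ∈ J.map (algebraMap P S) :=
    fun P _ J X' _ _ _ => by
      obtain ⟨S, _, _, _, ⟨e⟩⟩ := Groth.Agent.S9436.result P J X'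
      refine ⟨S, inferInstance, inferInstance, inferInstance,
        e.toAlgHom.toRingHom.comp Algebra.TensorProduct.includeRight.toRingHom, fun z => ?_, fun x hx => ?_⟩
      · show e ((1 : P ⧸ J) ⊗ₜ[P] algebraMap P S z) = _
        rw [hone, e.commutes]
      · have h0 : ((1 : P ⧸ J) ⊗ₜ[P] algebraMap P S x) = 0 := e.injective (by rw [hone, e.commutes, map_zero]; exact hx)
        let E := Algebra.TensorProduct.quotIdealMapEquivQuotTensor S J
        rw [← Ideal.Quotient.eq_zero_iff_mem]
        refine E.injective ?_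
        rw [map_zero, ← h0]
        rfl
  refine le_antisymm (fun c hc => ?_) (Ideal.map_le_iff_le_comap.2 fun a ha => ?_)
  · obtain ⟨X, x, rfl⟩ := exists_rep c
    have hx : X.σ x = 0 := by rw [← toK_ι]; exact hc
    let σb : (A ⧸ I) ⊗[A] X.ring →ₐ[A ⧸ I] (A ⧸ I) :=
      Algebra.TensorProduct.lift (Algebra.ofId (A ⧸ I) (A ⧸ I)) X.σ fun _ _ => Commute.all _ _
    obtain ⟨X', _, _, _, g, f', hgf, hg0⟩ := H2IndEtale.kill_one (A := A ⧸ I) (T := A ⧸ I)
      (fun l => ⟨A ⧸ I, inferInstance, inferInstance, inferInstance, AlgHom.id _ _, fun t _ => ⟨t, rfl⟩⟩)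
      inferInstance σb ((1 : A ⧸ I) ⊗ₜ[A] x) (by simp [σb, hx])
    let J := I.map (algebraMap A X.ring)
    let q : (X.ring ⧸ J) →+* X' := Ideal.Quotient.lift J
      (g.toRingHom.comp Algebra.TensorProduct.includeRight.toRingHom) (fun z hz => by
        induction hz using Submodule.span_induction with
        | mem z hz =>
          obtain ⟨a, ha, rfl⟩ := hz
          show g (1 ⊗ₜ algebraMap A X.ring a) = 0
          rw [hone, Ideal.Quotient.eq_zero_iff_mem.2 ha, map_zero, map_zero]
        | zero => simp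
        | add z w _ _ hz hw => rw [map_add, hz, hw, add_zero]
        | smul r z _ hz => rw [smul_eq_mul, map_mul, hz, mul_zero])
    letI : Algebra (X.ring ⧸ J) X' := q.toAlgebra
    haveI : IsScalarTower (A ⧸ I) (X.ring ⧸ J) X' := IsScalarTower.of_algebraMap_eq (R := A ⧸ I) (S := X.ring ⧸ J) (A := X') fun a => by
      obtain ⟨a, rfl⟩ := Ideal.Quotient.mk_surjective a
      show _ = g (1 ⊗ₜ algebraMap A X.ring a)
      rw [← g.commutes]
      exact congrArg g (hone I a).symm
    haveI : Algebra.Etale (A ⧸ I) (X.ring ⧸ J) :=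
      Algebra.Etale.of_equiv (Algebra.TensorProduct.quotIdealMapEquivQuotTensor X.ring I).symm
    haveI : Algebra.Etale (X.ring ⧸ J) X' := Algebra.Etale.of_restrictScalars (A ⧸ I) _ _
    obtain ⟨S, _, _, _, ρ0, hρ0, hmem⟩ := hlift X.ring J X'
    letI : Algebra A S := ((algebraMap X.ring S).comp (algebraMap A X.ring)).toAlgebra
    haveI : IsScalarTower A X.ring S := IsScalarTower.of_algebraMap_eq (R := A) (S := X.ring) (A := S) fun _ => rfl
    haveI : Algebra.Etale A S := Algebra.Etale.comp A X.ring S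
    let ρ : S →+* (A ⧸ I) := f'.toRingHom.comp ρ0
    have hρ : ∀ z : X.ring, ρ (algebraMap X.ring S z) = X.σ z := fun z => by
      show f' (ρ0 (algebraMap X.ring S z)) = _
      rw [hρ0]
      show f' (g (1 ⊗ₜ z)) = _
      rw [show f' (g (1 ⊗ₜ z)) = σb (1 ⊗ₜ z) from AlgHom.congr_fun hgf _]
      simp [σb]
    obtain ⟨Z, e', he'⟩ := exists_nbhd S ({ ρ with commutes' := fun a => (hρ _).trans (X.σ.commutes a) } : S →ₐ[A] (A ⧸ I))
    let φ : X ⟶ Z := ⟨e'.symm.toAlgHom.comp (IsScalarTower.toAlgHom A X.ring S), AlgHom.ext fun z => by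
      show Z.σ (e'.symm (algebraMap X.ring S z)) = X.σ z
      rw [he', AlgEquiv.apply_symm_apply]; exact hρ z⟩
    rw [← ι_map φ x]
    have := Ideal.mem_map_of_mem ((ι Z : Z.ring →+* PH A I).comp (e'.symm : S →+* Z.ring)) (hmem x hg0)
    rw [Ideal.map_map, Ideal.map_map] at this
    convert this using 2
    · first
      | rfl
      | exact RingHom.ext fun a => (((ι Z).comp (e'.symm.toAlgHom)).commutes a).symm
    · first
      | rfl
      | exact RingHom.ext fun a => (((ι Z).comp (e'.symm.toAlgHom)).commutes a).symm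
  · show toK A (A ⧸ I) (algebraMap A (PH A I) a) = 0
    rw [AlgHom.commutes]
    exact Ideal.Quotient.eq_zero_iff_mem.2 ha

/-- The model is a henselization of the pair. -/
theorem isPH : Hens2.IsPairHenselization A I (PH A I) := by
  refine ⟨ker_toK A I ▸ H4Henzn.henselianRing, fun C _ J f hC hf => ?_⟩
  letI : Algebra A C := f.toAlgebra
  haveI := hC
  let τ : (A ⧸ I) →ₐ[A] C ⧸ J := Ideal.Quotient.liftₐ I (Algebra.ofId A (C ⧸ J)) fun a ha =>
    Ideal.Quotient.eq_zero_iff_mem.2 (hf (Ideal.mem_map_of_mem f ha))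
  obtain ⟨g, hg, hgu⟩ := H4Henzn.existsUnique_lift A (A ⧸ I) C J τ
  refine ⟨g.toRingHom, g.comp_algebraMap, fun g' hg' => ?_⟩
  let G : PH A I →ₐ[A] C := { g' with commutes' := fun a => RingHom.congr_fun hg' a }
  have hG : G = g := hgu G (AlgHom.ext fun b => by
    obtain ⟨a, ha⟩ := Ideal.Quotient.mk_surjective (toK A (A ⧸ I) b)
    have hb : b - algebraMap A _ a ∈ I.map (algebraMap A (PH A I)) := by
      rw [← ker_toK, RingHom.mem_ker]
      show toK A (A ⧸ I) (b - algebraMap A _ a) = 0
      rw [map_sub, AlgHom.commutes, ← ha]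
      exact sub_self _
    have hb' := Ideal.mem_map_of_mem (G : PH A I →+* C) hb
    rw [Ideal.map_map, show (G : PH A I →+* C).comp (algebraMap A (PH A I)) = f from G.comp_algebraMap] at hb'
    have h2 : G b - f a ∈ J := by
      have := hf hb'
      rwa [show (G : PH A I →+* C) (b - algebraMap A _ a) = G b - f a by rw [map_sub]; exact congrArg _ (G.commutes a)] at this
    show Ideal.Quotient.mk J (G b) = τ (toK A (A ⧸ I) b)
    rw [← ha]
    exact Ideal.Quotient.eq.2 h2)
  exact congrArg AlgHom.toRingHom hG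

variable {A I}

/-- Any henselization of the pair is isomorphic to the model. -/
theorem exists_algEquiv {B : Type u} [CommRing B] [Algebra A B] (hB : Hens2.IsPairHenselization A I B) :
    Nonempty (PH A I ≃ₐ[A] B) := by
  obtain ⟨g, hg, -⟩ := (isPH A I).2 B _ (algebraMap A B) hB.1 le_rfl
  obtain ⟨h, hh, -⟩ := hB.2 (PH A I) _ (algebraMap A (PH A I)) (isPH A I).1 le_rfl
  obtain ⟨i, -, hi⟩ := (isPH A I).2 (PH A I) _ (algebraMap A (PH A I)) (isPH A I).1 le_rfl
  obtain ⟨j, -, hj⟩ := hB.2 B _ (algebraMap A B) hB.1 le_rfl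
  let g' : PH A I →ₐ[A] B := { g with commutes' := fun a => RingHom.congr_fun hg a }
  let h' : B →ₐ[A] PH A I := { h with commutes' := fun a => RingHom.congr_fun hh a }
  exact ⟨AlgEquiv.ofAlgHom g' h'
    (AlgHom.coe_ringHom_injective ((hj _ (g'.comp h').comp_algebraMap).trans (hj _ (AlgHom.id A B).comp_algebraMap).symm))
    (AlgHom.coe_ringHom_injective ((hi _ (h'.comp g').comp_algebraMap).trans (hi _ (AlgHom.id A _).comp_algebraMap).symm))⟩

theorem flat_of_isPH {B : Type u} [CommRing B] [Algebra A B] (hB : Hens2.IsPairHenselization A I B) : Module.Flat A B := by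
  obtain ⟨e⟩ := exists_algEquiv hB
  exact Module.Flat.of_linearEquiv e.symm.toLinearEquiv

theorem isIndEtale_of_isPH {B : Type u} [CommRing B] [Algebra A B] (hB : Hens2.IsPairHenselization A I B) :
    EtPBC.IsIndEtale A B := by
  obtain ⟨e⟩ := exists_algEquiv hB
  haveI := flat_of_isPH hB
  refine H2IndEtale.isIndEtale_of_covered (fun l => ?_) inferInstance
  obtain ⟨X, _, _, _, f, hf⟩ := covered A I (l.map e.symm)
  exact ⟨X, inferInstance, inferInstance, inferInstance, e.toAlgHom.comp f, fun t ht => by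
    obtain ⟨x, hx⟩ := hf (e.symm t) (List.mem_map.2 ⟨t, ht, rfl⟩)
    exact ⟨x, (congrArg e hx).trans (e.apply_symm_apply t)⟩⟩

theorem quotient_bijective {B : Type u} [CommRing B] [Algebra A B] (hB : Hens2.IsPairHenselization A I B) :
    Function.Bijective (Ideal.quotientMap (I.map (algebraMap A B)) (algebraMap A B) Ideal.le_comap_map) := by
  obtain ⟨e⟩ := exists_algEquiv hB
  let π : B →ₐ[A] A ⧸ I := (toK A (A ⧸ I)).comp e.symm.toAlgHom
  have hmap : I.map (algebraMap A B) = (I.map (algebraMap A (PH A I))).map (e : PH A I →+* B) := by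
    rw [Ideal.map_map, show (e : PH A I →+* B).comp (algebraMap A (PH A I)) = algebraMap A B from RingHom.ext e.commutes]
  constructor
  · rw [injective_iff_map_eq_zero]
    intro q hq
    obtain ⟨a, rfl⟩ := Ideal.Quotient.mk_surjective q
    rw [Ideal.quotientMap_mk, Ideal.Quotient.eq_zero_iff_mem] at hq
    have h0 : ∀ b ∈ I.map (algebraMap A B), π b = 0 := fun b hb => by
      have hle : I.map (algebraMap A B) ≤ RingHom.ker π.toRingHom := Ideal.map_le_iff_le_comap.2 fun x hx => by
        show π (algebraMap A B x) = 0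
        rw [π.commutes]; exact Ideal.Quotient.eq_zero_iff_mem.2 hx
      exact hle hb
    have := h0 _ hq
    rwa [π.commutes] at this
  · intro q
    obtain ⟨b, rfl⟩ := Ideal.Quotient.mk_surjective q
    obtain ⟨a, ha⟩ := Ideal.Quotient.mk_surjective (π b)
    refine ⟨Ideal.Quotient.mk I a, ?_⟩
    rw [Ideal.quotientMap_mk, Ideal.Quotient.eq, hmap]
    have hz : e.symm (algebraMap A B a - b) ∈ RingHom.ker (toK A (A ⧸ I)).toRingHom := by
      show π (algebraMap A B a - b) = 0
      rw [map_sub, π.commutes, ← ha]; exact sub_self _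
    rw [ker_toK] at hz
    have := Ideal.mem_map_of_mem (e : PH A I →+* B) hz
    rwa [show (e : PH A I →+* B) (e.symm (algebraMap A B a - b)) = algebraMap A B a - b from e.apply_symm_apply _] at this

/-- Ind-étale algebras with the henselian property and trivial reduction are henselizations of pairs. -/
theorem isPH_of_indEtale {B : Type u} [CommRing B] [Algebra A B] (hie : EtPBC.IsIndEtale A B)
    (hh : HenselianRing B (I.map (algebraMap A B)))
    (hq : Function.Bijective (Ideal.quotientMap (I.map (algebraMap A B)) (algebraMap A B) Ideal.le_comap_map)) :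
    Hens2.IsPairHenselization A I B := by
  refine ⟨hh, fun C _ J f hC hf => ?_⟩
  letI : Algebra A C := f.toAlgebra
  haveI := hC
  let qa : (A ⧸ I) →ₐ[A] B ⧸ I.map (algebraMap A B) :=
    Ideal.Quotient.liftₐ I (Algebra.ofId A _) fun a ha => Ideal.Quotient.eq_zero_iff_mem.2 (Ideal.mem_map_of_mem _ ha)
  have hqa : Function.Bijective qa := by
    convert hq using 1
    funext x
    obtain ⟨a, rfl⟩ := Ideal.Quotient.mk_surjective x
    rfl
  let τ0 : (A ⧸ I) →ₐ[A] C ⧸ J := Ideal.Quotient.liftₐ I (Algebra.ofId A (C ⧸ J)) fun a ha =>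
    Ideal.Quotient.eq_zero_iff_mem.2 (hf (Ideal.mem_map_of_mem f ha))
  let τ : B →ₐ[A] C ⧸ J := (τ0.comp (AlgEquiv.ofBijective qa hqa).symm.toAlgHom).comp (Ideal.Quotient.mkₐ A _)
  obtain ⟨φ, hφ, hφu⟩ := H2IndEtaleLift.existsUnique_lift hie C J τ
  refine ⟨φ.toRingHom, φ.comp_algebraMap, fun g' hg' => ?_⟩
  let G : B →ₐ[A] C := { g' with commutes' := fun a => RingHom.congr_fun hg' a }
  have hG : G = φ := hφu G (AlgHom.ext fun b => by
    obtain ⟨x, hx⟩ := hqa.2 (Ideal.Quotient.mk _ b)
    obtain ⟨a, rfl⟩ := Ideal.Quotient.mk_surjective x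
    have hb : b - algebraMap A B a ∈ I.map (algebraMap A B) := Ideal.Quotient.eq.1 hx.symm
    have hb' := Ideal.mem_map_of_mem (G : B →+* C) hb
    rw [Ideal.map_map, show (G : B →+* C).comp (algebraMap A B) = f from G.comp_algebraMap] at hb'
    have h2 : G b - f a ∈ J := by
      have := hf hb'
      rwa [show (G : B →+* C) (b - algebraMap A B a) = G b - f a by rw [map_sub]; exact congrArg _ (G.commutes a)] at this
    show Ideal.Quotient.mk J (G b) = τ0 ((AlgEquiv.ofBijective qa hqa).symm (Ideal.Quotient.mk _ b))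
    rw [show (AlgEquiv.ofBijective qa hqa).symm (Ideal.Quotient.mk _ b) = Ideal.Quotient.mk I a from
      (AlgEquiv.symm_apply_eq _).2 hx.symm]
    exact Ideal.Quotient.eq.2 h2)
  exact congrArg AlgHom.toRingHom hG

theorem isPH_of_radical {J : Ideal A} (h : I.radical = J.radical) {B : Type u} [CommRing B] [Algebra A B]
    (hB : Hens2.IsPairHenselization A I B) : Hens2.IsPairHenselization A J B := by
  refine ⟨?_, fun C _ K f hC hf => ?_⟩
  · haveI := hB.1
    refine H4Hensel.of_le_radical (I := I.map (algebraMap A B)) ?_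
    exact (Ideal.map_mono (h ▸ Ideal.le_radical : J ≤ I.radical)).trans (Ideal.map_radical_le _)
  · haveI := hC
    haveI : HenselianRing C K.radical := H4Hensel.of_le_radical le_rfl
    exact hB.2 C K.radical f inferInstance (((Ideal.map_mono (h ▸ Ideal.le_radical : I ≤ J.radical)).trans (Ideal.map_radical_le _)).trans
      (Ideal.radical_mono hf))

/-- Shrink an étale algebra with a map to the henselization to one with trivial reduction. -/
theorem exists_shrink {B : Type u} [CommRing B] [Algebra A B] (hB : Hens2.IsPairHenselization A I B)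
    {X : Type u} [CommRing X] [Algebra A X] [Algebra.Etale A X] (f : X →ₐ[A] B) :
    ∃ (X' : Type u) (_ : CommRing X') (_ : Algebra A X') (_ : Algebra.Etale A X') (ψ : X →ₐ[A] X') (f' : X' →ₐ[A] B),
      f'.comp ψ = f ∧ Function.Bijective (Ideal.quotientMap (I.map (algebraMap A X')) (algebraMap A X') Ideal.le_comap_map) := by
  haveI := hB.1
  have hq := quotient_bijective hB
  let IB := I.map (algebraMap A B)
  let IX := I.map (algebraMap A X)
  let qa : (A ⧸ I) →ₐ[A] B ⧸ IB :=
    Ideal.Quotient.liftₐ I (Algebra.ofId A _) fun a ha => Ideal.Quotient.eq_zero_iff_mem.2 (Ideal.mem_map_of_mem _ ha)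
  have hqa : Function.Bijective qa := by
    convert hq using 1
    funext x
    obtain ⟨a, rfl⟩ := Ideal.Quotient.mk_surjective x
    rfl
  let σ : X →ₐ[A] A ⧸ I := (AlgEquiv.ofBijective qa hqa).symm.toAlgHom.comp ((Ideal.Quotient.mkₐ A IB).comp f)
  obtain ⟨t, ht, ht1⟩ := (Algebra.FormallyUnramified.iff_exists_tensorProduct (R := A) (S := X)).mp inferInstance
  let j : (A ⧸ I) →ₐ[A] X ⧸ IX :=
    Ideal.Quotient.liftₐ I (Algebra.ofId A _) fun a ha => Ideal.Quotient.eq_zero_iff_mem.2 (Ideal.mem_map_of_mem _ ha)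
  let F : X ⊗[A] X →ₐ[A] X ⧸ IX :=
    Algebra.TensorProduct.lift (j.comp σ) (Ideal.Quotient.mkₐ A IX) fun _ _ => .all _ _
  obtain ⟨u, hu⟩ := Ideal.Quotient.mk_surjective (F t)
  have hIX : ∀ {Y : Type u} [CommRing Y] [Algebra A Y] (g : X →ₐ[A] Y), IX ≤ (I.map (algebraMap A Y)).comap g := fun {Y} _ _ g => by
    rw [Ideal.map_le_iff_le_comap]
    intro a ha
    show g (algebraMap A X a) ∈ I.map (algebraMap A Y)
    rw [g.commutes]
    exact Ideal.mem_map_of_mem _ ha
  have hσu : σ u = 1 := by
    let σ' : (X ⧸ IX) →ₐ[A] A ⧸ I := Ideal.Quotient.liftₐ IX σ fun z hz => by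
      have := hIX σ hz
      rw [Ideal.mem_comap, show I.map (algebraMap A (A ⧸ I)) = ⊥ from Ideal.map_quotient_self I] at this
      exact this
    have hj : ∀ q, σ' (j q) = q := fun q => by
      obtain ⟨a, rfl⟩ := Ideal.Quotient.mk_surjective q
      show σ (algebraMap A X a) = _
      exact σ.commutes a
    have hF : ∀ z, σ' (F z) = σ (Algebra.TensorProduct.lmul' A z) := fun z => by
      induction z with
      | zero => simp
      | tmul x y =>
        simp only [F, Algebra.TensorProduct.lift_tmul, Algebra.TensorProduct.lmul'_apply_tmul, map_mul, AlgHom.comp_apply, hj]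
        rfl
      | add x y hx hy => simp only [map_add, hx, hy]
    have := congrArg σ' hu
    rw [hF, show Algebra.TensorProduct.lmul' A t = 1 from ht1, map_one] at this
    exact this
  haveI : Algebra.Etale X (Localization.Away u) := Algebra.Etale.of_isLocalizationAway u
  haveI : Algebra.Etale A (Localization.Away u) := Algebra.Etale.comp A X (Localization.Away u)
  let ψ : X →ₐ[A] Localization.Away u := IsScalarTower.toAlgHom A X (Localization.Away u)
  have hfu : IsUnit (f u) := by
    refine H4Hensel.isUnit_of_isUnit_mk (HenselianRing.jac (I := IB)) ?_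
    have : Ideal.Quotient.mk IB (f u) = 1 := by
      have h1 : qa (σ u) = Ideal.Quotient.mk IB (f u) := (AlgEquiv.ofBijective qa hqa).apply_symm_apply _
      rw [← h1, hσu, map_one]
    rw [this]; exact isUnit_one
  let f' : Localization.Away u →ₐ[A] B := IsLocalization.Away.liftAlgHom (f := f) u hfu
  have hf' : ∀ z, f' (ψ z) = f z := fun z => by simp [f', ψ, IsLocalization.Away.liftAlgHom]
  refine ⟨Localization.Away u, inferInstance, inferInstance, inferInstance, ψ, f', AlgHom.ext hf', ?_, ?_⟩
  · rw [injective_iff_map_eq_zero]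
    intro q hq'
    obtain ⟨a, rfl⟩ := Ideal.Quotient.mk_surjective q
    rw [Ideal.quotientMap_mk, Ideal.Quotient.eq_zero_iff_mem] at hq'
    have h2 : algebraMap A B a ∈ IB := by
      have := Ideal.mem_map_of_mem (f' : Localization.Away u →+* B) hq'
      rwa [Ideal.map_map, show (f' : Localization.Away u →+* B).comp (algebraMap A _) = algebraMap A B from f'.comp_algebraMap,
        show (f' : Localization.Away u →+* B) (algebraMap A (Localization.Away u) a) = algebraMap A B a from f'.commutes a] at this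
    exact hqa.1 ((Ideal.Quotient.eq_zero_iff_mem.2 h2).trans (map_zero qa).symm)
  · intro q
    obtain ⟨z, rfl⟩ := Ideal.Quotient.mk_surjective q
    have key : ∀ x : X, ∃ a : A, ψ x - algebraMap A (Localization.Away u) a ∈ I.map (algebraMap A (Localization.Away u)) := fun x => by
      obtain ⟨a, ha⟩ := Ideal.Quotient.mk_surjective (σ x)
      refine ⟨a, ?_⟩
      have h0 := congrArg F (ht x)
      simp only [map_mul, map_sub, map_zero, F, Algebra.TensorProduct.lift_tmul, map_one, one_mul, mul_one, AlgHom.comp_apply,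
        ← hu] at h0
      have h1 : (x - algebraMap A X a) * u ∈ IX := by
        rw [← Ideal.Quotient.eq_zero_iff_mem, map_mul, map_sub]
        have hja : j (σ x) = Ideal.Quotient.mk IX (algebraMap A X a) := by rw [← ha]; rfl
        rw [← hja]
        exact h0
      have h2 := hIX ψ h1
      rw [Ideal.mem_comap, map_mul, map_sub, AlgHom.commutes] at h2
      exact (Ideal.mul_unit_mem_iff_mem _ (IsLocalization.Away.algebraMap_isUnit u)).1 h2
    obtain ⟨x, n, rfl⟩ : ∃ (x : X) (n : ℕ), z = IsLocalization.mk' (Localization.Away u) x (⟨u ^ n, n, rfl⟩ : Submonoid.powers u) := by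
      obtain ⟨⟨x, ⟨_, n, rfl⟩⟩, h⟩ := IsLocalization.mk'_surjective (Submonoid.powers u) z
      exact ⟨x, n, h.symm⟩
    obtain ⟨a, ha⟩ := key x
    refine ⟨Ideal.Quotient.mk I a, ?_⟩
    rw [Ideal.quotientMap_mk, Ideal.Quotient.eq]
    have hun : IsUnit (algebraMap X (Localization.Away u) (u ^ n)) := by
      rw [map_pow]; exact (IsLocalization.Away.algebraMap_isUnit u).pow n
    refine (Ideal.mul_unit_mem_iff_mem _ hun).1 ?_
    rw [sub_mul, IsLocalization.mk'_spec]
    obtain ⟨b, hb⟩ := key (u ^ n)
    have hb1 : algebraMap A (Localization.Away u) b - 1 ∈ I.map (algebraMap A (Localization.Away u)) := by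
      have hb2 : b - 1 ∈ I := by
        rw [← Ideal.Quotient.eq_zero_iff_mem, map_sub, map_one, sub_eq_zero]
        refine hqa.1 ?_
        show qa (Ideal.Quotient.mk I b) = qa 1
        have h3 := Ideal.mem_map_of_mem (f' : Localization.Away u →+* B) hb
        rw [Ideal.map_map, show (f' : Localization.Away u →+* B).comp (algebraMap A _) = algebraMap A B from f'.comp_algebraMap,
          show (f' : Localization.Away u →+* B) (ψ (u ^ n) - algebraMap A (Localization.Away u) b) = f (u ^ n) - algebraMap A B b by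
            rw [map_sub]; exact congrArg₂ _ (hf' _) (f'.commutes b), ← Ideal.Quotient.eq] at h3
        have h1 : qa (σ u) = Ideal.Quotient.mk IB (f u) := (AlgEquiv.ofBijective qa hqa).apply_symm_apply _
        rw [hσu, map_one] at h1
        rw [map_one]
        refine Eq.trans (b := Ideal.Quotient.mk IB (f (u ^ n))) h3.symm ?_
        rw [map_pow, map_pow, ← h1, one_pow]
      have := Ideal.mem_map_of_mem (algebraMap A (Localization.Away u)) hb2
      rwa [map_sub, map_one] at this
    have e : algebraMap A (Localization.Away u) a * algebraMap X (Localization.Away u) (u ^ n) - algebraMap X (Localization.Away u) x =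
        algebraMap A (Localization.Away u) a * (ψ (u ^ n) - algebraMap A _ b) + algebraMap A (Localization.Away u) a * (algebraMap A _ b - 1)
          - (ψ x - algebraMap A _ a) := by
      show _ = algebraMap A (Localization.Away u) a * (algebraMap X _ (u ^ n) - _) + _ - (algebraMap X _ x - _)
      ring
    rw [e]
    exact Ideal.sub_mem _ (Ideal.add_mem _ (Ideal.mul_mem_left _ _ hb) (Ideal.mul_mem_left _ _ hb1)) ha

end Groth.Agent.H2PairHenz
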