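import Mathlib
import Groth.Prelude.Def_MoreMor

/-! Quasi-affineness helpers. -/

universe u

open CategoryTheory Limits AlgebraicGeometry

namespace Groth.Agent.H2QuasiAffine

/-- separated qc quasi-finite over affine is quasi-affine (ZMT). -/
theorem quasiAffine_of_qf {X Y : Scheme.{u}} (h : X ⟶ Y) [IsAffine Y] [IsSeparated h] [LocallyQuasiFinite h] [LocallyOfFiniteType h] [QuasiCompact h] : X.IsQuasiAffine := by
  obtain ⟨U, hU, hU'⟩ := h.exists_isIso_morphismRestrict_toNormalization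
  haveI : IsAffine h.normalization := isAffine_of_isAffineHom h.fromNormalization
  have htop : h.toNormalization ⁻¹ᵁ U = ⊤ := by
    ext x
    simp only [TopologicalSpace.Opens.coe_top, Set.mem_univ, iff_true]
    rw [show ((h.toNormalization ⁻¹ᵁ U : X.Opens) : Set X) = {x | h.QuasiFiniteAt x} from hU']
    have := (Scheme.Hom.mem_quasiFiniteLocus (f := h) (x := x)).1 (by rw [Scheme.Hom.quasiFiniteLocus_eq_top]; trivial)
    exact this
  haveI : IsOpenImmersion h.toNormalization := by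
    have e : (X.topIso.inv ≫ (X.isoOfEq htop.symm).hom) ≫ (h.toNormalization ∣_ U) ≫ U.ι = h.toNormalization := by
      rw [morphismRestrict_ι]; simp
    rw [← e]
    infer_instance
  haveI : CompactSpace X := QuasiCompact.compactSpace_of_compactSpace h
  exact Scheme.IsQuasiAffine.of_isImmersion h.toNormalization

theorem isQA_of_le {X : Scheme.{u}} {U W : X.Opens} (hUW : U ≤ W) (hU : IsCompact (U : Set X))
    [(W : Scheme.{u}).IsQuasiAffine] : (U : Scheme.{u}).IsQuasiAffine := by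
  haveI : CompactSpace (U : Scheme.{u}) := isCompact_iff_compactSpace.1 hU
  exact Scheme.IsQuasiAffine.of_isImmersion (X.homOfLE hUW)

theorem isCompact_basicOpen (X : Scheme.{u}) [CompactSpace X] (r : Γ(X, ⊤)) : IsCompact (X.basicOpen r : Set X) := by
  simpa using isRetrocompact_basicOpen r (isCompact_univ (X := X)) isOpen_univ

/-- quasi-affine if covered by quasi-affine basic opens. -/
theorem of_quasiAffine_basicOpens {X : Scheme.{u}} [CompactSpace X]
    (H : ∀ x : X, ∃ r : Γ(X, ⊤), x ∈ X.basicOpen r ∧ (X.basicOpen r : Scheme.{u}).IsQuasiAffine) :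
    X.IsQuasiAffine := by
  haveI : QuasiSeparatedSpace X := by
    choose r hxr hr using H
    refine .of_isOpenCover (U := (X.basicOpen <| r ·)) (eq_top_iff.mpr fun _ _ ↦ TopologicalSpace.Opens.mem_iSup.mpr ⟨_, hxr _⟩)
      (fun _ ↦ isRetrocompact_basicOpen _) (fun x ↦ ?_)
    haveI := hr x
    exact (isQuasiSeparated_iff_quasiSeparatedSpace _ (X.basicOpen (r x)).2).2
      (inferInstanceAs (QuasiSeparatedSpace (X.basicOpen (r x) : Scheme.{u})))
  refine Scheme.IsQuasiAffine.of_forall_exists_mem_basicOpen X fun x => ?_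
  obtain ⟨r, hxr, hr⟩ := H x
  let W : Scheme.{u} := (X.basicOpen r : Scheme.{u})
  obtain ⟨_, ⟨_, ⟨s, hs, rfl⟩, rfl⟩, hxs, -⟩ := (Scheme.IsQuasiAffine.isBasis_basicOpen W).exists_subset_of_mem_open
    (Set.mem_univ (⟨x, hxr⟩ : (X.basicOpen r : Scheme.{u}))) isOpen_univ
  let s0 : Γ(X, X.basicOpen r) := (X.basicOpen r).topIso.hom s
  have hsx : (X.basicOpen r).ι ''ᵁ W.basicOpen s = X.basicOpen s0 := by
    rw [← (X.basicOpen r).ι_image_basicOpen_topIso_inv s0]
    congr 2
    exact ((X.basicOpen r).topIso.hom_inv_id_apply s).symm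
  haveI := isLocalization_basicOpen_of_qcqs (X := X) (U := ⊤) isCompact_univ isQuasiSeparated_univ r
  obtain ⟨⟨t, ⟨_, n, rfl⟩⟩, ht⟩ := IsLocalization.surj (Submonoid.powers r) s0
  refine ⟨r * t, ?_⟩
  have hb : X.basicOpen (r * t) = X.basicOpen s0 := by
    rw [Scheme.basicOpen_mul, ← Scheme.basicOpen_res X t (homOfLE (X.basicOpen_le r)).op]
    change X.basicOpen (algebraMap Γ(X, ⊤) Γ(X, X.basicOpen r) t) = _
    rw [← ht, Scheme.basicOpen_mul]
    refine inf_eq_left.2 ((X.basicOpen_le s0).trans ?_)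
    change _ ≤ X.basicOpen ((X.presheaf.map (homOfLE (X.basicOpen_le r)).op) (r ^ n))
    rw [Scheme.basicOpen_res]
    refine le_inf le_rfl ?_
    rcases n.eq_zero_or_pos with rfl | hn
    · rw [pow_zero, Scheme.basicOpen_of_isUnit X isUnit_one]; exact le_top
    · rw [Scheme.basicOpen_pow _ _ hn]
  rw [hb, ← hsx]
  exact ⟨hs.image_of_isOpenImmersion _, ⟨⟨x, hxr⟩, hxs, rfl⟩⟩

/-- pointwise criterion on an open subscheme, via sections on a bigger open. -/
theorem of_sections {X : Scheme.{u}} {U : X.Opens} (hU : IsCompact (U : Set X))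
    (H : ∀ x ∈ U, ∃ (W : X.Opens) (_ : U ≤ W) (r : Γ(X, W)), x ∈ X.basicOpen r ∧
      (IsCompact (U ⊓ X.basicOpen r : X.Opens).1 → ((U ⊓ X.basicOpen r : X.Opens) : Scheme.{u}).IsQuasiAffine)) :
    (U : Scheme.{u}).IsQuasiAffine := by
  haveI : CompactSpace (U : Scheme.{u}) := isCompact_iff_compactSpace.1 hU
  refine of_quasiAffine_basicOpens fun x => ?_
  obtain ⟨W, hUW, r, hxr, hq⟩ := H x.1 x.2
  let r' : Γ(X, U) := X.presheaf.map (homOfLE hUW).op r
  have hb : X.basicOpen r' = U ⊓ X.basicOpen r := X.basicOpen_res r (homOfLE hUW).op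
  have him : U.ι ''ᵁ (U : Scheme.{u}).basicOpen (U.topIso.inv r') = U ⊓ X.basicOpen r :=
    (U.ι_image_basicOpen_topIso_inv r').trans hb
  refine ⟨U.topIso.inv r', ?_, ?_⟩
  · have : (U.ι x) ∈ U.ι ''ᵁ (U : Scheme.{u}).basicOpen (U.topIso.inv r') := by
      rw [him]; exact ⟨x.2, hxr⟩
    obtain ⟨y, hy, hyx⟩ := this
    rwa [← U.ι.isOpenEmbedding.injective hyx]
  · haveI := hq (by
      have h1 := (isCompact_basicOpen (U : Scheme.{u}) (U.topIso.inv r')).image U.ι.continuous
      exact him ▸ h1)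
    haveI : CompactSpace ((U : Scheme.{u}).basicOpen (U.topIso.inv r') : Scheme.{u}) :=
      isCompact_iff_compactSpace.1 (isCompact_basicOpen (U : Scheme.{u}) _)
    exact Scheme.IsQuasiAffine.of_isImmersion
      ((U.ι.isoImage ((U : Scheme.{u}).basicOpen (U.topIso.inv r'))).hom ≫ (X.isoOfEq him).hom)

end Groth.Agent.H2QuasiAffine
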