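import Groth.Agent.Lib.H5KInjEnough
import Groth.Prelude.Def_SiteCmp

universe w w' v₁ v₂ v₃ v₄ u₁ u₂ u₃ u₄

namespace Groth.Agent.H5KApps
open CategoryTheory Limits
open scoped ZeroObject

variable {C : Type u₁} [Category.{v₁} C] {D : Type u₂} [Category.{v₂} D]
  {H : Type u₃} [Category.{v₃} H]

/-- A class of objects `P` computing right derived functors along `L`. -/
structure Resolving (L : C ⥤ D) (P : ObjectProperty C) : Prop where
  surj : ∀ (X I : C), P I → ∀ (φ : L.obj X ⟶ L.obj I), ∃ f : X ⟶ I, L.map f = φ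
  ess : ∀ Y : D, ∃ I : C, P I ∧ Nonempty (L.obj I ≅ Y)

/-- `F` only depends on `L` on maps into objects satisfying `P`. -/
def Compat (L : C ⥤ D) (P : ObjectProperty C) (F : C ⥤ H) : Prop :=
  ∀ (X I : C), P I → ∀ (f g : X ⟶ I), L.map f = L.map g → F.map f = F.map g

lemma Compat.comp {L : C ⥤ D} {P : ObjectProperty C} {F : C ⥤ H} (hF : Compat L P F)
    {H' : Type u₄} [Category.{v₄} H'] (G : H ⥤ H') : Compat L P (F ⋙ G) :=
  fun X I hI f g h => congr_arg G.map (hF X I hI f g h)

namespace Resolving

variable {L : C ⥤ D} {P : ObjectProperty C} (hR : Resolving L P)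
  {F : C ⥤ H} (hF : Compat L P F)

noncomputable def res (Y : D) : C := (hR.ess Y).choose

lemma res_mem (Y : D) : P (hR.res Y) := (hR.ess Y).choose_spec.1

noncomputable def resIso (Y : D) : L.obj (hR.res Y) ≅ Y := (hR.ess Y).choose_spec.2.some

noncomputable def lift {X I : C} (hI : P I) (φ : L.obj X ⟶ L.obj I) : X ⟶ I :=
  (hR.surj X I hI φ).choose

@[simp]
lemma map_lift {X I : C} (hI : P I) (φ : L.obj X ⟶ L.obj I) : L.map (hR.lift hI φ) = φ :=
  (hR.surj X I hI φ).choose_spec

noncomputable def mapRes {Y Y' : D} (h : Y ⟶ Y') : hR.res Y ⟶ hR.res Y' :=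
  hR.lift (hR.res_mem Y') ((hR.resIso Y).hom ≫ h ≫ (hR.resIso Y').inv)

include hF in
lemma map_eq {X I : C} (hI : P I) {f g : X ⟶ I} (h : L.map f = L.map g) :
    F.map f = F.map g := hF X I hI f g h

/-- the derived functor -/
noncomputable def RF : D ⥤ H where
  obj Y := F.obj (hR.res Y)
  map h := F.map (hR.mapRes h)
  map_id Y := (map_eq hF (hR.res_mem Y) (by simp [mapRes])).trans (F.map_id _)
  map_comp h h' := (map_eq hF (hR.res_mem _) (by simp [mapRes])).trans (F.map_comp _ _)

/-- the unit -/
noncomputable def unit : F ⟶ L ⋙ hR.RF hF where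
  app X := F.map (hR.lift (hR.res_mem _) (hR.resIso (L.obj X)).inv)
  naturality X X' f := by
    dsimp [RF]
    rw [← F.map_comp, ← F.map_comp]
    exact map_eq hF (hR.res_mem _) (by simp [mapRes])

lemma isIso_unit_app (I : C) (hI : P I) : IsIso ((hR.unit hF).app I) := by
  refine ⟨F.map (hR.lift hI (hR.resIso (L.obj I)).hom), ?_, ?_⟩
  · change F.map _ ≫ F.map _ = 𝟙 (F.obj I)
    rw [← F.map_comp, ← F.map_id]
    exact map_eq hF hI (by simp)
  · dsimp [unit, RF]
    rw [← F.map_comp, ← F.map_id]
    exact map_eq hF (hR.res_mem _) (by simp)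

lemma unit_lift (Y : D) :
    (hR.unit hF).app (hR.res Y) ≫ (hR.RF hF).map (hR.resIso Y).hom = 𝟙 _ := by
  dsimp [unit, RF]
  rw [← F.map_comp, ← F.map_id]
  exact map_eq hF (hR.res_mem _) (by simp [mapRes])

lemma isLeftKanExtension : (hR.RF hF).IsLeftKanExtension (hR.unit hF) := by
  refine ⟨⟨IsInitial.ofUniqueHom (fun (E : Functor.LeftExtension L F) =>
    StructuredArrow.homMk
      { app := fun Y => E.hom.app (hR.res Y) ≫ E.right.map (hR.resIso Y).hom
        naturality := fun Y Y' h => ?_ } ?_) (fun E m => ?_)⟩⟩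
  · have h1 := E.hom.naturality (hR.mapRes h)
    dsimp at h1
    change F.map (hR.mapRes h) ≫ E.hom.app (hR.res Y') ≫ E.right.map (hR.resIso Y').hom =
      (E.hom.app (hR.res Y) ≫ E.right.map (hR.resIso Y).hom) ≫ E.right.map h
    rw [reassoc_of% h1, Category.assoc, ← E.right.map_comp, ← E.right.map_comp]
    simp [mapRes]
  · ext X
    have h1 := E.hom.naturality (hR.lift (hR.res_mem (L.obj X)) (hR.resIso (L.obj X)).inv)
    dsimp at h1
    change F.map (hR.lift (hR.res_mem (L.obj X)) (hR.resIso (L.obj X)).inv) ≫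
      E.hom.app (hR.res (L.obj X)) ≫ E.right.map (hR.resIso (L.obj X)).hom = E.hom.app X
    rw [reassoc_of% h1, ← E.right.map_comp]
    simp
  · ext Y
    let γ : hR.RF hF ⟶ E.right := m.right
    have h1 : (hR.unit hF).app (hR.res Y) ≫ γ.app (L.obj (hR.res Y)) =
        E.hom.app (hR.res Y) := congr_app (StructuredArrow.w m) (hR.res Y)
    have h2 := γ.naturality (hR.resIso Y).hom
    change γ.app Y = E.hom.app (hR.res Y) ≫ E.right.map (hR.resIso Y).hom
    rw [← h1, Category.assoc, ← h2, ← Category.assoc]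
    exact ((congrArg (· ≫ γ.app Y) (hR.unit_lift hF Y)).trans (Category.id_comp _)).symm

variable (W : MorphismProperty C) [L.IsLocalization W]

lemma isRightDerived : (hR.RF hF).IsRightDerivedFunctor (hR.unit hF) W :=
  ⟨hR.isLeftKanExtension hF⟩

include hR hF in
lemma hasRightDerived : F.HasRightDerivedFunctor W :=
  have := hR.isRightDerived hF W
  Functor.HasRightDerivedFunctor.mk' (hR.RF hF) (hR.unit hF) (W := W)

include hR hF in
/-- right derived functors are characterised by the unit being invertible on `P` -/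
lemma isRightDerived_iff (RF' : D ⥤ H) (α : F ⟶ L ⋙ RF') :
    RF'.IsRightDerivedFunctor α W ↔ ∀ I, P I → IsIso (α.app I) := by
  have := hR.isRightDerived hF W
  rw [Functor.isRightDerivedFunctor_iff_isIso_rightDerivedDesc (hR.RF hF) (hR.unit hF) W RF' α]
  have fac := fun I => (hR.RF hF).rightDerived_fac_app (hR.unit hF) W RF' α I
  constructor
  · intro h I hI
    have := hR.isIso_unit_app hF I hI
    rw [← fac I]; infer_instance
  · intro h
    have key : ∀ I, P I → IsIso (((hR.RF hF).rightDerivedDesc (hR.unit hF) W RF' α).app (L.obj I)) := by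
      intro I hI
      have := hR.isIso_unit_app hF I hI
      have := h I hI
      exact IsIso.of_isIso_fac_left (fac I)
    have : ∀ Y, IsIso (((hR.RF hF).rightDerivedDesc (hR.unit hF) W RF' α).app Y) := fun Y => by
      have := key (hR.res Y) (hR.res_mem Y)
      exact ((MorphismProperty.isomorphisms H).arrow_mk_iso_iff
        (Arrow.isoMk ((hR.RF hF).mapIso (hR.resIso Y)) (RF'.mapIso (hR.resIso Y))
          (((hR.RF hF).rightDerivedDesc (hR.unit hF) W RF' α).naturality _))).1 this
    exact NatIso.isIso_of_isIso_app _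

include hR hF in
/-- right derived functors are absolute -/
lemma isRightDerived_comp (RF' : D ⥤ H) (α : F ⟶ L ⋙ RF') [RF'.IsRightDerivedFunctor α W]
    {H' : Type u₄} [Category.{v₄} H'] (G : H ⥤ H') :
    (RF' ⋙ G).IsRightDerivedFunctor
      (Functor.whiskerRight α G ≫ (Functor.associator _ _ _).hom) W := by
  rw [hR.isRightDerived_iff (hF.comp G) W]
  intro I hI
  have := (hR.isRightDerived_iff hF W RF' α).1 inferInstance I hI
  simp only [NatTrans.comp_app, Functor.whiskerRight_app, Functor.associator_hom_app]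
  infer_instance

end Resolving

section kinj

variable {A : Type u₁} [Category.{v₁} A] [Abelian A] [HasDerivedCategory.{w} A]

/-- K-injective objects of the homotopy category -/
def kInjObj : ObjectProperty (HomotopyCategory A (ComplexShape.up ℤ)) :=
  fun X => ∃ K : CochainComplex A ℤ, K.IsKInjective ∧
    (HomotopyCategory.quotient A (ComplexShape.up ℤ)).obj K = X

/-- every complex admits a quasi-isomorphism to a K-injective one -/
def EnoughKInj (A : Type u₁) [Category.{v₁} A] [Abelian A] : Prop :=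
  ∀ K : CochainComplex A ℤ, ∃ (I : CochainComplex A ℤ) (f : K ⟶ I), I.IsKInjective ∧ QuasiIso f

lemma exists_kInj_iso (h : EnoughKInj A) (Y : DerivedCategory A) :
    ∃ I : CochainComplex A ℤ, I.IsKInjective ∧ Nonempty (DerivedCategory.Q.obj I ≅ Y) := by
  obtain ⟨I, f, hI, hf⟩ := h (DerivedCategory.Q.objPreimage Y)
  exact ⟨I, hI, ⟨(asIso (DerivedCategory.Q.map f)).symm ≪≫ DerivedCategory.Q.objObjPreimageIso Y⟩⟩

lemma resolving_Qh (h : EnoughKInj A) :
    Resolving (DerivedCategory.Qh (C := A)) kInjObj where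
  surj X I hI φ := by
    obtain ⟨K, hK, rfl⟩ := hI
    exact (CochainComplex.IsKInjective.Qh_map_bijective X K).surjective φ
  ess Y := by
    obtain ⟨I, hI, ⟨e⟩⟩ := exists_kInj_iso h Y
    exact ⟨_, ⟨I, hI, rfl⟩, ⟨(DerivedCategory.quotientCompQhIso A).app I ≪≫ e⟩⟩

lemma compat_Qh {H : Type u₃} [Category.{v₃} H] (F : HomotopyCategory A (ComplexShape.up ℤ) ⥤ H) :
    Compat (DerivedCategory.Qh (C := A)) kInjObj F := by
  rintro X _ ⟨K, hK, rfl⟩ f g hfg
  rw [(CochainComplex.IsKInjective.Qh_map_bijective X K).injective hfg]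

lemma resolving_Q (h : EnoughKInj A) :
    Resolving (DerivedCategory.Q (C := A)) (fun K => K.IsKInjective) where
  surj X I hI φ := by
    have : I.IsKInjective := hI
    obtain ⟨f, hf⟩ := (CochainComplex.IsKInjective.Qh_map_bijective
      ((HomotopyCategory.quotient A _).obj X) I).surjective
      ((DerivedCategory.quotientCompQhIso A).hom.app X ≫ φ ≫
        (DerivedCategory.quotientCompQhIso A).inv.app I)
    obtain ⟨g, rfl⟩ := (HomotopyCategory.quotient A _).map_surjective f
    refine ⟨g, ?_⟩
    have := (DerivedCategory.quotientCompQhIso A).hom.naturality g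
    simp only [Functor.comp_map] at this
    rw [hf] at this
    simpa using this.symm
  ess Y := by
    obtain ⟨I, hI, e⟩ := exists_kInj_iso h Y
    exact ⟨I, hI, e⟩

lemma homotopic_of_Q_map_eq {X I : CochainComplex A ℤ} [I.IsKInjective] {f g : X ⟶ I}
    (hfg : DerivedCategory.Q.map f = DerivedCategory.Q.map g) :
    (HomotopyCategory.quotient A _).map f = (HomotopyCategory.quotient A _).map g := by
  apply (CochainComplex.IsKInjective.Qh_map_bijective _ I).injective
  have h1 := (DerivedCategory.quotientCompQhIso A).hom.naturality f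
  have h2 := (DerivedCategory.quotientCompQhIso A).hom.naturality g
  simp only [Functor.comp_map] at h1 h2
  rw [hfg] at h1
  exact (cancel_mono ((DerivedCategory.quotientCompQhIso A).hom.app I)).1 (h1.trans h2.symm)

lemma compat_Q {B : Type u₂} [Category.{v₂} B] [Abelian B] [HasDerivedCategory.{w'} B]
    (G : A ⥤ B) [G.Additive] :
    Compat (DerivedCategory.Q (C := A)) (fun K => K.IsKInjective)
      (G.mapHomologicalComplex (ComplexShape.up ℤ) ⋙ DerivedCategory.Q) := by
  intro X I hI f g hfg
  have : I.IsKInjective := hI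
  have h := homotopic_of_Q_map_eq hfg
  exact DerivedCategory.Q_map_eq_of_homotopy B (G.mapHomotopy (HomotopyCategory.homotopyOfEq _ _ h))

end kinj

section apps

open Groth.Agent.H5KInj (tc gens exists_kInjective)

variable {A : Type u₁} [Category.{v₁} A] [Abelian A]

lemma enoughKInj_of_grothendieck [IsGrothendieckAbelian.{v₁} A] : EnoughKInj A := fun K => by
  obtain ⟨I, f, h1, h2, -, -⟩ := exists_kInjective K
  exact ⟨I, f, h1, h2⟩

lemma mono_inr_id (K : CochainComplex A ℤ) : Mono (CochainComplex.mappingCone.inr (𝟙 K)) :=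
  HomologicalComplex.mono_of_mono_f _ (fun n =>
    mono_of_mono_fac (CochainComplex.mappingCone.inr_f_snd_v (𝟙 K) n))

noncomputable def inrHomotopy (K : CochainComplex A ℤ) :
    Homotopy (CochainComplex.mappingCone.inr (𝟙 K)) 0 :=
  (CochainComplex.HomComplex.Cochain.equivHomotopy _ _).symm
    ⟨CochainComplex.mappingCone.inl (𝟙 K), by simp⟩

/-- a map is nullhomotopic iff it extends to the cone of the identity -/
lemma nonempty_homotopy_zero_iff {K M : CochainComplex A ℤ} (f : K ⟶ M) :
    Nonempty (Homotopy f 0) ↔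
      ∃ g : CochainComplex.mappingCone (𝟙 K) ⟶ M, CochainComplex.mappingCone.inr (𝟙 K) ≫ g = f := by
  constructor
  · rintro ⟨h⟩
    obtain ⟨z, hz⟩ := CochainComplex.HomComplex.Cochain.equivHomotopy _ _ h
    exact ⟨CochainComplex.mappingCone.desc (𝟙 K) z f (by simpa using hz.symm), by simp⟩
  · rintro ⟨g, rfl⟩
    exact ⟨((inrHomotopy K).compRight g).trans (Homotopy.ofEq zero_comp)⟩

theorem isKInjective_pi {T : Type v₁} (I : T → CochainComplex A ℤ) [HasProduct I]
    (h : ∀ t, (I t).IsKInjective) : (∏ᶜ I).IsKInjective := by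
  refine ⟨fun {K} f hK => ?_⟩
  have : ∀ t, ∃ g : CochainComplex.mappingCone (𝟙 K) ⟶ I t,
      CochainComplex.mappingCone.inr (𝟙 K) ≫ g = f ≫ Pi.π I t := fun t =>
    (nonempty_homotopy_zero_iff _).1 ((h t).nonempty_homotopy_zero _ hK)
  choose g hg using this
  exact (nonempty_homotopy_zero_iff f).2 ⟨Pi.lift g, Pi.hom_ext _ _ (fun t => by simp [hg])⟩

theorem kInjective_iff_extend (I : CochainComplex A ℤ) :
    (I.IsKInjective ∧ ∀ n : ℤ, Injective (I.X n)) ↔
      ∀ (S : ShortComplex (CochainComplex A ℤ)), S.ShortExact → S.X₃.Acyclic →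
        ∀ φ : S.X₁ ⟶ I, ∃ ψ : S.X₂ ⟶ I, S.f ≫ ψ = φ := by
  constructor
  · rintro ⟨hI, hinj⟩ S hS hac φ
    -- push out along `φ`, obtain a degreewise split extension of an acyclic complex by `I`
    have := hS.mono_f
    let i' := pushout.inr S.f φ
    have sq : IsPushout S.f φ (pushout.inl S.f φ) i' := IsPushout.of_hasPushout _ _
    have ht : tc i' := Groth.Agent.H5KInj.tc_pushouts sq
      ⟨hS.mono_f, Groth.Agent.H5KInj.quasiIso_of_acyclic_X₃ hS hac⟩
    obtain ⟨hm, hQ⟩ := (Groth.Agent.H5KInj.tc_iff i').1 ht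
    let T := ShortComplex.mk i' (cokernel.π i') (cokernel.condition i')
    have hT : T.ShortExact :=
      { mono_f := hm
        exact := ShortComplex.exact_of_g_is_cokernel _ (cokernelIsCokernel i') }
    let σ : ∀ n, (T.map (HomologicalComplex.eval A (ComplexShape.up ℤ) n)).Splitting := fun n =>
      have hn := hT.map_of_exact (HomologicalComplex.eval A (ComplexShape.up ℤ) n)
      have : Injective (T.map (HomologicalComplex.eval A (ComplexShape.up ℤ) n)).X₁ := hinj n
      hn.splittingOfInjective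
    obtain ⟨r, hr⟩ : ∃ r : pushout S.f φ ⟶ I, i' ≫ r = 𝟙 I := by
      obtain ⟨z, hz⟩ := CochainComplex.IsKInjective.eq_δ_of_cocycle
        (CochainComplex.cocycleOfDegreewiseSplit T σ) hQ 0 (zero_add 1)
      let r' : ∀ n, (pushout S.f φ).X n ⟶ I.X n := fun n => (σ n).r
      let s' : ∀ n, (cokernel i').X n ⟶ (pushout S.f φ).X n := fun n => (σ n).s
      let ρ : CochainComplex.HomComplex.Cochain (pushout S.f φ) I 0 :=
        CochainComplex.HomComplex.Cochain.ofHoms r' +
          (CochainComplex.HomComplex.Cochain.ofHom (cokernel.π i')).comp z (zero_add 0)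
      have hρ : CochainComplex.HomComplex.δ 0 1 ρ = 0 := by
        simp only [ρ, CochainComplex.HomComplex.δ_add, CochainComplex.HomComplex.δ_ofHom_comp, hz]
        ext p q hpq
        have hid : r' p ≫ i'.f p + (cokernel.π i').f p ≫ s' p = 𝟙 _ := (σ p).id
        have hfr : i'.f q ≫ r' q = 𝟙 _ := (σ q).f_r
        simp only [CochainComplex.HomComplex.Cochain.add_v, CochainComplex.HomComplex.δ_zero_cochain_v,
          CochainComplex.HomComplex.Cochain.ofHoms_v, CochainComplex.HomComplex.Cochain.zero_v,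
          CochainComplex.HomComplex.Cochain.zero_cochain_comp_v,
          CochainComplex.HomComplex.Cochain.ofHom_v]
        change r' p ≫ I.d p q - (pushout S.f φ).d p q ≫ r' q +
          (cokernel.π i').f p ≫ s' p ≫ (pushout S.f φ).d p q ≫ r' q = 0
        conv_lhs => arg 1; arg 2; rw [← Category.id_comp ((pushout S.f φ).d p q), ← hid]
        simp only [Preadditive.add_comp, Category.assoc, HomologicalComplex.Hom.comm_assoc, hfr,
          Category.comp_id]
        abel
      refine ⟨(CochainComplex.HomComplex.Cocycle.mk ρ 1 (zero_add 1) hρ).homOf, ?_⟩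
      ext p
      have h1 : i'.f p ≫ r' p = 𝟙 _ := (σ p).f_r
      have h2 : i'.f p ≫ (cokernel.π i').f p = 0 := by
        rw [← HomologicalComplex.comp_f, cokernel.condition, HomologicalComplex.zero_f]
      simp [ρ, h1, reassoc_of% h2]
    exact ⟨pushout.inl S.f φ ≫ r, by rw [pushout.condition_assoc, hr, Category.comp_id]⟩
  · intro h
    have hI : (tc (A := A)).rlp (0 : I ⟶ 0) := by
      intro X Z i hi
      obtain ⟨hm, hQ⟩ := (Groth.Agent.H5KInj.tc_iff i).1 hi
      refine ⟨fun {f g} sq => ?_⟩
      let S := ShortComplex.mk i (cokernel.π i) (cokernel.condition i)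
      have hS : S.ShortExact :=
        { mono_f := hm
          exact := ShortComplex.exact_of_g_is_cokernel _ (cokernelIsCokernel i) }
      obtain ⟨ψ, hψ⟩ := h S hS hQ f
      exact ⟨⟨⟨ψ, hψ, (Limits.isZero_zero _).eq_of_tgt _ _⟩⟩⟩
    exact ⟨Groth.Agent.H5KInj.isKInjective_of_rlp hI, Groth.Agent.H5KInj.injective_of_rlp hI⟩

theorem exists_functorial_kInjective [IsGrothendieckAbelian.{v₁} A] :
    ∃ (N : CochainComplex A ℤ ⥤ CochainComplex A ℤ) (j : 𝟭 _ ⟶ N),
      ∀ M : CochainComplex A ℤ, (∀ n : ℤ, Mono ((j.app M).f n)) ∧ QuasiIso (j.app M) ∧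
        (N.obj M).IsKInjective ∧ ∀ n, Injective ((N.obj M).X n) := by
  have hG := isSeparator_separator A
  let W := gens (separator A)
  have hle : W.rlp.llp ≤ tc := by
    rw [MorphismProperty.llp_rlp_of_hasSmallObjectArgument.{v₁} W]
    refine le_trans ?_ (MorphismProperty.retracts_le_iff.2 le_rfl : tc.retracts ≤ tc)
    apply MorphismProperty.retracts_monotone
    refine le_trans ?_ (MorphismProperty.transfiniteCompositions_le.{v₁} tc)
    apply MorphismProperty.transfiniteCompositions_monotone
    simp only [MorphismProperty.pushouts_le_iff, MorphismProperty.coproducts_le_iff]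
    exact Groth.Agent.H5KInj.gens_le_tc _
  let data := MorphismProperty.functorialFactorizationData W.rlp.llp W.rlp
  let Φ : CochainComplex A ℤ ⥤ Arrow (CochainComplex A ℤ) :=
    { obj := fun M => Arrow.mk (0 : M ⟶ (0 : CochainComplex A ℤ))
      map := fun f => Arrow.homMk f (𝟙 _) (by simp)
      map_id := fun M => by ext <;> simp
      map_comp := fun f g => by ext <;> simp }
  refine ⟨Φ ⋙ data.Z, { app := fun M => data.i.app (Φ.obj M), naturality := fun M M' f => data.i.naturality (Φ.map f) }, fun M => ?_⟩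
  obtain ⟨h1, h2⟩ := hle _ (data.hi (Φ.obj M))
  have : Mono (data.i.app (Φ.obj M)) := h1
  have hp : (tc (A := A)).rlp (data.p.app (Φ.obj M)) :=
    le_of_eq (Groth.Agent.H5KInj.gens_rlp hG) _ (data.hp (Φ.obj M))
  replace hp : (tc (A := A)).rlp (0 : data.Z.obj (Φ.obj M) ⟶ (0 : CochainComplex A ℤ)) := by
    rwa [(isZero_zero (CochainComplex A ℤ)).eq_of_tgt 0 (data.p.app (Φ.obj M))]
  exact ⟨fun n => inferInstanceAs (Mono ((data.i.app (Φ.obj M)).f n)), h2,
    Groth.Agent.H5KInj.isKInjective_of_rlp hp, Groth.Agent.H5KInj.injective_of_rlp hp⟩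

theorem exists_functorial_killing [IsGrothendieckAbelian.{v₁} A] {ι : Type v₁}
    (K : ι → CochainComplex A ℤ) (hK : ∀ i (n : ℤ), IsZero ((K i).homology n)) :
    ∃ (N : CochainComplex A ℤ ⥤ CochainComplex A ℤ) (j : 𝟭 _ ⟶ N),
      ∀ M : CochainComplex A ℤ, (∀ n : ℤ, Mono ((j.app M).f n)) ∧ QuasiIso (j.app M) ∧
        ∀ (i : ι) (w : K i ⟶ M), Nonempty (Homotopy (w ≫ j.app M) 0) := by
  obtain ⟨N, j, h⟩ := exists_functorial_kInjective (A := A)
  exact ⟨N, j, fun M => ⟨(h M).1, (h M).2.1, fun i w => (h M).2.2.1.nonempty_homotopy_zero _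
    (fun n => (HomologicalComplex.exactAt_iff_isZero_homology _ _).2 (hK i n))⟩⟩

theorem exists_functorial_hull [IsGrothendieckAbelian.{v₁} A] :
    ∃ (N : CochainComplex A ℤ ⥤ CochainComplex A ℤ) (j : 𝟭 _ ⟶ N),
      ∀ M : CochainComplex A ℤ, (∀ n : ℤ, Mono ((j.app M).f n)) ∧ QuasiIso (j.app M) ∧
        ∀ n : ℤ, ∃ (I : A) (_ : Injective I) (a : M.X n ⟶ I) (b : I ⟶ (N.obj M).X n),
          Mono b ∧ a ≫ b = (j.app M).f n := by
  obtain ⟨N, j, h⟩ := exists_functorial_kInjective (A := A)
  exact ⟨N, j, fun M => ⟨(h M).1, (h M).2.1, fun n =>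
    ⟨_, (h M).2.2.2 n, (j.app M).f n, 𝟙 _, inferInstance, Category.comp_id _⟩⟩⟩

/-- homotopies to zero assemble over coproducts -/
lemma homotopy_sigma {T : Type v₁} [IsGrothendieckAbelian.{v₁} A] (K : T → CochainComplex A ℤ)
    {I : CochainComplex A ℤ} (f g : (∐ K) ⟶ I)
    (h : ∀ t, Nonempty (Homotopy (Sigma.ι K t ≫ f) (Sigma.ι K t ≫ g))) :
    Nonempty (Homotopy f g) := by
  let hc : ∀ i, IsColimit (Cofan.mk ((∐ K).X i) fun t => (Sigma.ι K t).f i) := fun i =>
    isColimitCofanMkObjOfIsColimit (HomologicalComplex.eval A (ComplexShape.up ℤ) i) _ _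
      (coproductIsCoproduct K)
  let H : ∀ i j, (∐ K).X i ⟶ I.X j := fun i j => Cofan.IsColimit.desc (hc i) (fun t => (h t).some.hom i j)
  have hH : ∀ t i j, (Sigma.ι K t).f i ≫ H i j = (h t).some.hom i j := fun t i j =>
    Cofan.IsColimit.fac (hc i) _ t
  refine ⟨⟨H, fun i j hij => Cofan.IsColimit.hom_ext (hc i) _ _ (fun t => ?_), fun i => ?_⟩⟩
  · dsimp; rw [hH, (h t).some.zero i j hij, comp_zero]
  · refine Cofan.IsColimit.hom_ext (hc i) _ _ (fun t => ?_)
    have e := (h t).some.comm i
    simp only [HomologicalComplex.comp_f] at e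
    change (Sigma.ι K t).f i ≫ f.f i = (Sigma.ι K t).f i ≫ (dNext i H + prevD i H + g.f i)
    rw [e]
    simp only [Preadditive.comp_add, dNext, prevD, AddMonoidHom.mk'_apply, ← hH,
      ← HomologicalComplex.Hom.comm_assoc, Category.assoc]

section coprod

variable [IsGrothendieckAbelian.{v₁} A] [HasDerivedCategory.{v₁} A]

lemma Q_map_eq_iff {X I : CochainComplex A ℤ} [I.IsKInjective] (f g : X ⟶ I) :
    DerivedCategory.Q.map f = DerivedCategory.Q.map g ↔ Nonempty (Homotopy f g) :=
  ⟨fun h => ⟨HomotopyCategory.homotopyOfEq _ _ (homotopic_of_Q_map_eq h)⟩,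
    fun ⟨h⟩ => DerivedCategory.Q_map_eq_of_homotopy A h⟩

theorem hasCoproducts_derived : HasCoproducts.{v₁} (DerivedCategory A) := by
  intro T
  refine ⟨fun F => ?_⟩
  suffices h' : HasCoproduct (fun t => F.obj ⟨t⟩) by
    have : HasColimit (Discrete.functor (F.obj ∘ Discrete.mk)) := h'
    exact hasColimit_of_iso Discrete.natIsoFunctor
  set X := fun t => F.obj ⟨t⟩
  let K := fun t => DerivedCategory.Q.objPreimage (X t)
  let e : ∀ t, DerivedCategory.Q.obj (K t) ≅ X t := fun t => DerivedCategory.Q.objObjPreimageIso _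
  have R := resolving_Q (A := A) enoughKInj_of_grothendieck
  let c : Cofan X := Cofan.mk (DerivedCategory.Q.obj (∐ K))
    (fun t => (e t).inv ≫ DerivedCategory.Q.map (Sigma.ι K t))
  have hI : ∀ Y, (R.res Y).IsKInjective := R.res_mem
  have huniq : ∀ (s : Cofan X) (u : c.pt ⟶ s.pt), (∀ t, c.inj t ≫ u = s.inj t) →
      u = DerivedCategory.Q.map (Sigma.desc fun t => R.lift (hI s.pt) ((e t).hom ≫ s.inj t ≫ (R.resIso s.pt).inv)) ≫
        (R.resIso s.pt).hom := by
    intro s u hu
    have := hI s.pt
    obtain ⟨f, hf⟩ := R.surj _ _ (hI s.pt) (u ≫ (R.resIso s.pt).inv)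
    rw [← Iso.comp_inv_eq, ← hf, Q_map_eq_iff]
    refine homotopy_sigma K _ _ (fun t => (Q_map_eq_iff _ _).1 ?_)
    rw [Functor.map_comp, Sigma.ι_desc, R.map_lift, hf, ← hu t]
    simp [c, Cofan.mk, Cofan.inj]
  exact ⟨c, Cofan.IsColimit.mk c _ (fun s t => by
    simp [c, Cofan.mk, Cofan.inj, ← Functor.map_comp_assoc]) huniq⟩

theorem hasProducts_derived : HasProducts.{v₁} (DerivedCategory A) := by
  intro T
  refine ⟨fun F => ?_⟩
  suffices h' : HasProduct (fun t => F.obj ⟨t⟩) by
    have : HasLimit (Discrete.functor (F.obj ∘ Discrete.mk)) := h'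
    exact hasLimit_of_iso Discrete.natIsoFunctor.symm
  set X := fun t => F.obj ⟨t⟩
  have R := resolving_Q (A := A) enoughKInj_of_grothendieck
  let I := fun t => R.res (X t)
  have hI : ∀ t, (I t).IsKInjective := fun t => R.res_mem _
  have hP : (∏ᶜ I).IsKInjective := isKInjective_pi I hI
  let c : Fan X := Fan.mk (DerivedCategory.Q.obj (∏ᶜ I))
    (fun t => DerivedCategory.Q.map (Pi.π I t) ≫ (R.resIso (X t)).hom)
  let P := fun (s : Fan X) => DerivedCategory.Q.objPreimage s.pt
  let e := fun (s : Fan X) => DerivedCategory.Q.objObjPreimageIso s.pt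
  have huniq : ∀ (s : Fan X) (u : s.pt ⟶ c.pt), (∀ t, u ≫ c.proj t = s.proj t) →
      u = (e s).inv ≫ DerivedCategory.Q.map (Pi.lift fun t => R.lift (hI t) ((e s).hom ≫ s.proj t ≫ (R.resIso (X t)).inv)) := by
    intro s u hu
    obtain ⟨f, hf⟩ := R.surj (P s) _ hP ((e s).hom ≫ u)
    rw [Iso.eq_inv_comp, ← hf, Q_map_eq_iff]
    let l := fun t => R.lift (hI t) ((e s).hom ≫ s.proj t ≫ (R.resIso (X t)).inv)
    have hd : ∀ t, Nonempty (Homotopy ((f - Pi.lift l) ≫ Pi.π I t) 0) := fun t => by
      have := hI t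
      refine (Q_map_eq_iff _ _).1 ?_
      rw [Preadditive.sub_comp, Functor.map_sub, Functor.map_zero, sub_eq_zero, Functor.map_comp,
        Pi.lift_π, R.map_lift, hf, ← hu t]
      simp [c, Fan.mk, Fan.proj]
    choose g hg using fun t => (nonempty_homotopy_zero_iff _).1 (hd t)
    obtain ⟨h⟩ := (nonempty_homotopy_zero_iff (f - Pi.lift l)).2
      ⟨Pi.lift g, Pi.hom_ext _ _ (fun t => by simp [hg])⟩
    exact ⟨Homotopy.equivSubZero.symm h⟩
  exact ⟨c, Fan.IsLimit.mk c _ (fun s t => by
    simp [c, Fan.mk, Fan.proj, e, ← Functor.map_comp_assoc]) huniq⟩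

end coprod

end apps

section adjC

variable {A : Type u₁} [Category.{v₁} A] [Abelian A] {B : Type u₂} [Category.{v₂} B] [Abelian B]
  {F : A ⥤ B} {G : B ⥤ A} (adj : F ⊣ G) [F.Additive] [G.Additive]

/-- the adjunction on complexes -/
noncomputable def adjC :
    F.mapHomologicalComplex (ComplexShape.up ℤ) ⊣ G.mapHomologicalComplex (ComplexShape.up ℤ) :=
  Adjunction.mkOfUnitCounit
    { unit :=
        { app := fun K =>
            { f := fun n => adj.unit.app (K.X n)
              comm' := fun i j _ => (adj.unit.naturality (K.d i j)).symm }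
          naturality := fun K L f => by ext n; exact adj.unit.naturality (f.f n) }
      counit :=
        { app := fun K =>
            { f := fun n => adj.counit.app (K.X n)
              comm' := fun i j _ => (adj.counit.naturality (K.d i j)).symm }
          naturality := fun K L f => by ext n; exact adj.counit.naturality (f.f n) }
      left_triangle := by ext K n; simp; exact adj.left_triangle_components _
      right_triangle := by ext K n; simp; exact adj.right_triangle_components _ }

lemma adjC_counit_f (K : CochainComplex B ℤ) (n : ℤ) :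
    ((adjC adj).counit.app K).f n = adj.counit.app (K.X n) := rfl

variable [PreservesFiniteLimits F] [PreservesFiniteColimits F]

include adj in
theorem isKInjective_map_rightAdjoint (I : CochainComplex B ℤ) (h : I.IsKInjective) :
    CochainComplex.IsKInjective ((G.mapHomologicalComplex (ComplexShape.up ℤ)).obj I) := by
  refine ⟨fun {K} f hK => ?_⟩
  have hFK : ((F.mapHomologicalComplex (ComplexShape.up ℤ)).obj K).Acyclic := fun n => by
    have hq : QuasiIso ((F.mapHomologicalComplex (ComplexShape.up ℤ)).map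
        (0 : K ⟶ (0 : CochainComplex A ℤ))) := by
      have : QuasiIso (0 : K ⟶ (0 : CochainComplex A ℤ)) := by
        rw [quasiIso_iff]; intro i
        rw [quasiIsoAt_iff_exactAt _ _ (hK i)]
        exact ShortComplex.exact_of_isZero_X₂ _
          ((HomologicalComplex.eval A (ComplexShape.up ℤ) i).map_isZero (isZero_zero _))
      infer_instance
    have := (quasiIso_iff _).1 hq n
    exact (quasiIsoAt_iff_exactAt' _ _ (ShortComplex.exact_of_isZero_X₂ _
      ((HomologicalComplex.eval B (ComplexShape.up ℤ) n).map_isZero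
        (Functor.map_isZero _ (isZero_zero _))))).1 this
  obtain ⟨H⟩ := h.nonempty_homotopy_zero (((adjC adj).homEquiv K I).symm f) hFK
  have hf : f = (adjC adj).unit.app K ≫
      (G.mapHomologicalComplex (ComplexShape.up ℤ)).map (((adjC adj).homEquiv K I).symm f) := by
    exact (((adjC adj).homEquiv K I).apply_symm_apply f).symm.trans ((adjC adj).homEquiv_unit _ _ _)
  exact ⟨(Homotopy.ofEq hf).trans (((G.mapHomotopy H).compLeft ((adjC adj).unit.app K)).trans
    (Homotopy.ofEq (by rw [Functor.map_zero, comp_zero])))⟩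

variable [HasDerivedCategory.{w} A] [HasDerivedCategory.{w'} B]
  {RG : DerivedCategory B ⥤ DerivedCategory A}
  (α : G.mapHomologicalComplex (ComplexShape.up ℤ) ⋙ DerivedCategory.Q ⟶ DerivedCategory.Q ⋙ RG)

include adj in
theorem exists_derived_adjunction (hB : EnoughKInj B)
    [RG.IsRightDerivedFunctor α (HomologicalComplex.quasiIso B (ComplexShape.up ℤ))] :
    ∃ a : F.mapDerivedCategory ⊣ RG,
      ∀ X : CochainComplex B ℤ, F.mapDerivedCategory.map (α.app X) ≫ a.counit.app (DerivedCategory.Q.obj X) =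
        F.mapDerivedCategoryFactors.hom.app ((G.mapHomologicalComplex (ComplexShape.up ℤ)).obj X) ≫
          DerivedCategory.Q.map ((adjC adj).counit.app X) := by
  let W₁ := HomologicalComplex.quasiIso A (ComplexShape.up ℤ)
  let W₂ := HomologicalComplex.quasiIso B (ComplexShape.up ℤ)
  let f := F.mapDerivedCategoryFactors
  have : F.mapDerivedCategory.IsLeftDerivedFunctor f.hom W₁ :=
    Functor.isLeftDerivedFunctor_of_inverts W₁ _ f
  have : (F.mapDerivedCategory ⋙ RG).IsLeftDerivedFunctor
      ((Functor.associator _ _ _).inv ≫ Functor.whiskerRight f.hom RG) W₁ :=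
    Functor.isLeftDerivedFunctor_of_inverts W₁ _
      ((Functor.associator _ _ _).symm ≪≫ Functor.isoWhiskerRight f RG)
  have hR := resolving_Q (A := B) hB
  have : (RG ⋙ F.mapDerivedCategory).IsRightDerivedFunctor
      (Functor.whiskerRight α F.mapDerivedCategory ≫ (Functor.associator _ _ _).hom) W₂ :=
    hR.isRightDerived_comp (compat_Q G) W₂ RG α F.mapDerivedCategory
  exact ⟨(adjC adj).derived W₁ W₂ f.hom α, fun X => Adjunction.derivedε_fac_app (adjC adj) W₂ f.hom α X⟩

include adj in
/-- if the counit is invertible, the derived right adjoint is fully faithful -/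
theorem exists_derived_adjunction_ff (hB : EnoughKInj B) [IsIso adj.counit]
    [RG.IsRightDerivedFunctor α (HomologicalComplex.quasiIso B (ComplexShape.up ℤ))] :
    ∃ a : F.mapDerivedCategory ⊣ RG, IsIso a.counit := by
  obtain ⟨a, ha⟩ := exists_derived_adjunction adj α hB
  have hR := resolving_Q (A := B) hB
  have hI : ∀ I : CochainComplex B ℤ, I.IsKInjective → IsIso (α.app I) :=
    (hR.isRightDerived_iff (compat_Q G) (HomologicalComplex.quasiIso B (ComplexShape.up ℤ)) RG α).1 inferInstance
  refine ⟨a, ?_⟩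
  have : ∀ Y, IsIso (a.counit.app Y) := fun Y => by
    have := hI (hR.res Y) (hR.res_mem Y)
    have : IsIso ((adjC adj).counit.app (hR.res Y)) := by
      have : ∀ n, IsIso (((adjC adj).counit.app (hR.res Y)).f n) := fun n =>
        inferInstanceAs (IsIso (adj.counit.app ((hR.res Y).X n)))
      exact HomologicalComplex.Hom.isIso_of_components _
    have h1 : IsIso (F.mapDerivedCategory.map (α.app (hR.res Y)) ≫
        a.counit.app (DerivedCategory.Q.obj (hR.res Y))) := by
      rw [ha]; infer_instance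
    have h2 := IsIso.of_isIso_comp_left (F.mapDerivedCategory.map (α.app (hR.res Y)))
      (a.counit.app (DerivedCategory.Q.obj (hR.res Y)))
    exact ((MorphismProperty.isomorphisms _).arrow_mk_iso_iff
      (Arrow.isoMk ((RG ⋙ F.mapDerivedCategory).mapIso (hR.resIso Y)) (hR.resIso Y)
        (a.counit.naturality _))).1 h2
  exact NatIso.isIso_of_isIso_app _

end adjC

section transfer

variable {A : Type u₁} [Category.{v₁} A] [Abelian A] [HasDerivedCategory.{w} A]
  {B : Type u₂} [Category.{v₂} B] [Abelian B] [HasDerivedCategory.{w'} B] (G : A ⥤ B) [G.Additive]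

/-- a right derived functor on the homotopy category gives one on complexes -/
theorem exists_derived_on_complexes (h : EnoughKInj A)
    {RG : DerivedCategory A ⥤ DerivedCategory B}
    (α : G.mapHomotopyCategory (ComplexShape.up ℤ) ⋙ DerivedCategory.Qh ⟶ DerivedCategory.Qh ⋙ RG)
    [RG.IsRightDerivedFunctor α (HomotopyCategory.quasiIso A (ComplexShape.up ℤ))] :
    ∃ α' : G.mapHomologicalComplex (ComplexShape.up ℤ) ⋙ DerivedCategory.Q ⟶ DerivedCategory.Q ⋙ RG,
      RG.IsRightDerivedFunctor α' (HomologicalComplex.quasiIso A (ComplexShape.up ℤ)) := by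
  let α' : G.mapHomologicalComplex (ComplexShape.up ℤ) ⋙ DerivedCategory.Q ⟶ DerivedCategory.Q ⋙ RG :=
    { app := fun K => (DerivedCategory.quotientCompQhIso B).inv.app _ ≫
        DerivedCategory.Qh.map ((G.mapHomotopyCategoryFactors (ComplexShape.up ℤ)).inv.app K) ≫
        α.app ((HomotopyCategory.quotient A _).obj K) ≫
        RG.map ((DerivedCategory.quotientCompQhIso A).hom.app K)
      naturality := fun K L f => by
        have h1 := (DerivedCategory.quotientCompQhIso B).inv.naturality
          ((G.mapHomologicalComplex (ComplexShape.up ℤ)).map f)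
        have h2 := (G.mapHomotopyCategoryFactors (ComplexShape.up ℤ)).inv.naturality f
        have h3 := α.naturality ((HomotopyCategory.quotient A _).map f)
        have h4 := (DerivedCategory.quotientCompQhIso A).hom.naturality f
        simp only [Functor.comp_map] at h1 h2 h3 h4
        simp only [Functor.comp_map, Category.assoc]
        rw [reassoc_of% h1, ← DerivedCategory.Qh.map_comp_assoc, h2, Functor.map_comp_assoc,
          reassoc_of% h3, ← RG.map_comp, h4, RG.map_comp] }
  refine ⟨α', ((resolving_Q h).isRightDerived_iff (compat_Q G) _ RG α').2 fun I hI => ?_⟩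
  have := ((resolving_Qh h).isRightDerived_iff (compat_Qh _)
    (HomotopyCategory.quasiIso A (ComplexShape.up ℤ)) RG α).1 inferInstance _ ⟨I, hI, rfl⟩
  dsimp [α']
  infer_instance

end transfer

section final

theorem gabrielPopescu {C : Type u₁} [Category.{v₁} C] [Abelian C]
    [IsGrothendieckAbelian.{v₁} C] [HasDerivedCategory.{w} C] (U : C) (hU : IsSeparator U)
    [HasDerivedCategory.{w'} (ModuleCat.{v₁} (End U)ᵐᵒᵖ)]
    [(IsGrothendieckAbelian.tensorObj U).Additive] [PreservesFiniteLimits (IsGrothendieckAbelian.tensorObj U)]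
    [PreservesFiniteColimits (IsGrothendieckAbelian.tensorObj U)]
    [((preadditiveCoyonedaObj U).mapHomotopyCategory (ComplexShape.up ℤ) ⋙ DerivedCategory.Qh).HasRightDerivedFunctor
      (HomotopyCategory.quasiIso C (ComplexShape.up ℤ))] :
    let RG := ((preadditiveCoyonedaObj U).mapHomotopyCategory (ComplexShape.up ℤ) ⋙ DerivedCategory.Qh).totalRightDerived
      DerivedCategory.Qh (HomotopyCategory.quasiIso C (ComplexShape.up ℤ))
    let LF := (IsGrothendieckAbelian.tensorObj U).mapDerivedCategory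
    Nonempty (LF ⊣ RG) ∧ RG.Full ∧ RG.Faithful ∧
      Nonempty (RG ⋙ LF ≅ 𝟭 (DerivedCategory C)) := by
  intro RG LF
  have : (preadditiveCoyonedaObj U).Full := IsGrothendieckAbelian.GabrielPopescu.full U hU
  have : (preadditiveCoyonedaObj U).Faithful := (isSeparator_iff_faithful_preadditiveCoyonedaObj U).1 hU
  have adj := IsGrothendieckAbelian.tensorObjPreadditiveCoyonedaObjAdjunction U
  obtain ⟨α, hα⟩ := exists_derived_on_complexes (preadditiveCoyonedaObj U)
    enoughKInj_of_grothendieck (((preadditiveCoyonedaObj U).mapHomotopyCategory (ComplexShape.up ℤ) ⋙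
      DerivedCategory.Qh).totalRightDerivedUnit DerivedCategory.Qh (HomotopyCategory.quasiIso C (ComplexShape.up ℤ)))
  obtain ⟨a, ha⟩ := exists_derived_adjunction_ff adj α enoughKInj_of_grothendieck
  have ff := a.fullyFaithfulROfIsIsoCounit
  exact ⟨⟨a⟩, ff.full, ff.faithful, ⟨asIso a.counit⟩⟩

end final

section modules

theorem isGrothendieckAbelian_sheafOfModules {C : Type u₁} [SmallCategory C] (J : GrothendieckTopology C)
    (R : Sheaf J RingCat.{u₁}) : IsGrothendieckAbelian.{u₁} (SheafOfModules.{u₁} R) := by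
  let adj := PresheafOfModules.sheafificationAdjunction (𝟙 R.obj)
  have hpre : AB5.{u₁} (PresheafOfModules.{u₁} R.obj) := ⟨fun K _ _ =>
    HasExactColimitsOfShape.domain_of_functor K (PresheafOfModules.toPresheaf R.obj)⟩
  have hab : AB5.{u₁} (SheafOfModules.{u₁} R) := ⟨fun K _ _ => adj.hasExactColimitsOfShape K⟩
  let S := ∐ fun X : C => (yoneda ⋙ PresheafOfModules.free R.obj).obj X
  have hS : IsSeparator S := (isSeparator_sigma _).2 (PresheafOfModules.freeYoneda.isSeparating R.obj)
  have hsep : HasSeparator (SheafOfModules.{u₁} R) := by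
    refine ⟨(PresheafOfModules.sheafification (𝟙 R.obj)).obj S, (isSeparator_def _).2 fun X Y g h hgh => ?_⟩
    apply (SheafOfModules.forget R ⋙ PresheafOfModules.restrictScalars (𝟙 R.obj)).map_injective
    refine hS.def _ _ (fun k => ?_)
    apply ((adj.homEquiv _ _).symm).injective
    rw [adj.homEquiv_naturality_right_symm, adj.homEquiv_naturality_right_symm, hgh]
  exact {}

attribute [local instance] HasDerivedCategory.standard in
theorem pullD_adj {C : Type u₁} [SmallCategory C] {J : GrothendieckTopology C} {O_C : Sheaf J CommRingCat.{u₁}}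
    {D : Type u₁} [SmallCategory D] {K : GrothendieckTopology D} {O_D : Sheaf K CommRingCat.{u₁}}
    (f : ModSite.RMor O_C O_D) [PreservesFiniteLimits f.pull] [SiteCmp.HasRpushD f] :
    Nonempty (SiteCmp.pullD f ⊣ SiteCmp.RpushD f) := by
  have : IsGrothendieckAbelian.{u₁} (ModSite.Mod O_C) := isGrothendieckAbelian_sheafOfModules J _
  obtain ⟨α, hα⟩ := exists_derived_on_complexes f.push enoughKInj_of_grothendieck
    ((SiteCmp.pushKh f).totalRightDerivedUnit DerivedCategory.Qh
      (HomotopyCategory.quasiIso (ModSite.Mod O_C) (ComplexShape.up ℤ)))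
  exact ⟨(exists_derived_adjunction f.adj α enoughKInj_of_grothendieck).choose⟩

end modules

end Groth.Agent.H5KApps
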