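import Mathlib
import Groth.Prelude.Def_DRing3
import Groth.Agent.Lib.H5KInjApps
set_option autoImplicit false
universe u
open CategoryTheory Limits
attribute [local instance] HasDerivedCategory.standard
set_option backward.isDefEq.respectTransparency.types false
set_option maxHeartbeats 800000

namespace Groth.Agent.H2RGammaInv

/-! `RΓ_I` kills complexes on which an element of `I` is invertible. -/
theorem homologyMap_smul_id {A : Type u} [CommRing A] (C : CochainComplex (ModuleCat.{u} A) ℤ) (f : A) (n : ℤ) :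
    HomologicalComplex.homologyMap (f • 𝟙 C) n = f • 𝟙 (C.homology n) := by
  change ShortComplex.homologyMap ((HomologicalComplex.shortComplexFunctor (ModuleCat.{u} A) (ComplexShape.up ℤ) n).map (f • 𝟙 C)) = _
  have : (HomologicalComplex.shortComplexFunctor (ModuleCat.{u} A) (ComplexShape.up ℤ) n).map (f • 𝟙 C) = f • 𝟙 (C.sc n) := by
    ext <;> rfl
  rw [this, ShortComplex.homologyMap_smul, ShortComplex.homologyMap_id]
  rfl

theorem isZero_RgammaI (A : Type u) [CommRing A] (I : Ideal A) (hI : I.FG) [DRing.HasRgammaI I] (K : CochainComplex (ModuleCat.{u} A) ℤ) (f : A) (hf : f ∈ I) (hK : ∀ n : ℤ, Function.Bijective (fun x : K.X n => f • x)) : IsZero ((DRing.RgammaI I).obj (DerivedCategory.Q.obj K)) := by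
  have hE := Groth.Agent.H5KApps.enoughKInj_of_grothendieck (A := ModuleCat.{u} A)
  obtain ⟨J, φ, hJ, hφ⟩ := hE K
  haveI : IsIso (f • 𝟙 K) := by
    haveI : ∀ n, IsIso ((f • 𝟙 K).f n) := fun n => by
      rw [ConcreteCategory.isIso_iff_bijective]; exact hK n
    exact HomologicalComplex.Hom.isIso_of_components _
  haveI : QuasiIso (φ ≫ (f • 𝟙 J)) := by
    rw [Linear.comp_smul, Category.comp_id, show f • φ = (f • 𝟙 K) ≫ φ by rw [Linear.smul_comp, Category.id_comp]]
    infer_instance
  haveI : QuasiIso (f • 𝟙 J) := quasiIso_of_comp_left φ _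
  haveI := hJ
  let q := HomotopyCategory.quotient (ModuleCat.{u} A) (ComplexShape.up ℤ)
  haveI : IsIso (DerivedCategory.Qh.map (q.map (f • 𝟙 J))) := by
    have h : IsIso (DerivedCategory.Q.map (f • 𝟙 J)) := inferInstance
    exact ((MorphismProperty.isomorphisms _).arrow_mk_iso_iff
      (Arrow.isoMk ((DerivedCategory.quotientCompQhIso _).app J) ((DerivedCategory.quotientCompQhIso _).app J)
        ((DerivedCategory.quotientCompQhIso _).hom.naturality (f • 𝟙 J)).symm)).2 h
  haveI : IsIso (q.map (f • 𝟙 J)) := by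
    obtain ⟨g, hg⟩ := (CochainComplex.IsKInjective.Qh_map_bijective (q.obj J) J).surjective (inv (DerivedCategory.Qh.map (q.map (f • 𝟙 J))))
    exact ⟨g, (CochainComplex.IsKInjective.Qh_map_bijective (q.obj J) J).injective (by rw [Functor.map_comp, hg, IsIso.hom_inv_id, CategoryTheory.Functor.map_id]),
      (CochainComplex.IsKInjective.Qh_map_bijective (q.obj J) J).injective (by rw [Functor.map_comp, hg, IsIso.inv_hom_id, CategoryTheory.Functor.map_id])⟩
  let G := DRing.gammaI I
  let C := (G.mapHomologicalComplex (ComplexShape.up ℤ)).obj J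
  have hC : ∀ n, IsZero (C.homology n) := by
    intro n
    have hm : (G.mapHomologicalComplex (ComplexShape.up ℤ)).map (f • 𝟙 J) = f • 𝟙 C := by
      ext k x; rfl
    haveI : IsIso (q.map ((G.mapHomologicalComplex (ComplexShape.up ℤ)).map (f • 𝟙 J))) := by
      exact ((MorphismProperty.isomorphisms _).arrow_mk_iso_iff
        (Arrow.isoMk ((G.mapHomotopyCategoryFactors _).app J) ((G.mapHomotopyCategoryFactors _).app J)
          ((G.mapHomotopyCategoryFactors _).hom.naturality (f • 𝟙 J)).symm)).1 (inferInstanceAs (IsIso ((G.mapHomotopyCategory (ComplexShape.up ℤ)).map (q.map (f • 𝟙 J)))))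
    have hiso : IsIso (HomologicalComplex.homologyMap (f • 𝟙 C) n) := by
      rw [← hm]
      exact ((MorphismProperty.isomorphisms _).arrow_mk_iso_iff
        (Arrow.isoMk ((HomotopyCategory.homologyFunctorFactors _ _ n).app C) ((HomotopyCategory.homologyFunctorFactors _ _ n).app C)
          ((HomotopyCategory.homologyFunctorFactors _ _ n).hom.naturality ((G.mapHomologicalComplex (ComplexShape.up ℤ)).map (f • 𝟙 J))).symm)).1 (inferInstanceAs (IsIso ((HomotopyCategory.homologyFunctor (ModuleCat.{u} A) (ComplexShape.up ℤ) n).map (q.map ((G.mapHomologicalComplex (ComplexShape.up ℤ)).map (f • 𝟙 J))))))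
    rw [homologyMap_smul_id, ConcreteCategory.isIso_iff_bijective] at hiso
    have hinj : Function.Injective (fun x : C.homology n => f • x) := hiso.1
    haveI : Subsingleton (C.homology n) := by
      refine subsingleton_of_forall_eq 0 fun x => ?_
      obtain ⟨z, rfl⟩ := (ModuleCat.epi_iff_surjective (C.homologyπ n)).1 inferInstance x
      obtain ⟨m, hm'⟩ := ((C.iCycles n).hom z).2
      have hz : f ^ m • z = 0 := by
        apply (ModuleCat.mono_iff_injective (C.iCycles n)).1 inferInstance
        rw [map_smul, map_zero]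
        exact Subtype.ext (hm' _ (Ideal.pow_mem_pow hf m))
      have h0 : f ^ m • (C.homologyπ n).hom z = 0 := by rw [← map_smul, hz, map_zero]
      clear hm' hz
      induction m with
      | zero => simpa using h0
      | succ m ih =>
        refine ih (hinj ?_)
        show f • _ = f • (0 : C.homology n)
        rw [smul_zero, ← mul_smul, ← pow_succ', h0]
    exact ModuleCat.isZero_of_subsingleton _
  have hder := (((Groth.Agent.H5KApps.resolving_Qh hE).isRightDerived_iff (Groth.Agent.H5KApps.compat_Qh _)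
    (HomotopyCategory.quasiIso (ModuleCat.{u} A) (ComplexShape.up ℤ)) (DRing.RgammaI I)
    ((DRing.gammaIKh I).totalRightDerivedUnit DerivedCategory.Qh (HomotopyCategory.quasiIso (ModuleCat.{u} A) (ComplexShape.up ℤ)))).1 inferInstance) (q.obj J) ⟨J, hJ, rfl⟩
  have hz0 : IsZero (DerivedCategory.Q.obj C) := by
    haveI : QuasiIso (0 : C ⟶ C) := ⟨fun n => by
      rw [quasiIsoAt_iff_isIso_homologyMap, HomologicalComplex.homologyMap_zero]
      exact ⟨0, (hC n).eq_of_src _ _, (hC n).eq_of_src _ _⟩⟩
    rw [IsZero.iff_id_eq_zero]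
    haveI : IsIso (DerivedCategory.Q.map (0 : C ⟶ C)) := inferInstance
    rw [Functor.map_zero] at this
    rw [← IsIso.hom_inv_id (0 : DerivedCategory.Q.obj C ⟶ DerivedCategory.Q.obj C), zero_comp]
  have e1 : (DRing.gammaIKh I).obj (q.obj J) ≅ DerivedCategory.Q.obj C :=
    DerivedCategory.Qh.mapIso ((G.mapHomotopyCategoryFactors _).app J) ≪≫ (DerivedCategory.quotientCompQhIso _).app C
  haveI := hder
  have e2 : DerivedCategory.Q.obj K ≅ DerivedCategory.Qh.obj (q.obj J) :=
    asIso (DerivedCategory.Q.map φ) ≪≫ ((DerivedCategory.quotientCompQhIso _).app J).symm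
  exact hz0.of_iso ((DRing.RgammaI I).mapIso e2 ≪≫ (asIso (((DRing.gammaIKh I).totalRightDerivedUnit DerivedCategory.Qh (HomotopyCategory.quasiIso (ModuleCat.{u} A) (ComplexShape.up ℤ))).app (q.obj J))).symm ≪≫ e1)

end Groth.Agent.H2RGammaInv
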