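import Mathlib
import Groth.Agent.S9407

/-! Reduced finite type `ℤ`-algebras are reduced modulo almost all primes. -/

universe u

open TensorProduct

namespace Groth.Agent.H2RedModP

set_option linter.style.haveILetI false
set_option backward.isDefEq.respectTransparency.types false
set_option backward.isDefEq.respectTransparency false

variable {A : Type u} [CommRing A]

/-- `p` is regular on a finite module for almost all primes `p`. -/
theorem exists_torsion_free [IsNoetherianRing A] (Q : Type u) [AddCommGroup Q] [Module A Q] [Module.Finite A Q] :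
    ∃ N : ℤ, N ≠ 0 ∧ ∀ p : ℕ, p.Prime → ¬ (p : ℤ) ∣ N → ∀ q : Q, (p : A) • q = 0 → q = 0 := by
  classical
  let T : Submodule A Q :=
    { carrier := {q | ∃ n : ℤ, n ≠ 0 ∧ (n : A) • q = 0}
      zero_mem' := ⟨1, one_ne_zero, smul_zero _⟩
      add_mem' := by
        rintro a b ⟨n, hn, ha⟩ ⟨m, hm, hb⟩
        refine ⟨n * m, mul_ne_zero hn hm, ?_⟩
        rw [Int.cast_mul, smul_add, mul_comm (n : A), mul_smul, ha, smul_zero, zero_add,
          mul_comm, mul_smul, hb, smul_zero]
      smul_mem' := by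
        rintro c a ⟨n, hn, ha⟩
        exact ⟨n, hn, by rw [smul_comm, ha, smul_zero]⟩ }
  obtain ⟨g, hg⟩ := (isNoetherian_of_isNoetherianRing_of_finite A Q).noetherian T
  have hmem : ∀ q ∈ g, ∃ n : ℤ, n ≠ 0 ∧ (n : A) • q = 0 := fun q hq => (hg ▸ Submodule.subset_span hq : q ∈ T)
  choose! n hn hn' using hmem
  refine ⟨∏ q ∈ g, n q, Finset.prod_ne_zero_iff.2 hn, fun p hp hpN q hq => ?_⟩
  have hqT : q ∈ Submodule.span A (g : Set Q) := hg ▸ (⟨p, by exact_mod_cast hp.ne_zero, by simpa using hq⟩ : q ∈ T)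
  have hN : ((∏ q ∈ g, n q : ℤ) : A) • q = 0 := by
    clear hq
    induction hqT using Submodule.span_induction with
    | mem a ha =>
      rw [← Finset.prod_erase_mul g n ha, Int.cast_mul, mul_smul, hn' a ha, smul_zero]
    | zero => exact smul_zero _
    | add a b _ _ ha hb => rw [smul_add, ha, hb, add_zero]
    | smul c a _ ha => rw [smul_comm, ha, smul_zero]
  obtain ⟨a, b, hab⟩ := ((Nat.prime_iff_prime_int.1 hp).coprime_iff_not_dvd.2 hpN)
  have : ((a * p + b * ∏ q ∈ g, n q : ℤ) : A) • q = q := by rw [hab, Int.cast_one, one_smul]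
  rw [← this, Int.cast_add, Int.cast_mul, Int.cast_mul, Int.cast_natCast, add_smul, mul_smul, mul_smul, hq, hN, smul_zero, smul_zero, add_zero]

theorem finite_of_exists {A : Type u} [CommRing A]
    (h : ∃ N : ℤ, N ≠ 0 ∧ ∀ p : ℕ, p.Prime → ¬ (p : ℤ) ∣ N → IsReduced (A ⧸ Ideal.span {(p : A)})) :
    {p : ℕ | p.Prime ∧ ¬ IsReduced (A ⧸ Ideal.span {(p : A)})}.Finite := by
  obtain ⟨N, hN, h⟩ := h
  refine (Set.finite_le_nat N.natAbs).subset fun p hp => ?_
  by_contra hle
  refine hp.2 (h p hp.1 fun hd => hle ?_)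
  exact Nat.le_of_dvd (Int.natAbs_pos.2 hN) (Int.natCast_dvd.1 hd)

variable [Algebra.FiniteType ℤ A]

/-- the smooth case. -/
theorem isReduced_quot_of_smooth (B : Type u) [CommRing B] [hB : Algebra ℤ B] [Algebra.Smooth ℤ B] (p : ℕ) (hp : p.Prime) :
    IsReduced (B ⧸ Ideal.span {(p : B)}) := by
  obtain rfl : hB = Ring.toIntAlgebra B := Subsingleton.elim _ _
  haveI : Fact p.Prime := ⟨hp⟩
  let F := ULift.{u} (ZMod p)
  have e : (F ⊗[ℤ] B) ≃+* B ⧸ Ideal.span {(p : B)} := by
    have hd : ∀ z : ℤ, (ULift.ringEquiv : F ≃+* ZMod p) (algebraMap ℤ F z) = (z : ZMod p) := fun z => by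
      rw [eq_intCast, map_intCast]
    have hker : RingHom.ker (algebraMap ℤ F) = Ideal.span {(p : ℤ)} := by
      ext z
      rw [RingHom.mem_ker, Ideal.mem_span_singleton, ← ZMod.intCast_zmod_eq_zero_iff_dvd, ← hd, map_eq_zero_iff _ (RingEquiv.injective _)]
    have hsurj : Function.Surjective (algebraMap ℤ F) := fun y => by
      obtain ⟨z, hz⟩ := ZMod.intCast_surjective ((ULift.ringEquiv : F ≃+* ZMod p) y)
      exact ⟨z, (ULift.ringEquiv : F ≃+* ZMod p).injective ((hd z).trans hz)⟩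
    let e1 : (ℤ ⧸ Ideal.span {(p : ℤ)}) ≃ₐ[ℤ] F :=
      AlgEquiv.ofRingEquiv (f := (Ideal.quotEquivOfEq hker.symm).trans (RingHom.quotientKerEquivOfSurjective hsurj)) fun z => by simp
    refine ((Algebra.TensorProduct.congr e1.symm AlgEquiv.refl).toRingEquiv.trans
      ((Algebra.TensorProduct.comm ℤ _ B).toRingEquiv.trans
        (Algebra.TensorProduct.quotIdealMapEquivTensorQuot B (Ideal.span {(p : ℤ)})).symm.toRingEquiv)).trans
      (Ideal.quotEquivOfEq ?_)
    rw [Ideal.map_span, Set.image_singleton, map_natCast]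
  haveI : IsReduced F := by infer_instance
  haveI := Groth.Agent.S9407.result F (F ⊗[ℤ] B)
  exact isReduced_of_injective e.symm.toRingHom e.symm.injective

/-- a finitely generated extension of `ℚ` is formally smooth over `ℤ`. -/
theorem formallySmooth_int (K : Type u) [Field K] [CharZero K] [inst : Algebra ℤ K] [Algebra.EssFiniteType ℤ K] :
    Algebra.FormallySmooth ℤ K := by
  obtain rfl : inst = Ring.toIntAlgebra K := Subsingleton.elim _ _
  haveI : Algebra.EssFiniteType ℚ K := Algebra.EssFiniteType.of_comp ℤ ℚ K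
  haveI : Algebra.FormallySmooth ℚ K := inferInstance
  haveI : Algebra.FormallySmooth ℤ ℚ := Algebra.FormallySmooth.of_isLocalization (nonZeroDivisors ℤ)
  exact Algebra.FormallySmooth.comp ℤ ℚ K

/-- the domain case. -/
theorem exists_of_isDomain [IsDomain A] :
    ∃ N : ℤ, N ≠ 0 ∧ ∀ p : ℕ, p.Prime → ¬ (p : ℤ) ∣ N → IsReduced (A ⧸ Ideal.span {(p : A)}) := by
  haveI : IsNoetherianRing A := Algebra.FiniteType.isNoetherianRing ℤ A
  by_cases hinj : Function.Injective (algebraMap ℤ A)
  · haveI : Algebra.FinitePresentation ℤ A := Algebra.FinitePresentation.of_finiteType.1 inferInstance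
    let K := FractionRing A
    haveI hz : CharZero A := charZero_of_injective_algebraMap hinj
    haveI : CharZero K := charZero_of_injective_algebraMap (by rw [IsScalarTower.algebraMap_eq ℤ A K, RingHom.coe_comp]; exact (IsFractionRing.injective A K).comp hinj)
    haveI : Algebra.EssFiniteType ℤ K := Algebra.EssFiniteType.comp ℤ A K
    haveI hK : Algebra.FormallySmooth ℤ K := formallySmooth_int K
    haveI : (⊥ : Ideal A).IsPrime := Ideal.isPrime_bot
    haveI : IsLocalization.AtPrime K (⊥ : Ideal A) := by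
      show IsLocalization (⊥ : Ideal A).primeCompl K
      convert (inferInstance : IsLocalization (nonZeroDivisors A) K) using 1
      ext x; simp [Ideal.primeCompl]
    haveI : Algebra.IsSmoothAt ℤ (⊥ : Ideal A) :=
      Algebra.FormallySmooth.of_equiv ((IsLocalization.algEquiv (⊥ : Ideal A).primeCompl K _).restrictScalars ℤ)
    obtain ⟨g, hg, hsm⟩ := Algebra.IsSmoothAt.exists_notMem_smooth ℤ (⊥ : Ideal A)
    have hg0 : g ≠ 0 := fun h => hg (h ▸ Ideal.zero_mem _)
    obtain ⟨N, hN, hNp⟩ := exists_torsion_free (A := A) (A ⧸ Ideal.span {g})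
    refine ⟨N, hN, fun p hp hpN => ?_⟩
    haveI := isReduced_quot_of_smooth (Localization.Away g) p hp
    let f : A ⧸ Ideal.span {(p : A)} →+* Localization.Away g ⧸ Ideal.span {(p : Localization.Away g)} :=
      Ideal.Quotient.lift _ ((Ideal.Quotient.mk _).comp (algebraMap A _)) fun a ha => by
        obtain ⟨c, rfl⟩ := Ideal.mem_span_singleton'.1 ha
        rw [RingHom.comp_apply, map_mul, map_natCast, Ideal.Quotient.eq_zero_iff_mem]
        exact Ideal.mul_mem_left _ _ (Ideal.mem_span_singleton_self _)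
    refine isReduced_of_injective f ?_
    rw [injective_iff_map_eq_zero]
    intro z hz
    obtain ⟨x, rfl⟩ := Ideal.Quotient.mk_surjective z
    rw [Ideal.Quotient.lift_mk, RingHom.comp_apply, Ideal.Quotient.eq_zero_iff_mem] at hz
    obtain ⟨y, hy⟩ := Ideal.mem_span_singleton'.1 hz
    obtain ⟨⟨y', ⟨_, n, rfl⟩⟩, hy'⟩ := IsLocalization.surj (Submonoid.powers g) y
    have heq : g ^ n * x = y' * p := by
      refine IsLocalization.injective (Localization.Away g) (M := Submonoid.powers g) (powers_le_nonZeroDivisors_of_noZeroDivisors hg0) ?_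
      rw [map_mul, map_mul, ← hy, ← hy', map_natCast]; ring
    have key : ∀ (n : ℕ) (x y' : A), g ^ n * x = y' * p → ∃ c, x = c * p := by
      intro n
      induction n with
      | zero => intro x y' h; exact ⟨y', by simpa using h⟩
      | succ n ih =>
        intro x y' h
        have h0 : Ideal.Quotient.mk (Ideal.span {g}) y' = 0 := by
          refine hNp p hp hpN _ ?_
          rw [Algebra.smul_def, Ideal.Quotient.algebraMap_eq, ← map_mul, Ideal.Quotient.eq_zero_iff_mem, mul_comm, ← h, pow_succ]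
          exact Ideal.mem_span_singleton'.2 ⟨g ^ n * x, by ring⟩
        obtain ⟨c, rfl⟩ := Ideal.mem_span_singleton'.1 (Ideal.Quotient.eq_zero_iff_mem.1 h0)
        exact ih x c (mul_left_cancel₀ hg0 (by linear_combination h))
    obtain ⟨c, rfl⟩ := key n x y' heq
    exact Ideal.Quotient.eq_zero_iff_mem.2 (Ideal.mem_span_singleton'.2 ⟨c, rfl⟩)
  · rw [injective_iff_map_eq_zero] at hinj
    push Not at hinj
    obtain ⟨n, hn0, hn⟩ := hinj
    refine ⟨n, hn, fun p hp hpn => ?_⟩
    obtain ⟨a, b, hab⟩ := ((Nat.prime_iff_prime_int.1 hp).coprime_iff_not_dvd.2 hpn)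
    have h1 : (1 : A) ∈ Ideal.span {(p : A)} := Ideal.mem_span_singleton'.2 ⟨(a : A), by
      have := congrArg (fun z : ℤ => (z : A)) hab
      simp only [Int.cast_add, Int.cast_mul, Int.cast_natCast, Int.cast_one] at this
      rw [show (n : A) = 0 by simpa using hn0, mul_zero, add_zero] at this
      exact this⟩
    haveI : Subsingleton (A ⧸ Ideal.span {(p : A)}) := Ideal.Quotient.subsingleton_iff.2 ((Ideal.eq_top_iff_one _).2 h1)
    exact ⟨fun x _ => Subsingleton.elim _ _⟩

/-- the general case. -/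
theorem exists_of_isReduced [IsReduced A] :
    ∃ N : ℤ, N ≠ 0 ∧ ∀ p : ℕ, p.Prime → ¬ (p : ℤ) ∣ N → IsReduced (A ⧸ Ideal.span {(p : A)}) := by
  classical
  haveI : IsNoetherianRing A := Algebra.FiniteType.isNoetherianRing ℤ A
  have hfin := minimalPrimes.finite_of_isNoetherianRing A
  let ι := hfin.toFinset
  have hι : ∀ P : ι, (P.1).IsPrime := fun P => (hfin.mem_toFinset.1 P.2).1.1
  let B := (P : ι) → A ⧸ P.1
  let e : A →ₗ[A] B := LinearMap.pi fun P => P.1.mkQ
  have he : ∀ x, e x = 0 → x = 0 := fun x hx => by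
    have h : x ∈ nilradical A := by
      rw [nilradical, ← Ideal.sInf_minimalPrimes, Submodule.mem_sInf]
      intro P hP
      exact (Submodule.Quotient.mk_eq_zero _).1 (congrFun hx ⟨P, hfin.mem_toFinset.2 hP⟩)
    simpa [nilradical_eq_zero] using h
  obtain ⟨N₀, hN₀, hN₀p⟩ := exists_torsion_free (A := A) (B ⧸ LinearMap.range e)
  have hdom : ∀ P : ι, ∃ N : ℤ, N ≠ 0 ∧ ∀ p : ℕ, p.Prime → ¬ (p : ℤ) ∣ N →
      IsReduced ((A ⧸ P.1) ⧸ Ideal.span {(p : A ⧸ P.1)}) := fun P => by
    haveI := hι P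
    haveI : Algebra.FiniteType ℤ (A ⧸ P.1) :=
      Algebra.FiniteType.of_surjective (Ideal.Quotient.mkₐ ℤ P.1) (Ideal.Quotient.mkₐ_surjective ℤ P.1)
    exact exists_of_isDomain
  choose N hN hNp using hdom
  refine ⟨N₀ * ∏ P, N P, mul_ne_zero hN₀ (Finset.prod_ne_zero_iff.2 fun P _ => hN P), fun p hp hpd => ⟨fun z hz => ?_⟩⟩
  obtain ⟨x, rfl⟩ := Ideal.Quotient.mk_surjective z
  obtain ⟨k, hk⟩ := hz
  rw [← map_pow, Ideal.Quotient.eq_zero_iff_mem] at hk
  obtain ⟨c, hc⟩ := Ideal.mem_span_singleton'.1 hk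
  have hP : ∀ P : ι, ∃ b : A ⧸ P.1, (p : A) • b = Submodule.Quotient.mk x := by
    intro P
    haveI := hNp P p hp fun hd => hpd (dvd_mul_of_dvd_right (hd.trans (Finset.dvd_prod_of_mem N (Finset.mem_univ P))) _)
    have h0 : Ideal.Quotient.mk (Ideal.span {(p : A ⧸ P.1)}) (Ideal.Quotient.mk P.1 x) = 0 := by
      refine IsNilpotent.eq_zero ⟨k, ?_⟩
      rw [← map_pow, ← map_pow, ← hc, map_mul, map_natCast, Ideal.Quotient.eq_zero_iff_mem]
      exact Ideal.mul_mem_left _ _ (Ideal.mem_span_singleton_self _)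
    obtain ⟨b, hb⟩ := Ideal.mem_span_singleton'.1 (Ideal.Quotient.eq_zero_iff_mem.1 h0)
    refine ⟨b, ?_⟩
    rw [Ideal.Quotient.mk_eq_mk, ← hb, Algebra.smul_def, map_natCast, mul_comm]
  choose b hb using hP
  have hb' : (p : A) • b = e x := funext hb
  have h1 : Submodule.Quotient.mk (p := LinearMap.range e) b = 0 := by
    refine hN₀p p hp (fun hd => hpd (dvd_mul_of_dvd_left hd _)) _ ?_
    rw [← Submodule.Quotient.mk_smul, hb', Submodule.Quotient.mk_eq_zero]
    exact LinearMap.mem_range_self _ _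
  obtain ⟨a, ha⟩ := (Submodule.Quotient.mk_eq_zero _).1 h1
  refine Ideal.Quotient.eq_zero_iff_mem.2 (Ideal.mem_span_singleton'.2 ⟨a, ?_⟩)
  refine (sub_eq_zero.1 (he _ ?_)).symm
  rw [map_sub, mul_comm, ← smul_eq_mul, map_smul, ha, hb', sub_self]

end Groth.Agent.H2RedModP
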