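import Mathlib
import Groth.Prelude.Def_Wider
import Groth.Prelude.Def_SGA2
import Groth.Agent.Lib.H2LCFinThm
import Groth.Agent.Lib.H2AdjDepthGlobal
import Groth.Agent.S11650

/-! Heights in intervals of spectra of quotients of regular rings, relative codimension. -/

universe u

open CategoryTheory Pointwise

namespace Groth.Agent.H2LCFin

open Groth.Agent.H2LC

set_option backward.isDefEq.respectTransparency.types false
set_option backward.isDefEq.respectTransparency false
set_option linter.style.haveILetI false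
set_option maxHeartbeats 400000

variable {A : Type u} [CommRing A] [IsNoetherianRing A]

omit [IsNoetherianRing A] in
theorem mem_Ici_comap {B : Type u} [CommRing B] (φ : A →+* B) {P : Ideal B} {p : PrimeSpectrum A}
    (hp : p.asIdeal = P.comap φ) {Q : PrimeSpectrum B} (hQ : Q ∈ PrimeSpectrum.zeroLocus (R := B) P) :
    PrimeSpectrum.comap φ Q ∈ Set.Ici p := by
  intro a ha
  have ha' : a ∈ P.comap φ := hp ▸ ha
  exact hQ ha'

theorem ringKrullDim_le_height_Ici (r : Ideal A) [r.IsPrime] (P : Ideal (Localization.AtPrime r)) [P.IsPrime]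
    {p : PrimeSpectrum A} (hp : p.asIdeal = P.comap (algebraMap A (Localization.AtPrime r))) (hpr : p ≤ ⟨r, inferInstance⟩) :
    ringKrullDim (Localization.AtPrime r ⧸ P) ≤ ((Order.height (⟨⟨r, inferInstance⟩, hpr⟩ : Set.Ici p) : ℕ∞) : WithBot ℕ∞) := by
  set A' := Localization.AtPrime r
  rw [ringKrullDim_quotient]
  refine iSup_le fun l => ?_
  let f : PrimeSpectrum.zeroLocus (R := A') P → Set.Ici p := fun Q =>
    ⟨PrimeSpectrum.comap (algebraMap A A') Q.1, mem_Ici_comap (algebraMap A A') hp Q.2⟩
  have hf : StrictMono f := fun Q Q' h => by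
    refine lt_of_le_of_ne (Ideal.comap_mono h.le) fun he => h.ne (Subtype.ext (PrimeSpectrum.ext ?_))
    have he' : Q.1.asIdeal.under A = Q'.1.asIdeal.under A := congrArg (fun t : Set.Ici p => t.1.asIdeal) he
    have h1 := IsLocalization.map_comap r.primeCompl A' Q.1.asIdeal
    have h2 := IsLocalization.map_comap r.primeCompl A' Q'.1.asIdeal
    exact h1.symm.trans ((congrArg (Ideal.map (algebraMap A A')) he').trans h2)
  have h : ((l.map f hf).length : ℕ∞) ≤ Order.height (⟨⟨r, inferInstance⟩, hpr⟩ : Set.Ici p) := by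
    refine Order.length_le_height ?_
    rw [LTSeries.last_map]
    show l.last.1.asIdeal.comap (algebraMap A A') ≤ r
    exact (Ideal.comap_mono (IsLocalRing.le_maximalIdeal l.last.1.2.ne_top)).trans (IsLocalization.AtPrime.comap_maximalIdeal A' r).le
  exact (WithBot.coe_le_coe.2 h)

theorem ringKrullDim_eq_height_Ici (r : Ideal A) [r.IsPrime] (P : Ideal (Localization.AtPrime r)) [P.IsPrime]
    {p : PrimeSpectrum A} (hp : p.asIdeal = P.comap (algebraMap A (Localization.AtPrime r))) (hpr : p ≤ ⟨r, inferInstance⟩)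
    {c : ℕ} (hc : ringKrullDim (Localization.AtPrime r ⧸ P) = c) :
    Order.height (⟨⟨r, inferInstance⟩, hpr⟩ : Set.Ici p) = c := by
  refine le_antisymm (height_Ici_le_ringKrullDim r P hc hp hpr) ?_
  have h := ringKrullDim_le_height_Ici r P hp hpr
  rw [hc] at h
  exact WithBot.coe_le_coe.1 h

/-- the height in `R` of the preimage. -/
noncomputable def base {R : Type u} [CommRing R] (π : R →+* A) (p : PrimeSpectrum A) : ℕ :=
  (p.asIdeal.comap π).height.toNat

/-- In a quotient of a regular ring `ht(q/p) = D q - D p`. -/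
theorem height_Ici_add {R : Type u} [CommRing R] [IsRegularRing R] (π : R →+* A) (hπ : Function.Surjective π)
    (p q : PrimeSpectrum A) (hpq : p ≤ q) :
    ∃ c : ℕ, Order.height (⟨q, hpq⟩ : Set.Ici p) = c ∧ c + base π p = base π q := by
  set r := q.asIdeal
  set A' := Localization.AtPrime r
  let S := Localization.AtPrime (r.comap π)
  haveI : IsRegularLocalRing S := IsRegularRing.isRegularLocalRing_localization _
  let g : S →+* A' := Localization.localRingHom (r.comap π) r π rfl
  letI := g.toAlgebra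
  have hg : Function.Surjective (algebraMap S A') := localRingHom_surjective π hπ r
  let P := p.asIdeal.map (algebraMap A A')
  have hdisj : Disjoint (r.primeCompl : Set A) (p.asIdeal : Set A) := Set.disjoint_left.2 fun a ha hap => ha (hpq hap)
  haveI : P.IsPrime := IsLocalization.isPrime_of_isPrime_disjoint r.primeCompl A' _ p.2 hdisj
  have hP : P.comap (algebraMap A A') = p.asIdeal := IsLocalization.under_map_of_isPrime_disjoint r.primeCompl A' p.2 hdisj
  let P' := P.comap (algebraMap S A')
  obtain ⟨h, c, d, hh, hc, hd, hhcd⟩ := H2LDual.exists_dim P'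
  have hcA : ringKrullDim (A' ⧸ P) = c := (H2LDual.ringKrullDim_quotient_comap hg P).symm.trans hc
  refine ⟨c, ringKrullDim_eq_height_Ici r P hP.symm hpq hcA, ?_⟩
  have hd' : (r.comap π).height = d := by
    have := IsLocalization.AtPrime.ringKrullDim_eq_height (r.comap π) S
    rw [hd] at this
    exact_mod_cast this.symm
  have hh' : (p.asIdeal.comap π).height = h := by
    have h1 := IsLocalization.AtPrime.ringKrullDim_eq_height P' (Localization.AtPrime P')
    rw [hh] at h1
    have h2 : P'.comap (algebraMap R S) = p.asIdeal.comap π := by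
      rw [← hP, Ideal.comap_comap, Ideal.comap_comap]
      congr 1
      exact RingHom.ext fun a => Localization.localRingHom_to_map (r.comap π) r π rfl a
    have h3 := IsLocalization.height_under (r.comap π).primeCompl (A := S) P'
    rw [show P'.under R = p.asIdeal.comap π from h2] at h3
    rw [h3]
    exact_mod_cast h1.symm
  show c + (p.asIdeal.comap π).height.toNat = (r.comap π).height.toNat
  rw [hd', hh', ENat.toNat_natCast, ENat.toNat_natCast]
  omega

theorem one_le_height_Ici {p q : PrimeSpectrum A} (h : p < q) : 1 ≤ Order.height (⟨q, h.le⟩ : Set.Ici p) := by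
  refine Order.one_le_iff_pos.2 (pos_iff_ne_zero.2 fun h0 => ?_)
  rw [Order.height_eq_zero] at h0
  exact h.not_ge (h0 (show (⟨p, le_refl p⟩ : Set.Ici p) ≤ ⟨q, h.le⟩ from h.le))

theorem height_Ici_covBy {p q : PrimeSpectrum A} (h : p ⋖ q) : Order.height (⟨q, h.le⟩ : Set.Ici p) = 1 := by
  refine le_antisymm (Order.height_le fun l hl => ?_) (one_le_height_Ici h.lt)
  by_contra hlt
  have h2 : 2 ≤ l.length := by
    by_contra h'
    exact hlt (by exact_mod_cast (show l.length ≤ 1 by omega))
  have ha : l ⟨l.length - 2, by omega⟩ < l ⟨l.length - 1, by omega⟩ := l.strictMono (by simp [Fin.lt_def]; omega)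
  have hb : l ⟨l.length - 1, by omega⟩ < l ⟨l.length, by omega⟩ := l.strictMono (by simp [Fin.lt_def]; omega)
  have hl' : (l ⟨l.length, by omega⟩).1 = q := congrArg Subtype.val hl
  refine h.2 (lt_of_le_of_lt (l ⟨l.length - 2, by omega⟩).2 (show _ < (l ⟨l.length - 1, by omega⟩).1 from ha)) ?_
  rw [← hl']
  exact hb

theorem exists_covBy_le {p q : PrimeSpectrum A} (h : p < q) : ∃ r, p ⋖ r ∧ r ≤ q := by
  have hwf : WellFounded (fun x y : PrimeSpectrum A => x < y) := Subrelation.wf (fun {x y} hxy => by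
    show x.asIdeal.height.toNat < y.asIdeal.height.toNat
    have h1 := Ideal.height_strict_mono_of_isPrime_of_isPrime (I := x.asIdeal) (J := y.asIdeal) hxy
    obtain ⟨a, ha⟩ := ENat.ne_top_iff_exists.1 (Ideal.height_ne_top x.2.ne_top)
    obtain ⟨b, hb⟩ := ENat.ne_top_iff_exists.1 (Ideal.height_ne_top y.2.ne_top)
    rw [← ha, ← hb] at h1 ⊢
    simpa using h1) (InvImage.wf (fun x : PrimeSpectrum A => x.asIdeal.height.toNat) wellFounded_lt)
  obtain ⟨r, hr, hmin⟩ := hwf.has_min {r : PrimeSpectrum A | p < r ∧ r ≤ q} ⟨q, h, le_rfl⟩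
  exact ⟨r, ⟨hr.1, fun x hx hxr => hmin x ⟨hx, hxr.le.trans hr.2⟩ hxr⟩, hr.2⟩

theorem depth_le_add_one {M : Type u} [AddCommGroup M] [Module A M] [Module.Finite A M] {p r : PrimeSpectrum A} (h : p ⋖ r) :
    LocCoh.depth (Localization.AtPrime r.asIdeal) (LocalizedModule r.asIdeal.primeCompl M) ≤
      LocCoh.depth (Localization.AtPrime p.asIdeal) (LocalizedModule p.asIdeal.primeCompl M) + 1 := by
  refine (Groth.Agent.S11650.result A M p.asIdeal r.asIdeal h.le).trans (add_le_add le_rfl ?_)
  set mk := Ideal.Quotient.mk p.asIdeal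
  haveI : (r.asIdeal.map mk).IsPrime := Ideal.map_isPrime_of_surjective Ideal.Quotient.mk_surjective (by rw [Ideal.mk_ker]; exact h.le)
  rw [show (1 : ℕ∞) = ((1 : ℕ) : ℕ∞) from rfl, Ideal.height_le_iff]
  intro Q hQ hQr
  haveI := hQ
  have hQ0 : Q = ⊥ := by
    have h1 : p.asIdeal ≤ Q.comap mk := fun a ha => by
      show mk a ∈ Q; rw [Ideal.Quotient.eq_zero_iff_mem.2 ha]; exact Q.zero_mem
    have h2 : Q.comap mk < r.asIdeal := by
      have h3 : (r.asIdeal.map mk).comap mk = r.asIdeal := by
        rw [Ideal.comap_map_of_surjective _ Ideal.Quotient.mk_surjective, ← RingHom.ker_eq_comap_bot, Ideal.mk_ker]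
        exact sup_eq_left.2 h.le
      rw [← h3]
      refine lt_of_le_of_ne (Ideal.comap_mono hQr.le) fun he => hQr.ne ?_
      rw [← Ideal.map_comap_of_surjective mk Ideal.Quotient.mk_surjective Q, he, Ideal.map_comap_of_surjective mk Ideal.Quotient.mk_surjective]
    rcases h1.lt_or_eq with hlt | heq
    · exact absurd h2 (h.2 (show p < (⟨Q.comap mk, inferInstance⟩ : PrimeSpectrum A) from hlt))
    · rw [← Ideal.map_comap_of_surjective _ Ideal.Quotient.mk_surjective Q, ← heq, Ideal.map_quotient_self]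
  rw [hQ0, Ideal.height_bot]
  norm_num

/-- the codimension one form of the hypothesis suffices. -/
theorem hyp_of_covBy {I : Ideal A} {M : Type u} [AddCommGroup M] [Module A M] [Module.Finite A M] {n : ℕ}
    (h : ∀ p q : PrimeSpectrum A, ¬ I ≤ p.asIdeal → I ≤ q.asIdeal → p ⋖ q →
      (n : ℕ∞) ≤ LocCoh.depth (Localization.AtPrime p.asIdeal) (LocalizedModule p.asIdeal.primeCompl M)) :
    Hyp I M n := by
  intro p
  haveI : WellFoundedGT (PrimeSpectrum A) := ⟨(InvImage.wf PrimeSpectrum.asIdeal (wellFounded_gt (α := Ideal A))).mono fun _ _ h => h⟩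
  induction p using WellFoundedGT.induction with
  | _ p ih =>
    intro q hp hq hpq
    have hlt : p < q := lt_of_le_of_ne hpq fun he => hp (he ▸ hq)
    obtain ⟨r, hr, hrq⟩ := exists_covBy_le hlt
    have hinc : Order.height (⟨q, hrq⟩ : Set.Ici r) + 1 ≤ Order.height (⟨q, hpq⟩ : Set.Ici p) := by
      cases hq' : Order.height (⟨q, hpq⟩ : Set.Ici p) using ENat.recTopCoe with
      | top => exact le_top
      | coe c =>
        have hc1 : 1 ≤ c := by
          have := one_le_height_Ici hlt
          rw [hq'] at this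
          exact_mod_cast this
        refine le_trans (add_le_add (Order.height_le (n := ((c - 1 : ℕ) : ℕ∞)) fun l hl => ?_) le_rfl) ?_
        · let f : Set.Ici r → Set.Ici p := fun x => ⟨x.1, hr.le.trans x.2⟩
          have hf : StrictMono f := fun a b hab => hab
          have h1 : (((l.map f hf).cons (⟨p, le_refl p⟩ : Set.Ici p) (by
              show p < (l.map f hf).head.1
              exact lt_of_lt_of_le hr.lt (by rw [LTSeries.head_map]; exact l.head.2))).length : ℕ∞) ≤
              Order.height (⟨q, hpq⟩ : Set.Ici p) := Order.length_le_height (by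
            rw [RelSeries.last_cons, LTSeries.last_map, hl])
          rw [RelSeries.cons_length, hq'] at h1
          have : (l.map f hf).length = l.length := rfl
          rw [this, Nat.cast_le] at h1
          exact Nat.cast_le.2 (by omega)
        · exact_mod_cast (show c - 1 + 1 ≤ c by omega)
    by_cases hIr : I ≤ r.asIdeal
    · have h1 := h p r hp hIr hr
      calc (n : ℕ∞) < n + 1 := by exact_mod_cast Nat.lt_succ_self n
        _ ≤ _ := add_le_add h1 (one_le_height_Ici hlt)
    · refine lt_of_lt_of_le (ih r hr.lt q hIr hq hrq) ?_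
      refine le_trans (add_le_add (depth_le_add_one hr) le_rfl) ?_
      rw [add_assoc, add_comm 1]
      exact add_le_add le_rfl hinc

/-- finiteness forces the depth bound in codimension one. -/
theorem le_depth_of_finite {I : Ideal A} {M : Type u} [AddCommGroup M] [Module A M] [Module.Finite A M] {n : ℕ}
    (hf : ∀ i : ℕ, i ≤ n → Module.Finite A (LocCoh.H I i M)) {p q : PrimeSpectrum A} (hp : ¬ I ≤ p.asIdeal)
    (hq : I ≤ q.asIdeal) (h : p ⋖ q) :
    (n : ℕ∞) ≤ LocCoh.depth (Localization.AtPrime p.asIdeal) (LocalizedModule p.asIdeal.primeCompl M) := by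
  rcases n with _ | n
  · exact zero_le
  set A' := Localization.AtPrime q.asIdeal
  have hdisj : Disjoint (q.asIdeal.primeCompl : Set A) (p.asIdeal : Set A) := Set.disjoint_left.2 fun a ha hap => ha (h.le hap)
  haveI : (p.asIdeal.map (algebraMap A A')).IsPrime := IsLocalization.isPrime_of_isPrime_disjoint q.asIdeal.primeCompl A' _ p.2 hdisj
  have hP := IsLocalization.under_map_of_isPrime_disjoint q.asIdeal.primeCompl A' p.2 hdisj
  have hle := ringKrullDim_le_height_Ici q.asIdeal (p.asIdeal.map (algebraMap A A')) hP.symm h.le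
  rw [height_Ici_covBy h] at hle
  have hdim : ringKrullDim (A' ⧸ p.asIdeal.map (algebraMap A A')) = ((1 : ℕ) : WithBot ℕ∞) := by
    refine le_antisymm hle ?_
    haveI : IsDomain (A' ⧸ p.asIdeal.map (algebraMap A A')) := Ideal.Quotient.isDomain _
    by_contra hlt
    haveI : Ring.KrullDimLE 0 (A' ⧸ p.asIdeal.map (algebraMap A A')) := Ring.krullDimLE_iff.2 (by
      rcases hd : ringKrullDim (A' ⧸ p.asIdeal.map (algebraMap A A')) with _ | d
      · exact bot_le
      · rw [hd] at hle hlt
        obtain ⟨d', rfl⟩ := ENat.ne_top_iff_exists.1 (ne_top_of_le_ne_top (ENat.coe_ne_top 1) (WithBot.coe_le_coe.1 hle))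
        have h2 : d' ≤ 1 := by exact_mod_cast WithBot.coe_le_coe.1 hle
        rcases Nat.eq_zero_or_pos d' with h0 | h0
        · subst h0; exact le_rfl
        · exact absurd (WithBot.coe_le_coe.2 (by exact_mod_cast h0)) hlt)
    have hmax := Ideal.Quotient.maximal_of_isField _ (Ring.KrullDimLE.isField_of_isDomain (R := A' ⧸ p.asIdeal.map (algebraMap A A')))
    have heq := IsLocalRing.eq_maximalIdeal hmax
    apply h.lt.ne
    refine PrimeSpectrum.ext ?_
    rw [← hP, heq]
    exact IsLocalization.AtPrime.comap_maximalIdeal A' q.asIdeal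
  refine exists_not_killed (b := I) (a := I) hp ?_ hdim fun i hi => ?_
  · refine ⟨⟨q.2, sup_le hq h.le⟩, fun y hy hyq => ?_⟩
    rcases eq_or_lt_of_le (show p ≤ (⟨y, hy.1⟩ : PrimeSpectrum A) from le_sup_right.trans hy.2) with he | hlt
    · exact absurd ((le_sup_left.trans hy.2).trans (congrArg PrimeSpectrum.asIdeal he).ge) hp
    · rcases eq_or_lt_of_le (show (⟨y, hy.1⟩ : PrimeSpectrum A) ≤ q from hyq) with he' | hlt'
      · exact (congrArg PrimeSpectrum.asIdeal he').ge
      · exact absurd hlt' (h.2 hlt)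
  · haveI := hf i hi
    obtain ⟨k, hk⟩ := killedPow_of_finite (I := I) (M := M) (j := i)
    intro a ha
    exact ⟨k, Module.mem_annihilator.2 (hk _ (Ideal.pow_mem_pow ha k))⟩

theorem relCodim_le {I : Ideal A} {p q : PrimeSpectrum A} (hpq : p ≤ q) (hq : I ≤ q.asIdeal) :
    SGA2.relCodim I p ≤ Order.height (⟨q, hpq⟩ : Set.Ici p) :=
  iInf_le_of_le ⟨q, hpq, hq⟩ le_rfl

theorem lt_relCodim_add {I : Ideal A} {p : PrimeSpectrum A} {n : ℕ} {D : ℕ∞}
    (h : ∀ q : PrimeSpectrum A, I ≤ q.asIdeal → ∀ hpq : p ≤ q, (n : ℕ∞) < D + Order.height (⟨q, hpq⟩ : Set.Ici p)) :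
    (n : ℕ∞) < D + SGA2.relCodim I p := by
  rcases isEmpty_or_nonempty {q : PrimeSpectrum A // p ≤ q ∧ I ≤ q.asIdeal} with he | hne
  · rw [SGA2.relCodim, iInf_of_empty, add_top]; exact ENat.coe_lt_top n
  · obtain ⟨q, hq⟩ := ciInf_mem fun q : {q : PrimeSpectrum A // p ≤ q ∧ I ≤ q.asIdeal} => Order.height (⟨q.1, q.2.1⟩ : Set.Ici p)
    have h2 : Order.height (⟨q.1, q.2.1⟩ : Set.Ici p) = SGA2.relCodim I p := hq
    rw [← h2]
    exact h q.1 q.2.2 q.2.1

theorem relCodim_eq_one {I : Ideal A} {p q : PrimeSpectrum A} (hp : ¬ I ≤ p.asIdeal) (hq : I ≤ q.asIdeal) (h : p ⋖ q) :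
    SGA2.relCodim I p = 1 := by
  refine le_antisymm ((relCodim_le h.le hq).trans (height_Ici_covBy h).le) (le_iInf fun x => ?_)
  exact one_le_height_Ici (lt_of_le_of_ne x.2.1 fun he => hp (he ▸ x.2.2))

end Groth.Agent.H2LCFin
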