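import Mathlib
import Groth.Prelude.Def_Wider
import Groth.Prelude.Def_CAlg
import Groth.Prelude.Def_SGA2
import Groth.Agent.Lib.H2RelCodim
import Groth.Agent.Lib.UnivCatenary

/-! Vanishing along specialisations. -/

universe u

open CategoryTheory Pointwise

namespace Groth.Agent.H2LCFin

open Groth.Agent.H2LC

set_option backward.isDefEq.respectTransparency.types false
set_option backward.isDefEq.respectTransparency false
set_option linter.style.haveILetI false

variable {A : Type u} [CommRing A] [IsNoetherianRing A]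

theorem ringKrullDim_map_eq {p q : PrimeSpectrum A} (hpq : p ≤ q) [hP : (p.asIdeal.map (algebraMap A (Localization.AtPrime q.asIdeal))).IsPrime]
    {c : ℕ} (hc : Order.height (⟨q, hpq⟩ : Set.Ici p) = c) :
    ringKrullDim (Localization.AtPrime q.asIdeal ⧸ p.asIdeal.map (algebraMap A (Localization.AtPrime q.asIdeal))) = c := by
  have hdisj : Disjoint (q.asIdeal.primeCompl : Set A) (p.asIdeal : Set A) := Set.disjoint_left.2 fun a ha hap => ha (hpq hap)
  have hback := IsLocalization.under_map_of_isPrime_disjoint q.asIdeal.primeCompl (Localization.AtPrime q.asIdeal) p.2 hdisj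
  have h1 := ringKrullDim_le_height_Ici q.asIdeal _ hback.symm hpq
  rw [hc] at h1
  haveI : Nontrivial (Localization.AtPrime q.asIdeal ⧸ p.asIdeal.map (algebraMap A (Localization.AtPrime q.asIdeal))) :=
    Ideal.Quotient.nontrivial_iff.2 hP.ne_top
  obtain ⟨d, hd⟩ := WithBot.ne_bot_iff_exists.1 (ne_bot_of_le_ne_bot (by simp) (ringKrullDim_nonneg_of_nontrivial (R := Localization.AtPrime q.asIdeal ⧸ p.asIdeal.map (algebraMap A (Localization.AtPrime q.asIdeal)))))
  rw [← hd] at h1 ⊢
  obtain ⟨d', rfl⟩ := ENat.ne_top_iff_exists.1 (ne_top_of_le_ne_top (ENat.coe_ne_top c) (WithBot.coe_le_coe.1 h1))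
  have h2 := height_Ici_le_ringKrullDim q.asIdeal _ hd.symm hback.symm hpq
  rw [hc, Nat.cast_le] at h2
  have h3 : d' ≤ c := by exact_mod_cast WithBot.coe_le_coe.1 h1
  rw [le_antisymm h3 h2]
  rfl

theorem isPrime_map_local {p q : PrimeSpectrum A} (hpq : p ≤ q) :
    (p.asIdeal.map (algebraMap A (Localization.AtPrime q.asIdeal))).IsPrime :=
  IsLocalization.isPrime_of_isPrime_disjoint q.asIdeal.primeCompl _ _ p.2 (Set.disjoint_left.2 fun a ha hap => ha (hpq hap))

/-- vanishing of `H^{j + ht(q/p)}` at `q` implies vanishing of `H^j` at a generization `p`. -/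
theorem subsingleton_of_specializes {R : Type u} [CommRing R] [IsRegularRing R] (π : R →+* A) (hπ : Function.Surjective π)
    {M : Type u} [AddCommGroup M] [Module A M] [Module.Finite A M] {p q : PrimeSpectrum A} (hlt : p < q) {c : ℕ}
    (hc : Order.height (⟨q, hlt.le⟩ : Set.Ici p) = c) {j : ℕ}
    (h : Subsingleton (LocCoh.H (IsLocalRing.maximalIdeal (Localization.AtPrime q.asIdeal)) (j + c) (LocalizedModule q.asIdeal.primeCompl M))) :
    Subsingleton (LocCoh.H (IsLocalRing.maximalIdeal (Localization.AtPrime p.asIdeal)) j (LocalizedModule p.asIdeal.primeCompl M)) := by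
  haveI : IsRegularLocalRing (Localization.AtPrime (q.asIdeal.comap π)) := IsRegularRing.isRegularLocalRing_localization _
  haveI := isPrime_map_local hlt.le
  have h1 := H2LDual.subsingleton_of_kills_quot (Localization.localRingHom (q.asIdeal.comap π) q.asIdeal π rfl)
    (localRingHom_surjective π hπ q.asIdeal) (M := LocalizedModule q.asIdeal.primeCompl M) 1 (j + c)
    (fun y => @Subsingleton.elim _ h _ _) (p.asIdeal.map (algebraMap A _))
    (fun h1 => (isPrime_map_local hlt.le).ne_top ((Ideal.eq_top_iff_one _).2 h1)) j c (ringKrullDim_map_eq hlt.le hc) rfl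
  rw [subsingleton_localize_localize] at h1
  have hback := IsLocalization.under_map_of_isPrime_disjoint q.asIdeal.primeCompl (Localization.AtPrime q.asIdeal) p.2
    (Set.disjoint_left.2 fun a ha hap => ha (hlt.le hap))
  have aux : ∀ (P : Ideal A) [P.IsPrime], P = p.asIdeal →
      Subsingleton (LocCoh.H (IsLocalRing.maximalIdeal (Localization.AtPrime P)) j (LocalizedModule P.primeCompl M)) →
      Subsingleton (LocCoh.H (IsLocalRing.maximalIdeal (Localization.AtPrime p.asIdeal)) j (LocalizedModule p.asIdeal.primeCompl M)) := by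
    rintro P _ rfl; exact id
  exact aux _ hback h1

omit [IsNoetherianRing A] in
theorem exists_covBy_ge [IsNoetherianRing A] {p q : PrimeSpectrum A} (h : p < q) : ∃ r, p ≤ r ∧ r ⋖ q := by
  have hwf : WellFounded (fun x y : PrimeSpectrum A => x > y) :=
    Subrelation.wf (fun {_ _} h => h) (InvImage.wf PrimeSpectrum.asIdeal (wellFounded_gt (α := Ideal A)))
  obtain ⟨r, hr, hmax⟩ := hwf.has_min {r : PrimeSpectrum A | p ≤ r ∧ r < q} ⟨p, le_rfl, h⟩
  exact ⟨r, hr.1, hr.2, fun x hx hxq => hmax x ⟨hr.1.trans hx.le, hxq⟩ hx⟩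

theorem depth_eq_zero_of_minimal {M : Type u} [AddCommGroup M] [Module A M] [Module.Finite A M] (p : PrimeSpectrum A)
    (hp : p.asIdeal ∈ (Module.annihilator A M).minimalPrimes) :
    LocCoh.depth (Localization.AtPrime p.asIdeal) (LocalizedModule p.asIdeal.primeCompl M) = 0 := by
  have h := H2DepthLocal.depth_eq_length_of_ass (M := M) (rs := []) (p := p.asIdeal)
    (RingTheory.Sequence.IsWeaklyRegular.nil A M) ?_ (by simp)
  · simpa using h
  have he : (Ideal.ofList ([] : List A) • ⊤ : Submodule A M) = ⊥ := by rw [Ideal.ofList_nil, Submodule.bot_smul]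
  rw [LinearEquiv.AssociatedPrimes.eq (Submodule.quotEquivOfEqBot _ he)]
  exact Module.associatedPrimes.minimalPrimes_annihilator_subset_associatedPrimes A M hp

theorem height_le_supportDim {M : Type u} [AddCommGroup M] [Module A M] [Module.Finite A M] {p₀ p : PrimeSpectrum A}
    (h0 : p₀ ∈ Module.support A M) (hle : p₀ ≤ p) {c : ℕ} (hc : Order.height (⟨p, hle⟩ : Set.Ici p₀) = c) :
    (c : WithBot ℕ∞) ≤ Module.supportDim (Localization.AtPrime p.asIdeal) (LocalizedModule p.asIdeal.primeCompl M) := by
  haveI := isPrime_map_local hle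
  haveI : Module.Finite (Localization.AtPrime p.asIdeal) (LocalizedModule p.asIdeal.primeCompl M) := inferInstance
  refine (ringKrullDim_map_eq hle hc).ge.trans (H2DepthMore.dim_le_supportDim_of_mem_support
    (p := ⟨p₀.asIdeal.map (algebraMap A _), inferInstance⟩) ?_)
  rw [UnivCatenary.mem_support_localized]
  have hback := IsLocalization.under_map_of_isPrime_disjoint p.asIdeal.primeCompl (Localization.AtPrime p.asIdeal) p₀.2
    (Set.disjoint_left.2 fun a ha hap => ha (hle hap))
  convert h0 using 1
  exact PrimeSpectrum.ext hback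

end Groth.Agent.H2LCFin
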