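import Mathlib
import Groth.Prelude.Def_MoreMor
set_option autoImplicit false

/-! Topological properties of morphisms are insensitive to thickenings. -/
namespace Groth.Agent.H2Thick
open AlgebraicGeometry CategoryTheory Limits MorphismProperty Topology
universe u
set_option backward.isDefEq.respectTransparency.types false

variable {X X' S S' : Scheme.{u}}

theorem of_comp_mono (P : MorphismProperty Scheme.{u}) [P.IsStableUnderBaseChange] (f : X ⟶ S) (i : S ⟶ S') [Mono i]
    (h : P (f ≫ i)) : P f :=
  P.of_isPullback (IsPullback.of_horiz_isIso_mono (fst := 𝟙 X) (snd := f) (f := f ≫ i) (g := i) ⟨by simp⟩) h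

theorem universallyOpen_of_isThickening (i : X ⟶ X') [IsClosedImmersion i] [Surjective i] : UniversallyOpen i := by
  constructor
  intro T T' a b i' H
  haveI : IsClosedImmersion i' := MorphismProperty.of_isPullback (P := @IsClosedImmersion) H.flip ‹_›
  haveI : Surjective i' := MorphismProperty.of_isPullback (P := @Surjective) H.flip ‹_›
  have hh : IsHomeomorph i' := isHomeomorph_iff_isEmbedding_surjective.2 ⟨(Scheme.Hom.isClosedEmbedding i').isEmbedding, i'.surjective⟩
  exact hh.isOpenMap

theorem quasiCompact_cancel (i : X ⟶ X') [Surjective i] (g : X' ⟶ S) [QuasiCompact (i ≫ g)] : QuasiCompact g := by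
  refine (quasiCompact_iff _).2 fun U hU hc => ?_
  have h := ((quasiCompact_iff (i ≫ g)).1 inferInstance U hU hc).image i.continuous
  rwa [Scheme.Hom.comp_base, TopCat.coe_comp, Set.preimage_comp, Set.image_preimage_eq _ i.surjective] at h

theorem universallyOpen_cancel (i : X ⟶ X') [Surjective i] (g : X' ⟶ S) [UniversallyOpen (i ≫ g)] : UniversallyOpen g := by
  constructor
  intro T T' a b g' H
  have := UniversallyOpen.universally_isOpenMap (f := i ≫ g) _ _ _ ((IsPullback.of_hasPullback a i).paste_horiz H)
  intro V hV
  have hs := (MorphismProperty.pullback_fst (P := @Surjective) a i ‹_›).1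
  have h2 := this _ (hV.preimage (pullback.fst a i).continuous)
  rw [Scheme.Hom.comp_base, TopCat.coe_comp, Set.image_comp, Set.image_preimage_eq _ hs] at h2
  exact h2

theorem universallyInjective_cancel (i : X ⟶ X') [Surjective i] (g : X' ⟶ S) [UniversallyInjective (i ≫ g)] : UniversallyInjective g := by
  constructor
  intro T T' a b g' H
  have hinj := UniversallyInjective.universally_injective (f := i ≫ g) _ _ _ ((IsPullback.of_hasPullback a i).paste_horiz H)
  have hs := (MorphismProperty.pullback_fst (P := @Surjective) a i ‹_›).1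
  intro x y hxy
  obtain ⟨x', rfl⟩ := hs x
  obtain ⟨y', rfl⟩ := hs y
  exact congrArg _ (hinj (by simpa using hxy))

theorem quasiSeparated_cancel (i : X ⟶ X') [IsClosedImmersion i] [Surjective i] (g : X' ⟶ S) [QuasiSeparated (i ≫ g)] : QuasiSeparated g := by
  have hh : IsHomeomorph i := isHomeomorph_iff_isEmbedding_surjective.2 ⟨(Scheme.Hom.isClosedEmbedding i).isEmbedding, i.surjective⟩
  refine IsZariskiLocalAtTarget.of_iSup_eq_top (P := @QuasiSeparated) (fun U : S.affineOpens => U.1) (iSup_affineOpens_eq_top S) fun U => ?_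
  haveI : IsAffine U.1 := U.2
  rw [quasiSeparated_iff_quasiSeparatedSpace]
  refine (isQuasiSeparated_iff_quasiSeparatedSpace _ (g ⁻¹ᵁ U.1).2).1 ?_
  have h1 := Scheme.Hom.isQuasiSeparated_preimage (i ≫ g) U.2.isQuasiSeparated
  rw [hh.isOpenEmbedding.isQuasiSeparated_iff] at h1
  convert h1
  exact (Set.image_preimage_eq _ i.surjective).symm

end Groth.Agent.H2Thick
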