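import Mathlib
set_option autoImplicit false

/-! Balancing injectivity after tensoring for two presentations. -/
namespace Groth.Agent.H2TorBalance
universe u
open TensorProduct LinearMap

theorem bal {R : Type u} [CommRing R] {L B N K F M : Type u} [AddCommGroup L] [Module R L] [AddCommGroup B] [Module R B]
    [AddCommGroup N] [Module R N] [AddCommGroup K] [Module R K] [AddCommGroup F] [Module R F] [AddCommGroup M] [Module R M]
    (f : L →ₗ[R] B) (g : B →ₗ[R] N) (hfg : Function.Exact f g) (hg : Function.Surjective g)
    (i : K →ₗ[R] F) (p : F →ₗ[R] M) (hip : Function.Exact i p) (hp : Function.Surjective p)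
    (h1 : Function.Injective (f.rTensor F)) (h2 : Function.Injective (i.lTensor N)) :
    Function.Injective (f.rTensor M) := by
  rw [injective_iff_map_eq_zero]
  intro x hx
  obtain ⟨y, rfl⟩ := lTensor_surjective L hp x
  have hc : (p.lTensor B) ((f.rTensor F) y) = 0 := by
    rw [← LinearMap.comp_apply, lTensor_comp_rTensor, ← rTensor_comp_lTensor, LinearMap.comp_apply, hx]
  obtain ⟨z, hz⟩ := (lTensor_exact B hip hp _).mp hc
  have hz0 : g.rTensor K z = 0 := by
    refine h2 ?_
    rw [← LinearMap.comp_apply, lTensor_comp_rTensor, ← rTensor_comp_lTensor, LinearMap.comp_apply, hz, map_zero,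
      ← LinearMap.comp_apply, ← rTensor_comp, hfg.linearMap_comp_eq_zero, rTensor_zero, LinearMap.zero_apply]
  obtain ⟨w, hw⟩ := (rTensor_exact K hfg hg _).mp hz0
  have : y = i.lTensor L w := h1 (by
    rw [← hz, ← hw, ← LinearMap.comp_apply, lTensor_comp_rTensor, ← rTensor_comp_lTensor, LinearMap.comp_apply])
  rw [this, ← LinearMap.comp_apply, ← lTensor_comp, hip.linearMap_comp_eq_zero, lTensor_zero, LinearMap.zero_apply]

end Groth.Agent.H2TorBalance
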