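import Groth.Agent.Lib.H5FCxRank

universe u

namespace Groth.Agent.H5FCxMore
open CategoryTheory Limits TensorProduct LinearMap IsLocalRing Groth.Agent.H5FCx Groth.Agent.H5FCxApps Groth.Agent.H5DRank

noncomputable section

variable {A : Type u} [CommRing A] (P : ChainComplex (ModuleCat.{u} A) ℤ)

/-- kernel of a truncation map: enough injectivity for large `n` -/
theorem maximalIdeal_injective_of_quotients [IsLocalRing A] [IsNoetherianRing A] (X : Type u) [AddCommGroup X] [Module A X]
    [Module.Finite A X] (n₀ : ℕ)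
    (h : ∀ n, n₀ ≤ n → Function.Injective
      ((Submodule.map (Submodule.mkQ ((maximalIdeal A) ^ (n + 1) : Ideal A)) (maximalIdeal A)).subtype.lTensor X)) :
    Function.Injective ((maximalIdeal A).subtype.lTensor X) := by
  rw [← ker_eq_bot, eq_bot_iff]
  intro x hx
  have : Module.Finite A (maximalIdeal A) := Module.Finite.iff_fg.2 (IsNoetherian.noetherian _)
  have key : x ∈ (⨅ n : ℕ, (maximalIdeal A) ^ n • (⊤ : Submodule A (X ⊗[A] maximalIdeal A))) := by
    rw [Submodule.mem_iInf]
    intro n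
    have hle : (maximalIdeal A) ^ (max n n₀) • (⊤ : Submodule A (X ⊗[A] maximalIdeal A)) ≤
        (maximalIdeal A) ^ n • ⊤ := Submodule.smul_mono_left (Ideal.pow_le_pow_right (le_max_left n n₀))
    refine hle ?_
    let N := max n n₀
    let J : Ideal A := (maximalIdeal A) ^ (N + 1)
    let ρ : maximalIdeal A →ₗ[A] Submodule.map J.mkQ (maximalIdeal A) :=
      (J.mkQ ∘ₗ (maximalIdeal A).subtype).codRestrict _ fun a => ⟨a, a.2, rfl⟩
    have hρ : Function.Surjective ρ := fun ⟨y, a, ha, hy⟩ => ⟨⟨a, ha⟩, Subtype.ext hy⟩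
    have h0 : ρ.lTensor X x = 0 := h N (le_max_right n n₀) (by
      rw [map_zero, ← LinearMap.comp_apply, ← lTensor_comp]
      have : (Submodule.map J.mkQ (maximalIdeal A)).subtype ∘ₗ ρ = J.mkQ ∘ₗ (maximalIdeal A).subtype := LinearMap.ext fun _ => rfl
      rw [this, lTensor_comp, LinearMap.comp_apply, mem_ker.1 hx, map_zero])
    obtain ⟨w, rfl⟩ := (lTensor_exact X (exact_subtype_ker_map ρ) hρ x).1 h0
    clear hx h0
    induction w with
    | zero => simp
    | tmul y a =>
      have ha : (a : maximalIdeal A) ∈ (maximalIdeal A) ^ N • (⊤ : Submodule A (maximalIdeal A)) := by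
        rw [Submodule.mem_smul_top_iff]
        have h1 : ((a : maximalIdeal A) : A) ∈ J :=
          (Submodule.Quotient.mk_eq_zero J).1 (congrArg Subtype.val (mem_ker.1 a.2))
        simpa [J, pow_succ] using h1
      have h2 : Submodule.map (TensorProduct.mk A X (maximalIdeal A) y)
          ((maximalIdeal A) ^ N • (⊤ : Submodule A (maximalIdeal A))) ≤ (maximalIdeal A) ^ N • ⊤ := by
        rw [Submodule.map_smul'']
        exact Submodule.smul_mono le_rfl le_top
      exact h2 ⟨_, ha, rfl⟩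
    | add u v hu hv => rw [map_add]; exact add_mem hu hv
  rwa [Ideal.iInf_pow_smul_eq_bot_of_isLocalRing _ (IsLocalRing.maximalIdeal.isMaximal A).ne_top] at key

theorem epi_iff_truncations [IsLocalRing A] [IsNoetherianRing A]
    (hP : ∀ i, Module.Finite A (P.X i) ∧ Module.Flat A (P.X i)) (p : ℤ) :
    ((CohIII.TFun P p).PreservesEpimorphisms ↔
      Function.Surjective ((CohIII.TFun P p).map
        (ModuleCat.ofHom (Algebra.linearMap A (IsLocalRing.ResidueField A)))).hom) ∧
    ((CohIII.TFun P p).PreservesEpimorphisms ↔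
      ∃ n₀ : ℕ, ∀ n : ℕ, n₀ ≤ n → Function.Surjective ((CohIII.TFun P p).map (ModuleCat.ofHom
        (Ideal.Quotient.factorₐ A (Ideal.pow_le_self (I := IsLocalRing.maximalIdeal A)
          (Nat.succ_ne_zero n))).toLinearMap :
        ModuleCat.of A (A ⧸ IsLocalRing.maximalIdeal A ^ (n + 1)) ⟶
          ModuleCat.of A (A ⧸ IsLocalRing.maximalIdeal A))).hom) := by
  refine ⟨epi_iff_surjective_res P hP p, ⟨fun h => ⟨0, fun n _ => ?_⟩, ?_⟩⟩
  · have : Epi (ModuleCat.ofHom
        (Ideal.Quotient.factorₐ A (Ideal.pow_le_self (I := IsLocalRing.maximalIdeal A) (Nat.succ_ne_zero n))).toLinearMap :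
          ModuleCat.of A (A ⧸ IsLocalRing.maximalIdeal A ^ (n + 1)) ⟶ ModuleCat.of A (A ⧸ IsLocalRing.maximalIdeal A)) :=
      (ModuleCat.epi_iff_surjective _).2 (Ideal.Quotient.factor_surjective (Ideal.pow_le_self (I := maximalIdeal A) (Nat.succ_ne_zero n)))
    exact (ModuleCat.epi_iff_surjective _).1 ((CohIII.TFun P p).map_epi _)
  · rintro ⟨n₀, hn⟩
    have := (hP (p - 1)).1; have := (hP (p - 1)).2
    rw [epi_iff P (fun i => (hP i).2) (sub_add_cancel p 1)]
    refine flat_of_fg (maximalIdeal_injective_of_quotients (Cok P p (p - 1)) n₀ fun n hn' => ?_)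
    refine (tfun_surjective_iff_injective P
      (ModuleCat.ofHom (Submodule.map (Submodule.mkQ ((maximalIdeal A) ^ (n + 1) : Ideal A)) (maximalIdeal A)).subtype)
      _ Subtype.val_injective (LinearMap.exact_iff.2 ?_) (Ideal.Quotient.factor_surjective (Ideal.pow_le_self (I := maximalIdeal A) (Nat.succ_ne_zero n)))
      (p + 1) p (p - 1) (prv rfl) (nxt (sub_add_cancel p 1))).1 (hn n hn')
    rw [ModuleCat.hom_ofHom, ModuleCat.hom_ofHom, Submodule.range_subtype]
    ext y
    obtain ⟨a, rfl⟩ := Submodule.mkQ_surjective _ y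
    constructor
    · intro ha
      exact ⟨a, Ideal.Quotient.eq_zero_iff_mem.1 ha, rfl⟩
    · rintro ⟨b, hb, hba⟩
      rw [← hba]
      exact Ideal.Quotient.eq_zero_iff_mem.2 hb

/-! ### Dedekind domains -/

open Submodule in
theorem flat_cok_iff_flat_homology [IsDedekindDomain A] (r p q : ℤ) (hr : (ComplexShape.down ℤ).prev p = r)
    (hq : (ComplexShape.down ℤ).next p = q) [Module.Flat A (P.X q)] :
    Module.Flat A (Cok P r p) ↔ Module.Flat A (P.homology p) := by
  have e : P.homology p ≃ₗ[A] Hm P r p q := by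
    refine LinearEquiv.symm ?_
    refine LinearEquiv.ofBijective ((bd P r p q).liftQ (clHom P p q hq).hom ?_) ⟨?_, ?_⟩
    · intro z hz; exact (cl_zero_iff P r p q hr hq z).2 (Submodule.mem_comap.1 hz)
    · rw [← ker_eq_bot, eq_bot_iff]
      intro x hx
      obtain ⟨z, rfl⟩ := Submodule.mkQ_surjective _ x
      exact (Submodule.Quotient.mk_eq_zero _).2 ((cl_zero_iff P r p q hr hq z).1 hx)
    · intro y
      obtain ⟨z, rfl⟩ := cl_surjective P p q hq y
      exact ⟨Submodule.Quotient.mk z, rfl⟩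
  rw [Module.Flat.equiv_iff e, IsDedekindDomain.flat_iff_torsion_eq_bot, IsDedekindDomain.flat_iff_torsion_eq_bot]
  have ht : Submodule.torsion A (P.X q) = ⊥ := Module.Flat.torsion_eq_bot
  constructor
  · intro h
    rw [eq_bot_iff]
    rintro x ⟨a, ha⟩
    obtain ⟨x, rfl⟩ := Submodule.mkQ_surjective _ x
    have hmem : (a : A) • (x : P.X p) ∈ range (P.d r p).hom := (Submodule.Quotient.mk_eq_zero (bd P r p q)).1 ha
    have : (Submodule.Quotient.mk (x : P.X p) : Cok P r p) ∈ Submodule.torsion A (Cok P r p) :=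
      ⟨a, (Submodule.Quotient.mk_eq_zero (range (P.d r p).hom)).2 hmem⟩
    rw [h, Submodule.mem_bot, Submodule.Quotient.mk_eq_zero] at this
    exact (Submodule.Quotient.mk_eq_zero (bd P r p q)).2 this
  · intro h
    rw [eq_bot_iff]
    rintro x ⟨a, ha⟩
    obtain ⟨x, rfl⟩ := Submodule.mkQ_surjective _ x
    have hmem : (a : A) • x ∈ range (P.d r p).hom := (Submodule.Quotient.mk_eq_zero (range (P.d r p).hom)).1 ha
    have hx : (P.d p q).hom x ∈ Submodule.torsion A (P.X q) := by
      obtain ⟨v, hv⟩ := hmem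
      exact ⟨a, by rw [Submonoid.smul_def, ← map_smul, ← hv]; exact DFunLike.congr_fun (d_d P r p q) v⟩
    rw [ht, Submodule.mem_bot] at hx
    have : (Submodule.Quotient.mk (⟨x, hx⟩ : LinearMap.ker (P.d p q).hom) : Hm P r p q) ∈ Submodule.torsion A (Hm P r p q) :=
      ⟨a, (Submodule.Quotient.mk_eq_zero (bd P r p q)).2 hmem⟩
    rw [h, Submodule.mem_bot, Submodule.Quotient.mk_eq_zero] at this
    exact (Submodule.Quotient.mk_eq_zero (range (P.d r p).hom)).2 this

theorem dedekind_criteria [IsDedekindDomain A] (hP : ∀ i, Module.Flat A (P.X i)) (p q : ℤ) (hpq : q + 1 = p) :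
    ((CohIII.TFun P p).PreservesMonomorphisms ↔ Module.Flat A (P.homology p)) ∧
      (((CohIII.TFun P p).PreservesMonomorphisms ∧ (CohIII.TFun P p).PreservesEpimorphisms) ↔
        (Module.Flat A (P.homology p) ∧ Module.Flat A (P.homology q))) := by
  have key : ∀ i, ((CohIII.TFun P i).PreservesMonomorphisms ↔ Module.Flat A (P.homology i)) := fun i => by
    have := hP (i - 1)
    exact (mono_iff P hP rfl).trans (flat_cok_iff_flat_homology P (i + 1) i (i - 1) (prv rfl) (nxt (sub_add_cancel i 1)))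
  refine ⟨key p, ?_⟩
  rw [key p, epi_iff_mono_pred P hP p q hpq, key q]

end
end Groth.Agent.H5FCxMore
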