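import Groth.Agent.Lib.H5FCxDVRDim
import Groth.Agent.Lib.H5FCxMore
import Groth.Prelude.Def_DRing2

universe u

namespace Groth.Agent.H5FCxTor
open CategoryTheory Limits TensorProduct LinearMap MonoidalCategory Groth.Agent.H5FCx Groth.Agent.H5FCxApps Groth.Agent.H5FCxDVRDim Groth.Agent.H5DRank Groth.Agent.H5FCxBC

noncomputable section

variable {A : Type u} [CommRing A]

/-- Tor from a chosen resolution -/
def torIso (n : ℕ) (M : Type u) [AddCommGroup M] [Module A M] {N : ModuleCat.{u} A} (R : ProjectiveResolution N) :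
    ((CategoryTheory.Tor (ModuleCat.{u} A) n).obj (ModuleCat.of A M)).obj N ≅
      (((tensorLeft (ModuleCat.of A M)).mapHomologicalComplex _).obj R.complex).homology n :=
  R.isoLeftDerivedObj (tensorLeft (ModuleCat.of A M)) n

section bc
variable (A' : Type u) [CommRing A'] [Algebra A A'] [Module.Flat A A']

theorem projective_extend (X : ModuleCat.{u} A) [Projective X] :
    Projective ((ModuleCat.extendScalars (algebraMap A A')).obj X) := by
  have : Module.Projective A X := (IsProjective.iff_projective _).2 ‹Projective X›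
  have : Module.Projective A' ((ModuleCat.extendScalars (algebraMap A A')).obj X) :=
    Module.Projective.of_equiv (bcEquiv A' X).symm
  exact ModuleCat.projective_of_categoryTheory_projective _

/-- a projective resolution after flat base change -/
def resBC {N : ModuleCat.{u} A} (R : ProjectiveResolution N) :
    ProjectiveResolution ((ModuleCat.extendScalars (algebraMap A A')).obj N) :=
  haveI := ModuleCat.preservesFiniteLimits_extendScalars_of_flat
    (f := algebraMap A A') (RingHom.flat_algebraMap_iff.2 inferInstance)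
  haveI : QuasiIso (((ModuleCat.extendScalars.{_, _, u} (algebraMap A A')).mapHomologicalComplex _).map R.π) :=
    inferInstance
  { complex := CohIII.bcCx (algebraMap A A') R.complex
    projective := fun n => projective_extend A' (R.complex.X n)
    π := ((ModuleCat.extendScalars (algebraMap A A')).mapHomologicalComplex _).map R.π ≫
      (HomologicalComplex.singleMapHomologicalComplex (ModuleCat.extendScalars (algebraMap A A')) (ComplexShape.down ℕ) 0).hom.app N
    quasiIso := inferInstance }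

/-- tensor products and base change -/
def tenBC (P : Type u) [AddCommGroup P] [Module A P] (X : ModuleCat.{u} A) :
    (A' ⊗[A] P) ⊗[A'] (ModuleCat.extendScalars (algebraMap A A')).obj X ≃ₗ[A']
      (ModuleCat.extendScalars (algebraMap A A')).obj ((tensorLeft (ModuleCat.of A P)).obj X) :=
  TensorProduct.congr (LinearEquiv.refl A' _) (bcEquiv A' X) ≪≫ₗ
    (AlgebraTensorModule.distribBaseChange A A' P X).symm ≪≫ₗ
    (bcEquiv A' ((tensorLeft (ModuleCat.of A P)).obj X)).symm

theorem lTensor_intertwine {B : Type u} [CommRing B] {M X Y X' Y' : Type u} [AddCommGroup M] [Module B M] [AddCommGroup X]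
    [Module B X] [AddCommGroup Y] [Module B Y] [AddCommGroup X'] [Module B X'] [AddCommGroup Y'] [Module B Y']
    (F : X →ₗ[B] Y) (F' : X' →ₗ[B] Y') (ei : X ≃ₗ[B] X') (ej : Y ≃ₗ[B] Y') (h : ∀ b, ej (F b) = F' (ei b))
    (x : M ⊗[B] X) :
    F'.lTensor M (TensorProduct.congr (LinearEquiv.refl B M) ei x) =
      TensorProduct.congr (LinearEquiv.refl B M) ej (F.lTensor M x) := by
  induction x with
  | zero => simp
  | tmul a b => simp [h]
  | add a b ha hb => simp only [map_add, ha, hb]

/-- the complexes computing both sides -/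
def cxBC (P : Type u) [AddCommGroup P] [Module A P] {c : ComplexShape ℕ} (C : HomologicalComplex (ModuleCat.{u} A) c) :
    ((tensorLeft (ModuleCat.of A' (A' ⊗[A] P))).mapHomologicalComplex c).obj (CohIII.bcCx (algebraMap A A') C) ≅
      CohIII.bcCx (algebraMap A A') (((tensorLeft (ModuleCat.of A P)).mapHomologicalComplex c).obj C) :=
  HomologicalComplex.Hom.isoOfComponents (fun i => (tenBC A' P (C.X i)).toModuleIso)
    (fun i j _ => ModuleCat.hom_ext (LinearMap.ext fun
      (x : (A' ⊗[A] P) ⊗[A'] (ModuleCat.extendScalars (algebraMap A A')).obj (C.X i)) => by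
      have key : ∀ z : (A' ⊗[A] P) ⊗[A'] (A' ⊗[A] C.X i),
          (((C.d i j).hom.lTensor P).baseChange A') ((AlgebraTensorModule.distribBaseChange A A' P (C.X i)).symm z) =
            (AlgebraTensorModule.distribBaseChange A A' P (C.X j)).symm (((C.d i j).hom.baseChange A').lTensor (A' ⊗[A] P) z) := by
        intro z
        obtain ⟨w, rfl⟩ := (AlgebraTensorModule.distribBaseChange A A' P (C.X i)).surjective z
        rw [LinearEquiv.symm_apply_apply, LinearEquiv.eq_symm_apply]
        induction w with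
        | zero => simp
        | add a b ha hb => simp only [map_add, ha, hb]
        | tmul s y =>
          induction y with
          | zero => simp
          | add a b ha hb => simp only [TensorProduct.tmul_add, map_add, ha, hb]
          | tmul p m => simp [AlgebraTensorModule.distribBaseChange]
      apply (bcEquiv A' ((tensorLeft (ModuleCat.of A P)).obj (C.X j))).injective
      refine ((bcEquiv_map A' ((tensorLeft (ModuleCat.of A P)).map (C.d i j)) _).trans ?_)
      refine (congrArg _ ((bcEquiv A' _).apply_symm_apply _)).trans ?_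
      refine Eq.trans ?_ ((bcEquiv A' _).apply_symm_apply _).symm
      refine (key _).trans (congrArg _ ?_)
      exact lTensor_intertwine ((ModuleCat.extendScalars (algebraMap A A')).map (C.d i j)).hom
        ((C.d i j).hom.baseChange A') (bcEquiv A' (C.X i)) (bcEquiv A' (C.X j)) (fun b => bcEquiv_map A' (C.d i j) b) x))

theorem tor_baseChange (P Q : Type u) [AddCommGroup P] [Module A P] [AddCommGroup Q] [Module A Q] (n : ℕ) :
    Nonempty (TensorProduct A A' (DRing.Tor A n P Q) ≃ₗ[A']
      DRing.Tor A' n (TensorProduct A A' P) (TensorProduct A A' Q)) := by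
  let R := projectiveResolution (ModuleCat.of A Q)
  let C := ((tensorLeft (ModuleCat.of A P)).mapHomologicalComplex _).obj R.complex
  let e1 := torIso n P R
  let i0 : (ModuleCat.extendScalars (algebraMap A A')).obj (ModuleCat.of A Q) ≅ ModuleCat.of A' (A' ⊗[A] Q) :=
    (bcEquiv A' (ModuleCat.of A Q)).toModuleIso
  let e2 := ((CategoryTheory.Tor (ModuleCat.{u} A') n).obj (ModuleCat.of A' (A' ⊗[A] P))).mapIso i0
  let e3 := torIso n (A' ⊗[A] P) (resBC A' R)
  let e4 := (HomologicalComplex.homologyFunctor (ModuleCat.{u} A') _ n).mapIso (cxBC A' P R.complex)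
  let e5 := bcHomology (algebraMap A A') (RingHom.flat_algebraMap_iff.2 inferInstance) C n
  exact ⟨(bcEquiv A' _).symm ≪≫ₗ ((ModuleCat.extendScalars (algebraMap A A')).mapIso e1).toLinearEquiv ≪≫ₗ
    (e5.symm ≪≫ e4.symm ≪≫ e3.symm ≪≫ e2).toLinearEquiv⟩

end bc

/-! ### universal coefficients -/

theorem comp_bijective_of_flat {ι : Type} {c : ComplexShape ι} (C : HomologicalComplex (ModuleCat.{u} A) c)
    (r p q : ι) (hr : c.prev p = r) (hq : c.next p = q) (M : ModuleCat.{u} A) [Module.Flat A M] :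
    Function.Bijective (Groth.Agent.H5FCx.comp C r p q hr hq M) := by
  let d := (C.d p q).hom
  constructor
  · rw [← ker_eq_bot, eq_bot_iff]
    intro x hx
    obtain ⟨y, rfl⟩ := rTensor_surjective M (Submodule.mkQ_surjective _) x
    rw [mem_ker, comp_mk, cl_eq_zero_iff C M r p q hr hq] at hx
    obtain ⟨v, hv⟩ := hx
    have h0 : d ∘ₗ (C.d r p).hom = 0 := d_d C r p q
    let e' : C.X r →ₗ[A] LinearMap.ker d := (C.d r p).hom.codRestrict _ fun v => DFunLike.congr_fun h0 v
    have hy : y = e'.rTensor M v :=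
      Module.Flat.rTensor_preserves_injective_linearMap (M := M) (LinearMap.ker d).subtype Subtype.val_injective (by
        rw [← LinearMap.comp_apply (f := (LinearMap.ker d).subtype.rTensor M), ← rTensor_comp]
        exact hv.symm)
    have h1 : (bd C r p q).mkQ ∘ₗ e' = 0 :=
      LinearMap.ext fun v => (Submodule.Quotient.mk_eq_zero _).2 (Submodule.mem_comap.2 ⟨v, rfl⟩)
    show _ = (0 : Hm C r p q ⊗[A] M)
    rw [hy, ← LinearMap.comp_apply, ← rTensor_comp, h1, rTensor_zero, LinearMap.zero_apply]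
  · intro t
    obtain ⟨⟨z, hz⟩, rfl⟩ := cl_surj C M p q hq t
    obtain ⟨w, hw⟩ := (Module.Flat.rTensor_exact (M := M) (exact_subtype_ker_map d) z).1 hz
    exact ⟨(bd C r p q).mkQ.rTensor M w, (comp_mk C r p q hr hq M w).trans (congrArg _ (Subtype.ext hw))⟩

/-- `Tor₁(H, M)` as a kernel -/
theorem torOne_equiv (H M : Type u) [AddCommGroup H] [Module A H] [AddCommGroup M] [Module A M]
    (R : ProjectiveResolution (ModuleCat.of A M)) :
    Nonempty (DRing.Tor A 1 H M ≃ₗ[A]
      LinearMap.ker ((LinearMap.ker (R.π.f 0).hom).subtype.lTensor H)) := by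
  let C := ((tensorLeft (ModuleCat.of A H)).mapHomologicalComplex _).obj R.complex
  have hq : (ComplexShape.down ℕ).next 1 = 0 := (ComplexShape.down ℕ).next_eq' rfl
  have hr : (ComplexShape.down ℕ).prev 1 = 2 := (ComplexShape.down ℕ).prev_eq' rfl
  let d1 := (R.complex.d 1 0).hom
  let d2 := (R.complex.d 2 1).hom
  have h10 : Function.Exact d1 (R.π.f 0).hom :=
    (ShortComplex.ShortExact.moduleCat_exact_iff_function_exact _).1 R.exact₀
  have h21 : Function.Exact d2 d1 :=
    (ShortComplex.ShortExact.moduleCat_exact_iff_function_exact _).1 (R.exact_succ 0)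
  let π : R.complex.X 1 →ₗ[A] LinearMap.ker (R.π.f 0).hom :=
    d1.codRestrict _ fun x => mem_ker.2 (h10.apply_apply_eq_zero x)
  have hπ : Function.Surjective π := fun ⟨y, hy⟩ => ⟨_, Subtype.ext ((h10 y).1 (mem_ker.1 hy)).choose_spec⟩
  have h2π : Function.Exact d2 π := fun x =>
    ⟨fun hx => (h21 x).1 (congrArg Subtype.val hx), fun hx => Subtype.ext ((h21 x).2 hx)⟩
  have hcomp : (LinearMap.ker (R.π.f 0).hom).subtype ∘ₗ π = d1 := LinearMap.ext fun _ => rfl
  have hd : ∀ w : H ⊗[A] R.complex.X 1,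
      (LinearMap.ker (R.π.f 0).hom).subtype.lTensor H (π.lTensor H w) = d1.lTensor H w := fun w => by
    rw [← LinearMap.comp_apply, ← lTensor_comp, hcomp]
  let h : LinearMap.ker (C.d 1 0).hom →ₗ[A] LinearMap.ker ((LinearMap.ker (R.π.f 0).hom).subtype.lTensor H) :=
    ((π.lTensor H).domRestrict (LinearMap.ker (C.d 1 0).hom)).codRestrict _ fun w => mem_ker.2 ((hd w.1).trans (mem_ker.1 w.2))
  have hs : Function.Surjective h := fun ⟨y, hy⟩ => by
    obtain ⟨w, rfl⟩ := lTensor_surjective H hπ y
    exact ⟨⟨w, mem_ker.2 ((hd w).symm.trans (mem_ker.1 hy))⟩, rfl⟩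
  have hker : LinearMap.ker h = LinearMap.ker (clHom C 1 0 hq).hom := by
    ext w
    rw [mem_ker, mem_ker, cl_zero_iff C 2 1 0 hr hq]
    refine ⟨fun hw => ?_, fun hw => Subtype.ext ?_⟩
    · exact (lTensor_exact H h2π hπ w.1).1 (congrArg Subtype.val hw)
    · exact (lTensor_exact H h2π hπ w.1).2 hw
  exact ⟨(torIso 1 H R).toLinearEquiv ≪≫ₗ
    ((clHom C 1 0 hq).hom.quotKerEquivOfSurjective (cl_surjective C 1 0 hq)).symm ≪≫ₗ
    Submodule.quotEquivOfEq _ _ hker.symm ≪≫ₗ h.quotKerEquivOfSurjective hs⟩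

variable (P : ChainComplex (ModuleCat.{u} A) ℤ)

theorem exists_short {X Y Z : Type u} [AddCommGroup X] [Module A X] [AddCommGroup Y] [Module A Y] [AddCommGroup Z]
    [Module A Z] (f : X →ₗ[A] Y) (g : Y →ₗ[A] Z) (hf : Function.Injective f) (h : range f = LinearMap.ker g) :
    ∃ S : ShortComplex (ModuleCat.{u} A), S.ShortExact ∧ Nonempty (S.X₁ ≅ ModuleCat.of A X) ∧
      Nonempty (S.X₂ ≅ ModuleCat.of A Y) ∧ Nonempty (S.X₃ ≅ ModuleCat.of A (range g)) := by
  refine ⟨ShortComplex.mk (ModuleCat.ofHom f) (ModuleCat.ofHom g.rangeRestrict) (ModuleCat.hom_ext (LinearMap.ext fun x =>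
    Subtype.ext (mem_ker.1 (h.le (LinearMap.mem_range_self f x))))), ?_, ⟨Iso.refl _⟩, ⟨Iso.refl _⟩, ⟨Iso.refl _⟩⟩
  exact
    { exact := (ShortComplex.ShortExact.moduleCat_exact_iff_function_exact _).2
        (LinearMap.exact_iff.2 ((ker_rangeRestrict g).trans h.symm))
      mono_f := (ModuleCat.mono_iff_injective _).2 hf
      epi_g := (ModuleCat.epi_iff_surjective _).2 (surjective_rangeRestrict g) }

/-- the comparison with values in homology -/
def compH (p : ℤ) (M : ModuleCat.{u} A) :
    Hm P (p + 1) p (p - 1) ⊗[A] M →ₗ[A] CohIII.T P p M :=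
  Groth.Agent.H5FCx.comp P (p + 1) p (p - 1) (prv rfl) (nxt (sub_add_cancel p 1)) M

def homologyHm (r p q : ℤ) (hr : (ComplexShape.down ℤ).prev p = r) (hq : (ComplexShape.down ℤ).next p = q) :
    Hm P r p q ≃ₗ[A] P.homology p :=
  LinearEquiv.ofBijective ((bd P r p q).liftQ (clHom P p q hq).hom fun z hz =>
      (cl_zero_iff P r p q hr hq z).2 (Submodule.mem_comap.1 hz))
    ⟨ker_eq_bot.1 (eq_bot_iff.2 fun x hx => by
      obtain ⟨z, rfl⟩ := Submodule.mkQ_surjective _ x
      exact (Submodule.Quotient.mk_eq_zero _).2 (Submodule.mem_comap.2 ((cl_zero_iff P r p q hr hq z).1 hx))),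
    fun y => by
      obtain ⟨z, rfl⟩ := cl_surjective P p q hq y
      exact ⟨Submodule.Quotient.mk z, rfl⟩⟩

set_option maxHeartbeats 1000000 in
theorem universal_coefficients [IsDedekindDomain A] (hP : ∀ i, Module.Flat A (P.X i)) (M : Type u) [AddCommGroup M]
    [Module A M] (p q : ℤ) (hpq : q + 1 = p) :
    ∃ S : ShortComplex (ModuleCat.{u} A), S.ShortExact ∧
      Nonempty (S.X₁ ≅ ModuleCat.of A (TensorProduct A (P.homology p) M)) ∧
      Nonempty (S.X₂ ≅ CohIII.T P p (ModuleCat.of A M)) ∧
      Nonempty (S.X₃ ≅ ModuleCat.of A (DRing.Tor A 1 (P.homology q) M)) := by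
  let R := projectiveResolution (ModuleCat.of A M)
  let F : ModuleCat.{u} A := R.complex.X 0
  have : Module.Projective A F := (IsProjective.iff_projective _).2 (inferInstanceAs (Projective (R.complex.X 0)))
  have hFflat : Module.Flat A F := Module.Flat.of_projective
  let π : F ⟶ ModuleCat.of A M := R.π.f 0
  have hπ : Function.Surjective π.hom := (ModuleCat.epi_iff_surjective _).1 (inferInstanceAs (Epi (R.π.f 0)))
  let K : ModuleCat.{u} A := ModuleCat.of A (LinearMap.ker π.hom)
  let i : K ⟶ F := ModuleCat.ofHom (LinearMap.ker π.hom).subtype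
  have hK : Module.Flat A K := by
    refine (IsDedekindDomain.flat_iff_torsion_eq_bot (R := A)).2 (eq_bot_iff.2 ?_)
    rintro x ⟨a, ha⟩
    have ht : Submodule.torsion A F = ⊥ := Module.Flat.torsion_eq_bot
    have : x.1 ∈ Submodule.torsion A F := ⟨a, congrArg Subtype.val ha⟩
    rw [ht, Submodule.mem_bot] at this
    exact Subtype.ext this
  have hi : Function.Injective i.hom := Subtype.val_injective
  have hex : Function.Exact i.hom π.hom := exact_subtype_ker_map π.hom
  have hS := tensorShort_exact P hP i π hi hex hπ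
  let Hp := Hm P (p + 1) p (p - 1)
  let Hq := Hm P (q + 1) q (q - 1)
  let cM := compH P p (ModuleCat.of A M)
  let g : CohIII.T P p F →ₗ[A] CohIII.T P p (ModuleCat.of A M) := (HomologicalComplex.homologyMap (CohIII.tensorMap P π) p).hom
  let f : CohIII.T P p K →ₗ[A] CohIII.T P p F := (HomologicalComplex.homologyMap (CohIII.tensorMap P i) p).hom
  let f' : CohIII.T P q K →ₗ[A] CohIII.T P q F := (HomologicalComplex.homologyMap (CohIII.tensorMap P i) q).hom
  let δ : CohIII.T P p (ModuleCat.of A M) →ₗ[A] CohIII.T P q K := (hS.δ p q hpq).hom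
  have e3 : range g = LinearMap.ker δ := (hS.homology_exact₃ p q hpq).moduleCat_range_eq_ker
  have e1 : range δ = LinearMap.ker f' := (hS.homology_exact₁ p q hpq).moduleCat_range_eq_ker
  have e2 : range f = LinearMap.ker g := (hS.homology_exact₂ p).moduleCat_range_eq_ker
  have bK := comp_bijective_of_flat P (p + 1) p (p - 1) (prv rfl) (nxt (sub_add_cancel p 1)) K
  have bF := comp_bijective_of_flat P (p + 1) p (p - 1) (prv rfl) (nxt (sub_add_cancel p 1)) F
  have natπ : ∀ x, g (compH P p F x) = cM (π.hom.lTensor Hp x) := comp_natural P (p + 1) p (p - 1) _ _ π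
  have nati : ∀ x, f (compH P p K x) = compH P p F (i.hom.lTensor Hp x) := comp_natural P (p + 1) p (p - 1) _ _ i
  have hinj : Function.Injective cM := by
    rw [← ker_eq_bot, eq_bot_iff]
    intro x hx
    obtain ⟨y, rfl⟩ := lTensor_surjective Hp hπ x
    have : compH P p F y ∈ LinearMap.ker g := mem_ker.2 ((natπ y).trans hx)
    rw [← e2] at this
    obtain ⟨z, hz⟩ := this
    obtain ⟨w, rfl⟩ := bK.2 z
    have hy : y = i.hom.lTensor Hp w := bF.1 (hz.symm.trans (nati w))
    rw [hy]
    exact (lTensor_exact Hp hex hπ).apply_apply_eq_zero w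
  have hrange : range cM = LinearMap.ker δ := by
    rw [← e3]
    refine le_antisymm ?_ ?_
    · rintro _ ⟨x, rfl⟩
      obtain ⟨y, rfl⟩ := lTensor_surjective Hp hπ x
      exact ⟨_, natπ y⟩
    · rintro _ ⟨z, rfl⟩
      obtain ⟨y, rfl⟩ := bF.2 z
      exact ⟨_, (natπ y).symm⟩
  have bKq := comp_bijective_of_flat P (q + 1) q (q - 1) (prv rfl) (nxt (sub_add_cancel q 1)) K
  have bFq := comp_bijective_of_flat P (q + 1) q (q - 1) (prv rfl) (nxt (sub_add_cancel q 1)) F
  have natq : ∀ x, f' (compH P q K x) = compH P q F (i.hom.lTensor Hq x) := comp_natural P (q + 1) q (q - 1) _ _ i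
  let eq0 : LinearMap.ker (i.hom.lTensor Hq) ≃ₗ[A] range δ := LinearEquiv.ofBijective
    (((compH P q K).domRestrict (LinearMap.ker (i.hom.lTensor Hq))).codRestrict (range δ) fun x => by
      rw [e1, mem_ker]
      exact (natq x.1).trans ((congrArg (compH P q F) (mem_ker.1 x.2)).trans (map_zero _)))
    ⟨fun a b h => Subtype.ext (bKq.1 (congrArg Subtype.val h)), fun ⟨y, hy⟩ => by
      obtain ⟨x, rfl⟩ := bKq.2 y
      refine ⟨⟨x, mem_ker.2 (bFq.1 ?_)⟩, rfl⟩
      rw [map_zero]
      exact (natq x).symm.trans (mem_ker.1 (e1 ▸ hy))⟩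
  obtain ⟨eT⟩ := torOne_equiv Hq M R
  let eH : DRing.Tor A 1 Hq M ≃ₗ[A] DRing.Tor A 1 (P.homology q) M :=
    (((CategoryTheory.Tor (ModuleCat.{u} A) 1).mapIso
      (homologyHm P (q + 1) q (q - 1) (prv rfl) (nxt (sub_add_cancel q 1))).toModuleIso).app (ModuleCat.of A M)).toLinearEquiv
  obtain ⟨S, hSS, ⟨i1⟩, ⟨i2⟩, ⟨i3⟩⟩ := exists_short cM δ hinj hrange
  exact ⟨S, hSS,
    ⟨i1 ≪≫ (TensorProduct.congr (homologyHm P (p + 1) p (p - 1) (prv rfl) (nxt (sub_add_cancel p 1)))
      (LinearEquiv.refl A M)).toModuleIso⟩,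
    ⟨i2⟩, ⟨i3 ≪≫ (eq0.symm ≪≫ₗ eT.symm ≪≫ₗ eH).toModuleIso⟩⟩

end
end Groth.Agent.H5FCxTor
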