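/-
A pure injection with finitely presented cokernel splits.
-/
import Mathlib
import Groth.Prelude.Def_CAlgX
import Groth.Agent.Lib.UnivInjective

open TensorProduct
universe u

namespace Groth.Agent.PureSplit


theorem exists_retraction_of_pure {R : Type u} [CommRing R] {M P : Type u} [AddCommGroup M] [Module R M]
    [AddCommGroup P] [Module R P] (j : M →ₗ[R] P) (hj : CAlgX.UniversallyInjective R j)
    [Module.FinitePresentation R (P ⧸ LinearMap.range j)] :
    ∃ r : P →ₗ[R] M, r ∘ₗ j = LinearMap.id := by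
  classical
  have hinj : Function.Injective j := by
    intro a b hab
    have := hj R (a₁ := a ⊗ₜ 1) (a₂ := b ⊗ₜ 1) (by simp [hab])
    simpa using congrArg (TensorProduct.rid R M) this
  let q := (LinearMap.range j).mkQ
  obtain ⟨n, K, e, hK⟩ := Module.FinitePresentation.exists_fin R (P ⧸ LinearMap.range j)
  let π : (Fin n → R) →ₗ[R] P ⧸ LinearMap.range j := e.symm.toLinearMap ∘ₗ K.mkQ
  have hπ : Function.Surjective π := e.symm.surjective.comp K.mkQ_surjective
  have hπk : ∀ a, π a = 0 ↔ a ∈ K := fun a => by simp [π]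
  obtain ⟨p, hp⟩ := Module.projective_lifting_property q π (Submodule.mkQ_surjective _)
  obtain ⟨S, hS⟩ := hK
  have hmem : ∀ a : S, p a ∈ LinearMap.range j := fun a => by
    rw [← Submodule.Quotient.mk_eq_zero]
    exact (LinearMap.congr_fun hp a.1).trans ((hπk _).mpr (hS ▸ Submodule.subset_span a.2))
  choose x hx using hmem
  obtain ⟨z, hz⟩ := Groth.Agent.UI.eqCrit_fintype (Groth.Agent.UI.eqCrit_of hj) (ι := S) (κ := Fin n)
    x (fun i => p (Pi.single i 1)) (fun a i => a.1 i) (fun a => by
      rw [hx]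
      conv_lhs => rw [pi_eq_sum_univ' a.1]
      simp [map_sum])
  let t : (Fin n → R) →ₗ[R] M := Fintype.linearCombination R z
  let p' := p - j ∘ₗ t
  have hker : K ≤ LinearMap.ker p' := by
    rw [← hS, Submodule.span_le]
    intro a ha
    rw [SetLike.mem_coe, LinearMap.mem_ker]
    simp only [p', t, LinearMap.sub_apply, LinearMap.comp_apply, Fintype.linearCombination_apply]
    rw [← hz ⟨a, ha⟩, hx ⟨a, ha⟩, sub_self]
  let s : P ⧸ LinearMap.range j →ₗ[R] P := K.liftQ p' hker ∘ₗ e.toLinearMap
  have hs : ∀ c, q (s c) = c := by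
    intro c
    obtain ⟨a, rfl⟩ := hπ c
    have h1 : q (j (t a)) = 0 := (Submodule.Quotient.mk_eq_zero _).mpr (LinearMap.mem_range_self j _)
    have h2 : s (π a) = p' a := by simp [s, π]
    rw [h2]
    simp only [p', LinearMap.sub_apply, LinearMap.comp_apply, map_sub, h1, sub_zero]
    exact LinearMap.congr_fun hp a
  let d : P →ₗ[R] LinearMap.range j := LinearMap.codRestrict _ (LinearMap.id - s ∘ₗ q) (fun y => by
    rw [← Submodule.Quotient.mk_eq_zero]
    change q (y - s (q y)) = 0
    rw [map_sub, hs, sub_self])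
  refine ⟨(LinearEquiv.ofInjective j hinj).symm.toLinearMap ∘ₗ d, LinearMap.ext fun m => ?_⟩
  simp only [LinearMap.comp_apply, LinearEquiv.coe_coe, LinearMap.id_apply]
  rw [LinearEquiv.symm_apply_eq]
  apply Subtype.ext
  change j m - s (q (j m)) = j m
  rw [show q (j m) = 0 from (Submodule.Quotient.mk_eq_zero _).mpr (LinearMap.mem_range_self j _), map_zero, sub_zero]

end Groth.Agent.PureSplit
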