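import Mathlib
import Groth.Agent.Lib.H5FCxTor
import Groth.Agent.Lib.PureSplit
set_option autoImplicit false

/-! A vanishing map of `Tor₁` in elementwise form. -/
namespace Groth.Agent.H2TorOne
open CategoryTheory Limits TensorProduct LinearMap MonoidalCategory Groth.Agent.H5FCx
universe u
variable {R : Type u} [CommRing R] {M M' N : Type u} [AddCommGroup M] [Module R M] [AddCommGroup M'] [Module R M']
  [AddCommGroup N] [Module R N]

theorem rTensor_eq_zero_of_map_eq_zero (α : M →ₗ[R] M') (P : ProjectiveResolution (ModuleCat.of R N))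
    (h : ((CategoryTheory.Tor (ModuleCat.{u} R) 1).map (ModuleCat.ofHom α)).app (ModuleCat.of R N) = 0)
    (y : M ⊗[R] LinearMap.ker (P.π.f 0).hom)
    (hy : (LinearMap.ker (P.π.f 0).hom).subtype.lTensor M y = 0) : α.rTensor _ y = 0 := by
  let φ : tensorLeft (ModuleCat.of R M) ⟶ tensorLeft (ModuleCat.of R M') :=
    (tensoringLeft (ModuleCat.{u} R)).map (ModuleCat.ofHom α)
  let ψ := (NatTrans.mapHomologicalComplex φ (ComplexShape.down ℕ)).app P.complex
  have h' : (NatTrans.leftDerived φ 1).app (ModuleCat.of R N) = 0 := h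
  rw [ProjectiveResolution.leftDerived_app_eq φ P 1, Preadditive.IsIso.comp_left_eq_zero,
    Preadditive.IsIso.comp_right_eq_zero] at h'
  let C := ((tensorLeft (ModuleCat.of R M)).mapHomologicalComplex (ComplexShape.down ℕ)).obj P.complex
  let D := ((tensorLeft (ModuleCat.of R M')).mapHomologicalComplex (ComplexShape.down ℕ)).obj P.complex
  have hq : (ComplexShape.down ℕ).next 1 = 0 := (ComplexShape.down ℕ).next_eq' rfl
  have hr : (ComplexShape.down ℕ).prev 1 = 2 := (ComplexShape.down ℕ).prev_eq' rfl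
  let d1 := (P.complex.d 1 0).hom
  let d2 := (P.complex.d 2 1).hom
  have h10 : Function.Exact d1 (P.π.f 0).hom :=
    (ShortComplex.ShortExact.moduleCat_exact_iff_function_exact _).1 P.exact₀
  have h21 : Function.Exact d2 d1 :=
    (ShortComplex.ShortExact.moduleCat_exact_iff_function_exact _).1 (P.exact_succ 0)
  let π : P.complex.X 1 →ₗ[R] LinearMap.ker (P.π.f 0).hom :=
    d1.codRestrict _ fun x => mem_ker.2 (h10.apply_apply_eq_zero x)
  have hπ : Function.Surjective π := fun ⟨y, hy⟩ => ⟨_, Subtype.ext ((h10 y).1 (mem_ker.1 hy)).choose_spec⟩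
  have hπd : π ∘ₗ d2 = 0 := LinearMap.ext fun x => Subtype.ext (h21.apply_apply_eq_zero x)
  obtain ⟨w, rfl⟩ := lTensor_surjective M hπ y
  have hw : d1.lTensor M w = 0 := by
    rw [← hy, ← LinearMap.comp_apply, ← lTensor_comp]; rfl
  have hw' : d1.lTensor M' (α.rTensor (P.complex.X 1) w) = 0 := by
    rw [← LinearMap.comp_apply, lTensor_comp_rTensor, ← rTensor_comp_lTensor, LinearMap.comp_apply, hw, map_zero]
  have := cl_naturality C (D := D) ψ 1 0 hq ⟨w, hw⟩ ⟨α.rTensor (P.complex.X 1) w, hw'⟩ rfl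
  rw [show HomologicalComplex.homologyMap ψ 1 = 0 from h'] at this
  obtain ⟨v, hv⟩ := (cl_zero_iff D 2 1 0 hr hq _).mp this.symm
  replace hv : d2.lTensor M' v = α.rTensor (P.complex.X 1) w := hv
  rw [← LinearMap.comp_apply, rTensor_comp_lTensor, ← lTensor_comp_rTensor, LinearMap.comp_apply, ← hv,
    ← LinearMap.comp_apply, ← lTensor_comp, hπd, lTensor_zero, LinearMap.zero_apply]

/-- If `Tor₁(α, -) = 0` then the pullback along `α` of any extension of `M'` by `K` is universally injective. -/
theorem injective_rTensor_pullback (α : M →ₗ[R] M')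
    (h : ((CategoryTheory.Tor (ModuleCat.{u} R) 1).map (ModuleCat.ofHom α)).app (ModuleCat.of R N) = 0)
    {K E F : Type u} [AddCommGroup K] [Module R K] [AddCommGroup E] [Module R E] [AddCommGroup F] [Module R F]
    (j : K →ₗ[R] E) (q : E →ₗ[R] M) (hjq : Function.Exact j q) (hq : Function.Surjective q)
    (u : E →ₗ[R] F) (p : F →ₗ[R] M') (hp : p ∘ₗ u = α ∘ₗ q) (hK : Function.Exact (u ∘ₗ j) p)
    (hp' : Function.Surjective p) (hinj : Function.Injective (u ∘ₗ j)) : Function.Injective (j.rTensor N) := by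
  let P : ProjectiveResolution (ModuleCat.of R N) := Classical.choice (HasProjectiveResolution.out)
  let g := (P.π.f 0).hom
  let L := LinearMap.ker g
  have hg : Function.Surjective g := (ModuleCat.epi_iff_surjective (P.π.f 0)).1 inferInstance
  have : Module.Projective R (P.complex.X 0) := (IsProjective.iff_projective _).2 (P.projective 0)
  rw [injective_iff_map_eq_zero]
  intro x hx
  obtain ⟨x', rfl⟩ := lTensor_surjective K hg x
  have h1 : g.lTensor E (j.rTensor (P.complex.X 0) x') = 0 := by
    rw [← LinearMap.comp_apply, lTensor_comp_rTensor, ← rTensor_comp_lTensor, LinearMap.comp_apply]; exact hx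
  obtain ⟨e, he⟩ := (lTensor_exact E (exact_subtype_ker_map g) hg _).mp h1
  have hm : L.subtype.lTensor M (q.rTensor L e) = 0 := by
    rw [← LinearMap.comp_apply, lTensor_comp_rTensor, ← rTensor_comp_lTensor, LinearMap.comp_apply, he,
      ← LinearMap.comp_apply, ← rTensor_comp, hjq.linearMap_comp_eq_zero, rTensor_zero, LinearMap.zero_apply]
  have hα := rTensor_eq_zero_of_map_eq_zero α P h _ hm
  have he' : p.rTensor L (u.rTensor L e) = 0 := by
    rw [← LinearMap.comp_apply, ← rTensor_comp, hp, rTensor_comp, LinearMap.comp_apply]; exact hα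
  obtain ⟨k, hk⟩ := (rTensor_exact L hK hp' _).mp he'
  have hkx : L.subtype.lTensor K k = x' := by
    refine Module.Flat.rTensor_preserves_injective_linearMap (M := P.complex.X 0) _ hinj ?_
    rw [← LinearMap.comp_apply, rTensor_comp_lTensor, ← lTensor_comp_rTensor, LinearMap.comp_apply, hk,
      rTensor_comp, LinearMap.comp_apply, ← he, ← LinearMap.comp_apply, lTensor_comp_rTensor,
      ← rTensor_comp_lTensor, LinearMap.comp_apply]
  rw [← hkx, ← LinearMap.comp_apply, ← lTensor_comp, (exact_subtype_ker_map g).linearMap_comp_eq_zero,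
    lTensor_zero, LinearMap.zero_apply]
  rfl

theorem exists_section (α : M →ₗ[R] M') [Module.FinitePresentation R M]
    (h : ∀ (N : Type u) [AddCommGroup N] [Module R N],
      ((CategoryTheory.Tor (ModuleCat.{u} R) 1).map (ModuleCat.ofHom α)).app (ModuleCat.of R N) = 0)
    {K E F : Type u} [AddCommGroup K] [Module R K] [AddCommGroup E] [Module R E] [AddCommGroup F] [Module R F]
    (j : K →ₗ[R] E) (q : E →ₗ[R] M) (hjq : Function.Exact j q) (hq : Function.Surjective q)
    (u : E →ₗ[R] F) (p : F →ₗ[R] M') (hp : p ∘ₗ u = α ∘ₗ q) (hK : Function.Exact (u ∘ₗ j) p)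
    (hp' : Function.Surjective p) (hinj : Function.Injective (u ∘ₗ j)) : ∃ g : M →ₗ[R] F, α = p ∘ₗ g := by
  have hui : CAlgX.UniversallyInjective R j := by
    intro N _ _
    exact injective_rTensor_pullback α (h N) j q hjq hq u p hp hK hp' hinj
  let e := (Submodule.quotEquivOfEq _ _ (LinearMap.exact_iff.mp hjq).symm) ≪≫ₗ q.quotKerEquivOfSurjective hq
  have : Module.FinitePresentation R (E ⧸ LinearMap.range j) := Module.FinitePresentation.of_equiv e.symm
  obtain ⟨r, hr⟩ := Groth.Agent.PureSplit.exists_retraction_of_pure j hui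
  let s : M →ₗ[R] E := (LinearMap.range j).liftQ (LinearMap.id - j ∘ₗ r) (by
    rintro _ ⟨k, rfl⟩
    simp [← LinearMap.comp_apply r j, hr]) ∘ₗ e.symm.toLinearMap
  refine ⟨u ∘ₗ s, LinearMap.ext fun m => ?_⟩
  obtain ⟨x, rfl⟩ := hq m
  have he : e.symm (q x) = Submodule.Quotient.mk x := by
    rw [LinearEquiv.symm_apply_eq]; rfl
  have h1 : q (j (r x)) = 0 := hjq.apply_apply_eq_zero _
  simp only [LinearMap.comp_apply, s, LinearEquiv.coe_coe]
  rw [he, Submodule.liftQ_apply, LinearMap.sub_apply, LinearMap.id_apply, LinearMap.comp_apply, ← LinearMap.comp_apply p u, hp,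
    LinearMap.comp_apply, map_sub, h1, sub_zero]

end Groth.Agent.H2TorOne
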