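import Mathlib
set_option autoImplicit false

/-! Rank of the span of p^n-th powers in a truncated polynomial algebra. -/
namespace Groth.Agent.H2TruncFrob
universe u
open MvPolynomial

theorem aux_finrank (p : ℕ) [Fact p.Prime] (k : Type u) [Field k] [CharP k p] (r : ℕ) (e : Fin r → ℕ) (n : ℕ) :
    Module.finrank k (Submodule.span k (Set.range fun a : (MvPolynomial (Fin r) k ⧸ Ideal.span (Set.range fun i : Fin r => (X i : MvPolynomial (Fin r) k) ^ p ^ e i)) => a ^ p ^ n)) = p ^ (∑ i, (e i - n)) := by
  classical
  have hp : p.Prime := Fact.out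
  let I := Ideal.span (Set.range fun i : Fin r => (X i : MvPolynomial (Fin r) k) ^ p ^ e i)
  have hI : I = Ideal.span ((fun s => monomial s (1:k)) '' Set.range (fun i : Fin r => Finsupp.single i (p ^ e i))) := by
    simp only [I, X_pow_eq_monomial, ← Set.range_comp]; rfl
  have hmem : ∀ P, P ∈ I ↔ ∀ d ∈ P.support, ∃ i, p ^ e i ≤ d i := by
    intro P; rw [hI, mem_ideal_span_monomial_image]
    simp [Finsupp.single_le_iff]
  let box := ∀ i : Fin r, Fin (p ^ (e i - n))
  let ex : box → (Fin r →₀ ℕ) := fun b => p ^ n • Finsupp.equivFunOnFinite.symm (fun i => (b i : ℕ))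
  have hexi : ∀ b i, ex b i = p ^ n * (b i : ℕ) := by intro b i; simp [ex]
  have hlt : ∀ b i, ex b i < p ^ e i := by
    intro b i; rw [hexi]
    rcases le_or_gt n (e i) with h | h
    · calc p ^ n * (b i : ℕ) < p ^ n * p ^ (e i - n) := Nat.mul_lt_mul_of_pos_left (b i).2 (pow_pos hp.pos _)
        _ = p ^ e i := by rw [← pow_add, Nat.add_sub_cancel' h]
    · have : (b i : ℕ) = 0 := by
        have h2 : (b i : ℕ) < p ^ (e i - n) := (b i).2
        have h3 : p ^ (e i - n) = 1 := by rw [Nat.sub_eq_zero_of_le h.le, pow_zero]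
        omega
      rw [this, mul_zero]; exact pow_pos hp.pos _
  let v : box → MvPolynomial (Fin r) k ⧸ I := fun b => Ideal.Quotient.mk I (monomial (ex b) 1)
  have hli : LinearIndependent k v := by
    rw [Fintype.linearIndependent_iff]
    intro c hc b
    have hP : (∑ b, monomial (ex b) (c b)) ∈ I := by
      rw [← Ideal.Quotient.eq_zero_iff_mem, map_sum]
      refine Eq.trans (Finset.sum_congr rfl fun b _ => ?_) hc
      show _ = c b • Ideal.Quotient.mk I _
      rw [← Ideal.Quotient.mkₐ_eq_mk k, ← map_smul, smul_monomial, smul_eq_mul, mul_one]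
    have hinj : Function.Injective ex := by
      intro b b' h; funext i; apply Fin.ext
      have := congrArg (fun f => f i) h
      simp only [hexi] at this
      exact Nat.eq_of_mul_eq_mul_left (pow_pos hp.pos _) this
    by_contra hb
    have hco : coeff (ex b) (∑ b, monomial (ex b) (c b)) = c b := by
      rw [coeff_sum, Finset.sum_eq_single b (fun b' _ hne => by rw [coeff_monomial, if_neg (hinj.ne hne)]) (by simp), coeff_monomial, if_pos rfl]
    obtain ⟨i, hi⟩ := (hmem _).mp hP (ex b) (by rw [mem_support_iff, hco]; exact hb)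
    exact absurd hi (not_le.mpr (hlt b i))
  haveI : CharP (MvPolynomial (Fin r) k) p := inferInstance
  have hspan : Submodule.span k (Set.range fun a : MvPolynomial (Fin r) k ⧸ I => a ^ p ^ n) = Submodule.span k (Set.range v) := by
    apply le_antisymm <;> rw [Submodule.span_le]
    · rintro _ ⟨a, rfl⟩
      obtain ⟨P, rfl⟩ := Ideal.Quotient.mk_surjective a
      show (Ideal.Quotient.mk I P) ^ p ^ n ∈ Submodule.span k (Set.range v)
      rw [← map_pow]
      induction P using MvPolynomial.induction_on' with
      | monomial m c =>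
        rw [monomial_pow]
        by_cases h : ∀ i, m i < p ^ (e i - n)
        · have : monomial (p ^ n • m) (c ^ p ^ n) = c ^ p ^ n • monomial (ex fun i => ⟨m i, h i⟩) (1:k) := by
            rw [smul_monomial, smul_eq_mul, mul_one]; congr 2; ext i; simp [hexi]
          rw [this, ← Ideal.Quotient.mkₐ_eq_mk k, map_smul]
          exact Submodule.smul_mem _ _ (Submodule.subset_span ⟨_, rfl⟩)
        · push Not at h
          obtain ⟨i, hi⟩ := h
          have : monomial (p ^ n • m) (c ^ p ^ n) ∈ I := by
            rw [hmem]; intro d hd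
            have : d = p ^ n • m := Finset.mem_singleton.mp (support_monomial_subset hd)
            subst this
            refine ⟨i, ?_⟩
            calc p ^ e i ≤ p ^ (n + (e i - n)) := Nat.pow_le_pow_right hp.pos (by omega)
              _ ≤ (p ^ n • m) i := by rw [pow_add]; simp only [Finsupp.smul_apply, smul_eq_mul]; exact Nat.mul_le_mul_left _ hi
          rw [Ideal.Quotient.eq_zero_iff_mem.mpr this]; exact zero_mem _
      | add P Q hP hQ => rw [add_pow_char_pow, map_add]; exact add_mem hP hQ
    · rintro _ ⟨b, rfl⟩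
      refine Submodule.subset_span ⟨Ideal.Quotient.mk I (monomial (Finsupp.equivFunOnFinite.symm fun i => (b i : ℕ)) 1), ?_⟩
      show _ ^ p ^ n = Ideal.Quotient.mk I _
      rw [← map_pow, monomial_pow, one_pow]
  show Module.finrank k (Submodule.span k (Set.range fun a : MvPolynomial (Fin r) k ⧸ I => a ^ p ^ n)) = _
  rw [hspan, finrank_span_eq_card hli]
  simp [box, Finset.prod_pow_eq_pow_sum]

end Groth.Agent.H2TruncFrob
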