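import Mathlib

/-! Injective modulo the maximal ideal into a flat module implies universally injective. -/

universe u

open scoped TensorProduct

namespace Groth.Agent.H2UnivInjLocal

variable {R : Type u} [CommRing R] [IsLocalRing R] {F N : Type u} [AddCommGroup F] [Module R F]
  [Module.Free R F] [Module.Finite R F] [AddCommGroup N] [Module R N] [Module.Flat R N]

lemma rTensor_injective_of_finite_free (x : F →ₗ[R] N)
    (hx : Function.Injective (x.lTensor (IsLocalRing.ResidueField R)))
    (Q : Type u) [AddCommGroup Q] [Module R Q] : Function.Injective (x.rTensor Q) := by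
  refine (injective_iff_map_eq_zero _).2 fun w hz => ?_
  haveI : Module.Finite R (LinearMap.range x) := Module.Finite.range x
  obtain ⟨P, hP, hPfg, hP0⟩ := TensorProduct.eq_zero_of_fg_of_subtype_eq_zero (N := Q) (P := LinearMap.range x)
    (Module.Finite.iff_fg.1 inferInstance) (t := x.rangeRestrict.rTensor Q w) (by
      rw [← LinearMap.rTensor_comp_apply, show (LinearMap.range x).subtype ∘ₗ x.rangeRestrict = x from rfl]; exact hz)
  rw [← LinearMap.rTensor_comp_apply] at hP0
  haveI : Module.Finite R P := Module.Finite.iff_fg.2 hPfg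
  obtain ⟨m, p, hp⟩ := Module.Finite.exists_fin' R P
  obtain ⟨a, ha⟩ := Module.projective_lifting_property p (Submodule.inclusion hP ∘ₗ x.rangeRestrict) hp
  have hker : p.rTensor Q (a.rTensor Q w) = 0 := by rw [← LinearMap.rTensor_comp_apply, ha]; exact hP0
  have hex : Function.Exact ((LinearMap.ker p).subtype.rTensor Q) (p.rTensor Q) :=
    rTensor_exact Q p.exact_subtype_ker_map hp
  obtain ⟨k0, hk0⟩ := (hex _).1 hker
  obtain ⟨K, hKfin, hK⟩ := TensorProduct.exists_finite_submodule_left_of_setFinite {k0} (Set.finite_singleton k0)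
  obtain ⟨k1, hk1⟩ := hK rfl
  haveI : Module.Finite R ↥K := hKfin
  let f : ↥K →ₗ[R] (Fin m → R) := (LinearMap.ker p).subtype ∘ₗ K.subtype
  obtain ⟨l, b, y, hby, hbK⟩ := Module.Flat.exists_factorization_of_comp_eq_zero_of_free
    (K := ↥K) (f := f) (x := P.subtype ∘ₗ p)
    (LinearMap.ext fun q => by
      show ((p ((q : LinearMap.ker p) : Fin m → R) : P) : N) = 0
      rw [LinearMap.mem_ker.1 (q : LinearMap.ker p).2]; rfl)
  have hxy : x = y ∘ₗ (b ∘ₗ a) := by
    rw [← LinearMap.comp_assoc, ← hby, LinearMap.comp_assoc, ha]; rfl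
  have hsplit : Function.Injective ((b ∘ₗ a).lTensor (IsLocalRing.ResidueField R)) := by
    rw [hxy, LinearMap.lTensor_comp] at hx
    exact Function.Injective.of_comp hx
  obtain ⟨c, hc⟩ := (IsLocalRing.split_injective_iff_lTensor_residueField_injective (b ∘ₗ a)).2 hsplit
  have h0 : (b ∘ₗ a).rTensor Q w = 0 := by
    rw [LinearMap.rTensor_comp_apply, ← hk0, ← hk1, ← LinearMap.rTensor_comp_apply, ← LinearMap.rTensor_comp_apply,
      LinearMap.comp_assoc, show b ∘ₗ ((LinearMap.ker p).subtype ∘ₗ K.subtype) = 0 from hbK]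
    simp
  have h1 := congrArg (c.rTensor Q) h0
  rwa [← LinearMap.rTensor_comp_apply, hc, LinearMap.rTensor_id, LinearMap.id_apply, map_zero] at h1

lemma flat_prod (A B : Type u) [AddCommGroup A] [Module R A] [AddCommGroup B] [Module R B]
    [Module.Flat R A] [Module.Flat R B] : Module.Flat R (A × B) := by
  rw [Module.Flat.iff_lTensor_preserves_injective_linearMap]
  intro X Y _ _ _ _ f hf
  refine (injective_iff_map_eq_zero _).2 fun z hz => ?_
  have h1 : (LinearMap.fst R A B).rTensor X z = 0 := by
    refine Module.Flat.lTensor_preserves_injective_linearMap (M := A) f hf ?_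
    rw [map_zero, ← LinearMap.comp_apply, LinearMap.lTensor_comp_rTensor, ← LinearMap.rTensor_comp_lTensor,
      LinearMap.comp_apply, hz, map_zero]
  have h2 : (LinearMap.snd R A B).rTensor X z = 0 := by
    refine Module.Flat.lTensor_preserves_injective_linearMap (M := B) f hf ?_
    rw [map_zero, ← LinearMap.comp_apply, LinearMap.lTensor_comp_rTensor, ← LinearMap.rTensor_comp_lTensor,
      LinearMap.comp_apply, hz, map_zero]
  have h3 : z = (LinearMap.inl R A B).rTensor X ((LinearMap.fst R A B).rTensor X z) +
      (LinearMap.inr R A B).rTensor X ((LinearMap.snd R A B).rTensor X z) := by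
    rw [← LinearMap.rTensor_comp_apply, ← LinearMap.rTensor_comp_apply, ← LinearMap.add_apply, ← LinearMap.rTensor_add,
      show LinearMap.inl R A B ∘ₗ LinearMap.fst R A B + LinearMap.inr R A B ∘ₗ LinearMap.snd R A B = LinearMap.id from
        LinearMap.ext fun x => by simp, LinearMap.rTensor_id, LinearMap.id_apply]
  rw [h3, h1, h2, map_zero, map_zero, add_zero]

end Groth.Agent.H2UnivInjLocal
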