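import Mathlib

/-! Universal openness is tested on affine spaces. -/

universe u

open CategoryTheory Limits AlgebraicGeometry TensorProduct

namespace Groth.Agent.H2UnivOpen

variable {X S : Scheme.{u}} (f : X ⟶ S)

theorem isOpenMap_snd_affine (H : ∀ n : ℕ, IsOpenMap ⇑(AffineSpace.map (ULift.{u} (Fin n)) f))
    {S0 : S.Opens} (hS0 : IsAffineOpen S0) {B : CommRingCat.{u}} (φ : Γ(S, S0) ⟶ B) :
    IsOpenMap ⇑(pullback.snd f (Spec.map φ ≫ hS0.fromSpec)) := by
  intro W hW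
  rw [isOpen_iff_forall_mem_open]
  rintro _ ⟨z, hz, rfl⟩
  let g := Spec.map φ ≫ hS0.fromSpec
  have hzS : f (pullback.fst f g z) ∈ S0 := by
    show (pullback.fst f g ≫ f) z ∈ (S0 : Set S)
    rw [pullback.condition, ← hS0.range_fromSpec]
    exact ⟨(pullback.snd f g ≫ Spec.map φ) z, by simp [g]⟩
  obtain ⟨_, ⟨X0, hX0, rfl⟩, hxX0, hX0S : X0 ≤ f ⁻¹ᵁ S0⟩ :=
    X.isBasis_affineOpens.exists_subset_of_mem_open hzS (f ⁻¹ᵁ S0).2
  let C := Γ(X, X0)
  algebraize [(f.appLE S0 X0 hX0S).hom, φ.hom]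
  let e0 : pullback (Spec.map (CommRingCat.ofHom (algebraMap Γ(S, S0) C))) (Spec.map (CommRingCat.ofHom (algebraMap Γ(S, S0) B))) ⟶ pullback f g :=
    pullback.map _ _ _ _ hX0.fromSpec (𝟙 _) hS0.fromSpec
      (IsAffineOpen.SpecMap_appLE_fromSpec f hS0 hX0 hX0S) (by exact (Category.id_comp g).symm)
  let e : Spec (CommRingCat.of (C ⊗[Γ(S, S0)] B)) ⟶ pullback f g := (pullbackSpecIso Γ(S, S0) C B).inv ≫ e0
  have he1 : e ≫ pullback.fst f g = Spec.map (CommRingCat.ofHom Algebra.TensorProduct.includeLeftRingHom) ≫ hX0.fromSpec := by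
    simp only [e, e0, pullback.map, Category.assoc, pullback.lift_fst]
    rw [pullbackSpecIso_inv_fst_assoc]
  have he2 : e ≫ pullback.snd f g = Spec.map (CommRingCat.ofHom Algebra.TensorProduct.includeRight.toRingHom) := by
    simp only [e, e0, pullback.map, Category.assoc, pullback.lift_snd, Category.comp_id]
    exact pullbackSpecIso_inv_snd ..
  have her : Set.range e = pullback.fst f g ⁻¹' (X0 : Set X) := by
    simp only [e, Scheme.Hom.comp_base, TopCat.coe_comp, Set.range_comp,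
      Set.range_eq_univ.2 (pullbackSpecIso Γ(S, S0) C B).inv.surjective, Set.image_univ]
    show Set.range e0 = _
    rw [Scheme.Pullback.range_map, hX0.range_fromSpec]
    simp
  obtain ⟨w, hw⟩ : z ∈ Set.range e := by rw [her]; exact hxX0
  obtain ⟨_, ⟨_, ⟨h, rfl⟩, rfl⟩, hwh, hhW⟩ := PrimeSpectrum.isBasis_basic_opens.exists_subset_of_mem_open
    (show w ∈ e ⁻¹' W by show e w ∈ W; rw [hw]; exact hz) (hW.preimage e.continuous)
  obtain ⟨s, hs⟩ := TensorProduct.exists_finset (R := Γ(S, S0)) h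
  let n := s.card
  let c : ULift.{u} (Fin n) → C := fun i => (s.equivFin.symm i.down).1.1
  let b : ULift.{u} (Fin n) → B := fun i => (s.equivFin.symm i.down).1.2
  have hsum : h = ∑ i, c i ⊗ₜ[Γ(S, S0)] b i := by
    rw [hs, ← Finset.sum_coe_sort]
    exact (Fintype.sum_equiv (Equiv.ulift.trans s.equivFin.symm) _ _ fun i => rfl).symm
  let ψ : Spec B ⟶ AffineSpace (ULift.{u} (Fin n)) S :=
    AffineSpace.homOfVector g fun i => (Scheme.ΓSpecIso B).inv (b i)
  let p : pullback f g ⟶ AffineSpace (ULift.{u} (Fin n)) X :=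
    AffineSpace.homOfVector (pullback.fst f g) fun i => (pullback.snd f g).appTop ((Scheme.ΓSpecIso B).inv (b i))
  have hp1 : p ≫ AffineSpace.map _ f = pullback.snd f g ≫ ψ := by
    apply AffineSpace.hom_ext
    · simp [p, ψ, pullback.condition]
    · intro i; simp [p, ψ]
  have hsq : IsPullback p (pullback.snd f g) (AffineSpace.map (ULift.{u} (Fin n)) f) ψ := by
    refine IsPullback.of_right ?_ hp1 (AffineSpace.isPullback_map f).flip
    simp only [p, ψ, AffineSpace.homOfVector_over]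
    exact IsPullback.of_hasPullback f g
  let j : Spec (CommRingCat.of (MvPolynomial (ULift.{u} (Fin n)) C)) ⟶ AffineSpace (ULift.{u} (Fin n)) X :=
    (AffineSpace.SpecIso _ C).inv ≫ AffineSpace.map _ hX0.fromSpec
  let χ : MvPolynomial (ULift.{u} (Fin n)) C →+* C ⊗[Γ(S, S0)] B :=
    MvPolynomial.eval₂Hom Algebra.TensorProduct.includeLeftRingHom fun i => 1 ⊗ₜ[Γ(S, S0)] b i
  have hj : e ≫ p = Spec.map (CommRingCat.ofHom χ) ≫ j := by
    apply AffineSpace.hom_ext
    · simp only [p, j, Category.assoc, AffineSpace.homOfVector_over, AffineSpace.map_over,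
        AffineSpace.SpecIso_inv_over_assoc, he1, ← Spec.map_comp_assoc]
      congr 2
      exact CommRingCat.hom_ext (RingHom.ext fun c => (MvPolynomial.eval₂Hom_C _ _ c).symm)
    · intro i
      simp only [Scheme.Hom.comp_appTop, CommRingCat.comp_apply, p, j, AffineSpace.homOfVector_appTop_coord,
        AffineSpace.map_appTop_coord, AffineSpace.SpecIso_inv_appTop_coord]
      rw [← CommRingCat.comp_apply, ← Scheme.Hom.comp_appTop, he2, ← CommRingCat.comp_apply, ← CommRingCat.comp_apply,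
        ← Scheme.ΓSpecIso_inv_naturality, ← Scheme.ΓSpecIso_inv_naturality]
      simp only [CommRingCat.comp_apply]
      refine congrArg _ ?_
      show (1 : C) ⊗ₜ[Γ(S, S0)] b i = χ (MvPolynomial.X i)
      simp [χ]
  let H0 : MvPolynomial (ULift.{u} (Fin n)) C := ∑ i, MvPolynomial.C (c i) * MvPolynomial.X i
  have hH0 : χ H0 = h := by
    simp [χ, H0, hsum, Algebra.TensorProduct.tmul_mul_tmul]
  let U : Set ↥(AffineSpace (ULift.{u} (Fin n)) X) := j '' (PrimeSpectrum.basicOpen H0 : Set (PrimeSpectrum _))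
  haveI : IsOpenImmersion j := by
    haveI : IsOpenImmersion (AffineSpace.map (ULift.{u} (Fin n)) hX0.fromSpec) :=
      MorphismProperty.of_isPullback (P := @IsOpenImmersion) (AffineSpace.isPullback_map hX0.fromSpec).flip inferInstance
    infer_instance
  have hU : IsOpen U := j.isOpenMap _ (PrimeSpectrum.basicOpen H0).2
  refine ⟨ψ ⁻¹' (AffineSpace.map _ f '' U), ?_, ((H n) U hU).preimage ψ.continuous, ?_⟩
  · rintro y hy
    obtain ⟨t, ⟨v, hv, rfl⟩, hty⟩ := hy
    obtain ⟨z', hz1, hz2⟩ := Scheme.exists_preimage_of_isPullback hsq (j v) y hty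
    refine ⟨z', ?_, hz2⟩
    obtain ⟨w', rfl⟩ : z' ∈ Set.range e := by
      rw [her]
      show pullback.fst f g z' ∈ (X0 : Set X)
      have h1 := congrArg (AffineSpace (ULift.{u} (Fin n)) X ↘ X) hz1
      rw [← Scheme.Hom.comp_apply, ← Scheme.Hom.comp_apply] at h1
      simp only [p, j, AffineSpace.homOfVector_over, Category.assoc, AffineSpace.map_over, AffineSpace.SpecIso_inv_over_assoc] at h1
      rw [h1, ← hX0.range_fromSpec, Scheme.Hom.comp_apply]
      exact ⟨_, rfl⟩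
    refine hhW ?_
    have h2 : j (Spec.map (CommRingCat.ofHom χ) w') = j v := by
      rw [← Scheme.Hom.comp_apply, ← hj, Scheme.Hom.comp_apply]; exact hz1
    have h3 := j.isOpenEmbedding.injective h2
    show h ∉ w'.asIdeal
    rw [← hH0]
    have h4 : H0 ∉ (Spec.map (CommRingCat.ofHom χ) w').asIdeal := by rw [h3]; exact hv
    exact h4
  · refine ⟨p z, ⟨Spec.map (CommRingCat.ofHom χ) w, ?_, ?_⟩, ?_⟩
    · show χ H0 ∉ w.asIdeal
      rw [hH0]; exact hwh
    · rw [← Scheme.Hom.comp_apply, ← hj, Scheme.Hom.comp_apply, hw]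
    · rw [← Scheme.Hom.comp_apply, hp1, Scheme.Hom.comp_apply]

theorem universallyOpen_of_affineSpace (H : ∀ n : ℕ, IsOpenMap ⇑(AffineSpace.map (ULift.{u} (Fin n)) f)) :
    UniversallyOpen f := by
  refine ⟨fun P Y' i₁ i₂ f' hc => ?_⟩
  intro W hW
  rw [isOpen_iff_forall_mem_open]
  rintro _ ⟨z, hz, rfl⟩
  obtain ⟨_, ⟨S0, hS0, rfl⟩, hsS0, -⟩ := S.isBasis_affineOpens.exists_subset_of_mem_open (Set.mem_univ (i₂ (f' z))) isOpen_univ
  obtain ⟨_, ⟨Y0, hY0, rfl⟩, hyY0, hY0S : Y0 ≤ i₂ ⁻¹ᵁ S0⟩ :=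
    Y'.isBasis_affineOpens.exists_subset_of_mem_open (show f' z ∈ i₂ ⁻¹ᵁ S0 from hsS0) (i₂ ⁻¹ᵁ S0).2
  let g := Spec.map (i₂.appLE S0 Y0 hY0S) ≫ hS0.fromSpec
  have hg : g = hY0.fromSpec ≫ i₂ := IsAffineOpen.SpecMap_appLE_fromSpec i₂ hS0 hY0 hY0S
  let k : pullback f g ⟶ P := hc.flip.lift (pullback.fst f g) (pullback.snd f g ≫ hY0.fromSpec)
    (by rw [pullback.condition, Category.assoc, hg])
  have hk : k ≫ f' = pullback.snd f g ≫ hY0.fromSpec := hc.flip.lift_snd _ _ _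
  have hopen := isOpenMap_snd_affine f H hS0 (i₂.appLE S0 Y0 hY0S) (k ⁻¹' W) (hW.preimage k.continuous)
  refine ⟨hY0.fromSpec '' (pullback.snd f g '' (k ⁻¹' W)), ?_, hY0.fromSpec.isOpenMap _ hopen, ?_⟩
  · rintro _ ⟨_, ⟨t, ht, rfl⟩, rfl⟩
    exact ⟨k t, ht, by rw [← Scheme.Hom.comp_apply, hk, Scheme.Hom.comp_apply]⟩
  · obtain ⟨y0, hy0⟩ : f' z ∈ Set.range hY0.fromSpec := by rw [hY0.range_fromSpec]; exact hyY0
    have hP : IsPullback k (pullback.snd f g) f' hY0.fromSpec :=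
      IsPullback.of_right (by rw [show k ≫ i₁ = pullback.fst f g from hc.flip.lift_fst _ _ _, ← hg]; exact IsPullback.of_hasPullback f g) hk hc.flip
    obtain ⟨t, ht1, ht2⟩ := Scheme.exists_preimage_of_isPullback hP z y0 hy0.symm
    exact ⟨y0, ⟨t, by show k t ∈ W; exact ht1.symm ▸ hz, ht2⟩, hy0⟩

theorem iff_affineSpace : UniversallyOpen f ↔ ∀ n : ℕ, IsOpenMap ⇑(AffineSpace.map (ULift.{u} (Fin n)) f) :=
  ⟨fun _ n => by
    haveI : UniversallyOpen (AffineSpace.map (ULift.{u} (Fin n)) f) :=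
      MorphismProperty.of_isPullback (P := @UniversallyOpen) (AffineSpace.isPullback_map f).flip ‹_›
    exact (AffineSpace.map (ULift.{u} (Fin n)) f).isOpenMap, universallyOpen_of_affineSpace f⟩

end Groth.Agent.H2UnivOpen
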