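import Mathlib
import Groth.Agent.S7129
import Groth.Agent.S1970
set_option autoImplicit false

/-! A weakly étale algebra over a reduced ring is reduced. -/
namespace Groth.Agent.H2WERed
open TensorProduct
universe u

theorem isReduced_of_pi {ι : Type u} (K : ι → Type u) [∀ i, Field (K i)] (C : Type u) [CommRing C]
    [Algebra (∀ i, K i) C] [Algebra.WeaklyEtale (∀ i, K i) C] : IsReduced C := by
  rw [isReduced_iff_pow_one_lt 2 one_lt_two]
  intro z hz
  haveI : Module.Flat (∀ i, K i) (C ⧸ Ideal.span ({z} : Set C)) := Groth.Agent.S7129.result ι K _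
  haveI : (Ideal.span ({z} : Set C)).Pure := Groth.Agent.S1970.flat_of_we (∀ i, K i) C (C ⧸ Ideal.span ({z} : Set C))
  obtain ⟨y, hy, hzy⟩ := Ideal.exists_eq_mul_of_pure (Ideal.mem_span_singleton_self z)
  obtain ⟨w, rfl⟩ := Ideal.mem_span_singleton'.mp hy
  have h2 : z * z = 0 := by rw [← sq]; exact hz
  linear_combination hzy + w * h2

theorem isReduced_of_weaklyEtale (A B : Type u) [CommRing A] [CommRing B] [Algebra A B] [IsReduced A]
    [Algebra.WeaklyEtale A B] : IsReduced B := by
  let P := ∀ p : PrimeSpectrum A, p.asIdeal.ResidueField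
  have hinj : Function.Injective (Algebra.ofId A P).toLinearMap := by
    rw [injective_iff_map_eq_zero]
    intro a ha
    have hn : a ∈ nilradical A := by
      rw [nilradical_eq_sInf, Submodule.mem_sInf]
      intro p (hp : Ideal.IsPrime p)
      haveI := hp
      have := congrFun ha ⟨p, hp⟩
      exact Ideal.algebraMap_residueField_eq_zero.1 this
    rw [nilradical_eq_zero, Ideal.zero_eq_bot, Ideal.mem_bot] at hn; exact hn
  haveI : Algebra.WeaklyEtale P (P ⊗[A] B) := inferInstance
  haveI : IsReduced (P ⊗[A] B) := isReduced_of_pi (fun p : PrimeSpectrum A => p.asIdeal.ResidueField) (P ⊗[A] B)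
  refine isReduced_of_injective (Algebra.TensorProduct.includeRight : B →ₐ[A] P ⊗[A] B) ?_
  exact Algebra.TensorProduct.includeRight_injective (by exact hinj)

end Groth.Agent.H2WERed

namespace Groth.Agent.H2WERed
open AlgebraicGeometry CategoryTheory Limits TensorProduct
universe u
set_option backward.isDefEq.respectTransparency.types false
set_option linter.style.haveILetI false

theorem weaklyEtale_SpecMap {R S : Type u} [CommRing R] [CommRing S] [Algebra R S] :
    WeaklyEtale (Spec.map (CommRingCat.ofHom (algebraMap R S))) ↔ Algebra.WeaklyEtale R S := by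
  rw [AlgebraicGeometry.weaklyEtale_iff, Flat.SpecMap_iff, diagonal_SpecMap, MorphismProperty.cancel_right_of_respectsIso (P := @Flat), Flat.SpecMap_iff]
  constructor
  · rintro ⟨h1, h2⟩
    haveI : Module.Flat R S := RingHom.flat_algebraMap_iff.1 h1
    exact { flat_lmul' := h2 }
  · intro h
    exact ⟨RingHom.flat_algebraMap_iff.2 inferInstance, Algebra.WeaklyEtale.flat_lmul' R S⟩

theorem appLE_weaklyEtale {X Y : Scheme.{u}} (f : X ⟶ Y) [WeaklyEtale f] {U : Y.Opens} (hU : IsAffineOpen U)
    {V : X.Opens} (hV : IsAffineOpen V) (e : V ≤ f ⁻¹ᵁ U) :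
    letI := (f.appLE U V e).hom.toAlgebra
    Algebra.WeaklyEtale Γ(Y, U) Γ(X, V) := by
  haveI : WeaklyEtale (Spec.map (f.appLE U V e) ≫ hU.fromSpec) := by
    rw [IsAffineOpen.SpecMap_appLE_fromSpec f hU hV e]; infer_instance
  have hw : WeaklyEtale (Spec.map (f.appLE U V e)) := WeaklyEtale.of_comp _ hU.fromSpec
  algebraize [(f.appLE U V e).hom]
  exact weaklyEtale_SpecMap.1 hw

end Groth.Agent.H2WERed
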