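import Mathlib
import Groth.Agent.Lib.H6.Misc
set_option autoImplicit false

/-! Cancellation and descent for weakly étale algebras. -/
namespace Groth.Agent.H2WeakEtale
open TensorProduct
set_option maxHeartbeats 800000
set_option synthInstance.maxHeartbeats 400000
set_option backward.isDefEq.respectTransparency.types false
universe u

/-- Flatness descends along a surjection. -/
theorem flat_of_comp_surjective {R S T : Type u} [CommRing R] [CommRing S] [CommRing T] (f : R →+* S) (g : S →+* T)
    (hf : Function.Surjective f) (h : (g.comp f).Flat) : g.Flat := by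
  algebraize [f, g, g.comp f]
  haveI : Module.Flat R T := h
  let e : S ⊗[R] T ≃ₗ[S] T := LinearEquiv.ofBijective
    (LinearMap.liftBaseChange S (LinearMap.id : T →ₗ[R] T)) ⟨?_, fun t => ⟨1 ⊗ₜ t, by simp⟩⟩
  · exact Module.Flat.of_linearEquiv e.symm
  · have hs : ∀ x : S ⊗[R] T, ∃ t : T, (1 : S) ⊗ₜ[R] t = x := fun x => by
      induction x using TensorProduct.induction_on with
      | zero => exact ⟨0, by simp⟩
      | tmul s t =>
        obtain ⟨r, rfl⟩ := hf s
        exact ⟨r • t, by rw [TensorProduct.tmul_smul, TensorProduct.smul_tmul', Algebra.smul_def, mul_one]; rfl⟩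
      | add x y hx hy =>
        obtain ⟨a, ha⟩ := hx
        obtain ⟨b, hb⟩ := hy
        exact ⟨a + b, by rw [TensorProduct.tmul_add, ha, hb]⟩
    intro x y hxy
    obtain ⟨a, rfl⟩ := hs x
    obtain ⟨b, rfl⟩ := hs y
    simp at hxy
    rw [hxy]

/-- A flat surjection stays a flat surjection after mapping the kernel forward. -/
theorem flat_of_ker_eq_map {R R' S T : Type u} [CommRing R] [CommRing R'] [CommRing S] [CommRing T] (φ : R →+* R')
    (f : R →+* S) (g : R' →+* T) (hfs : Function.Surjective f) (hgs : Function.Surjective g) (hf : f.Flat)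
    (hk : RingHom.ker g = (RingHom.ker f).map φ) : g.Flat := by
  have hq : (Ideal.Quotient.mk (RingHom.ker f)).Flat := by
    have : Ideal.Quotient.mk (RingHom.ker f) = (RingHom.quotientKerEquivOfSurjective hfs).symm.toRingHom.comp f := by
      ext r
      exact ((RingHom.quotientKerEquivOfSurjective hfs).symm_apply_eq.mpr rfl).symm
    rw [this]
    exact hf.comp (.of_bijective (RingEquiv.bijective _))
  algebraize [φ]
  haveI : Module.Flat R (R ⧸ RingHom.ker f) := RingHom.flat_algebraMap_iff.mp (by exact hq)
  haveI : Module.Flat R' (R' ⧸ (RingHom.ker f).map (algebraMap R R')) :=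
    Module.Flat.of_linearEquiv (Algebra.TensorProduct.quotIdealMapEquivTensorQuot R' (RingHom.ker f)).toLinearEquiv
  have hq' : (Ideal.Quotient.mk ((RingHom.ker f).map φ)).Flat := RingHom.flat_algebraMap_iff.mpr this
  let e := (Ideal.quotEquivOfEq hk.symm).trans (RingHom.quotientKerEquivOfSurjective hgs)
  have : g = e.toRingHom.comp (Ideal.Quotient.mk ((RingHom.ker f).map φ)) := by
    ext r
    simp [e, Ideal.quotEquivOfEq_mk]
  rw [this]
  exact hq'.comp (.of_bijective e.bijective)

theorem cancel {A B C : Type u} [CommRing A] [CommRing B] [CommRing C] [Algebra A B] [Algebra A C] [Algebra B C]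
    [IsScalarTower A B C] [Algebra.WeaklyEtale A B] [Algebra.WeaklyEtale A C] : Algebra.WeaklyEtale B C := by
  let μ : B ⊗[A] C →ₐ[B] C := Algebra.TensorProduct.lift (Algebra.ofId B C) (AlgHom.id A C) fun _ _ => Commute.all _ _
  let φ : B ⊗[A] B →ₐ[A] B ⊗[A] C := Algebra.TensorProduct.map (AlgHom.id A B) (IsScalarTower.toAlgHom A B C)
  have hμs : Function.Surjective μ := fun c => ⟨1 ⊗ₜ c, by simp [μ]⟩
  have hls : Function.Surjective (Algebra.TensorProduct.lmul' A (S := B)) := fun b => ⟨b ⊗ₜ 1, by simp⟩
  have hk : RingHom.ker μ.toRingHom = (RingHom.ker (Algebra.TensorProduct.lmul' A (S := B)).toRingHom).map φ.toRingHom := by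
    refine le_antisymm (fun x hx => ?_) ?_
    · have key : ∀ x : B ⊗[A] C, x - 1 ⊗ₜ μ x ∈
          (RingHom.ker (Algebra.TensorProduct.lmul' A (S := B)).toRingHom).map φ.toRingHom := fun x => by
        induction x using TensorProduct.induction_on with
        | zero => simp
        | tmul b c =>
          have : (b ⊗ₜ[A] c - 1 ⊗ₜ μ (b ⊗ₜ c) : B ⊗[A] C) = (1 ⊗ₜ c) * φ.toRingHom (b ⊗ₜ 1 - 1 ⊗ₜ b) := by
            simp [φ, μ, mul_sub, mul_comm]
          rw [this]
          exact Ideal.mul_mem_left _ _ (Ideal.mem_map_of_mem _ (by simp [RingHom.mem_ker]))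
        | add x y hx hy =>
          rw [map_add, TensorProduct.tmul_add, add_sub_add_comm]
          exact Ideal.add_mem _ hx hy
      have h0 : μ x = 0 := hx
      simpa [h0] using key x
    · rw [Ideal.map_le_iff_le_comap]
      have : μ.toRingHom.comp φ.toRingHom = (algebraMap B C).comp (Algebra.TensorProduct.lmul' A (S := B)).toRingHom := by
        exact RingHom.ext fun x => by induction x using TensorProduct.induction_on <;> simp_all [φ, μ]
      intro x hx
      rw [RingHom.mem_ker] at hx
      have := RingHom.congr_fun this x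
      simp only [RingHom.comp_apply, hx, map_zero] at this
      exact this
  have hμ : μ.toRingHom.Flat :=
    flat_of_ker_eq_map φ.toRingHom _ μ.toRingHom hls hμs (Algebra.WeaklyEtale.flat_lmul' A B) hk
  have hBC : (algebraMap B C).Flat := by
    rw [← μ.comp_algebraMap]
    exact RingHom.Flat.comp (RingHom.flat_algebraMap_iff.mpr inferInstance) hμ
  haveI : Module.Flat B C := RingHom.flat_algebraMap_iff.mp hBC
  refine ⟨inferInstance, ?_⟩
  let ψ : C ⊗[A] C →ₐ[A] C ⊗[B] C := Algebra.TensorProduct.lift
    ((Algebra.TensorProduct.includeLeft (R := B) (S := B) (A := C) (B := C)).restrictScalars A)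
    ((Algebra.TensorProduct.includeRight (R := B) (A := C) (B := C)).restrictScalars A) fun _ _ => Commute.all _ _
  refine flat_of_comp_surjective ψ.toRingHom _ (fun x => ?_) ?_
  · induction x using TensorProduct.induction_on with
    | zero => exact ⟨0, map_zero _⟩
    | tmul c d => exact ⟨c ⊗ₜ d, by simp [ψ]⟩
    | add x y hx hy =>
      obtain ⟨a, ha⟩ := hx
      obtain ⟨b, hb⟩ := hy
      exact ⟨a + b, by rw [map_add, ha, hb]⟩
  · convert Algebra.WeaklyEtale.flat_lmul' A C
    exact RingHom.ext fun x => by induction x using TensorProduct.induction_on <;> simp_all [ψ]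

theorem descend {A B C : Type u} [CommRing A] [CommRing B] [CommRing C] [Algebra A B] [Algebra A C] [Algebra B C]
    [IsScalarTower A B C] [Module.FaithfullyFlat B C] [Algebra.WeaklyEtale A C] : Algebra.WeaklyEtale A B := by
  haveI : Module.Flat A B := H6.flat_descend (B := C)
  refine ⟨inferInstance, ?_⟩
  let φ : B ⊗[A] B →ₐ[A] C ⊗[A] C := Algebra.TensorProduct.map (IsScalarTower.toAlgHom A B C) (IsScalarTower.toAlgHom A B C)
  have hi : (IsScalarTower.toAlgHom A B C).toRingHom.Flat := RingHom.flat_algebraMap_iff.mpr inferInstance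
  have hφ : φ.toRingHom.Flat := RingHom.Flat.tensorProductMap hi hi
  have h := RingHom.Flat.comp hφ (Algebra.WeaklyEtale.flat_lmul' A C)
  have he : (Algebra.TensorProduct.lmul' A (S := C)).toRingHom.comp φ.toRingHom =
      (algebraMap B C).comp (Algebra.TensorProduct.lmul' A (S := B)).toRingHom := by
    exact RingHom.ext fun x => by induction x using TensorProduct.induction_on <;> simp_all [φ]
  replace h : ((algebraMap B C).comp (Algebra.TensorProduct.lmul' A (S := B)).toRingHom).Flat := he ▸ h
  algebraize [(Algebra.TensorProduct.lmul' A (S := B)).toRingHom, (algebraMap B C).comp (Algebra.TensorProduct.lmul' A (S := B)).toRingHom]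
  haveI : Module.Flat (B ⊗[A] B) C := h
  exact H6.flat_descend (B := C)

end Groth.Agent.H2WeakEtale
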