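import Mathlib
import Groth.Agent.Lib.H2WeakEtale
import Groth.Agent.Lib.H2WERed
set_option autoImplicit false

/-! Weakly étale algebras and localisation. -/
namespace Groth.Agent.H2WELoc
open TensorProduct
universe u
set_option backward.isDefEq.respectTransparency.types false
set_option maxHeartbeats 800000
set_option synthInstance.maxHeartbeats 400000

theorem we_loc (A : Type u) [CommRing A] (S : Submonoid A) (A' : Type u) [CommRing A'] [Algebra A A'] [IsLocalization S A'] :
    Algebra.WeaklyEtale A A' := by
  haveI := IsLocalization.flat A' S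
  exact { flat_lmul' := RingHom.Flat.of_bijective (IsLocalization.bijective_linearMap_mul' S A') }

theorem we_loc_loc (A B : Type u) [CommRing A] [CommRing B] [Algebra A B] [Algebra.WeaklyEtale A B]
    (S : Submonoid A) (A' : Type u) [CommRing A'] [Algebra A A'] [IsLocalization S A']
    (T : Submonoid B) (B' : Type u) [CommRing B'] [Algebra B B'] [IsLocalization T B'] [Algebra A B'] [IsScalarTower A B B']
    [Algebra A' B'] [IsScalarTower A A' B'] : Algebra.WeaklyEtale A' B' := by
  haveI := we_loc B T B'
  haveI := we_loc A S A'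
  haveI : Algebra.WeaklyEtale A B' := Algebra.WeaklyEtale.trans A B B'
  exact Groth.Agent.H2WeakEtale.cancel (A := A) (B := A') (C := B')

theorem we_of_localizations (A B : Type u) [CommRing A] [CommRing B] [Algebra A B] (Bp : ∀ (P : Ideal B) [P.IsMaximal], Type u)
    [∀ (P : Ideal B) [P.IsMaximal], CommRing (Bp P)] [∀ (P : Ideal B) [P.IsMaximal], Algebra B (Bp P)]
    [∀ (P : Ideal B) [P.IsMaximal], Algebra A (Bp P)] [∀ (P : Ideal B) [P.IsMaximal], IsScalarTower A B (Bp P)]
    [∀ (P : Ideal B) [P.IsMaximal], IsLocalization.AtPrime (Bp P) P]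
    (h : ∀ (P : Ideal B) [P.IsMaximal], Algebra.WeaklyEtale A (Bp P)) : Algebra.WeaklyEtale A B := by
  haveI : Module.Flat A B := Module.flat_of_isLocalized_maximal B B (fun P => Bp P)
    (fun P => Algebra.linearMap B _) fun P hP => (h P).flat
  refine { flat_lmul' := ?_ }
  algebraize_only [(Algebra.TensorProduct.lmul' A (S := B)).toRingHom]
  show Module.Flat (B ⊗[A] B) B
  letI : ∀ (P : Ideal B) [P.IsMaximal], Algebra (B ⊗[A] B) (Bp P) :=
    fun P _ => ((algebraMap B (Bp P)).comp (algebraMap (B ⊗[A] B) B)).toAlgebra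
  haveI : ∀ (P : Ideal B) [P.IsMaximal], IsScalarTower (B ⊗[A] B) B (Bp P) :=
    fun P _ => IsScalarTower.of_algebraMap_eq' rfl
  refine Module.flat_of_isLocalized_maximal B B (fun P => Bp P) (fun P => Algebra.linearMap B _) fun P hP => ?_
  haveI := h P
  rw [← RingHom.flat_algebraMap_iff]
  have hf : (IsScalarTower.toAlgHom A B (Bp P)).toRingHom.Flat := RingHom.flat_algebraMap_iff.2 (IsLocalization.flat _ P.primeCompl)
  have e : algebraMap (B ⊗[A] B) (Bp P) = (Algebra.TensorProduct.lmul' A (S := Bp P)).toRingHom.comp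
      (Algebra.TensorProduct.map (IsScalarTower.toAlgHom A B (Bp P)) (IsScalarTower.toAlgHom A B (Bp P))).toRingHom := by
    refine RingHom.ext fun x => ?_
    show algebraMap B (Bp P) (Algebra.TensorProduct.lmul' A x) = _
    induction x using TensorProduct.induction_on <;> simp_all
  rw [e]
  exact RingHom.Flat.comp (RingHom.Flat.tensorProductMap hf hf) (Algebra.WeaklyEtale.flat_lmul' A (Bp P))

end Groth.Agent.H2WELoc
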