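import Mathlib
import Groth.Prelude.Def_PBC
import Groth.Agent.Lib.H2WELoc
set_option autoImplicit false

/-! Products of weakly étale algebras. -/
namespace Groth.Agent.H2WEProd
universe u
set_option maxHeartbeats 800000
set_option synthInstance.maxHeartbeats 400000

theorem we_away (A B C : Type u) [CommRing A] [CommRing B] [CommRing C] [Algebra A B] [Algebra B C] [Algebra A C]
    [IsScalarTower A B C] (e : B) [IsLocalization.Away e C] [Algebra.WeaklyEtale A C] (P : Ideal B) [P.IsPrime] (he : e ∉ P)
    (L : Type u) [CommRing L] [Algebra B L] [Algebra A L] [IsScalarTower A B L] [IsLocalization.AtPrime L P] :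
    Algebra.WeaklyEtale A L := by
  have hu : IsUnit (algebraMap B L e) := IsLocalization.map_units L (⟨e, he⟩ : P.primeCompl)
  letI : Algebra C L := (IsLocalization.Away.lift e hu).toAlgebra
  haveI : IsScalarTower B C L := IsScalarTower.of_algebraMap_eq fun x => (IsLocalization.Away.lift_eq e hu x).symm
  haveI : IsScalarTower A C L := IsScalarTower.of_algebraMap_eq fun x => by
    rw [IsScalarTower.algebraMap_apply A B C, ← IsScalarTower.algebraMap_apply B C L, ← IsScalarTower.algebraMap_apply A B L]
  haveI : IsLocalization (P.primeCompl.map (algebraMap B C)) L :=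
    IsLocalization.isLocalization_of_submonoid_le C L (Submonoid.powers e) P.primeCompl (by
      rintro _ ⟨n, rfl⟩; exact fun h => he (‹P.IsPrime›.mem_of_pow_mem n h))
  haveI := Groth.Agent.H2WELoc.we_loc C (P.primeCompl.map (algebraMap B C)) L
  exact Algebra.WeaklyEtale.trans A C L

theorem we_prod (A C D : Type u) [CommRing A] [CommRing C] [CommRing D] [Algebra A C] [Algebra A D]
    [Algebra.WeaklyEtale A C] [Algebra.WeaklyEtale A D] : Algebra.WeaklyEtale A (C × D) := by
  refine Groth.Agent.H2WELoc.we_of_localizations A (C × D) (fun P => Localization.AtPrime P) fun P hP => ?_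
  by_cases h : ((1, 0) : C × D) ∈ P
  · letI : Algebra (C × D) D := (RingHom.snd C D).toAlgebra
    haveI : IsScalarTower A (C × D) D := IsScalarTower.of_algebraMap_eq' rfl
    haveI : IsLocalization.Away ((0, 1) : C × D) D := IsLocalization.away_of_isIdempotentElem (by simp [IsIdempotentElem])
      (by
        ext ⟨c, d⟩
        simp only [RingHom.mem_ker, Ideal.mem_span_singleton']
        exact ⟨fun (hd : d = 0) => ⟨(c, 0), by simp [hd, Prod.ext_iff]⟩, fun ⟨⟨a, b⟩, hab⟩ => by
          have := congrArg Prod.snd hab
          simp at this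
          exact this.symm⟩) Prod.snd_surjective
    exact we_away A (C × D) D (0, 1) P (fun h' => hP.ne_top ((Ideal.eq_top_iff_one _).2 (by
      have h2 := P.add_mem h h'; simp only [Prod.mk_add_mk, add_zero, zero_add] at h2; exact h2))) _
  · letI : Algebra (C × D) C := (RingHom.fst C D).toAlgebra
    haveI : IsScalarTower A (C × D) C := IsScalarTower.of_algebraMap_eq' rfl
    haveI : IsLocalization.Away ((1, 0) : C × D) C := IsLocalization.away_of_isIdempotentElem (by simp [IsIdempotentElem])
      (by
        ext ⟨c, d⟩
        simp only [RingHom.mem_ker, Ideal.mem_span_singleton']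
        exact ⟨fun (hc : c = 0) => ⟨(0, d), by simp [hc, Prod.ext_iff]⟩, fun ⟨⟨a, b⟩, hab⟩ => by
          have := congrArg Prod.fst hab
          simp at this
          exact this.symm⟩) Prod.fst_surjective
    exact we_away A (C × D) C (1, 0) P h _

theorem exists_cover (A : Type u) [CommRing A] (E : Finset A) : ∃ (D : Type u) (_ : CommRing D) (_ : Algebra A D),
    Algebra.WeaklyEtale A D ∧ (∀ p : PrimeSpectrum A, (∃ x ∈ E, x ∉ p.asIdeal) → p ∈ Set.range (PrimeSpectrum.comap (algebraMap A D))) ∧
    (1 : D) ∈ (Ideal.span (E : Set A)).map (algebraMap A D) := by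
  classical
  induction E using Finset.induction with
  | empty =>
    let D := A ⧸ (⊤ : Ideal A)
    haveI : Subsingleton D := Ideal.Quotient.subsingleton_iff.2 rfl
    refine ⟨D, inferInstance, inferInstance, ?_, fun p hp => by simpa using hp, ?_⟩
    · haveI : Module.Flat A D := inferInstance
      haveI : Subsingleton (TensorProduct A D D) := inferInstance
      exact { flat_lmul' := RingHom.Flat.of_bijective ⟨fun x y _ => Subsingleton.elim _ _, fun x => ⟨0, Subsingleton.elim _ _⟩⟩ }
    · rw [Subsingleton.elim (1 : D) 0]; exact Submodule.zero_mem _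
  | insert x E hx ih =>
    obtain ⟨D, _, _, hD, hr, h1⟩ := ih
    haveI := Groth.Agent.H2WELoc.we_loc A (Submonoid.powers x) (Localization.Away x)
    refine ⟨Localization.Away x × D, inferInstance, inferInstance, we_prod A _ D, ?_, ?_⟩
    · rintro p ⟨y, hy, hyp⟩
      rcases Finset.mem_insert.1 hy with rfl | hy
      · have : p ∈ Set.range (PrimeSpectrum.comap (algebraMap A (Localization.Away y))) := by
          rw [PrimeSpectrum.localization_away_comap_range (Localization.Away y) y]; exact hyp
        obtain ⟨q, rfl⟩ := this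
        exact ⟨PrimeSpectrum.comap (RingHom.fst (Localization.Away y) D) q, rfl⟩
      · obtain ⟨q, rfl⟩ := hr p ⟨y, hy, hyp⟩
        exact ⟨PrimeSpectrum.comap (RingHom.snd (Localization.Away x) D) q, rfl⟩
    · obtain ⟨u, hu⟩ := (IsLocalization.Away.algebraMap_isUnit (S := Localization.Away x) x).exists_right_inv
      have ha : ((1, 0) : Localization.Away x × D) ∈ (Ideal.span ((insert x E : Finset A) : Set A)).map (algebraMap A (Localization.Away x × D)) := by
        have : ((1, 0) : Localization.Away x × D) = (u, 0) * algebraMap A _ x := by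
          rw [Prod.algebraMap_apply]; simp [mul_comm u, hu]
        rw [this]
        exact Ideal.mul_mem_left _ _ (Ideal.mem_map_of_mem _ (Ideal.subset_span (by simp)))
      have hb : ∀ d ∈ (Ideal.span (E : Set A)).map (algebraMap A D), ((0, d) : Localization.Away x × D) ∈ (Ideal.span ((insert x E : Finset A) : Set A)).map (algebraMap A (Localization.Away x × D)) := by
        intro d hd
        induction hd using Submodule.span_induction with
        | mem d hd =>
          obtain ⟨a, ha, rfl⟩ := hd
          have : ((0, algebraMap A D a) : Localization.Away x × D) = (0, 1) * algebraMap A _ a := by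
            rw [Prod.algebraMap_apply]; simp
          rw [this]
          exact Ideal.mul_mem_left _ _ (Ideal.mem_map_of_mem _ (Ideal.span_mono (by simp) ha))
        | zero => exact Submodule.zero_mem _
        | add a b _ _ h1 h2 => simpa using Submodule.add_mem _ h1 h2
        | smul c a _ h1 => simpa using Ideal.mul_mem_left _ ((0, c) : Localization.Away x × D) h1
      simpa [Prod.one_eq_mk] using Submodule.add_mem _ ha (hb 1 h1)

theorem retraction (A B C : Type u) [CommRing A] [CommRing B] [CommRing C] [Algebra A B] [Algebra A C]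
    [Algebra B C] [IsScalarTower A B C] (S : Submonoid A) [IsLocalization S B] (E : Finset A)
    (hB : Set.range (PrimeSpectrum.comap (algebraMap A B)) = {x | ∃ z : PrimeSpectrum A, z ∈ PrimeSpectrum.zeroLocus (R := A) (E : Set A) ∧ x ⤳ z})
    (hA : EtPBC.IsWContractible A) [Algebra.WeaklyEtale A C] [Module.FaithfullyFlat B C] : Nonempty (C →ₐ[B] B) := by
  obtain ⟨D, _, _, hD, hr, h1⟩ := exists_cover A E
  haveI := hD
  haveI := we_prod A C D
  haveI : Module.FaithfullyFlat A (C × D) := Module.FaithfullyFlat.of_comap_surjective fun p => by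
    by_cases hp : ∃ x ∈ E, x ∉ p.asIdeal
    · obtain ⟨q, rfl⟩ := hr p hp
      exact ⟨PrimeSpectrum.comap (RingHom.snd C D) q, rfl⟩
    · push Not at hp
      have : p ∈ Set.range (PrimeSpectrum.comap (algebraMap A B)) := by
        rw [hB]; exact ⟨p, fun x hx => hp x hx, specializes_rfl⟩
      obtain ⟨q, rfl⟩ := this
      obtain ⟨r, rfl⟩ := PrimeSpectrum.comap_surjective_of_faithfullyFlat (A := B) (B := C) q
      refine ⟨PrimeSpectrum.comap (RingHom.fst C D) r, ?_⟩
      ext a
      show (algebraMap A (C × D) a).1 ∈ r.asIdeal ↔ algebraMap B C (algebraMap A B a) ∈ r.asIdeal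
      rw [← IsScalarTower.algebraMap_apply A B C, Prod.algebraMap_apply]
  obtain ⟨r⟩ := hA (C × D) inferInstance inferInstance
  let φ : C × D →ₐ[A] B := (Algebra.ofId A B).comp r
  have he : φ (0, 1) = 0 := by
    have hid : IsIdempotentElem (φ (0, 1)) := by
      show φ (0, 1) * φ (0, 1) = φ (0, 1)
      rw [← map_mul]; simp
    by_contra hne
    have hj : φ (0, 1) ∉ (⊥ : Ideal B).jacobson := fun hj => hne (by
      have hu : IsUnit (1 - φ (0, 1)) := by
        have := Ideal.mem_jacobson_bot.1 hj (-1)
        rwa [mul_neg, mul_one, neg_add_eq_sub] at this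
      obtain ⟨v, hv⟩ := hu.exists_right_inv
      calc φ (0, 1) = φ (0, 1) * ((1 - φ (0, 1)) * v) := by rw [hv, mul_one]
        _ = 0 := by rw [← mul_assoc, mul_sub, mul_one, hid.eq, sub_self, zero_mul])
    obtain ⟨M, hM, hφM⟩ : ∃ M : Ideal B, M.IsMaximal ∧ φ (0, 1) ∉ M := by
      by_contra hall
      push Not at hall
      exact hj (Ideal.mem_sInf.2 fun {M} hM => hall M hM.2)
    have hz : PrimeSpectrum.comap (algebraMap A B) ⟨M, hM.isPrime⟩ ∈ PrimeSpectrum.zeroLocus (E : Set A) := by
      have hmem : PrimeSpectrum.comap (algebraMap A B) ⟨M, hM.isPrime⟩ ∈ Set.range (PrimeSpectrum.comap (algebraMap A B)) := ⟨_, rfl⟩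
      rw [hB] at hmem
      obtain ⟨z, hz, hs⟩ := hmem
      have hzr : z ∈ Set.range (PrimeSpectrum.comap (algebraMap A B)) := by rw [hB]; exact ⟨z, hz, specializes_rfl⟩
      obtain ⟨q, rfl⟩ := hzr
      have hle : M ≤ q.asIdeal := fun b hb => by
        have hc : Ideal.comap (algebraMap A B) M ≤ Ideal.comap (algebraMap A B) q.asIdeal :=
          (PrimeSpectrum.le_iff_specializes _ _).2 hs
        rw [← IsLocalization.map_comap S B M] at hb
        exact (Ideal.map_le_iff_le_comap.2 hc) hb
      have hq : (⟨M, hM.isPrime⟩ : PrimeSpectrum B) = q := PrimeSpectrum.ext (hM.eq_of_le q.isPrime.ne_top hle)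
      rw [hq]; exact hz
    have key : ∀ d ∈ (Ideal.span (E : Set A)).map (algebraMap A D), φ (0, d) ∈ M := by
      intro d hd
      induction hd using Submodule.span_induction with
      | mem d hd =>
        obtain ⟨a, ha, rfl⟩ := hd
        have : ((0, algebraMap A D a) : C × D) = (0, 1) * algebraMap A (C × D) a := by
          rw [Prod.algebraMap_apply]; simp
        rw [this, map_mul, AlgHom.commutes]
        exact M.mul_mem_left _ ((Ideal.span_le.2 hz) ha)
      | zero => rw [Prod.mk_zero_zero, map_zero]; exact M.zero_mem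
      | add a b _ _ h1 h2 =>
        rw [show ((0, a + b) : C × D) = (0, a) + (0, b) by simp, map_add]
        exact M.add_mem h1 h2
      | smul c a _ h1 =>
        rw [show ((0, c • a) : C × D) = (0, c) * (0, a) by simp, map_mul]
        exact M.mul_mem_left _ h1
    exact hφM (key 1 h1)
  have he1 : φ (1, 0) = 1 := by
    rw [← map_one φ, show (1 : C × D) = (1, 0) + (0, 1) by simp [Prod.ext_iff], map_add, he, add_zero]
  let ψ : C →+* B :=
    { toFun := fun c => φ (c, 0)
      map_one' := he1
      map_mul' := fun a b => by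
        show φ (a * b, 0) = φ (a, 0) * φ (b, 0)
        rw [← map_mul]; simp
      map_zero' := by rw [Prod.mk_zero_zero, map_zero]
      map_add' := fun a b => by
        show φ (a + b, 0) = φ (a, 0) + φ (b, 0)
        rw [← map_add]; simp }
  have hcomm : ψ.comp (algebraMap B C) = RingHom.id B := by
    refine IsLocalization.ringHom_ext S (RingHom.ext fun a => ?_)
    show φ (algebraMap B C (algebraMap A B a), 0) = algebraMap A B a
    rw [← IsScalarTower.algebraMap_apply A B C, show ((algebraMap A C a, 0) : C × D) = (1, 0) * algebraMap A (C × D) a by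
      rw [Prod.algebraMap_apply]; simp, map_mul, AlgHom.commutes, he1, one_mul]
  exact ⟨{ ψ with commutes' := fun b => RingHom.congr_fun hcomm b }⟩

end Groth.Agent.H2WEProd
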