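import Mathlib
import Groth.Prelude.Def_MoreMor
import Groth.Agent.Lib.H2Weight
import Groth.Agent.Lib.H2WeightSplit
import Groth.Agent.Lib.H2WeightMain
import Groth.Agent.Lib.H2WeightApps

/-! The product weighting of a composition. -/

universe u

open CategoryTheory Limits AlgebraicGeometry

namespace Groth.Agent.H2Weight

/-- the fibre integral along a composition. -/
theorem fibreIntegral_comp {T W V : Scheme.{u}} (a : T ⟶ W) (b : W ⟶ V) [IsFinite a] [IsFinite b]
    (k : T → ℤ) (l : W → ℤ) (v : V) :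
    MoreMor.fibreIntegral (a ≫ b) (fun t => k t * l (a t)) v =
      MoreMor.fibreIntegral b (fun r => MoreMor.fibreIntegral a k r * l r) v := by
  classical
  obtain ⟨K, _, _, ξ, rfl⟩ := exists_geomPoint v
  haveI := finite_lifts (a ≫ b) ξ (finite_fibre _ _)
  haveI := finite_lifts b ξ (finite_fibre _ _)
  haveI := fun r : Lifts b ξ => finite_lifts a r.1 (finite_fibre _ _)
  letI := Fintype.ofFinite (Lifts (a ≫ b) ξ)
  letI := Fintype.ofFinite (Lifts b ξ)
  letI := fun r : Lifts b ξ => Fintype.ofFinite (Lifts a r.1)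
  rw [fibreIntegral_eq (a ≫ b) _ ξ (finite_fibre _ _), fibreIntegral_eq b _ ξ (finite_fibre _ _),
    finsum_eq_sum_of_fintype, finsum_eq_sum_of_fintype]
  let e : (Σ r : Lifts b ξ, Lifts a r.1) ≃ Lifts (a ≫ b) ξ :=
    { toFun := fun x => ⟨x.2.1, by rw [← Category.assoc, x.2.2, x.1.2]⟩
      invFun := fun p => ⟨⟨p.1 ≫ a, (Category.assoc _ _ _).trans p.2⟩, ⟨p.1, rfl⟩⟩
      left_inv := by rintro ⟨⟨r, hr⟩, ⟨t, ht⟩⟩; cases ht; rfl
      right_inv := fun p => rfl }
  rw [← e.sum_comp, Fintype.sum_sigma]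
  refine Finset.sum_congr rfl fun r _ => ?_
  rw [fibreIntegral_eq a k r.1 (finite_fibre _ _), finsum_eq_sum_of_fintype, Finset.sum_mul]
  refine Finset.sum_congr rfl fun x _ => ?_
  show k (pt x.1) * l (a (pt x.1)) = k (pt x.1) * l (pt r.1)
  congr 2
  rw [← Scheme.Hom.comp_apply, x.2]

theorem fibreIntegral_iso {T U V : Scheme.{u}} (e : T ⟶ U) [IsIso e] (π : U ⟶ V) [LocallyQuasiFinite π] (k : U → ℤ) (v : V)
    (hfin : (π ⁻¹' {v}).Finite) : MoreMor.fibreIntegral (e ≫ π) (k ∘ ⇑e) v = MoreMor.fibreIntegral π k v :=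
  fibreIntegral_baseChange π (π' := e ≫ π) (h := e) (g := 𝟙 V) (IsPullback.of_horiz_isIso ⟨by simp⟩) k v hfin

theorem isWeighting_comp {X Y Z : Scheme.{u}} (f : X ⟶ Y) (g : Y ⟶ Z) [LocallyQuasiFinite f] [LocallyOfFiniteType f]
    [LocallyQuasiFinite g] [LocallyOfFiniteType g] (wf : X → ℤ) (wg : Y → ℤ) (hf : MoreMor.IsWeighting f wf)
    (hg : MoreMor.IsWeighting g wg) : MoreMor.IsWeighting (f ≫ g) (fun x => wf x * wg (f x)) := by
  intro V0 g0 _ U0 hU0
  haveI := hU0
  refine isLocallyConstant_of_pieces (f ≫ g) (fun x => wf x * wg (f x)) (fun Vi gi _ Wi hWfin vi hu => ?_) g0 U0.ι _ rfl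
  haveI := hWfin
  let π := Wi.ι ≫ pullback.snd (f ≫ g) gi
  let kU : ↥(Wi : Scheme.{u}) → ℤ := fun u => wf (pullback.fst (f ≫ g) gi (Wi.ι u)) * wg (f (pullback.fst (f ≫ g) gi (Wi.ι u)))
  rcases em (vi ∈ Set.range π) with ⟨u0, hu0⟩ | hnot
  swap
  · have h0 : ∀ v, v ∉ Set.range π → MoreMor.fibreIntegral π kU v = 0 := fun v hv => by
      haveI : IsEmpty {u : (Wi : Scheme.{u}) // π u = v} := ⟨fun u => hv ⟨u.1, u.2⟩⟩
      rw [MoreMor.fibreIntegral, finsum_of_isEmpty]
    exact ⟨⟨(Set.range π)ᶜ, π.isClosedMap.isClosed_range.isOpen_compl⟩, hnot,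
      fun v hv => (h0 v hv).trans (h0 vi hnot).symm⟩
  obtain ⟨K, _, _, p, hp⟩ := exists_geomPoint u0
  -- `Y` over `Vi`
  let YV := pullback g gi
  let gV : YV ⟶ Vi := pullback.snd g gi
  haveI : LocallyQuasiFinite gV := MorphismProperty.of_isPullback (P := @LocallyQuasiFinite) (IsPullback.of_hasPullback g gi) ‹_›
  haveI : LocallyOfFiniteType gV := MorphismProperty.of_isPullback (P := @LocallyOfFiniteType) (IsPullback.of_hasPullback g gi) ‹_›
  have hgV : MoreMor.IsWeighting gV (wg ∘ ⇑(pullback.fst g gi)) :=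
    isWeighting_baseChange g wg hg gV (pullback.fst g gi) gi (IsPullback.of_hasPullback g gi)
  let m : (Wi : Scheme.{u}) ⟶ YV := pullback.lift (Wi.ι ≫ pullback.fst (f ≫ g) gi ≫ f) π (by
    simp only [π, Category.assoc]; rw [pullback.condition])
  have hm : m ≫ gV = π := pullback.lift_snd _ _ _
  obtain ⟨V2, g2, hg2, W2, q, hq, hW2fin, hW2u⟩ := exists_piece gV (p ≫ m)
  haveI := hW2fin
  let π2 := W2.ι ≫ pullback.snd gV g2
  let U2 := pullback π g2
  let π2U : U2 ⟶ V2 := pullback.snd _ _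
  haveI : IsFinite π2U := MorphismProperty.of_isPullback (P := @IsFinite) (IsPullback.of_hasPullback π g2) hWfin
  let m2 : U2 ⟶ pullback gV g2 := pullback.lift (pullback.fst _ _ ≫ m) π2U (by rw [Category.assoc, hm, pullback.condition])
  let C : Set U2 := (m2 ⁻¹' Set.range W2.ι)ᶜ
  have hC : IsClosed C := (W2.ι.isOpenEmbedding.isOpen_range.preimage m2.continuous).isClosed_compl
  let O : V2.Opens := ⟨(π2U '' C)ᶜ, (π2U.isClosedMap C hC).isOpen_compl⟩
  have hgv : g2 (pt (q ≫ π2)) = vi := by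
    rw [← Scheme.Hom.comp_apply, Category.assoc, Category.assoc, ← pullback.condition, reassoc_of% hq, hm]
    rw [Scheme.Hom.comp_apply, ← hu0, ← hp]
  let p2 : Spec (CommRingCat.of K) ⟶ U2 := pullback.lift p (q ≫ π2) (by
    simp only [π2, Category.assoc]; rw [← pullback.condition, reassoc_of% hq, hm])
  have hp2 : p2 ≫ m2 = q ≫ W2.ι := by
    apply pullback.hom_ext
    · rw [Category.assoc, pullback.lift_fst, pullback.lift_fst_assoc, Category.assoc, hq]
    · rw [Category.assoc, pullback.lift_snd, pullback.lift_snd, Category.assoc]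
  have hU2u : UniqueLift π2U (pt (q ≫ π2)) := hu.baseChange (IsPullback.of_hasPullback π g2) _ hgv
  have hOmem : pt (q ≫ π2) ∈ O := by
    rintro ⟨z, hz, hzv⟩
    have h1 : π2U (pt p2) = pt (q ≫ π2) := by rw [← Scheme.Hom.comp_apply, pullback.lift_snd]
    rw [hU2u.eq_point hzv h1] at hz
    exact hz ⟨pt q, by rw [← Scheme.Hom.comp_apply, ← Scheme.Hom.comp_apply, hp2]⟩
  -- over `O`
  let h3 : (O : Scheme.{u}) ⟶ Vi := O.ι ≫ g2
  let W3 := pullback π2 O.ι
  let πW3 : W3 ⟶ (O : Scheme.{u}) := pullback.snd _ _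
  haveI : IsFinite πW3 := MorphismProperty.of_isPullback (P := @IsFinite) (IsPullback.of_hasPullback π2 O.ι) hW2fin
  let UO := pullback π h3
  let πU3 : UO ⟶ (O : Scheme.{u}) := pullback.snd _ _
  haveI : IsFinite πU3 := MorphismProperty.of_isPullback (P := @IsFinite) (IsPullback.of_hasPullback π h3) hWfin
  let toU2 : UO ⟶ U2 := pullback.lift (pullback.fst _ _) (πU3 ≫ O.ι) (by rw [Category.assoc]; exact pullback.condition)
  have hsub : Set.range (toU2 ≫ m2) ⊆ Set.range W2.ι := by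
    rintro _ ⟨z, rfl⟩
    by_contra hz
    refine (πU3 z).2 ⟨toU2 z, hz, ?_⟩
    show (toU2 ≫ π2U) z = (πU3 ≫ O.ι) z
    rw [pullback.lift_snd]
  let l : UO ⟶ (W2 : Scheme.{u}) := IsOpenImmersion.lift W2.ι (toU2 ≫ m2) hsub
  have hl : l ≫ W2.ι = toU2 ≫ m2 := IsOpenImmersion.lift_fac _ _ _
  let m3 : UO ⟶ W3 := pullback.lift l πU3 (by
    show l ≫ W2.ι ≫ pullback.snd gV g2 = _
    rw [reassoc_of% hl, pullback.lift_snd, pullback.lift_snd])
  let w3 : W3 ⟶ YV := pullback.fst π2 O.ι ≫ W2.ι ≫ pullback.fst gV g2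
  have hm3w : m3 ≫ w3 = pullback.fst π h3 ≫ m := by
    show m3 ≫ pullback.fst π2 O.ι ≫ W2.ι ≫ pullback.fst gV g2 = _
    rw [pullback.lift_fst_assoc, reassoc_of% hl, pullback.lift_fst, pullback.lift_fst_assoc]
  -- the open immersion into `X ×_Y W3`
  have hXP : IsPullback (pullback.fst (f ≫ g) gi) (pullback.lift (pullback.fst (f ≫ g) gi ≫ f) (pullback.snd _ _) (by
      rw [Category.assoc, pullback.condition]) : pullback (f ≫ g) gi ⟶ YV) f (pullback.fst g gi) :=
    IsPullback.of_bot (by rw [pullback.lift_snd]; exact IsPullback.of_hasPullback (f ≫ g) gi)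
      (pullback.lift_fst _ _ _).symm (IsPullback.of_hasPullback g gi)
  let a : (Wi : Scheme.{u}) ⟶ pullback f (pullback.fst g gi) := Wi.ι ≫ hXP.isoPullback.hom
  have ha : a ≫ pullback.snd f (pullback.fst g gi) = m := by
    rw [Category.assoc, hXP.isoPullback_hom_snd]
    apply pullback.hom_ext
    · rw [Category.assoc, pullback.lift_fst, pullback.lift_fst]
    · rw [Category.assoc, pullback.lift_snd, pullback.lift_snd]
  have haf : a ≫ pullback.fst f (pullback.fst g gi) = Wi.ι ≫ pullback.fst (f ≫ g) gi := by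
    rw [Category.assoc, hXP.isoPullback_hom_fst]
  -- `UO` is the pullback of `m` along `w3`
  let T := pullback m w3
  let eT : UO ⟶ T := pullback.lift (pullback.fst _ _) m3 hm3w.symm
  let eT' : T ⟶ UO := pullback.lift (pullback.fst m w3) (pullback.snd m w3 ≫ πW3) (by
    show pullback.fst m w3 ≫ π = (pullback.snd m w3 ≫ πW3) ≫ O.ι ≫ g2
    rw [← hm, ← Category.assoc, pullback.condition]
    simp only [w3, πW3, Category.assoc]
    rw [pullback.condition, ← pullback.condition_assoc (f := π2) (g := O.ι)]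
    simp only [π2, Category.assoc])
  have hTT' : eT ≫ eT' = 𝟙 UO := by
    apply pullback.hom_ext
    · rw [Category.assoc, pullback.lift_fst, pullback.lift_fst, Category.id_comp]
    · rw [Category.assoc, pullback.lift_snd, pullback.lift_snd_assoc, pullback.lift_snd, Category.id_comp]
  have hT'T : eT' ≫ eT = 𝟙 T := by
    apply pullback.hom_ext
    · rw [Category.assoc, pullback.lift_fst, pullback.lift_fst, Category.id_comp]
    · rw [Category.assoc, pullback.lift_snd, Category.id_comp]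
      apply pullback.hom_ext
      · rw [Category.assoc, pullback.lift_fst, ← cancel_mono W2.ι, Category.assoc, hl, Category.assoc]
        apply pullback.hom_ext
        · simp only [Category.assoc, m2, toU2, pullback.lift_fst, pullback.lift_fst_assoc, eT']
          exact pullback.condition
        · simp only [Category.assoc, m2, toU2, π2U, pullback.lift_snd, eT']
          rw [pullback.lift_snd_assoc]
          simp only [Category.assoc, πW3]
          rw [← pullback.condition (f := π2) (g := O.ι)]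
      · rw [Category.assoc, pullback.lift_snd, pullback.lift_snd]
  haveI : IsIso eT := ⟨eT', hTT', hT'T⟩
  obtain ⟨jT, hjTo, hjTs, hjTt⟩ := exists_openImmersion_pullback f (pullback.fst g gi) a w3
    (t := pullback.fst m w3) (s := pullback.snd m w3) (by rw [ha]; exact IsPullback.of_hasPullback m w3)
  let sT : T ⟶ W3 := pullback.snd m w3
  have heTs : eT ≫ sT = m3 := pullback.lift_snd _ _ _
  haveI : IsFinite m3 := by
    haveI : IsFinite (m3 ≫ πW3) := by rw [pullback.lift_snd]; infer_instance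
    exact IsFinite.of_comp m3 πW3
  haveI : IsFinite sT := by
    have : sT = inv eT ≫ m3 := by rw [← heTs, IsIso.inv_hom_id_assoc]
    rw [this]; infer_instance
  let kT : T → ℤ := fun t => wf (pullback.fst f (w3 ≫ pullback.fst g gi) (jT t))
  have hG : IsLocallyConstant (MoreMor.fibreIntegral sT kT) :=
    isLocallyConstant_fibreIntegral f wf hf (w3 ≫ pullback.fst g gi) jT sT hjTs
  let lW : W3 → ℤ := fun r => wg (pullback.fst g gi (w3 r))
  -- the point of `W3`
  let ξ3 : Spec (CommRingCat.of K) ⟶ (O : Scheme.{u}) := IsOpenImmersion.lift O.ι (q ≫ π2) (by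
    rw [Scheme.Opens.range_ι]; rintro _ ⟨k, rfl⟩; rw [Subsingleton.elim k (IsLocalRing.closedPoint K)]; exact hOmem)
  have hξ3 : ξ3 ≫ O.ι = q ≫ π2 := IsOpenImmersion.lift_fac _ _ _
  have hW3u : UniqueLift πW3 (pt ξ3) := hW2u.baseChange (IsPullback.of_hasPullback π2 O.ι) _ (by
    rw [← Scheme.Hom.comp_apply, hξ3])
  let q3 : Spec (CommRingCat.of K) ⟶ W3 := pullback.lift q ξ3 hξ3.symm
  let cG := MoreMor.fibreIntegral sT kT (pt q3)
  let O' : (O : Scheme.{u}).Opens := ⟨(πW3 '' {r | MoreMor.fibreIntegral sT kT r = cG}ᶜ)ᶜ,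
    (πW3.isClosedMap _ (hG.isOpen_fiber cG).isClosed_compl).isOpen_compl⟩
  have hξO' : pt ξ3 ∈ O' := by
    rintro ⟨r, hr, hrv⟩
    have h1 : πW3 (pt q3) = pt ξ3 := by rw [← Scheme.Hom.comp_apply, pullback.lift_snd]
    exact hr (congrArg _ (hW3u.eq_point hrv h1))
  have hcalc : ∀ v ∈ O', MoreMor.fibreIntegral π kU (h3 v) =
      cG * MoreMor.fibreIntegral π2 (fun u => wg (pullback.fst g gi (pullback.fst gV g2 (W2.ι u)))) (O.ι v) := by
    intro v hv
    have hk : (kU ∘ ⇑(pullback.fst π h3)) = (fun t => kT t * lW (sT t)) ∘ ⇑eT := by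
      funext z
      have e1 : pullback.fst π h3 ≫ Wi.ι ≫ pullback.fst (f ≫ g) gi = eT ≫ jT ≫ pullback.fst f (w3 ≫ pullback.fst g gi) := by
        rw [hjTt, haf, pullback.lift_fst_assoc]
      have e2 : pullback.fst π h3 ≫ Wi.ι ≫ pullback.fst (f ≫ g) gi ≫ f = eT ≫ sT ≫ w3 ≫ pullback.fst g gi := by
        rw [reassoc_of% heTs, reassoc_of% hm3w, pullback.lift_fst]
      show wf _ * wg _ = wf _ * wg _
      exact congrArg₂ (fun x y => wf x * wg y) (congrArg (fun φ : UO ⟶ X => φ z) e1) (congrArg (fun φ : UO ⟶ Y => φ z) e2)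
    haveI : IsFinite (sT ≫ πW3) := inferInstance
    have hfac : πU3 = eT ≫ (sT ≫ πW3) := by rw [reassoc_of% heTs, pullback.lift_snd]
    rw [← fibreIntegral_baseChange π (IsPullback.of_hasPullback π h3) kU v (finite_fibre π _)]
    show MoreMor.fibreIntegral πU3 _ v = _
    rw [hfac, hk, fibreIntegral_iso eT (sT ≫ πW3) _ v (finite_fibre _ _), fibreIntegral_comp sT πW3 kT lW v,
      ← fibreIntegral_baseChange π2 (IsPullback.of_hasPullback π2 O.ι) _ v (finite_fibre π2 _)]
    haveI := finite_fibre πW3 v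
    show _ = cG * MoreMor.fibreIntegral πW3 _ v
    rw [MoreMor.fibreIntegral, MoreMor.fibreIntegral, mul_finsum]
    refine finsum_congr fun r => ?_
    have hr : MoreMor.fibreIntegral sT kT r.1 = cG := by
      by_contra h; exact hv ⟨r.1, h, r.2⟩
    rw [hr, mul_assoc]
    rfl
  obtain ⟨O2, hO2o, hO2, hO2c⟩ := (hgV V2 g2 W2 hW2fin).exists_open (pt (q ≫ π2))
  let N : (O : Scheme.{u}).Opens := O' ⊓ O.ι ⁻¹ᵁ ⟨O2, hO2o⟩
  have hξι : O.ι (pt ξ3) = pt (q ≫ π2) := by rw [← Scheme.Hom.comp_apply, hξ3]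
  have hh3 : h3 (pt ξ3) = vi := by rw [← hgv, ← hξι]; rfl
  refine ⟨⟨h3 '' (N : Set (O : Scheme.{u})), h3.isOpenMap _ N.2⟩, ⟨pt ξ3, ⟨hξO', ?_⟩, hh3⟩, ?_⟩
  · show O.ι (pt ξ3) ∈ O2
    rw [hξι]; exact hO2
  rintro _ ⟨v, ⟨hv1, hv2⟩, rfl⟩
  show MoreMor.fibreIntegral π kU (h3 v) = MoreMor.fibreIntegral π kU vi
  rw [← hh3, hcalc v hv1, hcalc _ hξO']
  exact congrArg (cG * ·) ((hO2c _ hv2).trans (hO2c _ (hξι ▸ hO2)).symm)

end Groth.Agent.H2Weight
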