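import Mathlib
import Groth.Prelude.Def_MoreMor
import Groth.Agent.Lib.H2Weight
import Groth.Agent.Lib.H2WeightSplit
import Groth.Agent.Lib.H2WeightMain
import Groth.Agent.Lib.H2WeightApps
import Groth.Agent.Lib.H2Constr

/-! Level sets of the fibre integral of a weighting are locally constructible. -/

universe u

open CategoryTheory Limits AlgebraicGeometry Topology

namespace Groth.Agent.H2Weight

/-- locally constant for the constructible topology. -/
def ConstrConst {α : Type*} {Z : Type u} [TopologicalSpace Z] (φ : Z → α) : Prop :=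
  ∀ z, ∃ E : Set Z, z ∈ E ∧ IsConstructible E ∧ ∀ x ∈ E, φ x = φ z

theorem ConstrConst.const {α : Type*} {Z : Type u} [TopologicalSpace Z] (a : α) : ConstrConst (fun _ : Z => a) :=
  fun _ => ⟨Set.univ, trivial, IsConstructible.univ, fun _ _ => rfl⟩

theorem ConstrConst.map₂ {α β γ : Type*} {Z : Type u} [TopologicalSpace Z] {φ : Z → α} {ψ : Z → β}
    (h : ConstrConst φ) (h' : ConstrConst ψ) (F : α → β → γ) : ConstrConst (fun z => F (φ z) (ψ z)) := by
  intro z
  obtain ⟨E, h1, h2, h3⟩ := h z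
  obtain ⟨E', h1', h2', h3'⟩ := h' z
  exact ⟨E ∩ E', ⟨h1, h1'⟩, h2.inter h2', fun x hx => by
    show F (φ x) (ψ x) = F (φ z) (ψ z)
    rw [h3 x hx.1, h3' x hx.2]⟩

theorem fibreIntegral_indicator {U V : Scheme.{u}} (π : U ⟶ V) [LocallyQuasiFinite π] (w : U → ℤ) (A : U.Opens) (v : V)
    (hfin : (π ⁻¹' {v}).Finite) :
    MoreMor.fibreIntegral (A.ι ≫ π) (fun a => w (A.ι a)) v = MoreMor.fibreIntegral π ((A : Set U).indicator w) v := by
  classical
  obtain ⟨K, _, _, ξ, rfl⟩ := exists_geomPoint v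
  haveI := finite_lifts π ξ hfin
  let i : Lifts (A.ι ≫ π) ξ → Lifts π ξ := fun p => ⟨p.1 ≫ A.ι, (Category.assoc _ _ _).trans p.2⟩
  have hi : Function.Injective i := fun a b h => Subtype.ext ((cancel_mono A.ι).1 (congrArg Subtype.val h))
  haveI : Finite (Lifts (A.ι ≫ π) ξ) := Finite.of_injective i hi
  rw [fibreIntegral_eq π _ ξ hfin, fibreIntegral_eq (A.ι ≫ π) _ ξ (finite_fibre_of_finite_lifts _ ξ)]
  letI := Fintype.ofFinite (Lifts π ξ); letI := Fintype.ofFinite (Lifts (A.ι ≫ π) ξ)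
  rw [finsum_eq_sum_of_fintype, finsum_eq_sum_of_fintype]
  refine Fintype.sum_of_injective i hi _ _ (fun p hp => Set.indicator_of_notMem (fun hA => hp ?_) w) (fun a => ?_)
  · have hl : Set.range p.1 ⊆ Set.range A.ι := by
      rw [Scheme.Opens.range_ι]; rintro _ ⟨k, rfl⟩; rw [Subsingleton.elim k (IsLocalRing.closedPoint K)]; exact hA
    exact ⟨⟨IsOpenImmersion.lift A.ι p.1 hl, by rw [← Category.assoc, IsOpenImmersion.lift_fac]; exact p.2⟩,
      Subtype.ext (IsOpenImmersion.lift_fac _ _ _)⟩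
  · show w (A.ι (pt a.1)) = (A : Set U).indicator w (pt (a.1 ≫ A.ι))
    rw [show pt (a.1 ≫ A.ι) = A.ι (pt a.1) from Scheme.Hom.comp_apply _ _ _]
    exact (Set.indicator_of_mem (pt a.1).2 w).symm

theorem fibreIntegral_sup {U V : Scheme.{u}} (π : U ⟶ V) [LocallyQuasiFinite π] (w : U → ℤ) (A B : U.Opens) (v : V)
    (hfin : (π ⁻¹' {v}).Finite) :
    MoreMor.fibreIntegral ((A ⊔ B).ι ≫ π) (fun a => w ((A ⊔ B).ι a)) v +
        MoreMor.fibreIntegral ((A ⊓ B).ι ≫ π) (fun a => w ((A ⊓ B).ι a)) v =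
      MoreMor.fibreIntegral (A.ι ≫ π) (fun a => w (A.ι a)) v + MoreMor.fibreIntegral (B.ι ≫ π) (fun a => w (B.ι a)) v := by
  classical
  rw [fibreIntegral_indicator π w _ v hfin, fibreIntegral_indicator π w _ v hfin, fibreIntegral_indicator π w _ v hfin,
    fibreIntegral_indicator π w _ v hfin]
  obtain ⟨K, _, _, ξ, rfl⟩ := exists_geomPoint v
  haveI := finite_lifts π ξ hfin
  letI := Fintype.ofFinite (Lifts π ξ)
  rw [fibreIntegral_eq π _ ξ hfin, fibreIntegral_eq π _ ξ hfin, fibreIntegral_eq π _ ξ hfin, fibreIntegral_eq π _ ξ hfin,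
    finsum_eq_sum_of_fintype, finsum_eq_sum_of_fintype, finsum_eq_sum_of_fintype, finsum_eq_sum_of_fintype,
    ← Finset.sum_add_distrib, ← Finset.sum_add_distrib]
  refine Finset.sum_congr rfl fun p _ => ?_
  exact Set.indicator_union_add_inter_apply w (A : Set U) (B : Set U) (pt p.1)

variable {X Y : Scheme.{u}} (f : X ⟶ Y) [LocallyQuasiFinite f] [LocallyOfFiniteType f] [LocallyOfFinitePresentation f]
  (w : X → ℤ)

theorem exists_constructible_nhd_integral (hw : MoreMor.IsWeighting f w) {K : Type u} [Field K] [IsAlgClosed K] :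
    ∀ (n : ℕ) {V U : Scheme.{u}} (_ : IsAffine V) (c : V ⟶ Y) (j : U ⟶ pullback f c) [IsOpenImmersion j]
      [IsSeparated (j ≫ pullback.snd f c)] [LocallyQuasiFinite (j ≫ pullback.snd f c)] [QuasiCompact (j ≫ pullback.snd f c)]
      [LocallyOfFinitePresentation (j ≫ pullback.snd f c)] (ξ : Spec (CommRingCat.of K) ⟶ V),
    Nat.card (Lifts (j ≫ pullback.snd f c) ξ) ≤ n →
    ∃ E : Set V, pt ξ ∈ E ∧ IsConstructible E ∧ ∀ v ∈ E,
      MoreMor.fibreIntegral (j ≫ pullback.snd f c) (fun u => w (pullback.fst f c (j u))) v =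
      MoreMor.fibreIntegral (j ≫ pullback.snd f c) (fun u => w (pullback.fst f c (j u))) (pt ξ) := by
  intro n
  induction n with
  | zero =>
    intro V U _ c j _ _ _ _ _ ξ hn
    let π := j ≫ pullback.snd f c
    haveI := finite_lifts π ξ (π.finite_preimage_singleton _)
    haveI : IsEmpty (Lifts π ξ) := Finite.card_eq_zero_iff.1 (Nat.le_zero.1 hn)
    have h0 : ∀ v, v ∉ Set.range π → MoreMor.fibreIntegral π (fun u => w (pullback.fst f c (j u))) v = 0 := fun v hv => by
      haveI : IsEmpty {u : U // π u = v} := ⟨fun u => hv ⟨u.1, u.2⟩⟩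
      rw [MoreMor.fibreIntegral, finsum_of_isEmpty]
    have hne : pt ξ ∉ Set.range π := fun ⟨u, hu⟩ => (isEmpty_iff (α := Lifts π ξ)).1 inferInstance (nonempty_lifts π ξ u hu).choose
    refine ⟨(Set.range π)ᶜ, hne, ?_, fun v hv => (h0 v hv).trans (h0 _ hne).symm⟩
    rw [← Set.image_univ]
    exact (π.isConstructible_image IsConstructible.univ).compl
  | succ n ih =>
    intro V U _ c j _ _ _ _ _ ξ hn
    let π := j ≫ pullback.snd f c
    rcases Nat.lt_or_ge (Nat.card (Lifts π ξ)) (n + 1) with hlt | hge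
    · exact ih ‹_› c j ξ (Nat.lt_succ_iff.1 hlt)
    obtain ⟨V', g, ξ', Vi, gi, Wi, h, U', j', T, tU, s, k, hg, hgi, hξ, hWfin, hWu, hj', hT, hk, hks, hlt', hsplit⟩ :=
      exists_step f w c j π.finite_preimage_singleton ξ (show 0 < Nat.card (Lifts π ξ) by omega)
    obtain ⟨_, ⟨V0, hV0, rfl⟩, hξV0, -⟩ := (Scheme.isBasis_affineOpens V').exists_subset_of_mem_open
      (Set.mem_univ (pt ξ')) isOpen_univ
    haveI : IsAffine (V0 : Scheme.{u}) := hV0
    haveI : IsSeparated s := MorphismProperty.of_isPullback (P := @IsSeparated) hT ‹_›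
    haveI : LocallyQuasiFinite s := MorphismProperty.of_isPullback (P := @LocallyQuasiFinite) hT ‹_›
    haveI : QuasiCompact s := MorphismProperty.of_isPullback (P := @QuasiCompact) hT ‹_›
    haveI : IsSeparated (j' ≫ pullback.snd f (g ≫ c)) := by rw [hks]; infer_instance
    haveI : LocallyQuasiFinite (j' ≫ pullback.snd f (g ≫ c)) := by rw [hks]; infer_instance
    haveI : QuasiCompact (j' ≫ pullback.snd f (g ≫ c)) := by rw [hks]; infer_instance
    haveI : LocallyOfFinitePresentation (j' ≫ pullback.snd f (g ≫ c)) := inferInstance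
    let T0 := pullback (j' ≫ pullback.snd f (g ≫ c)) (Scheme.Opens.ι V0)
    obtain ⟨j0, hj0o, hj0s, hj0t⟩ := exists_openImmersion_pullback f (g ≫ c) j' (Scheme.Opens.ι V0) (IsPullback.of_hasPullback _ _)
    haveI : IsSeparated (j0 ≫ pullback.snd f (Scheme.Opens.ι V0 ≫ g ≫ c)) := by rw [hj0s]; infer_instance
    haveI : LocallyQuasiFinite (j0 ≫ pullback.snd f (Scheme.Opens.ι V0 ≫ g ≫ c)) := by
      rw [hj0s]; exact MorphismProperty.pullback_snd (P := @LocallyQuasiFinite) _ _ inferInstance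
    haveI : QuasiCompact (j0 ≫ pullback.snd f (Scheme.Opens.ι V0 ≫ g ≫ c)) := by rw [hj0s]; infer_instance
    haveI : LocallyOfFinitePresentation (j0 ≫ pullback.snd f (Scheme.Opens.ι V0 ≫ g ≫ c)) := inferInstance
    let ξ0 : Spec (CommRingCat.of K) ⟶ (V0 : Scheme.{u}) := IsOpenImmersion.lift (Scheme.Opens.ι V0) ξ' (by
      rw [Scheme.Opens.range_ι]; rintro _ ⟨k, rfl⟩; rw [Subsingleton.elim k (IsLocalRing.closedPoint K)]; exact hξV0)
    have hξ0 : ξ0 ≫ Scheme.Opens.ι V0 = ξ' := IsOpenImmersion.lift_fac _ _ _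
    have hcard : Nat.card (Lifts (j0 ≫ pullback.snd f (Scheme.Opens.ι V0 ≫ g ≫ c)) ξ0) ≤ n := by
      rw [hj0s, Nat.card_congr (liftsPullback _ (IsPullback.of_hasPullback (j' ≫ pullback.snd f (g ≫ c)) (Scheme.Opens.ι V0)) ξ0), hξ0]
      have : Nat.card (Lifts π ξ) ≤ n + 1 := hn
      omega
    obtain ⟨E, hEξ, hE, hEc⟩ := ih inferInstance (Scheme.Opens.ι V0 ≫ g ≫ c) j0 ξ0 hcard
    have hlc : IsLocallyConstant fun v : (V0 : Scheme.{u}) => MoreMor.fibreIntegral (Wi.ι ≫ pullback.snd f gi)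
        (fun u => w (pullback.fst f gi (Wi.ι u))) (h (Scheme.Opens.ι V0 v)) :=
      (hw Vi gi Wi hWfin).comp_continuous (h.continuous.comp (Scheme.Opens.ι V0).continuous)
    have hJ := hlc.isClopen_fiber (MoreMor.fibreIntegral (Wi.ι ≫ pullback.snd f gi) (fun u => w (pullback.fst f gi (Wi.ι u))) (h (Scheme.Opens.ι V0 (pt ξ0))))
    let g0 := Scheme.Opens.ι V0 ≫ g
    have hI : ∀ v : (V0 : Scheme.{u}), MoreMor.fibreIntegral π (fun u => w (pullback.fst f c (j u))) (g0 v) =
        MoreMor.fibreIntegral (Wi.ι ≫ pullback.snd f gi) (fun u => w (pullback.fst f gi (Wi.ι u))) (h (Scheme.Opens.ι V0 v)) +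
        MoreMor.fibreIntegral (j0 ≫ pullback.snd f (Scheme.Opens.ι V0 ≫ g ≫ c)) (fun u => w (pullback.fst f (Scheme.Opens.ι V0 ≫ g ≫ c) (j0 u))) v := by
      intro v
      rw [show g0 v = g (Scheme.Opens.ι V0 v) from Scheme.Hom.comp_apply _ _ _, hsplit]
      congr 1
      refine (fibreIntegral_baseChange _ (IsPullback.of_hasPullback (j' ≫ pullback.snd f (g ≫ c)) (Scheme.Opens.ι V0)) _ v
        ((j' ≫ pullback.snd f (g ≫ c)).finite_preimage_singleton _)).symm.trans ?_
      congr 1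
      · exact hj0s.symm
      · funext u
        show w ((pullback.fst (j' ≫ pullback.snd f (g ≫ c)) (Scheme.Opens.ι V0) ≫ j' ≫ pullback.fst f (g ≫ c)) u) =
          w ((j0 ≫ pullback.fst f (Scheme.Opens.ι V0 ≫ g ≫ c)) u)
        rw [hj0t]
    haveI : Etale g := hg
    haveI : LocallyOfFinitePresentation g0 := inferInstance
    haveI : QuasiCompact g0 := inferInstance
    refine ⟨g0 '' (E ∩ {v | MoreMor.fibreIntegral (Wi.ι ≫ pullback.snd f gi) (fun u => w (pullback.fst f gi (Wi.ι u))) (h (Scheme.Opens.ι V0 v)) =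
      MoreMor.fibreIntegral (Wi.ι ≫ pullback.snd f gi) (fun u => w (pullback.fst f gi (Wi.ι u))) (h (Scheme.Opens.ι V0 (pt ξ0)))}), ⟨pt ξ0, ⟨hEξ, rfl⟩, ?_⟩, g0.isConstructible_image
      (hE.inter ((hJ.1.isCompact).isConstructible hJ.2)), ?_⟩
    · show g0 (pt ξ0) = pt ξ
      rw [← Scheme.Hom.comp_apply, ← Category.assoc, hξ0, hξ]
    rintro _ ⟨v, ⟨hv1, hv2⟩, rfl⟩
    have hpt : g0 (pt ξ0) = pt ξ := by rw [← Scheme.Hom.comp_apply, ← Category.assoc, hξ0, hξ]
    show MoreMor.fibreIntegral π _ (g0 v) = MoreMor.fibreIntegral π _ (pt ξ)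
    rw [← hpt, hI v, hI (pt ξ0), hEc v hv1, Set.mem_setOf.1 hv2]

theorem constrConst_of_affine (hw : MoreMor.IsWeighting f w) [QuasiCompact f] [QuasiSeparated f] {V : Scheme.{u}} [IsAffine V] (c : V ⟶ Y)
    (A : (pullback f c).Opens) (hA : IsCompact (A : Set ↥(pullback f c))) :
    ConstrConst (fun v => MoreMor.fibreIntegral (A.ι ≫ pullback.snd f c) (fun u => w (pullback.fst f c (A.ι u))) v) := by
  haveI : LocallyQuasiFinite (pullback.snd f c) := MorphismProperty.pullback_snd (P := @LocallyQuasiFinite) _ _ ‹_›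
  haveI : QuasiSeparatedSpace ↥(pullback f c) := quasiSeparatedSpace_of_quasiSeparated (pullback.snd f c)
  have hsep : ∀ A : (pullback f c).Opens, IsCompact (A : Set ↥(pullback f c)) → (∃ W : (pullback f c).affineOpens, A ≤ W.1) →
      ConstrConst (fun v => MoreMor.fibreIntegral (A.ι ≫ pullback.snd f c) (fun u => w (pullback.fst f c (A.ι u))) v) := by
    rintro A hA ⟨⟨W, hW⟩, hAW⟩ v
    haveI : IsAffine (W : Scheme.{u}) := hW
    haveI : IsSeparated (W.ι ≫ pullback.snd f c) := by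
      haveI : IsSeparated ((W.ι ≫ pullback.snd f c) ≫ terminal.from V) := by rw [terminal.comp_from]; infer_instance
      exact IsSeparated.of_comp _ (terminal.from V)
    haveI : IsSeparated (A.ι ≫ pullback.snd f c) := by
      rw [← Scheme.homOfLE_ι _ hAW, Category.assoc]; infer_instance
    haveI : CompactSpace (A : Scheme.{u}) := isCompact_iff_compactSpace.mp hA
    haveI : QuasiCompact (A.ι ≫ pullback.snd f c) := (quasiCompact_iff_compactSpace _).mpr inferInstance
    haveI : LocallyQuasiFinite (A.ι ≫ pullback.snd f c) := inferInstance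
    haveI : LocallyOfFinitePresentation (A.ι ≫ pullback.snd f c) := inferInstance
    obtain ⟨K, _, _, ξ, rfl⟩ := exists_geomPoint v
    exact exists_constructible_nhd_integral f w hw _ inferInstance c A.ι ξ le_rfl
  haveI : QuasiCompact (pullback.snd f c) := inferInstance
  refine compact_open_induction_on (P := fun A : (pullback f c).Opens => ConstrConst (fun v =>
    MoreMor.fibreIntegral (A.ι ≫ pullback.snd f c) (fun u => w (pullback.fst f c (A.ι u))) v)) A hA ?_ fun S hS U hU => ?_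
  · have : (fun v => MoreMor.fibreIntegral ((⊥ : (pullback f c).Opens).ι ≫ pullback.snd f c)
        (fun u => w (pullback.fst f c ((⊥ : (pullback f c).Opens).ι u))) v) = fun _ => 0 := funext fun v => by
      haveI : IsEmpty {u : ((⊥ : (pullback f c).Opens) : Scheme.{u}) // ((⊥ : (pullback f c).Opens).ι ≫ pullback.snd f c) u = v} :=
        ⟨fun u => u.1.2⟩
      rw [MoreMor.fibreIntegral, finsum_of_isEmpty]
    rw [this]; exact ConstrConst.const 0
  · have hUc : IsCompact (U.1 : Set ↥(pullback f c)) := U.2.isCompact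
    have hI : IsCompact ((S ⊓ U.1 : (pullback f c).Opens) : Set ↥(pullback f c)) :=
      QuasiSeparatedSpace.inter_isCompact _ _ S.2 hS U.1.2 hUc
    have h1 := ((hU.map₂ (hsep U.1 hUc ⟨U, le_rfl⟩) (· + ·)).map₂ (hsep _ hI ⟨U, inf_le_right⟩) (· - ·))
    convert h1 using 1
    funext v
    have := fibreIntegral_sup (pullback.snd f c) (fun u => w (pullback.fst f c u)) S U.1 v
      ((pullback.snd f c).finite_preimage_singleton v)
    exact eq_sub_of_add_eq this

theorem isLocallyConstructible_integral_levelSet (hw : MoreMor.IsWeighting f w) [QuasiCompact f] [QuasiSeparated f]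
    (n : ℤ) : IsLocallyConstructible {y : Y | MoreMor.fibreIntegral f w y = n} := by
  intro y
  obtain ⟨_, ⟨V, hV, rfl⟩, hy, -⟩ := (Scheme.isBasis_affineOpens Y).exists_subset_of_mem_open (Set.mem_univ y) isOpen_univ
  haveI : IsAffine (V : Scheme.{u}) := hV
  let c : (V : Scheme.{u}) ⟶ Y := Scheme.Opens.ι V
  haveI : LocallyQuasiFinite (pullback.snd f c) := MorphismProperty.pullback_snd (P := @LocallyQuasiFinite) _ _ ‹_›
  have h1 := constrConst_of_affine f w hw c ⊤
    (by haveI : CompactSpace ↥(pullback f c) := (quasiCompact_iff_compactSpace (pullback.snd f c)).mp inferInstance; exact isCompact_univ)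
  refine ⟨V, V.2.mem_nhds hy, V.2, ?_⟩
  have h2 := (H2Constr.finite_range_of_constructible (X := ↥(V : Scheme.{u})) _ h1).2 n
  refine Eq.mp (congrArg IsConstructible (Set.ext fun v => ?_)) h2
  show _ ↔ MoreMor.fibreIntegral f w (c v) = n
  show MoreMor.fibreIntegral ((⊤ : (pullback f c).Opens).ι ≫ pullback.snd f c) (fun u => w (pullback.fst f c ((⊤ : (pullback f c).Opens).ι u))) v = n ↔ _
  rw [← fibreIntegral_baseChange f (IsPullback.of_hasPullback f c) w v (f.finite_preimage_singleton _)]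
  have h3 := fibreIntegral_indicator (pullback.snd f c) (fun u => w (pullback.fst f c u)) ⊤ v ((pullback.snd f c).finite_preimage_singleton v)
  rw [TopologicalSpace.Opens.coe_top, Set.indicator_univ] at h3
  rw [h3]
  rfl

end Groth.Agent.H2Weight
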