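import Mathlib
import Groth.Prelude.Def_MoreMor
import Groth.Agent.Lib.H2Weight
import Groth.Agent.Lib.H2WeightSplit
import Groth.Agent.Lib.H2WeightMain
import Groth.Agent.Lib.H2WeightApps
import Groth.Agent.Lib.FpqcDescent

/-! Finiteness where the fibre integral of a positive weighting is maximal. -/

universe u

open CategoryTheory Limits AlgebraicGeometry

namespace Groth.Agent.H2Weight

/-- a separated quasi-finite morphism covered by two finite pieces is finite. -/
theorem isFinite_of_cover {A B T V : Scheme.{u}} (a : A ⟶ T) (b : B ⟶ T) (π : T ⟶ V) [IsSeparated π]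
    [LocallyQuasiFinite π] [LocallyOfFiniteType π] [IsFinite (a ≫ π)] [IsFinite (b ≫ π)]
    (hcov : ∀ x, x ∈ Set.range a ∨ x ∈ Set.range b) : IsFinite π := by
  haveI : Surjective (coprod.desc a b) := ⟨fun x => by
    rcases hcov x with ⟨z, hz⟩ | ⟨z, hz⟩
    · exact ⟨coprod.inl (X := A) (Y := B) z, by rw [← Scheme.Hom.comp_apply, coprod.inl_desc, hz]⟩
    · exact ⟨coprod.inr (X := A) (Y := B) z, by rw [← Scheme.Hom.comp_apply, coprod.inr_desc, hz]⟩⟩
  haveI : UniversallyClosed (coprod.desc a b ≫ π) := by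
    rw [coprod.desc_comp]; infer_instance
  haveI : UniversallyClosed π := UniversallyClosed.of_comp_surjective (coprod.desc a b) π
  haveI : IsProper π := {}
  exact IsFinite.of_isProper_of_locallyQuasiFinite π

/-- finiteness is etale local on the target. -/
theorem isFinite_of_etale_cover {X Y : Scheme.{u}} (f : X ⟶ Y)
    (h : ∀ y : Y, ∃ (V : Scheme.{u}) (g : V ⟶ Y), Etale g ∧ y ∈ Set.range g ∧ IsFinite (pullback.snd f g)) :
    IsFinite f := by
  choose V g hg hy hfin using h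
  let d : (∐ V) ⟶ Y := Sigma.desc g
  have hi : ∀ t, Sigma.ι V t ≫ d = g t := Sigma.ι_desc g
  haveI : Etale d := (IsZariskiLocalAtSource.iff_of_openCover (P := @Etale) (sigmaOpenCover _)).2 fun t => by
    change Etale (Sigma.ι V t ≫ d)
    rw [hi]; exact hg t
  haveI : Surjective d := ⟨fun t => by
    obtain ⟨w, hw⟩ := hy t
    exact ⟨Sigma.ι V t w, by rw [← Scheme.Hom.comp_apply, hi, hw]⟩⟩
  refine MorphismProperty.of_pullback_snd_of_descendsAlong (P := @IsFinite)
    (Q := @Surjective ⊓ @Flat ⊓ @LocallyOfFinitePresentation) (g := d)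
    ⟨⟨inferInstance, inferInstance⟩, inferInstance⟩ ?_
  refine IsZariskiLocalAtTarget.of_openCover (sigmaOpenCover _) fun t => ?_
  have sq := (IsPullback.of_hasPullback (pullback.snd f d) (Sigma.ι V t)).paste_horiz (IsPullback.of_hasPullback f d)
  rw [hi] at sq
  change IsFinite (pullback.snd (pullback.snd f d) (Sigma.ι V t))
  haveI := hfin t
  rw [← sq.isoIsPullback_hom_snd _ _ (IsPullback.of_hasPullback f (g t))]
  infer_instance

variable {X Y : Scheme.{u}} (f : X ⟶ Y) [LocallyQuasiFinite f] [LocallyOfFiniteType f] (w : X → ℤ)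

theorem eventually_finite (hw : MoreMor.IsWeighting f w) (hpos : ∀ x, 0 < w x) {K : Type u} [Field K] [IsAlgClosed K] :
    ∀ (n : ℕ) {V U : Scheme.{u}} (c : V ⟶ Y) (j : U ⟶ pullback f c) [IsOpenImmersion j]
      [IsSeparated (j ≫ pullback.snd f c)] [LocallyQuasiFinite (j ≫ pullback.snd f c)]
      (_ : ∀ v, ((j ≫ pullback.snd f c) ⁻¹' {v}).Finite) (ξ : Spec (CommRingCat.of K) ⟶ V),
    Nat.card (Lifts (j ≫ pullback.snd f c) ξ) ≤ n →
    ∀ N : V.Opens, pt ξ ∈ N → (∀ v ∈ N, MoreMor.fibreIntegral (j ≫ pullback.snd f c) (fun u => w (pullback.fst f c (j u))) v ≤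
      MoreMor.fibreIntegral (j ≫ pullback.snd f c) (fun u => w (pullback.fst f c (j u))) (pt ξ)) →
    ∃ (V' : Scheme.{u}) (g : V' ⟶ V), Etale g ∧ pt ξ ∈ Set.range g ∧ IsFinite (pullback.snd (j ≫ pullback.snd f c) g) := by
  intro n
  induction n with
  | zero =>
    intro V U c j _ _ _ hfin ξ hn N hN hmax
    let π := j ≫ pullback.snd f c
    haveI := finite_lifts π ξ (hfin _)
    haveI : IsEmpty (Lifts π ξ) := Finite.card_eq_zero_iff.1 (Nat.le_zero.1 hn)
    refine ⟨N, N.ι, inferInstance, ⟨⟨pt ξ, hN⟩, rfl⟩, ?_⟩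
    haveI : IsEmpty (pullback π N.ι : Scheme.{u}) := ⟨fun z => by
      have h1 : π (pullback.fst π N.ι z) = (pullback.snd π N.ι z).1 := by
        show (pullback.fst π N.ι ≫ π) z = (pullback.snd π N.ι ≫ N.ι) z
        rw [pullback.condition]
      have h2 := hmax _ (pullback.snd π N.ι z).2
      rw [fibreIntegral_eq π _ ξ (hfin _), finsum_of_isEmpty] at h2
      obtain ⟨h3, h4, -⟩ := fibreIntegral_nonneg π (fun u => w (pullback.fst f c (j u))) (fun u => hpos _) _ (hfin (pullback.snd π N.ι z).1)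
      exact h4 (le_antisymm h2 h3) ⟨_, h1⟩⟩
    show IsFinite (pullback.snd π N.ι)
    infer_instance
  | succ n ih =>
    intro V U c j _ _ _ hfin ξ hn N hN hmax
    let π := j ≫ pullback.snd f c
    rcases Nat.lt_or_ge (Nat.card (Lifts π ξ)) (n + 1) with hlt | hge
    · exact ih c j hfin ξ (Nat.lt_succ_iff.1 hlt) N hN hmax
    obtain ⟨V', g, ξ', Vi, gi, Wi, h, U', j', T, tU, s, k, hg, hgi, hξ, hWfin, hWu, hj', hT, hk, hks, hlt', ⟨A, e, he, hcov⟩, hsplit⟩ :=
      exists_step' f w c j hfin ξ (show 0 < Nat.card (Lifts π ξ) by omega)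
    haveI : IsSeparated s := MorphismProperty.of_isPullback (P := @IsSeparated) hT ‹_›
    haveI : LocallyQuasiFinite s := MorphismProperty.of_isPullback (P := @LocallyQuasiFinite) hT ‹_›
    haveI : LocallyOfFiniteType s := MorphismProperty.of_isPullback (P := @LocallyOfFiniteType) hT inferInstance
    haveI : IsSeparated (j' ≫ pullback.snd f (g ≫ c)) := by rw [hks]; infer_instance
    haveI : LocallyQuasiFinite (j' ≫ pullback.snd f (g ≫ c)) := by rw [hks]; infer_instance
    have hfin' : ∀ v, ((j' ≫ pullback.snd f (g ≫ c)) ⁻¹' {v}).Finite := fun v => by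
      rw [hks, Scheme.Hom.comp_base, TopCat.coe_comp, Set.preimage_comp]
      exact (finite_fibre_baseChange π hT v (hfin _)).preimage k.isClosedEmbedding.injective.injOn
    have hlc : IsLocallyConstant fun v => MoreMor.fibreIntegral (Wi.ι ≫ pullback.snd f gi) (fun u => w (pullback.fst f gi (Wi.ι u))) (h v) :=
      (hw Vi gi Wi hWfin).comp_continuous h.continuous
    obtain ⟨O₂, hO₂o, hO₂, hO₂c⟩ := hlc.exists_open (pt ξ')
    have hptξ : g (pt ξ') = pt ξ := by rw [← Scheme.Hom.comp_apply, hξ]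
    let N' : V'.Opens := g ⁻¹ᵁ N ⊓ ⟨O₂, hO₂o⟩
    obtain ⟨V'', g₂, hg₂, ⟨v2, hv2⟩, hfin₂⟩ := ih (g ≫ c) j' hfin' ξ' (by have : Nat.card (Lifts π ξ) ≤ n + 1 := hn; omega) N'
      ⟨show g (pt ξ') ∈ N by rw [hptξ]; exact hN, hO₂⟩ fun v hv => by
        have h1 := hmax (g v) hv.1
        rw [← hptξ, hsplit v, hsplit (pt ξ'), hO₂c v hv.2] at h1
        exact le_of_add_le_add_left h1
    refine ⟨V'', g₂ ≫ g, inferInstance, ⟨v2, by rw [Scheme.Hom.comp_apply, hv2, hptξ]⟩, ?_⟩
    -- the two pieces over the new base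
    let T₂ := pullback s g₂
    let a : pullback (e ≫ s) g₂ ⟶ T₂ := pullback.lift (pullback.fst _ _ ≫ e) (pullback.snd _ _) (by rw [Category.assoc, pullback.condition])
    rw [hks] at hfin₂
    let b : pullback (k ≫ s) g₂ ⟶ T₂ := pullback.lift (pullback.fst _ _ ≫ k) (pullback.snd _ _) (by rw [Category.assoc, pullback.condition])
    haveI := he
    haveI : IsFinite (a ≫ pullback.snd s g₂) := by rw [pullback.lift_snd]; infer_instance
    haveI : IsFinite (b ≫ pullback.snd s g₂) := by rw [pullback.lift_snd]; exact hfin₂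
    have hap : IsPullback (pullback.fst (e ≫ s) g₂) a e (pullback.fst s g₂) :=
      IsPullback.of_bot (by rw [pullback.lift_snd]; exact IsPullback.of_hasPullback _ _) (pullback.lift_fst _ _ _).symm (IsPullback.of_hasPullback s g₂)
    have hbp : IsPullback (pullback.fst (k ≫ s) g₂) b k (pullback.fst s g₂) :=
      IsPullback.of_bot (by rw [pullback.lift_snd]; exact IsPullback.of_hasPullback _ _) (pullback.lift_fst _ _ _).symm (IsPullback.of_hasPullback s g₂)
    have hF : IsFinite (pullback.snd s g₂) := isFinite_of_cover a b _ fun x => by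
      rw [range_eq_of_isPullback hap, range_eq_of_isPullback hbp]
      exact hcov _
    have sq := (IsPullback.of_hasPullback s g₂).paste_horiz hT
    show IsFinite (pullback.snd π (g₂ ≫ g))
    rw [← sq.isoPullback_inv_snd]
    infer_instance

/-- over the open locus of maximal fibre integral the morphism is finite. -/
theorem isFinite_restrict_max (hw : MoreMor.IsWeighting f w) (hpos : ∀ x, 0 < w x) [IsSeparated f]
    (hfin : ∀ y : Y, (f ⁻¹' {y}).Finite) (Yd : Y.Opens)
    (hmax : ∀ y ∈ Yd, ∀ y' ∈ Yd, MoreMor.fibreIntegral f w y' ≤ MoreMor.fibreIntegral f w y) : IsFinite (f ∣_ Yd) := by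
  refine isFinite_of_etale_cover _ fun y => ?_
  obtain ⟨K, _, _, ξ, hξ⟩ := exists_geomPoint y.1
  let j : X ⟶ pullback f (𝟙 Y) := pullback.lift (𝟙 X) f (by simp)
  haveI : IsIso j := ⟨pullback.fst _ _, pullback.lift_fst _ _ _, by
    apply pullback.hom_ext
    · rw [Category.assoc, pullback.lift_fst, Category.comp_id, Category.id_comp]
    · rw [Category.assoc, pullback.lift_snd, pullback.condition, Category.comp_id, Category.id_comp]⟩
  have hj : j ≫ pullback.snd f (𝟙 Y) = f := pullback.lift_snd _ _ _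
  haveI : IsSeparated (j ≫ pullback.snd f (𝟙 Y)) := by rw [hj]; infer_instance
  haveI : LocallyQuasiFinite (j ≫ pullback.snd f (𝟙 Y)) := by rw [hj]; infer_instance
  have hwj : (fun u => w (pullback.fst f (𝟙 Y) (j u))) = w := funext fun u => by
    rw [← Scheme.Hom.comp_apply, pullback.lift_fst]; rfl
  obtain ⟨V, g, hg, ⟨v, hv⟩, hgfin⟩ := eventually_finite f w hw hpos (Nat.card (Lifts (j ≫ pullback.snd f (𝟙 Y)) ξ)) (𝟙 Y) j
    (fun v => by rw [hj]; exact hfin v) ξ le_rfl Yd (by rw [hξ]; exact y.2) (fun v hv => by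
      rw [hwj, hj, hξ]; exact hmax _ y.2 _ hv)
  rw [hj] at hgfin
  refine ⟨g ⁻¹ᵁ Yd, g ∣_ Yd, inferInstance, ?_, ?_⟩
  · have hv' : v ∈ g ⁻¹ᵁ Yd := show g v ∈ Yd by rw [hv, hξ]; exact y.2
    refine ⟨⟨v, hv'⟩, Yd.ι.isOpenEmbedding.injective ?_⟩
    show (g ∣_ Yd ≫ Yd.ι) ⟨v, hv'⟩ = y.1
    rw [morphismRestrict_ι]
    exact hv.trans hξ
  have h1 := (IsPullback.of_hasPullback (f ∣_ Yd) (g ∣_ Yd)).paste_horiz (isPullback_morphismRestrict f Yd).flip
  rw [morphismRestrict_ι] at h1
  have h2 : IsPullback (pullback.lift (pullback.fst _ _ ≫ (f ⁻¹ᵁ Yd).ι) (pullback.snd _ _ ≫ (g ⁻¹ᵁ Yd).ι) (by rw [h1.w, Category.assoc])) (pullback.snd (f ∣_ Yd) (g ∣_ Yd)) (pullback.snd f g) (g ⁻¹ᵁ Yd).ι :=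
    IsPullback.of_right (by rw [pullback.lift_fst]; exact h1) (by rw [pullback.lift_snd]) (IsPullback.of_hasPullback f g)
  exact MorphismProperty.of_isPullback (P := @IsFinite) h2 hgfin

end Groth.Agent.H2Weight
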