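import Mathlib

/-! Multiplication by a Teichmüller element is coefficientwise scaling. -/

universe u

namespace Groth.Agent.H2WittTeich

variable (p : ℕ) [Fact p.Prime]

open MvPolynomial in
lemma teichmuller_mul_coeff {R : Type u} [CommRing R] (t : R) (x : WittVector p R) (n : ℕ) :
    (WittVector.teichmuller p t * x).coeff n = t ^ p ^ n * x.coeff n := by
  let u : WittVector p (MvPolynomial (Option ℕ) ℤ) := WittVector.mk p fun n => X (some n)
  let v : WittVector p (MvPolynomial (Option ℕ) ℤ) := WittVector.mk p fun n => X none ^ p ^ n * X (some n)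
  have key : WittVector.teichmuller p (X none : MvPolynomial (Option ℕ) ℤ) * u = v := by
    apply WittVector.map_injective (MvPolynomial.map (Int.castRingHom ℚ) : MvPolynomial (Option ℕ) ℤ →+* MvPolynomial (Option ℕ) ℚ)
      (MvPolynomial.map_injective _ Int.cast_injective)
    haveI : Invertible (p : MvPolynomial (Option ℕ) ℚ) :=
      (((isUnit_iff_ne_zero.2 (Nat.cast_ne_zero.2 (Fact.out : p.Prime).ne_zero : (p : ℚ) ≠ 0)).map
        (MvPolynomial.C : ℚ →+* MvPolynomial (Option ℕ) ℚ)).invertible).copy _ (map_natCast _ p).symm
    apply (WittVector.ghostMap.bijective_of_invertible p (MvPolynomial (Option ℕ) ℚ)).injective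
    funext m
    simp only [WittVector.ghostMap_apply, map_mul, Pi.mul_apply, WittVector.map_teichmuller, WittVector.ghostComponent_teichmuller]
    simp only [WittVector.ghostComponent_apply, wittPolynomial_eq_sum_C_mul_X_pow, map_sum, map_mul, map_pow, aeval_X,
      WittVector.map_coeff, u, v, WittVector.coeff_mk, MvPolynomial.map_X, Finset.mul_sum, mul_pow]
    refine Finset.sum_congr rfl fun i hi => ?_
    rw [← pow_mul, ← pow_add, Nat.add_sub_cancel' (Nat.lt_succ_iff.1 (Finset.mem_range.1 hi))]
    simp only [aeval_C]
    ring
  let φ : MvPolynomial (Option ℕ) ℤ →+* R := (MvPolynomial.aeval fun o : Option ℕ => o.elim t x.coeff).toRingHom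
  have hu : WittVector.map φ u = x := WittVector.ext fun m => by simp [φ, u, WittVector.map_coeff]
  have h := congrArg (fun w => (WittVector.map φ w).coeff n) key
  simp only [map_mul, WittVector.map_teichmuller, hu, WittVector.map_coeff] at h
  simpa [φ, v] using h

end Groth.Agent.H2WittTeich
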