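import Mathlib
set_option autoImplicit false

/-! Zariski neighbourhoods of a closed subset of an affine scheme. -/
namespace Groth.Agent.H2ZarNbhd
universe u

/-- An open set containing `V(J)` contains a principal open which is `J`-trivial. -/
theorem exists_nbhd {R : Type u} [CommRing R] (J : Ideal R) (U : Set (PrimeSpectrum R)) (hU : IsOpen U)
    (hJ : ∀ q : PrimeSpectrum R, J ≤ q.asIdeal → q ∈ U) :
    ∃ g : R, (∀ Q : PrimeSpectrum (Localization.Away g), PrimeSpectrum.comap (algebraMap R (Localization.Away g)) Q ∈ U) ∧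
      Algebra.Etale R (Localization.Away g) ∧
      Function.Bijective (Ideal.quotientMap (J.map (algebraMap R (Localization.Away g))) (algebraMap R (Localization.Away g)) Ideal.le_comap_map) := by
  obtain ⟨K, hK⟩ := (PrimeSpectrum.isClosed_iff_zeroLocus_ideal _).1 (isClosed_compl_iff.2 hU)
  have hJK : J ⊔ K = ⊤ := by
    by_contra hne
    obtain ⟨M, hM, hle⟩ := Ideal.exists_le_maximal _ hne
    have hmem : (⟨M, hM.isPrime⟩ : PrimeSpectrum R) ∈ PrimeSpectrum.zeroLocus (K : Set R) := fun x hx => hle (Ideal.mem_sup_right hx)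
    rw [← hK] at hmem
    exact hmem (hJ _ (fun x hx => hle (Ideal.mem_sup_left hx)))
  obtain ⟨j, hj, g, hg, hjg⟩ := Submodule.mem_sup.1 ((Ideal.eq_top_iff_one _).1 hJK)
  refine ⟨g, fun Q => by_contra fun hQ => ?_, Algebra.Etale.of_isLocalizationAway g, ?_, ?_⟩
  · have hmem : PrimeSpectrum.comap (algebraMap R (Localization.Away g)) Q ∈ PrimeSpectrum.zeroLocus (K : Set R) := by
      rw [← hK]; exact hQ
    exact Q.isPrime.ne_top (Ideal.eq_top_of_isUnit_mem _ (hmem hg) (IsLocalization.Away.algebraMap_isUnit g))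
  · have hu : IsUnit (Ideal.Quotient.mk J g) := by
      rw [show Ideal.Quotient.mk J g = 1 by
        rw [← (Ideal.Quotient.mk J).map_one, Ideal.Quotient.eq, ← hjg, sub_add_cancel_right]; exact J.neg_mem hj]
      exact isUnit_one
    let π : Localization.Away g →+* R ⧸ J := IsLocalization.Away.lift g hu
    rw [injective_iff_map_eq_zero]
    intro q hq
    obtain ⟨a, rfl⟩ := Ideal.Quotient.mk_surjective q
    rw [Ideal.quotientMap_mk, Ideal.Quotient.eq_zero_iff_mem] at hq
    have hle : J.map (algebraMap R (Localization.Away g)) ≤ RingHom.ker π := Ideal.map_le_iff_le_comap.2 fun x hx => by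
      show π (algebraMap R _ x) = 0
      rw [IsLocalization.Away.lift_eq]; exact Ideal.Quotient.eq_zero_iff_mem.2 hx
    have h0 := hle hq
    rwa [RingHom.mem_ker, IsLocalization.Away.lift_eq] at h0
  · intro q
    obtain ⟨z, rfl⟩ := Ideal.Quotient.mk_surjective q
    obtain ⟨⟨x, ⟨_, n, rfl⟩⟩, rfl⟩ := IsLocalization.mk'_surjective (Submonoid.powers g) z
    refine ⟨Ideal.Quotient.mk J x, ?_⟩
    rw [Ideal.quotientMap_mk, Ideal.Quotient.eq]
    have hun : IsUnit (algebraMap R (Localization.Away g) (g ^ n)) := by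
      rw [map_pow]; exact (IsLocalization.Away.algebraMap_isUnit g).pow n
    refine (Ideal.mul_unit_mem_iff_mem _ hun).1 ?_
    rw [sub_mul, IsLocalization.mk'_spec, ← map_mul, ← map_sub]
    refine Ideal.mem_map_of_mem _ ?_
    rw [← Ideal.Quotient.eq_zero_iff_mem, map_sub, map_mul, map_pow, show Ideal.Quotient.mk J g = 1 by
      rw [← (Ideal.Quotient.mk J).map_one, Ideal.Quotient.eq, ← hjg, sub_add_cancel_right]; exact J.neg_mem hj]
    rw [one_pow, mul_one, sub_self]

end Groth.Agent.H2ZarNbhd
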