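import Groth.Agent.Lib.DivisionInsep
import Mathlib.RingTheory.Polynomial.Pochhammer
import Mathlib.FieldTheory.Galois.Basic

set_option autoImplicit false

open Polynomial

universe u v

namespace H3AS

variable (K : Type u) [Field K] (p : ℕ) [hp : Fact p.Prime] [CharP K p]

lemma natCast_pow (i : ℕ) : (i : K) ^ p = i := by
  rw [← map_natCast (ZMod.castHom dvd_rfl K) i, ← map_pow, ZMod.pow_card]

lemma eval_sub_eq_zero (i : ℕ) : (X ^ p - X : K[X]).eval (-(i : K)) = 0 := by
  haveI : ExpChar K p := .prime hp.out
  rw [eval_sub, eval_pow, eval_X, ← frobenius_def p, map_neg, frobenius_def, natCast_pow, sub_self]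

lemma ascPochhammer_eq : ascPochhammer K p = X ^ p - X := by
  classical
  have h1 := hp.out.one_lt
  have hinj : Set.InjOn (fun i : ℕ => -(i : K)) (Finset.range p : Set ℕ) := fun i hi j hj h => by
    have h' := (CharP.natCast_eq_natCast K p).1 (neg_injective h)
    exact h'.eq_of_lt_of_lt (Finset.mem_range.1 hi) (Finset.mem_range.1 hj)
  have hm : (X ^ p - X : K[X]).Monic := monic_X_pow_sub (by rw [degree_X]; exact_mod_cast h1)
  have hd : (X ^ p - X : K[X]).natDegree = p := FiniteField.X_pow_card_sub_X_natDegree_eq K h1
  refine eq_of_degree_sub_lt_of_eval_index_eq (Finset.range p) hinj ?_ fun i hi => ?_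
  · rw [Finset.card_range]
    have hdeg : (ascPochhammer K p).degree = (p : WithBot ℕ) := by
      rw [degree_eq_natDegree (monic_ascPochhammer K p).ne_zero, ascPochhammer_natDegree]
    refine (degree_sub_lt ?_ (monic_ascPochhammer K p).ne_zero ?_).trans_eq hdeg
    · rw [hdeg, degree_eq_natDegree hm.ne_zero, hd]
    · rw [(monic_ascPochhammer K p).leadingCoeff, hm.leadingCoeff]
  · rw [eval_sub_eq_zero]
    exact ascPochhammer_eval_neg_coe_nat_of_lt (Finset.mem_range.1 hi)

variable {K p}
variable {A : Type v} [Ring A] [Algebra K A] {v u : A}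

lemma mul_pow_mul (h : v * u - u * v = 1) (n : ℕ) :
    v ^ n * u ^ n = aeval (v * u) (ascPochhammer K n) := by
  have hsw : ∀ f : K[X], v * aeval (v * u) f = aeval (v * u + 1) f * v := fun f => by
    induction f using Polynomial.induction_on' with
    | add f g hf hg => simp [mul_add, add_mul, hf, hg]
    | monomial n a =>
      have e : v * (v * u) = (v * u + 1) * v := by
        have : v * u = u * v + 1 := by rw [← h, add_sub_cancel]
        calc v * (v * u) = v * (u * v + 1) := by rw [← this]
          _ = _ := by noncomm_ring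
      have e' : v * (v * u) ^ n = (v * u + 1) ^ n * v := SemiconjBy.pow_right e n
      rw [aeval_monomial, aeval_monomial, ← mul_assoc v, ← Algebra.commutes, mul_assoc, e', mul_assoc]
  induction n with
  | zero => simp
  | succ n ih =>
    rw [pow_succ', pow_succ u, show v * v ^ n * (u ^ n * u) = v * (v ^ n * u ^ n) * u by noncomm_ring,
      ih, hsw, mul_assoc, ascPochhammer_succ_left, mul_comm (X : K[X]), map_mul, aeval_X, aeval_comp]
    simp

theorem exists_subfield {A : Type v} [DivisionRing A] [Algebra K A] [Algebra.IsCentral K A]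
    [FiniteDimensional K A] (hA : Module.finrank K A = p ^ 2) (v u : A)
    (hv : v ^ p ∈ (algebraMap K A).range) (hu : u ^ p ∈ (algebraMap K A).range) (hvu : v * u - u * v = 1) :
    ∃ (L : Type v) (_ : Field L) (_ : Algebra K L), IsGalois K L ∧ Module.finrank K L = p ∧
      Nonempty (L →ₐ[K] A) := by
  classical
  obtain ⟨c, hc⟩ := hv
  obtain ⟨d, hd⟩ := hu
  let w := v * u
  have hw : w ∉ Set.range (algebraMap K A) := by
    rintro ⟨r, hr⟩
    have h1 : v * (v * u) = (v * u) * v := by
      show v * w = w * v
      rw [← hr]
      exact (Algebra.commutes r v).symm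
    have h2 : v * (v * u - u * v) = 0 := by rw [mul_sub, h1, mul_assoc, sub_self]
    rw [hvu, mul_one] at h2
    rw [h2] at hvu
    simp at hvu
  have he : aeval w (X ^ p - X - C (c * d) : K[X]) = 0 := by
    have h1 := mul_pow_mul (K := K) hvu p
    rw [ascPochhammer_eq, map_sub, map_pow, aeval_X] at h1
    rw [map_sub, map_sub, map_pow, aeval_X, aeval_C, map_mul, hc, hd, h1]
    simp [w]
  let B := Algebra.adjoin K ({w} : Set A)
  letI : CommRing B := { (inferInstance : Ring B) with
    mul_comm := fun x y => Subtype.ext ((Algebra.commute_of_mem_adjoin_of_forall_mem_commute y.2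
      fun b hb => by
        obtain rfl := hb
        exact (Algebra.commute_of_mem_adjoin_self x.2).symm) : Commute (x : A) (y : A)) }
  have hdom : IsDomain B := inferInstance
  letI := (isField_of_isIntegral_of_isField' (R := K) (S := B) (Field.toIsField K)).toField
  have hpB : Module.finrank K B = p :=
    Groth.Agent.DivIns.finrank_adjoin_eq hp.out hA {w} (by simp) ⟨w, rfl, hw⟩
  refine ⟨B, inferInstance, inferInstance, ?_, hpB, ⟨B.val⟩⟩
  haveI : CharP B p := charP_of_injective_algebraMap (algebraMap K B).injective p
  let wB : B := ⟨w, Algebra.subset_adjoin rfl⟩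
  let q : K[X] := X ^ p - X - C (c * d)
  have h1 := hp.out.one_lt
  have hwB : aeval wB q = 0 := Subtype.ext (by
    rw [← Subalgebra.coe_val, ← aeval_algHom_apply]; exact he)
  have hqd : q.natDegree = p := by
    rw [natDegree_sub_C, FiniteField.X_pow_card_sub_X_natDegree_eq K h1]
  have hq0 : q ≠ 0 := fun h => by rw [h] at hqd; simp at hqd; omega
  have hqs : q.Separable := by
    rw [separable_def]
    have : derivative q = C (-1) := by simp [q, derivative_X_pow, CharP.cast_eq_zero K p]
    rw [this]
    exact IsCoprime.symm ⟨C (-1), 0, by simp [← C_mul]⟩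
  have hroot : ∀ i : ℕ, aeval (wB + i) q = 0 := fun i => by
    rw [← hwB]
    simp [q, add_pow_char, natCast_pow B p i]
  have : IsSplittingField K B q := by
    refine ⟨?_, ?_⟩
    · rw [Polynomial.splits_iff_card_roots]
      refine le_antisymm (card_roots' _) ?_
      rw [natDegree_map, hqd]
      let s := (Finset.range p).image fun i : ℕ => wB + (i : B)
      have hs : s.card = p := by
        rw [Finset.card_image_of_injOn, Finset.card_range]
        intro i hi j hj h
        have h' := (CharP.natCast_eq_natCast B p).1 (add_left_cancel h)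
        exact h'.eq_of_lt_of_lt (Finset.mem_range.1 hi) (Finset.mem_range.1 hj)
      refine hs.symm.le.trans (Multiset.card_le_card (s := s.1) ?_)
      rw [Multiset.le_iff_subset s.nodup]
      intro x hx
      obtain ⟨i, -, rfl⟩ := Finset.mem_image.1 (Finset.mem_def.2 hx : x ∈ s)
      rw [mem_roots (Polynomial.map_ne_zero hq0), IsRoot, eval_map_algebraMap]
      exact hroot i
    · rw [eq_top_iff]
      rintro ⟨x, hx⟩ -
      have hmem : wB ∈ q.rootSet B := (mem_rootSet_of_ne hq0).2 hwB
      induction hx using Algebra.adjoin_induction with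
      | mem x hx => obtain rfl := hx; exact Algebra.subset_adjoin hmem
      | algebraMap r => exact Subalgebra.algebraMap_mem _ r
      | add x y hx hy ihx ihy => exact add_mem ihx ihy
      | mul x y hx hy ihx ihy => exact mul_mem ihx ihy
  exact IsGalois.of_separable_splitting_field hqs

end H3AS
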