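import Mathlib

/-! Fibrewise criterion of smoothness at a point. -/

set_option autoImplicit false
universe u
open CategoryTheory CategoryTheory.Limits AlgebraicGeometry
open TensorProduct IsLocalRing

namespace Groth.Agent.H3SmoothPoint

section Alg
open Algebra

set_option backward.isDefEq.respectTransparency.types false in
set_option maxRecDepth 4000 in
theorem smoothAt_of_fibre {R S : Type u} [CommRing R] [CommRing S] [Algebra R S] [Algebra.FinitePresentation R S]
    (p : Ideal R) [p.IsPrime] (qb : Ideal (p.Fiber S)) [qb.IsPrime]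
    [(qb.comap (Algebra.TensorProduct.includeRight (R := R) (A := p.ResidueField) (B := S))).LiesOver p]
    (hflat : (Localization.localRingHom p (qb.comap (Algebra.TensorProduct.includeRight (R := R) (A := p.ResidueField) (B := S)))
      (algebraMap R S) (Ideal.over_def _ p)).Flat)
    (h : Algebra.IsSmoothAt p.ResidueField qb) :
    Algebra.IsSmoothAt R (qb.comap (Algebra.TensorProduct.includeRight (R := R) (A := p.ResidueField) (B := S))) := by
  set q := qb.comap (Algebra.TensorProduct.includeRight (R := R) (A := p.ResidueField) (B := S)) with hqdef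
  let Rp := Localization.AtPrime p
  let Sp := Localization (algebraMapSubmonoid S p.primeCompl)
  let Sq := Localization.AtPrime q
  let := Localization.AtPrime.algebraOfLiesOver p q
  have : Module.Flat Rp Sq := hflat
  let f : Sp →ₐ[S] Sq := IsLocalization.liftAlgHom (M := algebraMapSubmonoid S p.primeCompl)
        (f := Algebra.ofId _ _) (by
      rintro ⟨_, x, hx, rfl⟩
      simpa using! IsLocalization.map_units (M := q.primeCompl) Sq ⟨algebraMap _ _ x,
        by
          intro hmem
          have h2 : x ∈ q.comap (algebraMap R S) := hmem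
          rw [← Ideal.under_def, ← Ideal.over_def q p] at h2
          exact hx h2⟩)
  algebraize [f.toRingHom]
  have : IsScalarTower R Sp Sq := .to₁₃₄ _ S _ _
  have : IsScalarTower Rp Sp Sq := .of_algebraMap_eq' <| by
    apply IsLocalization.ringHom_ext p.primeCompl
    simp only [RingHom.comp_assoc, ← IsScalarTower.algebraMap_eq]
  have hle : algebraMapSubmonoid S p.primeCompl ≤ q.primeCompl := by
    rintro _ ⟨x, hx, rfl⟩ hmem
    have h2 : x ∈ q.comap (algebraMap R S) := hmem
    rw [← Ideal.under_def, ← Ideal.over_def q p] at h2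
    exact hx h2
  have : IsLocalization (algebraMapSubmonoid Sp q.primeCompl) Sq :=
    .isLocalization_of_submonoid_le _ _ (algebraMapSubmonoid S p.primeCompl) _ hle
  have : Algebra.FinitePresentation Rp Sp := by
    have : Algebra.IsPushout R Rp S Sp :=
      .symm <| Algebra.isPushout_of_isLocalization p.primeCompl _ _ _
    exact .equiv (Algebra.IsPushout.equiv R Rp S Sp)
  have : FormallySmooth (ResidueField Rp) (ResidueField Rp ⊗[Rp] Sq) := by
    have hs : FormallySmooth p.ResidueField (Localization.AtPrime qb) := h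
    let e1 : Localization.AtPrime qb ≃ₐ[R] Sq ⧸ (p.map (algebraMap R S)).map (algebraMap S Sq) :=
      Ideal.Fiber.algEquivAux₂ p qb
    have hI : (p.map (algebraMap R S)).map (algebraMap S Sq) = (maximalIdeal Rp).map (algebraMap Rp Sq) := by
      rw [← Localization.AtPrime.map_eq_maximalIdeal, Ideal.map_map, Ideal.map_map,
        ← IsScalarTower.algebraMap_eq, ← IsScalarTower.algebraMap_eq]
    let e2 : (Sq ⧸ (p.map (algebraMap R S)).map (algebraMap S Sq)) ≃ₐ[R]
        Sq ⧸ (maximalIdeal Rp).map (algebraMap Rp Sq) := Ideal.quotientEquivAlgOfEq R hI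
    let e3 : (Sq ⧸ (maximalIdeal Rp).map (algebraMap Rp Sq)) ≃ₐ[R] ResidueField Rp ⊗[Rp] Sq :=
      ((Algebra.TensorProduct.quotIdealMapEquivTensorQuot Sq (maximalIdeal Rp)).restrictScalars R).trans
        ((Algebra.TensorProduct.comm Rp Sq (ResidueField Rp)).restrictScalars R)
    let e' : Localization.AtPrime qb ≃ₐ[R] ResidueField Rp ⊗[Rp] Sq := (e1.trans e2).trans e3
    have : e'.toAlgHom.comp (IsScalarTower.toAlgHom R p.ResidueField _) =
        IsScalarTower.toAlgHom _ _ _ :=
      Ideal.ResidueField.algHom_ext (Subsingleton.elim _ _)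
    let e'' : Localization.AtPrime qb ≃ₐ[p.ResidueField] ResidueField Rp ⊗[Rp] Sq :=
      AlgEquiv.ofRingEquiv (f := e'.toRingEquiv) (fun r => AlgHom.congr_fun this r)
    exact @Algebra.FormallySmooth.of_equiv _ _ _ _ _ _ _ _ hs e''
  have := Algebra.FormallySmooth.of_formallySmooth_residueField_tensor
    (R := Rp) (S := Sq) (P := Sp) (algebraMapSubmonoid _ q.primeCompl)
  exact .comp R Rp Sq

end Alg

theorem smoothLocus_le_baseChange {P X Y Z : Scheme.{u}} {fst : P ⟶ X} {snd : P ⟶ Y} {f : X ⟶ Z} {g : Y ⟶ Z}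
    [LocallyOfFinitePresentation f] [LocallyOfFinitePresentation snd]
    (h : IsPullback fst snd f g) : fst ⁻¹ᵁ f.smoothLocus ≤ snd.smoothLocus := by
  intro z hz
  set U := f.smoothLocus with hU
  have hsm : Smooth (U.ι ≫ f) := by
    rw [← Scheme.Hom.smoothLocus_eq_top_iff, ← Scheme.Hom.preimage_smoothLocus_eq, ← hU]
    exact Scheme.Opens.ι_preimage_self U
  have sq := (isPullback_morphismRestrict fst U).paste_vert h
  have hsm' : Smooth ((fst ⁻¹ᵁ U).ι ≫ snd) := MorphismProperty.of_isPullback (P := @Smooth) sq hsm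
  have ht := (Scheme.Hom.preimage_smoothLocus_eq (fst ⁻¹ᵁ U).ι snd).trans
    (Scheme.Hom.smoothLocus_eq_top _)
  have : (⟨z, hz⟩ : ↥(fst ⁻¹ᵁ U)) ∈ (fst ⁻¹ᵁ U).ι ⁻¹ᵁ snd.smoothLocus := ht ▸ trivial
  exact this

theorem exists_fac_residueField (K : Type u) [Field K] {Y : Scheme.{u}} (t : Spec (.of K) ⟶ Y) (y : Y)
    (h : t (closedPoint K) = y) :
    ∃ e : Spec (.of K) ⟶ Spec (Y.residueField y), e ≫ Y.fromSpecResidueField y = t := by
  subst h
  exact ⟨_, Scheme.descResidueField_stalkClosedPointTo_fromSpecResidueField K Y t⟩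

theorem fibre_smoothAt {X Y : Scheme.{u}} (f : X ⟶ Y) [LocallyOfFinitePresentation f] (x : X)
    [LocallyOfFinitePresentation (f.fiberToSpecResidueField (f.base x))]
    {R S : Type u} [CommRing R] [CommRing S] [Algebra R S] [Algebra.FinitePresentation R S]
    (i : Spec (.of R) ⟶ Y) [IsOpenImmersion i] (j : Spec (.of S) ⟶ X) [IsOpenImmersion j]
    (w : Spec.map (CommRingCat.ofHom (algebraMap R S)) ≫ i = j ≫ f)
    (p : PrimeSpectrum R) (qb : PrimeSpectrum (p.asIdeal.Fiber S))
    (hq : j (PrimeSpectrum.comap (Algebra.TensorProduct.includeRight.toRingHom : S →+* p.asIdeal.Fiber S) qb) = x)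
    (hp : i p = f x)
    (hfib : f.asFiber x ∈ (f.fiberToSpecResidueField (f.base x)).smoothLocus) :
    Algebra.IsSmoothAt p.asIdeal.ResidueField qb.asIdeal := by
  let k := p.asIdeal.ResidueField
  let φ := CommRingCat.ofHom (algebraMap R S)
  let g : Spec (.of k) ⟶ Spec (.of R) := Spec.map (CommRingCat.ofHom (algebraMap R k))
  let a : Spec (.of (p.asIdeal.Fiber S)) ⟶ Spec (.of S) :=
    Spec.map (CommRingCat.ofHom (Algebra.TensorProduct.includeRight.toRingHom : S →+* p.asIdeal.Fiber S))
  let b : Spec (.of (p.asIdeal.Fiber S)) ⟶ Spec (.of k) :=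
    Spec.map (CommRingCat.ofHom (algebraMap k (p.asIdeal.Fiber S)))
  have sq1 : IsPullback a b (Spec.map φ) g :=
    (isPullback_SpecMap_of_isPushout _ _ _ _ (CommRingCat.isPushout_tensorProduct R k S).flip)
  let t : Spec (.of k) ⟶ Y := g ≫ i
  have ht : t (closedPoint k) = f x := by
    rw [Scheme.Hom.comp_apply]
    show i (g (closedPoint k)) = f x
    rw [← hp]
    congr 1
    exact (PrimeSpectrum.residueField_comap p).le ⟨closedPoint k, rfl⟩
  obtain ⟨e, he⟩ := exists_fac_residueField k t (f x) ht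
  let m₀ : pullback (Spec.map φ) g ⟶ pullback f t :=
    pullback.map (Spec.map φ) g f t j (𝟙 _) i w (Category.id_comp _).symm
  let m : Spec (.of (p.asIdeal.Fiber S)) ⟶ pullback f t := sq1.isoPullback.hom ≫ m₀
  haveI : IsOpenImmersion m := inferInstance
  have hm1 : m ≫ pullback.fst f t = a ≫ j := by
    simp only [m, m₀, pullback.map, Category.assoc]
    erw [pullback.lift_fst]
    exact sq1.isoPullback_hom_fst_assoc _
  have hm2 : m ≫ pullback.snd f t = b := by
    simp only [m, m₀, pullback.map, Category.assoc]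
    erw [pullback.lift_snd]
    simp
  let n : pullback f t ⟶ f.fiber (f x) :=
    pullback.map f t f (Y.fromSpecResidueField (f x)) (𝟙 _) e (𝟙 _) (by simp) (by simp [he])
  have hn : n ≫ f.fiberι (f x) = pullback.fst f t := by
    simp only [n, pullback.map, Scheme.Hom.fiberι]
    erw [pullback.lift_fst]
    exact Category.comp_id _
  have sq2 : IsPullback n (pullback.snd f t) (f.fiberToSpecResidueField (f x)) e := by
    refine .of_right (h₁₂ := f.fiberι (f x)) ?_ ?_ (IsPullback.of_hasPullback f (Y.fromSpecResidueField (f x)))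
    · rw [hn, he]
      exact IsPullback.of_hasPullback f t
    · simp only [n, pullback.map, Scheme.Hom.fiberToSpecResidueField]
      erw [pullback.lift_snd]
  have hz : n (m qb) = f.asFiber x := by
    apply (f.fiberι (f x)).isEmbedding.injective
    rw [f.fiberι_asFiber, ← Scheme.Hom.comp_apply, hn, ← Scheme.Hom.comp_apply, hm1, Scheme.Hom.comp_apply]
    exact hq
  have h1 : m qb ∈ (pullback.snd f t).smoothLocus := by
    refine smoothLocus_le_baseChange sq2 ?_
    exact (show n (m qb) ∈ (f.fiberToSpecResidueField (f x)).smoothLocus from hz.symm ▸ hfib)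
  have hmem : ∀ z, z ∈ m ⁻¹ᵁ (pullback.snd f t).smoothLocus → z ∈ (m ≫ pullback.snd f t).smoothLocus :=
    fun z hz => (Scheme.Hom.preimage_smoothLocus_eq m (pullback.snd f t)) ▸ hz
  have h2 : ((m ≫ pullback.snd f t).stalkMap qb).hom.FormallySmooth := hmem qb h1
  have h3 : (b.stalkMap qb).hom.FormallySmooth := by
    revert h2
    generalize hgen : m ≫ pullback.snd f t = b'
    rw [hm2] at hgen
    subst hgen
    exact id
  rw [RingHom.FormallySmooth.respectsIso.arrow_mk_iso_iff (Scheme.arrowStalkMapSpecIso _ _)] at h3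
  let P0 := (qb.comap (algebraMap k (p.asIdeal.Fiber S))).asIdeal
  haveI : qb.asIdeal.LiesOver P0 := ⟨rfl⟩
  let := Localization.AtPrime.algebraOfLiesOver P0 qb.asIdeal
  have h4 : Algebra.FormallySmooth (Localization.AtPrime P0) (Localization.AtPrime qb.asIdeal) := by
    rw [← RingHom.formallySmooth_algebraMap]
    exact h3
  exact Algebra.FormallySmooth.iff_restrictScalars.mpr h4

theorem mem_smoothLocus {X Y : Scheme.{u}} (f : X ⟶ Y) [LocallyOfFinitePresentation f] (x : X)
    [LocallyOfFinitePresentation (f.fiberToSpecResidueField (f.base x))] :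
    x ∈ f.smoothLocus ↔
      (f.stalkMap x).hom.Flat ∧ f.asFiber x ∈ (f.fiberToSpecResidueField (f.base x)).smoothLocus := by
  constructor
  · intro hx
    refine ⟨?_, ?_⟩
    · set U := f.smoothLocus with hU
      have hsm : Smooth (U.ι ≫ f) := by
        rw [← Scheme.Hom.smoothLocus_eq_top_iff, ← Scheme.Hom.preimage_smoothLocus_eq, ← hU]
        exact Scheme.Opens.ι_preimage_self U
      have h1 := Flat.stalkMap (U.ι ≫ f) ⟨x, hx⟩
      rw [Scheme.Hom.stalkMap_comp] at h1
      let z : U.toScheme := ⟨x, hx⟩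
      exact (RingHom.Flat.respectsIso.cancel_right_isIso (f.stalkMap (U.ι z)) (U.ι.stalkMap z)).mp h1
    · refine smoothLocus_le_baseChange (IsPullback.of_hasPullback f (Y.fromSpecResidueField (f x))) ?_
      show f.fiberι _ (f.asFiber x) ∈ f.smoothLocus
      rwa [f.fiberι_asFiber]
  · rintro ⟨hflat, hfib⟩
    obtain ⟨_, ⟨U, hU, rfl⟩, hxU, -⟩ :=
      Y.isBasis_affineOpens.exists_subset_of_mem_open (Set.mem_univ (f x)) isOpen_univ
    obtain ⟨_, ⟨V, hV, rfl⟩, hxV, hVU⟩ :=
      X.isBasis_affineOpens.exists_subset_of_mem_open hxU (U.2.preimage f.continuous)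
    have hfp := f.finitePresentation_appLE hU hV hVU
    rw [Scheme.Hom.mem_smoothLocus, formallySmooth_stalkMap_iff U hU V hV hVU hxV]
    algebraize [(f.appLE U V hVU).hom]
    set P := hU.primeIdealOf ⟨f x, hVU hxV⟩ with hPdef
    set Q := hV.primeIdealOf ⟨x, hxV⟩ with hQdef
    have hQP : PrimeSpectrum.comap (algebraMap Γ(Y, U) Γ(X, V)) Q = P :=
      IsAffineOpen.comap_primeIdealOf_appLE U hU V hV hVU hxV
    let qb := PrimeSpectrum.preimageEquivFiber Γ(Y, U) Γ(X, V) P ⟨Q, hQP⟩
    have hqb : PrimeSpectrum.comap (Algebra.TensorProduct.includeRight.toRingHom : Γ(X, V) →+* P.asIdeal.Fiber Γ(X, V)) qb = Q :=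
      congrArg Subtype.val ((PrimeSpectrum.preimageEquivFiber Γ(Y, U) Γ(X, V) P).symm_apply_apply ⟨Q, hQP⟩)
    have hsm := fibre_smoothAt f x hU.fromSpec hV.fromSpec (IsAffineOpen.SpecMap_appLE_fromSpec f hU hV hVU)
      P qb (by rw [hqb]; exact hV.fromSpec_primeIdealOf _) (hU.fromSpec_primeIdealOf _) hfib
    haveI : (qb.asIdeal.comap (Algebra.TensorProduct.includeRight (R := Γ(Y, U)) (A := P.asIdeal.ResidueField) (B := Γ(X, V)))).LiesOver P.asIdeal :=
      ⟨by
        show P.asIdeal = (PrimeSpectrum.comap (algebraMap Γ(Y, U) Γ(X, V)) (PrimeSpectrum.comap Algebra.TensorProduct.includeRight.toRingHom qb)).asIdeal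
        rw [hqb, hQP]⟩
    have hl : ∀ (Q' : Ideal Γ(X, V)) [Q'.IsPrime] [Q'.LiesOver P.asIdeal], Q' = Q.asIdeal →
        (Localization.localRingHom P.asIdeal Q' (algebraMap Γ(Y, U) Γ(X, V)) (Ideal.over_def _ P.asIdeal)).Flat := by
      rintro _ _ _ rfl
      exact (RingHom.Flat.respectsIso.arrow_mk_iso_iff
        (IsAffineOpen.arrowStalkMapIso f U hU V hV hVU hxV)).mp hflat
    have hQ' : qb.asIdeal.comap (Algebra.TensorProduct.includeRight (R := Γ(Y, U)) (A := P.asIdeal.ResidueField) (B := Γ(X, V))) = Q.asIdeal :=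
      congrArg PrimeSpectrum.asIdeal hqb
    have := smoothAt_of_fibre P.asIdeal qb.asIdeal (hl _ hQ') hsm
    have key : ∀ (Q' : Ideal Γ(X, V)) [Q'.IsPrime], Q' = Q.asIdeal → Algebra.IsSmoothAt Γ(Y, U) Q' →
        Algebra.IsSmoothAt Γ(Y, U) Q.asIdeal := by
      rintro _ _ rfl h; exact h
    exact key _ hQ' this

end Groth.Agent.H3SmoothPoint
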