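import Mathlib
import Groth.Agent.Lib.H3SmoothPoint

/-! The smooth locus commutes with flat base change. -/

set_option autoImplicit false
universe u
open CategoryTheory CategoryTheory.Limits AlgebraicGeometry
open TensorProduct IsLocalRing

namespace Groth.Agent.H3SmoothBaseChange

attribute [local instance] Algebra.TensorProduct.rightAlgebra

set_option backward.isDefEq.respectTransparency.types false in
theorem smoothAt_of_fieldExtension {k K S : Type u} [Field k] [Field K] [Algebra k K] [CommRing S] [Algebra k S]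
    [Algebra.FinitePresentation k S] (Q : Ideal (K ⊗[k] S)) [Q.IsPrime] (hQ : Algebra.IsSmoothAt K Q)
    (q : Ideal S) [q.IsPrime] (hq : q = Q.comap (Algebra.TensorProduct.includeRight (R := k) (A := K) (B := S))) :
    Algebra.IsSmoothAt k q := by
  let T := K ⊗[k] S
  let ι : S →ₐ[k] T := Algebra.TensorProduct.includeRight
  have hQ' : (⟨Q, inferInstance⟩ : PrimeSpectrum T) ∈ Algebra.smoothLocus K T := hQ
  rw [Algebra.smoothLocus_eq_compl_support_inter] at hQ'
  obtain ⟨hH, hfree⟩ := hQ'
  suffices h : (⟨q, inferInstance⟩ : PrimeSpectrum S) ∈ Algebra.smoothLocus k S from h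
  rw [Algebra.smoothLocus_eq_compl_support_inter]
  refine ⟨?_, ?_⟩
  · -- first homology of the cotangent complex
    rw [Set.mem_compl_iff, Module.notMem_support_iff'] at hH ⊢
    intro x
    by_contra hcon
    push Not at hcon
    let e := Algebra.tensorH1CotangentOfFlat k S K
    obtain ⟨u, hu, hux⟩ := hH (Algebra.H1Cotangent.map k K S T x)
    let ψ : S →ₗ[k] Algebra.H1Cotangent k S := (LinearMap.toSpanSingleton S _ x).restrictScalars k
    have hz : ∀ z : T, e (ψ.lTensor K z) = z • Algebra.H1Cotangent.map k K S T x := by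
      intro z
      induction z using TensorProduct.induction_on with
      | zero => simp
      | add a b ha hb => simp only [map_add, ha, hb, add_smul]
      | tmul t s =>
        rw [LinearMap.lTensor_tmul, Algebra.tensorH1CotangentOfFlat_tmul]
        show t • Algebra.H1Cotangent.map k K S T (s • x) = _
        rw [map_smul, ← algebraMap_smul T t, ← algebraMap_smul T s (Algebra.H1Cotangent.map k K S T x), smul_smul]
        congr 1
        show (t ⊗ₜ[k] (1 : S)) * ((1 : K) ⊗ₜ[k] s) = _
        rw [Algebra.TensorProduct.tmul_mul_tmul, mul_one, one_mul]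
    have hzero : ψ.lTensor K u = 0 := e.injective (by rw [hz, hux, map_zero])
    have hex : Function.Exact (LinearMap.ker ψ).subtype ψ := LinearMap.exact_subtype_ker_map ψ
    obtain ⟨w, hw⟩ := (Module.Flat.lTensor_exact K hex u).mp hzero
    apply hu
    rw [← hw]
    clear hw hzero hux
    induction w with
    | zero => simp
    | add a b ha hb => rw [map_add]; exact add_mem ha hb
    | tmul t s =>
      obtain ⟨s, hs⟩ := s
      have hs' : s • x = 0 := hs
      have hsq : s ∈ q := by
        by_contra hn
        exact hcon s hn hs'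
      rw [hq] at hsq
      rw [LinearMap.lTensor_tmul]
      show t ⊗ₜ[k] s ∈ Q
      have h1 : (t ⊗ₜ[k] (1 : S)) * ((1 : K) ⊗ₜ[k] s) ∈ Q := Q.mul_mem_left _ hsq
      rwa [Algebra.TensorProduct.tmul_mul_tmul, mul_one, one_mul] at h1
  · -- differentials
    haveI : Q.LiesOver q := ⟨hq⟩
    let := Localization.AtPrime.algebraOfLiesOver q Q
    let Sq := Localization.AtPrime q
    let TQ := Localization.AtPrime Q
    haveI : Module.Flat S T :=
      Module.Flat.of_linearEquiv (Algebra.TensorProduct.commRight k S K).toLinearEquiv.symm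
    haveI : Module.Flat Sq TQ :=
      RingHom.Flat.localRingHom (f := algebraMap S T) (RingHom.flat_algebraMap_iff.mpr inferInstance) Q q hq
    haveI : IsLocalHom (algebraMap Sq TQ) := Localization.isLocalHom_localRingHom q Q (algebraMap S T) hq
    haveI : Module.FaithfullyFlat Sq TQ := Module.FaithfullyFlat.of_flat_of_isLocalHom
    rw [Module.mem_freeLocus_iff_tensor _ TQ] at hfree
    rw [Module.mem_freeLocus_iff_tensor _ Sq]
    haveI : IsNoetherianRing S := Algebra.FiniteType.isNoetherianRing k S
    let e1 : T ⊗[S] Ω[S⁄k] ≃ₗ[T] Ω[T⁄K] := KaehlerDifferential.tensorKaehlerEquiv k K S T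
    let e : TQ ⊗[Sq] (Sq ⊗[S] Ω[S⁄k]) ≃ₗ[TQ] TQ ⊗[T] Ω[T⁄K] :=
      AlgebraTensorModule.cancelBaseChange S Sq TQ TQ Ω[S⁄k] ≪≫ₗ
        (AlgebraTensorModule.cancelBaseChange S T TQ TQ Ω[S⁄k]).symm ≪≫ₗ
        (AlgebraTensorModule.congr (LinearEquiv.refl TQ TQ) e1)
    haveI : Module.Free TQ (TQ ⊗[Sq] (Sq ⊗[S] Ω[S⁄k])) := Module.Free.of_equiv e.symm
    haveI : Module.Flat Sq (Sq ⊗[S] Ω[S⁄k]) := Module.Flat.of_flat_tensorProduct _ _ TQ
    exact Module.free_of_flat_of_isLocalRing

theorem descend_field {P X : Scheme.{u}} {k K : CommRingCat.{u}} (hk : IsField k) (hK : IsField K) (ψ : k ⟶ K)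
    {fst : P ⟶ X} {snd : P ⟶ Spec K} {f : X ⟶ Spec k} [LocallyOfFinitePresentation f]
    [LocallyOfFinitePresentation snd] (h : IsPullback fst snd f (Spec.map ψ)) (z : P)
    (hz : z ∈ snd.smoothLocus) : fst z ∈ f.smoothLocus := by
  letI := hk.toField
  letI := hK.toField
  obtain ⟨_, ⟨V, hV, rfl⟩, hxV, -⟩ :=
    X.isBasis_affineOpens.exists_subset_of_mem_open (Set.mem_univ (fst z)) isOpen_univ
  let j := hV.fromSpec
  obtain ⟨s, hs⟩ : fst z ∈ Set.range j := by rw [hV.range_fromSpec]; exact hxV
  obtain ⟨φ, hφ⟩ : ∃ φ, Spec.map φ = j ≫ f := ⟨_, Spec.map_preimage _⟩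
  have hfp : φ.hom.FinitePresentation := by
    have : LocallyOfFinitePresentation (Spec.map φ) := hφ ▸ inferInstance
    exact (HasRingHomProperty.Spec_iff (P := @LocallyOfFinitePresentation)).mp this
  algebraize [φ.hom, ψ.hom]
  haveI : Algebra.FinitePresentation k Γ(X, V) := hfp
  let T := K ⊗[k] Γ(X, V)
  let a : Spec (.of T) ⟶ Spec Γ(X, V) :=
    Spec.map (CommRingCat.ofHom (Algebra.TensorProduct.includeRight.toRingHom : Γ(X, V) →+* T))
  let b : Spec (.of T) ⟶ Spec K := Spec.map (CommRingCat.ofHom (algebraMap K T))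
  have sq1 : IsPullback a b (Spec.map φ) (Spec.map ψ) :=
    (isPullback_SpecMap_of_isPushout _ _ _ _ (CommRingCat.isPushout_tensorProduct k K Γ(X, V)).flip)
  rw [hφ] at sq1
  let m := h.lift (a ≫ j) b (by rw [Category.assoc]; exact sq1.w)
  have hm1 : m ≫ fst = a ≫ j := h.lift_fst _ _ _
  have hm2 : m ≫ snd = b := h.lift_snd _ _ _
  have sq2 : IsPullback a m j fst := IsPullback.of_bot (by rw [hm2]; exact sq1) hm1.symm h
  haveI : IsOpenImmersion m := MorphismProperty.of_isPullback (P := @IsOpenImmersion) sq2 inferInstance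
  obtain ⟨w, hw1, hw2⟩ := Scheme.exists_preimage_of_isPullback sq2 s z hs
  have hb : (b.stalkMap w).hom.FormallySmooth := by
    have h1 : w ∈ (m ≫ snd).smoothLocus := by
      rw [← Scheme.Hom.preimage_smoothLocus_eq]
      show m w ∈ snd.smoothLocus
      rw [hw2]
      exact hz
    have h2 : ((m ≫ snd).stalkMap w).hom.FormallySmooth := h1
    revert h2
    generalize hgen : m ≫ snd = b'
    rw [hm2] at hgen
    subst hgen
    exact id
  rw [RingHom.FormallySmooth.respectsIso.arrow_mk_iso_iff (Scheme.arrowStalkMapSpecIso _ _)] at hb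
  let P0 := (PrimeSpectrum.comap (algebraMap K T) w).asIdeal
  haveI : w.asIdeal.LiesOver P0 := ⟨rfl⟩
  let := Localization.AtPrime.algebraOfLiesOver P0 w.asIdeal
  have hsm : Algebra.IsSmoothAt K w.asIdeal := by
    refine Algebra.FormallySmooth.iff_restrictScalars (R := K) (A := Localization.AtPrime P0).mpr ?_
    rw [← RingHom.formallySmooth_algebraMap]
    exact hb
  have hd := smoothAt_of_fieldExtension w.asIdeal hsm s.asIdeal (by rw [← hw1]; rfl)
  haveI : LocallyOfFinitePresentation (Spec.map φ) := hφ ▸ inferInstance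
  have hs' : s ∈ (Spec.map φ).smoothLocus := by
    rw [Scheme.Hom.mem_smoothLocus, RingHom.FormallySmooth.respectsIso.arrow_mk_iso_iff (Scheme.arrowStalkMapSpecIso _ _)]
    let P1 := (PrimeSpectrum.comap φ.hom s).asIdeal
    haveI : s.asIdeal.LiesOver P1 := ⟨rfl⟩
    let := Localization.AtPrime.algebraOfLiesOver P1 s.asIdeal
    show (algebraMap (Localization.AtPrime P1) (Localization.AtPrime s.asIdeal)).FormallySmooth
    rw [RingHom.formallySmooth_algebraMap]
    exact Algebra.FormallySmooth.iff_restrictScalars.mp hd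
  have hs2 : ((Spec.map φ).stalkMap s).hom.FormallySmooth := hs'
  have hs3 : s ∈ (j ≫ f).smoothLocus := by
    rw [Scheme.Hom.mem_smoothLocus]
    revert hs2
    generalize hgen : Spec.map φ = g
    rw [hφ] at hgen
    subst hgen
    exact id
  rw [← Scheme.Hom.preimage_smoothLocus_eq] at hs3
  have : j s ∈ f.smoothLocus := hs3
  rwa [hs] at this

theorem flat_of_faithfullyFlat (A B C : Type u) [CommRing A] [CommRing B] [CommRing C] [Algebra A B] [Algebra B C]
    [Algebra A C] [IsScalarTower A B C] [Module.FaithfullyFlat B C] [Module.Flat A C] : Module.Flat A B := by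
  rw [Module.Flat.iff_lTensor_preserves_injective_linearMap]
  intro N P _ _ _ _ f hf
  let g : B ⊗[A] N →ₗ[B] B ⊗[A] P := AlgebraTensorModule.map LinearMap.id f
  suffices Function.Injective g from this
  rw [← Module.FaithfullyFlat.lTensor_injective_iff_injective B C]
  have : ∀ z, AlgebraTensorModule.cancelBaseChange A B C C P (g.lTensor C z) =
      f.lTensor C (AlgebraTensorModule.cancelBaseChange A B C C N z) := by
    intro z
    induction z with
    | zero => simp
    | add a b ha hb => simp only [map_add, ha, hb]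
    | tmul c y =>
      induction y with
      | zero => simp
      | add a b ha hb => simp only [tmul_add, map_add, ha, hb]
      | tmul b n => simp [g]
  intro z z' hzz
  apply (AlgebraTensorModule.cancelBaseChange A B C C N).injective
  apply Module.Flat.lTensor_preserves_injective_linearMap (M := C) f hf
  rw [← this, ← this, hzz]

theorem fibre_descend {X Y X' Y' : Scheme.{u}} {f : X ⟶ Y} {g : Y' ⟶ Y} {f' : X' ⟶ Y'} {g' : X' ⟶ X}
    (h : IsPullback g' f' f g) [LocallyOfFinitePresentation f] [LocallyOfFinitePresentation f'] (x' : X')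
    [LocallyOfFinitePresentation (f'.fiberToSpecResidueField (f' x'))]
    [LocallyOfFinitePresentation (f.fiberToSpecResidueField (f (g' x')))]
    (hx' : f'.asFiber x' ∈ (f'.fiberToSpecResidueField (f' x')).smoothLocus) :
    f.asFiber (g' x') ∈ (f.fiberToSpecResidueField (f (g' x'))).smoothLocus := by
  haveI : LocallyOfFinitePresentation (f.fiberToSpecResidueField (g (f' x'))) :=
    MorphismProperty.pullback_snd _ _ inferInstance
  have sq := isPullback_fiberToSpecResidueField_of_isPullback h (f' x')
  have hmem := descend_field (k := Y.residueField (g (f' x'))) (K := Y'.residueField (f' x'))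
    (f := f.fiberToSpecResidueField (g (f' x'))) (snd := f'.fiberToSpecResidueField (f' x'))
    (Field.toIsField _) (Field.toIsField _) (g.residueFieldMap (f' x')) sq _ hx'
  have hproj : f.fiberι (g (f' x')) (pullback.map f' (Y'.fromSpecResidueField (f' x')) f
      (Y.fromSpecResidueField (g (f' x'))) g' (Spec.map (g.residueFieldMap (f' x'))) g h.w.symm (by simp)
      (f'.asFiber x')) = g' x' := by
    refine (Scheme.Hom.comp_apply _ _ _).symm.trans ?_
    simp only [pullback.map, Scheme.Hom.fiberι]
    erw [pullback.lift_fst]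
    rw [Scheme.Hom.comp_apply]
    exact congrArg g' (f'.fiberι_asFiber x')
  have key : ∀ (y : Y) (hy : f (g' x') = y) [LocallyOfFinitePresentation (f.fiberToSpecResidueField y)] (z : f.fiber y),
      f.fiberι y z = g' x' → z ∈ (f.fiberToSpecResidueField y).smoothLocus →
      f.asFiber (g' x') ∈ (f.fiberToSpecResidueField (f (g' x'))).smoothLocus := by
    rintro _ rfl _ z hz hzs
    have : z = f.asFiber (g' x') := by
      apply (f.fiberι _).isEmbedding.injective
      rw [hz, f.fiberι_asFiber]
    rwa [this] at hzs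
  exact key (g (f' x')) (show (g' ≫ f) x' = (f' ≫ g) x' by rw [h.w]) _ hproj hmem

theorem smoothLocus_baseChange {X S X' S' : Scheme.{u}} (f : X ⟶ S) (g : S' ⟶ S) (f' : X' ⟶ S') (g' : X' ⟶ X)
    (h : IsPullback g' f' f g) [LocallyOfFinitePresentation f] [LocallyOfFinitePresentation f'] (hflat : Flat f ∨ Flat g) :
    f'.smoothLocus = g' ⁻¹ᵁ f.smoothLocus := by
  refine le_antisymm ?_ (H3SmoothPoint.smoothLocus_le_baseChange h)
  intro x' hx'
  haveI : LocallyOfFinitePresentation (f'.fiberToSpecResidueField (f' x')) :=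
    MorphismProperty.pullback_snd _ _ inferInstance
  haveI : LocallyOfFinitePresentation (f.fiberToSpecResidueField (f (g' x'))) :=
    MorphismProperty.pullback_snd _ _ inferInstance
  obtain ⟨hfl, hfib⟩ := (H3SmoothPoint.mem_smoothLocus f' x').mp hx'
  show g' x' ∈ f.smoothLocus
  refine (H3SmoothPoint.mem_smoothLocus f (g' x')).mpr ⟨?_, fibre_descend h x' hfib⟩
  rcases hflat with hf | hg
  · exact Flat.stalkMap f _
  · haveI : Flat g' := MorphismProperty.of_isPullback (P := @Flat) h.flip hg
    have h1 : ((f' ≫ g).stalkMap x').hom.Flat := by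
      rw [Scheme.Hom.stalkMap_comp]
      exact RingHom.Flat.comp (Flat.stalkMap g (f' x')) hfl
    rw [Scheme.Hom.stalkMap_congr_hom _ _ h.w.symm x'] at h1
    replace h1 := (RingHom.Flat.respectsIso.cancel_left_isIso _ _).mp h1
    rw [Scheme.Hom.stalkMap_comp] at h1
    algebraize [(f.stalkMap (g' x')).hom, (g'.stalkMap x').hom, (g'.stalkMap x').hom.comp (f.stalkMap (g' x')).hom]
    haveI : Module.Flat (S.presheaf.stalk (f (g' x'))) (X'.presheaf.stalk x') := h1
    haveI : Module.Flat (X.presheaf.stalk (g' x')) (X'.presheaf.stalk x') := Flat.stalkMap g' x'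
    haveI : IsLocalHom (algebraMap (X.presheaf.stalk (g' x')) (X'.presheaf.stalk x')) := g'.toLRSHom.prop x'
    haveI : Module.FaithfullyFlat (X.presheaf.stalk (g' x')) (X'.presheaf.stalk x') :=
      Module.FaithfullyFlat.of_flat_of_isLocalHom
    exact flat_of_faithfullyFlat _ _ (X'.presheaf.stalk x')

end Groth.Agent.H3SmoothBaseChange
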