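import Mathlib

/-!
# Translations, openness, and closedness of images of subgroups
-/

set_option autoImplicit false

universe u

open CategoryTheory Limits AlgebraicGeometry MonoidalCategory CartesianMonoidalCategory MonObj

namespace Groth.Agent.H8Shear

variable {S : Scheme.{u}} {G T : Over S} [GrpObj G]

/-- Left translation by a family of points. -/
noncomputable def shearL (f : T ⟶ G) : T ⊗ G ≅ T ⊗ G where
  hom := lift (fst T G) ((fst T G ≫ f) * snd T G)
  inv := lift (fst T G) ((fst T G ≫ f)⁻¹ * snd T G)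
  hom_inv_id := by
    apply CartesianMonoidalCategory.hom_ext <;>
      simp [comp_mul, GrpObj.comp_inv]
  inv_hom_id := by
    apply CartesianMonoidalCategory.hom_ext <;>
      simp [comp_mul, GrpObj.comp_inv]

/-- Right translation by a family of points. -/
noncomputable def shearR (f : T ⟶ G) : G ⊗ T ≅ G ⊗ T where
  hom := lift (fst G T * (snd G T ≫ f)) (snd G T)
  inv := lift (fst G T * (snd G T ≫ f)⁻¹) (snd G T)
  hom_inv_id := by
    apply CartesianMonoidalCategory.hom_ext <;>
      simp [comp_mul, GrpObj.comp_inv]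
  inv_hom_id := by
    apply CartesianMonoidalCategory.hom_ext <;>
      simp [comp_mul, GrpObj.comp_inv]

lemma mu_eq : μ[G] = fst G G * snd G G := by
  rw [Hom.mul_def, lift_fst_snd, Category.id_comp]

lemma whiskerRight_mul (f : T ⟶ G) : (f ▷ G) ≫ μ[G] = (shearL f).hom ≫ snd T G := by
  simp [shearL, mu_eq, comp_mul]

set_option backward.isDefEq.respectTransparency false in
lemma isPullback_whiskerRight {A B : Over S} (h : A ⟶ B) (C : Over S) :
    IsPullback (h ▷ C).left (fst A C).left (fst B C).left h.left := by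
  refine IsPullback.of_right ?_ ?_ (IsPullback.of_hasPullback B.hom C.hom).flip
  · have h1 : (h ▷ C).left ≫ (snd B C).left = (snd A C).left := by
      rw [← Over.comp_left, whiskerRight_snd]
    have h2 : h.left ≫ B.hom = A.hom := Over.w h
    show IsPullback ((h ▷ C).left ≫ (snd B C).left) (fst A C).left C.hom (h.left ≫ B.hom)
    rw [h1, h2]
    exact (IsPullback.of_hasPullback A.hom C.hom).flip
  · show (h ▷ C).left ≫ (fst B C).left = (fst A C).left ≫ h.left
    rw [← Over.comp_left, ← Over.comp_left, whiskerRight_fst]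

lemma range_whiskerRight {A B : Over S} (h : A ⟶ B) (C : Over S) :
    Set.range (h ▷ C).left = (fst B C).left ⁻¹' Set.range h.left := by
  ext z
  constructor
  · rintro ⟨w, rfl⟩
    exact ⟨(fst A C).left w, by
      rw [← Scheme.Hom.comp_apply, ← (isPullback_whiskerRight h C).w, Scheme.Hom.comp_apply]⟩
  · rintro ⟨a, ha⟩
    obtain ⟨w, hw, -⟩ :=
      Scheme.exists_preimage_of_isPullback (isPullback_whiskerRight h C) z a ha.symm
    exact ⟨w, hw⟩

section Field

variable {k : Type u} [Field k]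

local notation "𝔖" => Spec (CommRingCat.of k)

lemma isOpenMap_fst (X P : Over (Spec (CommRingCat.of k))) : IsOpenMap (fst X P).left := by
  have : UniversallyOpen P.hom := inferInstance
  exact (UniversallyOpen.fst X.hom P.hom).universally_isOpenMap _ _ _ IsPullback.of_id_snd

lemma isOpenMap_snd (X P : Over (Spec (CommRingCat.of k))) : IsOpenMap (snd X P).left := by
  have : UniversallyOpen X.hom := inferInstance
  exact (UniversallyOpen.snd X.hom P.hom).universally_isOpenMap _ _ _ IsPullback.of_id_snd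

variable {X G H : Over (Spec (CommRingCat.of k))} [GrpObj G] [GrpObj H]

omit [GrpObj G] [GrpObj H] in
/-- A point landing in the range of `h` lifts after a change of the source. -/
lemma exists_lift (h : H ⟶ G) (a : X ⟶ G) (z : X.left) (ha : a.left z ∈ Set.range h.left) :
    ∃ (X' : Over (Spec (CommRingCat.of k))) (t : X' ⟶ X) (z' : X'.left) (a' : X' ⟶ H),
      t.left z' = z ∧ t ≫ a = a' ≫ h := by
  obtain ⟨y, hy⟩ := ha
  obtain ⟨z', h₁, -⟩ := Scheme.Pullback.exists_preimage_pullback z y hy.symm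
    (f := a.left) (g := h.left)
  refine ⟨Over.mk (pullback.fst a.left h.left ≫ X.hom), Over.homMk (pullback.fst a.left h.left) rfl,
    z', Over.homMk (pullback.snd a.left h.left) ?_, h₁, Over.OverMorphism.ext pullback.condition⟩
  show pullback.snd _ _ ≫ H.hom = pullback.fst _ _ ≫ X.hom
  rw [← Over.w h, ← Over.w a, pullback.condition_assoc]

/-- If `a * b` and `b` land in the image of a subgroup then so does `a`. -/
lemma mem_of_mul_mem (h : H ⟶ G) [IsMonHom h] (z : X.left) (a b : X ⟶ G)
    (hab : (a * b).left z ∈ Set.range h.left) (hb : b.left z ∈ Set.range h.left) :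
    a.left z ∈ Set.range h.left := by
  obtain ⟨X₁, t₁, z₁, c, ht₁, hc⟩ := exists_lift h _ z hab
  obtain ⟨X₂, t₂, z₂, b', ht₂, hb'⟩ := exists_lift h (t₁ ≫ b) z₁ (by
    rw [Over.comp_left, Scheme.Hom.comp_apply, ht₁]; exact hb)
  have e : t₂ ≫ t₁ ≫ a = ((t₂ ≫ c) * b'⁻¹) ≫ h := by
    rw [MonObj.mul_comp, GrpObj.inv_comp, Category.assoc, ← hc, ← hb', MonObj.comp_mul,
      MonObj.comp_mul, mul_inv_cancel_right]
  refine ⟨((t₂ ≫ c) * b'⁻¹).left z₂, ?_⟩
  rw [← Scheme.Hom.comp_apply, ← Over.comp_left, ← e, Over.comp_left, Over.comp_left,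
    Scheme.Hom.comp_apply, Scheme.Hom.comp_apply, ht₂, ht₁]

/-- A subgroup with open image has closed image. -/
theorem isClosed_range (h : H ⟶ G) [IsMonHom h] (ho : IsOpen (Set.range h.left)) :
    IsClosed (Set.range h.left) := by
  refine isClosed_of_closure_subset fun x hx => ?_
  let P : Over (Spec (CommRingCat.of k)) := Over.mk (G.left.fromSpecResidueField x ≫ G.hom)
  let p : P ⟶ G := Over.homMk (G.left.fromSpecResidueField x) rfl
  let σ := shearR p
  set π := (fst G P).left
  set R := Set.range h.left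
  obtain ⟨s⟩ : Nonempty P.left := inferInstanceAs (Nonempty (Spec (G.left.residueField x)))
  let z₀ := (lift (1 : P ⟶ G) (𝟙 P) : P ⟶ G ⊗ P).left s
  have hz₀ : π z₀ ∈ R := by
    refine ⟨(1 : P ⟶ H).left s, ?_⟩
    rw [← Scheme.Hom.comp_apply, ← Scheme.Hom.comp_apply, ← Over.comp_left, ← Over.comp_left,
      lift_fst, MonObj.one_comp]
  have hz₁ : π (σ.hom.left z₀) = x := by
    rw [← Scheme.Hom.comp_apply, ← Scheme.Hom.comp_apply, ← Over.comp_left, ← Over.comp_left,
      show lift (1 : P ⟶ G) (𝟙 P) ≫ σ.hom ≫ fst G P = p by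
        simp [σ, shearR, comp_mul]]
    exact Scheme.fromSpecResidueField_apply x s
  have hback : σ.inv.left (σ.hom.left z₀) = z₀ := by
    rw [← Scheme.Hom.comp_apply, ← Over.comp_left, Iso.hom_inv_id]
    rfl
  have hmem : σ.hom.left z₀ ∈ closure (π ⁻¹' R) := by
    rw [← (isOpenMap_fst G P).preimage_closure_eq_closure_preimage π.continuous]
    show π (σ.hom.left z₀) ∈ closure R
    rw [hz₁]
    exact hx
  obtain ⟨z, hz, hzR⟩ := mem_closure_iff.mp hmem _
    ((ho.preimage π.continuous).preimage σ.inv.left.continuous)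
    (show π (σ.inv.left (σ.hom.left z₀)) ∈ R from hback.symm ▸ hz₀)
  set w := σ.inv.left z
  have hw : σ.hom.left w = z := by
    show σ.hom.left (σ.inv.left z) = z
    rw [← Scheme.Hom.comp_apply, ← Over.comp_left, Iso.inv_hom_id]
    rfl
  let a : G ⊗ P ⟶ G := fst G P
  have hb : a.left w ∈ R := hz
  have hab : (a * (snd G P ≫ p)).left w ∈ R := by
    rw [show a * (snd G P ≫ p) = σ.hom ≫ fst G P by simp [σ, shearR, a], Over.comp_left,
      Scheme.Hom.comp_apply, hw]
    exact hzR
  have hpinv := mem_of_mul_mem h w ((snd G P ≫ p)⁻¹) (a * (snd G P ≫ p)) (by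
    obtain ⟨X₁, t₁, z₁, c, ht₁, hc⟩ := exists_lift h a w hb
    obtain ⟨X₂, t₂, z₂, d, ht₂, hd⟩ := exists_lift h (t₁ ≫ (a * (snd G P ≫ p))) z₁ (by
      rw [Over.comp_left, Scheme.Hom.comp_apply, ht₁]; exact hab)
    have e : t₂ ≫ t₁ ≫ ((snd G P ≫ p)⁻¹ * (a * (snd G P ≫ p))) =
        (d⁻¹ * (t₂ ≫ c) * d) ≫ h := by
      rw [MonObj.mul_comp, MonObj.mul_comp, GrpObj.inv_comp, Category.assoc, ← hc, ← hd]
      simp only [MonObj.comp_mul, GrpObj.comp_inv]
      group
    refine ⟨(d⁻¹ * (t₂ ≫ c) * d).left z₂, ?_⟩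
    rw [← Scheme.Hom.comp_apply, ← Over.comp_left, ← e, Over.comp_left, Over.comp_left,
      Scheme.Hom.comp_apply, Scheme.Hom.comp_apply, ht₂, ht₁]) hab
  have hp := mem_of_mul_mem h w (snd G P ≫ p) ((snd G P ≫ p)⁻¹) (by
    rw [mul_inv_cancel]
    refine ⟨(1 : G ⊗ P ⟶ H).left w, ?_⟩
    rw [← Scheme.Hom.comp_apply, ← Over.comp_left, MonObj.one_comp]) hpinv
  rw [Over.comp_left, Scheme.Hom.comp_apply] at hp
  exact (Scheme.fromSpecResidueField_apply x _ : p.left _ = x) ▸ hp

/-- Every point is a product of points of two dense opens. -/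
theorem mul_image_dense (U V : G.left.Opens) (hU : Dense (U : Set G.left))
    (hV : Dense (V : Set G.left)) :
    μ[G].left '' ((fst G G).left ⁻¹' (U : Set G.left) ∩ (snd G G).left ⁻¹' (V : Set G.left)) =
      Set.univ := by
  refine Set.eq_univ_of_forall fun x => ?_
  let P : Over (Spec (CommRingCat.of k)) := Over.mk (G.left.fromSpecResidueField x ≫ G.hom)
  let p : P ⟶ G := Over.homMk (G.left.fromSpecResidueField x) rfl
  let τ : G ⊗ P ≅ G ⊗ P :=
    { hom := lift ((snd G P ≫ p) * (fst G P)⁻¹) (snd G P)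
      inv := lift ((fst G P)⁻¹ * (snd G P ≫ p)) (snd G P)
      hom_inv_id := by
        apply CartesianMonoidalCategory.hom_ext <;> simp [comp_mul, GrpObj.comp_inv, mul_assoc]
      inv_hom_id := by
        apply CartesianMonoidalCategory.hom_ext <;> simp [comp_mul, GrpObj.comp_inv, mul_assoc] }
  set π := (fst G P).left
  have hπ := isOpenMap_fst G P
  obtain ⟨s⟩ : Nonempty P.left := inferInstanceAs (Nonempty (Spec (G.left.residueField x)))
  have hne : Nonempty (G ⊗ P).left := ⟨(lift (1 : P ⟶ G) (𝟙 P)).left s⟩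
  have hd : Dense (τ.hom.left ⁻¹' (π ⁻¹' (U : Set G.left))) := by
    refine (hU.preimage hπ).preimage ?_
    have : IsIso τ.hom.left := ((Over.forget _).mapIso τ).isIso_hom
    exact τ.hom.left.homeomorph.isOpenMap
  obtain ⟨z, hzV, hzU⟩ := hd.inter_open_nonempty (π ⁻¹' (V : Set G.left))
    (V.isOpen.preimage π.continuous)
    ((hV.preimage hπ).nonempty)
  refine ⟨(lift (τ.hom ≫ fst G P) (fst G P)).left z, ⟨?_, ?_⟩, ?_⟩
  · show (fst G G).left ((lift (τ.hom ≫ fst G P) (fst G P)).left z) ∈ U
    rw [← Scheme.Hom.comp_apply, ← Over.comp_left, lift_fst, Over.comp_left, Scheme.Hom.comp_apply]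
    exact hzU
  · show (snd G G).left ((lift (τ.hom ≫ fst G P) (fst G P)).left z) ∈ V
    rw [← Scheme.Hom.comp_apply, ← Over.comp_left, lift_snd]
    exact hzV
  · rw [← Scheme.Hom.comp_apply, ← Over.comp_left,
      show lift (τ.hom ≫ fst G P) (fst G P) ≫ μ[G] = snd G P ≫ p by
        simp [τ, mu_eq, comp_mul], Over.comp_left, Scheme.Hom.comp_apply]
    exact Scheme.fromSpecResidueField_apply x _

end Field

end Groth.Agent.H8Shear
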