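import Mathlib
import Groth.Prelude.Def_AlgGrp
import Groth.Agent.Lib.H6.Misc2
import Groth.Agent.Lib.H8Shear

/-!
# Pointwise flatness and translations

Flatness at a point is stable under base change; for an equivariant map out of a flat group scheme
it propagates along translations.
-/

set_option autoImplicit false

universe u

open CategoryTheory Limits AlgebraicGeometry MonoidalCategory CartesianMonoidalCategory
open scoped MonObj

namespace Groth.Agent.H8Translate

section Point

set_option backward.isDefEq.respectTransparency false in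
/-- The morphism from the spectrum of a local ring is flat when the stalk map is. -/
lemma flat_fromSpecStalk_comp {X Y : Scheme.{u}} (f : X ⟶ Y) (x : X)
    (hf : (f.stalkMap x).hom.Flat) : Flat (X.fromSpecStalk x ≫ f) := by
  rw [← Scheme.SpecMap_stalkMap_fromSpecStalk]
  haveI : Flat (Spec.map (f.stalkMap x)) := Flat.SpecMap_iff.mpr hf
  haveI := H6.flat_fromSpecStalk Y (f x)
  infer_instance

set_option backward.isDefEq.respectTransparency false in
/-- Flatness at a point is stable under base change. -/
theorem flat_stalk_snd {X Y Y' : Scheme.{u}} (f : X ⟶ Y) (g : Y' ⟶ Y) (p : ↥(pullback f g))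
    (hf : (f.stalkMap (pullback.fst f g p)).hom.Flat) :
    ((pullback.snd f g).stalkMap p).hom.Flat := by
  set x := pullback.fst f g p with hx
  let j := pullback.snd (pullback.fst f g) (X.fromSpecStalk x)
  let i := pullback.fst (pullback.fst f g) (X.fromSpecStalk x)
  haveI := flat_fromSpecStalk_comp f x hf
  haveI : Flat (i ≫ pullback.snd f g) := by
    have h : IsPullback j (i ≫ pullback.snd f g) (X.fromSpecStalk x ≫ f) g :=
      (IsPullback.of_hasPullback (pullback.fst f g) (X.fromSpecStalk x)).flip.paste_vert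
        (IsPullback.of_hasPullback f g)
    exact MorphismProperty.of_isPullback h ‹_›
  obtain ⟨t, ht, -⟩ := Scheme.exists_preimage_of_isPullback
    (IsPullback.of_hasPullback (pullback.fst f g) (X.fromSpecStalk x)) p
    (IsLocalRing.closedPoint (X.presheaf.stalk x))
    (by rw [Scheme.fromSpecStalk_closedPoint])
  have hi : (i.stalkMap t).hom.Flat := by
    haveI := H6.iso_stalk_fst (pullback.fst f g) x t
    exact RingHom.Flat.of_bijective (ConcreteCategory.bijective_of_isIso (i.stalkMap t))
  have h := Flat.stalkMap (i ≫ pullback.snd f g) t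
  rw [H6.flat_stalk_comp i _ t hi] at h
  have e : i t = p := ht
  rw [e] at h
  exact h

/-- Flatness at a point is stable under base change. -/
theorem flat_stalk_of_isPullback {P X Y Y' : Scheme.{u}} {fst : P ⟶ X} {snd : P ⟶ Y'}
    {f : X ⟶ Y} {g : Y' ⟶ Y} (h : IsPullback fst snd f g) (p : P)
    (hf : (f.stalkMap (fst p)).hom.Flat) : (snd.stalkMap p).hom.Flat := by
  have e1 : pullback.fst f g (h.isoPullback.hom p) = fst p := by
    rw [← Scheme.Hom.comp_apply, h.isoPullback_hom_fst]
  have h1 := flat_stalk_snd f g (h.isoPullback.hom p) (by rw [e1]; exact hf)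
  rw [← H6.flat_stalk_comp h.isoPullback.hom (pullback.snd f g) p
    (Flat.stalkMap h.isoPullback.hom p)] at h1
  rwa [h.isoPullback_hom_snd] at h1

end Point

section Equivariant

variable {S : Scheme.{u}} {G X : Over S} [GrpObj G] (a : AlgGrp.Action G X)

lemma act_one {T : Over S} (x : T ⟶ X) : lift (1 : T ⟶ G) x ≫ a.act = x := by
  have h := congrArg (fun q => lift (toUnit T) x ≫ q) a.one_act
  simp only [← Category.assoc, lift_whiskerRight] at h
  rw [Hom.one_def, h]
  simp

lemma act_mul {T : Over S} (g h : T ⟶ G) (x : T ⟶ X) :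
    lift (g * h) x ≫ a.act = lift g (lift h x ≫ a.act) ≫ a.act := by
  have h' := congrArg (fun q => lift (lift g h) x ≫ q) a.mul_act
  simp only [← Category.assoc, lift_whiskerRight, lift_lift_associator_hom, lift_whiskerLeft] at h'
  rw [Hom.mul_def]
  exact h'

/-- The graph of the action. -/
noncomputable def shearX : G ⊗ X ≅ G ⊗ X where
  hom := lift (fst G X) a.act
  inv := lift (fst G X) (lift (fst G X)⁻¹ (snd G X) ≫ a.act)
  hom_inv_id := by
    apply CartesianMonoidalCategory.hom_ext
    · simp
    · rw [Category.assoc, lift_snd, Category.id_comp, comp_lift_assoc, GrpObj.comp_inv, lift_fst,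
        lift_snd]
      conv_lhs => arg 1; arg 2; rw [show a.act = lift (fst G X) (snd G X) ≫ a.act by simp]
      rw [← act_mul, inv_mul_cancel, act_one]
  inv_hom_id := by
    apply CartesianMonoidalCategory.hom_ext
    · simp
    · rw [Category.assoc, lift_snd, Category.id_comp]
      rw [← act_mul, mul_inv_cancel, act_one]

/-- Flatness moves along an automorphism of a base change. -/
lemma flat_stalk_transfer {P Q A B : Scheme.{u}} (π : P ⟶ A) (π' : Q ⟶ B) (q : P ⟶ Q) (φ : A ⟶ B)
    (h : IsPullback π q φ π') [Flat π] [Flat π'] (e : P ⟶ P) (e' : Q ⟶ Q) [IsIso e] [IsIso e']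
    (hc : e ≫ q = q ≫ e') (z : P) (hz : (φ.stalkMap (π z)).hom.Flat) :
    (φ.stalkMap (π (e z))).hom.Flat := by
  have h1 := flat_stalk_of_isPullback h z hz
  have h2 : ((q ≫ e').stalkMap z).hom.Flat := by
    rw [Scheme.Hom.stalkMap_comp]
    exact RingHom.Flat.comp (Flat.stalkMap e' _) h1
  rw [← hc, H6.flat_stalk_comp e q z (Flat.stalkMap e z)] at h2
  have h3 : ((q ≫ π').stalkMap (e z)).hom.Flat := by
    rw [Scheme.Hom.stalkMap_comp]
    exact RingHom.Flat.comp (Flat.stalkMap π' _) h2
  rwa [← h.w, H6.flat_stalk_comp π φ (e z) (Flat.stalkMap π _)] at h3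

omit [GrpObj G] in
lemma isPullback_whiskerLeft {A B : Over S} (h : A ⟶ B) :
    IsPullback (snd G A) (G ◁ h) h (snd G B) := by
  refine IsPullback.of_isLimit' ⟨(whiskerLeft_snd G h).symm⟩
    (PullbackCone.IsLimit.mk _ (fun s => lift (s.snd ≫ fst G B) s.fst) (fun s => lift_snd _ _)
      (fun s => ?_) (fun s m h1 h2 => ?_))
  · apply CartesianMonoidalCategory.hom_ext
    · simp
    · simpa using s.condition
  · apply CartesianMonoidalCategory.hom_ext
    · rw [lift_fst, ← h2, Category.assoc, whiskerLeft_fst]
    · rw [lift_snd, h1]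

/-- Flatness at a point of an equivariant map spreads along translations. -/
theorem flat_stalk_mu [Flat G.hom] (φ : G ⟶ X) (hφ : μ[G] ≫ φ = G ◁ φ ≫ a.act)
    (z : ↥(G ⊗ G).left) (h : (φ.left.stalkMap ((snd G G).left z)).hom.Flat) :
    (φ.left.stalkMap (μ[G].left z)).hom.Flat := by
  let eG := H8Shear.shearL (𝟙 G)
  have eG_snd : eG.hom ≫ snd G G = μ[G] := by simp [eG, H8Shear.shearL, H8Shear.mu_eq]
  have comm : eG.hom ≫ G ◁ φ = G ◁ φ ≫ (shearX a).hom := by
    apply CartesianMonoidalCategory.hom_ext
    · simp [eG, shearX, H8Shear.shearL]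
    · rw [Category.assoc, whiskerLeft_snd, ← Category.assoc, eG_snd, hφ, Category.assoc,
        show (shearX a).hom ≫ snd G X = a.act from lift_snd _ _]
  have e1 : eG.hom.left ≫ (G ◁ φ).left = (G ◁ φ).left ≫ (shearX a).hom.left := by
    rw [← Over.comp_left, comm, Over.comp_left]
  have i1 : IsIso eG.hom.left := ((Over.forget _).mapIso eG).isIso_hom
  have i2 : IsIso (shearX a).hom.left := ((Over.forget _).mapIso (shearX a)).isIso_hom
  have f1 : Flat (snd G G).left := MorphismProperty.pullback_snd (P := @Flat) _ _ ‹Flat G.hom›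
  have f2 : Flat (snd G X).left := MorphismProperty.pullback_snd (P := @Flat) _ _ ‹Flat G.hom›
  have h' := @flat_stalk_transfer _ _ _ _ (snd G G).left (snd G X).left (G ◁ φ).left φ.left
    ((isPullback_whiskerLeft φ).map (Over.forget _)) f1 f2 eG.hom.left (shearX a).hom.left i1 i2
    e1 z h
  have e2 : (snd G G).left (eG.hom.left z) = μ[G].left z := by
    rw [← eG_snd, Over.comp_left, Scheme.Hom.comp_apply]
  rwa [e2] at h'

omit [GrpObj G] in
lemma exists_pair (x y : G.left) (h : G.hom x = G.hom y) :
    ∃ w : ↥(G ⊗ G).left, (fst G G).left w = x ∧ (snd G G).left w = y := by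
  rw [Over.fst_left, Over.snd_left]
  exact Scheme.Pullback.exists_preimage_pullback x y h

set_option backward.isDefEq.respectTransparency false in
/-- Any two points of a fibre differ by a translation. -/
lemma exists_translate (x y : G.left) (h : G.hom x = G.hom y) :
    ∃ z : ↥(G ⊗ G).left, (snd G G).left z = x ∧ μ[G].left z = y := by
  obtain ⟨w, hw₁, hw₂⟩ := exists_pair y x h.symm
  let m : G ⊗ G ⟶ G ⊗ G := lift (fst G G * (snd G G)⁻¹) (snd G G)
  refine ⟨m.left w, ?_, ?_⟩
  · rw [← Scheme.Hom.comp_apply, ← Over.comp_left, lift_snd, hw₂]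
  · rw [← Scheme.Hom.comp_apply, ← Over.comp_left, show m ≫ μ[G] = fst G G by
      rw [H8Shear.mu_eq, MonObj.comp_mul]; simp [m], hw₁]

/-- An equivariant map which is flat at one point of each fibre is flat. -/
theorem flat_of_flat_at [Flat G.hom] [Subsingleton ↥S] (φ : G ⟶ X)
    (hφ : μ[G] ≫ φ = G ◁ φ ≫ a.act) (x : G.left) (hx : (φ.left.stalkMap x).hom.Flat) :
    Flat φ.left := by
  refine Flat.of_stalkMap _ fun y => ?_
  obtain ⟨z, hz₁, rfl⟩ := exists_translate x y (Subsingleton.elim _ _)
  exact flat_stalk_mu a φ hφ z (by rw [hz₁]; exact hx)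

/-- Translation through a homomorphism. -/
noncomputable def homAction {H : Over S} [GrpObj H] (u : G ⟶ H) [IsMonHom u] :
    AlgGrp.Action G H where
  act := (fst G H ≫ u) * snd G H
  one_act := by
    rw [MonObj.comp_mul, ← Category.assoc, whiskerRight_fst, Category.assoc, IsMonHom.one_hom,
      whiskerRight_snd, Subsingleton.elim (fst (𝟙_ (Over S)) H) (toUnit _), ← Hom.one_def,
      _root_.one_mul]
    exact (leftUnitor_hom _).symm
  mul_act := by
    rw [MonObj.comp_mul, ← Category.assoc, whiskerRight_fst, Category.assoc, whiskerRight_snd,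
      IsMonHom.mul_hom]
    simp [H8Shear.mu_eq, MonObj.comp_mul, _root_.mul_assoc]

lemma homAction_equivariant {H : Over S} [GrpObj H] (u : G ⟶ H) [IsMonHom u] :
    μ[G] ≫ u = G ◁ u ≫ (homAction u).act := by
  rw [IsMonHom.mul_hom, homAction]
  simp [H8Shear.mu_eq, MonObj.comp_mul]

set_option backward.isDefEq.respectTransparency false in
lemma orbitMap_equivariant (o : 𝟙_ (Over S) ⟶ X) :
    μ[G] ≫ a.orbitMap o = G ◁ a.orbitMap o ≫ a.act := by
  rw [AlgGrp.Action.orbitMap, H8Shear.mu_eq, comp_lift_assoc, Category.comp_id, act_mul]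
  congr 1
  apply CartesianMonoidalCategory.hom_ext
  · simp
  · rw [lift_snd, whiskerLeft_snd, comp_lift_assoc, Category.comp_id]
    simp only [← Category.assoc]
    congr 2
    simp

end Equivariant

end Groth.Agent.H8Translate
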