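import Mathlib
import Groth.Agent.Lib.H3SmoothBaseChange
import Groth.Agent.Lib.H8Translate

/-! Pointwise criteria for etaleness. -/

set_option autoImplicit false
universe u
open CategoryTheory CategoryTheory.Limits AlgebraicGeometry

namespace Groth.Agent.H3EtalePoint

theorem etale_of_smooth_unram {X Y : Scheme.{u}} (f : X ⟶ Y) [LocallyOfFinitePresentation f] (x : X)
    (hs : x ∈ f.smoothLocus) (hu : ∃ U : X.Opens, x ∈ U ∧ FormallyUnramified (U.ι ≫ f)) :
    ∃ U : X.Opens, x ∈ U ∧ Etale (U.ι ≫ f) := by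
  obtain ⟨U, hxU, hU⟩ := hu
  let W := U ⊓ f.smoothLocus
  have hsm : Smooth (f.smoothLocus.ι ≫ f) := by
    rw [← Scheme.Hom.smoothLocus_eq_top_iff, ← Scheme.Hom.preimage_smoothLocus_eq]
    exact Scheme.Opens.ι_preimage_self _
  haveI : Smooth (W.ι ≫ f) := by
    rw [show W.ι = X.homOfLE (inf_le_right : W ≤ f.smoothLocus) ≫ f.smoothLocus.ι from (Scheme.homOfLE_ι _ _).symm, Category.assoc]
    infer_instance
  haveI : FormallyUnramified (W.ι ≫ f) := by
    rw [show W.ι = X.homOfLE (inf_le_left : W ≤ U) ≫ U.ι from (Scheme.homOfLE_ι _ _).symm, Category.assoc]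
    exact MorphismProperty.comp_mem _ _ _ inferInstance hU
  exact ⟨W, ⟨hxU, hs⟩, Etale.of_formallyUnramified_of_flat _⟩

theorem smooth_of_flat_of_unram {X Y : Scheme.{u}} (f : X ⟶ Y) [LocallyOfFinitePresentation f] (x : X)
    (hf : (f.stalkMap x).hom.Flat) (hu : ∃ U : X.Opens, x ∈ U ∧ FormallyUnramified (U.ι ≫ f)) :
    x ∈ f.smoothLocus := by
  obtain ⟨U, hxU, hU⟩ := hu
  let z : U.toScheme := ⟨x, hxU⟩
  suffices z ∈ (U.ι ≫ f).smoothLocus by
    rw [← Scheme.Hom.preimage_smoothLocus_eq] at this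
    exact this
  haveI : LocallyOfFinitePresentation ((U.ι ≫ f).fiberToSpecResidueField ((U.ι ≫ f) z)) :=
    MorphismProperty.pullback_snd _ _ inferInstance
  refine (H3SmoothPoint.mem_smoothLocus (U.ι ≫ f) z).mpr ⟨?_, ?_⟩
  · rw [Scheme.Hom.stalkMap_comp]
    exact (RingHom.Flat.respectsIso.cancel_right_isIso (f.stalkMap (U.ι z)) (U.ι.stalkMap z)).mpr hf
  · haveI : FormallyUnramified ((U.ι ≫ f).fiberToSpecResidueField ((U.ι ≫ f) z)) :=
      MorphismProperty.pullback_snd _ _ hU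
    haveI : Flat ((U.ι ≫ f).fiberToSpecResidueField ((U.ι ≫ f) z)) := inferInstance
    haveI : Etale ((U.ι ≫ f).fiberToSpecResidueField ((U.ι ≫ f) z)) := Etale.of_formallyUnramified_of_flat _
    rw [Scheme.Hom.smoothLocus_eq_top]
    trivial

theorem smooth_of_etale {X Y : Scheme.{u}} (f : X ⟶ Y) [LocallyOfFinitePresentation f] (x : X)
    (h : ∃ U : X.Opens, x ∈ U ∧ Etale (U.ι ≫ f)) : x ∈ f.smoothLocus := by
  obtain ⟨U, hxU, hU⟩ := h
  let z : U.toScheme := ⟨x, hxU⟩
  have : z ∈ (U.ι ≫ f).smoothLocus := by rw [Scheme.Hom.smoothLocus_eq_top]; trivial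
  rw [← Scheme.Hom.preimage_smoothLocus_eq] at this
  exact this

theorem stalkMap_flat_of_flat_fromSpecStalk_comp {X Y : Scheme.{u}} (g : X ⟶ Y) (x : X)
    [Flat (X.fromSpecStalk x ≫ g)] : (g.stalkMap x).hom.Flat := by
  rw [← Flat.SpecMap_iff]
  let b := Y.fromSpecStalk (g x)
  have h1 : IsPullback (𝟙 _) (Spec.map (g.stalkMap x)) (Spec.map (g.stalkMap x)) (𝟙 (Spec (Y.presheaf.stalk (g x)))) :=
    IsPullback.of_horiz_isIso ⟨by simp⟩
  have h2 : IsPullback (𝟙 (Spec (Y.presheaf.stalk (g x)))) (𝟙 _) b b := IsKernelPair.id_of_mono b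
  have h3 := h1.paste_vert h2
  refine (MorphismProperty.of_isPullback (P := @Flat) (by simpa using h3) ?_ : Flat (Spec.map (g.stalkMap x)))
  rw [Scheme.SpecMap_stalkMap_fromSpecStalk]
  infer_instance

theorem flat_of_unram_comp {X Y S : Scheme.{u}} (h : Y ⟶ S) [LocallyOfFinitePresentation h] (g : X ⟶ Y) (x : X)
    (V : Y.Opens) (hxV : g x ∈ V) [FormallyUnramified (V.ι ≫ h)] (hf : ((g ≫ h).stalkMap x).hom.Flat) :
    (g.stalkMap x).hom.Flat := by
  let a := X.fromSpecStalk x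
  haveI : Flat (a ≫ g ≫ h) := H8Translate.flat_fromSpecStalk_comp (g ≫ h) x hf
  have hrange : Set.range (a ≫ g) ⊆ Set.range V.ι := by
    rintro _ ⟨w, rfl⟩
    rw [Scheme.Opens.range_ι, Scheme.Hom.comp_apply]
    have hw : a w ⤳ x := by
      have h0 := Set.mem_range_self (f := a) w
      rw [Scheme.range_fromSpecStalk] at h0
      exact h0
    exact (hw.map g.continuous).mem_open V.2 hxV
  let g'' := IsOpenImmersion.lift V.ι (a ≫ g) hrange
  have hg'' : g'' ≫ V.ι = a ≫ g := IsOpenImmersion.lift_fac _ _ _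
  haveI : Flat (g'' ≫ V.ι ≫ h) := by rw [← Category.assoc, hg'', Category.assoc]; infer_instance
  let Γg := pullback.lift (f := g'' ≫ V.ι ≫ h) (g := V.ι ≫ h) (𝟙 _) g'' (by simp)
  haveI : IsOpenImmersion Γg :=
    MorphismProperty.of_isPullback (P := @IsOpenImmersion) (pullback_lift_diagonal_isPullback g'' (V.ι ≫ h)) inferInstance
  haveI : Flat g'' := by
    rw [show g'' = Γg ≫ pullback.snd (g'' ≫ V.ι ≫ h) (V.ι ≫ h) from (pullback.lift_snd _ _ _).symm]
    infer_instance
  haveI : Flat (a ≫ g) := hg'' ▸ inferInstance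
  exact stalkMap_flat_of_flat_fromSpecStalk_comp g x

theorem etale_of_pullback {X Y Y' : Scheme.{u}} (f : X ⟶ Y) [LocallyOfFinitePresentation f]
    (g : Y' ⟶ Y) (x' : ↑(pullback f g)) (hg : (g.stalkMap (pullback.snd f g x')).hom.Flat)
    (hs : x' ∈ (pullback.snd f g).smoothLocus) : pullback.fst f g x' ∈ f.smoothLocus := by
  let y' := pullback.snd f g x'
  let a := Y'.fromSpecStalk y'
  haveI : Flat (a ≫ g) := H8Translate.flat_fromSpecStalk_comp g y' hg
  let m : pullback f (a ≫ g) ⟶ pullback f g := pullback.map f (a ≫ g) f g (𝟙 _) a (𝟙 _) (by simp) (by simp)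
  have hm1 : m ≫ pullback.fst f g = pullback.fst f (a ≫ g) := by
    simp only [m, pullback.map]
    exact (pullback.lift_fst _ _ _).trans (Category.comp_id _)
  have sq : IsPullback m (pullback.snd f (a ≫ g)) (pullback.snd f g) a := by
    refine .of_right (h₁₂ := pullback.fst f g) ?_ ?_ (IsPullback.of_hasPullback f g)
    · rw [hm1]; exact IsPullback.of_hasPullback f (a ≫ g)
    · simp only [m, pullback.map]
      exact pullback.lift_snd _ _ _
  obtain ⟨w, hw1, hw2⟩ := Scheme.exists_preimage_of_isPullback sq x' (IsLocalRing.closedPoint _)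
    (Scheme.fromSpecStalk_closedPoint).symm
  have h1 : w ∈ (pullback.snd f (a ≫ g)).smoothLocus :=
    H3SmoothPoint.smoothLocus_le_baseChange sq (show m w ∈ _ from hw1.symm ▸ hs)
  rw [H3SmoothBaseChange.smoothLocus_baseChange f (a ≫ g) _ _ (IsPullback.of_hasPullback f (a ≫ g)) (Or.inr inferInstance)] at h1
  have h2 : pullback.fst f (a ≫ g) w ∈ f.smoothLocus := h1
  rw [← hm1, Scheme.Hom.comp_apply, hw1] at h2
  exact h2

end Groth.Agent.H3EtalePoint
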