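import Mathlib

set_option autoImplicit false

universe u v

namespace H3GalDescent

open IntermediateField

variable {K : Type u} {L : Type v} [Field K] [Field L] [Algebra K L] [IsGalois K L]

lemma exists_finite_normal {X : Type*} {f : (L ≃ₐ[K] L) → X} (hf : IsLocallyConstant f) :
    ∃ E : IntermediateField K L, FiniteDimensional K E ∧ Normal K E ∧
      ∀ τ ∈ E.fixingSubgroup, f τ = f 1 := by
  obtain ⟨E, h1, h2, h3⟩ := (krullTopology_mem_nhds_one_iff_of_normal K L {τ | f τ = f 1}).1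
    ((hf.isOpen_fiber (f 1)).mem_nhds rfl)
  exact ⟨E, h1, h2, fun τ hτ => h3 hτ⟩

lemma conj_mem (E : IntermediateField K L) [Normal K E] {τ : L ≃ₐ[K] L} (hτ : τ ∈ E.fixingSubgroup)
    (σ : L ≃ₐ[K] L) : σ⁻¹ * τ * σ ∈ E.fixingSubgroup := by
  rw [← IntermediateField.restrictNormalHom_ker E, MonoidHom.mem_ker] at hτ ⊢
  rw [map_mul, map_mul, hτ, mul_one, map_inv, inv_mul_cancel]

lemma mem_of_fixed (E : IntermediateField K L) {x : L} (h : ∀ τ ∈ E.fixingSubgroup, τ x = x) :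
    x ∈ E := by
  rw [← InfiniteGalois.fixedField_fixingSubgroup E, IntermediateField.mem_fixedField_iff]
  exact h

lemma restrict_eq (E : IntermediateField K L) [Normal K E] {σ σ' : L ≃ₐ[K] L}
    (h : AlgEquiv.restrictNormalHom E σ = AlgEquiv.restrictNormalHom E σ') :
    σ⁻¹ * σ' ∈ E.fixingSubgroup := by
  rw [← IntermediateField.restrictNormalHom_ker E, MonoidHom.mem_ker, map_mul, map_inv, h, inv_mul_cancel]

/-- Additive Hilbert 90 for a continuous cocycle. -/
theorem additive (a : (L ≃ₐ[K] L) → L) (ha : ∀ σ τ : L ≃ₐ[K] L, a (σ * τ) = a σ + σ (a τ))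
    (hlc : IsLocallyConstant a) : ∃ y : L, ∀ σ : L ≃ₐ[K] L, a σ = σ y - y := by
  classical
  obtain ⟨E, _, _, hE⟩ := exists_finite_normal hlc
  have h1 : a 1 = 0 := by
    have h := ha 1 1
    rw [one_mul, AlgEquiv.one_apply] at h
    exact left_eq_add.1 h
  have hR : ∀ σ, ∀ τ ∈ E.fixingSubgroup, a (σ * τ) = a σ := fun σ τ hτ => by
    rw [ha, hE τ hτ, h1, map_zero, add_zero]
  have hval : ∀ σ, a σ ∈ E := fun σ => mem_of_fixed E fun τ hτ => by
    have h := ha τ σ
    rw [hE τ hτ, h1, zero_add, show τ * σ = σ * (σ⁻¹ * τ * σ) by group,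
      hR σ _ (conj_mem E hτ σ)] at h
    exact h.symm
  let res : (L ≃ₐ[K] L) →* (E ≃ₐ[K] E) := AlgEquiv.restrictNormalHom E
  have hsurj : Function.Surjective res := AlgEquiv.restrictNormalHom_surjective L
  have happ : ∀ (σ : L ≃ₐ[K] L) (x : E), ((res σ x : E) : L) = σ x := fun σ x =>
    AlgEquiv.restrictNormalHom_apply E σ x
  let s := Function.surjInv hsurj
  have hs : ∀ g, res (s g) = g := Function.surjInv_eq hsurj
  let a' : (E ≃ₐ[K] E) → E := fun g => ⟨a (s g), hval _⟩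
  have hres : ∀ σ, (a' (res σ) : L) = a σ := fun σ => by
    show a (s (res σ)) = a σ
    rw [← hR σ _ (restrict_eq E (hs (res σ)).symm), mul_inv_cancel_left]
  have hco : ∀ g h : E ≃ₐ[K] E, a' (g * h) = a' g + g (a' h) := fun g h => by
    obtain ⟨σ, rfl⟩ := hsurj g
    obtain ⟨τ, rfl⟩ := hsurj h
    apply Subtype.ext
    rw [← map_mul, AddMemClass.coe_add, hres, hres, ha, happ, hres]
  haveI : IsGalois K E := ⟨⟩
  obtain ⟨θ, hθ⟩ := Algebra.trace_surjective K E 1
  have htr : ∑ g : E ≃ₐ[K] E, g θ = 1 := by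
    rw [← map_one (algebraMap K E), ← hθ, trace_eq_sum_automorphisms]
  refine ⟨((-∑ g : E ≃ₐ[K] E, a' g * g θ : E) : L), fun σ => ?_⟩
  rw [← hres σ, ← happ σ, ← AddSubgroupClass.coe_sub]
  congr 1
  simp only [map_neg, map_sum, map_mul]
  have : ∀ g : E ≃ₐ[K] E, res σ (a' g) = a' (res σ * g) - a' (res σ) := fun g => by
    rw [hco, add_sub_cancel_left]
  simp only [this, sub_mul, Finset.sum_sub_distrib, ← Finset.mul_sum]
  have e : ∀ F : (E ≃ₐ[K] E) → E, ∑ g, F (res σ * g) = ∑ g, F g := fun F =>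
    Equiv.sum_comp (Equiv.mulLeft (res σ)) F
  rw [show (∑ g, a' (res σ * g) * res σ (g θ)) = ∑ g, a' g * g θ from e fun g => a' g * g θ,
    show (∑ g : E ≃ₐ[K] E, res σ (g θ)) = 1 from (e fun g => g θ).trans htr]
  ring

/-- Hilbert 90 for a continuous cocycle. -/
theorem units (a : (L ≃ₐ[K] L) → Lˣ) (ha : ∀ σ τ : L ≃ₐ[K] L, a (σ * τ) = a σ * σ • a τ)
    (hlc : IsLocallyConstant a) : ∃ c : Lˣ, ∀ σ : L ≃ₐ[K] L, a σ = c⁻¹ * σ • c := by
  classical
  obtain ⟨E, _, _, hE⟩ := exists_finite_normal hlc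
  have h1 : a 1 = 1 := by
    have h := ha 1 1
    rw [one_mul, one_smul] at h
    exact left_eq_mul.1 h
  have hR : ∀ σ, ∀ τ ∈ E.fixingSubgroup, a (σ * τ) = a σ := fun σ τ hτ => by
    rw [ha, hE τ hτ, h1, smul_one, mul_one]
  have hval : ∀ σ, (a σ : L) ∈ E := fun σ => mem_of_fixed E fun τ hτ => by
    have h := ha τ σ
    rw [hE τ hτ, h1, one_mul, show τ * σ = σ * (σ⁻¹ * τ * σ) by group,
      hR σ _ (conj_mem E hτ σ)] at h
    exact (congrArg Units.val h).symm
  let res : (L ≃ₐ[K] L) →* (E ≃ₐ[K] E) := AlgEquiv.restrictNormalHom E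
  have hsurj : Function.Surjective res := AlgEquiv.restrictNormalHom_surjective L
  have happ : ∀ (σ : L ≃ₐ[K] L) (x : E), ((res σ x : E) : L) = σ x := fun σ x =>
    AlgEquiv.restrictNormalHom_apply E σ x
  let s := Function.surjInv hsurj
  have hs : ∀ g, res (s g) = g := Function.surjInv_eq hsurj
  let a' : (E ≃ₐ[K] E) → Eˣ := fun g => Units.mk0 ⟨(a (s g) : L), hval _⟩ fun h =>
    (a (s g)).ne_zero (congrArg Subtype.val h)
  have hres : ∀ σ, ((a' (res σ) : E) : L) = a σ := fun σ => by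
    show (a (s (res σ)) : L) = a σ
    rw [← hR σ _ (restrict_eq E (hs (res σ)).symm), mul_inv_cancel_left]
  have hco : groupCohomology.IsMulCocycle₁ a' := fun g h => by
    obtain ⟨σ, rfl⟩ := hsurj g
    obtain ⟨τ, rfl⟩ := hsurj h
    apply Units.ext
    apply Subtype.ext
    rw [← map_mul, hres, ha, Units.val_mul, Units.val_mul]
    show _ = ((res σ (a' (res τ) : E) : E) : L) * ((a' (res σ) : E) : L)
    rw [hres, happ, hres, mul_comm]
    rfl
  obtain ⟨x, hx⟩ := groupCohomology.isMulCoboundary₁_of_isMulCocycle₁_of_aut_to_units a' hco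
  refine ⟨Units.map (algebraMap E L : E →* L) x, fun σ => Units.ext ?_⟩
  rw [← hres σ, ← hx (res σ), Units.val_mul, Units.val_inv_eq_inv_val]
  rw [Units.val_div_eq_div_val, div_eq_inv_mul, MulMemClass.coe_mul]
  congr 1
  show ((res σ (x : E) : E) : L) = σ ((x : E) : L)
  exact happ σ x

end H3GalDescent
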