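import Mathlib.RingTheory.Length
import Mathlib.RingTheory.SimpleModule.Basic
import Mathlib.Data.Fintype.Fin
import Mathlib.Algebra.BigOperators.Fin

set_option autoImplicit false

universe u v

namespace H3LenProd

variable {A : Type u} [CommRing A]

lemma length_sup_mul (J : Ideal A) (a b : A) :
    Module.length A (A ⧸ J ⊔ Ideal.span {a * b}) ≤
      Module.length A (A ⧸ J ⊔ Ideal.span {a}) + Module.length A (A ⧸ J ⊔ Ideal.span {b}) := by
  set K := J ⊔ Ideal.span {a * b}
  have hle : K ≤ J ⊔ Ideal.span {a} :=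
    sup_le_sup_left (Ideal.span_singleton_le_span_singleton.2 (Dvd.intro b rfl)) J
  let g : (A ⧸ K) →ₗ[A] A ⧸ J ⊔ Ideal.span {a} := Submodule.factor hle
  have hg : Function.Surjective g := Submodule.factor_surjective hle
  let f : (A ⧸ J ⊔ Ideal.span {b}) →ₗ[A] A ⧸ K :=
    Submodule.mapQ (J ⊔ Ideal.span {b}) K (LinearMap.mulLeft A a) (by
      intro x hx
      obtain ⟨j, hj, y, hy, rfl⟩ := Submodule.mem_sup.1 hx
      obtain ⟨c, rfl⟩ := Ideal.mem_span_singleton'.1 hy
      show a * (j + c * b) ∈ K
      rw [mul_add, mul_left_comm a c b]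
      exact add_mem (le_sup_left (α := Ideal A) (J.mul_mem_left a hj))
        (le_sup_right (α := Ideal A) (Ideal.mul_mem_left _ c (Ideal.mem_span_singleton_self _))))
  have hker : LinearMap.ker g ≤ LinearMap.range f := by
    intro z hz
    obtain ⟨x, rfl⟩ := Submodule.Quotient.mk_surjective _ z
    have hx : x ∈ J ⊔ Ideal.span {a} := by
      change g (Submodule.Quotient.mk x) = 0 at hz
      exact (Submodule.Quotient.mk_eq_zero _).1 hz
    obtain ⟨j, hj, y, hy, rfl⟩ := Submodule.mem_sup.1 hx
    obtain ⟨c, rfl⟩ := Ideal.mem_span_singleton'.1 hy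
    refine ⟨Submodule.Quotient.mk c, (Submodule.Quotient.eq K).2 ?_⟩
    simp only [LinearMap.mulLeft_apply]
    rw [show a * c - (j + c * a) = -j by ring]
    exact neg_mem (le_sup_left (α := Ideal A) hj)
  rw [Module.length_eq_add_of_exact (LinearMap.ker g).subtype g Subtype.val_injective hg
    (LinearMap.exact_subtype_ker_map g), add_comm (Module.length A (A ⧸ J ⊔ Ideal.span {a}))]
  gcongr
  exact (Module.length_le_of_injective (Submodule.inclusion hker) (Submodule.inclusion_injective hker)).trans
    (Module.length_le_of_surjective f.rangeRestrict f.surjective_rangeRestrict)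

lemma length_sup_prod {ι : Type*} (J : Ideal A) (y : ι → A) (s : Finset ι) :
    Module.length A (A ⧸ J ⊔ Ideal.span {∏ i ∈ s, y i}) ≤
      ∑ i ∈ s, Module.length A (A ⧸ J ⊔ Ideal.span {y i}) := by
  classical
  induction s using Finset.induction_on with
  | empty =>
    have : Subsingleton (A ⧸ J ⊔ Ideal.span {∏ i ∈ (∅ : Finset ι), y i}) :=
      Submodule.Quotient.subsingleton_iff.2 (by simp)
    exact (Module.length_eq_zero).trans_le bot_le
  | insert a s ha ih =>
    rw [Finset.prod_insert ha, Finset.sum_insert ha]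
    exact (length_sup_mul J _ _).trans (add_le_add le_rfl ih)

theorem length_le_pow {G : Type v} [Fintype G] :
    ∀ (n : ℕ) (f : Fin n → G → A) (J : Ideal A),
      (∀ τ : Fin n → G, Module.length A (A ⧸ J ⊔ Ideal.span (Set.range fun i => f i (τ i))) ≤ 1) →
        Module.length A (A ⧸ J ⊔ Ideal.span (Set.range fun i => ∏ σ, f i σ)) ≤
          (Fintype.card G ^ n : ℕ) := by
  intro n
  induction n with
  | zero =>
    intro f J h
    have : (fun i : Fin 0 => ∏ σ, f i σ) = fun i => f i (Fin.elim0 i) := funext fun i => i.elim0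
    rw [this, pow_zero, Nat.cast_one]
    exact h fun i => i.elim0
  | succ n ih =>
    intro f J h
    have e : ∀ y : Fin (n + 1) → A, J ⊔ Ideal.span (Set.range y) =
        (J ⊔ Ideal.span (Set.range fun i : Fin n => y i.succ)) ⊔ Ideal.span {y 0} := fun y => by
      rw [sup_assoc, ← Ideal.span_union]
      congr 2
      ext x
      simp [Fin.exists_fin_succ, eq_comm]
    rw [e]
    refine (length_sup_prod _ _ _).trans ((Finset.sum_le_card_nsmul _ _ ((Fintype.card G ^ n : ℕ) : ℕ∞)
      fun σ _ => ?_).trans_eq ?_)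
    · have h2 := ih (fun i => f i.succ) (J ⊔ Ideal.span {f 0 σ}) fun τ => by
        have := h (Fin.cons σ τ : Fin (n + 1) → G)
        rw [e] at this
        have ec : (fun i : Fin n => f i.succ ((Fin.cons σ τ : Fin (n + 1) → G) i.succ)) = fun i => f i.succ (τ i) := rfl
        rw [ec, Fin.cons_zero] at this
        rwa [sup_right_comm]
      rw [sup_assoc, sup_comm (Ideal.span {f 0 σ})] at h2
      rw [sup_assoc]
      exact h2
    · rw [Finset.card_univ, pow_succ', nsmul_eq_mul]
      push_cast
      rfl

end H3LenProd
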