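import Mathlib
import Groth.Agent.Lib.H8Shear

/-!
# Homomorphisms of group schemes over a field: surjectivity and flatness

A quasi-compact homomorphism with dense image is surjective; a surjective homomorphism which is
flat over one point of the target is flat.
-/

set_option autoImplicit false

universe u v

open CategoryTheory Limits AlgebraicGeometry MonoidalCategory CartesianMonoidalCategory MonObj

namespace Groth.Agent.H8GrpFlat

/-- A quasi-compact morphism with dense image hits every maximal point. -/
theorem mem_range_of_maximal {X Y : Scheme.{u}} (f : X ⟶ Y) [QuasiCompact f]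
    (hf : DenseRange f) (z : Y) (hz : ∀ y, y ⤳ z → y = z) : z ∈ Set.range f := by
  obtain ⟨_, ⟨U, hU, rfl⟩, hzU, -⟩ :=
    Y.isBasis_affineOpens.exists_subset_of_mem_open (Set.mem_univ z) isOpen_univ
  replace hU : IsAffineOpen U := hU
  obtain ⟨R, g, hg⟩ := isCompact_iff_exists.mp (f.isCompact_preimage hU.isCompact :
    IsCompact ((f ⁻¹ᵁ U : X.Opens) : Set X))
  let h : Spec R ⟶ Spec Γ(Y, U) := IsOpenImmersion.lift hU.fromSpec (g ≫ f) (by
    rw [IsAffineOpen.range_fromSpec]
    rintro _ ⟨r, rfl⟩
    exact hg.le ⟨r, rfl⟩)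
  have hh : h ≫ hU.fromSpec = g ≫ f := IsOpenImmersion.lift_fac ..
  have hd : DenseRange h := by
    have h1 : Dense (hU.fromSpec ⁻¹' Set.range f) :=
      hf.preimage hU.fromSpec.isOpenEmbedding.isOpenMap
    refine h1.mono ?_
    rintro p ⟨x, hx⟩
    have hxU : x ∈ Set.range g := by
      rw [hg]
      show f x ∈ U
      rw [hx, ← SetLike.mem_coe, ← IsAffineOpen.range_fromSpec hU]
      exact ⟨p, rfl⟩
    obtain ⟨r, rfl⟩ := hxU
    refine ⟨r, hU.fromSpec.isOpenEmbedding.injective ?_⟩
    rw [← Scheme.Hom.comp_apply, hh, Scheme.Hom.comp_apply, hx]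
  obtain ⟨p, rfl⟩ : z ∈ Set.range hU.fromSpec := by rw [IsAffineOpen.range_fromSpec]; exact hzU
  have hp : p.asIdeal ∈ minimalPrimes Γ(Y, U) := by
    refine ⟨⟨p.isPrime, bot_le⟩, fun q hq hqp => le_of_eq ?_⟩
    let q' : PrimeSpectrum Γ(Y, U) := ⟨q, hq.1⟩
    have hs : q' ⤳ p := (PrimeSpectrum.le_iff_specializes _ _).mp hqp
    have := hU.fromSpec.isOpenEmbedding.injective (hz _ (hs.map hU.fromSpec.continuous))
    exact (congrArg PrimeSpectrum.asIdeal this).symm
  obtain ⟨r, hr⟩ :=
    (PrimeSpectrum.denseRange_comap_iff_minimalPrimes (Spec.preimage h).hom).mp (by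
      have e : ⇑h = PrimeSpectrum.comap (Spec.preimage h).hom := by
        conv_lhs => rw [← Spec.map_preimage h]
        rfl
      rwa [← e]) _ hp
  refine ⟨g r, ?_⟩
  have e1 : f (g r) = hU.fromSpec (h r) := by
    show (g ≫ f) r = (h ≫ hU.fromSpec) r
    rw [hh]
  refine e1.trans (congrArg hU.fromSpec ?_)
  conv_lhs => rw [← Spec.map_preimage h]
  exact hr

/-- Every nonempty scheme has a maximal point. -/
theorem exists_maximal (X : Scheme.{u}) [Nonempty X] : ∃ z : X, ∀ y, y ⤳ z → y = z := by
  obtain ⟨x⟩ := ‹Nonempty X›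
  have hirr : IsIrreducible (irreducibleComponent x) := isIrreducible_irreducibleComponent
  have hgen := hirr.isGenericPoint_genericPoint isClosed_irreducibleComponent
  refine ⟨hirr.genericPoint, fun y hy => ?_⟩
  have h1 : irreducibleComponent x ⊆ closure {y} := by
    rw [← hgen.def]
    exact closure_minimal (Set.singleton_subset_iff.mpr (specializes_iff_mem_closure.mp hy))
      isClosed_closure
  have h2 : closure {y} = irreducibleComponent x :=
    ((irreducibleComponent_mem_irreducibleComponents x).2 isIrreducible_singleton.closure h1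
      ).antisymm h1
  exact (show IsGenericPoint y (irreducibleComponent x) from h2).eq hgen

section Descent

lemma flat_of_comp_faithfullyFlat {A B C : Type u} [CommRing A] [CommRing B] [CommRing C]
    (φ : A →+* B) (ψ : B →+* C) (hψ : ψ.FaithfullyFlat) (h : (ψ.comp φ).Flat) : φ.Flat := by
  algebraize [φ, ψ, ψ.comp φ]
  show Module.Flat A B
  rw [Module.Flat.iff_lTensor_preserves_injective_linearMap]
  intro M N _ _ _ _ g hg
  let gB := TensorProduct.AlgebraTensorModule.map (R := A) (A := B) (LinearMap.id : B →ₗ[B] B) g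
  suffices hgB : Function.Injective gB from hgB
  rw [← Module.FaithfullyFlat.lTensor_injective_iff_injective B C]
  let eM := TensorProduct.AlgebraTensorModule.cancelBaseChange A B C C M
  let eN := TensorProduct.AlgebraTensorModule.cancelBaseChange A B C C N
  have hC : Function.Injective (g.lTensor C) :=
    Module.Flat.lTensor_preserves_injective_linearMap g hg
  have key : ∀ x, eN (gB.lTensor C x) = g.lTensor C (eM x) := by
    intro x
    induction x using TensorProduct.induction_on with
    | zero => simp
    | tmul c y =>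
      induction y using TensorProduct.induction_on with
      | zero => simp
      | tmul b m => simp [gB, eM, eN]
      | add y y' hy hy' => simp only [TensorProduct.tmul_add, map_add, hy, hy']
    | add x y hx hy => simp only [map_add, hx, hy]
  intro x y hxy
  exact eM.injective (hC (by rw [← key, ← key, hxy]))

/-- Flatness may be checked after a flat surjective change of source. -/
theorem flat_of_comp {Q X Y : Scheme.{u}} (w : Q ⟶ X) (f : X ⟶ Y) [Flat w] [Surjective w]
    [Flat (w ≫ f)] : Flat f := by
  refine Flat.of_stalkMap _ fun x => ?_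
  obtain ⟨q, rfl⟩ := w.surjective x
  have h1 := Flat.stalkMap (w ≫ f) q
  rw [Scheme.Hom.stalkMap_comp] at h1
  refine flat_of_comp_faithfullyFlat _ (w.stalkMap q).hom ?_ h1
  algebraize [(w.stalkMap q).hom]
  exact @Module.FaithfullyFlat.of_flat_of_isLocalHom _ _ _ _ _ _ _
    (Flat.stalkMap w q) (w.toLRSHom.prop q)

end Descent

section Cat

variable {C : Type u} [Category.{v} C] [CartesianMonoidalCategory C]

/-- The pullback of a homomorphism along `(g, t) ↦ f g * x t`. -/
theorem isPullback_translate {G H T P : C} [GrpObj G] [GrpObj H] (f : G ⟶ H) [IsMonHom f]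
    (x : T ⟶ H) (a : P ⟶ G) (b : P ⟶ T) (sq : IsPullback a b f x) :
    IsPullback (fst G P * (snd G P ≫ a)) (G ◁ b) f ((fst G T ≫ f) * (snd G T ≫ x)) := by
  have w : (fst G P * (snd G P ≫ a)) ≫ f = (G ◁ b) ≫ ((fst G T ≫ f) * (snd G T ≫ x)) := by
    rw [MonObj.mul_comp, MonObj.comp_mul, whiskerLeft_fst_assoc, whiskerLeft_snd_assoc,
      Category.assoc, sq.w]
  refine IsPullback.of_isLimit' ⟨w⟩ ?_
  have hc : ∀ s : PullbackCone f ((fst G T ≫ f) * (snd G T ≫ x)),
      ((s.snd ≫ fst G T)⁻¹ * s.fst) ≫ f = (s.snd ≫ snd G T) ≫ x := fun s => by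
    rw [MonObj.mul_comp, GrpObj.inv_comp, s.condition, MonObj.comp_mul, Category.assoc,
      Category.assoc, inv_mul_cancel_left]
  refine PullbackCone.IsLimit.mk w
    (fun s => lift (s.snd ≫ fst G T) (sq.lift _ _ (hc s))) (fun s => ?_) (fun s => ?_)
    (fun s m h1 h2 => ?_)
  · rw [MonObj.comp_mul, lift_fst, lift_snd_assoc, sq.lift_fst, mul_inv_cancel_left]
  · apply CartesianMonoidalCategory.hom_ext
    · rw [Category.assoc, whiskerLeft_fst, lift_fst]
    · rw [Category.assoc, whiskerLeft_snd, lift_snd_assoc, sq.lift_snd]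
  · have e1 : m ≫ fst G P = s.snd ≫ fst G T := by
      rw [← h2, Category.assoc, whiskerLeft_fst]
    apply CartesianMonoidalCategory.hom_ext
    · rw [lift_fst, e1]
    · rw [lift_snd]
      apply sq.hom_ext
      · rw [sq.lift_fst, Category.assoc, ← h1, MonObj.comp_mul, e1, inv_mul_cancel_left]
      · rw [sq.lift_snd, Category.assoc, ← h2, Category.assoc, whiskerLeft_snd]

end Cat

section Field

variable {k : Type u} [Field k] {G H T : Over (Spec (CommRingCat.of k))}
  [GrpObj G] [GrpObj H]

/-- A quasi-compact homomorphism with dense image is surjective. -/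
theorem surjective_of_denseRange (f : G ⟶ H) [IsMonHom f] [QuasiCompact f.left]
    (hf : DenseRange f.left) : Surjective f.left := by
  refine ⟨fun x => ?_⟩
  let P : Over (Spec (CommRingCat.of k)) := Over.mk (H.left.fromSpecResidueField x ≫ H.hom)
  let p : P ⟶ H := Over.homMk (H.left.fromSpecResidueField x) rfl
  obtain ⟨s⟩ : Nonempty P.left := inferInstanceAs (Nonempty (Spec (H.left.residueField x)))
  have : Nonempty (H ⊗ P).left := ⟨(lift (1 : P ⟶ H) (𝟙 P)).left s⟩
  obtain ⟨z, hz⟩ := exists_maximal (H ⊗ P).left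
  let τ : H ⊗ P ≅ H ⊗ P :=
    { hom := lift ((snd H P ≫ p) * fst H P) (snd H P)
      inv := lift ((snd H P ≫ p)⁻¹ * fst H P) (snd H P)
      hom_inv_id := by
        apply CartesianMonoidalCategory.hom_ext <;> simp [comp_mul, GrpObj.comp_inv]
      inv_hom_id := by
        apply CartesianMonoidalCategory.hom_ext <;> simp [comp_mul, GrpObj.comp_inv] }
  have : QuasiCompact (f ▷ P).left :=
    MorphismProperty.of_isPullback (H8Shear.isPullback_whiskerRight f P).flip ‹_›
  have hd : DenseRange (f ▷ P).left := by
    show Dense _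
    rw [H8Shear.range_whiskerRight]
    exact Dense.preimage hf (H8Shear.isOpenMap_fst H P)
  have : IsIso τ.hom.left := ((Over.forget _).mapIso τ).isIso_hom
  have hz' : ∀ y, y ⤳ τ.hom.left z → y = τ.hom.left z := fun y hy => by
    obtain ⟨y', rfl⟩ := τ.hom.left.homeomorph.surjective y
    exact congrArg τ.hom.left (hz _ (τ.hom.left.homeomorph.isInducing.specializes_iff.mp hy))
  have h1 : (fst H P).left z ∈ Set.range f.left := by
    have := mem_range_of_maximal _ hd z hz
    rwa [H8Shear.range_whiskerRight] at this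
  have h2 : ((snd H P ≫ p) * fst H P).left z ∈ Set.range f.left := by
    have := mem_range_of_maximal _ hd _ hz'
    rw [H8Shear.range_whiskerRight, Set.mem_preimage] at this
    rw [show (snd H P ≫ p) * fst H P = τ.hom ≫ fst H P from (lift_fst _ _).symm]
    exact this
  have h3 := H8Shear.mem_of_mul_mem f z _ _ h2 h1
  rw [Over.comp_left, Scheme.Hom.comp_apply] at h3
  exact (Scheme.fromSpecResidueField_apply x _ : p.left _ = x) ▸ h3

/-- A surjective homomorphism which is flat over some flat family of points of the target is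
flat. -/
theorem flat_of_flat_pullback (f : G ⟶ H) [IsMonHom f] [Surjective f.left] (x : T ⟶ H)
    [Flat x.left] [Nonempty T.left] (hP : Flat (pullback.snd f.left x.left)) :
    Flat f.left := by
  let P : Over (Spec (CommRingCat.of k)) := Over.mk (pullback.fst f.left x.left ≫ G.hom)
  let a : P ⟶ G := Over.homMk (pullback.fst f.left x.left) rfl
  let b : P ⟶ T := Over.homMk (pullback.snd f.left x.left) (by
    show pullback.snd f.left x.left ≫ T.hom = pullback.fst f.left x.left ≫ G.hom
    rw [← Over.w x, ← Over.w f, pullback.condition_assoc])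
  have sq : IsPullback a b f x :=
    IsPullback.of_map (Over.forget _) (Over.OverMorphism.ext pullback.condition)
      (IsPullback.of_hasPullback f.left x.left)
  let m : G ⊗ T ⟶ H := (fst G T ≫ f) * (snd G T ≫ x)
  let w : G ⊗ P ⟶ G := fst G P * (snd G P ≫ a)
  have hw : IsPullback w.left (G ◁ b).left f.left m.left :=
    (isPullback_translate f x a b sq).map (Over.forget _)
  have flat_whiskerLeft : ∀ {A B : Over (Spec (CommRingCat.of k))} (h : A ⟶ B) [Flat h.left],
      Flat (G ◁ h).left := fun {A B} h _ => by
    have e : G ◁ h = (β_ G A).hom ≫ (h ▷ G) ≫ (β_ B G).hom := by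
      apply CartesianMonoidalCategory.hom_ext <;> simp
    have : IsIso (β_ G A).hom.left := ((Over.forget _).mapIso (β_ G A)).isIso_hom
    have : IsIso (β_ B G).hom.left := ((Over.forget _).mapIso (β_ B G)).isIso_hom
    have : Flat (h ▷ G).left :=
      MorphismProperty.of_isPullback (H8Shear.isPullback_whiskerRight h G).flip ‹_›
    rw [e, Over.comp_left, Over.comp_left]
    infer_instance
  have : Flat (G ◁ b).left := @flat_whiskerLeft _ _ b hP
  have : Flat (G ◁ x).left := flat_whiskerLeft x
  have hm : m = (G ◁ x) ≫ (H8Shear.shearL f).hom ≫ snd G H := by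
    simp [m, H8Shear.shearL, comp_mul]
  have : Flat m.left := by
    have : IsIso (H8Shear.shearL f).hom.left :=
      ((Over.forget _).mapIso (H8Shear.shearL f)).isIso_hom
    have : Flat (snd G H).left := inferInstanceAs (Flat (pullback.snd G.hom H.hom))
    rw [hm, Over.comp_left, Over.comp_left]
    infer_instance
  have : Surjective m.left := ⟨fun y => by
    let P₀ : Over (Spec (CommRingCat.of k)) := Over.mk (H.left.fromSpecResidueField y ≫ H.hom)
    let p : P₀ ⟶ H := Over.homMk (H.left.fromSpecResidueField y) rfl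
    obtain ⟨s⟩ : Nonempty P₀.left := inferInstanceAs (Nonempty (Spec (H.left.residueField y)))
    obtain ⟨t₀⟩ := ‹Nonempty T.left›
    obtain ⟨z, -, -⟩ := Scheme.Pullback.exists_preimage_pullback (f := P₀.hom) (g := T.hom) s t₀
      (Subsingleton.elim _ _)
    let c : P₀ ⊗ T ⟶ H := (fst P₀ T ≫ p) * (snd P₀ T ≫ x)⁻¹
    obtain ⟨X', t, z', a', ht, ha⟩ := H8Shear.exists_lift f c z (f.left.surjective _)
    refine ⟨(lift a' (t ≫ snd P₀ T)).left z', ?_⟩
    have e : lift a' (t ≫ snd P₀ T) ≫ m = t ≫ fst P₀ T ≫ p := by
      simp only [m, MonObj.comp_mul, lift_fst_assoc, lift_snd_assoc, Category.assoc, ← ha, c,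
        GrpObj.comp_inv, inv_mul_cancel_right]
    rw [← Scheme.Hom.comp_apply, ← Over.comp_left, e, Over.comp_left, Over.comp_left,
      Scheme.Hom.comp_apply, Scheme.Hom.comp_apply]
    exact Scheme.fromSpecResidueField_apply y _⟩
  have : Flat w.left := MorphismProperty.of_isPullback hw.flip ‹Flat m.left›
  have : Surjective w.left := MorphismProperty.of_isPullback hw.flip ‹Surjective m.left›
  have : Flat (w.left ≫ f.left) := by rw [hw.w]; infer_instance
  exact flat_of_comp w.left f.left

lemma flat_fromSpecStalk (X : Scheme.{u}) (x : X) : Flat (X.fromSpecStalk x) := by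
  obtain ⟨_, ⟨U, hU, rfl⟩, hxU, -⟩ :=
    X.isBasis_affineOpens.exists_subset_of_mem_open (Set.mem_univ x) isOpen_univ
  replace hU : IsAffineOpen U := hU
  rw [← hU.fromSpecStalk_eq_fromSpecStalk hxU]
  let := TopCat.Presheaf.algebra_section_stalk X.presheaf ⟨x, hxU⟩
  have := hU.isLocalization_stalk ⟨x, hxU⟩
  have : Flat (Spec.map (X.presheaf.germ U x hxU)) := by
    rw [HasRingHomProperty.Spec_iff (P := @Flat)]
    exact (RingHom.flat_algebraMap_iff.mpr (IsLocalization.flat (X.presheaf.stalk x)
      (hU.primeIdealOf ⟨x, hxU⟩).asIdeal.primeCompl))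
  exact MorphismProperty.comp_mem _ (Spec.map (X.presheaf.germ U x hxU)) hU.fromSpec this
    inferInstance

/-- A surjective homomorphism to a reduced group scheme is flat. -/
theorem flat_of_isReduced (f : G ⟶ H) [IsMonHom f] [Surjective f.left] [IsReduced H.left] :
    Flat f.left := by
  have : Nonempty H.left := ⟨η[H].left (show (𝟙_ (Over (Spec (CommRingCat.of k)))).left from
    Classical.arbitrary (Spec (CommRingCat.of k)))⟩
  obtain ⟨z, hz⟩ := exists_maximal H.left
  have hK : IsField (H.left.presheaf.stalk z) := by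
    refine isField_stalk_of_closure_mem_irreducibleComponents H.left z
      ⟨isIrreducible_singleton.closure, fun Z hZ hle => ?_⟩
    have h1 := hZ.isGenericPoint_genericPoint_closure
    have h2 : hZ.genericPoint ⤳ z :=
      h1.specializes (subset_closure (hle (subset_closure rfl)))
    rw [hz _ h2] at h1
    exact subset_closure.trans h1.def.ge
  let T : Over (Spec (CommRingCat.of k)) := Over.mk (H.left.fromSpecStalk z ≫ H.hom)
  let x : T ⟶ H := Over.homMk (H.left.fromSpecStalk z) rfl
  have : Flat x.left := flat_fromSpecStalk _ z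
  have : Nonempty T.left := inferInstanceAs (Nonempty (Spec (H.left.presheaf.stalk z)))
  refine flat_of_flat_pullback f x ?_
  let := hK.toField
  have : Subsingleton T.left :=
    inferInstanceAs (Subsingleton (PrimeSpectrum (H.left.presheaf.stalk z)))
  have : IsIntegral T.left :=
    inferInstanceAs (IsIntegral (Spec (CommRingCat.of (H.left.presheaf.stalk z))))
  infer_instance

end Field

end Groth.Agent.H8GrpFlat
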