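import Mathlib
import Groth.Agent.Lib.H8GrpFlat

/-!
# Étale at a point, and endomorphisms of noetherian local rings

* A local homomorphism which is flat and unramified at a prime is étale there, and a morphism of
  schemes with flat and unramified stalk map at a point is étale near that point.
* An endomorphism of a noetherian local ring inducing the identity on the residue field and a
  bijection on the cotangent space is flat and unramified.
-/

set_option autoImplicit false

universe u

open CategoryTheory AlgebraicGeometry IsLocalRing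

namespace Groth.Agent.H8EtaleAt

section Algebra

open TensorProduct

attribute [local instance] Algebra.FormallyEtale.of_formallyUnramified_of_field

/-- Flat and unramified at a prime implies étale at this prime. -/
theorem isEtaleAt (A B : Type u) [CommRing A] [CommRing B] [Algebra A B]
    [Algebra.FinitePresentation A B] (p : Ideal A) (q : Ideal B) [p.IsPrime] [q.IsPrime]
    [q.LiesOver p] [Algebra (Localization.AtPrime p) (Localization.AtPrime q)]
    [Localization.AtPrime.IsLiesOverAlgebra p q]
    [Module.Flat (Localization.AtPrime p) (Localization.AtPrime q)]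
    [Algebra.FormallyUnramified (Localization.AtPrime p) (Localization.AtPrime q)] :
    Algebra.IsEtaleAt A q := by
  let Rp := Localization.AtPrime p
  let Sp := Localization (Algebra.algebraMapSubmonoid B p.primeCompl)
  let Sq := Localization.AtPrime q
  let f : Sp →ₐ[B] Sq := IsLocalization.liftAlgHom
        (M := Algebra.algebraMapSubmonoid B p.primeCompl) (f := Algebra.ofId _ _) (by
      rintro ⟨_, x, hx, rfl⟩
      simpa using! IsLocalization.map_units (M := q.primeCompl) Sq ⟨algebraMap _ _ x,
        by simp_all [q.over_def p]⟩)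
  algebraize [f.toRingHom]
  have : IsScalarTower A Sp Sq := .to₁₃₄ _ B _ _
  have : IsScalarTower Rp Sp Sq := .of_algebraMap_eq' <| by
    apply IsLocalization.ringHom_ext p.primeCompl
    simp only [RingHom.comp_assoc, ← IsScalarTower.algebraMap_eq]
  have : IsLocalization (Algebra.algebraMapSubmonoid Sp q.primeCompl) Sq :=
    .isLocalization_of_submonoid_le _ _ (Algebra.algebraMapSubmonoid B p.primeCompl) _
    (by rintro _ ⟨x, hx, rfl⟩; simp_all [q.over_def p])
  have : Algebra.FinitePresentation Rp Sp := by
    have : Algebra.IsPushout A Rp B Sp :=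
      .symm <| Algebra.isPushout_of_isLocalization p.primeCompl _ _ _
    exact .equiv (Algebra.IsPushout.equiv A Rp B Sp)
  have : Algebra.EssFiniteType A Sq := .comp A B Sq
  have : Algebra.EssFiniteType Rp Sq := .of_comp A Rp Sq
  have : Algebra.FormallyEtale (ResidueField Rp) (ResidueField Rp ⊗[Rp] Sq) := inferInstance
  haveI : IsLocalHom (algebraMap Rp Sq) := by
    show IsLocalHom (algebraMap (Localization.AtPrime p) (Localization.AtPrime q))
    rw [Localization.AtPrime.IsLiesOverAlgebra.algebraMap_eq]
    infer_instance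
  have h1 : Algebra.FormallySmooth Rp Sq :=
    Algebra.FormallySmooth.of_formallySmooth_residueField_tensor
      (R := Rp) (S := Sq) (P := Sp) (Algebra.algebraMapSubmonoid _ q.primeCompl)
  have : Algebra.FormallyEtale Rp Sq :=
    Algebra.FormallyEtale.iff_formallyUnramified_and_formallySmooth.mpr ⟨inferInstance, h1⟩
  have : Algebra.FormallyEtale A Rp := .of_isLocalization p.primeCompl
  exact Algebra.FormallyEtale.comp A Rp Sq

end Algebra

section Scheme

set_option backward.defeqAttrib.useBackward true in
set_option backward.isDefEq.respectTransparency false in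
/-- A morphism locally of finite presentation which is flat and unramified at a point is étale
on a neighbourhood of this point. -/
theorem exists_etale_nhd {X Y : Scheme.{u}} (f : X ⟶ Y) [LocallyOfFinitePresentation f] (x : X)
    (hfl : (f.stalkMap x).hom.Flat) (hunr : (f.stalkMap x).hom.FormallyUnramified) :
    ∃ V : X.Opens, x ∈ V ∧ Etale (V.ι ≫ f) := by
  obtain ⟨_, ⟨U, hU, rfl⟩, hxU, -⟩ :=
    Y.isBasis_affineOpens.exists_subset_of_mem_open (Set.mem_univ (f x)) isOpen_univ
  obtain ⟨_, ⟨V, hV, rfl⟩, hxV, hVU⟩ :=
    X.isBasis_affineOpens.exists_subset_of_mem_open hxU (U.2.preimage f.continuous)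
  replace hU : IsAffineOpen U := hU
  replace hV : IsAffineOpen V := hV
  replace hxV : x ∈ V := hxV
  replace hVU : V ≤ f ⁻¹ᵁ U := hVU
  have hfp := f.finitePresentation_appLE hU hV hVU
  algebraize [(f.appLE U V hVU).hom]
  let p := (hU.primeIdealOf ⟨f x, hVU hxV⟩).asIdeal
  let q := (hV.primeIdealOf ⟨x, hxV⟩).asIdeal
  have : q.LiesOver p :=
    ⟨congr($(IsAffineOpen.comap_primeIdealOf_appLE U hU V hV hVU hxV).1).symm⟩
  let := Localization.AtPrime.algebraOfLiesOver p q
  haveI : Module.Flat (Localization.AtPrime p) (Localization.AtPrime q) := by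
    rw [← RingHom.flat_algebraMap_iff]
    exact (RingHom.Flat.respectsIso.arrow_mk_iso_iff
      (IsAffineOpen.arrowStalkMapIso f U hU V hV hVU hxV)).mp hfl
  haveI : Algebra.FormallyUnramified (Localization.AtPrime p) (Localization.AtPrime q) := by
    rw [← RingHom.formallyUnramified_algebraMap]
    exact (RingHom.FormallyUnramified.respectsIso.arrow_mk_iso_iff
      (IsAffineOpen.arrowStalkMapIso f U hU V hV hVU hxV)).mp hunr
  haveI : Algebra.IsEtaleAt Γ(Y, U) q := isEtaleAt Γ(Y, U) Γ(X, V) p q
  obtain ⟨r, hrx, hr⟩ := Algebra.exists_etale_of_isEtaleAt (R := Γ(Y, U)) q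
  have hle : X.basicOpen r ≤ f ⁻¹ᵁ U := (X.basicOpen_le r).trans hVU
  refine ⟨X.basicOpen r, ?_, ?_⟩
  · rwa [← PrimeSpectrum.mem_basicOpen, IsAffineOpen.primeIdealOf,
      ← hV.fromSpec_preimage_basicOpen, Scheme.Hom.mem_preimage, ← Scheme.Hom.comp_apply,
      IsAffineOpen.isoSpec_hom, IsAffineOpen.toSpecΓ_fromSpec] at hrx
  · have H : (f.appLE U (X.basicOpen r) hle).hom.Etale := by
      have := hV.isLocalization_basicOpen r
      rw [← RingHom.etale_algebraMap] at hr
      convert!
        RingHom.Etale.respectsIso.1 _
          (IsLocalization.algEquiv (.powers r) _ Γ(X, X.basicOpen r)).toRingEquiv hr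
      ext
      dsimp
      simp only [IsScalarTower.algebraMap_apply Γ(Y, U) Γ(X, V) (Localization _),
        IsLocalization.map_eq]
      simp only [RingHom.algebraMap_toAlgebra, RingHomCompTriple.comp_apply,
        ← ConcreteCategory.comp_apply, Scheme.Hom.appLE_map]
    have : IsAffine (U : Scheme.{u}) := hU
    have : IsAffine (X.basicOpen r : Scheme.{u}) := hV.basicOpen r
    have : Etale (f.resLE U (X.basicOpen r) hle) := by
      rw [HasRingHomProperty.iff_of_isAffine (P := @Etale)]
      exact (RingHom.Etale.respectsIso.arrow_mk_iso_iff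
        (arrowResLEAppIso f U (X.basicOpen r) hle)).mpr H
    rw [← Scheme.Hom.resLE_comp_ι f hle]
    infer_instance

end Scheme

section Local

/-- A surjective endomorphism of a noetherian ring is injective. -/
theorem injective_of_surjective {R : Type u} [CommRing R] [IsNoetherianRing R] (f : R →+* R)
    (hf : Function.Surjective f) : Function.Injective f := by
  obtain ⟨n, hn⟩ := monotone_stabilizes_iff_noetherian.mpr ‹IsNoetherianRing R›
    ⟨fun n => RingHom.ker (f ^ n), monotone_nat_of_le_succ fun n x hx => by
      rw [RingHom.mem_ker] at hx ⊢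
      rw [pow_succ', RingHom.coe_mul, Function.comp_apply, hx, map_zero]⟩
  have hn' : RingHom.ker (f ^ n) = RingHom.ker (f ^ (n + 1)) := hn (n + 1) n.le_succ
  rw [injective_iff_map_eq_zero]
  intro x hx
  obtain ⟨y, rfl⟩ := (hf.iterate n) x
  rw [← RingHom.coe_pow] at hx ⊢
  have : y ∈ RingHom.ker (f ^ (n + 1)) := by
    rw [RingHom.mem_ker, pow_succ', RingHom.coe_mul, Function.comp_apply]
    exact hx
  rw [← hn', RingHom.mem_ker] at this
  exact this

variable {O : Type u} [CommRing O] [IsLocalRing O] [IsNoetherianRing O]

/-- An endomorphism of a noetherian local ring inducing the identity on the residue field and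
multiplication by a unit on the cotangent space generates the maximal ideal. -/
theorem map_maximalIdeal_eq (φ : O →+* O) (c : O) (hc : IsUnit c)
    (h1 : ∀ a, φ a - a ∈ maximalIdeal O)
    (h2 : ∀ a ∈ maximalIdeal O, φ a - c * a ∈ maximalIdeal O ^ 2) :
    (maximalIdeal O).map φ = maximalIdeal O := by
  refine le_antisymm ?_ ?_
  · rw [Ideal.map_le_iff_le_comap]
    intro a ha
    show φ a ∈ maximalIdeal O
    have := add_mem (h1 a) ha
    simpa using this
  · refine Submodule.le_of_le_smul_of_le_jacobson_bot (IsNoetherian.noetherian _)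
      (maximalIdeal_le_jacobson _) (fun a ha => ?_)
    have hca : c * a ∈ (maximalIdeal O).map φ ⊔ maximalIdeal O ^ 2 := by
      have e : c * a = φ a + -(φ a - c * a) := by ring
      rw [e]
      exact Submodule.add_mem_sup (Ideal.mem_map_of_mem φ ha) (neg_mem (h2 a ha))
    obtain ⟨v, rfl⟩ := hc
    have := Ideal.mul_mem_left _ (↑v⁻¹ : O) hca
    rw [← mul_assoc, Units.inv_mul, one_mul] at this
    simpa [pow_two] using this

omit [IsNoetherianRing O] in
/-- Such an endomorphism is surjective modulo every power of the maximal ideal. -/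
theorem exists_sub_mem_pow (φ : O →+* O) (h1 : ∀ a, φ a - a ∈ maximalIdeal O)
    (hm : (maximalIdeal O).map φ = maximalIdeal O) (j : ℕ) (a : O) :
    ∃ b, φ b - a ∈ maximalIdeal O ^ j := by
  induction j generalizing a with
  | zero => exact ⟨0, by simp⟩
  | succ j ih =>
    suffices H : ∀ d ∈ maximalIdeal O ^ j, ∃ e, φ e - d ∈ maximalIdeal O ^ (j + 1) by
      obtain ⟨b, hb⟩ := ih a
      obtain ⟨e, he⟩ := H _ hb
      refine ⟨b - e, ?_⟩
      have e' : φ (b - e) - a = -(φ e - (φ b - a)) := by rw [map_sub]; ring
      rw [e']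
      exact neg_mem he
    intro d hd
    rw [← hm, ← Ideal.map_pow] at hd
    induction hd using Submodule.span_induction with
    | mem y hy =>
      obtain ⟨b, hb, rfl⟩ := hy
      exact ⟨b, by simp⟩
    | zero => exact ⟨0, by simp⟩
    | add y z _ _ hy hz =>
      obtain ⟨e1, he1⟩ := hy
      obtain ⟨e2, he2⟩ := hz
      refine ⟨e1 + e2, ?_⟩
      have e' : φ (e1 + e2) - (y + z) = (φ e1 - y) + (φ e2 - z) := by rw [map_add]; ring
      rw [e']
      exact add_mem he1 he2
    | smul o y hy' hy =>
      obtain ⟨e, he⟩ := hy
      refine ⟨o * e, ?_⟩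
      have hy2 : y ∈ maximalIdeal O ^ j := by
        rw [← hm, ← Ideal.map_pow]; exact hy'
      have e' : φ (o * e) - o • y = φ o * (φ e - y) + (φ o - o) * y := by
        rw [map_mul, smul_eq_mul]; ring
      rw [e']
      refine add_mem (Ideal.mul_mem_left _ _ he) ?_
      rw [pow_succ']
      exact Ideal.mul_mem_mul (h1 o) hy2

set_option backward.isDefEq.respectTransparency false in
/-- An endomorphism of a noetherian local ring inducing the identity on the residue field and
multiplication by a unit on the cotangent space is flat. -/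
theorem flat_endo (φ : O →+* O) (h1 : ∀ a, φ a - a ∈ maximalIdeal O)
    (hm : (maximalIdeal O).map φ = maximalIdeal O) : φ.Flat := by
  let m := maximalIdeal O
  have hle : ∀ j, m ^ j ≤ (m ^ j).comap φ := fun j => by
    rw [← Ideal.map_le_iff_le_comap, Ideal.map_pow, hm]
  let φq : ∀ j, O ⧸ m ^ j →+* O ⧸ m ^ j := fun j => Ideal.quotientMap (m ^ j) φ (hle j)
  have hbij : ∀ j, Function.Bijective (φq j) := fun j => by
    have hs : Function.Surjective (φq j) := by
      intro y
      obtain ⟨a, rfl⟩ := Ideal.Quotient.mk_surjective y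
      obtain ⟨b, hb⟩ := exists_sub_mem_pow φ h1 hm j a
      exact ⟨Ideal.Quotient.mk _ b, by
        rw [Ideal.quotientMap_mk]; exact Ideal.Quotient.eq.mpr hb⟩
    exact ⟨injective_of_surjective _ hs, hs⟩
  let ψq : ∀ j, O ⧸ m ^ j ≃+* O ⧸ m ^ j := fun j => RingEquiv.ofBijective (φq j) (hbij j)
  have hψ : ∀ j (a : O),
      ψq j (Ideal.Quotient.mk (m ^ j) a) = Ideal.Quotient.mk (m ^ j) (φ a) := fun j a => rfl
  have compat : ∀ {i j : ℕ} (h : i ≤ j) (x : O ⧸ m ^ j),
      Ideal.Quotient.factorPow m h (ψq j x) = ψq i (Ideal.Quotient.factorPow m h x) := by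
    intro i j h x
    obtain ⟨a, rfl⟩ := Ideal.Quotient.mk_surjective x
    simp [hψ]
  have compat' : ∀ {i j : ℕ} (h : i ≤ j) (x : O ⧸ m ^ j),
      Ideal.Quotient.factorPow m h ((ψq j).symm x)
        = (ψq i).symm (Ideal.Quotient.factorPow m h x) := by
    intro i j h x
    apply (ψq i).injective
    rw [← compat, RingEquiv.apply_symm_apply, RingEquiv.apply_symm_apply]
  let C := AdicCompletion m O
  have hev : ∀ {i j : ℕ} (h : i ≤ j) (x : C), Ideal.Quotient.factorPow m h
      (AdicCompletion.evalₐ m j x) = AdicCompletion.evalₐ m i x := by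
    intro i j h x
    obtain ⟨x, rfl⟩ := AdicCompletion.mk_surjective m O x
    rw [AdicCompletion.evalₐ_mk, AdicCompletion.evalₐ_mk]
    simp only [Ideal.Quotient.factor_mk]
    rw [Ideal.Quotient.eq]
    have := (SModEq.sub_mem.mp (x.2 h))
    rw [smul_eq_mul, Ideal.mul_top] at this
    simpa using neg_mem this
  let E : C →+* C := AdicCompletion.liftRingHom m
    (fun j => (ψq j).toRingHom.comp (AdicCompletion.evalₐ m j).toRingHom) (fun {i j} h => by
      ext x
      show Ideal.Quotient.factorPow m h (ψq j (AdicCompletion.evalₐ m j x)) = _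
      rw [compat, hev]
      rfl)
  let E' : C →+* C := AdicCompletion.liftRingHom m
    (fun j => (ψq j).symm.toRingHom.comp (AdicCompletion.evalₐ m j).toRingHom) (fun {i j} h => by
      ext x
      show Ideal.Quotient.factorPow m h ((ψq j).symm (AdicCompletion.evalₐ m j x)) = _
      rw [compat', hev]
      rfl)
  have hE : ∀ j x, AdicCompletion.evalₐ m j (E x) = ψq j (AdicCompletion.evalₐ m j x) :=
    fun j x => AdicCompletion.evalₐ_liftRingHom m _ _ j x
  have hE' : ∀ j x, AdicCompletion.evalₐ m j (E' x) = (ψq j).symm (AdicCompletion.evalₐ m j x) :=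
    fun j x => AdicCompletion.evalₐ_liftRingHom m _ _ j x
  have hEb : Function.Bijective E := Function.bijective_iff_has_inverse.mpr
    ⟨E', fun x => AdicCompletion.ext_evalₐ fun j => by rw [hE', hE, RingEquiv.symm_apply_apply],
      fun x => AdicCompletion.ext_evalₐ fun j => by rw [hE, hE', RingEquiv.apply_symm_apply]⟩
  have hcomm : (algebraMap O C).comp φ = E.comp (algebraMap O C) := by
    refine RingHom.ext fun a => AdicCompletion.ext_evalₐ fun j => ?_
    rw [RingHom.comp_apply, RingHom.comp_apply, hE, AlgHom.commutes, AlgHom.commutes]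
    exact (hψ j a).symm
  haveI : Module.FaithfullyFlat O C := by
    refine { submodule_ne_top := fun n hn htop => ?_ }
    have hnm : n = m := IsLocalRing.eq_maximalIdeal hn
    rw [hnm] at htop
    have h1 : (1 : C) ∈ m • (⊤ : Submodule O C) := by rw [htop]; exact Submodule.mem_top
    have h0 : ∀ x ∈ m • (⊤ : Submodule O C), AdicCompletion.evalₐ m 1 x = 0 := by
      intro x hx
      refine Submodule.smul_induction_on hx (fun r hr y _ => ?_) fun y z hy hz => ?_
      · rw [map_smul, Algebra.smul_def]
        have : algebraMap O (O ⧸ m ^ 1) r = 0 :=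
          Ideal.Quotient.eq_zero_iff_mem.mpr (by rwa [pow_one])
        rw [this, zero_mul]
      · rw [map_add, hy, hz, add_zero]
    have hone := h0 1 h1
    rw [map_one] at hone
    haveI : Nontrivial (O ⧸ m ^ 1) := Ideal.Quotient.nontrivial_iff.mpr (by
      rw [pow_one]; exact (maximalIdeal.isMaximal O).ne_top)
    exact one_ne_zero hone
  refine H8GrpFlat.flat_of_comp_faithfullyFlat φ (algebraMap O C)
    (RingHom.faithfullyFlat_algebraMap_iff.mpr inferInstance) ?_
  rw [hcomm]
  exact RingHom.Flat.comp (RingHom.flat_algebraMap_iff.mpr inferInstance)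
    (RingHom.Flat.of_bijective hEb)

/-- A local homomorphism generating the maximal ideal with trivial residue field extension is
unramified. -/
theorem formallyUnramified_of {R S : Type u} [CommRing R] [CommRing S] [IsLocalRing R]
    [IsLocalRing S] (φ : R →+* S) [IsLocalHom φ] (hres : ∀ s, ∃ r, φ r - s ∈ maximalIdeal S)
    (hm : (maximalIdeal R).map φ = maximalIdeal S) (hft : φ.EssFiniteType) :
    φ.FormallyUnramified := by
  algebraize [φ]
  haveI : IsLocalHom (algebraMap R S) := ‹IsLocalHom φ›
  haveI : Algebra.IsSeparable (ResidueField R) (ResidueField S) := ⟨fun x => by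
    obtain ⟨s, rfl⟩ := residue_surjective x
    obtain ⟨r, hr⟩ := hres s
    have : residue S s = algebraMap (ResidueField R) (ResidueField S) (residue R r) := by
      rw [ResidueField.algebraMap_residue]
      exact (Ideal.Quotient.eq.mpr hr).symm
    rw [this]
    exact isSeparable_algebraMap _⟩
  exact Algebra.FormallyUnramified.of_map_maximalIdeal hm

omit [IsNoetherianRing O] in
/-- An endomorphism of a noetherian local ring inducing the identity on the residue field and
generating the maximal ideal is unramified, if it is essentially of finite type. -/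
theorem formallyUnramified_endo (φ : O →+* O) (h1 : ∀ a, φ a - a ∈ maximalIdeal O)
    (hm : (maximalIdeal O).map φ = maximalIdeal O) (hft : φ.EssFiniteType) :
    φ.FormallyUnramified := by
  haveI hloc : IsLocalHom φ := ⟨fun a ha => by
    by_contra hna
    have : a ∈ maximalIdeal O := hna
    have := add_mem (h1 a) this
    rw [sub_add_cancel] at this
    exact this ha⟩
  exact formallyUnramified_of φ (fun s => ⟨s, h1 s⟩) hm hft

end Local

end Groth.Agent.H8EtaleAt
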