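import Mathlib
import Groth.Agent.Lib.H3EtalePoint
import Groth.Agent.Lib.H8EtaleAt

/-! Unramifiedness at a point, and its descent along a map flat at a point. -/

set_option autoImplicit false
universe u
open CategoryTheory CategoryTheory.Limits AlgebraicGeometry IsLocalRing

namespace Groth.Agent.H3UnramPoint

theorem unram_descend (A B C : Type u) [CommRing A] [CommRing B] [CommRing C] [IsLocalRing A] [IsLocalRing B]
    [IsLocalRing C] [Algebra A B] [Algebra B C] [Algebra A C] [IsScalarTower A B C]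
    [IsLocalHom (algebraMap A B)] [IsLocalHom (algebraMap B C)] [IsLocalHom (algebraMap A C)]
    [Module.FaithfullyFlat B C] [Algebra.EssFiniteType A B] [Algebra.EssFiniteType A C]
    [Algebra.FormallyUnramified A C] : Algebra.FormallyUnramified A B := by
  obtain ⟨hsep, hmap⟩ := (Algebra.FormallyUnramified.iff_map_maximalIdeal_eq (R := A) (S := C)).mp inferInstance
  rw [Algebra.FormallyUnramified.iff_map_maximalIdeal_eq]
  haveI : IsScalarTower (ResidueField A) (ResidueField B) (ResidueField C) := by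
    refine IsScalarTower.of_algebraMap_eq fun z => ?_
    obtain ⟨a, rfl⟩ := residue_surjective z
    simp only [ResidueField.algebraMap_residue, ← IsScalarTower.algebraMap_apply]
  refine ⟨Algebra.isSeparable_tower_bot_of_isSeparable (ResidueField A) (ResidueField B) (ResidueField C), ?_⟩
  refine le_antisymm (((local_hom_TFAE (algebraMap A B)).out 0 2 rfl rfl).mp inferInstance) ?_
  rw [← Ideal.comap_map_eq_self_of_faithfullyFlat (B := C) ((maximalIdeal A).map (algebraMap A B))]
  rw [Ideal.map_map, ← IsScalarTower.algebraMap_eq, hmap]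
  exact fun b hb hu => hb (isUnit_of_map_unit (algebraMap B C) b hu)

set_option backward.defeqAttrib.useBackward true in
set_option backward.isDefEq.respectTransparency false in
theorem exists_unram_nhd {X Y : Scheme.{u}} (f : X ⟶ Y) [LocallyOfFiniteType f] (x : X)
    (hunr : (f.stalkMap x).hom.FormallyUnramified) :
    ∃ V : X.Opens, x ∈ V ∧ FormallyUnramified (V.ι ≫ f) := by
  obtain ⟨_, ⟨U, hU, rfl⟩, hxU, -⟩ :=
    Y.isBasis_affineOpens.exists_subset_of_mem_open (Set.mem_univ (f x)) isOpen_univ
  obtain ⟨_, ⟨V, hV, rfl⟩, hxV, hVU⟩ :=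
    X.isBasis_affineOpens.exists_subset_of_mem_open hxU (U.2.preimage f.continuous)
  replace hU : IsAffineOpen U := hU
  replace hV : IsAffineOpen V := hV
  replace hxV : x ∈ V := hxV
  replace hVU : V ≤ f ⁻¹ᵁ U := hVU
  have hft := f.finiteType_appLE hU hV hVU
  algebraize [(f.appLE U V hVU).hom]
  let p := (hU.primeIdealOf ⟨f x, hVU hxV⟩).asIdeal
  let q := (hV.primeIdealOf ⟨x, hxV⟩).asIdeal
  have : q.LiesOver p :=
    ⟨congr($(IsAffineOpen.comap_primeIdealOf_appLE U hU V hV hVU hxV).1).symm⟩
  let := Localization.AtPrime.algebraOfLiesOver p q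
  haveI : Algebra.FormallyUnramified (Localization.AtPrime p) (Localization.AtPrime q) := by
    rw [← RingHom.formallyUnramified_algebraMap]
    exact (RingHom.FormallyUnramified.respectsIso.arrow_mk_iso_iff
      (IsAffineOpen.arrowStalkMapIso f U hU V hV hVU hxV)).mp hunr
  haveI : Algebra.IsUnramifiedAt Γ(Y, U) q := Algebra.FormallyUnramified.comp _ (Localization.AtPrime p) _
  obtain ⟨r, hrx, hr⟩ := Algebra.exists_unramified_of_isUnramifiedAt (R := Γ(Y, U)) q
  have hle : X.basicOpen r ≤ f ⁻¹ᵁ U := (X.basicOpen_le r).trans hVU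
  refine ⟨X.basicOpen r, ?_, ?_⟩
  · rwa [← PrimeSpectrum.mem_basicOpen, IsAffineOpen.primeIdealOf,
      ← hV.fromSpec_preimage_basicOpen, Scheme.Hom.mem_preimage, ← Scheme.Hom.comp_apply,
      IsAffineOpen.isoSpec_hom, IsAffineOpen.toSpecΓ_fromSpec] at hrx
  · have hr' : (algebraMap Γ(Y, U) (Localization.Away r)).FormallyUnramified :=
      RingHom.formallyUnramified_algebraMap.mpr inferInstance
    have H : (f.appLE U (X.basicOpen r) hle).hom.FormallyUnramified := by
      have := hV.isLocalization_basicOpen r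
      convert!
        RingHom.FormallyUnramified.respectsIso.1 _
          (IsLocalization.algEquiv (.powers r) _ Γ(X, X.basicOpen r)).toRingEquiv hr'
      ext
      dsimp
      simp only [IsScalarTower.algebraMap_apply Γ(Y, U) Γ(X, V) (Localization _),
        IsLocalization.map_eq]
      simp only [RingHom.algebraMap_toAlgebra, RingHomCompTriple.comp_apply,
        ← ConcreteCategory.comp_apply, Scheme.Hom.appLE_map]
    have : IsAffine (U : Scheme.{u}) := hU
    have : IsAffine (X.basicOpen r : Scheme.{u}) := hV.basicOpen r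
    have : FormallyUnramified (f.resLE U (X.basicOpen r) hle) := by
      rw [HasRingHomProperty.iff_of_isAffine (P := @FormallyUnramified)]
      exact (RingHom.FormallyUnramified.respectsIso.arrow_mk_iso_iff
        (arrowResLEAppIso f U (X.basicOpen r) hle)).mpr H
    rw [← Scheme.Hom.resLE_comp_ι f hle]
    exact MorphismProperty.comp_mem _ _ _ this inferInstance

theorem stalkMap_unram {X Y : Scheme.{u}} (f : X ⟶ Y) (x : X)
    (h : ∃ U : X.Opens, x ∈ U ∧ FormallyUnramified (U.ι ≫ f)) : (f.stalkMap x).hom.FormallyUnramified := by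
  obtain ⟨U, hxU, hU⟩ := h
  let z : U.toScheme := ⟨x, hxU⟩
  have h1 := FormallyUnramified.stalkMap (U.ι ≫ f) z
  rw [Scheme.Hom.stalkMap_comp] at h1
  exact (RingHom.FormallyUnramified.respectsIso.cancel_right_isIso (f.stalkMap (U.ι z)) (U.ι.stalkMap z)).mp h1

theorem descend {X Y S : Scheme.{u}} (f : Y ⟶ S) (g : X ⟶ Y) [LocallyOfFiniteType f] [LocallyOfFiniteType (g ≫ f)]
    (x : X) (hg : (g.stalkMap x).hom.Flat)
    (hh : ∃ U : X.Opens, x ∈ U ∧ FormallyUnramified (U.ι ≫ g ≫ f)) :
    (f.stalkMap (g x)).hom.FormallyUnramified := by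
  have hu := stalkMap_unram (g ≫ f) x hh
  have hess := LocallyOfFiniteType.stalkMap (g ≫ f) x
  rw [Scheme.Hom.stalkMap_comp] at hu hess
  algebraize [(f.stalkMap (g x)).hom, (g.stalkMap x).hom, (g.stalkMap x).hom.comp (f.stalkMap (g x)).hom]
  haveI : Module.Flat (Y.presheaf.stalk (g x)) (X.presheaf.stalk x) := hg
  haveI : IsLocalHom (algebraMap (Y.presheaf.stalk (g x)) (X.presheaf.stalk x)) := g.toLRSHom.prop x
  haveI : IsLocalHom (algebraMap (S.presheaf.stalk (f (g x))) (Y.presheaf.stalk (g x))) := f.toLRSHom.prop (g x)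
  haveI : IsLocalHom (algebraMap (S.presheaf.stalk (f (g x))) (X.presheaf.stalk x)) := by
    rw [IsScalarTower.algebraMap_eq _ (Y.presheaf.stalk (g x)) _]
    infer_instance
  haveI : Module.FaithfullyFlat (Y.presheaf.stalk (g x)) (X.presheaf.stalk x) :=
    Module.FaithfullyFlat.of_flat_of_isLocalHom
  haveI : Algebra.EssFiniteType (S.presheaf.stalk (f (g x))) (Y.presheaf.stalk (g x)) :=
    RingHom.essFiniteType_algebraMap.mp (LocallyOfFiniteType.stalkMap f (g x))
  haveI : Algebra.EssFiniteType (S.presheaf.stalk (f (g x))) (X.presheaf.stalk x) :=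
    RingHom.essFiniteType_algebraMap.mp hess
  haveI : Algebra.FormallyUnramified (S.presheaf.stalk (f (g x))) (X.presheaf.stalk x) :=
    RingHom.formallyUnramified_algebraMap.mp hu
  have := unram_descend (S.presheaf.stalk (f (g x))) (Y.presheaf.stalk (g x)) (X.presheaf.stalk x)
  exact RingHom.formallyUnramified_algebraMap.mpr this

theorem flat_descend {X Y S : Scheme.{u}} (f : Y ⟶ S) (g : X ⟶ Y)
    (x : X) (hg : (g.stalkMap x).hom.Flat) (hh : ((g ≫ f).stalkMap x).hom.Flat) :
    (f.stalkMap (g x)).hom.Flat := by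
  rw [Scheme.Hom.stalkMap_comp] at hh
  algebraize [(f.stalkMap (g x)).hom, (g.stalkMap x).hom, (g.stalkMap x).hom.comp (f.stalkMap (g x)).hom]
  haveI : Module.Flat (S.presheaf.stalk (f (g x))) (X.presheaf.stalk x) := hh
  haveI : Module.Flat (Y.presheaf.stalk (g x)) (X.presheaf.stalk x) := hg
  haveI : IsLocalHom (algebraMap (Y.presheaf.stalk (g x)) (X.presheaf.stalk x)) := g.toLRSHom.prop x
  haveI : Module.FaithfullyFlat (Y.presheaf.stalk (g x)) (X.presheaf.stalk x) := Module.FaithfullyFlat.of_flat_of_isLocalHom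
  exact H3SmoothBaseChange.flat_of_faithfullyFlat _ _ (X.presheaf.stalk x)

theorem flat_of_etale_nhd {X Y : Scheme.{u}} (f : X ⟶ Y) (x : X)
    (h : ∃ U : X.Opens, x ∈ U ∧ Etale (U.ι ≫ f)) : (f.stalkMap x).hom.Flat := by
  obtain ⟨U, hxU, hU⟩ := h
  let z : U.toScheme := ⟨x, hxU⟩
  have h1 := Flat.stalkMap (U.ι ≫ f) z
  rw [Scheme.Hom.stalkMap_comp] at h1
  exact (RingHom.Flat.respectsIso.cancel_right_isIso (f.stalkMap (U.ι z)) (U.ι.stalkMap z)).mp h1

theorem etale_iff_stalk {X Y : Scheme.{u}} (f : X ⟶ Y) [LocallyOfFinitePresentation f] (x : X) :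
    (∃ U : X.Opens, x ∈ U ∧ Etale (U.ι ≫ f)) ↔ ((f.stalkMap x).hom.Flat ∧
      (maximalIdeal (Y.presheaf.stalk (f x))).map (f.stalkMap x).hom = maximalIdeal (X.presheaf.stalk x) ∧
      letI := (f.residueFieldMap x).hom.toAlgebra
      Module.Finite (Y.residueField (f x)) (X.residueField x) ∧
        Algebra.IsSeparable (Y.residueField (f x)) (X.residueField x)) := by
  have hess := LocallyOfFiniteType.stalkMap f x
  algebraize [(f.stalkMap x).hom]
  haveI : IsLocalHom (algebraMap (Y.presheaf.stalk (f x)) (X.presheaf.stalk x)) := f.toLRSHom.prop x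
  haveI : Algebra.EssFiniteType (Y.presheaf.stalk (f x)) (X.presheaf.stalk x) :=
    RingHom.essFiniteType_algebraMap.mp hess
  have halg : (f.residueFieldMap x).hom.toAlgebra =
      (inferInstance : Algebra (ResidueField (Y.presheaf.stalk (f x))) (ResidueField (X.presheaf.stalk x))) := by
    refine Algebra.algebra_ext _ _ fun z => ?_
    obtain ⟨z, rfl⟩ := residue_surjective z
    rfl
  constructor
  · intro h
    have hu : (f.stalkMap x).hom.FormallyUnramified :=
      stalkMap_unram f x (h.imp fun U hU => ⟨hU.1, by haveI := hU.2; infer_instance⟩)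
    haveI : Algebra.FormallyUnramified (Y.presheaf.stalk (f x)) (X.presheaf.stalk x) :=
      RingHom.formallyUnramified_algebraMap.mp hu
    refine ⟨flat_of_etale_nhd f x h, Algebra.FormallyUnramified.map_maximalIdeal, ?_⟩
    dsimp only
    rw [halg]
    exact ⟨inferInstanceAs (Module.Finite (ResidueField (Y.presheaf.stalk (f x))) (ResidueField (X.presheaf.stalk x))),
      inferInstanceAs (Algebra.IsSeparable (ResidueField (Y.presheaf.stalk (f x))) (ResidueField (X.presheaf.stalk x)))⟩
  · rintro ⟨hfl, hmap, h3⟩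
    dsimp only at h3
    rw [halg] at h3
    haveI : Algebra.IsSeparable (ResidueField (Y.presheaf.stalk (f x))) (ResidueField (X.presheaf.stalk x)) := h3.2
    exact H8EtaleAt.exists_etale_nhd f x hfl
      (RingHom.formallyUnramified_algebraMap.mpr (Algebra.FormallyUnramified.of_map_maximalIdeal hmap))

end Groth.Agent.H3UnramPoint
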