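import Mathlib
import Groth.Agent.Lib.AlgSpLocalRows
import Groth.Agent.Lib.H3UnramPoint
import Groth.Agent.S0113
import Groth.Agent.S0115

/-! Descent along fppf coverings of the source, for schemes and algebraic spaces. -/

set_option autoImplicit false
set_option backward.isDefEq.respectTransparency.types false
universe u
open CategoryTheory CategoryTheory.Limits AlgebraicGeometry

namespace Groth.Agent.H3SourceFppf

theorem cancel_mono_lft {X Y Z : Scheme.{u}} (h : X ⟶ Y) (b : Y ⟶ Z) [Mono b]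
    [hc : LocallyOfFiniteType (h ≫ b)] : LocallyOfFiniteType h := by
  have h1 : IsPullback (𝟙 X) h h (𝟙 Y) := IsPullback.of_horiz_isIso ⟨by simp⟩
  have h2 : IsPullback (𝟙 Y) (𝟙 Y) b b := IsKernelPair.id_of_mono b
  have h3 := h1.paste_vert h2
  exact MorphismProperty.of_isPullback (P := @LocallyOfFiniteType) (by simpa using h3) hc

open CategoryTheory.Limits in
theorem affine_case_lft {X Y S : Scheme.{u}} [IsAffine Y] [IsAffine S] (f : X ⟶ Y) (q : Y ⟶ S) [Surjective f] [Flat f]
    [LocallyOfFinitePresentation f] [LocallyOfFiniteType (f ≫ q)] : LocallyOfFiniteType q := by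
  obtain ⟨t, ht⟩ := (isCompact_univ (X := Y)).elim_finite_subcover
    (fun W : X.affineOpens => f '' (W.1 : Set _))
    (fun W => f.isOpenMap _ W.1.2) (fun v _ => by
      obtain ⟨w, rfl⟩ := f.surjective v
      obtain ⟨W, hW, hwW, -⟩ := exists_isAffineOpen_mem_and_subset (X := X) (x := w) (U := ⊤) trivial
      exact Set.mem_iUnion.2 ⟨⟨W, hW⟩, w, hwW, rfl⟩)
  let W : (↑t : Set X.affineOpens) → Scheme.{u} := fun k => k.1.1
  have : ∀ k, IsAffine (W k) := fun k => k.1.2
  let d : (∐ W) ⟶ Y := Sigma.desc fun k => k.1.1.ι ≫ f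
  have hd : ∀ k, Sigma.ι W k ≫ d = k.1.1.ι ≫ f := Sigma.ι_desc _
  haveI : Flat d := (IsZariskiLocalAtSource.iff_of_openCover (P := @Flat) (sigmaOpenCover _)).2 fun k => by
    change Flat (Sigma.ι W k ≫ d)
    rw [hd]
    infer_instance
  haveI : LocallyOfFinitePresentation d :=
    (IsZariskiLocalAtSource.iff_of_openCover (P := @LocallyOfFinitePresentation) (sigmaOpenCover _)).2 fun k => by
    change LocallyOfFinitePresentation (Sigma.ι W k ≫ d)
    rw [hd]
    infer_instance
  haveI : LocallyOfFiniteType (d ≫ q) :=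
    (IsZariskiLocalAtSource.iff_of_openCover (P := @LocallyOfFiniteType) (sigmaOpenCover _)).2 fun k => by
    change LocallyOfFiniteType (Sigma.ι W k ≫ d ≫ q)
    rw [← Category.assoc, hd, Category.assoc]
    infer_instance
  haveI : Surjective d := ⟨fun v => by
    obtain ⟨k, hk, w, hw, rfl⟩ := Set.mem_iUnion₂.1 (ht (Set.mem_univ v))
    exact ⟨Sigma.ι W ⟨k, hk⟩ ⟨w, hw⟩, by rw [← Scheme.Hom.comp_apply, hd]; rfl⟩⟩
  have hff : d.appTop.hom.FaithfullyFlat := by
    rw [← flat_and_surjective_SpecMap_iff]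
    exact ⟨(MorphismProperty.arrow_mk_iso_iff (@Flat : MorphismProperty Scheme.{u})
        (arrowIsoSpecΓOfIsAffine d)).1 inferInstance,
      (MorphismProperty.arrow_mk_iso_iff (@Surjective : MorphismProperty Scheme.{u})
        (arrowIsoSpecΓOfIsAffine d)).1 inferInstance⟩
  have h1 : d.appTop.hom.FinitePresentation :=
    (HasRingHomProperty.iff_of_isAffine (P := @LocallyOfFinitePresentation)).mp inferInstance
  have h2 : (d ≫ q).appTop.hom.FiniteType :=
    (HasRingHomProperty.iff_of_isAffine (P := @LocallyOfFiniteType)).mp inferInstance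
  rw [Scheme.Hom.comp_appTop, CommRingCat.hom_comp] at h2
  rw [HasRingHomProperty.iff_of_isAffine (P := @LocallyOfFiniteType)]
  algebraize [q.appTop.hom, d.appTop.hom, d.appTop.hom.comp q.appTop.hom]
  exact Groth.Agent.S0113.result (B := Γ(∐ W, ⊤))

theorem lft_descend {X Y S : Scheme.{u}} (f : X ⟶ Y) (q : Y ⟶ S) [Surjective f] [Flat f]
    [LocallyOfFinitePresentation f] [LocallyOfFiniteType (f ≫ q)] : LocallyOfFiniteType q := by
  haveI : MorphismProperty.RespectsRight (@LocallyOfFiniteType) IsOpenImmersion :=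
    ⟨fun i (_ : IsOpenImmersion i) g hg => MorphismProperty.comp_mem _ g i hg inferInstance⟩
  refine IsZariskiLocalAtSource.iff_exists_resLE.mpr fun y => ?_
  obtain ⟨U, hU, hyU, -⟩ := exists_isAffineOpen_mem_and_subset (X := S) (x := q y) (U := ⊤) trivial
  obtain ⟨V, hV, hyV, hVU⟩ := exists_isAffineOpen_mem_and_subset (X := Y) (x := y) (U := q ⁻¹ᵁ U) hyU
  have hVU' : V ≤ q ⁻¹ᵁ U := hVU
  refine ⟨U, V, hyV, hVU', ?_⟩
  haveI : IsAffine (U : Scheme.{u}) := hU
  haveI : IsAffine (V : Scheme.{u}) := hV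
  haveI : LocallyOfFiniteType (((f ∣_ V) ≫ q.resLE U V hVU') ≫ U.ι) := by
    rw [Category.assoc, Scheme.Hom.resLE_comp_ι, morphismRestrict_ι_assoc]
    infer_instance
  haveI : LocallyOfFiniteType ((f ∣_ V) ≫ q.resLE U V hVU') := cancel_mono_lft _ U.ι
  haveI : Surjective (f ∣_ V) :=
    MorphismProperty.of_isPullback (P := @Surjective) (isPullback_morphismRestrict f V).flip inferInstance
  exact affine_case_lft (f ∣_ V) (q.resLE U V hVU')

theorem etale_descend {X Y S : Scheme.{u}} (f : X ⟶ Y) (q : Y ⟶ S) [Surjective f] [Flat f]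
    [LocallyOfFinitePresentation f] [Etale (f ≫ q)] : Etale q := by
  haveI : LocallyOfFinitePresentation q := Groth.Agent.S0114.result f q
  haveI : Smooth q := Groth.Agent.S0115.result f q
  haveI : FormallyUnramified q := by
    choose U hU using fun y => (H3UnramPoint.exists_unram_nhd q y (by
      obtain ⟨x, rfl⟩ := f.surjective y
      exact H3UnramPoint.descend q f x (Flat.stalkMap f x) ⟨⊤, trivial, inferInstance⟩))
    have hsup : iSup U = ⊤ := top_le_iff.mp fun y _ => TopologicalSpace.Opens.mem_iSup.mpr ⟨y, (hU y).1⟩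
    exact (IsZariskiLocalAtSource.iff_of_iSup_eq_top (P := @FormallyUnramified) U hsup).mpr fun y => (hU y).2
  exact Etale.of_formallyUnramified_of_flat q

variable {S : Scheme.{u}}

open AlgSp in
theorem locP_source {P : MorphismProperty Scheme.{u}} [IsZariskiLocalAtSource P]
    (hdesc : ∀ {A B C : Scheme.{u}} (d : A ⟶ B) (q : B ⟶ C) [Surjective d] [Flat d] [LocallyOfFinitePresentation d],
      P (d ≫ q) → P q)
    {ι : Type u} {X Y : Sp S} {Xi : ι → Sp S} {g : ∀ i, Xi i ⟶ X} {f : X ⟶ Y}
    (hX : IsAlgSpace X) (hXi : ∀ i, IsAlgSpace (Xi i)) (hfl : ∀ i, LocP @Flat (g i))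
    (hfp : ∀ i, LocP @LocallyOfFinitePresentation (g i))
    (hcov : ∀ x : Points X, ∃ i, x ∈ Set.range (Points.map (g i)))
    (h : ∀ i, LocP P (g i ≫ f)) : LocP P f := by
  intro U V a b α ha hb hab
  have key : ∀ u : ↥U.left, ∃ (W : Over S) (e : W ⟶ U), Flat e.left ∧ LocallyOfFinitePresentation e.left ∧
      P (e ≫ α).left ∧ u ∈ Set.range e.left := by
    intro u
    obtain ⟨i, y₀, hy₀⟩ := hcov (Points.map a (Points.schemeHomeo U u))
    have sq := IsPullback.of_hasPullback a (g i)
    obtain ⟨y, hy, -⟩ := ASp.exists_of_isPullback sq (Points.schemeHomeo U u) y₀ hy₀.symm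
    have hP := ASp.isAlgSpace_pullback a (g i) (IsAlgSpace.yon_obj U) (hXi i) hX
    obtain ⟨W, c, hce, hcs⟩ := hP.atlas
    obtain ⟨w, rfl⟩ := ASp.surjective_ofPt_of_repWith hcs y
    obtain ⟨e, he⟩ := (yon S).map_surjective (c ≫ pullback.fst a (g i))
    refine ⟨W, e, ?_, ?_, ?_, w, ?_⟩
    · exact ASp.locP_baseChange (hXi i) hX (IsAlgSpace.yon_obj U) sq.flip (hfl i) c (𝟙 _) e hce
        (repWith_id _ U) (by rw [he, Category.comp_id])
    · exact ASp.locP_baseChange (hXi i) hX (IsAlgSpace.yon_obj U) sq.flip (hfp i) c (𝟙 _) e hce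
        (repWith_id _ U) (by rw [he, Category.comp_id])
    · refine h i (c ≫ pullback.snd a (g i)) b _ (ASp.repWith_comp hce (ASp.repWith_baseChange sq ha)) hb ?_
      rw [Functor.map_comp, he, Category.assoc, Category.assoc, Category.assoc, ← hab,
        pullback.condition_assoc]
    · apply (Points.schemeHomeo U).injective
      rw [← hy, ← Points.map_yon_map_apply, he, Points.map_comp]
      congr 1
  choose W e he hl hP hu using key
  let d : (∐ fun u => (W u).left) ⟶ U.left := Sigma.desc fun u => (e u).left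
  have hd : ∀ u, Sigma.ι (fun u => (W u).left) u ≫ d = (e u).left := Sigma.ι_desc _
  haveI : Flat d := (IsZariskiLocalAtSource.iff_of_openCover (P := @Flat) (sigmaOpenCover _)).2 fun u => by
    change Flat (Sigma.ι (fun u => (W u).left) u ≫ d)
    rw [hd]
    exact he u
  haveI : LocallyOfFinitePresentation d :=
    (IsZariskiLocalAtSource.iff_of_openCover (P := @LocallyOfFinitePresentation) (sigmaOpenCover _)).2 fun u => by
    change LocallyOfFinitePresentation (Sigma.ι (fun u => (W u).left) u ≫ d)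
    rw [hd]
    exact hl u
  haveI : Surjective d := ⟨fun u => by
    obtain ⟨w, hw⟩ := hu u
    exact ⟨Sigma.ι (fun u => (W u).left) u w, by rw [← Scheme.Hom.comp_apply, hd, hw]⟩⟩
  refine hdesc d α.left ((IsZariskiLocalAtSource.iff_of_openCover (P := P) (sigmaOpenCover _)).2 fun u => ?_)
  change P (Sigma.ι (fun u => (W u).left) u ≫ d ≫ α.left)
  rw [← Category.assoc, hd, ← Over.comp_left]
  exact hP u

end Groth.Agent.H3SourceFppf
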