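import Mathlib
import Groth.Prelude.Def_AnPts

/-!
Basic facts about ℂ-points of schemes locally of finite type over ℂ and their topology.
-/

set_option autoImplicit false

open AlgebraicGeometry CategoryTheory TopologicalSpace Topology Opposite

namespace Groth.Agent.H4AnPts

open An

variable {X Y : Scheme.{0}} [X.Over SC] [Y.Over SC]

lemma closedPoint_eq : (IsLocalRing.closedPoint ℂ : ↥SC) = cpt := eq_cpt _

lemma isClosed_pt [LocallyOfFiniteType (X ↘ SC)] (x : Pts X) : IsClosed {x.pt} := by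
  have h := (pointEquivClosedPoint (X ↘ SC) x).2
  rw [mem_closedPoints_iff] at h
  simp only [pointEquivClosedPoint_apply_coe, closedPoint_eq] at h
  exact h

lemma pt_injective [LocallyOfFiniteType (X ↘ SC)] : Function.Injective (Pts.pt : Pts X → X) := by
  intro a b h
  exact Subtype.ext (ext_of_apply_closedPoint_eq (X ↘ SC) a.2 b.2 (by rw [closedPoint_eq]; exact h))

lemma exists_pt [LocallyOfFiniteType (X ↘ SC)] {x : X} (hx : IsClosed {x}) :
    ∃ a : Pts X, a.pt = x :=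
  ⟨⟨pointOfClosedPoint (X ↘ SC) x hx, pointOfClosedPoint_comp _ x hx⟩,
    pointOfClosedPoint_apply (X ↘ SC) x hx _⟩

lemma jacobson [LocallyOfFiniteType (X ↘ SC)] : JacobsonSpace X :=
  LocallyOfFiniteType.jacobsonSpace (X ↘ SC)

lemma exists_pt_mem [LocallyOfFiniteType (X ↘ SC)] {Z : Set X} (hne : Z.Nonempty)
    (hZ : IsLocallyClosed Z) : ∃ a : Pts X, a.pt ∈ Z := by
  have := jacobson (X := X)
  obtain ⟨x, hx, hx'⟩ := nonempty_inter_closedPoints hne hZ
  obtain ⟨a, rfl⟩ := exists_pt (X := X) hx'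
  exact ⟨a, hx⟩

lemma exists_pt_mem_inter [LocallyOfFiniteType (X ↘ SC)] {T : Set X}
    (hT : IsLocallyConstructible T) {C : Set X} (hC : IsClosed C) (hne : (T ∩ C).Nonempty) :
    ∃ a : Pts X, a.pt ∈ T ∩ C := by
  obtain ⟨x, hx, hxC⟩ := hne
  obtain ⟨U, hU, hUo, hUc⟩ := hT x
  have hxU : x ∈ U := mem_of_mem_nhds hU
  have key : ∀ S : Set U, IsConstructible S → (S ∩ Subtype.val ⁻¹' C).Nonempty →
      ∃ Z, Z ⊆ S ∩ Subtype.val ⁻¹' C ∧ Z.Nonempty ∧ IsLocallyClosed Z := by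
    intro S hS
    induction S, hS using BooleanSubalgebra.closure_sdiff_sup_induction with
    | isSublattice =>
      exact ⟨fun s hs t ht ↦ ⟨hs.1.union ht.1, hs.2.union ht.2⟩,
        fun s hs t ht ↦ ⟨hs.1.inter ht.1, hs.2.inter_isOpen ht.2 ht.1⟩⟩
    | bot_mem => exact ⟨isOpen_empty, .empty⟩
    | top_mem => exact ⟨isOpen_univ, .univ⟩
    | sdiff V hV W hW =>
      exact fun h => ⟨_, le_rfl, h, (hV.1.isLocallyClosed.inter hW.1.isClosed_compl.isLocallyClosed).inter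
        (hC.preimage continuous_subtype_val).isLocallyClosed⟩
    | sup s _ t _ ihs iht =>
      intro hne
      rw [show s ⊔ t = s ∪ t from rfl, Set.union_inter_distrib_right] at hne ⊢
      rcases Set.union_nonempty.mp hne with h | h
      · obtain ⟨Z, h1, h2⟩ := ihs h
        exact ⟨Z, h1.trans Set.subset_union_left, h2⟩
      · obtain ⟨Z, h1, h2⟩ := iht h
        exact ⟨Z, h1.trans Set.subset_union_right, h2⟩
  obtain ⟨Z, hZ, hZne, hZl⟩ := key _ hUc ⟨⟨x, hxU⟩, hx, hxC⟩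
  obtain ⟨a, z, hz, hza⟩ := exists_pt_mem (X := X) (hZne.image Subtype.val)
    (hZl.image hUo.isOpenEmbedding_subtypeVal.isInducing
      (by simpa using hUo.isLocallyClosed))
  exact ⟨a, hza ▸ hZ hz⟩

lemma nonempty_inter_closedPoints_constructible [LocallyOfFiniteType (X ↘ SC)] {T : Set X}
    (hT : IsLocallyConstructible T) (hne : T.Nonempty) : ∃ a : Pts X, a.pt ∈ T := by
  obtain ⟨a, ha, -⟩ := exists_pt_mem_inter (X := X) hT isClosed_univ (by simpa using hne)
  exact ⟨a, ha⟩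

lemma range_map [LocallyOfFiniteType (X ↘ SC)] [LocallyOfFiniteType (Y ↘ SC)] (f : X ⟶ Y)
    [f.IsOver SC] : Set.range (Pts.map f) = Pts.pt ⁻¹' Set.range f := by
  ext b
  constructor
  · rintro ⟨a, rfl⟩
    exact ⟨a.pt, (Pts.pt_map f a).symm⟩
  · rintro ⟨x, hx⟩
    obtain ⟨a, ha⟩ := exists_pt_mem (Z := f ⁻¹' {b.pt}) ⟨x, hx⟩
      ((isClosed_pt b).preimage f.continuous).isLocallyClosed
    exact ⟨a, pt_injective (by rw [Pts.pt_map]; exact ha)⟩

lemma ev_map_res (a : Pts X) {U V : X.Opens} (i : V ≤ U) (h : a.pt ∈ V) (s : Γ(X, U)) :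
    a.ev V h (X.presheaf.map (homOfLE i).op s) = a.ev U (i h) s := by
  unfold Pts.ev
  rw [← CommRingCat.comp_apply (X.presheaf.map (homOfLE i).op), Scheme.Hom.map_appLE]

lemma isInducing_map (f : X ⟶ Y) [f.IsOver SC] [IsPreimmersion f] :
    IsInducing (Pts.map f) := by
  refine ⟨le_antisymm (Pts.continuous_map f).le_induced ?_⟩
  refine TopologicalSpace.le_generateFrom_iff_subset_isOpen.mpr ?_
  rintro _ ⟨U, s, V, hV, rfl⟩
  rw [Set.mem_ofPred_eq, @isOpen_iff_forall_mem_open]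
  rintro a ⟨ha, hav⟩
  obtain ⟨t, ht⟩ := f.stalkMap_surjective a.pt (X.presheaf.germ U a.pt ha s)
  obtain ⟨W, hW, w, rfl⟩ := Y.presheaf.exists_germ_eq t
  rw [Scheme.Hom.germ_stalkMap_apply] at ht
  obtain ⟨U', hU', i1, i2, he⟩ := X.presheaf.germ_eq a.pt hW ha _ _ ht
  obtain ⟨W', hW'o, hW'⟩ := f.isEmbedding.isInducing.isOpen_iff.mp U'.2
  refine ⟨Pts.map f ⁻¹' Pts.basicSet (W ⊓ ⟨W', hW'o⟩) (Y.presheaf.map (homOfLE inf_le_left).op w) V,
    ?_, ?_, ?_⟩
  · rintro b ⟨hb, hbv⟩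
    have hbf : f b.pt ∈ W ∧ f b.pt ∈ W' := by
      rw [Pts.pt_map] at hb; exact hb
    have hbU' : b.pt ∈ U' := by
      have := hbf.2
      rw [← Set.mem_preimage, hW'] at this
      exact this
    refine ⟨i2.le hbU', ?_⟩
    rw [← ev_map_res b i2.le hbU' s]
    rw [ev_map_res _ inf_le_left hb w, Pts.ev_map, ← ev_map_res b i1.le hbU' (f.app W w)] at hbv
    rwa [show (homOfLE i1.le) = i1 from rfl, he] at hbv
  · exact isOpen_induced (Pts.isOpen_basicSet _ _ hV)
  · have haW' : f a.pt ∈ W' := by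
      have : a.pt ∈ (U' : Set X) := hU'
      have h2 : a.pt ∈ ⇑f ⁻¹' W' := by rw [hW']; exact this
      exact h2
    have hb : (Pts.map f a).pt ∈ W ⊓ (⟨W', hW'o⟩ : Y.Opens) := by
      rw [Pts.pt_map]; exact ⟨hW, haW'⟩
    refine ⟨hb, ?_⟩
    rw [ev_map_res _ inf_le_left hb w, Pts.ev_map, ← ev_map_res a i1.le hU' (f.app W w)]
    rw [show (homOfLE i1.le) = i1 from rfl, he]
    rw [show i2 = homOfLE i2.le from rfl, ev_map_res a i2.le hU' s]
    exact hav

lemma map_injective_of_mono (f : X ⟶ Y) [f.IsOver SC] [Mono f] :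
    Function.Injective (Pts.map f) := fun a b h =>
  Subtype.ext ((cancel_mono f).mp (congrArg Subtype.val h))

lemma isEmbedding_map (f : X ⟶ Y) [f.IsOver SC] [IsPreimmersion f] [Mono f] :
    IsEmbedding (Pts.map f) :=
  ⟨isInducing_map f, map_injective_of_mono f⟩

end Groth.Agent.H4AnPts
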