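import Mathlib
import Groth.Prelude.Def_AnPts
import Groth.Agent.Lib.H4AnPts

/-!
ℂ-points of an affine scheme as a closed subset of ℂⁿ.
-/

set_option autoImplicit false

open AlgebraicGeometry CategoryTheory TopologicalSpace Topology Opposite

namespace Groth.Agent.H4AnAffine

open An H4AnPts

variable {X : Scheme.{0}} [X.Over SC]

/-- evaluation as a ring homomorphism -/
noncomputable def evHom (a : Pts X) (U : X.Opens) (h : a.pt ∈ U) : Γ(X, U) →+* ℂ :=
  (Scheme.ΓSpecIso (CommRingCat.of ℂ)).hom.hom.comp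
    (a.1.appLE U ⊤ (Pts.top_le_preimage a h)).hom

lemma evHom_apply (a : Pts X) (U : X.Opens) (h : a.pt ∈ U) (s : Γ(X, U)) :
    evHom a U h s = a.ev U h s := rfl

/-- evaluation of global sections -/
noncomputable def evTopHom (a : Pts X) : Γ(X, ⊤) →+* ℂ := evHom a ⊤ (Opens.mem_top _)

lemma evTopHom_apply (a : Pts X) (s : Γ(X, ⊤)) : evTopHom a s = a.evTop s := rfl

lemma appLE_top (a : Pts X) : a.1.appLE ⊤ ⊤ (Pts.top_le_preimage a (Opens.mem_top _)) = a.1.appTop := by
  simp [Scheme.Hom.appLE]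

lemma evTopHom_eq (a : Pts X) :
    evTopHom a = (Scheme.ΓSpecIso (CommRingCat.of ℂ)).hom.hom.comp a.1.appTop.hom := by
  rw [evTopHom, evHom, appLE_top]

lemma evTopHom_strHom (a : Pts X) (c : ℂ) : evTopHom a (strHom X c) = c := by
  rw [evTopHom_eq]
  have h := congrArg Scheme.Hom.appTop a.2
  rw [Scheme.Hom.comp_appTop, Scheme.Hom.id_appTop] at h
  have h' := congrArg (fun φ => φ ((Scheme.ΓSpecIso (CommRingCat.of ℂ)).inv c)) h
  simp only [CommRingCat.comp_apply, CommRingCat.id_apply] at h'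
  show (Scheme.ΓSpecIso (CommRingCat.of ℂ)).hom (a.1.appTop ((X ↘ SC).appTop
    ((Scheme.ΓSpecIso (CommRingCat.of ℂ)).inv c))) = c
  rw [h']
  exact ((Scheme.ΓSpecIso (CommRingCat.of ℂ)).inv_hom_id_apply c)

lemma evTopHom_eval₂ {n : ℕ} (s : Fin n → Γ(X, ⊤)) (a : Pts X) (p : MvPolynomial (Fin n) ℂ) :
    evTopHom a (MvPolynomial.eval₂Hom (strHom X) s p) =
      MvPolynomial.eval (fun i => a.evTop (s i)) p := by
  have h : (evTopHom a).comp (MvPolynomial.eval₂Hom (strHom X) s) =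
      MvPolynomial.eval (fun i => a.evTop (s i)) := by
    apply MvPolynomial.ringHom_ext
    · intro c; simp [evTopHom_strHom]
    · intro i; simp [evTopHom_apply]
  exact RingHom.congr_fun h p

lemma mem_basicOpen_iff (a : Pts X) (g : Γ(X, ⊤)) : a.pt ∈ X.basicOpen g ↔ evTopHom a g ≠ 0 := by
  have h1 : a.pt ∈ X.basicOpen g ↔ cpt ∈ SC.basicOpen (a.1.appTop g) := by
    rw [← Scheme.preimage_basicOpen_top]; rfl
  rw [h1, Scheme.mem_basicOpen_top, evTopHom_eq]
  constructor
  · intro h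
    by_contra h0
    have h0' : (Scheme.ΓSpecIso (CommRingCat.of ℂ)).hom (a.1.appTop g) = 0 := h0
    have : a.1.appTop g = 0 := by
      rw [← (Scheme.ΓSpecIso (CommRingCat.of ℂ)).hom_inv_id_apply (a.1.appTop g), h0', map_zero]
    rw [this, map_zero] at h
    exact not_isUnit_zero h
  · intro h
    have hu : IsUnit ((Scheme.ΓSpecIso (CommRingCat.of ℂ)).hom (a.1.appTop g)) := IsUnit.mk0 _ h
    have := hu.map (Scheme.ΓSpecIso (CommRingCat.of ℂ)).inv.hom
    rw [Iso.hom_inv_id_apply] at this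
    exact this.map _

lemma pts_ext [IsAffine X] {a b : Pts X} (h : evTopHom a = evTopHom b) : a = b := by
  refine Subtype.ext (ext_of_isAffine ?_)
  rw [evTopHom_eq, evTopHom_eq] at h
  rw [← cancel_mono (Scheme.ΓSpecIso (CommRingCat.of ℂ)).hom]
  exact CommRingCat.hom_ext h

lemma exists_pts [IsAffine X] (φ : Γ(X, ⊤) →+* ℂ) (hφ : φ.comp (strHom X) = RingHom.id ℂ) :
    ∃ a : Pts X, evTopHom a = φ := by
  let x : SC ⟶ X := Spec.map (CommRingCat.ofHom φ) ≫ X.isoSpec.inv
  have hx : x.appTop ≫ (Scheme.ΓSpecIso (CommRingCat.of ℂ)).hom = CommRingCat.ofHom φ := by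
    have h1 : X.isoSpec.inv.appTop ≫ (Scheme.ΓSpecIso Γ(X, ⊤)).hom = 𝟙 _ := by
      have h := congrArg Scheme.Hom.appTop X.isoSpec.hom_inv_id
      rw [Scheme.Hom.comp_appTop, Scheme.Hom.id_appTop, Scheme.isoSpec_hom,
        Scheme.toSpecΓ_appTop] at h
      exact h
    simp only [x, Scheme.Hom.comp_appTop, Category.assoc, Scheme.ΓSpecIso_naturality]
    exact (reassoc_of% h1) (CommRingCat.ofHom φ)
  have h2 : x ≫ (X ↘ SC) = 𝟙 SC := by
    refine ext_of_isAffine ?_
    rw [← cancel_mono (Scheme.ΓSpecIso (CommRingCat.of ℂ)).hom, Scheme.Hom.comp_appTop,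
      Category.assoc, hx, Scheme.Hom.id_appTop, Category.id_comp,
      ← cancel_epi (Scheme.ΓSpecIso (CommRingCat.of ℂ)).inv]
    refine CommRingCat.hom_ext ?_
    rw [Iso.inv_hom_id]
    exact hφ
  refine ⟨⟨x, h2⟩, ?_⟩
  rw [evTopHom_eq]
  exact congrArg CommRingCat.Hom.hom hx

lemma isInducing_gens [IsAffine X] {n : ℕ} (s : Fin n → Γ(X, ⊤))
    (hs : Function.Surjective (MvPolynomial.eval₂Hom (strHom X) s)) :
    IsInducing (fun (a : Pts X) (i : Fin n) => a.evTop (s i)) := by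
  have hc : Continuous (fun (a : Pts X) (i : Fin n) => a.evTop (s i)) := by
    refine continuous_pi fun i => continuous_def.2 fun V hV => ?_
    convert Pts.isOpen_basicSet ⊤ (s i) hV using 1
    ext a
    exact ⟨fun h => ⟨Opens.mem_top _, h⟩, fun ⟨_, h⟩ => h⟩
  refine ⟨le_antisymm hc.le_induced ?_⟩
  refine TopologicalSpace.le_generateFrom_iff_subset_isOpen.mpr ?_
  rintro _ ⟨U, f, V, hV, rfl⟩
  rw [Set.mem_ofPred_eq, @isOpen_iff_forall_mem_open]
  rintro a ⟨ha, hav⟩
  obtain ⟨g, hg, hag⟩ := (isAffineOpen_top X).exists_basicOpen_le (V := U) ⟨a.pt, ha⟩ trivial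
  have := (isAffineOpen_top X).isLocalization_basicOpen g
  obtain ⟨⟨f0, ⟨_, m, rfl⟩⟩, hf⟩ := IsLocalization.surj (Submonoid.powers g)
    (X.presheaf.map (homOfLE hg).op f)
  obtain ⟨P, hP⟩ := hs g
  obtain ⟨Q, hQ⟩ := hs f0
  have key : ∀ (b : Pts X) (hb : b.pt ∈ X.basicOpen g),
      b.ev U (hg hb) f * evTopHom b g ^ m = evTopHom b f0 := by
    intro b hb
    have h := congrArg (evHom b (X.basicOpen g) hb) hf
    rw [map_mul] at h
    simp only [RingHom.algebraMap_toAlgebra] at h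
    have e : ∀ t : Γ(X, ⊤), evHom b (X.basicOpen g) hb
        (X.presheaf.map (homOfLE le_top).op t) = evTopHom b t :=
      fun t => ev_map_res b le_top hb t
    have e1 : evHom b (X.basicOpen g) hb (X.presheaf.map (homOfLE hg).op f) = b.ev U (hg hb) f :=
      ev_map_res b hg hb f
    rw [e1] at h
    rw [← map_pow, ← e (g ^ m), ← e f0]
    exact h
  refine ⟨(fun (b : Pts X) (i : Fin n) => b.evTop (s i)) ⁻¹'
      {z | MvPolynomial.eval z P ≠ 0 ∧ MvPolynomial.eval z Q / MvPolynomial.eval z P ^ m ∈ V},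
    ?_, ?_, ?_⟩
  · rintro b ⟨hb1, hb2⟩
    rw [← evTopHom_eval₂ s b P, hP] at hb1 hb2
    rw [← evTopHom_eval₂ s b Q, hQ] at hb2
    have hb := (mem_basicOpen_iff b g).2 hb1
    refine ⟨hg hb, ?_⟩
    rw [← key b hb, mul_div_cancel_right₀ _ (pow_ne_zero _ hb1)] at hb2
    exact hb2
  · refine isOpen_induced ?_
    have hop : IsOpen {z : Fin n → ℂ | MvPolynomial.eval z P ≠ 0} :=
      isOpen_ne_fun (MvPolynomial.continuous_eval P) continuous_const
    exact ContinuousOn.isOpen_inter_preimage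
      ((MvPolynomial.continuous_eval Q).continuousOn.div
        ((MvPolynomial.continuous_eval P).pow m).continuousOn (fun z hz => pow_ne_zero _ hz)) hop hV
  · have hb1 := (mem_basicOpen_iff a g).1 hag
    refine ⟨?_, ?_⟩
    · rw [← evTopHom_eval₂ s a P, hP]; exact hb1
    · rw [← evTopHom_eval₂ s a P, hP, ← evTopHom_eval₂ s a Q, hQ, ← key a hag,
        mul_div_cancel_right₀ _ (pow_ne_zero _ hb1)]
      exact hav

lemma range_gens [IsAffine X] {n : ℕ} (s : Fin n → Γ(X, ⊤))
    (hs : Function.Surjective (MvPolynomial.eval₂Hom (strHom X) s)) :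
    Set.range (fun (a : Pts X) (i : Fin n) => a.evTop (s i)) =
      ⋂ p ∈ RingHom.ker (MvPolynomial.eval₂Hom (strHom X) s),
        {z : Fin n → ℂ | MvPolynomial.eval z p = 0} := by
  ext z
  simp only [Set.mem_range, Set.mem_iInter, Set.mem_ofPred_eq]
  constructor
  · rintro ⟨a, rfl⟩ p hp
    rw [← evTopHom_eval₂ s a p, RingHom.mem_ker.mp hp, map_zero]
  · intro hz
    let F := MvPolynomial.eval₂Hom (strHom X) s
    let φ := RingHom.liftOfSurjective F hs ⟨MvPolynomial.eval z, fun p hp => hz p hp⟩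
    have hφ : ∀ p, φ (F p) = MvPolynomial.eval z p := fun p =>
      RingHom.liftOfRightInverse_comp_apply F _ _ ⟨MvPolynomial.eval z, fun p hp => hz p hp⟩ p
    obtain ⟨a, ha⟩ := exists_pts φ (RingHom.ext fun c => by
      have := hφ (MvPolynomial.C c); simpa [F] using this)
    refine ⟨a, funext fun i => ?_⟩
    have := hφ (MvPolynomial.X i)
    rw [← ha] at this
    simpa [F, evTopHom_apply] using this

lemma injective_gens [IsAffine X] {n : ℕ} (s : Fin n → Γ(X, ⊤))
    (hs : Function.Surjective (MvPolynomial.eval₂Hom (strHom X) s)) :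
    Function.Injective (fun (a : Pts X) (i : Fin n) => a.evTop (s i)) := by
  intro a b h
  refine pts_ext (RingHom.ext fun t => ?_)
  obtain ⟨p, rfl⟩ := hs t
  rw [evTopHom_eval₂, evTopHom_eval₂]
  exact congrArg (fun z => MvPolynomial.eval z p) h

lemma isClosedEmbedding_gens [IsAffine X] {n : ℕ} (s : Fin n → Γ(X, ⊤))
    (hs : Function.Surjective (MvPolynomial.eval₂Hom (strHom X) s)) :
    IsClosedEmbedding (fun (a : Pts X) (i : Fin n) => a.evTop (s i)) := by
  refine ⟨⟨isInducing_gens s hs, injective_gens s hs⟩, ?_⟩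
  rw [range_gens s hs]
  exact isClosed_biInter fun p _ => isClosed_eq (MvPolynomial.continuous_eval p) continuous_const

lemma exists_gens [IsAffine X] [LocallyOfFiniteType (X ↘ SC)] :
    ∃ (n : ℕ) (s : Fin n → Γ(X, ⊤)), Function.Surjective (MvPolynomial.eval₂Hom (strHom X) s) := by
  have h : (X ↘ SC).appTop.hom.FiniteType := by
    exact (HasRingHomProperty.iff_of_isAffine (P := @LocallyOfFiniteType)).mp inferInstance
  have h2 : (strHom X).FiniteType :=
    h.comp (RingHom.FiniteType.of_surjective _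
      (ConcreteCategory.bijective_of_isIso (Scheme.ΓSpecIso (CommRingCat.of ℂ)).inv).2)
  algebraize [strHom X]
  obtain ⟨n, f, hf⟩ := Algebra.FiniteType.iff_quotient_mvPolynomial''.mp
    (inferInstance : Algebra.FiniteType ℂ Γ(X, ⊤))
  refine ⟨n, fun i => f (MvPolynomial.X i), fun t => ?_⟩
  obtain ⟨p, rfl⟩ := hf t
  refine ⟨p, ?_⟩
  have : MvPolynomial.eval₂Hom (strHom X) (fun i => f (MvPolynomial.X i)) = f.toRingHom :=
    MvPolynomial.ringHom_ext (fun c => by simp [RingHom.algebraMap_toAlgebra]) (fun i => by simp)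
  exact RingHom.congr_fun this p

end Groth.Agent.H4AnAffine
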