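import Mathlib
import Groth.Prelude.Def_AnCl

/-! The opens of T form a dense subsite of the classical site. -/

set_option autoImplicit false

universe u

open CategoryTheory TopologicalSpace Topology Opposite

namespace Groth.Agent.H4AnCl

open An

variable (T : Type u) [TopologicalSpace T]

instance : (opensToCl T).Full where
  map_surjective {U V} f := by
    have h : U ≤ V := fun x hx => by
      have := f.over ⟨x, hx⟩
      rw [show x = (f.toFun ⟨x, hx⟩).1 from this.symm]
      exact (f.toFun ⟨x, hx⟩).2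
    exact ⟨homOfLE h, Cl.hom_ext (funext fun a => Subtype.ext (f.over a).symm)⟩

instance : (opensToCl T).Faithful where
  map_injective _ := Subsingleton.elim _ _

/-- a chart of an object -/
lemma exists_chart (A : Cl T) (a : A.E) : ∃ (U : Opens T) (g : (opensToCl T).obj U ⟶ A),
    IsOpenEmbedding g.toFun ∧ a ∈ Set.range g.toFun := by
  obtain ⟨e, hae, he⟩ := A.lh a
  let U : Opens T := ⟨e.target, e.open_target⟩
  have hp : ∀ u : U, A.p (e.symm u.1) = u.1 := fun u => by
    rw [he, e.right_inv u.2]
  let g : (opensToCl T).obj U ⟶ A :=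
    ⟨fun u => e.symm u.1, e.continuousOn_symm.comp_continuous continuous_subtype_val fun u => u.2, hp⟩
  refine ⟨U, g, ?_, ⟨⟨e a, e.map_source hae⟩, e.left_inv hae⟩⟩
  exact e.symm.isOpenEmbedding_restrict

lemma isCoverDense : (opensToCl T).IsCoverDense (Cl.topology T) := by
  refine ⟨fun A a => ?_⟩
  obtain ⟨U, g, hg, ha⟩ := exists_chart T A a
  exact ⟨_, g, ⟨⟨U, 𝟙 _, g, Category.id_comp g⟩⟩, hg, ha⟩

instance isDenseSubsite :
    (opensToCl T).IsDenseSubsite (Opens.grothendieckTopology T) (Cl.topology T) where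
  isCoverDense' := isCoverDense T
  functorPushforward_mem_iff {U S} := by
    constructor
    · intro h x hx
      obtain ⟨B, g, ⟨V, i, k, hi, hk⟩, -, b, hb⟩ := h ⟨x, hx⟩
      refine ⟨V, i, hi, ?_⟩
      rw [hk] at hb
      have h1 : (k.toFun b).1 = x := congrArg Subtype.val hb
      rw [← h1]
      exact (k.toFun b).2
    · intro h ⟨x, hx⟩
      obtain ⟨V, i, hi, hxV⟩ := h x hx
      refine ⟨_, (opensToCl T).map i, ⟨V, i, 𝟙 _, hi, (Category.id_comp _).symm⟩, ?_, ⟨x, hxV⟩, rfl⟩
      exact (IsOpenEmbedding.of_comp (Set.inclusion i.le) U.2.isOpenEmbedding_subtypeVal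
        V.2.isOpenEmbedding_subtypeVal)

end Groth.Agent.H4AnCl
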