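import Mathlib

/-!
In the ℂ-points of a finitely generated ℂ-domain, a non-empty Zariski open is dense for the
complex topology.  Elementary proof via Noether normalisation and continuity of roots.
-/

set_option autoImplicit false

open Filter Topology Polynomial

namespace Groth.Agent.H4AnDense

/-- a monic complex polynomial has a root `t` with `‖t‖ ^ deg ≤ ‖c₀‖` -/
lemma exists_small_root {P : ℂ[X]} (hP : P.Monic) (hd : 0 < P.natDegree) :
    ∃ t, P.IsRoot t ∧ ‖t‖ ^ P.natDegree ≤ ‖P.coeff 0‖ := by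
  have hs : P.Splits := IsAlgClosed.splits P
  have hc := hs.coeff_zero_eq_prod_roots_of_monic hP
  have hcard : P.roots.card = P.natDegree := (hs.natDegree_eq_card_roots).symm
  have hne : P.roots.toFinset.Nonempty := by
    rw [Multiset.toFinset_nonempty]
    intro h; rw [h, Multiset.card_zero] at hcard; omega
  obtain ⟨t, ht, hmin⟩ := P.roots.toFinset.exists_min_image (fun z => ‖z‖) hne
  refine ⟨t, (mem_roots hP.ne_zero).mp (Multiset.mem_toFinset.mp ht), ?_⟩
  rw [hc, norm_mul, norm_pow, norm_neg, norm_one, one_pow, one_mul, ← hcard]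
  have key : ∀ m : Multiset ℂ, (∀ z ∈ m, ‖t‖ ≤ ‖z‖) → ‖t‖ ^ m.card ≤ ‖m.prod‖ := by
    intro m
    induction m using Multiset.induction_on with
    | empty => simp
    | cons a m ih =>
      intro h
      rw [Multiset.card_cons, Multiset.prod_cons, norm_mul, pow_succ, mul_comm]
      exact mul_le_mul (h a (Multiset.mem_cons_self a m))
        (ih fun z hz => h z (Multiset.mem_cons_of_mem hz)) (by positivity) (norm_nonneg a)
  exact key _ fun z hz => hmin z (Multiset.mem_toFinset.mpr hz)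

/-- a root of a monic polynomial is bounded by the coefficients -/
lemma norm_root_le {P : ℂ[X]} (hP : P.Monic) {t : ℂ} (ht : P.IsRoot t) :
    ‖t‖ ≤ 1 + ∑ i ∈ Finset.range P.natDegree, ‖P.coeff i‖ := by
  by_contra hc
  push_neg at hc
  have hS : 0 ≤ ∑ i ∈ Finset.range P.natDegree, ‖P.coeff i‖ := by positivity
  have h1 : 1 < ‖t‖ := by linarith
  have he : P.eval t = 0 := ht
  rw [eval_eq_sum_range, Finset.sum_range_succ, hP.coeff_natDegree, one_mul] at he
  have h2 : ‖t‖ ^ P.natDegree ≤ ∑ i ∈ Finset.range P.natDegree, ‖P.coeff i‖ * ‖t‖ ^ i := by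
    rw [← norm_pow, eq_neg_of_add_eq_zero_right he, norm_neg]
    refine (norm_sum_le _ _).trans_eq ?_
    simp [norm_mul, norm_pow]
  rcases Nat.eq_zero_or_pos P.natDegree with h0 | h0
  · simp [h0] at h2; linarith
  obtain ⟨k, hk⟩ : ∃ k, P.natDegree = k + 1 := ⟨P.natDegree - 1, by omega⟩
  have h3 : ‖t‖ ^ P.natDegree ≤ (∑ i ∈ Finset.range P.natDegree, ‖P.coeff i‖) * ‖t‖ ^ k := by
    refine h2.trans ?_
    rw [Finset.sum_mul]
    refine Finset.sum_le_sum fun i hi => ?_
    rw [Finset.mem_range] at hi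
    exact mul_le_mul_of_nonneg_left (pow_le_pow_right₀ h1.le (by omega)) (norm_nonneg _)
  rw [hk, pow_succ'] at h3
  rw [← hk] at h3
  have := le_of_mul_le_mul_right h3 (by positivity)
  linarith

/-- a non-zero polynomial is non-zero arbitrarily near every point -/
lemma exists_tendsto_ne {n : ℕ} {a : MvPolynomial (Fin n) ℂ} (ha : a ≠ 0) (z : Fin n → ℂ) :
    ∃ w : ℂ → Fin n → ℂ, Tendsto w (𝓝[≠] 0) (𝓝 z) ∧
      ∀ᶠ t in 𝓝[≠] (0 : ℂ), MvPolynomial.eval (w t) a ≠ 0 := by
  obtain ⟨u, hu⟩ : ∃ u, MvPolynomial.eval u a ≠ 0 := by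
    by_contra hc
    push_neg at hc
    exact ha (MvPolynomial.funext fun x => by simp [hc x])
  let p : ℂ[X] := MvPolynomial.eval₂ Polynomial.C
    (fun i => Polynomial.C (z i) + Polynomial.X * Polynomial.C (u i - z i)) a
  have hp : ∀ t : ℂ, p.eval t = MvPolynomial.eval (fun i => z i + t * (u i - z i)) a := by
    intro t
    have h : (Polynomial.evalRingHom t).comp (MvPolynomial.eval₂Hom Polynomial.C
        (fun i => Polynomial.C (z i) + Polynomial.X * Polynomial.C (u i - z i))) =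
        MvPolynomial.eval (fun i => z i + t * (u i - z i)) :=
      MvPolynomial.ringHom_ext (fun c => by simp) (fun i => by simp)
    exact RingHom.congr_fun h a
  refine ⟨fun t i => z i + t * (u i - z i), ?_, ?_⟩
  · have : Continuous fun (t : ℂ) (i : Fin n) => z i + t * (u i - z i) := by fun_prop
    exact (this.tendsto' 0 z (by simp)).mono_left nhdsWithin_le_nhds
  · have hp0 : p ≠ 0 := by
      intro h0
      have := hp 1
      simp [h0] at this
      exact hu this.symm
    have hfin : {t : ℂ | p.IsRoot t}.Finite := Polynomial.finite_setOfPred_isRoot hp0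
    have : ∀ᶠ t in 𝓝[≠] (0 : ℂ), t ∉ {t : ℂ | p.IsRoot t} := by
      have h1 : ∀ᶠ t in 𝓝[≠] (0 : ℂ), t ∈ ({t : ℂ | p.IsRoot t} \ {0})ᶜ :=
        nhdsWithin_le_nhds ((hfin.subset Set.sdiff_subset).isClosed.isOpen_compl.mem_nhds (by simp))
      filter_upwards [h1, self_mem_nhdsWithin] with t h1 h2
      intro h3
      exact h1 ⟨h3, h2⟩
    filter_upwards [this] with t ht
    rw [← hp]
    exact ht

variable {B : Type} [CommRing B] [IsDomain B] [Algebra ℂ B] [Algebra.FiniteType ℂ B]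

omit [IsDomain B] in
/-- two points with the same kernel are equal -/
lemma algHom_ext_ker {C : Type} [CommRing C] [Algebra ℂ C] (φ ψ : C →ₐ[ℂ] ℂ)
    (h : RingHom.ker φ.toRingHom = RingHom.ker ψ.toRingHom) : φ = ψ := by
  refine AlgHom.ext fun x => ?_
  have h1 : x - algebraMap ℂ C (φ x) ∈ RingHom.ker φ.toRingHom := by
    simp [RingHom.mem_ker]
  rw [h] at h1
  simp [RingHom.mem_ker, sub_eq_zero] at h1
  exact h1.symm

omit [IsDomain B] in
/-- every point of a finitely generated algebra extends along an integral map -/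
lemma exists_point_over {C : Type} [CommRing C] [Algebra ℂ C] (Ψ : C →ₐ[ℂ] B)
    (hint : Ψ.toRingHom.IsIntegral) (φ : C →ₐ[ℂ] ℂ)
    (hker : RingHom.ker Ψ.toRingHom ≤ RingHom.ker φ.toRingHom) :
    ∃ Φ : B →ₐ[ℂ] ℂ, Φ.comp Ψ = φ := by
  algebraize [Ψ.toRingHom]
  have : Algebra.IsIntegral C B := ⟨hint⟩
  have hmax : (RingHom.ker φ.toRingHom).IsMaximal :=
    RingHom.ker_isMaximal_of_surjective _ fun c => ⟨algebraMap ℂ C c, by simp⟩
  obtain ⟨Q, hQ, hQφ⟩ := Ideal.exists_ideal_over_maximal_of_isIntegral (S := B)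
    (RingHom.ker φ.toRingHom) hker
  let := Ideal.Quotient.field Q
  have : Module.Finite ℂ (B ⧸ Q) := finite_of_finite_type_of_isJacobsonRing ℂ (B ⧸ Q)
  have hb : Function.Bijective (algebraMap ℂ (B ⧸ Q)) :=
    IsAlgClosed.algebraMap_bijective_of_isIntegral
  let e : ℂ ≃ₐ[ℂ] B ⧸ Q := AlgEquiv.ofBijective (Algebra.ofId ℂ (B ⧸ Q)) hb
  refine ⟨e.symm.toAlgHom.comp (Ideal.Quotient.mkₐ ℂ Q), algHom_ext_ker _ _ ?_⟩
  rw [← hQφ]
  ext x
  simp [RingHom.mem_ker, Ideal.mem_comap, RingHom.algebraMap_toAlgebra, Ideal.Quotient.eq_zero_iff_mem]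

/-- points with non-vanishing `h` are dense -/
lemma exists_point_near {n : ℕ} (s : Fin n → B) (Φ₀ : B →ₐ[ℂ] ℂ) {h : B} (hh : h ≠ 0)
    {O : Set (Fin n → ℂ)} (hO : IsOpen O) (hΦ₀ : (fun i => Φ₀ (s i)) ∈ O) :
    ∃ Φ : B →ₐ[ℂ] ℂ, Φ h ≠ 0 ∧ (fun i => Φ (s i)) ∈ O := by
  obtain ⟨d, g, hg, hfin⟩ := exists_finite_inj_algHom_of_fg ℂ B
  have hgi : g.toRingHom.IsIntegral := RingHom.IsIntegral.of_finite hfin
  algebraize [g.toRingHom]
  have hint : Algebra.IsIntegral (MvPolynomial (Fin d) ℂ) B := ⟨hgi⟩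
  have : IsScalarTower ℂ (MvPolynomial (Fin d) ℂ) B :=
    IsScalarTower.of_algebraMap_eq fun c => (g.commutes c).symm
  have : FaithfulSMul (MvPolynomial (Fin d) ℂ) B :=
    (faithfulSMul_iff_algebraMap_injective _ _).mpr hg
  -- a non-zero element of the base in `(h)`
  let a₀ := (minpoly (MvPolynomial (Fin d) ℂ) h).coeff 0
  have ha₀ : a₀ ≠ 0 := by
    intro h0
    have hi := minpoly.irreducible (A := MvPolynomial (Fin d) ℂ) (hint.isIntegral h)
    have hP : minpoly (MvPolynomial (Fin d) ℂ) h = Polynomial.X :=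
      (eq_of_monic_of_associated monic_X (minpoly.monic (hint.isIntegral h))
        (irreducible_X.associated_of_dvd hi (X_dvd_iff.mpr h0))).symm
    have := minpoly.aeval (MvPolynomial (Fin d) ℂ) h
    rw [hP, aeval_X] at this
    exact hh this
  have hdvd : h ∣ g a₀ := by
    have h0 := minpoly.aeval (MvPolynomial (Fin d) ℂ) h
    rw [← Polynomial.X_mul_divX_add (minpoly (MvPolynomial (Fin d) ℂ) h), map_add, map_mul,
      aeval_X, aeval_C] at h0
    exact ⟨_, (eq_neg_of_add_eq_zero_right h0).trans (mul_neg _ _).symm⟩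
  -- generators and the base point
  obtain ⟨m, F, hF⟩ := Algebra.FiniteType.iff_quotient_mvPolynomial''.mp
    (inferInstance : Algebra.FiniteType ℂ B)
  let v : (B →ₐ[ℂ] ℂ) → (Fin m → ℂ) := fun Φ j => Φ (F (MvPolynomial.X j))
  have hv : ∀ (Φ : B →ₐ[ℂ] ℂ) (Q : MvPolynomial (Fin m) ℂ),
      Φ (F Q) = MvPolynomial.eval (v Φ) Q := by
    intro Φ Q
    have : Φ.comp F = MvPolynomial.aeval (v Φ) :=
      MvPolynomial.algHom_ext fun j => by simp [v]
    have := AlgHom.congr_fun this Q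
    simpa [MvPolynomial.aeval_eq_eval] using this
  have hvinj : Function.Injective v := by
    intro Φ Φ' e
    refine AlgHom.ext fun x => ?_
    obtain ⟨Q, rfl⟩ := hF x
    rw [hv, hv, e]
  let z₀ : Fin d → ℂ := fun i => Φ₀ (g (MvPolynomial.X i))
  have hgz : ∀ (Φ : B →ₐ[ℂ] ℂ) (a : MvPolynomial (Fin d) ℂ),
      Φ (g a) = MvPolynomial.eval (fun i => Φ (g (MvPolynomial.X i))) a := by
    intro Φ a
    have : Φ.comp g = MvPolynomial.aeval (fun i => Φ (g (MvPolynomial.X i))) :=
      MvPolynomial.algHom_ext fun j => by simp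
    have := AlgHom.congr_fun this a
    simpa [MvPolynomial.aeval_eq_eval] using this
  -- each element takes finitely many values over a base point
  have hroot : ∀ (x : B) (Φ : B →ₐ[ℂ] ℂ),
      ((minpoly (MvPolynomial (Fin d) ℂ) x).map
        (MvPolynomial.eval (fun i => Φ (g (MvPolynomial.X i))))).IsRoot (Φ x) := by
    intro x Φ
    have h1 : MvPolynomial.eval (fun i => Φ (g (MvPolynomial.X i))) =
        Φ.toRingHom.comp (algebraMap (MvPolynomial (Fin d) ℂ) B) :=
      RingHom.ext fun a => (hgz Φ a).symm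
    rw [Polynomial.IsRoot, Polynomial.eval_map, h1]
    exact (Polynomial.hom_eval₂ _ _ Φ.toRingHom x).symm.trans
      (by rw [← Polynomial.aeval_def, minpoly.aeval, map_zero])
  let S : Set (B →ₐ[ℂ] ℂ) := {Φ | (fun i => Φ (g (MvPolynomial.X i))) = z₀}
  have hS : S.Finite := by
    let R : Fin m → Set ℂ := fun j => {t | ((minpoly (MvPolynomial (Fin d) ℂ)
      (F (MvPolynomial.X j))).map (MvPolynomial.eval z₀)).IsRoot t}
    have hR : (Set.univ.pi R).Finite := Set.Finite.pi fun j => Polynomial.finite_setOfPred_isRoot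
      ((minpoly.monic (hint.isIntegral _)).map _).ne_zero
    refine (hR.preimage (f := v) hvinj.injOn).subset fun Φ hΦ => ?_
    intro j _
    have := hroot (F (MvPolynomial.X j)) Φ
    rw [show (fun i => Φ (g (MvPolynomial.X i))) = z₀ from hΦ] at this
    exact this
  -- a separating element
  obtain ⟨b, hb0, hb⟩ : ∃ b : B, Φ₀ b = 0 ∧ ∀ Φ ∈ S, Φ b = 0 → Φ = Φ₀ := by
    classical
    have hex : ∀ Φ : B →ₐ[ℂ] ℂ, ∃ e : B, Φ₀ e = 1 ∧ (Φ ≠ Φ₀ → Φ e = 0) := by
      intro Φ
      by_cases hΦ : Φ = Φ₀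
      · exact ⟨1, map_one _, fun h => absurd hΦ h⟩
      · obtain ⟨x, hx⟩ : ∃ x, Φ x ≠ Φ₀ x := by
          by_contra hc
          push_neg at hc
          exact hΦ (AlgHom.ext hc)
        refine ⟨algebraMap ℂ B (Φ₀ x - Φ x)⁻¹ * (x - algebraMap ℂ B (Φ x)), ?_, fun _ => ?_⟩
        · simp [inv_mul_cancel₀ (sub_ne_zero.mpr (Ne.symm hx))]
        · simp
    choose e he1 he2 using hex
    refine ⟨1 - ∏ Φ ∈ hS.toFinset, e Φ, by simp [he1], fun Φ hΦ hb => ?_⟩
    by_contra hne
    rw [map_sub, map_one, map_prod,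
      Finset.prod_eq_zero (hS.mem_toFinset.mpr hΦ) (he2 Φ hne)] at hb
    norm_num at hb
  -- the curve
  obtain ⟨w, hw, hwne⟩ := exists_tendsto_ne ha₀ z₀
  let P := minpoly (MvPolynomial (Fin d) ℂ) b
  have hPm : P.Monic := minpoly.monic (hint.isIntegral b)
  have hPd : 0 < P.natDegree := minpoly.natDegree_pos (hint.isIntegral b)
  have hdeg : ∀ z : Fin d → ℂ, (P.map (MvPolynomial.eval z)).natDegree = P.natDegree :=
    fun z => hPm.natDegree_map _
  have hex : ∀ t : ℂ, ∃ Φ : B →ₐ[ℂ] ℂ, (fun i => Φ (g (MvPolynomial.X i))) = w t ∧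
      ‖Φ b‖ ^ P.natDegree ≤ ‖MvPolynomial.eval (w t) (P.coeff 0)‖ := by
    intro t
    obtain ⟨r, hr, hr'⟩ := exists_small_root (hPm.map (MvPolynomial.eval (w t)))
      (by rw [hdeg]; exact hPd)
    rw [hdeg, Polynomial.coeff_map] at hr'
    let Ψ : (MvPolynomial (Fin d) ℂ)[X] →ₐ[ℂ] B :=
      (Polynomial.aeval (R := MvPolynomial (Fin d) ℂ) b).restrictScalars ℂ
    let φ : (MvPolynomial (Fin d) ℂ)[X] →ₐ[ℂ] ℂ :=
      AlgHom.mk (Polynomial.eval₂RingHom (MvPolynomial.eval (w t)) r) (fun c => by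
        simp [IsScalarTower.algebraMap_apply ℂ (MvPolynomial (Fin d) ℂ) (MvPolynomial (Fin d) ℂ)[X]])
    have hΨint : Ψ.toRingHom.IsIntegral := by
      refine RingHom.IsIntegral.tower_top (Polynomial.C : MvPolynomial (Fin d) ℂ →+* _) _ ?_
      have : Ψ.toRingHom.comp Polynomial.C = algebraMap (MvPolynomial (Fin d) ℂ) B :=
        RingHom.ext fun a => by simp [Ψ]
      rw [this]
      exact hgi
    have hker : RingHom.ker Ψ.toRingHom ≤ RingHom.ker φ.toRingHom := by
      intro q hq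
      obtain ⟨q', rfl⟩ := minpoly.isIntegrallyClosed_dvd (hint.isIntegral b)
        (show Polynomial.aeval b q = 0 from hq)
      rw [RingHom.mem_ker]
      show Polynomial.eval₂ (MvPolynomial.eval (w t)) r (P * q') = 0
      rw [Polynomial.eval₂_mul, ← Polynomial.eval_map, hr, zero_mul]
    obtain ⟨Φ, hΦ⟩ := exists_point_over Ψ hΨint φ hker
    refine ⟨Φ, funext fun i => ?_, ?_⟩
    · have := AlgHom.congr_fun hΦ (Polynomial.C (MvPolynomial.X i))
      simpa [Ψ, φ, RingHom.algebraMap_toAlgebra] using this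
    · have := AlgHom.congr_fun hΦ Polynomial.X
      rw [show Φ b = r by simpa [Ψ, φ] using this]
      exact hr'
  choose Φ hΦz hΦb using hex
  -- boundedness
  have hzero : Tendsto (fun t => Φ t b) (𝓝[≠] 0) (𝓝 0) := by
    have hc : MvPolynomial.eval z₀ (P.coeff 0) = 0 := by
      have h1 := hroot b Φ₀
      rw [hb0, Polynomial.IsRoot, ← Polynomial.coeff_zero_eq_eval_zero,
        Polynomial.coeff_map] at h1
      exact h1
    have h2 : Tendsto (fun t => ‖MvPolynomial.eval (w t) (P.coeff 0)‖) (𝓝[≠] 0) (𝓝 0) := by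
      have := (((MvPolynomial.continuous_eval (P.coeff 0)).norm).tendsto z₀).comp hw
      simpa [Function.comp_def, hc] using this
    rw [tendsto_zero_iff_norm_tendsto_zero]
    rw [Metric.tendsto_nhds] at h2 ⊢
    intro ε hε
    filter_upwards [h2 (ε ^ P.natDegree) (pow_pos hε _)] with t ht
    rw [dist_zero_right, norm_norm] at ht ⊢
    exact lt_of_pow_lt_pow_left₀ _ hε.le ((hΦb t).trans_lt ht)
  have hbdd : ∃ C : ℝ, ∀ᶠ t in 𝓝[≠] (0 : ℂ), v (Φ t) ∈ Metric.closedBall 0 C := by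
    have hj : ∀ j, ∃ C : ℝ, ∀ᶠ t in 𝓝[≠] (0 : ℂ), ‖v (Φ t) j‖ ≤ C := by
      intro j
      let Q := minpoly (MvPolynomial (Fin d) ℂ) (F (MvPolynomial.X j))
      have hQ : Q.Monic := minpoly.monic (hint.isIntegral _)
      let N : (Fin d → ℂ) → ℝ := fun z => 1 + ∑ i ∈ Finset.range Q.natDegree,
        ‖MvPolynomial.eval z (Q.coeff i)‖
      have hN : Continuous N := by
        refine continuous_const.add (continuous_finsetSum _ fun i _ => ?_)
        exact (MvPolynomial.continuous_eval _).norm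
      refine ⟨N z₀ + 1, ?_⟩
      filter_upwards [((hN.tendsto z₀).comp hw).eventually
        (eventually_le_nhds (lt_add_one (N z₀)))] with t ht
      refine le_trans ?_ ht
      have h1 := hroot (F (MvPolynomial.X j)) (Φ t)
      rw [hΦz t] at h1
      have h2 := norm_root_le (hQ.map _) h1
      rw [hQ.natDegree_map] at h2
      simpa [Polynomial.coeff_map, N, v, Q] using h2
    choose C hC using hj
    refine ⟨∑ j, |C j|, ?_⟩
    filter_upwards [eventually_all.mpr hC] with t ht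
    rw [mem_closedBall_zero_iff]
    refine (pi_norm_le_iff_of_nonneg (by positivity)).mpr fun j => (ht j).trans ?_
    exact (le_abs_self _).trans
      (Finset.single_le_sum (f := fun j => |C j|) (fun _ _ => abs_nonneg _) (Finset.mem_univ j))
  obtain ⟨C, hC⟩ := hbdd
  -- convergence
  have hlim : Tendsto (fun t => v (Φ t)) (𝓝[≠] 0) (𝓝 (v Φ₀)) := by
    refine (isCompact_closedBall (0 : Fin m → ℂ) C).tendsto_nhds_of_unique_mapClusterPt hC ?_
    intro y _ hy
    have heval : ∀ Q : MvPolynomial (Fin m) ℂ, MapClusterPt (MvPolynomial.eval y Q) (𝓝[≠] 0)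
        (fun t => Φ t (F Q)) := by
      intro Q
      have := hy.continuousAt_comp (MvPolynomial.continuous_eval Q).continuousAt
      simpa [Function.comp_def, hv] using this
    have hval : ∀ (Q : MvPolynomial (Fin m) ℂ) (c : ℂ),
        Tendsto (fun t => Φ t (F Q)) (𝓝[≠] 0) (𝓝 c) → MvPolynomial.eval y Q = c := by
      intro Q c hc
      exact eq_of_nhds_neBot (((heval Q).clusterPt).mono hc)
    have hk : RingHom.ker F.toRingHom ≤ RingHom.ker (MvPolynomial.aeval (R := ℂ) y).toRingHom := by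
      intro Q hQ
      have hQ0 : F Q = 0 := hQ
      rw [RingHom.mem_ker]
      show MvPolynomial.aeval (R := ℂ) y Q = 0
      rw [MvPolynomial.aeval_eq_eval]
      refine hval Q 0 ?_
      simp only [hQ0, map_zero]
      exact tendsto_const_nhds
    let Φy : B →ₐ[ℂ] ℂ := AlgHom.liftOfSurjective F hF (MvPolynomial.aeval (R := ℂ) y) hk
    have hΦy : ∀ Q, Φy (F Q) = MvPolynomial.eval y Q := fun Q => by
      rw [← MvPolynomial.aeval_eq_eval]
      exact AlgHom.liftOfSurjective_apply F hF _ hk Q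
    have hyv : v Φy = y := funext fun j => by simp [v, hΦy]
    have hmem : Φy ∈ S := by
      refine funext fun i => ?_
      obtain ⟨Q, hQ⟩ := hF (g (MvPolynomial.X i))
      rw [← hQ, hΦy]
      refine hval Q (z₀ i) ?_
      rw [hQ]
      have : (fun t => Φ t (g (MvPolynomial.X i))) = fun t => w t i :=
        funext fun t => congrFun (hΦz t) i
      rw [this]
      exact ((continuous_apply i).tendsto z₀).comp hw
    obtain ⟨Q, hQ⟩ := hF b
    rw [← hyv, hb Φy hmem (by rw [← hQ, hΦy]; exact hval Q 0 (by rw [hQ]; exact hzero))]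
  have hOs : ∀ᶠ t in 𝓝[≠] (0 : ℂ), (fun i => Φ t (s i)) ∈ O := by
    have hs : Tendsto (fun t i => Φ t (s i)) (𝓝[≠] 0) (𝓝 fun i => Φ₀ (s i)) := by
      refine tendsto_pi_nhds.mpr fun i => ?_
      obtain ⟨Q, hQ⟩ := hF (s i)
      simp only [← hQ, hv]
      exact ((MvPolynomial.continuous_eval Q).tendsto _).comp hlim
    exact hs (hO.mem_nhds hΦ₀)
  obtain ⟨t, ht, htO⟩ := (hwne.and hOs).exists
  refine ⟨Φ t, fun h0 => ht ?_, htO⟩
  obtain ⟨q, hq⟩ := hdvd
  rw [← hΦz t, ← hgz (Φ t) a₀, hq, map_mul, h0, zero_mul]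

end Groth.Agent.H4AnDense
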