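import Mathlib
import Groth.Prelude.Def_ProCons

/-! Ind- and pro-constructible subsets of schemes, checked on affine charts. -/

universe u

open CategoryTheory AlgebraicGeometry Topology TopologicalSpace

namespace Groth.Agent.H4ProCons

variable {R : Type u} [CommRing R]

/-- a subset of `Spec R` which is a union of constructible sets -/
def IndC (E : Set (PrimeSpectrum R)) : Prop :=
  ∀ p ∈ E, ∃ C : Set (PrimeSpectrum R), IsConstructible C ∧ p ∈ C ∧ C ⊆ E

/-- a subset of `Spec R` which is an intersection of constructible sets -/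
def ProC (E : Set (PrimeSpectrum R)) : Prop := IndC Eᶜ

theorem indC_constructible {E : Set (PrimeSpectrum R)} (h : IsConstructible E) : IndC E :=
  fun _ hp => ⟨E, h, hp, subset_rfl⟩

theorem proC_constructible {E : Set (PrimeSpectrum R)} (h : IsConstructible E) : ProC E :=
  indC_constructible h.compl

theorem proC_biUnion {ι : Type*} {s : Finset ι} {E : ι → Set (PrimeSpectrum R)}
    (h : ∀ i ∈ s, ProC (E i)) : ProC (⋃ i ∈ s, E i) := by
  intro p hp
  simp only [Set.mem_compl_iff, Set.mem_iUnion, exists_prop, not_exists, not_and] at hp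
  choose C hC hpC hCE using fun i (hi : i ∈ s) => h i hi p (hp i hi)
  refine ⟨⋂ i : s, C i.1 i.2, IsConstructible.iInter fun i => hC _ _,
    Set.mem_iInter.mpr fun i => hpC _ _, ?_⟩
  intro q hq hqE
  obtain ⟨i, hi, hqi⟩ := Set.mem_iUnion₂.mp hqE
  exact hCE i hi (Set.mem_iInter.mp hq ⟨i, hi⟩) hqi

/-- compactness: finite subcover of a cover of a pro-constructible set by constructible sets -/
theorem finite_cover {K : Set (PrimeSpectrum R)} (hK : ProC K) {ι : Type*}
    (C : ι → Set (PrimeSpectrum R)) (hC : ∀ i, IsConstructible (C i)) (hcov : K ⊆ ⋃ i, C i) :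
    ∃ t : Finset ι, K ⊆ ⋃ i ∈ t, C i := by
  classical
  choose D hD hpD hDK using hK
  let T : ι ⊕ {p // p ∈ Kᶜ} → Set (PrimeSpectrum R) := fun a =>
    a.elim C fun p => D p.1 p.2
  have hopen : ∀ a, IsOpen ((WithTopology.ofTopology :
      WithConstructibleTopology (PrimeSpectrum R) → _) ⁻¹' T a) := fun a => by
    refine WithConstructibleTopology.isOpen_iff.mpr ?_
    have hT : IsConstructible (T a) := by
      rcases a with i | q
      · exact hC i
      · exact hD q.1 q.2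
    obtain ⟨S, hS⟩ := PrimeSpectrum.exists_constructibleSetData_iff.mpr hT
    change IsOpen[constructibleTopology (PrimeSpectrum R)] (T a)
    rw [← hS, PrimeSpectrum.ConstructibleSetData.toSet]
    have hb : ∀ B : PrimeSpectrum.BasicConstructibleSetData R,
        IsOpen[constructibleTopology (PrimeSpectrum R)] B.toSet := fun B => by
      have h1 : IsOpen[constructibleTopology (PrimeSpectrum R)]
          (PrimeSpectrum.zeroLocus (Set.range B.g)) :=
        IsCompact.isOpen_constructibleTopology_of_isClosed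
          (PrimeSpectrum.isRetrocompact_zeroLocus_compl (Set.finite_range _)).isCompact
          (PrimeSpectrum.isClosed_zeroLocus _)
      have h2 : IsOpen[constructibleTopology (PrimeSpectrum R)]
          (PrimeSpectrum.zeroLocus ({B.f} : Set R))ᶜ :=
        IsCompact.isOpen_constructibleTopology_of_isOpen
          (PrimeSpectrum.isRetrocompact_zeroLocus_compl (Set.finite_singleton _)).isCompact
          (PrimeSpectrum.isClosed_zeroLocus _).isOpen_compl
      rw [PrimeSpectrum.BasicConstructibleSetData.toSet, Set.sdiff_eq]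
      exact @IsOpen.inter _ (constructibleTopology (PrimeSpectrum R)) _ _ h1 h2
    exact @isOpen_biUnion _ _ (constructibleTopology (PrimeSpectrum R)) _ _ fun B _ => hb B
  have hcovu : Set.univ ⊆ ⋃ a, (WithTopology.ofTopology :
      WithConstructibleTopology (PrimeSpectrum R) → _) ⁻¹' T a := fun x _ => by
    by_cases hx : WithTopology.ofTopology x ∈ K
    · obtain ⟨i, hi⟩ := Set.mem_iUnion.mp (hcov hx)
      exact Set.mem_iUnion.mpr ⟨Sum.inl i, hi⟩
    · exact Set.mem_iUnion.mpr ⟨Sum.inr ⟨_, hx⟩, hpD _ hx⟩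
  obtain ⟨s, hs⟩ := isCompact_univ.elim_finite_subcover _ hopen hcovu
  refine ⟨s.toLeft, fun p hp => ?_⟩
  obtain ⟨a, ha, hpa⟩ := Set.mem_iUnion₂.mp (hs (Set.mem_univ (WithTopology.toTopology _ p)))
  rcases a with i | q
  · exact Set.mem_iUnion₂.mpr ⟨i, Finset.mem_toLeft.mpr ha, hpa⟩
  · exact absurd hp (hDK q.1 q.2 hpa)

/-- a set which is both ind- and pro-constructible is constructible -/
theorem isConstructible_of_indC_proC {E : Set (PrimeSpectrum R)} (hi : IndC E) (hp : ProC E) :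
    IsConstructible E := by
  choose C hC hpC hCE using hi
  obtain ⟨t, ht⟩ := finite_cover hp (fun p : E => C p.1 p.2) (fun p => hC _ _)
    (fun p hp => Set.mem_iUnion.mpr ⟨⟨p, hp⟩, hpC p hp⟩)
  rw [show E = ⋃ p ∈ (t : Set E), C p.1 p.2 from
    ht.antisymm (Set.iUnion₂_subset fun p _ => hCE p.1 p.2)]
  exact IsConstructible.biUnion t.finite_toSet fun p _ => hC _ _

/-- the image of a pro-constructible set under a map of spectra is pro-constructible -/
theorem proC_image {B : Type u} [CommRing B] (φ : R →+* B) {K : Set (PrimeSpectrum B)}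
    (hK : ProC K) : ProC (PrimeSpectrum.comap φ '' K) := by
  intro y hy
  have key : ∀ q : K, ∃ C : Set (PrimeSpectrum R), IsConstructible C ∧
      PrimeSpectrum.comap φ q.1 ∈ C ∧ y ∉ C := by
    intro q
    have hne : PrimeSpectrum.comap φ q.1 ≠ y := fun e => hy ⟨q.1, q.2, e⟩
    have hb : ∀ a : R, IsConstructible (PrimeSpectrum.basicOpen a : Set (PrimeSpectrum R)) :=
      fun a => (PrimeSpectrum.isCompact_basicOpen a).isConstructible (PrimeSpectrum.basicOpen a).2
    obtain ⟨a, ha⟩ : ∃ a, ¬(a ∈ (PrimeSpectrum.comap φ q.1).asIdeal ↔ a ∈ y.asIdeal) := by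
      by_contra hc
      simp only [not_exists, not_not] at hc
      exact hne (PrimeSpectrum.ext (SetLike.ext hc))
    by_cases hay : a ∈ y.asIdeal
    · refine ⟨PrimeSpectrum.basicOpen a, hb a, fun h => ha (iff_of_true h hay), fun h => h hay⟩
    · exact ⟨(PrimeSpectrum.basicOpen a : Set (PrimeSpectrum R))ᶜ, (hb a).compl,
        fun h => ha (iff_of_false h hay), fun h => h hay⟩
  choose C hC hqC hyC using key
  have hpre : ∀ q : K, IsConstructible (PrimeSpectrum.comap φ ⁻¹' C q) := by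
    intro q
    obtain ⟨S, hS⟩ := PrimeSpectrum.exists_constructibleSetData_iff.mpr (hC q)
    rw [← hS, ← PrimeSpectrum.ConstructibleSetData.toSet_map]
    exact PrimeSpectrum.ConstructibleSetData.isConstructible_toSet _
  obtain ⟨t, ht⟩ := finite_cover hK (fun q : K => PrimeSpectrum.comap φ ⁻¹' C q) hpre
    (fun q hq => Set.mem_iUnion.mpr ⟨⟨q, hq⟩, hqC ⟨q, hq⟩⟩)
  refine ⟨(⋃ q ∈ (t : Set K), C q)ᶜ, (IsConstructible.biUnion t.finite_toSet fun q _ => hC q).compl,
    ?_, ?_⟩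
  · simp only [Set.mem_compl_iff, Set.mem_iUnion, exists_prop, not_exists, not_and]
    exact fun q _ => hyC q
  · rintro _ hz ⟨q, hq, rfl⟩
    obtain ⟨q', hq', hqq'⟩ := Set.mem_iUnion₂.mp (ht hq)
    exact hz (Set.mem_iUnion₂.mpr ⟨q', hq', hqq'⟩)

theorem indC_preimage {B : Type u} [CommRing B] (φ : R →+* B) {E : Set (PrimeSpectrum R)}
    (hE : IndC E) : IndC (PrimeSpectrum.comap φ ⁻¹' E) := by
  intro q hq
  obtain ⟨C, hC, hqC, hCE⟩ := hE _ hq
  obtain ⟨S, hS⟩ := PrimeSpectrum.exists_constructibleSetData_iff.mpr hC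
  refine ⟨_, ?_, hqC, Set.preimage_mono hCE⟩
  rw [← hS, ← PrimeSpectrum.ConstructibleSetData.toSet_map]
  exact PrimeSpectrum.ConstructibleSetData.isConstructible_toSet _

/-- every pro-constructible set is the image of a product of fields -/
theorem range_pi_residueField {K : Set (PrimeSpectrum R)} (hK : ProC K) :
    Set.range (PrimeSpectrum.comap
      (Pi.ringHom (f := fun p : K => p.1.asIdeal.ResidueField)
        fun p => algebraMap R p.1.asIdeal.ResidueField)) = K := by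
  classical
  set φ := Pi.ringHom (f := fun p : K => p.1.asIdeal.ResidueField)
    fun p => algebraMap R p.1.asIdeal.ResidueField
  have hmem : ∀ (p : K) (a : R), φ a p = 0 ↔ a ∈ p.1.asIdeal := fun p a =>
    Ideal.algebraMap_residueField_eq_zero
  apply Set.Subset.antisymm
  · rintro _ ⟨q, rfl⟩
    by_contra hqK
    obtain ⟨C, hC, hqC, hCK⟩ := hK _ hqK
    obtain ⟨S, hS⟩ := PrimeSpectrum.exists_constructibleSetData_iff.mpr hC
    rw [← hS] at hqC hCK
    obtain ⟨B, hB, hqB⟩ := Set.mem_iUnion₂.mp hqC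
    obtain ⟨hqg, hqf⟩ := hqB
    -- on `K`, `f ≠ 0` forces some `g i ≠ 0`
    have hp : ∀ p : K, φ B.f p ≠ 0 → ∃ i, φ (B.g i) p ≠ 0 := by
      intro p hf
      by_contra hc
      simp only [not_exists, not_not] at hc
      refine hCK (Set.mem_iUnion₂.mpr ⟨B, hB, ?_, ?_⟩) p.2
      · rintro _ ⟨i, rfl⟩
        exact (hmem p _).mp (hc i)
      · exact fun h => hf ((hmem p _).mpr (h (Set.mem_singleton _)))
    let c : Fin B.n → ∀ p : K, p.1.asIdeal.ResidueField := fun i p =>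
      if h : φ B.f p ≠ 0 then (if (hp p h).choose = i then φ B.f p / φ (B.g i) p else 0) else 0
    have hsum : φ B.f = ∑ i, c i * φ (B.g i) := by
      funext p
      simp only [Finset.sum_apply, Pi.mul_apply, c]
      by_cases h : φ B.f p ≠ 0
      · rw [Finset.sum_eq_single (hp p h).choose]
        · rw [dif_pos h, if_pos rfl, div_mul_cancel₀ _ (hp p h).choose_spec]
        · intro i _ hi
          rw [dif_pos h, if_neg (Ne.symm hi), zero_mul]
        · exact fun h' => absurd (Finset.mem_univ _) h'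
      · simp only [dif_neg h, zero_mul, Finset.sum_const_zero]
        exact not_not.mp h
    refine hqf (Set.singleton_subset_iff.mpr ?_)
    show φ B.f ∈ q.asIdeal
    rw [hsum]
    exact Ideal.sum_mem _ fun i _ => Ideal.mul_mem_left _ _ (hqg ⟨i, rfl⟩)
  · intro p hp
    let ev := Pi.evalRingHom (fun p : K => p.1.asIdeal.ResidueField) ⟨p, hp⟩
    refine ⟨⟨RingHom.ker ev, RingHom.ker_isPrime ev⟩, PrimeSpectrum.ext ?_⟩
    ext a
    exact hmem ⟨p, hp⟩ a

theorem constr_of_locallyConstructible_nhd {α : Type*} [TopologicalSpace α] {U : Set α}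
    {p : PrimeSpectrum R} {j : PrimeSpectrum R → α} (hj : IsOpenEmbedding j) (hU : IsOpen U)
    (hp : j p ∈ U) {T : Set ↥U} (hT : IsLocallyConstructible T) :
    ∃ D : Set (PrimeSpectrum R), IsConstructible D ∧ p ∈ D ∧ j '' D ⊆ U ∧
      IsConstructible (D ∩ j ⁻¹' (Subtype.val '' T)) := by
  obtain ⟨_, ⟨f, rfl⟩, hpf, hfU⟩ := PrimeSpectrum.isTopologicalBasis_basic_opens
    |>.exists_subset_of_mem_open (show p ∈ j ⁻¹' U from hp) (hU.preimage hj.continuous)
  set D : Set (PrimeSpectrum R) := ↑(PrimeSpectrum.basicOpen f)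
  have hDo : IsOpen D := (PrimeSpectrum.basicOpen f).2
  have hDc : IsCompact D := PrimeSpectrum.isCompact_basicOpen f
  refine ⟨D, hDc.isConstructible hDo, hpf, by rintro _ ⟨q, hq, rfl⟩; exact hfU hq, ?_⟩
  haveI : CompactSpace ↥D := isCompact_iff_compactSpace.mp hDc
  haveI : PrespectralSpace ↥D := hDo.isOpenEmbedding_subtypeVal.prespectralSpace
  haveI : QuasiSeparatedSpace ↥D := hDo.isOpenEmbedding_subtypeVal.quasiSeparatedSpace
  let φ : ↥D → ↥U := fun q => ⟨j q.1, hfU q.2⟩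
  have hφ : IsOpenEmbedding φ := IsOpenEmbedding.of_comp φ hU.isOpenEmbedding_subtypeVal
    (g := Subtype.val) (hj.comp hDo.isOpenEmbedding_subtypeVal)
  have h1 := ((hT.preimage_of_isOpenEmbedding hφ).isConstructible).image_of_isOpenEmbedding
    hDo.isOpenEmbedding_subtypeVal (by simpa using hDc.isRetrocompact hDo)
  convert h1 using 1
  ext q
  constructor
  · rintro ⟨hq, t, ht, e⟩
    refine ⟨⟨q, hq⟩, ?_, rfl⟩
    show φ ⟨q, hq⟩ ∈ T
    rwa [show φ ⟨q, hq⟩ = t from Subtype.ext e.symm]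
  · rintro ⟨q', hq', rfl⟩
    exact ⟨q'.2, φ q', hq', rfl⟩

theorem isLocallyConstructible_compl {α : Type*} [TopologicalSpace α] {s : Set α}
    (hs : IsLocallyConstructible s) : IsLocallyConstructible sᶜ := by
  intro x
  obtain ⟨U, hxU, hU, h⟩ := hs x
  exact ⟨U, hxU, hU, h.compl⟩

theorem isPro_iff_compl {α : Type*} [TopologicalSpace α] (E : Set α) :
    ProCons.IsProConstructible E ↔ ProCons.IsIndConstructible Eᶜ := by
  constructor <;> intro h x <;> obtain ⟨U, hU, hx, S, hS, e⟩ := h x <;>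
    refine ⟨U, hU, hx, compl '' S, ?_, ?_⟩
  · rintro _ ⟨T, hT, rfl⟩; exact isLocallyConstructible_compl (hS T hT)
  · rw [Set.preimage_compl, e, Set.compl_sInter]
  · rintro _ ⟨T, hT, rfl⟩; exact isLocallyConstructible_compl (hS T hT)
  · rw [← Set.compl_sUnion, ← e, Set.preimage_compl, compl_compl]

theorem isInd_of_locallyConstructible {α : Type*} [TopologicalSpace α] {E : Set α}
    (h : IsLocallyConstructible E) : ProCons.IsIndConstructible E := fun x =>
  ⟨Set.univ, isOpen_univ, trivial, {Subtype.val ⁻¹' E},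
    fun _ hT => hT ▸ h.preimage_of_isOpenEmbedding isOpen_univ.isOpenEmbedding_subtypeVal,
    (Set.sUnion_singleton _).symm⟩

section Scheme

variable {X Y : Scheme.{u}}

theorem indC_of_isInd {E : Set X} (hE : ProCons.IsIndConstructible E) {V : X.Opens}
    (hV : IsAffineOpen V) :
    IndC (R := Γ(X, V)) (hV.fromSpec ⁻¹' E) := by
  intro p hp
  obtain ⟨U, hU, hpU, S, hS, e⟩ := hE (hV.fromSpec p)
  have hmem : (⟨_, hpU⟩ : ↥U) ∈ (Subtype.val ⁻¹' E : Set ↥U) := hp
  rw [e] at hmem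
  obtain ⟨T, hT, hpT⟩ := hmem
  obtain ⟨D, -, hpD, -, hC⟩ := constr_of_locallyConstructible_nhd (R := Γ(X, V))
    hV.fromSpec.isOpenEmbedding hU hpU (hS T hT)
  refine ⟨_, hC, ⟨hpD, ⟨_, hpT, rfl⟩⟩, ?_⟩
  rintro q ⟨-, t, ht, he⟩
  show hV.fromSpec q ∈ E
  rw [← he]
  exact (e.symm ▸ (⟨T, hT, ht⟩ : t ∈ ⋃₀ S) : t ∈ (Subtype.val ⁻¹' E : Set ↥U))

theorem proC_of_isPro {E : Set X} (hE : ProCons.IsProConstructible E) {V : X.Opens}
    (hV : IsAffineOpen V) : ProC (R := Γ(X, V)) (hV.fromSpec ⁻¹' E) :=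
  indC_of_isInd ((isPro_iff_compl E).mp hE) hV

theorem isInd_of_indC {E : Set X}
    (h : ∀ (V : X.Opens) (hV : IsAffineOpen V), IndC (R := Γ(X, V)) (hV.fromSpec ⁻¹' E)) :
    ProCons.IsIndConstructible E := by
  intro x
  obtain ⟨_, ⟨V, hV, rfl⟩, hxV, -⟩ :=
    X.isBasis_affineOpens.exists_subset_of_mem_open (Set.mem_univ x) isOpen_univ
  let φ : PrimeSpectrum Γ(X, V) → (V : Set X) := fun q =>
    ⟨hV.fromSpec q, hV.range_fromSpec.le ⟨q, rfl⟩⟩
  have hφ : IsOpenEmbedding φ := IsOpenEmbedding.of_comp φ V.isOpen.isOpenEmbedding_subtypeVal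
    (g := Subtype.val) hV.fromSpec.isOpenEmbedding
  have hsurj : Function.Surjective φ := fun y => by
    obtain ⟨q, hq⟩ : (y : X) ∈ Set.range hV.fromSpec := hV.range_fromSpec.ge y.2
    exact ⟨q, Subtype.ext hq⟩
  refine ⟨V, V.isOpen, hxV,
    {T | IsLocallyConstructible T ∧ T ⊆ (Subtype.val ⁻¹' E : Set ↥(V : Set X))}, fun T hT => hT.1, ?_⟩
  refine subset_antisymm (fun y hy => ?_) (Set.sUnion_subset fun T hT => hT.2)
  obtain ⟨q, rfl⟩ := hsurj y
  obtain ⟨C, hC, hqC, hCE⟩ := h V hV q hy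
  refine ⟨φ '' C, ⟨(hC.image_of_isOpenEmbedding hφ ?_).isLocallyConstructible, ?_⟩, q, hqC, rfl⟩
  · rw [hsurj.range_eq]; exact IsRetrocompact.univ
  · rintro _ ⟨c, hc, rfl⟩; exact hCE hc

theorem isPro_of_proC {E : Set X}
    (h : ∀ (V : X.Opens) (hV : IsAffineOpen V), ProC (R := Γ(X, V)) (hV.fromSpec ⁻¹' E)) :
    ProCons.IsProConstructible E :=
  (isPro_iff_compl E).mpr (isInd_of_indC h)

/-- locally constructible iff ind- and pro-constructible -/
theorem isLocallyConstructible_iff (E : Set X) :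
    IsLocallyConstructible E ↔
      ProCons.IsIndConstructible E ∧ ProCons.IsProConstructible E := by
  refine ⟨fun h => ⟨isInd_of_locallyConstructible h, (isPro_iff_compl E).mpr
    (isInd_of_locallyConstructible (isLocallyConstructible_compl h))⟩, fun ⟨hi, hp⟩ => ?_⟩
  intro x
  obtain ⟨_, ⟨V, hV, rfl⟩, hxV, -⟩ :=
    X.isBasis_affineOpens.exists_subset_of_mem_open (Set.mem_univ x) isOpen_univ
  refine ⟨V, V.isOpen.mem_nhds hxV, V.isOpen, ?_⟩
  let φ : PrimeSpectrum Γ(X, V) → (V : Set X) := fun q =>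
    ⟨hV.fromSpec q, hV.range_fromSpec.le ⟨q, rfl⟩⟩
  have hφ : IsOpenEmbedding φ := IsOpenEmbedding.of_comp φ V.isOpen.isOpenEmbedding_subtypeVal
    (g := Subtype.val) hV.fromSpec.isOpenEmbedding
  have hsurj : Function.Surjective φ := fun y => by
    obtain ⟨q, hq⟩ : (y : X) ∈ Set.range hV.fromSpec := hV.range_fromSpec.ge y.2
    exact ⟨q, Subtype.ext hq⟩
  have h1 := isConstructible_of_indC_proC (indC_of_isInd hi hV) (proC_of_isPro hp hV)
  have h2 := h1.image_of_isOpenEmbedding hφ (by rw [hsurj.range_eq]; exact IsRetrocompact.univ)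
  convert h2 using 1
  ext y
  obtain ⟨q, rfl⟩ := hsurj y
  exact ⟨fun hy => ⟨q, hy, rfl⟩, fun ⟨q', hq', e⟩ => hφ.injective e ▸ hq'⟩

theorem isInd_preimage (f : X ⟶ Y) {E : Set Y} (hE : ProCons.IsIndConstructible E) :
    ProCons.IsIndConstructible (f.base ⁻¹' E) := by
  refine isInd_of_indC fun U hU => ?_
  intro p hp
  obtain ⟨_, ⟨V, hV, rfl⟩, hyV, -⟩ :=
    Y.isBasis_affineOpens.exists_subset_of_mem_open (Set.mem_univ (f.base (hU.fromSpec p))) isOpen_univ
  obtain ⟨_, ⟨U', hU', rfl⟩, hpU', hU'V⟩ := X.isBasis_affineOpens.exists_subset_of_mem_open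
    (show hU.fromSpec p ∈ ((U ⊓ f ⁻¹ᵁ V : X.Opens) : Set X) from
      ⟨hU.range_fromSpec ▸ ⟨p, rfl⟩, hyV⟩) (U ⊓ f ⁻¹ᵁ V).isOpen
  obtain ⟨q, hq⟩ : hU.fromSpec p ∈ Set.range hU'.fromSpec := hU'.range_fromSpec ▸ hpU'
  have hle : U' ≤ f ⁻¹ᵁ V := fun z hz => (hU'V hz).2
  have hc : ∀ r, f.base (hU'.fromSpec r) =
      hV.fromSpec (PrimeSpectrum.comap (f.appLE V U' hle).hom r) := fun r => by
    rw [← Scheme.Hom.comp_apply, ← hV.SpecMap_appLE_fromSpec f hU' hle, Scheme.Hom.comp_apply]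
    rfl
  obtain ⟨C, hC, hqC, hCE⟩ := indC_preimage (f.appLE V U' hle).hom (indC_of_isInd hE hV) q
    (show hV.fromSpec _ ∈ E by
      rw [← hc, hq]
      exact hp)
  -- move `C` to the chart `U`
  let ψ : PrimeSpectrum Γ(X, U') → PrimeSpectrum Γ(X, U) :=
    PrimeSpectrum.comap (X.presheaf.map (homOfLE (show U' ≤ U from fun z hz => (hU'V hz).1)).op).hom
  have hψc : ∀ r, hU.fromSpec (ψ r) = hU'.fromSpec r := fun r => by
    rw [← hU.map_fromSpec hU' (homOfLE (show U' ≤ U from fun z hz => (hU'V hz).1)).op]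
    rfl
  have hψ : IsOpenEmbedding ψ := by
    refine IsOpenEmbedding.of_comp ψ hU.fromSpec.isOpenEmbedding ?_
    have hcomp : (fun r => hU.fromSpec (ψ r)) = fun r => hU'.fromSpec r := funext hψc
    show IsOpenEmbedding (fun r => hU.fromSpec (ψ r))
    rw [hcomp]
    exact hU'.fromSpec.isOpenEmbedding
  refine ⟨ψ '' C, hC.image_of_isOpenEmbedding hψ ?_, ⟨q, hqC, ?_⟩, ?_⟩
  · exact (isCompact_range hψ.continuous).isRetrocompact hψ.isOpen_range
  · exact hU.fromSpec.isOpenEmbedding.injective ((hψc q).trans hq)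
  · rintro _ ⟨r, hr, rfl⟩
    show f.base (hU.fromSpec (ψ r)) ∈ E
    rw [hψc, hc]
    exact hCE hr

theorem isPro_image (f : X ⟶ Y) [QuasiCompact f] {E : Set X} (hE : ProCons.IsProConstructible E) :
    ProCons.IsProConstructible (f.base '' E) := by
  classical
  refine isPro_of_proC fun V hV => ?_
  have hcpt : IsCompact ((f ⁻¹ᵁ V : X.Opens) : Set X) :=
    QuasiCompact.isCompact_preimage (f := f) _ V.isOpen hV.isCompact
  obtain ⟨s, hs⟩ := hcpt.elim_finite_subcover
    (fun U : {U : X.Opens // IsAffineOpen U ∧ U ≤ f ⁻¹ᵁ V} => (U.1 : Set X)) (fun U => U.1.isOpen)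
    (fun z hz => by
      obtain ⟨_, ⟨U, hU, rfl⟩, hzU, hUV⟩ :=
        X.isBasis_affineOpens.exists_subset_of_mem_open hz (f ⁻¹ᵁ V).isOpen
      exact Set.mem_iUnion.mpr ⟨⟨U, hU, hUV⟩, hzU⟩)
  have hc : ∀ (U : X.Opens) (hU : IsAffineOpen U) (hle : U ≤ f ⁻¹ᵁ V) r, f.base (hU.fromSpec r) =
      hV.fromSpec (PrimeSpectrum.comap (f.appLE V U hle).hom r) := fun U hU hle r => by
    rw [← Scheme.Hom.comp_apply, ← hV.SpecMap_appLE_fromSpec f hU hle, Scheme.Hom.comp_apply]
    rfl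
  have e : (hV.fromSpec ⁻¹' (f.base '' E) : Set (PrimeSpectrum Γ(Y, V))) =
      ⋃ U ∈ s, PrimeSpectrum.comap (f.appLE V U.1 U.2.2).hom '' (U.2.1.fromSpec ⁻¹' E) := by
    ext p
    constructor
    · rintro ⟨z, hz, hzp⟩
      have hzV : z ∈ (f ⁻¹ᵁ V : X.Opens) := by
        show f.base z ∈ (V : Set Y)
        rw [hzp, ← hV.range_fromSpec]
        exact ⟨p, rfl⟩
      obtain ⟨U, hU, hzU⟩ := Set.mem_iUnion₂.mp (hs hzV)
      obtain ⟨r, rfl⟩ : z ∈ Set.range U.2.1.fromSpec := U.2.1.range_fromSpec ▸ hzU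
      exact Set.mem_iUnion₂.mpr ⟨U, hU, r, hz,
        hV.fromSpec.isOpenEmbedding.injective ((hc _ U.2.1 U.2.2 r).symm.trans hzp)⟩
    · intro hp
      obtain ⟨U, hU, r, hr, rfl⟩ := Set.mem_iUnion₂.mp hp
      exact ⟨_, hr, hc _ U.2.1 U.2.2 r⟩
  rw [e]
  exact proC_biUnion fun U _ => proC_image _ (proC_of_isPro hE U.2.1)

theorem isInd_image (f : X ⟶ Y) [LocallyOfFinitePresentation f] {E : Set X}
    (hE : ProCons.IsIndConstructible E) : ProCons.IsIndConstructible (f.base '' E) := by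
  refine isInd_of_indC fun V hV => ?_
  rintro p ⟨z, hz, hzp⟩
  have hzV : z ∈ (f ⁻¹ᵁ V : X.Opens) := by
    show f.base z ∈ (V : Set Y)
    rw [hzp, ← hV.range_fromSpec]
    exact ⟨p, rfl⟩
  obtain ⟨_, ⟨U, hU, rfl⟩, hzU, hUV⟩ :=
    X.isBasis_affineOpens.exists_subset_of_mem_open hzV (f ⁻¹ᵁ V).isOpen
  obtain ⟨r, rfl⟩ : z ∈ Set.range hU.fromSpec := hU.range_fromSpec ▸ hzU
  have hle : U ≤ f ⁻¹ᵁ V := hUV
  have hc : ∀ r, f.base (hU.fromSpec r) =
      hV.fromSpec (PrimeSpectrum.comap (f.appLE V U hle).hom r) := fun r => by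
    rw [← Scheme.Hom.comp_apply, ← hV.SpecMap_appLE_fromSpec f hU hle, Scheme.Hom.comp_apply]
    rfl
  obtain ⟨C, hC, hrC, hCE⟩ := indC_of_isInd hE hU r hz
  have hfp : (f.appLE V U hle).hom.FinitePresentation :=
    HasRingHomProperty.appLE (P := @LocallyOfFinitePresentation) f inferInstance ⟨V, hV⟩ ⟨U, hU⟩ hle
  refine ⟨_, PrimeSpectrum.isConstructible_comap_image hfp hC,
    ⟨r, hrC, hV.fromSpec.isOpenEmbedding.injective ((hc r).symm.trans hzp)⟩, ?_⟩
  rintro _ ⟨r', hr', rfl⟩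
  exact ⟨_, hCE hr', hc r'⟩

end Scheme

end Groth.Agent.H4ProCons

namespace Groth.Agent.H4ProCons

section Scheme2

variable {X : Scheme.{u}}

theorem isInd_of_isOpen {U : Set X} (hU : IsOpen U) : ProCons.IsIndConstructible U := by
  refine isInd_of_indC fun V hV p hp => ?_
  obtain ⟨_, ⟨f, rfl⟩, hpf, hfU⟩ := PrimeSpectrum.isTopologicalBasis_basic_opens
    |>.exists_subset_of_mem_open (show p ∈ hV.fromSpec ⁻¹' U from hp)
      (hU.preimage hV.fromSpec.continuous)
  exact ⟨_, (PrimeSpectrum.isCompact_basicOpen f).isConstructible (PrimeSpectrum.basicOpen f).2,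
    hpf, hfU⟩

theorem isPro_univ : ProCons.IsProConstructible (Set.univ : Set X) :=
  (isPro_iff_compl _).mpr (by rw [Set.compl_univ]; exact isInd_of_isOpen isOpen_empty)

theorem exists_affine_finite_cover [CompactSpace X] :
    ∃ s : Finset X.affineOpens, ∀ x : X, ∃ V ∈ s, x ∈ V.1 := by
  obtain ⟨s, hs⟩ := isCompact_univ.elim_finite_subcover
    (fun V : X.affineOpens => (V.1 : Set X)) (fun V => V.1.isOpen) (fun x _ => by
      obtain ⟨_, ⟨V, hV, rfl⟩, hxV, -⟩ :=
        X.isBasis_affineOpens.exists_subset_of_mem_open (Set.mem_univ x) isOpen_univ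
      exact Set.mem_iUnion.mpr ⟨⟨V, hV⟩, hxV⟩)
  refine ⟨s, fun x => ?_⟩
  obtain ⟨V, hV, hxV⟩ := Set.mem_iUnion₂.mp (hs (Set.mem_univ x))
  exact ⟨V, hV, hxV⟩

/-- compactness of pro-constructible sets for ind-constructible covers -/
theorem exists_finite_subcover [CompactSpace X] {F : Set X} (hF : ProCons.IsProConstructible F)
    {ι : Type*} (E : ι → Set X) (hE : ∀ i, ProCons.IsIndConstructible (E i))
    (h : F ⊆ ⋃ i, E i) : ∃ J : Finset ι, F ⊆ ⋃ i ∈ J, E i := by
  classical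
  obtain ⟨s, hs⟩ := exists_affine_finite_cover (X := X)
  have key : ∀ V : X.affineOpens, ∃ J : Finset ι, F ∩ (V.1 : Set X) ⊆ ⋃ i ∈ J, E i := by
    rintro ⟨V, hV⟩
    choose i hi using fun p : (hV.fromSpec ⁻¹' F : Set (PrimeSpectrum Γ(X, V))) =>
      Set.mem_iUnion.mp (h p.2)
    choose C hC hpC hCE using fun p : (hV.fromSpec ⁻¹' F : Set (PrimeSpectrum Γ(X, V))) =>
      indC_of_isInd (hE (i p)) hV p.1 (hi p)
    obtain ⟨t, ht⟩ := finite_cover (proC_of_isPro hF hV) C hC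
      (fun p hp => Set.mem_iUnion.mpr ⟨⟨p, hp⟩, hpC _⟩)
    refine ⟨t.image i, ?_⟩
    rintro x ⟨hxF, hxV⟩
    rw [← hV.range_fromSpec] at hxV
    obtain ⟨p, rfl⟩ := hxV
    obtain ⟨q, hq, hpq⟩ := Set.mem_iUnion₂.mp (ht hxF)
    exact Set.mem_iUnion₂.mpr ⟨i q, Finset.mem_image_of_mem i hq, hCE q hpq⟩
  choose J hJ using key
  refine ⟨s.biUnion J, fun x hx => ?_⟩
  obtain ⟨V, hV, hxV⟩ := hs x
  obtain ⟨i, hi, hxi⟩ := Set.mem_iUnion₂.mp (hJ V ⟨hx, hxV⟩)
  exact Set.mem_iUnion₂.mpr ⟨i, Finset.mem_biUnion.mpr ⟨V, hV, hi⟩, hxi⟩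

/-- a pro-constructible set of a qcqs scheme is the image of an affine scheme -/
theorem exists_affine_range [CompactSpace X] {E : Set X} (hE : ProCons.IsProConstructible E) :
    ∃ (X' : Scheme.{u}) (f : X' ⟶ X), IsAffine X' ∧ Set.range f.base = E := by
  classical
  obtain ⟨s, hs⟩ := exists_affine_finite_cover (X := X)
  have key : ∀ V : X.affineOpens, ∃ (S : CommRingCat.{u}) (g : Spec S ⟶ X),
      Set.range g.base = E ∩ (V.1 : Set X) := by
    rintro ⟨V, hV⟩
    let φ := Pi.ringHom (f := fun p : (hV.fromSpec ⁻¹' E : Set (PrimeSpectrum Γ(X, V))) =>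
      p.1.asIdeal.ResidueField) fun p => algebraMap Γ(X, V) p.1.asIdeal.ResidueField
    refine ⟨_, Spec.map (CommRingCat.ofHom φ) ≫ hV.fromSpec, ?_⟩
    rw [Scheme.Hom.comp_base, TopCat.coe_comp, Set.range_comp]
    have h1 : Set.range (Spec.map (CommRingCat.ofHom φ)).base = hV.fromSpec ⁻¹' E :=
      range_pi_residueField (proC_of_isPro hE hV)
    rw [h1, Set.image_preimage_eq_inter_range, hV.range_fromSpec]
  choose S g hg using key
  let g' : ∀ V : s, Spec (S V.1) ⟶ X := fun V => g V.1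
  refine ⟨∐ fun V : s => Spec (S V.1), Limits.Sigma.desc g', inferInstance, ?_⟩
  have hι : ∀ (V : s) (z), (Limits.Sigma.desc g').base
      ((Limits.Sigma.ι (fun V : s => Spec (S V.1)) V).base z) = (g V.1).base z := fun V z => by
    rw [← Scheme.Hom.comp_apply, Limits.Sigma.ι_desc]
  apply Set.Subset.antisymm
  · rintro _ ⟨y, rfl⟩
    obtain ⟨V, z, rfl⟩ := (sigmaOpenCover fun V : s => Spec (S V.1)).exists_eq y
    have := (hg V.1).le ⟨z, rfl⟩
    rw [← hι] at this
    exact this.1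
  · intro x hx
    obtain ⟨V, hV, hxV⟩ := hs x
    obtain ⟨z, hz⟩ := (hg V).ge ⟨hx, hxV⟩
    exact ⟨_, (hι ⟨V, hV⟩ z).trans hz⟩

theorem isInd_iff_compl (E : Set X) :
    ProCons.IsIndConstructible E ↔ ProCons.IsProConstructible Eᶜ := by
  rw [isPro_iff_compl, compl_compl]

/-- in a qcqs scheme the pro-constructible sets are the intersections of constructible sets -/
theorem isPro_iff_sInter [CompactSpace X] [QuasiSeparatedSpace X] (E : Set X) :
    ProCons.IsProConstructible E ↔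
      ∃ S : Set (Set X), (∀ s ∈ S, IsConstructible s) ∧ E = ⋂₀ S := by
  constructor
  · intro hE
    refine ⟨{s | IsConstructible s ∧ E ⊆ s}, fun s hs => hs.1,
      subset_antisymm (Set.subset_sInter fun s hs => hs.2) fun x hx => ?_⟩
    by_contra hxE
    obtain ⟨_, ⟨V, hV, rfl⟩, hxV, -⟩ :=
      X.isBasis_affineOpens.exists_subset_of_mem_open (Set.mem_univ x) isOpen_univ
    rw [← hV.range_fromSpec] at hxV
    obtain ⟨p, rfl⟩ := hxV
    obtain ⟨C, hC, hpC, hCE⟩ := proC_of_isPro hE hV p hxE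
    have h1 : IsConstructible (hV.fromSpec '' C) := by
      refine hC.image_of_isOpenEmbedding hV.fromSpec.isOpenEmbedding ?_
      rw [hV.range_fromSpec]
      exact hV.isCompact.isRetrocompact V.isOpen
    refine hx _ ⟨h1.compl, ?_⟩ ⟨p, hpC, rfl⟩
    rintro y hy ⟨q, hq, rfl⟩
    exact hCE hq hy
  · rintro ⟨S, hS, rfl⟩ x
    refine ⟨Set.univ, isOpen_univ, trivial, (Subtype.val ⁻¹' ·) '' S, ?_, ?_⟩
    · rintro _ ⟨T, hT, rfl⟩
      exact (hS T hT).isLocallyConstructible.preimage_of_isOpenEmbedding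
        isOpen_univ.isOpenEmbedding_subtypeVal
    · ext y
      simp

/-! constructible topology -/

theorem indC_of_isOpen_constr [QuasiSeparatedSpace X] {E : Set X}
    (hE : IsOpen[constructibleTopology X] E) {V : X.Opens} (hV : IsAffineOpen V) :
    IndC (R := Γ(X, V)) (hV.fromSpec ⁻¹' E) := by
  induction hE with
  | basic W hW =>
    refine indC_constructible ?_
    have key : ∀ W : Set X, IsOpen W → IsCompact W →
        IsConstructible (hV.fromSpec ⁻¹' W : Set (PrimeSpectrum Γ(X, V))) := by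
      intro W hWo hWc
      have hc : IsCompact (hV.fromSpec ⁻¹' W) := by
        rw [hV.fromSpec.isOpenEmbedding.isInducing.isCompact_iff, Set.image_preimage_eq_inter_range,
          hV.range_fromSpec]
        exact hWc.inter_of_isOpen hV.isCompact hWo V.isOpen
      exact hc.isConstructible (hWo.preimage hV.fromSpec.continuous)
    rcases hW with ⟨ho, hc⟩ | ⟨hcl, hc⟩
    · exact key W ho hc
    · have := (key Wᶜ hcl.isOpen_compl hc).compl
      rwa [← Set.preimage_compl, compl_compl] at this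
  | univ => exact indC_constructible IsConstructible.univ
  | inter s t _ _ hs ht =>
    intro p hp
    obtain ⟨C, hC, hpC, hCs⟩ := hs p hp.1
    obtain ⟨D, hD, hpD, hDt⟩ := ht p hp.2
    exact ⟨C ∩ D, hC.inter hD, ⟨hpC, hpD⟩, fun q hq => ⟨hCs hq.1, hDt hq.2⟩⟩
  | sUnion S _ hS =>
    rintro p ⟨t, ht, hpt⟩
    obtain ⟨C, hC, hpC, hCt⟩ := hS t ht p hpt
    exact ⟨C, hC, hpC, fun q hq => ⟨t, ht, hCt hq⟩⟩

theorem isOpen_constr_of_isInd [QuasiSeparatedSpace X] {E : Set X}
    (hE : ProCons.IsIndConstructible E) : IsOpen[constructibleTopology X] E := by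
  refine (@isOpen_iff_forall_mem_open _ (constructibleTopology X) _).mpr fun x hx => ?_
  obtain ⟨_, ⟨V, hV, rfl⟩, hxV, -⟩ :=
    X.isBasis_affineOpens.exists_subset_of_mem_open (Set.mem_univ x) isOpen_univ
  rw [← hV.range_fromSpec] at hxV
  obtain ⟨p, rfl⟩ := hxV
  obtain ⟨C, hC, hpC, hCE⟩ := indC_of_isInd hE hV p hx
  obtain ⟨S, hS⟩ := PrimeSpectrum.exists_constructibleSetData_iff.mpr hC
  rw [← hS] at hpC hCE
  obtain ⟨B, hB, hpB⟩ := Set.mem_iUnion₂.mp hpC
  have hco : ∀ W : Set (PrimeSpectrum Γ(X, V)), IsCompact W → IsOpen W →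
      IsCompact (hV.fromSpec '' W) ∧ IsOpen (hV.fromSpec '' W) := fun W hc ho =>
    ⟨hc.image hV.fromSpec.continuous, hV.fromSpec.isOpenEmbedding.isOpenMap _ ho⟩
  have h1 := hco _ (PrimeSpectrum.isRetrocompact_zeroLocus_compl (Set.finite_singleton B.f)).isCompact
    (PrimeSpectrum.isClosed_zeroLocus _).isOpen_compl
  have h2 := hco _ (PrimeSpectrum.isRetrocompact_zeroLocus_compl (Set.finite_range B.g)).isCompact
    (PrimeSpectrum.isClosed_zeroLocus _).isOpen_compl
  refine ⟨hV.fromSpec '' (PrimeSpectrum.zeroLocus {B.f})ᶜ ∩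
    (hV.fromSpec '' (PrimeSpectrum.zeroLocus (Set.range B.g))ᶜ)ᶜ, ?_, ?_, ⟨⟨p, hpB.2, rfl⟩, ?_⟩⟩
  · rintro _ ⟨⟨q, hqf, rfl⟩, hqg⟩
    refine hCE (Set.mem_iUnion₂.mpr ⟨B, hB, ?_, hqf⟩)
    by_contra hq
    exact hqg ⟨q, hq, rfl⟩
  · refine @IsOpen.inter _ (constructibleTopology X) _ _
      (IsCompact.isOpen_constructibleTopology_of_isOpen h1.1 h1.2) ?_
    exact IsCompact.isOpen_constructibleTopology_of_isClosed (by rw [compl_compl]; exact h2.1)
      h2.2.isClosed_compl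
  · rintro ⟨q, hq, e⟩
    exact hq (hV.fromSpec.isOpenEmbedding.injective e ▸ hpB.1)

theorem isOpen_constr_iff [QuasiSeparatedSpace X] (E : Set X) :
    IsOpen[constructibleTopology X] E ↔ ProCons.IsIndConstructible E :=
  ⟨fun h => isInd_of_indC fun _ hV => indC_of_isOpen_constr h hV, isOpen_constr_of_isInd⟩

/-- a quasi-compact open is compact in the constructible topology -/
theorem isCompact_constr [QuasiSeparatedSpace X] {K : Set X} (ho : IsOpen K) (hc : IsCompact K) :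
    @IsCompact X (constructibleTopology X) K := by
  classical
  haveI : CompactSpace ↥K := isCompact_iff_compactSpace.mp hc
  obtain ⟨t, ht⟩ : ∃ t : Finset X.affineOpens, K = ⋃ V ∈ t, (V.1 : Set X) := by
    obtain ⟨t, ht⟩ := hc.elim_finite_subcover
      (fun V : {V : X.affineOpens // (V.1 : Set X) ⊆ K} => (V.1.1 : Set X)) (fun V => V.1.1.isOpen)
      (fun x hx => by
        obtain ⟨_, ⟨V, hV, rfl⟩, hxV, hVK⟩ :=
          X.isBasis_affineOpens.exists_subset_of_mem_open hx ho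
        exact Set.mem_iUnion.mpr ⟨⟨⟨V, hV⟩, hVK⟩, hxV⟩)
    refine ⟨t.image Subtype.val, subset_antisymm (fun x hx => ?_) ?_⟩
    · obtain ⟨V, hV, hxV⟩ := Set.mem_iUnion₂.mp (ht hx)
      exact Set.mem_iUnion₂.mpr ⟨V.1, Finset.mem_image_of_mem _ hV, hxV⟩
    · refine Set.iUnion₂_subset fun V hV => ?_
      obtain ⟨W, -, rfl⟩ := Finset.mem_image.mp hV
      exact W.2
  rw [ht]
  refine @Finset.isCompact_biUnion _ _ (constructibleTopology X) t _ fun V _ => ?_
  obtain ⟨V, hV⟩ := V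
  rw [@isCompact_iff_finite_subcover _ (constructibleTopology X)]
  intro ι U hUo hcov
  choose i hi using fun p : PrimeSpectrum Γ(X, V) =>
    Set.mem_iUnion.mp (hcov (hV.range_fromSpec.le ⟨p, rfl⟩))
  choose C hC hpC hCU using fun p : PrimeSpectrum Γ(X, V) =>
    indC_of_isOpen_constr (hUo (i p)) hV p (hi p)
  obtain ⟨t, ht⟩ := finite_cover (R := Γ(X, V)) (proC_constructible IsConstructible.univ) C hC
    (fun p _ => Set.mem_iUnion.mpr ⟨p, hpC p⟩)
  refine ⟨t.image i, fun x hx => ?_⟩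
  obtain ⟨p, rfl⟩ : x ∈ Set.range hV.fromSpec := hV.range_fromSpec.ge hx
  obtain ⟨q, hq, hpq⟩ := Set.mem_iUnion₂.mp (ht (Set.mem_univ p))
  exact Set.mem_iUnion₂.mpr ⟨i q, Finset.mem_image_of_mem i hq, hCU q hpq⟩

end Scheme2

end Groth.Agent.H4ProCons
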