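import Mathlib
import Groth.Prelude.Def_AnPts
import Groth.Agent.Lib.H4AnPts
import Groth.Agent.Lib.H4AnAffine
import Groth.Agent.Lib.H4AnDense
import Groth.Agent.Lib.H4ProCons
import Groth.Agent.Lib.H6.ProConsSpec

/-!
Closure of constructible sets and ℂ-points.
-/

set_option autoImplicit false

open AlgebraicGeometry CategoryTheory TopologicalSpace Topology Opposite

namespace Groth.Agent.H4AnClosure

open An H4AnPts H4AnAffine

lemma mem_asIdeal_iff {W : Scheme.{0}} [W.Over SC] [IsAffine W] (b : Pts W) (r : Γ(W, ⊤)) :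
    r ∈ (W.isoSpec.hom b.pt).asIdeal ↔ evTopHom b r = 0 := by
  rw [← not_iff_not, ← ne_eq, ← mem_basicOpen_iff]
  have : (W.isoSpec.hom b.pt) ∈ PrimeSpectrum.basicOpen r ↔ b.pt ∈ W.basicOpen r := by
    rw [← W.toSpecΓ_preimage_basicOpen r]; rfl
  exact this

lemma exists_affine_near {W : Scheme.{0}} [W.Over SC] [IsAffine W] [LocallyOfFiniteType (W ↘ SC)]
    {T : Set W} (hT : IsLocallyConstructible T) (a : Pts W) (ha : a.pt ∈ closure T)
    {O : Set (Pts W)} (hO : IsOpen O) (haO : a ∈ O) : ∃ b ∈ O, b.pt ∈ T := by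
  let e : Spec Γ(W, ⊤) ⟶ W := W.isoSpec.inv
  have hS : IsConstructible (e ⁻¹' T : Set (Spec Γ(W, ⊤))) :=
    (hT.preimage_of_isOpenEmbedding e.isOpenEmbedding).isConstructible
  have hee : ∀ w : W, e (W.isoSpec.hom w) = w := fun w => by
    rw [← Scheme.Hom.comp_apply]
    simp [e]
  have hp : (W.isoSpec.hom a.pt) ∈ closure (e ⁻¹' T : Set (Spec Γ(W, ⊤))) := by
    rw [← e.isOpenEmbedding.isOpenMap.preimage_closure_eq_closure_preimage e.continuous,
      Set.mem_preimage, hee]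
    exact ha
  let S₀ : Set (PrimeSpectrum Γ(W, ⊤)) := e ⁻¹' T
  obtain ⟨q, hq, hqp⟩ := H6.ProConsSpec.exists_specializes_of_mem_closure
    (A := Γ(W, ⊤)) ({S₀} : Set (Set (PrimeSpectrum Γ(W, ⊤)))) (by rintro _ rfl; exact hS)
    (p := W.isoSpec.hom a.pt) (by rw [Set.sInter_singleton]; exact hp)
  rw [Set.sInter_singleton] at hq
  obtain ⟨D, hD⟩ := PrimeSpectrum.exists_constructibleSetData_iff.2 hS
  have hqD : q ∈ D.toSet := by rw [hD]; exact hq
  simp only [PrimeSpectrum.ConstructibleSetData.toSet, Set.mem_iUnion] at hqD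
  obtain ⟨Cd, hCd, hqg, hqf⟩ := hqD
  have hle : q.asIdeal ≤ (W.isoSpec.hom a.pt).asIdeal :=
    (PrimeSpectrum.le_iff_specializes q (W.isoSpec.hom a.pt)).2 hqp
  obtain ⟨n, s, hs⟩ := exists_gens (X := W)
  let : Algebra ℂ Γ(W, ⊤) := (strHom W).toAlgebra
  have : Algebra.FiniteType ℂ Γ(W, ⊤) :=
    Algebra.FiniteType.of_surjective
        (MvPolynomial.aeval (R := ℂ) s) (fun t => by
          obtain ⟨p, hp⟩ := hs t
          exact ⟨p, hp⟩)
  have : Algebra.FiniteType ℂ (Γ(W, ⊤) ⧸ q.asIdeal) :=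
    Algebra.FiniteType.of_surjective (Ideal.Quotient.mkₐ ℂ q.asIdeal) Ideal.Quotient.mk_surjective
  let Φ₀ : (Γ(W, ⊤) ⧸ q.asIdeal) →ₐ[ℂ] ℂ := Ideal.Quotient.liftₐ q.asIdeal
    (AlgHom.mk (evTopHom a) (fun c => evTopHom_strHom a c))
    (fun r hr => (mem_asIdeal_iff a r).1 (hle hr))
  have hf : Ideal.Quotient.mk q.asIdeal Cd.f ≠ 0 := by
    rw [Ne, Ideal.Quotient.eq_zero_iff_mem]
    intro h
    exact hqf (by simpa using h)
  obtain ⟨O₂, hO₂, hOO⟩ := (isInducing_gens s hs).isOpen_iff.1 hO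
  obtain ⟨Φ, hΦf, hΦO⟩ := H4AnDense.exists_point_near
    (fun i => Ideal.Quotient.mk q.asIdeal (s i)) Φ₀ hf hO₂
    (by
      rw [← hOO] at haO
      exact haO)
  obtain ⟨b, hb⟩ := exists_pts (X := W) (Φ.toRingHom.comp (Ideal.Quotient.mk q.asIdeal))
    (RingHom.ext fun c => Φ.commutes c)
  refine ⟨b, ?_, ?_⟩
  · rw [← hOO]
    show (fun i => b.evTop (s i)) ∈ O₂
    have : (fun i => b.evTop (s i)) = fun i => Φ (Ideal.Quotient.mk q.asIdeal (s i)) :=
      funext fun i => (RingHom.congr_fun hb (s i))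
    rw [this]
    exact hΦO
  · have hbD : (W.isoSpec.hom b.pt) ∈ D.toSet := by
      refine Set.mem_iUnion₂.2 ⟨Cd, hCd, ?_, ?_⟩
      · intro r hr
        rw [SetLike.mem_coe, mem_asIdeal_iff, hb]
        show Φ (Ideal.Quotient.mk q.asIdeal r) = 0
        rw [Ideal.Quotient.eq_zero_iff_mem.2 (hqg hr), map_zero]
      · intro h
        have h' : Cd.f ∈ (W.isoSpec.hom b.pt).asIdeal := h rfl
        rw [mem_asIdeal_iff, hb] at h'
        exact hΦf h'
    have hbT : e (W.isoSpec.hom b.pt) ∈ T := by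
      rw [hD] at hbD
      exact hbD
    rwa [hee] at hbT

variable {X : Scheme.{0}} [X.Over SC] [LocallyOfFiniteType (X ↘ SC)]

theorem preimage_closure {T : Set X} (hT : IsLocallyConstructible T) :
    (Pts.pt ⁻¹' closure T : Set (Pts X)) = closure (Pts.pt ⁻¹' T) := by
  refine Set.Subset.antisymm (fun a ha => ?_) (Pts.continuous_pt.closure_preimage_subset T)
  rw [mem_closure_iff]
  intro O hO haO
  obtain ⟨U, hU, haU, -⟩ := exists_isAffineOpen_mem_and_subset (x := a.pt) (U := (⊤ : X.Opens)) trivial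
  let iU : U.toScheme.Over SC := ⟨U.ι ≫ X ↘ SC⟩
  have : U.ι.IsOver SC := ⟨rfl⟩
  have : IsAffine U.toScheme := hU
  have : LocallyOfFiniteType (U.toScheme ↘ SC) := by
    show LocallyOfFiniteType (U.ι ≫ X ↘ SC); infer_instance
  obtain ⟨a', rfl⟩ : a ∈ Set.range (Pts.map U.ι) := by
    rw [range_map]; simpa using haU
  have ha' : a'.pt ∈ closure (U.ι ⁻¹' T) := by
    rw [← U.ι.isOpenEmbedding.isOpenMap.preimage_closure_eq_closure_preimage U.ι.continuous,
      Set.mem_preimage, ← Pts.pt_map]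
    exact ha
  obtain ⟨b, hbO, hbT⟩ := exists_affine_near
    (hT.preimage_of_isOpenEmbedding U.ι.isOpenEmbedding) a' ha'
    (hO.preimage (Pts.continuous_map U.ι)) haO
  refine ⟨Pts.map U.ι b, hbO, ?_⟩
  rw [Set.mem_preimage, Pts.pt_map]
  exact hbT

theorem isLocallyConstructible_of_isLocallyClosed {Z : Set X} (hZ : IsLocallyClosed Z) :
    IsLocallyConstructible Z := by
  have : IsLocallyNoetherian X := LocallyOfFiniteType.isLocallyNoetherian (X ↘ SC)
  intro x
  obtain ⟨U, hU, hxU, -⟩ := exists_isAffineOpen_mem_and_subset (x := x) (U := (⊤ : X.Opens)) trivial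
  refine ⟨U, U.2.mem_nhds hxU, U.2, ?_⟩
  have : IsNoetherianRing Γ(X, U) := IsLocallyNoetherian.component_noetherian ⟨U, hU⟩
  have : NoetherianSpace (U : Set X) := by
    have := noetherianSpace_of_isAffineOpen U hU
    exact this
  obtain ⟨V, C, hV, hC, rfl⟩ := hZ
  have hr : ∀ s : Set (U : Set X), IsOpen s → IsConstructible s := fun s hs => by
    have : IsRetrocompact s := fun t _ _ => NoetherianSpace.isCompact _
    exact this.isConstructible hs
  show IsConstructible (Subtype.val ⁻¹' (V ∩ C))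
  rw [Set.preimage_inter]
  refine (hr _ (hV.preimage continuous_subtype_val)).inter ?_
  rw [← compl_compl (Subtype.val ⁻¹' C : Set (U : Set X))]
  exact (hr _ (hC.preimage continuous_subtype_val).isOpen_compl).compl

theorem isOpen_of_isOpen_preimage {T : Set X} (hT : IsLocallyConstructible T)
    (h : IsOpen (Pts.pt ⁻¹' T : Set (Pts X))) : IsOpen T := by
  rw [← isClosed_compl_iff, ← closure_subset_iff_isClosed]
  intro x hx hxT
  obtain ⟨a, haT, hac⟩ := exists_pt_mem_inter (X := X) hT (isClosed_closure (s := Tᶜ)) ⟨x, hxT, hx⟩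
  have hc := preimage_closure (X := X) (H4ProCons.isLocallyConstructible_compl hT)
  have : a ∈ (Pts.pt ⁻¹' closure Tᶜ : Set (Pts X)) := hac
  rw [hc, Set.preimage_compl, h.isClosed_compl.closure_eq] at this
  exact this haT

theorem dense_iff {T : Set X} (hT : IsLocallyConstructible T) :
    Dense T ↔ Dense (Pts.pt ⁻¹' T : Set (Pts X)) := by
  constructor
  · intro h
    rw [dense_iff_closure_eq, ← preimage_closure hT, h.closure_eq, Set.preimage_univ]
  · intro h x
    by_contra hx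
    obtain ⟨a, ha⟩ := exists_pt_mem (X := X) (Z := (closure T)ᶜ) ⟨x, hx⟩
      isClosed_closure.isOpen_compl.isLocallyClosed
    have : a ∈ closure (Pts.pt ⁻¹' T : Set (Pts X)) := h a
    rw [← preimage_closure hT] at this
    exact ha this

end Groth.Agent.H4AnClosure
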