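import Mathlib
import Groth.Prelude.Def_AnPts
import Groth.Agent.Lib.H4AnPts
import Groth.Agent.Lib.H4AnAffine
import Groth.Agent.Lib.H4AnClosure

/-!
ℂ-points of fibre products, separatedness.
-/

set_option autoImplicit false

open AlgebraicGeometry CategoryTheory Limits TopologicalSpace Topology Opposite

namespace Groth.Agent.H4AnPullback

open An H4AnPts H4AnAffine

lemma lft_pullback {X Y S : Scheme.{0}} [X.Over SC] [Y.Over SC] [S.Over SC]
    [LocallyOfFiniteType (X ↘ SC)] [LocallyOfFiniteType (Y ↘ SC)]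
    (f : X ⟶ S) (g : Y ⟶ S) [f.IsOver SC] [g.IsOver SC] :
    LocallyOfFiniteType (pullback f g ↘ SC) := by
  have : LocallyOfFiniteType g := by
    have : LocallyOfFiniteType (g ≫ S ↘ SC) := by rw [comp_over g]; infer_instance
    exact locallyOfFiniteType_of_comp g (S ↘ SC)
  show LocallyOfFiniteType (pullback.fst f g ≫ X ↘ SC)
  infer_instance

lemma isInducing_affine {A B W : Scheme.{0}} [A.Over SC] [B.Over SC] [W.Over SC]
    [IsAffine A] [IsAffine B] [IsAffine W] [LocallyOfFiniteType (A ↘ SC)]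
    [LocallyOfFiniteType (B ↘ SC)] (f : A ⟶ W) (g : B ⟶ W) [f.IsOver SC] [g.IsOver SC] :
    IsInducing (fun z : Pts (pullback f g) =>
      (Pts.map (pullback.fst f g) z, Pts.map (pullback.snd f g) z)) := by
  obtain ⟨n, s, hs⟩ := exists_gens (X := A)
  obtain ⟨m, t, ht⟩ := exists_gens (X := B)
  let u : Fin (n + m) → Γ(pullback f g, ⊤) :=
    Fin.append (fun i => (pullback.fst f g).appTop (s i)) (fun j => (pullback.snd f g).appTop (t j))
  let F := MvPolynomial.eval₂Hom (strHom (pullback f g)) u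
  have hA : ∀ p, F (MvPolynomial.rename (Fin.castAdd m) p) =
      (pullback.fst f g).appTop (MvPolynomial.eval₂Hom (strHom A) s p) := fun p => by
    have : F.comp (MvPolynomial.rename (Fin.castAdd m)).toRingHom =
        (pullback.fst f g).appTop.hom.comp (MvPolynomial.eval₂Hom (strHom A) s) := by
      refine MvPolynomial.ringHom_ext (fun c => ?_) (fun i => ?_)
      · simp only [F, RingHom.comp_apply, AlgHom.toRingHom_eq_coe, RingHom.coe_coe,
          MvPolynomial.rename_C, MvPolynomial.eval₂Hom_C]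
        exact congrArg (fun φ => φ ((Scheme.ΓSpecIso (CommRingCat.of ℂ)).inv c))
          (Scheme.Hom.comp_appTop (pullback.fst f g) (A ↘ SC))
      · simp [F, u]
    exact RingHom.congr_fun this p
  have hB : ∀ p, F (MvPolynomial.rename (Fin.natAdd n) p) =
      (pullback.snd f g).appTop (MvPolynomial.eval₂Hom (strHom B) t p) := fun p => by
    have : F.comp (MvPolynomial.rename (Fin.natAdd n)).toRingHom =
        (pullback.snd f g).appTop.hom.comp (MvPolynomial.eval₂Hom (strHom B) t) := by
      refine MvPolynomial.ringHom_ext (fun c => ?_) (fun i => ?_)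
      · simp only [F, RingHom.comp_apply, AlgHom.toRingHom_eq_coe, RingHom.coe_coe,
          MvPolynomial.rename_C, MvPolynomial.eval₂Hom_C]
        have h := congrArg (fun φ : pullback f g ⟶ SC => φ.appTop)
          (comp_over (pullback.snd f g) (S := SC))
        rw [Scheme.Hom.comp_appTop] at h
        exact (congrArg (fun φ => φ ((Scheme.ΓSpecIso (CommRingCat.of ℂ)).inv c)) h).symm
      · simp [F, u]
    exact RingHom.congr_fun this p
  have hsurj : Function.Surjective F := by
    have hpo := isPushout_appTop_of_isPullback (IsPullback.of_hasPullback f g)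
    let cA : Γ(A, ⊤) ⟶ CommRingCat.of F.range := CommRingCat.ofHom
      ((pullback.fst f g).appTop.hom.codRestrict F.range fun a => by
        obtain ⟨p, rfl⟩ := hs a; exact ⟨_, hA p⟩)
    let cB : Γ(B, ⊤) ⟶ CommRingCat.of F.range := CommRingCat.ofHom
      ((pullback.snd f g).appTop.hom.codRestrict F.range fun b => by
        obtain ⟨p, rfl⟩ := ht b; exact ⟨_, hB p⟩)
    have hw : f.appTop ≫ cA = g.appTop ≫ cB := by
      refine CommRingCat.hom_ext (RingHom.ext fun w => Subtype.ext ?_)
      exact congrArg (fun φ => φ w) hpo.w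
    let d := hpo.desc cA cB hw
    have hd : d ≫ CommRingCat.ofHom F.range.subtype = 𝟙 _ := by
      refine hpo.hom_ext ?_ ?_
      · rw [hpo.inl_desc_assoc, Category.comp_id]; rfl
      · rw [hpo.inr_desc_assoc, Category.comp_id]; rfl
    intro x
    obtain ⟨p, hp⟩ := (d x).2
    exact ⟨p, hp.trans (congrArg (fun φ => φ x) hd)⟩
  have h := isInducing_gens u hsurj
  let ev : Pts A × Pts B → (Fin (n + m) → ℂ) := fun q =>
    Fin.append (fun i => q.1.evTop (s i)) (fun j => q.2.evTop (t j))
  have hev : Continuous ev := by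
    refine continuous_pi fun k => ?_
    refine Fin.addCases (fun i => ?_) (fun j => ?_) k
    · simp only [ev, Fin.append_left]
      exact ((continuous_apply i).comp (isInducing_gens s hs).continuous).comp continuous_fst
    · simp only [ev, Fin.append_right]
      exact ((continuous_apply j).comp (isInducing_gens t ht).continuous).comp continuous_snd
  refine IsInducing.of_comp ((Pts.continuous_map _).prodMk (Pts.continuous_map _)) hev ?_
  convert h using 1
  funext z k
  refine Fin.addCases (fun i => ?_) (fun j => ?_) k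
  · simp only [ev, u, Function.comp_apply, Fin.append_left]
    exact Pts.ev_map _ _ _ _ _
  · simp only [ev, u, Function.comp_apply, Fin.append_right]
    exact Pts.ev_map _ _ _ _ _

variable {X Y S : Scheme.{0}} [X.Over SC] [Y.Over SC] [S.Over SC]
    [LocallyOfFiniteType (X ↘ SC)] [LocallyOfFiniteType (Y ↘ SC)] [LocallyOfFiniteType (S ↘ SC)]

lemma isInducing_pullback (f : X ⟶ S) (g : Y ⟶ S) [f.IsOver SC] [g.IsOver SC] :
    IsInducing (fun z : Pts (pullback f g) =>
      (Pts.map (pullback.fst f g) z, Pts.map (pullback.snd f g) z)) := by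
  set Φ := fun z : Pts (pullback f g) =>
      (Pts.map (pullback.fst f g) z, Pts.map (pullback.snd f g) z) with hΦdef
  have hc : Continuous Φ := (Pts.continuous_map _).prodMk (Pts.continuous_map _)
  refine ⟨le_antisymm hc.le_induced ?_⟩
  intro G hG
  rw [@isOpen_iff_forall_mem_open]
  intro z hz
  have hfg : f ((Pts.map (pullback.fst f g) z).pt) = g ((Pts.map (pullback.snd f g) z).pt) := by
    rw [Pts.pt_map, Pts.pt_map, ← Scheme.Hom.comp_apply, ← Scheme.Hom.comp_apply, pullback.condition]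
  obtain ⟨W, hW, hzW, -⟩ := exists_isAffineOpen_mem_and_subset
    (x := f ((Pts.map (pullback.fst f g) z).pt)) (U := (⊤ : S.Opens)) trivial
  obtain ⟨U, hU, hzU, hUW⟩ := exists_isAffineOpen_mem_and_subset
    (x := (Pts.map (pullback.fst f g) z).pt) (U := f ⁻¹ᵁ W) hzW
  obtain ⟨V, hV, hzV, hVW⟩ := exists_isAffineOpen_mem_and_subset
    (x := (Pts.map (pullback.snd f g) z).pt) (U := g ⁻¹ᵁ W)
    (show g _ ∈ W by rw [← hfg]; exact hzW)
  let iW : W.toScheme.Over SC := ⟨W.ι ≫ S ↘ SC⟩
  let iU : U.toScheme.Over SC := ⟨U.ι ≫ X ↘ SC⟩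
  let iV : V.toScheme.Over SC := ⟨V.ι ≫ Y ↘ SC⟩
  have : W.ι.IsOver SC := ⟨rfl⟩
  have : U.ι.IsOver SC := ⟨rfl⟩
  have : V.ι.IsOver SC := ⟨rfl⟩
  have : IsAffine U.toScheme := hU
  have : IsAffine V.toScheme := hV
  have : IsAffine W.toScheme := hW
  have : LocallyOfFiniteType (U.toScheme ↘ SC) := by
    show LocallyOfFiniteType (U.ι ≫ X ↘ SC); infer_instance
  have : LocallyOfFiniteType (V.toScheme ↘ SC) := by
    show LocallyOfFiniteType (V.ι ≫ Y ↘ SC); infer_instance
  have hrU : Set.range (U.ι ≫ f) ⊆ Set.range W.ι := by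
    rintro _ ⟨a, rfl⟩; rw [Scheme.Opens.range_ι, Scheme.Hom.comp_apply]; exact hUW a.2
  have hrV : Set.range (V.ι ≫ g) ⊆ Set.range W.ι := by
    rintro _ ⟨a, rfl⟩; rw [Scheme.Opens.range_ι, Scheme.Hom.comp_apply]; exact hVW a.2
  let fA : U.toScheme ⟶ W.toScheme := IsOpenImmersion.lift W.ι (U.ι ≫ f) hrU
  let gB : V.toScheme ⟶ W.toScheme := IsOpenImmersion.lift W.ι (V.ι ≫ g) hrV
  have : fA.IsOver SC := ⟨by
    show fA ≫ W.ι ≫ S ↘ SC = U.ι ≫ X ↘ SC
    rw [IsOpenImmersion.lift_fac_assoc, Category.assoc, comp_over f]⟩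
  have : gB.IsOver SC := ⟨by
    show gB ≫ W.ι ≫ S ↘ SC = V.ι ≫ Y ↘ SC
    rw [IsOpenImmersion.lift_fac_assoc, Category.assoc, comp_over g]⟩
  let q : pullback fA gB ⟶ pullback f g := pullback.map fA gB f g U.ι V.ι W.ι
    (IsOpenImmersion.lift_fac _ _ _) (IsOpenImmersion.lift_fac _ _ _)
  have : q.IsOver SC := ⟨by
    show q ≫ pullback.fst f g ≫ X ↘ SC = pullback.fst fA gB ≫ U.ι ≫ X ↘ SC
    exact (pullback.lift_fst_assoc _ _ _ _).trans (Category.assoc _ _ _)⟩
  have := lft_pullback f g
  have := lft_pullback fA gB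
  let Ψ : Pts (pullback fA gB) → Pts U.toScheme × Pts V.toScheme := fun w =>
    (Pts.map (pullback.fst fA gB) w, Pts.map (pullback.snd fA gB) w)
  have hsq : Φ ∘ Pts.map q = Prod.map (Pts.map U.ι) (Pts.map V.ι) ∘ Ψ := by
    funext w
    exact Prod.ext
      (Subtype.ext ((Category.assoc _ _ _).trans ((congrArg (w.1 ≫ ·) (pullback.lift_fst _ _ _)).trans
        (Category.assoc _ _ _).symm)))
      (Subtype.ext ((Category.assoc _ _ _).trans ((congrArg (w.1 ≫ ·) (pullback.lift_snd _ _ _)).trans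
        (Category.assoc _ _ _).symm)))
  have hind : IsInducing (Φ ∘ Pts.map q) := by
    rw [hsq]
    exact ((isInducing_map U.ι).prodMap (isInducing_map V.ι)).comp (isInducing_affine fA gB)
  obtain ⟨G', hG', hGG⟩ := hind.isOpen_iff.1 (hG.preimage (Pts.continuous_map q))
  let O : Set (Pts X × Pts Y) := Set.range (Pts.map U.ι) ×ˢ Set.range (Pts.map V.ι)
  have hO : IsOpen O := by
    refine IsOpen.prod ?_ ?_ <;> rw [range_map] <;>
      exact (Scheme.Hom.isOpenEmbedding _).isOpen_range.preimage Pts.continuous_pt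
  have hlift : ∀ y, Φ y ∈ O → y ∈ Set.range (Pts.map q) := by
    intro y hy
    rw [range_map, Set.mem_preimage]
    simp only [q, Scheme.Pullback.range_map]
    refine ⟨?_, ?_⟩
    · have := hy.1; rw [range_map, Set.mem_preimage, Pts.pt_map] at this; exact this
    · have := hy.2; rw [range_map, Set.mem_preimage, Pts.pt_map] at this; exact this
  have hzO : Φ z ∈ O := by
    refine ⟨?_, ?_⟩ <;> rw [range_map, Set.mem_preimage, Scheme.Opens.range_ι] <;> assumption
  refine ⟨Φ ⁻¹' (G' ∩ O), ?_, isOpen_induced (hG'.inter hO), ?_⟩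
  · intro y hy
    obtain ⟨w, rfl⟩ := hlift y hy.2
    exact (Set.ext_iff.1 hGG w).1 hy.1
  · obtain ⟨w, rfl⟩ := hlift z hzO
    exact ⟨(Set.ext_iff.1 hGG w).2 hz, hzO⟩

lemma isHomeomorph_pullback (f : X ⟶ S) (g : Y ⟶ S) [f.IsOver SC] [g.IsOver SC] :
    IsHomeomorph (fun z : Pts (pullback f g) =>
      (⟨(Pts.map (pullback.fst f g) z, Pts.map (pullback.snd f g) z),
        Pts.map_pullback_condition f g z⟩ :
        {q : Pts X × Pts Y // Pts.map f q.1 = Pts.map g q.2})) := by
  refine isHomeomorph_iff_isEmbedding_surjective.2 ⟨⟨?_, ?_⟩, ?_⟩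
  · exact IsInducing.of_comp (((Pts.continuous_map _).prodMk (Pts.continuous_map _)).subtype_mk _)
      continuous_subtype_val (isInducing_pullback f g)
  · intro a b h
    have h' := congrArg Subtype.val h
    refine Subtype.ext (pullback.hom_ext ?_ ?_)
    · exact congrArg (fun q : Pts X × Pts Y => q.1.1) h'
    · exact congrArg (fun q : Pts X × Pts Y => q.2.1) h'
  · rintro ⟨⟨a, b⟩, hab⟩
    have hab' : a.1 ≫ f = b.1 ≫ g := congrArg Subtype.val hab
    refine ⟨⟨pullback.lift a.1 b.1 hab', ?_⟩, ?_⟩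
    · show pullback.lift a.1 b.1 hab' ≫ pullback.fst f g ≫ X ↘ SC = 𝟙 SC
      rw [pullback.lift_fst_assoc]; exact a.2
    · exact Subtype.ext (Prod.ext (Subtype.ext (pullback.lift_fst _ _ _)) (Subtype.ext (pullback.lift_snd _ _ _)))

lemma isSeparated_iff (f : X ⟶ S) [f.IsOver SC] :
    IsSeparated f ↔ IsSeparatedMap (Pts.map f) := by
  have := lft_pullback f f
  let Δ := pullback.diagonal f
  have : Δ.IsOver SC := ⟨by
    show pullback.diagonal f ≫ pullback.fst f f ≫ X ↘ SC = X ↘ SC
    rw [← Category.assoc, pullback.diagonal_fst, Category.id_comp]⟩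
  set h := fun z : Pts (pullback f f) =>
      (⟨(Pts.map (pullback.fst f f) z, Pts.map (pullback.snd f f) z),
        Pts.map_pullback_condition f f z⟩ :
        {q : Pts X × Pts X // Pts.map f q.1 = Pts.map f q.2}) with hdef
  have hh : IsHomeomorph h := isHomeomorph_pullback f f
  have hcomp : ∀ a, h (Pts.map Δ a) = ⟨(a, a), rfl⟩ := fun a => by
    refine Subtype.ext (Prod.ext (Subtype.ext ?_) (Subtype.ext ?_)) <;> simp [h, Δ]
  have hdiag : h ⁻¹' {q | q.1.1 = q.1.2} = Pts.pt ⁻¹' Set.range Δ := by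
    rw [← range_map]
    ext z
    constructor
    · intro hz
      refine ⟨Pts.map (pullback.fst f f) z, hh.injective ?_⟩
      rw [hcomp]
      exact Subtype.ext (Prod.ext rfl hz)
    · rintro ⟨a, rfl⟩
      rw [Set.mem_preimage, hcomp]
      rfl
  have h1 : IsSeparated f ↔ IsClosed (Set.range Δ) := by
    refine ⟨fun _ => Δ.isClosedEmbedding.isClosed_range, fun h => ?_⟩
    exact ⟨IsClosedImmersion.of_isPreimmersion _ h⟩
  have h2 : IsClosed (Set.range Δ) ↔
      IsClosed (Pts.pt ⁻¹' Set.range Δ : Set (Pts (pullback f f))) := by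
    refine ⟨fun h => h.preimage Pts.continuous_pt, fun h => ?_⟩
    rw [← isOpen_compl_iff]
    refine H4AnClosure.isOpen_of_isOpen_preimage ?_ (by rw [Set.preimage_compl]; exact h.isOpen_compl)
    exact H4ProCons.isLocallyConstructible_compl
      (H4AnClosure.isLocallyConstructible_of_isLocallyClosed Δ.isLocallyClosed_range)
  rw [h1, h2, ← hdiag, isSeparatedMap_iff_isClosed_diagonal]
  exact ⟨fun h => (hh.isOpenMap.isQuotientMap hh.continuous hh.surjective).isClosed_preimage.1 h,
    fun h => h.preimage hh.continuous⟩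

end Groth.Agent.H4AnPullback
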