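import Mathlib
import Groth.Prelude.Def_AnEps
import Groth.Agent.Lib.H4AnPts
import Groth.Agent.Lib.H4AnPullback

/-!
The comparison functor ε is flat and continuous; its inverse image is exact.
-/

set_option autoImplicit false

open AlgebraicGeometry CategoryTheory CategoryTheory.Limits TopologicalSpace Topology Opposite

namespace Groth.Agent.H4AnEps

open An H4AnPts

section lan

universe v

variable {J : Type 1} [Category.{0} J] [IsFiltered J]

lemma colim_preservesFiniteLimits :
    PreservesFiniteLimits (colim : (J ⥤ AddCommGrpCat.{1}) ⥤ AddCommGrpCat.{1}) := by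
  let e : J ≌ AsSmall.{1} J := AsSmall.equiv
  have : IsFiltered (AsSmall.{1} J) := IsFiltered.of_equivalence e
  exact preservesFiniteLimits_of_natIso
    (Functor.Final.colimIso (E := AddCommGrpCat.{1}) e.inverse)

variable {C D : Type 1} [Category.{0} C] [Category.{0} D] (F : C ⥤ D)

set_option backward.defeqAttrib.useBackward true in
set_option backward.isDefEq.respectTransparency false in
/-- evaluation of the left Kan extension as a colimit -/
noncomputable def lanEvalIso (X : D) :
    (F.lan : (C ⥤ AddCommGrpCat.{1}) ⥤ _) ⋙ (evaluation D AddCommGrpCat.{1}).obj X ≅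
      (Functor.whiskeringLeft _ _ AddCommGrpCat.{1}).obj (CostructuredArrow.proj F X) ⋙ colim :=
  NatIso.ofComponents (fun G =>
    IsColimit.coconePointUniqueUpToIso
    (Functor.isPointwiseLeftKanExtensionLeftKanExtensionUnit F G X)
    (colimit.isColimit _)) (fun {G₁ G₂} φ => by
      apply (Functor.isPointwiseLeftKanExtensionLeftKanExtensionUnit F G₁ X).hom_ext
      intro T
      have h₁ := fun (G : C ⥤ AddCommGrpCat.{1}) => IsColimit.comp_coconePointUniqueUpToIso_hom
        (Functor.isPointwiseLeftKanExtensionLeftKanExtensionUnit F G X) (colimit.isColimit _) T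
      have h₂ := congr_app (F.lanUnit.naturality φ) T.left
      dsimp at h₁ h₂ ⊢
      simp only [Category.assoc] at h₁ ⊢
      simp only [Functor.lan, Functor.lanUnit] at h₂ ⊢
      rw [reassoc_of% h₁, NatTrans.naturality_assoc, ← reassoc_of% h₂, h₁,
        ι_colimMap, Functor.whiskerLeft_app]
      rfl)

lemma lan_preservesFiniteLimits [RepresentablyFlat F] :
    PreservesFiniteLimits (F.op.lan : (Cᵒᵖ ⥤ AddCommGrpCat.{1}) ⥤ Dᵒᵖ ⥤ AddCommGrpCat.{1}) := by
  refine ⟨fun J _ _ => ?_⟩
  apply preservesLimitsOfShape_of_evaluation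
  intro K
  have : IsFiltered (CostructuredArrow F.op K) :=
    IsFiltered.of_equivalence (structuredArrowOpEquivalence F (unop K))
  have := colim_preservesFiniteLimits (J := CostructuredArrow F.op K)
  exact preservesLimitsOfShape_of_natIso (lanEvalIso F.op K).symm

end lan

variable (X : Scheme.{0}) [X.Over SC] [LocallyOfFiniteType (X ↘ SC)] [Fact EtaleLH]

lemma lft_left (U : X.Etale) : LocallyOfFiniteType (U.left ↘ SC) := by
  show LocallyOfFiniteType ((U.left ↘ X) ≫ X ↘ SC)
  infer_instance

set_option backward.isDefEq.respectTransparency.types false in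
lemma preservesTerminal : PreservesLimit (Functor.empty.{0} X.Etale) (eps X) := by
  let T : X.Etale := AlgebraicGeometry.Scheme.Etale.mk (𝟙 X)
  have hT : IsTerminal T := IsTerminal.ofUniqueHom
    (fun U => MorphismProperty.Over.homMk U.hom (by exact Category.comp_id _))
    (fun U m => MorphismProperty.Over.Hom.ext
      ((Category.comp_id _).symm.trans (CategoryTheory.Over.w m.hom)))
  have e : (eps X).obj T ≅ Cl.self (Pts X) :=
    { hom := ⟨fun a => Pts.map (T.left ↘ X) a, Pts.continuous_map _, fun _ => rfl⟩
      inv := ⟨Pts.cast inferInstance (An.etaleOverLeft X T) (Category.id_comp _).symm,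
        (Pts.cast inferInstance (An.etaleOverLeft X T) (Category.id_comp _).symm).continuous,
        fun a => Subtype.ext (Category.comp_id _)⟩
      hom_inv_id := Cl.hom_ext (funext fun a => Subtype.ext (Category.comp_id _))
      inv_hom_id := Cl.hom_ext (funext fun a => Subtype.ext (Category.comp_id _)) }
  exact preservesLimit_of_preserves_limit_cone hT
    ((isLimitMapConeEmptyConeEquiv _ _).symm ((An.Cl.selfIsTerminal (Pts X)).ofIso e.symm))

set_option backward.isDefEq.respectTransparency.types false in
lemma isPullback_map {P A B C : X.Etale} {p₁ : P ⟶ A} {p₂ : P ⟶ B} {f : A ⟶ C} {g : B ⟶ C}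
    (h : IsPullback p₁ p₂ f g) :
    IsPullback ((eps X).map p₁) ((eps X).map p₂) ((eps X).map f) ((eps X).map g) := by
  have hl : IsPullback p₁.left p₂.left f.left g.left :=
    h.map (AlgebraicGeometry.Scheme.Etale.forget X ⋙ CategoryTheory.Over.forget X)
  have := lft_left X A
  have := lft_left X B
  have := lft_left X C
  let i := hl.isoPullback
  have : i.hom.IsOver SC := ⟨by
    show i.hom ≫ pullback.fst f.left g.left ≫ A.left ↘ SC = P.left ↘ SC
    rw [hl.isoPullback_hom_fst_assoc]
    exact comp_over p₁.left SC⟩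
  have : i.inv.IsOver SC := ⟨by
    rw [Iso.inv_comp_eq]; exact (comp_over i.hom SC).symm⟩
  have hh := H4AnPullback.isHomeomorph_pullback f.left g.left
  let m := fun z : Pts (pullback f.left g.left) =>
      (⟨(Pts.map (pullback.fst f.left g.left) z, Pts.map (pullback.snd f.left g.left) z),
        Pts.map_pullback_condition f.left g.left z⟩ :
        {q : Pts A.left × Pts B.left // Pts.map f.left q.1 = Pts.map g.left q.2})
  let M : Pts P.left ≃ₜ {q : Pts A.left × Pts B.left // Pts.map f.left q.1 = Pts.map g.left q.2} :=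
    ({ toFun := Pts.map i.hom
       invFun := Pts.map i.inv
       left_inv := fun z => Subtype.ext (by simp)
       right_inv := fun z => Subtype.ext (by simp)
       continuous_toFun := Pts.continuous_map _
       continuous_invFun := Pts.continuous_map _ } : Pts P.left ≃ₜ Pts (pullback f.left g.left)).trans
      hh.homeomorph
  have hM1 : ∀ z, (M z).1.1 = Pts.map p₁.left z := fun z => Subtype.ext (by
    show (z.1 ≫ i.hom) ≫ pullback.fst f.left g.left = z.1 ≫ p₁.left
    rw [Category.assoc, hl.isoPullback_hom_fst])
  have hM2 : ∀ z, (M z).1.2 = Pts.map p₂.left z := fun z => Subtype.ext (by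
    show (z.1 ≫ i.hom) ≫ pullback.snd f.left g.left = z.1 ≫ p₂.left
    rw [Category.assoc, hl.isoPullback_hom_snd])
  refine ⟨⟨by rw [← Functor.map_comp, ← Functor.map_comp, h.w]⟩, ⟨PullbackCone.IsLimit.mk _
    (fun s => ⟨fun w => M.symm ⟨(s.fst.toFun w, s.snd.toFun w),
        congrArg (fun φ => An.Cl.Hom.toFun φ w) s.condition⟩, ?_, ?_⟩) ?_ ?_ ?_⟩⟩
  · exact M.symm.continuous.comp ((s.fst.continuous.prodMk s.snd.continuous).subtype_mk _)
  · intro w
    refine Eq.trans ?_ (s.fst.over w)
    show _ = ((eps X).obj A).p (s.fst.toFun w)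
    have h1 : s.fst.toFun w = Pts.map p₁.left (M.symm ⟨(s.fst.toFun w, s.snd.toFun w),
        congrArg (fun φ => An.Cl.Hom.toFun φ w) s.condition⟩) := by
      rw [← hM1, M.apply_symm_apply]
    exact (((eps X).map p₁).over _).symm.trans (congrArg ((eps X).obj A).p h1.symm)
  · intro s
    refine Cl.hom_ext (funext fun w => ?_)
    show Pts.map p₁.left (M.symm _) = _
    rw [← hM1, M.apply_symm_apply]
  · intro s
    refine Cl.hom_ext (funext fun w => ?_)
    show Pts.map p₂.left (M.symm _) = _
    rw [← hM2, M.apply_symm_apply]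
  · intro s m' h1 h2
    refine Cl.hom_ext (funext fun w => M.injective ?_)
    refine Eq.trans ?_ (M.apply_symm_apply _).symm
    exact Subtype.ext (Prod.ext ((hM1 _).trans (congrArg (fun φ => An.Cl.Hom.toFun φ w) h1))
      ((hM2 _).trans (congrArg (fun φ => An.Cl.Hom.toFun φ w) h2)))

set_option backward.isDefEq.respectTransparency.types false in
lemma preservesFiniteLimits : PreservesFiniteLimits (eps X) := by
  have := preservesTerminal X
  have : PreservesLimitsOfShape (Discrete PEmpty.{1}) (eps X) :=
    preservesLimitsOfShape_pempty_of_preservesTerminal _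
  have : PreservesLimitsOfShape WalkingCospan (eps X) := by
    refine ⟨fun {K} => ?_⟩
    have h := IsPullback.of_hasPullback (K.map WalkingCospan.Hom.inl) (K.map WalkingCospan.Hom.inr)
    have : PreservesLimit (cospan (K.map WalkingCospan.Hom.inl) (K.map WalkingCospan.Hom.inr)) (eps X) :=
      preservesLimit_of_preserves_limit_cone h.isLimit
        ((isLimitMapConePullbackConeEquiv (eps X) h.w).symm (isPullback_map X h).isLimit)
    exact preservesLimit_of_iso_diagram (eps X) (diagramIsoCospan K).symm
  exact preservesFiniteLimits_of_preservesTerminal_and_pullbacks _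

set_option backward.isDefEq.respectTransparency.types false in
lemma flat : RepresentablyFlat (eps X) :=
  have := preservesFiniteLimits X
  flat_of_preservesFiniteLimits _

set_option backward.isDefEq.respectTransparency.types false in
lemma coverPreserving : CoverPreserving X.smallEtaleTopology (Cl.topology (Pts X)) (eps X) := by
  refine ⟨fun {U S} hS => ?_⟩
  intro a
  obtain ⟨ι, Z, f, rfl⟩ := Sieve.exists_eq_ofArrows S
  have hcov := (AlgebraicGeometry.Scheme.ofArrows_mem_smallEtaleTopology_iff f).1 hS
  have := lft_left X U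
  obtain ⟨i, z, hz⟩ : ∃ i, a.pt ∈ Set.range (f i).left := by
    have h : a.pt ∈ ⋃ i, Set.range (f i).left := by rw [hcov]; trivial
    exact Set.mem_iUnion.1 h
  have := lft_left X (Z i)
  obtain ⟨b, hb⟩ : a ∈ Set.range (Pts.map (f i).left) := by
    rw [range_map]; exact ⟨z, hz⟩
  have hlh : IsLocalHomeomorph (Pts.map (f i).left) :=
    (Fact.out : EtaleLH) _ _ (f i).left
  obtain ⟨W, hW, hWe⟩ := (isLocalHomeomorph_iff_isOpenEmbedding_restrict.1 hlh) b
  obtain ⟨W', hW'W, hW'o, hbW'⟩ := mem_nhds_iff.1 hW
  refine ⟨Cl.restrictOpen ((eps X).obj (Z i)) W' hW'o,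
    Cl.restrictOpenι ((eps X).obj (Z i)) W' hW'o ≫ (eps X).map (f i),
    ?_, ?_, ?_⟩
  · exact ⟨Z i, f i, Cl.restrictOpenι ((eps X).obj (Z i)) W' hW'o, Sieve.ofArrows_mk _ _ i, rfl⟩
  rotate_left
  · exact ⟨⟨b, hbW'⟩, hb⟩
  have h1 : IsOpenEmbedding (Set.inclusion hW'W) :=
    ⟨IsEmbedding.inclusion hW'W, by rw [Set.range_inclusion]; exact hW'o.preimage continuous_subtype_val⟩
  exact hWe.comp h1

set_option backward.isDefEq.respectTransparency.types false in
lemma epsCont : EpsCont X :=
  have := flat X
  Functor.isContinuous_of_coverPreserving (compatiblePreservingOfFlat _ _) (coverPreserving X)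

set_option backward.isDefEq.respectTransparency.types false in
lemma epsPull_preservesFiniteLimits [EpsCont X] : PreservesFiniteLimits (epsPull X) := by
  have := flat X
  have := lan_preservesFiniteLimits (eps X)
  exact Functor.sheafPullbackConstruction.preservesFiniteLimits _ _ _ _

end Groth.Agent.H4AnEps
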