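import Mathlib
import Groth.Prelude.Def_AnPts
import Groth.Agent.Lib.H4AnPts
import Groth.Agent.Lib.H4AnAffine
import Groth.Agent.Lib.H4AnDense

/-!
Étale morphisms induce local homeomorphisms on ℂ-points.
-/

set_option autoImplicit false

open AlgebraicGeometry CategoryTheory TopologicalSpace Topology Opposite Filter Polynomial

namespace Groth.Agent.H4AnEtale

open An H4AnPts H4AnAffine

section analysis

variable {T : Type} [TopologicalSpace T] {A : Type} [CommRing A] (ψ : T → A →+* ℂ)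
  (hψ : ∀ c, Continuous fun t => ψ t c)
include hψ

lemma continuous_eval₂ {Z : Type} [TopologicalSpace Z] {u : Z → T} (hu : Continuous u)
    {r : Z → ℂ} (hr : Continuous r) (q : A[X]) :
    Continuous fun z => q.eval₂ (ψ (u z)) (r z) := by
  induction q using Polynomial.induction_on' with
  | add p q hp hq => simp only [eval₂_add]; exact hp.add hq
  | monomial n c => simp only [eval₂_monomial]; exact ((hψ c).comp hu).mul (hr.pow n)

lemma exists_divided_diff (q : A[X]) : ∃ D : T × ℂ × ℂ → ℂ, Continuous D ∧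
    (∀ t x y, q.eval₂ (ψ t) x - q.eval₂ (ψ t) y = (x - y) * D (t, x, y)) ∧
    ∀ t x, D (t, x, x) = q.derivative.eval₂ (ψ t) x := by
  induction q using Polynomial.induction_on' with
  | add p q hp hq =>
    obtain ⟨D, hD, h1, h2⟩ := hp
    obtain ⟨E, hE, h3, h4⟩ := hq
    refine ⟨D + E, hD.add hE, fun t x y => ?_, fun t x => ?_⟩
    · simp only [eval₂_add, Pi.add_apply]; linear_combination h1 t x y + h3 t x y
    · simp [h2, h4]
  | monomial n c =>
    refine ⟨fun p => ψ p.1 c * ∑ i ∈ Finset.range n, p.2.1 ^ i * p.2.2 ^ (n - 1 - i), ?_, ?_, ?_⟩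
    · exact ((hψ c).comp continuous_fst).mul (by fun_prop)
    · intro t x y
      simp only [eval₂_monomial]
      linear_combination ψ t c * (-geom_sum₂_mul x y n)
    · intro t x
      simp only [derivative_monomial, eval₂_monomial, map_mul, map_natCast, geom_sum₂_self]
      ring

theorem exists_root_section {P Q : A[X]} (hP : P.Monic) {t₀ : T} {r₀ : ℂ}
    (hr : P.eval₂ (ψ t₀) r₀ = 0) (hQ : Q.eval₂ (ψ t₀) r₀ ≠ 0)
    (hder : P.derivative.eval₂ (ψ t₀) r₀ ≠ 0) :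
    ∃ (N : Set T) (δ : ℝ) (σ : T → ℂ), IsOpen N ∧ t₀ ∈ N ∧ ContinuousOn σ N ∧ 0 < δ ∧
      ∀ t ∈ N, P.eval₂ (ψ t) (σ t) = 0 ∧ Q.eval₂ (ψ t) (σ t) ≠ 0 ∧ σ t ∈ Metric.ball r₀ δ ∧
        ∀ r ∈ Metric.ball r₀ δ, P.eval₂ (ψ t) r = 0 → r = σ t := by
  classical
  obtain ⟨D, hD, hD1, hD2⟩ := exists_divided_diff ψ hψ P
  have hopen : IsOpen {p : T × ℂ × ℂ | D p ≠ 0 ∧ Q.eval₂ (ψ p.1) p.2.1 ≠ 0} :=
    (isOpen_ne_fun hD continuous_const).inter
      (isOpen_ne_fun (continuous_eval₂ ψ hψ continuous_fst (by fun_prop) Q) continuous_const)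
  have hmem : (t₀, r₀, r₀) ∈ {p : T × ℂ × ℂ | D p ≠ 0 ∧ Q.eval₂ (ψ p.1) p.2.1 ≠ 0} :=
    ⟨by rw [hD2]; exact hder, hQ⟩
  obtain ⟨U, W, hU, hW, htU, hrW, hUW⟩ := isOpen_prod_iff.1 hopen t₀ (r₀, r₀) hmem
  obtain ⟨δ, hδ, hball⟩ := Metric.isOpen_iff.1 hW (r₀, r₀) hrW
  have hne : ∀ t ∈ U, ∀ x ∈ Metric.ball r₀ δ, ∀ y ∈ Metric.ball r₀ δ,
      D (t, x, y) ≠ 0 ∧ Q.eval₂ (ψ t) x ≠ 0 := fun t ht x hx y hy =>
    hUW (Set.mk_mem_prod ht (hball (by rw [← ball_prod_same]; exact ⟨hx, hy⟩)))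
  have huniq : ∀ t ∈ U, ∀ x ∈ Metric.ball r₀ δ, ∀ y ∈ Metric.ball r₀ δ,
      P.eval₂ (ψ t) x = 0 → P.eval₂ (ψ t) y = 0 → x = y := by
    intro t ht x hx y hy h1 h2
    have h := hD1 t x y
    rw [h1, h2, sub_zero, zero_eq_mul] at h
    exact sub_eq_zero.1 (h.resolve_right (hne t ht x hx y hy).1)
  -- existence of roots near a given root
  have hex : ∀ t₁ r₁, P.eval₂ (ψ t₁) r₁ = 0 → ∀ ε > 0,
      ∀ᶠ t in 𝓝 t₁, ∃ r ∈ Metric.ball r₁ ε, P.eval₂ (ψ t) r = 0 := by
    intro t₁ r₁ h₁ ε hε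
    have hd : 0 < P.natDegree := by
      rcases Nat.eq_zero_or_pos P.natDegree with h0 | h0
      · rw [hP.natDegree_eq_zero.1 h0] at h₁; simp at h₁
      · exact h0
    have h2 : ∀ᶠ t in 𝓝 t₁, ‖P.eval₂ (ψ t) r₁‖ < ε ^ P.natDegree := by
      have := ((continuous_eval₂ ψ hψ continuous_id (r := fun _ => r₁) continuous_const P).norm).tendsto t₁
      simp only [id, h₁, norm_zero] at this
      exact this.eventually_lt_const (pow_pos hε _)
    filter_upwards [h2] with t ht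
    let R : ℂ[X] := (P.map (ψ t)).comp (Polynomial.X + Polynomial.C r₁)
    have hdeg : R.natDegree = P.natDegree := by
      simp [R, natDegree_comp, hP.natDegree_map]
    obtain ⟨s, hs, hs'⟩ := H4AnDense.exists_small_root
      ((hP.map (ψ t)).comp_X_add_C r₁) (by rw [hdeg]; exact hd)
    refine ⟨s + r₁, ?_, ?_⟩
    · rw [Metric.mem_ball, dist_eq_norm, add_sub_cancel_right]
      refine lt_of_pow_lt_pow_left₀ P.natDegree hε.le ?_
      rw [hdeg] at hs'
      refine hs'.trans_lt ?_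
      simpa [R, coeff_zero_eq_eval_zero, Polynomial.eval_map] using ht
    · simpa [R, Polynomial.IsRoot, Polynomial.eval_map] using hs
  let σ : T → ℂ := fun t =>
    if h : ∃ r ∈ Metric.ball r₀ δ, P.eval₂ (ψ t) r = 0 then h.choose else 0
  let N : Set T := interior (U ∩ {t | ∃ r ∈ Metric.ball r₀ δ, P.eval₂ (ψ t) r = 0})
  have hσ : ∀ t ∈ N, σ t ∈ Metric.ball r₀ δ ∧ P.eval₂ (ψ t) (σ t) = 0 := by
    intro t ht
    have h := (interior_subset ht).2
    simp only [σ, dif_pos (show ∃ r ∈ Metric.ball r₀ δ, P.eval₂ (ψ t) r = 0 from h)]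
    exact Exists.choose_spec h
  refine ⟨N, δ, σ, isOpen_interior,
    mem_interior_iff_mem_nhds.2 (inter_mem (hU.mem_nhds htU) (hex t₀ r₀ hr δ hδ)), ?_, hδ, ?_⟩
  · intro t₁ ht₁
    refine (Metric.continuousAt_iff'.2 fun ε hε => ?_).continuousWithinAt
    obtain ⟨η, hη, hηb⟩ := Metric.isOpen_iff.1 Metric.isOpen_ball _ (hσ t₁ ht₁).1
    filter_upwards [hex t₁ (σ t₁) (hσ t₁ ht₁).2 (min ε η) (lt_min hε hη),
      isOpen_interior.mem_nhds ht₁] with t ⟨r, hr, hr0⟩ ht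
    have hr1 : r ∈ Metric.ball r₀ δ := hηb (Metric.ball_subset_ball (min_le_right _ _) hr)
    have := huniq t (interior_subset ht).1 r hr1 (σ t) (hσ t ht).1 hr0 (hσ t ht).2
    rw [← this]
    exact (Metric.mem_ball.1 hr).trans_le (min_le_left _ _)
  · intro t ht
    obtain ⟨h1, h2⟩ := hσ t ht
    exact ⟨h2, (hne t (interior_subset ht).1 _ h1 _ h1).2, h1,
      fun r hr h0 => huniq t (interior_subset ht).1 r hr _ h1 h0 h2⟩

end analysis

section points

variable {X Y : Scheme.{0}} [X.Over SC] [Y.Over SC]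

lemma continuous_evHom (U : X.Opens) (s : Γ(X, U)) :
    Continuous fun a : {a : Pts X // a.pt ∈ U} => evHom a.1 U a.2 s := by
  refine continuous_def.2 fun V hV => ?_
  refine isOpen_induced_iff.2 ⟨Pts.basicSet U s V, Pts.isOpen_basicSet U s hV, ?_⟩
  ext a
  exact ⟨fun ⟨_, h⟩ => h, fun h => ⟨a.2, h⟩⟩

lemma isAffineOpen_top_fromSpec : (isAffineOpen_top SC).fromSpec =
    Spec.map (Scheme.ΓSpecIso (CommRingCat.of ℂ)).inv := by
  rw [IsAffineOpen.fromSpec_top, Scheme.isoSpec_Spec_inv]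

lemma eq_SpecMap {U : X.Opens} (hU : IsAffineOpen U) (a : Pts X) (h : a.pt ∈ U) :
    a.1 = Spec.map (CommRingCat.ofHom (evHom a U h)) ≫ hU.fromSpec := by
  have e : CommRingCat.ofHom (evHom a U h) = a.1.appLE U ⊤ (Pts.top_le_preimage a h) ≫
      (Scheme.ΓSpecIso (CommRingCat.of ℂ)).hom := rfl
  rw [e, Spec.map_comp, Category.assoc,
    hU.SpecMap_appLE_fromSpec a.1 (isAffineOpen_top SC) (Pts.top_le_preimage a h),
    isAffineOpen_top_fromSpec, ← Spec.map_comp_assoc, Iso.inv_hom_id, Spec.map_id, Category.id_comp]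

lemma evHom_map (g : X ⟶ Y) [g.IsOver SC] {U : X.Opens} {V : Y.Opens} (e : U ≤ g ⁻¹ᵁ V)
    (a : Pts X) (ha : a.pt ∈ U) (h : (Pts.map g a).pt ∈ V) :
    evHom (Pts.map g a) V h = (evHom a U ha).comp (g.appLE V U e).hom := by
  refine RingHom.ext fun c => ?_
  show (Pts.map g a).ev V h c = a.ev U ha (g.appLE V U e c)
  rw [Pts.ev_map, Scheme.Hom.appLE, CommRingCat.comp_apply]
  exact (ev_map_res a e ha _).symm

lemma exists_point (g : X ⟶ Y) [g.IsOver SC] {U : X.Opens} {V : Y.Opens} (hU : IsAffineOpen U)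
    (hV : IsAffineOpen V) (e : U ≤ g ⁻¹ᵁ V) (y : Pts Y) (hy : y.pt ∈ V) (φ : Γ(X, U) →+* ℂ)
    (hφ : φ.comp (g.appLE V U e).hom = evHom y V hy) :
    ∃ (a : Pts X) (ha : a.pt ∈ U), Pts.map g a = y ∧ evHom a U ha = φ := by
  let x : SC ⟶ X := Spec.map (CommRingCat.ofHom φ) ≫ hU.fromSpec
  have hxg : x ≫ g = y.1 := by
    rw [eq_SpecMap hV y hy, ← hφ, CommRingCat.ofHom_comp, CommRingCat.ofHom_hom, Spec.map_comp,
      Category.assoc, Category.assoc, hV.SpecMap_appLE_fromSpec g hU e]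
  let a : Pts X := ⟨x, by rw [← comp_over g, ← Category.assoc, hxg]; exact y.2⟩
  have ha : a.pt ∈ U := by
    have : a.pt ∈ Set.range hU.fromSpec := ⟨Spec.map (CommRingCat.ofHom φ) cpt, rfl⟩
    rwa [hU.range_fromSpec] at this
  refine ⟨a, ha, Subtype.ext hxg, ?_⟩
  have h1 := eq_SpecMap hU a ha
  rw [show a.1 = x from rfl] at h1
  exact congrArg CommRingCat.Hom.hom (Spec.map_injective ((cancel_mono hU.fromSpec).1 h1.symm))

lemma pts_ext_affineOpen {U : X.Opens} (hU : IsAffineOpen U) {a b : Pts X} (ha : a.pt ∈ U)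
    (hb : b.pt ∈ U) (h : evHom a U ha = evHom b U hb) : a = b := by
  refine Subtype.ext ?_
  rw [eq_SpecMap hU a ha, eq_SpecMap hU b hb, h]

lemma isInducing_evHom [LocallyOfFiniteType (X ↘ SC)] {U : X.Opens} (hU : IsAffineOpen U) :
    IsInducing (fun (a : {a : Pts X // a.pt ∈ U}) (s : Γ(X, U)) => evHom a.1 U a.2 s) := by
  let iU : U.toScheme.Over SC := ⟨U.ι ≫ X ↘ SC⟩
  have : U.ι.IsOver SC := ⟨rfl⟩
  have : IsAffine U.toScheme := hU
  have : LocallyOfFiniteType (U.toScheme ↘ SC) := by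
    show LocallyOfFiniteType (U.ι ≫ X ↘ SC); infer_instance
  obtain ⟨n, s, hs⟩ := exists_gens (X := U.toScheme)
  have hm : ∀ b : Pts U.toScheme, (Pts.map U.ι b).pt ∈ U := fun b => by
    rw [Pts.pt_map]; exact b.pt.2
  let m : Pts U.toScheme → {a : Pts X // a.pt ∈ U} := fun b => ⟨Pts.map U.ι b, hm b⟩
  have hmi : IsInducing m :=
    IsInducing.of_comp ((Pts.continuous_map U.ι).subtype_mk hm) continuous_subtype_val
      (isInducing_map U.ι)
  have hms : Function.Surjective m := fun ⟨a, ha⟩ => by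
    obtain ⟨b, hb⟩ : a ∈ Set.range (Pts.map U.ι) := by rw [range_map]; simpa using ha
    exact ⟨b, Subtype.ext hb⟩
  have hc : Continuous (fun (a : {a : Pts X // a.pt ∈ U}) (s : Γ(X, U)) => evHom a.1 U a.2 s) :=
    continuous_pi fun s => continuous_evHom U s
  let π : (Γ(X, U) → ℂ) → (Fin n → ℂ) := fun w i =>
    w (U.topIso.hom (s i))
  have hπ : Continuous π := continuous_pi fun i => continuous_apply _
  have hkey : π ∘ (fun (a : {a : Pts X // a.pt ∈ U}) (s : Γ(X, U)) => evHom a.1 U a.2 s) ∘ m =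
      fun b i => b.evTop (s i) := by
    funext b i
    show evHom (Pts.map U.ι b) U (hm b) (U.topIso.hom (s i)) = b.evTop (s i)
    rw [evHom_map U.ι (U := ⊤) (V := U) (by rw [Scheme.Opens.ι_preimage_self]) b (Opens.mem_top _)]
    show evHom b ⊤ (Opens.mem_top _) ((U.topIso.hom ≫ U.ι.appLE U ⊤ (by rw [Scheme.Opens.ι_preimage_self])) (s i)) = _
    have : U.topIso.hom ≫ U.ι.appLE U ⊤ (by rw [Scheme.Opens.ι_preimage_self]) = 𝟙 _ := by
      simp [Scheme.Opens.topIso, Scheme.Hom.appLE]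
      exact (congrArg (X.presheaf.map _ ≫ ·) (X.presheaf.map_comp _ _).symm).trans
        ((X.presheaf.map_comp _ _).symm.trans
          ((congrArg X.presheaf.map (Subsingleton.elim _ (𝟙 _))).trans (X.presheaf.map_id _)))
    rw [this]
    rfl
  have h1 : IsInducing (π ∘ (fun (a : {a : Pts X // a.pt ∈ U}) (s : Γ(X, U)) => evHom a.1 U a.2 s)) := by
    have h2 : IsInducing ((π ∘ (fun (a : {a : Pts X // a.pt ∈ U}) (s : Γ(X, U)) => evHom a.1 U a.2 s)) ∘ m) := by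
      rw [Function.comp_assoc, hkey]
      exact isInducing_gens s hs
    refine ⟨?_⟩
    have hinv : ∀ S : Set {a : Pts X // a.pt ∈ U}, IsOpen S ↔ IsOpen (m ⁻¹' S) := fun S => by
      refine ⟨fun h => h.preimage hmi.continuous, fun h => ?_⟩
      obtain ⟨S', hS', e⟩ := hmi.isOpen_iff.1 h
      rwa [← hms.preimage_injective e]
    ext S
    rw [hinv, h2.isOpen_iff, isOpen_induced_iff]
    exact exists_congr fun t => and_congr_right fun _ =>
      ⟨fun h => hms.preimage_injective h, fun h => by rw [← h]; rfl⟩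
  exact IsInducing.of_comp hc hπ h1

end points

theorem etale_isLocalHomeomorph (X Y : Scheme.{0}) [X.Over SC] [Y.Over SC]
    [LocallyOfFiniteType (Y ↘ SC)] (g : X ⟶ Y) [g.IsOver SC] [Etale g] :
    IsLocalHomeomorph (Pts.map g) := by
  have hlft : LocallyOfFiniteType (X ↘ SC) := by rw [← comp_over g]; infer_instance
  rw [isLocalHomeomorph_iff_isOpenEmbedding_restrict]
  intro a
  obtain ⟨V, hV, haV, -⟩ := exists_isAffineOpen_mem_and_subset (x := g a.pt) (U := (⊤ : Y.Opens)) trivial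
  obtain ⟨U₁, hU₁, haU₁, hU₁V⟩ := exists_isAffineOpen_mem_and_subset (x := a.pt) (U := g ⁻¹ᵁ V) haV
  have he₁ : U₁ ≤ g ⁻¹ᵁ V := hU₁V
  have het : (g.appLE V U₁ he₁).hom.Etale :=
    HasRingHomProperty.appLE (P := @Etale) g inferInstance ⟨V, hV⟩ ⟨U₁, hU₁⟩ he₁
  let := (g.appLE V U₁ he₁).hom.toAlgebra
  have : Algebra.Etale Γ(Y, V) Γ(X, U₁) := het
  obtain ⟨f, hf, hstd⟩ := Algebra.IsEtaleAt.exists_isStandardEtale (R := Γ(Y, V))
    (hU₁.primeIdealOf ⟨a.pt, haU₁⟩).asIdeal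
  let U := X.basicOpen f
  have hU : IsAffineOpen U := hU₁.basicOpen f
  have hUU₁ : U ≤ U₁ := X.basicOpen_le f
  have haU : a.pt ∈ U := by
    by_contra h
    refine hf ?_
    by_contra h3
    have h4 : hU₁.primeIdealOf ⟨a.pt, haU₁⟩ ∈ hU₁.fromSpec ⁻¹ᵁ X.basicOpen f := by
      rw [hU₁.fromSpec_preimage_basicOpen]; exact h3
    have h5 : hU₁.fromSpec (hU₁.primeIdealOf ⟨a.pt, haU₁⟩) ∈ X.basicOpen f := h4
    rw [hU₁.fromSpec_primeIdealOf] at h5
    exact h h5
  have e : U ≤ g ⁻¹ᵁ V := hUU₁.trans he₁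
  let := (g.appLE V U e).hom.toAlgebra
  have := hU₁.isLocalization_basicOpen f
  have : IsScalarTower Γ(Y, V) Γ(X, U₁) Γ(X, U) :=
    IsScalarTower.of_algebraMap_eq fun c => by
      simp only [RingHom.algebraMap_toAlgebra]
      exact (congrArg (fun φ => φ c) (g.appLE_map he₁ (homOfLE hUU₁).op)).symm
  have : Algebra.IsStandardEtale Γ(Y, V) Γ(X, U) :=
    Algebra.IsStandardEtale.of_equiv
      ((IsLocalization.algEquiv (Submonoid.powers f) (Localization.Away f) Γ(X, U)).restrictScalars Γ(Y, V))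
  obtain ⟨P⟩ := Algebra.IsStandardEtale.nonempty_standardEtalePresentation (R := Γ(Y, V)) (S := Γ(X, U))
  let T := {y : Pts Y // y.pt ∈ V}
  let A' := {b : Pts X // b.pt ∈ U}
  let ψ : T → Γ(Y, V) →+* ℂ := fun y => evHom y.1 V y.2
  have hψ : ∀ c, Continuous fun y => ψ y c := fun c => continuous_evHom V c
  have hpr : ∀ b : A', (Pts.map g b.1).pt ∈ V := fun b => by rw [Pts.pt_map]; exact e b.2
  let π : A' → T := fun b => ⟨Pts.map g b.1, hpr b⟩
  have hπ : Continuous π := ((Pts.continuous_map g).comp continuous_subtype_val).subtype_mk hpr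
  have hψπ : ∀ (b : A') (q : Polynomial Γ(Y, V)),
      evHom b.1 U b.2 (Polynomial.aeval P.x q) = q.eval₂ (ψ (π b)) (evHom b.1 U b.2 P.x) := by
    intro b q
    rw [Polynomial.aeval_def, Polynomial.hom_eval₂]
    congr 1
    exact (evHom_map g e b.1 b.2 (hpr b)).symm
  let b₀ : A' := ⟨a, haU⟩
  have hr : P.f.eval₂ (ψ (π b₀)) (evHom a U haU P.x) = 0 := by
    rw [← hψπ b₀, P.hasMap.1, map_zero]
  have hQ : P.g.eval₂ (ψ (π b₀)) (evHom a U haU P.x) ≠ 0 := by
    rw [← hψπ b₀]; exact (P.hasMap.2.map (evHom a U haU)).ne_zero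
  have hd : P.f.derivative.eval₂ (ψ (π b₀)) (evHom a U haU P.x) ≠ 0 := by
    rw [← hψπ b₀]; exact (P.hasMap.isUnit_derivative_f.map (evHom a U haU)).ne_zero
  obtain ⟨N, δ, σ, hNo, ha0, hσc, hδ, hσ⟩ := exists_root_section ψ hψ P.monic_f hr hQ hd
  let W : Set A' := π ⁻¹' N ∩ (fun b => evHom b.1 U b.2 P.x) ⁻¹' Metric.ball (evHom a U haU P.x) δ
  have hWo : IsOpen W :=
    (hNo.preimage hπ).inter (Metric.isOpen_ball.preimage (continuous_evHom U P.x))
  have hopenU : IsOpen {b : Pts X | b.pt ∈ U} := Pts.isOpen_preimage_pt U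
  refine ⟨Subtype.val '' W, (hopenU.isOpenEmbedding_subtypeVal.isOpenMap W hWo).mem_nhds
    ⟨b₀, ⟨ha0, Metric.mem_ball_self hδ⟩, rfl⟩, ?_⟩
  have hsec : ∀ y : N, ∃ b : A', π b = y.1 ∧ evHom b.1 U b.2 P.x = σ y.1 := by
    intro y
    let : Algebra Γ(Y, V) ℂ := (ψ y.1).toAlgebra
    have hm : P.HasMap (σ y.1) := by
      obtain ⟨h1, h2, -⟩ := hσ y.1 y.2
      exact ⟨h1, isUnit_iff_ne_zero.2 h2⟩
    let φ : Γ(X, U) →ₐ[Γ(Y, V)] ℂ := (P.lift (σ y.1) hm).comp P.equivRing.toAlgHom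
    obtain ⟨b, hb, hb1, hb2⟩ := exists_point g hU hV e y.1.1 y.1.2 φ.toRingHom
      (RingHom.ext φ.commutes)
    refine ⟨⟨b, hb⟩, Subtype.ext hb1, ?_⟩
    rw [hb2]
    show P.lift (σ y.1) hm (P.equivRing P.x) = σ y.1
    simp
  choose sec hsec1 hsec2 using hsec
  have hinj : ∀ b b' : A', π b = π b' → evHom b.1 U b.2 P.x = evHom b'.1 U b'.2 P.x → b = b' := by
    intro b b' h1 h2
    refine Subtype.ext (pts_ext_affineOpen hU b.2 b'.2 ?_)
    let : Algebra Γ(Y, V) ℂ := (ψ (π b)).toAlgebra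
    have hc : ∀ c : A', π c = π b → ∀ r, evHom c.1 U c.2 (algebraMap Γ(Y, V) Γ(X, U) r) = ψ (π b) r :=
      fun c hc r => by
        rw [← hc]
        exact (RingHom.congr_fun (evHom_map g e c.1 c.2 (hpr c)) r).symm
    exact congrArg AlgHom.toRingHom (P.hom_ext (f₁ := AlgHom.mk (evHom b.1 U b.2) (hc b rfl))
      (f₂ := AlgHom.mk (evHom b'.1 U b'.2) (hc b' h1.symm)) h2)
  have hsecc : Continuous sec := by
    refine (isInducing_evHom hU).continuous_iff.2 (continuous_pi fun s => ?_)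
    show Continuous fun y => evHom (sec y).1 U (sec y).2 s
    obtain ⟨s', rfl⟩ := P.equivRing.symm.surjective s
    obtain ⟨p, rfl⟩ := Ideal.Quotient.mk_surjective s'
    have hy : Continuous fun y : N => σ y.1 :=
      continuousOn_iff_continuous_restrict.1 hσc
    have hgne : ∀ y : N, P.g.eval₂ (ψ y.1) (σ y.1) ≠ 0 := fun y => (hσ y.1 y.2).2.1
    have hp : ∀ y : N, evHom (sec y).1 U (sec y).2 (P.equivRing.symm (Ideal.Quotient.mk _ p)) =
        p.eval₂ (Polynomial.eval₂RingHom (ψ y.1) (σ y.1)) (P.g.eval₂ (ψ y.1) (σ y.1))⁻¹ := by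
      intro y
      let : Algebra Γ(Y, V) ℂ := (ψ y.1).toAlgebra
      have hm : P.HasMap (σ y.1) := ⟨(hσ y.1 y.2).1, isUnit_iff_ne_zero.2 (hgne y)⟩
      let χ : Γ(X, U) →ₐ[Γ(Y, V)] ℂ := AlgHom.mk (evHom (sec y).1 U (sec y).2) (fun r => by
        have h := RingHom.congr_fun (evHom_map g e (sec y).1 (sec y).2 (hpr _)) r
        refine h.symm.trans ?_
        show ψ (π (sec y)) r = ψ y.1 r
        rw [hsec1])
      have hχ : χ.comp P.equivRing.symm.toAlgHom = P.lift (σ y.1) hm :=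
        StandardEtalePair.hom_ext (by simpa [χ] using hsec2 y)
      refine (AlgHom.congr_fun hχ (Ideal.Quotient.mk _ p)).trans ?_
      have hu : (↑(hm.2.unit⁻¹) : ℂ) = (P.g.eval₂ (ψ y.1) (σ y.1))⁻¹ := by
        rw [Units.val_inv_eq_inv_val]; rfl
      rw [← hu]
      show aevalAeval (σ y.1) ↑(hm.2.unit⁻¹) p = _
      have : (aevalAeval (R := Γ(Y, V)) (σ y.1) (↑(hm.2.unit⁻¹) : ℂ)).toRingHom =
          Polynomial.eval₂RingHom (Polynomial.eval₂RingHom (ψ y.1) (σ y.1)) ↑(hm.2.unit⁻¹) :=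
        Polynomial.ringHom_ext (fun q => by simp; rfl) (by simp)
      exact RingHom.congr_fun this p
    simp only [hp]
    exact continuous_eval₂ (fun z : {z : N × ℂ // True} =>
        Polynomial.eval₂RingHom (ψ z.1.1.1) z.1.2)
      (fun q => continuous_eval₂ ψ hψ (by fun_prop) (by fun_prop) q)
      (u := fun y : N => ⟨(y, σ y.1), trivial⟩) ((continuous_id.prodMk hy).subtype_mk _)
      (((continuous_eval₂ ψ hψ continuous_subtype_val hy P.g).inv₀ hgne)) p
  -- the restriction is an open embedding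
  have hVo : IsOpen {y : Pts Y | y.pt ∈ V} := Pts.isOpen_preimage_pt V
  let F : (Subtype.val '' W : Set (Pts X)) → Pts Y := (Subtype.val '' W).restrict (Pts.map g)
  have hmem : ∀ c : (Subtype.val '' W : Set (Pts X)), ∃ b ∈ W, b.1 = c.1 := fun c => c.2
  have hFN : ∀ c, F c ∈ Subtype.val '' N := fun c => by
    obtain ⟨b, hb, hbc⟩ := hmem c
    exact ⟨π b, hb.1, congrArg (Pts.map g) hbc⟩
  have hNopen : IsOpen (Subtype.val '' N : Set (Pts Y)) :=
    hVo.isOpenEmbedding_subtypeVal.isOpenMap N hNo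
  have hsecW : ∀ y : N, sec y ∈ W := fun y => by
    refine ⟨?_, ?_⟩
    · show π (sec y) ∈ N
      rw [hsec1]; exact y.2
    · show evHom (sec y).1 U (sec y).2 P.x ∈ Metric.ball _ δ
      rw [hsec2]; exact (hσ y.1 y.2).2.2.1
  have hlT : ∀ y : (Subtype.val '' N : Set (Pts Y)), y.1.pt ∈ V := fun y => by
    obtain ⟨z, -, hz⟩ := y.2
    rw [← hz]
    exact z.2
  have hlN : ∀ y : (Subtype.val '' N : Set (Pts Y)), (⟨y.1, hlT y⟩ : T) ∈ N := fun y => by
    obtain ⟨z, hzN, hz⟩ := y.2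
    have : z = (⟨y.1, hlT y⟩ : T) := Subtype.ext hz
    exact this ▸ hzN
  let G : (Subtype.val '' N : Set (Pts Y)) → (Subtype.val '' W : Set (Pts X)) := fun y =>
    ⟨(sec ⟨⟨y.1, hlT y⟩, hlN y⟩).1, _, hsecW _, rfl⟩
  have hG : Continuous G :=
    (continuous_subtype_val.comp (hsecc.comp
      ((continuous_subtype_val.subtype_mk hlT).subtype_mk hlN))).subtype_mk _
  have hFG : ∀ y, F (G y) = y.1 := fun y => congrArg Subtype.val (hsec1 _)
  have hGF : ∀ c, G ⟨F c, hFN c⟩ = c := fun c => by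
    obtain ⟨b, hb, hbc⟩ := hmem c
    refine Subtype.ext ?_
    rw [← hbc]
    refine congrArg Subtype.val (hinj _ b ?_ ?_)
    · rw [hsec1]; exact Subtype.ext (congrArg (Pts.map g) hbc).symm
    · rw [hsec2]
      have hbπ : π b = ⟨F c, by rw [← show (π b).1 = F c from congrArg (Pts.map g) hbc]; exact (π b).2⟩ :=
        Subtype.ext (congrArg (Pts.map g) hbc)
      have := (hσ _ hb.1).2.2.2 _ hb.2 (by rw [← hψπ b, P.hasMap.1, map_zero])
      refine Eq.trans ?_ this.symm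
      rw [hbπ]
  let H : (Subtype.val '' W : Set (Pts X)) ≃ₜ (Subtype.val '' N : Set (Pts Y)) :=
    { toFun := fun c => ⟨F c, hFN c⟩
      invFun := G
      left_inv := hGF
      right_inv := fun y => Subtype.ext (hFG y)
      continuous_toFun := ((Pts.continuous_map g).comp continuous_subtype_val).subtype_mk _
      continuous_invFun := hG }
  exact hNopen.isOpenEmbedding_subtypeVal.comp H.isOpenEmbedding

end Groth.Agent.H4AnEtale
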