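import Mathlib
import Groth.Prelude.Def_AnPts
import Groth.Agent.Lib.H4AnPts
import Groth.Agent.Lib.H4AnAffine
import Groth.Agent.Lib.H4AnClosure
import Groth.Agent.Lib.H4AnPullback
import Groth.Agent.Lib.H4AnEtale
import Groth.Agent.S9205

/-!
Proper morphisms and proper maps on ℂ-points (valuative criterion with the ultraproduct valuation
ring of bounded germs).
-/

set_option autoImplicit false

open AlgebraicGeometry CategoryTheory TopologicalSpace Topology Opposite Filter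

namespace Groth.Agent.H4AnProper

open An H4AnPts H4AnAffine H4AnEtale

section germs

variable {α : Type} (F : Ultrafilter α)

/-- bounded germs -/
noncomputable def bdd : ValuationSubring (Germ (F : Filter α) ℂ) where
  carrier := {x | ∃ M : ℝ, x.LiftPred fun c => ‖c‖ ≤ M}
  zero_mem' := ⟨0, Germ.liftPred_coe.2 (Eventually.of_forall fun _ => by simp)⟩
  one_mem' := ⟨1, Germ.liftPred_coe.2 (Eventually.of_forall fun _ => by simp)⟩
  add_mem' := by
    intro x y
    induction x using Germ.inductionOn with | _ u => ?_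
    induction y using Germ.inductionOn with | _ v => ?_
    rintro ⟨M, hM⟩ ⟨N, hN⟩
    refine ⟨M + N, ?_⟩
    rw [← Germ.coe_add, Germ.liftPred_coe]
    filter_upwards [Germ.liftPred_coe.1 hM, Germ.liftPred_coe.1 hN] with a h1 h2
    exact (norm_add_le _ _).trans (add_le_add h1 h2)
  mul_mem' := by
    intro x y
    induction x using Germ.inductionOn with | _ u => ?_
    induction y using Germ.inductionOn with | _ v => ?_
    rintro ⟨M, hM⟩ ⟨N, hN⟩
    refine ⟨M * N, ?_⟩
    rw [← Germ.coe_mul, Germ.liftPred_coe]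
    filter_upwards [Germ.liftPred_coe.1 hM, Germ.liftPred_coe.1 hN] with a h1 h2
    rw [Pi.mul_apply, norm_mul]
    exact mul_le_mul h1 h2 (norm_nonneg _) ((norm_nonneg _).trans h1)
  neg_mem' := by
    intro x
    induction x using Germ.inductionOn with | _ u => ?_
    rintro ⟨M, hM⟩
    refine ⟨M, ?_⟩
    rw [← Germ.coe_neg, Germ.liftPred_coe]
    filter_upwards [Germ.liftPred_coe.1 hM] with a h1
    simpa using h1
  mem_or_inv_mem' := by
    intro x
    induction x using Germ.inductionOn with | _ u => ?_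
    rcases F.em (fun a => ‖u a‖ ≤ 1) with h | h
    · exact Or.inl ⟨1, Germ.liftPred_coe.2 h⟩
    · refine Or.inr ⟨1, ?_⟩
      rw [← Germ.coe_inv, Germ.liftPred_coe]
      filter_upwards [h] with a ha
      rw [Pi.inv_apply, norm_inv]
      exact inv_le_one_of_one_le₀ (le_of_lt (not_le.1 ha))

variable {F}

lemma mem_bdd_of_tendsto {u : α → ℂ} {c : ℂ} (h : Tendsto u F (𝓝 c)) :
    (u : Germ (F : Filter α) ℂ) ∈ bdd F :=
  ⟨‖c‖ + 1, Germ.liftPred_coe.2 (h.norm.eventually (eventually_le_nhds (lt_add_one _)))⟩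

lemma exists_lim (x : bdd F) :
    ∃ c : ℂ, ∀ u : α → ℂ, (u : Germ (F : Filter α) ℂ) = x.1 → Tendsto u F (𝓝 c) := by
  obtain ⟨x, hx⟩ := x
  induction x using Germ.inductionOn with | _ u => ?_
  obtain ⟨M, hM⟩ := hx
  obtain ⟨c, -, hc⟩ := (isCompact_closedBall (0 : ℂ) M).ultrafilter_le_nhds (F.map u) (by
    rw [le_principal_iff]
    show ∀ᶠ a in (F : Filter α), u a ∈ Metric.closedBall (0 : ℂ) M
    filter_upwards [Germ.liftPred_coe.1 hM] with a ha
    simpa using ha)
  exact ⟨c, fun v hv => Tendsto.congr' (Germ.coe_eq.1 hv).symm hc⟩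

lemma lim_unique {x : bdd F} {u : α → ℂ} (hu : (u : Germ (F : Filter α) ℂ) = x.1) {c : ℂ}
    (hc : Tendsto u F (𝓝 c)) : (exists_lim x).choose = c :=
  tendsto_nhds_unique ((exists_lim x).choose_spec u hu) hc

/-- standard part -/
noncomputable def st : bdd F →+* ℂ where
  toFun x := (exists_lim x).choose
  map_one' := lim_unique (u := fun _ => 1) rfl tendsto_const_nhds
  map_zero' := lim_unique (u := fun _ => 0) rfl tendsto_const_nhds
  map_add' x y := by
    obtain ⟨u, hu⟩ : ∃ u : α → ℂ, (u : Germ (F : Filter α) ℂ) = x.1 :=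
      Germ.inductionOn x.1 fun u => ⟨u, rfl⟩
    obtain ⟨v, hv⟩ : ∃ u : α → ℂ, (u : Germ (F : Filter α) ℂ) = y.1 :=
      Germ.inductionOn y.1 fun u => ⟨u, rfl⟩
    exact lim_unique (u := u + v) (by rw [Germ.coe_add, hu, hv]; rfl)
      (((exists_lim x).choose_spec u hu).add ((exists_lim y).choose_spec v hv))
  map_mul' x y := by
    obtain ⟨u, hu⟩ : ∃ u : α → ℂ, (u : Germ (F : Filter α) ℂ) = x.1 :=
      Germ.inductionOn x.1 fun u => ⟨u, rfl⟩
    obtain ⟨v, hv⟩ : ∃ u : α → ℂ, (u : Germ (F : Filter α) ℂ) = y.1 :=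
      Germ.inductionOn y.1 fun u => ⟨u, rfl⟩
    exact lim_unique (u := u * v) (by rw [Germ.coe_mul, hu, hv]; rfl)
      (((exists_lim x).choose_spec u hu).mul ((exists_lim y).choose_spec v hv))

lemma tendsto_st (x : bdd F) {u : α → ℂ} (hu : (u : Germ (F : Filter α) ℂ) = x.1) :
    Tendsto u F (𝓝 (st x)) :=
  (exists_lim x).choose_spec u hu

lemma st_eq {x : bdd F} {u : α → ℂ} (hu : (u : Germ (F : Filter α) ℂ) = x.1) {c : ℂ}
    (hc : Tendsto u F (𝓝 c)) : st x = c := lim_unique hu hc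

end germs

lemma eq_SpecMap_of_range {R : CommRingCat.{0}} {X : Scheme.{0}} {U : X.Opens} (hU : IsAffineOpen U)
    (l : Spec R ⟶ X) (h : ⊤ ≤ l ⁻¹ᵁ U) :
    l = Spec.map (l.appLE U ⊤ h ≫ (Scheme.ΓSpecIso R).hom) ≫ hU.fromSpec := by
  have e : (isAffineOpen_top (Spec R)).fromSpec = Spec.map (Scheme.ΓSpecIso R).inv := by
    rw [IsAffineOpen.fromSpec_top, Scheme.isoSpec_Spec_inv]
  rw [Spec.map_comp, Category.assoc, hU.SpecMap_appLE_fromSpec l (isAffineOpen_top _) h,
    e, ← Spec.map_comp_assoc, Iso.inv_hom_id, Spec.map_id, Category.id_comp]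

section ev

variable {X : Scheme.{0}} [X.Over SC] {α : Type} (F : Ultrafilter α) (p : α → Pts X)

open Classical in
/-- evaluation along a family of points, extended by zero -/
noncomputable def evF (U : X.Opens) (s : Γ(X, U)) (a : α) : ℂ :=
  if h : (p a).pt ∈ U then evHom (p a) U h s else 0

lemma evF_of_mem {U : X.Opens} (s : Γ(X, U)) {a : α} (h : (p a).pt ∈ U) :
    evF p U s a = evHom (p a) U h s := dif_pos h

/-- evaluation as a germ -/
noncomputable def evGerm (U : X.Opens) (hU : ∀ᶠ a in (F : Filter α), (p a).pt ∈ U) :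
    Γ(X, U) →+* Germ (F : Filter α) ℂ where
  toFun s := (evF p U s : Germ (F : Filter α) ℂ)
  map_one' := Germ.coe_eq.2 (hU.mono fun a h => by simp [evF_of_mem p _ h])
  map_zero' := Germ.coe_eq.2 (hU.mono fun a h => by simp [evF_of_mem p _ h])
  map_add' s t := Germ.coe_eq.2 (hU.mono fun a h => by simp [evF_of_mem p _ h])
  map_mul' s t := Germ.coe_eq.2 (hU.mono fun a h => by simp [evF_of_mem p _ h])

lemma evGerm_res {U V : X.Opens} (i : V ≤ U) (hV : ∀ᶠ a in (F : Filter α), (p a).pt ∈ V) :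
    evGerm F p U (hV.mono fun _ h => i h) =
      (evGerm F p V hV).comp (X.presheaf.map (homOfLE i).op).hom :=
  RingHom.ext fun s => Germ.coe_eq.2 (hV.mono fun a h => by
    rw [evF_of_mem p _ h, evF_of_mem p _ (i h)]
    exact (ev_map_res (p a) i h s).symm)

lemma pt_mem_basicOpen {U : X.Opens} (s : Γ(X, U)) (a : Pts X) (h : a.pt ∈ U) :
    a.pt ∈ X.basicOpen s ↔ evHom a U h s ≠ 0 := by
  have hu : ∀ c : Γ(SC, a.1 ⁻¹ᵁ U), cpt ∈ SC.basicOpen c ↔
      IsUnit ((SC.presheaf.map (homOfLE (Pts.top_le_preimage a h)).op) c) := by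
    intro c
    have he : a.1 ⁻¹ᵁ U = ⊤ := Pts.preimage_eq_top a h
    constructor
    · intro hc
      have h1 : SC.basicOpen ((SC.presheaf.map (homOfLE (Pts.top_le_preimage a h)).op) c) = ⊤ := by
        rw [Scheme.basicOpen_res]
        refine top_le_iff.1 fun q _ => ⟨trivial, ?_⟩
        rw [eq_cpt q]; exact hc
      exact SC.toRingedSpace.isUnit_of_isUnit_germ _ _ fun q hq => by
        have : q ∈ SC.basicOpen ((SC.presheaf.map (homOfLE (Pts.top_le_preimage a h)).op) c) := by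
          rw [h1]; trivial
        exact (SC.toRingedSpace.mem_basicOpen _ q hq).1 this
    · intro hc
      have h1 := Scheme.basicOpen_of_isUnit SC hc
      rw [Scheme.basicOpen_res] at h1
      exact (h1.ge (trivial : cpt ∈ (⊤ : SC.Opens))).2
  have h1 : a.pt ∈ X.basicOpen s ↔ cpt ∈ SC.basicOpen (a.1.app U s) := by
    rw [← Scheme.preimage_basicOpen]; rfl
  rw [h1, hu, ← isUnit_iff_ne_zero]
  exact (isUnit_map_iff (Scheme.ΓSpecIso (CommRingCat.of ℂ)).commRingCatIsoToRingEquiv _).symm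

end ev

section proper

variable {X Y : Scheme.{0}} [X.Over SC] [Y.Over SC] (f : X ⟶ Y) [f.IsOver SC]

theorem isProperMap_of_isProper [IsProper f] : IsProperMap (Pts.map f) := by
  classical
  refine isProperMap_iff_ultrafilter.2 ⟨Pts.continuous_map f, fun F y hy => ?_⟩
  obtain ⟨V, hV, hyV, -⟩ := exists_isAffineOpen_mem_and_subset (x := y.pt) (U := (⊤ : Y.Opens)) trivial
  have hFV : ∀ᶠ a in (F : Filter (Pts X)), (Pts.map f a).pt ∈ V :=
    hy ((Pts.isOpen_preimage_pt V).mem_nhds hyV)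
  have htend : ∀ s, Tendsto (evF (Pts.map f) V s) F (𝓝 (evHom y V hyV s)) := by
    intro s
    rw [tendsto_nhds]
    intro W hW hs
    refine Filter.mem_of_superset (hy ((Pts.isOpen_basicSet V s hW).mem_nhds ⟨hyV, hs⟩)) ?_
    rintro a ⟨ha, haW⟩
    show evF (Pts.map f) V s a ∈ W
    rw [evF_of_mem _ _ ha]
    exact haW
  -- a chart containing almost all points
  have hcp : IsCompact (f ⁻¹ᵁ V : Set X) := QuasiCompact.isCompact_preimage _ V.2 hV.isCompact
  have hcov : ∀ x ∈ (f ⁻¹ᵁ V : Set X), ∃ U : X.Opens, IsAffineOpen U ∧ x ∈ U ∧ U ≤ f ⁻¹ᵁ V :=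
    fun x hx => exists_isAffineOpen_mem_and_subset hx
  choose U hU hxU hUV using hcov
  obtain ⟨T, hT⟩ := hcp.elim_finite_subcover (fun x : (f ⁻¹ᵁ V : Set X) => (U x.1 x.2 : Set X))
    (fun x => (U x.1 x.2).2) (fun x hx => Set.mem_iUnion.2 ⟨⟨x, hx⟩, hxU x hx⟩)
  obtain ⟨x, -, hx⟩ : ∃ x ∈ T, ∀ᶠ a in (F : Filter (Pts X)), a.pt ∈ U x.1 x.2 := by
    refine (Ultrafilter.eventually_exists_mem_iff T.finite_toSet).1 (hFV.mono fun a ha => ?_)
    rw [Pts.pt_map] at ha
    obtain ⟨x, hx, hax⟩ := Set.mem_iUnion₂.1 (hT ha)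
    exact ⟨x, hx, hax⟩
  let U₁ := U x.1 x.2
  have hU₁ : IsAffineOpen U₁ := hU x.1 x.2
  have he₁ : U₁ ≤ f ⁻¹ᵁ V := hUV x.1 x.2
  let K := Germ (F : Filter (Pts X)) ℂ
  let φ₁ : Γ(X, U₁) →+* K := evGerm F id U₁ hx
  let φV : Γ(Y, V) →+* K := evGerm F (Pts.map f) V hFV
  have hφ : φ₁.comp (f.appLE V U₁ he₁).hom = φV := by
    refine RingHom.ext fun s => Germ.coe_eq.2 ((hx.and hFV).mono fun a h => ?_)
    rw [evF_of_mem _ _ h.1, evF_of_mem _ _ h.2]
    exact (RingHom.congr_fun (evHom_map f he₁ a h.1 h.2) s).symm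
  let ρV : Γ(Y, V) →+* bdd F := φV.codRestrict (bdd F) fun s => mem_bdd_of_tendsto (htend s)
  let i₁ : Spec (CommRingCat.of K) ⟶ X := Spec.map (CommRingCat.ofHom φ₁) ≫ hU₁.fromSpec
  let i₂ : Spec (CommRingCat.of (bdd F)) ⟶ Y := Spec.map (CommRingCat.ofHom ρV) ≫ hV.fromSpec
  have hsq : CommSq i₁ (Spec.map (CommRingCat.ofHom (algebraMap (bdd F) K))) f i₂ := ⟨by
    simp only [i₁, i₂, Category.assoc, ← hV.SpecMap_appLE_fromSpec f hU₁ he₁]
    rw [← Spec.map_comp_assoc, ← Spec.map_comp_assoc]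
    congr 2
    exact CommRingCat.hom_ext hφ⟩
  have hex : ValuativeCriterion.Existence f := by
    have h : UniversallyClosed f := inferInstance
    rw [UniversallyClosed.eq_valuativeCriterion] at h
    exact h.1
  obtain ⟨⟨l⟩⟩ := hex { R := bdd F, K := K, i₁ := i₁, i₂ := i₂, commSq := hsq }
  -- the limit
  let x₀ : SC ⟶ X := Spec.map (CommRingCat.ofHom (st (F := F))) ≫ l.l
  have hstV : (st (F := F)).comp ρV = evHom y V hyV := RingHom.ext fun s => st_eq rfl (htend s)
  have hx₀ : x₀ ≫ f = y.1 := by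
    rw [Category.assoc, l.fac_right, eq_SpecMap hV y hyV, ← hstV, ← Category.assoc,
      ← Spec.map_comp]
    rfl
  let a₀ : Pts X := ⟨x₀, by rw [← comp_over f, ← Category.assoc, hx₀]; exact y.2⟩
  refine ⟨a₀, Subtype.ext hx₀, ?_⟩
  rw [nhds_generateFrom]
  simp only [le_iInf_iff, le_principal_iff]
  rintro _ ⟨haS, U₂, s₂, W, hW, rfl⟩
  obtain ⟨ha₀, haW⟩ := haS
  obtain ⟨U', hU', haU', hU'U⟩ := exists_isAffineOpen_mem_and_subset (x := a₀.pt) (U := U₂) ha₀
  have hl : (⊤ : (Spec (CommRingCat.of (bdd F))).Opens) ≤ l.l ⁻¹ᵁ U' := by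
    intro q _
    have hc : Spec.map (CommRingCat.ofHom (st (F := F))) cpt ∈ l.l ⁻¹ᵁ U' := haU'
    have hmax : (Spec.map (CommRingCat.ofHom (st (F := F))) cpt).asIdeal.IsMaximal := by
      have hs : Function.Surjective (st (F := F)) := fun c =>
        ⟨⟨((fun _ => c : Pts X → ℂ) : Germ (F : Filter (Pts X)) ℂ),
          mem_bdd_of_tendsto tendsto_const_nhds⟩, st_eq rfl tendsto_const_nhds⟩
      show (Ideal.comap (st (F := F)) cpt.asIdeal).IsMaximal
      have : cpt.asIdeal.IsMaximal := by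
        have : cpt.asIdeal = ⊥ := (Ideal.eq_bot_or_top _).resolve_right cpt.2.ne_top
        rw [this]; exact Ideal.bot_isMaximal
      exact Ideal.comap_isMaximal_of_surjective _ hs
    have hle : (q : PrimeSpectrum (bdd F)).asIdeal ≤
        (Spec.map (CommRingCat.ofHom (st (F := F))) cpt).asIdeal := by
      rw [IsLocalRing.eq_maximalIdeal hmax]
      exact IsLocalRing.le_maximalIdeal (q : PrimeSpectrum (bdd F)).2.ne_top
    exact ((PrimeSpectrum.le_iff_specializes q _).1 hle).mem_open (l.l ⁻¹ᵁ U').2 hc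
  let ρ : Γ(X, U') ⟶ CommRingCat.of (bdd F) :=
    l.l.appLE U' ⊤ hl ≫ (Scheme.ΓSpecIso (CommRingCat.of (bdd F))).hom
  have hlρ : l.l = Spec.map ρ ≫ hU'.fromSpec := eq_SpecMap_of_range hU' l.l hl
  have heq : Spec.map (CommRingCat.ofHom φ₁) ≫ hU₁.fromSpec =
      Spec.map (ρ ≫ CommRingCat.ofHom (algebraMap (bdd F) K)) ≫ hU'.fromSpec := by
    rw [Spec.map_comp, Category.assoc, ← hlρ]
    exact l.fac_left.symm
  let η : ↥(Spec (CommRingCat.of K)) := (⊥ : PrimeSpectrum K)
  have hη1 : i₁ η ∈ U₁ := by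
    have : i₁ η ∈ Set.range hU₁.fromSpec := ⟨Spec.map (CommRingCat.ofHom φ₁) η, rfl⟩
    rwa [hU₁.range_fromSpec] at this
  have hη2 : i₁ η ∈ U' := by
    have : i₁ η ∈ Set.range hU'.fromSpec := by
      simp only [i₁, heq]
      exact ⟨Spec.map (ρ ≫ CommRingCat.ofHom (algebraMap (bdd F) K)) η, rfl⟩
    rwa [hU'.range_fromSpec] at this
  obtain ⟨g, hg, hηg⟩ := hU₁.exists_basicOpen_le (V := U') ⟨i₁ η, hη2⟩ hη1
  have hg0 : φ₁ g ≠ 0 := by
    intro h0
    have h2 : Spec.map (CommRingCat.ofHom φ₁) η ∈ hU₁.fromSpec ⁻¹ᵁ X.basicOpen g := hηg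
    rw [hU₁.fromSpec_preimage_basicOpen] at h2
    refine h2 ?_
    show g ∈ Ideal.comap φ₁ (⊥ : PrimeSpectrum K).asIdeal
    rw [Ideal.mem_comap, h0]
    exact zero_mem _
  have hFD : ∀ᶠ a in (F : Filter (Pts X)), a.pt ∈ X.basicOpen g := by
    have h1 : ∀ᶠ a in (F : Filter (Pts X)), evF id U₁ g a ≠ 0 := by
      rw [Ultrafilter.eventually_not]
      exact fun h => hg0 (Germ.coe_eq.2 h)
    filter_upwards [hx, h1] with a ha h
    rw [evF_of_mem _ _ ha] at h
    exact (pt_mem_basicOpen g a ha).2 h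
  have hD : IsAffineOpen (X.basicOpen g) := hU₁.basicOpen g
  have hFU' : ∀ᶠ a in (F : Filter (Pts X)), a.pt ∈ U' := hFD.mono fun _ h => hg h
  have key : ∀ (V' : X.Opens) (hV' : IsAffineOpen V') (i : X.basicOpen g ≤ V'),
      Spec.map (CommRingCat.ofHom (evGerm F id V' (hFD.mono fun _ h => i h))) ≫ hV'.fromSpec =
        Spec.map (CommRingCat.ofHom (evGerm F id (X.basicOpen g) hFD)) ≫ hD.fromSpec := by
    intro V' hV' i
    rw [evGerm_res F id i hFD, CommRingCat.ofHom_comp, CommRingCat.ofHom_hom, Spec.map_comp,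
      Category.assoc, hV'.map_fromSpec hD]
  have hρ : ρ ≫ CommRingCat.ofHom (algebraMap (bdd F) K) =
      CommRingCat.ofHom (evGerm F id U' hFU') := by
    refine Spec.map_injective ((cancel_mono hU'.fromSpec).1 ?_)
    rw [← heq, key U' hU' hg]
    exact key U₁ hU₁ (X.basicOpen_le g)
  have hev : evHom a₀ U' haU' = (st (F := F)).comp ρ.hom := by
    have h1 := eq_SpecMap hU' a₀ haU'
    have h2 : a₀.1 = Spec.map (ρ ≫ CommRingCat.ofHom (st (F := F))) ≫ hU'.fromSpec := by
      rw [Spec.map_comp, Category.assoc, ← hlρ]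
    exact congrArg CommRingCat.Hom.hom (Spec.map_injective ((cancel_mono hU'.fromSpec).1 (h1.symm.trans h2)))
  let s' : Γ(X, U') := X.presheaf.map (homOfLE hU'U).op s₂
  have hlim : Tendsto (evF id U' s') F (𝓝 (a₀.ev U₂ ha₀ s₂)) := by
    rw [← ev_map_res a₀ hU'U haU' s₂]
    show Tendsto _ _ (𝓝 (evHom a₀ U' haU' s'))
    rw [hev]
    exact tendsto_st (ρ s') (congrArg (fun φ : Γ(X, U') ⟶ CommRingCat.of K => φ s') hρ).symm
  have : ∀ᶠ a in (F : Filter (Pts X)), evF id U' s' a ∈ W := hlim (hW.mem_nhds haW)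
  filter_upwards [hFU', this] with a ha h
  refine ⟨hU'U ha, ?_⟩
  rw [evF_of_mem _ _ ha] at h
  rw [← ev_map_res a hU'U ha s₂]
  exact h

omit [X.Over SC] [Y.Over SC] in
lemma isProperMap_base_change {A B C : Type} [TopologicalSpace A] [TopologicalSpace B]
    [TopologicalSpace C] {f : A → C} {g : B → C} (hf : IsProperMap f) (hg : Continuous g) :
    IsProperMap (fun q : {q : A × B // f q.1 = g q.2} => q.1.2) := by
  refine isProperMap_iff_ultrafilter.2 ⟨continuous_snd.comp continuous_subtype_val, fun F b hb => ?_⟩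
  have h1 : Tendsto f (F.map fun q => q.1.1) (𝓝 (g b)) := by
    refine tendsto_map'_iff.2 ((hg.tendsto b).comp hb |>.congr fun q => ?_)
    exact q.2.symm
  obtain ⟨a, ha, hFa⟩ := (isProperMap_iff_ultrafilter.1 hf).2 h1
  refine ⟨⟨(a, b), ha⟩, rfl, ?_⟩
  rw [nhds_subtype, ← tendsto_iff_comap]
  exact Tendsto.prodMk_nhds hFa hb

variable [LocallyOfFiniteType (X ↘ SC)] [LocallyOfFiniteType (Y ↘ SC)]

omit [LocallyOfFiniteType (X ↘ SC)] in
lemma lft_of_over [LocallyOfFiniteType (X ↘ SC)] : LocallyOfFiniteType f := by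
  have : LocallyOfFiniteType (f ≫ Y ↘ SC) := by rw [comp_over f]; infer_instance
  exact locallyOfFiniteType_of_comp f (Y ↘ SC)

theorem universallyClosed_of_isProperMap [QuasiCompact f] (h : IsProperMap (Pts.map f)) :
    UniversallyClosed f := by
  refine (Groth.Agent.S9205.result f).1.2 fun S' g hg => ?_
  let iS : S'.Over SC := ⟨g ≫ Y ↘ SC⟩
  have : g.IsOver SC := ⟨rfl⟩
  have : LocallyOfFiniteType (S' ↘ SC) := by show LocallyOfFiniteType (g ≫ Y ↘ SC); infer_instance
  have := H4AnPullback.lft_pullback f g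
  have := lft_of_over f
  set p := Limits.pullback.snd f g
  have hp : IsProperMap (Pts.map p) := by
    have hh := H4AnPullback.isHomeomorph_pullback f g
    exact (isProperMap_base_change h (Pts.continuous_map g)).comp hh.homeomorph.isProperMap
  intro Z hZ
  have hlft : LocallyOfFiniteType p := lft_of_over p
  have : IsLocallyNoetherian S' := LocallyOfFiniteType.isLocallyNoetherian (S' ↘ SC)
  have hc : IsLocallyConstructible (p '' Z) :=
    p.isLocallyConstructible_image (H4AnClosure.isLocallyConstructible_of_isLocallyClosed hZ.isLocallyClosed)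
  have himg : (Pts.pt ⁻¹' (p '' Z) : Set (Pts S')) = Pts.map p '' (Pts.pt ⁻¹' Z) := by
    ext b
    constructor
    · rintro ⟨z, hz, hzb⟩
      obtain ⟨a, haZ, hab⟩ := exists_pt_mem (Z := Z ∩ p ⁻¹' {b.pt}) ⟨z, hz, hzb⟩
        (hZ.inter ((isClosed_pt b).preimage p.continuous)).isLocallyClosed
      exact ⟨a, haZ, pt_injective (by rw [Pts.pt_map]; exact hab)⟩
    · rintro ⟨a, ha, rfl⟩
      exact ⟨a.pt, ha, (Pts.pt_map p a).symm⟩
  rw [← isOpen_compl_iff]
  refine H4AnClosure.isOpen_of_isOpen_preimage (H4ProCons.isLocallyConstructible_compl hc) ?_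
  rw [Set.preimage_compl, isOpen_compl_iff, himg]
  exact hp.isClosedMap _ (hZ.preimage Pts.continuous_pt)

theorem isProper_iff [QuasiCompact f] :
    IsProper f ↔ IsProperMap (Pts.map f) ∧ IsSeparatedMap (Pts.map f) := by
  refine ⟨fun _ => ⟨isProperMap_of_isProper f, (H4AnPullback.isSeparated_iff f).1 inferInstance⟩,
    fun ⟨h1, h2⟩ => ?_⟩
  have := (H4AnPullback.isSeparated_iff f).2 h2
  have := universallyClosed_of_isProperMap f h1
  have := lft_of_over f
  exact { }

theorem locallyQuasiFinite_of_finite_fibres [QuasiCompact f]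
    (h : ∀ y : Pts Y, (Pts.map f ⁻¹' {y}).Finite) : LocallyQuasiFinite f := by
  have := lft_of_over f
  have := jacobson (X := X)
  have := jacobson (X := Y)
  rw [← Scheme.Hom.quasiFiniteLocus_eq_top_iff]
  refine top_le_iff.1 fun x _ => ?_
  by_contra hx
  obtain ⟨a, ha⟩ := exists_pt_mem (Z := ((f.quasiFiniteLocus : Set X))ᶜ) ⟨x, hx⟩
    f.quasiFiniteLocus.isOpen.isClosed_compl.isLocallyClosed
  apply ha
  have hy : IsClosed ({f a.pt} : Set Y) := by
    rw [← Pts.pt_map]; exact isClosed_pt _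
  have hfin : (f ⁻¹' {f a.pt} ∩ closedPoints X).Finite := by
    refine ((h (Pts.map f a)).image Pts.pt).subset fun z ⟨hz1, hz2⟩ => ?_
    obtain ⟨b, rfl⟩ := exists_pt (X := X) hz2
    exact ⟨b, pt_injective (by rw [Pts.pt_map, Pts.pt_map]; exact hz1), rfl⟩
  have hfib : (f ⁻¹' {f a.pt}).Finite := by
    have h1 : IsClosed (f ⁻¹' {f a.pt} ∩ closedPoints X) := by
      rw [← Set.biUnion_of_singleton (f ⁻¹' {f a.pt} ∩ closedPoints X)]
      exact hfin.isClosed_biUnion fun z hz => hz.2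
    refine hfin.subset ?_
    calc f ⁻¹' {f a.pt} ⊆ closure (f ⁻¹' {f a.pt}) := subset_closure
      _ = closure (f ⁻¹' {f a.pt} ∩ closedPoints X) :=
        (JacobsonSpace.closure_inter_closedPoints_eq_closure (hy.preimage f.continuous).isLocallyClosed).symm
      _ = _ := h1.closure_eq
  have : Finite (f.fiber (f a.pt)) := by
    have := hfib.to_subtype
    exact Finite.of_equiv _ (f.fiberHomeo (f a.pt)).toEquiv.symm
  have : DiscreteTopology (f.fiber (f a.pt)) := by
    have : LocallyOfFiniteType (f.fiberToSpecResidueField (f a.pt)) :=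
      MorphismProperty.pullback_snd _ _ inferInstance
    have : JacobsonSpace (f.fiber (f a.pt)) :=
      LocallyOfFiniteType.jacobsonSpace (f.fiberToSpecResidueField (f a.pt))
    infer_instance
  exact Scheme.Hom.quasiFiniteAt_iff_isOpen_singleton_asFiber.mpr (isOpen_discrete _)

theorem finite_fibre_of_isFinite [IsFinite f] (y : Pts Y) : (Pts.map f ⁻¹' {y}).Finite := by
  refine ((f.finite_preimage_singleton y.pt).preimage pt_injective.injOn).subset fun a ha => ?_
  show f a.pt = y.pt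
  rw [← Pts.pt_map, show Pts.map f a = y from ha]

theorem isFinite_iff [QuasiCompact f] :
    IsFinite f ↔ IsProperMap (Pts.map f) ∧ IsSeparatedMap (Pts.map f) ∧
      ∀ y : Pts Y, (Pts.map f ⁻¹' {y}).Finite := by
  refine ⟨fun _ => ⟨isProperMap_of_isProper f, (H4AnPullback.isSeparated_iff f).1 inferInstance,
    finite_fibre_of_isFinite f⟩, fun ⟨h1, h2, h3⟩ => ?_⟩
  have := (isProper_iff f).2 ⟨h1, h2⟩
  have := locallyQuasiFinite_of_finite_fibres f h3
  exact IsFinite.of_isProper_of_locallyQuasiFinite f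

end proper

end Groth.Agent.H4AnProper
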