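import Mathlib

/-!
Quasi-isomorphic injections of chain complexes with projective cokernel split, uniquely up to homotopy.
-/

universe u v

namespace Groth.Agent.H4ChainSplit

open CategoryTheory HomologicalComplex

set_option maxHeartbeats 400000

variable {R : Type u} [CommRing R]

theorem exists_contraction (Q : ChainComplex (ModuleCat.{v} R) ℕ) [∀ q, Module.Projective R (Q.X q)] (hQ : Q.Acyclic) :
    ∃ s : ∀ q, Q.X q →ₗ[R] Q.X (q + 1), (∀ x : Q.X 0, (Q.d 1 0).hom (s 0 x) = x) ∧
      ∀ q (x : Q.X (q + 1)), (Q.d (q + 1 + 1) (q + 1)).hom (s (q + 1) x) + s q ((Q.d (q + 1) q).hom x) = x := by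
  classical
  have h0 : Function.Surjective (Q.d 1 0).hom := by
    intro x
    have := (Q.exactAt_iff' 1 0 0 (by simp) (by simp)).mp (hQ 0)
    rw [ShortComplex.moduleCat_exact_iff] at this
    exact this x (by
      show (Q.d 0 0).hom x = 0
      rw [Q.shape 0 0 (by simp)]; rfl)
  have hd : ∀ q (x : Q.X (q + 1 + 1)), (Q.d (q + 1) q).hom ((Q.d (q + 1 + 1) (q + 1)).hom x) = 0 := fun q x => by
    rw [← LinearMap.comp_apply, ← ModuleCat.hom_comp, Q.d_comp_d]; rfl
  have hex : ∀ q (y : Q.X (q + 1)), (Q.d (q + 1) q).hom y = 0 → ∃ x, (Q.d (q + 1 + 1) (q + 1)).hom x = y := by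
    intro q y hy
    have := (Q.exactAt_iff' (q + 1 + 1) (q + 1) q (by simp) (by simp)).mp (hQ (q + 1))
    rw [ShortComplex.moduleCat_exact_iff] at this
    exact this y hy
  obtain ⟨s0, hs0⟩ := Module.projective_lifting_property (Q.d 1 0).hom LinearMap.id h0
  have hs0' : ∀ x, (Q.d 1 0).hom (s0 x) = x := fun x => LinearMap.congr_fun hs0 x
  let P := fun q => {s : Q.X q →ₗ[R] Q.X (q + 1) // ∀ x, (Q.d (q + 1) q).hom (s ((Q.d (q + 1) q).hom x)) = (Q.d (q + 1) q).hom x}
  have step : ∀ q (s : P q), ∃ s' : P (q + 1), ∀ x, (Q.d (q + 1 + 1) (q + 1)).hom (s'.1 x) + s.1 ((Q.d (q + 1) q).hom x) = x := by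
    intro q s
    let φ : Q.X (q + 1) →ₗ[R] LinearMap.range (Q.d (q + 1 + 1) (q + 1)).hom :=
      (LinearMap.id - s.1 ∘ₗ (Q.d (q + 1) q).hom).codRestrict _ fun x => by
        rw [LinearMap.mem_range]
        refine hex q _ ?_
        simp [s.2 x]
    obtain ⟨s', hs'⟩ := Module.projective_lifting_property (Q.d (q + 1 + 1) (q + 1)).hom.rangeRestrict φ
      (LinearMap.surjective_rangeRestrict _)
    have h' : ∀ x, (Q.d (q + 1 + 1) (q + 1)).hom (s' x) + s.1 ((Q.d (q + 1) q).hom x) = x := by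
      intro x
      have h1 := congrArg Subtype.val (LinearMap.congr_fun hs' x)
      simp only [LinearMap.comp_apply, φ, LinearMap.codRestrict_apply, LinearMap.sub_apply, LinearMap.id_apply] at h1
      have h2 : (Q.d (q + 1 + 1) (q + 1)).hom (s' x) = x - s.1 ((Q.d (q + 1) q).hom x) := h1
      rw [h2, sub_add_cancel]
    exact ⟨⟨s', fun x => by simpa [hd q x] using h' ((Q.d (q + 1 + 1) (q + 1)).hom x)⟩, h'⟩
  choose next hnext using step
  let S : ∀ q, P q := fun q => Nat.rec (motive := P) ⟨s0, fun x => hs0' _⟩ next q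
  exact ⟨fun q => (S q).1, hs0', fun q => hnext q (S q)⟩

variable {A' A A'' : ChainComplex (ModuleCat.{v} R) ℕ}

theorem exists_section (f : A' ⟶ A) (p : A ⟶ A'') [∀ q, Module.Projective R (A''.X q)]
    (hp : ∀ q, Function.Surjective (p.f q).hom) (hA : A''.Acyclic) :
    ∃ h : A'' ⟶ A, h ≫ p = 𝟙 A'' := by
  classical
  obtain ⟨s, hs0, hs⟩ := exists_contraction A'' hA
  choose σ hσ using fun q => Module.projective_lifting_property (p.f q).hom LinearMap.id (hp q)
  have hσ' : ∀ q x, (p.f q).hom (σ q x) = x := fun q x => LinearMap.congr_fun (hσ q) x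
  let w : ∀ q, A''.X q →ₗ[R] A.X q := fun q => (A.d (q + 1) q).hom ∘ₗ σ (q + 1) ∘ₗ s q
  let hmap : ∀ q, A''.X q ⟶ A.X q := fun q =>
    match q with
    | 0 => ModuleCat.ofHom (w 0)
    | q + 1 => ModuleCat.ofHom (w (q + 1) + σ (q + 1) ∘ₗ s q ∘ₗ (A''.d (q + 1) q).hom)
  have hw : ∀ q x, (A.d (q + 1) q).hom ((w (q + 1)) x) = 0 := fun q x => by
    simp only [w, LinearMap.comp_apply]
    rw [← LinearMap.comp_apply, ← ModuleCat.hom_comp, A.d_comp_d]; rfl
  have hdd : ∀ q (x : A''.X (q + 1 + 1)), (A''.d (q + 1) q).hom ((A''.d (q + 1 + 1) (q + 1)).hom x) = 0 := fun q x => by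
    rw [← LinearMap.comp_apply, ← ModuleCat.hom_comp, A''.d_comp_d]; rfl
  have hcomm : ∀ i j (z : A.X i), (p.f j).hom ((A.d i j).hom z) = (A''.d i j).hom ((p.f i).hom z) := fun i j z => by
    rw [← LinearMap.comp_apply, ← ModuleCat.hom_comp, ← p.comm, ModuleCat.hom_comp, LinearMap.comp_apply]
  refine ⟨{ f := hmap, comm' := ?_ }, ?_⟩
  · rintro i j (rfl : j + 1 = i)
    refine ModuleCat.hom_ext (LinearMap.ext fun x => ?_)
    simp only [ModuleCat.hom_comp, LinearMap.comp_apply]
    cases j with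
    | zero =>
      simp only [hmap, ModuleCat.hom_ofHom, LinearMap.add_apply, map_add, hw, zero_add]
      simp only [w, LinearMap.comp_apply]
    | succ j =>
      simp only [hmap, ModuleCat.hom_ofHom, LinearMap.add_apply, map_add, hw, zero_add]
      simp only [w, LinearMap.comp_apply, hdd, map_zero, add_zero]
  · ext q : 1
    refine ModuleCat.hom_ext (LinearMap.ext fun x => ?_)
    simp only [HomologicalComplex.comp_f, HomologicalComplex.id_f, ModuleCat.hom_comp, LinearMap.comp_apply, ModuleCat.hom_id, LinearMap.id_apply]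
    cases q with
    | zero =>
      simp only [hmap, ModuleCat.hom_ofHom, w, LinearMap.comp_apply, hcomm, hσ', hs0]
    | succ q =>
      simp only [hmap, ModuleCat.hom_ofHom, w, LinearMap.add_apply, map_add, LinearMap.comp_apply, hcomm, hσ', hs]

theorem exists_retraction (f : A' ⟶ A) (p : A ⟶ A'') (h : A'' ⟶ A) (hh : h ≫ p = 𝟙 A'')
    (hf : ∀ q, Function.Injective (f.f q).hom) (hfp : ∀ q, Function.Exact (f.f q).hom (p.f q).hom) :
    ∃ g : A ⟶ A', f ≫ g = 𝟙 A' ∧ ∀ q x, (f.f q).hom ((g.f q).hom x) = x - (h.f q).hom ((p.f q).hom x) := by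
  have hh' : ∀ q x, (p.f q).hom ((h.f q).hom x) = x := fun q x => by
    have := congrArg (fun φ : A'' ⟶ A'' => (φ.f q).hom x) hh
    simpa using this
  let e := fun q => LinearEquiv.ofInjective (f.f q).hom (hf q)
  let g : ∀ q, A.X q →ₗ[R] A'.X q := fun q => (e q).symm.toLinearMap ∘ₗ
    (LinearMap.id - (h.f q).hom ∘ₗ (p.f q).hom).codRestrict _ fun x => by
      rw [LinearMap.mem_range]
      refine ((hfp q) _).mp ?_
      simp [hh']
  have hg : ∀ q x, (f.f q).hom (g q x) = x - (h.f q).hom ((p.f q).hom x) := fun q x => by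
    have := congrArg Subtype.val ((e q).apply_symm_apply
      ((LinearMap.id - (h.f q).hom ∘ₗ (p.f q).hom).codRestrict (LinearMap.range (f.f q).hom) (fun x => by
      rw [LinearMap.mem_range]
      refine ((hfp q) _).mp ?_
      simp [hh']) x))
    simpa [g, e] using this
  have hc : ∀ {X Y : ChainComplex (ModuleCat.{v} R) ℕ} (φ : X ⟶ Y) i j (z : X.X i),
      (φ.f j).hom ((X.d i j).hom z) = (Y.d i j).hom ((φ.f i).hom z) := fun φ i j z => by
    rw [← LinearMap.comp_apply, ← ModuleCat.hom_comp, ← φ.comm, ModuleCat.hom_comp, LinearMap.comp_apply]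
  refine ⟨{ f := fun q => ModuleCat.ofHom (g q), comm' := fun i j _ => ?_ }, ?_, hg⟩
  · refine ModuleCat.hom_ext (LinearMap.ext fun x => hf j ?_)
    simp only [ModuleCat.hom_comp, LinearMap.comp_apply, ModuleCat.hom_ofHom]
    rw [hc, hg, hg, map_sub, hc p, hc h]
  · ext q : 1
    refine ModuleCat.hom_ext (LinearMap.ext fun x => hf q ?_)
    simp [hg, (hfp q).apply_apply_eq_zero]

theorem exists_homotopy (f : A' ⟶ A) (p : A ⟶ A'') [∀ q, Module.Projective R (A''.X q)]
    (hp : ∀ q, Function.Surjective (p.f q).hom) (hfp : ∀ q, Function.Exact (f.f q).hom (p.f q).hom)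
    (hA : A''.Acyclic) (g₁ g₂ : A ⟶ A') (hg : f ≫ g₁ = f ≫ g₂) :
    ∃ H : Homotopy g₁ g₂, ∀ i j : ℕ, f.f i ≫ H.hom i j = 0 := by
  classical
  obtain ⟨s, hs0, hs⟩ := exists_contraction A'' hA
  choose σ hσ using fun q => Module.projective_lifting_property (p.f q).hom LinearMap.id (hp q)
  let δ : ∀ q, A.X q →ₗ[R] A'.X q := fun q => (g₁.f q).hom - (g₂.f q).hom
  let u : ∀ q, A''.X q →ₗ[R] A'.X q := fun q => δ q ∘ₗ σ q
  have hu : ∀ q x, u q ((p.f q).hom x) = δ q x := by
    intro q x
    have hmem : (p.f q).hom (σ q ((p.f q).hom x) - x) = 0 := by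
      rw [map_sub, show (p.f q).hom (σ q ((p.f q).hom x)) = (p.f q).hom x from LinearMap.congr_fun (hσ q) _, sub_self]
    obtain ⟨a, ha⟩ := (hfp q _).mp hmem
    have h0 : δ q ((f.f q).hom a) = 0 := by
      have := congrArg (fun φ : A' ⟶ A' => (φ.f q).hom a) hg
      simpa [δ, sub_eq_zero] using this
    rw [ha, map_sub, sub_eq_zero] at h0
    exact h0
  let K : ∀ q, A.X q →ₗ[R] A'.X (q + 1) := fun q => u (q + 1) ∘ₗ s q ∘ₗ (p.f q).hom
  have hc : ∀ {X Y : ChainComplex (ModuleCat.{v} R) ℕ} (φ : X ⟶ Y) i j (z : X.X i),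
      (φ.f j).hom ((X.d i j).hom z) = (Y.d i j).hom ((φ.f i).hom z) := fun φ i j z => by
    rw [← LinearMap.comp_apply, ← ModuleCat.hom_comp, ← φ.comm, ModuleCat.hom_comp, LinearMap.comp_apply]
  have hδ : ∀ i j z, δ j ((A.d i j).hom z) = (A'.d i j).hom (δ i z) := fun i j z => by
    simp only [δ, LinearMap.sub_apply, map_sub, hc]
  have hud : ∀ i j z, u j ((A''.d i j).hom z) = (A'.d i j).hom (u i z) := fun i j z => by
    obtain ⟨z', rfl⟩ := hp i z
    rw [← hc p, hu, hu, hδ]
  let hom : ∀ i j, A.X i ⟶ A'.X j := fun i j =>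
    if h : i + 1 = j then ModuleCat.ofHom (K i) ≫ eqToHom (congrArg A'.X h) else 0
  have hKK : ∀ i, hom i (i + 1) = ModuleCat.ofHom (K i) := fun i => by simp [hom]
  refine ⟨{ hom := hom, zero := fun i j hij => dif_neg (fun h => hij h), comm := fun q => ?_ }, fun i j => ?_⟩
  · cases q with
    | zero =>
      rw [dNext_eq_zero _ 0 (by simp), zero_add, prevD_eq _ (show (ComplexShape.down ℕ).Rel 1 0 from rfl), hKK 0]
      refine ModuleCat.hom_ext (LinearMap.ext fun x => ?_)
      simp only [ModuleCat.hom_add, ModuleCat.hom_comp, ModuleCat.hom_ofHom, LinearMap.add_apply, LinearMap.comp_apply, K]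
      rw [← hud, hs0, hu]
      simp [δ]
    | succ q =>
      rw [dNext_eq _ (show (ComplexShape.down ℕ).Rel (q + 1) q from rfl),
        prevD_eq _ (show (ComplexShape.down ℕ).Rel (q + 1 + 1) (q + 1) from rfl), hKK q, hKK (q + 1)]
      refine ModuleCat.hom_ext (LinearMap.ext fun x => ?_)
      simp only [ModuleCat.hom_add, ModuleCat.hom_comp, ModuleCat.hom_ofHom, LinearMap.add_apply, LinearMap.comp_apply, K]
      rw [hc p, ← hud, ← map_add, add_comm (s q _), hs, hu]
      simp [δ]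
  · refine ModuleCat.hom_ext (LinearMap.ext fun x => ?_)
    by_cases h : i + 1 = j
    · subst h
      simp [hKK, K, (hfp i).apply_apply_eq_zero]
    · simp [hom, h]

theorem acyclic_of_exact (f : A' ⟶ A) (p : A ⟶ A'') (hf : ∀ q, Function.Injective (f.f q).hom)
    (hp : ∀ q, Function.Surjective (p.f q).hom) (hfp : ∀ q, Function.Exact (f.f q).hom (p.f q).hom) [QuasiIso f] :
    A''.Acyclic := by
  have h0 : f ≫ p = 0 := by
    ext q : 1
    exact ModuleCat.hom_ext (LinearMap.ext fun x => (hfp q).apply_apply_eq_zero x)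
  let S := ShortComplex.mk f p h0
  have hS : S.ShortExact := shortExact_of_degreewise_shortExact S fun q =>
    have hm : Mono ((S.map (eval (ModuleCat.{v} R) _ q)).f) := (ModuleCat.mono_iff_injective _).mpr (hf q)
    have he : Epi ((S.map (eval (ModuleCat.{v} R) _ q)).g) := (ModuleCat.epi_iff_surjective _).mpr (hp q)
    { exact := (ShortComplex.ShortExact.moduleCat_exact_iff_function_exact _).mpr (hfp q) }
  exact hS.acyclic_X₃ ‹QuasiIso f›

theorem exists_cokernel (f : A' ⟶ A) (hf : ∀ q, Function.Injective (f.f q).hom)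
    (hq : ∀ q, Module.Projective R ((A.X q) ⧸ LinearMap.range (f.f q).hom)) :
    ∃ (A'' : ChainComplex (ModuleCat.{v} R) ℕ) (p : A ⟶ A''), (∀ q, Module.Projective R (A''.X q)) ∧
      (∀ q, Function.Surjective (p.f q).hom) ∧ ∀ q, Function.Exact (f.f q).hom (p.f q).hom := by
  have hmono : Mono f := mono_of_mono_f f fun q => (ModuleCat.mono_iff_injective _).mpr (hf q)
  let S := ShortComplex.mk f (Limits.cokernel.π f) (Limits.cokernel.condition f)
  have hS : S.ShortExact := { exact := ShortComplex.exact_of_g_is_cokernel _ (Limits.cokernelIsCokernel f) }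
  have hq' := fun q => (shortExact_iff_degreewise_shortExact S).mp hS q
  have hp : ∀ q, Function.Surjective ((Limits.cokernel.π f).f q).hom := fun q =>
    (ModuleCat.epi_iff_surjective _).mp (hq' q).epi_g
  have hfp : ∀ q, Function.Exact (f.f q).hom ((Limits.cokernel.π f).f q).hom := fun q =>
    (ShortComplex.ShortExact.moduleCat_exact_iff_function_exact _).mp (hq' q).exact
  refine ⟨_, Limits.cokernel.π f, fun q => ?_, hp, hfp⟩
  have := hq q
  exact Module.Projective.of_equiv ((Submodule.quotEquivOfEq _ _ ((hfp q).linearMap_ker_eq).symm).trans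
    ((((Limits.cokernel.π f).f q).hom).quotKerEquivOfSurjective (hp q)))

end Groth.Agent.H4ChainSplit
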