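import Mathlib

/-!
Etale coordinate charts at points with finite residue field.
-/

set_option autoImplicit false

universe u

namespace Groth.Agent.H4EtaleChart

open TensorProduct KaehlerDifferential

variable (k : Type u) [CommRing k] {R : Type u} [CommRing R] [Algebra k R] (m : Ideal R)

/-- the differential modulo `m` -/
noncomputable def δ (x : R) : (R ⧸ m) ⊗[R] Ω[R⁄k] := 1 ⊗ₜ D k R x

theorem δ_add (x y : R) : δ k m (x + y) = δ k m x + δ k m y := by simp [δ, tmul_add]

theorem δ_sub (x y : R) : δ k m (x - y) = δ k m x - δ k m y := by simp [δ, tmul_sub]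

theorem δ_mul_mem (r : R) {μ : R} (hμ : μ ∈ m) : δ k m (r * μ) = r • δ k m μ := by
  have h0 : μ • ((1 : R ⧸ m) ⊗ₜ[R] D k R r) = 0 := by
    rw [smul_tmul', Algebra.smul_def, mul_one, Ideal.Quotient.algebraMap_eq,
      Ideal.Quotient.eq_zero_iff_mem.2 hμ, zero_tmul]
  simp only [δ, Derivation.leibniz, tmul_add, tmul_smul, h0, add_zero]

theorem exists_δ_eq [m.IsMaximal] [Finite (R ⧸ m)] (e : (R ⧸ m) ⊗[R] Ω[R⁄k]) :
    ∃ μ ∈ m, δ k m μ = e := by
  classical
  have : Fintype (R ⧸ m) := Fintype.ofFinite _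
  let _ := Ideal.Quotient.field m
  set q := Fintype.card (R ⧸ m) with hq
  have hqm : (q : R) ∈ m := by
    rw [← Ideal.Quotient.eq_zero_iff_mem, map_natCast, hq, Nat.cast_card_eq_zero]
  induction e using TensorProduct.induction_on with
  | zero => exact ⟨0, m.zero_mem, by simp [δ]⟩
  | add a b ha hb =>
    obtain ⟨μ, h1, h2⟩ := ha
    obtain ⟨ν, h3, h4⟩ := hb
    exact ⟨μ + ν, m.add_mem h1 h3, by rw [δ_add, h2, h4]⟩
  | tmul a ω =>
    obtain ⟨r, rfl⟩ := Ideal.Quotient.mk_surjective a
    suffices ∃ μ ∈ m, δ k m μ = (1 : R ⧸ m) ⊗ₜ[R] ω by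
      obtain ⟨μ, h1, h2⟩ := this
      refine ⟨r * μ, m.mul_mem_left r h1, ?_⟩
      rw [δ_mul_mem k m r h1, h2, smul_tmul', Algebra.smul_def, mul_one]
      rfl
    have hω : ω ∈ Submodule.span R (Set.range (D k R)) := by
      rw [span_range_derivation]; trivial
    induction hω using Submodule.span_induction with
    | mem x hx =>
      obtain ⟨y, rfl⟩ := hx
      refine ⟨y - y ^ q, ?_, ?_⟩
      · rw [← Ideal.Quotient.eq_zero_iff_mem, map_sub, map_pow, hq, FiniteField.pow_card, sub_self]
      · rw [δ_sub]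
        have h0 : δ k m (y ^ q) = 0 := by
          rw [δ, Derivation.leibniz_pow, tmul_smul]
          rw [← Nat.cast_smul_eq_nsmul R, smul_tmul', Algebra.smul_def, mul_one,
            Ideal.Quotient.algebraMap_eq, Ideal.Quotient.eq_zero_iff_mem.2 hqm, zero_tmul]
        rw [h0, sub_zero, δ]
    | zero => exact ⟨0, m.zero_mem, by simp [δ]⟩
    | add a b _ _ ha hb =>
      obtain ⟨μ, h1, h2⟩ := ha
      obtain ⟨ν, h3, h4⟩ := hb
      exact ⟨μ + ν, m.add_mem h1 h3, by rw [δ_add, h2, h4, tmul_add]⟩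
    | smul c a _ ha =>
      obtain ⟨μ, h1, h2⟩ := ha
      exact ⟨c * μ, m.mul_mem_left c h1, by rw [δ_mul_mem k m c h1, h2, tmul_smul]⟩

theorem finite_residue [IsLocalRing k] [Finite (IsLocalRing.ResidueField k)]
    [Algebra.FiniteType k R] [m.IsMaximal]
    (hm : m.comap (algebraMap k R) = IsLocalRing.maximalIdeal k) : Finite (R ⧸ m) := by
  let mk := IsLocalRing.maximalIdeal k
  let _ : Algebra (IsLocalRing.ResidueField k) (R ⧸ m) :=
    (Ideal.quotientMap m (algebraMap k R) hm.ge).toAlgebra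
  have : IsScalarTower k (IsLocalRing.ResidueField k) (R ⧸ m) := IsScalarTower.of_algebraMap_eq'
    (RingHom.ext fun x => rfl)
  have : Algebra.FiniteType (IsLocalRing.ResidueField k) (R ⧸ m) :=
    Algebra.FiniteType.of_restrictScalars_finiteType k _ _
  let _ := Ideal.Quotient.field m
  have : Module.Finite (IsLocalRing.ResidueField k) (R ⧸ m) :=
    finite_of_finite_type_of_isJacobsonRing _ _
  exact Module.finite_of_finite (IsLocalRing.ResidueField k)

theorem exists_chart [Algebra.FinitePresentation k R] [m.IsMaximal] [Finite (R ⧸ m)]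
    [Algebra.IsSmoothAt k m] (d : ℕ) (hd : 0 < d)
    (hdim : Module.finrank (R ⧸ m) ((R ⧸ m) ⊗[R] Ω[R⁄k]) = d) :
    ∃ g : R, g ∉ m ∧ ∃ φ : MvPolynomial (Fin d) k →ₐ[k] Localization.Away g,
      φ.toRingHom.Etale ∧ Function.Surjective
        ((Ideal.Quotient.mk (m.map (algebraMap R (Localization.Away g)))).comp φ.toRingHom) := by
  classical
  let _ := Ideal.Quotient.field m
  obtain ⟨α, hα⟩ := IsCyclic.exists_generator (α := (R ⧸ m)ˣ)
  obtain ⟨a, ha⟩ := Ideal.Quotient.mk_surjective (α : R ⧸ m)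
  have : Module.Finite (R ⧸ m) ((R ⧸ m) ⊗[R] Ω[R⁄k]) := inferInstance
  let b := (Module.finBasisOfFinrankEq (R ⧸ m) ((R ⧸ m) ⊗[R] Ω[R⁄k]) hdim)
  let c : Fin d → R := fun i => if i = ⟨0, hd⟩ then a else 0
  choose μ hμ hδμ using fun i => exists_δ_eq k m (b i - δ k m (c i))
  let f : Fin d → R := fun i => c i + μ i
  have hf : ∀ i, δ k m (f i) = b i := fun i => by simp [f, δ_add, hδμ]
  let φ₀ : MvPolynomial (Fin d) k →ₐ[k] R := MvPolynomial.aeval f
  let _ : Algebra (MvPolynomial (Fin d) k) R := φ₀.toRingHom.toAlgebra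
  have : IsScalarTower k (MvPolynomial (Fin d) k) R :=
    IsScalarTower.of_algebraMap_eq' φ₀.comp_algebraMap.symm
  have : Algebra.FinitePresentation (MvPolynomial (Fin d) k) R :=
    Algebra.FinitePresentation.of_restrict_scalars_finitePresentation k _ _
  let P := MvPolynomial (Fin d) k
  let L := Localization.AtPrime m
  let ψ := mapBaseChange k P L
  let v : Fin d → Ω[L⁄k] := fun i => D k L (algebraMap R L (f i))
  let ι₀ : Ω[R⁄k] →ₗ[R] Ω[L⁄k] := KaehlerDifferential.map k k R L
  have hι₀ : IsLocalizedModule m.primeCompl ι₀ := inferInstance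
  -- the `v i` generate
  have hspan : Submodule.span L (Set.range v) = ⊤ := by
    have hfin : Module.Finite L Ω[L⁄k] := inferInstance
    have hJ : IsLocalRing.maximalIdeal L ≤ Ideal.jacobson (⊥ : Ideal L) :=
      IsLocalRing.maximalIdeal_le_jacobson _
    refine le_antisymm le_top (Submodule.le_of_le_smul_of_le_jacobson_bot hfin.1 hJ ?_)
    rintro x -
    obtain ⟨⟨ω, s⟩, hs⟩ := IsLocalizedModule.surj m.primeCompl ι₀ x
    obtain ⟨w, hw⟩ := IsLocalization.map_units L s
    have hx : x = (↑w⁻¹ : L) • ι₀ ω := by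
      rw [← hs, Submonoid.smul_def, ← algebraMap_smul L s.1 x, ← hw, smul_smul, Units.inv_mul,
        one_smul]
    rw [hx]
    refine Submodule.smul_mem _ _ ?_
    -- modulo `m` every form is a combination of the `δ (f i)`
    have h1 : (1 : R ⧸ m) ⊗ₜ[R] ω ∈ Submodule.span R (Set.range fun i => δ k m (f i)) := by
      rw [Submodule.mem_span_range_iff_exists_fun]
      choose r hr using fun i => Ideal.Quotient.mk_surjective (b.repr ((1 : R ⧸ m) ⊗ₜ[R] ω) i)
      refine ⟨r, ?_⟩
      conv_rhs => rw [← b.sum_repr ((1 : R ⧸ m) ⊗ₜ[R] ω)]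
      refine Finset.sum_congr rfl fun i _ => ?_
      rw [hf, ← hr, ← Ideal.Quotient.algebraMap_eq, algebraMap_smul]
    obtain ⟨r, hr⟩ := (Submodule.mem_span_range_iff_exists_fun R).1 h1
    have h2 : ω - ∑ i, r i • D k R (f i) ∈ m • (⊤ : Submodule R Ω[R⁄k]) := by
      have h3 : (1 : R ⧸ m) ⊗ₜ[R] (ω - ∑ i, r i • D k R (f i)) = 0 := by
        rw [tmul_sub, tmul_sum, sub_eq_zero]
        simp only [tmul_smul]
        exact hr.symm
      have h4 := congrArg (TensorProduct.quotTensorEquivQuotSMul Ω[R⁄k] m) h3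
      rw [← Submodule.Quotient.mk_eq_zero, Submodule.Quotient.mk_sub]
      simpa using h4
    have h5 : ι₀ (ω - ∑ i, r i • D k R (f i)) ∈
        IsLocalRing.maximalIdeal L • (⊤ : Submodule L Ω[L⁄k]) := by
      refine Submodule.smul_induction_on h2 (fun x hx y _ => ?_) (fun x y hx hy => ?_)
      · rw [map_smul, ← algebraMap_smul L x]
        refine Submodule.smul_mem_smul ?_ trivial
        exact (IsLocalization.AtPrime.to_map_mem_maximal_iff L m x).2 hx
      · rw [map_add]; exact add_mem hx hy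
    have h6 : ι₀ (∑ i, r i • D k R (f i)) ∈ Submodule.span L (Set.range v) := by
      rw [map_sum]
      refine sum_mem fun i _ => ?_
      rw [map_smul, ← algebraMap_smul L (r i)]
      refine Submodule.smul_mem _ _ (Submodule.subset_span ⟨i, ?_⟩)
      exact (KaehlerDifferential.map_D k k R L (f i)).symm
    have := Submodule.add_mem_sup h6 h5
    rwa [← map_add, add_sub_cancel] at this
  -- freeness, and the rank is at least `d`
  have : Module.Free L Ω[L⁄k] := Module.free_of_flat_of_isLocalRing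
  have hrank : d ≤ Module.finrank L Ω[L⁄k] := by
    let B := Module.Free.chooseBasis L Ω[L⁄k]
    let T : Ω[R⁄k] →ₗ[R] (R ⧸ m) ⊗[R] Ω[R⁄k] := TensorProduct.mk R (R ⧸ m) _ 1
    have hu : ∀ s : m.primeCompl,
        IsUnit (algebraMap R (Module.End R ((R ⧸ m) ⊗[R] Ω[R⁄k])) s) := by
      intro s
      obtain ⟨t, ht⟩ := Ideal.Quotient.mk_surjective ((Ideal.Quotient.mk m s.1)⁻¹)
      have hs0 : Ideal.Quotient.mk m s.1 ≠ 0 := fun h => s.2 (Ideal.Quotient.eq_zero_iff_mem.1 h)
      have hst : ∀ z : (R ⧸ m) ⊗[R] Ω[R⁄k], (s.1 * t) • z = z := by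
        intro z
        rw [← algebraMap_smul (R ⧸ m) (s.1 * t) z, Ideal.Quotient.algebraMap_eq, map_mul, ht,
          mul_inv_cancel₀ hs0, one_smul]
      refine (Module.End.isUnit_iff _).2 ⟨fun x y hxy => ?_, fun z => ⟨t • z, ?_⟩⟩
      · have := congrArg (t • ·) hxy
        simp only [Module.algebraMap_end_apply, ← mul_smul, mul_comm t, hst] at this
        exact this
      · rw [Module.algebraMap_end_apply, ← mul_smul, hst]
    let Ψ := IsLocalizedModule.lift m.primeCompl ι₀ T hu
    have hΨ : ∀ ω, Ψ (ι₀ ω) = T ω := fun ω => IsLocalizedModule.lift_apply m.primeCompl ι₀ T hu ω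
    have hle : Submodule.span (R ⧸ m) (Set.range fun i => Ψ (B i)) = ⊤ := by
      rw [eq_top_iff]
      rintro z -
      induction z using TensorProduct.induction_on with
      | zero => exact zero_mem _
      | add x y hx hy => exact add_mem hx hy
      | tmul x ω =>
        have hx : x ⊗ₜ[R] ω = x • T ω := by simp [T, smul_tmul']
        rw [hx, ← hΨ]
        refine Submodule.smul_mem _ _ ?_
        obtain ⟨⟨c, s⟩, hcs⟩ : ∃ cs : (Module.Free.ChooseBasisIndex L Ω[L⁄k] → R) × m.primeCompl,
            cs.2.1 • ι₀ ω = ∑ i, cs.1 i • B i := by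
          obtain ⟨s, hs⟩ := IsLocalization.exist_integer_multiples_of_finite m.primeCompl
            (fun i => B.repr (ι₀ ω) i)
          choose c hc using hs
          refine ⟨⟨c, s⟩, ?_⟩
          conv_lhs => rw [← B.sum_repr (ι₀ ω), Finset.smul_sum]
          refine Finset.sum_congr rfl fun i _ => ?_
          rw [← algebraMap_smul L (c i), hc, smul_assoc]
        have hs := congrArg Ψ hcs
        simp only [map_smul, map_sum] at hs
        have hs0 : (Ideal.Quotient.mk m s.1) ≠ 0 := fun h =>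
          s.2 (Ideal.Quotient.eq_zero_iff_mem.1 h)
        rw [← algebraMap_smul (R ⧸ m) s.1, Ideal.Quotient.algebraMap_eq] at hs
        rw [← Submodule.smul_mem_iff _ hs0, hs]
        refine sum_mem fun i _ => ?_
        rw [← algebraMap_smul (R ⧸ m) (c i)]
        exact Submodule.smul_mem _ _ (Submodule.subset_span ⟨i, rfl⟩)
    calc d = Module.finrank (R ⧸ m) ((R ⧸ m) ⊗[R] Ω[R⁄k]) := hdim.symm
      _ = Set.finrank (R ⧸ m) (Set.range fun i => Ψ (B i)) := by
        rw [Set.finrank, hle, finrank_top]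
      _ ≤ Fintype.card (Module.Free.ChooseBasisIndex L Ω[L⁄k]) := finrank_range_le_card _
      _ = Module.finrank L Ω[L⁄k] := (Module.finrank_eq_card_chooseBasisIndex L _).symm
  have hli : LinearIndependent L v := by
    have hle : Module.finrank L Ω[L⁄k] ≤ d := by
      have h := finrank_range_le_card (R := L) v
      rw [Set.finrank, hspan, finrank_top, Fintype.card_fin] at h
      exact h
    exact linearIndependent_of_top_le_span_of_card_eq_finrank hspan.ge
      (by rw [Fintype.card_fin]; omega)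
  let Bp := (mvPolynomialBasis k (Fin d)).baseChange L
  have hB : ∀ i, ψ (Bp i) = v i := fun i => by
    simp only [ψ, Bp, Module.Basis.baseChange_apply, mvPolynomialBasis_apply, v]
    refine (mapBaseChange_tmul k P L _ _).trans ?_
    rw [one_smul, KaehlerDifferential.map_D]
    refine congrArg (D k L) ?_
    refine (IsScalarTower.algebraMap_apply P R L _).trans ?_
    exact congrArg (algebraMap R L) (MvPolynomial.aeval_X f i)
  have hψ : Function.Bijective ψ := by
    constructor
    · have : ψ = Bp.constr L v := Bp.ext fun i => (hB i).trans (Bp.constr_basis L v i).symm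
      rw [this]
      exact LinearMap.ker_eq_bot.1 (LinearMap.ker_eq_bot'.2 fun x hx => by
        rw [← Bp.sum_equivFun x, map_sum] at hx
        simp only [map_smul, Module.Basis.constr_basis] at hx
        have := Fintype.linearIndependent_iff.1 hli _ hx
        exact (LinearEquiv.map_eq_zero_iff Bp.equivFun).1 (funext this))
    · rw [← LinearMap.range_eq_top, eq_top_iff, ← hspan, Submodule.span_le]
      rintro _ ⟨i, rfl⟩
      exact ⟨Bp i, hB i⟩
  have hunr : Subsingleton Ω[L⁄P] := by
    refine subsingleton_of_forall_eq 0 fun x => ?_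
    obtain ⟨y, rfl⟩ := KaehlerDifferential.map_surjective k P L x
    obtain ⟨z, rfl⟩ := hψ.2 y
    exact (exact_mapBaseChange_map k P L).apply_apply_eq_zero z
  have hH : Subsingleton (Algebra.H1Cotangent P L) := by
    refine subsingleton_of_forall_eq 0 fun x => ?_
    have hker : Algebra.H1Cotangent.δ k P L x = 0 := by
      apply hψ.1
      rw [map_zero]
      exact (Algebra.H1Cotangent.exact_δ_mapBaseChange k P L).apply_apply_eq_zero x
    obtain ⟨y, rfl⟩ := (Algebra.H1Cotangent.exact_map_δ k P L x).1 hker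
    rw [Subsingleton.elim y 0, map_zero]
  have : Algebra.IsEtaleAt P m := ⟨hunr, hH⟩
  obtain ⟨g, hg, hget⟩ := Algebra.exists_etale_of_isEtaleAt (R := P) m
  refine ⟨g, hg, IsScalarTower.toAlgHom k P (Localization.Away g), ?_, ?_⟩
  · exact RingHom.etale_algebraMap.2 hget
  have hP : ∀ x : R ⧸ m, ∃ p : P, Ideal.Quotient.mk m (algebraMap P R p) = x := by
    intro x
    rcases eq_or_ne x 0 with rfl | hx
    · exact ⟨0, by simp⟩
    obtain ⟨n, hn⟩ := (mem_powers_iff_mem_zpowers.2 (hα (Units.mk0 x hx)))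
    refine ⟨MvPolynomial.X ⟨0, hd⟩ ^ n, ?_⟩
    have h1 : algebraMap P R (MvPolynomial.X ⟨0, hd⟩) = f ⟨0, hd⟩ := MvPolynomial.aeval_X f _
    rw [map_pow, h1, map_pow, show Ideal.Quotient.mk m (f ⟨0, hd⟩) = α by
      simp [f, c, ha, Ideal.Quotient.eq_zero_iff_mem.2 (hμ ⟨0, hd⟩)]]
    simpa using congrArg Units.val hn
  intro z
  obtain ⟨z, rfl⟩ := Ideal.Quotient.mk_surjective z
  obtain ⟨r, ⟨_, n, rfl⟩, rfl⟩ := IsLocalization.exists_mk'_eq (Submonoid.powers g) z
  have hg0 : Ideal.Quotient.mk m g ≠ 0 := fun h => hg (Ideal.Quotient.eq_zero_iff_mem.1 h)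
  obtain ⟨p, hp⟩ := hP (Ideal.Quotient.mk m r / Ideal.Quotient.mk m g ^ n)
  refine ⟨p, ?_⟩
  simp only [RingHom.comp_apply, AlgHom.toRingHom_eq_coe, RingHom.coe_coe,
    IsScalarTower.coe_toAlgHom']
  rw [Ideal.Quotient.mk_eq_mk_iff_sub_mem]
  have hmem : algebraMap P R p * g ^ n - r ∈ m := by
    rw [← Ideal.Quotient.eq_zero_iff_mem, map_sub, map_mul, map_pow, hp,
      div_mul_cancel₀ _ (pow_ne_zero n hg0), sub_self]
  have : algebraMap P (Localization.Away g) p -
      IsLocalization.mk' (Localization.Away g) r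
        (⟨g ^ n, pow_mem (Submonoid.mem_powers g) n⟩ : Submonoid.powers g) =
      algebraMap R _ (algebraMap P R p * g ^ n - r) *
        IsLocalization.mk' (Localization.Away g) 1 (⟨g ^ n, pow_mem (Submonoid.mem_powers g) n⟩ : Submonoid.powers g) := by
    have e1 : algebraMap R (Localization.Away g) (g ^ n) *
        IsLocalization.mk' (Localization.Away g) 1
          (⟨g ^ n, pow_mem (Submonoid.mem_powers g) n⟩ : Submonoid.powers g) = 1 :=
      (mul_comm _ _).trans ((IsLocalization.mk'_spec (Localization.Away g) (1 : R)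
        (⟨g ^ n, pow_mem (Submonoid.mem_powers g) n⟩ : Submonoid.powers g)).trans (map_one _))
    rw [IsScalarTower.algebraMap_apply P R (Localization.Away g), map_sub, map_mul, sub_mul,
      mul_assoc, e1, mul_one, IsLocalization.mul_mk'_eq_mk'_of_mul, mul_one]
  change algebraMap P (Localization.Away g) p - _ ∈ _
  rw [this]
  exact Ideal.mul_mem_right _ _ (Ideal.mem_map_of_mem _ hmem)

end Groth.Agent.H4EtaleChart
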