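import Mathlib
import Groth.Agent.Lib.H4Henselization

/-! Étale neighbourhoods of a prime with trivial residue extension. -/

set_option autoImplicit false

universe u

namespace Groth.Agent.H4EtPoint

variable {R : Type u} [CommRing R] (p : Ideal R) [p.IsPrime] {S : Type u} [CommRing S] [Algebra R S]

theorem exists_point (q : Ideal S) [q.IsPrime] (hq : p = q.comap (algebraMap R S))
    (hκ : Function.Bijective (Ideal.ResidueField.map p q (algebraMap R S) hq)) :
    ∃ σ : S →ₐ[R] p.ResidueField, RingHom.ker σ.toRingHom = q ∧
      ∀ τ : S →ₐ[R] p.ResidueField, RingHom.ker τ.toRingHom = q → τ = σ := by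
  let r := RingEquiv.ofBijective _ hκ
  have hr : ∀ a, r.symm (algebraMap S q.ResidueField (algebraMap R S a)) =
      algebraMap R p.ResidueField a := fun a => by
    rw [RingEquiv.symm_apply_eq]
    exact (Ideal.ResidueField.map_algebraMap p q (algebraMap R S) hq a).symm
  let σ : S →ₐ[R] p.ResidueField :=
    { r.symm.toRingHom.comp (algebraMap S q.ResidueField) with commutes' := hr }
  refine ⟨σ, Ideal.ext fun s => ?_, fun τ hτ => AlgHom.ext fun s => ?_⟩
  · show r.symm (algebraMap S q.ResidueField s) = 0 ↔ _
    rw [map_eq_zero_iff _ r.symm.injective, Ideal.algebraMap_residueField_eq_zero]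
  · let L : q.ResidueField →+* p.ResidueField :=
      Ideal.ResidueField.lift q τ.toRingHom hτ.ge
        fun x hx => isUnit_iff_ne_zero.mpr fun h => hx (hτ.le h)
    have hL : L.comp r.toRingHom = RingHom.id _ := Ideal.ResidueField.ringHom_ext <|
      RingHom.ext fun a => by
        show L (Ideal.ResidueField.map p q _ hq (algebraMap R _ a)) = _
        rw [Ideal.ResidueField.map_algebraMap, Ideal.ResidueField.lift_algebraMap]
        exact τ.commutes a
    calc τ s = L (algebraMap S q.ResidueField s) :=
          (Ideal.ResidueField.lift_algebraMap _ _ _ _ _).symm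
      _ = L (r.toRingHom (r.symm (algebraMap S q.ResidueField s))) :=
          congrArg L (r.apply_symm_apply _).symm
      _ = σ s := RingHom.congr_fun hL _

theorem residueField_map_bijective_of_point (σ : S →ₐ[R] p.ResidueField) :
    ∃ (_ : (RingHom.ker σ.toRingHom).IsPrime)
      (h : p = (RingHom.ker σ.toRingHom).comap (algebraMap R S)),
      Function.Bijective (Ideal.ResidueField.map p (RingHom.ker σ.toRingHom) (algebraMap R S) h) := by
  have hp : (RingHom.ker σ.toRingHom).IsPrime := RingHom.ker_isPrime _
  have h : p = (RingHom.ker σ.toRingHom).comap (algebraMap R S) := by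
    ext a
    show _ ↔ σ (algebraMap R S a) = 0
    rw [AlgHom.commutes, Ideal.algebraMap_residueField_eq_zero]
  refine ⟨hp, h, RingHom.injective _, fun y => ?_⟩
  let L : (RingHom.ker σ.toRingHom).ResidueField →+* p.ResidueField :=
    Ideal.ResidueField.lift _ σ.toRingHom le_rfl fun x hx => isUnit_iff_ne_zero.mpr hx
  have hL : L.comp (Ideal.ResidueField.map p _ (algebraMap R S) h) = RingHom.id _ :=
    Ideal.ResidueField.ringHom_ext <| RingHom.ext fun a => by
      show L (Ideal.ResidueField.map p _ _ h (algebraMap R _ a)) = _
      rw [Ideal.ResidueField.map_algebraMap, Ideal.ResidueField.lift_algebraMap]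
      exact σ.commutes a
  exact ⟨L y, L.injective (RingHom.congr_fun hL (L y))⟩

end Groth.Agent.H4EtPoint
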