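import Mathlib
import Groth.Agent.Lib.RegularLocalSerre

/-!
Ferrand–Vasconcelos: finite projective dimension + free conormal summand gives a regular sequence.
-/

universe u

namespace Groth.Agent.H4FV

open CategoryTheory IsLocalRing Groth.Agent.RegLocal
open scoped TensorProduct Pointwise

set_option maxHeartbeats 400000

section Flat

variable {R : Type u} [CommRing R] (S : Type u) [CommRing S] [Algebra R S] [Module.Flat R S]

theorem nonempty_tensor_equiv_map (I : Ideal R) :
    Nonempty ((S ⊗[R] I) ≃ₗ[S] ↥(I.map (algebraMap R S))) := by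
  let φ : (S ⊗[R] I) →ₗ[S] S :=
    (TensorProduct.AlgebraTensorModule.rid R S S).toLinearMap ∘ₗ (I.subtype.baseChange S)
  have h0 : Function.Injective (I.subtype.baseChange S) := by
    rw [LinearMap.baseChange_eq_ltensor]
    exact Module.Flat.lTensor_preserves_injective_linearMap (I.subtype : I →ₗ[R] R) Subtype.val_injective
  have hφ : Function.Injective φ := fun a b h => h0 ((TensorProduct.AlgebraTensorModule.rid R S S).injective h)
  have hr : LinearMap.range φ = I.map (algebraMap R S) := by
    refine le_antisymm ?_ ?_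
    · rintro _ ⟨z, rfl⟩
      induction z using TensorProduct.induction_on with
      | zero => rw [map_zero]; exact zero_mem _
      | tmul s a =>
        simp only [φ, LinearMap.comp_apply, LinearMap.baseChange_tmul, LinearEquiv.coe_coe,
          TensorProduct.AlgebraTensorModule.rid_tmul, Submodule.coe_subtype]
        rw [Algebra.smul_def]
        exact Ideal.mul_mem_right _ _ (Ideal.mem_map_of_mem _ a.2)
      | add a b ha hb => rw [map_add]; exact add_mem ha hb
    · refine Ideal.map_le_iff_le_comap.mpr fun a ha => ⟨1 ⊗ₜ ⟨a, ha⟩, ?_⟩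
      simp only [φ, LinearMap.comp_apply, LinearMap.baseChange_tmul, LinearEquiv.coe_coe,
        TensorProduct.AlgebraTensorModule.rid_tmul, Submodule.coe_subtype, Algebra.smul_def, mul_one]
  exact ⟨(LinearEquiv.ofInjective φ hφ).trans (LinearEquiv.ofEq _ _ hr)⟩

theorem pdLT_map [IsNoetherianRing R] {I : Ideal R} {n : ℕ} (h : PdLT R I (n + 1)) :
    PdLT S ↥(I.map (algebraMap R S)) (n + 1) :=
  pdLT_congr (nonempty_tensor_equiv_map S I).some (pdLT_baseChange n I h)

end Flat

section Local

variable {R : Type u} [CommRing R] [IsLocalRing R] [IsNoetherianRing R]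

/-- In depth zero an ideal of finite projective dimension is `0` or the whole ring. -/
theorem eq_bot_of_socle {z : R} (hz : z ≠ 0) (hzm : ∀ a ∈ maximalIdeal R, z * a = 0)
    {I : Ideal R} (hI : I ≠ ⊤) {n : ℕ} (hpd : PdLT R I (n + 1)) : I = ⊥ := by
  have hq : PdLT R (R ⧸ I) (n + 2) :=
    (pdLT_ker_iff I.mkQ (Submodule.mkQ_surjective _) n).mpr
      (pdLT_congr (LinearEquiv.ofEq _ _ I.ker_mkQ.symm) hpd)
  have : Module.Free R (R ⧸ I) := free_of_pdLT_of_socle hz hzm (n + 1) _ hq
  have : Nontrivial (R ⧸ I) := Ideal.Quotient.nontrivial_iff.mpr hI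
  rw [eq_bot_iff]
  intro a ha
  let b := Module.Free.chooseBasis R (R ⧸ I)
  obtain ⟨j⟩ := b.index_nonempty
  have h0 : a • b j = 0 := by
    rw [Algebra.smul_def, Ideal.Quotient.algebraMap_eq, Ideal.Quotient.eq_zero_iff_mem.mpr ha, zero_mul]
  simpa using congrArg (fun q => b.repr q j) h0

theorem not_le_associatedPrime {I G : Ideal R} (hI : I ≤ maximalIdeal R) {n : ℕ}
    (hpd : PdLT R I (n + 1)) (x₀ : R) (hx : x₀ ∈ I) (hli : ∀ a : R, a * x₀ ∈ G → a ∈ I)
    (P : Ideal R) (hP : P ∈ associatedPrimes R R) : ¬ I ≤ P := by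
  intro hle
  have : P.IsPrime := IsAssociatedPrime.isPrime hP
  obtain ⟨-, w, hw⟩ := (isAssociatedPrime_iff_exists_injective_linearMap P R).mp hP
  set z := w (Ideal.Quotient.mk P 1)
  have hzP : ∀ a : R, a * z = 0 ↔ a ∈ P := by
    intro a
    rw [← smul_eq_mul, ← map_smul, ← map_zero w, hw.eq_iff, Algebra.smul_def, Ideal.Quotient.algebraMap_eq,
      map_one, mul_one, Ideal.Quotient.eq_zero_iff_mem]
  set S := Localization.AtPrime P
  have : Module.Flat R S := IsLocalization.flat S P.primeCompl
  have : IsNoetherianRing S := IsLocalization.isNoetherianRing P.primeCompl S inferInstance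
  have hz0 : algebraMap R S z ≠ 0 := by
    rw [Ne, IsLocalization.map_eq_zero_iff P.primeCompl]
    rintro ⟨c, hc⟩
    exact c.2 ((hzP _).mp hc)
  have hzm : ∀ a ∈ maximalIdeal S, algebraMap R S z * a = 0 := by
    intro a ha
    obtain ⟨b, s, rfl⟩ := IsLocalization.exists_mk'_eq P.primeCompl a
    rw [IsLocalization.AtPrime.mk'_mem_maximal_iff S P] at ha
    rw [IsLocalization.mul_mk'_eq_mk'_of_mul, mul_comm, (hzP b).mpr ha, IsLocalization.mk'_zero]
  have hIS : I.map (algebraMap R S) ≠ ⊤ := fun h =>
    (maximalIdeal.isMaximal S).ne_top (top_le_iff.mp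
      (h ▸ (Ideal.map_mono hle).trans (Localization.AtPrime.map_eq_maximalIdeal (I := P)).le))
  have h1 := Ideal.mem_map_of_mem (algebraMap R S) hx
  rw [eq_bot_of_socle hz0 hzm hIS (pdLT_map S hpd), Ideal.mem_bot,
    IsLocalization.map_eq_zero_iff P.primeCompl] at h1
  obtain ⟨c, hc⟩ := h1
  exact c.2 (hle (hli _ (by rw [hc]; exact zero_mem _)))

end Local

/-- Local Ferrand–Vasconcelos with a complement. -/
theorem exists_regular :
    ∀ (k : ℕ) (R : Type u) [CommRing R] [IsLocalRing R] [IsNoetherianRing R] (I G : Ideal R),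
      I ≤ maximalIdeal R → ∀ (n : ℕ), PdLT R I (n + 1) → ∀ (x : Fin k → R), (∀ i, x i ∈ I) →
      I ^ 2 ≤ G → G ≤ I → Ideal.span (Set.range x) ⊔ G = I →
      (∀ a : Fin k → R, ∑ i, a i * x i ∈ G → ∀ i, a i ∈ I) →
      ∃ zs : List R, zs.length = k ∧ RingTheory.Sequence.IsWeaklyRegular R zs ∧
        Ideal.ofList zs ⊔ I ^ 2 = Ideal.span (Set.range x) ⊔ I ^ 2 := by
  classical
  intro k
  induction k with
  | zero =>
    intro R _ _ _ I G _ n _ x _ _ _ _ _
    refine ⟨[], rfl, RingTheory.Sequence.IsWeaklyRegular.nil R R, ?_⟩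
    rw [Ideal.ofList_nil, Set.range_eq_empty, Ideal.span_empty]
  | succ k ih =>
    intro R _ _ _ I G hI n hn x hx hG1 hG2 hsp hli
    have hItop : I ≠ ⊤ := fun h => (maximalIdeal.isMaximal R).ne_top (top_le_iff.mp (h ▸ hI))
    have hli0 : ∀ a : R, a * x 0 ∈ G → a ∈ I := fun a ha => by
      simpa using hli (Pi.single 0 a) (by
        rw [Fintype.sum_eq_single 0 (fun i hi => by simp [Pi.single_eq_of_ne hi])]; simpa using ha) 0
    have hnd := not_le_associatedPrime hI hn (x 0) (hx 0) hli0
    -- the set of elements with all coefficients in the maximal ideal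
    set E : Ideal R := maximalIdeal R • Ideal.span (Set.range x) ⊔ I ^ 2
    set F : Ideal R := Ideal.span (Set.range x) ⊔ I ^ 2
    have hFI : F ≤ I := sup_le (Ideal.span_le.mpr (Set.range_subset_iff.mpr hx)) (Ideal.pow_le_self two_ne_zero)
    obtain ⟨y, hyF, hy'⟩ : ∃ y, y ∈ F ∧ y ∉ ⋃ p ∈ insert E (associatedPrimes R R), (p : Set R) := by
      refine Set.not_subset.mp fun hle => ?_
      rw [Ideal.subset_union_prime_finite ((associatedPrimes.finite R R).insert _) E E] at hle
      · obtain ⟨p, hp, hle⟩ := hle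
        rcases Set.mem_insert_iff.mp hp with rfl | hp
        · have h0 : x 0 ∈ E := hle (Ideal.mem_sup_left (Ideal.subset_span (Set.mem_range_self 0)))
          obtain ⟨a, ha, b, hb, hab⟩ := Submodule.mem_sup.mp h0
          rw [Submodule.mem_ideal_smul_span_iff_exists_sum] at ha
          obtain ⟨c, hc, rfl⟩ := ha
          rw [Finsupp.sum_fintype c (fun i a => a • x i) (fun i => zero_smul R _)] at hab
          have := hli (fun i => (if i = 0 then 1 else 0) - c i) (by
            have e : ∑ i, ((if i = 0 then (1 : R) else 0) - c i) * x i = b := by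
              simp only [sub_mul, Finset.sum_sub_distrib, ite_mul, one_mul, zero_mul, Finset.sum_ite_eq',
                Finset.mem_univ, if_true]
              rw [sub_eq_iff_eq_add, ← hab, add_comm]
              rfl
            rw [e]; exact hG1 hb) 0
          have h2 := hI this
          simp only [if_true] at h2
          exact (maximalIdeal.isMaximal R).ne_top ((Ideal.eq_top_iff_one _).mpr (by simpa using add_mem h2 (hc 0)))
        · have hPp : p.IsPrime := IsAssociatedPrime.isPrime hp
          exact hnd p hp (hPp.le_of_pow_le (le_sup_right.trans hle))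
      · intro p hp hne _
        rcases Set.mem_insert_iff.mp hp with rfl | hp
        · exact absurd rfl hne
        · exact IsAssociatedPrime.isPrime hp
    simp only [Set.mem_iUnion, Set.mem_insert_iff, SetLike.mem_coe, not_exists] at hy'
    have hynd : y ∈ nonZeroDivisors R := by
      by_contra h
      have : y ∈ (nonZeroDivisors R : Set R)ᶜ := h
      rw [← biUnion_associatedPrimes_eq_compl_nonZeroDivisors] at this
      simp only [Set.mem_iUnion] at this
      obtain ⟨p, hp, hxp⟩ := this
      exact hy' p (Or.inr hp) hxp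
    have hyR : IsSMulRegular R y := Module.Flat.isSMulRegular_of_nonZeroDivisors hynd
    have hyI : y ∈ I := hFI hyF
    have hym : y ∈ maximalIdeal R := hI hyI
    obtain ⟨a, ha, g₀, hg₀, hy⟩ := Submodule.mem_sup.mp hyF
    obtain ⟨c, hc⟩ := Ideal.mem_span_range_iff_exists_fun.mp ha
    obtain ⟨j, hj⟩ : ∃ j, IsUnit (c j) := by
      by_contra hne
      push Not at hne
      refine hy' E (Or.inl rfl) (hy ▸ Submodule.add_mem_sup ?_ hg₀)
      rw [← hc]
      exact sum_mem fun i _ => Submodule.smul_mem_smul (hne i) (Ideal.subset_span (Set.mem_range_self i))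
    obtain ⟨cu, hcu⟩ := hj.exists_left_inv
    let tl : Fin k → R := fun i => x (j.succAbove i)
    -- linear independence of `y` and the tail
    have hli' : ∀ (b : R) (a : Fin k → R), b * y + ∑ i, a i * tl i ∈ G → b ∈ I ∧ ∀ i, a i ∈ I := by
      intro b a h
      let a' : Fin (k + 1) → R := fun l => b * c l + Fin.insertNth (α := fun _ => R) j 0 a l
      have e : ∑ l, a' l * x l = b * y + ∑ i, a i * tl i - b * g₀ := by
        have h1 : ∑ l, Fin.insertNth (α := fun _ => R) j 0 a l * x l = ∑ i, a i * tl i := by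
          rw [Fin.sum_univ_succAbove _ j]; simp [tl]
        simp only [a', add_mul, Finset.sum_add_distrib, mul_assoc, ← Finset.mul_sum, hc, h1, ← hy]
        ring
      have h2 := hli a' (e ▸ sub_mem h (hG1 (Ideal.mul_mem_left _ b hg₀)))
      have hb : b ∈ I := by
        have h3 : cu * (b * c j) ∈ I := Ideal.mul_mem_left _ cu (by simpa [a'] using h2 j)
        have : cu * (b * c j) = b := by linear_combination b * hcu
        rwa [this] at h3
      refine ⟨hb, fun i => ?_⟩
      have h3 := sub_mem (h2 (j.succAbove i)) (Ideal.mul_mem_right (c (j.succAbove i)) _ hb)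
      simpa [a'] using h3
    have hspan : Ideal.span {y} ⊔ Ideal.span (Set.range tl) ⊔ I ^ 2 = F := by
      refine le_antisymm (sup_le (sup_le ?_ ?_) le_sup_right) (sup_le ?_ le_sup_right)
      · exact (Ideal.span_singleton_le_iff_mem _).mpr hyF
      · exact (Ideal.span_mono (by rintro _ ⟨i, rfl⟩; exact ⟨_, rfl⟩)).trans le_sup_left
      · rw [Ideal.span_le]
        rintro _ ⟨l, rfl⟩
        rcases Fin.eq_self_or_eq_succAbove j l with rfl | ⟨i, rfl⟩
        · have e : x l = cu * y - cu * g₀ - ∑ i, cu * c (l.succAbove i) * tl i := by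
            have h1 : a = c l * x l + ∑ i, c (l.succAbove i) * tl i := by
              rw [← hc, Fin.sum_univ_succAbove _ l]
            have h2 : cu * y - cu * g₀ = cu * a := by rw [← hy]; ring
            rw [h2, h1, mul_add, Finset.mul_sum, ← mul_assoc, hcu, one_mul]
            simp only [mul_assoc, add_sub_cancel_right]
          rw [SetLike.mem_coe, e]
          refine sub_mem (sub_mem ?_ ?_) (sum_mem fun i _ => ?_)
          · exact Ideal.mem_sup_left (Ideal.mem_sup_left (Ideal.mul_mem_left _ _ (Ideal.mem_span_singleton_self y)))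
          · exact Ideal.mem_sup_right (Ideal.mul_mem_left _ _ hg₀)
          · exact Ideal.mem_sup_left (Ideal.mem_sup_right (Ideal.mul_mem_left _ _ (Ideal.subset_span (Set.mem_range_self i))))
        · exact Ideal.mem_sup_left (Ideal.mem_sup_right (Ideal.subset_span (Set.mem_range_self i)))
    let J : Ideal R := Ideal.span (Set.range tl) ⊔ G
    have hJI : J ≤ I := sup_le (Ideal.span_le.mpr (by rintro _ ⟨i, rfl⟩; exact hx _)) hG2
    have hJ : Ideal.span {y} ⊔ J = I := by
      refine le_antisymm (sup_le ((Ideal.span_singleton_le_iff_mem _).mpr hyI) hJI) ?_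
      rw [← hsp, ← sup_assoc]
      refine sup_le ?_ le_sup_right
      calc Ideal.span (Set.range x) ≤ F := le_sup_left
        _ = _ := hspan.symm
        _ ≤ _ := sup_le_sup_left hG1 _
    have hxloc := isLocalRing_quotient (I := Ideal.span {y})
      ((Ideal.span_singleton_le_iff_mem _).mpr hym)
    let q := Ideal.Quotient.mk (Ideal.span {y})
    -- retraction
    let p : QuotSMulTop y I →ₗ[R] ↥(I.map q) :=
      Submodule.liftQ _ (((Ideal.span {y}).mkQ.comp I.subtype).codRestrict
        ((I.map q).restrictScalars R) (fun a => Ideal.mem_map_of_mem q a.2)) (by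
          rintro a ha
          obtain ⟨b, -, rfl⟩ := (Submodule.mem_smul_pointwise_iff_exists _ _ _).mp ha
          refine Subtype.ext ((Submodule.Quotient.mk_eq_zero _).mpr ?_)
          exact Ideal.mul_mem_right _ _ (Ideal.mem_span_singleton_self y))
    let φ : J →ₗ[R] QuotSMulTop y I := (y • ⊤ : Submodule R I).mkQ ∘ₗ Submodule.inclusion hJI
    let ψ : J →ₗ[R] ↥(I.map q) := p ∘ₗ φ
    have hψ : Function.Surjective ψ := by
      intro w
      obtain ⟨a, ha, haw⟩ := (Ideal.mem_map_iff_of_surjective q Ideal.Quotient.mk_surjective).mp w.2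
      rw [← hJ] at ha
      obtain ⟨a₁, ha₁, a₂, ha₂, rfl⟩ := Submodule.mem_sup.mp ha
      refine ⟨⟨a₂, ha₂⟩, Subtype.ext ?_⟩
      rw [← haw, map_add, Ideal.Quotient.eq_zero_iff_mem.mpr ha₁, zero_add]
      rfl
    have hker : LinearMap.ker ψ ≤ LinearMap.ker φ := by
      intro w hw
      have h1 : (w : R) ∈ Ideal.span {y} :=
        (Submodule.Quotient.mk_eq_zero _).mp (congrArg Subtype.val hw)
      obtain ⟨e, he⟩ := Ideal.mem_span_singleton'.mp h1
      obtain ⟨s, hs, g, hg, hsg⟩ := Submodule.mem_sup.mp w.2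
      obtain ⟨b, hb⟩ := Ideal.mem_span_range_iff_exists_fun.mp hs
      have heI : e ∈ I := by
        have h2 := (hli' (-e) b (by
          have : -e * y + ∑ i, b i * tl i = -g := by rw [hb, neg_mul, he, ← hsg]; ring
          rw [this]; exact neg_mem hg)).1
        simpa using h2
      refine (Submodule.Quotient.mk_eq_zero _).mpr ?_
      exact (Submodule.mem_smul_pointwise_iff_exists _ _ _).mpr
        ⟨⟨e, heI⟩, trivial, Subtype.ext ((mul_comm y e).trans he)⟩
    let s : ↥(I.map q) →ₗ[R] QuotSMulTop y I :=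
      ((LinearMap.ker ψ).liftQ φ hker) ∘ₗ (ψ.quotKerEquivOfSurjective hψ).symm.toLinearMap
    have hps : ∀ w, p (s w) = w := by
      intro w
      obtain ⟨a, rfl⟩ := hψ w
      have : (ψ.quotKerEquivOfSurjective hψ).symm (ψ a) = Submodule.Quotient.mk a :=
        (LinearEquiv.symm_apply_eq _).mpr rfl
      simp only [s, LinearMap.comp_apply, LinearEquiv.coe_toLinearMap, this, Submodule.liftQ_apply]
      rfl
    have hret : Retract (ModuleCat.of (R ⧸ Ideal.span {y}) ↥(I.map q))
        (ModuleCat.of (R ⧸ Ideal.span {y}) (QuotSMulTop y I)) :=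
      ⟨ModuleCat.ofHom (s.extendScalarsOfSurjective (S := R ⧸ Ideal.span {y}) Ideal.Quotient.mk_surjective),
       ModuleCat.ofHom (p.extendScalarsOfSurjective (S := R ⧸ Ideal.span {y}) Ideal.Quotient.mk_surjective),
       by ext w; exact congrArg Subtype.val (hps w)⟩
    have hpd := (pdLT_quotSMulTop_iff hym hyR n _ (isSMulRegular_submodule (M := R) I hyR)).mpr hn
    have hpd' : PdLT (R ⧸ Ideal.span {y}) ↥(I.map q) (n + 1) := hret.hasProjectiveDimensionLT (n + 1)
    have hIq : I.map q ≤ maximalIdeal (R ⧸ Ideal.span {y}) := by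
      rw [← map_maximalIdeal_quotient (I := Ideal.span {y})]
      exact Ideal.map_mono hI
    have hcomap : ∀ (K : Ideal R), y ∈ K → (K.map q).comap q = K := fun K hK => by
      rw [Ideal.comap_map_of_surjective q Ideal.Quotient.mk_surjective, sup_eq_left,
        ← RingHom.ker_eq_comap_bot, Ideal.mk_ker, Ideal.span_singleton_le_iff_mem]
      exact hK
    obtain ⟨zs, hlen, hreg, hzs⟩ := ih (R ⧸ Ideal.span {y}) (I.map q) (G.map q) hIq n hpd' (q ∘ tl)
      (fun i => Ideal.mem_map_of_mem q (hx _)) (by rw [← Ideal.map_pow]; exact Ideal.map_mono hG1)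
      (Ideal.map_mono hG2) (by
        rw [Set.range_comp, ← Ideal.map_span, ← Ideal.map_sup]
        conv_rhs => rw [← hJ, Ideal.map_sup, Ideal.map_quotient_self, bot_sup_eq])
      (fun a ha i => by
        choose b hb using fun i => Ideal.Quotient.mk_surjective (a i)
        have h1 : q (∑ i, b i * tl i) ∈ G.map q := by
          rw [map_sum]; simpa [map_mul, hb, q] using ha
        obtain ⟨g, hg, hgq⟩ := (Ideal.mem_map_iff_of_surjective q Ideal.Quotient.mk_surjective).mp h1
        obtain ⟨e, he⟩ := Ideal.mem_span_singleton'.mp (Ideal.Quotient.eq.mp hgq)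
        have := (hli' e b (by
          have : e * y + ∑ i, b i * tl i = g := by rw [he]; ring
          rw [this]; exact hg)).2 i
        rw [← hb i]; exact Ideal.mem_map_of_mem q this)
    have hsec : Function.Surjective q := Ideal.Quotient.mk_surjective
    let zl : List R := zs.map (Function.surjInv hsec)
    have hzl : zl.map q = zs := by
      simp only [zl, List.map_map]
      conv_rhs => rw [← List.map_id zs]
      exact List.map_congr_left fun z _ => Function.surjInv_eq hsec z
    refine ⟨y :: zl, by simp [zl, hlen], ?_, ?_⟩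
    · rw [RingTheory.Sequence.isWeaklyRegular_cons_iff']
      refine ⟨hyR, ?_⟩
      have e : QuotSMulTop y R ≃ₗ[R] R ⧸ Ideal.span {y} :=
        Submodule.quotEquivOfEq _ _ (by
          rw [← Submodule.ideal_span_singleton_smul, Ideal.smul_eq_mul, Ideal.mul_top])
      refine (RingTheory.Sequence.isWeaklyRegular_map_algebraMap_iff (R := R) (S := R ⧸ Ideal.span {y}) (M := QuotSMulTop y R) zl).mpr ?_
      refine (e.isWeaklyRegular_congr zl).mpr ?_
      refine (RingTheory.Sequence.isWeaklyRegular_map_algebraMap_iff (R := R) (S := R ⧸ Ideal.span {y}) (M := R ⧸ Ideal.span {y}) zl).mp ?_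
      rw [Ideal.Quotient.algebraMap_eq, hzl]
      exact hreg
    · rw [Ideal.ofList_cons]
      have h1 : (Ideal.ofList zl ⊔ I ^ 2).map q = (Ideal.span (Set.range tl) ⊔ I ^ 2).map q := by
        rw [Ideal.map_sup, Ideal.map_sup, Ideal.map_ofList, hzl, Ideal.map_pow, Ideal.map_span, ← Set.range_comp]
        exact hzs
      have h2 : ∀ K : Ideal R, (Ideal.span {y} ⊔ K).map q = K.map q := fun K => by
        rw [Ideal.map_sup, Ideal.map_quotient_self, bot_sup_eq]
      have h3 : ∀ K : Ideal R, Ideal.span {y} ⊔ K = (K.map q).comap q := fun K => by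
        rw [← h2 K, hcomap _ (Ideal.mem_sup_left (Ideal.mem_span_singleton_self y))]
      rw [sup_assoc, h3, h1, ← h3, ← sup_assoc, hspan]

end Groth.Agent.H4FV
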