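import Mathlib

/-! Flatness from flatness modulo a nilpotent ideal and at the associated primes. -/

universe u

open TensorProduct LinearMap

set_option linter.style.haveILetI false

namespace Groth.Agent.H4FlatAss

variable {A : Type u} [CommRing A] (J : Ideal A) (M : Type u) [AddCommGroup M] [Module A M]

/-- Modules killed by `J`: injections stay injective after tensoring with `M`. -/
theorem lTensor_injective_of_killed [Module.Flat (A ⧸ J) ((A ⧸ J) ⊗[A] M)] {N G : Type u}
    [AddCommGroup N] [Module A N] [AddCommGroup G] [Module A G] (hN : ∀ a ∈ J, ∀ x : N, a • x = 0)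
    (hG : ∀ a ∈ J, ∀ x : G, a • x = 0) (g : N →ₗ[A] G) (hg : Function.Injective g) :
    Function.Injective (g.lTensor M) := by
  have tN : Module.IsTorsionBySet A N J := fun x a => hN a a.2 x
  have tG : Module.IsTorsionBySet A G J := fun x a => hG a a.2 x
  letI := tN.module
  letI := tG.module
  haveI : IsScalarTower A (A ⧸ J) N := tN.isScalarTower
  haveI : IsScalarTower A (A ⧸ J) G := tG.isScalarTower
  let g' : N →ₗ[A ⧸ J] G := LinearMap.extendScalarsOfSurjective Ideal.Quotient.mk_surjective g
  let e₁ := AlgebraTensorModule.cancelBaseChange A (A ⧸ J) (A ⧸ J) N M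
  let e₂ := AlgebraTensorModule.cancelBaseChange A (A ⧸ J) (A ⧸ J) G M
  have key : ∀ z, e₂ (g'.rTensor _ z) = (g.rTensor M) (e₁ z) := by
    intro z
    induction z with
    | zero => simp
    | add a b ha hb => simp only [map_add, ha, hb]
    | tmul n w =>
      induction w with
      | zero => simp
      | add a b ha hb => simp only [tmul_add, map_add, ha, hb]
      | tmul c m =>
        simp only [rTensor_tmul, e₁, e₂, AlgebraTensorModule.cancelBaseChange_tmul]
        exact congrArg (· ⊗ₜ[A] m) (g'.map_smul c n).symm
  have hinj : Function.Injective (g.rTensor M) := by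
    intro a b hab
    obtain ⟨a', rfl⟩ := e₁.surjective a
    obtain ⟨b', rfl⟩ := e₁.surjective b
    rw [← key, ← key, e₂.injective.eq_iff] at hab
    rw [Module.Flat.rTensor_preserves_injective_linearMap (M := (A ⧸ J) ⊗[A] M) g' hg hab]
  intro a b hab
  apply (TensorProduct.comm A M N).injective
  apply hinj
  have : ∀ x, g.rTensor M (TensorProduct.comm A M N x) = TensorProduct.comm A M G (g.lTensor M x) := fun x => by
    induction x with
    | zero => simp
    | add a b ha hb => simp [ha, hb]
    | tmul m n => simp
  rw [this, this, hab]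

variable [IsNoetherianRing A]

/-- An element killed by elements outside every associated prime is zero. -/
theorem eq_zero_of_loc {r : ℕ} (x : Fin r → A)
    (h : ∀ p ∈ associatedPrimes A A, ∃ s ∉ p, s • x = 0) : x = 0 := by
  funext i
  by_contra hx
  obtain ⟨P, hP, hle⟩ := exists_le_isAssociatedPrime_of_isNoetherianRing A (x i) hx
  obtain ⟨s, hs, hsx⟩ := h P hP
  refine hs (hle ?_)
  have := congrFun hsx i
  simpa [Submodule.mem_colon_singleton] using this

theorem killed_case [Module.Flat (A ⧸ J) ((A ⧸ J) ⊗[A] M)]
    (hM : ∀ (p : Ideal A) [p.IsPrime], p ∈ associatedPrimes A A → Module.Flat A (LocalizedModule p.primeCompl M))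
    {r : ℕ} (N : Submodule A (Fin r → A)) (hN : ∀ a ∈ J, ∀ x ∈ N, a • x = 0) (y : M ⊗[A] N)
    (hy : N.subtype.lTensor M y = 0) : y = 0 := by
  classical
  let P := (associatedPrimes.finite A A).toFinset
  haveI : ∀ p : P, p.1.IsPrime := fun p => IsAssociatedPrime.isPrime ((associatedPrimes.finite A A).mem_toFinset.1 p.2)
  let G := ∀ p : P, LocalizedModule p.1.primeCompl N
  let g : N →ₗ[A] G := LinearMap.pi fun p => LocalizedModule.mkLinearMap p.1.primeCompl N
  have hG : ∀ a ∈ J, ∀ x : G, a • x = 0 := by
    intro a ha x
    funext p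
    obtain ⟨⟨n, s⟩, hn⟩ := IsLocalizedModule.mk'_surjective p.1.primeCompl (LocalizedModule.mkLinearMap p.1.primeCompl N) (x p)
    rw [Pi.smul_apply, ← hn, Function.uncurry_apply_pair, ← IsLocalizedModule.mk'_smul]
    rw [show a • n = 0 from Subtype.ext (hN a ha n n.2), IsLocalizedModule.mk'_zero, Pi.zero_apply]
  have hg : Function.Injective g := by
    rw [injective_iff_map_eq_zero]
    intro x hx
    refine Subtype.ext (eq_zero_of_loc (x : Fin r → A) fun p hp => ?_)
    haveI := IsAssociatedPrime.isPrime hp
    have := congrFun hx ⟨p, (associatedPrimes.finite A A).mem_toFinset.2 hp⟩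
    obtain ⟨s, hs⟩ := (IsLocalizedModule.eq_zero_iff p.primeCompl (LocalizedModule.mkLinearMap p.primeCompl N)).1 this
    exact ⟨s, s.2, congrArg Subtype.val hs⟩
  refine (injective_iff_map_eq_zero _).1 (lTensor_injective_of_killed J M (N := N) (G := G) (fun a ha x => Subtype.ext (hN a ha x x.2)) hG g hg) y ?_
  apply (TensorProduct.piRight A A M (fun p : P => LocalizedModule p.1.primeCompl N)).injective
  rw [map_zero]
  funext p
  let f := LocalizedModule.mkLinearMap p.1.primeCompl M
  have hflat := hM p.1 ((associatedPrimes.finite A A).mem_toFinset.1 p.2)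
  have h0 : f.rTensor N y = 0 := by
    apply Module.Flat.lTensor_preserves_injective_linearMap (M := LocalizedModule p.1.primeCompl M) N.subtype N.injective_subtype
    rw [map_zero, ← LinearMap.comp_apply, lTensor_comp_rTensor, ← rTensor_comp_lTensor, LinearMap.comp_apply, hy, map_zero]
  haveI : IsLocalizedModule p.1.primeCompl (f.rTensor N) :=
    IsLocalizedModule.rTensor (A := A) (R := A) p.1.primeCompl f
  obtain ⟨s, hs⟩ := (IsLocalizedModule.eq_zero_iff p.1.primeCompl _).1 h0
  have key : TensorProduct.piRight A A M (fun p : P => LocalizedModule p.1.primeCompl N) (g.lTensor M y) p =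
      (LocalizedModule.mkLinearMap p.1.primeCompl N).lTensor M y := by
    clear hy h0 hs
    induction y with
    | zero => simp
    | add a b ha hb => simp only [map_add, Pi.add_apply, ha, hb]
    | tmul m n => rfl
  rw [key, Pi.zero_apply]
  let e := LinearEquiv.ofBijective _ ((Module.End.isUnit_iff _).1
    (IsLocalizedModule.map_units (LocalizedModule.mkLinearMap p.1.primeCompl N) s))
  have he : ∀ z, e.toLinearMap.lTensor M z = (s : A) • z := fun z => by
    induction z with
    | zero => simp
    | add a b ha hb => simp [ha, hb]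
    | tmul m n => rw [lTensor_tmul, ← tmul_smul]; rfl
  apply (e.lTensor M).injective
  rw [map_zero]
  refine (he _).trans ?_
  rw [← map_smul, show (s : A) • y = 0 from hs, map_zero]

theorem flat (hJ : IsNilpotent J) [Module.Flat (A ⧸ J) ((A ⧸ J) ⊗[A] M)]
    (hM : ∀ (p : Ideal A) [p.IsPrime], p ∈ associatedPrimes A A → Module.Flat A (LocalizedModule p.primeCompl M)) :
    Module.Flat A M := by
  classical
  obtain ⟨g, v, hv⟩ := Submodule.fg_iff_exists_fin_generating_family.1 (IsNoetherian.noetherian J)
  obtain ⟨n, hn⟩ := hJ
  have H : ∀ i, ∀ r, ∀ N : Submodule A (Fin r → A), (∀ a ∈ J ^ i, ∀ x ∈ N, a • x = 0) →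
      ∀ y : M ⊗[A] N, N.subtype.lTensor M y = 0 → y = 0 := by
    intro i
    induction i with
    | zero =>
      intro r N hN y _
      haveI : Subsingleton N := ⟨fun a b => Subtype.ext (by
        have ha := hN 1 (by simp) a a.2
        have hb := hN 1 (by simp) b b.2
        simp only [one_smul] at ha hb
        rw [ha, hb])⟩
      exact Subsingleton.elim _ _
    | succ i ih =>
      intro r N hN y hy
      let w : (Fin r → A) →ₗ[A] Fin (g * r) → A :=
        (LinearEquiv.funCongrLeft A A finProdFinEquiv.symm).toLinearMap ∘ₗ
          LinearMap.pi fun q : Fin g × Fin r => v q.1 • LinearMap.proj q.2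
      have hw : ∀ x, w x = 0 ↔ ∀ a ∈ J, a • x = 0 := by
        intro x
        constructor
        · intro h a ha
          rw [← hv] at ha
          induction ha using Submodule.span_induction with
          | zero => simp
          | add a b _ _ ha hb => simp [add_smul, ha, hb]
          | smul c a _ ha => rw [smul_eq_mul, mul_smul, ha, smul_zero]
          | mem a ha =>
            obtain ⟨j, rfl⟩ := ha
            funext k
            simpa [w] using congrFun h (finProdFinEquiv (j, k))
        · intro h
          funext q
          simpa [w] using congrFun (h (v (finProdFinEquiv.symm q).1) (hv ▸ Submodule.subset_span ⟨_, rfl⟩)) (finProdFinEquiv.symm q).2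
      let N' := N.map w
      let q : N →ₗ[A] N' := w.submoduleMap N
      have hq : Function.Surjective q := w.submoduleMap_surjective N
      let K := LinearMap.ker q
      have hex : Function.Exact K.subtype q := LinearMap.exact_subtype_ker_map q
      have hN' : ∀ a ∈ J ^ i, ∀ x ∈ N', a • x = 0 := by
        rintro a ha _ ⟨x, hx, rfl⟩
        rw [← map_smul, hw]
        intro b hb
        rw [smul_smul]
        exact hN _ (by rw [pow_succ']; exact Ideal.mul_mem_mul hb ha) x hx
      have h1 : q.lTensor M y = 0 := by
        apply ih _ N' hN'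
        rw [← LinearMap.comp_apply, ← lTensor_comp]
        have : N'.subtype ∘ₗ q = w ∘ₗ N.subtype := rfl
        rw [this, lTensor_comp, LinearMap.comp_apply, hy, map_zero]
      obtain ⟨z, rfl⟩ := (lTensor_exact (M := ↥K) (N := ↥N) (P := ↥N') (f := K.subtype) (g := q) M hex hq y).1 h1
      let K' := K.map N.subtype
      let e : K ≃ₗ[A] K' := Submodule.equivMapOfInjective _ N.injective_subtype K
      have hz : e.toLinearMap.lTensor M z = 0 := by
        refine killed_case J M hM K' ?_ _ ?_
        · rintro a ha _ ⟨x, hx, rfl⟩
          exact (hw _).1 (congrArg Subtype.val (LinearMap.mem_ker.1 hx)) a ha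
        · rw [← LinearMap.comp_apply, ← lTensor_comp]
          have : K'.subtype ∘ₗ e.toLinearMap = N.subtype ∘ₗ K.subtype := rfl
          rw [this, lTensor_comp, LinearMap.comp_apply, hy]
      have : z = 0 := (e.lTensor M).injective (hz.trans (map_zero (e.lTensor M)).symm)
      rw [this, map_zero]
  refine (Module.Flat.iff_lTensor_injective' (R := A) (M := M)).2 fun I => ?_
  rw [injective_iff_map_eq_zero]
  intro y hy
  let w : A ≃ₗ[A] (Fin 1 → A) := (LinearEquiv.funUnique (Fin 1) A A).symm
  let e : I ≃ₗ[A] Submodule.map w.toLinearMap I := Submodule.equivMapOfInjective _ w.injective I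
  have := H n 1 (Submodule.map w.toLinearMap I) (fun a ha x _ => by
    rw [hn, Submodule.zero_eq_bot, Submodule.mem_bot] at ha
    simp [ha]) (e.toLinearMap.lTensor M y) (by
    rw [← LinearMap.comp_apply, ← lTensor_comp]
    have : (Submodule.map w.toLinearMap I).subtype ∘ₗ e.toLinearMap = w.toLinearMap ∘ₗ I.subtype := rfl
    rw [this, lTensor_comp, LinearMap.comp_apply, hy, map_zero])
  exact (e.lTensor M).injective (this.trans (map_zero (e.lTensor M)).symm)

end Groth.Agent.H4FlatAss
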