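import Mathlib
import Groth.Agent.Lib.H4FlatDescentExist
import Groth.Agent.Lib.H2FibreCrit

/-! Fibrewise flatness criterion for finitely presented relatively flat modules. -/

universe u

open TensorProduct LinearMap

namespace Groth.Agent.H4FlatDescent

attribute [local instance] Algebra.TensorProduct.rightAlgebra

/-- `C ⊗[F] (F ⊗[S] M) ≅ C ⊗[S] M` keeps flatness. -/
theorem flat_cancel {S F C M : Type u} [CommRing S] [CommRing F] [CommRing C] [Algebra S F] [Algebra S C] [Algebra F C]
    [IsScalarTower S F C] [AddCommGroup M] [Module S M] [Module.Flat F (F ⊗[S] M)] : Module.Flat C (C ⊗[S] M) :=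
  Module.Flat.of_linearEquiv (AlgebraTensorModule.cancelBaseChange S F C C M).symm

/-- On a fibre, flatness descends along the residue field extension. -/
theorem flat_fibre {R A S B M₀ M : Type u} [CommRing R] [CommRing A] [CommRing S] [CommRing B] [Algebra R A] [Algebra R S]
    [Algebra A B] [Algebra S B] [Algebra R B] [IsScalarTower R A B] [IsScalarTower R S B] [Algebra.IsPushout R A S B]
    [AddCommGroup M₀] [Module S M₀] [AddCommGroup M] [Module B M] [Module S M] [IsScalarTower S B M]
    {f : M₀ →ₗ[S] M} (hf : IsBaseChange B f) (p : Ideal A) [p.IsPrime] (p₀ : Ideal R) [p₀.IsPrime]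
    (hp : p₀ = p.comap (algebraMap R A))
    (h : Module.Flat (B ⊗[A] p.ResidueField) ((B ⊗[A] p.ResidueField) ⊗[B] M)) :
    Module.Flat (S ⊗[R] p₀.ResidueField) ((S ⊗[R] p₀.ResidueField) ⊗[S] M₀) := by
  haveI := h
  let κ₀ := p₀.ResidueField
  let κ := p.ResidueField
  letI : Algebra κ₀ κ := (Ideal.ResidueField.map p₀ p (algebraMap R A) hp).toAlgebra
  haveI : IsScalarTower R κ₀ κ := IsScalarTower.of_algebraMap_eq fun r => by
    show algebraMap R κ r = Ideal.ResidueField.map p₀ p (algebraMap R A) hp (algebraMap R κ₀ r)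
    rw [IsScalarTower.algebraMap_apply R A κ]
    exact (Ideal.ResidueField.map_algebraMap p₀ p (algebraMap R A) hp r).symm
  let F := S ⊗[R] κ₀
  let F' := B ⊗[A] κ
  haveI : IsScalarTower R S F' := IsScalarTower.of_algebraMap_eq fun r => by
    show algebraMap R F' r = algebraMap B F' (algebraMap S B (algebraMap R S r))
    rw [← IsScalarTower.algebraMap_apply R S B, ← IsScalarTower.algebraMap_apply R B F']
  haveI : IsScalarTower R κ F' := IsScalarTower.of_algebraMap_eq fun r => by
    rw [IsScalarTower.algebraMap_apply R A κ, ← IsScalarTower.algebraMap_apply A κ F', IsScalarTower.algebraMap_apply R A B r |>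
      congrArg (algebraMap B F') |>.trans (IsScalarTower.algebraMap_apply A B F' _).symm |>.symm,
      ← IsScalarTower.algebraMap_apply R B F']
  letI : Algebra κ₀ F' := ((algebraMap κ F').comp (algebraMap κ₀ κ)).toAlgebra
  haveI : IsScalarTower κ₀ κ F' := IsScalarTower.of_algebraMap_eq fun _ => rfl
  haveI : IsScalarTower R κ₀ F' := IsScalarTower.of_algebraMap_eq fun r => by
    show algebraMap R F' r = algebraMap κ F' (algebraMap κ₀ κ (algebraMap R κ₀ r))
    rw [← IsScalarTower.algebraMap_apply R κ₀ κ, ← IsScalarTower.algebraMap_apply R κ F']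
  let φ : F →ₐ[R] F' :=
    Algebra.TensorProduct.lift (IsScalarTower.toAlgHom R S F') (IsScalarTower.toAlgHom R κ₀ F') fun _ _ => Commute.all _ _
  letI : Algebra F F' := φ.toRingHom.toAlgebra
  haveI : IsScalarTower S F F' := IsScalarTower.of_algebraMap_eq fun s => by
    show algebraMap S F' s = IsScalarTower.toAlgHom R S F' s * IsScalarTower.toAlgHom R κ₀ F' 1
    rw [map_one, mul_one]
    rfl
  haveI : IsScalarTower κ₀ F F' := IsScalarTower.of_algebraMap_eq fun x => by
    show algebraMap κ₀ F' x = IsScalarTower.toAlgHom R S F' 1 * IsScalarTower.toAlgHom R κ₀ F' x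
    rw [map_one, one_mul]
    rfl
  haveI : IsScalarTower R F F' := IsScalarTower.of_algebraMap_eq fun r => (φ.commutes r).symm
  haveI : Algebra.IsPushout A κ B F' := inferInstance
  haveI h1 : Algebra.IsPushout R κ S F' := (Algebra.IsPushout.comp_iff R A S B (T := κ) (T' := F')).2 inferInstance
  haveI h2 : Algebra.IsPushout κ₀ κ F F' := (Algebra.IsPushout.comp_iff R κ₀ S F (T := κ) (T' := F')).1 h1
  haveI h3 : Algebra.IsPushout κ₀ F κ F' := h2.symm
  haveI : Module.FaithfullyFlat F F' :=
    Module.FaithfullyFlat.of_linearEquiv _ _ (Algebra.IsPushout.equiv κ₀ F κ F').toLinearEquiv.symm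
  haveI : Module.Flat F' (F' ⊗[F] (F ⊗[S] M₀)) := by
    haveI : IsScalarTower S B F' := IsScalarTower.of_algebraMap_eq fun _ => rfl
    exact Module.Flat.of_linearEquiv ((AlgebraTensorModule.cancelBaseChange S F F' F' M₀).trans
      ((AlgebraTensorModule.cancelBaseChange S B F' F' M₀).symm.trans
        (AlgebraTensorModule.congr (LinearEquiv.refl F' F') hf.equiv)))
  exact Module.Flat.of_flat_tensorProduct F (F ⊗[S] M₀) F'

/-- Flatness over the total space from the fibre, Noetherian case. -/
theorem flat_localization_of_fibre {R S M : Type u} [CommRing R] [CommRing S] [IsNoetherianRing S] [Algebra R S] [AddCommGroup M]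
    [Module S M] [Module R M] [IsScalarTower R S M] [Module.Finite S M] [Module.Flat R M] (q : Ideal S) [q.IsPrime]
    (p : Ideal R) [p.IsPrime] (hp : p = q.comap (algebraMap R S))
    (h : Module.Flat (S ⊗[R] p.ResidueField) ((S ⊗[R] p.ResidueField) ⊗[S] M)) :
    Module.Flat (Localization.AtPrime q) (Localization.AtPrime q ⊗[S] M) := by
  haveI := h
  let L := Localization.AtPrime q
  let X := L ⊗[S] M
  haveI : IsNoetherianRing L := IsLocalization.isNoetherianRing q.primeCompl L inferInstance
  haveI : IsScalarTower R L X := inferInstance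
  haveI : Module.Flat R (LocalizedModule q.primeCompl M) :=
    (Module.Flat.iff_lTensor_injective' (R := R) (M := LocalizedModule q.primeCompl M)).2 fun J =>
      loc_inj q.primeCompl J.subtype fun x hx =>
        ⟨1, one_mem _, by
          rw [one_smul]
          exact Module.Flat.lTensor_preserves_injective_linearMap J.subtype Subtype.val_injective (hx.trans (map_zero _).symm)⟩
  haveI : Module.Flat R X := Module.Flat.of_linearEquiv
    (((IsLocalizedModule.isBaseChange q.primeCompl L (LocalizedModule.mkLinearMap q.primeCompl M)).equiv).restrictScalars R)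
  let I : Ideal L := p.map (algebraMap R L)
  have hI : I ≤ IsLocalRing.maximalIdeal L := by
    refine Ideal.map_le_iff_le_comap.2 fun r hr => ?_
    rw [Ideal.mem_comap, IsScalarTower.algebraMap_apply R S L, IsLocalization.AtPrime.to_map_mem_maximal_iff L q]
    rw [hp] at hr
    exact hr
  have h2 : Module.Flat (L ⧸ I) ((L ⧸ I) ⊗[L] X) := by
    let κ := p.ResidueField
    let F := S ⊗[R] κ
    let ι : R →ₐ[R] L ⧸ I := Algebra.ofId R (L ⧸ I)
    have hι1 : p ≤ RingHom.ker ι.toRingHom := fun r hr => by
      show algebraMap R (L ⧸ I) r = 0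
      rw [IsScalarTower.algebraMap_apply R L (L ⧸ I), Ideal.Quotient.algebraMap_eq, Ideal.Quotient.eq_zero_iff_mem]
      exact Ideal.mem_map_of_mem _ hr
    have hι2 : p.primeCompl ≤ (IsUnit.submonoid (L ⧸ I)).comap ι.toRingHom := fun r hr => by
      show IsUnit (algebraMap R (L ⧸ I) r)
      rw [IsScalarTower.algebraMap_apply R L (L ⧸ I), IsScalarTower.algebraMap_apply R S L]
      exact (IsLocalization.map_units L (⟨algebraMap R S r, fun h => hr (hp ▸ h)⟩ : q.primeCompl)).map (algebraMap L (L ⧸ I))
    let ψ : F →ₐ[R] L ⧸ I := Algebra.TensorProduct.lift (IsScalarTower.toAlgHom R S (L ⧸ I))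
      (Ideal.ResidueField.liftₐ p ι hι1 hι2) fun _ _ => Commute.all _ _
    letI : Algebra F (L ⧸ I) := ψ.toRingHom.toAlgebra
    haveI : IsScalarTower S F (L ⧸ I) := IsScalarTower.of_algebraMap_eq fun s => by
      show algebraMap S (L ⧸ I) s = IsScalarTower.toAlgHom R S (L ⧸ I) s * Ideal.ResidueField.liftₐ p ι hι1 hι2 1
      rw [map_one, mul_one]
      rfl
    haveI : Module.Flat (L ⧸ I) ((L ⧸ I) ⊗[S] M) := flat_cancel (F := F)
    exact Module.Flat.of_linearEquiv (AlgebraTensorModule.cancelBaseChange S L (L ⧸ I) (L ⧸ I) M)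
  refine H2LocalCrit.flat_of_jacobson (R := L) (S := L) (M := X) I ?_ (H2FibreCrit.injective_map_ideal_rTensor _) h2
  rw [Algebra.algebraMap_self, Ideal.map_id, IsLocalRing.jacobson_eq_maximalIdeal (⊥ : Ideal L) bot_ne_top]
  exact hI

/-- A relatively flat finitely presented module with flat fibres is flat. -/
theorem flat_of_flat_fibres (A B M : Type u) [CommRing A] [CommRing B] [Algebra A B]
    [Algebra.FinitePresentation A B] [AddCommGroup M] [Module B M] [Module A M]
    [IsScalarTower A B M] [Module.FinitePresentation B M] [Module.Flat A M]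
    (h : ∀ (p : Ideal A) [p.IsPrime], Module.Flat (B ⊗[A] p.ResidueField) ((B ⊗[A] p.ResidueField) ⊗[B] M)) :
    Module.Flat B M := by
  obtain ⟨R₀, _, _, S₀, _, _, _, _, _, _, M₀, _, _, _, _, _, _, _, _, _, f, h1, h2, h3, h4, -, h6, h7⟩ :=
    exists_flat_model A B M
  haveI := h1; haveI := h2; haveI := h3; haveI := h4; haveI := h6
  haveI : IsNoetherianRing R₀ := Algebra.FiniteType.isNoetherianRing ℤ R₀
  haveI : IsNoetherianRing S₀ := Algebra.FiniteType.isNoetherianRing R₀ S₀
  refine Module.flat_of_localized_maximal (R := B) (M := M) fun q _ => ?_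
  let q₀ : Ideal S₀ := q.comap (algebraMap S₀ B)
  let p : Ideal A := q.comap (algebraMap A B)
  let p₀ : Ideal R₀ := p.comap (algebraMap R₀ A)
  have hp₀ : p₀ = q₀.comap (algebraMap R₀ S₀) := by
    simp only [p₀, p, q₀, Ideal.comap_comap, ← IsScalarTower.algebraMap_eq]
  let L₀ := Localization.AtPrime q₀
  let L := Localization.AtPrime q
  haveI := flat_localization_of_fibre q₀ p₀ hp₀ (flat_fibre h7 p p₀ rfl (h p))
  letI : Algebra L₀ L := (Localization.localRingHom q₀ q (algebraMap S₀ B) rfl).toAlgebra
  haveI : IsScalarTower S₀ L₀ L := IsScalarTower.of_algebraMap_eq fun s => by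
    show algebraMap S₀ L s = Localization.localRingHom q₀ q (algebraMap S₀ B) rfl (algebraMap S₀ L₀ s)
    rw [Localization.localRingHom_to_map, ← IsScalarTower.algebraMap_apply S₀ B L]
  haveI : Module.Flat L (L ⊗[S₀] M₀) := flat_cancel (F := L₀)
  haveI : Module.Flat L (L ⊗[B] M) := Module.Flat.of_linearEquiv
    (((AlgebraTensorModule.cancelBaseChange S₀ B L L M₀).symm.trans
      (AlgebraTensorModule.congr (LinearEquiv.refl L L) h7.equiv)).symm)
  haveI : Module.Flat B (L ⊗[B] M) := Module.Flat.trans B L _
  exact Module.Flat.of_linearEquiv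
    (((IsLocalizedModule.isBaseChange q.primeCompl L (LocalizedModule.mkLinearMap q.primeCompl M)).equiv).symm.restrictScalars B)

end Groth.Agent.H4FlatDescent
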