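import Mathlib
import Groth.Agent.Lib.H4FlatDescentExist

/-! The flat locus of a morphism locally of finite presentation is open. -/

universe u

open AlgebraicGeometry CategoryTheory

namespace Groth.Agent.H4FlatDescent

theorem flat_stalkMap_iff {X Y : Scheme.{u}} {f : X ⟶ Y} {x : X} (U : Y.Opens)
    (hU : IsAffineOpen U) (V : X.Opens) (hV : IsAffineOpen V) (hVU : V ≤ f ⁻¹ᵁ U) (hx : x ∈ V) :
    letI := (f.appLE U V hVU).hom.toAlgebra
    (f.stalkMap x).hom.Flat ↔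
      Module.Flat Γ(Y, U) (LocalizedModule (hV.primeIdealOf ⟨x, hx⟩).asIdeal.primeCompl Γ(X, V)) := by
  let := (f.appLE U V hVU).hom.toAlgebra
  let p := (hU.primeIdealOf ⟨f x, hVU hx⟩).asIdeal
  let q := (hV.primeIdealOf ⟨x, hx⟩).asIdeal
  have : q.LiesOver p :=
    ⟨congr($(IsAffineOpen.comap_primeIdealOf_appLE U hU V hV hVU hx).1).symm⟩
  let := Localization.AtPrime.algebraOfLiesOver p q
  trans Module.Flat (Localization.AtPrime p) (Localization.AtPrime q)
  · rw [← RingHom.flat_algebraMap_iff]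
    exact RingHom.Flat.respectsIso.arrow_mk_iso_iff
      (IsAffineOpen.arrowStalkMapIso f U hU V hV hVU hx)
  · exact Module.flat_iff_of_isLocalization (Localization.AtPrime p) p.primeCompl (M := Localization.AtPrime q)

theorem mem_basicOpen_primeIdealOf {X : Scheme.{u}} {V : X.Opens} (hV : IsAffineOpen V) (x : V) (b : Γ(X, V)) :
    hV.primeIdealOf x ∈ PrimeSpectrum.basicOpen b ↔ x.1 ∈ X.basicOpen b := by
  rw [← hV.fromSpec_preimage_basicOpen]
  show hV.fromSpec (hV.primeIdealOf x) ∈ X.basicOpen b ↔ _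
  rw [hV.fromSpec_primeIdealOf]

theorem isOpen_flatLocus {X S : Scheme.{u}} (f : X ⟶ S) [LocallyOfFinitePresentation f] :
    IsOpen {x : X | (f.stalkMap x).hom.Flat} := by
  refine isOpen_iff_forall_mem_open.2 fun x hx => ?_
  obtain ⟨_, ⟨U, hU, rfl⟩, hxU, -⟩ :=
    S.isBasis_affineOpens.exists_subset_of_mem_open (Set.mem_univ (f x)) isOpen_univ
  obtain ⟨_, ⟨V, hV, rfl⟩, hxV, hVU⟩ :=
    X.isBasis_affineOpens.exists_subset_of_mem_open hxU (U.2.preimage f.continuous)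
  have := f.finitePresentation_appLE hU hV hVU
  algebraize [(f.appLE U V hVU).hom]
  obtain ⟨R₀, _, _, S₀, _, _, _, _, _, _, M₀, _, _, _, _, _, _, _, _, _, g, h1, h2, h3, h4, h5⟩ :=
    exists_model Γ(S, U) Γ(X, V) Γ(X, V)
  haveI := h1; haveI := h2; haveI := h3; haveI := h4
  haveI : IsNoetherianRing R₀ := Algebra.FiniteType.isNoetherianRing ℤ R₀
  haveI : Module.Flat Γ(S, U) (LocalizedModule (hV.primeIdealOf ⟨x, hxV⟩).asIdeal.primeCompl Γ(X, V)) :=
    (flat_stalkMap_iff U hU V hV hVU hxV).1 hx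
  obtain ⟨b, hb, h⟩ := exists_basicOpen_flat (isBaseChange_base (R₀ := R₀) (T := Γ(S, U)) h5)
    (rho_surjective (R₀ := R₀) (T := Γ(S, U)) (S₀ := S₀) (B := Γ(X, V))) (hV.primeIdealOf ⟨x, hxV⟩).asIdeal
  refine ⟨X.basicOpen b, fun y hy => ?_, (X.basicOpen b).2, ?_⟩
  · refine (flat_stalkMap_iff U hU V hV hVU (X.basicOpen_le b hy)).2 (h _ ?_)
    exact (mem_basicOpen_primeIdealOf hV _ b).2 hy
  · exact (mem_basicOpen_primeIdealOf hV ⟨x, hxV⟩ b).1 hb

end Groth.Agent.H4FlatDescent
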