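import Mathlib
import Groth.Agent.Lib.H4FlatDescentExist
import Groth.Agent.Lib.H2FibreCrit

/-! Flatness over a thickening by locally nilpotent elements, finitely presented case. -/

universe u

open TensorProduct LinearMap

namespace Groth.Agent.H4FlatDescent

section plain

variable {R₀ T M₀ N : Type u} [CommRing R₀] [CommRing T] [Algebra R₀ T] [AddCommGroup M₀] [Module R₀ M₀]
  [AddCommGroup N] [Module R₀ N] [Module T N] [IsScalarTower R₀ T N] {g : M₀ →ₗ[R₀] N} (hg : IsBaseChange T g)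

/-- `M₀ ⊗ A ≅ N ⊗ A`. -/
noncomputable def e₀ (A : Type u) [AddCommGroup A] [Module R₀ A] [Module T A] [IsScalarTower R₀ T A] :
    M₀ ⊗[R₀] A ≃+ N ⊗[T] A :=
  (TensorProduct.comm R₀ M₀ A).toAddEquiv.trans ((hg.tensorEquiv A).symm.toAddEquiv.trans (TensorProduct.comm T A N).toAddEquiv)

theorem e₀_natural {A D : Type u} [AddCommGroup A] [Module R₀ A] [Module T A] [IsScalarTower R₀ T A]
    [AddCommGroup D] [Module R₀ D] [Module T D] [IsScalarTower R₀ T D] (j : A →ₗ[T] D) (z : M₀ ⊗[R₀] A) :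
    j.lTensor N (e₀ hg A z) = e₀ hg D ((j.restrictScalars R₀).lTensor M₀ z) := by
  induction z with
  | zero => simp
  | add a b ha hb => simp [ha, hb]
  | tmul m a => simp [e₀, IsBaseChange.tensorEquiv]

variable (S₀ : Type u) [CommRing S₀] [Algebra R₀ S₀] [Module S₀ M₀] [IsScalarTower R₀ S₀ M₀]

include hg in
theorem obs_one_of_flat' [Module.Flat T N] (L : List (Ideal R₀ × R₀)) : Obs S₀ M₀ T L 1 := by
  intro σ _ ξ hξ
  rw [map_one, Module.End.one_apply]
  apply (e₀ hg _).injective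
  refine Module.Flat.lTensor_preserves_injective_linearMap (M := N) (Submodule.subtype _) Subtype.val_injective ?_
  rw [e₀_natural, toExt_ker hξ, map_zero, map_zero, map_zero]

include hg in
theorem flat_of_flatPow_one' (hc : FlatPow S₀ M₀ T (1 : S₀ ⊗[R₀] T)) : Module.Flat T N := by
  refine (Module.Flat.iff_lTensor_injective' (R := T) (M := N)).2 fun J => ?_
  rw [injective_iff_map_eq_zero]
  intro x hx
  obtain ⟨z, rfl⟩ := (e₀ hg J).surjective x
  rw [e₀_natural, AddEquiv.map_eq_zero_iff] at hx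
  obtain ⟨n, hn⟩ := hc J T J.subtype Subtype.val_injective z hx
  rw [one_pow, map_one, Module.End.one_apply] at hn
  rw [hn, map_zero]

end plain

/-- An element vanishing modulo `J` vanishes modulo a finitely generated subideal. -/
theorem exists_fg_vanish {R₀ T M₀ : Type u} [CommRing R₀] [CommRing T] [Algebra R₀ T] [AddCommGroup M₀] [Module R₀ M₀]
    (J : Ideal T) (I : Ideal R₀) (z : M₀ ⊗[R₀] (I.map (algebraMap R₀ T) : Ideal T))
    (hz : (extMap (Ideal.Quotient.mkₐ R₀ J) I).lTensor M₀ z = 0) :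
    ∃ F : Finset T, (↑F : Set T) ⊆ J ∧ ∀ J' : Ideal T, (↑F : Set T) ⊆ J' → (extMap (Ideal.Quotient.mkₐ R₀ J') I).lTensor M₀ z = 0 := by
  classical
  let φ := extMap (Ideal.Quotient.mkₐ R₀ J) I
  have hφ : Function.Surjective φ := fun ⟨y, hy⟩ => by
    rw [IsScalarTower.algebraMap_eq R₀ T (T ⧸ J), ← Ideal.map_map] at hy
    obtain ⟨x, hx, e⟩ := (Ideal.mem_map_iff_of_surjective _ Ideal.Quotient.mk_surjective).1 hy
    exact ⟨⟨x, hx⟩, Subtype.ext e⟩
  obtain ⟨w, hw⟩ := (lTensor_exact M₀ (LinearMap.exact_subtype_ker_map φ) hφ z).1 hz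
  clear hz
  induction w generalizing z with
  | zero => exact ⟨∅, by simp, fun J' _ => by rw [← hw, map_zero, map_zero]⟩
  | add a b ha hb =>
    obtain ⟨F, hF, hF'⟩ := ha _ rfl
    obtain ⟨G, hG, hG'⟩ := hb _ rfl
    refine ⟨F ∪ G, by rw [Finset.coe_union]; exact Set.union_subset hF hG, fun J' hJ' => ?_⟩
    rw [Finset.coe_union, Set.union_subset_iff] at hJ'
    rw [← hw, map_add, map_add, hF' J' hJ'.1, hG' J' hJ'.2, add_zero]
  | tmul m a =>
    have ha : (a.1.1 : T) ∈ J := Ideal.Quotient.eq_zero_iff_mem.1 (congrArg Subtype.val (LinearMap.mem_ker.1 a.2))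
    refine ⟨{a.1.1}, by rw [Finset.coe_singleton, Set.singleton_subset_iff]; exact ha, fun J' hJ' => ?_⟩
    rw [Finset.coe_singleton, Set.singleton_subset_iff] at hJ'
    rw [← hw, lTensor_tmul, lTensor_tmul, Submodule.subtype_apply, show extMap (Ideal.Quotient.mkₐ R₀ J') I a.1 = 0 from
      Subtype.ext (Ideal.Quotient.eq_zero_iff_mem.2 hJ'), tmul_zero]

/-- Vanishing of the obstructions modulo an ideal descends to a finitely generated subideal. -/
theorem exists_fg_obs {R₀ : Type u} [CommRing R₀] [IsNoetherianRing R₀] (S₀ : Type u) [CommRing S₀] [Algebra R₀ S₀]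
    [Algebra.FiniteType R₀ S₀] (M₀ : Type u) [AddCommGroup M₀] [Module R₀ M₀] [Module S₀ M₀] [IsScalarTower R₀ S₀ M₀]
    [Module.Finite S₀ M₀] {T : Type u} [CommRing T] [Algebra R₀ T] (J : Ideal T) :
    ∀ L : List (Ideal R₀ × R₀), Obs S₀ M₀ (T ⧸ J) L 1 →
      ∃ F : Finset T, (↑F : Set T) ⊆ J ∧ ∀ J' : Ideal T, (↑F : Set T) ⊆ J' → Obs S₀ M₀ (T ⧸ J') L 1 := by
  classical
  intro L
  induction L with
  | nil => exact fun _ => ⟨∅, by simp, fun J' _ σ hσ => by simp at hσ⟩
  | cons σ L ih =>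
    intro h
    obtain ⟨F, hF, hF'⟩ := ih fun τ hτ => h τ (List.mem_cons_of_mem _ hτ)
    obtain ⟨G, hG, hG'⟩ := exists_gens S₀ M₀ σ.1
    have key : ∀ s : Finset (M₀ ⊗[R₀] σ.1), s ⊆ G → ∃ F₁ : Finset T, (↑F₁ : Set T) ⊆ J ∧
        ∀ J' : Ideal T, (↑F₁ : Set T) ⊆ J' → ∀ ξ ∈ s, (toExt (T ⧸ J') σ.1).lTensor M₀ ξ = 0 := by
      intro s hs
      induction s using Finset.induction_on with
      | empty => exact ⟨∅, by simp, fun J' _ ξ hξ => by simp at hξ⟩
      | insert ξ s _ ih =>
        obtain ⟨F₁, hF₁, h₁⟩ := ih fun x hx => hs (Finset.mem_insert_of_mem hx)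
        obtain ⟨F₂, hF₂, h₂⟩ := exists_fg_vanish J σ.1 ((toExt T σ.1).lTensor M₀ ξ) (by
          rw [← lTensor_comp_apply, extMap_toExt]
          have := h σ (List.mem_cons_self ..) ξ (hG ξ (hs (Finset.mem_insert_self ..)))
          rwa [map_one, Module.End.one_apply] at this)
        refine ⟨F₁ ∪ F₂, by rw [Finset.coe_union]; exact Set.union_subset hF₁ hF₂, fun J' hJ' x hx => ?_⟩
        rw [Finset.coe_union, Set.union_subset_iff] at hJ'
        rcases Finset.mem_insert.1 hx with rfl | hx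
        · have := h₂ J' hJ'.2
          rwa [← lTensor_comp_apply, extMap_toExt] at this
        · exact h₁ J' hJ'.1 x hx
    obtain ⟨F₁, hF₁, h₁⟩ := key G (Finset.Subset.refl _)
    refine ⟨F ∪ F₁, by rw [Finset.coe_union]; exact Set.union_subset hF hF₁, fun J' hJ' τ hτ ξ hξ => ?_⟩
    rw [Finset.coe_union, Set.union_subset_iff] at hJ'
    rcases List.mem_cons.1 hτ with rfl | hτ
    · exact obs_gen S₀ M₀ (fun η hη => by rw [map_one, Module.End.one_apply]; exact h₁ J' hJ'.2 η hη) (hG' ξ hξ)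
    · exact hF' J' hJ'.1 τ hτ ξ hξ

/-- A finite subset of an extended ideal comes from a finitely generated subideal. -/
theorem exists_fg_subideal {R S : Type u} [CommRing R] [CommRing S] (φ : R →+* S) (I : Ideal R) (F : Finset S)
    (hF : (↑F : Set S) ⊆ I.map φ) : ∃ J : Ideal R, J.FG ∧ J ≤ I ∧ (↑F : Set S) ⊆ J.map φ := by
  classical
  induction F using Finset.induction_on with
  | empty => exact ⟨⊥, Submodule.fg_bot, bot_le, by simp⟩
  | insert x F _ ih =>
    rw [Finset.coe_insert, Set.insert_subset_iff] at hF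
    obtain ⟨J, hJ, hJI, hJF⟩ := ih hF.2
    obtain ⟨T', hT', hxT'⟩ := Submodule.mem_span_finite_of_mem_span (show x ∈ Submodule.span S (φ '' (I : Set R)) from hF.1)
    choose r hr hr' using fun t : T' => hT' t.2
    refine ⟨J ⊔ Ideal.span ((Finset.univ.image r : Finset R) : Set R), Submodule.FG.sup hJ ⟨_, rfl⟩, sup_le hJI (Ideal.span_le.2 ?_), ?_⟩
    · intro y hy
      obtain ⟨t, -, rfl⟩ := Finset.mem_image.1 hy
      exact hr t
    · rw [Finset.coe_insert, Set.insert_subset_iff]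
      refine ⟨Ideal.map_mono le_sup_right ?_, hJF.trans (Ideal.map_mono le_sup_left)⟩
      rw [Ideal.map_span]
      exact Submodule.span_mono (show (T' : Set S) ⊆ φ '' ((Finset.univ.image r : Finset R) : Set R) from
        fun t ht => ⟨r ⟨t, ht⟩, Finset.mem_image.2 ⟨⟨t, ht⟩, Finset.mem_univ _, rfl⟩, hr' ⟨t, ht⟩⟩) hxT'

/-- Local nilpotence kills the obstruction: Tor argument. -/
theorem flat_of_nilpotent_ideal {R S M : Type u} [CommRing R] [CommRing S] [Algebra R S] [AddCommGroup M] [Module S M] [Module R M]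
    [IsScalarTower R S M] [Module.Flat R M] (J : Ideal R) (hJ : IsNilpotent J)
    (h : Module.Flat (S ⧸ J.map (algebraMap R S)) ((S ⧸ J.map (algebraMap R S)) ⊗[S] M)) : Module.Flat S M := by
  haveI := h
  obtain ⟨n, hn⟩ := hJ
  have hJS : J.map (algebraMap R S) ^ n = ⊥ := by
    rw [← Ideal.map_pow, hn, Ideal.zero_eq_bot, Ideal.map_bot]
  rw [Module.Flat.iff_rTensor_injective']
  intro K
  refine H2LocalCrit.Inj.of_exact (H2LocalCrit.Inj.of_killed_pow (J.map (algebraMap R S))
    (H2FibreCrit.injective_map_ideal_rTensor J) n (S ⧸ K) fun a ha x => ?_)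
    K.injective_subtype (LinearMap.exact_subtype_mkQ K) K.mkQ_surjective
  rw [hJS, Submodule.mem_bot] at ha
  rw [ha, zero_smul]

/-- Infinitesimal criterion of flatness for finitely presented modules and locally nilpotent thickenings. -/
theorem flat_of_flat_mod_locally_nilpotent {R S S' M : Type u} [CommRing R] [CommRing S] [CommRing S'] [Algebra R S] [Algebra S S']
    [Algebra.FinitePresentation S S'] (I : Ideal R) (hI : ∀ a ∈ I, IsNilpotent a)
    [AddCommGroup M] [Module S' M] [Module S M] [Module R M] [IsScalarTower S S' M] [IsScalarTower R S M]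
    [Module.FinitePresentation S' M] [Module.Flat R M]
    (h : Module.Flat (S ⧸ I.map (algebraMap R S)) ((S ⧸ I.map (algebraMap R S)) ⊗[S] M)) : Module.Flat S M := by
  obtain ⟨R₀, _, _, S₀, _, _, _, _, _, _, M₀, _, _, _, _, _, _, _, _, _, f, h1, h2, h3, h4, h5⟩ := exists_model S S' M
  haveI := h1; haveI := h2; haveI := h3; haveI := h4
  haveI : IsNoetherianRing R₀ := Algebra.FiniteType.isNoetherianRing ℤ R₀
  have hb : IsBaseChange S (f.restrictScalars R₀) := isBaseChange_base h5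
  obtain ⟨L, hL, hcov⟩ := exists_strata (R₀ := R₀) S₀ M₀
  haveI := h
  obtain ⟨F, hF, hF'⟩ := exists_fg_obs S₀ M₀ (I.map (algebraMap R S)) L
    (obs_one_of_flat' (hb.comp (TensorProduct.isBaseChange S M (S ⧸ I.map (algebraMap R S)))) S₀ L)
  obtain ⟨J, hJ, hJI, hJF⟩ := exists_fg_subideal (algebraMap R S) I F hF
  exact flat_of_nilpotent_ideal J ((Ideal.FG.isNilpotent_iff_le_nilradical hJ).2 fun a ha => hI a (hJI ha))
    (flat_of_flatPow_one' (hb.comp (TensorProduct.isBaseChange S M (S ⧸ J.map (algebraMap R S)))) S₀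
      (flatPow_of_obs S₀ M₀ hL hcov (hF' _ hJF)))

end Groth.Agent.H4FlatDescent
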