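import Mathlib
import Groth.Agent.Lib.H4FlatDescentExist

/-! Syzygies of relatively flat finitely presented modules. -/

universe u

open CategoryTheory Limits TensorProduct LinearMap

namespace Groth.Agent.H4FlatDescent

/-- Kernels of surjections onto flat modules stay injective. -/
theorem lTensor_injective_of_flat_coker {R : Type u} [CommRing R] {A B C N : Type u} [AddCommGroup A] [Module R A]
    [AddCommGroup B] [Module R B] [AddCommGroup C] [Module R C] [AddCommGroup N] [Module R N] [Module.Flat R C]
    (i : A →ₗ[R] B) (p : B →ₗ[R] C) (hi : Function.Injective i) (he : Function.Exact i p) (hp : Function.Surjective p) :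
    Function.Injective (i.lTensor N) := by
  obtain ⟨F, _, _, _, q, hq⟩ : ∃ (F : Type u) (_ : AddCommGroup F) (_ : Module R F) (_ : Module.Free R F) (q : F →ₗ[R] N),
      Function.Surjective q :=
    ⟨N →₀ R, inferInstance, inferInstance, inferInstance, Finsupp.linearCombination R (id : N → N),
      fun n => ⟨Finsupp.single n 1, (Finsupp.linearCombination_single R _ _).trans (one_smul R n)⟩⟩
  let L := LinearMap.ker q
  rw [injective_iff_map_eq_zero]
  intro x hx
  obtain ⟨y, rfl⟩ := LinearMap.rTensor_surjective A hq x
  have h1 : q.rTensor B (i.lTensor F y) = 0 := by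
    rw [← hx, ← LinearMap.comp_apply, rTensor_comp_lTensor, ← lTensor_comp_rTensor, LinearMap.comp_apply]
  obtain ⟨w, hw⟩ := (rTensor_exact B (LinearMap.exact_subtype_ker_map q) hq _).1 h1
  have h2 : p.lTensor L w = 0 := by
    refine Module.Flat.rTensor_preserves_injective_linearMap (M := C) L.subtype Subtype.val_injective ?_
    rw [map_zero, ← LinearMap.comp_apply, rTensor_comp_lTensor, ← lTensor_comp_rTensor, LinearMap.comp_apply, hw,
      ← lTensor_comp_apply, he.linearMap_comp_eq_zero, lTensor_zero, LinearMap.zero_apply]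
  obtain ⟨v, rfl⟩ := (lTensor_exact L he hp _).1 h2
  have h3 : y = L.subtype.rTensor A v := by
    refine Module.Flat.lTensor_preserves_injective_linearMap (M := F) i hi ?_
    rw [← hw, ← LinearMap.comp_apply, ← LinearMap.comp_apply, rTensor_comp_lTensor, lTensor_comp_rTensor]
  rw [h3, ← rTensor_comp_apply, (LinearMap.exact_subtype_ker_map q).linearMap_comp_eq_zero, rTensor_zero, LinearMap.zero_apply]

/-- The kernel of a surjection of flat modules is flat. -/
theorem flat_kernel {R : Type u} [CommRing R] {A B C : Type u} [AddCommGroup A] [Module R A]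
    [AddCommGroup B] [Module R B] [AddCommGroup C] [Module R C] [Module.Flat R B] [Module.Flat R C]
    (i : A →ₗ[R] B) (p : B →ₗ[R] C) (hi : Function.Injective i) (he : Function.Exact i p) (hp : Function.Surjective p) :
    Module.Flat R A := by
  rw [Module.Flat.iff_lTensor_injective']
  intro J
  have h : Function.Injective (i.rTensor J) := by
    rw [← LinearMap.lTensor_inj_iff_rTensor_inj]
    exact lTensor_injective_of_flat_coker i p hi he hp
  have h2 := (Module.Flat.lTensor_preserves_injective_linearMap (M := B) J.subtype Subtype.val_injective).comp h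
  rw [← LinearMap.coe_comp, lTensor_comp_rTensor, ← rTensor_comp_lTensor, LinearMap.coe_comp] at h2
  exact Function.Injective.of_comp h2

variable (A : Type u) [CommRing A] (R : Type u) [CommRing R] [Algebra A R]

/-- A flat finitely presented module has a first syzygy of the same kind. -/
theorem exists_syzygy [Algebra.FinitePresentation A R] [Module.Flat A R] (M : Type u) [AddCommGroup M] [Module R M]
    [Module A M] [IsScalarTower A R M] [Module.FinitePresentation R M] [Module.Flat A M] :
    ∃ (k : ℕ) (π : (Fin k → R) →ₗ[R] M), Function.Surjective π ∧ Module.FinitePresentation R (LinearMap.ker π) ∧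
      Module.Flat A (LinearMap.ker π) := by
  classical
  obtain ⟨R₀, _, _, S₀, _, _, _, _, _, _, M₀, _, _, _, _, _, _, _, _, _, f, h1, h2, h3, h4, h5, h6, h7⟩ :=
    exists_flat_model A R M
  haveI := h1; haveI := h2; haveI := h3; haveI := h4; haveI := h6
  haveI : Module.Flat R₀ S₀ := h5 inferInstance
  haveI : IsNoetherianRing R₀ := Algebra.FiniteType.isNoetherianRing ℤ R₀
  haveI : IsNoetherianRing S₀ := Algebra.FiniteType.isNoetherianRing R₀ S₀
  obtain ⟨k, π₀, hπ₀⟩ := Module.Finite.exists_fin' S₀ M₀
  let K₀ := LinearMap.ker π₀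
  haveI : Module.Finite S₀ K₀ := Module.Finite.iff_fg.2 (IsNoetherian.noetherian _)
  haveI : Module.FinitePresentation S₀ K₀ := Module.finitePresentation_of_finite S₀ K₀
  let e := TensorProduct.piScalarRight S₀ R R (Fin k)
  let π : (Fin k → R) →ₗ[R] M := h7.equiv.toLinearMap ∘ₗ π₀.baseChange R ∘ₗ e.symm.toLinearMap
  have hπ : Function.Surjective π :=
    h7.equiv.surjective.comp ((LinearMap.lTensor_surjective R hπ₀).comp e.symm.surjective)
  have hex : Function.Exact (K₀.subtype.baseChange R) (π₀.baseChange R) :=
    lTensor_exact R (LinearMap.exact_subtype_ker_map π₀) hπ₀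
  let j : R ⊗[S₀] K₀ →ₗ[R] (Fin k → R) := e.toLinearMap ∘ₗ K₀.subtype.baseChange R
  have hinj : Function.Injective (K₀.subtype.baseChange R) := by
    let c₁ := Algebra.IsPushout.cancelBaseChange R₀ A S₀ R K₀
    let c₂ := Algebra.IsPushout.cancelBaseChange R₀ A S₀ R (Fin k → S₀)
    have hnat : ∀ z, K₀.subtype.baseChange R (c₁.symm z) = c₂.symm ((K₀.subtype.restrictScalars R₀).lTensor A z) := fun z => by
      induction z with
      | zero => simp
      | add a b ha hb => simp [ha, hb]
      | tmul a m =>
        rw [lTensor_tmul, Algebra.IsPushout.cancelBaseChange_symm_tmul, Algebra.IsPushout.cancelBaseChange_symm_tmul,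
          baseChange_tmul]
        rfl
    have h := lTensor_injective_of_flat_coker (N := A) (K₀.subtype.restrictScalars R₀) (π₀.restrictScalars R₀)
      Subtype.val_injective (LinearMap.exact_subtype_ker_map π₀) hπ₀
    rw [injective_iff_map_eq_zero]
    intro x hx
    obtain ⟨z, rfl⟩ := c₁.symm.surjective x
    rw [hnat, LinearEquiv.map_eq_zero_iff] at hx
    rw [h (hx.trans (map_zero _).symm), map_zero]
  have hjinj : Function.Injective j := e.injective.comp hinj
  have hker : LinearMap.ker π = LinearMap.range j := by
    ext v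
    constructor
    · intro hv
      obtain ⟨u, hu⟩ := (hex (e.symm v)).1 (h7.equiv.map_eq_zero_iff.1 hv)
      exact ⟨u, (congrArg e hu).trans (e.apply_symm_apply v)⟩
    · rintro ⟨u, rfl⟩
      show h7.equiv (π₀.baseChange R (e.symm (e (K₀.subtype.baseChange R u)))) = 0
      rw [e.symm_apply_apply, hex.apply_apply_eq_zero, map_zero]
  refine ⟨k, π, hπ, ?_, ?_⟩
  · exact Module.FinitePresentation.of_equiv ((LinearEquiv.ofInjective j hjinj).trans (LinearEquiv.ofEq _ _ hker.symm))
  · haveI : Module.Flat A (Fin k → R) := Module.Flat.trans A R (Fin k → R)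
    exact flat_kernel ((LinearMap.ker π).subtype.restrictScalars A) (π.restrictScalars A) Subtype.val_injective
      (LinearMap.exact_subtype_ker_map π) hπ

/-- A finitely presented module flat over `A`. -/
structure FM where
  N : ModuleCat.{u} R
  [mA : Module A N]
  [tw : IsScalarTower A R N]
  fp : Module.FinitePresentation R N
  flat : Module.Flat A N

variable {A R} [Algebra.FinitePresentation A R] [Module.Flat A R]

theorem FM.exists_syz (Z : FM A R) : ∃ (k : ℕ) (π : (Fin k → R) →ₗ[R] Z.N), Function.Surjective π ∧
    Module.FinitePresentation R (LinearMap.ker π) ∧ Module.Flat A (LinearMap.ker π) :=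
  letI := Z.mA
  haveI := Z.tw
  haveI := Z.fp
  haveI := Z.flat
  exists_syzygy A R Z.N

noncomputable def FM.k (Z : FM A R) : ℕ := Classical.choose Z.exists_syz

noncomputable def FM.pi (Z : FM A R) : (Fin Z.k → R) →ₗ[R] Z.N := Classical.choose (Classical.choose_spec Z.exists_syz)

theorem FM.pi_surj (Z : FM A R) : Function.Surjective Z.pi :=
  (Classical.choose_spec (Classical.choose_spec Z.exists_syz)).1

noncomputable def FM.next (Z : FM A R) : FM A R where
  N := ModuleCat.of R (LinearMap.ker Z.pi)
  mA := inferInstanceAs (Module A (LinearMap.ker Z.pi))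
  tw := inferInstanceAs (IsScalarTower A R (LinearMap.ker Z.pi))
  fp := (Classical.choose_spec (Classical.choose_spec Z.exists_syz)).2.1
  flat := (Classical.choose_spec (Classical.choose_spec Z.exists_syz)).2.2

noncomputable def syz (Z : FM A R) : ℕ → FM A R
  | 0 => Z
  | n + 1 => (syz Z n).next

noncomputable def cx (Z : FM A R) : ChainComplex (ModuleCat.{u} R) ℕ :=
  ChainComplex.of (fun n => ModuleCat.of R (Fin (syz Z n).k → R))
    (fun n => ModuleCat.ofHom ((LinearMap.ker (syz Z n).pi).subtype ∘ₗ (syz Z (n + 1)).pi))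
    (fun n => by
      ext1
      refine LinearMap.ext fun x => ?_
      show ((syz Z (n + 1)).pi (((syz Z (n + 2)).pi x).1)).1 = 0
      have h := ((syz Z (n + 2)).pi x).2
      rw [LinearMap.mem_ker] at h
      rw [h]
      rfl)

theorem exists_res (Z : FM A R) :
    ∃ F : ProjectiveResolution Z.N, ∀ n : ℕ, Module.Finite R (F.complex.X n) ∧ Module.Free R (F.complex.X n) := by
  have hd : ∀ n, (cx Z).d (n + 1) n =
      ModuleCat.ofHom ((LinearMap.ker (syz Z n).pi).subtype ∘ₗ (syz Z (n + 1)).pi) := fun n => by
    simp [cx]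
  have hproj : ∀ n, Projective ((cx Z).X n) := fun n => by
    show Projective (ModuleCat.of R (Fin (syz Z n).k → R))
    exact ModuleCat.projective_of_free (Pi.basisFun R _)
  have hw : (cx Z).d 1 0 ≫ ModuleCat.ofHom Z.pi = 0 := by
    rw [hd 0]
    ext1
    refine LinearMap.ext fun x => ?_
    exact LinearMap.mem_ker.mp ((syz Z 1).pi x).2
  refine ⟨{
    complex := cx Z
    projective := hproj
    π := (ChainComplex.toSingle₀Equiv _ _).symm ⟨ModuleCat.ofHom Z.pi, hw⟩
    quasiIso := ⟨fun n => ?_⟩ }, fun n => ⟨?_, ?_⟩⟩
  · cases n with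
    | zero =>
      rw [ChainComplex.quasiIsoAt₀_iff, ShortComplex.quasiIso_iff_of_zeros']
      · refine (ShortComplex.exact_and_epi_g_iff_of_iso (S₁ := ShortComplex.mk ((cx Z).d 1 0) (ModuleCat.ofHom Z.pi) hw) ?_).1 ⟨?_, ?_⟩
        · exact ShortComplex.isoMk (Iso.refl _) (Iso.refl _) (Iso.refl _) (by dsimp; exact (Category.id_comp _).trans (Category.comp_id _).symm) (by dsimp; exact (Category.id_comp _).trans ((ChainComplex.toSingle₀Equiv_symm_apply_f_zero _ hw).trans (Category.comp_id _).symm))
        · rw [ShortComplex.moduleCat_exact_iff]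
          intro x hx
          obtain ⟨y, hy⟩ := (syz Z 1).pi_surj ⟨x, hx⟩
          refine ⟨y, ?_⟩
          show ((cx Z).d (0 + 1) 0).hom y = x
          rw [hd 0]
          exact congrArg Subtype.val hy
        · exact (ModuleCat.epi_iff_surjective _).mpr Z.pi_surj
      all_goals rfl
    | succ n =>
      rw [quasiIsoAt_iff_exactAt']
      · rw [HomologicalComplex.exactAt_iff' _ (n + 1 + 1) (n + 1) n (by simp) (by simp), ShortComplex.moduleCat_exact_iff]
        intro x hx
        have hx' : (syz Z (n + 1)).pi x = 0 := by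
          have := hx
          change ((cx Z).d (n + 1) n).hom x = 0 at this
          rw [hd n] at this
          exact Subtype.ext this
        obtain ⟨y, hy⟩ := (syz Z (n + 1 + 1)).pi_surj ⟨x, hx'⟩
        refine ⟨y, ?_⟩
        show ((cx Z).d (n + 1 + 1) (n + 1)).hom y = x
        rw [hd (n + 1)]
        exact congrArg Subtype.val hy
      · exact ChainComplex.exactAt_succ_single_obj _ n
  · show Module.Finite R (Fin (syz Z n).k → R)
    infer_instance
  · show Module.Free R (Fin (syz Z n).k → R)
    infer_instance

end Groth.Agent.H4FlatDescent
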