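import Mathlib
import Groth.Agent.Lib.H4FlatSyzygy
import Groth.Agent.Lib.H4FlatFibre
import Groth.Agent.Lib.RegularLocalSerre

/-! Projective dimension of relatively flat modules, fibrewise. -/

universe u

open TensorProduct LinearMap CategoryTheory Groth.Agent.RegLocal

namespace Groth.Agent.H4FlatDescent

set_option linter.style.haveILetI false

theorem pdLT_congr {R : Type u} [CommRing R] {M N : Type u} [AddCommGroup M] [Module R M] [AddCommGroup N] [Module R N]
    (e : M ≃ₗ[R] N) (n : ℕ) : PdLT R M n ↔ PdLT R N n :=
  ⟨fun h => by haveI : HasProjectiveDimensionLT (ModuleCat.of R M) n := h; exact hasProjectiveDimensionLT_of_iso e.toModuleIso n,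
    fun h => by haveI : HasProjectiveDimensionLT (ModuleCat.of R N) n := h; exact hasProjectiveDimensionLT_of_iso e.symm.toModuleIso n⟩

theorem pdLT_zero_iff' {R : Type u} [CommRing R] {M : Type u} [AddCommGroup M] [Module R M] :
    PdLT R M 0 ↔ Subsingleton M := by
  rw [PdLT, hasProjectiveDimensionLT_zero_iff_isZero, ModuleCat.isZero_iff_subsingleton]

attribute [local instance] Algebra.TensorProduct.rightAlgebra

variable {A B : Type u} [CommRing A] [CommRing B] [Algebra A B]

/-- Base change to a fibre keeps the kernel. -/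
theorem injective_fibre_ker {F M : Type u} [AddCommGroup F] [Module B F] [Module A F] [IsScalarTower A B F] [AddCommGroup M]
    [Module B M] [Module A M] [IsScalarTower A B M] [Module.Flat A M] (π : F →ₗ[B] M) (hπ : Function.Surjective π)
    (κ : Type u) [CommRing κ] [Algebra A κ] :
    Function.Injective ((LinearMap.ker π).subtype.baseChange (B ⊗[A] κ)) := by
  let c₁ := Algebra.IsPushout.cancelBaseChange A κ B (B ⊗[A] κ) (LinearMap.ker π)
  let c₂ := Algebra.IsPushout.cancelBaseChange A κ B (B ⊗[A] κ) F
  have hnat : ∀ z, (LinearMap.ker π).subtype.baseChange (B ⊗[A] κ) (c₁.symm z) =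
      c₂.symm (((LinearMap.ker π).subtype.restrictScalars A).lTensor κ z) := fun z => by
    induction z with
    | zero => simp
    | add a b ha hb => simp [ha, hb]
    | tmul a m =>
      rw [lTensor_tmul, Algebra.IsPushout.cancelBaseChange_symm_tmul, Algebra.IsPushout.cancelBaseChange_symm_tmul,
        baseChange_tmul]
      rfl
  have h := lTensor_injective_of_flat_coker (N := κ) ((LinearMap.ker π).subtype.restrictScalars A) (π.restrictScalars A)
    Subtype.val_injective (LinearMap.exact_subtype_ker_map π) hπ
  rw [injective_iff_map_eq_zero]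
  intro x hx
  obtain ⟨z, rfl⟩ := c₁.symm.surjective x
  rw [hnat, LinearEquiv.map_eq_zero_iff] at hx
  rw [h (hx.trans (map_zero _).symm), map_zero]

/-- The fibres detect projective dimension. -/
theorem pdLT_iff_fibres [Algebra.FinitePresentation A B] [Module.Flat A B] :
    ∀ (n : ℕ) (M : Type u) [AddCommGroup M] [Module B M] [Module A M] [IsScalarTower A B M]
      [Module.FinitePresentation B M] [Module.Flat A M],
      PdLT B M n ↔ ∀ p : PrimeSpectrum A,
        PdLT (B ⊗[A] p.asIdeal.ResidueField) ((B ⊗[A] p.asIdeal.ResidueField) ⊗[B] M) n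
  | 0, M, _, _, _, _, _, _ => by
    simp only [pdLT_zero_iff']
    refine ⟨fun h p => ?_, fun h => ?_⟩
    · infer_instance
    haveI : Module.Flat B M := flat_of_flat_fibres A B M fun p hp => by
      haveI := h ⟨p, hp⟩
      infer_instance
    refine not_nontrivial_iff_subsingleton.1 fun hN => ?_
    obtain ⟨q, hq⟩ := Set.nonempty_iff_ne_empty.2 fun h0 : Module.support B M = ∅ =>
      (not_subsingleton_iff_nontrivial.2 hN) (Module.support_eq_empty_iff.1 h0)
    rw [Module.mem_support_iff_nontrivial_residueField_tensorProduct] at hq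
    let p : PrimeSpectrum A := q.comap (algebraMap A B)
    letI : Algebra p.asIdeal.ResidueField q.asIdeal.ResidueField :=
      (Ideal.ResidueField.map p.asIdeal q.asIdeal (algebraMap A B) rfl).toAlgebra
    haveI : IsScalarTower A p.asIdeal.ResidueField q.asIdeal.ResidueField := IsScalarTower.of_algebraMap_eq fun r => by
      show algebraMap A _ r = Ideal.ResidueField.map p.asIdeal q.asIdeal (algebraMap A B) rfl (algebraMap A _ r)
      rw [IsScalarTower.algebraMap_apply A B q.asIdeal.ResidueField]
      exact (Ideal.ResidueField.map_algebraMap p.asIdeal q.asIdeal (algebraMap A B) rfl r).symm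
    let φ : (B ⊗[A] p.asIdeal.ResidueField) →ₐ[A] q.asIdeal.ResidueField := Algebra.TensorProduct.lift
      (IsScalarTower.toAlgHom A B _) (IsScalarTower.toAlgHom A p.asIdeal.ResidueField _) fun _ _ => Commute.all _ _
    letI : Algebra (B ⊗[A] p.asIdeal.ResidueField) q.asIdeal.ResidueField := φ.toRingHom.toAlgebra
    haveI : IsScalarTower B (B ⊗[A] p.asIdeal.ResidueField) q.asIdeal.ResidueField := IsScalarTower.of_algebraMap_eq fun b => by
      show algebraMap B _ b = IsScalarTower.toAlgHom A B q.asIdeal.ResidueField b *
        IsScalarTower.toAlgHom A p.asIdeal.ResidueField q.asIdeal.ResidueField 1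
      rw [map_one, mul_one]
      rfl
    haveI := h p
    exact not_subsingleton _ (AlgebraTensorModule.cancelBaseChange B (B ⊗[A] p.asIdeal.ResidueField) q.asIdeal.ResidueField
      q.asIdeal.ResidueField M).symm.toEquiv.subsingleton
  | 1, M, _, _, _, _, _, _ => by
    simp only [pdLT_one_iff]
    refine ⟨fun h p => inferInstance, fun h => ?_⟩
    haveI : Module.Flat B M := flat_of_flat_fibres A B M fun p hp => by
      haveI := h ⟨p, hp⟩
      infer_instance
    exact Module.Flat.projective_of_finitePresentation
  | n + 2, M, _, _, _, _, _, _ => by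
    obtain ⟨k, π, hπ, hK, hKA⟩ := exists_syzygy A B M
    haveI := hK; haveI := hKA
    rw [pdLT_ker_iff π hπ n, pdLT_iff_fibres (n + 1) (LinearMap.ker π)]
    refine forall_congr' fun p => ?_
    have hex : Function.Exact ((LinearMap.ker π).subtype.baseChange (B ⊗[A] p.asIdeal.ResidueField))
        (π.baseChange (B ⊗[A] p.asIdeal.ResidueField)) :=
      lTensor_exact _ (LinearMap.exact_subtype_ker_map π) hπ
    rw [pdLT_ker_iff (π.baseChange (B ⊗[A] p.asIdeal.ResidueField)) (LinearMap.lTensor_surjective _ hπ) n]
    exact pdLT_congr ((LinearEquiv.ofInjective _ (injective_fibre_ker π hπ _)).trans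
      (LinearEquiv.ofEq _ _ hex.linearMap_ker_eq.symm)) _

/-- Compare by all natural bounds. -/
theorem le_of_forall_lt_nat {a b : WithBot ℕ∞} (h : ∀ n : ℕ, b < n → a < n) : a ≤ b := by
  induction b using WithBot.recBotCoe with
  | bot =>
    have h0 : a < ((0 : ℕ) : WithBot ℕ∞) := h 0 (WithBot.bot_lt_coe _)
    exact le_of_eq (WithBot.lt_coe_bot.1 h0)
  | coe b =>
    induction b with
    | top => exact le_top
    | coe m =>
      have h1 := h (m + 1) (by exact_mod_cast Nat.lt_succ_self m)
      induction a using WithBot.recBotCoe with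
      | bot => exact bot_le
      | coe a =>
        have h2 : a < ((m + 1 : ℕ) : ℕ∞) := by exact_mod_cast h1
        rw [Nat.cast_add, Nat.cast_one] at h2
        exact WithBot.coe_le_coe.2 ((ENat.lt_add_one_iff (ENat.natCast_ne_top m)).1 h2)

/-- Projective dimension is the supremum over the fibres. -/
theorem projectiveDimension_eq_iSup (A B M : Type u) [CommRing A] [CommRing B] [Algebra A B]
    [Algebra.FinitePresentation A B] [Module.Flat A B] [AddCommGroup M] [Module B M] [Module A M]
    [IsScalarTower A B M] [Module.FinitePresentation B M] [Module.Flat A M] :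
    projectiveDimension (ModuleCat.of B M) =
      ⨆ p : PrimeSpectrum A, projectiveDimension
        (ModuleCat.of (B ⊗[A] p.asIdeal.ResidueField) ((B ⊗[A] p.asIdeal.ResidueField) ⊗[B] M)) := by
  refine le_antisymm (le_of_forall_lt_nat fun n hn => ?_) (iSup_le fun p => le_of_forall_lt_nat fun n hn => ?_)
  · rw [projectiveDimension_lt_iff]
    exact (pdLT_iff_fibres n M).2 fun p => projectiveDimension_lt_iff.1
      (lt_of_le_of_lt (le_iSup (fun p : PrimeSpectrum A => projectiveDimension
        (ModuleCat.of (B ⊗[A] p.asIdeal.ResidueField) ((B ⊗[A] p.asIdeal.ResidueField) ⊗[B] M))) p) hn)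
  · rw [projectiveDimension_lt_iff] at hn ⊢
    exact (pdLT_iff_fibres n M).1 hn p

end Groth.Agent.H4FlatDescent
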