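import Mathlib
import Groth.Agent.Lib.H2TorOne
import Groth.Agent.Lib.H4FlatPd

/-! Tor characterisation of projective dimension for relatively flat modules. -/

universe u

open CategoryTheory Limits TensorProduct LinearMap MonoidalCategory Groth.Agent.RegLocal

namespace Groth.Agent.H4FlatDescent

set_option linter.style.haveILetI false

noncomputable section

variable {B : Type u} [CommRing B]

/-- The complex `M ⊗ P`. -/
abbrev tcx (M : Type u) [AddCommGroup M] [Module B M] {N : ModuleCat.{u} B} (P : ProjectiveResolution N) :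
    ChainComplex (ModuleCat.{u} B) ℕ :=
  ((tensorLeft (ModuleCat.of B M)).mapHomologicalComplex (ComplexShape.down ℕ)).obj P.complex

/-- `M ⊗ P → M' ⊗ P`. -/
abbrev tmap {M M' : Type u} [AddCommGroup M] [Module B M] [AddCommGroup M'] [Module B M'] (f : M →ₗ[B] M')
    {N : ModuleCat.{u} B} (P : ProjectiveResolution N) : tcx M P ⟶ tcx M' P :=
  (NatTrans.mapHomologicalComplex ((tensoringLeft (ModuleCat.{u} B)).map (ModuleCat.ofHom f)) (ComplexShape.down ℕ)).app P.complex

variable (B) in
/-- `Tor_i(M, N) = 0` for all `N`. -/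
def TorZero (M : Type u) [AddCommGroup M] [Module B M] (i : ℕ) : Prop :=
  ∀ N : ModuleCat.{u} B, IsZero (((Tor (ModuleCat.{u} B) i).obj (ModuleCat.of B M)).obj N)

theorem torZero_iff (M : Type u) [AddCommGroup M] [Module B M] (i : ℕ) :
    TorZero B M i ↔ ∀ (N : ModuleCat.{u} B) (P : ProjectiveResolution N), IsZero ((tcx M P).homology i) :=
  ⟨fun h N P => (h N).of_iso (P.isoLeftDerivedObj (tensorLeft (ModuleCat.of B M)) i).symm,
    fun h N => (h N (Classical.choice HasProjectiveResolution.out)).of_iso
      ((Classical.choice (HasProjectiveResolution.out (Z := N))).isoLeftDerivedObj (tensorLeft (ModuleCat.of B M)) i)⟩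

theorem torZero_succ_of_flat (M : Type u) [AddCommGroup M] [Module B M] [Module.Flat B M] (i : ℕ) : TorZero B M (i + 1) := by
  rw [torZero_iff]
  intro N P
  refine HomologicalComplex.ExactAt.isZero_homology ?_
  rw [HomologicalComplex.exactAt_iff' _ (i + 2) (i + 1) i (by simp) (by simp),
    ShortComplex.ShortExact.moduleCat_exact_iff_function_exact]
  exact Module.Flat.lTensor_exact M ((ShortComplex.ShortExact.moduleCat_exact_iff_function_exact _).1 (P.exact_succ i))

theorem torZero_of_subsingleton (M : Type u) [AddCommGroup M] [Module B M] [Subsingleton M] (i : ℕ) : TorZero B M i := by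
  rw [torZero_iff]
  intro N P
  refine HomologicalComplex.ExactAt.isZero_homology (HomologicalComplex.ExactAt.of_isZero ?_)
  rw [ModuleCat.isZero_iff_subsingleton]
  exact inferInstanceAs (Subsingleton (M ⊗[B] P.complex.X i))

/-- `Tor₁ = 0` gives flatness. -/
theorem flat_of_torZero_one (M : Type u) [AddCommGroup M] [Module B M] (h : TorZero B M 1) : Module.Flat B M := by
  rw [Module.Flat.iff_rTensor_injective']
  intro J
  let P : ProjectiveResolution (ModuleCat.of B (B ⧸ J)) := Classical.choice HasProjectiveResolution.out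
  let g := (P.π.f 0).hom
  have hg : Function.Surjective g := (ModuleCat.epi_iff_surjective (P.π.f 0)).1 inferInstance
  haveI : Module.Projective B (P.complex.X 0) := (IsProjective.iff_projective _).2 (P.projective 0)
  have h0 : Function.Injective ((LinearMap.ker g).subtype.lTensor M) := by
    rw [injective_iff_map_eq_zero]
    intro y hy
    have := H2TorOne.rTensor_eq_zero_of_map_eq_zero (LinearMap.id : M →ₗ[B] M) P ((h _).eq_of_src _ _) y hy
    rwa [rTensor_id, LinearMap.id_apply] at this
  rw [LinearMap.lTensor_inj_iff_rTensor_inj] at h0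
  exact (H2LocalCrit.Inj.of_proj g hg h0).of_exact J.injective_subtype (LinearMap.exact_subtype_mkQ J) J.mkQ_surjective

/-- Dimension shifting in the first variable. -/
theorem torZero_shift {K F M : Type u} [AddCommGroup K] [Module B K] [AddCommGroup F] [Module B F] [Module.Flat B F]
    [AddCommGroup M] [Module B M] (f : K →ₗ[B] F) (g : F →ₗ[B] M) (hf : Function.Injective f) (he : Function.Exact f g)
    (hg : Function.Surjective g) (i : ℕ) : TorZero B M (i + 2) ↔ TorZero B K (i + 1) := by
  rw [torZero_iff, torZero_iff]
  refine forall₂_congr fun N P => ?_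
  have w : tmap f P ≫ tmap g P = 0 := by
    ext j : 2
    show (g.rTensor (P.complex.X j)) ∘ₗ (f.rTensor (P.complex.X j)) = 0
    rw [← rTensor_comp, he.linearMap_comp_eq_zero, rTensor_zero]
  let S : ShortComplex (ChainComplex (ModuleCat.{u} B) ℕ) := ShortComplex.mk (tmap f P) (tmap g P) w
  have hS : S.ShortExact := HomologicalComplex.shortExact_of_degreewise_shortExact S fun j => by
    haveI : Module.Projective B (P.complex.X j) := (IsProjective.iff_projective _).2 (P.projective j)
    refine { exact := ?_, mono_f := ?_, epi_g := ?_ }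
    · rw [ShortComplex.ShortExact.moduleCat_exact_iff_function_exact]
      exact rTensor_exact (P.complex.X j) he hg
    · exact (ModuleCat.mono_iff_injective _).2 (Module.Flat.rTensor_preserves_injective_linearMap f hf)
    · exact (ModuleCat.epi_iff_surjective _).2 (LinearMap.rTensor_surjective _ hg)
  have h1 : IsZero ((tcx F P).homology (i + 2)) := (torZero_iff F _).1 (torZero_succ_of_flat F (i + 1)) N P
  have h2 : IsZero ((tcx F P).homology (i + 1)) := (torZero_iff F _).1 (torZero_succ_of_flat F i) N P
  let e := hS.δIso (i + 2) (i + 1) rfl h1 h2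
  exact ⟨fun h => h.of_iso e.symm, fun h => h.of_iso e⟩

/-- `Tor₀ = 0` gives the zero module. -/
theorem subsingleton_of_torZero_zero (M : Type u) [AddCommGroup M] [Module B M] (h : TorZero B M 0) : Subsingleton M := by
  let P : ProjectiveResolution (ModuleCat.of B B) := Classical.choice HasProjectiveResolution.out
  have h0 := (torZero_iff M 0).1 h _ P
  rw [← HomologicalComplex.exactAt_iff_isZero_homology, HomologicalComplex.exactAt_iff' _ 1 0 0 (by simp) (by simp),
    ShortComplex.ShortExact.moduleCat_exact_iff_function_exact] at h0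
  let g := (P.π.f 0).hom
  have hg : Function.Surjective g := (ModuleCat.epi_iff_surjective (P.π.f 0)).1 inferInstance
  refine ⟨fun a b => ?_⟩
  have hz : ∀ z : M ⊗[B] P.complex.X 0, g.lTensor M z = 0 := fun z => by
    obtain ⟨w, rfl⟩ : ∃ w, (P.complex.d 1 0).hom.lTensor M w = z := (h0 z).1 (by
      show (P.complex.d 0 0).hom.lTensor M z = 0
      rw [P.complex.shape 0 0 (by simp), ModuleCat.hom_zero, lTensor_zero, LinearMap.zero_apply])
    rw [← lTensor_comp_apply, ((ShortComplex.ShortExact.moduleCat_exact_iff_function_exact _).1 P.exact₀).linearMap_comp_eq_zero,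
      lTensor_zero, LinearMap.zero_apply]
  have hall : ∀ x : M ⊗[B] B, x = 0 := fun x => by
    obtain ⟨z, rfl⟩ := LinearMap.lTensor_surjective M hg x
    exact hz z
  rw [← (TensorProduct.rid B M).apply_symm_apply a, ← (TensorProduct.rid B M).apply_symm_apply b, hall ((TensorProduct.rid B M).symm a), hall ((TensorProduct.rid B M).symm b)]

variable {A : Type u} [CommRing A] [Algebra A B]

/-- Vanishing of Tor above `n` detects projective dimension. -/
theorem pdLT_iff_torZero [Algebra.FinitePresentation A B] [Module.Flat A B] :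
    ∀ (n : ℕ) (M : Type u) [AddCommGroup M] [Module B M] [Module A M] [IsScalarTower A B M]
      [Module.FinitePresentation B M] [Module.Flat A M], PdLT B M n ↔ ∀ i, n ≤ i → TorZero B M i
  | 0, M, _, _, _, _, _, _ => by
    rw [pdLT_zero_iff']
    exact ⟨fun _ i _ => torZero_of_subsingleton M i, fun h => subsingleton_of_torZero_zero M (h 0 le_rfl)⟩
  | 1, M, _, _, _, _, _, _ => by
    rw [pdLT_one_iff]
    refine ⟨fun _ i hi => ?_, fun h => ?_⟩
    · obtain ⟨j, rfl⟩ := Nat.exists_eq_add_of_le' hi
      exact torZero_succ_of_flat M j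
    · haveI := flat_of_torZero_one M (h 1 le_rfl)
      exact Module.Flat.projective_of_finitePresentation
  | n + 2, M, _, _, _, _, _, _ => by
    obtain ⟨k, π, hπ, hK, hKA⟩ := exists_syzygy A B M
    haveI := hK; haveI := hKA
    rw [pdLT_ker_iff π hπ n, pdLT_iff_torZero (n + 1) (LinearMap.ker π)]
    constructor
    · intro h i hi
      obtain ⟨j, rfl⟩ := Nat.exists_eq_add_of_le' (Nat.le_trans (Nat.le_add_left 2 n) hi)
      exact (torZero_shift _ π Subtype.val_injective (LinearMap.exact_subtype_ker_map π) hπ j).2 (h (j + 1) (by omega))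
    · intro h i hi
      obtain ⟨j, rfl⟩ := Nat.exists_eq_add_of_le' (Nat.le_trans (Nat.le_add_left 1 n) hi)
      exact (torZero_shift _ π Subtype.val_injective (LinearMap.exact_subtype_ker_map π) hπ j).1 (h (j + 2) (by omega))

/-- Projective dimension as a bound on nonvanishing Tor. -/
theorem projectiveDimension_eq_sInf (A B M : Type u) [CommRing A] [CommRing B] [Algebra A B]
    [Algebra.FinitePresentation A B] [Module.Flat A B] [AddCommGroup M] [Module B M] [Module A M]
    [IsScalarTower A B M] [Module.FinitePresentation B M] [Module.Flat A M] :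
    projectiveDimension (ModuleCat.of B M) =
      sInf {n : WithBot ℕ∞ | ∀ i : ℕ, n < i → ∀ N : ModuleCat.{u} B,
        Limits.IsZero (((Tor (ModuleCat.{u} B) i).obj (ModuleCat.of B M)).obj N)} := by
  refine le_antisymm (le_sInf fun n hn => le_of_forall_lt_nat fun m hm => ?_) (sInf_le fun i hi => ?_)
  · rw [projectiveDimension_lt_iff]
    exact (pdLT_iff_torZero (A := A) m M).2 fun i hi => hn i (lt_of_lt_of_le hm (by exact_mod_cast hi))
  · exact (pdLT_iff_torZero (A := A) i M).1 (projectiveDimension_lt_iff.1 hi) i le_rfl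

end

end Groth.Agent.H4FlatDescent
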