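import Mathlib
import Groth.Prelude.Def_MoreMor
import Groth.Agent.Lib.H4FlatTor
import Groth.Agent.S6935

/-! Flat finitely presented ring maps are perfect. -/

universe u

open CategoryTheory Limits Pretriangulated Groth.Agent.PseudoCoherentRing Groth.Agent.PseudoCoherentRingMore

attribute [local instance] HasDerivedCategory.standard

namespace Groth.Agent.H4FlatDescent

variable {A R : Type u} [CommRing A] [CommRing R] [Algebra A R] [Algebra.FinitePresentation A R] [Module.Flat A R]

theorem isPseudo_FM : ∀ (n : ℕ) (Z : FM A R), DRing.IsPseudoCoherent R (-(n : ℤ)) (Dual.inD R Z.N)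
  | 0, Z => by
    haveI := Z.fp
    exact (Groth.Agent.S6935.result R Z.N).1.2 inferInstance
  | n + 1, Z => by
    have hS : (LinearMap.shortComplexKer Z.pi).ShortExact := LinearMap.shortExact_shortComplexKer Z.pi_surj
    have h1 : DRing.IsPseudoCoherent R (-((n + 1 : ℕ) : ℤ) + 1) (Dual.inD R Z.next.N) := by
      rw [show -((n + 1 : ℕ) : ℤ) + 1 = -(n : ℤ) by omega]
      exact isPseudo_FM n Z.next
    exact isPseudo₃ hS.singleTriangle hS.singleTriangle_distinguished h1
      (isPseudo_inD (ModuleCat.of R (Fin Z.k → R)) _)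

theorem isPseudo'_module (Z : FM A R) : DRing.IsPseudoCoherentModule' R Z.N :=
  isPseudo'_iff.2 fun m => isPseudo_mono (isPseudo_FM (-m).toNat Z) (by omega)

/-- A flat finitely presented ring map is perfect. -/
theorem isPerfectHom (A B : Type u) [CommRing A] [CommRing B] [Algebra A B]
    [Module.Flat A B] [Algebra.FinitePresentation A B] : MoreMor.IsPerfectHom A B := by
  obtain ⟨n, φ, hφ, hker⟩ := Algebra.FinitePresentation.out (R := A) (A := B)
  refine ⟨⟨n, φ, hφ, ?_⟩, 0, fun N _ _ p hp => ?_⟩
  · letI := φ.toRingHom.toAlgebra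
    haveI : IsScalarTower A (MvPolynomial (Fin n) A) B := IsScalarTower.of_algebraMap_eq fun r => (φ.commutes r).symm
    haveI : Module.FinitePresentation (MvPolynomial (Fin n) A) B :=
      Module.finitePresentation_of_surjective (Algebra.linearMap (MvPolynomial (Fin n) A) B) hφ hker
    exact isPseudo'_module (A := A) (R := MvPolynomial (Fin n) A) ⟨ModuleCat.of _ B,
      inferInstanceAs (Module.FinitePresentation (MvPolynomial (Fin n) A) B), inferInstanceAs (Module.Flat A B)⟩
  · obtain ⟨p, rfl⟩ := Nat.exists_eq_add_of_le' hp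
    exact ModuleCat.subsingleton_of_isZero (torZero_succ_of_flat (B := A) B p _)

end Groth.Agent.H4FlatDescent
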