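import Mathlib
import Groth.Agent.Lib.H4FlatAss

/-! Flatness over a fibre product of rings (Milnor square). -/

universe u

open TensorProduct LinearMap

set_option linter.style.haveILetI false

namespace Groth.Agent.H4FlatSquare

variable {A : Type u} [CommRing A] (M : Type u) [AddCommGroup M] [Module A M]

/-- `C`-linear injections stay injective after tensoring with `M` when `C ⊗ M` is flat. -/
theorem lTensor_injective_of_linear {C N G : Type u} [CommRing C] [Algebra A C] [Module.Flat C (C ⊗[A] M)]
    [AddCommGroup N] [Module A N] [Module C N] [IsScalarTower A C N]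
    [AddCommGroup G] [Module A G] [Module C G] [IsScalarTower A C G]
    (g : N →ₗ[C] G) (hg : Function.Injective g) : Function.Injective ((g.restrictScalars A).lTensor M) := by
  let e₁ := AlgebraTensorModule.cancelBaseChange A C C N M
  let e₂ := AlgebraTensorModule.cancelBaseChange A C C G M
  have key : ∀ z, e₂ (g.rTensor _ z) = ((g.restrictScalars A).rTensor M) (e₁ z) := by
    intro z
    induction z with
    | zero => simp
    | add a b ha hb => simp only [map_add, ha, hb]
    | tmul n w =>
      induction w with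
      | zero => simp
      | add a b ha hb => simp only [tmul_add, map_add, ha, hb]
      | tmul c m =>
        simp only [rTensor_tmul, e₁, e₂, AlgebraTensorModule.cancelBaseChange_tmul]
        exact congrArg (· ⊗ₜ[A] m) (g.map_smul c n).symm
  have hinj : Function.Injective ((g.restrictScalars A).rTensor M) := by
    intro a b hab
    obtain ⟨a', rfl⟩ := e₁.surjective a
    obtain ⟨b', rfl⟩ := e₁.surjective b
    rw [← key, ← key, e₂.injective.eq_iff] at hab
    rw [Module.Flat.rTensor_preserves_injective_linearMap (M := C ⊗[A] M) g hg hab]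
  intro a b hab
  apply (TensorProduct.comm A M N).injective
  apply hinj
  have : ∀ x, (g.restrictScalars A).rTensor M (TensorProduct.comm A M N x) =
      TensorProduct.comm A M G ((g.restrictScalars A).lTensor M x) := fun x => by
    induction x with
    | zero => simp
    | add a b ha hb => simp [ha, hb]
    | tmul m n => simp
  rw [this, this, hab]

variable (J : Ideal A)

/-- An element vanishing in a module killed by `J` comes from the kernel. -/
theorem mem_range_ker [Module.Flat (A ⧸ J) ((A ⧸ J) ⊗[A] M)] {N G : Type u} [AddCommGroup N] [Module A N]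
    [AddCommGroup G] [Module A G] (f : N →ₗ[A] G) (hG : ∀ a ∈ J, ∀ x : G, a • x = 0) (y : M ⊗[A] N)
    (hy : f.lTensor M y = 0) : ∃ z, (LinearMap.ker f).subtype.lTensor M z = y := by
  let q := f.rangeRestrict
  have h1 : q.lTensor M y = 0 := by
    apply H4FlatAss.lTensor_injective_of_killed J M (N := LinearMap.range f) (G := G)
      (fun a ha x => Subtype.ext (hG a ha x)) hG (LinearMap.range f).subtype Subtype.val_injective
    rw [map_zero, ← LinearMap.comp_apply, ← lTensor_comp, show (LinearMap.range f).subtype ∘ₗ q = f from rfl, hy]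
  have hq : Function.Exact (LinearMap.ker f).subtype q := fun x =>
    ⟨fun hx => ⟨⟨x, congrArg Subtype.val hx⟩, rfl⟩, fun ⟨z, hz⟩ => hz ▸ Subtype.ext z.2⟩
  exact (lTensor_exact (M := ↥(LinearMap.ker f)) (N := N) (P := ↥(LinearMap.range f))
    (f := (LinearMap.ker f).subtype) (g := q) M hq f.surjective_rangeRestrict y).1 h1

variable {C : Type u} [CommRing C] [Algebra A C]

/-- The key step: ideals below `J`. -/
theorem eq_zero_below [Module.Flat (A ⧸ J) ((A ⧸ J) ⊗[A] M)] [Module.Flat C (C ⊗[A] M)]
    (hinj : ∀ j ∈ J, algebraMap A C j = 0 → j = 0)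
    (hst : ∀ j ∈ J, ∀ c : C, ∃ j' ∈ J, algebraMap A C j' = c * algebraMap A C j)
    (K : Ideal A) (hK : K ≤ J) (y : M ⊗[A] K) (hy : (Algebra.linearMap A C ∘ₗ K.subtype).lTensor M y = 0) : y = 0 := by
  let ι := algebraMap A C
  let W : Ideal C := K.map ι
  let JK : Ideal A := J * K
  have hW₀ : ∀ (c : C), ∀ x ∈ JK, ∃ x' ∈ JK, ι x' = c * ι x := by
    intro c x hx
    induction hx using Submodule.mul_induction_on' with
    | mem_mul_mem j hj k hk =>
      obtain ⟨j', hj', e⟩ := hst j hj c
      exact ⟨j' * k, Ideal.mul_mem_mul hj' hk, by rw [map_mul, e, map_mul]; ring⟩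
    | add a _ b _ ha hb =>
      obtain ⟨a', ha', ea⟩ := ha
      obtain ⟨b', hb', eb⟩ := hb
      exact ⟨a' + b', add_mem ha' hb', by rw [map_add, ea, eb, map_add, mul_add]⟩
  let W₀ : Ideal C :=
    { carrier := ι '' JK
      zero_mem' := ⟨0, zero_mem _, map_zero _⟩
      add_mem' := by
        rintro _ _ ⟨a, ha, rfl⟩ ⟨b, hb, rfl⟩
        exact ⟨a + b, add_mem ha hb, map_add _ _ _⟩
      smul_mem' := by
        rintro c _ ⟨x, hx, rfl⟩
        obtain ⟨x', hx', e⟩ := hW₀ c x hx
        exact ⟨x', hx', e⟩ }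
  have hkill : ∀ j ∈ J, ∀ w ∈ W, ι j * w ∈ W₀ := by
    intro j hj w hw
    induction hw using Submodule.span_induction generalizing j with
    | zero => simp
    | add a b _ _ ha hb => rw [mul_add]; exact add_mem (ha j hj) (hb j hj)
    | smul c a _ ha =>
      obtain ⟨j', hj', e⟩ := hst j hj c
      have := ha j' hj'
      rw [e] at this
      rw [smul_eq_mul, show ι j * (c * a) = c * algebraMap A C j * a by ring]
      exact this
    | mem a ha =>
      obtain ⟨k, hk, rfl⟩ := ha
      exact ⟨j * k, Ideal.mul_mem_mul hj hk, map_mul _ _ _⟩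
  let G := W ⧸ (Submodule.comap W.subtype W₀)
  let toW : K →ₗ[A] W :=
    { toFun := fun k => ⟨ι k, Ideal.mem_map_of_mem _ k.2⟩
      map_add' := fun a b => Subtype.ext (map_add _ _ _)
      map_smul' := fun a b => Subtype.ext (by simp [ι, Algebra.smul_def, map_mul]) }
  let incl : W →ₗ[C] C := W.subtype
  have h1 : toW.lTensor M y = 0 := by
    apply lTensor_injective_of_linear M (C := C) incl Subtype.val_injective
    rw [map_zero, ← LinearMap.comp_apply, ← lTensor_comp]
    exact hy
  let f : K →ₗ[A] G := ((Submodule.comap W.subtype W₀).mkQ.restrictScalars A) ∘ₗ toW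
  have hG : ∀ a ∈ J, ∀ x : G, a • x = 0 := by
    intro a ha x
    obtain ⟨w, rfl⟩ := Submodule.mkQ_surjective _ x
    rw [Submodule.mkQ_apply, ← Submodule.Quotient.mk_smul, Submodule.Quotient.mk_eq_zero]
    show ((a • w : W) : C) ∈ W₀
    rw [Submodule.coe_smul_of_tower, Algebra.smul_def]
    exact hkill a ha w w.2
  obtain ⟨z, rfl⟩ := mem_range_ker M J f hG y (by rw [lTensor_comp, LinearMap.comp_apply, h1, map_zero])
  have hJKK : JK ≤ K := Ideal.mul_le_right
  let toW₀ : LinearMap.ker f →ₗ[A] W₀ :=
    { toFun := fun k => ⟨ι (k.1 : A), (Submodule.Quotient.mk_eq_zero (Submodule.comap W.subtype W₀) (x := toW k.1)).1 k.2⟩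
      map_add' := fun a b => Subtype.ext (map_add _ _ _)
      map_smul' := fun a b => Subtype.ext (by simp [ι, Algebra.smul_def, map_mul]) }
  let ψ : JK →ₗ[A] W₀ :=
    { toFun := fun k => ⟨ι k, ⟨k, k.2, rfl⟩⟩
      map_add' := fun a b => Subtype.ext (map_add _ _ _)
      map_smul' := fun a b => Subtype.ext (by simp [ι, Algebra.smul_def, map_mul]) }
  have hJKJ : JK ≤ J := Ideal.mul_le_left
  have hψ : Function.Bijective ψ := by
    refine ⟨fun a b h => Subtype.ext (sub_eq_zero.1 (hinj _ (sub_mem (hJKJ a.2) (hJKJ b.2)) ?_)), ?_⟩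
    · rw [map_sub, show ι a = ι b from congrArg Subtype.val h, sub_self]
    · rintro ⟨_, x, hx, rfl⟩
      exact ⟨⟨x, hx⟩, rfl⟩
  let e := LinearEquiv.ofBijective ψ hψ
  have hfac : (LinearMap.ker f).subtype = Submodule.inclusion hJKK ∘ₗ e.symm.toLinearMap ∘ₗ toW₀ := by
    refine LinearMap.ext fun k => Subtype.ext ?_
    have h := congrArg Subtype.val (e.apply_symm_apply (toW₀ k))
    show ((k.1 : K) : A) = ((e.symm (toW₀ k) : JK) : A)
    refine (sub_eq_zero.1 (hinj _ (sub_mem (hK k.1.2) (hJKJ (e.symm (toW₀ k)).2)) ?_))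
    rw [map_sub]
    exact sub_eq_zero.2 h.symm
  have h2 : toW₀.lTensor M z = 0 := by
    apply lTensor_injective_of_linear M (C := C) W₀.subtype Subtype.val_injective
    rw [map_zero, ← LinearMap.comp_apply, ← lTensor_comp]
    rw [← LinearMap.comp_apply, ← lTensor_comp] at hy
    exact hy
  rw [hfac, lTensor_comp, lTensor_comp, LinearMap.comp_apply, LinearMap.comp_apply, h2, map_zero, map_zero]

/-- Flatness over the pullback ring. -/
theorem flat [Module.Flat (A ⧸ J) ((A ⧸ J) ⊗[A] M)] [Module.Flat C (C ⊗[A] M)]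
    (hinj : ∀ j ∈ J, algebraMap A C j = 0 → j = 0)
    (hst : ∀ j ∈ J, ∀ c : C, ∃ j' ∈ J, algebraMap A C j' = c * algebraMap A C j) : Module.Flat A M := by
  refine (Module.Flat.iff_lTensor_injective' (R := A) (M := M)).2 fun I => ?_
  rw [injective_iff_map_eq_zero]
  intro x hx
  let f : I →ₗ[A] A ⧸ J := J.mkQ ∘ₗ I.subtype
  obtain ⟨y, rfl⟩ := mem_range_ker M J f (fun a ha z => by
    obtain ⟨b, rfl⟩ := Ideal.Quotient.mk_surjective z
    exact Ideal.Quotient.eq_zero_iff_mem.2 (J.mul_mem_right b ha)) x
    (by rw [lTensor_comp, LinearMap.comp_apply, hx, map_zero])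
  let e : LinearMap.ker f ≃ₗ[A] Submodule.map I.subtype (LinearMap.ker f) :=
    Submodule.equivMapOfInjective _ I.injective_subtype _
  have hy : e.toLinearMap.lTensor M y = 0 := by
    refine eq_zero_below M J (C := C) hinj hst _ ?_ _ ?_
    · rintro _ ⟨k, hk, rfl⟩
      exact (Submodule.Quotient.mk_eq_zero _).1 hk
    · rw [← LinearMap.comp_apply, ← lTensor_comp]
      have : (Algebra.linearMap A C ∘ₗ (Submodule.map I.subtype (LinearMap.ker f)).subtype) ∘ₗ e.toLinearMap =
          Algebra.linearMap A C ∘ₗ I.subtype ∘ₗ (LinearMap.ker f).subtype := rfl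
      rw [this, lTensor_comp, lTensor_comp, LinearMap.comp_apply, LinearMap.comp_apply, hx, map_zero]
  rw [(e.lTensor M).injective (hy.trans (map_zero (e.lTensor M)).symm), map_zero]

end Groth.Agent.H4FlatSquare
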