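import Mathlib
import Groth.Agent.Lib.H4HenselEtale

/-! Multivariate Hensel lemma and lifting of points of smooth algebras along Henselian pairs. -/

set_option autoImplicit false

universe u v

namespace Groth.Agent.H4HenselPair

open MvPolynomial

theorem taylor_mem_sq {R : Type u} [CommRing R] {B : Type v} [CommRing B] [Algebra R B] {σ : Type*}
    [Fintype σ] [DecidableEq σ] (T : Ideal B) (y t : σ → B) (ht : ∀ i, t i ∈ T)
    (f : MvPolynomial σ R) :
    aeval (fun i => y i + t i) f - aeval y f - ∑ i, aeval y (pderiv i f) * t i ∈ T ^ 2 := by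
  induction f using MvPolynomial.induction_on with
  | C a => simp
  | add p q hp hq =>
    convert add_mem hp hq using 1
    simp only [map_add, add_mul, Finset.sum_add_distrib]
    ring
  | mul_X p j hp =>
    have hlin : aeval (fun i => y i + t i) p - aeval y p ∈ T := by
      have h1 : ∑ i, aeval y (pderiv i p) * t i ∈ T :=
        sum_mem fun i _ => T.mul_mem_left _ (ht i)
      have := add_mem (Ideal.pow_le_self two_ne_zero hp) h1
      simpa using this
    have hs : ∑ i, aeval y (pderiv i (p * X j)) * t i =
        (∑ i, aeval y (pderiv i p) * t i) * y j + aeval y p * t j := by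
      simp only [pderiv_mul, map_add, map_mul, aeval_X, add_mul, Finset.sum_add_distrib,
        pderiv_X, Pi.single_apply, Finset.sum_mul]
      congr 1
      · exact Finset.sum_congr rfl fun i _ => by ring
      · rw [Finset.sum_eq_single j]
        · simp
        · intro i _ hij; simp [Ne.symm hij]
        · simp
    rw [hs, map_mul, map_mul, aeval_X, aeval_X]
    have h2 : (aeval (fun i => y i + t i) p - aeval y p) * t j ∈ T ^ 2 := by
      rw [pow_two]; exact Ideal.mul_mem_mul hlin (ht j)
    have := add_mem ((T ^ 2).mul_mem_right (y j) hp) h2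
    convert this using 1
    ring

/-- The multivariate Hensel lemma for Henselian pairs. -/
theorem exists_root_mv {A : Type u} [CommRing A] (I : Ideal A) [HenselianRing A I] {n : ℕ}
    (P : Fin n → MvPolynomial (Fin n) A) (a₀ : Fin n → A) (h₀ : ∀ i, eval a₀ (P i) ∈ I)
    (hJ : IsUnit (Ideal.Quotient.mk I
      (Matrix.of fun i j => eval a₀ (pderiv j (P i))).det)) :
    ∃ a : Fin n → A, (∀ i, eval a (P i) = 0) ∧ ∀ j, a j - a₀ j ∈ I := by
  classical
  let C := MvPolynomial (Fin n) A ⧸ Ideal.span (Set.range P)
  let pres : Algebra.PreSubmersivePresentation A C (Fin n) (Fin n) :=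
    .naive id Function.injective_id
  let Δ : C := pres.jacobian
  have hΔ : IsUnit (algebraMap C (Localization.Away Δ) Δ) :=
    IsLocalization.Away.algebraMap_isUnit _
  have : Algebra.Etale A (Localization.Away Δ) := by
    let S : Algebra.SubmersivePresentation A (Localization.Away Δ) _ _ :=
      { toPreSubmersivePresentation :=
          .comp (.localizationAway (Localization.Away Δ) Δ) pres,
        jacobian_isUnit := by simpa [Algebra.smul_def, -isUnit_map_iff, Δ] using hΔ }
    have : Algebra.IsStandardSmoothOfRelativeDimension 0 A (Localization.Away Δ) :=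
      ⟨_, _, _, inferInstance, S, by
        simp only [Algebra.PreSubmersivePresentation.dimension_comp_eq_dimension_add_dimension, S]
        simp [Algebra.Presentation.dimension]⟩
    infer_instance
  let σ₀ : C →ₐ[A] A ⧸ I := Ideal.Quotient.liftₐ _ ((Ideal.Quotient.mkₐ A I).comp (aeval a₀))
    (by
      intro p hp
      have hle : Ideal.span (Set.range P) ≤
          RingHom.ker ((Ideal.Quotient.mkₐ A I).comp (aeval a₀)).toRingHom := by
        rw [Ideal.span_le]
        rintro _ ⟨i, rfl⟩
        exact Ideal.Quotient.eq_zero_iff_mem.mpr (h₀ i)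
      exact hle hp)
  have hσΔ : IsUnit (σ₀ Δ) := by
    let M : Matrix (Fin n) (Fin n) (MvPolynomial (Fin n) A) := Matrix.of fun i j => pderiv j (P i)
    have h1 : Δ = Ideal.Quotient.mk _ pres.jacobiMatrix.det := by
      show pres.jacobian = _
      rw [Algebra.PreSubmersivePresentation.jacobian_eq_jacobiMatrix_det]
      rfl
    have h2 : pres.jacobiMatrix = M.transpose := by
      refine Matrix.ext fun i j => ?_
      exact Algebra.PreSubmersivePresentation.jacobiMatrix_apply _ i j
    have h3 : σ₀ Δ = Ideal.Quotient.mk I (eval a₀ M.det) := by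
      rw [h1, h2, Matrix.det_transpose]
      rfl
    rw [h3]
    convert hJ using 2
    rw [RingHom.map_det]
    rfl
  obtain ⟨τ, hτ⟩ := exists_lift_of_etale I (Localization.Away Δ)
    (IsLocalization.Away.liftAlgHom (f := σ₀) Δ hσΔ)
  let τ' : MvPolynomial (Fin n) A →ₐ[A] A :=
    (τ.comp (IsScalarTower.toAlgHom A C (Localization.Away Δ))).comp (Ideal.Quotient.mkₐ A _)
  refine ⟨fun j => τ' (X j), fun i => ?_, fun j => ?_⟩
  · have h : aeval (fun j => τ' (X j)) = τ' := (aeval_unique τ').symm
    rw [← aeval_eq_eval, h]
    show τ (algebraMap C _ (Ideal.Quotient.mk _ (P i))) = 0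
    rw [Ideal.Quotient.eq_zero_iff_mem.mpr (Ideal.subset_span (Set.mem_range_self i)), map_zero, map_zero]
  · have := AlgHom.congr_fun hτ (algebraMap C _ (Ideal.Quotient.mk _ (X j)))
    simp only [IsLocalization.Away.liftAlgHom, AlgHom.coe_mk, IsLocalization.Away.lift_eq] at this
    refine Ideal.Quotient.eq.mp (this.trans ?_)
    show Ideal.Quotient.mk I (aeval a₀ (X j)) = _
    rw [aeval_X]

set_option maxHeartbeats 800000 in
/-- Points modulo `I` of a finitely presented formally smooth algebra lift. -/
theorem exists_lift_of_smooth {R : Type u} [CommRing R] (S : Type u) [CommRing S] [Algebra R S]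
    [Algebra.FormallySmooth R S] [Algebra.FinitePresentation R S] {A : Type u} [CommRing A]
    [Algebra R A] (I : Ideal A) [HenselianRing A I] (σ : S →ₐ[R] A ⧸ I) :
    ∃ τ : S →ₐ[R] A, (Ideal.Quotient.mkₐ R I).comp τ = σ := by
  classical
  obtain ⟨n, π, hπ, hfg⟩ := Algebra.FinitePresentation.out (R := R) (A := S)
  set J := RingHom.ker π.toRingHom with hJdef
  let Q := MvPolynomial (Fin n) R ⧸ J ^ 2
  let p : Q →ₐ[R] S := Ideal.Quotient.liftₐ (J ^ 2) π fun z hz =>
    (Ideal.pow_le_self two_ne_zero hz : z ∈ J)
  have hp : Function.Surjective p := fun z => by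
    obtain ⟨f, rfl⟩ := hπ z
    exact ⟨Ideal.Quotient.mk _ f, rfl⟩
  have hnil : IsNilpotent (RingHom.ker p.toRingHom) := by
    refine ⟨2, ?_⟩
    rw [Ideal.zero_eq_bot, eq_bot_iff]
    have hle : RingHom.ker p.toRingHom ≤ J.map (Ideal.Quotient.mk (J ^ 2)) := by
      intro z hz
      obtain ⟨f, rfl⟩ := Ideal.Quotient.mk_surjective z
      exact Ideal.mem_map_of_mem _ (show π f = 0 from hz)
    refine (Ideal.pow_right_mono hle 2).trans ?_
    rw [← Ideal.map_pow, Ideal.map_quotient_self]
  let s : S →ₐ[R] Q := Algebra.FormallySmooth.liftOfSurjective (AlgHom.id R S) p hp hnil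
  have hs : ∀ z, p (s z) = z := fun z =>
    Algebra.FormallySmooth.liftOfSurjective_apply (AlgHom.id R S) p hp hnil z
  choose w hw using fun i => Ideal.Quotient.mk_surjective (s (π (X i)))
  let g : Fin n → MvPolynomial (Fin n) R := fun i => X i - w i
  have hg : ∀ i, g i ∈ J := fun i => by
    show π (X i - w i) = 0
    rw [map_sub, sub_eq_zero]
    have := hs (π (X i))
    rw [← hw] at this
    exact this.symm
  have hkey : ∀ f ∈ J, f - ∑ i, pderiv i f * g i ∈ J ^ 2 := by
    intro f hf
    have h1 := taylor_mem_sq J X (fun i => -g i) (fun i => J.neg_mem (hg i)) f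
    have h2 : aeval (fun i => X i + -g i) f ∈ J ^ 2 := by
      rw [← Ideal.Quotient.eq_zero_iff_mem]
      have : (Ideal.Quotient.mkₐ R (J ^ 2)).comp (aeval fun i => X i + -g i) = s.comp π := by
        ext i
        simp [g, ← hw]
      have h := AlgHom.congr_fun this f
      rw [AlgHom.comp_apply, AlgHom.comp_apply, show π f = 0 from hf, map_zero] at h
      exact h
    simp only [aeval_X_left_apply, mul_neg, Finset.sum_neg_distrib, sub_neg_eq_add] at h1
    have := sub_mem h2 h1
    convert this using 1
    abel
  choose a ha using fun i => Ideal.Quotient.mk_surjective (σ (π (X i)))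
  let φ : MvPolynomial (Fin n) R →ₐ[R] MvPolynomial (Fin n) A := aeval X
  have hφ : ∀ (x : Fin n → A) (f : MvPolynomial (Fin n) R), eval x (φ f) = aeval x f := by
    intro x f
    have : ((aeval x : MvPolynomial (Fin n) A →ₐ[A] A).restrictScalars R).comp φ = aeval x := by
      ext i; simp [φ]
    exact AlgHom.congr_fun this f
  have hφd : ∀ (j : Fin n) (f : MvPolynomial (Fin n) R), pderiv j (φ f) = φ (pderiv j f) := by
    intro j f
    induction f using MvPolynomial.induction_on with
    | C c => simp [φ, IsScalarTower.algebraMap_apply R A (MvPolynomial (Fin n) A)]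
    | add p q hp hq => simp [hp, hq]
    | mul_X p k hp =>
      simp only [map_mul, pderiv_mul, hp, map_add, φ, aeval_X, pderiv_X]
      congr 2
      by_cases h : k = j <;> simp [h]
  have hJI : ∀ f ∈ J, aeval a f ∈ I := by
    intro f hf
    rw [← Ideal.Quotient.eq_zero_iff_mem]
    have : (Ideal.Quotient.mkₐ R I).comp (aeval a) = σ.comp π := by
      ext i; simp [ha]
    have h := AlgHom.congr_fun this f
    rw [AlgHom.comp_apply, AlgHom.comp_apply, show π f = 0 from hf, map_zero] at h
    exact h
  let P : Fin n → MvPolynomial (Fin n) A := fun i =>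
    φ (g i) + ∑ k, ((if i = k then 1 else 0) - φ (pderiv k (g i))) * (X k - C (a k))
  obtain ⟨x, hx, hxa⟩ := exists_root_mv I P a (fun i => by simp [P, hφ, hJI _ (hg i)]) (by
    have : (Matrix.of fun i j => eval a (pderiv j (P i))) = 1 := by
      ext i j
      simp only [P, Matrix.of_apply, map_add, map_sum, pderiv_mul, hφd, map_mul, map_sub,
        pderiv_X, pderiv_C, sub_zero, eval_X, eval_C, sub_self, mul_zero, zero_add]
      rw [Finset.sum_eq_single j]
      · by_cases h : i = j <;> simp [h, hφ, Matrix.one_apply]
      · intro k _ hk; simp [Pi.single_eq_of_ne hk]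
      · simp
    rw [this, Matrix.det_one]
    exact (isUnit_one).map _)
  let ev := (aeval x : MvPolynomial (Fin n) R →ₐ[R] A)
  let K : Ideal A := J.map ev.toRingHom
  have hK : K = ⊥ := by
    refine eq_bot_iff.mpr (Submodule.le_of_le_smul_of_le_jacobson_bot ?_
      (HenselianRing.jac (R := A) (I := I)) ?_)
    · exact hfg.map ev.toRingHom
    refine le_trans ?_ le_sup_right
    rw [smul_eq_mul]
    have hxI : ∀ f, ev f - aeval a f ∈ I := by
      intro f
      rw [← Ideal.Quotient.eq]
      have : (Ideal.Quotient.mkₐ R I).comp ev = (Ideal.Quotient.mkₐ R I).comp (aeval a) := by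
        ext i
        simp [ev, Ideal.Quotient.eq.mpr (hxa i)]
      exact AlgHom.congr_fun this f
    have hKI : K ≤ I := by
      rw [Ideal.map_le_iff_le_comap]
      intro f hf
      have := add_mem (hxI f) (hJI f hf)
      simpa using this
    have hJK : ∀ f ∈ J, ev f ∈ K := fun f hf => Ideal.mem_map_of_mem _ hf
    have hJ2 : ∀ f ∈ J ^ 2, ev f ∈ I * K := fun f hf => by
      have := Ideal.mem_map_of_mem ev.toRingHom hf
      rw [Ideal.map_pow, pow_two] at this
      exact Ideal.mul_mono_left hKI this
    -- the values of `g` at the root lie in `I * K`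
    have hgi : ∀ i, ev (g i) ∈ I * K := by
      intro i
      have hval : ∀ k, ev (g k) = -∑ j, ((if k = j then 1 else 0) - ev (pderiv j (g k))) *
          (x j - a j) := by
        intro k
        have := hx k
        simp only [P, map_add, map_sum, map_mul, map_sub, hφ, eval_X, eval_C] at this
        rw [eq_neg_iff_add_eq_zero]
        refine Eq.trans ?_ this
        congr 1
        refine Finset.sum_congr rfl fun j _ => ?_
        by_cases h : k = j <;> simp [h, ev]
      have h1 := hJ2 _ (hkey _ (hg i))
      simp only [map_sub, map_sum, map_mul] at h1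
      have h2 : ∑ k, ev (pderiv k (g i)) * ev (g k) ∈ I * K := by
        simp only [hval, mul_neg, Finset.mul_sum, ← Finset.sum_neg_distrib]
        rw [Finset.sum_comm]
        refine Submodule.sum_mem _ fun j _ => ?_
        have hMM : ev (pderiv j (g i)) - ∑ k, ev (pderiv k (g i)) * ev (pderiv j (g k)) ∈ K := by
          have h := hkey _ (hg i)
          have hd : pderiv j (g i - ∑ k, pderiv k (g i) * g k) ∈ J := by
            rw [pow_two] at h
            refine Submodule.mul_induction_on h (fun u hu v hv => ?_) fun u v hu hv => ?_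
            · rw [pderiv_mul]; exact add_mem (J.mul_mem_left _ hv) (J.mul_mem_right _ hu)
            · rw [map_add]; exact add_mem hu hv
          have hd' : pderiv j (g i) - ∑ k, pderiv k (g i) * pderiv j (g k) ∈ J := by
            rw [map_sub, map_sum] at hd
            simp only [pderiv_mul, Finset.sum_add_distrib, ← sub_sub] at hd
            have hr : ∑ k, pderiv j (pderiv k (g i)) * g k ∈ J :=
              sum_mem fun k _ => J.mul_mem_left _ (hg k)
            have := add_mem hd hr
            convert this using 1
            abel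
          have := hJK _ hd'
          simpa using this
        have : ∑ k, -(ev (pderiv k (g i)) *
            (((if k = j then 1 else 0) - ev (pderiv j (g k))) * (x j - a j))) =
            -((x j - a j) * (ev (pderiv j (g i)) -
              ∑ k, ev (pderiv k (g i)) * ev (pderiv j (g k)))) := by
          rw [Finset.sum_neg_distrib, neg_inj, mul_sub, Finset.mul_sum]
          calc ∑ k, ev (pderiv k (g i)) *
                (((if k = j then 1 else 0) - ev (pderiv j (g k))) * (x j - a j))
              = ∑ k, ((if k = j then (x j - a j) * ev (pderiv k (g i)) else 0) -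
                  (x j - a j) * (ev (pderiv k (g i)) * ev (pderiv j (g k)))) :=
                Finset.sum_congr rfl fun k _ => by split_ifs <;> ring
            _ = _ := by rw [Finset.sum_sub_distrib, Finset.sum_ite_eq' Finset.univ j]; simp
        rw [this]
        exact neg_mem (Ideal.mul_mem_mul (hxa j) hMM)
      have := add_mem h1 h2
      simpa using this
    rw [Ideal.map_le_iff_le_comap]
    intro f hf
    have h1 := hJ2 _ (hkey _ hf)
    simp only [map_sub, map_sum, map_mul] at h1
    have h2 : ∑ i, ev (pderiv i f) * ev (g i) ∈ I * K :=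
      Submodule.sum_mem _ fun i _ => Ideal.mul_mem_left _ _ (hgi i)
    have := add_mem h1 h2
    simpa using this
  have hker : ∀ f ∈ J, ev f = 0 := fun f hf => by
    have h : ev f ∈ K := Ideal.mem_map_of_mem ev.toRingHom hf
    rwa [hK, Submodule.mem_bot] at h
  have hker' : RingHom.ker π.toRingHom ≤ RingHom.ker ev.toRingHom := fun f hf => hker f hf
  refine ⟨AlgHom.liftOfSurjective π hπ ev hker', AlgHom.ext fun z => ?_⟩
  obtain ⟨f, rfl⟩ := hπ z
  rw [AlgHom.comp_apply, AlgHom.liftOfSurjective_apply]
  have : (Ideal.Quotient.mkₐ R I).comp ev = σ.comp π := by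
    ext i
    simp [ev, ← ha, Ideal.Quotient.eq.mpr (hxa i)]
  exact AlgHom.congr_fun this f

end Groth.Agent.H4HenselPair
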