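import Mathlib
import Groth.Agent.Lib.H4HenselSmooth

/-!
Lang's theorem for Frobenius-semilinear maps over strictly Henselian local rings of characteristic p.
-/

universe u v

namespace Groth.Agent.H4FrobLang

open Polynomial

set_option maxHeartbeats 400000

section Field

variable (p : ℕ) [hp : Fact p.Prime] (k : Type u) [Field k] [CharP k p] [IsSepClosed k]

include hp in
theorem separable_of_derivative_eq_neg_one {Q : k[X]} (h : derivative Q = C (-1)) : Q.Separable := by
  rw [Polynomial.separable_def, h]
  exact isCoprime_one_right.of_isCoprime_of_dvd_right (isUnit_C.mpr (by simp)).dvd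

include hp in
theorem exists_pow_sub_eq (c : k) : ∃ y : k, y ^ p - y = c := by
  have hd : (X ^ p - X - C c : k[X]).degree ≠ 0 := by
    have : (X ^ p - X - C c : k[X]).degree = (p : WithBot ℕ) := by
      rw [sub_sub, degree_sub_eq_left_of_degree_lt]
      · rw [degree_X_pow]
      · rw [degree_X_pow]
        refine (degree_add_le _ _).trans_lt (max_lt ?_ ?_)
        · rw [degree_X]; exact_mod_cast hp.out.one_lt
        · exact degree_C_le.trans_lt (by exact_mod_cast hp.out.pos)
    rw [this]; exact_mod_cast hp.out.ne_zero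
  obtain ⟨y, hy⟩ := IsSepClosed.exists_root _ hd (separable_of_derivative_eq_neg_one p k (by simp [derivative_X_pow, CharP.cast_eq_zero]))
  exact ⟨y, by simpa [IsRoot, sub_eq_zero] using hy⟩

variable {k}

/-- The recursive polynomials of the fixed vector equation. -/
noncomputable def Q (a : ℕ → k) : ℕ → k[X]
  | 0 => C (a 0) * X ^ p
  | i + 1 => (Q a i) ^ p + C (a (i + 1)) * X ^ p

include hp in
theorem derivative_Q (a : ℕ → k) : ∀ i, derivative (Q p a i) = 0
  | 0 => by simp [Q, derivative_X_pow, CharP.cast_eq_zero]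
  | i + 1 => by simp [Q, derivative_pow, derivative_X_pow, CharP.cast_eq_zero]

include hp in
theorem Q_degree (a : ℕ → k) : ∀ i, (Q p a i = 0 ∧ ∀ j ≤ i, a j = 0) ∨ p ≤ (Q p a i).natDegree
  | 0 => by
    rcases eq_or_ne (a 0) 0 with h | h
    · exact Or.inl ⟨by simp [Q, h], fun j hj => by rwa [Nat.le_zero.mp hj]⟩
    · exact Or.inr (by simp [Q, natDegree_C_mul_X_pow _ _ h])
  | i + 1 => by
    rcases Q_degree a i with ⟨h, h'⟩ | h
    · rcases eq_or_ne (a (i + 1)) 0 with h2 | h2
      · refine Or.inl ⟨by simp [Q, h, h2, hp.out.ne_zero], fun j hj => ?_⟩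
        rcases Nat.lt_or_ge j (i + 1) with h3 | h3
        · exact h' j (by omega)
        · rwa [le_antisymm hj h3]
      · exact Or.inr (by simp [Q, h, hp.out.ne_zero, natDegree_C_mul_X_pow _ _ h2])
    · refine Or.inr ?_
      have h1 : (C (a (i + 1)) * X ^ p).natDegree < ((Q p a i) ^ p).natDegree := by
        refine (natDegree_C_mul_X_pow_le _ _).trans_lt ?_
        rw [natDegree_pow]
        calc p < p * p := lt_mul_of_one_lt_left hp.out.pos hp.out.one_lt
          _ ≤ p * (Q p a i).natDegree := Nat.mul_le_mul_left _ h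
      show p ≤ ((Q p a i) ^ p + C (a (i + 1)) * X ^ p).natDegree
      rw [natDegree_add_eq_left_of_natDegree_lt h1, natDegree_pow]
      exact le_mul_of_le_of_one_le le_rfl (hp.out.one_le.trans h)

variable {V : Type v} [AddCommGroup V] [Module k V] [FiniteDimensional k V]
  (T : V →+ V) (hT : ∀ (r : k) (v : V), T (r • v) = r ^ p • T v)

include hT in
omit hp [CharP k p] [IsSepClosed k] in
theorem eq_zero_of_map_eq_zero (hspan : Submodule.span k (Set.range T) = ⊤) {v : V} (hv : T v = 0) : v = 0 := by
  classical
  by_contra hne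
  have hli : LinearIndepOn k id ({v} : Set V) := LinearIndepOn.singleton hne
  obtain ⟨s, hvs, hsub, hs⟩ : ∃ s : Set V, v ∈ s ∧ LinearIndepOn k id s ∧ Submodule.span k s = ⊤ := by
    refine ⟨hli.extend (Set.subset_univ _), hli.subset_extend _ rfl, hli.linearIndepOn_extend _, top_le_iff.mp ?_⟩
    intro x _
    exact hli.subset_span_extend _ trivial
  haveI : Finite s := hsub.linearIndependent.finite
  haveI : Fintype s := Fintype.ofFinite s
  let W := Submodule.span k (Set.range fun x : {x : s // (x : V) ≠ v} => T (x.1 : V))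
  have hW : W = ⊤ := by
    refine top_le_iff.mp (hspan ▸ Submodule.span_le.mpr ?_)
    rintro _ ⟨x, rfl⟩
    have hx : x ∈ Submodule.span k s := hs ▸ trivial
    induction hx using Submodule.span_induction with
    | mem y hy =>
      rcases eq_or_ne y v with rfl | hy'
      · rw [hv]; exact zero_mem _
      · exact Submodule.subset_span ⟨⟨⟨y, hy⟩, hy'⟩, rfl⟩
    | zero => rw [map_zero]; exact zero_mem _
    | add a b _ _ ha hb => rw [map_add]; exact add_mem ha hb
    | smul c a _ ha => rw [SetLike.mem_coe, hT]; exact W.smul_mem _ ha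
  let b : Module.Basis s k V := Module.Basis.mk hsub.linearIndependent (by simp [hs])
  have h1 : Module.finrank k V ≤ Fintype.card {x : s // (x : V) ≠ v} := by
    have h3 := finrank_range_le_card (R := k) (fun x : {x : s // (x : V) ≠ v} => T (x.1 : V))
    rw [Set.finrank, show Submodule.span k (Set.range fun x : {x : s // (x : V) ≠ v} => T (x.1 : V)) = ⊤ from hW,
      finrank_top] at h3
    exact h3
  have h2 : Fintype.card {x : s // (x : V) ≠ v} < Fintype.card s :=
    Fintype.card_subtype_lt (x := ⟨v, hvs⟩) (by simp)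
  rw [Module.finrank_eq_card_basis b] at h1
  omega

include hp hT in
/-- A bijective semilinear map has a nonzero fixed vector. -/
theorem exists_fixed (hspan : Submodule.span k (Set.range T) = ⊤) [Nontrivial V] :
    ∃ w : V, w ≠ 0 ∧ T w = w := by
  classical
  obtain ⟨v, hv⟩ := exists_ne (0 : V)
  let e : ℕ → V := fun i => (T : V → V)^[i] v
  have hex : ∃ m, e m ∈ Submodule.span k (e '' Set.Iio m) := by
    by_contra h
    push Not at h
    have hli : LinearIndependent k e := linearIndependent_iff'.mpr fun s g hs i hi => by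
      by_contra hg
      obtain ⟨j, hj, hmax⟩ := (s.filter fun i => g i ≠ 0).exists_max_image id ⟨i, Finset.mem_filter.mpr ⟨hi, hg⟩⟩
      obtain ⟨hjs, hgj⟩ := Finset.mem_filter.mp hj
      refine h j ?_
      rw [← Finset.sum_erase_add s _ hjs, add_eq_zero_iff_neg_eq] at hs
      have e1 : e j = (g j)⁻¹ • -(∑ x ∈ s.erase j, g x • e x) := by rw [hs, smul_smul, inv_mul_cancel₀ hgj, one_smul]
      rw [e1]
      refine Submodule.smul_mem _ _ (neg_mem (sum_mem fun x hx => ?_))
      rcases eq_or_ne (g x) 0 with h0 | h0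
      · rw [h0, zero_smul]; exact zero_mem _
      · have hx' := Finset.mem_erase.mp hx
        have := hmax x (Finset.mem_filter.mpr ⟨hx'.2, h0⟩)
        exact Submodule.smul_mem _ _ (Submodule.subset_span ⟨x, lt_of_le_of_ne this hx'.1, rfl⟩)
    exact Infinite.not_finite (hli.finite : Finite ℕ)
  obtain ⟨m, hm⟩ : ∃ m, Nat.find hex = m + 1 := by
    refine ⟨Nat.find hex - 1, ?_⟩
    have : Nat.find hex ≠ 0 := fun h => by
      have := Nat.find_spec hex
      rw [h] at this
      simp [e, hv] at this
    omega
  have hspec := Nat.find_spec hex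
  rw [hm, show e '' Set.Iio (m + 1) = ((Finset.range (m + 1)).image e : Set V) by simp,
    Submodule.mem_span_finset'] at hspec
  have hmin : ∀ j ≤ m, e j ∉ Submodule.span k (e '' Set.Iio j) := fun j hj => Nat.find_min hex (by omega)
  have hinj : Set.InjOn e (Finset.range (m + 1) : Set ℕ) := by
    intro i hi j hj hij
    simp only [Finset.coe_range, Set.mem_Iio] at hi hj
    rcases lt_trichotomy i j with h | h | h
    · exact absurd (hij ▸ Submodule.subset_span ⟨i, h, rfl⟩) (hmin j (by omega))
    · exact h
    · exact absurd (hij.symm ▸ Submodule.subset_span ⟨j, h, rfl⟩) (hmin i (by omega))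
  obtain ⟨g, hg⟩ := hspec
  let a : ℕ → k := fun i => if hi : i ∈ Finset.range (m + 1) then g ⟨e i, Finset.mem_image_of_mem e hi⟩ else 0
  have ha : ∑ i ∈ Finset.range (m + 1), a i • e i = e (m + 1) := by
    rw [← hg, ← Finset.sum_coe_sort (Finset.range (m + 1)) (fun i => a i • e i)]
    refine Finset.sum_bij (fun i _ => (⟨e i.1, Finset.mem_image_of_mem e i.2⟩ : ((Finset.range (m + 1)).image e : Finset V)))
      (fun _ _ => Finset.mem_univ _) (fun i _ j _ h => Subtype.ext (hinj i.2 j.2 (congrArg Subtype.val h))) ?_ ?_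
    · intro b _
      obtain ⟨i, hi, hib⟩ := Finset.mem_image.mp b.2
      exact ⟨⟨i, hi⟩, Finset.mem_univ _, Subtype.ext hib⟩
    · intro i _
      simp only [a, dif_pos i.2]
  have hne : ∃ j ≤ m, a j ≠ 0 := by
    by_contra h
    push Not at h
    have h0 : e (m + 1) = 0 := ha.symm.trans (Finset.sum_eq_zero fun i hi => by rw [h i (by simpa [Nat.lt_succ_iff] using hi), zero_smul])
    refine hmin m le_rfl ?_
    rw [eq_zero_of_map_eq_zero p T hT hspan (v := e m) (by rw [← Function.iterate_succ_apply' (T : V → V) m v]; exact h0)]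
    exact zero_mem _
  let P : k[X] := Q p a m - X
  have hPd : derivative P = C (-1) := by simp [P, derivative_Q]
  have hdeg : 2 ≤ P.natDegree := by
    have hq : p ≤ (Q p a m).natDegree := by
      rcases Q_degree p a m with ⟨-, h⟩ | h
      · obtain ⟨j, hj, hj'⟩ := hne; exact absurd (h j hj) hj'
      · exact h
    rw [show P = Q p a m - X from rfl, natDegree_sub_eq_left_of_natDegree_lt (by rw [natDegree_X]; linarith [hp.out.two_le])]
    linarith [hp.out.two_le]
  have hsep := separable_of_derivative_eq_neg_one p k hPd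
  obtain ⟨y, hy, hy0⟩ : ∃ y, P.IsRoot y ∧ y ≠ 0 := by
    have hc := (IsSepClosed.splits_of_separable P hsep).natDegree_eq_card_roots
    by_contra h
    push Not at h
    have hsub : P.roots ⊆ {0} := fun r hr => by simpa using h r (Polynomial.isRoot_of_mem_roots hr)
    have := Multiset.card_le_card ((Multiset.le_iff_subset (Polynomial.nodup_roots hsep)).mpr hsub)
    simp at this
    omega
  let x : ℕ → k := fun i => (Q p a i).eval y
  refine ⟨∑ i ∈ Finset.range (m + 1), x i • e i, fun h => ?_, ?_⟩
  · rw [Finset.sum_range_succ, add_eq_zero_iff_neg_eq] at h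
    have hxm : x m = y := by simpa [P, x, sub_eq_zero] using hy
    refine hmin m le_rfl ?_
    have e1 : e m = y⁻¹ • -(∑ i ∈ Finset.range m, x i • e i) := by rw [h, hxm, smul_smul, inv_mul_cancel₀ hy0, one_smul]
    rw [e1]
    exact Submodule.smul_mem _ _ (neg_mem (sum_mem fun i hi => Submodule.smul_mem _ _
      (Submodule.subset_span ⟨i, by simpa using hi, rfl⟩)))
  · have hTe : ∀ i, T (e i) = e (i + 1) := fun i => (Function.iterate_succ_apply' (T : V → V) i v).symm
    have hxm : x m = y := by simpa [P, x, sub_eq_zero] using hy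
    rw [map_sum]
    simp only [hT, hTe]
    rw [Finset.sum_range_succ, hxm, ← ha, Finset.smul_sum]
    conv_rhs => rw [Finset.sum_range_succ']
    rw [Finset.sum_range_succ' (fun i => y ^ p • a i • e i), ← add_assoc, ← Finset.sum_add_distrib]
    congr 1
    · refine Finset.sum_congr rfl fun i _ => ?_
      simp only [x, Q, eval_add, eval_pow, eval_mul, eval_C, eval_X, add_smul, smul_smul]
      rw [mul_comm (a (i + 1))]
    · simp only [x, Q, eval_mul, eval_C, eval_pow, eval_X, smul_smul, mul_comm]

include hp hT in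
/-- Lang: a basis of fixed vectors. -/
theorem exists_fixed_basis (hspan : Submodule.span k (Set.range T) = ⊤) :
    ∃ b : Module.Basis (Fin (Module.finrank k V)) k V, ∀ i, T (b i) = b i := by
  classical
  suffices key : ∀ (n : ℕ) (V : Type v) [AddCommGroup V] [Module k V] [FiniteDimensional k V] (T : V →+ V),
      (∀ (r : k) (v : V), T (r • v) = r ^ p • T v) → Submodule.span k (Set.range T) = ⊤ → Module.finrank k V = n →
      ∃ b : Fin n → V, Submodule.span k (Set.range b) = ⊤ ∧ ∀ i, T (b i) = b i by
    obtain ⟨b, hb1, hb2⟩ := key _ V T hT hspan rfl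
    have hli := linearIndependent_of_top_le_span_of_card_eq_finrank hb1.ge (Fintype.card_fin _)
    exact ⟨Module.Basis.mk hli hb1.ge, fun i => by rw [Module.Basis.mk_apply]; exact hb2 i⟩
  intro n
  induction n with
  | zero =>
    intro V _ _ _ T _ _ h
    haveI : Subsingleton V := Module.finrank_zero_iff.mp h
    exact ⟨Fin.elim0, Subsingleton.elim _ _, fun i => i.elim0⟩
  | succ n ih =>
    intro V _ _ _ T hT hspan hn
    haveI : Nontrivial V := Module.nontrivial_of_finrank_eq_succ hn
    obtain ⟨w, hw0, hw⟩ := exists_fixed p T hT hspan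
    let W := Submodule.span k ({w} : Set V)
    let Tq : (V ⧸ W) →+ (V ⧸ W) := QuotientAddGroup.map W.toAddSubgroup W.toAddSubgroup T fun x hx => by
      obtain ⟨c, rfl⟩ := Submodule.mem_span_singleton.mp hx
      show T (c • w) ∈ W
      rw [hT, hw]
      exact W.smul_mem _ (Submodule.mem_span_singleton_self w)
    have hTq : ∀ x, Tq (Submodule.Quotient.mk x) = Submodule.Quotient.mk (T x) := fun x => rfl
    have hdim : Module.finrank k (V ⧸ W) = n := by
      have := W.finrank_quotient_add_finrank
      rw [finrank_span_singleton hw0, hn] at this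
      omega
    obtain ⟨u, hu1, hu2⟩ := ih (V ⧸ W) Tq (fun r x => by
      obtain ⟨x, rfl⟩ := Submodule.Quotient.mk_surjective _ x
      rw [← Submodule.Quotient.mk_smul, hTq, hT, hTq, Submodule.Quotient.mk_smul]) (by
      refine top_le_iff.mp ?_
      rw [← W.range_mkQ, ← Submodule.map_top W.mkQ, ← hspan, Submodule.map_span]
      refine Submodule.span_mono ?_
      rintro _ ⟨_, ⟨x, rfl⟩, rfl⟩
      exact ⟨Submodule.Quotient.mk x, hTq x⟩) hdim
    choose u' hu' using fun i => Submodule.Quotient.mk_surjective W (u i)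
    have hc : ∀ i, ∃ c : k, T (u' i) = u' i + c • w := by
      intro i
      have h1 : Submodule.Quotient.mk (T (u' i)) = (Submodule.Quotient.mk (u' i) : V ⧸ W) := by rw [← hTq, hu', hu2]
      obtain ⟨c, hc⟩ := Submodule.mem_span_singleton.mp ((Submodule.Quotient.eq W).mp h1)
      exact ⟨c, by rw [hc]; abel⟩
    choose c hc using hc
    choose y hy using fun i => exists_pow_sub_eq p k (-(c i))
    refine ⟨Fin.cons w (fun i => u' i + y i • w), top_le_iff.mp fun x _ => ?_, Fin.cases hw fun i => ?_⟩
    · have hx : Submodule.Quotient.mk x ∈ Submodule.span k (Set.range u) := hu1 ▸ trivial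
      obtain ⟨d, hd⟩ := (Submodule.mem_span_range_iff_exists_fun k).mp hx
      have h1 : x - ∑ i, d i • (u' i + y i • w) ∈ W := by
        rw [← Submodule.Quotient.eq, ← hd]
        have hw0' : W.mkQ w = 0 := (Submodule.Quotient.mk_eq_zero _).mpr (Submodule.mem_span_singleton_self w)
        show ∑ i, d i • u i = W.mkQ (∑ i, d i • (u' i + y i • w))
        simp only [map_sum, map_add, map_smul, hw0', smul_zero, add_zero]
        simp only [Submodule.mkQ_apply, hu']
      obtain ⟨c', hc'⟩ := Submodule.mem_span_singleton.mp h1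
      rw [show x = c' • w + ∑ i, d i • (u' i + y i • w) by rw [hc']; abel]
      refine add_mem (Submodule.smul_mem _ _ (Submodule.subset_span ⟨0, rfl⟩)) (sum_mem fun i _ => ?_)
      exact Submodule.smul_mem _ _ (Submodule.subset_span ⟨i.succ, rfl⟩)
    · simp only [Fin.cons_succ]
      rw [map_add, hT, hw, hc, add_assoc, ← add_smul, show c i + y i ^ p = y i by linear_combination hy i]

include hp in
theorem card_roots_pow : Nat.card {c : k // c ^ p = c} = p := by
  classical
  let f : k[X] := X ^ p - X
  have hsep : f.Separable := separable_of_derivative_eq_neg_one p k (by simp [f, derivative_X_pow, CharP.cast_eq_zero])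
  have hdeg : f.natDegree = p := by
    rw [show f = X ^ p - X from rfl, natDegree_sub_eq_left_of_natDegree_lt (by simp [hp.out.one_lt]), natDegree_X_pow]
  have hc := (IsSepClosed.splits_of_separable f hsep).natDegree_eq_card_roots
  rw [← Multiset.toFinset_card_of_nodup (Polynomial.nodup_roots hsep), hdeg] at hc
  conv_rhs => rw [hc]
  rw [← Nat.card_eq_finsetCard]
  refine Nat.card_congr (Equiv.subtypeEquivRight fun c => ?_)
  rw [Multiset.mem_toFinset, mem_roots (fun h => by simpa [h, hp.out.ne_zero.symm] using hdeg), IsRoot.def]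
  simp [f, sub_eq_zero]

include hp hT in
theorem field_main (hspan : Submodule.span k (Set.range T) = ⊤) :
    Function.Surjective (fun v => T v - v) ∧ Nat.card {v : V // T v = v} = p ^ Module.finrank k V := by
  classical
  obtain ⟨b, hb⟩ := exists_fixed_basis p T hT hspan
  have hTc : ∀ c : Fin (Module.finrank k V) → k, T (∑ i, c i • b i) = ∑ i, (c i ^ p) • b i := fun c => by
    rw [map_sum]; simp [hT, hb]
  refine ⟨fun v => ?_, ?_⟩
  · choose y hy using fun i => exists_pow_sub_eq p k (b.repr v i)
    refine ⟨∑ i, y i • b i, ?_⟩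
    simp only [hTc, ← Finset.sum_sub_distrib, ← sub_smul, hy, b.sum_repr]
  · have e : {v : V // T v = v} ≃ (Fin (Module.finrank k V) → {c : k // c ^ p = c}) :=
      { toFun := fun v i => ⟨b.repr v.1 i, by
          have h1 := congrArg (fun z => b.repr z i) (v.2.symm.trans (congrArg T (b.sum_repr v.1).symm))
          simp only [hTc, b.repr_sum_self] at h1
          exact h1.symm⟩
        invFun := fun c => ⟨∑ i, (c i).1 • b i, by rw [hTc]; simp [(c _).2]⟩
        left_inv := fun v => Subtype.ext (b.sum_repr v.1)
        right_inv := fun c => funext fun i => Subtype.ext (by simp only [b.repr_sum_self]) }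
    rw [Nat.card_congr e, Nat.card_pi, Finset.prod_const, card_roots_pow p (k := k), Finset.card_univ, Fintype.card_fin]

end Field

section Local

variable (p : ℕ) [hp : Fact p.Prime] {R : Type u} [CommRing R] [HenselianLocalRing R]
  [IsSepClosed (IsLocalRing.ResidueField R)] [CharP R p]

open IsLocalRing

variable {n : ℕ} (A : Matrix (Fin n) (Fin n) R)

/-- The semilinear map of a matrix. -/
def act {S : Type*} [CommRing S] (A : Matrix (Fin n) (Fin n) S) (x : Fin n → S) : Fin n → S :=
  A.mulVec fun j => x j ^ p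

include hp in
theorem charP_residue : CharP (ResidueField R) p := by
  refine (CharP.charP_iff_prime_eq_zero hp.out).mpr ?_
  rw [← map_natCast (residue R), CharP.cast_eq_zero, map_zero]

variable {A} (hA : IsUnit A.det)

omit hA in
theorem residue_act (x : Fin n → R) :
    (fun i => residue R (act p A x i)) = act p (A.map (residue R)) (fun i => residue R (x i)) := by
  funext i
  simp [act, Matrix.mulVec, dotProduct, map_sum, map_mul, map_pow]

include hA in
theorem field_hyp : let B := A.map (residue R);
    ∃ T : (Fin n → ResidueField R) →+ (Fin n → ResidueField R), (∀ x, T x = act p B x) ∧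
      (∀ (r : ResidueField R) x, T (r • x) = r ^ p • T x) ∧
      Submodule.span (ResidueField R) (Set.range T) = ⊤ := by
  intro B
  haveI := charP_residue p (R := R)
  have h0 : act p B 0 = 0 := by
    rw [act, show (fun j => (0 : Fin n → ResidueField R) j ^ p) = 0 by funext j; simp [hp.out.ne_zero]]
    exact Matrix.mulVec_zero B
  have hadd : ∀ x y, act p B (x + y) = act p B x + act p B y := fun x y => by
    rw [act, show (fun j => (x + y) j ^ p) = ((fun j => x j ^ p) + (fun j => y j ^ p)) by funext j; simp [add_pow_char]]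
    exact Matrix.mulVec_add B _ _
  refine ⟨{ toFun := act p B, map_zero' := h0, map_add' := hadd }, fun x => rfl, fun r x => ?_, top_le_iff.mp fun z _ => ?_⟩
  · simp only [AddMonoidHom.coe_mk, ZeroHom.coe_mk, act, Pi.smul_apply, smul_eq_mul, mul_pow]
    exact Matrix.mulVec_smul B (r ^ p) fun j => x j ^ p
  · obtain ⟨w, rfl⟩ : ∃ w, B.mulVec w = z := by
      refine ⟨B⁻¹.mulVec z, ?_⟩
      rw [Matrix.mulVec_mulVec, Matrix.mul_nonsing_inv _ (by
        show IsUnit ((residue R).mapMatrix A).det; rw [← RingHom.map_det]; exact hA.map _), Matrix.one_mulVec]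
    rw [show w = ∑ j, w j • (Pi.single j (1 : ResidueField R) : Fin n → ResidueField R) by
      funext i; simp [Finset.sum_apply, Pi.single_apply]]
    rw [Matrix.mulVec_sum]
    refine sum_mem fun j _ => ?_
    rw [Matrix.mulVec_smul]
    refine Submodule.smul_mem _ _ (Submodule.subset_span ⟨Pi.single j 1, ?_⟩)
    simp only [AddMonoidHom.coe_mk, ZeroHom.coe_mk, act]
    congr 1
    funext i
    rcases eq_or_ne i j with rfl | hij
    · simp
    · simp [Pi.single_eq_of_ne hij, hp.out.ne_zero]

include hp hA in
theorem surjective_free (b : Fin n → R) : ∃ x : Fin n → R, act p A x - x = b := by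
  classical
  haveI := charP_residue p (R := R)
  haveI : HenselianRing R (maximalIdeal R) :=
    ⟨(jacobson_eq_maximalIdeal ⊥ bot_ne_top).ge, fun f hf a₀ h1 h2 =>
      HenselianLocalRing.is_henselian f hf a₀ h1 ((residue_ne_zero_iff_isUnit _).mp h2.ne_zero)⟩
  obtain ⟨T, hT1, hT2, hT3⟩ := field_hyp p hA
  obtain ⟨x₀, hx₀⟩ := (field_main p T hT2 hT3).1 fun i => residue R (b i)
  choose a₀ ha₀ using fun i => residue_surjective (x₀ i)
  let P : Fin n → MvPolynomial (Fin n) R := fun i =>
    ∑ j, MvPolynomial.C (A i j) * MvPolynomial.X j ^ p - MvPolynomial.X i - MvPolynomial.C (b i)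
  have hev : ∀ (x : Fin n → R) i, MvPolynomial.eval x (P i) = act p A x i - x i - b i := fun x i => by
    simp [P, act, Matrix.mulVec, dotProduct]
  have h0 : ∀ i, MvPolynomial.eval a₀ (P i) ∈ maximalIdeal R := fun i => by
    rw [hev, ← residue_eq_zero_iff, map_sub, map_sub, congrFun (residue_act p (A := A) a₀) i, funext ha₀, ← hT1, ha₀]
    have := congrFun hx₀ i
    simp only [Pi.sub_apply] at this
    rw [this, sub_self]
  have hJ : IsUnit (Ideal.Quotient.mk (maximalIdeal R)
      (Matrix.of fun i j => MvPolynomial.eval a₀ (MvPolynomial.pderiv j (P i))).det) := by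
    have : (Matrix.of fun i j => MvPolynomial.eval a₀ (MvPolynomial.pderiv j (P i))) = -1 := by
      ext i j
      simp [P, MvPolynomial.pderiv_pow, Matrix.one_apply, MvPolynomial.pderiv_X, Pi.single_apply]
    rw [this, Matrix.det_neg, Matrix.det_one, mul_one]
    exact ((isUnit_one.neg).pow _).map _
  obtain ⟨x, hx, -⟩ := H4HenselPair.exists_root_mv (maximalIdeal R) P a₀ h0 hJ
  refine ⟨x, funext fun i => ?_⟩
  have := hx i
  rw [hev] at this
  simpa [sub_eq_zero] using this

include hp in
theorem eq_zero_of_fixed {x : Fin n → R} (hfix : act p A x = x) (hx : ∀ i, x i ∈ maximalIdeal R) : x = 0 := by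
  classical
  have h : Ideal.span (Set.range x) ≤ ⊥ := by
    refine (Submodule.eq_bot_of_le_smul_of_le_jacobson_bot (maximalIdeal R) _ (Submodule.fg_span (Set.finite_range x)) ?_
      (maximalIdeal_le_jacobson ⊥)).le
    refine Ideal.span_le.mpr ?_
    rintro _ ⟨i, rfl⟩
    rw [SetLike.mem_coe, ← congrFun hfix i]
    show ∑ j, A i j * x j ^ p ∈ _
    refine sum_mem fun j _ => ?_
    obtain ⟨q, hq⟩ : ∃ q, p = q + 2 := ⟨p - 2, by have := hp.out.two_le; omega⟩
    rw [smul_eq_mul, hq, pow_succ, pow_succ, mul_assoc (x j ^ q)]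
    exact Ideal.mul_mem_left _ _ (Ideal.mul_mem_left _ _ (Ideal.mul_mem_mul (hx j) (Ideal.subset_span ⟨j, rfl⟩)))
  funext i
  exact Ideal.mem_bot.mp (h (Ideal.subset_span ⟨i, rfl⟩))

include hp hA in
theorem exists_fixed_lift (z : Fin n → ResidueField R) (hz : act p (A.map (residue R)) z = z) :
    ∃ x : Fin n → R, act p A x = x ∧ ∀ i, residue R (x i) = z i := by
  classical
  haveI := charP_residue p (R := R)
  haveI : HenselianRing R (maximalIdeal R) :=
    ⟨(jacobson_eq_maximalIdeal ⊥ bot_ne_top).ge, fun f hf a₀ h1 h2 =>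
      HenselianLocalRing.is_henselian f hf a₀ h1 ((residue_ne_zero_iff_isUnit _).mp h2.ne_zero)⟩
  choose a₀ ha₀ using fun i => residue_surjective (z i)
  let P : Fin n → MvPolynomial (Fin n) R := fun i =>
    ∑ j, MvPolynomial.C (A i j) * MvPolynomial.X j ^ p - MvPolynomial.X i
  have hev : ∀ (x : Fin n → R) i, MvPolynomial.eval x (P i) = act p A x i - x i := fun x i => by
    simp [P, act, Matrix.mulVec, dotProduct]
  have h0 : ∀ i, MvPolynomial.eval a₀ (P i) ∈ maximalIdeal R := fun i => by
    rw [hev, ← residue_eq_zero_iff, map_sub, congrFun (residue_act p (A := A) a₀) i, funext ha₀, hz, ha₀, sub_self]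
  have hJ : IsUnit (Ideal.Quotient.mk (maximalIdeal R)
      (Matrix.of fun i j => MvPolynomial.eval a₀ (MvPolynomial.pderiv j (P i))).det) := by
    have : (Matrix.of fun i j => MvPolynomial.eval a₀ (MvPolynomial.pderiv j (P i))) = -1 := by
      ext i j
      simp [P, MvPolynomial.pderiv_pow, Matrix.one_apply, MvPolynomial.pderiv_X, Pi.single_apply]
    rw [this, Matrix.det_neg, Matrix.det_one, mul_one]
    exact ((isUnit_one.neg).pow _).map _
  obtain ⟨x, hx, hxa⟩ := H4HenselPair.exists_root_mv (maximalIdeal R) P a₀ h0 hJ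
  refine ⟨x, funext fun i => ?_, fun i => ?_⟩
  · have := hx i
    rw [hev] at this
    exact sub_eq_zero.mp this
  · rw [← ha₀ i]; exact Ideal.Quotient.eq.mpr (hxa i)

include hp hA in
theorem card_fixed : Nat.card {x : Fin n → R // act p A x = x} = p ^ n := by
  classical
  haveI := charP_residue p (R := R)
  obtain ⟨T, hT1, hT2, hT3⟩ := field_hyp p hA
  have hk := (field_main p T hT2 hT3).2
  rw [Module.finrank_fin_fun] at hk
  rw [← hk]
  refine Nat.card_eq_of_bijective (fun x => ⟨fun i => residue R (x.1 i), by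
    rw [hT1, ← residue_act p (A := A), x.2]⟩) ⟨fun x y h => Subtype.ext (sub_eq_zero.mp ?_), fun z => ?_⟩
  · refine eq_zero_of_fixed p (A := A) ?_ fun i => ?_
    · calc act p A (x.1 - y.1) = act p A x.1 - act p A y.1 := by
            simp only [act, Pi.sub_apply, sub_pow_char]; exact Matrix.mulVec_sub A _ _
        _ = _ := by rw [x.2, y.2]
    · have := congrFun (congrArg Subtype.val h) i
      simp only at this
      rw [← residue_eq_zero_iff, Pi.sub_apply, map_sub, this, sub_self]
  · obtain ⟨x, hx, hxz⟩ := exists_fixed_lift p hA z.1 (by rw [← hT1]; exact z.2)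
    exact ⟨⟨x, hx⟩, Subtype.ext (funext hxz)⟩

include hp in
/-- A semilinear map with generating values has a matrix on a minimal generating family. -/
theorem exists_matrix {M : Type v} [AddCommGroup M] [Module R M]
    (T : M →+ M) (hT : ∀ (r : R) (m : M), T (r • m) = r ^ p • T m) (hspan : Submodule.span R (Set.range T) = ⊤)
    (g : Fin n → M) (hg : Submodule.span R (Set.range g) = ⊤)
    (hmin : ∀ c : Fin n → R, ∑ i, c i • g i = 0 → ∀ i, c i ∈ maximalIdeal R) :
    ∃ A : Matrix (Fin n) (Fin n) R, IsUnit A.det ∧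
      ∀ x : Fin n → R, T (∑ j, x j • g j) = ∑ i, act p A x i • g i := by
  classical
  choose a ha using fun j => (Submodule.mem_span_range_iff_exists_fun R).mp (hg ▸ trivial : T (g j) ∈ Submodule.span R (Set.range g))
  let A : Matrix (Fin n) (Fin n) R := Matrix.of fun i j => a j i
  have hA' : ∀ x : Fin n → R, T (∑ j, x j • g j) = ∑ i, act p A x i • g i := by
    intro x
    rw [map_sum]
    simp only [hT, ← ha, Finset.smul_sum, smul_smul, act, Matrix.mulVec, dotProduct, Finset.sum_smul]
    rw [Finset.sum_comm]
    exact Finset.sum_congr rfl fun i _ => Finset.sum_congr rfl fun j _ => by rw [mul_comm]; rfl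
  have hmem : ∀ m, T m ∈ Submodule.span R (Set.range fun j => T (g j)) := by
    intro m
    obtain ⟨c, rfl⟩ := (Submodule.mem_span_range_iff_exists_fun R).mp (hg ▸ trivial : m ∈ Submodule.span R (Set.range g))
    rw [map_sum]
    exact sum_mem fun j _ => by rw [hT]; exact Submodule.smul_mem _ _ (Submodule.subset_span ⟨j, rfl⟩)
  have hfull : Submodule.span R (Set.range fun j => T (g j)) = ⊤ :=
    top_le_iff.mp (hspan ▸ Submodule.span_le.mpr (Set.range_subset_iff.mpr hmem))
  choose b hb using fun i => (Submodule.mem_span_range_iff_exists_fun R).mp (hfull ▸ trivial : g i ∈ Submodule.span R (Set.range fun j => T (g j)))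
  let B : Matrix (Fin n) (Fin n) R := Matrix.of fun j i => b i j
  refine ⟨A, ?_, hA'⟩
  have hAB : ∀ l i, residue R ((A * B - 1) l i) = 0 := by
    intro l i
    refine (residue_eq_zero_iff _).mpr (hmin (fun l => (A * B - 1) l i) ?_ l)
    have h1 := hb i
    simp only [← ha, Finset.smul_sum, smul_smul] at h1
    rw [Finset.sum_comm] at h1
    simp only [Matrix.sub_apply, sub_smul, Finset.sum_sub_distrib, Matrix.mul_apply, Finset.sum_smul, Matrix.one_apply,
      ite_smul, one_smul, zero_smul, Finset.sum_ite_eq', Finset.mem_univ, if_true]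
    rw [sub_eq_zero]
    conv_rhs => rw [← h1]
    exact Finset.sum_congr rfl fun l _ => Finset.sum_congr rfl fun j _ => by rw [mul_comm]; rfl
  have h2 : (residue R).mapMatrix A * (residue R).mapMatrix B = 1 := by
    rw [← map_mul]
    ext l i
    have := hAB l i
    rw [Matrix.sub_apply, map_sub, sub_eq_zero] at this
    rw [RingHom.mapMatrix_apply, Matrix.map_apply, this, Matrix.one_apply, Matrix.one_apply]
    split <;> simp
  have h3 := congrArg Matrix.det h2
  rw [Matrix.det_mul, Matrix.det_one, ← RingHom.map_det] at h3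
  exact (residue_ne_zero_iff_isUnit _).mp (left_ne_zero_of_mul_eq_one h3)

end Local

end Groth.Agent.H4FrobLang
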