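import Mathlib
import Groth.Prelude.Def_EtGlue

/-! Glueing modules along a glueing pair. -/

set_option autoImplicit false

universe u

namespace Groth.Agent.H4Glue

open TensorProduct

variable {R R' : Type u} [CommRing R] [CommRing R'] [Algebra R R'] {f : R}
  (h : EtGlue.IsGlueingPair R R' f)

include h

theorem exists_eq_add (r' : R') (n : ℕ) :
    ∃ (a : R) (s : R'), r' = algebraMap R R' a + f ^ n • s := by
  rcases Nat.eq_zero_or_pos n with rfl | hn
  · exact ⟨0, r', by simp⟩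
  obtain ⟨q, hq⟩ := (h.1 n hn).2 (Ideal.Quotient.mk _ r')
  obtain ⟨a, rfl⟩ := Ideal.Quotient.mk_surjective q
  rw [Ideal.quotientMap_mk, Ideal.Quotient.eq, Ideal.map_span, Set.image_singleton] at hq
  obtain ⟨s, hs⟩ := Ideal.mem_span_singleton'.mp hq
  refine ⟨a, -s, ?_⟩
  rw [Algebra.smul_def]
  linear_combination hs

theorem exists_eq_pow_mul (a : R) (s : R') (n : ℕ) (ha : algebraMap R R' a = f ^ n • s) :
    ∃ b, a = f ^ n * b := by
  rcases Nat.eq_zero_or_pos n with rfl | hn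
  · exact ⟨a, by simp⟩
  have hq : Ideal.Quotient.mk (Ideal.span {f ^ n}) a = 0 := by
    apply (h.1 n hn).1
    rw [map_zero, Ideal.quotientMap_mk, Ideal.Quotient.eq_zero_iff_mem, ha, Algebra.smul_def]
    exact Ideal.mul_mem_right _ _ (Ideal.mem_map_of_mem _ (Ideal.mem_span_singleton_self _))
  obtain ⟨b, hb⟩ := Ideal.mem_span_singleton'.mp (Ideal.Quotient.eq_zero_iff_mem.mp hq)
  exact ⟨b, by rw [← hb, mul_comm]⟩

theorem exists_of_smul_eq_zero (r' : R') (l : ℕ) (hr : f ^ l • r' = 0) :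
    ∃ r : R, algebraMap R R' r = r' ∧ f ^ l * r = 0 := by
  obtain ⟨-, hinj, hex, -⟩ := h
  obtain ⟨r, hr1, hr2⟩ := hex r' 0 (by
    rw [map_zero]
    have hu : IsUnit (algebraMap R' (Localization.Away (algebraMap R R' f)) (algebraMap R R' f ^ l)) := by
      rw [map_pow]; exact (IsLocalization.Away.algebraMap_isUnit _).pow l
    refine hu.mul_left_cancel ?_
    rw [← map_mul, mul_zero, ← map_pow (algebraMap R R'), ← Algebra.smul_def, hr, map_zero])
  refine ⟨r, hr1, hinj ?_⟩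
  simp only [map_zero, map_mul, hr1, hr2, mul_zero]
  rw [← Algebra.smul_def, hr]

variable {M : Type u} [AddCommGroup M] [Module R M]

theorem exists_tmul_eq_add (n : ℕ) (z : R' ⊗[R] M) :
    ∃ (m : M) (z' : R' ⊗[R] M), z = (1 : R') ⊗ₜ[R] m + f ^ n • z' := by
  induction z with
  | zero => exact ⟨0, 0, by simp⟩
  | tmul r' m =>
    obtain ⟨a, s, rfl⟩ := exists_eq_add h r' n
    refine ⟨a • m, s ⊗ₜ m, ?_⟩
    rw [add_tmul, Algebra.algebraMap_eq_smul_one, ← smul_tmul, smul_tmul']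
  | add x y hx hy =>
    obtain ⟨m₁, z₁, rfl⟩ := hx
    obtain ⟨m₂, z₂, rfl⟩ := hy
    exact ⟨m₁ + m₂, z₁ + z₂, by rw [tmul_add, smul_add]; abel⟩

/-- The `f`-power torsion of `R' ⊗ M` comes from that of `M`. -/
theorem exists_tmul_of_smul_eq_zero (κ : R' ⊗[R] M) (l : ℕ) (hκ : f ^ l • κ = 0) :
    ∃ m : M, κ = (1 : R') ⊗ₜ[R] m ∧ f ^ l • m = 0 := by
  classical
  let π : (M →₀ R) →ₗ[R] M := Finsupp.linearCombination R id
  have hπ : Function.Surjective π := fun m => ⟨Finsupp.single m 1, by simp [π]⟩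
  obtain ⟨z, rfl⟩ := LinearMap.lTensor_surjective R' hπ κ
  have hexK : Function.Exact (LinearMap.ker π).subtype π := fun x =>
    ⟨fun hx => ⟨⟨x, hx⟩, rfl⟩, fun ⟨y, hy⟩ => hy ▸ y.2⟩
  have hex := lTensor_exact (R := R) (M := LinearMap.ker π) (N := M →₀ R) (P := M) R' hexK hπ
  obtain ⟨w, hw⟩ := (hex (f ^ l • z)).mp (by rw [map_smul, hκ])
  obtain ⟨k, w', rfl⟩ := exists_tmul_eq_add (M := LinearMap.ker π) h l w
  rw [map_add, map_smul, LinearMap.lTensor_tmul] at hw
  set e := TensorProduct.finsuppScalarRight R R R' M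
  set z₁ := z - LinearMap.lTensor R' (LinearMap.ker π).subtype w' with hz₁
  have hz : f ^ l • z₁ = (1 : R') ⊗ₜ[R] (k : M →₀ R) := by
    rw [hz₁, smul_sub, ← hw, Submodule.subtype_apply, add_sub_cancel_right]
  have he : ∀ (g : M →₀ R) i, e ((1 : R') ⊗ₜ[R] g) i = algebraMap R R' (g i) := fun g i => by
    rw [TensorProduct.finsuppScalarRight_apply_tmul_apply, Algebra.algebraMap_eq_smul_one]
  have hcoord : ∀ i, f ^ l • e z₁ i = algebraMap R R' ((k : M →₀ R) i) := fun i => by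
    rw [← he, ← hz, map_smul, Finsupp.smul_apply]
  have hb : ∀ i, ∃ b, f ^ l * b = (k : M →₀ R) i ∧ algebraMap R R' b = e z₁ i := fun i => by
    obtain ⟨b, hb⟩ := exists_eq_pow_mul h _ _ l (hcoord i).symm
    obtain ⟨t, ht, ht'⟩ := exists_of_smul_eq_zero h (e z₁ i - algebraMap R R' b) l (by
      rw [smul_sub, hcoord, hb, map_mul, Algebra.smul_def, sub_self])
    exact ⟨b + t, by rw [mul_add, ht', add_zero, hb], by rw [map_add, ht]; abel⟩
  choose b hb hb' using hb
  let g : M →₀ R := Finsupp.onFinset ((k : M →₀ R).support ∪ (e z₁).support)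
    (fun i => if i ∈ (k : M →₀ R).support ∪ (e z₁).support then b i else 0)
    (fun i hi => by by_contra hn; exact hi (if_neg hn))
  have hg : ∀ i, algebraMap R R' (g i) = e z₁ i ∧ f ^ l * g i = (k : M →₀ R) i := fun i => by
    simp only [g, Finsupp.onFinset_apply]
    split_ifs with hi
    · exact ⟨hb' i, hb i⟩
    · simp only [Finset.mem_union, Finsupp.mem_support_iff, not_or, not_not] at hi
      simp [hi.1, hi.2]
  have hz₁' : z₁ = (1 : R') ⊗ₜ[R] g := e.injective (Finsupp.ext fun i => by rw [he, (hg i).1])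
  refine ⟨π g, ?_, ?_⟩
  · have hzero : LinearMap.lTensor R' π (LinearMap.lTensor R' (LinearMap.ker π).subtype w') = 0 :=
      hex.apply_apply_eq_zero _
    rw [← LinearMap.lTensor_tmul, ← hz₁', hz₁, map_sub, hzero, sub_zero]
  · rw [← map_smul, show f ^ l • g = (k : M →₀ R) from Finsupp.ext fun i => (hg i).2]
    exact k.2

set_option maxHeartbeats 1000000 in
theorem glue (M' : Type u) [AddCommGroup M'] [Module R' M'] (M₁ : Type u) [AddCommGroup M₁]
    [Module R M₁] (hf : Function.Bijective fun x : M₁ => f • x)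
    (α : LocalizedModule (Submonoid.powers (algebraMap R R' f)) M' ≃ₗ[R'] R' ⊗[R] M₁) :
    ∃ (M : Type u) (_ : AddCommGroup M) (_ : Module R M) (_ : EtGlue.IsGlueable R R' f M)
      (e' : R' ⊗[R] M ≃ₗ[R'] M') (e₁ : LocalizedModule (Submonoid.powers f) M ≃ₗ[R] M₁),
      ∀ m : M, α (LocalizedModule.mkLinearMap (Submonoid.powers (algebraMap R R' f)) M'
        (e' ((1 : R') ⊗ₜ[R] m))) =
          (1 : R') ⊗ₜ[R] e₁ (LocalizedModule.mkLinearMap (Submonoid.powers f) M m) := by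
  classical
  let _ : Module R M' := Module.compHom M' (algebraMap R R')
  have : IsScalarTower R R' M' := ⟨fun a b x => by
    rw [Algebra.smul_def, mul_smul]; rfl⟩
  let β : M' →ₗ[R'] R' ⊗[R] M₁ := α.toLinearMap.comp
    (LocalizedModule.mkLinearMap (Submonoid.powers (algebraMap R R' f)) M')
  have hpow : ∀ n, Function.Bijective fun x : M₁ => f ^ n • x := by
    intro n
    induction n with
    | zero => simp only [pow_zero, one_smul]; exact Function.bijective_id
    | succ n ih => simpa [pow_succ, mul_smul, Function.comp_def] using ih.comp hf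
  have hTinj : ∀ n, Function.Injective fun z : R' ⊗[R] M₁ => f ^ n • z := fun n => by
    let E : M₁ ≃ₗ[R] M₁ := LinearEquiv.ofBijective (f ^ n • LinearMap.id) (hpow n)
    have : ∀ z : R' ⊗[R] M₁, LinearEquiv.lTensor R' E z = f ^ n • z := fun z => by
      induction z with
      | zero => simp
      | tmul a b => simp [E, tmul_smul]
      | add a b ha hb => rw [map_add, ha, hb, smul_add]
    exact fun a b hab => (LinearEquiv.lTensor R' E).injective (by rw [this, this]; exact hab)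
  have hβsmul : ∀ (a : R) (u : M'), β (a • u) = a • β u := fun a u => by
    rw [← algebraMap_smul R' a u, map_smul, algebraMap_smul]
  have hβker : ∀ u : M', β u = 0 → ∃ l : ℕ, f ^ l • u = 0 := fun u hu => by
    obtain ⟨⟨_, l, rfl⟩, hs⟩ :=
      (IsLocalizedModule.eq_zero_iff (Submonoid.powers (algebraMap R R' f))
        (LocalizedModule.mkLinearMap (Submonoid.powers (algebraMap R R' f)) M')).mp
        (α.map_eq_zero_iff.mp hu)
    refine ⟨l, ?_⟩
    rw [Submonoid.smul_def] at hs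
    rw [← algebraMap_smul R' (f ^ l) u, map_pow]
    exact hs
  have hβsurj : ∀ z, ∃ (u : M') (l : ℕ), f ^ l • z = β u := fun z => by
    obtain ⟨⟨u, ⟨_, l, rfl⟩⟩, hu⟩ := IsLocalizedModule.surj (Submonoid.powers (algebraMap R R' f))
      (LocalizedModule.mkLinearMap (Submonoid.powers (algebraMap R R' f)) M') (α.symm z)
    refine ⟨u, l, ?_⟩
    rw [Submonoid.smul_def] at hu
    show _ = α _
    rw [← hu, map_smul, LinearEquiv.apply_symm_apply, ← algebraMap_smul R' (f ^ l) z, map_pow]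
  let βR : M' →ₗ[R] R' ⊗[R] M₁ := { toFun := β, map_add' := β.map_add, map_smul' := hβsmul }
  let N : Submodule R (M' × M₁) := LinearMap.ker
    (βR.comp (LinearMap.fst R M' M₁) - (TensorProduct.mk R R' M₁ 1).comp (LinearMap.snd R M' M₁))
  have hN : ∀ p : M' × M₁, p ∈ N ↔ β p.1 = (1 : R') ⊗ₜ[R] p.2 := fun p => by
    simp [N, βR, sub_eq_zero]
  let p₁ : N →ₗ[R] M' := (LinearMap.fst R M' M₁).comp N.subtype
  let p₂ : N →ₗ[R] M₁ := (LinearMap.snd R M' M₁).comp N.subtype
  have hloc : IsLocalizedModule (Submonoid.powers f) p₂ := by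
    refine ⟨?_, fun y => ?_, fun {a b} hab => ?_⟩
    · rintro ⟨_, n, rfl⟩
      exact (Module.End.isUnit_iff _).mpr (hpow n)
    · obtain ⟨u, l, hu⟩ := hβsurj ((1 : R') ⊗ₜ[R] y)
      refine ⟨(⟨(u, f ^ l • y), (hN _).mpr ?_⟩, ⟨f ^ l, l, rfl⟩), rfl⟩
      show β u = (1 : R') ⊗ₜ[R] (f ^ l • y)
      rw [← hu, tmul_smul]
    · obtain ⟨⟨u, y⟩, hu⟩ := a
      obtain ⟨⟨u', y'⟩, hu'⟩ := b
      obtain rfl : y = y' := hab
      obtain ⟨l, hl⟩ := hβker (u - u') (by
        rw [map_sub, (hN _).mp hu, (hN _).mp hu', sub_self])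
      refine ⟨⟨f ^ l, l, rfl⟩, Subtype.ext (Prod.ext ?_ rfl)⟩
      show f ^ l • u = f ^ l • u'
      rw [← sub_eq_zero, ← smul_sub, hl]
  let Φ : R' ⊗[R] N →ₗ[R'] M' := p₁.liftBaseChange R'
  let ψ : R' ⊗[R] N →ₗ[R] R' ⊗[R] M₁ := p₂.lTensor R'
  have hΦψ : ∀ z, β (Φ z) = ψ z := fun z => by
    induction z with
    | zero => simp
    | tmul r m =>
      simp only [Φ, ψ, LinearMap.liftBaseChange_tmul, map_smul, LinearMap.lTensor_tmul]
      rw [show β (p₁ m) = (1 : R') ⊗ₜ[R] p₂ m from (hN _).mp m.2, smul_tmul', smul_eq_mul, mul_one]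
    | add a b ha hb => rw [map_add, map_add, map_add, ha, hb]
  have hψker : ∀ z, ψ z = 0 → ∃ l : ℕ, f ^ l • z = 0 := fun z hz => by
    have hT := IsLocalizedModule.rTensor (R := R) (A := R) (N := R') (Submonoid.powers f) p₂
    have hcomm : ∀ z, AlgebraTensorModule.rTensor R R' p₂ (TensorProduct.comm R R' N z) =
        TensorProduct.comm R R' M₁ (ψ z) := fun z => by
      induction z with
      | zero => simp
      | tmul r m => rfl
      | add a b ha hb => simp only [map_add, ha, hb]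
    obtain ⟨⟨_, l, rfl⟩, hl⟩ := (IsLocalizedModule.eq_zero_iff (Submonoid.powers f)
      (AlgebraTensorModule.rTensor R R' p₂)).mp (by rw [hcomm z, hz, map_zero])
    refine ⟨l, (TensorProduct.comm R R' N).injective ?_⟩
    rw [map_smul, map_zero]
    exact hl
  have hΦsmul : ∀ (a : R) z, Φ (a • z) = a • Φ z := fun a z => by
    rw [← algebraMap_smul R' a z, map_smul, algebraMap_smul]
  have hinj : Function.Injective Φ := by
    rw [injective_iff_map_eq_zero]
    intro z hz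
    obtain ⟨l, hl⟩ := hψker z (by rw [← hΦψ, hz, map_zero])
    obtain ⟨m, rfl, hm⟩ := exists_tmul_of_smul_eq_zero h z l hl
    have h1 : m.1.1 = 0 := by simpa [Φ, p₁] using hz
    have h2 : m.1.2 = 0 := (hpow l).1 (by
      show f ^ l • m.1.2 = f ^ l • (0 : M₁)
      rw [smul_zero]
      exact congrArg (fun x : N => x.1.2) hm)
    rw [show m = 0 from Subtype.ext (Prod.ext h1 h2), tmul_zero]
  have hsurj : Function.Surjective Φ := by
    have stepA : ∀ z : R' ⊗[R] M₁, ∃ (w : R' ⊗[R] N) (l : ℕ), β (Φ w) = f ^ l • z := by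
      intro z
      induction z with
      | zero => exact ⟨0, 0, by simp⟩
      | tmul r y =>
        obtain ⟨⟨m, ⟨_, l, rfl⟩⟩, hm⟩ := IsLocalizedModule.surj (Submonoid.powers f) p₂ y
        refine ⟨r ⊗ₜ m, l, ?_⟩
        rw [hΦψ]
        show r ⊗ₜ[R] p₂ m = f ^ l • (r ⊗ₜ[R] y)
        rw [← hm, ← tmul_smul]; rfl
      | add a b ha hb =>
        obtain ⟨w₁, l₁, h₁⟩ := ha
        obtain ⟨w₂, l₂, h₂⟩ := hb
        refine ⟨f ^ l₂ • w₁ + f ^ l₁ • w₂, l₁ + l₂, ?_⟩
        rw [map_add, map_add, hΦsmul, hΦsmul, hβsmul, hβsmul, h₁, h₂, ← mul_smul, ← mul_smul,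
          ← pow_add, ← pow_add, Nat.add_comm l₂, smul_add]
    intro u
    obtain ⟨w, l, hw⟩ := stepA (β u)
    obtain ⟨j, hj⟩ := hβker (Φ w - f ^ l • u) (by rw [map_sub, hβsmul, hw, sub_self])
    rw [smul_sub, sub_eq_zero, ← mul_smul, ← pow_add, ← hΦsmul] at hj
    set n := j + l
    obtain ⟨m, w', hw'⟩ := exists_tmul_eq_add h n (f ^ j • w)
    rw [hw', map_add, hΦsmul] at hj
    have hm : m.1.1 = f ^ n • (u - Φ w') := by
      rw [smul_sub, ← hj]
      simp [Φ, p₁]
    obtain ⟨y, hy⟩ := (hpow n).2 m.1.2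
    have hmem : (u - Φ w', y) ∈ N := (hN _).mpr (hTinj n (by
      show f ^ n • β (u - Φ w') = f ^ n • ((1 : R') ⊗ₜ[R] y)
      rw [← hβsmul, ← hm, ← tmul_smul, show f ^ n • y = m.1.2 from hy]
      exact (hN _).mp m.2))
    refine ⟨(1 : R') ⊗ₜ ⟨_, hmem⟩ + w', ?_⟩
    rw [map_add]
    simp [Φ, p₁]
  let e₁ := IsLocalizedModule.iso (Submonoid.powers f) p₂
  have he₁ : ∀ m, e₁ (LocalizedModule.mkLinearMap (Submonoid.powers f) N m) = p₂ m := fun m => by
    simp [e₁]
  have hΦ1 : ∀ m, Φ ((1 : R') ⊗ₜ[R] m) = p₁ m := fun m => by simp [Φ]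
  refine ⟨N, inferInstance, inferInstance, ?_, LinearEquiv.ofBijective Φ ⟨hinj, hsurj⟩, e₁, fun m => ?_⟩
  · refine ⟨fun a b hab => ?_, fun x y hxy => ?_⟩
    · have h1 := congrArg (fun q => Φ q.1) hab
      have h2 := congrArg (fun q => e₁ q.2) hab
      simp only [hΦ1] at h1
      simp only [he₁] at h2
      exact Subtype.ext (Prod.ext h1 h2)
    · obtain ⟨⟨m, ⟨_, l, rfl⟩⟩, hm⟩ := IsLocalizedModule.surj (Submonoid.powers f)
        (LocalizedModule.mkLinearMap (Submonoid.powers f) N) y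
      rw [Submonoid.smul_def] at hm
      have hx : EtGlue.locOfTensor R R' f N (f ^ l • x) =
          EtGlue.locOfTensor R R' f N ((1 : R') ⊗ₜ[R] m) := by
        rw [map_smul, hxy, ← map_smul, hm]
        exact IsLocalizedModule.map_apply _ _ _ _ m
      obtain ⟨⟨_, j, rfl⟩, hc⟩ := IsLocalizedModule.exists_of_eq (S := Submonoid.powers f) hx
      simp only [Submonoid.smul_def] at hc
      have hψ := congrArg ψ hc
      simp only [map_smul] at hψ
      have hyy : f ^ l • e₁ y = p₂ m := by rw [← map_smul, hm, he₁]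
      have hmem : (Φ x, e₁ y) ∈ N := (hN _).mpr (hTinj (j + l) (by
        show f ^ (j + l) • β (Φ x) = f ^ (j + l) • ((1 : R') ⊗ₜ[R] e₁ y)
        rw [hΦψ, pow_add, mul_smul, mul_smul, hψ, ← tmul_smul (f ^ l), hyy]
        rfl))
      refine ⟨⟨_, hmem⟩, hinj (hΦ1 _), e₁.injective ?_⟩
      rw [he₁]
      rfl
  · show β (Φ ((1 : R') ⊗ₜ[R] m)) = _
    rw [hΦ1, he₁]
    exact (hN _).mp m.2

end Groth.Agent.H4Glue
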