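import Mathlib
import Groth.Agent.Lib.H4Glue

/-! Surjectivity and finite type along a glueing pair. -/

universe u

open TensorProduct

set_option linter.style.haveILetI false

namespace Groth.Agent.H4GlueSurj

variable {R R' : Type u} [CommRing R] [CommRing R'] [Algebra R R'] {f : R}

/-- `W → R' ⊗ W` is injective on `f`-power torsion modules. -/
theorem eq_zero_of_torsion (h : EtGlue.IsGlueingPair R R' f) {Q : Type u} [AddCommGroup Q] [Module R Q]
    (htor : ∀ q : Q, ∃ n : ℕ, f ^ n • q = 0) (q : Q) (hq : (1 : R') ⊗ₜ[R] q = 0) : q = 0 := by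
  classical
  choose N hN using htor
  have hdec : ∀ (r : R') (n : ℕ), ∃ a : R, ∃ s : R', r = algebraMap R R' a + f ^ n • s :=
    fun r n => H4Glue.exists_eq_add h r n
  choose α σ hασ using hdec
  have hwd : ∀ (r : R') (n : ℕ) (a : R) (s : R') (q : Q), r = algebraMap R R' a + f ^ n • s →
      f ^ n • q = 0 → α r (N q) • q = a • q := by
    intro r n a s q hr hq'
    suffices ∀ (n m : ℕ) (a b : R) (s t : R'), n ≤ m → algebraMap R R' a + f ^ n • s = algebraMap R R' b + f ^ m • t →
        f ^ n • q = 0 → a • q = b • q by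
      rcases le_total n (N q) with hle | hle
      · exact (this n (N q) a _ s _ hle (hr.symm.trans (hασ r (N q))) hq').symm
      · exact this (N q) n _ a _ s hle ((hασ r (N q)).symm.trans hr) (hN q)
    intro n m a b s t hle e hq
    obtain ⟨c, hc⟩ := H4Glue.exists_eq_pow_mul h (a - b) (f ^ (m - n) • t - s) n (by
      rw [map_sub, smul_sub, smul_smul, ← pow_add, Nat.add_sub_cancel' hle]
      linear_combination e)
    rw [← sub_eq_zero, ← sub_smul, hc, mul_comm, mul_smul, hq, smul_zero]
  let act : R' →ₗ[R] Q →ₗ[R] Q := LinearMap.mk₂ R (fun r q => α r (N q) • q)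
    (fun r₁ r₂ q => by
      rw [hwd (r₁ + r₂) (N q) (α r₁ (N q) + α r₂ (N q)) (σ r₁ (N q) + σ r₂ (N q)) q
        (by rw [map_add, smul_add]; linear_combination hασ r₁ (N q) + hασ r₂ (N q)) (hN q), add_smul])
    (fun c r q => by
      rw [hwd (c • r) (N q) (c * α r (N q)) (c • σ r (N q)) q
        (by
          conv_lhs => rw [hασ r (N q)]
          rw [smul_add, map_mul, Algebra.smul_def c (algebraMap R R' _), smul_comm]) (hN q), mul_smul])
    (fun r q₁ q₂ => by
      have h1 : f ^ (N q₁ + N q₂) • q₁ = 0 := by rw [add_comm, pow_add, mul_smul, hN, smul_zero]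
      have h2 : f ^ (N q₁ + N q₂) • q₂ = 0 := by rw [pow_add, mul_smul, hN, smul_zero]
      rw [hwd r _ _ _ q₁ (hασ r _) h1, hwd r _ _ _ q₂ (hασ r _) h2,
        hwd r _ _ _ (q₁ + q₂) (hασ r _) (by rw [smul_add, h1, h2, add_zero]), smul_add])
    (fun c r q => by
      rw [hwd r _ _ _ (c • q) (hασ r (N q)) (by rw [smul_comm, hN, smul_zero]), smul_comm])
  have h1 : α 1 (N q) • q = 0 := by
    have := congrArg (TensorProduct.lift act) hq
    rw [map_zero] at this
    exact this
  rwa [hwd 1 (N q) 1 0 _ (by simp) (hN _), one_smul] at h1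

/-- A linear map surjective after localising and after tensoring with `R'` is surjective. -/
theorem surjective (h : EtGlue.IsGlueingPair R R' f) {N B : Type u} [AddCommGroup N] [Module R N] [AddCommGroup B] [Module R B]
    (φ : N →ₗ[R] B) (hloc : ∀ b, ∃ (n : ℕ) (a : N), φ a = f ^ n • b)
    (hten : Function.Surjective (φ.lTensor R')) : Function.Surjective φ := by
  intro b
  refine (Submodule.Quotient.mk_eq_zero (LinearMap.range φ)).1 (eq_zero_of_torsion h (fun q => ?_) _ ?_)
  · obtain ⟨b, rfl⟩ := Submodule.mkQ_surjective _ q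
    obtain ⟨n, a, ha⟩ := hloc b
    exact ⟨n, by rw [← map_smul, ← ha]; exact (Submodule.Quotient.mk_eq_zero _).2 ⟨a, rfl⟩⟩
  · obtain ⟨z, hz⟩ := hten (1 ⊗ₜ b)
    have := congrArg ((LinearMap.range φ).mkQ.lTensor R') hz
    rw [← LinearMap.comp_apply, ← LinearMap.lTensor_comp, LinearMap.range_mkQ_comp, LinearMap.lTensor_zero,
      LinearMap.zero_apply, LinearMap.lTensor_tmul] at this
    exact this.symm

open Algebra in
/-- Finite type along a glueing pair. -/
theorem finiteType (h : EtGlue.IsGlueingPair R R' f) {A B : Type u} [CommRing A] [Algebra R A] [CommRing B] [Algebra R B]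
    (φ : A →ₐ[R] B) (h1 : (Localization.awayMap φ.toRingHom (algebraMap R A f)).FiniteType)
    (h2 : (Algebra.TensorProduct.map (AlgHom.id R R') φ).toRingHom.FiniteType) : φ.toRingHom.FiniteType := by
  classical
  letI : Algebra A B := φ.toRingHom.toAlgebra
  haveI : IsScalarTower R A B := IsScalarTower.of_algebraMap_eq fun r => (φ.commutes r).symm
  let g := algebraMap R A f
  let loc := algebraMap B (Localization.Away (φ.toRingHom g))
  have hnum : ∀ x : Localization.Away (φ.toRingHom g), ∃ (n : ℕ) (b : B), x * loc (φ.toRingHom g) ^ n = loc b :=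
    fun x => by
      obtain ⟨n, b, hb⟩ := IsLocalization.Away.surj (φ.toRingHom g) x
      exact ⟨n, b, hb⟩
  letI : Algebra (Localization.Away g) (Localization.Away (φ.toRingHom g)) :=
    (Localization.awayMap φ.toRingHom g).toAlgebra
  obtain ⟨s₁, hs₁⟩ := (show (Algebra.FiniteType (Localization.Away g) (Localization.Away (φ.toRingHom g))) from h1).out
  choose en num hnum using hnum
  let T := R' ⊗[R] B
  letI : Algebra (R' ⊗[R] A) T := (Algebra.TensorProduct.map (AlgHom.id R R') φ).toRingHom.toAlgebra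
  obtain ⟨s₂, hs₂⟩ := (show Algebra.FiniteType (R' ⊗[R] A) T from h2).out
  have hsplit : ∀ t : T, ∃ F : Finset B, ∀ C : Subalgebra A B, ↑F ⊆ (C : Set B) →
      t ∈ LinearMap.range ((C.val.restrictScalars R).toLinearMap.lTensor R') := fun t => by
    induction t using TensorProduct.induction_on with
    | zero => exact ⟨∅, fun C _ => zero_mem _⟩
    | add u v hu hv =>
      obtain ⟨F, hF⟩ := hu
      obtain ⟨G, hG⟩ := hv
      refine ⟨F ∪ G, fun C hC => ?_⟩
      rw [Finset.coe_union, Set.union_subset_iff] at hC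
      exact add_mem (hF C hC.1) (hG C hC.2)
    | tmul r b => exact ⟨{b}, fun C hC => ⟨r ⊗ₜ ⟨b, hC (by simp)⟩, rfl⟩⟩
  choose F hF using hsplit
  let S : Finset B := s₁.image num ∪ s₂.biUnion F
  let C : Subalgebra A B := Algebra.adjoin A (S : Set B)
  have hSC : (S : Set B) ⊆ C := Algebra.subset_adjoin
  refine (show Algebra.FiniteType A B from ⟨⟨S, ?_⟩⟩)
  rw [_root_.eq_top_iff]
  rintro b -
  let incl : C →ₐ[R] B := C.val.restrictScalars R
  suffices Function.Surjective incl.toLinearMap by
    obtain ⟨c, rfl⟩ := this b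
    exact c.2
  refine surjective h _ ?_ ?_
  · intro b
    suffices H : ∀ x : Localization.Away (φ.toRingHom g),
        ∃ n : ℕ, ∃ c ∈ C, x * loc (φ.toRingHom g) ^ n = loc c by
      obtain ⟨n, c, hc, e⟩ := H (loc b)
      rw [← map_pow, ← map_mul] at e
      obtain ⟨m, hm⟩ := IsLocalization.Away.exists_of_eq (φ.toRingHom g) e
      refine ⟨m + n, ⟨φ.toRingHom g ^ m * c, C.mul_mem (C.pow_mem (C.algebraMap_mem g) m) hc⟩, ?_⟩
      show φ.toRingHom g ^ m * c = f ^ (m + n) • b
      rw [← hm, Algebra.smul_def, map_pow, show φ.toRingHom g = algebraMap R B f from φ.commutes f]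
      ring
    intro x
    have hx : x ∈ Algebra.adjoin (Localization.Away g) (s₁ : Set (Localization.Away (φ.toRingHom g))) := hs₁ ▸ trivial
    induction hx using Algebra.adjoin_induction with
    | mem x hx =>
      exact ⟨en x, num x, hSC (Finset.mem_union_left _ (Finset.mem_image_of_mem _ hx)), hnum x⟩
    | algebraMap y =>
      obtain ⟨n, a, ha⟩ := IsLocalization.Away.surj g y
      refine ⟨n, φ.toRingHom a, C.algebraMap_mem a, ?_⟩
      have := congrArg (Localization.awayMap φ.toRingHom g) ha
      simpa [loc, Localization.awayMap, IsLocalization.Away.map, RingHom.algebraMap_toAlgebra] using this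
    | add u v _ _ hu hv =>
      obtain ⟨n, c, hc, e⟩ := hu
      obtain ⟨m, d, hd, e'⟩ := hv
      refine ⟨n + m, c * φ.toRingHom g ^ m + d * φ.toRingHom g ^ n,
        C.add_mem (C.mul_mem hc (C.pow_mem (C.algebraMap_mem g) m)) (C.mul_mem hd (C.pow_mem (C.algebraMap_mem g) n)), ?_⟩
      simp only [map_add, map_mul, map_pow, ← e, ← e', pow_add]
      ring
    | mul u v _ _ hu hv =>
      obtain ⟨n, c, hc, e⟩ := hu
      obtain ⟨m, d, hd, e'⟩ := hv
      refine ⟨n + m, c * d, C.mul_mem hc hd, ?_⟩
      simp only [map_mul, ← e, ← e', pow_add]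
      ring
  · intro t
    let P : R' ⊗[R] C →ₐ[R] T := Algebra.TensorProduct.map (AlgHom.id R R') incl
    have hP : ∀ z, P z = incl.toLinearMap.lTensor R' z := fun z => by
      induction z with
      | zero => simp
      | add u v hu hv => rw [map_add, map_add, hu, hv]
      | tmul r c => rfl
    suffices t ∈ P.range by
      obtain ⟨z, rfl⟩ := this
      exact ⟨z, (hP z).symm⟩
    have ht : t ∈ Algebra.adjoin (R' ⊗[R] A) (s₂ : Set T) := hs₂ ▸ trivial
    induction ht using Algebra.adjoin_induction with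
    | mem x hx =>
      obtain ⟨z, rfl⟩ := hF x C (fun y hy => hSC (Finset.mem_union_right _ (Finset.mem_biUnion.2 ⟨x, hx, hy⟩)))
      exact ⟨z, hP z⟩
    | algebraMap y =>
      induction y using TensorProduct.induction_on with
      | zero => rw [map_zero]; exact zero_mem _
      | add u v hu hv => rw [map_add]; exact add_mem hu hv
      | tmul r a => exact ⟨r ⊗ₜ ⟨φ a, C.algebraMap_mem a⟩, rfl⟩
    | add u v _ _ hu hv => exact add_mem hu hv
    | mul u v _ _ hu hv => exact mul_mem hu hv

end Groth.Agent.H4GlueSurj
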