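import Mathlib
import Groth.Agent.Lib.H4GlueSurj
import Groth.Agent.Lib.H4FlatSyzygy

/-! Flatness along a glueing pair. -/

universe u

open TensorProduct LinearMap

set_option linter.style.haveILetI false

namespace Groth.Agent.H4GlueFlat

section snake

variable {R : Type u} [CommRing R] {K F M P₁ P₂ C : Type u} [AddCommGroup K] [Module R K] [AddCommGroup F] [Module R F]
  [AddCommGroup M] [Module R M] [AddCommGroup P₁] [Module R P₁] [AddCommGroup P₂] [Module R P₂] [AddCommGroup C] [Module R C]

theorem lTensor_injective_of_presentation [Module.Flat R F] (i : K →ₗ[R] F) (π : F →ₗ[R] M) (he : Function.Exact i π)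
    (hπ : Function.Surjective π) (g : P₁ →ₗ[R] P₂) (p : P₂ →ₗ[R] C) (hg : Function.Injective g) (hgp : Function.Exact g p)
    (hp : Function.Surjective p) (hC : Function.Injective (i.rTensor C)) : Function.Injective (g.lTensor M) := by
  rw [injective_iff_map_eq_zero]
  intro z hz
  obtain ⟨a, rfl⟩ := LinearMap.rTensor_surjective P₁ hπ z
  have h1 : π.rTensor P₂ (g.lTensor F a) = 0 := by
    rw [← hz, ← LinearMap.comp_apply, rTensor_comp_lTensor, ← lTensor_comp_rTensor, LinearMap.comp_apply]
  obtain ⟨b, hb⟩ := (rTensor_exact P₂ he hπ _).1 h1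
  have h2 : p.lTensor K b = 0 := by
    apply hC
    rw [map_zero, ← LinearMap.comp_apply, rTensor_comp_lTensor, ← lTensor_comp_rTensor, LinearMap.comp_apply, hb,
      ← lTensor_comp_apply, hgp.linearMap_comp_eq_zero, lTensor_zero, LinearMap.zero_apply]
  obtain ⟨c, rfl⟩ := (lTensor_exact K hgp hp _).1 h2
  have h3 : a = i.rTensor P₁ c := by
    refine Module.Flat.lTensor_preserves_injective_linearMap (M := F) g hg ?_
    rw [← hb, ← LinearMap.comp_apply, ← LinearMap.comp_apply, rTensor_comp_lTensor, lTensor_comp_rTensor]
  rw [h3, ← rTensor_comp_apply, he.linearMap_comp_eq_zero, rTensor_zero, LinearMap.zero_apply]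

end snake

variable {R R' : Type u} [CommRing R] [CommRing R'] [Algebra R R'] {f : R}

/-- `M ⊗` detects elements killed by a power of `f` after localising. -/
theorem exists_pow_smul_eq_zero {K N : Type u} [AddCommGroup K] [Module R K] [AddCommGroup N] [Module R N]
    (z : K ⊗[R] N) (hz : (LocalizedModule.mkLinearMap (Submonoid.powers f) K).rTensor N z = 0) :
    ∃ n : ℕ, f ^ n • z = 0 := by
  have hT := IsLocalizedModule.rTensor (R := R) (A := R) (N := N) (Submonoid.powers f)
    (LocalizedModule.mkLinearMap (Submonoid.powers f) K)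
  obtain ⟨⟨_, l, rfl⟩, hl⟩ := (IsLocalizedModule.eq_zero_iff (Submonoid.powers f)
    (AlgebraTensorModule.rTensor R N (LocalizedModule.mkLinearMap (Submonoid.powers f) K))).mp hz
  exact ⟨l, hl⟩

variable (M : Type u) [AddCommGroup M] [Module R M]

theorem exact_bc {A B : Type u} [AddCommGroup A] [Module R A] [AddCommGroup B] [Module R B] (π : A →ₗ[R] B)
    (hπ : Function.Surjective π) : Function.Exact ((LinearMap.ker π).subtype.baseChange R') (π.baseChange R') := by
  have he : Function.Exact (LinearMap.ker π).subtype π := LinearMap.exact_subtype_ker_map π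
  have h2 := lTensor_exact (M := ↥(LinearMap.ker π)) (N := A) (P := B) (f := (LinearMap.ker π).subtype) (g := π) R' he hπ
  intro x
  exact h2 x

variable {F : Type u} [AddCommGroup F] [Module R F] [Module.Free R F] (π : F →ₗ[R] M) (hπ : Function.Surjective π)
  (h : EtGlue.IsGlueingPair R R' f) [Module.Flat R' (R' ⊗[R] M)] [Module.Flat R (LocalizedModule (Submonoid.powers f) M)]

include h hπ in
theorem baseChange_injective : Function.Injective ((LinearMap.ker π).subtype.baseChange R') := by
  classical
  let K := LinearMap.ker π
  let mK := LocalizedModule.mkLinearMap (Submonoid.powers f) K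
  let mF := LocalizedModule.mkLinearMap (Submonoid.powers f) F
  let iS := IsLocalizedModule.map (Submonoid.powers f) mK mF K.subtype
  let pS := IsLocalizedModule.map (Submonoid.powers f) mF (LocalizedModule.mkLinearMap (Submonoid.powers f) M) π
  have hiS : Function.Injective (iS.lTensor R') :=
    H4FlatDescent.lTensor_injective_of_flat_coker iS pS (IsLocalizedModule.map_injective (Submonoid.powers f) _ _ _ Subtype.val_injective)
      (IsLocalizedModule.map_exact (Submonoid.powers f) mK mF (LocalizedModule.mkLinearMap (Submonoid.powers f) M) K.subtype π (LinearMap.exact_subtype_ker_map π))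
      (IsLocalizedModule.map_surjective (Submonoid.powers f) _ _ _ hπ)
  rw [injective_iff_map_eq_zero]
  intro z hz
  have h0 : mK.lTensor R' z = 0 := by
    apply hiS
    rw [map_zero, ← LinearMap.comp_apply, ← lTensor_comp, show iS ∘ₗ mK = mF ∘ₗ K.subtype from IsLocalizedModule.map_comp (Submonoid.powers f) mK mF K.subtype,
      lTensor_comp, LinearMap.comp_apply]
    exact (congrArg _ hz).trans (map_zero _)
  have hcomm : ∀ w, mK.rTensor R' (TensorProduct.comm R R' K w) =
      TensorProduct.comm R R' (LocalizedModule (Submonoid.powers f) K) (mK.lTensor R' w) := fun w => by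
    induction w with
    | zero => simp
    | add a b ha hb => simp [ha, hb]
    | tmul a b => simp
  have h1 : mK.rTensor R' (TensorProduct.comm R R' K z) = 0 := by rw [hcomm, h0, map_zero]
  obtain ⟨l, hl⟩ := exists_pow_smul_eq_zero _ h1
  obtain ⟨k, hk, hk'⟩ := H4Glue.exists_tmul_of_smul_eq_zero h z l ((TensorProduct.comm R R' K).injective (by rw [map_smul, hl, map_zero]))
  subst hk
  suffices k = 0 by rw [this, tmul_zero]
  let b := Module.Free.chooseBasis R F
  refine Subtype.ext (b.ext_elem fun m => h.2.1 ?_)
  have e1 : algebraMap R R' (b.repr k m) = 0 := by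
    let ev : R' ⊗[R] F →ₗ[R] R' := (TensorProduct.rid R R').toLinearMap ∘ₗ (b.coord m).lTensor R'
    have := congrArg ev hz
    simpa [ev, Algebra.algebraMap_eq_smul_one] using this
  have e2 : algebraMap R (Localization.Away f) (b.repr k m) = 0 := by
    refine ((IsLocalization.Away.algebraMap_isUnit (S := Localization.Away f) f).pow l).mul_left_cancel ?_
    have := congrArg (fun w : LinearMap.ker π => b.repr (w : F) m) hk'
    simp only [Submodule.coe_smul, map_smul, Finsupp.smul_apply, smul_eq_mul, ZeroMemClass.coe_zero, map_zero, Finsupp.coe_zero, Pi.zero_apply] at this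
    rw [← map_pow, ← map_mul, this, map_zero, mul_zero]
  simp [e1, e2]

include h hπ in
theorem kernel_hyps : Module.Flat R' (R' ⊗[R] LinearMap.ker π) ∧
    Module.Flat R (LocalizedModule (Submonoid.powers f) (LinearMap.ker π)) := by
  refine ⟨H4FlatDescent.flat_kernel ((LinearMap.ker π).subtype.baseChange R') (π.baseChange R') (baseChange_injective M π hπ h)
      (exact_bc π hπ) (LinearMap.lTensor_surjective R' hπ), ?_⟩
  haveI : Module.Flat R (LocalizedModule (Submonoid.powers f) F) := by
    haveI : Module.Flat R (Localization (Submonoid.powers f)) := IsLocalization.flat (Localization (Submonoid.powers f)) (Submonoid.powers f)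
    exact Module.Flat.trans R (Localization (Submonoid.powers f)) _
  exact H4FlatDescent.flat_kernel (IsLocalizedModule.map (Submonoid.powers f) (LocalizedModule.mkLinearMap (Submonoid.powers f) _) (LocalizedModule.mkLinearMap (Submonoid.powers f) _) (LinearMap.ker π).subtype)
    (IsLocalizedModule.map (Submonoid.powers f) (LocalizedModule.mkLinearMap (Submonoid.powers f) _) (LocalizedModule.mkLinearMap (Submonoid.powers f) M) π)
    (IsLocalizedModule.map_injective (Submonoid.powers f) _ _ _ Subtype.val_injective)
    (IsLocalizedModule.map_exact (Submonoid.powers f) _ _ _ _ π (LinearMap.exact_subtype_ker_map π))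
    (IsLocalizedModule.map_surjective (Submonoid.powers f) _ _ _ hπ)

include h hπ in
theorem torsion_case (T : Type u) [AddCommGroup T] [Module R T] (hT : ∀ t : T, ∃ n : ℕ, f ^ n • t = 0) :
    Function.Injective ((LinearMap.ker π).subtype.rTensor T) := by
  let i := (LinearMap.ker π).subtype
  have htor : ∀ y : LinearMap.ker π ⊗[R] T, ∃ n : ℕ, f ^ n • y = 0 := fun y => by
    induction y with
    | zero => exact ⟨0, by simp⟩
    | add a b ha hb =>
      obtain ⟨n, hn⟩ := ha
      obtain ⟨m, hm⟩ := hb
      exact ⟨n + m, by rw [smul_add, pow_add, mul_smul, mul_smul, hm, smul_zero, add_zero, smul_comm, hn, smul_zero]⟩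
    | tmul k t =>
      obtain ⟨n, hn⟩ := hT t
      exact ⟨n, by rw [← tmul_smul, hn, tmul_zero]⟩
  rw [injective_iff_map_eq_zero]
  intro y hy
  refine H4GlueSurj.eq_zero_of_torsion h htor y ?_
  let d₁ := AlgebraTensorModule.distribBaseChange R R' (LinearMap.ker π) T
  let d₂ := AlgebraTensorModule.distribBaseChange R R' F T
  have key : ∀ w, d₂ ((i.rTensor T).baseChange R' w) = (i.baseChange R').rTensor (R' ⊗[R] T) (d₁ w) := fun w => by
    induction w with
    | zero => simp
    | add a b ha hb => simp only [map_add, ha, hb]
    | tmul c v =>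
      induction v with
      | zero => simp
      | add a b ha hb => simp only [tmul_add, map_add, ha, hb]
      | tmul k t => simp [d₁, d₂]
  have hinj : Function.Injective ((i.baseChange R').rTensor (R' ⊗[R] T)) := by
    rw [← LinearMap.lTensor_inj_iff_rTensor_inj]
    exact H4FlatDescent.lTensor_injective_of_flat_coker (i.baseChange R') (π.baseChange R') (baseChange_injective M π hπ h)
      (exact_bc π hπ) (LinearMap.lTensor_surjective R' hπ)
  refine d₁.injective (hinj ?_)
  rw [← key, map_zero, map_zero, baseChange_tmul, hy, tmul_zero, map_zero]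

include h in
theorem flat : Module.Flat R M := by
  classical
  obtain ⟨F, _, _, _, π, hπ⟩ : ∃ (F : Type u) (_ : AddCommGroup F) (_ : Module R F) (_ : Module.Free R F) (π : F →ₗ[R] M),
      Function.Surjective π :=
    ⟨M →₀ R, inferInstance, inferInstance, inferInstance, Finsupp.linearCombination R (id : M → M),
      fun n => ⟨Finsupp.single n 1, (Finsupp.linearCombination_single R _ _).trans (one_smul R n)⟩⟩
  obtain ⟨hK1, hK2⟩ := kernel_hyps M π hπ h
  haveI := hK1; haveI := hK2
  let K := LinearMap.ker π
  let i := K.subtype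
  obtain ⟨F', _, _, _, π', hπ'⟩ : ∃ (F : Type u) (_ : AddCommGroup F) (_ : Module R F) (_ : Module.Free R F) (π : F →ₗ[R] K),
      Function.Surjective π :=
    ⟨K →₀ R, inferInstance, inferInstance, inferInstance, Finsupp.linearCombination R (id : K → K),
      fun n => ⟨Finsupp.single n 1, (Finsupp.linearCombination_single R _ _).trans (one_smul R n)⟩⟩
  have hall : ∀ (N : Type u) [AddCommGroup N] [Module R N], Function.Injective (i.rTensor N) := by
    intro N _ _
    rw [injective_iff_map_eq_zero]
    intro z hz
    let φ := LocalizedModule.mkLinearMap (Submonoid.powers f) N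
    let mK := LocalizedModule.mkLinearMap (Submonoid.powers f) K
    let mF := LocalizedModule.mkLinearMap (Submonoid.powers f) F
    obtain ⟨n, hn⟩ : ∃ n : ℕ, f ^ n • z = 0 := by
      refine exists_pow_smul_eq_zero z ?_
      have hiS : Function.Injective ((IsLocalizedModule.map (Submonoid.powers f) mK mF i).rTensor N) := by
        rw [← LinearMap.lTensor_inj_iff_rTensor_inj]
        exact H4FlatDescent.lTensor_injective_of_flat_coker _ (IsLocalizedModule.map (Submonoid.powers f) mF (LocalizedModule.mkLinearMap (Submonoid.powers f) M) π)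
          (IsLocalizedModule.map_injective (Submonoid.powers f) _ _ _ Subtype.val_injective)
          (IsLocalizedModule.map_exact (Submonoid.powers f) _ _ _ _ π (LinearMap.exact_subtype_ker_map π))
          (IsLocalizedModule.map_surjective (Submonoid.powers f) _ _ _ hπ)
      apply hiS
      rw [map_zero, ← LinearMap.comp_apply, ← rTensor_comp, IsLocalizedModule.map_comp (Submonoid.powers f) mK mF i, rTensor_comp,
        LinearMap.comp_apply, hz, map_zero]
    have hzS : φ.lTensor K z = 0 := by
      let e := LinearEquiv.ofBijective _ ((Module.End.isUnit_iff _).1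
        (IsLocalizedModule.map_units φ (⟨f ^ n, n, rfl⟩ : Submonoid.powers f)))
      have he : ∀ w, e.toLinearMap.lTensor K w = f ^ n • w := fun w => by
        induction w with
        | zero => simp
        | add a b ha hb => simp [ha, hb]
        | tmul m v => rw [lTensor_tmul, ← tmul_smul]; rfl
      apply (e.lTensor K).injective
      rw [map_zero]
      exact (he _).trans (by rw [← map_smul, hn, map_zero])
    let T := LinearMap.ker φ
    have hT : ∀ t : T, ∃ n : ℕ, f ^ n • t = 0 := fun t => by
      obtain ⟨⟨_, m, rfl⟩, hm⟩ := (IsLocalizedModule.eq_zero_iff (Submonoid.powers f) φ).1 t.2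
      exact ⟨m, Subtype.ext hm⟩
    let q := φ.rangeRestrict
    have hq0 : q.lTensor K z = 0 := by
      refine lTensor_injective_of_presentation (LinearMap.ker π').subtype π'
        (LinearMap.exact_subtype_ker_map _) hπ' (LinearMap.range φ).subtype (LinearMap.range φ).mkQ
        Subtype.val_injective (LinearMap.exact_subtype_mkQ _) (Submodule.mkQ_surjective _)
        (torsion_case K π' hπ' h _ fun c => ?_) ?_
      · obtain ⟨x, rfl⟩ := Submodule.mkQ_surjective _ c
        obtain ⟨⟨v, ⟨_, m, rfl⟩⟩, hm⟩ := IsLocalizedModule.surj (Submonoid.powers f) φ x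
        exact ⟨m, by rw [← map_smul]; exact (Submodule.Quotient.mk_eq_zero _).2 ⟨v, hm.symm⟩⟩
      · rw [map_zero, ← LinearMap.comp_apply, ← lTensor_comp]
        exact hzS
    obtain ⟨y, rfl⟩ := (lTensor_exact (M := ↥T) (N := N) (P := ↥(LinearMap.range φ)) (f := T.subtype) (g := q) K
      (fun x => ⟨fun hx => ⟨⟨x, congrArg Subtype.val hx⟩, rfl⟩, fun ⟨w, hw⟩ => hw ▸ Subtype.ext w.2⟩)
      φ.surjective_rangeRestrict z).1 hq0
    have hy : i.rTensor T y = 0 := by
      refine Module.Flat.lTensor_preserves_injective_linearMap (M := F) T.subtype Subtype.val_injective ?_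
      rw [map_zero, ← LinearMap.comp_apply, lTensor_comp_rTensor, ← rTensor_comp_lTensor, LinearMap.comp_apply, hz]
    rw [(injective_iff_map_eq_zero _).1 (torsion_case M π hπ h T hT) y hy, map_zero]
  exact (Module.Flat.iff_lTensor_injective' (R := R) (M := M)).2 fun I =>
    lTensor_injective_of_presentation i π (LinearMap.exact_subtype_ker_map π) hπ I.subtype I.mkQ
      Subtype.val_injective (LinearMap.exact_subtype_mkQ I) I.mkQ_surjective (hall _)

end Groth.Agent.H4GlueFlat
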