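import Mathlib
import Groth.Agent.Lib.H4GlueSurj
import Groth.Agent.Lib.H4GlueFlat
import Groth.Agent.Lib.H4FlatSyzygy

/-! Finiteness of modules along a glueing pair. -/

universe u

open TensorProduct LinearMap

set_option linter.style.haveILetI false

namespace Groth.Agent.H4GlueFinite

variable {R R' : Type u} [CommRing R] [CommRing R'] [Algebra R R'] {f : R} (h : EtGlue.IsGlueingPair R R' f)
variable (M : Type u) [AddCommGroup M] [Module R M]

include h in
theorem finite [Module.Finite R' (R' ⊗[R] M)]
    [Module.Finite (Localization.Away f) (LocalizedModule (Submonoid.powers f) M)] : Module.Finite R M := by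
  classical
  obtain ⟨T, hT⟩ := Module.Finite.fg_top (R := R') (M := R' ⊗[R] M)
  have hex : ∀ z : R' ⊗[R] M, ∃ t : Finset M, ∀ N : Submodule R M, ↑t ⊆ (N : Set M) →
      z ∈ LinearMap.range (N.subtype.baseChange R') := fun z => by
    induction z with
    | zero => exact ⟨∅, fun _ _ => zero_mem _⟩
    | add a b ha hb =>
      obtain ⟨t, ht⟩ := ha
      obtain ⟨t', ht'⟩ := hb
      refine ⟨t ∪ t', fun N hN => ?_⟩
      rw [Finset.coe_union, Set.union_subset_iff] at hN
      exact add_mem (ht N hN.1) (ht' N hN.2)
    | tmul c w => exact ⟨{w}, fun N hN => ⟨c ⊗ₜ ⟨w, hN (by simp)⟩, rfl⟩⟩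
  choose t ht using hex
  obtain ⟨U, hU⟩ := Module.Finite.fg_top (R := Localization.Away f) (M := LocalizedModule (Submonoid.powers f) M)
  let num : LocalizedModule (Submonoid.powers f) M → M := fun x =>
    (IsLocalizedModule.surj (Submonoid.powers f) (LocalizedModule.mkLinearMap (Submonoid.powers f) M) x).choose.1
  let N : Submodule R M := Submodule.span R (↑(T.biUnion t ∪ U.image num) : Set M)
  have hN : ∀ {s : Finset M}, s ⊆ T.biUnion t ∪ U.image num → ↑s ⊆ (N : Set M) :=
    fun hs y hy => Submodule.subset_span (hs hy)
  have hsurj : Function.Surjective N.subtype := by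
    refine H4GlueSurj.surjective h _ (fun b => ?_) ?_
    · let φ := LocalizedModule.mkLinearMap (Submonoid.powers f) M
      let P : Submodule (Localization.Away f) (LocalizedModule (Submonoid.powers f) M) :=
        Submodule.localized' (Localization.Away f) (Submonoid.powers f) φ N
      have hP : φ b ∈ P := by
        have hle : ⊤ ≤ P := by
          rw [← hU, Submodule.span_le]
          intro x hx
          obtain ⟨⟨v, s⟩, hv⟩ : ∃ p : M × Submonoid.powers f, p = (IsLocalizedModule.surj (Submonoid.powers f) φ x).choose :=
            ⟨_, rfl⟩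
          have hs := (IsLocalizedModule.surj (Submonoid.powers f) φ x).choose_spec
          rw [← hv] at hs
          refine ⟨v, ?_, s, ?_⟩
          · refine hN Finset.subset_union_right (Finset.mem_image.2 ⟨x, hx, ?_⟩)
            show (IsLocalizedModule.surj (Submonoid.powers f) φ x).choose.1 = v
            rw [← hv]
          · rw [IsLocalizedModule.mk'_eq_iff]
            exact hs.symm
        exact hle trivial
      obtain ⟨v, hv, ⟨_, n, rfl⟩, e⟩ := hP
      rw [IsLocalizedModule.mk'_eq_iff, Submonoid.smul_def, ← map_smul] at e
      obtain ⟨⟨_, m, rfl⟩, hm⟩ := IsLocalizedModule.exists_of_eq (S := Submonoid.powers f) e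
      simp only [Submonoid.smul_def] at hm
      exact ⟨m + n, ⟨f ^ m • v, N.smul_mem _ hv⟩, by rw [pow_add, mul_smul]; exact hm⟩
    · show Function.Surjective (N.subtype.baseChange R')
      rw [← LinearMap.range_eq_top, eq_top_iff, ← hT, Submodule.span_le]
      exact fun z hz => ht z N fun y hy => hN Finset.subset_union_left (Finset.mem_biUnion.2 ⟨z, hz, hy⟩)
  exact Module.Finite.of_surjective (hM := Module.Finite.iff_fg.2 ⟨_, rfl⟩) N.subtype hsurj

include h in
theorem finitePresentation [Module.Flat R M] [Module.FinitePresentation R' (R' ⊗[R] M)]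
    [Module.FinitePresentation (Localization.Away f) (LocalizedModule (Submonoid.powers f) M)] :
    Module.FinitePresentation R M := by
  haveI := finite h M
  obtain ⟨n, π, hπ⟩ := Module.Finite.exists_fin' R M
  let K := LinearMap.ker π
  have key : ∀ (S : Type u) [CommRing S] [Algebra R S] [Module.FinitePresentation S (S ⊗[R] M)], Module.Finite S (S ⊗[R] K) := by
    intro S _ _ _
    have hinj : Function.Injective (K.subtype.baseChange S) :=
      H4FlatDescent.lTensor_injective_of_flat_coker K.subtype π Subtype.val_injective (LinearMap.exact_subtype_ker_map π) hπ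
    have hex : Function.Exact (K.subtype.baseChange S) (π.baseChange S) :=
      lTensor_exact S (LinearMap.exact_subtype_ker_map π) hπ
    have hfg := Module.FinitePresentation.fg_ker (π.baseChange S) (LinearMap.lTensor_surjective S hπ)
    rw [hex.linearMap_ker_eq] at hfg
    haveI := Module.Finite.iff_fg.2 hfg
    exact Module.Finite.equiv (LinearEquiv.ofInjective _ hinj).symm
  haveI : Module.FinitePresentation (Localization.Away f) (Localization.Away f ⊗[R] M) :=
    Module.FinitePresentation.of_equiv ((IsLocalizedModule.isBaseChange (Submonoid.powers f) (Localization.Away f)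
      (LocalizedModule.mkLinearMap (Submonoid.powers f) M)).equiv).symm
  haveI := key R'
  haveI := key (Localization.Away f)
  haveI : Module.Finite (Localization.Away f) (LocalizedModule (Submonoid.powers f) K) :=
    Module.Finite.equiv ((IsLocalizedModule.isBaseChange (Submonoid.powers f) (Localization.Away f)
      (LocalizedModule.mkLinearMap (Submonoid.powers f) K)).equiv)
  haveI := finite h K
  exact Module.finitePresentation_of_surjective π hπ (Module.Finite.iff_fg.1 this)

end Groth.Agent.H4GlueFinite
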