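import Mathlib
import Groth.Agent.Lib.H4GlueSurj
import Groth.Agent.Lib.H4GlueFlat
import Groth.Agent.Lib.H4GlueFinite

/-! Base change of a glueing pair to a glueable algebra. -/

universe u

open TensorProduct

set_option linter.style.haveILetI false

namespace Groth.Agent.H4GlueAlg

variable {R R' : Type u} [CommRing R] [CommRing R'] [Algebra R R'] {f : R}

/-- A glueable algebra gives a glueing pair. -/
theorem glueingPair (h : EtGlue.IsGlueingPair R R' f) {A : Type u} [CommRing A] [Algebra R A] (hA : EtGlue.IsGlueable R R' f A)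
    [Algebra A (R' ⊗[R] A)] (hal : ∀ a : A, algebraMap A (R' ⊗[R] A) a = 1 ⊗ₜ a) :
    EtGlue.IsGlueingPair A (R' ⊗[R] A) (algebraMap R A f) := by
  classical
  let A' := R' ⊗[R] A
  let g := algebraMap R A f
  have hg' : algebraMap R A' f = algebraMap A A' g := by
    rw [hal, Algebra.TensorProduct.algebraMap_apply, Algebra.algebraMap_eq_smul_one f, TensorProduct.smul_tmul, ← Algebra.algebraMap_eq_smul_one]
  have hsm : ∀ (n : ℕ) (z : A'), f ^ n • z = algebraMap A A' g ^ n * z := fun n z => by
    rw [Algebra.smul_def, map_pow, hg']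
  refine ⟨fun n hn => ⟨?_, ?_⟩, ?_, ?_, ?_⟩
  · rw [injective_iff_map_eq_zero]
    intro q hq
    obtain ⟨a, rfl⟩ := Ideal.Quotient.mk_surjective q
    rw [Ideal.quotientMap_mk, Ideal.Quotient.eq_zero_iff_mem, Ideal.map_span, Set.image_singleton] at hq
    obtain ⟨z, hz⟩ := Ideal.mem_span_singleton'.1 hq
    let I : Ideal A := Ideal.span {g ^ n}
    refine H4GlueSurj.eq_zero_of_torsion h (Q := A ⧸ I) (fun q => ⟨n, ?_⟩) _ ?_
    · obtain ⟨b, rfl⟩ := Ideal.Quotient.mk_surjective q
      rw [← algebraMap_smul A (f ^ n), map_pow, Algebra.smul_def, Ideal.Quotient.algebraMap_eq, ← map_mul,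
        Ideal.Quotient.eq_zero_iff_mem]
      exact I.mul_mem_right b (Ideal.mem_span_singleton_self _)
    · rw [mul_comm, map_pow, ← hsm, hal] at hz
      have := congrArg (((Ideal.Quotient.mkₐ R I).toLinearMap).lTensor R') hz
      rw [map_smul, LinearMap.lTensor_tmul] at this
      refine this.symm.trans ?_
      induction ((Ideal.Quotient.mkₐ R I).toLinearMap).lTensor R' z using TensorProduct.induction_on with
      | zero => simp
      | add u v hu hv => rw [smul_add, hu, hv, add_zero]
      | tmul c x =>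
        obtain ⟨b, rfl⟩ := Ideal.Quotient.mk_surjective x
        rw [← tmul_smul, ← algebraMap_smul A (f ^ n), map_pow, Algebra.smul_def, Ideal.Quotient.algebraMap_eq, ← map_mul,
          Ideal.Quotient.eq_zero_iff_mem.2 (I.mul_mem_right b (Ideal.mem_span_singleton_self _)), tmul_zero]
  · intro q
    obtain ⟨x, rfl⟩ := Ideal.Quotient.mk_surjective q
    obtain ⟨m, z', rfl⟩ := H4Glue.exists_tmul_eq_add h n x
    refine ⟨Ideal.Quotient.mk _ m, ?_⟩
    rw [Ideal.quotientMap_mk, Ideal.Quotient.eq, hal, Ideal.map_span, Set.image_singleton, Ideal.mem_span_singleton']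
    exact ⟨-z', by rw [hsm, map_pow]; ring⟩
  · intro a b hab
    rw [← sub_eq_zero]
    apply hA.1
    obtain ⟨h1, h2⟩ := Prod.ext_iff.1 hab
    refine Prod.ext ?_ ?_
    · show (1 : R') ⊗ₜ[R] (a - b) = (1 : R') ⊗ₜ[R] (0 : A)
      have h1' : algebraMap A (R' ⊗[R] A) a = algebraMap A (R' ⊗[R] A) b := h1
      rw [← hal, ← hal, map_sub, map_zero, h1', sub_self]
    · show LocalizedModule.mkLinearMap (Submonoid.powers f) A (a - b) = LocalizedModule.mkLinearMap (Submonoid.powers f) A 0
      obtain ⟨m, hm⟩ := IsLocalization.Away.exists_of_eq (S := Localization.Away g) g h2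
      rw [map_zero, IsLocalizedModule.eq_zero_iff (Submonoid.powers f)]
      exact ⟨⟨f ^ m, m, rfl⟩, by
        show f ^ m • (a - b) = 0
        rw [Algebra.smul_def, map_pow, mul_sub, hm, sub_self]⟩
  · intro x y hxy
    obtain ⟨n, a, ha⟩ := IsLocalization.Away.surj g y
    have h2 := congrArg (Localization.awayMap (algebraMap A A') g) ha
    simp only [map_mul, map_pow] at h2
    have e0 : ∀ c : A, Localization.awayMap (algebraMap A A') g (algebraMap A (Localization.Away g) c) =
        algebraMap A' (Localization.Away (algebraMap A A' g)) (algebraMap A A' c) := fun c => IsLocalization.map_eq _ c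
    rw [e0, e0, ← hxy, ← map_pow, ← map_mul] at h2
    obtain ⟨m, hm⟩ := IsLocalization.Away.exists_of_eq (algebraMap A A' g) h2
    let S := Submonoid.powers f
    let mA := LocalizedModule.mkLinearMap S A
    let mT := LocalizedModule.mkLinearMap S A'
    let w : LocalizedModule S A := IsLocalizedModule.mk' mA a (⟨f ^ n, n, rfl⟩ : S)
    have hw : EtGlue.locOfTensor R R' f A x = EtGlue.tensorOfLoc R R' f A w := by
      show mT x = IsLocalizedModule.map S mA mT (TensorProduct.mk R R' A 1) w
      rw [show w = IsLocalizedModule.mk' mA a (⟨f ^ n, n, rfl⟩ : S) from rfl, IsLocalizedModule.map_mk']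
      symm
      rw [IsLocalizedModule.mk'_eq_iff]
      show mT ((1 : R') ⊗ₜ[R] a) = f ^ n • mT x
      rw [← map_smul]
      refine (IsLocalizedModule.eq_iff_exists S mT).2 ⟨⟨f ^ m, m, rfl⟩, ?_⟩
      show f ^ m • ((1 : R') ⊗ₜ[R] a) = f ^ m • (f ^ n • x)
      rw [hsm, hsm, hsm, ← hal, ← hm]
      ring
    obtain ⟨r, hr1, hr2⟩ := hA.2 x w hw
    refine ⟨r, by rw [hal, hr1], ?_⟩
    refine ((IsLocalization.Away.algebraMap_isUnit (S := Localization.Away g) g).pow n).mul_left_injective ?_
    show algebraMap A (Localization.Away g) r * algebraMap A _ g ^ n = y * algebraMap A _ g ^ n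
    rw [ha]
    symm at hr2
    rw [show w = IsLocalizedModule.mk' mA a (⟨f ^ n, n, rfl⟩ : S) from rfl, IsLocalizedModule.mk'_eq_iff] at hr2
    change mA a = f ^ n • mA r at hr2
    rw [← map_smul] at hr2
    obtain ⟨⟨_, j, rfl⟩, hj⟩ := (IsLocalizedModule.eq_iff_exists S mA).1 hr2
    simp only [Submonoid.smul_def, Algebra.smul_def, map_pow] at hj
    rw [← map_pow, ← map_mul]
    exact (IsLocalization.eq_iff_exists (Submonoid.powers g) _).2 ⟨⟨g ^ j, j, rfl⟩, by
      show g ^ j * (r * g ^ n) = g ^ j * a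
      rw [hj]; ring⟩
  · intro z
    obtain ⟨n, x, hx⟩ := IsLocalization.Away.surj (algebraMap A A' g) z
    obtain ⟨m, s, rfl⟩ := H4Glue.exists_tmul_eq_add h n x
    have hu := (IsLocalization.Away.algebraMap_isUnit (S := Localization.Away g) g).pow n
    refine ⟨s, -(algebraMap A (Localization.Away g) m * ↑hu.unit⁻¹), ?_⟩
    refine ((IsLocalization.Away.algebraMap_isUnit (S := Localization.Away (algebraMap A A' g)) (algebraMap A A' g)).pow n).mul_left_injective ?_
    show _ * algebraMap A' _ (algebraMap A A' g) ^ n = z * _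
    rw [hx, map_neg, sub_neg_eq_add, map_mul, add_mul, hsm]
    have e0 : ∀ c : A, Localization.awayMap (algebraMap A A') g (algebraMap A (Localization.Away g) c) =
        algebraMap A' (Localization.Away (algebraMap A A' g)) (algebraMap A A' c) := fun c => IsLocalization.map_eq _ c
    have e1 : Localization.awayMap (algebraMap A A') g (↑hu.unit⁻¹ : Localization.Away g) *
        algebraMap A' (Localization.Away (algebraMap A A' g)) (algebraMap A A' g) ^ n = 1 := by
      rw [← map_pow (algebraMap A' _), ← map_pow (algebraMap A A'), ← e0, ← map_mul, map_pow, IsUnit.val_inv_mul hu, map_one]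
    rw [mul_assoc, e1, mul_one, e0, hal m, map_add, map_mul, map_pow]
    ring

variable {A B : Type u} [CommRing A] [Algebra R A] [CommRing B] [Algebra R B] [Algebra A B] [IsScalarTower R A B]

attribute [local instance] Algebra.TensorProduct.rightAlgebra

/-- `(R' ⊗ A) ⊗_A B ≅ R' ⊗ B` as modules over `R' ⊗ A`. -/
theorem exists_cancel [Algebra (R' ⊗[R] A) (R' ⊗[R] B)]
    (hal : ∀ (r : R') (a : A), algebraMap (R' ⊗[R] A) (R' ⊗[R] B) (r ⊗ₜ a) = r ⊗ₜ algebraMap A B a) :
    ∃ e : ((R' ⊗[R] A) ⊗[A] B) ≃ₗ[R' ⊗[R] A] R' ⊗[R] B, ∀ c b, e (c ⊗ₜ b) = c • ((1 : R') ⊗ₜ[R] b) := by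
  let inr : B →ₐ[R] (R' ⊗[R] B) := Algebra.TensorProduct.includeRight
  have hinr : ∀ b, inr b = (1 : R') ⊗ₜ[R] b := fun _ => rfl
  letI : Module A (R' ⊗[R] B) := Module.compHom (R' ⊗[R] B) (algebraMap A (R' ⊗[R] A))
  haveI : IsScalarTower A (R' ⊗[R] A) (R' ⊗[R] B) := ⟨fun a c x => by
    show (a • c) • x = algebraMap A (R' ⊗[R] A) a • c • x
    rw [Algebra.smul_def a c, mul_smul]⟩
  let inrA : B →ₗ[A] (R' ⊗[R] B) :=
    { toFun := inr
      map_add' := map_add inr
      map_smul' := fun a b => by
        show inr (a • b) = algebraMap A (R' ⊗[R] A) a • inr b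
        rw [Algebra.smul_def (algebraMap A (R' ⊗[R] A) a), show algebraMap A (R' ⊗[R] A) a = 1 ⊗ₜ a from rfl, hal,
          Algebra.smul_def a b]
        simp [hinr] }
  let F : ((R' ⊗[R] A) ⊗[A] B) →ₗ[R' ⊗[R] A] (R' ⊗[R] B) := inrA.liftBaseChange (R' ⊗[R] A)
  let G : (R' ⊗[R] B) →ₗ[R] (R' ⊗[R] A) ⊗[A] B := TensorProduct.lift (LinearMap.mk₂ R (fun r b => (r ⊗ₜ[R] (1 : A)) ⊗ₜ[A] b)
    (fun r s b => by rw [add_tmul, add_tmul])
    (fun c r b => by rw [← smul_tmul', ← smul_tmul'])
    (fun r b c => tmul_add _ _ _)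
    (fun c r b => by rw [← algebraMap_smul A c b, tmul_smul, algebraMap_smul]))
  have hFG : ∀ t, F (G t) = t := fun t => by
    induction t using TensorProduct.induction_on with
    | zero => simp
    | add u v hu hv => rw [map_add, map_add, hu, hv]
    | tmul r b =>
      show (r ⊗ₜ[R] (1 : A)) • inr b = r ⊗ₜ b
      rw [Algebra.smul_def, hal]
      simp [hinr]
  refine ⟨LinearEquiv.ofBijective F ⟨Function.HasLeftInverse.injective ⟨G, fun z => ?_⟩, fun t => ⟨G t, hFG t⟩⟩, fun c b => rfl⟩
  induction z using TensorProduct.induction_on with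
  | zero => simp
  | add u v hu hv => rw [map_add, map_add, hu, hv]
  | tmul c b =>
    induction c using TensorProduct.induction_on with
    | zero => simp
    | add u v hu hv => rw [add_tmul, map_add, map_add, hu, hv]
    | tmul r a =>
      have : F ((r ⊗ₜ[R] a) ⊗ₜ[A] b) = r ⊗ₜ[R] (a • b) := by
        show (r ⊗ₜ[R] a) • inr b = _
        rw [Algebra.smul_def, hal, Algebra.smul_def a b]
        simp [hinr]
      rw [this]
      show (r ⊗ₜ[R] (1 : A)) ⊗ₜ[A] (a • b) = _
      rw [← smul_tmul]
      congr 1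
      rw [Algebra.smul_def, show algebraMap A (R' ⊗[R] A) a = 1 ⊗ₜ a from rfl]
      simp

/-- The localised module of `B` is the localised ring. -/
theorem exists_locEquiv (g : A) [Algebra (Localization.Away g) (Localization.Away (algebraMap A B g))]
    [IsScalarTower A (Localization.Away g) (Localization.Away (algebraMap A B g))] :
    Nonempty (LocalizedModule (Submonoid.powers g) B ≃ₗ[Localization.Away g] Localization.Away (algebraMap A B g)) := by
  let L := Localization.Away (algebraMap A B g)
  haveI : IsLocalization (Algebra.algebraMapSubmonoid B (Submonoid.powers g)) L := by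
    rw [Algebra.algebraMapSubmonoid, Submonoid.map_powers]
    exact inferInstanceAs (IsLocalization (Submonoid.powers (algebraMap A B g)) L)
  haveI : IsLocalizedModule (Submonoid.powers g) (IsScalarTower.toAlgHom A B L).toLinearMap :=
    isLocalizedModule_iff_isLocalization.2 inferInstance
  exact ⟨(IsLocalizedModule.iso (Submonoid.powers g) (IsScalarTower.toAlgHom A B L).toLinearMap).extendScalarsOfIsLocalization
    (Submonoid.powers g) (Localization.Away g)⟩

end Groth.Agent.H4GlueAlg
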