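import Mathlib
import Groth.Agent.Lib.H4Glue

/-! Explicit form of glueing, for algebras. -/

universe u

open TensorProduct

namespace Groth.Agent.H4GlueAlgebra

open Groth.Agent.H4Glue

variable {R R' : Type u} [CommRing R] [CommRing R'] [Algebra R R'] {f : R}
  (h : EtGlue.IsGlueingPair R R' f)

include h

set_option maxHeartbeats 1000000 in
theorem glue_core (M' : Type u) [AddCommGroup M'] [Module R' M'] (M₁ : Type u) [AddCommGroup M₁]
    [Module R M₁] (hf : Function.Bijective fun x : M₁ => f • x)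
    [Module R M'] [IsScalarTower R R' M'] (α : LocalizedModule (Submonoid.powers (algebraMap R R' f)) M' ≃ₗ[R'] R' ⊗[R] M₁)
    (N : Submodule R (M' × M₁))
    (hN : ∀ p, p ∈ N ↔ α (LocalizedModule.mkLinearMap (Submonoid.powers (algebraMap R R' f)) M' p.1) = (1 : R') ⊗ₜ[R] p.2) :
    IsLocalizedModule (Submonoid.powers f) ((LinearMap.snd R M' M₁).comp N.subtype) ∧
      Function.Bijective (((LinearMap.fst R M' M₁).comp N.subtype).liftBaseChange R') := by
  classical
  let β : M' →ₗ[R'] R' ⊗[R] M₁ := α.toLinearMap.comp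
    (LocalizedModule.mkLinearMap (Submonoid.powers (algebraMap R R' f)) M')
  replace hN : ∀ p, p ∈ N ↔ β p.1 = (1 : R') ⊗ₜ[R] p.2 := hN
  have hpow : ∀ n, Function.Bijective fun x : M₁ => f ^ n • x := by
    intro n
    induction n with
    | zero => simp only [pow_zero, one_smul]; exact Function.bijective_id
    | succ n ih => simpa [pow_succ, mul_smul, Function.comp_def] using ih.comp hf
  have hTinj : ∀ n, Function.Injective fun z : R' ⊗[R] M₁ => f ^ n • z := fun n => by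
    let E : M₁ ≃ₗ[R] M₁ := LinearEquiv.ofBijective (f ^ n • LinearMap.id) (hpow n)
    have : ∀ z : R' ⊗[R] M₁, LinearEquiv.lTensor R' E z = f ^ n • z := fun z => by
      induction z with
      | zero => simp
      | tmul a b => simp [E, tmul_smul]
      | add a b ha hb => rw [map_add, ha, hb, smul_add]
    exact fun a b hab => (LinearEquiv.lTensor R' E).injective (by rw [this, this]; exact hab)
  have hβsmul : ∀ (a : R) (u : M'), β (a • u) = a • β u := fun a u => by
    rw [← algebraMap_smul R' a u, map_smul, algebraMap_smul]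
  have hβker : ∀ u : M', β u = 0 → ∃ l : ℕ, f ^ l • u = 0 := fun u hu => by
    obtain ⟨⟨_, l, rfl⟩, hs⟩ :=
      (IsLocalizedModule.eq_zero_iff (Submonoid.powers (algebraMap R R' f))
        (LocalizedModule.mkLinearMap (Submonoid.powers (algebraMap R R' f)) M')).mp
        (α.map_eq_zero_iff.mp hu)
    refine ⟨l, ?_⟩
    rw [Submonoid.smul_def] at hs
    rw [← algebraMap_smul R' (f ^ l) u, map_pow]
    exact hs
  have hβsurj : ∀ z, ∃ (u : M') (l : ℕ), f ^ l • z = β u := fun z => by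
    obtain ⟨⟨u, ⟨_, l, rfl⟩⟩, hu⟩ := IsLocalizedModule.surj (Submonoid.powers (algebraMap R R' f))
      (LocalizedModule.mkLinearMap (Submonoid.powers (algebraMap R R' f)) M') (α.symm z)
    refine ⟨u, l, ?_⟩
    rw [Submonoid.smul_def] at hu
    show _ = α _
    rw [← hu, map_smul, LinearEquiv.apply_symm_apply, ← algebraMap_smul R' (f ^ l) z, map_pow]
  let βR : M' →ₗ[R] R' ⊗[R] M₁ := { toFun := β, map_add' := β.map_add, map_smul' := hβsmul }
  let p₁ : N →ₗ[R] M' := (LinearMap.fst R M' M₁).comp N.subtype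
  let p₂ : N →ₗ[R] M₁ := (LinearMap.snd R M' M₁).comp N.subtype
  have hloc : IsLocalizedModule (Submonoid.powers f) p₂ := by
    refine ⟨?_, fun y => ?_, fun {a b} hab => ?_⟩
    · rintro ⟨_, n, rfl⟩
      exact (Module.End.isUnit_iff _).mpr (hpow n)
    · obtain ⟨u, l, hu⟩ := hβsurj ((1 : R') ⊗ₜ[R] y)
      refine ⟨(⟨(u, f ^ l • y), (hN _).mpr ?_⟩, ⟨f ^ l, l, rfl⟩), rfl⟩
      show β u = (1 : R') ⊗ₜ[R] (f ^ l • y)
      rw [← hu, tmul_smul]
    · obtain ⟨⟨u, y⟩, hu⟩ := a
      obtain ⟨⟨u', y'⟩, hu'⟩ := b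
      obtain rfl : y = y' := hab
      obtain ⟨l, hl⟩ := hβker (u - u') (by
        rw [map_sub, (hN _).mp hu, (hN _).mp hu', sub_self])
      refine ⟨⟨f ^ l, l, rfl⟩, Subtype.ext (Prod.ext ?_ rfl)⟩
      show f ^ l • u = f ^ l • u'
      rw [← sub_eq_zero, ← smul_sub, hl]
  let Φ : R' ⊗[R] N →ₗ[R'] M' := p₁.liftBaseChange R'
  let ψ : R' ⊗[R] N →ₗ[R] R' ⊗[R] M₁ := p₂.lTensor R'
  have hΦψ : ∀ z, β (Φ z) = ψ z := fun z => by
    induction z with
    | zero => simp
    | tmul r m =>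
      simp only [Φ, ψ, LinearMap.liftBaseChange_tmul, map_smul, LinearMap.lTensor_tmul]
      rw [show β (p₁ m) = (1 : R') ⊗ₜ[R] p₂ m from (hN _).mp m.2, smul_tmul', smul_eq_mul, mul_one]
    | add a b ha hb => rw [map_add, map_add, map_add, ha, hb]
  have hψker : ∀ z, ψ z = 0 → ∃ l : ℕ, f ^ l • z = 0 := fun z hz => by
    have hT := IsLocalizedModule.rTensor (R := R) (A := R) (N := R') (Submonoid.powers f) p₂
    have hcomm : ∀ z, AlgebraTensorModule.rTensor R R' p₂ (TensorProduct.comm R R' N z) =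
        TensorProduct.comm R R' M₁ (ψ z) := fun z => by
      induction z with
      | zero => simp
      | tmul r m => rfl
      | add a b ha hb => simp only [map_add, ha, hb]
    obtain ⟨⟨_, l, rfl⟩, hl⟩ := (IsLocalizedModule.eq_zero_iff (Submonoid.powers f)
      (AlgebraTensorModule.rTensor R R' p₂)).mp (by rw [hcomm z, hz, map_zero])
    refine ⟨l, (TensorProduct.comm R R' N).injective ?_⟩
    rw [map_smul, map_zero]
    exact hl
  have hΦsmul : ∀ (a : R) z, Φ (a • z) = a • Φ z := fun a z => by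
    rw [← algebraMap_smul R' a z, map_smul, algebraMap_smul]
  have hinj : Function.Injective Φ := by
    rw [injective_iff_map_eq_zero]
    intro z hz
    obtain ⟨l, hl⟩ := hψker z (by rw [← hΦψ, hz, map_zero])
    obtain ⟨m, rfl, hm⟩ := exists_tmul_of_smul_eq_zero h z l hl
    have h1 : m.1.1 = 0 := by simpa [Φ, p₁] using hz
    have h2 : m.1.2 = 0 := (hpow l).1 (by
      show f ^ l • m.1.2 = f ^ l • (0 : M₁)
      rw [smul_zero]
      exact congrArg (fun x : N => x.1.2) hm)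
    rw [show m = 0 from Subtype.ext (Prod.ext h1 h2), tmul_zero]
  have hsurj : Function.Surjective Φ := by
    have stepA : ∀ z : R' ⊗[R] M₁, ∃ (w : R' ⊗[R] N) (l : ℕ), β (Φ w) = f ^ l • z := by
      intro z
      induction z with
      | zero => exact ⟨0, 0, by simp⟩
      | tmul r y =>
        obtain ⟨⟨m, ⟨_, l, rfl⟩⟩, hm⟩ := IsLocalizedModule.surj (Submonoid.powers f) p₂ y
        refine ⟨r ⊗ₜ m, l, ?_⟩
        rw [hΦψ]
        show r ⊗ₜ[R] p₂ m = f ^ l • (r ⊗ₜ[R] y)
        rw [← hm, ← tmul_smul]; rfl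
      | add a b ha hb =>
        obtain ⟨w₁, l₁, h₁⟩ := ha
        obtain ⟨w₂, l₂, h₂⟩ := hb
        refine ⟨f ^ l₂ • w₁ + f ^ l₁ • w₂, l₁ + l₂, ?_⟩
        rw [map_add, map_add, hΦsmul, hΦsmul, hβsmul, hβsmul, h₁, h₂, ← mul_smul, ← mul_smul,
          ← pow_add, ← pow_add, Nat.add_comm l₂, smul_add]
    intro u
    obtain ⟨w, l, hw⟩ := stepA (β u)
    obtain ⟨j, hj⟩ := hβker (Φ w - f ^ l • u) (by rw [map_sub, hβsmul, hw, sub_self])
    rw [smul_sub, sub_eq_zero, ← mul_smul, ← pow_add, ← hΦsmul] at hj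
    set n := j + l
    obtain ⟨m, w', hw'⟩ := exists_tmul_eq_add h n (f ^ j • w)
    rw [hw', map_add, hΦsmul] at hj
    have hm : m.1.1 = f ^ n • (u - Φ w') := by
      rw [smul_sub, ← hj]
      simp [Φ, p₁]
    obtain ⟨y, hy⟩ := (hpow n).2 m.1.2
    have hmem : (u - Φ w', y) ∈ N := (hN _).mpr (hTinj n (by
      show f ^ n • β (u - Φ w') = f ^ n • ((1 : R') ⊗ₜ[R] y)
      rw [← hβsmul, ← hm, ← tmul_smul, show f ^ n • y = m.1.2 from hy]
      exact (hN _).mp m.2))
    refine ⟨(1 : R') ⊗ₜ ⟨_, hmem⟩ + w', ?_⟩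
    rw [map_add]
    simp [Φ, p₁]
  exact ⟨hloc, hinj, hsurj⟩

end Groth.Agent.H4GlueAlgebra
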