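import Mathlib
import Groth.Agent.Lib.H4GlueAlg
import Groth.Agent.Lib.H4GlueFinite
import Groth.Agent.Lib.H4FlatSyzygy

/-! Finite presentation of flat algebras along a glueing pair. -/

universe u

open TensorProduct LinearMap

set_option linter.style.haveILetI false

namespace Groth.Agent.H4GlueFP

variable {A B P : Type u} [CommRing A] [CommRing B] [CommRing P] [Algebra A B] [Algebra A P]

/-- After a base change, the kernel is generated by finitely many of its elements. -/
theorem exists_gen (S : Type u) [CommRing S] [Algebra A S] [Module.Flat A B] [Algebra.FinitePresentation A P]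
    [Algebra.FinitePresentation S (S ⊗[A] B)] (π : P →ₐ[A] B) (hπ : Function.Surjective π) :
    ∃ t : Finset (RingHom.ker π), ∀ N : Submodule P (RingHom.ker π), ↑t ⊆ (N : Set (RingHom.ker π)) →
      Function.Surjective ((N.subtype.restrictScalars A).lTensor S) := by
  classical
  let Kid : Ideal P := RingHom.ker π
  let incl : Kid →ₗ[A] P := Kid.subtype.restrictScalars A
  have hex : Function.Exact incl π.toLinearMap := fun x => ⟨fun hx => ⟨⟨x, hx⟩, rfl⟩, fun ⟨y, hy⟩ => hy ▸ y.2⟩
  have hinj : Function.Injective (incl.lTensor S) :=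
    H4FlatDescent.lTensor_injective_of_flat_coker incl π.toLinearMap Subtype.val_injective hex hπ
  have hexS := lTensor_exact S hex hπ
  let Φ := Algebra.TensorProduct.map (AlgHom.id S S) π
  have hΦl : ∀ z, Φ z = π.toLinearMap.lTensor S z := fun z => by
    induction z with
    | zero => simp
    | add u v hu hv => rw [map_add, map_add, hu, hv]
    | tmul r c => rfl
  have hΦ : Function.Surjective Φ := fun z => by
    obtain ⟨y, rfl⟩ := LinearMap.lTensor_surjective S (g := π.toLinearMap) hπ z
    exact ⟨y, hΦl y⟩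
  obtain ⟨T, hT⟩ := Algebra.FinitePresentation.ker_fG_of_surjective Φ hΦ
  have hsup : ∀ z : S ⊗[A] Kid, ∃ t : Finset Kid, ∀ N : Submodule P Kid, ↑t ⊆ (N : Set Kid) →
      z ∈ LinearMap.range ((N.subtype.restrictScalars A).lTensor S) := fun z => by
    induction z with
    | zero => exact ⟨∅, fun _ _ => zero_mem _⟩
    | add a b ha hb =>
      obtain ⟨t, ht⟩ := ha
      obtain ⟨t', ht'⟩ := hb
      refine ⟨t ∪ t', fun N hN => ?_⟩
      rw [Finset.coe_union, Set.union_subset_iff] at hN
      exact add_mem (ht N hN.1) (ht' N hN.2)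
    | tmul c w => exact ⟨{w}, fun N hN => ⟨c ⊗ₜ ⟨w, hN (by simp)⟩, rfl⟩⟩
  choose t ht using hsup
  have hlift : ∀ x ∈ T, ∃ w : S ⊗[A] Kid, incl.lTensor S w = x := fun x hx => by
    have hxk : Φ x = 0 := by
      have h1 : x ∈ Ideal.span (T : Set (S ⊗[A] P)) := Ideal.subset_span hx
      rw [hT] at h1
      exact h1
    exact (hexS x).1 ((hΦl x).symm.trans hxk)
  choose w hw using hlift
  refine ⟨T.attach.biUnion fun x => t (w x.1 x.2), fun N hN z => ?_⟩
  let ι : S ⊗[A] N →ₗ[A] S ⊗[A] P := (incl ∘ₗ N.subtype.restrictScalars A).lTensor S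
  let W : Ideal (S ⊗[A] P) :=
    { carrier := Set.range ι
      zero_mem' := ⟨0, map_zero _⟩
      add_mem' := by
        rintro _ _ ⟨a, rfl⟩ ⟨b, rfl⟩
        exact ⟨a + b, map_add _ _ _⟩
      smul_mem' := by
        rintro c _ ⟨a, rfl⟩
        induction c using TensorProduct.induction_on with
        | zero => exact ⟨0, by simp⟩
        | add u v hu hv =>
          obtain ⟨x, hx⟩ := hu
          obtain ⟨y, hy⟩ := hv
          exact ⟨x + y, by rw [map_add, hx, hy, add_smul]⟩
        | tmul r p =>
          induction a using TensorProduct.induction_on with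
          | zero => exact ⟨0, by simp⟩
          | add u v hu hv =>
            obtain ⟨x, hx⟩ := hu
            obtain ⟨y, hy⟩ := hv
            exact ⟨x + y, by rw [map_add, hx, hy, ← smul_add, ← map_add]⟩
          | tmul s n =>
            refine ⟨(r * s) ⊗ₜ (p • n), ?_⟩
            simp [ι, incl, Algebra.TensorProduct.tmul_mul_tmul] }
  have hker : incl.lTensor S z ∈ RingHom.ker Φ.toRingHom := (hΦl _).trans (hexS.apply_apply_eq_zero z)
  rw [← hT] at hker
  obtain ⟨y, hy⟩ : incl.lTensor S z ∈ W := by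
    refine (Ideal.span_le.2 fun x hx => ?_) hker
    obtain ⟨v, hv⟩ := ht (w x hx) N fun k hk => hN (Finset.mem_biUnion.2 ⟨⟨x, hx⟩, Finset.mem_attach _ _, hk⟩)
    refine ⟨v, ?_⟩
    rw [← hw x hx, ← hv, ← LinearMap.comp_apply, ← lTensor_comp]
  refine ⟨y, hinj ?_⟩
  rw [← hy, ← LinearMap.comp_apply, ← lTensor_comp]

theorem finitePresentation {A' : Type u} [CommRing A'] [Algebra A A'] {g : A} (hg : EtGlue.IsGlueingPair A A' g)
    [Module.Flat A B] [Algebra.FiniteType A B] [Algebra.FinitePresentation A' (A' ⊗[A] B)]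
    [Algebra.FinitePresentation (Localization.Away g) (Localization.Away g ⊗[A] B)] : Algebra.FinitePresentation A B := by
  classical
  obtain ⟨n, π, hπ⟩ := Algebra.FiniteType.iff_quotient_mvPolynomial''.1 (inferInstance : Algebra.FiniteType A B)
  obtain ⟨t₁, h₁⟩ := exists_gen A' π hπ
  obtain ⟨t₂, h₂⟩ := exists_gen (Localization.Away g) π hπ
  let N : Submodule (MvPolynomial (Fin n) A) (RingHom.ker π) := Submodule.span _ ↑(t₁ ∪ t₂)
  have hN : ∀ {t : Finset (RingHom.ker π)}, t ⊆ t₁ ∪ t₂ → ↑t ⊆ (N : Set (RingHom.ker π)) :=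
    fun ht y hy => Submodule.subset_span (ht hy)
  have hs : Function.Surjective (N.subtype.restrictScalars A) := by
    refine H4GlueSurj.surjective hg _ (fun b => ?_) (h₁ N (hN Finset.subset_union_left))
    let mk := LocalizedModule.mkLinearMap (Submonoid.powers g) (RingHom.ker π)
    let e := (IsLocalizedModule.isBaseChange (Submonoid.powers g) (Localization.Away g) mk).equiv
    obtain ⟨z, hz⟩ := h₂ N (hN Finset.subset_union_right) (1 ⊗ₜ b)
    obtain ⟨m, hm⟩ : ∃ (m : ℕ) , ∃ a : N, mk ((N.subtype.restrictScalars A) a) = g ^ m • e ((N.subtype.restrictScalars A).lTensor (Localization.Away g) z) := by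
      clear hz
      induction z using TensorProduct.induction_on with
      | zero => exact ⟨0, 0, by simp⟩
      | add u v hu hv =>
        obtain ⟨m, a, ha⟩ := hu
        obtain ⟨k, b, hb⟩ := hv
        refine ⟨m + k, g ^ k • a + g ^ m • b, ?_⟩
        rw [map_add, map_add, map_smul, map_smul, map_smul, map_smul, ha, hb, map_add, map_add, smul_add, smul_smul, smul_smul, ← pow_add, ← pow_add, add_comm k m]
      | tmul c a =>
        obtain ⟨m, r, hr⟩ := IsLocalization.Away.surj g c
        refine ⟨m, r • a, ?_⟩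
        rw [LinearMap.lTensor_tmul, IsBaseChange.equiv_tmul, map_smul, map_smul, ← smul_assoc, Algebra.smul_def (g ^ m),
          map_pow, mul_comm, hr, algebraMap_smul]
    obtain ⟨a, ha⟩ := hm
    rw [hz, IsBaseChange.equiv_tmul, one_smul, ← map_smul] at ha
    obtain ⟨⟨_, j, rfl⟩, hj⟩ := (IsLocalizedModule.eq_iff_exists (Submonoid.powers g) mk).1 ha
    exact ⟨j + m, g ^ j • a, by rw [map_smul, pow_add, mul_smul]; exact hj⟩
  have hfin : Module.Finite (MvPolynomial (Fin n) A) (RingHom.ker π) :=
    Module.Finite.of_surjective (hM := Module.Finite.iff_fg.2 ⟨_, rfl⟩) N.subtype hs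
  exact Algebra.FinitePresentation.of_surjective hπ (Module.Finite.iff_fg.1 hfin)

end Groth.Agent.H4GlueFP
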