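import Mathlib
import Groth.Prelude.Def_DRing2
import Groth.Agent.Lib.H5FCxTor
import Groth.Agent.Lib.H4GlueFlat

/-! Vanishing of `Tor₁(R', -)` along a glueing pair. -/

universe u

open TensorProduct LinearMap CategoryTheory

set_option linter.style.haveILetI false

namespace Groth.Agent.H4GlueTor

variable {R R' : Type u} [CommRing R] [CommRing R'] [Algebra R R']

/-- `Tor₁` vanishes when one presentation stays injective. -/
theorem subsingleton_tor {J G C : Type u} [AddCommGroup J] [Module R J] [AddCommGroup G] [Module R G] [Module.Flat R G]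
    [AddCommGroup C] [Module R C] (i : J →ₗ[R] G) (π : G →ₗ[R] C) (hi : Function.Injective i) (he : Function.Exact i π)
    (hπ : Function.Surjective π) (h : Function.Injective (i.lTensor R')) :
    Subsingleton (DRing.Tor R 1 R' C) := by
  let P : ProjectiveResolution (ModuleCat.of R C) := Classical.choice HasProjectiveResolution.out
  obtain ⟨e⟩ := Groth.Agent.H5FCxTor.torOne_equiv R' C P
  let p := (P.π.f 0).hom
  have hp : Function.Surjective p := (ModuleCat.epi_iff_surjective (P.π.f 0)).1 inferInstance
  obtain ⟨F, _, _, _, q, hq⟩ : ∃ (F : Type u) (_ : AddCommGroup F) (_ : Module R F) (_ : Module.Free R F) (q : F →ₗ[R] R'),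
      Function.Surjective q :=
    ⟨R' →₀ R, inferInstance, inferInstance, inferInstance, Finsupp.linearCombination R (id : R' → R'),
      fun n => ⟨Finsupp.single n 1, (Finsupp.linearCombination_single R _ _).trans (one_smul R n)⟩⟩
  have h1 : Function.Injective ((LinearMap.ker q).subtype.lTensor C) :=
    H4GlueFlat.lTensor_injective_of_presentation i π he hπ (LinearMap.ker q).subtype q Subtype.val_injective
      (LinearMap.exact_subtype_ker_map q) hq (by rwa [← LinearMap.lTensor_inj_iff_rTensor_inj])
  have h2 : Function.Injective ((LinearMap.ker p).subtype.lTensor R') :=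
    H4GlueFlat.lTensor_injective_of_presentation (LinearMap.ker q).subtype q (LinearMap.exact_subtype_ker_map q) hq
      (LinearMap.ker p).subtype p Subtype.val_injective (LinearMap.exact_subtype_ker_map p) hp
      (by rwa [← LinearMap.lTensor_inj_iff_rTensor_inj])
  haveI : Subsingleton (LinearMap.ker ((LinearMap.ker (P.π.f 0).hom).subtype.lTensor R')) :=
    ⟨fun a b => Subtype.ext (h2 ((LinearMap.mem_ker.1 a.2).trans (LinearMap.mem_ker.1 b.2).symm))⟩
  exact e.toEquiv.subsingleton

variable {f : R} (h : EtGlue.IsGlueingPair R R' f)

include h in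
/-- A free presentation whose localisation stays injective. -/
theorem injective_of_localized {K F : Type u} [AddCommGroup K] [Module R K] [AddCommGroup F] [Module R F] [Module.Free R F]
    (i : K →ₗ[R] F) (hi : Function.Injective i)
    (hiS : Function.Injective ((IsLocalizedModule.map (Submonoid.powers f) (LocalizedModule.mkLinearMap (Submonoid.powers f) K)
      (LocalizedModule.mkLinearMap (Submonoid.powers f) F) i).lTensor R')) : Function.Injective (i.lTensor R') := by
  let mK := LocalizedModule.mkLinearMap (Submonoid.powers f) K
  let mF := LocalizedModule.mkLinearMap (Submonoid.powers f) F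
  rw [injective_iff_map_eq_zero]
  intro z hz
  have h0 : mK.lTensor R' z = 0 := by
    apply hiS
    rw [map_zero, ← LinearMap.comp_apply, ← lTensor_comp,
      show IsLocalizedModule.map (Submonoid.powers f) mK mF i ∘ₗ mK = mF ∘ₗ i from IsLocalizedModule.map_comp _ mK mF i,
      lTensor_comp, LinearMap.comp_apply, hz, map_zero]
  have hcomm : ∀ w, mK.rTensor R' (TensorProduct.comm R R' K w) =
      TensorProduct.comm R R' (LocalizedModule (Submonoid.powers f) K) (mK.lTensor R' w) := fun w => by
    induction w with
    | zero => simp
    | add a b ha hb => simp [ha, hb]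
    | tmul a b => simp
  obtain ⟨l, hl⟩ := H4GlueFlat.exists_pow_smul_eq_zero _ (show mK.rTensor R' (TensorProduct.comm R R' K z) = 0 by
    rw [hcomm, h0, map_zero])
  obtain ⟨k, rfl, hk⟩ := H4Glue.exists_tmul_of_smul_eq_zero h z l
    ((TensorProduct.comm R R' K).injective (by rw [map_smul, hl, map_zero]))
  suffices k = 0 by rw [this, tmul_zero]
  let b := Module.Free.chooseBasis R F
  refine hi ((b.ext_elem fun m => h.2.1 ?_).trans (map_zero i).symm)
  have e1 : algebraMap R R' (b.repr (i k) m) = 0 := by
    have := congrArg ((TensorProduct.rid R R').toLinearMap ∘ₗ (b.coord m).lTensor R') hz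
    simpa [Algebra.algebraMap_eq_smul_one] using this
  have e2 : algebraMap R (Localization.Away f) (b.repr (i k) m) = 0 := by
    refine ((IsLocalization.Away.algebraMap_isUnit (S := Localization.Away f) f).pow l).mul_left_cancel ?_
    have := congrArg (fun w => b.repr (i w) m) hk
    simp only [map_smul, Finsupp.smul_apply, smul_eq_mul, map_zero, Finsupp.coe_zero, Pi.zero_apply] at this
    rw [← map_pow, ← map_mul, this, map_zero, mul_zero]
  simp [e1, e2]

include h in
/-- Kernel of torsion. -/
theorem tor_of_torsion_kernel {C : Type u} [AddCommGroup C] [Module R C] (π : R →ₗ[R] C) (hπ : Function.Surjective π)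
    (htor : ∀ x : LinearMap.ker π, ∃ n : ℕ, f ^ n • x = 0) : Subsingleton (DRing.Tor R 1 R' C) := by
  refine subsingleton_tor (LinearMap.ker π).subtype π Subtype.val_injective (LinearMap.exact_subtype_ker_map π) hπ
    (injective_of_localized h _ Subtype.val_injective ?_)
  haveI : Subsingleton (LocalizedModule (Submonoid.powers f) (LinearMap.ker π)) := by
    refine subsingleton_of_forall_eq 0 fun x => ?_
    induction x using LocalizedModule.induction_on with
    | _ m s =>
      obtain ⟨n, hn⟩ := htor m
      rw [← LocalizedModule.zero_mk s, LocalizedModule.mk_eq]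
      exact ⟨⟨f ^ n, n, rfl⟩, by
        simp only [Submonoid.smul_def, smul_zero]
        rw [smul_comm, hn, smul_zero]⟩
  haveI : Subsingleton (R' ⊗[R] LocalizedModule (Submonoid.powers f) (LinearMap.ker π)) := inferInstance
  exact fun a b _ => Subsingleton.elim a b

include h in
/-- Torsion modules. -/
theorem tor_of_torsion (C : Type u) [AddCommGroup C] [Module R C] (htor : ∀ c : C, ∃ n : ℕ, f ^ n • c = 0) :
    Subsingleton (DRing.Tor R 1 R' C) := by
  obtain ⟨F, _, _, _, π, hπ⟩ : ∃ (F : Type u) (_ : AddCommGroup F) (_ : Module R F) (_ : Module.Free R F) (π : F →ₗ[R] C),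
      Function.Surjective π :=
    ⟨C →₀ R, inferInstance, inferInstance, inferInstance, Finsupp.linearCombination R (id : C → C),
      fun n => ⟨Finsupp.single n 1, (Finsupp.linearCombination_single R _ _).trans (one_smul R n)⟩⟩
  refine subsingleton_tor (LinearMap.ker π).subtype π Subtype.val_injective (LinearMap.exact_subtype_ker_map π) hπ
    (injective_of_localized h _ Subtype.val_injective ?_)
  let mK := LocalizedModule.mkLinearMap (Submonoid.powers f) (LinearMap.ker π)
  let mF := LocalizedModule.mkLinearMap (Submonoid.powers f) F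
  have hb : Function.Bijective (IsLocalizedModule.map (Submonoid.powers f) mK mF (LinearMap.ker π).subtype) := by
    refine ⟨IsLocalizedModule.map_injective _ _ _ _ Subtype.val_injective, fun y => ?_⟩
    obtain ⟨⟨x, s⟩, rfl⟩ := IsLocalizedModule.mk'_surjective (Submonoid.powers f) mF y
    obtain ⟨n, hn⟩ := htor (π x)
    let t : Submonoid.powers f := ⟨f ^ n, n, rfl⟩
    refine ⟨IsLocalizedModule.mk' mK ⟨f ^ n • x, LinearMap.mem_ker.2 (by rw [map_smul, hn])⟩ (t * s), ?_⟩
    rw [IsLocalizedModule.map_mk', Function.uncurry_apply_pair]
    exact IsLocalizedModule.mk'_cancel_left mF x t s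
  exact (LinearEquiv.lTensor R' (LinearEquiv.ofBijective _ hb)).injective

end Groth.Agent.H4GlueTor
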