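import Mathlib
import Groth.Agent.Lib.H4HenselSections

/-! Finite étale algebras and finite projective modules over Henselian pairs. -/

set_option autoImplicit false

universe u v w

namespace Groth.Agent.H4HenselPair

open Polynomial TensorProduct

theorem baseChange_algHom_bijective {A : Type u} [CommRing A] (I : Ideal A) [HenselianRing A I]
    (K : Type u) [CommRing K] [Algebra A K] (hK : Function.Surjective (algebraMap A K))
    (hker : RingHom.ker (algebraMap A K) = I)
    (B₁ B₂ : Type u) [CommRing B₁] [CommRing B₂] [Algebra A B₁] [Algebra A B₂]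
    [Algebra.Etale A B₁] [Algebra.IsIntegral A B₂] :
    Function.Bijective (fun φ : B₁ →ₐ[A] B₂ => Algebra.TensorProduct.map (AlgHom.id K K) φ) := by
  have := henselianRing_of_isIntegral I B₂
  set L := I.map (algebraMap A B₂)
  have hbij := algHom_bijective_of_etale (A := A) B₂ L B₁
  have hL : ∀ x ∈ L, (1 : K) ⊗ₜ[A] x = (0 : K ⊗[A] B₂) := by
    intro x hx
    have hle : L ≤ RingHom.ker ((Algebra.TensorProduct.includeRight : B₂ →ₐ[A] K ⊗[A] B₂) :
        B₂ →+* K ⊗[A] B₂) := by
      rw [Ideal.map_le_iff_le_comap]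
      intro a ha
      rw [← hker, RingHom.mem_ker] at ha
      rw [Ideal.mem_comap, RingHom.mem_ker, AlgHom.coe_toRingHom, AlgHom.commutes,
        IsScalarTower.algebraMap_apply A K (K ⊗[A] B₂), ha, map_zero]
    exact hle hx
  choose r hr using hK
  have hr' : ∀ k a, algebraMap A K a = k → r k - a ∈ I := fun k a h => by
    rw [← hker, RingHom.mem_ker, map_sub, hr, h, sub_self]
  let lam : K →ₐ[A] B₂ ⧸ L :=
    { toFun := fun k => algebraMap A (B₂ ⧸ L) (r k)
      map_one' := by
        rw [← map_one (algebraMap A (B₂ ⧸ L)), ← sub_eq_zero, ← map_sub]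
        exact Ideal.Quotient.eq_zero_iff_mem.mpr (Ideal.mem_map_of_mem _ (hr' 1 1 (map_one _)))
      map_mul' := fun x y => by
        rw [← map_mul, ← sub_eq_zero, ← map_sub]
        exact Ideal.Quotient.eq_zero_iff_mem.mpr
          (Ideal.mem_map_of_mem _ (hr' _ _ (by rw [map_mul, hr, hr])))
      map_zero' := by
        rw [← map_zero (algebraMap A (B₂ ⧸ L)), ← sub_eq_zero, ← map_sub]
        exact Ideal.Quotient.eq_zero_iff_mem.mpr (Ideal.mem_map_of_mem _ (hr' 0 0 (map_zero _)))
      map_add' := fun x y => by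
        rw [← map_add, ← sub_eq_zero, ← map_sub]
        exact Ideal.Quotient.eq_zero_iff_mem.mpr
          (Ideal.mem_map_of_mem _ (hr' _ _ (by rw [map_add, hr, hr])))
      commutes' := fun a => by
        rw [← sub_eq_zero, ← map_sub]
        exact Ideal.Quotient.eq_zero_iff_mem.mpr (Ideal.mem_map_of_mem _ (hr' _ _ rfl)) }
  let q : K ⊗[A] B₂ →ₐ[A] B₂ ⧸ L :=
    Algebra.TensorProduct.lift lam (Ideal.Quotient.mkₐ A L) fun _ _ => .all _ _
  have hq : ∀ x, q ((1 : K) ⊗ₜ[A] x) = Ideal.Quotient.mk L x := fun x => by simp [q]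
  refine ⟨fun φ ψ h => ?_, fun Φ => ?_⟩
  · refine hbij.injective (AlgHom.ext fun b => ?_)
    have := congrArg q (AlgHom.congr_fun h ((1 : K) ⊗ₜ[A] b))
    simpa [hq] using this
  · obtain ⟨φ, hφ⟩ := hbij.surjective
      ((q.comp (Φ.restrictScalars A)).comp Algebra.TensorProduct.includeRight)
    refine ⟨φ, Algebra.TensorProduct.ext (by ext) (AlgHom.ext fun b => ?_)⟩
    have h1 : Ideal.Quotient.mk L (φ b) = q (Φ ((1 : K) ⊗ₜ[A] b)) := AlgHom.congr_fun hφ b
    have h2 : ∀ z : K ⊗[A] B₂, ∃ x : B₂, z = (1 : K) ⊗ₜ[A] x := by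
      intro z
      induction z with
      | zero => exact ⟨0, by simp⟩
      | tmul k x =>
        exact ⟨r k • x, by rw [← smul_tmul, Algebra.smul_def, mul_one, hr]⟩
      | add a b ha hb =>
        obtain ⟨x, rfl⟩ := ha
        obtain ⟨y, rfl⟩ := hb
        exact ⟨x + y, by rw [tmul_add]⟩
    obtain ⟨x, hx⟩ := h2 (Φ ((1 : K) ⊗ₜ[A] b))
    rw [hx, hq, Ideal.Quotient.eq] at h1
    have := hL _ h1
    rw [tmul_sub, sub_eq_zero] at this
    simpa [hx] using this

/-- Idempotent endomorphisms lift along a Henselian pair. -/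
theorem exists_idempotent_end_lift {A : Type u} [CommRing A] (I : Ideal A) [HenselianRing A I]
    {M : Type v} [AddCommGroup M] [Module A M] [Module.Finite A M] (b : Module.End A M)
    (hb : ∀ x, b (b x) - b x ∈ I • (⊤ : Submodule A M)) :
    ∃ e : Module.End A M, IsIdempotentElem e ∧ ∀ x, e x - b x ∈ I • (⊤ : Submodule A M) := by
  classical
  rcases subsingleton_or_nontrivial (A ⧸ I) with hAI | hAI
  · refine ⟨0, IsIdempotentElem.zero, fun x => ?_⟩
    have h1 : I = ⊤ := Ideal.Quotient.subsingleton_iff.mp hAI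
    simp [h1]
  obtain ⟨p, hp, -, hpI, hp0⟩ :=
    LinearMap.exists_monic_and_natDegree_eq_and_coeff_mem_pow_and_aeval_eq_zero A (b * b - b) I
      (by rintro _ ⟨x, rfl⟩; exact hb x)
  have : Nontrivial A := (Ideal.Quotient.mk I).domain_nontrivial
  set N := p.natDegree + 1 with hNdef
  let F : A[X] := (X ^ 2 - X) * p.comp (X ^ 2 - X)
  have hbot : (p.map (Ideal.Quotient.mk I)) = X ^ p.natDegree := by
    ext j
    rw [coeff_map, coeff_X_pow]
    split_ifs with h
    · subst h; rw [hp.coeff_natDegree, map_one]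
    · rw [Ideal.Quotient.eq_zero_iff_mem]
      rcases lt_or_gt_of_ne h with h | h
      · exact Ideal.pow_le_self (I := I) (n := p.natDegree - j) (by omega) (hpI j)
      · rw [coeff_eq_zero_of_natDegree_lt h]; exact I.zero_mem
  have hq : (X ^ 2 - X : A[X]).Monic := monic_X_pow_sub (degree_X_le.trans_lt (by norm_num))
  have hqd : (X ^ 2 - X : A[X]).natDegree = 2 := by
    rw [natDegree_sub_eq_left_of_natDegree_lt (by simp), natDegree_X_pow]
  have hFm : F.Monic := hq.mul (hp.comp hq (by rw [hqd]; norm_num))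
  have hG : (X ^ N : (A ⧸ I)[X]).Monic := monic_X_pow _
  have hH : ((X - Polynomial.C (1 : A ⧸ I)) ^ N).Monic := (monic_X_sub_C _).pow _
  have hFmap : F.map (Ideal.Quotient.mk I) = X ^ N * (X - Polynomial.C 1) ^ N := by
    simp only [F, Polynomial.map_mul, Polynomial.map_comp, Polynomial.map_sub, Polynomial.map_pow,
      map_X, hbot, X_pow_comp, N, C_1, ← mul_pow]
    ring
  obtain ⟨G, H, -, -, ⟨u, v, huv⟩, hGH, hG1, hH1⟩ := exists_factorization I F hFm _ _ hG hH
    (IsCoprime.pow (by exact ⟨1, -1, by simp⟩)) hFmap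
    (by rw [← hFm.natDegree_map (Ideal.Quotient.mk I), hFmap, hG.natDegree_mul hH])
  let ev := Polynomial.aeval (R := A) b
  have hF0 : ev F = 0 := by
    have h1 : ev (p.comp (X ^ 2 - X)) = 0 := by
      simp only [ev, aeval_comp, map_sub, map_pow, aeval_X]
      rw [pow_two]; exact hp0
    rw [show F = (X ^ 2 - X) * p.comp (X ^ 2 - X) from rfl, map_mul, h1, mul_zero]
  refine ⟨ev (u * G), ?_, fun x => ?_⟩
  · show _ * _ = _
    rw [← map_mul, ← sub_eq_zero, ← map_sub]
    rw [show u * G * (u * G) - u * G = (-(u * v)) * F by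
      rw [← hGH]; linear_combination (u * G) * huv]
    rw [map_mul, hF0, mul_zero]
  · -- compute modulo `I`
    let W : Submodule A M := I • ⊤
    have hW : ∀ (g : Module.End A M) (z : M), z ∈ W → g z ∈ W := fun g z hz => by
      have := Submodule.mem_map_of_mem (f := g) hz
      rw [Submodule.map_smul''] at this
      exact Submodule.smul_mono le_rfl le_top this
    have hC : ∀ P : A[X], P.map (Ideal.Quotient.mk I) = 0 → ∀ z, ev P z ∈ W := by
      intro P hP z
      simp only [ev, aeval_eq_sum_range, LinearMap.sum_apply, LinearMap.smul_apply]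
      refine Submodule.sum_mem _ fun i _ => Submodule.smul_mem_smul ?_ trivial
      rw [← Ideal.Quotient.eq_zero_iff_mem, ← coeff_map, hP, coeff_zero]
    have hid : ∀ z, (ev ((X : A[X]) * X - X)) z ∈ W := fun z => by
      simpa [ev] using hb z
    have hdiv : ∀ k, (X : A[X]) * X - X ∣ X ^ (k + 1) - X := by
      intro k
      induction k with
      | zero => simp
      | succ k ih =>
        have : (X : A[X]) ^ (k + 1 + 1) - X = X * (X ^ (k + 1) - X) + (X * X - X) := by ring
        rw [this]
        exact dvd_add (dvd_mul_of_dvd_right ih _) dvd_rfl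
    have hdivW : ∀ P : A[X], (X : A[X]) * X - X ∣ P → ∀ z, ev P z ∈ W := by
      rintro _ ⟨c, rfl⟩ z
      rw [map_mul, Module.End.mul_apply]
      exact hid _
    have hmod : ∀ P Q : A[X], P.map (Ideal.Quotient.mk I) = Q.map (Ideal.Quotient.mk I) →
        ∀ z, ev P z - ev Q z ∈ W := fun P Q h z => by
      rw [← LinearMap.sub_apply, ← map_sub]
      exact hC _ (by rw [Polynomial.map_sub, h, sub_self]) z
    have e1 := hmod (u * G * X) (u * X ^ N * X) (by simp [hG1]) x
    have e2 := hmod (v * H * X) (v * ((X - 1) ^ N * X)) (by simp [hH1, mul_assoc]) x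
    have e3 := hdivW (v * ((X - 1) ^ N * X))
      ⟨v * (X - 1) ^ p.natDegree, by rw [hNdef, pow_succ]; ring⟩ x
    have e4 := hdivW (u * X ^ N * X - u * X ^ N)
      (by
        obtain ⟨c1, hc1⟩ := hdiv N
        obtain ⟨c2, hc2⟩ := hdiv p.natDegree
        exact ⟨u * (c1 - c2), by rw [hNdef] at *; linear_combination u * hc1 - u * hc2⟩) x
    have e5 := hmod (u * G) (u * X ^ N) (by simp [hG1]) x
    have e6 : ev (u * G * X) x + ev (v * H * X) x = b x := by
      rw [← LinearMap.add_apply, ← map_add, ← add_mul, huv, one_mul]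
      simp [ev]
    rw [map_sub, LinearMap.sub_apply] at e4
    have := W.sub_mem (W.sub_mem e5 e4) (W.add_mem (W.add_mem e1 e2) e3)
    convert this using 1
    rw [← e6]; abel

end Groth.Agent.H4HenselPair
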