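import Mathlib
import Groth.Agent.Lib.H4EtalePoint
import Groth.Agent.Lib.H4HenselEtale

/-! Splitting off the finite part of a finite type algebra over a henselian local ring. -/

set_option autoImplicit false

universe u

namespace Groth.Agent.H4HenselSplit

open IsLocalRing TensorProduct

variable {R S : Type u} [CommRing R] [CommRing S] [Algebra R S]

theorem exists_idempotent_of_quasiFiniteAt [HenselianLocalRing R] [Algebra.FiniteType R S]
    (q : Ideal S) [q.IsPrime] [q.LiesOver (maximalIdeal R)] [Algebra.QuasiFiniteAt R q] :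
    ∃ e : S, IsIdempotentElem e ∧ e ∉ q ∧ Module.Finite R (S ⧸ Ideal.span {1 - e}) := by
  obtain ⟨R', _, _, _, P, _, _, e, he, P', _, _, hP'q, heP', hpP, hfin, -⟩ :=
    Algebra.exists_etale_isIdempotentElem_forall_liesOver_eq (maximalIdeal R) q
  obtain ⟨σ, hσP, -⟩ := H4EtPoint.exists_point (maximalIdeal R) P (P.over_def _) hpP
  let κe := AlgEquiv.ofBijective
    (IsScalarTower.toAlgHom R (R ⧸ maximalIdeal R) (maximalIdeal R).ResidueField)
    (maximalIdeal R).bijective_algebraMap_quotient_residueField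
  obtain ⟨τ, hτ⟩ := H4HenselPair.exists_lift_of_etale (maximalIdeal R) R'
    (κe.symm.toAlgHom.comp σ)
  have hP : ∀ x, x ∈ P ↔ τ x ∈ maximalIdeal R := fun x => by
    rw [← hσP, ← Ideal.Quotient.eq_zero_iff_mem (I := maximalIdeal R)]
    have : Ideal.Quotient.mk (maximalIdeal R) (τ x) = κe.symm (σ x) := AlgHom.congr_fun hτ x
    rw [this, map_eq_zero_iff _ κe.symm.injective]
    exact Iff.rfl
  let Φ : R' ⊗[R] S →ₐ[R] S :=
    Algebra.TensorProduct.lift ((Algebra.ofId R S).comp τ) (AlgHom.id R S) fun _ _ => .all _ _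
  let e' := Φ e
  have : (q.comap Φ.toRingHom).IsPrime := Ideal.IsPrime.comap _
  have : (q.comap Φ.toRingHom).LiesOver P := by
    refine ⟨Ideal.ext fun x => ?_⟩
    show x ∈ P ↔ Φ (x ⊗ₜ 1) ∈ q
    rw [hP, (q.over_def (maximalIdeal R))]
    simp [Φ, Algebra.ofId_apply]
  have hPeq : q.comap Φ.toRingHom = P' := by
    refine Ideal.eq_of_comap_eq_comap_of_bijective_residueFieldMap hpP _ _ ?_
    rw [hP'q, Ideal.comap_comap]
    ext s
    simp [Φ]
  refine ⟨e', he.map Φ, fun h => heP' (hPeq ▸ h), ?_⟩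
  let Q := S ⧸ Ideal.span {1 - e'}
  let g : R' ⊗[R] S →+* Q := (Ideal.Quotient.mk _).comp Φ.toRingHom
  have hge : g e = 1 := by
    rw [eq_comm, ← map_one (Ideal.Quotient.mk (Ideal.span {1 - e'}))]
    exact Ideal.Quotient.eq.mpr (Ideal.mem_span_singleton_self _)
  let ψ : Localization.Away e →+* Q := IsLocalization.Away.lift e (g := g) (hge ▸ isUnit_one)
  have hψ : ∀ z, ψ (algebraMap _ _ z) = g z := fun z => IsLocalization.lift_eq _ z
  obtain ⟨G, hG⟩ := hfin.fg_top
  classical
  refine ⟨⟨G.image ψ, eq_top_iff.mpr fun y _ => ?_⟩⟩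
  obtain ⟨s, rfl⟩ := Ideal.Quotient.mk_surjective y
  have hs : ψ (algebraMap _ _ ((1 : R') ⊗ₜ[R] s)) = Ideal.Quotient.mk _ s := by
    rw [hψ]; simp [g, Φ]
  rw [← hs]
  have hmem : algebraMap (R' ⊗[R] S) (Localization.Away e) ((1 : R') ⊗ₜ[R] s) ∈
      Submodule.span R' (G : Set (Localization.Away e)) := hG ▸ Submodule.mem_top
  generalize algebraMap (R' ⊗[R] S) (Localization.Away e) ((1 : R') ⊗ₜ[R] s) = w at hmem ⊢
  induction hmem using Submodule.span_induction with
  | mem x hx => exact Submodule.subset_span (Finset.mem_image_of_mem ψ hx)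
  | zero => rw [map_zero]; exact zero_mem _
  | add a b _ _ ha hb => rw [map_add]; exact add_mem ha hb
  | smul r x _ hx =>
    have : ψ (r • x) = τ r • ψ x := by
      rw [Algebra.smul_def, map_mul,
        IsScalarTower.algebraMap_apply R' (R' ⊗[R] S) (Localization.Away e), hψ, Algebra.smul_def]
      simp [g, Φ, Algebra.ofId_apply]
      rfl
    rw [this]
    exact Submodule.smul_mem _ _ hx

theorem finite_join (e f : S) (he : IsIdempotentElem e)
    [Module.Finite R (S ⧸ Ideal.span {1 - e})] [Module.Finite R (S ⧸ Ideal.span {1 - f})] :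
    Module.Finite R (S ⧸ Ideal.span {1 - (e + f - e * f)}) := by
  let J := Ideal.span {1 - (e + f - e * f)}
  have lift : ∀ (c x : S), (∀ y, c * (y * x) ∈ J) → ∃ L : (S ⧸ Ideal.span {x}) →ₗ[R] S ⧸ J,
      ∀ a, L (Ideal.Quotient.mk _ a) = Ideal.Quotient.mk J (c * a) := by
    intro c x h
    refine ⟨(Submodule.liftQ ((Ideal.span {x}).restrictScalars R)
      ((Ideal.Quotient.mkₐ R J).toLinearMap.comp (LinearMap.mulLeft R c)) fun z hz => ?_).comp
      (Submodule.Quotient.restrictScalarsEquiv R (Ideal.span {x})).symm.toLinearMap, fun a => rfl⟩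
    obtain ⟨y, rfl⟩ := Ideal.mem_span_singleton'.mp hz
    exact Ideal.Quotient.eq_zero_iff_mem.mpr (h y)
  obtain ⟨L₁, hL₁⟩ := lift e (1 - e) fun y => by
    rw [show e * (y * (1 - e)) = 0 by linear_combination (-y) * he.eq]
    exact zero_mem _
  obtain ⟨L₂, hL₂⟩ := lift (1 - e) (1 - f) fun y =>
    Ideal.mem_span_singleton'.mpr ⟨y, by ring⟩
  refine Module.Finite.of_surjective (L₁.coprod L₂) fun z => ?_
  obtain ⟨s, rfl⟩ := Ideal.Quotient.mk_surjective z
  refine ⟨(Ideal.Quotient.mk _ s, Ideal.Quotient.mk _ s), ?_⟩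
  rw [LinearMap.coprod_apply, hL₁, hL₂, ← map_add]
  congr 1
  ring

theorem quasiFiniteAt_comap_of_idempotent (e : S) (he : IsIdempotentElem e)
    (q : Ideal (S ⧸ Ideal.span {e})) [q.IsPrime] [Algebra.QuasiFiniteAt R q]
    [(q.comap (Ideal.Quotient.mk (Ideal.span {e}))).IsPrime] :
    Algebra.QuasiFiniteAt R (q.comap (Ideal.Quotient.mk (Ideal.span {e}))) := by
  let π := Ideal.Quotient.mkₐ R (Ideal.span {e})
  let q₀ := q.comap (Ideal.Quotient.mk (Ideal.span {e}))
  let φ := Localization.localAlgHom q₀ q π rfl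
  have hbij : Function.Bijective φ := by
    refine ⟨(injective_iff_map_eq_zero _).mpr fun x hx => ?_, fun y => ?_⟩
    · obtain ⟨a, ⟨s, hs⟩, rfl⟩ := IsLocalization.exists_mk'_eq q₀.primeCompl x
      erw [Localization.localRingHom_mk' q₀ q π.toRingHom rfl a ⟨s, hs⟩,
        IsLocalization.mk'_eq_zero_iff] at hx
      obtain ⟨⟨t, ht⟩, htx⟩ := hx
      obtain ⟨t, rfl⟩ := Ideal.Quotient.mk_surjective t
      have hm : t * a ∈ Ideal.span {e} := Ideal.Quotient.eq_zero_iff_mem.mp htx
      obtain ⟨c, hc⟩ := Ideal.mem_span_singleton'.mp hm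
      rw [IsLocalization.mk'_eq_zero_iff]
      refine ⟨⟨(1 - e) * t, fun h => ?_⟩, ?_⟩
      · have h' : Ideal.Quotient.mk (Ideal.span {e}) ((1 - e) * t) ∈ q := h
        rw [map_mul, map_sub, Ideal.Quotient.eq_zero_iff_mem.mpr (Ideal.mem_span_singleton_self e),
          map_one, sub_zero, one_mul] at h'
        exact ht h'
      · show (1 - e) * t * a = 0
        rw [mul_assoc, ← hc]
        linear_combination (-c) * he.eq
    · obtain ⟨a, ⟨s, hs⟩, rfl⟩ := IsLocalization.exists_mk'_eq q.primeCompl y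
      obtain ⟨a, rfl⟩ := Ideal.Quotient.mk_surjective a
      obtain ⟨s, rfl⟩ := Ideal.Quotient.mk_surjective s
      refine ⟨IsLocalization.mk' _ a (⟨s, hs⟩ : q₀.primeCompl), ?_⟩
      erw [Localization.localRingHom_mk' q₀ q π.toRingHom rfl a ⟨s, hs⟩]
      rfl
  exact Algebra.QuasiFinite.of_surjective_algHom (AlgEquiv.ofBijective φ hbij).symm.toAlgHom
    (AlgEquiv.ofBijective φ hbij).symm.surjective

variable (R S) in
theorem exists_split [HenselianLocalRing R] [Algebra.FiniteType R S] :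
    ∃ e : S, IsIdempotentElem e ∧ Module.Finite R (S ⧸ Ideal.span ({1 - e} : Set S)) ∧
      ∀ (q : Ideal (S ⧸ Ideal.span ({e} : Set S))) [q.IsPrime],
        q.LiesOver (maximalIdeal R) → ¬ Algebra.QuasiFiniteAt R q := by
  let F := S ⧸ (maximalIdeal R).map (algebraMap R S)
  have : Algebra.FiniteType R F := .of_surjective (Ideal.Quotient.mkₐ R _) Ideal.Quotient.mk_surjective
  have : Algebra.FiniteType (R ⧸ maximalIdeal R) F :=
    .of_restrictScalars_finiteType R _ _
  let := Ideal.Quotient.field (maximalIdeal R)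
  have : IsNoetherianRing F := Algebra.FiniteType.isNoetherianRing (R ⧸ maximalIdeal R) F
  let E := {e : S | IsIdempotentElem e ∧ Module.Finite R (S ⧸ Ideal.span ({1 - e} : Set S))}
  let I : S → Ideal F := fun e => Ideal.span {Ideal.Quotient.mk _ e}
  have h0 : (0 : S) ∈ E := by
    refine ⟨IsIdempotentElem.zero, ?_⟩
    have : Subsingleton (S ⧸ Ideal.span ({1 - 0} : Set S)) :=
      Ideal.Quotient.subsingleton_iff.mpr (by simp)
    exact Module.Finite.of_finite
  obtain ⟨M, ⟨e, ⟨he, hfin⟩, rfl⟩, hmax⟩ :=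
    set_has_maximal_iff_noetherian.mpr inferInstance (I '' E) ⟨I 0, 0, h0, rfl⟩
  refine ⟨e, he, hfin, fun q _ hq hqf => ?_⟩
  let q₀ := q.comap (Ideal.Quotient.mk (Ideal.span {e}))
  have : q₀.IsPrime := Ideal.IsPrime.comap _
  have := quasiFiniteAt_comap_of_idempotent (R := R) e he q
  have heq : e ∈ q₀ := by
    show Ideal.Quotient.mk _ e ∈ q
    rw [Ideal.Quotient.eq_zero_iff_mem.mpr (Ideal.mem_span_singleton_self e)]
    exact zero_mem _
  have hlo : q₀.LiesOver (maximalIdeal R) := ⟨hq.over.trans (by ext; rfl)⟩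
  obtain ⟨f, hf, hfq, hffin⟩ := exists_idempotent_of_quasiFiniteAt (R := R) q₀
  have hj : e + f - e * f ∈ E :=
    ⟨by
      show _ * _ = _
      linear_combination (1 - f - f + f * f) * he.eq + (1 - e) * hf.eq, finite_join e f he⟩
  refine hmax _ ⟨_, hj, rfl⟩ (lt_of_le_of_ne ?_ fun h => hfq ?_)
  · rw [Ideal.span_singleton_le_iff_mem]
    refine Ideal.mem_span_singleton'.mpr ⟨Ideal.Quotient.mk _ e, ?_⟩
    rw [← map_mul]
    congr 1
    linear_combination (1 - f) * he.eq
  · have hfe : Ideal.Quotient.mk ((maximalIdeal R).map (algebraMap R S)) f ∈ I e := by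
      rw [h]
      refine Ideal.mem_span_singleton'.mpr ⟨Ideal.Quotient.mk _ f, ?_⟩
      rw [← map_mul]
      congr 1
      linear_combination (1 - e) * hf.eq
    obtain ⟨c, hc⟩ := Ideal.mem_span_singleton'.mp hfe
    obtain ⟨c, rfl⟩ := Ideal.Quotient.mk_surjective c
    rw [← map_mul, Ideal.Quotient.eq] at hc
    have hm : (maximalIdeal R).map (algebraMap R S) ≤ q₀ :=
      Ideal.map_le_iff_le_comap.mpr fun r hr => (SetLike.ext_iff.mp hlo.over r).mp hr
    have := q₀.sub_mem (q₀.mul_mem_left c heq) (hm hc)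
    simpa using this

end Groth.Agent.H4HenselSplit
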