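import Mathlib

/-!
Weighted normal forms: a minimal substitute for Groebner basis arguments.
-/

set_option autoImplicit false

namespace Groth.Agent.H4Lie3NF

open MvPolynomial

variable {σ A : Type*} [CommRing A] (w : σ → ℕ)

/-- all monomials of `p` have weight `< n` -/
def LT (n : ℕ) (p : MvPolynomial σ A) : Prop := ∀ m ∈ p.support, Finsupp.weight w m < n

variable {w}

theorem LT.mono {n n' : ℕ} {p : MvPolynomial σ A} (h : LT w n p) (hn : n ≤ n') : LT w n' p :=
  fun m hm => (h m hm).trans_le hn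

theorem LT.eq_zero {p : MvPolynomial σ A} (h : LT w 0 p) : p = 0 := by
  ext m
  by_contra hc
  exact absurd (h m (mem_support_iff.2 (by simpa using hc))) (Nat.not_lt_zero _)

theorem LT.coeff {n : ℕ} {p : MvPolynomial σ A} (h : LT w n p) {m : σ →₀ ℕ}
    (hm : n ≤ Finsupp.weight w m) : p.coeff m = 0 := by
  by_contra hc
  exact absurd (h m (mem_support_iff.2 hc)) (not_lt.2 hm)

theorem LT.zero (n : ℕ) : LT w n (0 : MvPolynomial σ A) := by simp [LT]

theorem LT.add {n : ℕ} {p q : MvPolynomial σ A} (hp : LT w n p) (hq : LT w n q) :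
    LT w n (p + q) := by
  classical
  intro m hm
  rcases Finset.mem_union.1 (support_add hm) with h | h
  · exact hp m h
  · exact hq m h

theorem LT.neg {n : ℕ} {p : MvPolynomial σ A} (hp : LT w n p) : LT w n (-p) := by
  intro m hm
  exact hp m (by simpa [mem_support_iff] using hm)

theorem LT.sub {n : ℕ} {p q : MvPolynomial σ A} (hp : LT w n p) (hq : LT w n q) :
    LT w n (p - q) := by rw [sub_eq_add_neg]; exact hp.add hq.neg

theorem LT.sum {ι : Type*} {n : ℕ} {s : Finset ι} {p : ι → MvPolynomial σ A}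
    (h : ∀ i ∈ s, LT w n (p i)) : LT w n (∑ i ∈ s, p i) :=
  Finset.sum_induction p (LT w n) (fun _ _ => LT.add) (LT.zero n) h

theorem LT.monomial {n : ℕ} {m : σ →₀ ℕ} (c : A) (h : Finsupp.weight w m < n) :
    LT w n (MvPolynomial.monomial m c) := by
  classical
  intro m' hm'
  rw [support_monomial] at hm'
  split_ifs at hm' <;> simp_all

theorem LT.of_support (p : MvPolynomial σ A) : ∃ n, LT w n p :=
  ⟨p.support.sup (fun m => Finsupp.weight w m) + 1, fun _ hm =>
    Nat.lt_succ_of_le (Finset.le_sup (f := fun m => Finsupp.weight w m) hm)⟩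

theorem LT.mul_left {a b : ℕ} {p q : MvPolynomial σ A} (hp : LT w (a + 1) p) (hq : LT w b q) :
    LT w (a + b) (p * q) := by
  classical
  intro m hm
  obtain ⟨x, hx, y, hy, rfl⟩ := Finset.mem_add.1 (support_mul p q hm)
  rw [map_add]
  have := hp x hx
  have := hq y hy
  omega

theorem LT.mul_right {a b : ℕ} {p q : MvPolynomial σ A} (hp : LT w a p) (hq : LT w (b + 1) q) :
    LT w (a + b) (p * q) := by
  rw [mul_comm, add_comm]; exact hq.mul_left hp

theorem LT.pow {a : ℕ} {p : MvPolynomial σ A} (hp : LT w (a + 1) p) :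
    ∀ k : ℕ, LT w (k * a + 1) (p ^ k)
  | 0 => by
    rw [pow_zero, show (1 : MvPolynomial σ A) = MvPolynomial.monomial 0 1 by rw [monomial_zero', C_1]]
    exact LT.monomial 1 (by simp)
  | k + 1 => by
    rw [pow_succ]
    exact ((hp.pow k).mul_left hp).mono (by rw [add_mul, one_mul]; omega)

variable (w)

/-- `Q` has the weight-leading term `ε * monomial u` with `ε` a unit. -/
structure Lead (Q : MvPolynomial σ A) (u : σ →₀ ℕ) (ε : A) : Prop where
  isUnit : IsUnit ε
  tail : LT w (Finsupp.weight w u) (Q - monomial u ε)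

/-- `S` is a set of standard monomials for the ideal `K`. -/
structure NF (K : Ideal (MvPolynomial σ A)) (S : Set (σ →₀ ℕ)) : Prop where
  span : ∀ n, ∀ p : MvPolynomial σ A, LT w (n + 1) p → ∃ r ∈ restrictSupport A S,
    p - r ∈ K ∧ LT w (n + 1) r ∧ ∀ m ∈ S, Finsupp.weight w m = n → r.coeff m = p.coeff m
  indep : ∀ r ∈ restrictSupport A S, r ∈ K → r = 0

variable {w}

theorem nf_bot : NF w (⊥ : Ideal (MvPolynomial σ A)) Set.univ where
  span n p hp := ⟨p, by simp [restrictSupport_univ], by simp, hp, fun _ _ _ => rfl⟩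
  indep r _ hr := by simpa using hr

theorem NF.reduce {K : Ideal (MvPolynomial σ A)} {S : Set (σ →₀ ℕ)} (h : NF w K S)
    (p : MvPolynomial σ A) : ∃ r ∈ restrictSupport A S, p - r ∈ K := by
  obtain ⟨n, hn⟩ := LT.of_support (w := w) p
  obtain ⟨r, h1, h2, -⟩ := h.span n p (hn.mono n.le_succ)
  exact ⟨r, h1, h2⟩

/-- the top coefficient of a multiple of `Q` is detected by the normal form -/
theorem top_coeff {K : Ideal (MvPolynomial σ A)} {S : Set (σ →₀ ℕ)} (h : NF w K S)
    {Q : MvPolynomial σ A} {u : σ →₀ ℕ} {ε : A} (hQ : Lead w Q u ε)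
    {t x : MvPolynomial σ A} (hx : x ∈ restrictSupport A S) (hmem : t * Q - x ∈ K)
    {m : σ →₀ ℕ} (hmax : LT w (Finsupp.weight w m + 1) t) (hmS : u + m ∈ S) :
    t.coeff m * ε = x.coeff (u + m) := by
  classical
  set N := Finsupp.weight w m + Finsupp.weight w u with hN
  have hlow : LT w N (t * (Q - monomial u ε)) := hmax.mul_left hQ.tail
  have hhi : LT w (N + 1) (t * monomial u ε) :=
    ((hmax.mul_left (LT.monomial ε (Nat.lt_succ_self _))).mono le_rfl)
  have hdec : t * Q = t * monomial u ε + t * (Q - monomial u ε) := by ring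
  have hall : LT w (N + 1) (t * Q) := by
    rw [hdec]; exact hhi.add (hlow.mono N.le_succ)
  obtain ⟨r, hr1, hr2, -, hr3⟩ := h.span N (t * Q) hall
  have hrx : r = x := by
    refine sub_eq_zero.1 (h.indep _ (sub_mem hr1 hx) ?_)
    have := K.sub_mem hmem hr2
    simpa using this
  have hw : Finsupp.weight w (u + m) = N := by rw [map_add, hN, add_comm]
  have := hr3 (u + m) hmS hw
  rw [hrx] at this
  rw [this, hdec, coeff_add, hlow.coeff hw.ge, add_zero, mul_comm t, coeff_monomial_mul,
    mul_comm]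

theorem eq_zero_of_mul_mem {K : Ideal (MvPolynomial σ A)} {S T : Set (σ →₀ ℕ)} (h : NF w K S)
    {Q : MvPolynomial σ A} {u : σ →₀ ℕ} {ε : A} (hQ : Lead w Q u ε)
    (hTS : ∀ m ∈ T, u + m ∈ S) {t x : MvPolynomial σ A} (ht : t ∈ restrictSupport A T)
    (hx : x ∈ restrictSupport A S) (hx0 : ∀ m ∈ T, x.coeff (u + m) = 0)
    (hmem : t * Q - x ∈ K) : t = 0 := by
  classical
  by_contra hne
  obtain ⟨m, hm, hmax⟩ := t.support.exists_max_image (fun m => Finsupp.weight w m)
    (support_nonempty.2 hne)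
  have hmT : m ∈ T := (mem_restrictSupport_iff A).1 ht hm
  have := top_coeff h hQ hx hmem (fun m' hm' => Nat.lt_succ_of_le (hmax m' hm')) (hTS m hmT)
  rw [hx0 m hmT] at this
  exact mem_support_iff.1 hm (hQ.isUnit.mul_left_eq_zero.1 this)

theorem step_span {K : Ideal (MvPolynomial σ A)} {S : Set (σ →₀ ℕ)} (h : NF w K S)
    {Q : MvPolynomial σ A} {u : σ →₀ ℕ} {ε : A} (hQ : Lead w Q u ε) :
    ∀ n, ∀ p : MvPolynomial σ A, LT w n p → ∃ r ∈ restrictSupport A {m ∈ S | ¬ u ≤ m},
      p - r ∈ K ⊔ Ideal.span {Q} ∧ LT w n r ∧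
      ∀ m ∈ S, ¬ u ≤ m → Finsupp.weight w m + 1 = n → r.coeff m = p.coeff m := by
  classical
  intro n
  induction n with
  | zero =>
    intro p hp
    exact ⟨0, zero_mem _, by simp [hp.eq_zero], LT.zero 0, by omega⟩
  | succ n ih =>
    intro p hp
    obtain ⟨r0, hr0S, hr0K, hr0n, hr0c⟩ := h.span n p hp
    obtain ⟨εi, hεi⟩ := hQ.isUnit.exists_left_inv
    let top := r0.support.filter (fun m => Finsupp.weight w m = n ∧ u ≤ m)
    let keep := r0.support.filter (fun m => Finsupp.weight w m = n ∧ ¬ u ≤ m)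
    let low := r0.support.filter (fun m => Finsupp.weight w m ≠ n)
    have hsplit : r0 = (∑ m ∈ top, monomial m (r0.coeff m)) +
        (∑ m ∈ keep, monomial m (r0.coeff m)) + ∑ m ∈ low, monomial m (r0.coeff m) := by
      conv_lhs => rw [r0.as_sum]
      simp only [top, keep, low, Finset.sum_filter, ← Finset.sum_add_distrib]
      refine Finset.sum_congr rfl fun m _ => ?_
      by_cases h1 : Finsupp.weight w m = n <;> by_cases h2 : u ≤ m <;> simp [h1, h2]
    set t : MvPolynomial σ A := ∑ m ∈ top, monomial (m - u) (r0.coeff m * εi) with ht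
    set hi := ∑ m ∈ keep, monomial m (r0.coeff m) with hhi
    have htop : ∀ m ∈ top, Finsupp.weight w (m - u) + Finsupp.weight w u = n := by
      intro m hm
      simp only [top, Finset.mem_filter] at hm
      rw [← map_add, tsub_add_cancel_of_le hm.2.2, hm.2.1]
    have h1 : t * monomial u ε = ∑ m ∈ top, monomial m (r0.coeff m) := by
      rw [ht, Finset.sum_mul]
      refine Finset.sum_congr rfl fun m hm => ?_
      simp only [top, Finset.mem_filter] at hm
      rw [monomial_mul, tsub_add_cancel_of_le hm.2.2, mul_assoc, hεi, mul_one]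
    have h2 : LT w n (r0 - t * Q - hi) := by
      have : r0 - t * Q - hi =
          (∑ m ∈ low, monomial m (r0.coeff m)) - t * (Q - monomial u ε) := by
        rw [mul_sub, h1]; nth_rewrite 1 [hsplit]; ring
      rw [this]
      refine LT.sub (LT.sum fun m hm => LT.monomial _ ?_) ?_
      · simp only [low, Finset.mem_filter] at hm
        exact lt_of_le_of_ne (Nat.le_of_lt_succ (hr0n m hm.1)) hm.2
      · rw [ht, Finset.sum_mul]
        refine LT.sum fun m hm => ?_
        refine ((LT.monomial _ (Nat.lt_succ_self _)).mul_left hQ.tail).mono ?_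
        exact (htop m hm).le
    obtain ⟨r', hr'S, hr'K, hr'n, -⟩ := ih _ h2
    have hhiS : hi ∈ restrictSupport A {m ∈ S | ¬ u ≤ m} := by
      refine sum_mem fun m hm => (monomial_mem_restrictSupport A).2 (Or.inl ?_)
      simp only [keep, Finset.mem_filter] at hm
      exact ⟨(mem_restrictSupport_iff A).1 hr0S hm.1, hm.2.2⟩
    refine ⟨hi + r', add_mem hhiS hr'S, ?_, ?_, ?_⟩
    · have : p - (hi + r') = (p - r0) + t * Q + (r0 - t * Q - hi - r') := by ring
      rw [this]
      refine add_mem (add_mem (Ideal.mem_sup_left hr0K) ?_) hr'K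
      exact Ideal.mem_sup_right (Ideal.mul_mem_left _ _ (Ideal.mem_span_singleton_self Q))
    · refine LT.add (LT.sum fun m hm => LT.monomial _ ?_) (hr'n.mono n.le_succ)
      simp only [keep, Finset.mem_filter] at hm
      omega
    · intro m hmS hum hmn
      have hwm : Finsupp.weight w m = n := by omega
      rw [coeff_add, hr'n.coeff hwm.ge, add_zero, hhi, coeff_sum, ← hr0c m hmS hwm,
        Finset.sum_eq_single m]
      · simp
      · intro b _ hb; simp [coeff_monomial, hb]
      · intro hm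
        have : m ∉ r0.support := fun hc => hm (by simp [keep, hc, hwm, hum])
        simp [MvPolynomial.notMem_support_iff.1 this]

/-- adjoining a new polynomial to a normal form -/
theorem NF.step {K : Ideal (MvPolynomial σ A)} {S T : Set (σ →₀ ℕ)} (h : NF w K S)
    {Q : MvPolynomial σ A} {u : σ →₀ ℕ} {ε : A} (hQ : Lead w Q u ε)
    (hTS : ∀ m ∈ T, u + m ∈ S)
    (hred : ∀ t : MvPolynomial σ A, ∃ t' ∈ restrictSupport A T, (t - t') * Q ∈ K) :
    NF w (K ⊔ Ideal.span {Q}) {m ∈ S | ¬ u ≤ m} := by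
  constructor
  · intro n p hp
    obtain ⟨r, h1, h2, h3, h4⟩ := step_span h hQ (n + 1) p hp
    exact ⟨r, h1, h2, h3, fun m hm hn => h4 m hm.1 hm.2 (by omega)⟩
  · intro r hr hrK
    rw [sup_comm] at hrK
    obtain ⟨t, k, hk, htk⟩ := Ideal.mem_span_singleton_sup.1 hrK
    obtain ⟨t', ht', htt⟩ := hred t
    have hrS : r ∈ restrictSupport A S := restrictSupport_mono A (fun m hm => hm.1) hr
    have hmem : t' * Q - r ∈ K := by
      have : t' * Q - r = -((t - t') * Q) - k := by rw [← htk]; ring
      rw [this]; exact sub_mem (neg_mem htt) hk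
    have : t' = 0 := eq_zero_of_mul_mem h hQ hTS ht' hrS (fun m _ => by
      by_contra hc
      exact ((mem_restrictSupport_iff A).1 hr (mem_support_iff.2 hc)).2 le_self_add) hmem
    rw [this, zero_mul, zero_sub, neg_mem_iff] at hmem
    exact h.indep r hrS hmem

/-- non-zero-divisor criterion -/
theorem NF.mem_of_mul_mem {K K' : Ideal (MvPolynomial σ A)} {S T : Set (σ →₀ ℕ)} (h : NF w K S)
    {Q : MvPolynomial σ A} {u : σ →₀ ℕ} {ε : A} (hQ : Lead w Q u ε)
    (h' : NF w K' T) (hTS : ∀ m ∈ T, u + m ∈ S)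
    (hK : ∀ y ∈ K', y * Q ∈ K) {t : MvPolynomial σ A} (ht : t * Q ∈ K) : t ∈ K' := by
  obtain ⟨t', ht', hd⟩ := h'.reduce t
  have hmem : t' * Q - 0 ∈ K := by
    have : t' * Q - 0 = t * Q - (t - t') * Q := by ring
    rw [this]; exact sub_mem ht (hK _ hd)
  have : t' = 0 := eq_zero_of_mul_mem h hQ hTS ht' (zero_mem _) (fun m _ => coeff_zero _) hmem
  simpa [this] using hd

/-- exponent of the squarefree monomial on a finset of variables -/
noncomputable def sq (s : Finset σ) : σ →₀ ℕ := ∑ v ∈ s, Finsupp.single v 1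

theorem monomial_sq (s : Finset σ) :
    monomial (sq s) (1 : A) = ∏ v ∈ s, (X v : MvPolynomial σ A) := monomial_sum_one s _

theorem weight_sq (s : Finset σ) : Finsupp.weight w (sq s) = ∑ v ∈ s, w v := by
  simp [sq, Finsupp.weight_single]

theorem sq_apply [DecidableEq σ] (s : Finset σ) (v : σ) : sq s v = if v ∈ s then 1 else 0 := by
  simp [sq, Finsupp.coe_finsetSum, Finset.sum_apply, Finsupp.single_apply]

theorem sq_le_iff (s : Finset σ) (m : σ →₀ ℕ) : sq s ≤ m ↔ ∀ v ∈ s, m v ≠ 0 := by
  classical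
  refine ⟨fun h v hv => ?_, fun h v => ?_⟩
  · have := h v; rw [sq_apply, if_pos hv] at this; omega
  · rw [sq_apply]
    split_ifs with hv
    · exact Nat.one_le_iff_ne_zero.2 (h v hv)
    · exact Nat.zero_le _

/-- monomials avoiding each of the given squarefree monomials -/
def Avoid (ls : List (Finset σ)) : Set (σ →₀ ℕ) := {m | ∀ s ∈ ls, ∃ v ∈ s, m v = 0}

theorem avoid_nil : Avoid ([] : List (Finset σ)) = Set.univ := by simp [Avoid]

theorem avoid_cons (s : Finset σ) (ls : List (Finset σ)) :
    Avoid (s :: ls) = {m ∈ Avoid ls | ¬ sq s ≤ m} := by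
  ext m
  simp only [Avoid, List.forall_mem_cons, Set.mem_ofPred_eq, sq_le_iff]
  push Not
  tauto

theorem sq_add_mem_avoid [DecidableEq σ] {s : Finset σ} {ls : List (Finset σ)} {m : σ →₀ ℕ}
    (h : ∀ l ∈ ls, ∃ v ∈ l, v ∉ s ∧ m v = 0) : sq s + m ∈ Avoid ls := by
  intro l hl
  obtain ⟨v, hv, hvs, hm⟩ := h l hl
  exact ⟨v, hv, by simp [sq_apply, hvs, hm]⟩

theorem sq_add_mem_avoid_of_disjoint [DecidableEq σ] {s : Finset σ} {ls : List (Finset σ)}
    {m : σ →₀ ℕ} (hd : ∀ l ∈ ls, Disjoint l s) (hm : m ∈ Avoid ls) : sq s + m ∈ Avoid ls :=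
  sq_add_mem_avoid fun l hl => by
    obtain ⟨v, hv, h0⟩ := hm l hl
    exact ⟨v, hv, Finset.disjoint_left.1 (hd l hl) hv, h0⟩

/-- a new generator whose leading monomial is coprime to the old ones -/
theorem NF.step_coprime [DecidableEq σ] {K : Ideal (MvPolynomial σ A)} {ls : List (Finset σ)}
    (h : NF w K (Avoid ls)) {Q : MvPolynomial σ A} {s : Finset σ} {ε : A}
    (hQ : Lead w Q (sq s) ε) (hd : ∀ l ∈ ls, Disjoint l s) :
    NF w (K ⊔ Ideal.span {Q}) (Avoid (s :: ls)) ∧ ∀ t, t * Q ∈ K → t ∈ K := by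
  refine ⟨?_, fun t ht => h.mem_of_mul_mem hQ h
    (fun m hm => sq_add_mem_avoid_of_disjoint hd hm) (fun y hy => K.mul_mem_right _ hy) ht⟩
  rw [avoid_cons]
  refine h.step hQ (T := Avoid ls) (fun m hm => sq_add_mem_avoid_of_disjoint hd hm) fun t => ?_
  obtain ⟨t', h1, h2⟩ := h.reduce t
  exact ⟨t', h1, K.mul_mem_right _ h2⟩

/-- an ideal with squarefree standard monomials is radical -/
theorem NF.isRadical [IsDomain A] {K : Ideal (MvPolynomial σ A)} {ls : List (Finset σ)}
    (h : NF w K (Avoid ls)) : K.IsRadical := by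
  classical
  intro f hf
  obtain ⟨k, hk⟩ := hf
  obtain ⟨r, hrS, hfr⟩ := h.reduce f
  suffices r = 0 by simpa [this] using hfr
  have hrk : r ^ k ∈ K := by
    have : (f : MvPolynomial σ A) ^ k - r ^ k ∈ K :=
      Ideal.mem_of_dvd K (sub_dvd_pow_sub_pow f r k) hfr
    simpa using K.sub_mem hk this
  by_contra hne
  obtain ⟨m, hm, hmax⟩ := r.support.exists_max_image (fun m => Finsupp.weight w m)
    (support_nonempty.2 hne)
  set N := Finsupp.weight w m with hN
  have hrN : LT w (N + 1) r := fun m' hm' => Nat.lt_succ_of_le (hmax m' hm')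
  set rN := weightedHomogeneousComponent w N r with hrNdef
  have hrNh : IsWeightedHomogeneous w rN N :=
    weightedHomogeneousComponent_isWeightedHomogeneous _ _
  have hrN1 : LT w (N + 1) rN := fun m' hm' => by
    rw [hrNh (mem_support_iff.1 hm')]; omega
  have hdiff : LT w N (r - rN) := by
    intro m' hm'
    rw [mem_support_iff, coeff_sub, hrNdef, coeff_weightedHomogeneousComponent] at hm'
    split_ifs at hm' with h0
    · simp at hm'
    · rw [sub_zero] at hm'
      exact lt_of_le_of_ne (hmax m' (mem_support_iff.2 hm')) h0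
  have hpow : ∀ j : ℕ, LT w (j * N) (r ^ j - rN ^ j) := by
    intro j
    induction j with
    | zero => simpa using LT.zero (w := w) (A := A) 0
    | succ j ih =>
      have : r ^ (j + 1) - rN ^ (j + 1) = (r ^ j - rN ^ j) * r + rN ^ j * (r - rN) := by ring
      rw [this, add_mul, one_mul]
      exact (ih.mul_right hrN).add ((hrN1.pow j).mul_left hdiff)
  -- kill the variables outside the support of `m`
  let φ : MvPolynomial σ A →ₐ[A] MvPolynomial σ A :=
    aeval fun v => if m v ≠ 0 then X v else 0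
  have hφ : ∀ p : MvPolynomial σ A, ∀ d : σ →₀ ℕ,
      (φ p).coeff d = if (∀ v, m v = 0 → d v = 0) then p.coeff d else 0 := by
    intro p d
    induction p using MvPolynomial.induction_on' with
    | add p q hp hq =>
      rw [map_add, coeff_add, coeff_add, hp, hq]
      split_ifs <;> simp
    | monomial e c =>
      by_cases he : ∀ v, m v = 0 → e v = 0
      · have : φ (monomial e c) = monomial e c := by
          simp only [φ, aeval_monomial, MvPolynomial.algebraMap_eq]
          rw [monomial_eq]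
          congr 1
          refine Finsupp.prod_congr fun v hv => ?_
          rw [if_pos (fun h0 => Finsupp.mem_support_iff.1 hv (he v h0))]
        rw [this, coeff_monomial]
        by_cases hed : e = d
        · subst hed; rw [if_pos rfl, if_pos he]
        · simp [hed]
      · push Not at he
        obtain ⟨v, hv0, hev⟩ := he
        have : φ (monomial e c) = 0 := by
          simp only [φ, aeval_monomial]
          refine mul_eq_zero_of_right _ (Finset.prod_eq_zero (Finsupp.mem_support_iff.2 hev) ?_)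
          simp [hv0, zero_pow hev]
        rw [this, coeff_zero]
        split_ifs with hd
        · rw [coeff_monomial, if_neg]
          rintro rfl
          exact hev (hd v hv0)
        · rfl
  have hφne : φ rN ≠ 0 := by
    intro h0
    have := hφ rN m
    rw [h0, coeff_zero, if_pos (fun v hv => hv), hrNdef, coeff_weightedHomogeneousComponent,
      if_pos hN.symm] at this
    exact mem_support_iff.1 hm this.symm
  obtain ⟨d, hd⟩ := exists_coeff_ne_zero (pow_ne_zero k hφne)
  rw [← map_pow, hφ] at hd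
  split_ifs at hd with hdV
  swap
  · exact hd rfl
  have hdw : Finsupp.weight w d = k * N := by
    have := (hrNh.pow k) hd
    simpa using this
  have hdS : d ∈ Avoid ls := fun s hs => by
    obtain ⟨v, hv, h0⟩ := (mem_restrictSupport_iff A).1 hrS hm s hs
    exact ⟨v, hv, hdV v h0⟩
  obtain ⟨r', hr'S, hr'K, -, hr'c⟩ := h.span (k * N) (r ^ k) (hrN.pow k)
  have hr'0 : r' = 0 := h.indep r' hr'S (by simpa using K.sub_mem hrk hr'K)
  have := hr'c d hdS hdw
  rw [hr'0, coeff_zero] at this
  have h2 := (hpow k).coeff hdw.ge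
  rw [coeff_sub, ← this, zero_sub, neg_eq_zero] at h2
  exact hd h2

/-- if the standard monomials only avoid variables, the ideal is prime -/
theorem NF.isPrime [IsDomain A] {K : Ideal (MvPolynomial σ A)} {ls : List (Finset σ)}
    (h : NF w K (Avoid ls)) (h1 : ∀ s ∈ ls, ∃ v, s = {v}) : K.IsPrime := by
  classical
  refine Ideal.isPrime_iff.2 ⟨?_, ?_⟩
  · intro htop
    have h0 : (monomial 0 1 : MvPolynomial σ A) = 0 := by
      refine h.indep _ ((monomial_mem_restrictSupport A).2 (Or.inl ?_)) (by simp [htop])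
      intro s hs
      obtain ⟨v, rfl⟩ := h1 s hs
      exact ⟨v, by simp, rfl⟩
    simp at h0
  · intro x y hxy
    obtain ⟨r, hr, hxr⟩ := h.reduce x
    obtain ⟨s, hs, hys⟩ := h.reduce y
    have hrs : r * s ∈ K := by
      have : r * s = x * y - (x - r) * y - r * (y - s) := by ring
      rw [this]
      exact sub_mem (sub_mem hxy (K.mul_mem_right _ hxr)) (K.mul_mem_left _ hys)
    have hrsS : r * s ∈ restrictSupport A (Avoid ls) := by
      refine (mem_restrictSupport_iff A).2 fun d hd => ?_
      obtain ⟨a, ha, b, hb, rfl⟩ := Finset.mem_add.1 (support_mul r s hd)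
      intro l hl
      obtain ⟨v, rfl⟩ := h1 l hl
      obtain ⟨v1, hv1, ha0⟩ := (mem_restrictSupport_iff A).1 hr ha _ hl
      obtain ⟨v2, hv2, hb0⟩ := (mem_restrictSupport_iff A).1 hs hb _ hl
      simp only [Finset.mem_singleton] at hv1 hv2
      rw [hv1] at ha0
      rw [hv2] at hb0
      exact ⟨v, by simp, by simp [ha0, hb0]⟩
    rcases mul_eq_zero.1 (h.indep _ hrsS hrs) with h0 | h0
    · exact Or.inl (by simpa [h0] using hxr)
    · exact Or.inr (by simpa [h0] using hys)

/-- the quotient is free -/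
theorem NF.free {K : Ideal (MvPolynomial σ A)} {S : Set (σ →₀ ℕ)} (h : NF w K S) :
    Module.Free A (MvPolynomial σ A ⧸ K) := by
  let f : restrictSupport A S →ₗ[A] MvPolynomial σ A ⧸ K :=
    (Ideal.Quotient.mkₐ A K).toLinearMap ∘ₗ (restrictSupport A S).subtype
  have hf : Function.Bijective f := by
    constructor
    · rw [injective_iff_map_eq_zero]
      intro r hr
      exact Subtype.ext (h.indep r.1 r.2 (Ideal.Quotient.eq_zero_iff_mem.1 hr))
    · intro y
      obtain ⟨p, rfl⟩ := Ideal.Quotient.mk_surjective y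
      obtain ⟨r, hr, hpr⟩ := h.reduce p
      exact ⟨⟨r, hr⟩, (Ideal.Quotient.mk_eq_mk_iff_sub_mem p r).2 hpr |>.symm⟩
  have := Module.Free.of_basis (basisRestrictSupport A S)
  exact Module.Free.of_equiv (LinearEquiv.ofBijective f hf)

theorem NF.flat {K : Ideal (MvPolynomial σ A)} {S : Set (σ →₀ ℕ)} (h : NF w K S) :
    Module.Flat A (MvPolynomial σ A ⧸ K) :=
  have := h.free
  inferInstance

end Groth.Agent.H4Lie3NF
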