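import Mathlib
import Groth.Prelude.Def_W4c1bouilletffgsL3
import Groth.Agent.Lib.H4Lie3NF

/-!
Standard monomials for the ideals of the moduli space of based three-dimensional Lie algebras.
-/

set_option autoImplicit false
set_option maxRecDepth 10000

namespace Groth.Agent.H4Lie3

open MvPolynomial Lie3Mod Groth.Agent.H4Lie3NF

universe u
variable (A : Type u) [CommRing A]

/-- the weights -/
def W : Fin 9 → ℕ := ![2, 0, 3, 0, 3, 2, 3, 2, 0]

theorem lt_X (v : Fin 9) : LT W (W v + 1) (X v : D A) :=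
  LT.monomial 1 (by simp [Finsupp.weight_single])

theorem lt_XX {n : ℕ} (u v : Fin 9) (h : W u + W v + 1 ≤ n) : LT W n (X u * X v : D A) :=
  ((lt_X A u).mul_left (lt_X A v)).mono (by omega)

theorem lt_XXX {n : ℕ} (u v z : Fin 9) (h : W u + W v + W z + 1 ≤ n) :
    LT W n (X u * X v * X z : D A) :=
  ((((lt_X A u).mul_left (lt_X A v)).mul_right (lt_X A z))).mono (by omega)

theorem mono_pair {u v : Fin 9} (h : u ≠ v) :
    monomial (sq ({u, v} : Finset (Fin 9))) (1 : A) = X u * X v := by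
  rw [monomial_sq, Finset.prod_pair h]

theorem mono_one (v : Fin 9) : monomial (sq ({v} : Finset (Fin 9))) (1 : A) = X v := by
  rw [monomial_sq, Finset.prod_singleton]

theorem leadL1 : Lead W (L1 A) (sq {0}) (1 : A) := by
  refine ⟨isUnit_one, ?_⟩
  rw [mono_one, weight_sq, L1]
  rw [show (va - vi - X 0 : D A) = -X 8 by simp only [va, vi]; ring]
  exact ((lt_X A 8).neg).mono (by decide)

theorem leadL2 : Lead W (L2 A) (sq {5}) (1 : A) := by
  refine ⟨isUnit_one, ?_⟩
  rw [mono_one, weight_sq, L2]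
  rw [show (vb + vf - X 5 : D A) = X 1 by simp only [vb, vf]; ring]
  exact (lt_X A 1).mono (by decide)

theorem leadL3 : Lead W (L3 A) (sq {7}) (1 : A) := by
  refine ⟨isUnit_one, ?_⟩
  rw [mono_one, weight_sq, L3]
  rw [show (vd + vh - X 7 : D A) = X 3 by simp only [vd, vh]; ring]
  exact (lt_X A 3).mono (by decide)

theorem leadQ1 : Lead W (Q1 A) (sq {5, 6}) (-1 : A) := by
  refine ⟨isUnit_one.neg, ?_⟩
  rw [map_neg, mono_pair A (by decide), weight_sq, Q1]
  rw [show (va * vh + vd * vi - vf * vg - vb * vg - -(X 5 * X 6) : D A)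
      = X 0 * X 7 + X 3 * X 8 - X 1 * X 6 by simp only [va, vh, vd, vi, vf, vg, vb]; ring]
  exact ((lt_XX A 0 7 (by decide)).add (lt_XX A 3 8 (by decide))).sub (lt_XX A 1 6 (by decide))

theorem leadQ2 : Lead W (Q2 A) (sq {0, 4}) (-1 : A) := by
  refine ⟨isUnit_one.neg, ?_⟩
  rw [map_neg, mono_pair A (by decide), weight_sq, Q2]
  rw [show (vi * ve + vb * vd - vf * vh - va * ve - -(X 0 * X 4) : D A)
      = X 8 * X 4 + X 1 * X 3 - X 5 * X 7 by simp only [va, vh, vd, vi, vf, ve, vb]; ring]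
  exact ((lt_XX A 8 4 (by decide)).add (lt_XX A 1 3 (by decide))).sub (lt_XX A 5 7 (by decide))

theorem leadQ3 : Lead W (Q3 A) (sq {7, 2}) (1 : A) := by
  refine ⟨isUnit_one, ?_⟩
  rw [mono_pair A (by decide), weight_sq, Q3]
  rw [show (vh * vc + vd * vc - va * vf - vb * vi - X 7 * X 2 : D A)
      = X 3 * X 2 - X 0 * X 5 - X 1 * X 8 by simp only [va, vh, vd, vi, vf, vc, vb]; ring]
  exact ((lt_XX A 3 2 (by decide)).sub (lt_XX A 0 5 (by decide))).sub (lt_XX A 1 8 (by decide))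

theorem leadDet : Lead W (detM A) (sq {6, 4, 2}) (-1 : A) := by
  refine ⟨isUnit_one.neg, ?_⟩
  rw [map_neg, monomial_sq, weight_sq, detM]
  rw [show (-(vc * vh ^ 2) + vg * vb * vf + ve * vi ^ 2 - vg * ve * vc + vh * vb * vi - vi * vh * vf
        - -(∏ v ∈ ({6, 4, 2} : Finset (Fin 9)), (X v : D A)))
      = -(X 2 * X 7 * X 7) + X 6 * X 1 * X 5 + X 4 * X 8 * X 8 + X 7 * X 1 * X 8
        - X 8 * X 7 * X 5 by
    simp only [va, vh, vd, vi, vf, vg, vb, vc, ve]
    rw [Finset.prod_insert (by decide), Finset.prod_pair (by decide)]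
    ring]
  refine LT.sub (LT.add (LT.add (LT.add (LT.neg ?_) ?_) ?_) ?_) ?_ <;>
    exact lt_XXX A _ _ _ (by decide)

/-- standard monomials of `L` -/
def SL : Set (Fin 9 →₀ ℕ) := Avoid [{7}, {5}, {0}]
/-- standard monomials of `I` -/
def SI : Set (Fin 9 →₀ ℕ) := Avoid [{7, 2}, {0, 4}, {5, 6}]
/-- standard monomials of `J` -/
def SJ : Set (Fin 9 →₀ ℕ) := Avoid [{6, 4, 2}, {7, 2}, {0, 4}, {5, 6}]

theorem idL_eq : idL A = ((⊥ ⊔ Ideal.span {L1 A}) ⊔ Ideal.span {L2 A}) ⊔ Ideal.span {L3 A} := by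
  simp only [idL, Ideal.span_insert, bot_sup_eq, sup_assoc]

theorem idI_eq : idI A = ((⊥ ⊔ Ideal.span {Q1 A}) ⊔ Ideal.span {Q2 A}) ⊔ Ideal.span {Q3 A} := by
  simp only [idI, Ideal.span_insert, bot_sup_eq, sup_assoc]

theorem idJ_eq : idJ A = idI A ⊔ Ideal.span {detM A} := by
  simp only [idJ, idI, Ideal.span_insert, sup_assoc]

theorem nf0 : NF W (⊥ : Ideal (D A)) (Avoid ([] : List (Finset (Fin 9)))) := by
  rw [avoid_nil]; exact nf_bot

/-- one coprime step -/
def Step (K : Ideal (D A)) (Q : D A) (ls : List (Finset (Fin 9))) : Prop :=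
  NF W (K ⊔ Ideal.span {Q}) (Avoid ls) ∧ ∀ t, t * Q ∈ K → t ∈ K

theorem stepL1 : Step A ⊥ (L1 A) [{0}] := (nf0 A).step_coprime (leadL1 A) (by simp)
theorem stepL2 : Step A (⊥ ⊔ Ideal.span {L1 A}) (L2 A) [{5}, {0}] :=
  (stepL1 A).1.step_coprime (leadL2 A) (by simp)
theorem stepL3 : Step A (⊥ ⊔ Ideal.span {L1 A} ⊔ Ideal.span {L2 A}) (L3 A) [{7}, {5}, {0}] :=
  (stepL2 A).1.step_coprime (leadL3 A) (by simp)
theorem stepQ1 : Step A ⊥ (Q1 A) [{5, 6}] := (nf0 A).step_coprime (leadQ1 A) (by simp)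
theorem stepQ2 : Step A (⊥ ⊔ Ideal.span {Q1 A}) (Q2 A) [{0, 4}, {5, 6}] :=
  (stepQ1 A).1.step_coprime (leadQ2 A) (by simp)
theorem stepQ3 :
    Step A (⊥ ⊔ Ideal.span {Q1 A} ⊔ Ideal.span {Q2 A}) (Q3 A) [{7, 2}, {0, 4}, {5, 6}] :=
  (stepQ2 A).1.step_coprime (leadQ3 A) (by simp)

theorem nfL : NF W (idL A) SL := by rw [idL_eq]; exact (stepL3 A).1

theorem nfI : NF W (idI A) SI := by rw [idI_eq]; exact (stepQ3 A).1

theorem idI_le_idL : idI A ≤ idL A := by
  rw [idI, Ideal.span_le]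
  have h1 : L1 A ∈ idL A := Ideal.subset_span (by simp)
  have h2 : L2 A ∈ idL A := Ideal.subset_span (by simp)
  have h3 : L3 A ∈ idL A := Ideal.subset_span (by simp)
  simp only [Set.insert_subset_iff, Set.singleton_subset_iff, SetLike.mem_coe]
  refine ⟨?_, ?_, ?_⟩
  · rw [show Q1 A = vh * L1 A - vg * L2 A + vi * L3 A by simp only [Q1, L1, L2, L3]; ring]
    exact add_mem (sub_mem (Ideal.mul_mem_left _ _ h1) (Ideal.mul_mem_left _ _ h2))
      (Ideal.mul_mem_left _ _ h3)
  · rw [show Q2 A = -ve * L1 A - vh * L2 A + vb * L3 A by simp only [Q2, L1, L2, L3]; ring]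
    exact add_mem (sub_mem (Ideal.mul_mem_left _ _ h1) (Ideal.mul_mem_left _ _ h2))
      (Ideal.mul_mem_left _ _ h3)
  · rw [show Q3 A = -vf * L1 A - vi * L2 A + vc * L3 A by simp only [Q3, L1, L2, L3]; ring]
    exact add_mem (sub_mem (Ideal.mul_mem_left _ _ h1) (Ideal.mul_mem_left _ _ h2))
      (Ideal.mul_mem_left _ _ h3)

theorem idI_le_idJ : idI A ≤ idJ A := by rw [idJ_eq]; exact le_sup_left

theorem det_mem_idJ : detM A ∈ idJ A := by
  rw [idJ_eq]; exact Ideal.mem_sup_right (Ideal.mem_span_singleton_self _)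

theorem det_mul_mem {y : D A} (hy : y ∈ idL A) : detM A * y ∈ idI A := by
  have h1 : Q1 A ∈ idI A := Ideal.subset_span (by simp)
  have h2 : Q2 A ∈ idI A := Ideal.subset_span (by simp)
  have h3 : Q3 A ∈ idI A := Ideal.subset_span (by simp)
  revert hy
  refine fun hy => Submodule.span_induction (p := fun y _ => detM A * y ∈ idI A) ?_ (by simp)
    (fun a b _ _ ha hb => by rw [mul_add]; exact add_mem ha hb)
    (fun r a _ ha => by rw [smul_eq_mul, mul_left_comm]; exact Ideal.mul_mem_left _ _ ha) hy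
  intro y hy
  simp only [Set.mem_insert_iff, Set.mem_singleton_iff] at hy
  rcases hy with rfl | rfl | rfl
  · rw [show detM A * L1 A = (-(vh * vc) + vb * vi) * Q1 A + (vg * vc - vi * vi) * Q2 A
        + (-(vg * vb) + vh * vi) * Q3 A by simp only [detM, L1, Q1, Q2, Q3]; ring]
    exact add_mem (add_mem (Ideal.mul_mem_left _ _ h1) (Ideal.mul_mem_left _ _ h2))
      (Ideal.mul_mem_left _ _ h3)
  · rw [show detM A * L2 A = (ve * vc - vb * vf) * Q1 A + (vh * vc + vi * vf) * Q2 A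
        + (-(vh * vb) - vi * ve) * Q3 A by simp only [detM, L2, Q1, Q2, Q3]; ring]
    exact add_mem (add_mem (Ideal.mul_mem_left _ _ h1) (Ideal.mul_mem_left _ _ h2))
      (Ideal.mul_mem_left _ _ h3)
  · rw [show detM A * L3 A = (ve * vi - vh * vf) * Q1 A + (vh * vi + vg * vf) * Q2 A
        + (-(vh * vh) - vg * ve) * Q3 A by simp only [detM, L3, Q1, Q2, Q3]; ring]
    exact add_mem (add_mem (Ideal.mul_mem_left _ _ h1) (Ideal.mul_mem_left _ _ h2))
      (Ideal.mul_mem_left _ _ h3)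

theorem mem_avoid_var {l : Fin 9} {ls : List (Finset (Fin 9))} {m : Fin 9 →₀ ℕ}
    (hm : m ∈ Avoid ls) (hl : {l} ∈ ls) : m l = 0 := by
  obtain ⟨v, hv, h⟩ := hm _ hl
  rw [Finset.mem_singleton.1 hv] at h; exact h

theorem det_shift_SI {m : Fin 9 →₀ ℕ} (hm : m ∈ SL) : sq {6, 4, 2} + m ∈ SI := by
  have h7 := mem_avoid_var hm (l := 7) (by simp)
  have h5 := mem_avoid_var hm (l := 5) (by simp)
  have h0 := mem_avoid_var hm (l := 0) (by simp)
  refine sq_add_mem_avoid fun l hl => ?_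
  simp only [List.mem_cons, List.not_mem_nil, or_false] at hl
  rcases hl with rfl | rfl | rfl
  · exact ⟨7, by decide, by decide, h7⟩
  · exact ⟨0, by decide, by decide, h0⟩
  · exact ⟨5, by decide, by decide, h5⟩

theorem det_shift_SL {m : Fin 9 →₀ ℕ} (hm : m ∈ SL) : sq {6, 4, 2} + m ∈ SL :=
  sq_add_mem_avoid_of_disjoint (by simp) hm

theorem nfJ : NF W (idJ A) SJ := by
  rw [idJ_eq, SJ, avoid_cons]
  refine (nfI A).step (leadDet A) (T := SL) (fun m hm => det_shift_SI hm) fun t => ?_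
  obtain ⟨t', h1, h2⟩ := (nfL A).reduce t
  exact ⟨t', h1, by rw [mul_comm]; exact det_mul_mem A h2⟩

theorem mem_idL_of_mul_det_mem_idI {t : D A} (ht : t * detM A ∈ idI A) : t ∈ idL A :=
  (nfI A).mem_of_mul_mem (leadDet A) (nfL A) (fun m hm => det_shift_SI hm)
    (fun y hy => by rw [mul_comm]; exact det_mul_mem A hy) ht

theorem mem_idL_of_mul_det_mem_idL {t : D A} (ht : t * detM A ∈ idL A) : t ∈ idL A :=
  (nfL A).mem_of_mul_mem (leadDet A) (nfL A) (fun m hm => det_shift_SL hm)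
    (fun y hy => (idL A).mul_mem_right _ hy) ht

theorem colon_idI_idJ : (idI A).colon (idJ A : Set (D A)) = idL A := by
  refine le_antisymm (fun x hx => ?_) (fun x hx => ?_)
  · exact mem_idL_of_mul_det_mem_idI A (Submodule.mem_colon.1 hx _ (det_mem_idJ A))
  · refine Submodule.mem_colon.2 fun s hs => ?_
    rw [SetLike.mem_coe, idJ_eq, sup_comm] at hs
    obtain ⟨a, b, hb, rfl⟩ := Ideal.mem_span_singleton_sup.1 hs
    rw [smul_eq_mul, mul_add, ← mul_assoc, mul_comm x a, mul_assoc, mul_comm x (detM A)]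
    exact add_mem (Ideal.mul_mem_left _ _ (det_mul_mem A hx)) (Ideal.mul_mem_left _ _ hb)

theorem colon_idI_idL : (idI A).colon (idL A : Set (D A)) = idJ A := by
  classical
  refine le_antisymm (fun x hx => ?_) (fun x hx => ?_)
  swap
  · refine Submodule.mem_colon.2 fun s hs => ?_
    rw [idJ_eq, sup_comm] at hx
    obtain ⟨a, b, hb, rfl⟩ := Ideal.mem_span_singleton_sup.1 hx
    rw [smul_eq_mul, add_mul, mul_assoc]
    exact add_mem (Ideal.mul_mem_left _ _ (det_mul_mem A hs)) (Ideal.mul_mem_right _ _ hb)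
  obtain ⟨r, hr, hxr⟩ := (nfJ A).reduce x
  suffices r = 0 by simpa [this] using hxr
  have hrL : ∀ y ∈ idL A, r * y ∈ idJ A := by
    intro y hy
    have h1 : x * y ∈ idJ A := idI_le_idJ A (Submodule.mem_colon.1 hx y hy)
    have : r * y = x * y - (x - r) * y := by ring
    rw [this]
    exact sub_mem h1 ((idJ A).mul_mem_right _ hxr)
  by_contra hne
  obtain ⟨m, hm, hmax⟩ := r.support.exists_max_image (fun m => Finsupp.weight W m)
    (support_nonempty.2 hne)
  have hmS : m ∈ SJ := (mem_restrictSupport_iff A).1 hr hm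
  have key : ∀ {Q : D A} {s : Finset (Fin 9)}, Lead W Q (sq s) (1 : A) → Q ∈ idL A →
      sq s + m ∈ SJ → False := by
    intro Q s hQ hQL hS
    have := top_coeff (nfJ A) hQ (x := 0) (zero_mem _) (by simpa using hrL Q hQL)
      (fun m' hm' => Nat.lt_succ_of_le (hmax m' hm')) hS
    rw [mul_one, coeff_zero] at this
    exact mem_support_iff.1 hm this
  obtain ⟨v, hv, hv0⟩ := hmS {6, 4, 2} (by simp)
  have shift : ∀ {j : Fin 9}, (∀ l ∈ [({6, 4, 2} : Finset (Fin 9)), {7, 2}, {0, 4}, {5, 6}],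
      j ∉ l ∨ v ∈ l ∧ v ≠ j) → sq {j} + m ∈ SJ := by
    intro j hj
    refine sq_add_mem_avoid fun l hl => ?_
    rcases hj l hl with hjl | ⟨hvl, hvj⟩
    · obtain ⟨z, hz, hz0⟩ := hmS l hl
      exact ⟨z, hz, by simp only [Finset.mem_singleton]; rintro rfl; exact hjl hz, hz0⟩
    · exact ⟨v, hvl, by simp [hvj], hv0⟩
  simp only [Finset.mem_insert, Finset.mem_singleton] at hv
  rcases hv with rfl | rfl | rfl
  · exact key (leadL2 A) (Ideal.subset_span (by simp)) (shift (by decide))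
  · exact key (leadL1 A) (Ideal.subset_span (by simp)) (shift (by decide))
  · exact key (leadL3 A) (Ideal.subset_span (by simp)) (shift (by decide))

theorem idI_eq_inf : idI A = idJ A ⊓ idL A := by
  refine le_antisymm (le_inf (idI_le_idJ A) (idI_le_idL A)) (fun x hx => ?_)
  obtain ⟨hJ, hL⟩ := hx
  rw [SetLike.mem_coe, idJ_eq, sup_comm] at hJ
  obtain ⟨a, b, hb, rfl⟩ := Ideal.mem_span_singleton_sup.1 hJ
  have h : a * detM A ∈ idL A := by
    simpa using (idL A).sub_mem hL (idI_le_idL A hb)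
  refine add_mem ?_ hb
  rw [mul_comm]; exact det_mul_mem A (mem_idL_of_mul_det_mem_idL A h)

theorem not_idL_le_idJ [Nontrivial A] : ¬ idL A ≤ idJ A := by
  intro h
  have h1 : (1 : D A) ∈ (idI A).colon (idJ A : Set (D A)) → False := by
    rw [colon_idI_idJ]; intro h1
    have : (monomial 0 1 : D A) = 0 :=
      (nfL A).indep _ ((monomial_mem_restrictSupport A).2 (Or.inl (by
        intro s hs
        simp only [List.mem_cons, List.not_mem_nil, or_false] at hs
        rcases hs with rfl | rfl | rfl <;> exact ⟨_, Finset.mem_singleton_self _, rfl⟩)))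
        (by simpa using h1)
    simp at this
  have h2 : L1 A ∈ idJ A := h (Ideal.subset_span (by simp))
  have h3 : L1 A = 0 := by
    refine (nfJ A).indep _ ?_ h2
    refine sub_mem ?_ ?_ <;>
    · refine (monomial_mem_restrictSupport A).2 (Or.inl ?_)
      intro s hs
      simp only [List.mem_cons, List.not_mem_nil, or_false] at hs
      rcases hs with rfl | rfl | rfl | rfl <;>
        first
        | exact ⟨6, by decide, by simp⟩
        | exact ⟨2, by decide, by simp⟩
        | exact ⟨4, by decide, by simp⟩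
  have h4 := congrArg (fun p : D A => p.coeff (Finsupp.single 0 1)) h3
  simp [L1, va, vi, coeff_X', Finsupp.single_eq_single_iff] at h4

theorem one_notMem [Nontrivial A] {K : Ideal (D A)} {ls : List (Finset (Fin 9))}
    (h : NF W K (Avoid ls)) (hls : ∀ s ∈ ls, s.Nonempty) : (1 : D A) ∉ K := by
  intro h1
  have : (monomial 0 1 : D A) = 0 :=
    h.indep _ ((monomial_mem_restrictSupport A).2 (Or.inl (fun s hs => by
      obtain ⟨v, hv⟩ := hls s hs; exact ⟨v, hv, rfl⟩))) (by simpa using h1)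
  simp at this

theorem det_notMem_idL [Nontrivial A] : detM A ∉ idL A := fun h =>
  one_notMem A (nfL A) (by decide) (mem_idL_of_mul_det_mem_idL A (t := 1) (by simpa using h))

theorem idL_isPrime [IsDomain A] : (idL A).IsPrime :=
  (nfL A).isPrime (by
    intro s hs
    simp only [List.mem_cons, List.not_mem_nil, or_false] at hs
    rcases hs with rfl | rfl | rfl <;> exact ⟨_, rfl⟩)

theorem idI_isRadical [IsDomain A] : (idI A).IsRadical := (nfI A).isRadical

theorem idJ_isRadical [IsDomain A] : (idJ A).IsRadical := (nfJ A).isRadical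

theorem idL_mem_minimalPrimes [IsDomain A] : idL A ∈ (idI A).minimalPrimes := by
  refine ⟨⟨idL_isPrime A, idI_le_idL A⟩, fun P ⟨hP, hIP⟩ hPL y hy => ?_⟩
  rcases hP.mem_or_mem (hIP (det_mul_mem A hy)) with h | h
  · exact absurd (hPL h) (det_notMem_idL A)
  · exact h

theorem idJ_mem_minimalPrimes [Nontrivial A] (hJ : (idJ A).IsPrime) :
    idJ A ∈ (idI A).minimalPrimes := by
  refine ⟨⟨hJ, idI_le_idJ A⟩, fun P ⟨hP, hIP⟩ hPJ => ?_⟩
  obtain ⟨y, hy, hyJ⟩ := SetLike.not_le_iff_exists.1 (not_idL_le_idJ A)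
  have hd : detM A ∈ P := by
    rcases hP.mem_or_mem (hIP (det_mul_mem A hy)) with h | h
    · exact h
    · exact absurd (hPJ h) hyJ
  rw [idJ_eq, sup_le_iff, Ideal.span_singleton_le_iff_mem]
  exact ⟨hIP, hd⟩

theorem isRegular_triple [Nontrivial A] {a b c : D A} {s1 s2 s3 : Finset (Fin 9)}
    (h1 : ∀ t, t * a ∈ (⊥ : Ideal (D A)) → t ∈ (⊥ : Ideal (D A)))
    (h2 : ∀ t, t * b ∈ ⊥ ⊔ Ideal.span {a} → t ∈ ⊥ ⊔ Ideal.span {a})
    (h3 : ∀ t, t * c ∈ ⊥ ⊔ Ideal.span {a} ⊔ Ideal.span {b} →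
      t ∈ ⊥ ⊔ Ideal.span {a} ⊔ Ideal.span {b})
    (h : NF W (⊥ ⊔ Ideal.span {a} ⊔ Ideal.span {b} ⊔ Ideal.span {c}) (Avoid [s3, s2, s1]))
    (hne : s1.Nonempty ∧ s2.Nonempty ∧ s3.Nonempty) :
    RingTheory.Sequence.IsRegular (D A) [a, b, c] := by
  refine ⟨(RingTheory.Sequence.isWeaklyRegular_iff _ _).2 fun i hi => ?_, ?_⟩
  · rw [isSMulRegular_quotient_iff_mem_of_smul_mem]
    intro x hx
    simp only [List.length_cons, List.length_nil] at hi
    interval_cases i <;>
      simp only [List.take_zero, List.take_succ_cons, Ideal.ofList_cons, Ideal.ofList_nil,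
        List.getElem_cons_zero, List.getElem_cons_succ, smul_eq_mul, Ideal.mul_top,
        sup_bot_eq] at hx ⊢
    · simpa using h1 x (by simpa [mul_comm] using hx)
    · simpa using h2 x (by simpa [mul_comm] using hx)
    · simpa [sup_assoc] using h3 x (by simpa [sup_assoc, mul_comm] using hx)
  · intro htop
    refine one_notMem A h ?_ ?_
    · obtain ⟨x, y, z⟩ := hne
      intro s hs
      simp only [List.mem_cons, List.not_mem_nil, or_false] at hs
      rcases hs with rfl | rfl | rfl <;> assumption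
    · have : (1 : D A) ∈ (⊤ : Submodule (D A) (D A)) := trivial
      rw [htop] at this
      simpa [Ideal.ofList_cons, Ideal.ofList_nil, sup_assoc] using this

theorem isRegular_linSeq [Nontrivial A] :
    RingTheory.Sequence.IsRegular (D A) [L1 A, L2 A, L3 A] :=
  isRegular_triple A (stepL1 A).2 (stepL2 A).2 (stepL3 A).2 (stepL3 A).1 (by simp)

theorem isRegular_jacobiSeq [Nontrivial A] :
    RingTheory.Sequence.IsRegular (D A) [Q1 A, Q2 A, Q3 A] :=
  isRegular_triple A (stepQ1 A).2 (stepQ2 A).2 (stepQ3 A).2 (stepQ3 A).1 (by simp)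

theorem flat_idI : Module.Flat A (D A ⧸ idI A) := (nfI A).flat

theorem flat_idJ : Module.Flat A (D A ⧸ idJ A) := (nfJ A).flat

end Groth.Agent.H4Lie3
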