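import Mathlib
import Groth.Prelude.Def_W4c1bouilletffgsL3
import Groth.Agent.Lib.H4Lie3

/-!
Primality of `J` over an algebraically closed field: the chart `L3 ≠ 0` is dense.
-/

set_option autoImplicit false
set_option maxRecDepth 10000

namespace Groth.Agent.H4Lie3Prime

open MvPolynomial Lie3Mod Groth.Agent.H4Lie3

universe u

section chart

variable {R S : Type*} [CommRing R] [CommRing S]

/-- the chart `L3 ≠ 0`, with `w` inverse to `l3` -/
def pt (l1 l2 l3 h g e w : R) : Fin 9 → R :=
  ![l1 + (g * l2 - h * l1) * w, (e * l1 + h * l2) * w,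
    ((l2 - (e * l1 + h * l2) * w) * l1 + (g * l2 - h * l1) * w * l2) * w,
    l3 - h, e, l2 - (e * l1 + h * l2) * w, g, h, (g * l2 - h * l1) * w]

theorem map_pt (φ : R →+* S) (l1 l2 l3 h g e w : R) (v : Fin 9) :
    φ (pt l1 l2 l3 h g e w v) = pt (φ l1) (φ l2) (φ l3) (φ h) (φ g) (φ e) (φ w) v := by
  fin_cases v <;> simp [pt, map_add, map_sub, map_mul]

end chart

variable (k : Type u) [Field k]

theorem aeval_Q1 {R : Type*} [CommRing R] [Algebra k R] (x : Fin 9 → R) :
    aeval x (Q1 k) = x 0 * x 7 + x 3 * x 8 - x 5 * x 6 - x 1 * x 6 := by simp [Q1]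

theorem aeval_Q2 {R : Type*} [CommRing R] [Algebra k R] (x : Fin 9 → R) :
    aeval x (Q2 k) = x 8 * x 4 + x 1 * x 3 - x 5 * x 7 - x 0 * x 4 := by simp [Q2]

theorem aeval_Q3 {R : Type*} [CommRing R] [Algebra k R] (x : Fin 9 → R) :
    aeval x (Q3 k) = x 7 * x 2 + x 3 * x 2 - x 0 * x 5 - x 1 * x 8 := by simp [Q3]

/-- coordinate ring of the chart -/
abbrev R6 : Type u := Localization.Away (X 2 : MvPolynomial (Fin 6) k)

instance : IsDomain (R6 k) :=
  IsLocalization.isDomain_localization
    (powers_le_nonZeroDivisors_of_noZeroDivisors (X_ne_zero (R := k) (2 : Fin 6)))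

/-- the generic point of the chart -/
noncomputable def gen (v : Fin 6) : R6 k :=
  algebraMap (MvPolynomial (Fin 6) k) (R6 k) (X v)

/-- the generic point of `J` -/
noncomputable def φ : D k →ₐ[k] R6 k :=
  aeval (pt (gen k 0) (gen k 1) (gen k 2) (gen k 3) (gen k 4) (gen k 5)
    (IsLocalization.Away.invSelf (X 2 : MvPolynomial (Fin 6) k)))

/-- the candidate prime -/
noncomputable def P : Ideal (D k) := RingHom.ker (φ k).toRingHom

theorem gen_mul_inv :
    gen k 2 * IsLocalization.Away.invSelf (X 2 : MvPolynomial (Fin 6) k) = 1 :=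
  IsLocalization.Away.mul_invSelf _

theorem idJ_le_P : idJ k ≤ P k := by
  have hu := gen_mul_inv k
  set w : R6 k := IsLocalization.Away.invSelf (X 2 : MvPolynomial (Fin 6) k)
  set l1 := gen k 0
  set l2 := gen k 1
  set l3 := gen k 2
  set h := gen k 3
  set g := gen k 4
  set e := gen k 5
  have e1 : φ k (Q1 k) = 0 := by
    rw [φ, aeval_Q1]; simp [pt]; linear_combination ((g * l2 - h * l1)) * hu
  have e2 : φ k (Q2 k) = 0 := by
    rw [φ, aeval_Q2]; simp [pt]; linear_combination ((e * l1 + h * l2)) * hu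
  have e3 : φ k (Q3 k) = 0 := by
    rw [φ, aeval_Q3]; simp [pt]
    linear_combination (((l2 - (e * l1 + h * l2) * w) * l1 + (g * l2 - h * l1) * w * l2)) * hu
  have hI : idI k ≤ P k := by
    rw [idI, Ideal.span_le]
    simp only [Set.insert_subset_iff, Set.singleton_subset_iff, SetLike.mem_coe, P,
      RingHom.mem_ker]
    exact ⟨e1, e2, e3⟩
  have hL3 : φ k (L3 k) = l3 := by simp [φ, L3, pt]; rfl
  have hd : φ k (detM k * L3 k) = 0 := hI (det_mul_mem k (Ideal.subset_span (by simp)))
  rw [map_mul, hL3] at hd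
  have hd' : φ k (detM k) = 0 := by linear_combination w * hd - φ k (detM k) * hu
  rw [idJ_eq, sup_le_iff, Ideal.span_singleton_le_iff_mem]
  exact ⟨hI, hd'⟩

theorem P_isPrime : (P k).IsPrime := RingHom.ker_isPrime _

/-- being a point of `V(I)` -/
def InI (x : Fin 9 → k) : Prop :=
  x 0 * x 7 + x 3 * x 8 - x 5 * x 6 - x 1 * x 6 = 0 ∧
  x 8 * x 4 + x 1 * x 3 - x 5 * x 7 - x 0 * x 4 = 0 ∧
  x 7 * x 2 + x 3 * x 2 - x 0 * x 5 - x 1 * x 8 = 0

theorem chart3 {f : D k} (hf : f ∈ P k) {x : Fin 9 → k} (hx : InI k x) (h3 : x 3 + x 7 ≠ 0) :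
    aeval x f = 0 := by
  obtain ⟨q1, q2, q3⟩ := hx
  set val : Fin 6 → k := ![x 0 - x 8, x 1 + x 5, x 3 + x 7, x 7, x 6, x 4] with hval
  have hunit : IsUnit ((aeval val : MvPolynomial (Fin 6) k →ₐ[k] k).toRingHom (X 2)) := by
    simp [hval, h3]
  let ev : R6 k →+* k := IsLocalization.Away.lift (X 2 : MvPolynomial (Fin 6) k) hunit
  have hev : ∀ p, ev (algebraMap (MvPolynomial (Fin 6) k) (R6 k) p) = aeval val p :=
    fun p => IsLocalization.Away.lift_eq _ hunit p
  have hw : ev (IsLocalization.Away.invSelf (X 2 : MvPolynomial (Fin 6) k)) = (x 3 + x 7)⁻¹ := by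
    have := congrArg ev (gen_mul_inv k)
    rw [map_mul, map_one, gen, hev] at this
    simp [hval] at this
    exact eq_inv_of_mul_eq_one_right this
  have hcomp : ev.comp (φ k).toRingHom = (aeval x : D k →ₐ[k] k).toRingHom := by
    refine MvPolynomial.ringHom_ext (fun c => ?_) (fun v => ?_)
    · simp only [RingHom.comp_apply, AlgHom.toRingHom_eq_coe, RingHom.coe_coe]
      rw [← MvPolynomial.algebraMap_eq, AlgHom.commutes, AlgHom.commutes,
        IsScalarTower.algebraMap_apply k (MvPolynomial (Fin 6) k) (R6 k), hev, AlgHom.commutes]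
    · simp only [RingHom.comp_apply, AlgHom.toRingHom_eq_coe, RingHom.coe_coe, φ, aeval_X,
        map_pt, gen, hev, hw]
      have e8 : ((x 6) * (x 1 + x 5) - x 7 * (x 0 - x 8)) * (x 3 + x 7)⁻¹ = x 8 := by
        field_simp; linear_combination -q1
      have e1 : ((x 4) * (x 0 - x 8) + x 7 * (x 1 + x 5)) * (x 3 + x 7)⁻¹ = x 1 := by
        field_simp; linear_combination -q2
      have e2 : (x 5 * (x 0 - x 8) + x 8 * (x 1 + x 5)) * (x 3 + x 7)⁻¹ = x 2 := by
        field_simp; linear_combination -q3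
      fin_cases v <;> simp [hval, pt, e8, e1, e2]
  have : ev (φ k f) = aeval x f := RingHom.congr_fun hcomp f
  rw [← this, show φ k f = 0 from hf, map_zero]

/-- vanishing propagates to the origin of a polynomial curve -/
theorem curve [Infinite k] {f : D k} (F : Fin 9 → Polynomial k) {t0 : k}
    (h : ∀ s, s ≠ 0 → aeval (fun v => (F v).eval s) f = 0) :
    aeval (fun v => (F v).eval t0) f = 0 := by
  have key : ∀ s, (aeval F f : Polynomial k).eval s = aeval (fun v => (F v).eval s) f := by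
    intro s
    have := MvPolynomial.comp_aeval_apply F (Polynomial.aeval (R := k) s) f
    simpa [Polynomial.coe_aeval_eq_eval] using this
  have h0 : (aeval F f : Polynomial k) = 0 := by
    refine Polynomial.eq_zero_of_infinite_isRoot _
      ((Set.finite_singleton (0 : k)).infinite_compl.mono fun s hs => ?_)
    simp only [Set.mem_ofPred_eq, Polynomial.IsRoot, key]
    exact h s hs
  rw [← key, h0, Polynomial.eval_zero]

local notation "PC" => Polynomial.C

theorem chartL [Infinite k] {f : D k} (hf : f ∈ P k) {x : Fin 9 → k} (hx : InI k x)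
    (hL : x 0 - x 8 ≠ 0 ∨ x 1 + x 5 ≠ 0 ∨ x 3 + x 7 ≠ 0) : aeval x f = 0 := by
  by_cases h3 : x 3 + x 7 ≠ 0
  · exact chart3 k hf hx h3
  rw [not_not] at h3
  obtain ⟨q1, q2, q3⟩ := hx
  rcases hL with h1 | h2 | h
  · -- chart `L1 ≠ 0`, parameter `L3`
    obtain ⟨l, hl⟩ : ∃ l, (x 0 - x 8) * l = 1 := ⟨_, mul_inv_cancel₀ h1⟩
    let T : Polynomial k := Polynomial.X
    let pf := (PC (x 2) * T - PC (x 8 * (x 1 + x 5))) * PC l
    let pb := PC (x 1 + x 5) - pf
    let ph := (PC (x 6 * (x 1 + x 5)) - PC (x 8) * T) * PC l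
    let pe := (pb * T - ph * PC (x 1 + x 5)) * PC l
    let F : Fin 9 → Polynomial k :=
      ![PC (x 0), pb, PC (x 2), T - ph, pe, pf, PC (x 6), ph, PC (x 8)]
    have hF : (fun v => (F v).eval 0) = x := by
      have e5 : -(x 8 * (x 1 + x 5)) * l = x 5 := by
        linear_combination (x 5) * hl + l * q3 - l * x 2 * h3
      have e7 : x 6 * (x 1 + x 5) * l = x 7 := by
        linear_combination (x 7) * hl - l * q1 + l * x 8 * h3
      have e4 : -(x 7 * (x 1 + x 5)) * l = x 4 := by
        linear_combination (x 4) * hl + l * q2 - l * x 1 * h3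
      funext v
      fin_cases v <;> simp [F, pb, pf, ph, pe, T]
      · linear_combination -e5
      · linear_combination -e7 - h3
      · linear_combination e4 - (x 1 + x 5) * l * e7
      · linear_combination e5
      · linear_combination e7
    rw [← hF]
    refine curve k F fun s hs => chart3 k hf ⟨?_, ?_, ?_⟩ (by simp [F, T, hs])
    · simp [F, pb, pf, ph, pe, T]
      linear_combination (x 6 * (x 1 + x 5) - x 8 * s) * hl
    · simp [F, pb, pf, ph, pe, T]
      linear_combination (-((x 1 + x 5 - (x 2 * s - x 8 * (x 1 + x 5)) * l) * s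
        - (x 6 * (x 1 + x 5) - x 8 * s) * l * (x 1 + x 5))) * hl
    · simp [F, pb, pf, ph, pe, T]
      linear_combination (-(x 2 * s - x 8 * (x 1 + x 5))) * hl
  · -- chart `L2 ≠ 0`, parameter `L3`
    obtain ⟨l, hl⟩ : ∃ l, (x 1 + x 5) * l = 1 := ⟨_, mul_inv_cancel₀ h2⟩
    let T : Polynomial k := Polynomial.X
    let pi := (PC (x 2) * T - PC (x 5 * (x 0 - x 8))) * PC l
    let ph := (PC (x 1) * T - PC (x 4 * (x 0 - x 8))) * PC l
    let pg := (ph * PC (x 0 - x 8) + pi * T) * PC l
    let F : Fin 9 → Polynomial k :=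
      ![PC (x 0 - x 8) + pi, PC (x 1), PC (x 2), T - ph, PC (x 4), PC (x 5), pg, ph, pi]
    have hF : (fun v => (F v).eval 0) = x := by
      have e8 : -(x 5 * (x 0 - x 8)) * l = x 8 := by
        linear_combination (x 8) * hl + l * q3 - l * x 2 * h3
      have e7 : -(x 4 * (x 0 - x 8)) * l = x 7 := by
        linear_combination (x 7) * hl + l * q2 - l * x 1 * h3
      have e6 : (x 7 * (x 0 - x 8)) * l = x 6 := by
        linear_combination (x 6) * hl + l * q1 - l * x 8 * h3
      funext v
      fin_cases v <;> simp [F, pi, ph, pg, T]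
      · linear_combination e8
      · linear_combination -e7 - h3
      · linear_combination e6 + (x 0 - x 8) * l * e7
      · linear_combination e7
      · linear_combination e8
    rw [← hF]
    refine curve k F fun s hs => chart3 k hf ⟨?_, ?_, ?_⟩ (by simp [F, T, hs])
    · simp [F, pi, ph, pg, T]
      linear_combination (-(((x 1 * s - x 4 * (x 0 - x 8)) * l * (x 0 - x 8)
        + (x 2 * s - x 5 * (x 0 - x 8)) * l * s))) * hl
    · simp [F, pi, ph, pg, T]
      linear_combination (-(x 1 * s - x 4 * (x 0 - x 8))) * hl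
    · simp [F, pi, ph, pg, T]
      linear_combination (-(x 2 * s - x 5 * (x 0 - x 8))) * hl
  · exact absurd h3 h

theorem vanish [Infinite k] {f : D k} (hf : f ∈ P k) {x : Fin 9 → k}
    (hxJ : x ∈ zeroLocus k (idJ k)) : aeval x f = 0 := by
  have q1 := hxJ _ (idI_le_idJ k (Ideal.subset_span (by simp : Q1 k ∈ _)))
  have q2 := hxJ _ (idI_le_idJ k (Ideal.subset_span (by simp : Q2 k ∈ _)))
  have q3 := hxJ _ (idI_le_idJ k (Ideal.subset_span (by simp : Q3 k ∈ _)))
  have qd := hxJ _ (det_mem_idJ k)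
  rw [aeval_Q1] at q1
  rw [aeval_Q2] at q2
  rw [aeval_Q3] at q3
  by_cases hL : x 0 - x 8 ≠ 0 ∨ x 1 + x 5 ≠ 0 ∨ x 3 + x 7 ≠ 0
  · exact chartL k hf ⟨q1, q2, q3⟩ hL
  push Not at hL
  obtain ⟨l1, l2, l3⟩ := hL
  let M : Matrix (Fin 3) (Fin 3) k :=
    !![x 7, -x 6, x 8; -x 4, -x 7, x 1; -x 5, -x 8, x 2]
  have hdet : M.det = 0 := by
    rw [Matrix.det_fin_three]
    simp [detM] at qd
    simp [M]
    linear_combination qd
  obtain ⟨v, hv0, hv⟩ := Matrix.exists_mulVec_eq_zero_iff.2 hdet
  have r1 := congrFun hv 0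
  have r2 := congrFun hv 1
  have r3 := congrFun hv 2
  simp [M, Matrix.mulVec, dotProduct, Fin.sum_univ_three] at r1 r2 r3
  let T : Polynomial k := Polynomial.X
  by_cases hv2 : v 2 = 0
  · let F : Fin 9 → Polynomial k :=
      ![PC (v 0) * T + PC (x 8), PC (v 1) * T - PC (x 5), PC (x 2), -PC (x 7), PC (x 4), PC (x 5), PC (x 6),
        PC (x 7), PC (x 8)]
    have hF : (fun j => (F j).eval 0) = x := by
      funext j
      fin_cases j <;> simp [F, T]
      · linear_combination -l1
      · linear_combination -l2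
      · linear_combination -l3
    rw [← hF]
    refine curve k F fun s hs => chartL k hf ⟨?_, ?_, ?_⟩ ?_
    · simp [F, T]; linear_combination s * r1 - s * x 8 * hv2
    · simp [F, T]; linear_combination s * r2 - s * x 1 * hv2
    · simp [F, T]; linear_combination s * r3 - s * x 2 * hv2
    · by_contra hc
      push Not at hc
      simp [F, T, hs] at hc
      exact hv0 (by funext j; fin_cases j <;> simp [hc.1, hc.2, hv2])
  · obtain ⟨l, hl⟩ : ∃ l, v 2 * l = 1 := ⟨_, mul_inv_cancel₀ hv2⟩
    let F : Fin 9 → Polynomial k :=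
      ![PC (v 0) * T + PC (x 8), PC (x 1), PC (x 2) + PC (v 1 * v 0 * l) * T, PC (v 2) * T - PC (x 7),
        PC (x 4), PC (v 1) * T - PC (x 1), PC (x 6), PC (x 7), PC (x 8)]
    have hF : (fun j => (F j).eval 0) = x := by
      funext j
      fin_cases j <;> simp [F, T]
      · linear_combination -l1
      · linear_combination -l3
      · linear_combination -l2
    rw [← hF]
    refine curve k F fun s hs => chart3 k hf ⟨?_, ?_, ?_⟩ (by simp [F, T, hs, hv2])
    · simp [F, T]; linear_combination s * r1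
    · simp [F, T]; linear_combination s * r2
    · simp [F, T]
      linear_combination s * r3 + v 0 * v 1 * s ^ 2 * hl + s * v 0 * l2

theorem idJ_isPrime [IsAlgClosed k] : (idJ k).IsPrime := by
  have h : P k ≤ idJ k := by
    calc P k ≤ vanishingIdeal k (zeroLocus k (idJ k)) := fun f hf x hx => vanish k hf hx
      _ = (idJ k).radical := vanishingIdeal_zeroLocus_eq_radical _
      _ ≤ idJ k := idJ_isRadical k
  rw [le_antisymm (idJ_le_P k) h]
  exact P_isPrime k

end Groth.Agent.H4Lie3Prime
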