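import Mathlib
import Groth.Prelude.Def_LinTop
import Groth.Prelude.Def_W4stk3formalspacesTaut

/-!
Basic facts on linearly topologized rings, ideals of definition and taut maps.
-/

set_option autoImplicit false
set_option linter.unusedSectionVars false

open Filter Topology

namespace Groth.Agent.H4LinTop

universe u v

/-- Closure of a submodule in a linear topology. -/
theorem mem_closure_iff_forall_mem_sup {R : Type u} [Ring R] {M : Type v} [AddCommGroup M]
    [Module R M] [TopologicalSpace M] [IsTopologicalAddGroup M] {ι : Type*} {p : ι → Prop}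
    (B : ι → Submodule R M) (hB : (𝓝 (0 : M)).HasBasis p (fun i => (B i : Set M)))
    (N : Submodule R M) (x : M) :
    x ∈ closure (N : Set M) ↔ ∀ i, p i → x ∈ N ⊔ B i := by
  have hb : (𝓝 x).HasBasis p (fun i => (x + ·) '' (B i : Set M)) := by
    have := hB.map (x + ·)
    rwa [map_add_left_nhds_zero] at this
  rw [mem_closure_iff_nhds_basis hb]
  refine forall_congr' fun i => forall_congr' fun _ => ⟨?_, ?_⟩
  · rintro ⟨y, hy, b, hb, rfl⟩
    have : x = (x + b) - b := by abel
    rw [this]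
    exact sub_mem (Submodule.mem_sup_left hy) (Submodule.mem_sup_right hb)
  · intro hx
    obtain ⟨y, hy, b, hb, hxy⟩ := Submodule.mem_sup.1 hx
    exact ⟨y, hy, -b, neg_mem hb, by simp [← hxy]⟩

variable {A : Type u} [CommRing A] [TopologicalSpace A] [IsTopologicalRing A]

theorem isClosed_of_isOpen {I : Ideal A} (h : IsOpen (I : Set A)) : IsClosed (I : Set A) :=
  I.toAddSubgroup.isClosed_of_isOpen h

theorem isOpen_of_le {I J : Ideal A} (h : I ≤ J) (hI : IsOpen (I : Set A)) :
    IsOpen (J : Set A) :=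
  AddSubgroup.isOpen_mono (H₁ := I.toAddSubgroup) (H₂ := J.toAddSubgroup) h hI

theorem isOpen_of_mem_nhds {I : Ideal A} (h : (I : Set A) ∈ 𝓝 0) : IsOpen (I : Set A) :=
  I.toAddSubgroup.isOpen_of_mem_nhds h

theorem mem_nhds_zero {I : Ideal A} (h : IsOpen (I : Set A)) : (I : Set A) ∈ 𝓝 0 :=
  h.mem_nhds I.zero_mem

theorem isOpen_inf {I J : Ideal A} (hI : IsOpen (I : Set A)) (hJ : IsOpen (J : Set A)) :
    IsOpen ((I ⊓ J : Ideal A) : Set A) := by
  rw [Submodule.coe_inf]
  exact hI.inter hJ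

theorem le_closure (I : Ideal A) : I ≤ I.closure := fun _ hx => subset_closure hx

theorem closure_le {I J : Ideal A} (h : I ≤ J) (hJ : IsOpen (J : Set A)) : I.closure ≤ J :=
  closure_minimal (s := (I : Set A)) h (isClosed_of_isOpen hJ)

theorem closure_mono' {I J : Ideal A} (h : I ≤ J) : I.closure ≤ J.closure :=
  _root_.closure_mono (s := (I : Set A)) h

theorem closure_le_closure {I J : Ideal A} (h : I ≤ J.closure) : I.closure ≤ J.closure :=
  closure_minimal (s := (I : Set A)) h isClosed_closure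

theorem closure_mul_le (I J : Ideal A) : I.closure * J.closure ≤ (I * J).closure := by
  rw [Ideal.mul_le]
  intro a ha b hb
  exact map_mem_closure₂ continuous_mul ha hb fun x hx y hy => Ideal.mul_mem_mul hx hy

theorem closure_pow_le (I : Ideal A) (n : ℕ) : I.closure ^ n ≤ (I ^ n).closure := by
  induction n with
  | zero => simpa using le_closure (1 : Ideal A)
  | succ n ih =>
    rw [pow_succ, pow_succ]
    exact (Ideal.mul_mono_left ih).trans (closure_mul_le _ _)

theorem closure_le_sup (N : Ideal A) {U : Ideal A} (hU : IsOpen (U : Set A)) :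
    N.closure ≤ N ⊔ U :=
  closure_le le_sup_left (isOpen_of_le le_sup_right hU)

theorem sup_pow_le (K U : Ideal A) (n : ℕ) : (K ⊔ U) ^ n ≤ K ^ n ⊔ U := by
  induction n with
  | zero => simp
  | succ n ih =>
    rw [pow_succ]
    refine (Ideal.mul_mono_left ih).trans ?_
    rw [Ideal.sup_mul, Ideal.mul_sup]
    refine sup_le (sup_le ?_ ?_) ?_
    · rw [← pow_succ]; exact le_sup_left
    · exact Ideal.mul_le_right.trans le_sup_right
    · exact Ideal.mul_le_left.trans' le_rfl |>.trans le_sup_right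

section Linear

variable [IsLinearTopology A A]

theorem exists_open_ideal {U : Set A} (hU : U ∈ 𝓝 (0 : A)) :
    ∃ J : Ideal A, IsOpen (J : Set A) ∧ (J : Set A) ⊆ U :=
  IsLinearTopology.hasBasis_open_ideal.mem_iff.1 hU

theorem mem_closure_iff (N : Ideal A) (x : A) :
    x ∈ N.closure ↔ ∀ U : Ideal A, IsOpen (U : Set A) → x ∈ N ⊔ U :=
  mem_closure_iff_forall_mem_sup (fun U : Ideal A => U) IsLinearTopology.hasBasis_open_ideal N x

theorem nonarchimedean : NonarchimedeanRing A where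
  is_nonarchimedean U hU := by
    obtain ⟨J, hJ, hJU⟩ := exists_open_ideal hU
    exact ⟨⟨J.toAddSubgroup, hJ⟩, hJU⟩

theorem isClosed_topologicalNilradical :
    IsClosed ((topologicalNilradical A : Ideal A) : Set A) := by
  refine isClosed_of_closure_subset fun x hx => ?_
  refine tendsto_nhds.2 fun S hS h0 => ?_
  obtain ⟨U, hU, hUS⟩ := exists_open_ideal (hS.mem_nhds h0)
  obtain ⟨y, hy, u, hu, rfl⟩ :=
    Submodule.mem_sup.1 (closure_le_sup (topologicalNilradical A) hU hx)
  have hy' : IsTopologicallyNilpotent y := IsTopologicallyNilpotent.mem_topologicalNilradical_iff.1 hy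
  filter_upwards [hy'.eventually_mem (mem_nhds_zero hU)] with n hn
  apply hUS
  rw [SetLike.mem_coe, ← Ideal.Quotient.eq_zero_iff_mem] at hn ⊢
  simpa [map_add, Ideal.Quotient.eq_zero_iff_mem.2 hu] using hn

/-- The ideal generated by images of topologically nilpotent elements consists of such. -/
theorem map_closure_topNilp {A' : Type*} [CommRing A'] [TopologicalSpace A'] (φ : A' →+* A)
    (hφ : Continuous φ) (I : Ideal A') (hI : ∀ f ∈ I, IsTopologicallyNilpotent f) :
    ∀ g ∈ (I.map φ).closure, IsTopologicallyNilpotent g := by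
  intro g hg
  have : I.map φ ≤ topologicalNilradical A := Ideal.map_le_iff_le_comap.2 fun f hf =>
    IsTopologicallyNilpotent.mem_topologicalNilradical_iff.2 ((hI f hf).map hφ)
  exact IsTopologicallyNilpotent.mem_topologicalNilradical_iff.1
    (closure_minimal (s := ((I.map φ : Ideal A) : Set A)) this isClosed_topologicalNilradical hg)

end Linear

/-! ### Ideals of definition -/

open LinTop

omit [IsTopologicalRing A] in
theorem pow_le_of_isOpen {I U : Ideal A} (hI : IsIdealOfDefinition A I)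
    (hU : IsOpen (U : Set A)) : ∃ n : ℕ, 0 < n ∧ I ^ n ≤ U :=
  hI.2 _ (hU.mem_nhds U.zero_mem)

omit [IsTopologicalRing A] in
theorem isTopologicallyNilpotent_of_mem {I : Ideal A} (hI : IsIdealOfDefinition A I) {x : A}
    (hx : x ∈ I) : IsTopologicallyNilpotent x := by
  refine tendsto_nhds.2 fun S hS h0 => ?_
  obtain ⟨n, -, hn⟩ := hI.2 S (hS.mem_nhds h0)
  refine eventually_atTop.2 ⟨n, fun m hm => ?_⟩
  exact hn (Ideal.pow_le_pow_right hm (Ideal.pow_mem_pow hx m))

omit [IsTopologicalRing A] in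
theorem isWeakIdealOfDefinition {I : Ideal A} (hI : IsIdealOfDefinition A I) :
    IsWeakIdealOfDefinition A I :=
  ⟨hI.1, fun _ hx => isTopologicallyNilpotent_of_mem hI hx⟩

theorem isIdealOfDefinition_of_pow_le [IsLinearTopology A A] {I J : Ideal A}
    (hI : IsIdealOfDefinition A I) (hJ : IsOpen (J : Set A)) {n : ℕ} (hn : 0 < n)
    (h : J ^ n ≤ I) : IsIdealOfDefinition A J := by
  refine ⟨hJ, fun U hU => ?_⟩
  obtain ⟨m, hm, hmU⟩ := hI.2 U hU
  refine ⟨n * m, Nat.mul_pos hn hm, ?_⟩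
  rw [pow_mul]
  exact fun x hx => hmU (Ideal.pow_right_mono h m hx)

theorem isAdic_of_isIdealOfDefinition {L I : Ideal A} (hL : IsAdic L)
    (hI : IsIdealOfDefinition A I) : IsAdic I := by
  rw [isAdic_iff] at hL ⊢
  refine ⟨fun n => ?_, fun s hs => ?_⟩
  · obtain ⟨k, hk⟩ := hL.2 _ (mem_nhds_zero hI.1)
    refine isOpen_of_le (I := L ^ (k * n)) ?_ (hL.1 _)
    rw [pow_mul]
    exact Ideal.pow_right_mono hk n
  · obtain ⟨n, -, hn⟩ := hI.2 s hs
    exact ⟨n, hn⟩

theorem isIdealOfDefinition_of_isAdic {L : Ideal A} (hL : IsAdic L) :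
    IsIdealOfDefinition A L := by
  rw [isAdic_iff] at hL
  refine ⟨by simpa using hL.1 1, fun U hU => ?_⟩
  obtain ⟨n, hn⟩ := hL.2 U hU
  exact ⟨n + 1, n.succ_pos, fun x hx => hn (Ideal.pow_le_pow_right n.le_succ hx)⟩

theorem isLinearTopology_of_isPreadic (h : IsPreadic A) : IsLinearTopology A A := by
  obtain ⟨L, hL⟩ := h
  exact IsLinearTopology.mk_of_hasBasis A (s := fun n : ℕ => L ^ n) hL.hasBasis_nhds_zero

/-- Weakly preadic rings have an ideal of definition with all powers having open closures. -/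
theorem exists_of_weaklyPreadic (hA : IsWeaklyPreadic A) :
    ∃ I : Ideal A, IsIdealOfDefinition A I ∧
      ∀ n : ℕ, IsOpen (closure ((I ^ n : Ideal A) : Set A)) := by
  obtain ⟨hlin, I, hopen, hbasis⟩ := hA
  have h1 : IsOpen ((I.closure : Ideal A) : Set A) := by
    have := hopen 1
    rwa [pow_one] at this
  refine ⟨I.closure, ⟨h1, fun U hU => ?_⟩, fun n => ?_⟩
  · obtain ⟨J, hJ, hJU⟩ := exists_open_ideal hU
    obtain ⟨n, hn⟩ := hbasis _ (mem_nhds_zero hJ)
    refine ⟨n + 1, n.succ_pos, fun x hx => hJU ?_⟩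
    exact hn (closure_pow_le I n (Ideal.pow_le_pow_right n.le_succ hx))
  · exact isOpen_of_le (I := (I ^ n).closure) (closure_mono' (Ideal.pow_right_mono (le_closure I) n))
      (hopen n)

theorem closure_pow_isOpen_of {I J : Ideal A} (hI : IsIdealOfDefinition A I)
    (hopen : ∀ n : ℕ, IsOpen (closure ((I ^ n : Ideal A) : Set A)))
    (hJ : IsOpen (J : Set A)) (n : ℕ) : IsOpen (closure ((J ^ n : Ideal A) : Set A)) := by
  obtain ⟨m, -, hm⟩ := pow_le_of_isOpen hI hJ
  refine isOpen_of_le (I := (I ^ (m * n)).closure) (J := (J ^ n).closure) (closure_mono' ?_) (hopen _)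
  rw [pow_mul]
  exact Ideal.pow_right_mono hm n

theorem weaklyPreadic_of [IsLinearTopology A A] {I : Ideal A} (hI : IsIdealOfDefinition A I)
    (hopen : ∀ n : ℕ, IsOpen (closure ((I ^ n : Ideal A) : Set A))) : IsWeaklyPreadic A := by
  refine ⟨inferInstance, I, hopen, fun U hU => ?_⟩
  obtain ⟨J, hJ, hJU⟩ := exists_open_ideal hU
  obtain ⟨n, -, hn⟩ := pow_le_of_isOpen hI hJ
  exact ⟨n, fun x hx => hJU (closure_le hn hJ hx)⟩

/-! ### Taut maps -/

section Taut

variable {B : Type v} [CommRing B] [TopologicalSpace B] [IsTopologicalRing B]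

omit [IsTopologicalRing A] in
theorem map_closure_le {φ : A →+* B} (hφ : Continuous φ) [IsTopologicalRing A] (I : Ideal A) :
    I.closure.map φ ≤ (I.map φ).closure :=
  Ideal.map_le_iff_le_comap.2 fun _ hx =>
    map_mem_closure hφ hx fun _ hy => Ideal.mem_map_of_mem φ hy

theorem taut_idealOfDefinition [IsLinearTopology B B] {φ : A →+* B} (hφ : IsTaut φ)
    {I : Ideal A} (hI : IsIdealOfDefinition A I) :
    IsIdealOfDefinition B (I.map φ).closure := by
  refine ⟨hφ.2.1 I hI.1, fun U hU => ?_⟩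
  obtain ⟨J, hJ, hJU⟩ := exists_open_ideal hU
  obtain ⟨n, hn, hnJ⟩ := pow_le_of_isOpen (U := J.comap φ) hI (hJ.preimage hφ.1)
  refine ⟨n, hn, fun x hx => hJU ?_⟩
  have h1 : (I.map φ) ^ n ≤ J := by
    rw [← Ideal.map_pow]
    exact Ideal.map_le_iff_le_comap.2 hnJ
  exact closure_le h1 hJ (closure_pow_le _ n hx)

theorem taut_closure_pow {φ : A →+* B} (hφ : IsTaut φ) {I : Ideal A}
    (hopen : ∀ n : ℕ, IsOpen (closure ((I ^ n : Ideal A) : Set A))) (n : ℕ) :
    IsOpen (closure (((I.map φ) ^ n : Ideal B) : Set B)) := by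
  rw [← Ideal.map_pow]
  refine isOpen_of_le (I := ((I ^ n).closure.map φ).closure) (J := ((I ^ n).map φ).closure)
    (closure_le_closure (map_closure_le hφ.1 _)) (hφ.2.1 _ (hopen n))

theorem taut_weaklyPreadic [IsLinearTopology B B] {φ : A →+* B} (hφ : IsTaut φ)
    (hA : IsWeaklyPreadic A) : IsWeaklyPreadic B := by
  obtain ⟨I, hI, hopen⟩ := exists_of_weaklyPreadic hA
  refine weaklyPreadic_of (taut_idealOfDefinition hφ hI) fun n => ?_
  exact isOpen_of_le (I := ((I.map φ) ^ n).closure)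
    (closure_mono' (Ideal.pow_right_mono (le_closure _) n)) (taut_closure_pow hφ hopen n)

theorem comap_closure_map_eq {φ : A →+* B} (hφ : IsTautFFlat φ) {I : Ideal A}
    (hI : IsOpen (I : Set A)) : (I.map φ).closure.comap φ = I := by
  refine le_antisymm (fun x hx => ?_) (Ideal.le_comap_map.trans (Ideal.comap_mono (le_closure _)))
  rw [← Ideal.Quotient.eq_zero_iff_mem]
  apply (hφ.2 I hI).injective
  rw [map_zero]
  change Ideal.Quotient.mk _ (φ x) = 0
  exact Ideal.Quotient.eq_zero_iff_mem.2 hx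

theorem comap_closure_map_le [IsLinearTopology A A] {φ : A →+* B} (hφ : IsTautFFlat φ)
    (N : Ideal A) : (N.map φ).closure.comap φ ≤ N.closure := by
  intro x hx
  rw [mem_closure_iff]
  intro U hU
  rw [← comap_closure_map_eq hφ (isOpen_of_le le_sup_right hU : IsOpen ((N ⊔ U : Ideal A) : Set A))]
  exact closure_mono' (Ideal.map_mono le_sup_left) hx

theorem ffl_idealOfDefinition {φ : A →+* B} (hφ : IsTautFFlat φ) [IsLinearTopology A A]
    {J : Ideal B} (hJ : IsIdealOfDefinition B J) : IsIdealOfDefinition A (J.comap φ) := by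
  refine ⟨hJ.1.preimage hφ.1.1, fun U hU => ?_⟩
  obtain ⟨V, hV, hVU⟩ := exists_open_ideal hU
  obtain ⟨n, hn, hnJ⟩ := pow_le_of_isOpen (U := (V.map φ).closure) hJ (hφ.1.2.1 V hV)
  refine ⟨n, hn, fun x hx => hVU ?_⟩
  rw [← comap_closure_map_eq hφ hV]
  exact Ideal.comap_mono hnJ (Ideal.le_comap_pow φ n hx)

end Taut

/-! ### Complete rings -/

section Complete

variable {R : Type u} [CommRing R] [UniformSpace R] [IsUniformAddGroup R] [IsTopologicalRing R]
  [IsLinearTopology R R] [T2Space R] [CompleteSpace R]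

theorem summable_of_tendsto_zero {d : ℕ → R} (hd : Tendsto d atTop (𝓝 0)) : Summable d := by
  have := nonarchimedean (A := R)
  exact NonarchimedeanAddGroup.summable_of_tendsto_cofinite_zero (by rwa [Nat.cofinite_eq_atTop])

theorem exists_tendsto {y : ℕ → R} (hy : Tendsto (fun k => y k - y (k + 1)) atTop (𝓝 0)) :
    ∃ L, Tendsto y atTop (𝓝 L) := by
  obtain ⟨S, hS⟩ := summable_of_tendsto_zero hy
  refine ⟨y 0 - S, ?_⟩
  have := tendsto_const_nhds (x := y 0).sub hS.tendsto_sum_nat
  simpa only [Finset.sum_range_sub', sub_sub_cancel] using this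

theorem tendsto_zero_of_mem_pow {I : Ideal R}
    (hI : ∀ U ∈ 𝓝 (0 : R), ∃ n : ℕ, ((I ^ n : Ideal R) : Set R) ⊆ U)
    {d : ℕ → R} (hd : ∀ k, d k ∈ I ^ k) : Tendsto d atTop (𝓝 0) := by
  refine tendsto_nhds.2 fun U hU h0 => ?_
  obtain ⟨n, hn⟩ := hI U (hU.mem_nhds h0)
  exact eventually_atTop.2 ⟨n, fun m hm => hn (Ideal.pow_le_pow_right hm (hd m))⟩

theorem sub_mem_span {ι : Type*} [Fintype ι] (g : ι → R) {I : Ideal R}
    (hI : ∀ U ∈ 𝓝 (0 : R), ∃ n : ℕ, ((I ^ n : Ideal R) : Set R) ⊆ U)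
    {y : ℕ → R} (hy : ∀ k, y k - y (k + 1) ∈ I ^ k * Ideal.span (Set.range g))
    {L : R} (hL : Tendsto y atTop (𝓝 L)) : y 0 - L ∈ Ideal.span (Set.range g) := by
  have h1 : ∀ k, ∃ c : ι →₀ R, (∀ i, c i ∈ I ^ k) ∧ ∑ i, c i * g i = y k - y (k + 1) := by
    intro k
    have hk : y k - y (k + 1) ∈ (I ^ k) • Submodule.span R (Set.range g) := hy k
    obtain ⟨a, ha, ha'⟩ := (Submodule.mem_ideal_smul_span_iff_exists_sum _ g _).1 hk
    refine ⟨a, ha, ?_⟩
    rw [← ha', Finsupp.sum_fintype _ _ (by simp)]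
    simp
  choose c hc hsum using h1
  have hs : ∀ i, Summable (fun k => c k i) := fun i =>
    summable_of_tendsto_zero (tendsto_zero_of_mem_pow hI fun k => hc k i)
  have h2 : HasSum (fun k => ∑ i, c k i * g i) (∑ i, (∑' k, c k i) * g i) :=
    hasSum_sum fun i _ => (hs i).hasSum.mul_right (g i)
  simp_rw [hsum] at h2
  have h3 : Tendsto (fun K => ∑ k ∈ Finset.range K, (y k - y (k + 1))) atTop (𝓝 (y 0 - L)) := by
    simp only [Finset.sum_range_sub']
    exact tendsto_const_nhds.sub hL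
  rw [← tendsto_nhds_unique h2.tendsto_sum_nat h3]
  exact Ideal.sum_mem _ fun i _ => Ideal.mul_mem_left _ _ (Ideal.subset_span ⟨i, rfl⟩)

theorem fg_pow {I : Ideal R} (hfg : I.FG) : ∀ n : ℕ, (I ^ n).FG
  | 0 => by rw [pow_zero, Ideal.one_eq_top]; exact ⟨{1}, by simp⟩
  | n + 1 => by rw [pow_succ]; exact Submodule.FG.mul (fg_pow hfg n) hfg

theorem closure_pow_eq {I : Ideal R} (hfg : I.FG)
    (hopen : ∀ n : ℕ, IsOpen (closure ((I ^ n : Ideal R) : Set R)))
    (hbasis : ∀ U ∈ 𝓝 (0 : R), ∃ n : ℕ, ((I ^ n : Ideal R) : Set R) ⊆ U) (n : ℕ) :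
    (I ^ n).closure = I ^ n := by
  refine le_antisymm (fun x hx => ?_) (le_closure _)
  have step : ∀ (k : ℕ) (z : R), z ∈ (I ^ (n + k)).closure →
      ∃ w, w ∈ (I ^ (n + k + 1)).closure ∧ z - w ∈ I ^ (n + k) := by
    intro k z hz
    obtain ⟨a, ha, w, hw, rfl⟩ := Submodule.mem_sup.1
      (closure_le_sup (I ^ (n + k)) (U := (I ^ (n + k + 1)).closure) (hopen _) hz)
    exact ⟨w, hw, by simpa using ha⟩
  choose! f hf1 hf2 using step
  let y : ℕ → R := fun k => Nat.rec x (fun k z => f k z) k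
  have hy : ∀ k, y k ∈ (I ^ (n + k)).closure := by
    intro k
    induction k with
    | zero => exact hx
    | succ k ih => exact hf1 k (y k) ih
  have hlim : Tendsto y atTop (𝓝 0) := by
    refine tendsto_nhds.2 fun S hS h0 => ?_
    obtain ⟨J, hJ, hJS⟩ := exists_open_ideal (hS.mem_nhds h0)
    obtain ⟨m, hm⟩ := hbasis _ (mem_nhds_zero hJ)
    refine eventually_atTop.2 ⟨m, fun k hk => hJS (closure_le ?_ hJ (hy k))⟩
    exact (Ideal.pow_le_pow_right (by omega)).trans hm
  obtain ⟨s, hs⟩ := fg_pow hfg n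
  have hspan : Ideal.span (Set.range (fun a : s => (a : R))) = I ^ n := by
    have : Set.range (fun a : s => (a : R)) = (s : Set R) := Subtype.range_coe
    rw [this]; exact hs
  have := sub_mem_span (fun a : s => (a : R)) hbasis (y := y) (fun k => ?_) hlim
  · rw [hspan, sub_zero] at this
    exact this
  · rw [hspan, ← pow_add, add_comm k n]
    exact hf2 k (y k) (hy k)

theorem isUnit_one_add {x : R} (hx : IsTopologicallyNilpotent x) : IsUnit (1 + x) := by
  have h1 : IsTopologicallyNilpotent (-x) := by simpa using hx.mul_left (-1)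
  have h2 : Summable fun k => (-x) ^ k := summable_of_tendsto_zero h1
  refine .of_mul_eq_one (∑' k, (-x) ^ k) ?_
  have h3 : ∑' k, (-x) ^ k = 1 + (-x) * ∑' k, (-x) ^ k := by
    conv_lhs => rw [h2.tsum_eq_zero_add, pow_zero]
    simp_rw [pow_succ']
    rw [h2.tsum_mul_left]
  linear_combination h3

theorem le_jacobson {I : Ideal R} (hI : ∀ f ∈ I, IsTopologicallyNilpotent f) :
    I ≤ (⊥ : Ideal R).jacobson := by
  intro x hx
  rw [Ideal.mem_jacobson_bot]
  intro y
  rw [add_comm]
  exact isUnit_one_add ((hI x hx).mul_right y)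

theorem isAdicComplete_of_fg {I : Ideal R} (hfg : I.FG)
    (hbasis : ∀ U ∈ 𝓝 (0 : R), ∃ n : ℕ, ((I ^ n : Ideal R) : Set R) ⊆ U) :
    IsAdicComplete I R := by
  refine { haus' := fun x hx => ?_, prec' := fun f hf => ?_ }
  · have h1 : ∀ U ∈ 𝓝 (0 : R), x ∈ U := fun U hU => by
      obtain ⟨n, hn⟩ := hbasis U hU
      exact hn (by simpa [SModEq.zero] using hx n)
    by_contra hne
    exact h1 ({x}ᶜ) (isOpen_compl_singleton.mem_nhds (Ne.symm hne)) rfl
  · simp only [SModEq.sub_mem, smul_eq_mul, Ideal.mul_top] at hf ⊢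
    obtain ⟨L, hL⟩ := exists_tendsto (y := f)
      (tendsto_zero_of_mem_pow hbasis fun k => hf (Nat.le_succ k))
    refine ⟨L, fun n => ?_⟩
    obtain ⟨s, hs⟩ := fg_pow hfg n
    have hspan : Ideal.span (Set.range (fun a : s => (a : R))) = I ^ n := by
      have : Set.range (fun a : s => (a : R)) = (s : Set R) := Subtype.range_coe
      rw [this]; exact hs
    rw [← hspan]
    refine sub_mem_span (fun a : s => (a : R)) hbasis (y := fun k => f (n + k)) (fun k => ?_)
      (hL.comp (tendsto_atTop_atTop.2 fun b => ⟨b, fun a ha => by omega⟩))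
    rw [hspan, ← pow_add, add_comm k n]
    exact hf (Nat.le_succ (n + k))

end Complete

end Groth.Agent.H4LinTop
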