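import Mathlib
import Groth.Agent.Lib.H4LinTop

/-!
Completions of linearly topologized groups and rings, and a successive-approximation lemma.
-/

set_option autoImplicit false
set_option linter.unusedSectionVars false

open Filter Topology UniformSpace

namespace Groth.Agent.H4LinTopCompl

universe u v

/-- Successive approximation: the image of an open subgroup is closed. -/
theorem image_eq_closure {X : Type u} {Y : Type v} [AddCommGroup X] [UniformSpace X]
    [IsUniformAddGroup X] [CompleteSpace X] [AddCommGroup Y] [TopologicalSpace Y]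
    [IsTopologicalAddGroup Y] [T2Space Y] (f : X →+ Y) (hf : Continuous f) (G : ℕ → AddSubgroup X)
    (hG : Antitone G) (hopen : ∀ n, IsOpen (G n : Set X))
    (hX : ∀ U ∈ 𝓝 (0 : X), ∃ n, (G n : Set X) ⊆ U)
    (hY : ∀ n, closure (f '' (G n : Set X)) ∈ 𝓝 (0 : Y))
    (hY' : ∀ U ∈ 𝓝 (0 : Y), ∃ n, closure (f '' (G n : Set X)) ⊆ U) (n : ℕ) :
    f '' (G n : Set X) = closure (f '' (G n : Set X)) := by
  refine subset_closure.antisymm fun b hb => ?_
  have step : ∀ k c, c ∈ closure (f '' (G k : Set X)) →
      ∃ a ∈ G k, c - f a ∈ closure (f '' (G (k + 1) : Set X)) := by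
    intro k c hc
    have : (fun y => c - y) ⁻¹' closure (f '' (G (k + 1) : Set X)) ∈ 𝓝 c :=
      (continuous_const.sub continuous_id).continuousAt.preimage_mem_nhds
        (by simpa using hY (k + 1))
    obtain ⟨_, h1, a, ha, rfl⟩ := mem_closure_iff_nhds.1 hc _ this
    exact ⟨a, ha, h1⟩
  choose! g hg1 hg2 using step
  let r : ℕ → Y := fun k => Nat.rec b (fun k c => c - f (g (n + k) c)) k
  have hr : ∀ k, r k ∈ closure (f '' (G (n + k) : Set X)) := by
    intro k
    induction k with
    | zero => exact hb
    | succ k ih => exact hg2 (n + k) (r k) ih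
  have hrsucc : ∀ k, r (k + 1) = r k - f (g (n + k) (r k)) := fun _ => rfl
  have : NonarchimedeanAddGroup X := ⟨fun U hU => by
    obtain ⟨m, hm⟩ := hX U hU
    exact ⟨⟨G m, hopen m⟩, hm⟩⟩
  have ht : Tendsto (fun k => g (n + k) (r k)) atTop (𝓝 0) := by
    refine tendsto_nhds.2 fun S hS h0 => ?_
    obtain ⟨m, hm⟩ := hX S (hS.mem_nhds h0)
    exact eventually_atTop.2 ⟨m, fun k hk => hm (hG (by omega) (hg1 _ _ (hr k)))⟩
  obtain ⟨S, hS⟩ := NonarchimedeanAddGroup.summable_of_tendsto_cofinite_zero
    (f := fun k => g (n + k) (r k)) (by rwa [Nat.cofinite_eq_atTop])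
  refine ⟨S, ((G n).isClosed_of_isOpen (hopen n)).mem_of_tendsto hS.tendsto_sum_nat
    (Eventually.of_forall fun K => AddSubgroup.sum_mem _ fun k _ =>
      hG (Nat.le_add_right n k) (hg1 _ _ (hr k))), ?_⟩
  have h1 : Tendsto (fun K => b - r K) atTop (𝓝 (f S)) := by
    refine Tendsto.congr (fun K => ?_) ((hf.tendsto S).comp hS.tendsto_sum_nat)
    simp only [Function.comp_apply, map_sum]
    induction K with
    | zero => simp [r]
    | succ K ih => rw [Finset.sum_range_succ, ih, hrsucc]; abel
  have h2 : Tendsto (fun K => b - r K) atTop (𝓝 b) := by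
    have : Tendsto r atTop (𝓝 0) := by
      refine tendsto_nhds.2 fun S hS h0 => ?_
      obtain ⟨m, hm⟩ := hY' S (hS.mem_nhds h0)
      exact eventually_atTop.2 ⟨m, fun k hk =>
        hm (closure_mono (Set.image_mono (hG (by omega : m ≤ n + k))) (hr k))⟩
    simpa using tendsto_const_nhds.sub this
  exact tendsto_nhds_unique h1 h2

section Group

variable {M : Type u} [AddCommGroup M] [UniformSpace M] [IsUniformAddGroup M]

/-- The closure of the image of a subgroup in the completion. -/
noncomputable def hat (N : AddSubgroup M) : AddSubgroup (Completion M) :=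
  (N.map Completion.toCompl).topologicalClosure

theorem coe_hat (N : AddSubgroup M) :
    (hat N : Set (Completion M)) = closure (((↑) : M → Completion M) '' (N : Set M)) := by
  simp [hat, Completion.toCompl]

theorem coe_mem_hat {N : AddSubgroup M} {m : M} (h : m ∈ N) : (m : Completion M) ∈ hat N := by
  rw [← SetLike.mem_coe, coe_hat]
  exact subset_closure ⟨m, h, rfl⟩

theorem hat_mono {N N' : AddSubgroup M} (h : N ≤ N') : hat N ≤ hat N' :=
  AddSubgroup.topologicalClosure_mono (AddSubgroup.map_mono h)

theorem coe_mem_hat_iff {N : AddSubgroup M} {m : M} :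
    (m : Completion M) ∈ hat N ↔ m ∈ closure (N : Set M) := by
  rw [← SetLike.mem_coe, coe_hat]
  exact (Set.ext_iff.1 (Completion.isDenseInducing_coe.isInducing.closure_eq_preimage_closure_image (N : Set M)) m).symm

theorem hasBasis_hat {ι : Type*} {p : ι → Prop} {s : ι → AddSubgroup M}
    (h : (𝓝 (0 : M)).HasBasis p fun i => (s i : Set M)) :
    (𝓝 (0 : Completion M)).HasBasis p fun i => (hat (s i) : Set (Completion M)) := by
  simp_rw [coe_hat]
  have := h.hasBasis_of_isDenseInducing Completion.isDenseInducing_coe
  rwa [Completion.coe_zero] at this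

theorem isOpen_hat {N : AddSubgroup M} (h : IsOpen (N : Set M)) :
    IsOpen (hat N : Set (Completion M)) := by
  refine AddSubgroup.isOpen_of_mem_nhds _ (g := 0) ?_
  rw [coe_hat, ← Completion.coe_zero]
  exact Completion.isDenseInducing_coe.closure_image_mem_nhds (h.mem_nhds N.zero_mem)

theorem exists_sub_mem (x : Completion M) {U : Set (Completion M)} (hU : U ∈ 𝓝 0) :
    ∃ m : M, x - (m : Completion M) ∈ U := by
  have : (fun y => x - y) ⁻¹' U ∈ 𝓝 x :=
    (continuous_const.sub continuous_id).continuousAt.preimage_mem_nhds (by simpa using hU)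
  obtain ⟨_, h, m, rfl⟩ := mem_closure_iff_nhds.1 (Completion.denseRange_coe x) _ this
  exact ⟨m, h⟩

variable {M' : Type v} [AddCommGroup M'] [UniformSpace M'] [IsUniformAddGroup M']

/-- `Completion.map` of a continuous homomorphism, as an additive map. -/
noncomputable def mapHom (f : M →+ M') (hf : Continuous f) : Completion M →+ Completion M' :=
  AddMonoidHom.mk' (Completion.map f) fun x y => by
    have h := Completion.continuous_map (f := (f : M → M'))
    induction x, y using Completion.induction_on₂ with
    | hp => exact isClosed_eq (by fun_prop) (by fun_prop)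
    | ih a b =>
      have hu := uniformContinuous_addMonoidHom_of_continuous hf
      rw [← Completion.coe_add, Completion.map_coe hu, Completion.map_coe hu, Completion.map_coe hu,
        map_add, Completion.coe_add]

theorem mapHom_coe (f : M →+ M') (hf : Continuous f) (a : M) :
    mapHom f hf a = ((f a : M') : Completion M') :=
  Completion.map_coe (uniformContinuous_addMonoidHom_of_continuous hf) a

theorem continuous_mapHom (f : M →+ M') (hf : Continuous f) : Continuous (mapHom f hf) :=
  Completion.continuous_map

theorem mapHom_mem_hat (f : M →+ M') (hf : Continuous f) (N : AddSubgroup M) {x : Completion M}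
    (hx : x ∈ hat N) : mapHom f hf x ∈ hat (N.map f) := by
  rw [← SetLike.mem_coe, coe_hat] at hx ⊢
  refine map_mem_closure (continuous_mapHom f hf) hx ?_
  rintro _ ⟨a, ha, rfl⟩
  exact ⟨f a, ⟨a, ha, rfl⟩, (mapHom_coe f hf a).symm⟩

end Group

section Rng

variable {A : Type u} [CommRing A] [UniformSpace A] [IsUniformAddGroup A] [IsTopologicalRing A]

theorem map_le_hat (J : Ideal A) :
    ((J.map (Completion.coeRingHom : A →+* Completion A) : Ideal (Completion A)) : Set (Completion A)) ⊆
      hat J.toAddSubgroup := by
  let K : Ideal (Completion A) :=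
    { carrier := hat J.toAddSubgroup
      add_mem' := add_mem
      zero_mem' := zero_mem _
      smul_mem' := fun c x hx => by
        simp only [coe_hat] at hx ⊢
        refine map_mem_closure₂ continuous_mul (Completion.denseRange_coe c) hx ?_
        rintro _ ⟨a, rfl⟩ _ ⟨b, hb, rfl⟩
        exact ⟨a * b, J.mul_mem_left a hb, Completion.coe_mul a b⟩ }
  exact (Ideal.map_le_iff_le_comap (K := K)).2 fun a ha => coe_mem_hat (N := J.toAddSubgroup) ha

theorem closure_map_eq_hat (J : Ideal A) :
    closure ((J.map (Completion.coeRingHom : A →+* Completion A) : Ideal (Completion A)) : Set (Completion A)) =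
      hat J.toAddSubgroup := by
  refine (closure_minimal (map_le_hat J) (AddSubgroup.isClosed_topologicalClosure _)).antisymm ?_
  rw [coe_hat]
  refine closure_mono ?_
  rintro _ ⟨a, ha, rfl⟩
  exact Ideal.mem_map_of_mem (Completion.coeRingHom : A →+* Completion A) ha

theorem hasBasis_completion [IsLinearTopology A A] :
    (𝓝 (0 : Completion A)).HasBasis (fun J : Ideal A => IsOpen (J : Set A))
      fun J => closure ((J.map (Completion.coeRingHom : A →+* Completion A) : Ideal (Completion A)) : Set (Completion A)) := by
  simp_rw [closure_map_eq_hat]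
  exact hasBasis_hat (s := fun J : Ideal A => J.toAddSubgroup) IsLinearTopology.hasBasis_open_ideal

theorem isTaut_coe [IsLinearTopology A A] :
    LinTop.IsTaut (Completion.coeRingHom : A →+* Completion A) := by
  refine ⟨Completion.continuous_coe A, fun J hJ => ?_, fun U hU => ?_⟩
  · rw [closure_map_eq_hat]
    exact isOpen_hat hJ
  · obtain ⟨J, hJ, hJU⟩ := hasBasis_completion.mem_iff.1 hU
    exact ⟨J, hJ, hJU⟩

theorem isLinearTopology_completion [IsLinearTopology A A] :
    IsLinearTopology (Completion A) (Completion A) :=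
  IsLinearTopology.mk_of_hasBasis (Completion A)
    (s := fun J : Ideal A => (J.map (Completion.coeRingHom : A →+* Completion A)).closure)
    hasBasis_completion

end Rng

end Groth.Agent.H4LinTopCompl
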