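import Mathlib
import Groth.Agent.Lib.H4QReg

/-!
Regular sequences are of linear type.
-/

universe u

namespace Groth.Agent.H4LinType

open MvPolynomial Groth.Agent.H4QReg

set_option maxHeartbeats 400000

variable {A : Type u} [CommRing A]

/-- The Koszul relations. -/
noncomputable def L {n : ℕ} (a : Fin n → A) : Ideal (MvPolynomial (Fin n) A) :=
  Ideal.span {q : MvPolynomial (Fin n) A | ∃ i j : Fin n, q = C (a i) * X j - C (a j) * X i}

theorem exists_split {n : ℕ} (x : Fin n → A) (ν : ℕ) {z : A} (hz : z ∈ Ideal.span (Set.range x) ^ (ν + 1)) :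
    ∃ G : Fin n → MvPolynomial (Fin n) A, (∀ j, (G j).IsHomogeneous ν) ∧ z = ∑ j, x j * eval x (G j) := by
  rw [pow_succ'] at hz
  refine Submodule.mul_induction_on hz (fun a ha b hb => ?_) ?_
  · obtain ⟨c, rfl⟩ := Ideal.mem_span_range_iff_exists_fun.mp ha
    obtain ⟨H, hH, rfl⟩ := exists_eval_eq x ν b hb
    refine ⟨fun j => C (c j) * H, fun j => by simpa using (isHomogeneous_C (Fin n) (c j)).mul hH, ?_⟩
    rw [Finset.sum_mul]
    exact Finset.sum_congr rfl fun j _ => by rw [map_mul, eval_C]; ring
  · rintro a b ⟨G, hG, rfl⟩ ⟨H, hH, rfl⟩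
    exact ⟨G + H, fun j => (hG j).add (hH j), by
      simp only [Pi.add_apply, map_add, mul_add, Finset.sum_add_distrib]⟩

theorem mem_L_of_eval_eq_zero : ∀ {n : ℕ} (x : Fin n → A), Reg x → ∀ (ν : ℕ) (F : MvPolynomial (Fin n) A),
    F.IsHomogeneous ν → eval x F = 0 → F ∈ L x
  | 0, x, _ => by
    intro ν F _ hev
    obtain ⟨a, rfl⟩ : ∃ a, F = C a := ⟨F.coeff 0, by ext e; rw [Subsingleton.elim e 0, coeff_zero_C]⟩
    rw [eval_C] at hev
    simp [hev]
  | n + 1, x, hx => by
    classical
    have hreg : Reg (x ∘ Fin.castSucc) := by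
      intro i y hy
      have hset : (x ∘ Fin.castSucc) '' {j | j < i} = x '' {j | j < i.castSucc} := by
        rw [Set.image_comp]
        congr 1
        ext j
        constructor
        · rintro ⟨j, hj, rfl⟩
          exact hj
        · intro hj
          exact ⟨⟨j, lt_trans (show (j : ℕ) < i from hj) i.isLt⟩, hj, rfl⟩
      rw [hset] at hy ⊢
      exact hx i.castSucc y hy
    have hq : QR (x ∘ Fin.castSucc) := qr_of_reg _ hreg
    have hlast : ∀ y, x (Fin.last n) * y ∈ Ideal.span (Set.range (x ∘ Fin.castSucc)) →
        y ∈ Ideal.span (Set.range (x ∘ Fin.castSucc)) := fun y => by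
      rw [← image_lt_last]; exact hx _ y
    intro ν
    induction ν with
    | zero =>
      intro F hF hev
      obtain ⟨a, rfl⟩ : ∃ a, F = C a := by
        refine ⟨F.coeff 0, MvPolynomial.ext _ _ fun e => ?_⟩
        rcases eq_or_ne e 0 with rfl | he
        · rw [coeff_zero_C]
        · rw [coeff_C, if_neg (Ne.symm he)]
          by_contra hne
          exact he ((Finsupp.degree_eq_zero_iff e).mp (degree_eq hF hne))
      rw [eval_C] at hev
      simp [hev]
    | succ ν ih =>
      intro F hF hev
      set s : Fin (n + 1) →₀ ℕ := Finsupp.single (Fin.last n) 1 with hs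
      have hFeq : X (Fin.last n) * (divMonomial F s) + modMonomial F s = F :=
        divMonomial_add_modMonomial F s
      have hH : (divMonomial F s).IsHomogeneous ν := by
        intro e he
        rw [coeff_divMonomial] at he
        have h1 := hF he
        simp only [map_add, hs, Finsupp.weight_single, Pi.one_apply, smul_eq_mul, mul_one] at h1 ⊢
        omega
      have hG0 : (modMonomial F s).IsHomogeneous (ν + 1) := by
        intro e he
        by_cases hse : s ≤ e
        · exact absurd (coeff_modMonomial_of_le F hse) he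
        · rw [coeff_modMonomial_of_not_le F hse] at he
          exact hF he
      obtain ⟨G, hG⟩ : ∃ G : MvPolynomial (Fin n) A, rename Fin.castSucc G = modMonomial F s := by
        refine exists_rename_eq_of_vars_subset_range _ _ (Fin.castSucc_injective n) fun i hi => ?_
        rw [Set.mem_range]
        induction i using Fin.lastCases with
        | cast i => exact ⟨i, rfl⟩
        | last =>
          obtain ⟨e, he, hie⟩ := (mem_vars_iff_mem_support _).mp (Finset.mem_coe.mp hi)
          refine absurd (coeff_modMonomial_of_le F (?_ : s ≤ e)) (mem_support_iff.mp he)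
          rw [hs, Finsupp.single_le_iff]
          exact Nat.one_le_iff_ne_zero.mpr (Finsupp.mem_support_iff.mp hie)
      have hGh : G.IsHomogeneous (ν + 1) := by
        rw [← hG] at hG0
        exact (IsHomogeneous.rename_isHomogeneous_iff (Fin.castSucc_injective n)).mp hG0
      have hev' : eval (x ∘ Fin.castSucc) G + x (Fin.last n) * eval x (divMonomial F s) = 0 := by
        rw [← hFeq, map_add, map_mul, eval_X, ← hG, eval_rename] at hev
        rw [add_comm]; exact hev
      have hHmem : eval x (divMonomial F s) ∈ Ideal.span (Set.range (x ∘ Fin.castSucc)) ^ (ν + 1) := by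
        refine hq.regular_pow hlast (ν + 1) _ ?_
        rw [eq_neg_of_add_eq_zero_right hev']
        exact neg_mem (eval_mem_pow _ hGh)
      obtain ⟨W, hW, hWev⟩ := exists_split (x ∘ Fin.castSucc) ν hHmem
      set H' := divMonomial F s - ∑ j, C (x (Fin.castSucc j)) * rename Fin.castSucc (W j)
      have hH' : H' ∈ L x := by
        refine ih H' (hH.sub (IsHomogeneous.sum _ _ _ fun j _ => by
          simpa using (isHomogeneous_C (Fin (n + 1)) (x (Fin.castSucc j))).mul (hW j).rename_isHomogeneous)) ?_
        rw [map_sub, map_sum, hWev]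
        simp [eval_rename]
      set K := ∑ j, C (x (Fin.last n)) * X j * W j + G
      have hK : K ∈ L (x ∘ Fin.castSucc) := by
        refine mem_L_of_eval_eq_zero _ hreg (ν + 1) K ((IsHomogeneous.sum _ _ _ fun j _ => ?_).add hGh) ?_
        · have := ((isHomogeneous_C (Fin n) (x (Fin.last n))).mul (isHomogeneous_X A j)).mul (hW j)
          rwa [show 0 + 1 + ν = ν + 1 by omega] at this
        · rw [map_add, map_sum, ← hev', hWev, Finset.mul_sum, add_comm]
          congr 1
          refine Finset.sum_congr rfl fun j _ => ?_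
          rw [map_mul, map_mul, eval_C, eval_X]; ring
      have hK' : rename (Fin.castSucc (n := n)) K ∈ L x := by
        refine (Ideal.map_le_iff_le_comap.mpr (Ideal.span_le.mpr ?_) : (L (x ∘ Fin.castSucc)).map (rename (Fin.castSucc (n := n))).toRingHom ≤ L x)
          (Ideal.mem_map_of_mem _ hK)
        rintro _ ⟨i, j, rfl⟩
        refine Ideal.subset_span ⟨i.castSucc, j.castSucc, ?_⟩
        simp
      have e : F = X (Fin.last n) * H' + ∑ j, (C (x (Fin.castSucc j)) * X (Fin.last n) - C (x (Fin.last n)) * X (Fin.castSucc j)) * rename Fin.castSucc (W j)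
          + rename Fin.castSucc K := by
        conv_lhs => rw [← hFeq, ← hG]
        simp only [H', K, map_add, map_sum, map_mul, rename_C, rename_X, sub_mul, mul_sub, Finset.sum_sub_distrib,
          Finset.mul_sum]
        have : ∀ j, X (Fin.last n) * (C (x (Fin.castSucc j)) * rename Fin.castSucc (W j)) =
            C (x (Fin.castSucc j)) * X (Fin.last n) * rename Fin.castSucc (W j) := fun j => by ring
        simp only [this]
        ring
      rw [e]
      refine add_mem (add_mem (Ideal.mul_mem_left _ _ hH') (sum_mem fun j _ => ?_)) hK'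
      exact Ideal.mul_mem_right _ _ (Ideal.subset_span ⟨Fin.castSucc j, Fin.last n, rfl⟩)

theorem aeval_homog {n : ℕ} (x : Fin n → A) {ν : ℕ} {G : MvPolynomial (Fin n) A} (hG : G.IsHomogeneous ν) :
    aeval (R := A) (fun i => Polynomial.C (x i) * (Polynomial.X : Polynomial A)) G = Polynomial.monomial ν (eval x G) := by
  rw [aeval_def, eval₂_eq', eval_eq', map_sum]
  refine Finset.sum_congr rfl fun d hd => ?_
  rw [← Polynomial.C_mul_X_pow_eq_monomial, map_mul, map_prod, Polynomial.algebraMap_eq]
  simp only [mul_pow, Finset.prod_mul_distrib, map_pow, Finset.prod_pow_eq_pow_sum]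
  rw [← degree_eq hG (mem_support_iff.mp hd), Finsupp.degree_apply,
    Finset.sum_subset (Finset.subset_univ d.support) (fun i _ hi => Finsupp.notMem_support_iff.mp hi)]
  ring

/-- The kernel of the map to the Rees algebra. -/
theorem ker_eq {n : ℕ} (x : Fin n → A) (hx : Reg x) :
    RingHom.ker (aeval (R := A) (fun i : Fin n => Polynomial.C (x i) * (Polynomial.X : Polynomial A))) = L x := by
  refine le_antisymm (fun F hF => ?_) (Ideal.span_le.mpr ?_)
  · rw [RingHom.mem_ker] at hF
    rw [← sum_homogeneousComponent F] at hF ⊢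
    refine sum_mem fun ν hν => mem_L_of_eval_eq_zero x hx ν _ (homogeneousComponent_isHomogeneous ν F) ?_
    have h := congrArg (fun p => Polynomial.coeff p ν) hF
    simp only [map_sum, Polynomial.finsetSum_coeff, Polynomial.coeff_zero] at h
    rw [Finset.sum_eq_single ν (fun b _ hb => by
      rw [aeval_homog x (homogeneousComponent_isHomogeneous b F), Polynomial.coeff_monomial, if_neg hb])
      (fun hn => absurd hν hn),
      aeval_homog x (homogeneousComponent_isHomogeneous ν F), Polynomial.coeff_monomial, if_pos rfl] at h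
    exact h
  · rintro _ ⟨i, j, rfl⟩
    simp only [SetLike.mem_coe, RingHom.mem_ker, map_sub, map_mul, aeval_C, aeval_X, Polynomial.algebraMap_eq]
    ring

theorem ker_away {n : ℕ} (a : Fin (n + 1) → A) (ha : Reg a) :
    RingHom.ker (aeval (R := A) (S₁ := Localization.Away (a 0))
      (fun i : Fin n => IsLocalization.mk' (Localization.Away (a 0)) (a i.succ)
        (⟨a 0, Submonoid.mem_powers (a 0)⟩ : Submonoid.powers (a 0)))) =
      Ideal.span (Set.range fun i : Fin n => C (a 0) * X i - C (a i.succ)) := by
  classical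
  let S := Localization.Away (a 0)
  let am := algebraMap A S
  let u : Fin n → S := fun i => IsLocalization.mk' S (a i.succ) (⟨a 0, Submonoid.mem_powers (a 0)⟩ : Submonoid.powers (a 0))
  have hu : ∀ i, am (a 0) * u i = am (a i.succ) := fun i => IsLocalization.mk'_spec' S _ _
  set J := Ideal.span (Set.range fun i : Fin n => C (a 0) * X i - C (a i.succ))
  refine le_antisymm (fun F hF => ?_) (Ideal.span_le.mpr ?_)
  · rw [RingHom.mem_ker] at hF
    set ν := F.totalDegree
    let c : (Fin n →₀ ℕ) → (Fin (n + 1) →₀ ℕ) := fun d => Finsupp.cons (ν - d.degree) d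
    let Fh : MvPolynomial (Fin (n + 1)) A := ∑ d ∈ F.support, monomial (c d) (F.coeff d)
    have hdeg : ∀ d ∈ F.support, d.degree ≤ ν := fun d hd => by
      rw [Finsupp.degree_apply]; exact le_totalDegree hd
    have hh : Fh.IsHomogeneous ν := IsHomogeneous.sum _ _ _ fun d hd => isHomogeneous_monomial _ (by
      rw [Finsupp.degree_eq_sum, Fin.sum_univ_succ]
      simp only [c, Finsupp.cons_zero, Finsupp.cons_succ]
      have := hdeg d hd
      rw [Finsupp.degree_eq_sum] at this ⊢
      omega)
    have hev : am (eval a Fh) = 0 := by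
      have : am (eval a Fh) = am (a 0) ^ ν * aeval (R := A) u F := by
        conv_rhs => rw [F.as_sum, map_sum, Finset.mul_sum]
        rw [map_sum, map_sum]
        refine Finset.sum_congr rfl fun d hd => ?_
        rw [eval_monomial, aeval_monomial, Finsupp.prod_fintype _ _ (fun i => pow_zero _),
          Finsupp.prod_fintype _ _ (fun i => pow_zero _), Fin.prod_univ_succ]
        simp only [c, Finsupp.cons_zero, Finsupp.cons_succ, map_mul, map_pow, map_prod, ← hu, mul_pow,
          Finset.prod_mul_distrib, Finset.prod_pow_eq_pow_sum, ← Finsupp.degree_eq_sum]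
        calc am (F.coeff d) * (am (a 0) ^ (ν - d.degree) * (am (a 0) ^ d.degree * ∏ i, u i ^ d i))
            = am (F.coeff d) * ((am (a 0) ^ (ν - d.degree) * am (a 0) ^ d.degree) * ∏ i, u i ^ d i) := by ring
          _ = am (a 0) ^ ν * (am (F.coeff d) * ∏ i, u i ^ d i) := by
            rw [← pow_add, Nat.sub_add_cancel (hdeg d hd)]; ring
      rw [this, show aeval (R := A) u F = 0 from hF, mul_zero]
    obtain ⟨⟨_, N, rfl⟩, hN⟩ := (IsLocalization.map_eq_zero_iff (Submonoid.powers (a 0)) S _).mp hev
    have h0 : ∀ (N : ℕ) (z : A), a 0 ^ N * z = 0 → z = 0 := by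
      intro N
      induction N with
      | zero => intro z hz; simpa using hz
      | succ N ih =>
        intro z hz
        refine ih z ?_
        have := ha 0 (a 0 ^ N * z) (by rw [← mul_assoc, ← pow_succ', hz]; exact zero_mem _)
        have he : (a '' {j | j < (0 : Fin (n + 1))}) = ∅ := by
          rw [Set.image_eq_empty]; ext j; simp
        simpa [he] using this
    have hL := mem_L_of_eval_eq_zero a ha ν Fh hh (h0 N _ hN)
    let deh : MvPolynomial (Fin (n + 1)) A →ₐ[A] MvPolynomial (Fin n) A := aeval (Fin.cons 1 X)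
    have hdeh : deh Fh = F := by
      conv_rhs => rw [F.as_sum]
      rw [map_sum]
      refine Finset.sum_congr rfl fun d _ => ?_
      rw [aeval_monomial, Finsupp.prod_fintype _ _ (fun i => pow_zero _), Fin.prod_univ_succ]
      simp only [c, Finsupp.cons_zero, Finsupp.cons_succ, Fin.cons_zero, Fin.cons_succ, one_pow, one_mul,
        MvPolynomial.algebraMap_eq]
      rw [monomial_eq, Finsupp.prod_fintype _ _ (fun i => pow_zero _)]
    have hY : ∀ i : Fin (n + 1), C (a 0) * (Fin.cons 1 X : Fin (n + 1) → MvPolynomial (Fin n) A) i - C (a i) ∈ J := by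
      intro i
      refine Fin.cases ?_ (fun k => ?_) i
      · simp
      · rw [Fin.cons_succ]
        exact Ideal.subset_span ⟨k, rfl⟩
    have hle : (L a).map deh.toRingHom ≤ J := by
      refine Ideal.map_le_iff_le_comap.mpr (Ideal.span_le.mpr ?_)
      rintro _ ⟨i, j, rfl⟩
      set Y := (Fin.cons 1 X : Fin (n + 1) → MvPolynomial (Fin n) A)
      have e : deh (C (a i) * X j - C (a j) * X i) = (C (a 0) * Y j - C (a j)) * Y i - (C (a 0) * Y i - C (a i)) * Y j := by
        simp only [deh, map_sub, map_mul, aeval_C, aeval_X, MvPolynomial.algebraMap_eq, Y]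
        ring
      show deh (C (a i) * X j - C (a j) * X i) ∈ J
      rw [e]
      exact sub_mem (Ideal.mul_mem_right _ _ (hY j)) (Ideal.mul_mem_right _ _ (hY i))
    rw [← hdeh]
    exact hle (Ideal.mem_map_of_mem _ hL)
  · rintro _ ⟨i, rfl⟩
    simp only [SetLike.mem_coe, RingHom.mem_ker, map_sub, map_mul, aeval_C, aeval_X]
    rw [hu i, sub_self]

end Groth.Agent.H4LinType
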