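import Mathlib
import Groth.Prelude.Def_EtMil
import Groth.Agent.Lib.H4FlatSquare
import Groth.Agent.Lib.H4FlatSyzygy

/-! Modules over a Milnor square: finiteness. -/

universe u

open TensorProduct LinearMap

set_option linter.style.haveILetI false

namespace Groth.Agent.H4MilnorFinite

variable {R B C A : Type u} [CommRing R] [CommRing B] [CommRing C] [CommRing A] [Algebra R B] [Algebra R C]
  [Algebra B A] [Algebra C A] [Algebra R A] [IsScalarTower R B A] [IsScalarTower R C A]
  (hsq : EtMil.IsFibreSquare R B C A)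

include hsq

theorem surj : Function.Surjective (algebraMap R B) := fun b => by
  obtain ⟨a', ha'⟩ := hsq.1 (algebraMap B A b)
  obtain ⟨b', ⟨h1, -⟩, -⟩ := hsq.2 b a' ha'.symm
  exact ⟨b', h1⟩

theorem inj_of_mem (j : R) (hj : j ∈ RingHom.ker (algebraMap R B)) (h0 : algebraMap R C j = 0) : j = 0 := by
  have hj' : algebraMap R B j = 0 := hj
  obtain ⟨b', -, hu⟩ := hsq.2 0 0 (by simp)
  rw [hu j ⟨hj', h0⟩, hu 0 ⟨map_zero _, map_zero _⟩]

theorem stable (j : R) (hj : j ∈ RingHom.ker (algebraMap R B)) (c : C) :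
    ∃ j' ∈ RingHom.ker (algebraMap R B), algebraMap R C j' = c * algebraMap R C j := by
  have hj' : algebraMap R B j = 0 := hj
  obtain ⟨b', ⟨h1, h2⟩, -⟩ := hsq.2 0 (c * algebraMap R C j) (by
    rw [map_zero, map_mul, ← IsScalarTower.algebraMap_apply, IsScalarTower.algebraMap_apply R B A, hj', map_zero, mul_zero])
  exact ⟨b', h1, h2⟩

variable {W : Type u} [AddCommGroup W] [Module R W]

theorem smul_eq_zero_of_tmul (w : W) (hw : (1 : C) ⊗ₜ[R] w = 0) (j : R) (hj : j ∈ RingHom.ker (algebraMap R B)) :
    j • w = 0 := by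
  have huniq : ∀ x y : R, x ∈ RingHom.ker (algebraMap R B) → y ∈ RingHom.ker (algebraMap R B) →
      algebraMap R C x = algebraMap R C y → x = y := fun x y hx hy e => by
    refine sub_eq_zero.1 (inj_of_mem hsq _ (sub_mem hx hy) ?_)
    rw [map_sub, e, sub_self]
  choose σ hσm hσe using fun c => stable hsq j hj c
  let s : C →ₗ[R] R :=
    { toFun := σ
      map_add' := fun a b => huniq _ _ (hσm _) (add_mem (hσm _) (hσm _)) (by rw [hσe, map_add, hσe, hσe, add_mul])
      map_smul' := fun r a => huniq _ _ (hσm _) (Ideal.mul_mem_left _ r (hσm a)) (by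
        rw [RingHom.id_apply, smul_eq_mul, map_mul, hσe, hσe, Algebra.smul_def, mul_assoc]) }
  have h1 : s 1 = j := huniq _ _ (hσm _) hj ((hσe 1).trans (one_mul _))
  have := congrArg (TensorProduct.lid R W ∘ s.rTensor W) hw
  simpa [h1] using this

theorem mem_smul_top_of_tmul (w : W) (hw : (1 : B) ⊗ₜ[R] w = 0) :
    w ∈ (RingHom.ker (algebraMap R B) • ⊤ : Submodule R W) := by
  let J := RingHom.ker (algebraMap R B)
  let e : (R ⧸ J) ≃ₐ[R] B := Ideal.quotientKerAlgEquivOfSurjective (f := Algebra.ofId R B) (surj hsq)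
  have := congrArg (fun z => TensorProduct.quotTensorEquivQuotSMul W J (e.symm.toLinearMap.rTensor W z)) hw
  simp only [rTensor_tmul, AlgEquiv.toLinearMap_apply, map_one, map_zero] at this
  rw [show (1 : R ⧸ J) = Ideal.Quotient.mk J 1 from rfl, TensorProduct.quotTensorEquivQuotSMul_mk_tmul, one_smul] at this
  exact (Submodule.Quotient.mk_eq_zero _).1 this

/-- A module vanishing on both sides of the square vanishes. -/
theorem subsingleton_of_tensor [Subsingleton (B ⊗[R] W)] [Subsingleton (C ⊗[R] W)] : Subsingleton W := by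
  refine subsingleton_of_forall_eq 0 fun w => ?_
  refine Submodule.smul_induction_on (mem_smul_top_of_tmul hsq w (Subsingleton.elim _ _))
    (fun j hj v _ => smul_eq_zero_of_tmul hsq v (Subsingleton.elim _ _) j hj) (fun a b ha hb => by rw [ha, hb, add_zero])

/-- Finiteness is checked on both sides of the square. -/
theorem finite [Module.Finite B (B ⊗[R] W)] [Module.Finite C (C ⊗[R] W)] : Module.Finite R W := by
  classical
  have key : ∀ (S : Type u) [CommRing S] [Algebra R S], Module.Finite S (S ⊗[R] W) →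
      ∃ t : Finset W, ∀ N : Submodule R W, ↑t ⊆ (N : Set W) → Function.Surjective (N.subtype.baseChange S) := by
    intro S _ _ hfin
    obtain ⟨T, hT⟩ := hfin.fg_top
    have hex : ∀ z : S ⊗[R] W, ∃ t : Finset W, ∀ N : Submodule R W, ↑t ⊆ (N : Set W) →
        z ∈ LinearMap.range (N.subtype.baseChange S) := fun z => by
      induction z with
      | zero => exact ⟨∅, fun _ _ => zero_mem _⟩
      | add a b ha hb =>
        obtain ⟨t, ht⟩ := ha
        obtain ⟨t', ht'⟩ := hb
        refine ⟨t ∪ t', fun N hN => ?_⟩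
        rw [Finset.coe_union, Set.union_subset_iff] at hN
        exact add_mem (ht N hN.1) (ht' N hN.2)
      | tmul c w => exact ⟨{w}, fun N hN => ⟨c ⊗ₜ ⟨w, hN (by simp)⟩, rfl⟩⟩
    choose t ht using hex
    refine ⟨T.biUnion t, fun N hN => LinearMap.range_eq_top.1 ?_⟩
    rw [eq_top_iff, ← hT, Submodule.span_le]
    exact fun z hz => ht z N fun y hy => hN (Finset.mem_biUnion.2 ⟨z, hz, hy⟩)
  obtain ⟨t₁, h₁⟩ := key B inferInstance
  obtain ⟨t₂, h₂⟩ := key C inferInstance
  let N : Submodule R W := Submodule.span R (↑(t₁ ∪ t₂) : Set W)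
  have hN : ∀ {t : Finset W}, t ⊆ t₁ ∪ t₂ → ↑t ⊆ (N : Set W) := fun ht y hy => Submodule.subset_span (ht hy)
  have hsub : ∀ (S : Type u) [CommRing S] [Algebra R S], Function.Surjective (N.subtype.baseChange S) →
      Subsingleton (S ⊗[R] (W ⧸ N)) := by
    intro S _ _ hs
    refine subsingleton_of_forall_eq 0 fun z => ?_
    obtain ⟨y, rfl⟩ := LinearMap.lTensor_surjective S N.mkQ_surjective z
    obtain ⟨x, rfl⟩ := hs y
    show (N.mkQ.lTensor S) (N.subtype.lTensor S x) = 0
    rw [← LinearMap.comp_apply, ← lTensor_comp, show N.mkQ ∘ₗ N.subtype = 0 from LinearMap.ext fun v =>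
      (Submodule.Quotient.mk_eq_zero N).2 v.2, lTensor_zero, LinearMap.zero_apply]
  haveI := hsub B (h₁ N (hN Finset.subset_union_left))
  haveI := hsub C (h₂ N (hN Finset.subset_union_right))
  haveI := subsingleton_of_tensor hsq (W := W ⧸ N)
  exact ⟨⟨t₁ ∪ t₂, Submodule.Quotient.subsingleton_iff.1 this⟩⟩

/-- Flatness from both sides of the square. -/
theorem flat [Module.Flat B (B ⊗[R] W)] [Module.Flat C (C ⊗[R] W)] : Module.Flat R W := by
  let J := RingHom.ker (algebraMap R B)
  let e : (R ⧸ J) ≃ₐ[R] B := Ideal.quotientKerAlgEquivOfSurjective (f := Algebra.ofId R B) (surj hsq)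
  letI : Algebra B (R ⧸ J) := e.symm.toRingEquiv.toRingHom.toAlgebra
  haveI : IsScalarTower R B (R ⧸ J) := IsScalarTower.of_algebraMap_eq fun x => (e.symm.commutes x).symm
  haveI : Module.Flat (R ⧸ J) ((R ⧸ J) ⊗[R] W) :=
    Module.Flat.of_linearEquiv (AlgebraTensorModule.cancelBaseChange R B (R ⧸ J) (R ⧸ J) W).symm
  exact H4FlatSquare.flat W J (C := C) (inj_of_mem hsq) (stable hsq)

/-- Finite presentation from both sides of the square, for flat modules. -/
theorem finitePresentation [Module.Flat B (B ⊗[R] W)] [Module.FinitePresentation B (B ⊗[R] W)]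
    [Module.Flat C (C ⊗[R] W)] [Module.FinitePresentation C (C ⊗[R] W)] : Module.FinitePresentation R W := by
  haveI := flat hsq (W := W)
  haveI := finite hsq (W := W)
  obtain ⟨n, π, hπ⟩ := Module.Finite.exists_fin' R W
  let K := LinearMap.ker π
  have key : ∀ (S : Type u) [CommRing S] [Algebra R S] [Module.FinitePresentation S (S ⊗[R] W)], Module.Finite S (S ⊗[R] K) := by
    intro S _ _ _
    have hinj : Function.Injective (K.subtype.baseChange S) :=
      H4FlatDescent.lTensor_injective_of_flat_coker K.subtype π Subtype.val_injective (LinearMap.exact_subtype_ker_map π) hπ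
    have hex : Function.Exact (K.subtype.baseChange S) (π.baseChange S) :=
      lTensor_exact S (LinearMap.exact_subtype_ker_map π) hπ
    have hfg := Module.FinitePresentation.fg_ker (π.baseChange S) (LinearMap.lTensor_surjective S hπ)
    rw [hex.linearMap_ker_eq] at hfg
    haveI := Module.Finite.iff_fg.2 hfg
    exact Module.Finite.equiv (LinearEquiv.ofInjective _ hinj).symm
  haveI := key B
  haveI := key C
  haveI := finite hsq (W := K)
  exact Module.finitePresentation_of_surjective π hπ (Module.Finite.iff_fg.1 this)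

end Groth.Agent.H4MilnorFinite
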