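import Mathlib
import Groth.Agent.Lib.H4MilnorFinite

/-! Bijectivity over a Milnor square. -/

universe u

open TensorProduct

set_option linter.style.haveILetI false

namespace Groth.Agent.H4MilnorBij

variable {R B C A : Type u} [CommRing R] [CommRing B] [CommRing C] [CommRing A] [Algebra R B] [Algebra R C]
  [Algebra B A] [Algebra C A] [Algebra R A] [IsScalarTower R B A] [IsScalarTower R C A]
  (hsq : EtMil.IsFibreSquare R B C A)

include hsq

theorem surjective {M N : Type u} [AddCommGroup M] [Module R M] [AddCommGroup N] [Module R N] (f : M →ₗ[R] N)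
    (hB : Function.Surjective (f.baseChange B)) (hC : Function.Surjective (f.baseChange C)) : Function.Surjective f := by
  have hsub : ∀ (S : Type u) [CommRing S] [Algebra R S], Function.Surjective (f.baseChange S) →
      Subsingleton (S ⊗[R] (N ⧸ LinearMap.range f)) := by
    intro S _ _ hf
    refine subsingleton_of_forall_eq 0 fun z => ?_
    obtain ⟨y, rfl⟩ := LinearMap.lTensor_surjective S (Submodule.mkQ_surjective (LinearMap.range f)) z
    obtain ⟨x, rfl⟩ := hf y
    change LinearMap.lTensor S _ (LinearMap.lTensor S f x) = 0
    rw [← LinearMap.comp_apply, ← LinearMap.lTensor_comp, LinearMap.range_mkQ_comp, LinearMap.lTensor_zero, LinearMap.zero_apply]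
  haveI := hsub B hB
  haveI := hsub C hC
  exact LinearMap.range_eq_top.1
    (Submodule.Quotient.subsingleton_iff.1 (H4MilnorFinite.subsingleton_of_tensor hsq))

theorem bijective {M N : Type u} [AddCommGroup M] [Module R M] [AddCommGroup N] [Module R N] [Module.Projective R N]
    (f : M →ₗ[R] N) (hB : Function.Bijective (f.baseChange B)) (hC : Function.Bijective (f.baseChange C)) :
    Function.Bijective f := by
  have hs := surjective hsq f hB.2 hC.2
  obtain ⟨g, hg⟩ := Module.projective_lifting_property f LinearMap.id hs
  have hgs : ∀ (S : Type u) [CommRing S] [Algebra R S], Function.Injective (f.baseChange S) →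
      Function.Surjective (g.baseChange S) := by
    intro S _ _ hf x
    refine ⟨f.baseChange S x, hf ?_⟩
    rw [← LinearMap.comp_apply, ← LinearMap.baseChange_comp, hg, LinearMap.baseChange_id, LinearMap.id_apply]
  have hg' := surjective hsq g (hgs B hB.1) (hgs C hC.1)
  refine ⟨fun a b hab => ?_, hs⟩
  obtain ⟨a', rfl⟩ := hg' a
  obtain ⟨b', rfl⟩ := hg' b
  have h1 : ∀ n, f (g n) = n := fun n => LinearMap.congr_fun hg n
  rw [h1, h1] at hab
  rw [hab]

end Groth.Agent.H4MilnorBij
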