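import Mathlib

/-! Locally closed points of Noetherian spectra and locally Noetherian schemes. -/

universe u

open CategoryTheory AlgebraicGeometry Topology TopologicalSpace

namespace Groth.Agent.H4NoethTop

variable {R : Type u} [CommRing R]

theorem exists_f_of_locallyClosed (x : PrimeSpectrum R)
    (h : IsLocallyClosed ({x} : Set (PrimeSpectrum R))) :
    ∃ f ∉ x.asIdeal, ∀ q : PrimeSpectrum R, x < q → f ∈ q.asIdeal := by
  obtain ⟨U, Z, hU, hZ, e⟩ := h
  have hx : x ∈ U ∩ Z := e ▸ rfl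
  obtain ⟨_, ⟨f, rfl⟩, hxf, hfU⟩ :=
    PrimeSpectrum.isTopologicalBasis_basic_opens.exists_subset_of_mem_open hx.1 hU
  refine ⟨f, hxf, fun q hq => ?_⟩
  by_contra hc
  have hqZ : q ∈ Z :=
    ((PrimeSpectrum.le_iff_specializes x q).mp hq.le).mem_closed hZ hx.2
  have : q ∈ ({x} : Set (PrimeSpectrum R)) := e ▸ (⟨hfU hc, hqZ⟩ : q ∈ U ∩ Z)
  exact hq.ne' this

variable [IsNoetherianRing R]

/-- if all primes strictly above `x` contain `f ∉ x`, they are minimal over `x + (f)` -/
theorem gt_mem_minimalPrimes {x : PrimeSpectrum R} {f : R} (hf : f ∉ x.asIdeal)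
    (h : ∀ q : PrimeSpectrum R, x < q → f ∈ q.asIdeal) {q : PrimeSpectrum R} (hq : x < q) :
    q.asIdeal ∈ (x.asIdeal ⊔ Ideal.span {f}).minimalPrimes := by
  classical
  have hle : ∀ q : PrimeSpectrum R, x < q → x.asIdeal ⊔ Ideal.span {f} ≤ q.asIdeal := fun q hq =>
    sup_le hq.le ((Ideal.span_singleton_le_iff_mem _).mpr (h q hq))
  have hne : ∀ m : Ideal R, ∀ hm : m ∈ (x.asIdeal ⊔ Ideal.span {f}).minimalPrimes,
      x < ⟨m, hm.1.1⟩ := fun m hm =>
    lt_of_le_not_ge (le_sup_left.trans hm.1.2) fun h' =>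
      hf (h' (hm.1.2 (Ideal.mem_sup_right (Ideal.mem_span_singleton_self f))))
  by_contra hqm
  obtain ⟨s, hs⟩ : ∃ s : Finset (Ideal R), ∀ m, m ∈ s ↔
      m ∈ (x.asIdeal ⊔ Ideal.span {f}).minimalPrimes :=
    ⟨(Ideal.finite_minimalPrimes_of_isNoetherianRing R _).toFinset, fun m => Set.Finite.mem_toFinset _⟩
  -- an element of `q` outside all minimal primes
  have hns : ¬ ((q.asIdeal : Set R) ⊆ ⋃ m ∈ (s : Set (Ideal R)), (id m : Set R)) := by
    intro hsub
    obtain ⟨m, hm, hqm'⟩ := (Ideal.subset_union_prime (f := id) ⊥ ⊥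
      (fun m hm _ _ => ((hs m).mp hm).1.1)).mp hsub
    have hm' := (hs m).mp hm
    exact hqm (le_antisymm (hm'.2 ⟨q.2, hle q hq⟩ hqm') hqm' ▸ hm')
  obtain ⟨a, haq, ha⟩ := Set.not_subset.mp hns
  simp only [id_eq, Set.mem_iUnion, SetLike.mem_coe, not_exists] at ha
  -- a minimal prime over `x + (a)` below `q`
  haveI := q.2
  obtain ⟨q', hq', hq'q⟩ := Ideal.exists_minimalPrimes_le (J := q.asIdeal)
    (sup_le hq.le ((Ideal.span_singleton_le_iff_mem _).mpr haq) : x.asIdeal ⊔ Ideal.span {a} ≤ _)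
  obtain ⟨m, hm, hmq⟩ := Ideal.exists_minimalPrimes_le (J := q.asIdeal) (hle q hq)
  have hax : a ∉ x.asIdeal := fun h' => ha m ((hs m).mpr hm) ((hne m hm).le h')
  have haq' : a ∈ q' := hq'.1.2 (Ideal.mem_sup_right (Ideal.mem_span_singleton_self a))
  let Q : PrimeSpectrum R := ⟨q', hq'.1.1⟩
  have hxQ : x < Q := lt_of_le_not_ge (le_sup_left.trans hq'.1.2) fun h' => hax (h' haq')
  haveI := hq'.1.1
  obtain ⟨m', hm', hm'q⟩ := Ideal.exists_minimalPrimes_le (J := q') (hle Q hxQ)
  let M : PrimeSpectrum R := ⟨m', hm'.1.1⟩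
  have hMQ : M < Q := lt_of_le_not_ge hm'q fun h' => ha m' ((hs m').mpr hm') (h' haq')
  obtain ⟨r, har, hxr, hrQ⟩ := PrimeSpectrum.exist_mem_one_of_mem_two (hne m' hm') hMQ
    (x := a) haq'
  exact hrQ.not_ge (hq'.2 ⟨r.2, sup_le hxr.le ((Ideal.span_singleton_le_iff_mem _).mpr har)⟩ hrQ.le)

theorem finite_gt {x : PrimeSpectrum R}
    (h : IsLocallyClosed ({x} : Set (PrimeSpectrum R))) : {q | x < q}.Finite := by
  obtain ⟨f, hf, hq⟩ := exists_f_of_locallyClosed x h
  have hfin := (Ideal.finite_minimalPrimes_of_isNoetherianRing R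
    (x.asIdeal ⊔ Ideal.span {f})).preimage
      (f := fun q : PrimeSpectrum R => q.asIdeal) (fun a _ b _ e => PrimeSpectrum.ext e)
  exact hfin.subset fun q hxq => gt_mem_minimalPrimes hf hq hxq

theorem isMax_of_gt {x q : PrimeSpectrum R} (h : IsLocallyClosed ({x} : Set (PrimeSpectrum R)))
    (hq : x < q) : IsMax q := by
  obtain ⟨f, hf, hgt⟩ := exists_f_of_locallyClosed x h
  intro r hr
  by_contra hne
  have h1 := gt_mem_minimalPrimes hf hgt (lt_of_lt_of_le hq hr)
  exact hne (h1.2 ⟨q.2, sup_le hq.le ((Ideal.span_singleton_le_iff_mem _).mpr (hgt q hq))⟩ hr)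

theorem finite_ge {x : PrimeSpectrum R} (h : IsLocallyClosed ({x} : Set (PrimeSpectrum R))) :
    {q | x ≤ q}.Finite := by
  refine ((finite_gt h).insert x).subset fun q hq => ?_
  rcases eq_or_lt_of_le (show x ≤ q from hq) with e | e
  · exact Or.inl e.symm
  · exact Or.inr e

omit [IsNoetherianRing R] in
/-- finitely many primes above `x` make `{x}` locally closed -/
theorem locallyClosed_of_finite_gt {x : PrimeSpectrum R} (h : {q | x < q}.Finite) :
    IsLocallyClosed ({x} : Set (PrimeSpectrum R)) := by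
  refine ⟨(⋃ q ∈ {q | x < q}, closure {q})ᶜ, closure {x},
    (h.isClosed_biUnion fun _ _ => isClosed_closure).isOpen_compl, isClosed_closure, ?_⟩
  ext y
  simp only [Set.mem_singleton_iff, Set.mem_inter_iff, Set.mem_compl_iff, Set.mem_iUnion,
    ← specializes_iff_mem_closure, ← PrimeSpectrum.le_iff_specializes, Set.mem_ofPred_eq,
    exists_prop, not_exists, not_and]
  refine ⟨?_, fun ⟨h1, h2⟩ => (eq_of_le_of_not_lt h2 fun h3 => h1 y h3 le_rfl).symm⟩
  rintro rfl
  exact ⟨fun q hq hq' => hq.not_ge hq', le_rfl⟩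

omit [IsNoetherianRing R] in
theorem isField_away_iff [IsDomain R] {f : R} (hf : f ≠ 0) :
    IsField (Localization.Away f) ↔ ∀ q : Ideal R, q.IsPrime → q ≠ ⊥ → f ∈ q := by
  haveI : IsDomain (Localization.Away f) :=
    IsLocalization.isDomain_localization (powers_le_nonZeroDivisors_of_noZeroDivisors hf)
  have hinj : Function.Injective (algebraMap R (Localization.Away f)) :=
    IsLocalization.injective _ (powers_le_nonZeroDivisors_of_noZeroDivisors hf)
  constructor
  · intro h q hq hne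
    by_contra hfq
    obtain ⟨a, ha, ha0⟩ := Submodule.exists_mem_ne_zero_of_ne_bot hne
    letI := h.toField
    have hu : IsUnit (algebraMap R (Localization.Away f) a) :=
      isUnit_iff_ne_zero.mpr fun e => ha0 (hinj (by rw [e, map_zero]))
    have hd : Disjoint (Submonoid.powers f : Set R) (q : Set R) := by
      rw [Set.disjoint_left]
      rintro _ ⟨n, rfl⟩ hn
      exact hfq (hq.mem_of_pow_mem n hn)
    exact (IsLocalization.isPrime_of_isPrime_disjoint (Submonoid.powers f)
      (Localization.Away f) q hq hd).ne_top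
      (Ideal.eq_top_of_isUnit_mem _ (Ideal.mem_map_of_mem _ ha) hu)
  · intro h
    by_contra hc
    obtain ⟨P, hPne, hP⟩ := Ring.not_isField_iff_exists_prime.mp hc
    haveI := hP
    refine hPne ?_
    have h2 := IsLocalization.map_comap (Submonoid.powers f) (Localization.Away f) P
    rw [← h2]
    by_cases h0 : Ideal.comap (algebraMap R (Localization.Away f)) P = ⊥
    · rw [show Ideal.under R P = ⊥ from h0, Ideal.map_bot]
    · exact absurd (Ideal.eq_top_of_isUnit_mem _ (Ideal.mem_comap.mp (h _ inferInstance h0))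
        (IsLocalization.Away.algebraMap_isUnit f)) hP.ne_top

section Scheme

variable {X : Scheme.{u}} [IsLocallyNoetherian X]

/-- no chain `x ⤳ y ⤳ z` above a locally closed point -/
theorem not_chain {x y z : X} (h : IsLocallyClosed ({x} : Set X)) (hxy : x ⤳ y) (hyz : y ⤳ z)
    (h1 : x ≠ y) (h2 : y ≠ z) : False := by
  obtain ⟨_, ⟨V, hV, rfl⟩, hzV, -⟩ :=
    X.isBasis_affineOpens.exists_subset_of_mem_open (Set.mem_univ z) isOpen_univ
  haveI : IsNoetherianRing Γ(X, V) := IsLocallyNoetherian.component_noetherian ⟨V, hV⟩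
  have hy : y ∈ (V : Set X) := hyz.mem_open V.isOpen hzV
  have hx : x ∈ (V : Set X) := hxy.mem_open V.isOpen hy
  rw [← hV.range_fromSpec] at hx hy hzV
  obtain ⟨a, rfl⟩ := hx
  obtain ⟨b, rfl⟩ := hy
  obtain ⟨c, rfl⟩ := hzV
  have hind := hV.fromSpec.isOpenEmbedding.isInducing
  have ha : IsLocallyClosed ({a} : Set (PrimeSpectrum Γ(X, V))) := by
    have h' := h.preimage hV.fromSpec.continuous
    rwa [show hV.fromSpec ⁻¹' {hV.fromSpec a} = {a} from by
      ext d; exact hV.fromSpec.isOpenEmbedding.injective.eq_iff] at h'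
  have hab : @LT.lt (PrimeSpectrum Γ(X, V)) _ a b := lt_of_le_of_ne
    ((PrimeSpectrum.le_iff_specializes _ _).mpr (hind.specializes_iff.mp hxy))
    fun e => h1 (congrArg _ e)
  have hbc : @LT.lt (PrimeSpectrum Γ(X, V)) _ b c := lt_of_le_of_ne
    ((PrimeSpectrum.le_iff_specializes _ _).mpr (hind.specializes_iff.mp hyz))
    fun e => h2 (congrArg _ e)
  exact hbc.not_ge (isMax_of_gt ha hab hbc.le)

theorem finite_closure [CompactSpace X] {x : X} (h : IsLocallyClosed ({x} : Set X)) :
    (closure ({x} : Set X)).Finite := by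
  obtain ⟨s, hs⟩ := CompactSpace.isCompact_univ.elim_finite_subcover
    (fun V : X.affineOpens => (V.1 : Set X)) (fun V => V.1.isOpen) (fun y _ => by
      obtain ⟨_, ⟨V, hV, rfl⟩, hyV, -⟩ :=
        X.isBasis_affineOpens.exists_subset_of_mem_open (Set.mem_univ y) isOpen_univ
      exact Set.mem_iUnion.mpr ⟨⟨V, hV⟩, hyV⟩)
  refine Set.Finite.subset (Set.Finite.biUnion s.finite_toSet
    (t := fun V => closure {x} ∩ (V.1 : Set X)) fun V _ => ?_) ?_
  · obtain ⟨V, hV⟩ := V
    by_cases hx : x ∈ (V : Set X)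
    · haveI : IsNoetherianRing Γ(X, V) := IsLocallyNoetherian.component_noetherian ⟨V, hV⟩
      rw [← hV.range_fromSpec] at hx
      obtain ⟨a, rfl⟩ := hx
      have ha : IsLocallyClosed ({a} : Set (PrimeSpectrum Γ(X, V))) := by
        have h' := h.preimage hV.fromSpec.continuous
        rwa [show hV.fromSpec ⁻¹' {hV.fromSpec a} = {a} from by
          ext d; exact hV.fromSpec.isOpenEmbedding.injective.eq_iff] at h'
      refine Set.Finite.subset ((finite_ge ha).image hV.fromSpec) ?_
      rintro y ⟨hy, hyV⟩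
      rw [← hV.range_fromSpec] at hyV
      obtain ⟨b, rfl⟩ := hyV
      exact ⟨b, (PrimeSpectrum.le_iff_specializes _ _).mpr
        (hV.fromSpec.isOpenEmbedding.isInducing.specializes_iff.mp
          (specializes_iff_mem_closure.mpr hy)), rfl⟩
    · refine Set.Finite.subset Set.finite_empty ?_
      rintro y ⟨hy, hyV⟩
      exact hx ((specializes_iff_mem_closure.mpr hy).mem_open V.isOpen hyV)
  · intro y hy
    obtain ⟨V, hV, hyV⟩ := Set.mem_iUnion₂.mp (hs (Set.mem_univ y))
    exact Set.mem_iUnion₂.mpr ⟨V, hV, hy, hyV⟩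

/-- every nonempty locally closed set of a locally Noetherian scheme contains a locally closed
point (and in a Noetherian scheme one closed in it) -/
theorem exists_locallyClosed_point {Z : Set X} (hZ : IsLocallyClosed Z) (hne : Z.Nonempty) :
    ∃ x ∈ Z, IsLocallyClosed ({x} : Set X) := by
  obtain ⟨z, hz⟩ := hne
  obtain ⟨U, F, hU, hF, rfl⟩ := hZ
  obtain ⟨_, ⟨V, hV, rfl⟩, hzV, hVU⟩ := X.isBasis_affineOpens.exists_subset_of_mem_open hz.1 hU
  haveI : CompactSpace ↥(Spec Γ(X, V)) := inferInstance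
  have hT : IsClosed (hV.fromSpec ⁻¹' F) := hF.preimage hV.fromSpec.continuous
  rw [← hV.range_fromSpec] at hzV
  obtain ⟨a, rfl⟩ := hzV
  obtain ⟨b, hb, hbc⟩ := hT.exists_closed_singleton ⟨a, hz.2⟩
  refine ⟨hV.fromSpec b, ⟨hVU (hV.range_fromSpec ▸ ⟨b, rfl⟩), hb⟩, ?_⟩
  rw [← Set.image_singleton]
  exact hbc.isLocallyClosed.image hV.fromSpec.isOpenEmbedding.isInducing
    hV.fromSpec.isOpenEmbedding.isOpen_range.isLocallyClosed

end Scheme

end Groth.Agent.H4NoethTop

namespace Groth.Agent.H4NoethTop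

theorem not_semilocal_dim_one_of_jacobson {R : Type u} [CommRing R] [JacobsonSpace (PrimeSpectrum R)]
    (hfin : Finite (MaximalSpectrum R)) : ringKrullDim R ≤ 0 := by
  have hc : (closedPoints (PrimeSpectrum R)).Finite := by
    refine (Set.finite_range (MaximalSpectrum.toPrimeSpectrum (R := R))).subset fun x hx => ?_
    exact ⟨⟨x.asIdeal, (PrimeSpectrum.isClosed_singleton_iff_isMaximal x).mp hx⟩, rfl⟩
  have hcl : IsClosed (closedPoints (PrimeSpectrum R)) := by
    rw [← Set.biUnion_of_singleton (closedPoints (PrimeSpectrum R))]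
    exact hc.isClosed_biUnion fun x hx => hx
  have huniv := closure_closedPoints (X := PrimeSpectrum R)
  rw [hcl.closure_eq] at huniv
  change Order.krullDim (PrimeSpectrum R) ≤ 0
  rw [Order.krullDim_nonpos_iff_forall_isMax]
  intro x q hxq
  have hx : x.asIdeal.IsMaximal := (PrimeSpectrum.isClosed_singleton_iff_isMaximal x).mp
    (show x ∈ closedPoints (PrimeSpectrum R) by rw [huniv]; trivial)
  exact (PrimeSpectrum.ext (hx.eq_of_le q.2.ne_top hxq)).ge

theorem semilocal_dim_one {R : Type u} [CommRing R] [IsNoetherianRing R] {x q : PrimeSpectrum R}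
    (h : IsLocallyClosed ({x} : Set (PrimeSpectrum R))) (hq : x < q) :
    Finite (MaximalSpectrum (R ⧸ x.asIdeal)) ∧ ringKrullDim (R ⧸ x.asIdeal) = 1 := by
  let e := x.asIdeal.primeSpectrumQuotientOrderIsoZeroLocus
  haveI : Finite ↥(PrimeSpectrum.zeroLocus (x.asIdeal : Set R)) :=
    ((finite_ge h).subset fun q hq => hq).to_subtype
  haveI : Finite (PrimeSpectrum (R ⧸ x.asIdeal)) := Finite.of_equiv _ e.symm.toEquiv
  refine ⟨Finite.of_injective _ MaximalSpectrum.toPrimeSpectrum_injective, ?_⟩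
  change Order.krullDim _ = _
  rw [Order.krullDim_eq_of_orderIso e]
  apply le_antisymm
  · rw [Order.krullDim_le_one_iff]
    intro a
    rcases eq_or_lt_of_le (show x ≤ a.1 from a.2) with e' | e'
    · refine Or.inl fun b _ => ?_
      show a.1 ≤ b.1
      rw [← e']
      exact b.2
    · exact Or.inr fun b hb => isMax_of_gt h e' hb
  · rw [Order.one_le_krullDim_iff]
    exact ⟨⟨x, show x.asIdeal ≤ x.asIdeal from le_refl _⟩, ⟨q, show x.asIdeal ≤ q.asIdeal from hq.le⟩, hq⟩

theorem isLocallyClosed_singleton_preimage {α β : Type*} [TopologicalSpace α] [TopologicalSpace β]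
    {i : α → β} (hc : Continuous i) (hi : Function.Injective i) {a : α}
    (h : IsLocallyClosed ({i a} : Set β)) : IsLocallyClosed ({a} : Set α) := by
  have := h.preimage hc
  rwa [show i ⁻¹' {i a} = {a} from by ext d; exact hi.eq_iff] at this

attribute [local instance] specializationOrder in
theorem topologicalKrullDim_le_one_iff {α : Type*} [TopologicalSpace α] [QuasiSober α] [T0Space α] :
    topologicalKrullDim α ≤ 1 ↔
      ∀ x y z : α, x ⤳ y → y ⤳ z → x = y ∨ y = z := by
  rw [topologicalKrullDim, Order.krullDim_eq_of_orderIso (irreducibleSetEquivPoints (α := α)),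
    Order.krullDim_le_one_iff]
  constructor
  · intro h x y z hxy hyz
    rcases h y with h' | h'
    · exact Or.inr ((hyz.antisymm (h' hyz)).eq)
    · exact Or.inl ((hxy.antisymm (h' hxy)).eq)
  · intro h y
    by_contra hc
    simp only [not_or, IsMin, IsMax, not_forall] at hc
    obtain ⟨⟨z, hz, hz'⟩, ⟨x, hx, hx'⟩⟩ := hc
    rcases h x y z hx hz with e | e
    · exact hx' (e ▸ le_refl y)
    · exact hz' (e ▸ le_refl y)

end Groth.Agent.H4NoethTop
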