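import Mathlib
import Groth.Prelude.Def_EGA43

/-! Openness and universal openness at a point: basic calculus. -/

universe u v w

open CategoryTheory AlgebraicGeometry Topology CategoryTheory.Limits

namespace Groth.Agent.H4OpenAt

variable {α : Type u} {β : Type v} {γ : Type w} [TopologicalSpace α] [TopologicalSpace β]
  [TopologicalSpace γ]

theorem openAt_comp {f : α → β} {g : β → γ} {x : α} (hf : EGA43.IsOpenAt f x)
    (hg : EGA43.IsOpenAt g (f x)) : EGA43.IsOpenAt (g ∘ f) x := by
  intro U hU
  have := hg _ (hf U hU)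
  rwa [Set.image_image] at this

theorem openAt_of_comp {f : α → β} {g : β → γ} {x : α} (hf : Continuous f)
    (h : EGA43.IsOpenAt (g ∘ f) x) : EGA43.IsOpenAt g (f x) := by
  intro U hU
  refine Filter.mem_of_superset (h (f ⁻¹' U) (hf.continuousAt.preimage_mem_nhds hU)) ?_
  rintro _ ⟨a, ha, rfl⟩
  exact ⟨f a, ha, rfl⟩

theorem openAt_of_isOpenMap {f : α → β} (hf : IsOpenMap f) (x : α) : EGA43.IsOpenAt f x :=
  fun _ hU => hf.image_mem_nhds hU

/-- the pullback of `f` along the square is open at points over a point where `f` is universally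
open -/
theorem univOpenAt_apply {X Y Y' W : Scheme.{u}} {f : X ⟶ Y} {g : Y' ⟶ Y} {a : W ⟶ X} {b : W ⟶ Y'}
    {x : X} (h : EGA43.IsUnivOpenAt f x) (sq : IsPullback a b f g) (w : W) (hw : a.base w = x) :
    EGA43.IsOpenAt b.base w := by
  have hb : sq.isoPullback.hom ≫ pullback.snd f g = b := sq.isoPullback_hom_snd
  have ha : sq.isoPullback.hom ≫ pullback.fst f g = a := sq.isoPullback_hom_fst
  have h2 := h Y' g (sq.isoPullback.hom.base w) ((congrArg (fun k => k.base w) ha).trans hw)
  have h3 : EGA43.IsOpenAt sq.isoPullback.hom.base w :=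
    openAt_of_isOpenMap sq.isoPullback.hom.isOpenEmbedding.isOpenMap _
  have := openAt_comp h3 h2
  rw [← hb]
  exact this

/-- a base change of a morphism universally open at `x` is universally open over `x` -/
theorem univOpenAt_of_sq {X Y Y' W : Scheme.{u}} {f : X ⟶ Y} {g : Y' ⟶ Y} {a : W ⟶ X}
    {b : W ⟶ Y'} {x : X} (h : EGA43.IsUnivOpenAt f x) (sq : IsPullback a b f g) (w : W)
    (hw : a.base w = x) : EGA43.IsUnivOpenAt b w := by
  intro T t z hz
  have sq2 := ((IsPullback.of_hasPullback b t).paste_horiz sq)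
  refine univOpenAt_apply h sq2 z ?_
  rw [← hw, ← hz]
  rfl

theorem univOpenAt_comp {X Y Z : Scheme.{u}} {f : X ⟶ Y} {g : Y ⟶ Z} {x : X}
    (hf : EGA43.IsUnivOpenAt f x) (hg : EGA43.IsUnivOpenAt g (f.base x)) :
    EGA43.IsUnivOpenAt (f ≫ g) x := by
  intro T t z hz
  let z' := (pullbackRightPullbackFstIso g t f).inv.base z
  have e2 : (pullbackRightPullbackFstIso g t f).inv ≫ pullback.snd _ _ ≫ pullback.snd g t =
      pullback.snd (f ≫ g) t := pullbackRightPullbackFstIso_inv_snd_snd g t f
  have e1 : (pullbackRightPullbackFstIso g t f).inv ≫ pullback.fst _ _ =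
      pullback.fst (f ≫ g) t := pullbackRightPullbackFstIso_inv_fst g t f
  have hz' : (pullback.fst f (pullback.fst g t)).base z' = x := by
    rw [← hz, ← e1]; rfl
  have hop : EGA43.IsOpenAt (pullback.snd f (pullback.fst g t)).base z' := hf _ _ z' hz'
  have hop2 : EGA43.IsOpenAt (pullback.snd g t).base
      ((pullback.snd f (pullback.fst g t)).base z') := by
    refine hg _ _ _ ?_
    rw [← hz']
    have := congrArg (fun k => k.base z') (pullback.condition (f := f) (g := pullback.fst g t))
    exact this.symm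
  have h3 : EGA43.IsOpenAt (pullbackRightPullbackFstIso g t f).inv.base z :=
    openAt_of_isOpenMap (pullbackRightPullbackFstIso g t f).inv.isOpenEmbedding.isOpenMap _
  have := openAt_comp h3 (openAt_comp hop hop2)
  rw [← e2]
  exact this

theorem univOpenAt_right_of_comp {X Y Z : Scheme.{u}} {f : X ⟶ Y} {g : Y ⟶ Z} {x : X}
    (h : EGA43.IsUnivOpenAt (f ≫ g) x) : EGA43.IsUnivOpenAt g (f.base x) := by
  intro T t y hy
  obtain ⟨z, hz1, hz2⟩ := Scheme.Pullback.exists_preimage_pullback (f := f) (g := pullback.fst g t)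
    x y hy.symm
  have sq := (IsPullback.of_hasPullback f (pullback.fst g t)).paste_vert
    (IsPullback.of_hasPullback g t)
  have := univOpenAt_apply h sq z hz1
  have h2 := openAt_of_comp (f := (pullback.snd f (pullback.fst g t)).base)
    (g := (pullback.snd g t).base) (x := z) (by fun_prop) this
  rwa [hz2] at h2

/-- descent of openness at a point along a closed surjective base change -/
theorem openAt_of_closed_surj {X Y Y₁ : Scheme.{u}} {v : Y₁ ⟶ Y}
    (hv : IsClosedMap v.base) (hs : Function.Surjective v.base) {f : X ⟶ Y} {x : X}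
    (h : ∀ x₁ : ↥(pullback f v), (pullback.fst f v).base x₁ = x →
      EGA43.IsOpenAt (pullback.snd f v).base x₁) :
    EGA43.IsOpenAt f.base x := by
  intro U hU
  rw [mem_nhds_iff]
  by_contra hne
  have hcl : f.base x ∈ closure (f.base '' U)ᶜ := by
    rw [closure_compl, Set.mem_compl_iff, mem_interior]
    exact hne
  have h1 : closure (f.base '' U)ᶜ ⊆ v.base '' closure (v.base ⁻¹' (f.base '' U)ᶜ) :=
    closure_minimal (fun y hy => by
      obtain ⟨y₁, rfl⟩ := hs y
      exact ⟨y₁, subset_closure hy, rfl⟩) (hv _ isClosed_closure)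
  obtain ⟨y₁, hy₁, hy₁'⟩ := h1 hcl
  obtain ⟨z, hz1, hz2⟩ := Scheme.Pullback.exists_preimage_pullback (f := f) (g := v) x y₁ hy₁'.symm
  have := h z hz1 ((pullback.fst f v).base ⁻¹' U)
    ((pullback.fst f v).continuous.continuousAt.preimage_mem_nhds (by rw [hz1]; exact hU))
  rw [hz2] at this
  obtain ⟨O, hO, hOo, hyO⟩ := mem_nhds_iff.mp this
  obtain ⟨b, hbO, hb⟩ := mem_closure_iff.mp hy₁ O hOo hyO
  obtain ⟨a, ha, rfl⟩ := hO hbO
  refine hb ⟨(pullback.fst f v).base a, ha, ?_⟩
  exact congrArg (fun k => k.base a) (pullback.condition (f := f) (g := v))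

theorem univOpenAt_of_closed_surj {X Y Y₁ : Scheme.{u}} (v : Y₁ ⟶ Y) [UniversallyClosed v]
    [Surjective v] {f : X ⟶ Y} {x : X}
    (h : ∀ x₁ : ↥(pullback f v), (pullback.fst f v).base x₁ = x →
      EGA43.IsUnivOpenAt (pullback.snd f v) x₁) :
    EGA43.IsUnivOpenAt f x := by
  intro T t z hz
  refine openAt_of_closed_surj (v := pullback.fst t v) (pullback.fst t v).isClosedMap
    (Surjective.surj (f := pullback.fst t v)) ?_
  intro w hw
  -- the iterated base change is a base change of `pullback.snd f v`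
  have sqA := (IsPullback.of_hasPullback (pullback.snd f t) (pullback.fst t v)).paste_horiz
    (IsPullback.of_hasPullback f t)
  rw [pullback.condition (f := t) (g := v)] at sqA
  have sqB := sqA.of_right' (IsPullback.of_hasPullback f v)
  refine univOpenAt_apply (h _ ?_) sqB w rfl
  rw [← Scheme.Hom.comp_apply, IsPullback.lift_fst, Scheme.Hom.comp_apply, hw, hz]

end Groth.Agent.H4OpenAt
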