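import Mathlib
import Groth.Prelude.Def_PP16

/-!
Basic facts on rings of principal parts: universal property, kernels of functoriality maps and
coordinate descriptions.
-/

set_option autoImplicit false
set_option linter.unusedSectionVars false

open scoped TensorProduct

namespace Groth.Agent.H4PP16

universe u

theorem map_eq_zero_of_mem_pow {R S : Type*} [CommRing R] [CommRing S] (f : R →+* S) {I : Ideal R}
    {N : Ideal S} (h : I.map f ≤ N) {k : ℕ} (hN : N ^ k = ⊥) {x : R} (hx : x ∈ I ^ k) : f x = 0 := by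
  have h' := Ideal.pow_right_mono h k
  rw [← Ideal.map_pow, hN] at h'
  exact (Submodule.mem_bot S).1 (h' (Ideal.mem_map_of_mem f hx))

theorem map_mk_pow {R : Type*} [CommRing R] (J : Ideal R) (k : ℕ) :
    (J.map (Ideal.Quotient.mk (J ^ k))) ^ k = ⊥ := by
  rw [← Ideal.map_pow, Ideal.map_quotient_self]

theorem isUnit_of_sub_nilpotent {R : Type*} [CommRing R] {a b : R} (hb : IsUnit b)
    (h : IsNilpotent (a - b)) : IsUnit a := by
  have := IsNilpotent.isUnit_add_left_of_commute h hb (Commute.all _ _)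
  rwa [add_sub_cancel] at this

variable (n : ℕ) (A B : Type u) [CommRing A] [CommRing B] [Algebra A B]

theorem mk_tmul (b c : B) :
    (Ideal.Quotient.mk _ (b ⊗ₜ[A] c) : PP16.P n A B) =
      algebraMap B (PP16.P n A B) b * PP16.dn n A B c := by
  change _ = Ideal.Quotient.mk _ (b ⊗ₜ[A] (1 : B)) * Ideal.Quotient.mk _ ((1 : B) ⊗ₜ[A] c)
  rw [← map_mul, Algebra.TensorProduct.tmul_mul_tmul, mul_one, one_mul]

theorem augIdeal_pow : PP16.augIdeal n A B ^ (n + 1) = ⊥ := by
  rw [PP16.augIdeal, ← Ideal.map_pow, Ideal.map_quotient_self]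

theorem dn_sub_mem (b : B) :
    PP16.dn n A B b - algebraMap B (PP16.P n A B) b ∈ PP16.augIdeal n A B := by
  change Ideal.Quotient.mk _ ((1 : B) ⊗ₜ[A] b) - Ideal.Quotient.mk _ (b ⊗ₜ[A] (1 : B)) ∈ _
  rw [← map_sub]
  exact Ideal.mem_map_of_mem _ (KaehlerDifferential.one_smul_sub_smul_one_mem_ideal A b)

theorem isNilpotent_dn_sub (b : B) :
    IsNilpotent (PP16.dn n A B b - algebraMap B (PP16.P n A B) b) :=
  ⟨n + 1, by
    have := Ideal.pow_mem_pow (dn_sub_mem n A B b) (n + 1)
    rwa [augIdeal_pow] at this⟩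

variable {n A B}

theorem hom_ext {R : Type*} [CommRing R] {f g : PP16.P n A B →+* R}
    (h₁ : ∀ b, f (algebraMap B (PP16.P n A B) b) = g (algebraMap B (PP16.P n A B) b))
    (h₂ : ∀ b, f (PP16.dn n A B b) = g (PP16.dn n A B b)) : f = g := by
  refine RingHom.ext fun x => ?_
  obtain ⟨x, rfl⟩ := Ideal.Quotient.mk_surjective x
  induction x using TensorProduct.induction_on with
  | zero => simp
  | tmul b c => rw [mk_tmul, map_mul, map_mul, h₁, h₂]
  | add x y hx hy => rw [map_add, map_add, map_add, hx, hy]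

/-- The universal property: an `A`-map congruent to the structure map modulo `N`, `N^(n+1) = 0`. -/
noncomputable def lift {Q : Type*} [CommRing Q] [Algebra B Q] [Algebra A Q] [IsScalarTower A B Q]
    (τ : B →ₐ[A] Q) (N : Ideal Q) (hN : N ^ (n + 1) = ⊥)
    (hτ : ∀ b, τ b - algebraMap B Q b ∈ N) : PP16.P n A B →ₐ[B] Q :=
  Ideal.Quotient.liftₐ _
    (Algebra.TensorProduct.lift (Algebra.ofId B Q) τ fun _ _ => Commute.all _ _) fun x hx => by
      have hle : (KaehlerDifferential.ideal A B).map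
          (Algebra.TensorProduct.lift (Algebra.ofId B Q) τ fun _ _ => Commute.all _ _) ≤ N := by
        rw [← KaehlerDifferential.span_range_eq_ideal, Ideal.map_span, Ideal.span_le]
        rintro _ ⟨_, ⟨b, rfl⟩, rfl⟩
        simpa [Algebra.ofId_apply] using hτ b
      have h := Ideal.pow_right_mono hle (n + 1)
      rw [← Ideal.map_pow, hN] at h
      exact (Submodule.mem_bot Q).1 (h (Ideal.mem_map_of_mem _ hx))

theorem lift_dn {Q : Type*} [CommRing Q] [Algebra B Q] [Algebra A Q] [IsScalarTower A B Q]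
    (τ : B →ₐ[A] Q) (N : Ideal Q) (hN : N ^ (n + 1) = ⊥)
    (hτ : ∀ b, τ b - algebraMap B Q b ∈ N) (b : B) :
    lift (n := n) τ N hN hτ (PP16.dn n A B b) = τ b := by
  change Algebra.TensorProduct.lift (Algebra.ofId B Q) τ (fun _ _ => Commute.all _ _) ((1 : B) ⊗ₜ[A] b) = τ b
  simp

variable (n A B)

/-- The augmentation `P^n → B`. -/
noncomputable def aug : PP16.P n A B →ₐ[B] B :=
  lift (AlgHom.id A B) ⊥ (by rw [pow_succ]; simp) (by simp)

theorem aug_dn (b : B) : aug n A B (PP16.dn n A B b) = b := lift_dn _ _ _ _ b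

theorem mem_augIdeal {x : PP16.P n A B} (hx : aug n A B x = 0) : x ∈ PP16.augIdeal n A B := by
  obtain ⟨x, rfl⟩ := Ideal.Quotient.mk_surjective x
  refine Ideal.mem_map_of_mem _ (?_ : x ∈ KaehlerDifferential.ideal A B)
  have h : ∀ y : B ⊗[A] B, aug n A B (Ideal.Quotient.mk _ y) = Algebra.TensorProduct.lmul' A y := by
    intro y
    induction y using TensorProduct.induction_on with
    | zero => simp
    | tmul b c =>
      rw [mk_tmul, map_mul, aug_dn, AlgHom.commutes, Algebra.TensorProduct.lmul'_apply_tmul]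
      rfl
    | add x y hx hy => rw [map_add, map_add, map_add, hx, hy]
  rw [KaehlerDifferential.ideal, RingHom.mem_ker, ← h]
  exact hx

section Map

variable (A' B' : Type u) [CommRing A'] [CommRing B'] [Algebra A' B'] [Algebra A A'] [Algebra B B']
  [Algebra A B'] [IsScalarTower A A' B'] [IsScalarTower A B B']

theorem map_ideal_eq (hs : Function.Surjective (algebraMap B B')) :
    (KaehlerDifferential.ideal A B).map (PP16.tensorMap A B A' B') = KaehlerDifferential.ideal A' B' := by
  refine le_antisymm (PP16.ideal_map_tensorMap_le A B A' B') ?_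
  rw [← KaehlerDifferential.span_range_eq_ideal A' B', Ideal.span_le]
  rintro _ ⟨b', rfl⟩
  obtain ⟨b, rfl⟩ := hs b'
  have := Ideal.mem_map_of_mem (PP16.tensorMap A B A' B')
    (KaehlerDifferential.one_smul_sub_smul_one_mem_ideal A b)
  simpa [PP16.tensorMap_tmul] using this

theorem tensorMap_surjective (hs : Function.Surjective (algebraMap B B')) :
    Function.Surjective (PP16.tensorMap A B A' B') := fun x => by
  induction x using TensorProduct.induction_on with
  | zero => exact ⟨0, map_zero _⟩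
  | tmul b c =>
    obtain ⟨b, rfl⟩ := hs b
    obtain ⟨c, rfl⟩ := hs c
    exact ⟨b ⊗ₜ c, PP16.tensorMap_tmul A B A' B' b c⟩
  | add x y hx hy =>
    obtain ⟨x, rfl⟩ := hx
    obtain ⟨y, rfl⟩ := hy
    exact ⟨x + y, map_add _ x y⟩

theorem map_surjective (hs : Function.Surjective (algebraMap B B')) :
    Function.Surjective (PP16.map n A B A' B') := fun x => by
  obtain ⟨x, rfl⟩ := Ideal.Quotient.mk_surjective x
  obtain ⟨y, rfl⟩ := tensorMap_surjective A B A' B' hs x
  exact ⟨Ideal.Quotient.mk _ y, PP16.map_mk n A B A' B' y⟩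

theorem ker_map (hs : Function.Surjective (algebraMap B B')) (J : Ideal (B ⊗[A] B))
    (hJ : RingHom.ker (PP16.tensorMap A B A' B') = J) :
    RingHom.ker (PP16.map n A B A' B') =
      J.map (Ideal.Quotient.mk ((KaehlerDifferential.ideal A B) ^ (n + 1))) := by
  refine le_antisymm (fun x hx => ?_) (Ideal.map_le_iff_le_comap.2 fun y hy => ?_)
  · obtain ⟨x, rfl⟩ := Ideal.Quotient.mk_surjective x
    rw [RingHom.mem_ker, PP16.map_mk, Ideal.Quotient.eq_zero_iff_mem] at hx
    rw [← map_ideal_eq A B A' B' hs, ← Ideal.map_pow] at hx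
    obtain ⟨z, hz, hzx⟩ := (Ideal.mem_map_iff_of_surjective _ (tensorMap_surjective A B A' B' hs)).1 hx
    have h1 : x - z ∈ J := by
      rw [← hJ, RingHom.mem_ker, map_sub, hzx, sub_self]
    have := Ideal.mem_map_of_mem (Ideal.Quotient.mk ((KaehlerDifferential.ideal A B) ^ (n + 1))) h1
    rwa [map_sub, Ideal.Quotient.eq_zero_iff_mem.2 hz, sub_zero] at this
  · rw [← hJ, RingHom.mem_ker] at hy
    rw [Ideal.mem_comap, RingHom.mem_ker, PP16.map_mk, hy, map_zero]

theorem ker_tensorMap_self (A B C : Type u) [CommRing A] [CommRing B] [CommRing C]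
    [Algebra A B] [Algebra B C] [Algebra A C] [IsScalarTower A B C] :
    RingHom.ker (PP16.tensorMap A C B C) =
      Ideal.span (Set.range fun b : B =>
        (1 : C) ⊗ₜ[A] algebraMap B C b - algebraMap B C b ⊗ₜ[A] (1 : C)) := by
  set J := Ideal.span (Set.range fun b : B =>
    (1 : C) ⊗ₜ[A] algebraMap B C b - algebraMap B C b ⊗ₜ[A] (1 : C))
  have hle : J ≤ RingHom.ker (PP16.tensorMap A C B C) := Ideal.span_le.2 fun _ ⟨b, hb⟩ => by
    subst hb
    rw [SetLike.mem_coe, RingHom.mem_ker, map_sub, PP16.tensorMap_tmul, PP16.tensorMap_tmul,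
      sub_eq_zero]
    simp only [Algebra.algebraMap_self, RingHom.id_apply]
    rw [show algebraMap B C b = b • (1 : C) by rw [Algebra.smul_def, mul_one], TensorProduct.smul_tmul]
  refine le_antisymm (fun x hx => ?_) hle
  let f1 : C →ₐ[B] (C ⊗[A] C) ⧸ J :=
    { ((Ideal.Quotient.mk J).comp Algebra.TensorProduct.includeLeftRingHom) with commutes' := fun b => rfl }
  let f2 : C →ₐ[B] (C ⊗[A] C) ⧸ J :=
    { ((Ideal.Quotient.mk J).comp (Algebra.TensorProduct.includeRight (R := A) (A := C) (B := C)).toRingHom) with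
      commutes' := fun b => Ideal.Quotient.eq.2 (Ideal.subset_span ⟨b, rfl⟩) }
  let r := Algebra.TensorProduct.lift f1 f2 fun _ _ => Commute.all _ _
  have hr : ∀ y, r (PP16.tensorMap A C B C y) = Ideal.Quotient.mk J y := fun y => by
    induction y using TensorProduct.induction_on with
    | zero => simp
    | tmul a c =>
      rw [PP16.tensorMap_tmul, Algebra.algebraMap_self, RingHom.id_apply, RingHom.id_apply,
        Algebra.TensorProduct.lift_tmul]
      change Ideal.Quotient.mk J (a ⊗ₜ[A] (1 : C)) * Ideal.Quotient.mk J ((1 : C) ⊗ₜ[A] c) = _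
      rw [← map_mul, Algebra.TensorProduct.tmul_mul_tmul, mul_one, one_mul]
    | add x y hx hy => rw [map_add, map_add, map_add, hx, hy]
  rw [← Ideal.Quotient.eq_zero_iff_mem, ← hr, RingHom.mem_ker.1 hx, map_zero]

end Map

section Coord

variable {σ : Type*} (z : σ → B)

/-- Coordinates: `P^n ≅ B[X]/(X)^(n+1)`. -/
theorem exists_coord
    (τ : B →ₐ[A] MvPolynomial σ B ⧸
      Ideal.span (Set.range (MvPolynomial.X : σ → MvPolynomial σ B)) ^ (n + 1))
    (hτ : ∀ b, τ b - algebraMap B _ b ∈
      (Ideal.span (Set.range (MvPolynomial.X : σ → MvPolynomial σ B))).map (Ideal.Quotient.mk _))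
    (hz : ∀ i, τ (z i) = Ideal.Quotient.mk _ (MvPolynomial.C (z i) + MvPolynomial.X i))
    (hext : ∀ f g : B →ₐ[A] PP16.P n A B, (∀ i, f (z i) = g (z i)) → f = g) :
    ∃ e : PP16.P n A B ≃ₐ[B] MvPolynomial σ B ⧸
        Ideal.span (Set.range (MvPolynomial.X : σ → MvPolynomial σ B)) ^ (n + 1),
      (∀ b, e (PP16.dn n A B b) = τ b) ∧
      (∀ p, e.symm (Ideal.Quotient.mk _ p) =
        MvPolynomial.aeval (fun i => PP16.dn n A B (z i) - algebraMap B (PP16.P n A B) (z i)) p) := by
  have hN : (Ideal.span (Set.range (MvPolynomial.X : σ → MvPolynomial σ B))).map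
      (Ideal.Quotient.mk (Ideal.span (Set.range (MvPolynomial.X : σ → MvPolynomial σ B)) ^ (n + 1))) ^ (n + 1) = ⊥ := by
    rw [← Ideal.map_pow, Ideal.map_quotient_self]
  let φ := lift (n := n) τ _ hN hτ
  let a : MvPolynomial σ B →ₐ[B] PP16.P n A B :=
    MvPolynomial.aeval fun i => PP16.dn n A B (z i) - algebraMap B (PP16.P n A B) (z i)
  have ha : (Ideal.span (Set.range (MvPolynomial.X : σ → MvPolynomial σ B))).map a ≤ PP16.augIdeal n A B := by
    rw [Ideal.map_span, Ideal.span_le]
    rintro _ ⟨_, ⟨i, rfl⟩, rfl⟩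
    simpa [a] using dn_sub_mem n A B (z i)
  let ψ := Ideal.Quotient.liftₐ (Ideal.span (Set.range (MvPolynomial.X : σ → MvPolynomial σ B)) ^ (n + 1)) a
    fun x hx => by
      have h := Ideal.pow_right_mono ha (n + 1)
      rw [← Ideal.map_pow, augIdeal_pow] at h
      exact (Submodule.mem_bot _).1 (h (Ideal.mem_map_of_mem _ hx))
  have hφψ : φ.comp ψ = AlgHom.id B _ := by
    refine Ideal.Quotient.algHom_ext B (MvPolynomial.algHom_ext fun i => ?_)
    change φ (a (MvPolynomial.X i)) = Ideal.Quotient.mk _ (MvPolynomial.X i)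
    rw [show a (MvPolynomial.X i) = PP16.dn n A B (z i) - algebraMap B (PP16.P n A B) (z i) from
      MvPolynomial.aeval_X _ i, map_sub, lift_dn, AlgHom.commutes, hz, map_add,
      show algebraMap B (MvPolynomial σ B ⧸ _) (z i) = Ideal.Quotient.mk _ (MvPolynomial.C (z i)) from rfl,
      add_sub_cancel_left]
  have key : (ψ.restrictScalars A).comp τ = PP16.dn n A B := hext _ _ fun i => by
    rw [AlgHom.comp_apply, hz]
    change a (MvPolynomial.C (z i) + MvPolynomial.X i) = _
    simp [a]
  have hψφ : ψ.comp φ = AlgHom.id B _ := AlgHom.coe_ringHom_injective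
    (hom_ext (fun b => by simp only [RingHom.coe_coe, AlgHom.commutes]) fun b => by
      change ψ (φ (PP16.dn n A B b)) = PP16.dn n A B b
      rw [lift_dn]
      exact AlgHom.congr_fun key b)
  exact ⟨AlgEquiv.ofAlgHom φ ψ hφψ hψφ, fun b => lift_dn (n := n) τ _ hN hτ b, fun p => rfl⟩

end Coord

end Groth.Agent.H4PP16
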