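import Groth.Prelude.Def_Found
import Mathlib.Algebra.DirectSum.Module
import Mathlib.LinearAlgebra.DFinsupp
import Mathlib.LinearAlgebra.FreeModule.Basic
import Mathlib.Algebra.Module.Projective
import Mathlib.LinearAlgebra.Matrix.ToLin
import Mathlib.LinearAlgebra.Matrix.NonsingularInverse
import Mathlib.RingTheory.LocalRing.ResidueField.Basic
import Mathlib.Data.Set.Countable
import Mathlib.SetTheory.Cardinal.Order
import Mathlib.LinearAlgebra.Finsupp.VectorSpace

/-!
# Kaplansky's theorems on projective modules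

* a direct summand of a direct sum of countably generated modules is again such a sum;
* projective modules over local rings are free.
-/

set_option autoImplicit false

universe u

namespace Groth.Agent.Kap

variable {R : Type u} [CommRing R]
variable {M : Type u} [AddCommGroup M] [Module R M]

section Countable

open DirectSum

variable {ι : Type u} (N : ι → Submodule R M)

/-- The sum of the pieces indexed by `J`. -/
def part (J : Set ι) : Submodule R M := ⨆ i ∈ J, N i

lemma le_part {J : Set ι} {i : ι} (hi : i ∈ J) : N i ≤ part N J := le_biSup N hi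

lemma part_le_iff {J : Set ι} {P : Submodule R M} : part N J ≤ P ↔ ∀ i ∈ J, N i ≤ P := iSup₂_le_iff

variable [DecidableEq ι] (hN : IsInternal N)

/-- The projection to the sum of the pieces indexed by `J`. -/
noncomputable def projPart (J : Set ι) : M →ₗ[R] M :=
  haveI : DecidablePred (· ∈ J) := Classical.decPred _
  DirectSum.coeLinearMap N ∘ₗ DFinsupp.filterLinearMap R (fun i => N i) (· ∈ J) ∘ₗ
    (LinearEquiv.ofBijective (DirectSum.coeLinearMap N) hN).symm.toLinearMap

lemma projPart_mem (J : Set ι) (x : M) : projPart N hN J x ∈ part N J := by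
  classical
  have : ∀ d : ⨁ i, N i, (∀ i ∉ J, d i = 0) → DirectSum.coeLinearMap N d ∈ part N J := by
    intro d hd
    rw [show d = ∑ i ∈ d.support, DirectSum.lof R ι (fun i => N i) i (d i) from
      (DirectSum.sum_support_of d).symm, map_sum]
    refine Submodule.sum_mem _ fun i hi => ?_
    have hiJ : i ∈ J := by
      by_contra h
      exact (DFinsupp.mem_support_iff.mp hi) (hd i h)
    simpa [DirectSum.lof_eq_of] using le_part N hiJ (d i).2
  exact this _ fun i hi => DFinsupp.filter_apply_neg _ hi

lemma projPart_of_mem {J : Set ι} {x : M} (hx : x ∈ part N J) : projPart N hN J x = x := by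
  classical
  suffices part N J ≤ LinearMap.eqLocus (projPart N hN J) LinearMap.id from this hx
  refine (part_le_iff N).mpr fun i hi y hy => ?_
  show projPart N hN J y = y
  have h1 : (LinearEquiv.ofBijective (DirectSum.coeLinearMap N) hN).symm y =
      DirectSum.of (fun i => N i) i ⟨y, hy⟩ := by
    rw [LinearEquiv.symm_apply_eq]
    exact (DirectSum.coeLinearMap_of N i ⟨y, hy⟩).symm
  simp only [projPart, LinearMap.comp_apply, LinearEquiv.coe_toLinearMap, h1]
  have h2 : DFinsupp.filterLinearMap R (fun i => N i) (· ∈ J) (DirectSum.of (fun i => N i) i ⟨y, hy⟩)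
      = DirectSum.of (fun i => N i) i ⟨y, hy⟩ := by
    ext k
    simp only [DFinsupp.filterLinearMap_apply, DFinsupp.filter_apply]
    split_ifs with hk
    · rfl
    · rw [DirectSum.of_eq_of_ne]
      exact fun e => hk (e ▸ hi)
  exact (congrArg (DirectSum.coeLinearMap N) h2).trans (by simp)

include hN in
lemma exists_finite_support (x : M) : ∃ J : Finset ι, x ∈ part N (J : Set ι) := by
  classical
  obtain ⟨d, hd⟩ := hN.surjective x
  refine ⟨d.support, ?_⟩
  rw [show x = DirectSum.coeLinearMap N (∑ i ∈ d.support, DirectSum.of (fun i => N i) i (d i)) by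
    rw [DirectSum.sum_support_of d, ← hd]; rfl, map_sum]
  refine Submodule.sum_mem _ fun i hi => ?_
  simpa using le_part N (show i ∈ ((d.support : Finset ι) : Set ι) from hi) (d i).2

include hN in
/-- A countable set of indices containing `i` and stable under `π`. -/
lemma exists_closure (hc : ∀ i, CAlg.IsCountablyGenerated R (N i)) (π : M →ₗ[R] M) (i : ι) :
    ∃ C : Set ι, C.Countable ∧ i ∈ C ∧ ∀ k ∈ C, (N k).map π ≤ part N C := by
  classical
  choose s hs hspan using hc
  choose J hJ using exists_finite_support N hN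
  let next : Set ι → Set ι := fun C => C ∪ ⋃ k ∈ C, ⋃ g ∈ s k, (J (π (g : M)) : Set ι)
  let C : ℕ → Set ι := fun n => next^[n] {i}
  have hCc : ∀ n, (C n).Countable := by
    intro n
    induction n with
    | zero => exact Set.countable_singleton i
    | succ n ih =>
      simp only [C, Function.iterate_succ_apply']
      exact ih.union (ih.biUnion fun k _ => (hs k).biUnion fun g _ => Finset.countable_toSet _)
  refine ⟨⋃ n, C n, Set.countable_iUnion hCc, Set.mem_iUnion.mpr ⟨0, rfl⟩, fun k hk => ?_⟩
  obtain ⟨n, hn⟩ := Set.mem_iUnion.mp hk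
  have hsk : (N k) = Submodule.span R (Subtype.val '' s k) := by
    rw [← Submodule.coe_subtype (p := N k), ← Submodule.map_span, hspan k, Submodule.map_subtype_top]
  rw [hsk, Submodule.map_span, Submodule.span_le]
  rintro _ ⟨_, ⟨g, hg, rfl⟩, rfl⟩
  refine (part_le_iff N).mpr (fun l hl => le_part N ?_) (hJ (π (g : M)))
  refine Set.mem_iUnion.mpr ⟨n + 1, ?_⟩
  simp only [C, Function.iterate_succ_apply']
  exact Or.inr (Set.mem_biUnion hn (Set.mem_biUnion hg hl))

include hN in
/-- Kaplansky: the image of a projection in a direct sum of countably generated modules is a direct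
sum of countably generated modules. -/
theorem exists_internal_countable (hc : ∀ i, CAlg.IsCountablyGenerated R (N i))
    (P : Submodule R M) (π : M →ₗ[R] M) (hπ : ∀ x, π x ∈ P) (hid : ∀ x ∈ P, π x = x) :
    ∃ L : ι → Submodule R P, DirectSum.IsInternal L ∧ ∀ k, CAlg.IsCountablyGenerated R (L k) := by
  classical
  choose C hCc hiC hC using exists_closure N hN hc π
  let wo : LinearOrder ι := IsWellOrder.linearOrder (@WellOrderingRel ι)
  have hwf : WellFounded (wo.lt) := (WellOrderingRel.isWellOrder (α := ι)).wf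
  letI := wo
  let below : ι → Set ι := fun i => ⋃ k ∈ {k | k < i}, C k
  let upto : ι → Set ι := fun i => ⋃ k ∈ {k | k ≤ i}, C k
  have hclosed : ∀ (s : Set ι), (part N (⋃ k ∈ s, C k)).map π ≤ part N (⋃ k ∈ s, C k) := by
    intro s
    rw [Submodule.map_le_iff_le_comap, part_le_iff]
    intro l hl
    obtain ⟨k, hk, hlk⟩ := Set.mem_iUnion₂.mp hl
    rw [← Submodule.map_le_iff_le_comap]
    exact (hC k l hlk).trans ((part_le_iff N).mpr fun j hj =>
      le_part N (Set.mem_biUnion hk hj))
  let σ : ι → M →ₗ[R] M := fun i => π ∘ₗ projPart N hN (below i)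
  let L' : ι → Submodule R M := fun i => ((part N (C i)).map π).map (LinearMap.id - σ i)
  have hσmem : ∀ i x, σ i x ∈ (part N (below i)).map π := fun i x =>
    ⟨_, projPart_mem N hN _ x, rfl⟩
  have hσid : ∀ i, ∀ y ∈ (part N (below i)).map π, σ i y = y := by
    intro i y hy
    have h1 : projPart N hN (below i) y = y := projPart_of_mem N hN (hclosed _ hy)
    obtain ⟨x, -, rfl⟩ := hy
    simp only [σ, LinearMap.comp_apply, h1]
    exact hid _ (hπ x)
  have hbelow : ∀ {i j : ι}, i < j → (part N (upto i)).map π ≤ (part N (below j)).map π := by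
    intro i j hij
    refine Submodule.map_mono ((part_le_iff N).mpr fun l hl => le_part N ?_)
    obtain ⟨k, hk, hlk⟩ := Set.mem_iUnion₂.mp hl
    exact Set.mem_biUnion (show k < j from lt_of_le_of_lt hk hij) hlk
  have hbu : ∀ i, (part N (below i)).map π ≤ (part N (upto i)).map π := by
    intro i
    refine Submodule.map_mono ((part_le_iff N).mpr fun l hl => le_part N ?_)
    obtain ⟨k, hk, hlk⟩ := Set.mem_iUnion₂.mp hl
    exact Set.mem_biUnion (show k ≤ i from le_of_lt hk) hlk
  have hCu : ∀ i, (part N (C i)).map π ≤ (part N (upto i)).map π := fun i =>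
    Submodule.map_mono ((part_le_iff N).mpr fun l hl =>
      le_part N (Set.mem_biUnion (show i ≤ i from le_rfl) hl))
  have hL'u : ∀ i, L' i ≤ (part N (upto i)).map π := by
    rintro i _ ⟨y, hy, rfl⟩
    exact sub_mem (hCu i hy) (hbu i (hσmem i y))
  have hL'0 : ∀ i, ∀ y ∈ L' i, σ i y = 0 := by
    rintro i _ ⟨y, -, rfl⟩
    simp only [LinearMap.sub_apply, LinearMap.id_apply, map_sub]
    rw [hσid i (σ i y) (hσmem i y), sub_self]
  have hL'P : ∀ i, L' i ≤ P := fun i => (hL'u i).trans (by rintro _ ⟨x, -, rfl⟩; exact hπ x)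
  -- span
  have hsup : ∀ i, (part N (C i)).map π ≤ ⨆ k, L' k := by
    intro i
    refine hwf.induction (C := fun i => (part N (C i)).map π ≤ ⨆ k, L' k) i fun i ih y hy => ?_
    have hb : (part N (below i)).map π ≤ ⨆ k, L' k := by
      rw [Submodule.map_le_iff_le_comap, part_le_iff]
      intro l hl
      obtain ⟨k, hk, hlk⟩ := Set.mem_iUnion₂.mp hl
      exact (le_part N hlk).trans (Submodule.map_le_iff_le_comap.mp (ih k hk))
    have h1 : y - σ i y ∈ L' i := ⟨y, hy, rfl⟩
    simpa using add_mem (le_iSup L' i h1) (hb (hσmem i y))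
  have htop : P ≤ ⨆ k, L' k := by
    intro y hy
    rw [← hid y hy]
    have : ⊤ ≤ Submodule.comap π (⨆ k, L' k) := by
      rw [← hN.submodule_iSup_eq_top, iSup_le_iff]
      exact fun i => (le_part N (hiC i)).trans (Submodule.map_le_iff_le_comap.mp (hsup i))
    exact this Submodule.mem_top
  -- independence
  have hindep : ∀ d : ⨁ k, L' k, DirectSum.coeLinearMap L' d = 0 → d = 0 := by
    intro d hd
    by_contra hne
    have hs : d.support.Nonempty := Finset.nonempty_iff_ne_empty.mpr
      fun h => hne (DFinsupp.support_eq_empty.mp h)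
    obtain ⟨j, hj, hmax⟩ : ∃ j ∈ d.support, ∀ k ∈ d.support, k ≤ j :=
      ⟨d.support.max' hs, Finset.max'_mem _ hs, fun k hk => Finset.le_max' _ k hk⟩
    rw [← DirectSum.sum_support_of d, map_sum, ← Finset.add_sum_erase _ _ hj] at hd
    simp only [DirectSum.coeLinearMap_of] at hd
    have h1 : (∑ k ∈ d.support.erase j, (d k : M)) ∈ (part N (below j)).map π := by
      refine Submodule.sum_mem _ fun k hk => ?_
      have hlt : k < j := lt_of_le_of_ne (hmax k (Finset.mem_of_mem_erase hk)) (Finset.ne_of_mem_erase hk)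
      exact hbelow hlt (hL'u k (d k).2)
    have h2 : (d j : M) ∈ (part N (below j)).map π := by
      rw [add_eq_zero_iff_eq_neg.mp hd]; exact neg_mem h1
    have h3 : (d j : M) = 0 := by rw [← hσid j _ h2, hL'0 j _ (d j).2]
    exact DFinsupp.mem_support_iff.mp hj (Subtype.ext h3)
  refine ⟨fun i => (L' i).comap P.subtype, ⟨?_, ?_⟩, fun i => ?_⟩
  · rw [injective_iff_map_eq_zero]
    intro d hd
    let e : ∀ i, (L' i).comap P.subtype →ₗ[R] L' i := fun i =>
      { toFun := fun x => ⟨(x.1 : M), x.2⟩, map_add' := fun _ _ => rfl, map_smul' := fun _ _ => rfl }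
    have hcomm : DirectSum.coeLinearMap L' ∘ₗ DirectSum.lmap e =
        P.subtype ∘ₗ DirectSum.coeLinearMap fun i => (L' i).comap P.subtype := by
      refine DirectSum.linearMap_ext R fun i => LinearMap.ext fun x => ?_
      simp [DirectSum.lof_eq_of, e]
    have h0 := LinearMap.congr_fun hcomm d
    change DirectSum.coeLinearMap L' (DirectSum.lmap e d) = ((DirectSum.coeLinearMap _ d : P) : M) at h0
    have h1 : DirectSum.lmap e d = 0 := hindep _ (by
      rw [h0]
      exact congrArg Subtype.val hd)
    ext i
    have := congrArg (fun z : ⨁ k, L' k => ((z i : L' i) : M)) h1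
    simpa [e] using this
  · intro x
    have hx : (x : M) ∈ ⨆ k, L' k := htop x.2
    have h1 : (⨆ k, L' k) ≤
        (LinearMap.range (DirectSum.coeLinearMap fun i => (L' i).comap P.subtype)).map P.subtype := by
      refine iSup_le fun i y hy => ?_
      exact ⟨⟨y, hL'P i hy⟩, ⟨DirectSum.of _ i ⟨⟨y, hL'P i hy⟩, hy⟩, by simp⟩, rfl⟩
    obtain ⟨y, ⟨d, rfl⟩, hy⟩ := h1 hx
    exact ⟨d, Subtype.ext hy⟩
  · -- countable generation
    choose s hs hspan using hc
    let T : Set M := (LinearMap.id - σ i : M →ₗ[R] M) '' (π '' (⋃ k ∈ C i, Subtype.val '' s k))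
    have hTc : T.Countable :=
      ((hCc i).biUnion fun k _ => (hs k).image _).image _ |>.image _
    have hT : L' i = Submodule.span R T := by
      simp only [L', T, ← Submodule.map_span, Submodule.span_iUnion₂]
      congr 2
      refine biSup_congr fun k _ => ?_
      rw [← Submodule.coe_subtype (p := N k), ← Submodule.map_span, hspan k, Submodule.map_subtype_top]
    have hTP : T ⊆ L' i := hT ▸ Submodule.subset_span
    let T' : Set ((L' i).comap P.subtype) := {z | ((z : P) : M) ∈ T}
    refine ⟨T', hTc.preimage (f := fun z : (L' i).comap P.subtype => ((z : P) : M))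
      (fun a b h => Subtype.ext (Subtype.ext h)), ?_⟩
    let f : (L' i).comap P.subtype →ₗ[R] M := P.subtype ∘ₗ ((L' i).comap P.subtype).subtype
    have hf : Function.Injective f := fun a b h => Subtype.ext (Subtype.ext h)
    apply Submodule.map_injective_of_injective hf
    rw [Submodule.map_span, Submodule.map_top, show f '' T' = T from ?_, ← hT]
    · ext y
      exact ⟨fun hy => ⟨⟨⟨y, hL'P i hy⟩, hy⟩, rfl⟩, fun ⟨z, hz⟩ => hz ▸ z.2⟩
    · ext y
      exact ⟨fun ⟨z, hz, hzy⟩ => hzy ▸ hz, fun hy => ⟨⟨⟨y, hL'P i (hTP hy)⟩, hTP hy⟩, hy, rfl⟩⟩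

end Countable

section Local

open Finsupp

variable [IsLocalRing R]

/-- Every element of a projective module over a local ring lies in a finite free direct summand. -/
theorem exists_free_idempotent {Q : Type u} [AddCommGroup Q] [Module R Q] [Module.Projective R Q]
    (x : Q) : ∃ f : Q →ₗ[R] Q, f ∘ₗ f = f ∧ f x = x ∧ Module.Free R (LinearMap.range f) := by
  classical
  obtain ⟨s, hs⟩ := Module.projective_def'.mp ‹Module.Projective R Q›
  let p : (Q →₀ R) →ₗ[R] Q := Finsupp.linearCombination R id
  have hps : ∀ y, p (s y) = y := fun y => DFunLike.congr_fun hs y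
  have hex : ∃ n, ∃ b : Module.Basis Q R (Q →₀ R), (b.repr (s x)).support.card = n :=
    ⟨_, Finsupp.basisSingleOne, rfl⟩
  obtain ⟨b, hb⟩ := Nat.find_spec hex
  set a := b.repr (s x) with ha
  let S := a.support
  -- no coefficient is in the span of the others
  have hmin : ∀ j ∈ S, a j ∉ Ideal.span (a '' (S.erase j : Set Q)) := by
    intro j hj hmem
    obtain ⟨r, hr⟩ := (Submodule.mem_span_image_finset_iff_exists_fun' R).mp
      (show a j ∈ Submodule.span R (a '' ((S.erase j : Finset Q) : Set Q)) from hmem)
    let φ : (Q →₀ R) →ₗ[R] R := ∑ k ∈ (S.erase j).attach, r k • b.coord k.1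
    have hφj : φ (b j) = 0 := by
      simp only [φ, LinearMap.sum_apply, LinearMap.smul_apply, Module.Basis.coord_apply,
        Module.Basis.repr_self]
      refine Finset.sum_eq_zero fun k _ => ?_
      rw [Finsupp.single_eq_of_ne (Finset.ne_of_mem_erase k.2), smul_zero]
    let e : (Q →₀ R) ≃ₗ[R] (Q →₀ R) := LinearEquiv.ofLinearMap
      (LinearMap.id + (LinearMap.toSpanSingleton R _ (b j)) ∘ₗ φ)
      (LinearMap.id - (LinearMap.toSpanSingleton R _ (b j)) ∘ₗ φ)
      (by apply LinearMap.ext; intro v; simp [hφj])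
      (by apply LinearMap.ext; intro v; simp [hφj])
    have hφx : φ (s x) = a j := by
      simp only [φ, LinearMap.sum_apply, LinearMap.smul_apply, Module.Basis.coord_apply, ← ha]
      rw [← hr]
      exact Finset.sum_attach (S.erase j) fun i => r i * a i
    have hrepr : ∀ k, (b.map e).repr (s x) k = if k = j then 0 else a k := by
      intro k
      rw [Module.Basis.map_repr, LinearEquiv.trans_apply]
      have : e.symm (s x) = s x - φ (s x) • b j := rfl
      rw [this, map_sub, map_smul, Module.Basis.repr_self, hφx, ← ha]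
      simp only [Finsupp.coe_sub, Pi.sub_apply, Finsupp.smul_apply, Finsupp.single_apply, smul_eq_mul]
      by_cases hk : k = j
      · simp [hk]
      · simp [hk, Ne.symm hk]
    have hlt : ((b.map e).repr (s x)).support.card < Nat.find hex := by
      refine lt_of_le_of_lt (Finset.card_le_card (t := S.erase j) fun k hk => ?_)
        ((Finset.card_erase_lt_of_mem hj).trans_eq hb)
      rw [Finsupp.mem_support_iff, hrepr] at hk
      by_cases h : k = j
      · simp [h] at hk
      · simp only [h, if_false] at hk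
        exact Finset.mem_erase.mpr ⟨h, Finsupp.mem_support_iff.mpr hk⟩
    exact Nat.find_min hex hlt ⟨_, rfl⟩
  let α : (S → R) →ₗ[R] Q := Fintype.linearCombination R fun k => p (b k.1)
  let β : Q →ₗ[R] (S → R) := LinearMap.pi fun j => b.coord j.1 ∘ₗ s
  let c : Matrix S S R := Matrix.of fun j k => b.repr (s (p (b k.1))) j.1
  have hβα : ∀ v, β (α v) = c.mulVec v := by
    intro v
    ext j
    simp [α, β, c, Fintype.linearCombination_apply, Matrix.mulVec, dotProduct, mul_comm]
  have hαa : α (fun k => a k.1) = x := by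
    have h1 : ∑ k ∈ S, a k • b k = s x := by
      conv_rhs => rw [← b.linearCombination_repr (s x), Finsupp.linearCombination_apply]
      rfl
    conv_rhs => rw [← hps x, ← h1]
    simp only [α, Fintype.linearCombination_apply, map_sum, map_smul]
    exact Finset.sum_coe_sort S fun k => a k • p (b k)
  have hca : ∀ j : S, ∑ k : S, c j k * a k.1 = a j.1 := by
    intro j
    have := congrFun (hβα fun k => a k.1) j
    rw [hαa] at this
    exact this.symm
  have hmem : ∀ j k : S, c j k - (1 : Matrix S S R) j k ∈ IsLocalRing.maximalIdeal R := by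
    intro j k
    by_contra hu
    obtain ⟨u, hu⟩ : IsUnit (c j k - (1 : Matrix S S R) j k) := by simpa using hu
    apply hmin k.1 k.2
    have h0 : ∑ l : S, (c j l - (1 : Matrix S S R) j l) * a l.1 = 0 := by
      simp only [sub_mul, Finset.sum_sub_distrib, hca, Matrix.one_apply, ite_mul, one_mul, zero_mul,
        Finset.sum_ite_eq, Finset.mem_univ, if_true, sub_self]
    rw [← Finset.add_sum_erase _ _ (Finset.mem_univ k), ← hu, add_eq_zero_iff_eq_neg] at h0
    rw [show a k.1 = ↑u⁻¹ * (↑u * a k.1) by rw [Units.inv_mul_cancel_left], h0]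
    refine Ideal.mul_mem_left _ _ (neg_mem (Submodule.sum_mem _ fun l hl => Ideal.mul_mem_left _ _ ?_))
    exact Ideal.subset_span ⟨l.1, Finset.mem_coe.mpr (Finset.mem_erase.mpr
      ⟨fun e => Finset.ne_of_mem_erase hl (Subtype.ext e), l.2⟩), rfl⟩
  have hdet : IsUnit c.det := by
    by_contra h
    have h0 : IsLocalRing.residue R c.det = 0 := (IsLocalRing.residue_eq_zero_iff _).mpr h
    have hc1 : (IsLocalRing.residue R).mapMatrix c = 1 := by
      ext j k
      have := (IsLocalRing.residue_eq_zero_iff _).mpr (hmem j k)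
      rw [map_sub, sub_eq_zero] at this
      rw [RingHom.mapMatrix_apply, Matrix.map_apply, this]
      by_cases hjk : j = k <;> simp [hjk, Matrix.one_apply]
    rw [RingHom.map_det, hc1, Matrix.det_one] at h0
    exact one_ne_zero h0
  have hci : ∀ v, c⁻¹.mulVec (c.mulVec v) = v := fun v => by
    rw [Matrix.mulVec_mulVec, Matrix.nonsing_inv_mul c hdet, Matrix.one_mulVec]
  let f : Q →ₗ[R] Q := α ∘ₗ c⁻¹.mulVecLin ∘ₗ β
  have hfα : ∀ v, f (α v) = α v := by
    intro v
    simp only [f, LinearMap.comp_apply, Matrix.mulVecLin_apply, hβα, hci]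
  refine ⟨f, ?_, ?_, ?_⟩
  · exact LinearMap.ext fun y => hfα _
  · rw [← hαa]; exact hfα _
  · have hr : LinearMap.range f = LinearMap.range α := by
      refine le_antisymm (LinearMap.range_comp_le_range _ _) ?_
      rintro _ ⟨v, rfl⟩
      exact ⟨α v, hfα v⟩
    have hα : Function.Injective α := fun v w h => by
      rw [← hci v, ← hci w, ← hβα, ← hβα, h]
    rw [hr]
    exact Module.Free.of_equiv (LinearEquiv.ofInjective α hα)

/-- Countably generated projective modules over a local ring are free. -/
theorem free_of_countablyGenerated {P : Type u} [AddCommGroup P] [Module R P]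
    [Module.Projective R P] (hc : CAlg.IsCountablyGenerated R P) : Module.Free R P := by
  classical
  obtain ⟨S, hS, hspan⟩ := hc
  obtain ⟨g, hg⟩ : ∃ g : ℕ → P, insert 0 S = Set.range g :=
    (hS.insert 0).exists_eq_range (Set.insert_nonempty _ _)
  have step : ∀ (ρ : {ρ : P →ₗ[R] P // ρ ∘ₗ ρ = ρ}) (x : P), ∃ f : P →ₗ[R] P,
      f ∘ₗ f = f ∧ ρ.1 ∘ₗ f = f ∧ f ∘ₗ ρ.1 = f ∧ f x = ρ.1 x ∧ Module.Free R (LinearMap.range f) := by
    rintro ⟨ρ, hρ⟩ x
    have hρ' : ∀ y, ρ (ρ y) = ρ y := fun y => LinearMap.congr_fun hρ y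
    let q : P →ₗ[R] LinearMap.range ρ := ρ.rangeRestrict
    have hq : q ∘ₗ (LinearMap.range ρ).subtype = LinearMap.id := by
      apply LinearMap.ext
      rintro ⟨y, z, rfl⟩
      exact Subtype.ext (hρ' z)
    have : Module.Projective R (LinearMap.range ρ) := by
      exact Module.Projective.of_split (LinearMap.range ρ).subtype q hq
    obtain ⟨f, hf, hfx, hfree⟩ := exists_free_idempotent (R := R) (q x)
    refine ⟨(LinearMap.range ρ).subtype ∘ₗ f ∘ₗ q, ?_, ?_, ?_, ?_, ?_⟩
    · apply LinearMap.ext
      intro y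
      have := LinearMap.congr_fun hq (f (q y))
      simp only [LinearMap.comp_apply] at this ⊢
      rw [this]
      exact congrArg Subtype.val (LinearMap.congr_fun hf (q y))
    · apply LinearMap.ext
      intro y
      obtain ⟨z, hz⟩ := (f (q y)).2
      simp only [LinearMap.comp_apply, Submodule.subtype_apply]
      rw [← hz, hρ']
    · apply LinearMap.ext
      intro y
      simp only [LinearMap.comp_apply]
      rw [show q (ρ y) = q y from Subtype.ext (hρ' y)]
    · simp only [LinearMap.comp_apply, hfx]
      rfl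
    · have e : LinearMap.range ((LinearMap.range ρ).subtype ∘ₗ f ∘ₗ q)
          = (LinearMap.range f).map (LinearMap.range ρ).subtype := by
        rw [LinearMap.range_comp, LinearMap.range_comp_of_range_eq_top _ ρ.range_rangeRestrict]
      rw [e]
      exact Module.Free.of_equiv
        (Submodule.equivMapOfInjective _ (Submodule.injective_subtype _) _)
  choose F hF1 hF2 hF3 hF4 hF5 using step
  have hsub : ∀ (ρ : {ρ : P →ₗ[R] P // ρ ∘ₗ ρ = ρ}) (x : P),
      (ρ.1 - F ρ x) ∘ₗ (ρ.1 - F ρ x) = ρ.1 - F ρ x := by
    intro ρ x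
    rw [LinearMap.sub_comp, LinearMap.comp_sub, LinearMap.comp_sub, ρ.2, hF1, hF2, hF3]
    abel
  let ρ : ℕ → {ρ : P →ₗ[R] P // ρ ∘ₗ ρ = ρ} :=
    Nat.rec ⟨LinearMap.id, LinearMap.id_comp _⟩ fun n ρ => ⟨ρ.1 - F ρ (g n), hsub ρ (g n)⟩
  let f : ℕ → P →ₗ[R] P := fun n => F (ρ n) (g n)
  have hsucc : ∀ n, (ρ (n + 1)).1 = (ρ n).1 - f n := fun n => rfl
  have hsum : ∀ n y, y = (∑ k ∈ Finset.range n, f k y) + (ρ n).1 y := by
    intro n y
    induction n with
    | zero => rw [Finset.range_zero, Finset.sum_empty, zero_add]; rfl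
    | succ n ih =>
      rw [Finset.sum_range_succ, hsucc, LinearMap.sub_apply]
      conv_lhs => rw [ih]
      abel
  -- later projections ignore earlier summands
  have hρle : ∀ n m, n ≤ m → ∀ y, (ρ m).1 ((ρ n).1 y) = (ρ m).1 y := by
    intro n m hnm
    induction hnm with
    | refl => exact fun y => LinearMap.congr_fun (ρ n).2 y
    | @step m _ ih =>
      intro y
      rw [hsucc, LinearMap.sub_apply, LinearMap.sub_apply, ih]
      congr 1
      rw [show f m ((ρ n).1 y) = f m ((ρ m).1 ((ρ n).1 y)) from
        (LinearMap.congr_fun (hF3 (ρ m) (g m)) _).symm, ih]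
      exact LinearMap.congr_fun (hF3 (ρ m) (g m)) y
  have hρf : ∀ n m, n < m → ∀ y, (ρ m).1 (f n y) = 0 := by
    intro n m hnm y
    rw [← hρle (n + 1) m hnm, hsucc, LinearMap.sub_apply]
    rw [show (ρ n).1 (f n y) = f n y from LinearMap.congr_fun (hF2 (ρ n) (g n)) y,
      show f n (f n y) = f n y from LinearMap.congr_fun (hF1 (ρ n) (g n)) y, sub_self, map_zero]
  have hρ_le' : ∀ n m, n ≤ m → ∀ y, (ρ n).1 ((ρ m).1 y) = (ρ m).1 y := by
    intro n m hnm
    induction hnm with
    | refl => exact fun y => LinearMap.congr_fun (ρ n).2 y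
    | @step m _ ih =>
      intro y
      rw [hsucc, LinearMap.sub_apply, map_sub, ih]
      congr 1
      rw [show f m y = (ρ m).1 (f m y) from (LinearMap.congr_fun (hF2 (ρ m) (g m)) y).symm, ih]
  have hff : ∀ n m, n ≠ m → ∀ y, f m (f n y) = 0 := by
    intro n m hnm y
    rcases lt_or_gt_of_ne hnm with h | h
    · rw [show f m (f n y) = f m ((ρ m).1 (f n y)) from
        (LinearMap.congr_fun (hF3 (ρ m) (g m)) _).symm, hρf n m h, map_zero]
    · have e : f n y = (ρ n).1 (f n y) := (LinearMap.congr_fun (hF2 (ρ n) (g n)) y).symm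
      rw [e, ← hρ_le' (m + 1) n h, hsucc, LinearMap.sub_apply, map_sub,
        show f m ((ρ m).1 _) = f m _ from LinearMap.congr_fun (hF3 (ρ m) (g m)) _,
        show f m (f m _) = f m _ from LinearMap.congr_fun (hF1 (ρ m) (g m)) _, sub_self]
  have hint : DirectSum.IsInternal fun n => LinearMap.range (f n) := by
    refine ⟨?_, ?_⟩
    · rw [injective_iff_map_eq_zero]
      intro d hd
      have hd' : DirectSum.coeLinearMap (fun n => LinearMap.range (f n)) d = 0 := hd
      refine DFinsupp.ext fun n => ?_
      obtain ⟨y, hy⟩ := (d n).2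
      have h0 := congrArg (f n) hd'
      rw [← DirectSum.sum_support_of d, map_sum, map_sum, map_zero] at h0
      simp only [DirectSum.coeLinearMap_of] at h0
      rw [Finset.sum_eq_single n] at h0
      · refine Subtype.ext ?_
        rw [← hy] at h0 ⊢
        rw [← LinearMap.congr_fun (hF1 (ρ n) (g n)) y]
        exact h0
      · intro k _ hk
        obtain ⟨z, hz⟩ := (d k).2
        rw [← hz]
        exact hff k n hk z
      · intro hn
        rw [DFinsupp.notMem_support_iff.mp hn]
        simp
    · have hle : (⊤ : Submodule R P) ≤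
          LinearMap.range (DirectSum.coeLinearMap fun n => LinearMap.range (f n)) := by
        rw [← hspan, Submodule.span_le]
        intro y hy
        obtain ⟨n, rfl⟩ : y ∈ Set.range g := hg ▸ Set.mem_insert_of_mem 0 hy
        rw [SetLike.mem_coe]
        have hz : (ρ (n + 1)).1 (g n) = 0 := by
          rw [hsucc, LinearMap.sub_apply, show f n (g n) = (ρ n).1 (g n) from hF4 _ _, sub_self]
        rw [hsum (n + 1) (g n), hz, add_zero]
        exact Submodule.sum_mem _ fun k _ =>
          ⟨DirectSum.of _ k ⟨f k (g n), ⟨g n, rfl⟩⟩, by simp⟩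
      exact fun y => hle Submodule.mem_top
  exact Module.Free.of_basis (hint.collectedBasis fun n =>
    letI := hF5 (ρ n) (g n); Module.Free.chooseBasis R (LinearMap.range (f n)))

/-- Kaplansky: projective modules over local rings are free. -/
theorem free_of_projective (P : Type u) [AddCommGroup P] [Module R P] [Module.Projective R P] :
    Module.Free R P := by
  classical
  obtain ⟨s, hs⟩ := Module.projective_def'.mp ‹Module.Projective R P›
  let p : (P →₀ R) →ₗ[R] P := Finsupp.linearCombination R id
  have hps : ∀ y, p (s y) = y := fun y => DFunLike.congr_fun hs y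
  let N : P → Submodule R (P →₀ R) := fun i => LinearMap.range (Finsupp.lsingle i)
  have hN : DirectSum.IsInternal N := by
    refine DirectSum.isInternal_submodule_of_iSupIndep_of_iSup_eq_top ?_ ?_
    · have := Finsupp.disjoint_lsingle_lsingle (R := R) (M := R) (α := P)
      rw [iSupIndep_def]
      intro i
      have h := this {i} {j | j ≠ i} (Set.disjoint_singleton_left.mpr (by simp))
      simpa [N] using h
    · simpa [N] using Finsupp.iSup_lsingle_range (R := R) (M := R) (α := P)
  have hc : ∀ i, CAlg.IsCountablyGenerated R (N i) := fun i =>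
    ⟨{⟨Finsupp.single i 1, 1, rfl⟩}, Set.countable_singleton _, by
      rw [eq_top_iff]
      rintro ⟨_, r, rfl⟩ -
      exact Submodule.mem_span_singleton.mpr ⟨r, Subtype.ext (by simp)⟩⟩
  obtain ⟨L, hL, hLc⟩ := exists_internal_countable N hN hc (LinearMap.range s) (s ∘ₗ p)
    (fun x => ⟨p x, rfl⟩) (by rintro _ ⟨y, rfl⟩; simp [hps])
  let e : P ≃ₗ[R] LinearMap.range s :=
    LinearEquiv.ofInjective s (Function.LeftInverse.injective hps)
  have hproj : Module.Projective R (LinearMap.range s) := Module.Projective.of_equiv e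
  letI : ∀ i, AddCommGroup (L i) := fun i => Module.addCommMonoidToAddCommGroup R
  have : ∀ i, Module.Free R (L i) := fun i => by
    have : Module.Projective R (L i) := by
      refine Module.Projective.of_split (L i).subtype
        ((DirectSum.component R P (fun i => L i) i) ∘ₗ
          (LinearEquiv.ofBijective (DirectSum.coeLinearMap L) hL).symm.toLinearMap) ?_
      refine LinearMap.ext fun x => ?_
      exact DirectSum.IsInternal.ofBijective_coeLinearMap_same hL x
    exact free_of_countablyGenerated (hLc i)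
  have := Module.Free.of_basis (hL.collectedBasis fun i => Module.Free.chooseBasis R (L i))
  exact Module.Free.of_equiv e.symm

end Local

end Groth.Agent.Kap
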