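/-
ML base change
-/
import Mathlib
import Groth.Prelude.Def_Found
import Groth.Prelude.Def_CAlgX
import Groth.Agent.Lib.MittagLeffler

open TensorProduct Groth.Agent.MittagLeffler

universe u

namespace Groth.Agent.MittagLefflerBaseChange


theorem ml_restrict {R S : Type u} [CommRing R] [CommRing S] [Algebra R S]
    {M : Type u} [AddCommGroup M] [Module S M] [Module R M] [IsScalarTower R S M]
    (hM : CAlg.IsMittagLeffler S M)
    (hψ : ∀ (ι : Type u) (Q : ι → Type u) [∀ i, AddCommGroup (Q i)] [∀ i, Module R (Q i)],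
      Function.Injective ((piRightHom R S S Q).lTensor M)) : CAlg.IsMittagLeffler R M := by
  refine of_zero fun ι Q _ _ z hz => ?_
  let c := AlgebraTensorModule.cancelBaseChange R S S M (∀ i, Q i)
  have hnat : ∀ (z' : M ⊗[S] (S ⊗[R] (∀ i, Q i))) (i : ι),
      piRightHom S S M (fun i => S ⊗[R] Q i) ((piRightHom R S S Q).lTensor M z') i =
        (AlgebraTensorModule.cancelBaseChange R S S M (Q i)).symm (piRightHom R R M Q (c z') i) := by
    intro z' i
    induction z' with
    | zero => simp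
    | tmul m y =>
      induction y with
      | zero => simp
      | tmul a f =>
        show m ⊗ₜ[S] (a ⊗ₜ[R] f i) = (AlgebraTensorModule.cancelBaseChange R S S M (Q i)).symm ((a • m) ⊗ₜ[R] f i)
        rw [AlgebraTensorModule.cancelBaseChange_symm_tmul, TensorProduct.smul_tmul, TensorProduct.smul_tmul',
          smul_eq_mul, mul_one]
      | add a b ha hb => simp only [tmul_add, map_add, Pi.add_apply, ha, hb]
    | add a b ha hb => simp only [map_add, Pi.add_apply, ha, hb]
  have h0 : (piRightHom R S S Q).lTensor M (c.symm z) = 0 := zero_of hM fun i => by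
    rw [hnat, LinearEquiv.apply_symm_apply, hz, map_zero]
  simpa using congrArg c (hψ ι Q (h0.trans (map_zero _).symm))

theorem ml_restrict_fp {R S : Type u} [CommRing R] [CommRing S] [Algebra R S] [Module.FinitePresentation R S]
    {M : Type u} [AddCommGroup M] [Module S M] [Module R M] [IsScalarTower R S M]
    (hM : CAlg.IsMittagLeffler S M) : CAlg.IsMittagLeffler R M := by
  refine ml_restrict hM fun ι Q _ _ => ?_
  have hb : Function.Bijective (piRightHom R S S Q) := ⟨ml_fp (R := R) S ι Q, surj_of_finite (R := R) S Q⟩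
  exact ((LinearEquiv.ofBijective (piRightHom R S S Q) hb).lTensor M).injective

theorem bc_kill {R S : Type u} [CommRing R] [CommRing S] [Algebra R S] {P M : Type u} [AddCommGroup P] [Module R P]
    [Module.FinitePresentation R P] [AddCommGroup M] [Module R M] (p : P →ₗ[R] M) {t : ℕ} (w : Fin t → S ⊗[R] P)
    (hw : ∀ l, p.baseChange S (w l) = 0) :
    ∃ (Q : Type u) (_ : AddCommGroup Q) (_ : Module R Q) (_ : Module.FinitePresentation R Q)
      (g : P →ₗ[R] Q) (h : Q →ₗ[R] M), h ∘ₗ g = p ∧ ∀ l, g.baseChange S (w l) = 0 := by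
  have hc : ∀ {N : Type u} [AddCommGroup N] [Module R N] (φ : P →ₗ[R] N) (y : S ⊗[R] P),
      φ.rTensor S (TensorProduct.comm R S P y) = TensorProduct.comm R S N (φ.baseChange S y) := by
    intro N _ _ φ y
    induction y with
    | zero => simp
    | tmul a b => simp
    | add a b ha hb => simp only [map_add, ha, hb]
  obtain ⟨Q, i1, i2, i3, g, h, hgh, hg⟩ := exists_fp_kill p (fun l => TensorProduct.comm R S P (w l))
    (fun l => by rw [hc, hw, map_zero])
  exact ⟨Q, i1, i2, i3, g, h, hgh, fun l => by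
    apply (TensorProduct.comm R S Q).injective
    rw [← hc, hg, map_zero]⟩

theorem baseChange_comp_apply {R S : Type u} [CommRing R] [CommRing S] [Algebra R S] {A B C : Type u}
    [AddCommGroup A] [Module R A] [AddCommGroup B] [Module R B] [AddCommGroup C] [Module R C]
    (g : B →ₗ[R] C) (f : A →ₗ[R] B) (y : S ⊗[R] A) :
    (g ∘ₗ f).baseChange S y = g.baseChange S (f.baseChange S y) := by
  rw [LinearMap.baseChange_comp, LinearMap.comp_apply]

theorem descend_dom {R S : Type u} [CommRing R] [CommRing S] [Algebra R S] {M : Type u} [AddCommGroup M] [Module R M]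
    {n : ℕ} (f : (Fin n → R) →ₗ[R] M) {Q' : Type u} [AddCommGroup Q'] [Module S Q'] [Module.FinitePresentation S Q']
    (g' : (S ⊗[R] (Fin n → R)) →ₗ[S] Q') (h' : Q' →ₗ[S] (S ⊗[R] M)) (hgh : h' ∘ₗ g' = f.baseChange S) :
    ∃ (Q : Type u) (_ : AddCommGroup Q) (_ : Module R Q) (_ : Module.FinitePresentation R Q)
      (g : (Fin n → R) →ₗ[R] Q) (h : Q →ₗ[R] M) (h'' : Q' →ₗ[S] (S ⊗[R] Q)),
      h ∘ₗ g = f ∧ h'' ∘ₗ g' = g.baseChange S := by
  classical
  obtain ⟨r, K, e, hK⟩ := Module.FinitePresentation.exists_fin S Q'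
  let z : Fin r → S ⊗[R] M := fun k => h' (e.symm (K.mkQ (Pi.single k 1)))
  obtain ⟨N1, hN1fin, hN1⟩ := TensorProduct.exists_finite_submodule_right_of_setFinite (Set.range z) (Set.finite_range z)
  choose w1 hw1 using fun k => hN1 (Set.mem_range_self k)
  let N0 := N1 ⊔ LinearMap.range f
  haveI : Module.Finite R N0 := Module.Finite.iff_fg.mpr ((Module.Finite.iff_fg.mp hN1fin).sup (Module.Finite.iff_fg.mp (Module.Finite.range f)))
  obtain ⟨a, q, hq⟩ := Module.Finite.exists_fin' R N0
  let p : (Fin a → R) →ₗ[R] M := N0.subtype ∘ₗ q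
  obtain ⟨f0, hf0⟩ := Module.projective_lifting_property q (f.codRestrict N0 fun x => Submodule.mem_sup_right ⟨x, rfl⟩) hq
  have hpf : p ∘ₗ f0 = f := by rw [LinearMap.comp_assoc, hf0]; rfl
  have hz : ∀ k, ∃ w : S ⊗[R] (Fin a → R), p.baseChange S w = z k := by
    intro k
    obtain ⟨w, hw⟩ := LinearMap.lTensor_surjective S hq ((Submodule.inclusion (le_sup_left : N1 ≤ N0)).lTensor S (w1 k))
    refine ⟨w, ?_⟩
    rw [baseChange_comp_apply, LinearMap.baseChange_eq_ltensor, LinearMap.baseChange_eq_ltensor, hw, ← hw1 k,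
      ← LinearMap.comp_apply, ← LinearMap.lTensor_comp]
    rfl
  choose w hw using hz
  let L : (Fin r → S) →ₗ[S] S ⊗[R] (Fin a → R) := Fintype.linearCombination S w
  have hL : p.baseChange S ∘ₗ L = h' ∘ₗ e.symm.toLinearMap ∘ₗ K.mkQ := (Pi.basisFun S (Fin r)).ext fun k => by
    simp [L, Fintype.linearCombination_apply, Pi.single_apply, ite_smul, hw, z]
  obtain ⟨t, gen, hgen⟩ := Submodule.fg_iff_exists_fin_generating_family.mp hK
  haveI := Module.finitePresentation_of_projective R (Fin a → R)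
  obtain ⟨Q0, _, _, _, g0, h0, hgh0, hg0⟩ := bc_kill p (fun l => L (gen l)) (fun l => by
    rw [← LinearMap.comp_apply, hL]
    simp [(Submodule.Quotient.mk_eq_zero K).mpr (hgen ▸ Submodule.subset_span (Set.mem_range_self l) : gen l ∈ K)])
  have hker : K ≤ LinearMap.ker (g0.baseChange S ∘ₗ L) := by
    rw [← hgen, Submodule.span_le]
    rintro _ ⟨l, rfl⟩
    exact hg0 l
  let h0'' : Q' →ₗ[S] S ⊗[R] Q0 := K.liftQ _ hker ∘ₗ e.toLinearMap
  have hh0 : h0.baseChange S ∘ₗ h0'' = h' := by
    refine LinearMap.ext fun x => ?_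
    obtain ⟨y, hy⟩ := K.mkQ_surjective (e x)
    simp only [h0'', LinearMap.comp_apply, LinearEquiv.coe_coe, ← hy, Submodule.mkQ_apply, Submodule.liftQ_apply]
    rw [← baseChange_comp_apply, hgh0, ← LinearMap.comp_apply, hL]
    simp [← Submodule.mkQ_apply, hy]
  let d : Fin n → S ⊗[R] Q0 := fun j =>
    (g0 ∘ₗ f0).baseChange S ((1 : S) ⊗ₜ Pi.single j 1) - h0'' (g' ((1 : S) ⊗ₜ Pi.single j 1))
  obtain ⟨Q1, i1, i2, i3, g1, h1, hgh1, hg1⟩ := bc_kill h0 d (fun j => by
    rw [map_sub, ← baseChange_comp_apply, ← LinearMap.comp_assoc, hgh0, hpf, ← LinearMap.comp_apply _ h0'', hh0,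
      ← LinearMap.comp_apply h' g', hgh, sub_self])
  refine ⟨Q1, i1, i2, i3, g1 ∘ₗ g0 ∘ₗ f0, h1, g1.baseChange S ∘ₗ h0'', ?_, ?_⟩
  · rw [← LinearMap.comp_assoc, ← LinearMap.comp_assoc, hgh1, hgh0, hpf]
  · refine ((Pi.basisFun R (Fin n)).baseChange S).ext fun j => ?_
    have := hg1 j
    rw [map_sub, sub_eq_zero, ← baseChange_comp_apply] at this
    simp only [Module.Basis.baseChange_apply, Pi.basisFun_apply]
    exact this.symm

end Groth.Agent.MittagLefflerBaseChange
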