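/-
countably generated ML modules, flat ML = projective, colimit criteria
-/
import Mathlib
import Groth.Prelude.Def_Found
import Groth.Prelude.Def_CAlgX
import Groth.Agent.Lib.MittagLeffler
import Groth.Agent.Lib.UnivInjective
import Groth.Agent.Lib.KaplanskyProjective

open TensorProduct Groth.Agent.MittagLeffler
open scoped Classical

universe u

namespace Groth.Agent.MittagLefflerProjective


theorem factor_of_dom {R : Type u} [CommRing R] {P M' Q : Type u} [AddCommGroup P] [Module R P] [Module.Finite R P]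
    [AddCommGroup M'] [Module R M'] [Module.FinitePresentation R M'] [AddCommGroup Q] [Module R Q]
    (f : P →ₗ[R] M') (g : P →ₗ[R] Q)
    (h : ∀ (N : Type u) [AddCommGroup N] [Module R N], LinearMap.ker (f.rTensor N) ≤ LinearMap.ker (g.rTensor N)) :
    ∃ φ : M' →ₗ[R] Q, φ ∘ₗ f = g := by
  let D : Submodule R (Q × M') := LinearMap.range (g.prod (-f))
  let i : Q →ₗ[R] (Q × M') ⧸ D := D.mkQ ∘ₗ LinearMap.inl R Q M'
  let j : M' →ₗ[R] (Q × M') ⧸ D := D.mkQ ∘ₗ LinearMap.inr R Q M'
  have hj : ∀ p, j (f p) = i (g p) := by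
    intro p
    refine (Submodule.Quotient.eq D).mpr ⟨-p, ?_⟩
    simp
  let C := M' ⧸ LinearMap.range f
  let π : (Q × M') ⧸ D →ₗ[R] C := D.liftQ ((LinearMap.range f).mkQ ∘ₗ LinearMap.snd R Q M') (by
    rintro _ ⟨p, rfl⟩
    exact (Submodule.Quotient.mk_eq_zero _).mpr ⟨-p, by simp⟩)
  have hπ : Function.Surjective π := by
    intro c
    obtain ⟨x, rfl⟩ := Submodule.mkQ_surjective _ c
    exact ⟨j x, rfl⟩
  have hex : Function.Exact i π := by
    intro y
    constructor
    · intro hy
      obtain ⟨⟨a, b⟩, rfl⟩ := Submodule.mkQ_surjective _ y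
      obtain ⟨p, hp⟩ := (Submodule.Quotient.mk_eq_zero _).mp hy
      refine ⟨a + g p, (Submodule.Quotient.eq D).mpr ⟨p, ?_⟩⟩
      refine Prod.ext ?_ ?_
      · simp
      · simpa using hp
    · rintro ⟨a, rfl⟩
      exact (Submodule.Quotient.mk_eq_zero _).mpr (by simp)
  have hui : CAlgX.UniversallyInjective R i := by
    intro N _ _
    rw [← LinearMap.ker_eq_bot, LinearMap.ker_eq_bot']
    intro z hz
    rw [LinearMap.rTensor_comp, LinearMap.comp_apply] at hz
    have hexact : Function.Exact (g.prod (-f)) D.mkQ := LinearMap.exact_iff.mpr (Submodule.ker_mkQ D)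
    obtain ⟨w, hw⟩ := (rTensor_exact N hexact D.mkQ_surjective _).mp hz
    have h2 := congrArg ((LinearMap.snd R Q M').rTensor N) hw
    have h1 := congrArg ((LinearMap.fst R Q M').rTensor N) hw
    simp only [← LinearMap.comp_apply, ← LinearMap.rTensor_comp, LinearMap.fst_prod, LinearMap.snd_prod,
      LinearMap.fst_comp_inl, LinearMap.snd_comp_inl, LinearMap.rTensor_id, LinearMap.rTensor_zero,
      LinearMap.id_apply, LinearMap.zero_apply, LinearMap.rTensor_neg, LinearMap.neg_apply, neg_eq_zero] at h1 h2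
    rw [← h1]
    exact h N h2
  haveI : Module.FinitePresentation R C := Module.finitePresentation_of_surjective (LinearMap.range f).mkQ
    (Submodule.mkQ_surjective _) (by rw [Submodule.ker_mkQ]; exact Module.Finite.iff_fg.mp (Module.Finite.range f))
  obtain ⟨s, hs⟩ := Groth.Agent.UI.exists_section i π hex hπ hui
  have hinj : Function.Injective i := by
    intro a b hab
    have h1 := hui R (a₁ := a ⊗ₜ 1) (a₂ := b ⊗ₜ 1) (by simp [hab])
    simpa using congrArg (TensorProduct.rid R Q) h1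
  have hmem : ∀ y, (LinearMap.id - s ∘ₗ π : _ →ₗ[R] _) y ∈ LinearMap.range i := fun y =>
    (hex _).mp (by
      rw [LinearMap.sub_apply, LinearMap.id_apply, map_sub, LinearMap.comp_apply, ← LinearMap.comp_apply π s, hs, LinearMap.id_apply, sub_self])
  let r : (Q × M') ⧸ D →ₗ[R] Q := (LinearEquiv.ofInjective i hinj).symm.toLinearMap ∘ₗ
    LinearMap.codRestrict (LinearMap.range i) (LinearMap.id - s ∘ₗ π) hmem
  have hr : ∀ a, r (i a) = a := by
    intro a
    apply (LinearEquiv.ofInjective i hinj).injective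
    simp only [r, LinearMap.comp_apply, LinearEquiv.coe_coe, LinearEquiv.apply_symm_apply]
    refine Subtype.ext ?_
    simp [hex.apply_apply_eq_zero a]
  exact ⟨r ∘ₗ j, LinearMap.ext fun p => by rw [LinearMap.comp_apply, LinearMap.comp_apply, hj, hr]⟩

/-- a stage -/
structure Stage (R : Type u) [CommRing R] (M : Type u) [AddCommGroup M] [Module R M] where
  Q : ModuleCat.{u} R
  fp : Module.FinitePresentation R Q
  h : Q →ₗ[R] M

theorem next_stage {R : Type u} [CommRing R] {M : Type u} [AddCommGroup M] [Module R M]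
    (hM : CAlg.IsMittagLeffler R M) (S : Stage R M) (x : M) :
    ∃ (S' : Stage R M) (t : S.Q →ₗ[R] S'.Q), S'.h ∘ₗ t = S.h ∧ x ∈ LinearMap.range S'.h ∧
      ∀ (N : Type u) [AddCommGroup N] [Module R N], LinearMap.ker (S.h.rTensor N) ≤ LinearMap.ker (t.rTensor N) := by
  haveI := S.fp
  obtain ⟨Q', _, _, hfp, g, h, hgh, hdom⟩ := exists_dom hM (P := S.Q × R) (S.h.coprod (LinearMap.toSpanSingleton R M x))
  refine ⟨⟨ModuleCat.of R Q', hfp, h⟩, g ∘ₗ LinearMap.inl R S.Q R, ?_, ⟨g (0, 1), ?_⟩, fun N _ _ z hz => ?_⟩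
  · show h ∘ₗ (g ∘ₗ _) = _
    rw [← LinearMap.comp_assoc, hgh, LinearMap.coprod_inl]
  · show h (g (0, 1)) = x
    rw [← LinearMap.comp_apply, hgh]
    simp
  · have h1 : (LinearMap.inl R S.Q R).rTensor N z ∈ LinearMap.ker ((S.h.coprod (LinearMap.toSpanSingleton R M x)).rTensor N) := by
      rw [LinearMap.mem_ker, ← LinearMap.comp_apply, ← LinearMap.rTensor_comp, LinearMap.coprod_inl]
      exact hz
    rw [hdom N] at h1
    rw [LinearMap.mem_ker, LinearMap.rTensor_comp, LinearMap.comp_apply]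
    exact h1

theorem exists_endo {R : Type u} [CommRing R] {M : Type u} [AddCommGroup M] [Module R M]
    (hM : CAlg.IsMittagLeffler R M) (hc : CAlg.IsCountablyGenerated R M) {n : ℕ} (f : (Fin n → R) →ₗ[R] M) :
    ∃ (Q : Type u) (_ : AddCommGroup Q) (_ : Module R Q) (_ : Module.FinitePresentation R Q)
      (b : M →ₗ[R] Q) (c : Q →ₗ[R] M), (c ∘ₗ b) ∘ₗ f = f := by
  classical
  obtain ⟨s, hsc, hspan⟩ := hc
  obtain ⟨m, hm⟩ := (hsc.insert 0).exists_eq_range (Set.insert_nonempty 0 s)
  choose nxt t ht hx hdom using fun (S : Stage R M) (x : M) => next_stage hM S x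
  let st : ℕ → Stage R M := fun k => Nat.rec
    ⟨ModuleCat.of R (Fin n → R), Module.finitePresentation_of_projective R _, f⟩ (fun j S => nxt S (m j)) k
  let T : ∀ k, (st k).Q →ₗ[R] (st (k + 1)).Q := fun k => t (st k) (m k)
  have hT : ∀ k, (st (k + 1)).h ∘ₗ T k = (st k).h := fun k => ht _ _
  have hTd : ∀ k (N : Type u) [AddCommGroup N] [Module R N],
      LinearMap.ker ((st k).h.rTensor N) ≤ LinearMap.ker ((T k).rTensor N) := fun k N _ _ => hdom _ _ N
  have ha : ∀ k, ∃ a : (st (k + 1 + 1)).Q →ₗ[R] (st (k + 1)).Q, a ∘ₗ (T (k + 1) ∘ₗ T k) = T k := by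
    intro k
    haveI := (st k).fp
    haveI := (st (k + 1 + 1)).fp
    refine factor_of_dom _ _ fun N _ _ z hz => hTd k N ?_
    rw [LinearMap.mem_ker] at hz ⊢
    rw [← hT k, ← hT (k + 1), LinearMap.comp_assoc, LinearMap.rTensor_comp, LinearMap.comp_apply, hz, map_zero]
  choose a ha using ha
  let A : ∀ k, (st (k + 1)).Q →ₗ[R] (st 1).Q := fun k => Nat.rec LinearMap.id (fun j Aj => Aj ∘ₗ a j) k
  let b : ∀ k, (st k).Q →ₗ[R] (st 1).Q := fun k => A k ∘ₗ T k
  have hb : ∀ k, b (k + 1) ∘ₗ T k = b k := fun k => by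
    show ((A k ∘ₗ a k) ∘ₗ T (k + 1)) ∘ₗ T k = A k ∘ₗ T k
    rw [LinearMap.comp_assoc, LinearMap.comp_assoc, ha]
  have push : ∀ d k y, ∃ y', (st (k + d)).h y' = (st k).h y ∧ b (k + d) y' = b k y := by
    intro d
    induction d with
    | zero => exact fun k y => ⟨y, rfl, rfl⟩
    | succ d ih =>
      intro k y
      obtain ⟨y', h1, h2⟩ := ih k y
      exact ⟨T (k + d) y', (LinearMap.congr_fun (hT (k + d)) y').trans h1, (LinearMap.congr_fun (hb (k + d)) y').trans h2⟩
  have hzero : ∀ k y, (st k).h y = 0 → b k y = 0 := by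
    intro k y hy
    have h1 := hTd k R (show y ⊗ₜ[R] (1 : R) ∈ LinearMap.ker ((st k).h.rTensor R) by simp [hy])
    have h2 : T k y = 0 := by simpa using congrArg (TensorProduct.rid R _) (LinearMap.mem_ker.mp h1)
    show A k (T k y) = 0
    rw [h2, map_zero]
  have wd : ∀ k j y z, (st k).h y = (st j).h z → b k y = b j z := by
    intro k j y z hyz
    obtain ⟨y', h1, h2⟩ := push j k y
    obtain ⟨z', h3, h4⟩ := push k j z
    have e : ∀ l l' (w : (st l').Q), l' = l → ∃ w' : (st l).Q, (st l).h w' = (st l').h w ∧ b l w' = b l' w :=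
      fun l l' w hl => by subst hl; exact ⟨w, rfl, rfl⟩
    obtain ⟨z'', h5, h6⟩ := e (k + j) (j + k) z' (add_comm j k)
    rw [← h2, ← h4, ← h6]
    rw [← sub_eq_zero, ← map_sub]
    exact hzero _ _ (by rw [map_sub, h1, h5, h3, hyz, sub_self])
  have hcov : ∀ x : M, ∃ k y, (st k).h y = x := by
    intro x
    have hx' : x ∈ Submodule.span R (Set.range m) := by
      rw [← hm]
      exact Submodule.span_mono (Set.subset_insert _ _) (hspan ▸ Submodule.mem_top)
    induction hx' using Submodule.span_induction with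
    | mem y hy =>
      obtain ⟨j, rfl⟩ := hy
      obtain ⟨z, hz⟩ := hx (st j) (m j)
      exact ⟨j + 1, z, hz⟩
    | zero => exact ⟨0, 0, map_zero _⟩
    | add y z _ _ hy hz =>
      obtain ⟨k, y', rfl⟩ := hy
      obtain ⟨j, z', rfl⟩ := hz
      obtain ⟨y'', h1, -⟩ := push j k y'
      obtain ⟨z'', h2, -⟩ := push k j z'
      obtain ⟨z3, h3⟩ : ∃ z3 : (st (k + j)).Q, (st (k + j)).h z3 = (st (j + k)).h z'' := by
        rw [add_comm k j]; exact ⟨z'', rfl⟩
      exact ⟨k + j, y'' + z3, by rw [map_add, h1, h3, h2]⟩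
    | smul c y _ hy =>
      obtain ⟨k, y', rfl⟩ := hy
      exact ⟨k, c • y', map_smul _ _ _⟩
  choose kk yy hyy using hcov
  let B : M →ₗ[R] (st 1).Q :=
    { toFun := fun x => b (kk x) (yy x)
      map_add' := fun x z => by
        obtain ⟨y1, h1, h2⟩ := push (kk z) (kk x) (yy x)
        obtain ⟨z1, h3, h4⟩ : ∃ z1 : (st (kk x + kk z)).Q, (st (kk x + kk z)).h z1 = z ∧ b (kk x + kk z) z1 = b (kk z) (yy z) := by
          obtain ⟨z', h3, h4⟩ := push (kk x) (kk z) (yy z)
          rw [add_comm (kk x) (kk z)]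
          exact ⟨z', h3.trans (hyy z), h4⟩
        rw [← h2, ← h4, ← map_add]
        exact wd _ _ _ _ (by rw [map_add, h1, h3, hyy, hyy])
      map_smul' := fun c x => by
        rw [RingHom.id_apply, ← map_smul]
        exact wd _ _ _ _ (by rw [map_smul, hyy, hyy]) }
  refine ⟨(st 1).Q, inferInstance, inferInstance, (st 1).fp, B, (st 1).h, LinearMap.ext fun p => ?_⟩
  show (st 1).h (b (kk (f p)) (yy (f p))) = f p
  rw [wd (kk (f p)) 0 (yy (f p)) p (hyy (f p))]
  exact LinearMap.congr_fun (hT 0) p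

theorem projective_of_countable {R : Type u} [CommRing R] {M : Type u} [AddCommGroup M] [Module R M] [Module.Flat R M]
    (hM : CAlg.IsMittagLeffler R M) (hc : CAlg.IsCountablyGenerated R M) : Module.Projective R M := by
  classical
  obtain ⟨s, hsc, hspan⟩ := id hc
  obtain ⟨m, hm⟩ := (hsc.insert 0).exists_eq_range (Set.insert_nonempty 0 s)
  have hE : ∀ (k : ℕ) (S : M →ₗ[R] M), ∃ (l : ℕ) (β : M →ₗ[R] (Fin l →₀ R)) (γ : (Fin l →₀ R) →ₗ[R] M),
      ∀ j : Fin (k + 1), γ (β (S (m j))) = S (m j) := by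
    intro k S
    obtain ⟨Q, _, _, _, b, c, h⟩ := exists_endo hM hc (Fintype.linearCombination R fun j : Fin (k + 1) => S (m j))
    obtain ⟨l, h2, h3, h23⟩ := Module.Flat.exists_factorization_of_finitePresentation c
    refine ⟨l, h2 ∘ₗ b, h3, fun j => ?_⟩
    have := LinearMap.congr_fun h (Pi.single j 1)
    rw [h23] at this
    simpa [Fintype.linearCombination_apply, Pi.single_apply, ite_smul] using this
  choose l β γ hγ using hE
  let S : ℕ → (M →ₗ[R] M) := fun k => Nat.rec LinearMap.id (fun j Sj => Sj - γ j Sj ∘ₗ β j Sj ∘ₗ Sj) k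
  have hS : ∀ k x, S (k + 1) x = S k x - γ k (S k) (β k (S k) (S k x)) := fun k x => rfl
  have hS0 : ∀ j k, j < k → S k (m j) = 0 := by
    intro j k hjk
    induction k with
    | zero => omega
    | succ k ih =>
      rw [hS]
      rcases Nat.lt_succ_iff_lt_or_eq.mp hjk with h | h
      · rw [ih h, map_zero, map_zero, sub_zero]
      · subst h
        rw [hγ j (S j) ⟨j, Nat.lt_succ_self j⟩, sub_self]
  have hK : ∀ x, ∃ K, ∀ k, K ≤ k → S k x = 0 := by
    intro x
    have hx : x ∈ Submodule.span R (Set.range m) := by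
      rw [← hm]
      exact Submodule.span_mono (Set.subset_insert _ _) (hspan ▸ Submodule.mem_top)
    induction hx using Submodule.span_induction with
    | mem y hy =>
      obtain ⟨j, rfl⟩ := hy
      exact ⟨j + 1, fun k hk => hS0 j k hk⟩
    | zero => exact ⟨0, fun k _ => map_zero _⟩
    | add y z _ _ hy hz =>
      obtain ⟨K1, h1⟩ := hy
      obtain ⟨K2, h2⟩ := hz
      exact ⟨max K1 K2, fun k hk => by rw [map_add, h1 k (le_trans (le_max_left _ _) hk), h2 k (le_trans (le_max_right _ _) hk), add_zero]⟩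
    | smul c y _ hy =>
      obtain ⟨K1, h1⟩ := hy
      exact ⟨K1, fun k hk => by rw [map_smul, h1 k hk, smul_zero]⟩
  choose K hK using hK
  let p : (M →₀ R) →ₗ[R] M := Finsupp.linearCombination R id
  have hp : Function.Surjective p := fun x => ⟨Finsupp.single x 1, by show Finsupp.linearCombination R id (Finsupp.single x (1 : R)) = x; simp⟩
  choose ℓ hℓ using fun k => Module.projective_lifting_property p (γ k (S k)) hp
  let term : ℕ → M →ₗ[R] (M →₀ R) := fun k => ℓ k ∘ₗ β k (S k) ∘ₗ S k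
  have hterm : ∀ x k, K x ≤ k → term k x = 0 := fun x k hk => by simp [term, hK x k hk]
  let sumTo : ℕ → M →ₗ[R] (M →₀ R) := fun N => ∑ k ∈ Finset.range N, term k
  have hsum : ∀ x N, K x ≤ N → sumTo N x = sumTo (K x) x := by
    intro x N hN
    simp only [sumTo, LinearMap.coe_sum, Finset.sum_apply]
    exact (Finset.sum_subset (Finset.range_subset_range.mpr hN) fun k _ hk => hterm x k (by simpa using hk)).symm
  let L : M →ₗ[R] (M →₀ R) :=
    { toFun := fun x => sumTo (K x) x
      map_add' := fun x y => by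
        let N := max (K (x + y)) (max (K x) (K y))
        rw [← hsum (x + y) N (le_max_left _ _), ← hsum x N (le_trans (le_max_left _ _) (le_max_right _ _)),
          ← hsum y N (le_trans (le_max_right _ _) (le_max_right _ _)), map_add]
      map_smul' := fun c x => by
        let N := max (K (c • x)) (K x)
        rw [RingHom.id_apply, ← hsum (c • x) N (le_max_left _ _), ← hsum x N (le_max_right _ _), map_smul] }
  refine Module.Projective.of_split L p (LinearMap.ext fun x => ?_)
  have hpt : ∀ k, p (term k x) = S k x - S (k + 1) x := fun k => by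
    rw [hS, sub_sub_cancel]
    exact LinearMap.congr_fun (hℓ k) _
  show p (sumTo (K x) x) = x
  simp only [sumTo, LinearMap.coe_sum, Finset.sum_apply, map_sum, hpt]
  rw [Finset.sum_range_sub' (fun k => S k x), hK x (K x) le_rfl, sub_zero]
  rfl

theorem mem_range_of_ker {R : Type u} [CommRing R] {F G M : Type u} [AddCommGroup F] [Module R F] [AddCommGroup G]
    [Module R G] [AddCommGroup M] [Module R M] [Module.Flat R M] (φ : F →ₗ[R] G) {x : F ⊗[R] M}
    (hx : φ.rTensor M x = 0) : x ∈ LinearMap.range ((LinearMap.ker φ).subtype.rTensor M) := by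
  have hinj := Module.Flat.rTensor_preserves_injective_linearMap (M := M) (LinearMap.range φ).subtype Subtype.val_injective
  have h1 : φ.rangeRestrict.rTensor M x = 0 := hinj (by
    rw [map_zero, ← LinearMap.comp_apply, ← LinearMap.rTensor_comp]
    exact hx)
  have hex : Function.Exact (LinearMap.ker φ).subtype φ.rangeRestrict := by
    refine LinearMap.exact_iff.mpr ?_
    rw [Submodule.range_subtype, LinearMap.ker_rangeRestrict]
  exact (rTensor_exact M hex φ.surjective_rangeRestrict x).mp h1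

theorem exists_smallest {R : Type u} [CommRing R] {M : Type u}
    [AddCommGroup M] [Module R M] [Module.Flat R M] (hM : CAlg.IsMittagLeffler R M)
    {F : Type u} [AddCommGroup F] [Module R F] (x : F ⊗[R] M) :
    ∃ F' : Submodule R F, F'.FG ∧ x ∈ LinearMap.range (F'.subtype.rTensor M) ∧
      ∀ F'' : Submodule R F, x ∈ LinearMap.range (F''.subtype.rTensor M) → F' ≤ F'' := by
  let I := {F'' : Submodule R F // x ∈ LinearMap.range (F''.subtype.rTensor M)}
  let ψ : F →ₗ[R] ∀ i : I, F ⧸ i.1 := LinearMap.pi fun i => i.1.mkQ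
  have h0 : ψ.rTensor M x = 0 := by
    apply (TensorProduct.comm R _ M).injective
    rw [map_zero]
    refine zero_of hM (Q := fun i : I => F ⧸ i.1) fun i => ?_
    have h1 : i.1.mkQ.rTensor M x = 0 := by
      obtain ⟨w, hw⟩ := i.2
      have e : i.1.mkQ.rTensor M (i.1.subtype.rTensor M w) = 0 := by
        rw [← LinearMap.comp_apply, ← LinearMap.rTensor_comp,
          show i.1.mkQ ∘ₗ i.1.subtype = 0 from LinearMap.ext fun z => (Submodule.Quotient.mk_eq_zero _).mpr z.2,
          LinearMap.rTensor_zero, LinearMap.zero_apply]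
      exact (congrArg (i.1.mkQ.rTensor M) hw.symm).trans e
    have : ∀ t, piRightHom R R M (fun i : I => F ⧸ i.1) (TensorProduct.comm R _ M (ψ.rTensor M t)) i =
        TensorProduct.comm R _ M (i.1.mkQ.rTensor M t) := by
      intro t
      induction t with
      | zero => simp
      | tmul a b => simp [ψ]
      | add a b ha hb => simp only [map_add, Pi.add_apply, ha, hb]
    rw [this, h1, map_zero]
  obtain ⟨w, hw⟩ := mem_range_of_ker ψ h0
  obtain ⟨F1, hF1, hwF1⟩ := TensorProduct.exists_finite_submodule_left_of_setFinite {w} (Set.finite_singleton w)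
  obtain ⟨w1, hw1⟩ := hwF1 rfl
  let F' := F1.map (LinearMap.ker ψ).subtype
  refine ⟨F', (Module.Finite.iff_fg.mp hF1).map _, ?_, fun F'' hF'' => ?_⟩
  · refine ⟨((LinearMap.ker ψ).subtype.restrict (p := F1) (q := F') fun z hz => ⟨z, hz, rfl⟩).rTensor M w1, ?_⟩
    refine Eq.trans ?_ ((congrArg ((LinearMap.ker ψ).subtype.rTensor M) hw1).trans hw)
    rw [← LinearMap.comp_apply, ← LinearMap.rTensor_comp, ← LinearMap.comp_apply, ← LinearMap.rTensor_comp]
    rfl
  · rintro _ ⟨z, -, rfl⟩
    exact (Submodule.Quotient.mk_eq_zero F'').mp (congrFun (LinearMap.mem_ker.mp z.2) ⟨F'', hF''⟩)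

theorem ml_of_smallest {R : Type u} [CommRing R] {M : Type u}
    [AddCommGroup M] [Module R M] [Module.Flat R M]
    (h : ∀ (n : ℕ) (x : (Fin n → R) ⊗[R] M), ∃ F' : Submodule R (Fin n → R),
        x ∈ LinearMap.range (F'.subtype.rTensor M) ∧
        ∀ F'' : Submodule R (Fin n → R), x ∈ LinearMap.range (F''.subtype.rTensor M) → F' ≤ F'') :
    CAlg.IsMittagLeffler R M := by
  refine of_zero fun κ Q _ _ z hz => ?_
  obtain ⟨n, u', x, hx⟩ := exists_rep (TensorProduct.comm R M _ z)
  obtain ⟨F', ⟨w, rfl⟩, hmin⟩ := h n x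
  have hle : F' ≤ LinearMap.ker u' := by
    intro v hv
    refine LinearMap.mem_ker.mpr (funext fun i => ?_)
    have hu : (LinearMap.proj i ∘ₗ u').rTensor M (F'.subtype.rTensor M w) = 0 := by
      rw [LinearMap.rTensor_comp, LinearMap.comp_apply, hx]
      have : ∀ t, (LinearMap.proj i : (∀ k, Q k) →ₗ[R] Q i).rTensor M (TensorProduct.comm R M _ t) =
          TensorProduct.comm R M _ (piRightHom R R M Q t i) := by
        intro t
        induction t with
        | zero => simp
        | tmul a b => simp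
        | add a b ha hb => simp only [map_add, Pi.add_apply, ha, hb]
      rw [this, hz, map_zero]
    have hk : v ∈ LinearMap.ker ((LinearMap.proj i : (∀ k, Q k) →ₗ[R] Q i).comp u') :=
      hmin _ (mem_range_of_ker (M := M) ((LinearMap.proj i : (∀ k, Q k) →ₗ[R] Q i).comp u') hu) hv
    exact LinearMap.mem_ker.mp hk
  apply (TensorProduct.comm R M _).injective
  rw [map_zero, ← hx, ← LinearMap.comp_apply, ← LinearMap.rTensor_comp,
    show u' ∘ₗ F'.subtype = 0 from LinearMap.ext fun v => hle v.2, LinearMap.rTensor_zero, LinearMap.zero_apply]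

theorem stage_lift {R : Type u} [CommRing R] {ι : Type u} [Preorder ι] [IsDirected ι (· ≤ ·)] [Nonempty ι]
    [DecidableEq ι] {G : ι → Type u} [∀ i, AddCommGroup (G i)] [∀ i, Module R (G i)]
    (f : ∀ i j, i ≤ j → G i →ₗ[R] G j) [DirectedSystem G fun i j h => f i j h]
    {Q : Type u} [AddCommGroup Q] [Module R Q] [Module.FinitePresentation R Q] (h : Q →ₗ[R] Module.DirectLimit G f) :
    ∃ (j : ι) (h' : Q →ₗ[R] G j), Module.DirectLimit.of R ι G f j ∘ₗ h' = h := by
  classical
  obtain ⟨n, K, e, hK⟩ := Module.FinitePresentation.exists_fin R Q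
  choose i x hx using fun k : Fin n => Module.DirectLimit.exists_of (h (e.symm (K.mkQ (Pi.single k 1))))
  obtain ⟨j, hj⟩ := Finite.exists_le i
  let L : (Fin n → R) →ₗ[R] G j := Fintype.linearCombination R (fun k => f (i k) j (hj k) (x k))
  have hL : Module.DirectLimit.of R ι G f j ∘ₗ L = h ∘ₗ e.symm.toLinearMap ∘ₗ K.mkQ :=
    (Pi.basisFun R (Fin n)).ext fun k => by
      simp [L, Fintype.linearCombination_apply, Pi.single_apply, ite_smul, Module.DirectLimit.of_f, hx]
  obtain ⟨m, gen, hgen⟩ := Submodule.fg_iff_exists_fin_generating_family.mp hK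
  have hz : ∀ l, ∃ (j' : ι) (hjj : j ≤ j'), f j j' hjj (L (gen l)) = 0 := by
    intro l
    refine Module.DirectLimit.of.zero_exact ?_
    rw [← LinearMap.comp_apply, hL]
    have : gen l ∈ K := hgen ▸ Submodule.subset_span (Set.mem_range_self l)
    simp [(Submodule.Quotient.mk_eq_zero K).mpr this]
  choose j1 hj1 hz using hz
  obtain ⟨j2, hj2⟩ := Finite.exists_le (fun o : Option (Fin m) => o.elim j j1)
  have hjj2 : j ≤ j2 := hj2 none
  have hker : K ≤ LinearMap.ker (f j j2 hjj2 ∘ₗ L) := by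
    rw [← hgen, Submodule.span_le]
    rintro _ ⟨l, rfl⟩
    show f j j2 hjj2 (L (gen l)) = 0
    rw [← DirectedSystem.map_map' (fun i j h => f i j h) (hj1 l) (hj2 (some l)), hz, map_zero]
  refine ⟨j2, K.liftQ _ hker ∘ₗ e.toLinearMap, LinearMap.ext fun q => ?_⟩
  obtain ⟨y, hy⟩ := K.mkQ_surjective (e q)
  rw [LinearMap.comp_apply, LinearMap.comp_apply, LinearEquiv.coe_toLinearMap, ← hy, Submodule.mkQ_apply,
    Submodule.liftQ_apply, LinearMap.comp_apply, Module.DirectLimit.of_f, ← LinearMap.comp_apply, hL]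
  simp [← Submodule.mkQ_apply, hy]

theorem ml_iff_stable {R : Type u} [CommRing R] {ι : Type u}
    [Preorder ι] [IsDirected ι (· ≤ ·)] [Nonempty ι] [DecidableEq ι] (G : ι → Type u)
    [∀ i, AddCommGroup (G i)] [∀ i, Module R (G i)] [∀ i, Module.FinitePresentation R (G i)]
    (f : ∀ i j, i ≤ j → G i →ₗ[R] G j) [DirectedSystem G fun i j h => f i j h] :
    CAlg.IsMittagLeffler R (Module.DirectLimit G f) ↔
      ∀ i, ∃ (j : ι) (hij : i ≤ j), ∀ (k : ι) (hik : i ≤ k),
        ∃ h : G k →ₗ[R] G j, f i j hij = h ∘ₗ f i k hik := by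
  classical
  constructor
  · intro hML i
    obtain ⟨Q, _, _, _, g, h, hgh, hdom⟩ := exists_dom hML (Module.DirectLimit.of R ι G f i)
    obtain ⟨j, h', hh'⟩ := stage_lift f h
    obtain ⟨j0, hij0, hjj0⟩ := exists_ge_ge i j
    obtain ⟨n, K, e, hK⟩ := Module.FinitePresentation.exists_fin R (G i)
    let d : G i →ₗ[R] G j0 := f i j0 hij0 - (f j j0 hjj0 ∘ₗ h') ∘ₗ g
    have hz : ∀ k : Fin n, ∃ (j' : ι) (hjj : j0 ≤ j'), f j0 j' hjj (d (e.symm (K.mkQ (Pi.single k 1)))) = 0 := by
      intro k
      refine Module.DirectLimit.of.zero_exact ?_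
      generalize e.symm (K.mkQ (Pi.single k 1)) = y
      simp only [d, LinearMap.sub_apply, LinearMap.comp_apply, map_sub, Module.DirectLimit.of_f]
      rw [← LinearMap.comp_apply (Module.DirectLimit.of R ι G f j), hh', ← LinearMap.comp_apply h, hgh, sub_self]
    choose j1 hj1 hz using hz
    obtain ⟨j2, hj2⟩ := Finite.exists_le (fun o : Option (Fin n) => o.elim j0 j1)
    have hj02 : j0 ≤ j2 := hj2 none
    have hd : (f j0 j2 hj02 ∘ₗ d) ∘ₗ (e.symm.toLinearMap ∘ₗ K.mkQ) = 0 := (Pi.basisFun R (Fin n)).ext fun k => by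
      simp only [Pi.basisFun_apply, LinearMap.comp_apply, LinearEquiv.coe_coe, LinearMap.zero_apply]
      rw [← DirectedSystem.map_map' (fun i j h => f i j h) (hj1 k) (hj2 (some k)), hz, map_zero]
    refine ⟨j2, hij0.trans hj02, fun k hik => ?_⟩
    have heq : f i j2 (hij0.trans hj02) = (f j j2 (hjj0.trans hj02) ∘ₗ h') ∘ₗ g := by
      refine LinearMap.ext fun y => ?_
      obtain ⟨y', hy'⟩ := (e.symm.surjective.comp K.mkQ_surjective) y
      have := LinearMap.congr_fun hd y'
      simp only [Function.comp_apply] at hy'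
      simp only [d, LinearMap.comp_apply, LinearEquiv.coe_coe, hy', LinearMap.sub_apply, map_sub, LinearMap.zero_apply, sub_eq_zero,
        DirectedSystem.map_map' (fun i j h => f i j h)] at this
      exact this
    obtain ⟨φ, hφ⟩ := factor_of_dom (f i k hik) (f i j2 (hij0.trans hj02)) fun N _ _ x hx => by
      rw [LinearMap.mem_ker] at hx ⊢
      have h1 : x ∈ LinearMap.ker ((Module.DirectLimit.of R ι G f i).rTensor N) := by
        rw [LinearMap.mem_ker, show Module.DirectLimit.of R ι G f i = Module.DirectLimit.of R ι G f k ∘ₗ f i k hik from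
          LinearMap.ext fun z => (Module.DirectLimit.of_f).symm, LinearMap.rTensor_comp, LinearMap.comp_apply, hx, map_zero]
      rw [hdom N, LinearMap.mem_ker] at h1
      rw [heq, LinearMap.rTensor_comp, LinearMap.comp_apply, h1, map_zero]
    exact ⟨φ, hφ.symm⟩
  · intro h
    refine ml_of_dom_free fun n f0 => ?_
    haveI := Module.finitePresentation_of_projective R (Fin n → R)
    obtain ⟨i, f', hf'⟩ := stage_lift f f0
    obtain ⟨j, hij, hj⟩ := h i
    refine ⟨G j, inferInstance, inferInstance, f i j hij ∘ₗ f', ml_fp _, fun N _ _ => le_antisymm (fun x hx => ?_) ?_⟩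
    · rw [LinearMap.mem_ker, ← hf', LinearMap.rTensor_comp, LinearMap.comp_apply] at hx
      have h1 := congrArg (TensorProduct.directLimitLeft f N) hx
      rw [TensorProduct.directLimitLeft_rTensor_of, map_zero] at h1
      obtain ⟨k, hik, hk⟩ := Module.DirectLimit.of.zero_exact h1
      obtain ⟨φ, hφ⟩ := hj k hik
      rw [LinearMap.mem_ker, hφ, LinearMap.comp_assoc, LinearMap.rTensor_comp, LinearMap.comp_apply]
      have hk' : (f i k hik).rTensor N (f'.rTensor N x) = 0 := hk
      rw [LinearMap.rTensor_comp, LinearMap.comp_apply, hk', map_zero]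
    · rw [← hf', show Module.DirectLimit.of R ι G f i = Module.DirectLimit.of R ι G f j ∘ₗ f i j hij from
        LinearMap.ext fun z => (Module.DirectLimit.of_f).symm, LinearMap.comp_assoc,
        LinearMap.rTensor_comp _ (Module.DirectLimit.of R ι G f j)]
      exact LinearMap.ker_le_ker_comp _ _

theorem countable_subsystem {R : Type u} [CommRing R] {ι : Type u} [Preorder ι] [IsDirected ι (· ≤ ·)] [Nonempty ι]
    [DecidableEq ι] (G : ι → Type u)
    [∀ i, AddCommGroup (G i)] [∀ i, Module R (G i)] [∀ i, Module.FinitePresentation R (G i)]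
    (f : ∀ i j, i ≤ j → G i →ₗ[R] G j) [DirectedSystem G fun i j h => f i j h]
    (hML : CAlg.IsMittagLeffler R (Module.DirectLimit G f))
    (hc : CAlg.IsCountablyGenerated R (Module.DirectLimit G f)) :
    ∃ I' : Set ι, I'.Countable ∧ DirectedOn (· ≤ ·) I' ∧
      Function.Bijective (Module.DirectLimit.lift R I' (fun i : I' => G i.1)
        (fun (i j : I') (h : i ≤ j) => f i.1 j.1 h)
        (fun i : I' => Module.DirectLimit.of R ι G f i.1)
        (fun (i j : I') (h : i ≤ j) (x : G i.1) => Module.DirectLimit.of_f)) := by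
  classical
  obtain ⟨s, hsc, hspan⟩ := hc
  obtain ⟨m, hm⟩ := (hsc.insert 0).exists_eq_range (Set.insert_nonempty 0 s)
  choose st y hy using fun k => Module.DirectLimit.exists_of (m k)
  choose J hJ hJf using (ml_iff_stable G f).mp hML
  have hub : ∀ i k, ∃ i', J i ≤ i' ∧ st k ≤ i' := fun i k => exists_ge_ge _ _
  choose U hU1 hU2 using hub
  obtain ⟨i0⟩ := ‹Nonempty ι›
  let seq : ℕ → ι := fun k => Nat.rec i0 (fun k i => U i k) k
  have hstep : ∀ k, seq k ≤ seq (k + 1) := fun k => (hJ _).trans (hU1 _ _)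
  have hmono : Monotone seq := monotone_nat_of_le_succ hstep
  let I' : Set ι := Set.range seq
  have hdir : DirectedOn (· ≤ ·) I' := by
    rintro _ ⟨a, rfl⟩ _ ⟨b, rfl⟩
    exact ⟨_, ⟨max a b, rfl⟩, hmono (le_max_left a b), hmono (le_max_right a b)⟩
  refine ⟨I', Set.countable_range seq, hdir, ?_, ?_⟩
  · haveI : Nonempty I' := ⟨⟨seq 0, 0, rfl⟩⟩
    haveI : IsDirected I' (· ≤ ·) := ⟨fun a b => by
      obtain ⟨c, hc, h1, h2⟩ := hdir a.1 a.2 b.1 b.2
      exact ⟨⟨c, hc⟩, h1, h2⟩⟩
    haveI : DirectedSystem (fun i : I' => G i.1) (fun (i j : I') (h : i ≤ j) => f i.1 j.1 h) :=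
      ⟨fun i x => DirectedSystem.map_self (f := fun i j h => f i j h) x,
        fun k j i hij hjk x => DirectedSystem.map_map (f := fun i j h => f i j h) hij hjk x⟩
    rw [← LinearMap.ker_eq_bot, LinearMap.ker_eq_bot']
    intro z hz
    obtain ⟨⟨_, a, rfl⟩, x, rfl⟩ := Module.DirectLimit.exists_of z
    rw [Module.DirectLimit.lift_of] at hz
    obtain ⟨k, hk, hk0⟩ := Module.DirectLimit.of.zero_exact hz
    obtain ⟨φ, hφ⟩ := hJf (seq a) k hk
    have h1 : f (seq a) (J (seq a)) (hJ _) x = 0 := by rw [hφ, LinearMap.comp_apply, hk0, map_zero]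
    have h2 : f (seq a) (seq (a + 1)) (hstep a) x = 0 := by
      rw [← DirectedSystem.map_map' (fun i j h => f i j h) (hJ (seq a)) (hU1 (seq a) a), h1, map_zero]
    have hle : (⟨seq a, a, rfl⟩ : I') ≤ ⟨seq (a + 1), a + 1, rfl⟩ := hstep a
    rw [← Module.DirectLimit.of_f (G := fun i : I' => G i.1) (f := fun (i j : I') (h : i ≤ j) => f i.1 j.1 h) (hij := hle), h2, map_zero]
  · rw [← LinearMap.range_eq_top, eq_top_iff, ← hspan]
    refine (Submodule.span_mono (Set.subset_insert 0 s)).trans ?_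
    rw [hm, Submodule.span_le]
    rintro _ ⟨k, rfl⟩
    refine ⟨Module.DirectLimit.of R I' (fun i : I' => G i.1) (fun (i j : I') (h : i ≤ j) => f i.1 j.1 h)
      ⟨seq (k + 1), k + 1, rfl⟩ (f (st k) (seq (k + 1)) (hU2 _ _) (y k)), ?_⟩
    rw [Module.DirectLimit.lift_of, Module.DirectLimit.of_f, hy]

end Groth.Agent.MittagLefflerProjective
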