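/-
faithfully flat descent of projectivity
-/
import Mathlib
import Groth.Prelude.Def_Found
import Groth.Agent.Lib.MittagLeffler
import Groth.Agent.Lib.MittagLefflerProjective
import Groth.Agent.Lib.MittagLefflerBaseChange
import Groth.Agent.Lib.KaplanskyProjective
import Groth.Agent.S0584
import Groth.Agent.S0586

open TensorProduct
open scoped Classical

universe u

namespace Groth.Agent.ProjectiveDescent


/-- image of a submodule in the base change -/
noncomputable def im {R : Type u} [CommRing R] (S : Type u) [CommRing S] [Algebra R S] {M : Type u}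
    [AddCommGroup M] [Module R M] (M' : Submodule R M) : Submodule S (S ⊗[R] M) :=
  Submodule.span S ((TensorProduct.mk R S M 1) '' (M' : Set M))

theorem im_le_iff {R S : Type u} [CommRing R] [CommRing S] [Algebra R S] {M : Type u}
    [AddCommGroup M] [Module R M] {M' : Submodule R M} {T : Submodule S (S ⊗[R] M)} :
    im S M' ≤ T ↔ M' ≤ (T.restrictScalars R).comap (TensorProduct.mk R S M 1) := by
  rw [im, Submodule.span_le, Set.image_subset_iff]
  rfl

theorem im_sup {R S : Type u} [CommRing R] [CommRing S] [Algebra R S] {M : Type u}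
    [AddCommGroup M] [Module R M] (A B : Submodule R M) : im S (A ⊔ B) = im S A ⊔ im S B :=
  eq_of_forall_ge_iff fun T => by rw [im_le_iff, sup_le_iff, sup_le_iff, im_le_iff, im_le_iff]

theorem range_baseChange_subtype {R S : Type u} [CommRing R] [CommRing S] [Algebra R S] {M : Type u}
    [AddCommGroup M] [Module R M] (M' : Submodule R M) :
    LinearMap.range (M'.subtype.baseChange S) = im S M' := by
  apply le_antisymm
  · rintro _ ⟨z, rfl⟩
    induction z with
    | zero => rw [map_zero]; exact zero_mem _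
    | tmul a b =>
      rw [LinearMap.baseChange_tmul, show a ⊗ₜ[R] (M'.subtype b) = a • ((1 : S) ⊗ₜ[R] (b : M)) by
        rw [TensorProduct.smul_tmul', smul_eq_mul, mul_one]; rfl]
      exact Submodule.smul_mem _ _ (Submodule.subset_span ⟨b, b.2, rfl⟩)
    | add a b ha hb => rw [map_add]; exact add_mem ha hb
  · rw [im_le_iff]
    intro x hx
    exact ⟨(1 : S) ⊗ₜ ⟨x, hx⟩, rfl⟩

theorem fin_gen {R S : Type u} [CommRing R] [CommRing S] [Algebra R S] {M : Type u}
    [AddCommGroup M] [Module R M] (z : S ⊗[R] M) :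
    ∃ s : Finset M, z ∈ im S (Submodule.span R (s : Set M)) := by
  induction z with
  | zero => exact ⟨∅, zero_mem _⟩
  | tmul a b =>
    refine ⟨{b}, ?_⟩
    rw [show a ⊗ₜ[R] b = a • ((1 : S) ⊗ₜ[R] b) by rw [TensorProduct.smul_tmul', smul_eq_mul, mul_one]]
    exact Submodule.smul_mem _ _ (Submodule.subset_span ⟨b, Submodule.subset_span (by simp), rfl⟩)
  | add a b ha hb =>
    obtain ⟨s, hs⟩ := ha
    obtain ⟨t, ht⟩ := hb
    refine ⟨s ∪ t, ?_⟩
    rw [Finset.coe_union, Submodule.span_union, im_sup]
    exact Submodule.add_mem_sup hs ht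

theorem ml_of_projective {R : Type u} [CommRing R] {M : Type u} [AddCommGroup M] [Module R M]
    [h : Module.Projective R M] : CAlg.IsMittagLeffler R M :=
  ((Groth.Agent.S0584.result R M).mp h).2.1

theorem projPart_of_notMem {R : Type u} [CommRing R] {M : Type u} [AddCommGroup M] [Module R M]
    {ι : Type u} (N : ι → Submodule R M) (hN : DirectSum.IsInternal N) {J : Set ι} {i : ι} (hi : i ∉ J) {y : M}
    (hy : y ∈ N i) : Groth.Agent.Kap.projPart N hN J y = 0 := by
  have h1 : (LinearEquiv.ofBijective (DirectSum.coeLinearMap N) hN).symm y =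
      DirectSum.of (fun i => N i) i ⟨y, hy⟩ := by
    rw [LinearEquiv.symm_apply_eq]
    exact (DirectSum.coeLinearMap_of N i ⟨y, hy⟩).symm
  simp only [Groth.Agent.Kap.projPart, LinearMap.comp_apply, LinearEquiv.coe_toLinearMap, h1]
  have h2 : DFinsupp.filterLinearMap R (fun i => N i) (· ∈ J) (DirectSum.of (fun i => N i) i ⟨y, hy⟩) = 0 := by
    ext k
    simp only [DFinsupp.filterLinearMap_apply, DFinsupp.filter_apply]
    split_ifs with hk
    · rw [DirectSum.of_eq_of_ne]
      · rfl
      · exact fun e => hi (e ▸ hk)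
    · rfl
  exact (congrArg (DirectSum.coeLinearMap N) h2).trans (map_zero _)

theorem proj_of_same_ker {S : Type u} [CommRing S] {A B C : Type u} [AddCommGroup A] [Module S A]
    [AddCommGroup B] [Module S B] [AddCommGroup C] [Module S C] [Module.Projective S B]
    (f : A →ₗ[S] B) (g : A →ₗ[S] C) (hf : Function.Surjective f) (hg : Function.Surjective g)
    (h : ∀ a, g a = 0 ↔ f a = 0) : Module.Projective S C :=
  Module.Projective.of_equiv ((f.quotKerEquivOfSurjective hf).symm ≪≫ₗ
    Submodule.quotEquivOfEq (LinearMap.ker f) (LinearMap.ker g) (SetLike.ext fun a => (h a).symm) ≪≫ₗ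
    g.quotKerEquivOfSurjective hg)

theorem step {R S : Type u} [CommRing R] [CommRing S] [Algebra R S] [Module.FaithfullyFlat R S]
    {M : Type u} [AddCommGroup M] [Module R M] [Module.Projective S (S ⊗[R] M)]
    {ι : Type u} (N : ι → Submodule S (S ⊗[R] M)) (hN : DirectSum.IsInternal N)
    (hc : ∀ i, CAlg.IsCountablyGenerated S (N i))
    (M' : Submodule R M) (J : Set ι) (hJ : im S M' = Groth.Agent.Kap.part N J) (x : M) :
    ∃ (C : Submodule R M) (J' : Set ι), Module.Projective R C ∧ Disjoint M' C ∧ x ∈ M' ⊔ C ∧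
      im S (M' ⊔ C) = Groth.Agent.Kap.part N J' := by
  choose gen hgenc hgen using hc
  choose sup hsup using fun a : M => Groth.Agent.Kap.exists_finite_support N hN ((1 : S) ⊗ₜ[R] a)
  choose fg hfg using fun z : S ⊗[R] M => fin_gen (R := R) z
  let next : Set M → Set M := fun A => A ∪ ⋃ a ∈ A, ⋃ j ∈ (sup a : Set ι), ⋃ g ∈ gen j, (fg (g : S ⊗[R] M) : Set M)
  let A : ℕ → Set M := fun k => next^[k] {x}
  have hA : ∀ k, (A k).Countable := by
    intro k
    induction k with
    | zero => exact Set.countable_singleton x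
    | succ k ih =>
      show (next^[k + 1] {x}).Countable
      rw [Function.iterate_succ_apply']
      exact ih.union (ih.biUnion fun a _ => (sup a).countable_toSet.biUnion fun j _ =>
        (hgenc j).biUnion fun g _ => (fg _).countable_toSet)
  let C0 : Set M := ⋃ k, A k
  let D : Set ι := ⋃ a ∈ C0, (sup a : Set ι)
  let M'' := M' ⊔ Submodule.span R C0
  have hC0 : C0.Countable := Set.countable_iUnion hA
  have hclose : ∀ a ∈ C0, ∀ j ∈ sup a, ∀ g ∈ gen j, (fg (g : S ⊗[R] M) : Set M) ⊆ C0 := by
    intro a ha j hj g hg y hy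
    obtain ⟨k, hk⟩ := Set.mem_iUnion.mp ha
    refine Set.mem_iUnion.mpr ⟨k + 1, ?_⟩
    show y ∈ next^[k + 1] {x}
    rw [Function.iterate_succ_apply']
    exact Or.inr (Set.mem_biUnion hk (Set.mem_biUnion (Finset.mem_coe.mpr hj) (Set.mem_biUnion hg hy)))
  have himC : im S (Submodule.span R C0) = Groth.Agent.Kap.part N D := by
    apply le_antisymm
    · rw [im_le_iff, Submodule.span_le]
      intro a ha
      exact (Groth.Agent.Kap.part_le_iff N).mpr (fun j hj => Groth.Agent.Kap.le_part N (Set.mem_biUnion ha hj)) (hsup a)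
    · refine (Groth.Agent.Kap.part_le_iff N).mpr fun j hj => ?_
      obtain ⟨a, ha, hja⟩ := Set.mem_iUnion₂.mp hj
      intro z hz
      have h1 : (⟨z, hz⟩ : N j) ∈ Submodule.span S (gen j) := by rw [hgen j]; trivial
      have h2 := Submodule.mem_map_of_mem (f := (N j).subtype) h1
      rw [Submodule.map_span] at h2
      refine Submodule.span_le.mpr ?_ h2
      rintro _ ⟨g, hg, rfl⟩
      exact (im_le_iff.mpr ((Submodule.span_mono (hclose a ha j hja g hg)).trans
        (im_le_iff.mp le_rfl))) (hfg _)
  let J' := J ∪ D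
  have him : im S M'' = Groth.Agent.Kap.part N J' := by
    rw [im_sup, hJ, himC]
    exact le_antisymm (sup_le ((Groth.Agent.Kap.part_le_iff N).mpr fun i hi => Groth.Agent.Kap.le_part N (Or.inl hi))
      ((Groth.Agent.Kap.part_le_iff N).mpr fun i hi => Groth.Agent.Kap.le_part N (Or.inr hi)))
      ((Groth.Agent.Kap.part_le_iff N).mpr fun i hi => hi.elim (fun h => (Groth.Agent.Kap.le_part N h).trans le_sup_left)
        (fun h => (Groth.Agent.Kap.le_part N h).trans le_sup_right))
  let incl : M' →ₗ[R] M'' := Submodule.inclusion le_sup_left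
  let mk : M'' →ₗ[R] M'' ⧸ LinearMap.range incl := (LinearMap.range incl).mkQ
  have hex : Function.Exact incl mk := LinearMap.exact_iff.mpr (Submodule.ker_mkQ _)
  have hinj : Function.Injective (M''.subtype.baseChange S) := by
    rw [LinearMap.baseChange_eq_ltensor]
    exact Module.Flat.lTensor_preserves_injective_linearMap _ Subtype.val_injective
  let K := Groth.Agent.Kap.part N (D \ J)
  let π : (S ⊗[R] M) →ₗ[S] K := (Groth.Agent.Kap.projPart N hN (D \ J)).codRestrict K (Groth.Agent.Kap.projPart_mem N hN _)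
  haveI : Module.Projective S K := Module.Projective.of_split K.subtype π
    (LinearMap.ext fun z => Subtype.ext (Groth.Agent.Kap.projPart_of_mem N hN z.2))
  let Φ := π ∘ₗ M''.subtype.baseChange S
  have hΦ : Function.Surjective Φ := by
    intro z
    have h1 : (z : S ⊗[R] M) ∈ LinearMap.range (M''.subtype.baseChange S) := by
      rw [range_baseChange_subtype, him]
      exact (Groth.Agent.Kap.part_le_iff N).mpr (fun i hi => Groth.Agent.Kap.le_part N (Or.inr hi.1)) z.2
    obtain ⟨w, hw⟩ := h1
    exact ⟨w, Subtype.ext (by show Groth.Agent.Kap.projPart N hN (D \ J) (M''.subtype.baseChange S w) = z; rw [hw]; exact Groth.Agent.Kap.projPart_of_mem N hN z.2)⟩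
  have hker0 : ∀ v ∈ Groth.Agent.Kap.part N J, Groth.Agent.Kap.projPart N hN (D \ J) v = 0 := by
    intro v hv
    refine LinearMap.mem_ker.mp ((Groth.Agent.Kap.part_le_iff N).mpr (fun i hi y hy => LinearMap.mem_ker.mpr ?_) hv)
    exact projPart_of_notMem N hN (fun h => h.2 hi) hy
  have hker : ∀ w, Φ w = 0 ↔ w ∈ LinearMap.range (incl.baseChange S) := by
    intro w
    have hsq : ∀ v, M''.subtype.baseChange S (incl.baseChange S v) = M'.subtype.baseChange S v := by
      intro v
      rw [← LinearMap.comp_apply, ← LinearMap.baseChange_comp]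
      rfl
    constructor
    · intro hw
      have h1 : M''.subtype.baseChange S w ∈ Groth.Agent.Kap.part N J' := him ▸ range_baseChange_subtype (S := S) M'' ▸ ⟨w, rfl⟩
      have h2 : M''.subtype.baseChange S w ∈ Groth.Agent.Kap.part N J := by
        have hle : Groth.Agent.Kap.part N J' ≤ Groth.Agent.Kap.part N J ⊔ K := (Groth.Agent.Kap.part_le_iff N).mpr fun i hi => by
          by_cases hiJ : i ∈ J
          · exact (Groth.Agent.Kap.le_part N hiJ).trans le_sup_left
          · exact (Groth.Agent.Kap.le_part N (show i ∈ D \ J from ⟨hi.resolve_left hiJ, hiJ⟩)).trans le_sup_right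
        obtain ⟨u, hu, v, hv, e⟩ := Submodule.mem_sup.mp (hle h1)
        have : Groth.Agent.Kap.projPart N hN (D \ J) (M''.subtype.baseChange S w) = 0 := congrArg Subtype.val hw
        rw [← e, map_add, hker0 u hu, Groth.Agent.Kap.projPart_of_mem N hN hv, zero_add] at this
        rw [← e, this, add_zero]
        exact hu
      rw [← hJ, ← range_baseChange_subtype] at h2
      obtain ⟨v, hv⟩ := h2
      exact ⟨v, hinj ((hsq v).trans hv)⟩
    · rintro ⟨v, rfl⟩
      refine Subtype.ext ?_
      show Groth.Agent.Kap.projPart N hN (D \ J) _ = 0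
      rw [hsq]
      exact hker0 _ (hJ ▸ range_baseChange_subtype (S := S) M' ▸ ⟨v, rfl⟩)
  have hQproj : Module.Projective S (S ⊗[R] (M'' ⧸ LinearMap.range incl)) := by
    have hs : Function.Surjective (mk.baseChange S) := by
      rw [LinearMap.baseChange_eq_ltensor]
      exact LinearMap.lTensor_surjective S (Submodule.mkQ_surjective _)
    refine proj_of_same_ker (A := S ⊗[R] M'') (B := K) (C := S ⊗[R] (M'' ⧸ LinearMap.range incl)) Φ (mk.baseChange S) hΦ hs fun w => ?_
    rw [hker]
    exact lTensor_exact S hex (Submodule.mkQ_surjective _) w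
  haveI := hQproj
  haveI : Module.Flat R (M'' ⧸ LinearMap.range incl) := Module.Flat.of_flat_tensorProduct R _ S
  have hml : CAlg.IsMittagLeffler R (M'' ⧸ LinearMap.range incl) := Groth.Agent.S0586.result R S _ ml_of_projective
  have hcg : CAlg.IsCountablyGenerated R (M'' ⧸ LinearMap.range incl) := by
    refine ⟨mk '' {y : M'' | (y : M) ∈ C0}, (hC0.preimage Subtype.val_injective).image _, ?_⟩
    rw [eq_top_iff]
    intro z _
    obtain ⟨⟨y, hy⟩, rfl⟩ := Submodule.mkQ_surjective _ z
    obtain ⟨a, ha, b, hb, e⟩ := Submodule.mem_sup.mp hy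
    have he : mk ⟨y, hy⟩ = mk ⟨b, Submodule.mem_sup_right hb⟩ :=
      (Submodule.Quotient.eq _).mpr ⟨⟨a, ha⟩, Subtype.ext (by simp [incl, ← e])⟩
    show mk ⟨y, hy⟩ ∈ _
    rw [he, ← Submodule.map_span]
    refine ⟨⟨b, Submodule.mem_sup_right hb⟩, ?_, rfl⟩
    have hle : Submodule.span R C0 ≤ (Submodule.span R {y : M'' | (y : M) ∈ C0}).map M''.subtype := by
      rw [Submodule.map_span, Submodule.span_le]
      intro c hc
      exact Submodule.subset_span ⟨⟨c, Submodule.mem_sup_right (Submodule.subset_span hc)⟩, hc, rfl⟩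
    obtain ⟨b', hb', e'⟩ := hle hb
    rwa [show (⟨b, Submodule.mem_sup_right hb⟩ : M'') = b' from Subtype.ext e'.symm]
  haveI := Groth.Agent.MittagLefflerProjective.projective_of_countable hml hcg
  obtain ⟨σ, hσ⟩ := Module.projective_lifting_property mk LinearMap.id (Submodule.mkQ_surjective _)
  let τ : (M'' ⧸ LinearMap.range incl) →ₗ[R] M := M''.subtype ∘ₗ σ
  have hσ' : ∀ q, mk (σ q) = q := fun q => LinearMap.congr_fun hσ q
  have hτ : Function.Injective τ := fun a b h => by
    rw [← hσ' a, ← hσ' b, show σ a = σ b from Subtype.val_injective h]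
  have hsupeq : M' ⊔ LinearMap.range τ = M'' := by
    apply le_antisymm (sup_le le_sup_left (by rintro _ ⟨q, rfl⟩; exact (σ q).2))
    intro y hy
    obtain ⟨v, hv⟩ := (Submodule.Quotient.eq _).mp (hσ' (mk ⟨y, hy⟩)).symm
    have : y = (v : M) + τ (mk ⟨y, hy⟩) := by
      have := congrArg Subtype.val hv
      simp only [incl, Submodule.coe_inclusion, Submodule.coe_sub] at this
      simp only [τ, LinearMap.comp_apply, Submodule.coe_subtype]
      rw [this]; abel
    rw [this]
    exact Submodule.add_mem_sup v.2 ⟨_, rfl⟩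
  refine ⟨LinearMap.range τ, J', Module.Projective.of_equiv (LinearEquiv.ofInjective τ hτ), ?_, ?_, ?_⟩
  · rw [Submodule.disjoint_def]
    rintro y hy ⟨q, rfl⟩
    have h1 : mk (σ q) = 0 := (Submodule.Quotient.mk_eq_zero _).mpr ⟨⟨_, hy⟩, Subtype.ext rfl⟩
    rw [hσ'] at h1
    rw [h1, map_zero]
  · rw [hsupeq]
    exact Submodule.mem_sup_right (Submodule.subset_span (Set.mem_iUnion.mpr ⟨0, rfl⟩))
  · rw [hsupeq, him]

end Groth.Agent.ProjectiveDescent
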