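import Groth.Agent.Lib.H7PseudoTri
import Mathlib

/-! Direct summands of pseudo-coherent objects. -/

universe u v w
open CategoryTheory Limits AlgebraicGeometry Opposite TopologicalSpace HomologicalComplex CategoryTheory.Pretriangulated

namespace Groth.Agent.H7PseudoSummand
open Groth.Agent H7LocLift H7PerfTri H7PseudoPull H7PseudoTri

attribute [local instance] HasDerivedCategory.standard

variable {X Y Z : Scheme.{u}}

lemma isPseudo_rD (j : Y ⟶ X) [IsOpenImmersion j] {m : ℤ} {E : DCoh.D X} (h : DCoh.IsPseudoCoherentD m E) :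
    DCoh.IsPseudoCoherentD m ((rD j).obj E) := by
  rw [isPseudo_iff] at h ⊢
  intro y
  obtain ⟨W, i, _, P, α, ⟨w, hw⟩, hP, hα⟩ := h (j.base y)
  obtain ⟨z, hz₁, hz₂⟩ := Scheme.Pullback.exists_preimage_pullback (f := i) (g := j) w y hw
  have := MIso.comp_iso (mIso_rD (pullback.fst i j) hα) (rQ (pullback.fst i j) P).symm
    (rDComp (pullback.fst i j) i (pullback.fst i j ≫ i) rfl E ≪≫
      (rDComp (pullback.snd i j) j (pullback.fst i j ≫ i) pullback.condition.symm E).symm)
  exact ⟨_, pullback.snd i j, inferInstance, _, _, ⟨z, hz₂⟩, strictlyPerfect_rst _ hP, this⟩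

lemma isPseudo_local {m : ℤ} {E : DCoh.D X}
    (h : ∀ x : X, ∃ V : X.Opens, x ∈ V ∧ DCoh.IsPseudoCoherentD m ((rD V.ι).obj E)) :
    DCoh.IsPseudoCoherentD m E := by
  rw [isPseudo_iff]
  intro x
  obtain ⟨V, hx, hV⟩ := h x
  obtain ⟨W, i, _, P, α, ⟨w, hw⟩, hP, hα⟩ := (isPseudo_iff m _).1 hV ⟨x, hx⟩
  exact ⟨W, i ≫ V.ι, inferInstance, P, _, ⟨w, congrArg V.ι.base hw⟩, hP,
    MIso.comp_iso hα (Iso.refl _) (rDComp i V.ι (i ≫ V.ι) rfl E)⟩

open ZeroObject in
lemma isPseudo_of_vanish {m : ℤ} {E : DCoh.D X} (h : Vanish m E) : DCoh.IsPseudoCoherentD m E := by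
  rw [isPseudo_iff]
  intro x
  have hz : IsZero (DerivedCategory.Q.obj (0 : CochainComplex X.Modules ℤ)) :=
    DerivedCategory.Q.map_isZero (isZero_zero _)
  let Z₀ : CochainComplex X.Modules ℤ := (rst (𝟙 X)).obj 0
  have hZ : IsZero Z₀ := (rst (𝟙 X)).map_isZero (isZero_zero _)
  have hv := vanish_rD (𝟙 X) h
  refine ⟨X, 𝟙 X, inferInstance, Z₀, 0, ⟨x, rfl⟩, ?_, ?_⟩
  · refine ⟨⟨0, 0, fun k _ => (HomologicalComplex.eval _ _ k).map_isZero hZ⟩, fun k => ?_⟩
    exact (H7FinFree.isFinLocFree_iff _).2 fun y => ⟨⊤, trivial, H7Betti.isFree_of_isZero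
      ((Scheme.Modules.pullback _).map_isZero ((HomologicalComplex.eval _ _ k).map_isZero hZ))⟩
  · have hs : ∀ k, IsZero ((DerivedCategory.homologyFunctor X.Modules k).obj (DerivedCategory.Q.obj Z₀)) := fun k =>
      (DerivedCategory.homologyFunctor X.Modules k).map_isZero (DerivedCategory.Q.map_isZero hZ)
    exact ⟨fun k hk => isIso_of_source_target_iso_zero _ (hs k).isoZero (hv k hk.le).isoZero,
      ⟨fun f g _ => (hv m le_rfl).eq_of_src f g⟩⟩

lemma isZero_of_retract {A B : X.Modules} (i : A ⟶ B) (r : B ⟶ A) (h : i ≫ r = 𝟙 A) (hB : IsZero B) : IsZero A :=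
  (IsZero.iff_id_eq_zero A).2 (by rw [← h, hB.eq_of_tgt i 0, zero_comp])

lemma isPseudo_mono {m m' : ℤ} (hm : m ≤ m') {E : DCoh.D X} (h : DCoh.IsPseudoCoherentD m E) :
    DCoh.IsPseudoCoherentD m' E := fun x => by
  obtain ⟨V, hx, hV⟩ := h x
  refine ⟨V, hx, fun F hF => ?_⟩
  obtain ⟨P, α, hP, h1, h2⟩ := hV F hF
  refine ⟨P, α, hP, fun i hi => h1 i (by omega), ?_⟩
  rcases hm.eq_or_lt with rfl | hlt
  · exact h2
  · have := h1 m' hlt; infer_instance

theorem isPseudo_summands {m : ℤ} {K L : DCoh.D X} [HasBinaryBiproduct K L]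
    (h : DCoh.IsPseudoCoherentD m (K ⊞ L)) : DCoh.IsPseudoCoherentD m K ∧ DCoh.IsPseudoCoherentD m L := by
  suffices ∀ x : X, ∃ V : X.Opens, x ∈ V ∧ DCoh.IsPseudoCoherentD m ((rD V.ι).obj K) ∧
      DCoh.IsPseudoCoherentD m ((rD V.ι).obj L) from
    ⟨isPseudo_local fun x => (this x).imp fun _ hV => ⟨hV.1, hV.2.1⟩,
      isPseudo_local fun x => (this x).imp fun _ hV => ⟨hV.1, hV.2.2⟩⟩
  intro x
  obtain ⟨W, j, _, P, α, hx, hP, hα⟩ := (isPseudo_iff m _).1 h x
  obtain ⟨a, b, hab⟩ := hP.1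
  -- bound above on the open
  let V := j.opensRange
  have hbd : ∀ k, max m b < k → IsZero (DCoh.HD ((rD V.ι).obj (K ⊞ L)) k) := fun k hk => by
    have hz : IsZero (DCoh.HD ((rD j).obj (K ⊞ L)) k) := by
      have := hα.1 k (lt_of_le_of_lt (le_max_left m b) hk)
      refine IsZero.of_iso ?_ (asIso ((DerivedCategory.homologyFunctor W.Modules k).map α)).symm
      refine IsZero.of_iso ?_ ((DerivedCategory.homologyFunctorFactors W.Modules k).app P)
      exact (exactAt_iff_isZero_homology _ _).1 (ShortComplex.exact_of_isZero_X₂ _ (hab k (Or.inr (by omega))))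
    have h2 := vanish_rD (m := k) j.isoOpensRange.inv (A := (rD j).obj (K ⊞ L)) (fun l hl => by
      have := hα.1 l (lt_of_lt_of_le (lt_of_le_of_lt (le_max_left m b) hk) hl)
      refine IsZero.of_iso ?_ (asIso ((DerivedCategory.homologyFunctor W.Modules l).map α)).symm
      refine IsZero.of_iso ?_ ((DerivedCategory.homologyFunctorFactors W.Modules l).app P)
      exact (exactAt_iff_isZero_homology _ _).1 (ShortComplex.exact_of_isZero_X₂ _ (hab l (Or.inr (by omega))))) k le_rfl
    exact h2.of_iso ((DerivedCategory.homologyFunctor _ k).mapIso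
      (rDComp j.isoOpensRange.inv j j.opensRange.ι j.isoOpensRange_inv_comp (K ⊞ L)).symm)
  refine ⟨V, hx, ?_⟩
  let G := rD V.ι
  have hK : Vanish (max m b + 1) (G.obj K) := fun k hk => isZero_of_retract
    ((DerivedCategory.homologyFunctor _ k).map (G.map biprod.inl)) ((DerivedCategory.homologyFunctor _ k).map (G.map biprod.fst))
    (by rw [← Functor.map_comp, ← Functor.map_comp, biprod.inl_fst, CategoryTheory.Functor.map_id, CategoryTheory.Functor.map_id])
    (hbd k (by omega))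
  have hL : Vanish (max m b + 1) (G.obj L) := fun k hk => isZero_of_retract
    ((DerivedCategory.homologyFunctor _ k).map (G.map biprod.inr)) ((DerivedCategory.homologyFunctor _ k).map (G.map biprod.snd))
    (by rw [← Functor.map_comp, ← Functor.map_comp, biprod.inr_snd, CategoryTheory.Functor.map_id, CategoryTheory.Functor.map_id])
    (hbd k (by omega))
  have hKL := isPseudo_rD V.ι h
  have hT₁ := G.map_distinguished _ (binaryBiproductTriangle_distinguished K L)
  have hT₂ := G.map_distinguished _ (binaryBiproductTriangle_distinguished L K)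
  have main : ∀ n : ℕ, DCoh.IsPseudoCoherentD (max m (max m b + 1 - n)) (G.obj K) ∧
      DCoh.IsPseudoCoherentD (max m (max m b + 1 - n)) (G.obj L) := by
    intro n
    induction n with
    | zero =>
      rw [show max m (max m b + 1 - ((0 : ℕ) : ℤ)) = max m b + 1 by omega]
      exact ⟨isPseudo_of_vanish hK, isPseudo_of_vanish hL⟩
    | succ n ih =>
      by_cases hn : max m b + 1 - (n : ℤ) ≤ m
      · rw [show max m (max m b + 1 - ((n + 1 : ℕ) : ℤ)) = max m (max m b + 1 - (n : ℤ)) by omega]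
        exact ih
      · rw [show max m (max m b + 1 - ((n + 1 : ℕ) : ℤ)) = max m b + 1 - n - 1 by omega]
        have h' : DCoh.IsPseudoCoherentD (max m b + 1 - n - 1) (G.obj (K ⊞ L)) :=
          isPseudo_mono (by omega) hKL
        have e : max m b + 1 - (n : ℤ) - 1 + 1 = max m (max m b + 1 - n) := by omega
        exact ⟨isPseudo₃ _ hT₂ (e ▸ ih.2) (isPseudo_of_iso (G.mapIso (biprod.braiding K L)) h'),
          isPseudo₃ _ hT₁ (e ▸ ih.1) h'⟩
  have hfin := main (max m b + 1 - m).toNat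
  rwa [show max m (max m b + 1 - ((max m b + 1 - m).toNat : ℤ)) = m by omega] at hfin

end Groth.Agent.H7PseudoSummand
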