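import Groth.Agent.Lib.LQAff

set_option autoImplicit false
universe u

open CategoryTheory Limits TopologicalSpace Opposite AlgebraicGeometry

namespace Groth.Agent.LQcoh

variable {X : Scheme.{u}}

/-- generated by finitely many global sections -/
def HasFinGen {C : Type u} [Category.{u} C] {J : GrothendieckTopology C} {R : Sheaf J RingCat.{u}}
    [HasWeakSheafify J AddCommGrpCat.{u}] [J.WEqualsLocallyBijective AddCommGrpCat.{u}]
    (M : SheafOfModules.{u} R) : Prop :=
  ∃ G : M.GeneratingSections, Finite G.I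

set_option backward.isDefEq.respectTransparency false in
lemma HasFinGen.of_epi {C : Type u} [Category.{u} C] {J : GrothendieckTopology C}
    {R : Sheaf J RingCat.{u}} [HasWeakSheafify J AddCommGrpCat.{u}]
    [J.WEqualsLocallyBijective AddCommGrpCat.{u}]
    {M N : SheafOfModules.{u} R} (h : HasFinGen M) (p : M ⟶ N) [Epi p] : HasFinGen N :=
  let ⟨G, hG⟩ := h; ⟨G.ofEpi p, hG⟩

set_option backward.isDefEq.respectTransparency false in
lemma hasFinGen_restrict {X Y : Scheme.{u}} (f : Y ⟶ X) [IsOpenImmersion f] {M : X.Modules}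
    (h : HasFinGen M) : HasFinGen (M.restrict f) := by
  obtain ⟨G, hG⟩ := h
  haveI : PreservesColimitsOfSize.{u, u} (Scheme.Modules.restrictFunctor f) := inferInstance
  exact ⟨G.map (Scheme.Modules.restrictFunctor.{u} f) (Scheme.Modules.restrictUnitIso f).symm, hG⟩

set_option backward.isDefEq.respectTransparency false in
lemma hasFinGen_tilde {R : CommRingCat.{u}} (N : ModuleCat.{u} R) [Module.Finite R N] :
    HasFinGen (tilde N) := by
  obtain ⟨s, hs⟩ := Module.Finite.fg_top (R := R) (M := N)
  let p : ModuleCat.of R (↥(s : Set N) →₀ R) ⟶ N :=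
    ModuleCat.ofHom (Finsupp.linearCombination R ((↑) : ↥(s : Set N) → N))
  haveI : Epi p := by
    rw [ModuleCat.epi_iff_surjective]
    change Function.Surjective (Finsupp.linearCombination R ((↑) : ↥(s : Set N) → N))
    rw [← LinearMap.range_eq_top, Finsupp.range_linearCombination, Subtype.range_coe]
    exact hs
  haveI : Epi ((tilde.functor R).map p) := inferInstance
  let q : SheafOfModules.free.{u} (R := (Spec R).ringCatSheaf) ↥(s : Set N) ⟶ tilde N :=
    (tildeFinsupp _).inv ≫ (tilde.functor R).map p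
  refine ⟨⟨↥(s : Set N), (tilde N).freeHomEquiv q, ?_⟩, Set.Finite.to_subtype s.finite_toSet⟩
  rw [Equiv.symm_apply_apply]
  exact epi_comp' inferInstance ‹_›

set_option backward.isDefEq.respectTransparency false in
lemma module_finite_of_hasFinGen {R : CommRingCat.{u}} (M : (Spec R).Modules) [M.IsQuasicoherent]
    (h : HasFinGen M) : Module.Finite R Γ(M, ⊤) := by
  obtain ⟨G, hG⟩ := h
  let e := tildeFinsupp (R := R) G.I
  let p : tilde (ModuleCat.of R (G.I →₀ R)) ⟶ M := e.hom ≫ G.π
  haveI : Epi p := epi_comp' inferInstance G.epi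
  let T := ShortComplex.mk (kernel.ι p) p (kernel.condition p)
  have hT : T.ShortExact := { exact := ShortComplex.exact_of_f_is_kernel _ (kernelIsKernel p) }
  haveI : T.X₁.IsQuasicoherent := isQuasicoherent_kernel p
  have hsurj := app_surjective hT (isAffineOpen_top (Spec R))
  let φ : (G.I →₀ R) →ₗ[R] Γ(M, ⊤) :=
    ((moduleSpecΓFunctor (R := R)).map p).hom ∘ₗ
      (tilde.toOpen (ModuleCat.of R (G.I →₀ R)) ⊤).hom
  refine Module.Finite.of_surjective φ fun y => ?_
  obtain ⟨z, hz⟩ := hsurj y
  obtain ⟨w, hw⟩ := (ConcreteCategory.bijective_of_isIso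
    (tilde.toOpen (ModuleCat.of R (G.I →₀ R)) ⊤)).2 z
  exact ⟨w, (congrArg (p.app ⊤) hw).trans hz⟩

/-- global sections over an affine open, seen through `fromSpec` -/
lemma finite_restrict_iff (M : X.Modules) {V : X.Opens} (hV : IsAffineOpen V) :
    Module.Finite Γ(X, V) Γ(M.restrict hV.fromSpec, ⊤) ↔ Module.Finite Γ(X, V) Γ(M, V) := by
  have hT : hV.fromSpec ''ᵁ ⊤ = V :=
    hV.fromSpec.image_top_eq_opensRange.trans hV.opensRange_fromSpec
  let e : Γ(M, V) ≃ₗ[Γ(X, V)] Γ(M.restrict hV.fromSpec, ⊤) :=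
    { toFun := fun s => res M hT.le s
      invFun := fun s => res M hT.ge s
      map_add' := fun a b => map_add (M.presheaf.map (homOfLE hT.le).op).hom a b
      map_smul' := fun r s => (res_smul M hT.le r s).trans (smul_restrict hV M ⊤ r _).symm
      left_inv := fun s => (res_res M _ _ s).trans (LCech.rs_self M.presheaf le_rfl s)
      right_inv := fun s => (res_res M _ _ s).trans (LCech.rs_self M.presheaf le_rfl _) }
  exact (Module.Finite.equiv_iff e).symm

set_option backward.isDefEq.respectTransparency false in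
lemma hasFinGen_over (M : X.Modules) [M.IsQuasicoherent] {V : X.Opens} (hV : IsAffineOpen V)
    (hfin : Module.Finite Γ(X, V) Γ(M, V)) : HasFinGen (M.over V) := by
  haveI := isIso_fromTildeΓ_of_locAt M hV (locAt_of_qcoh M hV)
  let N := (modulesSpecToSheaf.obj (M.restrict hV.fromSpec)).presheaf.obj (op ⊤)
  haveI : Module.Finite Γ(X, V) N := (finite_restrict_iff M hV).2 hfin
  have h₀ := hasFinGen_tilde N
  have h₁ : HasFinGen (M.restrict hV.fromSpec) :=
    h₀.of_epi (asIso (M.restrict hV.fromSpec).fromTildeΓ).hom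
  have h₂ := hasFinGen_restrict hV.isoSpec.hom h₁
  have h₃ : HasFinGen (M.restrict V.ι) := h₂.of_epi
    (((Scheme.Modules.restrictFunctorComp hV.isoSpec.hom hV.fromSpec).symm ≪≫
      Scheme.Modules.restrictFunctorCongr (IsAffineOpen.isoSpec_hom_fromSpec hV)).app M).hom
  let e := Scheme.Modules.overEquiv V
  let η : e.inverse.obj (SheafOfModules.unit _) ≅ SheafOfModules.unit (X.ringCatSheaf.over V) :=
    e.inverse.mapIso ((Scheme.Modules.restrictUnitIso V.ι).symm ≪≫
      ((Scheme.Modules.overFunctorEquiv V).app _).symm) ≪≫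
      (e.unitIso.app _).symm
  obtain ⟨G, hG⟩ := h₃
  haveI : PreservesColimitsOfSize.{u, u} e.inverse := inferInstance
  exact HasFinGen.of_epi (M := e.inverse.obj (M.restrict V.ι)) ⟨G.map e.inverse η.symm, hG⟩
    (e.inverse.mapIso ((Scheme.Modules.overFunctorEquiv V).app M).symm ≪≫
      (e.unitIso.app _).symm).hom

/-- finitely generated on an affine covering implies finite type -/
theorem isFiniteType_of_finite (M : X.Modules) [M.IsQuasicoherent] {I : Type u} (V : I → X.Opens)
    (hV : ∀ i, IsAffineOpen (V i)) (hcov : iSup V = ⊤)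
    (hfin : ∀ i, Module.Finite Γ(X, V i) Γ(M, V i)) : SheafOfModules.IsFiniteType (R := X.ringCatSheaf) M := by
  choose G hG using fun i => hasFinGen_over M (hV i) (hfin i)
  constructor
  refine ⟨SheafOfModules.LocalGeneratorsData.mk.{u, u, u, u} (M := M) I V
    ((Opens.coversTop_iff (T := X) (U := V)).2 hcov) G, ?_⟩
  constructor
  intro i
  constructor
  exact hG i

set_option backward.isDefEq.respectTransparency false in
lemma exists_finite_basicOpen (M : X.Modules) [M.IsQuasicoherent] [SheafOfModules.IsFiniteType (R := X.ringCatSheaf) M]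
    {V : X.Opens} (hV : IsAffineOpen V) (x : X) (hx : x ∈ V) :
    ∃ g : Γ(X, V), x ∈ X.basicOpen g ∧
      Module.Finite Γ(X, X.basicOpen g) Γ(M, X.basicOpen g) := by
  obtain ⟨σ, hσ⟩ := SheafOfModules.IsFiniteType.exists_localGeneratorsData M
  have hx' : x ∈ iSup σ.X := by
    rw [(Opens.coversTop_iff _ _).1 σ.coversTop]; trivial
  obtain ⟨i, hi⟩ := Opens.mem_iSup.1 hx'
  obtain ⟨g, hg, hxg⟩ := hV.exists_basicOpen_le (V := σ.X i) ⟨x, hi⟩ hx
  refine ⟨g, hxg, ?_⟩
  have hD := hV.basicOpen g
  haveI : Finite (σ.generators i).I := (hσ.isFiniteType i).finite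
  let u := X.homOfLE hg
  haveI : PreservesColimitsOfSize.{u, u} (Scheme.Modules.restrictFunctor u) := inferInstance
  let F := (Scheme.Modules.overEquiv (σ.X i)).functor ⋙ Scheme.Modules.restrictFunctor u
  let iso : SheafOfModules.overFunctor X.ringCatSheaf _ ⋙ F ≅
      Scheme.Modules.restrictFunctor (X.basicOpen g).ι :=
    (Functor.associator _ _ _).symm ≪≫
      Functor.isoWhiskerRight (Scheme.Modules.overFunctorEquiv _) _ ≪≫
      (Scheme.Modules.restrictFunctorComp _ _).symm ≪≫
      (Scheme.Modules.restrictFunctorCongr (by simp [u]))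
  have h₁ : HasFinGen (M.restrict (X.basicOpen g).ι) :=
    HasFinGen.of_epi ⟨(σ.generators i).map F (Scheme.Modules.restrictUnitIso _).symm,
      inferInstanceAs (Finite (σ.generators i).I)⟩ (iso.app M).hom
  have h₂ : HasFinGen (M.restrict hD.fromSpec) :=
    (hasFinGen_restrict hD.isoSpec.inv h₁).of_epi
      (((Scheme.Modules.restrictFunctorComp hD.isoSpec.inv (X.basicOpen g).ι).symm).app M).hom
  exact (finite_restrict_iff M hD).1 (module_finite_of_hasFinGen _ h₂)

/-- sections of finite type quasi-coherent modules on affine opens are finitely generated -/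
theorem finite_sections (M : X.Modules) [M.IsQuasicoherent] [SheafOfModules.IsFiniteType (R := X.ringCatSheaf) M]
    {V : X.Opens} (hV : IsAffineOpen V) : Module.Finite Γ(X, V) Γ(M, V) := by
  choose g hxg hfin using fun x : V => exists_finite_basicOpen M hV x.1 x.2
  obtain ⟨t, ht⟩ := hV.isCompact.elim_finite_subcover (fun x : V => (X.basicOpen (g x) : Set X))
    (fun x => (X.basicOpen (g x)).2) (fun x hx => Set.mem_iUnion.2 ⟨⟨x, hx⟩, hxg _⟩)
  have hspan : Ideal.span (Set.range fun x : t => g x) = ⊤ := by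
    rw [← hV.self_le_iSup_basicOpen_iff]
    intro x hx
    obtain ⟨i, hi, hxi⟩ := Set.mem_iUnion₂.1 (ht hx)
    exact Opens.mem_iSup.2 ⟨⟨g i, ⟨i, hi⟩, rfl⟩, hxi⟩
  choose s hs using fun x : t => (hfin x.1).fg_top
  choose N y hy using fun (p : (x : t) × (s x : Set Γ(M, X.basicOpen (g x)))) =>
    (exists_pow_of_affine hV M (g p.1)).1 p.2.1
  let S := Submodule.span Γ(X, V) (Set.range y)
  refine ⟨⟨(Set.finite_range y).toFinset, ?_⟩⟩
  rw [Set.Finite.coe_toFinset]
  refine eq_top_iff.2 fun z _ => ?_
  have key : ∀ x : t, ∃ K : ℕ, g x ^ K • z ∈ S := by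
    intro x
    let D := X.basicOpen (g x)
    let A : Submodule Γ(X, D) Γ(M, D) :=
      { carrier := {w | ∃ (K : ℕ) (v : Γ(M, V)), v ∈ S ∧
          res M (basicOpen_le_open _) v = resO (basicOpen_le_open _) (g x ^ K) • w}
        zero_mem' := ⟨0, 0, S.zero_mem, (map_zero (M.presheaf.map _).hom).trans (smul_zero _).symm⟩
        add_mem' := by
          rintro a b ⟨K, v, hv, hva⟩ ⟨L, w, hw, hwb⟩
          refine ⟨K + L, g x ^ L • v + g x ^ K • w,
            S.add_mem (S.smul_mem _ hv) (S.smul_mem _ hw), ?_⟩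
          change (M.presheaf.map _).hom (_ + _) = _
          rw [map_add]
          change res M _ _ + res M _ _ = _
          rw [res_smul, res_smul, hva, hwb, smul_smul, smul_smul, smul_add, pow_add]
          simp only [resO, map_mul, mul_comm]
        smul_mem' := by
          rintro r w ⟨K, v, hv, hvw⟩
          letI := (X.presheaf.map (homOfLE (basicOpen_le_open (g (x : V)))).op).hom.toAlgebra
          haveI : IsLocalization.Away (g (x : V)) Γ(X, D) := hV.isLocalization_basicOpen _
          obtain ⟨⟨a, ⟨_, L, rfl⟩⟩, ha⟩ := IsLocalization.surj (Submonoid.powers (g (x : V))) r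
          refine ⟨L + K, a • v, S.smul_mem _ hv, ?_⟩
          have ha' : r * resO (basicOpen_le_open _) (g (x : V) ^ L) =
              resO (basicOpen_le_open _) a := ha
          rw [res_smul, hvw, smul_smul, ← ha', smul_smul, pow_add]
          congr 1
          simp only [resO, map_mul]
          ring }
    have hA : A = ⊤ := by
      refine eq_top_iff.2 ((hs x).ge.trans (Submodule.span_le.2 fun w hw => ?_))
      exact ⟨N ⟨x, w, hw⟩, y ⟨x, w, hw⟩, Submodule.subset_span ⟨_, rfl⟩, hy ⟨x, w, hw⟩⟩
    obtain ⟨K, v, hv, hvz⟩ : res M (basicOpen_le_open _) z ∈ A := by rw [hA]; trivial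
    obtain ⟨L, hL⟩ := (exists_pow_of_affine hV M (g x)).2 (g x ^ K • z - v) (by
      change (M.presheaf.map _).hom (_ - _) = 0
      rw [map_sub, sub_eq_zero]
      exact (res_smul M _ _ z).trans hvz.symm)
    refine ⟨L + K, ?_⟩
    rw [smul_sub, sub_eq_zero, smul_smul, ← pow_add] at hL
    rw [hL]
    exact S.smul_mem _ hv
  choose K hK using key
  have h1 : (1 : Γ(X, V)) ∈ (Submodule.colon S {z}) := by
    have hle : Ideal.span (Set.range fun x : t => g x ^ K x) ≤ Submodule.colon S {z} := by
      rw [Ideal.span_le]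
      rintro _ ⟨x, rfl⟩
      exact Submodule.mem_colon_singleton.2 (hK x)
    refine hle ?_
    have := Ideal.span_pow_eq_top _ hspan (Finset.univ.sup K)
    rw [← Set.range_comp] at this
    refine (Ideal.span_le.2 ?_) (this.ge (Submodule.mem_top (x := (1 : Γ(X, V)))))
    rintro _ ⟨x, rfl⟩
    obtain ⟨d, hd⟩ := Nat.exists_eq_add_of_le (Finset.le_sup (f := K) (Finset.mem_univ x))
    simp only [Function.comp_apply]
    rw [hd, pow_add]
    exact Ideal.mul_mem_right _ _ (Ideal.subset_span ⟨x, rfl⟩)
  simpa using Submodule.mem_colon_singleton.1 h1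

end Groth.Agent.LQcoh
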