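import Groth.Agent.Lib.H7TildePerf
import Groth.Agent.Lib.H7PseudoSummand
import Groth.Agent.Lib.LQFin
import Groth.Agent.S6942
import Mathlib

/-! Pseudo-coherence on Noetherian schemes. -/

universe u
open CategoryTheory Limits AlgebraicGeometry

namespace Groth.Agent.H7PseudoNoeth
open Groth.Agent H7PerfTri H7PseudoSummand

attribute [local instance] HasDerivedCategory.standard

variable {R : CommRingCat.{u}} [PreservesFiniteLimits (tilde.functor R)]

set_option backward.isDefEq.respectTransparency false in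
omit [PreservesFiniteLimits (tilde.functor R)] in
lemma finite_iff (N : ModuleCat.{u} R) (F : (Spec R).Modules) [F.IsQuasicoherent]
    (e : (tilde.functor R).obj N ≅ F) :
    Module.Finite R N ↔ Module.Finite R Γ(F, ⊤) := by
  constructor
  · intro h
    exact LQcoh.module_finite_of_hasFinGen _ ((LQcoh.hasFinGen_tilde (R := R) N).of_epi e.hom)
  · intro h
    haveI : IsIso ((tilde.adjunction (R := R)).unit.app N) := inferInstance
    let u : N ≅ (moduleSpecΓFunctor (R := R)).obj F :=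
      asIso ((tilde.adjunction (R := R)).unit.app N) ≪≫ (moduleSpecΓFunctor (R := R)).mapIso e
    haveI : Module.Finite R ((moduleSpecΓFunctor (R := R)).obj F) := h
    exact Module.Finite.equiv u.symm.toLinearEquiv

set_option maxHeartbeats 1000000 in
/-- the affine case -/
theorem pseudo_spec_iff [IsNoetherianRing R] (E : DCoh.D (Spec R)) (hE : DCoh.IsQCohD E) (m : ℤ) :
    DCoh.IsPseudoCoherentD m E ↔
      (∃ b : ℤ, ∀ i, b < i → IsZero (DCoh.HD E i)) ∧ ∀ i, m ≤ i → Module.Finite R Γ(DCoh.HD E i, ⊤) := by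
  haveI : PreservesFiniteLimits (tilde.functor (CommRingCat.of R)) := ‹PreservesFiniteLimits (tilde.functor R)›
  obtain ⟨M, ⟨e⟩⟩ := H7TildeEquiv.mem_essImage (R := R) E hE
  have h0 : DCoh.IsPseudoCoherentD m E ↔ DRing.IsPseudoCoherent R m M :=
    Iff.trans ⟨H7PseudoTri.isPseudo_of_iso e.symm, H7PseudoTri.isPseudo_of_iso e⟩ (H7TildePerf.isPseudo_iff_tildeD (A := R) M m)
  rw [h0, (Groth.Agent.S6942.result R m M R).1]
  have hz : ∀ i, IsZero (DCoh.HD E i) ↔ Subsingleton (Dual.HD R M i) := fun i => by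
    refine (Iso.isZero_iff ((DerivedCategory.homologyFunctor _ i).mapIso e.symm)).trans ?_
    refine (H7TildePerf.isZero_HD_iff (R := R) M i).trans ?_
    exact ⟨ModuleCat.subsingleton_of_isZero, fun h => @ModuleCat.isZero_of_subsingleton _ _ _ h⟩
  refine and_congr (exists_congr fun b => forall₂_congr fun i _ => (hz i).symm) (forall₂_congr fun i _ => ?_)
  haveI : (DCoh.HD E i).IsQuasicoherent := hE i
  exact finite_iff _ _ ((H5WayOut.mapDerived_H (tilde.functor R) M i).some.symm ≪≫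
    (DerivedCategory.homologyFunctor _ i).mapIso e)

variable {X : Scheme.{u}}

lemma pseudo_of_cover {E : DCoh.D X} {m : ℤ} (h : ∀ x : X, ∃ (R : CommRingCat.{u}) (j : Spec R ⟶ X) (_ : IsOpenImmersion j),
    x ∈ Set.range j.base ∧ DCoh.IsPseudoCoherentD m ((rD j).obj E)) : DCoh.IsPseudoCoherentD m E := by
  rw [H7PseudoTri.isPseudo_iff]
  intro x
  obtain ⟨R, j, hj, ⟨y, rfl⟩, hy⟩ := h x
  obtain ⟨W, i, _, P, α, ⟨w, hw⟩, hP, hα⟩ := (H7PseudoTri.isPseudo_iff m _).1 hy y
  exact ⟨W, i ≫ j, inferInstance, P, _, ⟨w, congrArg j.base hw⟩, hP,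
    H7PseudoPull.MIso.comp_iso hα (Iso.refl _) (rDComp i j (i ≫ j) rfl E)⟩

lemma isZero_of_cover {M : X.Modules} (h : ∀ x : X, ∃ (R : CommRingCat.{u}) (j : Spec R ⟶ X) (_ : IsOpenImmersion j),
    x ∈ Set.range j.base ∧ IsZero ((Scheme.Modules.restrictFunctor j).obj M)) : IsZero M := by
  refine H7StalkDetect.isZero_of_stalks fun x => ?_
  obtain ⟨R, j, hj, ⟨y, rfl⟩, hz⟩ := h x
  haveI : PreservesColimitsOfSize.{u, u} (DerSch.stalkFunctor (Spec R) y) :=
    (H7Stalk.adj y).leftAdjoint_preservesColimits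
  haveI : (Scheme.Modules.toPresheaf (Spec R) ⋙ TopCat.Presheaf.stalkFunctor _ y).PreservesZeroMorphisms := ⟨fun A B => by
    simp only [Functor.comp_map, Functor.map_zero]⟩
  exact ModuleCat.isZero_iff_subsingleton.2 ((AddCommGrpCat.subsingleton_of_isZero
    ((Functor.map_isZero (Scheme.Modules.toPresheaf (Spec R) ⋙ TopCat.Presheaf.stalkFunctor _ y) hz).of_iso
      ((Scheme.Modules.restrictStalkNatIso j y).app M).symm)))

set_option maxHeartbeats 1000000 in
theorem pseudo_iff [IsNoetherian X] (E : DCoh.D X) (hE : DCoh.IsQCohD E) (m : ℤ) :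
    DCoh.IsPseudoCoherentD m E ↔ (∀ i : ℤ, m ≤ i → Coh.IsCoh (DCoh.HD E i)) ∧ ∃ b : ℤ, E.IsLE b := by
  haveI : ∀ U : X.affineOpens, IsNoetherianRing Γ(X, U) := fun U => IsLocallyNoetherian.component_noetherian U
  haveI : ∀ U : X.affineOpens, IsOpenImmersion U.2.fromSpec := fun U => IsAffineOpen.isOpenImmersion_fromSpec U.2
  haveI : ∀ U : X.affineOpens, PreservesFiniteLimits (tilde.functor Γ(X, U)) := fun U =>
    LQcoh.preservesFiniteLimits_tilde _
  have hcov : ∀ x : X, ∃ U : X.affineOpens, x ∈ (U : X.Opens) := fun x =>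
    TopologicalSpace.Opens.mem_iSup.1 ((iSup_affineOpens_eq_top X).symm ▸ trivial)
  have hrg : ∀ (U : X.affineOpens) (x : X), x ∈ (U : X.Opens) → x ∈ Set.range U.2.fromSpec.base := fun U x hx => by
    rw [U.2.range_fromSpec]; exact hx
  have hzero : ∀ (U : X.affineOpens) (i : ℤ), IsZero (DCoh.HD ((rD U.2.fromSpec).obj E) i) ↔
      IsZero ((Scheme.Modules.restrictFunctor U.2.fromSpec).obj (DCoh.HD E i)) := fun U i =>
    Iso.isZero_iff (H7QCoh.hdRestrict _ E i)
  have hfin : ∀ (U : X.affineOpens) (i : ℤ), Module.Finite Γ(X, U) Γ(DCoh.HD ((rD U.2.fromSpec).obj E) i, ⊤) ↔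
      Module.Finite Γ(X, U) Γ(DCoh.HD E i, U) := fun U i => by
    refine Iff.trans ?_ (LQcoh.finite_restrict_iff (DCoh.HD E i) U.2)
    let e := (moduleSpecΓFunctor (R := Γ(X, U))).mapIso (H7QCoh.hdRestrict U.2.fromSpec E i)
    exact Module.Finite.equiv_iff e.toLinearEquiv
  constructor
  · intro h
    have hU := fun U : X.affineOpens => (pseudo_spec_iff (R := Γ(X, U)) _
      (H7QCoh.isQCohD_restrict U.2.fromSpec hE) m).1 (isPseudo_rD U.2.fromSpec h)
    refine ⟨fun i hi => ⟨hE i, ?_⟩, ?_⟩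
    · haveI : (DCoh.HD E i).IsQuasicoherent := hE i
      exact LQcoh.isFiniteType_of_finite _ (fun U : X.affineOpens => (U : X.Opens)) (fun U => U.2)
        (iSup_affineOpens_eq_top X) fun U => (hfin U i).1 ((hU U).2 i hi)
    · obtain ⟨t, ht⟩ := isCompact_univ.elim_finite_subcover (fun U : X.affineOpens => ((U : X.Opens) : Set X))
        (fun U => (U : X.Opens).2) fun x _ => Set.mem_iUnion.2 (hcov x)
      choose b hb using fun U => (hU U).1
      obtain ⟨B, hB⟩ := Finite.exists_le fun U : t => b U.1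
      refine ⟨B, (DerivedCategory.isLE_iff E B).2 fun i hi => isZero_of_cover fun x => ?_⟩
      obtain ⟨U, hUt, hxU⟩ := Set.mem_iUnion₂.1 (ht (Set.mem_univ x))
      exact ⟨_, U.2.fromSpec, inferInstance, hrg U x hxU, (hzero U i).1 (hb U i (lt_of_le_of_lt (hB ⟨U, hUt⟩) hi))⟩
  · rintro ⟨hcoh, b, hb⟩
    refine pseudo_of_cover fun x => ?_
    obtain ⟨U, hxU⟩ := hcov x
    refine ⟨_, U.2.fromSpec, inferInstance, hrg U x hxU, (pseudo_spec_iff (R := Γ(X, U)) _
      (H7QCoh.isQCohD_restrict U.2.fromSpec hE) m).2 ⟨⟨b, fun i hi => (hzero U i).2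
        (Functor.map_isZero _ (DerivedCategory.isZero_of_isLE E b i hi))⟩, fun i hi => (hfin U i).2 ?_⟩⟩
    haveI : (DCoh.HD E i).IsQuasicoherent := (hcoh i hi).1
    haveI : SheafOfModules.IsFiniteType (R := X.ringCatSheaf) (DCoh.HD E i) := (hcoh i hi).2
    exact LQcoh.finite_sections _ U.2

end Groth.Agent.H7PseudoNoeth
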