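import Groth.Agent.Lib.H7KFlatSES
import Mathlib

/-! Bounded above complexes of flat modules are K-flat. -/

universe u

namespace Groth.Agent.H7KFlatBounded
open CategoryTheory Limits HomologicalComplex
open Groth.Agent H7KFlatMod

variable {R : Type u} [CommRing R] (P : CochainComplex (ModuleCat.{u} R) ℤ)

/-- `⊤` in degrees `≥ m`, `⊥` below -/
noncomputable def sub (m n : ℤ) : Submodule R (P.X n) := if m ≤ n then ⊤ else ⊥

lemma mem_sub {m n : ℤ} (x : P.X n) : x ∈ sub P m n ↔ (m ≤ n ∨ x = 0) := by
  unfold sub
  split <;> rename_i h <;> simp [h]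

lemma d_mem (m i j : ℤ) (x : P.X i) (hx : x ∈ sub P m i) : (P.d i j).hom x ∈ sub P m j := by
  by_cases hij : i + 1 = j
  · rw [mem_sub] at hx ⊢
    rcases hx with h | h
    · exact Or.inl (by omega)
    · exact Or.inr (by rw [h, map_zero])
  · rw [P.shape i j hij]; exact zero_mem _

/-- the stupid truncation -/
noncomputable def trunc (m : ℤ) : CochainComplex (ModuleCat.{u} R) ℤ where
  X n := ModuleCat.of R (sub P m n)
  d i j := ModuleCat.ofHom ((P.d i j).hom.restrict (d_mem P m i j))
  shape i j h := by
    ext x
    show (P.d i j).hom x.1 = 0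
    rw [P.shape i j h]; rfl
  d_comp_d' i j k _ _ := by
    ext x
    show (P.d j k).hom ((P.d i j).hom x.1) = 0
    exact LinearMap.congr_fun (congrArg ModuleCat.Hom.hom (P.d_comp_d i j k)) x.1

lemma sub_mono {m m' : ℤ} (h : m' ≤ m) (n : ℤ) : sub P m n ≤ sub P m' n := fun x hx => by
  rw [mem_sub] at hx ⊢
  exact hx.imp_left (fun hm => le_trans h hm)

noncomputable def incl {m m' : ℤ} (h : m' ≤ m) : trunc P m ⟶ trunc P m' where
  f n := ModuleCat.ofHom (Submodule.inclusion (sub_mono P h n))

noncomputable def toP (m : ℤ) : trunc P m ⟶ P where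
  f n := ModuleCat.ofHom (sub P m n).subtype

/-- the projection onto the bottom degree -/
noncomputable def proj (m : ℤ) :
    trunc P m ⟶ (HomologicalComplex.single (ModuleCat.{u} R) (ComplexShape.up ℤ) m).obj (P.X m) :=
  mkHomToSingle (ModuleCat.ofHom (sub P m m).subtype) fun i hi => by
    ext x
    have hi' : i + 1 = m := hi
    show (P.d i m).hom x.1 = 0
    have hx := (mem_sub P x.1).1 x.2
    rw [hx.resolve_left (by omega), map_zero]

lemma flat_trunc (hP : ∀ n, Module.Flat R (P.X n)) (m n : ℤ) : Module.Flat R ((trunc P m).X n) := by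
  show Module.Flat R (sub P m n)
  by_cases h : m ≤ n
  · exact Module.Flat.of_linearEquiv ((LinearEquiv.ofEq _ _ (show sub P m n = ⊤ from if_pos h)).trans Submodule.topEquiv)
  · have e : sub P m n = ⊥ := if_neg h
    have : Subsingleton (sub P m n) := by rw [e]; infer_instance
    infer_instance

lemma proj_apply (m : ℤ) (x : sub P m m) :
    ((proj P m).f m).hom x = (singleObjXSelf (ComplexShape.up ℤ) m (P.X m)).inv.hom x.1 := by
  simp [proj, mkHomToSingle, singleObjXSelf, trunc]
  rfl

set_option maxHeartbeats 2000000 in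
lemma step (hP : ∀ n, Module.Flat R (P.X n)) (m : ℤ) (h : KF R (trunc P (m + 1))) : KF R (trunc P m) := by
  let S : ShortComplex (CochainComplex (ModuleCat.{u} R) ℤ) :=
    ShortComplex.mk (incl P (show m ≤ m + 1 by omega)) (proj P m) (by
      refine HomologicalComplex.to_single_hom_ext ?_
      ext x
      have hx := (mem_sub P x.1).1 x.2
      show ((proj P m).f m).hom (Submodule.inclusion (sub_mono P (show m ≤ m + 1 by omega) m) x) = 0
      refine (proj_apply P m _).trans ?_
      show (singleObjXSelf (ComplexShape.up ℤ) m (P.X m)).inv.hom x.1 = 0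
      rw [hx.resolve_left (by omega), map_zero])
  have hS : S.ShortExact := by
    refine shortExact_of_degreewise_shortExact _ fun n => ?_
    refine ShortComplex.ShortExact.mk' ((ShortComplex.moduleCat_exact_iff _).2 ?_) ?_ ?_
    · intro x hx
      have hx' : ((proj P m).f n).hom x = 0 := hx
      refine ⟨(⟨x.1, ?_⟩ : sub P (m + 1) n), rfl⟩
      rw [mem_sub]
      rcases (mem_sub P x.1).1 x.2 with hn | hn
      · rcases hn.eq_or_lt with rfl | hlt
        · refine Or.inr ?_
          have h' := congrArg (singleObjXSelf (ComplexShape.up ℤ) m (P.X m)).hom.hom ((proj_apply P m x).symm.trans hx')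
          rw [map_zero] at h'
          exact (ConcreteCategory.congr_hom (singleObjXSelf (ComplexShape.up ℤ) m (P.X m)).inv_hom_id x.1).symm.trans h'
        · exact Or.inl (by omega)
      · exact Or.inr hn
    · exact (ModuleCat.mono_iff_injective _).2 fun a b hab =>
        Subtype.ext (congrArg (fun z : sub P m n => z.1) hab)
    · by_cases hn : n = m
      · subst hn
        refine (ModuleCat.epi_iff_surjective _).2 fun y => ?_
        refine ⟨(⟨(singleObjXSelf (ComplexShape.up ℤ) n (P.X n)).hom.hom y, by rw [mem_sub]; exact Or.inl le_rfl⟩ :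
          sub P n n), ?_⟩
        refine (proj_apply P n _).trans ?_
        exact ConcreteCategory.congr_hom (singleObjXSelf (ComplexShape.up ℤ) n (P.X n)).hom_inv_id y
      · exact ⟨fun _ _ _ => (HomologicalComplex.isZero_single_obj_X (ComplexShape.up ℤ) m (P.X m) n hn).eq_of_src _ _⟩
  have hflat : ∀ n, Module.Flat R (S.X₃.X n) := fun n => by
    by_cases hn : n = m
    · subst hn
      exact Module.Flat.of_linearEquiv (singleObjXSelf (ComplexShape.up ℤ) n (P.X n)).toLinearEquiv
    · have : Subsingleton (S.X₃.X n) :=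
        ModuleCat.subsingleton_of_isZero (HomologicalComplex.isZero_single_obj_X _ _ _ _ hn)
      infer_instance
  exact (H7KFlatSES.two_out_of_three S hS).2.1 h (kflat_single (P.X m) m)

/-- the truncations `σ_{≥ b + 1 - k}` -/
noncomputable def seq (b : ℤ) : ℕ ⥤ CochainComplex (ModuleCat.{u} R) ℤ where
  obj k := trunc P (b + 1 - k)
  map {k l} h := incl P (by have : k ≤ l := h.le; omega)

noncomputable def cocone (b : ℤ) : Cocone (seq P b) where
  pt := P
  ι := { app := fun k => toP P _ }

noncomputable def isColimit (b : ℤ) : IsColimit (cocone P b) :=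
  HomologicalComplex.isColimitOfEval _ _ fun n => by
    have hk0 : b + 1 - ((b + 1 - n).toNat : ℤ) ≤ n := by omega
    let lift : P.X n ⟶ (trunc P (b + 1 - ((b + 1 - n).toNat : ℤ))).X n :=
      ModuleCat.ofHom ((LinearMap.id : P.X n →ₗ[R] P.X n).codRestrict
        (sub P (b + 1 - ((b + 1 - n).toNat : ℤ)) n) fun y => (mem_sub P y).2 (Or.inl hk0))
    exact
      { desc := fun s => lift ≫ s.ι.app (b + 1 - n).toNat
        fac := fun s k => by
          rcases le_total k (b + 1 - n).toNat with h | h
          · have e := s.w (homOfLE h)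
            refine Eq.trans ?_ e
            refine Eq.trans (Category.assoc _ _ _).symm ?_
            exact congrArg (· ≫ s.ι.app (b + 1 - n).toNat) (by ext; rfl)
          · have e := s.w (homOfLE h)
            refine Eq.trans (congrArg (fun t => _ ≫ lift ≫ t) e.symm) ?_
            refine Eq.trans ?_ (Category.id_comp _)
            refine Eq.trans ((congrArg (_ ≫ ·) (Category.assoc _ _ _).symm).trans (Category.assoc _ _ _).symm) ?_
            exact congrArg (· ≫ s.ι.app k) (by ext; rfl)
        uniq := fun s m hm => by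
          show m = lift ≫ s.ι.app (b + 1 - n).toNat
          rw [← hm]
          rfl }

set_option maxHeartbeats 2000000 in
theorem kflat_of_boundedAbove (b : ℤ) (hb : ∀ i, b < i → IsZero (P.X i)) (hP : ∀ n, Module.Flat R (P.X n)) :
    KF R P := by
  have h : ∀ k : ℕ, KF R (trunc P (b + 1 - k)) := by
    intro k
    induction k with
    | zero =>
      have hz : ∀ n, Subsingleton ((trunc P (b + 1 - (0 : ℕ))).X n) := fun n => ⟨fun x y => by
        have key : ∀ z : sub P (b + 1 - (0 : ℕ)) n, z.1 = 0 := fun z => by
          rcases (mem_sub P z.1).1 z.2 with hn | hn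
          · exact @Subsingleton.elim _ (ModuleCat.subsingleton_of_isZero (hb n (by omega))) _ _
          · exact hn
        exact Subtype.ext ((key x).trans (key y).symm)⟩
      have := flat_trunc P hP (b + 1 - (0 : ℕ))
      exact kflat_zero_d _ fun i j => by
        ext x
        exact @Subsingleton.elim _ (hz j) _ _
    | succ k ih =>
      refine step P hP _ ?_
      rwa [show b + 1 - ((k + 1 : ℕ) : ℤ) + 1 = b + 1 - (k : ℤ) by omega]
  have : HasExactColimitsOfShape ℕ (ModuleCat.{u} R) :=
    (AB5OfSize_shrink.{0, 0, u, u} (ModuleCat.{u} R)).ofShape ℕ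
  exact H5KFlat.kflat_isColimit _ (isColimit P b) h

end Groth.Agent.H7KFlatBounded
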