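import Groth.Agent.Lib.H7LTensorMod
import Groth.Agent.Lib.H7KFlatBounded
import Mathlib

/-! Tor amplitude from flat representatives. -/

universe u v w
open CategoryTheory Limits AlgebraicGeometry HomologicalComplex MonoidalCategory Pretriangulated

namespace Groth.Agent.H7TorAmp
open Groth.Agent H5TenCx H7KFlatMod H7KFlatSheaf H7KFlatResolution H7KFlatResFun H7HasLpull H7LpullCalc H7LTensorMod

attribute [local instance] HasDerivedCategory.standard

variable {X Y : Scheme.{u}}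

theorem skf_of_vanishes {E : CochainComplex X.Modules ℤ} {a b : ℤ} (hE : DCoh.VanishesOutside E a b)
    (hflat : ∀ n, FlatMod.IsFlat (E.X n)) : SKF E := fun x =>
  H7KFlatBounded.kflat_of_boundedAbove _ b
    (fun i hi => Functor.map_isZero (DerSch.stalkFunctor X x) (hE i (Or.inr hi))) (fun n => hflat n x)

lemma isZero_HD_Q {E : CochainComplex X.Modules ℤ} (i : ℤ) (h : IsZero (E.X i)) :
    IsZero (DCoh.HD (DerivedCategory.Q.obj E) i) :=
  (exactAt_iff_isZero_homology _ _).1 (E.sc i |>.exact_of_isZero_X₂ h) |>.of_iso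
    ((DerivedCategory.homologyFunctorFactors X.Modules i).app E)

/-- transport of vanishing of cohomology along an isomorphism -/
lemma isZero_HD_of_iso {A B : DCoh.D X} (e : A ≅ B) {i : ℤ} (h : IsZero (DCoh.HD B i)) : IsZero (DCoh.HD A i) :=
  h.of_iso ((DerivedCategory.homologyFunctor X.Modules i).mapIso e)

theorem torAmp_of_flatAmp {E : DCoh.D X} {a b : ℤ} (h : DCoh.HasFlatAmplitudeIn a b E) :
    DCoh.HasTorAmplitudeIn a b E := by
  intro F _ i hi
  obtain ⟨K, hK, hflat, ⟨e⟩⟩ := h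
  refine isZero_HD_of_iso ((DCoh.LTensorMod F).mapIso e.symm ≪≫ ltenIso F (skf_of_vanishes hK hflat)) ?_
  exact isZero_HD_Q i ((DCoh.tensorRightMod F).map_isZero (hK i hi))

lemma flat_pullback (f : X ⟶ Y) {M : Y.Modules} (hM : FlatMod.IsFlat M) :
    FlatMod.IsFlat ((Scheme.Modules.pullback f).obj M) := fun x => by
  let φ := (f.stalkMap x).hom
  letI := φ.toAlgebra
  have h1 : Module.Flat (Y.presheaf.stalk (f.base x)) ((DerSch.stalkFunctor Y (f.base x)).obj M) := hM (f.base x)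
  have h2 : Module.Flat (X.presheaf.stalk x)
      ((ModuleCat.extendScalars φ).obj ((DerSch.stalkFunctor Y (f.base x)).obj M)) :=
    inferInstanceAs (Module.Flat (X.presheaf.stalk x)
      (TensorProduct (Y.presheaf.stalk (f.base x)) (X.presheaf.stalk x) ((DerSch.stalkFunctor Y (f.base x)).obj M)))
  have e : (DerSch.stalkFunctor X x).obj ((Scheme.Modules.pullback f).obj M) ≅
      (ModuleCat.extendScalars φ).obj ((DerSch.stalkFunctor Y (f.base x)).obj M) := (H7StalkPull.pullStalkIso f x).app M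
  exact Module.Flat.of_linearEquiv e.toLinearEquiv

theorem flatAmp_lpull (f : X ⟶ Y) [DCoh.HasLpull f] {E : DCoh.D Y} {a b : ℤ}
    (h : DCoh.HasFlatAmplitudeIn a b E) : DCoh.HasFlatAmplitudeIn a b ((DCoh.Lpull f).obj E) := by
  obtain ⟨K, hK, hflat, ⟨e⟩⟩ := h
  exact ⟨(pullCx f).obj K, fun i hi => (Scheme.Modules.pullback f).map_isZero (hK i hi),
    fun i => flat_pullback f (hflat i),
    ⟨(lpullIso f (skf_of_vanishes hK hflat)).symm ≪≫ (DCoh.Lpull f).mapIso e⟩⟩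

theorem torAmp_of_retract {K L : DCoh.D X} {a b : ℤ} (i : K ⟶ L) (p : L ⟶ K) (hip : i ≫ p = 𝟙 K)
    (h : DCoh.HasTorAmplitudeIn a b L) : DCoh.HasTorAmplitudeIn a b K := by
  intro F _ n hn
  let G := DCoh.LTensorMod F ⋙ DerivedCategory.homologyFunctor X.Modules n
  refine (IsZero.iff_id_eq_zero _).2 ?_
  have hz : IsZero (G.obj L) := h F n hn
  show 𝟙 (G.obj K) = 0
  rw [← G.map_id, ← hip, G.map_comp, hz.eq_of_tgt (G.map i) 0, zero_comp]

/-- every distinguished triangle is, on objects, a cone of complexes with K-flat stalks -/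
theorem exists_skf_cone (T : Triangle (DCoh.D X)) (hT : T ∈ distinguishedTriangles) :
    ∃ (K L : CochainComplex X.Modules ℤ) (φ : K ⟶ L), SKF K ∧ SKF L ∧
      Nonempty (T ≅ DerivedCategory.Q.mapTriangle.obj (CochainComplex.mappingCone.triangle φ)) := by
  obtain ⟨K, L, φ, ⟨e⟩⟩ := (DerivedCategory.mem_distTriang_iff _).1 hT
  have hd : ∀ {A B : CochainComplex X.Modules ℤ} (ψ : A ⟶ B),
      DerivedCategory.Q.mapTriangle.obj (CochainComplex.mappingCone.triangle ψ) ∈ distinguishedTriangles :=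
    fun ψ => (DerivedCategory.mem_distTriang_iff _).2 ⟨_, _, ψ, ⟨Iso.refl _⟩⟩
  have := quasiIso_resNat K
  have := quasiIso_resNat L
  have hK : IsIso (DerivedCategory.Q.map (resNat.app K)) :=
    (DerivedCategory.isIso_Q_map_iff_quasiIso _ _).2 inferInstance
  have hL : IsIso (DerivedCategory.Q.map (resNat.app L)) :=
    (DerivedCategory.isIso_Q_map_iff_quasiIso _ _).2 inferInstance
  refine ⟨_, _, resFunctor.map φ, skf_resFunctor K, skf_resFunctor L, ⟨e ≪≫
    (isoTriangleOfIso₁₂ _ _ (hd (resFunctor.map φ)) (hd φ)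
      (@asIso _ _ _ _ _ hK) (@asIso _ _ _ _ _ hL) ?_).symm⟩⟩
  show DerivedCategory.Q.map (resFunctor.map φ) ≫ DerivedCategory.Q.map (resNat.app L) =
    DerivedCategory.Q.map (resNat.app K) ≫ DerivedCategory.Q.map φ
  rw [← Functor.map_comp, ← Functor.map_comp, resNat.naturality]
  rfl

lemma isZero₃ (T : Triangle (DCoh.D X)) (hT : T ∈ distinguishedTriangles) (n : ℤ)
    (h₂ : IsZero (DCoh.HD T.obj₂ n)) (h₁ : IsZero (DCoh.HD T.obj₁ (n + 1))) : IsZero (DCoh.HD T.obj₃ n) :=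
  (DerivedCategory.HomologySequence.exact₃ T hT n (n + 1)).isZero_X₂ (h₂.eq_of_src _ _) (h₁.eq_of_tgt _ _)

lemma isZero₂ (T : Triangle (DCoh.D X)) (hT : T ∈ distinguishedTriangles) (n : ℤ)
    (h₁ : IsZero (DCoh.HD T.obj₁ n)) (h₃ : IsZero (DCoh.HD T.obj₃ n)) : IsZero (DCoh.HD T.obj₂ n) :=
  (DerivedCategory.HomologySequence.exact₂ T hT n).isZero_X₂ (h₁.eq_of_src _ _) (h₃.eq_of_tgt _ _)

lemma isZero₁ (T : Triangle (DCoh.D X)) (hT : T ∈ distinguishedTriangles) (n₀ n : ℤ) (h : n₀ + 1 = n)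
    (h₂ : IsZero (DCoh.HD T.obj₂ n)) (h₃ : IsZero (DCoh.HD T.obj₃ n₀)) : IsZero (DCoh.HD T.obj₁ n) :=
  (DerivedCategory.HomologySequence.exact₁ T hT n₀ n h).isZero_X₂ (h₃.eq_of_src _ _) (h₂.eq_of_tgt _ _)

/-- the long exact sequence of `- ⊗ᴸ F` attached to a distinguished triangle, on vanishing -/
theorem exists_ten_triangle (T : Triangle (DCoh.D X)) (hT : T ∈ distinguishedTriangles) (F : X.Modules)
    [DCoh.HasLTensorMod F] : ∃ T' : Triangle (DCoh.D X), T' ∈ distinguishedTriangles ∧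
      Nonempty ((DCoh.LTensorMod F).obj T.obj₁ ≅ T'.obj₁) ∧ Nonempty ((DCoh.LTensorMod F).obj T.obj₂ ≅ T'.obj₂) ∧
      Nonempty ((DCoh.LTensorMod F).obj T.obj₃ ≅ T'.obj₃) := by
  obtain ⟨K, L, φ, hK, hL, ⟨e⟩⟩ := exists_skf_cone T hT
  refine ⟨DerivedCategory.Q.mapTriangle.obj (CochainComplex.mappingCone.triangle ((tenCx F).map φ)),
    (DerivedCategory.mem_distTriang_iff _).2 ⟨_, _, _, ⟨Iso.refl _⟩⟩, ?_, ?_, ?_⟩
  · exact ⟨(DCoh.LTensorMod F).mapIso (Triangle.π₁.mapIso e) ≪≫ ltenIso F hK⟩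
  · exact ⟨(DCoh.LTensorMod F).mapIso (Triangle.π₂.mapIso e) ≪≫ ltenIso F hL⟩
  · exact ⟨(DCoh.LTensorMod F).mapIso (Triangle.π₃.mapIso e) ≪≫ ltenIso F (skf_cone φ hK hL) ≪≫
      DerivedCategory.Q.mapIso (CochainComplex.mappingCone.mapHomologicalComplexIso φ (DCoh.tensorRightMod F))⟩

end Groth.Agent.H7TorAmp
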