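import Groth.Agent.Lib.H6.PullDesc
import Groth.Agent.Lib.H6.ProjQCoh
import Groth.Agent.Lib.H7TorAmp
import Groth.Agent.Lib.H7PseudoNoeth
import Groth.Agent.Lib.H4MilnorFinite

/-! Modules on a pinching square. -/

set_option autoImplicit false
set_option linter.all false
set_option maxHeartbeats 1000000
set_option backward.isDefEq.respectTransparency.types false

universe u

open CategoryTheory CategoryTheory.Limits AlgebraicGeometry TopologicalSpace Opposite TensorProduct

namespace Groth.Agent.H4PinchMod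
open Groth.Agent H6.PullDesc

/-- The fibre square of rings attached to two ring maps. -/
theorem exists_square {R A B : Type u} [CommRing R] [CommRing A] [CommRing B] [Algebra R A] [Algebra R B]
    (hs : Function.Surjective (algebraMap R B))
    (hinf : RingHom.ker (algebraMap R A) ⊓ RingHom.ker (algebraMap R B) = ⊥)
    (hmap : ∀ a ∈ Ideal.map (algebraMap R A) (RingHom.ker (algebraMap R B)), ∃ i ∈ RingHom.ker (algebraMap R B), algebraMap R A i = a) :
    ∃ (A'' : Type u) (_ : CommRing A'') (_ : Algebra B A'') (_ : Algebra A A'') (_ : Algebra R A'')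
      (_ : IsScalarTower R B A'') (_ : IsScalarTower R A A''), EtMil.IsFibreSquare R B A A'' := by
  let J := RingHom.ker (algebraMap R B)
  let K := J.map (algebraMap R A)
  let e : (R ⧸ J) ≃ₐ[R] B := Ideal.quotientKerAlgEquivOfSurjective (f := Algebra.ofId R B) hs
  let q : R ⧸ J →+* A ⧸ K := Ideal.quotientMap K (algebraMap R A) Ideal.le_comap_map
  letI : Algebra B (A ⧸ K) := (q.comp e.symm.toRingEquiv.toRingHom).toAlgebra
  have hq : ∀ r : R, algebraMap B (A ⧸ K) (algebraMap R B r) = Ideal.Quotient.mk K (algebraMap R A r) := fun r => by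
    show q (e.symm (algebraMap R B r)) = _
    rw [AlgEquiv.commutes, Ideal.Quotient.algebraMap_eq, Ideal.quotientMap_mk]
  haveI : IsScalarTower R B (A ⧸ K) := IsScalarTower.of_algebraMap_eq fun r => ((hq r).trans rfl).symm
  refine ⟨A ⧸ K, inferInstance, inferInstance, inferInstance, inferInstance, inferInstance, inferInstance,
    Ideal.Quotient.mk_surjective, fun b a h => ?_⟩
  obtain ⟨r, rfl⟩ := hs b
  rw [hq, Ideal.Quotient.algebraMap_eq, Ideal.Quotient.eq] at h
  obtain ⟨i, hi, e'⟩ := hmap _ h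
  have hi' : algebraMap R B i = 0 := hi
  refine ⟨r - i, ⟨by rw [map_sub, hi', sub_zero], by rw [map_sub, e']; ring⟩, fun y hy => ?_⟩
  have : y - (r - i) ∈ RingHom.ker (algebraMap R A) ⊓ RingHom.ker (algebraMap R B) := by
    refine ⟨?_, ?_⟩
    · show algebraMap R A _ = 0
      rw [map_sub, hy.2, map_sub, e']; ring
    · show algebraMap R B _ = 0
      rw [map_sub, hy.1, map_sub, hi']; ring
  rw [hinf, Ideal.mem_bot, sub_eq_zero] at this
  exact this

variable {X Y Y' : Scheme.{u}} (f : X ⟶ Y) (u : Y' ⟶ Y) [IsAffineHom f] [IsClosedImmersion u]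

/-- the hypothesis of a pinching square -/
def Cond : Prop := ∀ V ∈ Y.affineOpens,
  RingHom.ker (f.app V).hom ⊓ RingHom.ker (u.app V).hom = ⊥ ∧
  ∀ a ∈ Ideal.map (f.app V).hom (RingHom.ker (u.app V).hom),
    ∃ i ∈ RingHom.ker (u.app V).hom, (f.app V).hom i = a

/-- sections pulled back along an affine morphism -/
theorem chart {Z : Scheme.{u}} (g : Z ⟶ Y) [IsAffineHom g] (G : Y.Modules) [G.IsQuasicoherent] {V : Y.Opens}
    (hV : IsAffineOpen V) :
    Nonempty ((Scheme.Modules.pullback (hV.preimage g).fromSpec).obj ((Scheme.Modules.pullback g).obj G) ≅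
      tilde ((ModuleCat.extendScalars.{u, u, u} (g.app V).hom).obj (secMod G hV))) := by
  refine nonempty_chartIso G g hV (g.app V) _ ?_
  rw [Scheme.Hom.app_eq_appLE, IsAffineOpen.SpecMap_appLE_fromSpec]

theorem flat_side {Z : Scheme.{u}} (g : Z ⟶ Y) [IsAffineHom g] (G : Y.Modules) [G.IsQuasicoherent] {V : Y.Opens}
    (hV : IsAffineOpen V) (h : FlatMod.IsFlat ((Scheme.Modules.pullback g).obj G)) :
    letI := (g.app V).hom.toAlgebra
    Module.Flat Γ(Z, g ⁻¹ᵁ V) (Γ(Z, g ⁻¹ᵁ V) ⊗[Γ(Y, V)] (secMod G hV)) := by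
  letI := (g.app V).hom.toAlgebra
  obtain ⟨e⟩ := chart g G hV
  exact H7TildeAmp.flat_of_tilde (A := Γ(Z, g ⁻¹ᵁ V)) ((ModuleCat.extendScalars.{u, u, u} (g.app V).hom).obj (secMod G hV))
    (H7FlatCover.isFlat_of_iso e (H7TorAmp.flat_pullback (hV.preimage g).fromSpec h))

theorem finite_side {Z : Scheme.{u}} (g : Z ⟶ Y) [IsAffineHom g] (G : Y.Modules) [G.IsQuasicoherent] {V : Y.Opens}
    (hV : IsAffineOpen V) (h : CohB1.IsFT ((Scheme.Modules.pullback g).obj G)) :
    letI := (g.app V).hom.toAlgebra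
    Module.Finite Γ(Z, g ⁻¹ᵁ V) (Γ(Z, g ⁻¹ᵁ V) ⊗[Γ(Y, V)] (secMod G hV)) := by
  letI := (g.app V).hom.toAlgebra
  obtain ⟨e⟩ := chart g G hV
  haveI := H6.ProjQCoh.isQCoh_pullback g G
  haveI : ((Scheme.Modules.pullback (hV.preimage g).fromSpec).obj ((Scheme.Modules.pullback g).obj G)).IsQuasicoherent :=
    H6.ProjQCoh.isQCoh_pullback _ _
  exact finite_of_isFT_tilde _ (isFT_of_iso e (isFT_pullback _ _ h))

theorem fp_side {Z : Scheme.{u}} (g : Z ⟶ Y) [IsAffineHom g] (G : Y.Modules) [G.IsQuasicoherent] {V : Y.Opens}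
    (hV : IsAffineOpen V) (h : FlatMod.IsFinLocFree ((Scheme.Modules.pullback g).obj G)) :
    letI := (g.app V).hom.toAlgebra
    Module.FinitePresentation Γ(Z, g ⁻¹ᵁ V) (Γ(Z, g ⁻¹ᵁ V) ⊗[Γ(Y, V)] (secMod G hV)) := by
  letI := (g.app V).hom.toAlgebra
  obtain ⟨e⟩ := chart g G hV
  exact finitePresentation_of_finLocFree_tilde _ (H7FinFree.finLocFree_of_iso e (H7PerfPull.finLocFree_pullback _ h))

theorem zero_side {Z : Scheme.{u}} (g : Z ⟶ Y) [IsAffineHom g] (G : Y.Modules) [G.IsQuasicoherent] {V : Y.Opens}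
    (hV : IsAffineOpen V) (h : IsZero ((Scheme.Modules.pullback g).obj G)) :
    letI := (g.app V).hom.toAlgebra
    Subsingleton (Γ(Z, g ⁻¹ᵁ V) ⊗[Γ(Y, V)] (secMod G hV)) := by
  letI := (g.app V).hom.toAlgebra
  obtain ⟨e⟩ := chart g G hV
  have hz := ((Scheme.Modules.pullback (hV.preimage g).fromSpec).map_isZero h).of_iso e.symm
  have h0 : IsZero ((ModuleCat.extendScalars.{u, u, u} (g.app V).hom).obj (secMod G hV)) := by
    rw [IsZero.iff_id_eq_zero]
    refine (tilde.functor Γ(Z, g ⁻¹ᵁ V)).map_injective ?_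
    exact hz.eq_of_src _ _
  exact (ModuleCat.isZero_iff_subsingleton.1 h0 :)

theorem sec_flat (hM : Cond f u) (G : Y.Modules) [G.IsQuasicoherent] {V : Y.Opens} (hV : IsAffineOpen V)
    (h₁ : FlatMod.IsFlat ((Scheme.Modules.pullback u).obj G)) (h₂ : FlatMod.IsFlat ((Scheme.Modules.pullback f).obj G)) :
    Module.Flat Γ(Y, V) (secMod G hV) := by
  letI := (f.app V).hom.toAlgebra
  letI := (u.app V).hom.toAlgebra
  obtain ⟨A'', _, _, _, _, _, _, hsq⟩ := exists_square (R := Γ(Y, V)) (A := Γ(X, f ⁻¹ᵁ V)) (B := Γ(Y', u ⁻¹ᵁ V))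
    (u.app_surjective V hV) (hM V hV).1 (hM V hV).2
  haveI := flat_side u G hV h₁
  haveI := flat_side f G hV h₂
  exact H4MilnorFinite.flat hsq

theorem sec_finite (hM : Cond f u) (G : Y.Modules) [G.IsQuasicoherent] {V : Y.Opens} (hV : IsAffineOpen V)
    (h₁ : CohB1.IsFT ((Scheme.Modules.pullback u).obj G)) (h₂ : CohB1.IsFT ((Scheme.Modules.pullback f).obj G)) :
    Module.Finite Γ(Y, V) (secMod G hV) := by
  letI := (f.app V).hom.toAlgebra
  letI := (u.app V).hom.toAlgebra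
  obtain ⟨A'', _, _, _, _, _, _, hsq⟩ := exists_square (R := Γ(Y, V)) (A := Γ(X, f ⁻¹ᵁ V)) (B := Γ(Y', u ⁻¹ᵁ V))
    (u.app_surjective V hV) (hM V hV).1 (hM V hV).2
  haveI := finite_side u G hV h₁
  haveI := finite_side f G hV h₂
  exact H4MilnorFinite.finite hsq

theorem sec_zero (hM : Cond f u) (G : Y.Modules) [G.IsQuasicoherent] {V : Y.Opens} (hV : IsAffineOpen V)
    (h₁ : IsZero ((Scheme.Modules.pullback u).obj G)) (h₂ : IsZero ((Scheme.Modules.pullback f).obj G)) :
    Subsingleton (secMod G hV) := by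
  letI := (f.app V).hom.toAlgebra
  letI := (u.app V).hom.toAlgebra
  obtain ⟨A'', _, _, _, _, _, _, hsq⟩ := exists_square (R := Γ(Y, V)) (A := Γ(X, f ⁻¹ᵁ V)) (B := Γ(Y', u ⁻¹ᵁ V))
    (u.app_surjective V hV) (hM V hV).1 (hM V hV).2
  haveI := zero_side u G hV h₁
  haveI := zero_side f G hV h₂
  exact H4MilnorFinite.subsingleton_of_tensor hsq

theorem isFlat (hM : Cond f u) (G : Y.Modules) [G.IsQuasicoherent]
    (h₁ : FlatMod.IsFlat ((Scheme.Modules.pullback u).obj G)) (h₂ : FlatMod.IsFlat ((Scheme.Modules.pullback f).obj G)) :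
    FlatMod.IsFlat G := fun x => by
  obtain ⟨V, hV, hxV, -⟩ := exists_isAffineOpen_mem_and_subset (X := Y) (x := x) (U := ⊤) trivial
  haveI := sec_flat f u hM G hV h₁ h₂
  obtain ⟨e⟩ := nonempty_tildeIso G hV
  have h3 : FlatMod.IsFlat (G.restrict hV.fromSpec) :=
    H7FlatCover.isFlat_of_iso (e.symm ≪≫ ((Scheme.Modules.restrictFunctorIsoPullback hV.fromSpec).app G).symm)
      (H7TildeAmp.flat_tilde (A := Γ(Y, V)) (secMod G hV))
  obtain ⟨p, rfl⟩ : x ∈ Set.range hV.fromSpec.base := by rw [hV.range_fromSpec]; exact hxV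
  exact H7PerfPull.flatAt_of_restrict hV.fromSpec h3 p

theorem isFiniteType (hM : Cond f u) (G : Y.Modules) [G.IsQuasicoherent]
    (h₁ : CohB1.IsFT ((Scheme.Modules.pullback u).obj G)) (h₂ : CohB1.IsFT ((Scheme.Modules.pullback f).obj G)) :
    CohB1.IsFT G := by
  choose V hV hx using fun x : Y => exists_isAffineOpen_mem_and_subset (X := Y) (x := x) (U := ⊤) trivial
  exact LQcoh.isFiniteType_of_finite G V hV (eq_top_iff.2 fun x _ => Opens.mem_iSup.2 ⟨x, (hx x).1⟩)
    fun x => (LQcoh.finite_restrict_iff G (hV x)).1 (sec_finite f u hM G (hV x) h₁ h₂)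

theorem isFinLocFree (hM : Cond f u) (G : Y.Modules) [G.IsQuasicoherent]
    (h₁ : FlatMod.IsFinLocFree ((Scheme.Modules.pullback u).obj G)) (h₂ : FlatMod.IsFinLocFree ((Scheme.Modules.pullback f).obj G)) :
    FlatMod.IsFinLocFree G := by
  refine H7LocFreeLocus.finLocFree_local fun x => ?_
  obtain ⟨V, hV, hxV, -⟩ := exists_isAffineOpen_mem_and_subset (X := Y) (x := x) (U := ⊤) trivial
  refine ⟨Spec Γ(Y, V), hV.fromSpec, inferInstance, by rw [hV.range_fromSpec]; exact hxV, ?_⟩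
  letI := (f.app V).hom.toAlgebra
  letI := (u.app V).hom.toAlgebra
  obtain ⟨A'', _, _, _, _, _, _, hsq⟩ := exists_square (R := Γ(Y, V)) (A := Γ(X, f ⁻¹ᵁ V)) (B := Γ(Y', u ⁻¹ᵁ V))
    (u.app_surjective V hV) (hM V hV).1 (hM V hV).2
  haveI := fp_side u G hV h₁
  haveI := fp_side f G hV h₂
  haveI := flat_side u G hV (H7PerfPull.flat_of_finLocFree h₁)
  haveI := flat_side f G hV (H7PerfPull.flat_of_finLocFree h₂)
  haveI : Module.Flat Γ(Y, V) (secMod G hV) := H4MilnorFinite.flat hsq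
  haveI : Module.FinitePresentation Γ(Y, V) (secMod G hV) := H4MilnorFinite.finitePresentation hsq
  haveI : Module.Projective Γ(Y, V) (secMod G hV) := Module.Flat.projective_of_finitePresentation
  obtain ⟨e'⟩ := nonempty_tildeIso G hV
  exact H7FinFree.finLocFree_of_iso e'.symm (H7TildePerf.finLocFree_tilde (R := Γ(Y, V)) (secMod G hV))

theorem isZero (hM : Cond f u) (G : Y.Modules) [G.IsQuasicoherent]
    (h₁ : IsZero ((Scheme.Modules.pullback u).obj G)) (h₂ : IsZero ((Scheme.Modules.pullback f).obj G)) :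
    IsZero G := by
  refine H7PseudoNoeth.isZero_of_cover fun x => ?_
  obtain ⟨V, hV, hxV, -⟩ := exists_isAffineOpen_mem_and_subset (X := Y) (x := x) (U := ⊤) trivial
  refine ⟨Γ(Y, V), hV.fromSpec, inferInstance, by rw [hV.range_fromSpec]; exact hxV, ?_⟩
  obtain ⟨e⟩ := nonempty_tildeIso G hV
  haveI := sec_zero f u hM G hV h₁ h₂
  exact ((tilde.functor Γ(Y, V)).map_isZero (ModuleCat.isZero_of_subsingleton (secMod G hV))).of_iso
    (((Scheme.Modules.restrictFunctorIsoPullback hV.fromSpec).app G) ≪≫ e)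

end Groth.Agent.H4PinchMod
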