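import Mathlib

/-!
`X(Π A i) = Π X(A i)` for a quasi-compact quasi-separated scheme `X`.
-/

set_option autoImplicit false

universe u

open CategoryTheory Limits AlgebraicGeometry TensorProduct

namespace Groth.Agent.H4PointsPi

variable {ι : Type u} (A : ι → CommRingCat.{u})

/-- products of basic localizations -/
abbrev Q (a : ∀ i, A i) : Type u := ∀ i, Localization.Away (a i)

/-- the monoid it inverts -/
abbrev S (a : ∀ i, A i) : Submonoid (∀ i, A i) :=
  Submonoid.pi Set.univ fun i => Submonoid.powers (a i)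

example (a : ∀ i, A i) : IsLocalization (S A a) (Q A a) := inferInstance

/-- the comparison from the tensor product of two localizations -/
noncomputable def toAway {a b : ∀ i, A i} :
    Q A a ⊗[∀ i, A i] Q A b →ₐ[∀ i, A i] Q A (fun i => a i * b i) :=
  have ha : ∀ y : S A a, IsUnit (algebraMap (∀ i, A i) (Q A fun i => a i * b i) y) := fun y =>
    Pi.isUnit_iff.2 fun i => by
      obtain ⟨n, hn⟩ := y.2 i ⟨⟩
      change IsUnit (algebraMap (A i) (Localization.Away (a i * b i)) (y.1 i))
      rw [← hn, map_pow]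
      refine IsUnit.pow _ (isUnit_of_mul_isUnit_left
        (y := algebraMap (A i) (Localization.Away (a i * b i)) (b i)) ?_)
      rw [← map_mul]; exact IsLocalization.Away.algebraMap_isUnit _
  have hb : ∀ y : S A b, IsUnit (algebraMap (∀ i, A i) (Q A fun i => a i * b i) y) := fun y =>
    Pi.isUnit_iff.2 fun i => by
      obtain ⟨n, hn⟩ := y.2 i ⟨⟩
      change IsUnit (algebraMap (A i) (Localization.Away (a i * b i)) (y.1 i))
      rw [← hn, map_pow]
      refine IsUnit.pow _ (isUnit_of_mul_isUnit_right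
        (x := algebraMap (A i) (Localization.Away (a i * b i)) (a i)) ?_)
      rw [← map_mul]; exact IsLocalization.Away.algebraMap_isUnit _
  Algebra.TensorProduct.productMap
    (IsLocalization.liftAlgHom (M := S A a) (f := Algebra.ofId _ _) ha)
    (IsLocalization.liftAlgHom (M := S A b) (f := Algebra.ofId _ _) hb)

theorem toAway_bijective (a b : ∀ i, A i) : Function.Bijective (toAway A (a := a) (b := b)) := by
  set T := Q A a ⊗[∀ i, A i] Q A b
  have hl : ∀ s : S A a, IsUnit (algebraMap (∀ i, A i) T s.1) := fun s => by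
    have := (IsLocalization.map_units (Q A a) s).map
      (Algebra.TensorProduct.includeLeftRingHom : Q A a →+* T)
    exact this
  have hr : ∀ s : S A b, IsUnit (algebraMap (∀ i, A i) T s.1) := fun s => by
    have := (IsLocalization.map_units (Q A b) s).map
      (Algebra.TensorProduct.includeRight : Q A b →ₐ[∀ i, A i] T)
    rwa [AlgHom.commutes] at this
  have key : ∀ z : T, ∃ (c : ∀ i, A i) (s : S A a) (t : S A b),
      z * algebraMap _ T (s.1 * t.1) = algebraMap _ T c := by
    intro z
    induction z using TensorProduct.induction_on with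
    | zero => exact ⟨0, 1, 1, by simp⟩
    | tmul x y =>
      obtain ⟨⟨c1, s⟩, h1⟩ := IsLocalization.surj (S A a) x
      obtain ⟨⟨c2, t⟩, h2⟩ := IsLocalization.surj (S A b) y
      refine ⟨c1 * c2, s, t, ?_⟩
      have e2 : ∀ c, algebraMap (∀ i, A i) T c = (1 : Q A a) ⊗ₜ algebraMap _ (Q A b) c := by
        intro c
        rw [← AlgHom.commutes (Algebra.TensorProduct.includeRight :
          Q A b →ₐ[∀ i, A i] T) c]
        rfl
      have e1 : ∀ c, algebraMap (∀ i, A i) T c = algebraMap _ (Q A a) c ⊗ₜ (1 : Q A b) := by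
        intro c
        rw [← AlgHom.commutes (Algebra.TensorProduct.includeLeft :
          Q A a →ₐ[∀ i, A i] T) c]
        rfl
      dsimp only at h1 h2
      rw [map_mul, map_mul, e1 s.1, e2 t.1, e1 c1, e2 c2]
      erw [Algebra.TensorProduct.tmul_mul_tmul, Algebra.TensorProduct.tmul_mul_tmul,
        Algebra.TensorProduct.tmul_mul_tmul]
      rw [mul_one, one_mul, one_mul, mul_one, h1, h2]
    | add x y hx hy =>
      obtain ⟨c, s, t, h1⟩ := hx
      obtain ⟨c', s', t', h2⟩ := hy
      refine ⟨c * (s'.1 * t'.1) + c' * (s.1 * t.1), s * s', t * t', ?_⟩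
      simp only [map_add, map_mul, Submonoid.coe_mul] at *
      linear_combination (algebraMap _ T s'.1 * algebraMap _ T t'.1) * h1
        + (algebraMap _ T s.1 * algebraMap _ T t.1) * h2
  constructor
  · rw [injective_iff_map_eq_zero]
    intro z hz
    obtain ⟨c, s, t, h⟩ := key z
    have h0 : algebraMap (∀ i, A i) (Q A fun i => a i * b i) c = 0 := by
      have := congrArg (toAway A) h
      rw [map_mul, hz, zero_mul, AlgHom.commutes] at this
      exact this.symm
    have : ∀ i, ∃ n : ℕ, (a i * b i) ^ n * c i = 0 := fun i => by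
      obtain ⟨⟨m, n, rfl⟩, hm⟩ := (IsLocalization.map_eq_zero_iff (Submonoid.powers (a i * b i))
        (Localization.Away (a i * b i)) (c i)).1 (congrFun h0 i)
      exact ⟨n, hm⟩
    choose n hn using this
    let s' : S A a := ⟨fun i => a i ^ n i, fun i _ => ⟨n i, rfl⟩⟩
    let t' : S A b := ⟨fun i => b i ^ n i, fun i _ => ⟨n i, rfl⟩⟩
    have hc : s'.1 * t'.1 * c = 0 := funext fun i => by
      simpa [s', t', ← mul_pow] using hn i
    have hu : IsUnit (algebraMap _ T (s.1 * t.1) * algebraMap _ T (s'.1 * t'.1)) := by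
      simp only [map_mul]
      exact ((hl s).mul (hr t)).mul ((hl s').mul (hr t'))
    refine hu.mul_left_eq_zero.1 ?_
    rw [← mul_assoc, h, ← map_mul, mul_comm c, hc, map_zero]
  · intro w
    obtain ⟨⟨c, m⟩, hcm⟩ := IsLocalization.surj (S A fun i => a i * b i) w
    choose n hn using fun i => m.2 i ⟨⟩
    let s : S A a := ⟨fun i => a i ^ n i, fun i _ => ⟨n i, rfl⟩⟩
    let t : S A b := ⟨fun i => b i ^ n i, fun i _ => ⟨n i, rfl⟩⟩
    have hm : s.1 * t.1 = m.1 := funext fun i => by
      simpa [s, t, ← mul_pow] using hn i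
    obtain ⟨v, hv⟩ := (hl s).mul (hr t)
    rw [← map_mul, hm] at hv
    refine ⟨algebraMap _ T c * ↑v⁻¹, ?_⟩
    refine (IsLocalization.map_units _ m).mul_right_cancel ?_
    have : toAway A ((↑v⁻¹ : T) * algebraMap _ T m.1) = 1 := by rw [← hv, Units.inv_mul, map_one]
    rw [map_mul, AlgHom.commutes] at this
    rw [map_mul, AlgHom.commutes, hcm, mul_assoc, this, mul_one]

variable (X : Scheme.{u}) [CompactSpace X] [QuasiSeparatedSpace X]

theorem exists_partition {J : Type u} [Fintype J] {R : CommRingCat.{u}}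
    (W : J → (Spec R).Opens) (hW : ∀ p, ∃ j, p ∈ W j) :
    ∃ a : J → R, ∑ j, a j = 1 ∧ ∀ j, PrimeSpectrum.basicOpen (a j) ≤ W j := by
  choose I hI using fun j =>
    (PrimeSpectrum.isClosed_iff_zeroLocus_ideal _).1 (W j).isOpen.isClosed_compl
  have htop : ⨆ j, I j = ⊤ := by
    rw [← PrimeSpectrum.zeroLocus_empty_iff_eq_top, Set.eq_empty_iff_forall_notMem]
    intro p hp
    obtain ⟨j, hj⟩ := hW p
    have : p ∈ (↑(W j) : Set (Spec R))ᶜ := by
      rw [hI j]; exact fun x hx => hp (Ideal.mem_iSup_of_mem j hx)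
    exact this hj
  have h1 : (1 : R) ∈ ⨆ j ∈ (Finset.univ : Finset J), I j := by simp [htop]
  obtain ⟨μ, hμ⟩ := (Submodule.mem_iSup_finset_iff_exists_sum (p := I) _).1 h1
  refine ⟨fun j => μ j, by simpa using hμ, fun j p hp => ?_⟩
  by_contra hc
  have hc' : p ∈ PrimeSpectrum.zeroLocus (I j : Set R) := by rw [← hI j]; exact hc
  exact hp (hc' (μ j).2)

theorem pointsPi_surjective : Function.Surjective (pointsPi A X) := by
  classical
  intro x
  let 𝒰 : X.OpenCover := X.affineCover.finiteSubcover
  choose a ha hb using fun i =>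
    exists_partition (R := A i) (fun j : 𝒰.I₀ => (x i) ⁻¹ᵁ (𝒰.f j).opensRange)
      (fun p => ⟨𝒰.idx (x i p), 𝒰.covers _⟩)
  let b : 𝒰.I₀ → ∀ i, A i := fun j i => a i j
  -- charts
  have hg : ∀ j, ∃ g : Spec (.of (Q A (b j))) ⟶ X, ∀ i,
      Spec.map (CommRingCat.ofHom (Pi.evalRingHom (fun i => Localization.Away (b j i)) i)) ≫ g =
      Spec.map (CommRingCat.ofHom (algebraMap (A i) (Localization.Away (b j i)))) ≫ x i ∧
        Set.range g ⊆ (𝒰.f j).opensRange := by
    intro j
    have hr : ∀ i, Set.range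
        (Spec.map (CommRingCat.ofHom (algebraMap (A i) (Localization.Away (b j i)))) ≫ x i) ⊆
        (𝒰.f j).opensRange := by
      intro i
      rintro _ ⟨q, rfl⟩
      refine hb i j ?_
      intro hq
      exact q.2.ne_top (Ideal.eq_top_of_isUnit_mem _ hq
        (IsLocalization.Away.algebraMap_isUnit (b j i)))
    obtain ⟨g, hg⟩ := pointsPi_surjective_of_isAffine
      (fun i => CommRingCat.of (Localization.Away (b j i))) (𝒰.X j)
      (fun i => IsOpenImmersion.lift (𝒰.f j) _ (hr i))
    refine ⟨g ≫ 𝒰.f j, fun i => ⟨?_, ?_⟩⟩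
    · have := congr_fun hg i
      rw [pointsPi] at this
      rw [reassoc_of% this]; exact IsOpenImmersion.lift_fac _ _ _
    · rintro _ ⟨q, rfl⟩; exact ⟨g q, rfl⟩
  choose g hg' using hg
  let R : 𝒰.I₀ → CommRingCat.{u} := fun j => .of (Q A (b j))
  let QQ : Type u := ∀ j, Q A (b j)
  let P : Type u := ∀ i, A i
  let π : Spec (.of QQ) ⟶ Spec (.of P) :=
    Spec.map (CommRingCat.ofHom (RingHom.pi fun j => algebraMap P (Q A (b j))))
  have hflat : Flat π := by
    rw [Flat.SpecMap_iff]
    have hj : ∀ j, Module.Flat P (Q A (b j)) := fun j =>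
      IsLocalization.flat (Q A (b j)) (S A (b j))
    have : Module.Flat P (∀ j, Q A (b j)) := Module.Flat.of_linearEquiv
      (DFinsupp.linearEquivFunOnFintype (R := P) (M := fun j => Q A (b j))).symm
    change (algebraMap P (∀ j, Q A (b j))).Flat
    rw [RingHom.flat_algebraMap_iff]
    exact this
  have hsurj : Surjective π := by
    constructor
    intro p
    have : ∃ j, Disjoint (S A (b j) : Set P) p.asIdeal := by
      by_contra hc
      push Not at hc
      choose s hsS hsp using fun j => Set.not_disjoint_iff.1 (hc j)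
      choose n hn using fun j i => hsS j i ⟨⟩
      have : ∀ i, ∃ c : 𝒰.I₀ → A i, ∑ j, c j * s j i = 1 := fun i => by
        have htop : Ideal.span (Set.range fun j => a i j) = ⊤ := by
          rw [Ideal.eq_top_iff_one, ← ha i]
          exact sum_mem fun j _ => Ideal.subset_span ⟨j, rfl⟩
        have h := Ideal.span_pow_eq_top _ htop (∑ j, n j i)
        have h' : Ideal.span (Set.range fun j => s j i) = ⊤ := by
          rw [eq_top_iff, ← h, Ideal.span_le]
          rintro _ ⟨_, ⟨j, rfl⟩, rfl⟩
          rw [SetLike.mem_coe, ← Nat.sub_add_cancel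
            (Finset.single_le_sum (f := fun j => n j i) (fun _ _ => Nat.zero_le _)
              (Finset.mem_univ j))]
          simp only [pow_add]
          refine Ideal.mul_mem_left _ _ (Ideal.subset_span ⟨j, ?_⟩)
          exact (hn j i).symm
        rw [Ideal.eq_top_iff_one, Ideal.mem_span_range_iff_exists_fun] at h'
        exact h'
      choose c hc' using this
      refine p.2.ne_top ((Ideal.eq_top_iff_one _).2 ?_)
      have : (1 : P) = ∑ j, (fun i => c i j) * s j := funext fun i => by
        show (1 : A i) = _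
        refine Eq.trans ?_
          (Finset.sum_apply i Finset.univ (fun j => (fun i => c i j) * s j)).symm
        exact (hc' i).symm
      rw [this]
      exact sum_mem fun j _ => Ideal.mul_mem_left _ _ (hsp j)
    obtain ⟨j, hj⟩ := this
    let q : PrimeSpectrum (Q A (b j)) :=
      ⟨p.asIdeal.map (algebraMap P (Q A (b j))),
        IsLocalization.isPrime_of_isPrime_disjoint (S A (b j)) _ p.asIdeal p.2 hj⟩
    refine ⟨PrimeSpectrum.comap (Pi.evalRingHom (fun j => (R j : Type u)) j) q, ?_⟩
    apply PrimeSpectrum.ext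
    exact IsLocalization.under_map_of_isPrime_disjoint (S A (b j)) (Q A (b j)) p.2 hj
  let gd : (∐ fun j => Spec (R j)) ⟶ X := Sigma.desc g
  let G : Spec (.of QQ) ⟶ X := inv (sigmaSpec R) ≫ gd
  let e : ∀ j, Spec (R j) ⟶ Spec (.of QQ) := fun j =>
    Spec.map (CommRingCat.ofHom (Pi.evalRingHom (fun j => (R j : Type u)) j))
  have heG : ∀ j, e j ≫ G = g j := fun j => by
    simp only [e, G, ← ι_sigmaSpec R j, Category.assoc, IsIso.hom_inv_id_assoc, gd, Sigma.ι_desc]
  have heπ : ∀ j, e j ≫ π = Spec.map (CommRingCat.ofHom (algebraMap P (Q A (b j)))) := fun j => by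
    simp only [e, π, ← Spec.map_comp]; rfl
  have : ∀ j, IsOpenImmersion (e j) := fun j => by
    simp only [e, ← ι_sigmaSpec R j]; infer_instance
  have hcov : ∀ y, ∃ j, y ∈ (e j).opensRange := fun y => by
    obtain ⟨z, hz⟩ := (sigmaSpec R).surjective y
    obtain ⟨j, w, hw⟩ : ∃ j w, Sigma.ι (fun j => Spec (R j)) j w = z :=
      ⟨_, (sigmaOpenCover fun j => Spec (R j)).covers z⟩
    refine ⟨j, w, ?_⟩
    simp only [e, ← ι_sigmaSpec R j]
    rw [Scheme.Hom.comp_apply, hw, hz]
  have hcompat : ∀ {Z : Scheme.{u}} (p q : Z ⟶ Spec (.of QQ)), p ≫ π = q ≫ π →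
      p ≫ G = q ≫ G := by
    intro Z p q hpq
    let U : 𝒰.I₀ × 𝒰.I₀ → Z.Opens := fun jk =>
      p ⁻¹ᵁ (e jk.1).opensRange ⊓ q ⁻¹ᵁ (e jk.2).opensRange
    have hU : TopologicalSpace.IsOpenCover U := by
      rw [TopologicalSpace.IsOpenCover, eq_top_iff]
      intro z _
      obtain ⟨j, hj⟩ := hcov (p z)
      obtain ⟨k, hk⟩ := hcov (q z)
      exact TopologicalSpace.Opens.mem_iSup.2 ⟨(j, k), hj, hk⟩
    refine (Scheme.openCoverOfIsOpenCover Z U hU).hom_ext _ _ fun jk => ?_
    obtain ⟨j, k⟩ := jk
    change (U (j, k)).ι ≫ p ≫ G = (U (j, k)).ι ≫ q ≫ G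
    have hp : Set.range ((U (j, k)).ι ≫ p) ⊆ (e j).opensRange := by
      rintro _ ⟨z, rfl⟩; exact z.2.1
    have hq : Set.range ((U (j, k)).ι ≫ q) ⊆ (e k).opensRange := by
      rintro _ ⟨z, rfl⟩; exact z.2.2
    have lp : (U (j, k)).ι ≫ p ≫ G = IsOpenImmersion.lift (e j) _ hp ≫ g j := by
      rw [← heG j]
      exact (Category.assoc _ _ _).symm.trans
        ((congrArg (· ≫ G) (IsOpenImmersion.lift_fac (e j) _ hp)).symm.trans
          (Category.assoc _ _ _))
    have lq : (U (j, k)).ι ≫ q ≫ G = IsOpenImmersion.lift (e k) _ hq ≫ g k := by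
      rw [← heG k]
      exact (Category.assoc _ _ _).symm.trans
        ((congrArg (· ≫ G) (IsOpenImmersion.lift_fac (e k) _ hq)).symm.trans
          (Category.assoc _ _ _))
    rw [lp, lq]
    set p' := IsOpenImmersion.lift (e j) _ hp
    set q' := IsOpenImmersion.lift (e k) _ hq
    have hpq' : p' ≫ Spec.map (CommRingCat.ofHom (algebraMap P (Q A (b j)))) =
        q' ≫ Spec.map (CommRingCat.ofHom (algebraMap P (Q A (b k)))) := by
      rw [← heπ, ← heπ]
      refine ((Category.assoc _ _ _).symm.trans
        (congrArg (· ≫ π) (IsOpenImmersion.lift_fac (e j) _ hp))).trans ?_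
      refine Eq.trans ?_ ((Category.assoc _ _ _).symm.trans
        (congrArg (· ≫ π) (IsOpenImmersion.lift_fac (e k) _ hq))).symm
      rw [Category.assoc, Category.assoc, hpq]
    rw [← pullback.lift_fst p' q' hpq', Category.assoc]
    conv_rhs => rw [← pullback.lift_snd p' q' hpq', Category.assoc]
    congr 1
    rw [← cancel_epi (pullbackSpecIso P (Q A (b j)) (Q A (b k))).inv, pullbackSpecIso_inv_fst_assoc,
      pullbackSpecIso_inv_snd_assoc]
    let θ := RingEquiv.ofBijective (toAway A (a := b j) (b := b k)).toRingHom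
      (toAway_bijective A (b j) (b k))
    rw [← cancel_epi (Spec.map θ.toCommRingCatIso.hom), ← Spec.map_comp_assoc, ← Spec.map_comp_assoc]
    apply pointsPi_injective (fun i => CommRingCat.of (Localization.Away (b j i * b k i))) X
    funext i
    simp only [pointsPi, ← Spec.map_comp_assoc]
    have hfac : ∀ (l : 𝒰.I₀)
        (φ : Q A (b l) →ₐ[P] Q A (fun i => b j i * b k i))
        (hu : IsUnit (algebraMap (A i) (Localization.Away (b j i * b k i)) (b l i))),
        Spec.map (CommRingCat.ofHom ((Pi.evalRingHom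
          (fun i => Localization.Away (b j i * b k i)) i).comp φ.toRingHom)) ≫ g l =
        Spec.map (CommRingCat.ofHom
          (algebraMap (A i) (Localization.Away (b j i * b k i)))) ≫ x i := by
      intro l φ hu
      have h2 : (Pi.evalRingHom (fun i => Localization.Away (b j i * b k i)) i).comp φ.toRingHom =
          (IsLocalization.Away.lift (b l i) hu).comp
            (Pi.evalRingHom (fun i => Localization.Away (b l i)) i) := by
        refine IsLocalization.ringHom_ext (S A (b l)) (RingHom.ext fun c => ?_)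
        change φ (algebraMap _ (Q A (b l)) c) i = _
        rw [φ.commutes]
        exact (IsLocalization.Away.lift_eq (S := Localization.Away (b l i)) (b l i) hu (c i)).symm
      rw [h2, CommRingCat.ofHom_comp, Spec.map_comp_assoc, (hg' l i).1, ← Spec.map_comp_assoc,
        ← CommRingCat.ofHom_comp, IsLocalization.Away.lift_comp]
    have hl : IsUnit (algebraMap (A i) (Localization.Away (b j i * b k i)) (b j i)) := by
      refine isUnit_of_mul_isUnit_left
        (y := algebraMap (A i) (Localization.Away (b j i * b k i)) (b k i)) ?_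
      rw [← map_mul]; exact IsLocalization.Away.algebraMap_isUnit _
    have hr : IsUnit (algebraMap (A i) (Localization.Away (b j i * b k i)) (b k i)) := by
      refine isUnit_of_mul_isUnit_right
        (x := algebraMap (A i) (Localization.Away (b j i * b k i)) (b j i)) ?_
      rw [← map_mul]; exact IsLocalization.Away.algebraMap_isUnit _
    refine (hfac j ((toAway A).comp Algebra.TensorProduct.includeLeft) hl).trans ?_
    exact (hfac k ((toAway A).comp Algebra.TensorProduct.includeRight) hr).symm
  refine ⟨EffectiveEpi.desc π G hcompat, funext fun i => ?_⟩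
  have hfin : π ≫ EffectiveEpi.desc π G hcompat = G := EffectiveEpi.fac _ _ _
  let 𝒱 : 𝒰.I₀ → (Spec (A i)).Opens := fun j => PrimeSpectrum.basicOpen (a i j)
  let 𝒲 := Scheme.affineOpenCoverOfSpanRangeEqTop (fun j => a i j) (by
    rw [Ideal.eq_top_iff_one, ← ha i]
    exact sum_mem fun j _ => Ideal.subset_span ⟨j, rfl⟩)
  refine 𝒲.openCover.hom_ext _ _ fun j => ?_
  change Spec.map (CommRingCat.ofHom (algebraMap (A i) (Localization.Away (a i j)))) ≫ _ =
    Spec.map (CommRingCat.ofHom (algebraMap (A i) (Localization.Away (a i j)))) ≫ x i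
  rw [← (hg' j i).1, ← heG j]
  conv_rhs => rw [← hfin, reassoc_of% (heπ j)]
  simp only [pointsPi, ← Spec.map_comp_assoc]
  congr 1

end Groth.Agent.H4PointsPi
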