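import Groth.Prelude.Def_ArtFun2
import Groth.Prelude.Def_ArtFun3
import Mathlib.RingTheory.Length
import Mathlib.RingTheory.HopkinsLevitzki
import Mathlib.RingTheory.SimpleModule.Basic
import Mathlib.RingTheory.Nilpotent.Lemmas

/-!
Basic constructions in `ArtFun.Art`: isomorphisms, factorisation of surjections into small
extensions, fibre products, consequences of the Schlessinger conditions.
-/

set_option backward.isDefEq.respectTransparency false
set_option backward.isDefEq.respectTransparency.types false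
set_option linter.deprecated false
set_option linter.unusedTactic false

universe u v w

open CategoryTheory

namespace Groth.Agent.H9Art

open ArtFun ArtFun.Art IsLocalRing

/-! ### Length over a ring with residue field `k` -/

section Length

variable {S : Type u} {k : Type u} [CommRing S] [Field k] [Algebra S k]
  {A : Type u} [CommRing A] [Algebra S A] [IsLocalRing A] [Algebra A k] [IsScalarTower S A k]

lemma ker_res_eq (hres : Function.Surjective (algebraMap A k)) :
    RingHom.ker (algebraMap A k) = maximalIdeal A :=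
  eq_maximalIdeal (RingHom.ker_isMaximal_of_surjective _ hres)

lemma length_simple (hres : Function.Surjective (algebraMap A k)) (M : Type w) [AddCommGroup M]
    [Module A M] [Module S M] [IsScalarTower S A M] [IsSimpleModule A M] :
    Module.length S M = Module.length S k := by
  obtain ⟨I, hI, ⟨e⟩⟩ := isSimpleModule_iff_quot_maximal.1 (inferInstance : IsSimpleModule A M)
  have hI' : I = RingHom.ker (Algebra.ofId A k) := (eq_maximalIdeal hI).trans (ker_res_eq hres).symm
  subst hI'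
  let e₂ : (A ⧸ RingHom.ker (Algebra.ofId A k)) ≃ₗ[A] k := (Ideal.quotientKerAlgEquivOfSurjective hres).toLinearEquiv
  have hr := (e.trans e₂).restrictScalars S
  apply WithBot.coe_injective
  rw [Module.coe_length, Module.coe_length, Order.krullDim_eq_of_orderIso (Submodule.orderIsoMapComap hr)]

lemma length_mul_length (hres : Function.Surjective (algebraMap A k)) (M : Type w) [AddCommGroup M]
    [Module A M] [Module S M] [IsScalarTower S A M] :
    Module.length S k * Module.length A M = Module.length S M := by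
  by_cases h : IsFiniteLength A M
  · revert ‹Module S M›
    induction h with
    | of_subsingleton => intro _ _; simp
    | @of_simple_quotient M _ _ N _ hN ih =>
      intro _ _
      have h1 := Module.length_eq_add_of_exact N.subtype N.mkQ N.subtype_injective N.mkQ_surjective
        (LinearMap.exact_subtype_mkQ N)
      have h2 := Module.length_eq_add_of_exact (N.subtype.restrictScalars S) (N.mkQ.restrictScalars S)
        N.subtype_injective N.mkQ_surjective (LinearMap.exact_subtype_mkQ N)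
      have h3 : Module.length S (M ⧸ N) = Module.length S k := length_simple hres _
      rw [h1, h2, h3, ← ih, Module.length_eq_one A (M ⧸ N), mul_add, mul_one]
  · rw [← Module.length_ne_top_iff, not_not] at h
    rw [h, ENat.mul_top (Module.length_pos (R := S) (M := k)).ne', eq_comm, eq_top_iff, ← h]
    rw [← WithBot.coe_le_coe, Module.coe_length, Module.coe_length]
    exact Order.krullDim_le_of_orderEmbedding (Submodule.restrictScalarsEmbedding S A M)

lemma length_self_eq_one (hS : Function.Surjective (algebraMap S k)) : Module.length S k = 1 := by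
  rw [Module.length_eq_of_surjective (R := k) hS, Module.length_eq_finrank k k, Module.finrank_self, Nat.cast_one]

/-- A module of finite length over `A` has finite length over a ring with the same residue field. -/
lemma isArtinian_restrict (hS : Function.Surjective (algebraMap S k))
    (hres : Function.Surjective (algebraMap A k)) (M : Type w) [AddCommGroup M]
    [Module A M] [Module S M] [IsScalarTower S A M] [IsArtinian A M] [IsNoetherian A M] :
    IsArtinian S M := by
  have h : Module.length S M ≠ ⊤ := by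
    rw [← length_mul_length hres M, length_self_eq_one hS, one_mul]
    exact Module.length_ne_top
  exact (isFiniteLength_iff_isNoetherian_isArtinian.1 (Module.length_ne_top_iff.1 h)).2

end Length

variable {Λ : Type u} {k : Type u} [CommRing Λ] [Field k] [Algebra Λ k]

/-! ### Isomorphisms -/

/-- The isomorphism given by a bijective morphism. -/
noncomputable def isoOfBij {A B : Art Λ k} (f : A ⟶ B) (hf : Function.Bijective f) : A ≅ B where
  hom := f
  inv := ⟨(AlgEquiv.ofBijective f.toAlgHom hf).symm.toAlgHom, AlgHom.ext fun b => by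
    obtain ⟨a, rfl⟩ := hf.2 b
    change A.res ((AlgEquiv.ofBijective f.toAlgHom hf).symm (AlgEquiv.ofBijective f.toAlgHom hf a)) = _
    rw [AlgEquiv.symm_apply_apply]
    exact (res_app f a).symm⟩
  hom_inv_id := Art.hom_ext (AlgHom.ext fun a => (AlgEquiv.ofBijective f.toAlgHom hf).symm_apply_apply a)
  inv_hom_id := Art.hom_ext (AlgHom.ext fun b => (AlgEquiv.ofBijective f.toAlgHom hf).apply_symm_apply b)

lemma isIso_of_bij {A B : Art Λ k} (f : A ⟶ B) (hf : Function.Bijective f) : IsIso f :=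
  (isoOfBij f hf).isIso_hom

lemma bij_of_isIso {A B : Art Λ k} (f : A ⟶ B) [IsIso f] : Function.Bijective f := by
  refine Function.bijective_iff_has_inverse.2 ⟨(inv f).toAlgHom, fun a => ?_, fun b => ?_⟩
  · change (f ≫ inv f) a = a; rw [IsIso.hom_inv_id]; rfl
  · change (inv f ≫ f) b = b; rw [IsIso.inv_hom_id]; rfl

lemma toBase_surjective (A : Art Λ k) : Function.Surjective (toBase A) := A.res_surjective

lemma comp_toBase {A B : Art Λ k} (f : A ⟶ B) : f ≫ toBase B = toBase A := eq_toBase _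

lemma map_bij_of_isIso (F : Art Λ k ⥤ Type v) {A B : Art Λ k} (f : A ⟶ B) [IsIso f] :
    Function.Bijective (F.map f) := by
  refine Function.bijective_iff_has_inverse.2 ⟨F.map (inv f), fun a => ?_, fun b => ?_⟩
  · rw [← FunctorToTypes.map_comp_apply, IsIso.hom_inv_id, FunctorToTypes.map_id_apply]
  · rw [← FunctorToTypes.map_comp_apply, IsIso.inv_hom_id, FunctorToTypes.map_id_apply]

/-! ### Factorisation into small extensions -/

lemma exists_killed {R : Type u} [CommRing R] {I : Ideal R} (hI : IsNilpotent I)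
    {J : Ideal R} (hJ : J ≠ ⊥) : ∃ t ∈ J, t ≠ 0 ∧ ∀ x ∈ I, x * t = 0 := by
  obtain ⟨n, hn⟩ := hI
  have hex : ∃ m, I ^ m * J = ⊥ := ⟨n, by rw [hn, Ideal.zero_eq_bot, Ideal.bot_mul]⟩
  classical
  have hpos : Nat.find hex ≠ 0 := by
    intro h0
    have := Nat.find_spec hex
    rw [h0, pow_zero, Ideal.one_eq_top, Ideal.top_mul] at this
    exact hJ this
  obtain ⟨m, hm⟩ := Nat.exists_eq_succ_of_ne_zero hpos
  have hne : I ^ m * J ≠ ⊥ := Nat.find_min hex (by omega)
  obtain ⟨t, ht, ht0⟩ := Submodule.exists_mem_ne_zero_of_ne_bot hne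
  refine ⟨t, Ideal.mul_le_right ht, ht0, fun x hx => ?_⟩
  have hspec := Nat.find_spec hex
  rw [hm, pow_succ', mul_assoc] at hspec
  have := Ideal.mul_mem_mul hx ht
  rw [hspec] at this
  exact this

lemma isNilpotent_maximalIdeal (A : Art Λ k) : IsNilpotent (maximalIdeal A) := by
  have h := IsArtinianRing.isNilpotent_jacobson_bot (R := A)
  rwa [IsLocalRing.jacobson_eq_maximalIdeal ⊥ bot_ne_top] at h

lemma exists_pow_maximalIdeal_eq_bot (A : Art Λ k) : ∃ n : ℕ, maximalIdeal A ^ n = ⊥ :=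
  isNilpotent_maximalIdeal A

lemma ker_le_maximalIdeal {A B : Art Λ k} (f : B ⟶ A) : RingHom.ker f.toAlgHom ≤ maximalIdeal B := by
  intro b hb
  rw [Art.mem_maximalIdeal_iff, ← res_app f b]
  change A.res (f.toAlgHom b) = 0
  rw [RingHom.mem_ker.1 hb, map_zero]

lemma surjective_induction (P : ∀ ⦃A B : Art Λ k⦄, (B ⟶ A) → Prop)
    (hiso : ∀ ⦃A B : Art Λ k⦄ (e : B ⟶ A), IsIso e → P e)
    (hsmall : ∀ ⦃A B : Art Λ k⦄ (p : B ⟶ A), IsSmallExt p → P p)
    (hcomp : ∀ ⦃A B C : Art Λ k⦄ (p : C ⟶ B) (q : B ⟶ A), Function.Surjective p →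
      Function.Surjective q → P p → P q → P (p ≫ q))
    ⦃A B : Art Λ k⦄ (f : B ⟶ A) (hf : Function.Surjective f) : P f := by
  have key : ∀ (K : Ideal B) (hK : K ≤ maximalIdeal B) (hKf : K ≤ RingHom.ker f.toAlgHom),
      P (quotFactor hK f hKf) := by
    intro K
    induction K using WellFoundedGT.induction with
    | _ K ih =>
      intro hK hKf
      have hsurj : Function.Surjective (quotFactor hK f hKf) := fun a => by
        obtain ⟨b, rfl⟩ := hf a
        exact ⟨Ideal.Quotient.mk K b, rfl⟩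
      by_cases heq : RingHom.ker f.toAlgHom ≤ K
      · refine hiso _ (isIso_of_bij _ ⟨?_, hsurj⟩)
        change Function.Injective (quotFactor hK f hKf).toAlgHom
        rw [injective_iff_map_eq_zero]
        intro x hx
        obtain ⟨b, rfl⟩ := Ideal.Quotient.mk_surjective x
        exact Ideal.Quotient.eq_zero_iff_mem.2 (heq (RingHom.mem_ker.2 hx))
      · have hJ : (RingHom.ker f.toAlgHom).map (Ideal.Quotient.mk K) ≠ ⊥ := by
          rw [Ne, Ideal.map_eq_bot_iff_le_ker, Ideal.mk_ker]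
          exact heq
        obtain ⟨t, htJ, ht0, htm⟩ := exists_killed (isNilpotent_maximalIdeal (quot B K hK)) hJ
        obtain ⟨b, hb, rfl⟩ :=
          (Ideal.mem_map_iff_of_surjective _ Ideal.Quotient.mk_surjective).1 htJ
        have hbK : b ∉ K := fun h => ht0 (Ideal.Quotient.eq_zero_iff_mem.2 h)
        let K' : Ideal B := K ⊔ Ideal.span {b}
        have hlt : K < K' := lt_of_le_of_ne le_sup_left fun h =>
          hbK (h ▸ (le_sup_right : Ideal.span {b} ≤ K') (Ideal.mem_span_singleton_self b))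
        have hK'f : K' ≤ RingHom.ker f.toAlgHom := sup_le hKf ((Ideal.span_singleton_le_iff_mem _).2 hb)
        have hK'm : K' ≤ maximalIdeal B := hK'f.trans (ker_le_maximalIdeal f)
        have hle : K ≤ RingHom.ker (quotMk B K' hK'm).toAlgHom := fun x hx =>
          RingHom.mem_ker.2 (Ideal.Quotient.eq_zero_iff_mem.2 (hlt.le hx))
        let p : quot B K hK ⟶ quot B K' hK'm := quotFactor hK (quotMk B K' hK'm) hle
        have hps : Function.Surjective p := fun y => by
          obtain ⟨c, rfl⟩ := Ideal.Quotient.mk_surjective y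
          exact ⟨Ideal.Quotient.mk K c, rfl⟩
        have hker : RingHom.ker p.toAlgHom = Ideal.span {Ideal.Quotient.mk K b} := by
          apply le_antisymm
          · intro y hy
            obtain ⟨c, rfl⟩ := Ideal.Quotient.mk_surjective y
            have hc : c ∈ K' := Ideal.Quotient.eq_zero_iff_mem.1 (RingHom.mem_ker.1 hy)
            obtain ⟨u, hu, w, hw, rfl⟩ := Submodule.mem_sup.1 hc
            obtain ⟨s, rfl⟩ := Ideal.mem_span_singleton'.1 hw
            rw [map_add, Ideal.Quotient.eq_zero_iff_mem.2 hu, zero_add, map_mul]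
            exact Ideal.mem_span_singleton'.2 ⟨_, rfl⟩
          · exact (Ideal.span_singleton_le_iff_mem _).2 (RingHom.mem_ker.2
              (Ideal.Quotient.eq_zero_iff_mem.2 ((le_sup_right : Ideal.span {b} ≤ K') (Ideal.mem_span_singleton_self b))))
        have hp : IsSmallExt p := by
          refine ⟨hps, ?_, ?_, ?_⟩
          · rw [hker, Ne, Ideal.span_singleton_eq_bot]; exact ht0
          · exact ⟨⟨_, hker⟩⟩
          · rw [hker, eq_bot_iff, Ideal.mul_le]
            intro x hx y hy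
            obtain ⟨s, rfl⟩ := Ideal.mem_span_singleton'.1 hy
            change x * (s * _) = 0
            rw [mul_left_comm, htm x hx, mul_zero]
        have hfac : quotFactor hK f hKf = p ≫ quotFactor hK'm f hK'f := by
          apply Art.hom_ext; apply AlgHom.ext; intro y
          obtain ⟨c, rfl⟩ := Ideal.Quotient.mk_surjective y
          rfl
        rw [hfac]
        refine hcomp _ _ hps ?_ (hsmall _ hp) (ih K' hlt hK'm hK'f)
        intro a
        obtain ⟨c, rfl⟩ := hf a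
        exact ⟨Ideal.Quotient.mk K' c, rfl⟩
  have h0 := key ⊥ bot_le bot_le
  rw [← quotMk_quotFactor (bot_le : (⊥ : Ideal B) ≤ maximalIdeal B) f bot_le]
  have hb : Function.Bijective (quotMk B ⊥ (bot_le : (⊥ : Ideal B) ≤ maximalIdeal B)) := by
    refine ⟨fun x y h => ?_, quotMk_surjective B ⊥ _⟩
    exact sub_eq_zero.1 (Ideal.mem_bot.1 (Ideal.Quotient.eq.1 h))
  refine hcomp _ _ hb.2 ?_ (hiso _ (isIso_of_bij _ hb)) h0
  intro a
  obtain ⟨c, rfl⟩ := hf a
  exact ⟨Ideal.Quotient.mk ⊥ c, rfl⟩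

/-! ### Fibre products -/

section Fibre

variable {A A₁ A₂ : Art Λ k} (f₁ : A₁ ⟶ A) (f₂ : A₂ ⟶ A)

/-- The set-theoretic fibre product as a subalgebra. -/
def fibreSub : Subalgebra Λ (A₁ × A₂) :=
  AlgHom.equalizer (f₁.toAlgHom.comp (AlgHom.fst Λ A₁ A₂)) (f₂.toAlgHom.comp (AlgHom.snd Λ A₁ A₂))

lemma mem_fibreSub {x : A₁ × A₂} : x ∈ fibreSub f₁ f₂ ↔ f₁ x.1 = f₂ x.2 := Iff.rfl

/-- The first projection. -/
def fibreFst : fibreSub f₁ f₂ →ₐ[Λ] A₁ := (AlgHom.fst Λ A₁ A₂).comp (fibreSub f₁ f₂).val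

/-- The second projection. -/
def fibreSnd : fibreSub f₁ f₂ →ₐ[Λ] A₂ := (AlgHom.snd Λ A₁ A₂).comp (fibreSub f₁ f₂).val

lemma fibre_res (b : fibreSub f₁ f₂) : A₂.res (fibreSnd f₁ f₂ b) = A₁.res (fibreFst f₁ f₂ b) := by
  rw [← res_app f₁ (fibreFst f₁ f₂ b), ← res_app f₂ (fibreSnd f₁ f₂ b)]
  exact congrArg A.res b.2.symm

instance isLocalRing_fibreSub : IsLocalRing (fibreSub f₁ f₂) := by
  have : Nontrivial (fibreSub f₁ f₂) := ⟨⟨0, 1, fun h => zero_ne_one (α := A₁) (congrArg (fun t : fibreSub f₁ f₂ => t.1.1) h)⟩⟩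
  refine IsLocalRing.of_nonunits_add fun a b ha hb => ?_
  have key : ∀ c : fibreSub f₁ f₂, IsUnit c ↔ A₁.res (fibreFst f₁ f₂ c) ≠ 0 := by
    intro c
    constructor
    · intro hc h
      exact not_isUnit_zero (h ▸ (hc.map (fibreFst f₁ f₂)).map A₁.res)
    · intro h
      have h1 : IsUnit c.1.1 := by
        by_contra h1
        exact h ((Art.mem_maximalIdeal_iff A₁ _).1 ((mem_maximalIdeal _).2 h1))
      have h2 : IsUnit c.1.2 := by
        by_contra h2
        exact h ((fibre_res f₁ f₂ c).symm.trans ((Art.mem_maximalIdeal_iff A₂ _).1 ((mem_maximalIdeal _).2 h2)))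
      obtain ⟨u, hu⟩ := h1
      obtain ⟨v, hv⟩ := h2
      have hmem : ((↑u⁻¹ : A₁), (↑v⁻¹ : A₂)) ∈ fibreSub f₁ f₂ := by
        rw [mem_fibreSub]
        change f₁.toAlgHom (↑u⁻¹ : A₁) = f₂.toAlgHom (↑v⁻¹ : A₂)
        refine left_inv_eq_right_inv (a := f₁.toAlgHom c.1.1) ?_ ?_
        · rw [← map_mul, ← hu, Units.inv_mul, map_one]
        · have hc2 : f₁.toAlgHom c.1.1 = f₂.toAlgHom c.1.2 := c.2
          rw [hc2, ← map_mul, ← hv, Units.mul_inv, map_one]
      refine isUnit_iff_exists_inv.2 ⟨⟨_, hmem⟩, Subtype.ext (Prod.ext ?_ ?_)⟩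
      · exact (congrArg (· * (↑u⁻¹ : A₁)) hu.symm).trans u.mul_inv
      · exact (congrArg (· * (↑v⁻¹ : A₂)) hv.symm).trans v.mul_inv
  simp only [mem_nonunits_iff, key, not_not] at ha hb ⊢
  rw [map_add, map_add, ha, hb, add_zero]

lemma isArtinian_fibreSub (hres : Function.Surjective (A₁.res.comp (fibreFst f₁ f₂))) :
    IsArtinianRing (fibreSub f₁ f₂) := by
  algebraize [(fibreFst f₁ f₂).toRingHom, (fibreSnd f₁ f₂).toRingHom]
  letI : Algebra (fibreSub f₁ f₂) k := (A₁.res.comp (fibreFst f₁ f₂)).toRingHom.toAlgebra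
  letI : Algebra A₁ k := A₁.res.toRingHom.toAlgebra
  letI : Algebra A₂ k := A₂.res.toRingHom.toAlgebra
  haveI : IsScalarTower (fibreSub f₁ f₂) A₁ k := IsScalarTower.of_algebraMap_eq fun _ => rfl
  haveI : IsScalarTower (fibreSub f₁ f₂) A₂ k := IsScalarTower.of_algebraMap_eq fun c => (fibre_res f₁ f₂ c).symm
  haveI := isArtinian_restrict (S := fibreSub f₁ f₂) (A := A₁) (k := k) hres A₁.res_surjective A₁
  haveI := isArtinian_restrict (S := fibreSub f₁ f₂) (A := A₂) (k := k) hres A₂.res_surjective A₂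
  exact isArtinian_of_injective
    ((Algebra.linearMap (fibreSub f₁ f₂) A₁).prod (Algebra.linearMap (fibreSub f₁ f₂) A₂))
    fun x y h => Subtype.ext (Prod.ext (congrArg Prod.fst h :) (congrArg Prod.snd h :))

/-- The fibre product object. -/
noncomputable def fibreArt (hres : Function.Surjective (A₁.res.comp (fibreFst f₁ f₂))) : Art Λ k :=
  haveI := isArtinian_fibreSub f₁ f₂ hres
  Art.of (fibreSub f₁ f₂) (A₁.res.comp (fibreFst f₁ f₂)) hres

lemma exists_fibreProd_of_res (hres : Function.Surjective (A₁.res.comp (fibreFst f₁ f₂))) :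
    ∃ (B : Art Λ k) (p₁ : B ⟶ A₁) (p₂ : B ⟶ A₂), IsFibreProd p₁ p₂ f₁ f₂ :=
  ⟨fibreArt f₁ f₂ hres, ⟨fibreFst f₁ f₂, rfl⟩,
    ⟨fibreSnd f₁ f₂, AlgHom.ext fun b => fibre_res f₁ f₂ b⟩,
    ⟨Art.hom_ext (AlgHom.ext fun b => b.2), fun _ _ h₁ h₂ => Subtype.ext (Prod.ext h₁ h₂),
      fun a' a'' h => ⟨⟨(a', a''), h⟩, rfl, rfl⟩⟩⟩

lemma exists_fibreProd (hf₂ : Function.Surjective f₂) :
    ∃ (B : Art Λ k) (p₁ : B ⟶ A₁) (p₂ : B ⟶ A₂), IsFibreProd p₁ p₂ f₁ f₂ :=
  exists_fibreProd_of_res f₁ f₂ fun c => by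
    obtain ⟨a, rfl⟩ := A₁.res_surjective c
    obtain ⟨b, hb⟩ := hf₂ (f₁ a)
    exact ⟨⟨(a, b), hb.symm⟩, rfl⟩

end Fibre

section FibreLift

variable {B A A' A'' : Art Λ k} {p' : B ⟶ A'} {p'' : B ⟶ A''} {f' : A' ⟶ A} {f'' : A'' ⟶ A}

lemma fst_surjective (h : IsFibreProd p' p'' f' f'') (hf : Function.Surjective f'') :
    Function.Surjective p' := fun a => by
  obtain ⟨b, hb⟩ := hf (f' a)
  obtain ⟨c, hc, -⟩ := h.surj a b hb.symm
  exact ⟨c, hc⟩

lemma fst_bijective (h : IsFibreProd p' p'' f' f'') (hf : Function.Bijective f'') :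
    Function.Bijective p' :=
  ⟨fun a b hab => h.inj a b hab (hf.1 (by rw [← h.w_apply, ← h.w_apply, hab])), fst_surjective h hf.2⟩

/-- The universal property for algebra homomorphisms. -/
lemma exists_liftAlgHom (h : IsFibreProd p' p'' f' f'') {R : Type u} [CommRing R] [Algebra Λ R]
    (a : R →ₐ[Λ] A') (b : R →ₐ[Λ] A'') (hab : ∀ r, f' (a r) = f'' (b r)) :
    ∃ c : R →ₐ[Λ] B, (∀ r, p' (c r) = a r) ∧ (∀ r, p'' (c r) = b r) := by
  choose c hc₁ hc₂ using fun r => h.surj (a r) (b r) (hab r)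
  refine ⟨{ toFun := c, map_one' := h.inj _ _ ?_ ?_, map_mul' := fun x y => h.inj _ _ ?_ ?_, map_zero' := h.inj _ _ ?_ ?_, map_add' := fun x y => h.inj _ _ ?_ ?_, commutes' := fun x => h.inj _ _ ?_ ?_ }, hc₁, hc₂⟩
  · rw [hc₁, map_one, map_one]
  · rw [hc₂, map_one, map_one]
  · rw [hc₁, map_mul, map_mul, hc₁, hc₁]
  · rw [hc₂, map_mul, map_mul, hc₂, hc₂]
  · rw [hc₁, map_zero, map_zero]
  · rw [hc₂, map_zero, map_zero]
  · rw [hc₁, map_add, map_add, hc₁, hc₁]
  · rw [hc₂, map_add, map_add, hc₂, hc₂]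
  · rw [hc₁, AlgHom.commutes, AlgHom.commutes]
  · rw [hc₂, AlgHom.commutes, AlgHom.commutes]

lemma exists_lift (h : IsFibreProd p' p'' f' f'') {C : Art Λ k} (q' : C ⟶ A') (q'' : C ⟶ A'')
    (w : q' ≫ f' = q'' ≫ f'') : ∃ g : C ⟶ B, g ≫ p' = q' ∧ g ≫ p'' = q'' := by
  obtain ⟨c, h₁, h₂⟩ := exists_liftAlgHom h q'.toAlgHom q''.toAlgHom
    fun r => congrArg (fun t : C ⟶ A => t r) w
  refine ⟨⟨c, AlgHom.ext fun x => ?_⟩, Art.hom_ext (AlgHom.ext h₁), Art.hom_ext (AlgHom.ext h₂)⟩
  change B.res (c x) = C.res x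
  rw [← res_app p' (c x), h₁ x]
  exact res_app q' x

lemma lift_ext (h : IsFibreProd p' p'' f' f'') {C : Art Λ k} {g₁ g₂ : C ⟶ B}
    (h₁ : g₁ ≫ p' = g₂ ≫ p') (h₂ : g₁ ≫ p'' = g₂ ≫ p'') : g₁ = g₂ :=
  Art.hom_ext (AlgHom.ext fun x => h.inj _ _ (congrArg (fun t : C ⟶ A' => t x) h₁)
    (congrArg (fun t : C ⟶ A'' => t x) h₂))

lemma exists_liftHomSet (h : IsFibreProd p' p'' f' f'') {R : Type u} [CommRing R] [Algebra Λ R]
    {resR : R →ₐ[Λ] k} (a : HomSet R resR A') (b : HomSet R resR A'')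
    (hab : HomSet.map f' a = HomSet.map f'' b) :
    ∃ c : HomSet R resR B, HomSet.map p' c = a ∧ HomSet.map p'' c = b := by
  obtain ⟨c, h₁, h₂⟩ := exists_liftAlgHom h a.1 b.1
    fun r => congrArg (fun t : HomSet R resR A => t.1 r) hab
  refine ⟨⟨c, AlgHom.ext fun x => ?_⟩, Subtype.ext (AlgHom.ext h₁), Subtype.ext (AlgHom.ext h₂)⟩
  change B.res (c x) = resR x
  rw [← res_app p' (c x), h₁ x]
  exact congrArg (fun t : R →ₐ[Λ] k => t x) a.2

lemma isFibreProd_symm (h : IsFibreProd p' p'' f' f'') : IsFibreProd p'' p' f'' f' :=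
  ⟨h.w.symm, fun b₁ b₂ h₁ h₂ => h.inj b₁ b₂ h₂ h₁,
    fun a' a'' e => let ⟨b, hb⟩ := h.surj a'' a' e.symm; ⟨b, hb.2, hb.1⟩⟩

lemma isSmallExt_fst (h : IsFibreProd p' p'' f' f'') (hf : IsSmallExt f'') : IsSmallExt p' := by
  obtain ⟨hs, hne, ⟨⟨t, ht⟩⟩, hm⟩ := hf
  have ht0 : t ≠ 0 := fun e => hne (by rw [ht, e]; simp)
  have htker : f''.toAlgHom t = 0 := RingHom.mem_ker.1 (ht ▸ Submodule.mem_span_singleton_self t)
  obtain ⟨b₀, hb1, hb2⟩ := h.surj 0 t ((map_zero f'.toAlgHom).trans htker.symm)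
  have hsp := fst_surjective h hs
  have hker : RingHom.ker p'.toAlgHom = Ideal.span {b₀} := by
    apply le_antisymm
    · intro b hb
      have hb' : p'.toAlgHom b = 0 := RingHom.mem_ker.1 hb
      have hk : p''.toAlgHom b ∈ RingHom.ker f''.toAlgHom := RingHom.mem_ker.2
        ((h.w_apply b).symm.trans ((congrArg f'.toAlgHom hb').trans (map_zero _)))
      rw [ht] at hk
      obtain ⟨a, ha⟩ := Submodule.mem_span_singleton.1 hk
      obtain ⟨s, hs'⟩ := B.res_surjective (A''.res a)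
      refine Ideal.mem_span_singleton'.2 ⟨s, h.inj _ _ ?_ ?_⟩
      · change p'.toAlgHom (s * b₀) = p'.toAlgHom b
        rw [map_mul, show p'.toAlgHom b₀ = 0 from hb1, mul_zero, hb']
      · change p''.toAlgHom (s * b₀) = p''.toAlgHom b
        rw [map_mul, show p''.toAlgHom b₀ = t from hb2, ← ha, smul_eq_mul, ← sub_eq_zero, ← sub_mul]
        have hmem : p''.toAlgHom s - a ∈ maximalIdeal A'' := by
          rw [Art.mem_maximalIdeal_iff, map_sub, res_app p'' s, hs', sub_self]
        have := Ideal.mul_mem_mul hmem (ht ▸ Submodule.mem_span_singleton_self t : t ∈ RingHom.ker f''.toAlgHom)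
        rw [hm] at this
        exact this
    · exact (Ideal.span_singleton_le_iff_mem _).2 (RingHom.mem_ker.2 hb1)
  refine ⟨hsp, ?_, ⟨⟨b₀, hker⟩⟩, ?_⟩
  · rw [hker, Ne, Ideal.span_singleton_eq_bot]
    rintro rfl
    exact ht0 (hb2.symm.trans (map_zero p''.toAlgHom))
  · rw [eq_bot_iff, Ideal.mul_le]
    intro x hx b hb
    have hb' : p'.toAlgHom b = 0 := RingHom.mem_ker.1 hb
    apply h.inj
    · change p'.toAlgHom (x * b) = p'.toAlgHom 0
      rw [map_mul, hb', mul_zero, map_zero]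
    · change p''.toAlgHom (x * b) = p''.toAlgHom 0
      rw [map_mul, map_zero]
      have hxm : p''.toAlgHom x ∈ maximalIdeal A'' := by
        rw [Art.mem_maximalIdeal_iff, res_app p'' x]
        exact (Art.mem_maximalIdeal_iff B x).1 hx
      have hk : p''.toAlgHom b ∈ RingHom.ker f''.toAlgHom := RingHom.mem_ker.2
        ((h.w_apply b).symm.trans ((congrArg f'.toAlgHom hb').trans (map_zero _)))
      have := Ideal.mul_mem_mul hxm hk
      rw [hm] at this
      exact this

lemma exists_smallExt_generator (hf : IsSmallExt f'') :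
    ∃ t : A'', t ≠ 0 ∧ f''.toAlgHom t = 0 ∧ (∀ x ∈ maximalIdeal A'', x * t = 0) ∧
      ∀ a : A'', f''.toAlgHom a = 0 → ∃ c : A'', a = c * t := by
  obtain ⟨hs, hne, ⟨⟨t, ht⟩⟩, hm⟩ := hf
  refine ⟨t, fun e => hne (by rw [ht, e]; simp), RingHom.mem_ker.1 (ht ▸ Submodule.mem_span_singleton_self t),
    fun x hx => ?_, fun a ha => ?_⟩
  · have := Ideal.mul_mem_mul hx (ht ▸ Submodule.mem_span_singleton_self t : t ∈ RingHom.ker f''.toAlgHom)
    rw [hm] at this
    exact this
  · have ha' : a ∈ RingHom.ker f''.toAlgHom := RingHom.mem_ker.2 ha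
    rw [ht] at ha'
    obtain ⟨c, hc⟩ := Submodule.mem_span_singleton.1 ha'
    exact ⟨c, hc.symm⟩

end FibreLift

/-! ### The Schlessinger conditions -/

section Cond

variable {F : Art Λ k ⥤ Type v}

lemma cmp_surjective_iff {B A A' A'' : Art Λ k} {p' : B ⟶ A'} {p'' : B ⟶ A''} {f' : A' ⟶ A}
    {f'' : A'' ⟶ A} (h : IsFibreProd p' p'' f' f'') :
    Function.Surjective (cmp F h) ↔ ∀ (a : F.obj A') (b : F.obj A''), F.map f' a = F.map f'' b →
      ∃ z : F.obj B, F.map p' z = a ∧ F.map p'' z = b := by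
  constructor
  · intro hs a b hab
    obtain ⟨z, hz⟩ := hs ⟨(a, b), hab⟩
    exact ⟨z, congrArg (fun t => t.1.1) hz, congrArg (fun t => t.1.2) hz⟩
  · intro hs x
    obtain ⟨z, h1, h2⟩ := hs x.1.1 x.1.2 x.2
    exact ⟨z, FibProd.ext h1 h2⟩

lemma cmp_injective_iff {B A A' A'' : Art Λ k} {p' : B ⟶ A'} {p'' : B ⟶ A''} {f' : A' ⟶ A}
    {f'' : A'' ⟶ A} (h : IsFibreProd p' p'' f' f'') :
    Function.Injective (cmp F h) ↔ ∀ (z₁ z₂ : F.obj B), F.map p' z₁ = F.map p' z₂ →
      F.map p'' z₁ = F.map p'' z₂ → z₁ = z₂ := by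
  constructor
  · intro hi z₁ z₂ h1 h2
    exact hi (FibProd.ext h1 h2)
  · intro hi z₁ z₂ hz
    exact hi z₁ z₂ (congrArg (fun t => t.1.1) hz) (congrArg (fun t => t.1.2) hz)

lemma s1_of_hbar (hF : Hbar F) : S1 F := by
  intro B A A' A'' p' p'' f' f'' h hs
  have key : ∀ ⦃A A'' : Art Λ k⦄ (f'' : A'' ⟶ A), Function.Surjective f'' →
      ∀ (B A' : Art Λ k) (p' : B ⟶ A') (p'' : B ⟶ A'') (f' : A' ⟶ A)
        (h : IsFibreProd p' p'' f' f''), Function.Surjective (cmp F h) := by
    refine surjective_induction (P := fun A A'' f'' => ∀ (B A' : Art Λ k) (p' : B ⟶ A') (p'' : B ⟶ A'')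
      (f' : A' ⟶ A) (h : IsFibreProd p' p'' f' f''), Function.Surjective (cmp F h)) ?_ ?_ ?_
    · intro A A'' e he B A' p' p'' f' h
      haveI := isIso_of_bij p' (fst_bijective h (bij_of_isIso e))
      rw [cmp_surjective_iff]
      intro a b hab
      obtain ⟨z, hz⟩ := (map_bij_of_isIso F p').2 a
      refine ⟨z, hz, (map_bij_of_isIso F e).1 ?_⟩
      rw [← hab, ← hz, ← FunctorToTypes.map_comp_apply, ← FunctorToTypes.map_comp_apply, h.w]
    · intro A A'' e he B A' p' p'' f' h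
      exact hF p' p'' f' e h he
    · intro A M A'' p q hps hqs ihp ihq B A' p' p'' f' h
      obtain ⟨B₁, q', q'', hB₁⟩ := exists_fibreProd f' q hqs
      obtain ⟨r, hr', hr''⟩ := exists_lift hB₁ p' (p'' ≫ p) (by rw [Category.assoc]; exact h.w)
      have hB : IsFibreProd r p'' q'' p := by
        refine ⟨hr'', fun b₁ b₂ e₁ e₂ => h.inj b₁ b₂ ?_ e₂, fun b c e => ?_⟩
        · rw [← hr']; exact congrArg q'.toAlgHom e₁
        · obtain ⟨x, hx₁, hx₂⟩ := h.surj (q'.toAlgHom b) c
            ((hB₁.w_apply b).trans (congrArg q.toAlgHom e))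
          refine ⟨x, hB₁.inj _ _ ?_ ?_, hx₂⟩
          · exact (congrArg (fun t : B ⟶ A' => t x) hr').trans hx₁
          · exact (congrArg (fun t : B ⟶ M => t x) hr'').trans ((congrArg p.toAlgHom hx₂).trans e.symm)
      rw [cmp_surjective_iff]
      intro a c hac
      rw [FunctorToTypes.map_comp_apply] at hac
      obtain ⟨z₁, h₁, h₂⟩ := (cmp_surjective_iff hB₁).1 (ihq _ _ _ _ _ hB₁) a (F.map p c) hac
      obtain ⟨z, h₃, h₄⟩ := (cmp_surjective_iff hB).1 (ihp _ _ _ _ _ hB) z₁ c h₂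
      refine ⟨z, ?_, h₄⟩
      rw [← hr', FunctorToTypes.map_comp_apply, h₃, h₁]
  exact key f'' hs B A' p' p'' f' h

lemma hbar_of_s1 (hF : S1 F) : Hbar F :=
  fun _ _ _ _ p' p'' f' f'' h hf => hF p' p'' f' f'' h hf.1

end Cond

/-! ### Smoothness -/

section Smooth

variable {F G : Art Λ k ⥤ Type v}

lemma relCmp_surjective_iff (η : F ⟶ G) {B A : Art Λ k} (μ : B ⟶ A) :
    Function.Surjective (relCmp η μ) ↔ ∀ (a : F.obj A) (b : G.obj B), η.app A a = G.map μ b →
      ∃ z : F.obj B, F.map μ z = a ∧ η.app B z = b := by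
  constructor
  · intro hs a b hab
    obtain ⟨z, hz⟩ := hs ⟨(a, b), hab⟩
    exact ⟨z, congrArg (fun t => t.1.1) hz, congrArg (fun t => t.1.2) hz⟩
  · intro hs x
    obtain ⟨z, h1, h2⟩ := hs x.1.1 x.1.2 x.2
    exact ⟨z, Subtype.ext (Prod.ext h1 h2)⟩

lemma isSmooth_of_smallExt (η : F ⟶ G)
    (h : ∀ ⦃B A : Art Λ k⦄ (μ : B ⟶ A), IsSmallExt μ → Function.Surjective (relCmp η μ)) :
    IsSmooth η := by
  intro B A μ hμ
  refine surjective_induction (P := fun A B μ => Function.Surjective (relCmp η μ)) ?_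
    (fun A B p hp => h p hp) ?_ μ hμ
  · intro A B e he
    rw [relCmp_surjective_iff]
    intro a b hab
    obtain ⟨z, hz⟩ := (map_bij_of_isIso F e).2 a
    refine ⟨z, hz, (map_bij_of_isIso G e).1 ?_⟩
    rw [← hab, ← hz]
    exact (NatTrans.naturality_apply η e z).symm
  · intro A B C p q _ _ hp hq
    rw [relCmp_surjective_iff] at hp hq ⊢
    intro a c hac
    rw [FunctorToTypes.map_comp_apply] at hac
    obtain ⟨b, hb₁, hb₂⟩ := hq a (G.map p c) hac
    obtain ⟨z, hz₁, hz₂⟩ := hp b c hb₂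
    exact ⟨z, by rw [FunctorToTypes.map_comp_apply, hz₁, hb₁], hz₂⟩

lemma app_surjective_of_isSmooth (η : F ⟶ G) (hη : IsSmooth η)
    (h0 : Function.Surjective (η.app (base Λ k))) (A : Art Λ k) : Function.Surjective (η.app A) := by
  intro y
  obtain ⟨a, ha⟩ := h0 (G.map (toBase A) y)
  obtain ⟨z, -, hz⟩ := (relCmp_surjective_iff η (toBase A)).1 (hη (toBase A) (toBase_surjective A)) a y ha
  exact ⟨z, hz⟩

end Smooth

/-! ### Versal families -/

section Versal

variable {R : Type u} [CommRing R] [Algebra Λ R] {resR : R →ₐ[Λ] k} {F : Art Λ k ⥤ Type v}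

instance subsingleton_homSet_base : Subsingleton (HomSet R resR (base Λ k)) :=
  ⟨fun φ ψ => Subtype.ext (by
    have h₁ := φ.2
    have h₂ := ψ.2
    exact ((AlgHom.id_comp φ.1).symm.trans h₁).trans ((AlgHom.id_comp ψ.1).symm.trans h₂).symm)⟩

/-- The point of `h_R(k)`. -/
def homSetBase : HomSet R resR (base Λ k) := ⟨resR, AlgHom.id_comp _⟩

lemma h0_of_surjective (ξ : Family R resR F) (hs : ∀ A, Function.Surjective (ξ.app A)) : H0 F :=
  ⟨⟨ξ.app _ homSetBase⟩, ⟨fun x y => by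
    obtain ⟨a, rfl⟩ := hs _ x
    obtain ⟨b, rfl⟩ := hs _ y
    rw [Subsingleton.elim a b]⟩⟩

lemma versal_surjective (ξ : Family R resR F) (hξ : IsVersal ξ) (h0 : H0 F) (A : Art Λ k) :
    Function.Surjective (ξ.app A) := fun y => by
  haveI := h0.2
  obtain ⟨ψ, -, h⟩ := hξ (toBase A) (toBase_surjective A) homSetBase y (Subsingleton.elim _ _)
  exact ⟨ψ, h⟩

lemma s1_of_versal (ξ : Family R resR F) (hξ : IsVersal ξ) (hs : ∀ A, Function.Surjective (ξ.app A)) :
    S1 F := by
  intro B A A' A'' p' p'' f' f'' h hf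
  rw [cmp_surjective_iff]
  intro a b hab
  obtain ⟨φ, hφ⟩ := hs A' a
  obtain ⟨ψ, hψ₁, hψ₂⟩ := hξ f'' hf (HomSet.map f' φ) b (by rw [ξ.natural, hφ, hab])
  obtain ⟨c, hc₁, hc₂⟩ := exists_liftHomSet h φ ψ hψ₁.symm
  exact ⟨ξ.app B c, by rw [← ξ.natural, hc₁, hφ], by rw [← ξ.natural, hc₂, hψ₂]⟩

lemma heps_of_miniversal (ξ : Family R resR F) (hξ : IsMiniversal ξ)
    (hs : ∀ A, Function.Surjective (ξ.app A)) : Heps F := by
  intro B A' p' p'' h
  refine ⟨(cmp_injective_iff h).2 fun z₁ z₂ h₁ h₂ => ?_,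
    s1_of_versal ξ hξ.1 hs p' p'' _ _ h (toBase_surjective _)⟩
  obtain ⟨φ, rfl⟩ := hs B z₁
  have hp : Function.Surjective p' := fst_surjective h (toBase_surjective _)
  obtain ⟨ψ, hψ₁, rfl⟩ := hξ.1 p' hp (HomSet.map p' φ) z₂ (by rw [ξ.natural, h₁])
  rw [← ξ.natural, ← ξ.natural] at h₂
  have h₃ := hξ.2.1 h₂
  congr 1
  exact Subtype.ext (AlgHom.ext fun r => h.inj _ _
    (congrArg (fun t : HomSet R resR A' => t.1 r) hψ₁).symm
    (congrArg (fun t : HomSet R resR (dual Λ k) => t.1 r) h₃))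

lemma h0_of_miniversal (ξ : Family R resR F) (hξ : IsMiniversal ξ) : H0 F :=
  ⟨⟨ξ.app _ homSetBase⟩, by
    have key : ∀ z : F.obj (base Λ k), z = ξ.app _ homSetBase := by
      intro z
      obtain ⟨φ, hφ⟩ := hξ.2.2 (F.map baseToDual z)
      have hid : baseToDual ≫ toBase (dual Λ k) = 𝟙 (base Λ k) :=
        (eq_toBase _).trans (eq_toBase _).symm
      calc z = F.map (toBase (dual Λ k)) (F.map baseToDual z) := by
            rw [← FunctorToTypes.map_comp_apply, hid, FunctorToTypes.map_id_apply]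
        _ = ξ.app _ (HomSet.map (toBase (dual Λ k)) φ) := by rw [← hφ, ξ.natural]
        _ = _ := congrArg _ (Subsingleton.elim _ _)
    exact ⟨fun x y => (key x).trans (key y).symm⟩⟩

end Versal

end Groth.Agent.H9Art
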