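import Groth.Agent.Lib.H9ArtTangent

/-!
Consequences of Schlessinger's conditions.
-/

set_option backward.isDefEq.respectTransparency false
set_option backward.isDefEq.respectTransparency.types false
set_option linter.deprecated false
set_option linter.unusedTactic false

universe u v

open CategoryTheory

namespace Groth.Agent.H9Art

open ArtFun ArtFun.Art IsLocalRing

variable {Λ : Type u} {k : Type u} [CommRing Λ] [Field k] [Algebra Λ k] {F : Art Λ k ⥤ Type v}

lemma injective_map_of_subsingleton_tangent (h1 : Hbar F) (h2 : Heps F)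
    (ht : Subsingleton (F.obj (dual Λ k))) ⦃A B : Art Λ k⦄ (p : B ⟶ A) (hp : Function.Surjective p) :
    Function.Injective (F.map p) := by
  refine surjective_induction (P := fun A B p => Function.Injective (F.map p)) ?_ ?_ ?_ p hp
  · intro A B e he
    exact (map_bij_of_isIso F e).1
  · intro A B p hp z₁ z₂ hz
    obtain ⟨t, ht0, htp, htm, hgen⟩ := exists_smallExt_generator hp
    obtain ⟨Q, q₁, q₂, hQ⟩ := exists_fibreProd p p hp.1
    obtain ⟨Δ, hΔ₁, hΔ₂⟩ := exists_lift hQ (𝟙 B) (𝟙 B) rfl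
    obtain ⟨δ, hδ, -⟩ := exists_delta hQ ht0 htp htm hgen
    obtain ⟨w, hw₁, hw₂⟩ := (cmp_surjective_iff hQ).1 (h1 q₁ q₂ p p hQ hp) z₁ z₂ hz
    rw [← hw₁, ← hw₂]
    exact (eq_of_delta h2 hδ hΔ₁ hΔ₂ w (Subsingleton.elim _ _)).symm
  · intro A B C p q _ _ hp hq z₁ z₂ hz
    rw [FunctorToTypes.map_comp_apply, FunctorToTypes.map_comp_apply] at hz
    exact hp (hq hz)

lemma bijective_cmp_of_surjective (h0 : H0 F) (h1 : Hbar F) (h2 : Heps F) (h4 : HSq F)
    ⦃B A A' A'' : Art Λ k⦄ (p' : B ⟶ A') (p'' : B ⟶ A'') (f' : A' ⟶ A) (f'' : A'' ⟶ A)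
    (h : IsFibreProd p' p'' f' f'') (hf : Function.Surjective f'') : Function.Bijective (cmp F h) := by
  refine ⟨?_, s1_of_hbar h1 p' p'' f' f'' h hf⟩
  haveI := h0.2
  revert B A' p' p'' f'
  refine surjective_induction (P := fun A A'' f'' => ∀ (B A' : Art Λ k) (p' : B ⟶ A') (p'' : B ⟶ A'')
    (f' : A' ⟶ A) (h : IsFibreProd p' p'' f' f''), Function.Injective (cmp F h)) ?_ ?_ ?_ f'' hf
  · intro A A'' e he B A' p' p'' f' h
    haveI := isIso_of_bij p' (fst_bijective h (bij_of_isIso e))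
    exact (cmp_injective_iff h).2 fun z₁ z₂ hz _ => (map_bij_of_isIso F p').1 hz
  · intro A A'' f'' hf B A' p' p'' f' h
    rw [cmp_injective_iff]
    intro z₁ z₂ hz' hz''
    obtain ⟨t, ht0, htf, htm, hgen⟩ := exists_smallExt_generator hf
    obtain ⟨b₀, hb₁, hb₂⟩ := h.surj 0 t ((map_zero f'.toAlgHom).trans htf.symm)
    have hb0 : b₀ ≠ 0 := fun e => ht0 (hb₂.symm.trans (e ▸ map_zero p''.toAlgHom))
    have hbm : ∀ x ∈ maximalIdeal B, x * b₀ = 0 := fun x hx => by
      apply h.inj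
      · change p'.toAlgHom (x * b₀) = p'.toAlgHom 0
        rw [map_mul, show p'.toAlgHom b₀ = 0 from hb₁, mul_zero, map_zero]
      · change p''.toAlgHom (x * b₀) = p''.toAlgHom 0
        rw [map_mul, map_zero, show p''.toAlgHom b₀ = t from hb₂]
        exact htm _ ((Art.mem_maximalIdeal_iff A'' _).2 ((res_app p'' x).trans ((Art.mem_maximalIdeal_iff B x).1 hx)))
    have hbgen : ∀ a : B, p'.toAlgHom a = 0 → ∃ c : B, a = c * b₀ := fun a ha => by
      obtain ⟨c, hc⟩ := hgen (p''.toAlgHom a)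
        ((h.w_apply a).symm.trans ((congrArg f'.toAlgHom ha).trans (map_zero _)))
      obtain ⟨s, hs⟩ := B.res_surjective (A''.res c)
      refine ⟨s, h.inj _ _ ?_ ?_⟩
      · change p'.toAlgHom a = p'.toAlgHom (s * b₀)
        rw [map_mul, show p'.toAlgHom b₀ = 0 from hb₁, mul_zero, ha]
      · change p''.toAlgHom a = p''.toAlgHom (s * b₀)
        rw [map_mul, show p''.toAlgHom b₀ = t from hb₂, hc, ← sub_eq_zero, ← sub_mul]
        exact htm _ ((Art.mem_maximalIdeal_iff A'' _).2 (by rw [map_sub, res_app p'' s, hs, sub_self]))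
    have hp' : IsSmallExt p' := isSmallExt_fst h hf
    obtain ⟨Q, q₁, q₂, hQ⟩ := exists_fibreProd p' p' hp'.1
    obtain ⟨Δ, hΔ₁, hΔ₂⟩ := exists_lift hQ (𝟙 B) (𝟙 B) rfl
    obtain ⟨δ, hδ, hδv⟩ := exists_delta hQ hb0 hb₁ hbm hbgen
    obtain ⟨w, hw₁, hw₂⟩ := (cmp_surjective_iff hQ).1 (h1 q₁ q₂ p' p' hQ hp') z₁ z₂ hz'
    obtain ⟨Q', r₁, r₂, hQ'⟩ := exists_fibreProd f'' f'' hf.1
    obtain ⟨Δ', hΔ₁', hΔ₂'⟩ := exists_lift hQ' (𝟙 A'') (𝟙 A'') rfl
    obtain ⟨δ', -, hδv'⟩ := exists_delta hQ' ht0 htf htm hgen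
    obtain ⟨g, hg₁, hg₂⟩ := exists_lift hQ' (q₁ ≫ p'') (q₂ ≫ p'')
      (by rw [Category.assoc, Category.assoc, ← h.w, ← Category.assoc, hQ.w, Category.assoc])
    have hgδ : g ≫ δ' = δ := by
      apply Art.hom_ext; apply AlgHom.ext; intro x
      apply TrivSqZeroExt.ext
      · exact (res_app (g ≫ δ') x).trans (res_app δ x).symm
      · obtain ⟨c, hc⟩ := hbgen (q₂ x - q₁ x) (by rw [map_sub]; exact sub_eq_zero.2 (hQ.w_apply x).symm)
        have e : r₂ (g x) - r₁ (g x) = p''.toAlgHom c * t := by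
          rw [show r₂ (g x) = (g ≫ r₂) x from rfl, show r₁ (g x) = (g ≫ r₁) x from rfl, hg₁, hg₂,
            ← hb₂]
          change p''.toAlgHom (q₂ x) - p''.toAlgHom (q₁ x) = p''.toAlgHom c * p''.toAlgHom b₀
          rw [← map_sub, hc, map_mul]
        exact (hδv' (g x) _ e).trans ((res_app p'' c).trans (hδv x c hc).symm)
    have hW : F.map g w = F.map Δ' (F.map p'' z₁) := by
      refine (cmp_injective_iff hQ').1 (h4 r₁ r₂ f'' hQ' hf).1 _ _ ?_ ?_
      · rw [← FunctorToTypes.map_comp_apply F g r₁, hg₁, FunctorToTypes.map_comp_apply, hw₁,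
          ← FunctorToTypes.map_comp_apply F Δ' r₁, hΔ₁', FunctorToTypes.map_id_apply]
      · rw [← FunctorToTypes.map_comp_apply F g r₂, hg₂, FunctorToTypes.map_comp_apply, hw₂,
          ← FunctorToTypes.map_comp_apply F Δ' r₂, hΔ₂', FunctorToTypes.map_id_apply, hz'']
    have key : F.map δ w = F.map δ (F.map Δ (F.map q₁ w)) := by
      have e1 : F.map δ w = F.map δ' (F.map g w) := by rw [← FunctorToTypes.map_comp_apply, hgδ]
      rw [e1, hW, ← FunctorToTypes.map_comp_apply F Δ' δ', ← FunctorToTypes.map_comp_apply F Δ δ,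
        delta_diag hδv' Δ' (hΔ₁'.trans hΔ₂'.symm), delta_diag hδv Δ (hΔ₁.trans hΔ₂.symm),
        FunctorToTypes.map_comp_apply, FunctorToTypes.map_comp_apply]
      exact congrArg (F.map baseToDual) (Subsingleton.elim _ _)
    rw [← hw₁, ← hw₂]
    exact (eq_of_delta h2 hδ hΔ₁ hΔ₂ w key).symm
  · intro A M A'' p q hps hqs ihp ihq B A' p' p'' f' h
    obtain ⟨B₁, q', q'', hB₁⟩ := exists_fibreProd f' q hqs
    obtain ⟨r, hr', hr''⟩ := exists_lift hB₁ p' (p'' ≫ p) (by rw [Category.assoc]; exact h.w)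
    have hB : IsFibreProd r p'' q'' p := by
      refine ⟨hr'', fun b₁ b₂ e₁ e₂ => h.inj b₁ b₂ ?_ e₂, fun b c e => ?_⟩
      · rw [← hr']; exact congrArg q'.toAlgHom e₁
      · obtain ⟨x, hx₁, hx₂⟩ := h.surj (q'.toAlgHom b) c
          ((hB₁.w_apply b).trans (congrArg q.toAlgHom e))
        refine ⟨x, hB₁.inj _ _ ?_ ?_, hx₂⟩
        · exact (congrArg (fun t : B ⟶ A' => t x) hr').trans hx₁
        · exact (congrArg (fun t : B ⟶ M => t x) hr'').trans ((congrArg p.toAlgHom hx₂).trans e.symm)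
    rw [cmp_injective_iff]
    intro z₁ z₂ hz' hz''
    refine (cmp_injective_iff hB).1 (ihp _ _ _ _ _ hB) z₁ z₂
      ((cmp_injective_iff hB₁).1 (ihq _ _ _ _ _ hB₁) _ _ ?_ ?_) hz''
    · rw [← FunctorToTypes.map_comp_apply, ← FunctorToTypes.map_comp_apply, hr', hz']
    · rw [← FunctorToTypes.map_comp_apply, ← FunctorToTypes.map_comp_apply, hr'',
        FunctorToTypes.map_comp_apply, FunctorToTypes.map_comp_apply, hz'']

end Groth.Agent.H9Art
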