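import Groth.Agent.Lib.H9Art
import Mathlib.LinearAlgebra.Dual.Lemmas

/-!
Tangent spaces of functors of Artin rings: the vector space structure, maps to dual numbers,
square-zero objects, and the square of a small extension.
-/

set_option backward.isDefEq.respectTransparency false
set_option backward.isDefEq.respectTransparency.types false
set_option linter.deprecated false
set_option linter.unusedTactic false

universe u v

open CategoryTheory

namespace Groth.Agent.H9Art

open ArtFun ArtFun.Art IsLocalRing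

variable {Λ : Type u} {k : Type u} [CommRing Λ] [Field k] [Algebra Λ k]

/-! ### The vector space structure -/

variable (Λ k) in
/-- `k[ε₁, ε₂, ε₃]`. -/
def dual3 : Art Λ k :=
  { carrier := TrivSqZeroExt k ((k × k) × k)
    isLocalRing := isLocalRing_tsze k ((k × k) × k)
    isArtinianRing := isArtinianRing_tsze k ((k × k) × k)
    res := TrivSqZeroExt.fstHom Λ k ((k × k) × k)
    res_surjective := fun a => ⟨TrivSqZeroExt.inl a, rfl⟩ }

/-- A functional gives a map `k[ε₁, ε₂, ε₃] → k[ε]`. -/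
def dl (L : (k × k) × k →ₗ[k] k) : dual3 Λ k ⟶ dual Λ k := ⟨tszeMap L, AlgHom.ext fun _ => rfl⟩

/-- A pair of functionals gives a map `k[ε₁, ε₂, ε₃] → k[ε₁, ε₂]`. -/
def dl2 (L : (k × k) × k →ₗ[k] k × k) : dual3 Λ k ⟶ dual2 Λ k := ⟨tszeMap L, AlgHom.ext fun _ => rfl⟩

lemma isFibreProd_dual3 :
    IsFibreProd (dl2 (LinearMap.fst k (k × k) k) : dual3 Λ k ⟶ _) (dl (LinearMap.snd k (k × k) k))
      (toBase (dual2 Λ k)) (toBase (dual Λ k)) where
  w := (eq_toBase _).trans (eq_toBase _).symm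
  inj b₁ b₂ h₁ h₂ := by
    have e₁ : b₁.fst = b₂.fst := by have e := congrArg TrivSqZeroExt.fst h₁; exact e
    have e₂ : b₁.snd.1 = b₂.snd.1 := by have e := congrArg TrivSqZeroExt.snd h₁; exact e
    have e₃ : b₁.snd.2 = b₂.snd.2 := by have e := congrArg TrivSqZeroExt.snd h₂; exact e
    exact TrivSqZeroExt.ext e₁ (Prod.ext e₂ e₃)
  surj a' a'' h := by
    have h' : a'.fst = a''.fst := h
    exact ⟨(a'.fst, (a'.snd, a''.snd)), TrivSqZeroExt.ext rfl rfl, TrivSqZeroExt.ext h' rfl⟩

section Add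

variable {F : Art Λ k ⥤ Type v} (h0 : H0 F) (h2 : Heps F)

include h0 h2 in
lemma exists_pair (x y : F.obj (dual Λ k)) :
    ∃ z : F.obj (dual2 Λ k), F.map pr₁ z = x ∧ F.map pr₂ z = y := by
  haveI := h0.2
  exact (cmp_surjective_iff isFibreProd_dual2).1 (h2 _ _ isFibreProd_dual2).2 x y (Subsingleton.elim _ _)

include h2 in
lemma pair_unique {z z' : F.obj (dual2 Λ k)} (h₁ : F.map pr₁ z = F.map pr₁ z')
    (h₂ : F.map pr₂ z = F.map pr₂ z') : z = z' :=
  (cmp_injective_iff isFibreProd_dual2).1 (h2 _ _ isFibreProd_dual2).1 z z' h₁ h₂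

/-- Addition on `F(k[ε])`. -/
noncomputable def tadd (x y : F.obj (dual Λ k)) : F.obj (dual Λ k) :=
  F.map plus (exists_pair h0 h2 x y).choose

lemma tadd_eq (z : F.obj (dual2 Λ k)) : tadd h0 h2 (F.map pr₁ z) (F.map pr₂ z) = F.map plus z :=
  congrArg (fun t => F.map plus t) (pair_unique h2
    (exists_pair h0 h2 (F.map pr₁ z) (F.map pr₂ z)).choose_spec.1
    (exists_pair h0 h2 (F.map pr₁ z) (F.map pr₂ z)).choose_spec.2)

lemma tadd_dl (L₁ L₂ : (k × k) × k →ₗ[k] k) (w : F.obj (dual3 Λ k)) :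
    tadd h0 h2 (F.map (dl L₁) w) (F.map (dl L₂) w) = F.map (dl (L₁ + L₂)) w := by
  have e₁ : dl2 (Λ := Λ) (L₁.prod L₂) ≫ pr₁ = dl L₁ := Art.hom_ext (AlgHom.ext fun _ => rfl)
  have e₂ : dl2 (Λ := Λ) (L₁.prod L₂) ≫ pr₂ = dl L₂ := Art.hom_ext (AlgHom.ext fun _ => rfl)
  have e₃ : dl2 (Λ := Λ) (L₁.prod L₂) ≫ plus = dl (L₁ + L₂) := Art.hom_ext (AlgHom.ext fun _ => rfl)
  have h := tadd_eq h0 h2 (F.map (dl2 (L₁.prod L₂)) w)
  rwa [← FunctorToTypes.map_comp_apply, ← FunctorToTypes.map_comp_apply,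
    ← FunctorToTypes.map_comp_apply, e₁, e₂, e₃] at h

lemma scale_dl (c : k) (L : (k × k) × k →ₗ[k] k) (w : F.obj (dual3 Λ k)) :
    F.map (scale c) (F.map (dl L) w) = F.map (dl (c • L)) w := by
  have e : dl (Λ := Λ) L ≫ scale c = dl (c • L) := Art.hom_ext (AlgHom.ext fun _ => rfl)
  rw [← FunctorToTypes.map_comp_apply, e]

include h0 in
lemma dl_zero (w : F.obj (dual3 Λ k)) :
    F.map (dl 0) w = F.map baseToDual (Classical.choice h0.1) := by
  have e : dl (Λ := Λ) (k := k) 0 = toBase (dual3 Λ k) ≫ baseToDual :=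
    Art.hom_ext (AlgHom.ext fun x => TrivSqZeroExt.ext rfl rfl)
  haveI := h0.2
  rw [e, FunctorToTypes.map_comp_apply]
  exact congrArg (F.map baseToDual) (Subsingleton.elim _ _)

include h0 h2 in
lemma exists_rep (x y z : F.obj (dual Λ k)) : ∃ w : F.obj (dual3 Λ k),
    x = F.map (dl ((LinearMap.fst k k k).comp (LinearMap.fst k (k × k) k))) w ∧
    y = F.map (dl ((LinearMap.snd k k k).comp (LinearMap.fst k (k × k) k))) w ∧
    z = F.map (dl (LinearMap.snd k (k × k) k)) w := by
  haveI := h0.2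
  obtain ⟨v, hv₁, hv₂⟩ := exists_pair h0 h2 x y
  obtain ⟨w, hw₁, hw₂⟩ := (cmp_surjective_iff isFibreProd_dual3).1 (h2 _ _ isFibreProd_dual3).2 v z
    (Subsingleton.elim _ _)
  have e₁ : dl2 (Λ := Λ) (LinearMap.fst k (k × k) k) ≫ pr₁ =
      dl ((LinearMap.fst k k k).comp (LinearMap.fst k (k × k) k)) := Art.hom_ext (AlgHom.ext fun _ => rfl)
  have e₂ : dl2 (Λ := Λ) (LinearMap.fst k (k × k) k) ≫ pr₂ =
      dl ((LinearMap.snd k k k).comp (LinearMap.fst k (k × k) k)) := Art.hom_ext (AlgHom.ext fun _ => rfl)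
  refine ⟨w, ?_, ?_, hw₂.symm⟩
  · rw [← e₁, FunctorToTypes.map_comp_apply, hw₁, hv₁]
  · rw [← e₂, FunctorToTypes.map_comp_apply, hw₁, hv₂]

include h0 h2 in
theorem nonempty_tangentStr : Nonempty (TangentStr F) := by
  let A := tadd h0 h2
  let O : F.obj (dual Λ k) := F.map baseToDual (Classical.choice h0.1)
  have hO : ∀ w : F.obj (dual3 Λ k), O = F.map (dl 0) w := fun w => (dl_zero h0 w).symm
  letI : Add (F.obj (dual Λ k)) := ⟨A⟩
  letI : Zero (F.obj (dual Λ k)) := ⟨O⟩
  letI : Neg (F.obj (dual Λ k)) := ⟨fun x => F.map (scale (-1)) x⟩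
  letI g : AddCommGroup (F.obj (dual Λ k)) :=
    { nsmul := nsmulRec
      zsmul := zsmulRec
      add_assoc := fun x y z => by
        change A (A x y) z = A x (A y z)
        obtain ⟨w, rfl, rfl, rfl⟩ := exists_rep h0 h2 x y z
        simp only [A, tadd_dl, add_assoc]
      zero_add := fun x => by
        change A O x = x
        obtain ⟨w, rfl, -, -⟩ := exists_rep h0 h2 x x x
        simp only [A, hO w, tadd_dl, zero_add]
      add_zero := fun x => by
        change A x O = x
        obtain ⟨w, rfl, -, -⟩ := exists_rep h0 h2 x x x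
        simp only [A, hO w, tadd_dl, add_zero]
      neg_add_cancel := fun x => by
        change A (F.map (scale (-1)) x) x = O
        obtain ⟨w, rfl, -, -⟩ := exists_rep h0 h2 x x x
        simp only [A, hO w, tadd_dl, scale_dl]
        refine congrArg (fun L => F.map (dl L) w) (LinearMap.ext fun v => ?_)
        change (-1 : k) * v.1.1 + v.1.1 = 0
        ring
      add_comm := fun x y => by
        change A x y = A y x
        obtain ⟨w, rfl, rfl, -⟩ := exists_rep h0 h2 x y y
        simp only [A, tadd_dl, add_comm] }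
  refine ⟨{ addCommGroup := g, module := @Module.mk k _ _ _ (@DistribMulAction.mk k _ _ _ (@MulAction.mk k _ _ (@SemigroupAction.mk k _ _ ⟨fun c x => F.map (scale c) x⟩ ?_) ?_) ?_ ?_) ?_ ?_, smul_eq := fun _ _ => rfl, add_eq := fun z => tadd_eq h0 h2 z }⟩
  · intro c d x
    change F.map (scale (c * d)) x = F.map (scale c) (F.map (scale d) x)
    obtain ⟨w, rfl, -, -⟩ := exists_rep h0 h2 x x x
    simp only [scale_dl, mul_smul]
  · intro x
    change F.map (scale 1) x = x
    obtain ⟨w, rfl, -, -⟩ := exists_rep h0 h2 x x x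
    simp only [scale_dl, one_smul]
  · intro c
    change F.map (scale c) O = O
    obtain ⟨w, -, -, -⟩ := exists_rep h0 h2 O O O
    simp only [hO w, scale_dl, smul_zero]
  · intro c x y
    change F.map (scale c) (A x y) = A (F.map (scale c) x) (F.map (scale c) y)
    obtain ⟨w, rfl, rfl, -⟩ := exists_rep h0 h2 x y y
    simp only [A, tadd_dl, scale_dl, smul_add]
  · intro c d x
    change F.map (scale (c + d)) x = A (F.map (scale c) x) (F.map (scale d) x)
    obtain ⟨w, rfl, -, -⟩ := exists_rep h0 h2 x x x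
    simp only [A, tadd_dl, scale_dl, add_smul]
  · intro x
    change F.map (scale 0) x = O
    obtain ⟨w, rfl, -, -⟩ := exists_rep h0 h2 x x x
    simp only [hO w, scale_dl, zero_smul]

end Add

section Linear

variable {F G : Art Λ k ⥤ Type v} [TF : TangentStr F] [TG : TangentStr G]

lemma exists_linearMap_tangentMap (h0 : H0 F) (h2 : Heps F) (φ : F ⟶ G) :
    ∃ f : TangentSpace F →ₗ[k] TangentSpace G, ⇑f = TangentSpace.map φ :=
  ⟨{ toFun := TangentSpace.map φ
     map_add' := fun x y => by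
       obtain ⟨z, h₁, h₂⟩ := exists_pair h0 h2 (TangentSpace.val x) (TangentSpace.val y)
       letI := TF.addCommGroup
       letI := TG.addCommGroup
       change φ.app _ (TangentSpace.val x + TangentSpace.val y) = φ.app _ (TangentSpace.val x) + φ.app _ (TangentSpace.val y)
       rw [← h₁, ← h₂, TF.add_eq, NatTrans.naturality_apply φ, NatTrans.naturality_apply φ,
         NatTrans.naturality_apply φ, TG.add_eq]
     map_smul' := fun c x => by
       letI := TF.addCommGroup
       letI := TG.addCommGroup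
       letI := TF.module
       letI := TG.module
       change φ.app _ (c • TangentSpace.val x) = c • φ.app _ (TangentSpace.val x)
       rw [TF.smul_eq, TG.smul_eq, NatTrans.naturality_apply φ] }, rfl⟩

end Linear

/-! ### Square-zero objects and maps to the dual numbers -/

section ToDual

lemma mul_eq_mul_of_res_eq {E : Art Λ k} (hE : maximalIdeal E ^ 2 = ⊥) {a b x : E}
    (hab : E.res a = E.res b) (hx : x ∈ maximalIdeal E) : a * x = b * x := by
  have h : (a - b) * x ∈ maximalIdeal E ^ 2 := by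
    rw [pow_two]
    exact Ideal.mul_mem_mul ((Art.mem_maximalIdeal_iff E _).2 (by rw [map_sub, hab, sub_self])) hx
  rw [hE, Ideal.mem_bot, sub_mul] at h
  exact sub_eq_zero.1 h

/-- The maximal ideal of a square-zero object as a vector space over `k`. -/
noncomputable abbrev mModule {E : Art Λ k} (hE : maximalIdeal E ^ 2 = ⊥) : Module k (maximalIdeal E) where
  smul c x := (Function.surjInv E.res_surjective c) • x
  one_smul x := Subtype.ext ((mul_eq_mul_of_res_eq hE (b := 1)
    (by rw [Function.surjInv_eq E.res_surjective, map_one]) x.2).trans (one_mul _))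
  mul_smul c d x := Subtype.ext ((mul_eq_mul_of_res_eq hE
    (b := Function.surjInv E.res_surjective c * Function.surjInv E.res_surjective d)
    (by rw [map_mul, Function.surjInv_eq E.res_surjective, Function.surjInv_eq E.res_surjective, Function.surjInv_eq E.res_surjective]) x.2).trans (mul_assoc _ _ _))
  smul_zero c := Subtype.ext (mul_zero _)
  smul_add c x y := Subtype.ext (mul_add _ _ _)
  add_smul c d x := Subtype.ext ((mul_eq_mul_of_res_eq hE
    (b := Function.surjInv E.res_surjective c + Function.surjInv E.res_surjective d)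
    (by rw [map_add, Function.surjInv_eq E.res_surjective, Function.surjInv_eq E.res_surjective, Function.surjInv_eq E.res_surjective]) x.2).trans (add_mul _ _ _))
  zero_smul x := Subtype.ext ((mul_eq_mul_of_res_eq hE (b := 0)
    (by rw [Function.surjInv_eq E.res_surjective, map_zero]) x.2).trans (zero_mul _))

/-- If the image of `f` misses `e`, some map to the dual numbers kills the image and not `e`. -/
lemma exists_toDual {E : Art Λ k} (hE : maximalIdeal E ^ 2 = ⊥) {R : Type u} [CommRing R] [Algebra Λ R]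
    (f : R →ₐ[Λ] E) (hf : Function.Surjective (E.res.comp f)) (e : E) (he : e ∉ Set.range f) :
    ∃ g : E ⟶ dual Λ k, (∀ r, (g (f r)).snd = 0) ∧ (g e).snd ≠ 0 := by
  letI := mModule hE
  have hsmul : ∀ (a : E) (x : maximalIdeal E), (E.res a • x : maximalIdeal E) = a • x := fun a x =>
    Subtype.ext (mul_eq_mul_of_res_eq hE (Function.surjInv_eq E.res_surjective (E.res a)) x.2)
  let W : Submodule k (maximalIdeal E) :=
    { carrier := {x | (x : E) ∈ Set.range f}
      add_mem' := fun {x y} hx hy => by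
        obtain ⟨r, hr⟩ := hx; obtain ⟨s, hs⟩ := hy
        exact ⟨r + s, by rw [map_add, hr, hs]; rfl⟩
      zero_mem' := ⟨0, map_zero f⟩
      smul_mem' := fun c x hx => by
        obtain ⟨r, hr⟩ := hx
        obtain ⟨s, rfl⟩ := hf c
        refine ⟨s * r, ?_⟩
        rw [map_mul, hr]
        exact (congrArg Subtype.val (hsmul (f s) x)).symm }
  obtain ⟨sec, hsec⟩ := hf.hasRightInverse
  have hd : ∀ a : E, a - f (sec (E.res a)) ∈ maximalIdeal E := fun a =>
    (Art.mem_maximalIdeal_iff E _).2 (by rw [map_sub]; exact sub_eq_zero.2 (hsec _).symm)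
  have hnot : (⟨_, hd e⟩ : maximalIdeal E) ∉ W := by
    rintro ⟨r, hr⟩
    exact he ⟨r + sec (E.res e), by rw [map_add, hr]; exact sub_add_cancel _ _⟩
  obtain ⟨l, hle, hlW⟩ := Submodule.exists_dual_map_eq_bot_of_notMem hnot inferInstance
  have hlW' : ∀ x ∈ W, l x = 0 := fun x hx => by
    have : l x ∈ Submodule.map l W := ⟨x, hx, rfl⟩
    rwa [hlW, Submodule.mem_bot] at this
  have indep : ∀ (a : E) (r : R) (hr : a - f r ∈ maximalIdeal E),
      l ⟨_, hd a⟩ = l ⟨_, hr⟩ := fun a r hr => by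
    rw [← sub_eq_zero, ← map_sub]
    exact hlW' _ ⟨r - sec (E.res a), by
      rw [map_sub]
      change _ = (a - f (sec (E.res a))) - (a - f r)
      ring⟩
  have hker' : ∀ (a : E) (r : R), f r = a → l ⟨_, hd a⟩ = 0 := fun a r har => by
    rw [indep a r (by rw [har, sub_self]; exact zero_mem _)]
    exact (congrArg l (Subtype.ext (sub_eq_zero.2 har.symm))).trans (map_zero l)
  have hker : ∀ r : R, l ⟨_, hd (f r)⟩ = 0 := fun r => hker' _ r rfl
  let g : E →ₐ[Λ] DualNumber k :=
    { toFun := fun a => (E.res a, l ⟨_, hd a⟩)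
      map_one' := TrivSqZeroExt.ext (map_one E.res) (hker' 1 1 (map_one f))
      map_mul' := fun a b => TrivSqZeroExt.ext (map_mul E.res a b) (by
        change l ⟨_, hd (a * b)⟩ = E.res a • l ⟨_, hd b⟩ + MulOpposite.op (E.res b) • l ⟨_, hd a⟩
        rw [op_smul_eq_smul, ← map_smul, ← map_smul, ← map_add,
          indep (a * b) (sec (E.res a) * sec (E.res b)) ((Art.mem_maximalIdeal_iff E _).2 (by
            rw [map_sub, map_mul f, map_mul, map_mul]
            change E.res a * E.res b - E.res.comp f _ * E.res.comp f _ = 0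
            rw [hsec, hsec, sub_self]))]
        congr 1
        have hbm := hsmul (f (sec (E.res a))) ⟨_, hd b⟩
        have hr : E.res (f (sec (E.res a))) = E.res a := hsec _
        rw [hr] at hbm
        rw [hbm, hsmul b]
        refine Subtype.ext ?_
        change a * b - f (sec (E.res a) * sec (E.res b)) =
          f (sec (E.res a)) * (b - f (sec (E.res b))) + b * (a - f (sec (E.res a)))
        rw [map_mul]; ring)
      map_zero' := TrivSqZeroExt.ext (map_zero E.res) (hker' 0 0 (map_zero f))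
      map_add' := fun a b => TrivSqZeroExt.ext (map_add E.res a b) (by
        change l ⟨_, hd (a + b)⟩ = l ⟨_, hd a⟩ + l ⟨_, hd b⟩
        rw [← map_add, indep (a + b) (sec (E.res a) + sec (E.res b)) ((Art.mem_maximalIdeal_iff E _).2 (by
            rw [map_sub, map_add f, map_add, map_add]
            change E.res a + E.res b - (E.res.comp f _ + E.res.comp f _) = 0
            rw [hsec, hsec, sub_self]))]
        refine congrArg l (Subtype.ext ?_)
        change a + b - f (sec (E.res a) + sec (E.res b)) = (a - f (sec (E.res a))) + (b - f (sec (E.res b)))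
        simp only [map_add]; ring)
      commutes' := fun r => TrivSqZeroExt.ext (by
          rw [TrivSqZeroExt.algebraMap_eq_inl', TrivSqZeroExt.fst_inl]
          exact E.res.commutes r) (by
        rw [TrivSqZeroExt.algebraMap_eq_inl', TrivSqZeroExt.snd_inl]
        exact hker' _ (algebraMap Λ R r) (f.commutes r)) }
  exact ⟨⟨g, AlgHom.ext fun _ => rfl⟩, fun r => hker r, hle⟩

/-- With a section, a nonzero element of the maximal ideal is detected by a map to the dual numbers. -/
lemma exists_toDual_section {E : Art Λ k} (hE : maximalIdeal E ^ 2 = ⊥) (σ : base Λ k ⟶ E)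
    {t : E} (ht : t ∈ maximalIdeal E) (ht0 : t ≠ 0) :
    ∃ g : E ⟶ dual Λ k, (g t).snd = 1 := by
  obtain ⟨g, -, hg⟩ := exists_toDual hE σ.toAlgHom (fun c => ⟨c, res_app σ c⟩) t fun ⟨c, hc⟩ => by
    have h : E.res t = c := by rw [← hc]; exact res_app σ c
    rw [(Art.mem_maximalIdeal_iff E t).1 ht] at h
    exact ht0 (by rw [← hc, ← h]; exact map_zero σ.toAlgHom)
  exact ⟨g ≫ scale ((g t).snd)⁻¹, inv_mul_cancel₀ hg⟩

lemma homSet_ext_dual {E : Art Λ k} (hE : maximalIdeal E ^ 2 = ⊥) (σ : base Λ k ⟶ E)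
    {R : Type u} [CommRing R] [Algebra Λ R] {resR : R →ₐ[Λ] k} {φ ψ : HomSet R resR E}
    (h : ∀ g : E ⟶ dual Λ k, HomSet.map g φ = HomSet.map g ψ) : φ = ψ := by
  refine Subtype.ext (AlgHom.ext fun r => sub_eq_zero.1 ?_)
  by_contra hne
  have hm : φ.1 r - ψ.1 r ∈ maximalIdeal E := by
    rw [Art.mem_maximalIdeal_iff, map_sub]
    exact sub_eq_zero.2 ((congrArg (fun t : R →ₐ[Λ] k => t r) φ.2).trans
      (congrArg (fun t : R →ₐ[Λ] k => t r) ψ.2).symm)
  obtain ⟨g, hg⟩ := exists_toDual_section hE σ hm hne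
  have h2 : g.toAlgHom (φ.1 r) = g.toAlgHom (ψ.1 r) :=
    congrArg (fun t : HomSet R resR (dual Λ k) => t.1 r) (h g)
  rw [show (g (φ.1 r - ψ.1 r)) = 0 from (map_sub g.toAlgHom _ _).trans (sub_eq_zero.2 h2)] at hg
  exact zero_ne_one hg

lemma bijective_cmp_sqZero {F : Art Λ k ⥤ Type v} (hF : Heps F) (E : Art Λ k)
    (σ : base Λ k ⟶ E) (hE : maximalIdeal E ^ 2 = ⊥) ⦃B A : Art Λ k⦄ (p' : B ⟶ A) (p'' : B ⟶ E)
    (h : IsFibreProd p' p'' (toBase A) (toBase E)) : Function.Bijective (cmp F h) := by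
  induction hn : Module.length E E using WellFoundedLT.induction generalizing E B A with
  | _ n ih =>
  by_cases hm : maximalIdeal E = ⊥
  · have hb : Function.Bijective (toBase E) := by
      refine ⟨?_, toBase_surjective E⟩
      change Function.Injective (toBase E).toAlgHom
      rw [injective_iff_map_eq_zero]
      intro x hx
      exact (Ideal.mem_bot).1 (hm ▸ (Art.mem_maximalIdeal_iff E x).2 hx)
    haveI := isIso_of_bij _ hb
    haveI := isIso_of_bij p' (fst_bijective h hb)
    refine ⟨(cmp_injective_iff h).2 fun z₁ z₂ h₁ _ => (map_bij_of_isIso F p').1 h₁,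
      (cmp_surjective_iff h).2 fun a b hab => ?_⟩
    obtain ⟨z, hz⟩ := (map_bij_of_isIso F p').2 a
    refine ⟨z, hz, (map_bij_of_isIso F (toBase E)).1 ?_⟩
    rw [← hab, ← hz, ← FunctorToTypes.map_comp_apply, ← FunctorToTypes.map_comp_apply, h.w]
  obtain ⟨t, ht, ht0⟩ := Submodule.exists_mem_ne_zero_of_ne_bot hm
  obtain ⟨g, hg⟩ := exists_toDual_section hE σ ht ht0
  have hK : Ideal.span {t} ≤ maximalIdeal E := (Ideal.span_singleton_le_iff_mem _).2 ht
  let q : E ⟶ quot E (Ideal.span {t}) hK := quotMk E (Ideal.span {t}) hK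
  have hgat : ∀ a : E, (g (a * t)).snd = E.res a := fun a => by
    change (g.toAlgHom (a * t)).snd = _
    rw [map_mul, DualNumber.snd_mul, hg, mul_one]
    have h1 : TrivSqZeroExt.fst (g.toAlgHom a) = E.res a := res_app g a
    have h2 : TrivSqZeroExt.fst (g.toAlgHom t) = 0 := (res_app g t).trans ((Art.mem_maximalIdeal_iff E t).1 ht)
    rw [h1, h2, mul_zero, add_zero]
  have hEsq : IsFibreProd q g (toBase (quot E (Ideal.span {t}) hK)) (toBase (dual Λ k)) := by
    refine ⟨(eq_toBase _).trans (eq_toBase _).symm, fun a b h₁ h₂ => ?_, fun x d hxd => ?_⟩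
    · obtain ⟨c, hc⟩ := Ideal.mem_span_singleton'.1 (Ideal.Quotient.eq.1 h₁)
      have h3 : g.toAlgHom (c * t) = 0 := by rw [hc, map_sub]; exact sub_eq_zero.2 h₂
      have h4 := hgat c
      rw [show g (c * t) = g.toAlgHom (c * t) from rfl, h3] at h4
      rw [← sub_eq_zero, ← hc, mul_eq_mul_of_res_eq hE (b := 0) (by rw [map_zero]; exact h4.symm) ht, zero_mul]
    · obtain ⟨a, rfl⟩ := Ideal.Quotient.mk_surjective x
      obtain ⟨c, hc⟩ := E.res_surjective (d.snd - (g a).snd)
      refine ⟨a + c * t, ?_, TrivSqZeroExt.ext ?_ ?_⟩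
      · exact Ideal.Quotient.eq.2 (by rw [add_sub_cancel_left]; exact Ideal.mem_span_singleton'.2 ⟨c, rfl⟩)
      · have h1 : (g (a + c * t)).fst = E.res (a + c * t) := res_app g _
        rw [h1, map_add, map_mul, (Art.mem_maximalIdeal_iff E t).1 ht, mul_zero, add_zero]
        exact hxd
      · change (g.toAlgHom (a + c * t)).snd = _
        rw [map_add, TrivSqZeroExt.snd_add]
        exact (congrArg ((g a).snd + ·) ((hgat c).trans hc)).trans (add_sub_cancel _ _)
  obtain ⟨B₁, q', q'', hB₁⟩ := exists_fibreProd (toBase A) (toBase (quot E (Ideal.span {t}) hK)) (toBase_surjective _)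
  obtain ⟨r, hr', hr''⟩ := exists_lift hB₁ p' (p'' ≫ q) ((eq_toBase _).trans (eq_toBase _).symm)
  have hB : IsFibreProd r (p'' ≫ g) (toBase B₁) (toBase (dual Λ k)) := by
    refine ⟨(eq_toBase _).trans (eq_toBase _).symm, fun b₁ b₂ e₁ e₂ => ?_, fun b d e => ?_⟩
    · refine h.inj b₁ b₂ ?_ (hEsq.inj _ _ ?_ e₂)
      · rw [← hr']; exact congrArg q'.toAlgHom e₁
      · have := congrArg q''.toAlgHom e₁
        rw [show q''.toAlgHom (r b₁) = (r ≫ q'') b₁ from rfl, show q''.toAlgHom (r b₂) = (r ≫ q'') b₂ from rfl, hr''] at this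
        exact this
    · obtain ⟨y, hy₁, hy₂⟩ := hEsq.surj (q'' b) d ((res_app q'' b).trans e)
      obtain ⟨x, hx₁, hx₂⟩ := h.surj (q' b) y
        (((res_app q' b).trans (res_app q'' b).symm).trans ((congrArg _ hy₁.symm).trans (res_app q y)))
      refine ⟨x, hB₁.inj _ _ ?_ ?_, (congrArg g.toAlgHom hx₂).trans hy₂⟩
      · exact (congrArg (fun s : B ⟶ A => s x) hr').trans hx₁
      · exact (congrArg (fun s : B ⟶ _ => s x) hr'').trans ((congrArg q.toAlgHom hx₂).trans hy₁)
  have hlt : Module.length (quot E (Ideal.span {t}) hK) (quot E (Ideal.span {t}) hK) < n := by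
    rw [← hn, show Module.length (quot E (Ideal.span {t}) hK) (quot E (Ideal.span {t}) hK) =
      Module.length E (E ⧸ Ideal.span {t}) from
        (Module.length_eq_of_surjective (S := E) (R := E ⧸ Ideal.span {t}) (M := E ⧸ Ideal.span {t}) Ideal.Quotient.mk_surjective).symm]
    exact Submodule.length_quotient_lt _ (by rw [Ne, Ideal.span_singleton_eq_bot]; exact ht0)
  have hE' : maximalIdeal (quot E (Ideal.span {t}) hK) ^ 2 = ⊥ := by
    rw [eq_bot_iff, pow_two, Ideal.mul_le]
    intro x hx y hy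
    obtain ⟨a, rfl⟩ := Ideal.Quotient.mk_surjective x
    obtain ⟨b, rfl⟩ := Ideal.Quotient.mk_surjective y
    have hab : a * b ∈ maximalIdeal E ^ 2 := by
      rw [pow_two]
      exact Ideal.mul_mem_mul ((Art.mem_maximalIdeal_iff E a).2 ((Art.mem_maximalIdeal_iff (quot E (Ideal.span {t}) hK) _).1 hx :))
        ((Art.mem_maximalIdeal_iff E b).2 ((Art.mem_maximalIdeal_iff (quot E (Ideal.span {t}) hK) _).1 hy :))
    rw [hE, Ideal.mem_bot] at hab
    change Ideal.Quotient.mk _ a * Ideal.Quotient.mk _ b = 0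
    rw [← map_mul, hab, map_zero]
  have IH := ih _ hlt _ (σ ≫ q) hE' q' q'' hB₁ rfl
  have H := hF r (p'' ≫ g) hB
  have HE := hF q g hEsq
  refine ⟨(cmp_injective_iff h).2 fun z₁ z₂ h₁ h₂ => ?_, (cmp_surjective_iff h).2 fun a e hae => ?_⟩
  · refine (cmp_injective_iff hB).1 H.1 z₁ z₂ ((cmp_injective_iff hB₁).1 IH.1 _ _ ?_ ?_) ?_
    · rw [← FunctorToTypes.map_comp_apply, ← FunctorToTypes.map_comp_apply, hr', h₁]
    · rw [← FunctorToTypes.map_comp_apply, ← FunctorToTypes.map_comp_apply, hr'',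
        FunctorToTypes.map_comp_apply, FunctorToTypes.map_comp_apply, h₂]
    · rw [FunctorToTypes.map_comp_apply, FunctorToTypes.map_comp_apply, h₂]
  · obtain ⟨z₁, hz₁, hz₂⟩ := (cmp_surjective_iff hB₁).1 IH.2 a (F.map q e)
      (by rw [hae, ← FunctorToTypes.map_comp_apply, eq_toBase (q ≫ toBase _)])
    obtain ⟨z, hzr, hzg⟩ := (cmp_surjective_iff hB).1 H.2 z₁ (F.map g e) (by
      rw [← eq_toBase (q' ≫ toBase A), FunctorToTypes.map_comp_apply, hz₁, hae,
        ← FunctorToTypes.map_comp_apply, eq_toBase (g ≫ toBase _)])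
    refine ⟨z, by rw [← hr', FunctorToTypes.map_comp_apply, hzr, hz₁],
      (cmp_injective_iff hEsq).1 HE.1 _ _ ?_ (by rw [← FunctorToTypes.map_comp_apply, hzg])⟩
    rw [← FunctorToTypes.map_comp_apply, ← hr'', FunctorToTypes.map_comp_apply, hzr, hz₂]

end ToDual

/-! ### The square of a small extension -/

section Square

lemma exists_delta {Q B A : Art Λ k} {q₁ q₂ : Q ⟶ B} {p : B ⟶ A} (hQ : IsFibreProd q₁ q₂ p p) {t : B}
    (ht0 : t ≠ 0) (htp : p.toAlgHom t = 0) (htm : ∀ x ∈ maximalIdeal B, x * t = 0)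
    (hgen : ∀ a : B, p.toAlgHom a = 0 → ∃ c : B, a = c * t) :
    ∃ δ : Q ⟶ dual Λ k, IsFibreProd q₁ δ (toBase B) (toBase (dual Λ k)) ∧
      ∀ (x : Q) (c : B), q₂ x - q₁ x = c * t → (δ x).snd = B.res c := by
  have hex : ∀ x : Q, ∃ c : B, q₂ x - q₁ x = c * t := fun x =>
    hgen _ (by rw [map_sub]; exact sub_eq_zero.2 (hQ.w_apply x).symm)
  choose c hc using hex
  have huniq : ∀ a b : B, a * t = b * t → B.res a = B.res b := by
    intro a b hab
    by_contra hne
    have hu : IsUnit (a - b) := by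
      by_contra hu
      exact hne (sub_eq_zero.1 (by rw [← map_sub]; exact (Art.mem_maximalIdeal_iff B _).1 ((mem_maximalIdeal _).2 hu)))
    exact ht0 (hu.mul_right_eq_zero.1 (by rw [sub_mul, hab, sub_self]))
  have hval : ∀ (x : Q) (a : B), q₂ x - q₁ x = a * t → B.res (c x) = B.res a := fun x a ha =>
    huniq _ _ ((hc x).symm.trans ha)
  let d : Q →ₐ[Λ] DualNumber k :=
    { toFun := fun x => (Q.res x, B.res (c x))
      map_one' := TrivSqZeroExt.ext (map_one Q.res) ((hval 1 0 (by
        change q₂.toAlgHom 1 - q₁.toAlgHom 1 = _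
        rw [map_one, map_one, sub_self, zero_mul])).trans (map_zero _))
      map_mul' := fun x y => TrivSqZeroExt.ext (map_mul Q.res x y) (by
        change B.res (c (x * y)) = Q.res x • B.res (c y) + MulOpposite.op (Q.res y) • B.res (c x)
        rw [op_smul_eq_smul, smul_eq_mul, smul_eq_mul, ← res_app q₁ x, ← res_app q₂ y, ← map_mul, ← map_mul, ← map_add]
        refine hval _ _ ?_
        change q₂.toAlgHom (x * y) - q₁.toAlgHom (x * y) = _
        rw [map_mul, map_mul, add_mul, mul_assoc, mul_assoc, ← hc x, ← hc y]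
        ring)
      map_zero' := TrivSqZeroExt.ext (map_zero Q.res) ((hval 0 0 (by
        change q₂.toAlgHom 0 - q₁.toAlgHom 0 = _
        rw [map_zero, map_zero, sub_self, zero_mul])).trans (map_zero _))
      map_add' := fun x y => TrivSqZeroExt.ext (map_add Q.res x y) (by
        change B.res (c (x + y)) = B.res (c x) + B.res (c y)
        rw [← map_add]
        refine hval _ _ ?_
        change q₂.toAlgHom (x + y) - q₁.toAlgHom (x + y) = _
        rw [map_add, map_add, add_mul, ← hc x, ← hc y]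
        ring)
      commutes' := fun r => TrivSqZeroExt.ext (by
          rw [TrivSqZeroExt.algebraMap_eq_inl', TrivSqZeroExt.fst_inl]
          exact Q.res.commutes r) (by
        rw [TrivSqZeroExt.algebraMap_eq_inl', TrivSqZeroExt.snd_inl]
        exact (hval _ 0 (by
          change q₂.toAlgHom _ - q₁.toAlgHom _ = _
          rw [AlgHom.commutes, AlgHom.commutes, sub_self, zero_mul])).trans (map_zero _)) }
  refine ⟨⟨d, AlgHom.ext fun _ => rfl⟩, ⟨(eq_toBase _).trans (eq_toBase _).symm, fun x y h₁ h₂ => ?_,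
    fun b e he => ?_⟩, hval⟩
  · have h₂' : B.res (c x) = B.res (c y) := congrArg TrivSqZeroExt.snd h₂
    refine hQ.inj x y h₁ ?_
    have hm : c x - c y ∈ maximalIdeal B := (Art.mem_maximalIdeal_iff B _).2 (by rw [map_sub, h₂', sub_self])
    have h3 := htm _ hm
    rw [sub_mul, ← hc, ← hc, h₁, sub_sub_sub_cancel_right] at h3
    exact sub_eq_zero.1 h3
  · obtain ⟨a, ha⟩ := B.res_surjective e.snd
    obtain ⟨x, hx₁, hx₂⟩ := hQ.surj b (b + a * t)
      (by change p.toAlgHom b = p.toAlgHom (b + a * t); rw [map_add, map_mul, htp, mul_zero, add_zero])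
    refine ⟨x, hx₁, TrivSqZeroExt.ext ?_ ?_⟩
    · change Q.res x = e.fst
      rw [← res_app q₁ x, hx₁]
      exact he
    · exact (hval x a (by rw [hx₂, hx₁, add_sub_cancel_left])).trans ha

/-- If `B → A` is small and `F` has injective comparison for squares with the dual numbers, two
elements with the same image differ by the tangent direction detected by `δ`. -/
lemma eq_of_delta {F : Art Λ k ⥤ Type v} (hF : Heps F) {Q B : Art Λ k} {q₁ q₂ : Q ⟶ B} {δ : Q ⟶ dual Λ k}
    (hQ : IsFibreProd q₁ δ (toBase B) (toBase (dual Λ k))) {Δ : B ⟶ Q} (h₁ : Δ ≫ q₁ = 𝟙 B) (h₂ : Δ ≫ q₂ = 𝟙 B)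
    (w : F.obj Q) (hw : F.map δ w = F.map δ (F.map Δ (F.map q₁ w))) :
    F.map q₂ w = F.map q₁ w := by
  have e : w = F.map Δ (F.map q₁ w) :=
    (cmp_injective_iff hQ).1 (hF _ _ hQ).1 _ _
      (by rw [← FunctorToTypes.map_comp_apply F Δ q₁, h₁, FunctorToTypes.map_id_apply]) hw
  conv_lhs => rw [e]
  rw [← FunctorToTypes.map_comp_apply, h₂, FunctorToTypes.map_id_apply]

lemma delta_diag {Q B : Art Λ k} {q₁ q₂ : Q ⟶ B} {δ : Q ⟶ dual Λ k} {t : B}
    (hδ : ∀ (x : Q) (c : B), q₂ x - q₁ x = c * t → (δ x).snd = B.res c) {C : Art Λ k} (g : C ⟶ Q)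
    (hg : g ≫ q₁ = g ≫ q₂) : g ≫ δ = toBase C ≫ baseToDual := by
  apply Art.hom_ext; apply AlgHom.ext; intro x
  apply TrivSqZeroExt.ext
  · exact res_app (g ≫ δ) x
  · have h : q₂ (g x) - q₁ (g x) = (0 : B) * t := by
      rw [zero_mul, sub_eq_zero]
      exact congrArg (fun s : C ⟶ B => s x) hg.symm
    exact (hδ (g x) 0 h).trans ((map_zero _).trans (TrivSqZeroExt.snd_inl k _).symm)

end Square

end Groth.Agent.H9Art
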