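import Mathlib
import Groth.Prelude.Def_ArtFun
import Groth.Prelude.Def_ArtFun2
import Groth.Prelude.Def_ArtFun3
import Groth.Agent.Lib.H9Art
import Groth.Agent.Lib.H9ArtTangent
import Groth.Agent.Lib.H9ArtSchless

/-!
Schlessinger: the universal pair among objects with `m^n = 0`, built from minimal pairs.
-/

set_option autoImplicit false

universe u v

open CategoryTheory

namespace Groth.Agent.H4ProRep

open ArtFun ArtFun.Art IsLocalRing Groth.Agent.H9Art

variable {Λ : Type u} {k : Type u} [Field k] [CommRing Λ] [Algebra Λ k] [Algebra k Λ]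
  [IsScalarTower k Λ k]

/-- the coefficient map `k → A` -/
abbrev kmap (A : Type u) [CommRing A] [Algebra Λ A] : k →+* A :=
  (algebraMap Λ A).comp (algebraMap k Λ)

theorem lam_res (c : k) : algebraMap Λ k (algebraMap k Λ c) = c := by
  rw [← IsScalarTower.algebraMap_apply k Λ k]; rfl

theorem res_kmap (A : Art Λ k) (c : k) : A.res (kmap (Λ := Λ) A.carrier c) = c := by
  rw [kmap, RingHom.comp_apply, AlgHom.commutes, lam_res]

theorem res_sub_mem (A : Art Λ k) (a : A) :
    a - kmap (Λ := Λ) A.carrier (A.res a) ∈ maximalIdeal A := by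
  rw [Art.mem_maximalIdeal_iff, map_sub, res_kmap, sub_self]

theorem alg_mem (A : Art Λ k) {l : Λ} (hl : algebraMap Λ k l = 0) :
    algebraMap Λ A l ∈ maximalIdeal A := by
  rw [Art.mem_maximalIdeal_iff, AlgHom.commutes, hl]

/-! ### the tangent map of a pair -/

variable {F : Art Λ k ⥤ Type v}

/-- the zero tangent vector -/
def zeroHom (A : Art Λ k) : A ⟶ dual Λ k := toBase A ≫ baseToDual

theorem zeroHom_snd (A : Art Λ k) (a : A) : ((zeroHom A) a).snd = 0 :=
  TrivSqZeroExt.snd_inl k _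

theorem dual_ext {A : Art Λ k} {g h : A ⟶ dual Λ k} (e : ∀ a : A, (g a).snd = (h a).snd) :
    g = h :=
  Art.hom_ext (AlgHom.ext fun a => TrivSqZeroExt.ext ((res_app g a).trans (res_app h a).symm) (e a))

theorem map_zeroHom [TangentStr F] (h0 : H0 F) (A : Art Λ k) (ξ : F.obj A) :
    TangentSpace.mk (F.map (zeroHom A) ξ) = 0 := by
  have h1 : ∀ x : F.obj (dual Λ k), F.map (zeroHom (dual Λ k)) x = F.map baseToDual h0.1.some := by
    intro x
    rw [zeroHom, FunctorToTypes.map_comp_apply]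
    exact congrArg _ (h0.2.elim _ _)
  have hs : (scale (0 : k) : dual Λ k ⟶ dual Λ k) = zeroHom (dual Λ k) := by
    refine dual_ext fun a => ?_
    rw [zeroHom_snd]
    exact zero_smul k a.snd
  have h2 : (0 : TangentSpace F) = TangentSpace.mk (F.map baseToDual h0.1.some) := by
    rw [← h1 (F.map baseToDual h0.1.some), ← hs, ← TangentStr.smul_eq (F := F) (0 : k)]
    exact (zero_smul k (TangentSpace.mk (F.map baseToDual h0.1.some))).symm
  rw [h2, zeroHom, FunctorToTypes.map_comp_apply]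
  exact congrArg _ (congrArg _ (h0.2.elim _ _))

theorem exists_add [TangentStr F] {A : Art Λ k} (ξ : F.obj A) (g h : A ⟶ dual Λ k) :
    ∃ s : A ⟶ dual Λ k, (∀ a, (s a).snd = (g a).snd + (h a).snd) ∧
      TangentSpace.mk (F.map s ξ) = TangentSpace.mk (F.map g ξ) + TangentSpace.mk (F.map h ξ) := by
  obtain ⟨z, h1, h2⟩ := exists_lift isFibreProd_dual2 g h ((eq_toBase _).trans (eq_toBase _).symm)
  refine ⟨z ≫ plus, fun a => ?_, ?_⟩
  · have e1 := congrArg (fun t : A ⟶ dual Λ k => (t a).snd) h1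
    have e2 := congrArg (fun t : A ⟶ dual Λ k => (t a).snd) h2
    exact congrArg₂ (· + ·) e1 e2
  · have := TangentStr.add_eq (F := F) (F.map z ξ)
    rw [← FunctorToTypes.map_comp_apply, ← FunctorToTypes.map_comp_apply,
      ← FunctorToTypes.map_comp_apply, h1, h2] at this
    exact this.symm

theorem scale_snd (c : k) {A : Art Λ k} (g : A ⟶ dual Λ k) (a : A) :
    ((g ≫ scale c) a).snd = c * (g a).snd := rfl

theorem map_scale [TangentStr F] {A : Art Λ k} (ξ : F.obj A) (c : k) (g : A ⟶ dual Λ k) :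
    TangentSpace.mk (F.map (g ≫ scale c) ξ) = c • TangentSpace.mk (F.map g ξ) := by
  rw [FunctorToTypes.map_comp_apply]
  exact (TangentStr.smul_eq (F := F) c _).symm

/-- the tangent map of the pair is injective -/
def TanInj {A : Art Λ k} (ξ : F.obj A) : Prop :=
  ∀ g h : A ⟶ dual Λ k, F.map g ξ = F.map h ξ → g = h

theorem tanInj_of_zero [TangentStr F] (h0 : H0 F) {A : Art Λ k} (ξ : F.obj A)
    (H : ∀ g : A ⟶ dual Λ k, TangentSpace.mk (F.map g ξ) = 0 → g = zeroHom A) : TanInj ξ := by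
  intro g h hgh
  obtain ⟨s, hs, hs'⟩ := exists_add ξ g (h ≫ scale (-1 : k))
  have : s = zeroHom A := H s (by rw [hs', map_scale, hgh, neg_smul, one_smul, add_neg_cancel])
  refine dual_ext fun a => ?_
  have := congrArg (fun t : A ⟶ dual Λ k => (t a).snd) this
  simp only [hs, zeroHom_snd, scale_snd, neg_mul, one_mul, ← sub_eq_add_neg, sub_eq_zero] at this
  exact this

/-! ### minimal pairs -/

/-- no proper subobject carries the element -/
def Minimal {A : Art Λ k} (ξ : F.obj A) : Prop :=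
  ∀ (C : Art Λ k) (ι : C ⟶ A) (ζ : F.obj C),
    Function.Injective ι → F.map ι ζ = ξ → Function.Surjective ι

theorem isArtinian_lam (A : Art Λ k) : IsArtinian Λ A := by
  letI : Algebra A k := A.res.toRingHom.toAlgebra
  haveI : IsScalarTower Λ A k := IsScalarTower.of_algebraMap_eq fun l => (A.res.commutes l).symm
  exact isArtinian_restrict (S := Λ) (A := A) (k := k) (fun c => ⟨_, lam_res c⟩) A.res_surjective A

theorem exists_minimal (B : Art Λ k) (η : F.obj B) :
    ∃ (C : Art Λ k) (ι : C ⟶ B) (ζ : F.obj C),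
      Function.Injective ι ∧ F.map ι ζ = η ∧ Minimal ζ := by
  have := isArtinian_lam B
  let 𝒮 : Set (Submodule Λ B) := {S | ∃ (C : Art Λ k) (ι : C ⟶ B) (ζ : F.obj C),
    Function.Injective ι ∧ F.map ι ζ = η ∧ LinearMap.range ι.toAlgHom.toLinearMap = S}
  obtain ⟨S, ⟨C, ι, ζ, hι, hζ, rfl⟩, hmin⟩ := (wellFounded_lt (α := Submodule Λ B)).has_min 𝒮
    ⟨_, B, 𝟙 B, η, fun x y h => h, FunctorToTypes.map_id_apply F η, rfl⟩
  refine ⟨C, ι, ζ, hι, hζ, fun D j θ hj hθ => ?_⟩
  by_contra hs
  refine hmin _ ⟨D, j ≫ ι, θ, hι.comp hj,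
    by rw [FunctorToTypes.map_comp_apply, hθ, hζ], rfl⟩ (lt_of_le_of_ne ?_ ?_)
  · rintro _ ⟨x, rfl⟩; exact ⟨j x, rfl⟩
  · intro he
    refine hs fun c => ?_
    have hc : ι c ∈ LinearMap.range ι.toAlgHom.toLinearMap := ⟨c, rfl⟩
    rw [← he] at hc
    obtain ⟨x, hx⟩ := hc
    exact ⟨x, hι hx⟩

theorem exists_snd_ne {A : Art Λ k} (g : A ⟶ dual Λ k) (hg : g ≠ zeroHom A) :
    ∃ a : A, A.res a = 0 ∧ (g a).snd ≠ 0 := by
  by_contra hc
  push Not at hc
  refine hg (dual_ext fun a => ?_)
  have h1 := hc (a - kmap (Λ := Λ) A.carrier (A.res a)) (by rw [map_sub, res_kmap, sub_self])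
  have h2 : (g (kmap (Λ := Λ) A.carrier (A.res a))).snd = 0 := by
    change (g.toAlgHom (algebraMap Λ A (algebraMap k Λ (A.res a)))).snd = 0
    rw [AlgHom.commutes]
    exact TrivSqZeroExt.snd_inl k _
  have h3 : g.toAlgHom (a - kmap (Λ := Λ) A.carrier (A.res a)) =
      g.toAlgHom a - g.toAlgHom (kmap (Λ := Λ) A.carrier (A.res a)) := map_sub _ _ _
  change (g.toAlgHom _).snd = 0 at h1
  change (g.toAlgHom _).snd = 0 at h2
  rw [h3] at h1
  rw [zeroHom_snd]
  exact ((TrivSqZeroExt.snd_sub _ _).symm.trans h1 |> fun e => by rw [h2, sub_zero] at e; exact e)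

theorem tanInj_of_minimal [TangentStr F] (h0 : H0 F) (h1 : S1 F) {A : Art Λ k} {ξ : F.obj A}
    (hm : Minimal ξ) : TanInj ξ := by
  refine tanInj_of_zero h0 ξ fun g hg => ?_
  by_contra hne
  obtain ⟨a, ha, ha'⟩ := exists_snd_ne g hne
  have hsurj : Function.Surjective g := by
    intro e
    refine ⟨kmap (Λ := Λ) A.carrier e.fst +
      kmap (Λ := Λ) A.carrier (e.snd / (g a).snd) * a, ?_⟩
    change g.toAlgHom _ = e
    have hk : ∀ c : k, g.toAlgHom (kmap (Λ := Λ) A.carrier c) = TrivSqZeroExt.inl c := by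
      intro c
      refine TrivSqZeroExt.ext ?_ ?_
      · exact (res_app g _).trans (res_kmap A c)
      · change (g.toAlgHom (algebraMap Λ A (algebraMap k Λ c))).snd = _
        rw [AlgHom.commutes]
        exact (TrivSqZeroExt.snd_inl k _).trans (TrivSqZeroExt.snd_inl k _).symm
    rw [map_add, map_mul, hk, hk]
    have hfst : (g.toAlgHom a).fst = 0 := (res_app g a).trans ha
    refine TrivSqZeroExt.ext ?_ ?_
    · exact (congrArg₂ (· + ·) rfl (mul_eq_zero_of_right _ hfst)).trans (add_zero _)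
    · change (0 : k) + (_ • (g.toAlgHom a).snd + MulOpposite.op (g.toAlgHom a).fst • (0 : k)) = _
      rw [smul_zero, add_zero, zero_add, smul_eq_mul]
      exact div_mul_cancel₀ _ ha'
  obtain ⟨Q, p', p'', hQ⟩ := exists_fibreProd (baseToDual : base Λ k ⟶ dual Λ k) g hsurj
  have hz : F.map (baseToDual : base Λ k ⟶ dual Λ k) h0.1.some = F.map g ξ := by
    have h := (hg.trans (map_zeroHom h0 A ξ).symm)
    refine Eq.trans ?_ h.symm
    rw [zeroHom, FunctorToTypes.map_comp_apply]
    exact congrArg _ (h0.2.elim _ _)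
  obtain ⟨ζ, -, hζ⟩ := (cmp_surjective_iff hQ).1 (h1 _ _ _ _ hQ hsurj) _ _ hz
  have hinj : Function.Injective p'' := by
    intro x y hxy
    refine hQ.inj x y ?_ hxy
    have e : baseToDual (p' x) = baseToDual (p' y) := by rw [hQ.w_apply, hQ.w_apply, hxy]
    exact TrivSqZeroExt.inl_injective e
  obtain ⟨x, hx⟩ := hm Q p'' ζ hinj hζ a
  have hgx : g a = baseToDual (p' x) := by rw [hQ.w_apply, hx]
  exact ha' ((congrArg TrivSqZeroExt.snd hgx).trans (TrivSqZeroExt.snd_inl k _))

/-! ### uniqueness -/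

theorem hom_unique (h0 : H0 F) (h4 : HSq F) {A : Art Λ k} {ξ : F.obj A} (hT : TanInj ξ)
    {B : Art Λ k} (f g : A ⟶ B) (he : F.map f ξ = F.map g ξ) : f = g := by
  refine surjective_induction (P := fun B' B p => ∀ f g : A ⟶ B, f ≫ p = g ≫ p →
    F.map f ξ = F.map g ξ → f = g) ?_ ?_ ?_ (toBase B) (toBase_surjective B) f g
    ((eq_toBase _).trans (eq_toBase _).symm) he
  · intro B' B e he f g hfg _
    exact (cancel_mono e).1 hfg
  · intro B' B p hp f g hfg hη
    obtain ⟨t, ht0, htp, htm, hgen⟩ := exists_smallExt_generator hp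
    obtain ⟨Q, q₁, q₂, hQ⟩ := exists_fibreProd p p hp.1
    obtain ⟨Δ, hΔ₁, hΔ₂⟩ := exists_lift hQ (𝟙 B) (𝟙 B) rfl
    obtain ⟨δ, -, hval⟩ := exists_delta hQ ht0 htp htm hgen
    obtain ⟨fg, hf₁, hf₂⟩ := exists_lift hQ f g hfg
    have hw : F.map fg ξ = F.map Δ (F.map f ξ) := by
      refine (cmp_injective_iff hQ).1 (h4 q₁ q₂ p hQ hp).1 _ _ ?_ ?_
      · rw [← FunctorToTypes.map_comp_apply, hf₁, ← FunctorToTypes.map_comp_apply F Δ q₁, hΔ₁,
          FunctorToTypes.map_id_apply]
      · rw [← FunctorToTypes.map_comp_apply, hf₂, ← FunctorToTypes.map_comp_apply F Δ q₂, hΔ₂,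
          FunctorToTypes.map_id_apply, hη]
    have h3 : fg ≫ δ = zeroHom A := by
      refine hT _ _ ?_
      rw [FunctorToTypes.map_comp_apply, hw, ← FunctorToTypes.map_comp_apply,
        delta_diag hval Δ (hΔ₁.trans hΔ₂.symm), zeroHom, FunctorToTypes.map_comp_apply,
        FunctorToTypes.map_comp_apply]
      exact congrArg _ (h0.2.elim _ _)
    refine Art.hom_ext (AlgHom.ext fun a => ?_)
    obtain ⟨c, hc⟩ := hgen (q₂ (fg a) - q₁ (fg a))
      (by rw [map_sub]; exact sub_eq_zero.2 (hQ.w_apply (fg a)).symm)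
    have hres : B.res c = 0 :=
      (hval (fg a) c hc).symm.trans
        ((congrArg (fun t : A ⟶ dual Λ k => (t a).snd) h3).trans (zeroHom_snd A a))
    have hct : c * t = 0 := htm c ((Art.mem_maximalIdeal_iff B c).2 hres)
    rw [hct, sub_eq_zero] at hc
    exact ((congrArg (fun t : A ⟶ B => t a) hf₁).symm.trans hc.symm).trans
      (congrArg (fun t : A ⟶ B => t a) hf₂)
  · intro B'' B' B p q _ _ hp hq f g hfg hη
    refine hp f g (hq (f ≫ p) (g ≫ p) (by rwa [Category.assoc, Category.assoc]) ?_) hη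
    rw [FunctorToTypes.map_comp_apply, FunctorToTypes.map_comp_apply, hη]

/-! ### boundedness -/

section Bound

variable [TangentStr F]

/-- derivation-like functional gives a tangent vector -/
noncomputable def homOfFun {A : Art Λ k} (ψ : A → k) (h1 : ψ 1 = 0)
    (hadd : ∀ x y, ψ (x + y) = ψ x + ψ y)
    (hmul : ∀ x y, ψ (x * y) = A.res x * ψ y + A.res y * ψ x)
    (hlam : ∀ l, ψ (algebraMap Λ A l) = 0) : A ⟶ dual Λ k :=
  ⟨{ toFun := fun x => (A.res x, ψ x)
     map_one' := TrivSqZeroExt.ext (map_one A.res) h1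
     map_mul' := fun x y => TrivSqZeroExt.ext (map_mul A.res x y) (by
       change ψ (x * y) = A.res x • ψ y + MulOpposite.op (A.res y) • ψ x
       rw [op_smul_eq_smul, smul_eq_mul, smul_eq_mul, hmul])
     map_zero' := TrivSqZeroExt.ext (map_zero A.res) (by
       have := hadd 0 0; rw [add_zero] at this; exact left_eq_add.1 this)
     map_add' := fun x y => TrivSqZeroExt.ext (map_add A.res x y) (hadd x y)
     commutes' := fun l => TrivSqZeroExt.ext (A.res.commutes l)
       ((hlam l).trans (TrivSqZeroExt.snd_inl k (algebraMap Λ k l)).symm) },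
   AlgHom.ext fun _ => rfl⟩

/-- the ideal `m_Λ A + m²` -/
def killIdeal (A : Art Λ k) : Ideal A :=
  (RingHom.ker (algebraMap Λ k)).map (algebraMap Λ A) ⊔ maximalIdeal A ^ 2

theorem exists_generators (hfin : Hfin F) (h0 : H0 F) {A : Art Λ k} {ξ : F.obj A}
    (hT : TanInj ξ) :
    ∃ x : Fin (Module.finrank k (TangentSpace F)) → A, (∀ i, x i ∈ maximalIdeal A) ∧
      maximalIdeal A =
        (RingHom.ker (algebraMap Λ k)).map (algebraMap Λ A) ⊔ Ideal.span (Set.range x) := by
  classical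
  have : Module.Finite k (TangentSpace F) := hfin
  letI : Algebra k A := (kmap (Λ := Λ) A.carrier).toAlgebra
  set K := killIdeal A
  have hKm : K ≤ maximalIdeal A := sup_le
    (Ideal.map_le_iff_le_comap.2 fun l hl => alg_mem A hl) (Ideal.pow_le_self two_ne_zero)
  let N : Submodule k A := Submodule.span k {(1 : A)} ⊔ K.restrictScalars k
  let W := (A : Type u) ⧸ N
  have hψ : ∀ φ : Module.Dual k W,
      φ (N.mkQ 1) = 0 ∧ (∀ x ∈ K, φ (N.mkQ x) = 0) ∧
      (∀ x y : A, φ (N.mkQ (x * y)) = A.res x * φ (N.mkQ y) + A.res y * φ (N.mkQ x)) ∧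
      ∀ l : Λ, φ (N.mkQ (algebraMap Λ A l)) = 0 := by
    intro φ
    have h1 : N.mkQ 1 = 0 :=
      (Submodule.Quotient.mk_eq_zero N).2 (Submodule.mem_sup_left (Submodule.mem_span_singleton_self _))
    have hK : ∀ x ∈ K, N.mkQ x = 0 := fun x hx =>
      (Submodule.Quotient.mk_eq_zero N).2 (Submodule.mem_sup_right hx)
    have hc : ∀ c : k, N.mkQ (kmap (Λ := Λ) A.carrier c) = 0 := fun c => by
      rw [show kmap (Λ := Λ) A.carrier c = c • (1 : A) by rw [Algebra.smul_def, mul_one]; rfl,
        map_smul, h1, smul_zero]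
    refine ⟨by rw [h1, map_zero], fun x hx => by rw [hK x hx, map_zero], fun x y => ?_, fun l => ?_⟩
    · have e : x * y = A.res x • y + A.res y • x - kmap (Λ := Λ) A.carrier (A.res x * A.res y) +
          (x - kmap (Λ := Λ) A.carrier (A.res x)) * (y - kmap (Λ := Λ) A.carrier (A.res y)) := by
        rw [Algebra.smul_def, Algebra.smul_def, map_mul]
        simp only [RingHom.algebraMap_toAlgebra]
        ring
      have hxy : (x - kmap (Λ := Λ) A.carrier (A.res x)) * (y - kmap (Λ := Λ) A.carrier (A.res y))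
          ∈ K := Ideal.mem_sup_right (by
        rw [pow_two]; exact Ideal.mul_mem_mul (res_sub_mem A x) (res_sub_mem A y))
      conv_lhs => rw [e]
      rw [map_add N.mkQ, map_sub N.mkQ, map_add N.mkQ, map_smul, map_smul, hc, sub_zero,
        hK _ hxy, add_zero, map_add, map_smul, map_smul, smul_eq_mul, smul_eq_mul]
    · have : algebraMap Λ A l = kmap (Λ := Λ) A.carrier (algebraMap Λ k l) +
          algebraMap Λ A (l - algebraMap k Λ (algebraMap Λ k l)) := by
        rw [map_sub]; exact (add_sub_cancel _ _).symm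
      rw [this, map_add, hc, zero_add, hK _ (Ideal.mem_sup_left (Ideal.mem_map_of_mem _ (by
        rw [RingHom.mem_ker, map_sub, lam_res, sub_self]))), map_zero]
  let H : Module.Dual k W → (A ⟶ dual Λ k) := fun φ =>
    homOfFun (fun a => φ (N.mkQ a)) (hψ φ).1 (fun x y => by rw [map_add, map_add]) (hψ φ).2.2.1
      (hψ φ).2.2.2
  have hH : ∀ φ a, (H φ a).snd = φ (N.mkQ a) := fun _ _ => rfl
  let T : Module.Dual k W →ₗ[k] TangentSpace F :=
    { toFun := fun φ => TangentSpace.mk (F.map (H φ) ξ)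
      map_add' := fun φ φ' => by
        obtain ⟨s, hs, hs'⟩ := exists_add ξ (H φ) (H φ')
        have : s = H (φ + φ') := dual_ext fun a => by rw [hs, hH, hH, hH]; rfl
        rw [← hs', this]
      map_smul' := fun c φ => by
        have : H φ ≫ scale c = H (c • φ) := dual_ext fun a => by rw [scale_snd, hH, hH]; rfl
        simp only [RingHom.id_apply]
        rw [← map_scale, this] }
  have hTi : Function.Injective T := by
    intro φ φ' h
    have : H φ = H φ' := hT _ _ h
    refine LinearMap.ext fun w => ?_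
    obtain ⟨a, rfl⟩ := N.mkQ_surjective w
    rw [← hH, ← hH, this]
  have hdual : Module.Finite k (Module.Dual k W) := Module.Finite.of_injective T hTi
  have hW : Module.Finite k W := (Module.finite_dual_iff k).1 hdual
  have hdim : Module.finrank k W ≤ Module.finrank k (TangentSpace F) := by
    rw [← Subspace.dual_finrank_eq]; exact LinearMap.finrank_le_finrank_of_injective hTi
  let b := Module.finBasis k W
  choose z hz using fun j => N.mkQ_surjective (b j)
  let x : Fin (Module.finrank k (TangentSpace F)) → A := fun i =>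
    if h : (i : ℕ) < Module.finrank k W then z ⟨i, h⟩ - kmap (Λ := Λ) A.carrier (A.res (z ⟨i, h⟩))
    else 0
  have hx : ∀ i, x i ∈ maximalIdeal A := fun i => by
    simp only [x]; split_ifs with h
    · exact res_sub_mem A _
    · exact zero_mem _
  refine ⟨x, hx, le_antisymm ?_ (sup_le
    (Ideal.map_le_iff_le_comap.2 fun l hl => alg_mem A hl)
    (Ideal.span_le.2 (by rintro _ ⟨i, rfl⟩; exact hx i)))⟩
  set I := (RingHom.ker (algebraMap Λ k)).map (algebraMap Λ A) ⊔ Ideal.span (Set.range x)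
  refine Submodule.le_of_le_smul_of_le_jacobson_bot (IsNoetherian.noetherian (maximalIdeal A))
    (IsLocalRing.maximalIdeal_le_jacobson _) ?_
  intro a ha
  rw [smul_eq_mul, ← pow_two]
  let ρ : W →ₗ[k] A := b.constr k fun j => z j - kmap (Λ := Λ) A.carrier (A.res (z j))
  have hρ : ∀ w : W, ρ w ∈ Ideal.span (Set.range x) ∧ N.mkQ (ρ w) = w := by
    intro w
    rw [← b.sum_repr w, map_sum]
    refine ⟨sum_mem fun j _ => ?_, ?_⟩
    · rw [map_smul, Algebra.smul_def]
      refine Ideal.mul_mem_left _ _ (Ideal.subset_span ⟨⟨j, lt_of_lt_of_le j.2 hdim⟩, ?_⟩)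
      simp only [x, ρ, Module.Basis.constr_basis, dif_pos j.2]
    · rw [map_sum]
      refine Finset.sum_congr rfl fun j _ => ?_
      rw [map_smul, map_smul]
      simp only [ρ, Module.Basis.constr_basis]
      rw [map_sub, hz]
      have : N.mkQ (kmap (Λ := Λ) A.carrier (A.res (z j))) = 0 :=
        (Submodule.Quotient.mk_eq_zero N).2 (Submodule.mem_sup_left (Submodule.mem_span_singleton.2
          ⟨A.res (z j), by rw [Algebra.smul_def, mul_one]; rfl⟩))
      rw [this, sub_zero]
  have hN : a - ρ (N.mkQ a) ∈ N := by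
    rw [← Submodule.Quotient.mk_eq_zero]
    exact (map_sub N.mkQ a _).trans (sub_eq_zero.2 (hρ (N.mkQ a)).2.symm)
  obtain ⟨u, hu, y, hy, huy⟩ := Submodule.mem_sup.1 hN
  obtain ⟨c, rfl⟩ := Submodule.mem_span_singleton.1 hu
  have hc : c = 0 := by
    have h0 : A.res (c • (1 : A)) = 0 := by
      rw [← Art.mem_maximalIdeal_iff, eq_sub_of_add_eq huy]
      have hsp : Ideal.span (Set.range x) ≤ maximalIdeal A :=
        Ideal.span_le.2 (by rintro _ ⟨i, rfl⟩; exact hx i)
      exact sub_mem (sub_mem ha (hsp (hρ _).1)) (hKm hy)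
    rw [Algebra.smul_def, mul_one] at h0
    exact (res_kmap A c).symm.trans h0
  rw [hc, zero_smul, zero_add] at huy
  rw [show a = ρ (N.mkQ a) + y by rw [huy]; ring]
  exact add_mem (Ideal.mem_sup_left (Ideal.mem_sup_right (hρ _).1))
    ((sup_le_sup_right le_sup_left _ : K ≤ I ⊔ maximalIdeal A ^ 2) hy)

/-- monomials of degree `< n` -/
noncomputable def lowMon (N n : ℕ) : Finset (Fin N →₀ ℕ) :=
  (Finset.range n).biUnion fun d => Finset.finsuppAntidiag Finset.univ d

theorem finrank_le [IsNoetherianRing Λ] (hfin : Hfin F) (h0 : H0 F) (n : ℕ) :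
    ∃ M : ℕ, ∀ (A : Art Λ k) (ξ : F.obj A), TanInj ξ → maximalIdeal A ^ n = ⊥ →
      letI : Algebra k A := (kmap (Λ := Λ) A.carrier).toAlgebra
      Module.Finite k A ∧ Module.finrank k A ≤ M := by
  classical
  obtain ⟨s, g, hg⟩ := Submodule.fg_iff_exists_fin_generating_family.1
    (IsNoetherian.noetherian (RingHom.ker (algebraMap Λ k)))
  refine ⟨(lowMon (s + Module.finrank k (TangentSpace F)) n).card, fun A ξ hT hn => ?_⟩
  letI : Algebra k A := (kmap (Λ := Λ) A.carrier).toAlgebra
  show Module.Finite k A ∧ Module.finrank k A ≤ _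
  obtain ⟨x, hx, hm⟩ := exists_generators hfin h0 hT
  let Y : Fin (s + Module.finrank k (TangentSpace F)) → A :=
    Fin.append (fun i => algebraMap Λ A (g i)) x
  have hY : maximalIdeal A = Ideal.span (Set.range Y) := by
    rw [hm, ← hg, show Submodule.span Λ (Set.range g) = Ideal.span (Set.range g) from rfl,
      Ideal.map_span, ← Ideal.span_union, ← Set.range_comp]
    congr 1
    ext a
    constructor
    · rintro (⟨i, rfl⟩ | ⟨i, rfl⟩)
      · exact ⟨Fin.castAdd _ i, Fin.append_left _ _ i⟩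
      · exact ⟨Fin.natAdd _ i, Fin.append_right _ _ i⟩
    · rintro ⟨i, rfl⟩
      induction i using Fin.addCases with
      | left i => exact Or.inl ⟨i, (Fin.append_left _ _ i).symm⟩
      | right i => exact Or.inr ⟨i, (Fin.append_right _ _ i).symm⟩
  let θ : MvPolynomial (Fin (s + Module.finrank k (TangentSpace F))) k →+* A :=
    MvPolynomial.eval₂Hom (kmap (Λ := Λ) A.carrier) Y
  let G := (lowMon (s + Module.finrank k (TangentSpace F)) n).image
    fun d => θ (MvPolynomial.monomial d 1)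
  have key : ∀ j, ∀ a ∈ maximalIdeal A ^ j, a ∈ Submodule.span k (G : Set A) := by
    suffices ∀ i j, n ≤ i + j → ∀ a ∈ maximalIdeal A ^ j, a ∈ Submodule.span k (G : Set A) from
      fun j => this n j (Nat.le_add_right _ _)
    intro i
    induction i with
    | zero =>
      intro j hj a ha
      have := Ideal.pow_le_pow_right (I := maximalIdeal A) (show n ≤ j by omega) ha
      rw [hn, Ideal.mem_bot] at this
      rw [this]; exact zero_mem _
    | succ i ih =>
      intro j hj a ha
      by_cases hjn : n ≤ j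
      · exact ih j (by omega) a ha
      rw [hY, Ideal.mem_span_pow_iff_exists_isHomogeneous] at ha
      obtain ⟨p, hp, rfl⟩ := ha
      rw [p.as_sum, map_sum]
      refine sum_mem fun d hd => ?_
      have hdeg := hp (MvPolynomial.mem_support_iff.1 hd)
      rw [MvPolynomial.eval_monomial]
      have e : p.coeff d = kmap (Λ := Λ) A.carrier (A.res (p.coeff d)) +
          (p.coeff d - kmap (Λ := Λ) A.carrier (A.res (p.coeff d))) := by ring
      rw [e, add_mul]
      refine add_mem ?_ (ih (j + 1) (by omega) _ ?_)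
      · have hmon : θ (MvPolynomial.monomial d 1) = d.prod fun i e => Y i ^ e := by
          simp [θ, MvPolynomial.eval₂_monomial]
        have hG : θ (MvPolynomial.monomial d 1) ∈ G := by
          refine Finset.mem_image.2 ⟨d, ?_, rfl⟩
          simp only [lowMon, Finset.mem_biUnion, Finset.mem_range, Finset.mem_finsuppAntidiag]
          refine ⟨j, by omega, ?_, by simp⟩
          rw [← hdeg, Finsupp.weight_apply, Finsupp.sum_fintype _ _ (by simp)]
          simp
        rw [← hmon]
        have : kmap (Λ := Λ) A.carrier (A.res (p.coeff d)) * θ (MvPolynomial.monomial d 1) =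
            A.res (p.coeff d) • θ (MvPolynomial.monomial d 1) := rfl
        rw [this]
        exact Submodule.smul_mem _ _ (Submodule.subset_span (Finset.mem_coe.2 hG))
      · rw [pow_succ']
        refine Ideal.mul_mem_mul (res_sub_mem A _) ?_
        rw [hY, Ideal.mem_span_pow_iff_exists_isHomogeneous]
        exact ⟨MvPolynomial.monomial d 1, MvPolynomial.isHomogeneous_monomial _ (by
          rw [Finsupp.degree_eq_weight_one]; exact hdeg), by
          rw [MvPolynomial.eval_monomial, one_mul]⟩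
  have htop : Submodule.span k (G : Set A) = ⊤ :=
    eq_top_iff.2 fun a _ => key 0 a (by rw [pow_zero, Ideal.one_eq_top]; trivial)
  refine ⟨⟨⟨G, htop⟩⟩, ?_⟩
  rw [← finrank_top (R := k), ← htop]
  exact (finrank_span_finset_le_card G).trans Finset.card_image_le

end Bound

/-! ### the universal stage -/

/-- `(A, ξ)` is universal for objects killed by the `n`-th power of the maximal ideal -/
structure Stage (F : Art Λ k ⥤ Type v) (n : ℕ) where
  /-- the object -/
  obj : Art Λ k
  /-- the element -/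
  elt : F.obj obj
  pow : maximalIdeal obj ^ n = ⊥
  minimal : Minimal elt
  lift : ∀ (B : Art Λ k) (η : F.obj B), maximalIdeal B ^ n = ⊥ → ∃ f : obj ⟶ B, F.map f elt = η

theorem pow_eq_bot_of_injective {C A B : Art Λ k} (f : C ⟶ A) (g : C ⟶ B) {n : ℕ}
    (hA : maximalIdeal A ^ n = ⊥) (hB : maximalIdeal B ^ n = ⊥)
    (hinj : ∀ x y : C, f x = f y → g x = g y → x = y) : maximalIdeal C ^ n = ⊥ := by
  rw [eq_bot_iff]
  intro x hx
  have hle : ∀ {D : Art Λ k} (h : C ⟶ D), maximalIdeal D ^ n = ⊥ → h x = 0 := by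
    intro D h hD
    have h1 : (maximalIdeal C).map h.toAlgHom ≤ maximalIdeal D :=
      Ideal.map_le_iff_le_comap.2 fun y hy => (Art.mem_maximalIdeal_iff D _).2
        ((res_app h y).trans ((Art.mem_maximalIdeal_iff C y).1 hy))
    have h2 := Ideal.mem_map_of_mem h.toAlgHom hx
    rw [Ideal.map_pow] at h2
    have h3 := Ideal.pow_right_mono h1 n h2
    rw [hD] at h3
    exact h3
  exact hinj x 0 ((hle f hA).trans (map_zero f.toAlgHom).symm)
    ((hle g hB).trans (map_zero g.toAlgHom).symm)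

/-- the image of a morphism carrying the element of a minimal pair is everything -/
theorem surjective_of_minimal {C A : Art Λ k} (f : C ⟶ A) {ζ : F.obj C} {ξ : F.obj A}
    (hξ : Minimal ξ) (hf : F.map f ζ = ξ) : Function.Surjective f := by
  have h1 : RingHom.ker f.toAlgHom ≤ maximalIdeal C := ker_le_maximalIdeal f
  have hs := hξ (quot C _ h1) (quotFactor h1 f le_rfl) (F.map (quotMk C _ h1) ζ) (by
    intro x y hxy
    obtain ⟨x, rfl⟩ := Ideal.Quotient.mk_surjective x
    obtain ⟨y, rfl⟩ := Ideal.Quotient.mk_surjective y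
    refine Ideal.Quotient.eq.2 ?_
    rw [RingHom.mem_ker, map_sub, sub_eq_zero]
    exact hxy)
    (by rw [← FunctorToTypes.map_comp_apply, quotMk_quotFactor, hf])
  intro a
  obtain ⟨x, rfl⟩ := hs a
  obtain ⟨c, rfl⟩ := Ideal.Quotient.mk_surjective x
  exact ⟨c, rfl⟩

theorem exists_stage [IsNoetherianRing Λ] [TangentStr F] (hfin : Hfin F) (h0 : H0 F) (h1 : S1 F)
    {n : ℕ} (hn : n ≠ 0) : Nonempty (Stage F n) := by
  classical
  obtain ⟨M, hM⟩ := finrank_le hfin h0 n
  let rk : (Σ A : Art Λ k, F.obj A) → ℕ := fun p =>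
    letI : Algebra k p.1 := (kmap (Λ := Λ) p.1.carrier).toAlgebra
    Module.finrank k p.1
  let S : Set ℕ := {r | ∃ p : Σ A : Art Λ k, F.obj A,
    Minimal p.2 ∧ maximalIdeal p.1 ^ n = ⊥ ∧ rk p = r}
  have hbot : maximalIdeal (base Λ k) = ⊥ := eq_bot_iff.2 fun x hx =>
    (Art.mem_maximalIdeal_iff _ x).1 hx
  have hne : S.Nonempty := ⟨_, ⟨base Λ k, h0.1.some⟩, fun C ι ζ _ _ c => by
    obtain ⟨a, ha⟩ := C.res_surjective c
    exact ⟨a, ((res_app ι a).trans ha)⟩, by rw [hbot, ← Ideal.zero_eq_bot, zero_pow hn], rfl⟩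
  have hbdd : BddAbove S := ⟨M, fun r ⟨p, hp, hpn, hr⟩ =>
    hr ▸ (hM p.1 p.2 (tanInj_of_minimal h0 h1 hp) hpn).2⟩
  obtain ⟨⟨A, ξ⟩, hξ, hAn, hr⟩ := Nat.sSup_mem hne hbdd
  refine ⟨⟨A, ξ, hAn, hξ, fun B η hBn => ?_⟩⟩
  obtain ⟨P, p₁, p₂, hP⟩ := exists_fibreProd (toBase A) (toBase B) (toBase_surjective B)
  obtain ⟨z, hz₁, hz₂⟩ :=
    (cmp_surjective_iff hP).1 (h1 _ _ _ _ hP (toBase_surjective B)) ξ η (h0.2.elim _ _)
  obtain ⟨C, ι, ζ, hι, hζ, hC⟩ := exists_minimal P z
  have hs : Function.Surjective (ι ≫ p₁) :=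
    surjective_of_minimal (ζ := ζ) _ hξ (by rw [FunctorToTypes.map_comp_apply, hζ, hz₁])
  have hCn : maximalIdeal C ^ n = ⊥ := pow_eq_bot_of_injective (ι ≫ p₁) (ι ≫ p₂) hAn hBn
    fun x y e₁ e₂ => hι (hP.inj _ _ e₁ e₂)
  have hbij : Function.Bijective (ι ≫ p₁) := by
    letI : Algebra k C := (kmap (Λ := Λ) C.carrier).toAlgebra
    letI : Algebra k A := (kmap (Λ := Λ) A.carrier).toAlgebra
    let l : C →ₗ[k] A :=
      { toFun := fun c => (ι ≫ p₁).toAlgHom c
        map_add' := fun x y => map_add _ x y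
        map_smul' := fun c x => by
          rw [Algebra.smul_def, Algebra.smul_def, map_mul]
          exact congrArg₂ (· * ·) ((ι ≫ p₁).toAlgHom.commutes _) rfl }
    have hf := hM C ζ (tanInj_of_minimal h0 h1 hC) hCn
    haveI := hf.1
    haveI := (hM A ξ (tanInj_of_minimal h0 h1 hξ) hAn).1
    have hle : Module.finrank k C ≤ Module.finrank k A := by
      have := le_csSup hbdd ⟨⟨C, ζ⟩, hC, hCn, rfl⟩
      rw [← hr] at this
      exact this
    have hge : Module.finrank k A ≤ Module.finrank k C := l.finrank_le_finrank_of_surjective hs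
    exact ⟨(LinearMap.injective_iff_surjective_of_finrank_eq_finrank (f := l)
      (le_antisymm hle hge)).2 hs, hs⟩
  haveI := isIso_of_bij _ hbij
  refine ⟨inv (ι ≫ p₁) ≫ ι ≫ p₂, ?_⟩
  have : F.map (inv (ι ≫ p₁)) ξ = ζ := by
    rw [show ξ = F.map (ι ≫ p₁) ζ by rw [FunctorToTypes.map_comp_apply, hζ, hz₁],
      ← FunctorToTypes.map_comp_apply, IsIso.hom_inv_id, FunctorToTypes.map_id_apply]
  rw [FunctorToTypes.map_comp_apply, this, FunctorToTypes.map_comp_apply, hζ, hz₂]

end Groth.Agent.H4ProRep
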