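import Mathlib
import Groth.Prelude.Def_ArtFun
import Groth.Prelude.Def_ArtFun2
import Groth.Prelude.Def_ArtFun3
import Groth.Agent.Lib.H9Art
import Groth.Agent.Lib.CompleteNoetherian
import Groth.Agent.Lib.H4ProRepStage

/-!
Schlessinger's pro-representability criterion: the limit of the universal stages.
-/

set_option autoImplicit false

universe u v

open CategoryTheory

namespace Groth.Agent.H4ProRep

open ArtFun ArtFun.Art IsLocalRing Groth.Agent.H9Art

variable {Λ : Type u} {k : Type u} [Field k] [CommRing Λ] [Algebra Λ k] [Algebra k Λ]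
  [IsScalarTower k Λ k] {F : Art Λ k ⥤ Type v}

theorem map_maximalIdeal_le {C D : Art Λ k} (h : C ⟶ D) :
    (maximalIdeal C).map h.toAlgHom ≤ maximalIdeal D :=
  Ideal.map_le_iff_le_comap.2 fun y hy => (Art.mem_maximalIdeal_iff D _).2
    ((res_app h y).trans ((Art.mem_maximalIdeal_iff C y).1 hy))

theorem map_maximalIdeal_eq {C D : Art Λ k} (h : C ⟶ D) (hs : Function.Surjective h) :
    (maximalIdeal C).map h.toAlgHom = maximalIdeal D := by
  refine le_antisymm (map_maximalIdeal_le h) fun d hd => ?_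
  obtain ⟨c, rfl⟩ := hs d
  exact Ideal.mem_map_of_mem _ ((Art.mem_maximalIdeal_iff C c).2
    ((res_app h c).symm.trans ((Art.mem_maximalIdeal_iff D _).1 hd)))

/-- a compatible system of stages -/
structure Sys (F : Art Λ k ⥤ Type v) where
  /-- stages -/
  st : ∀ i : ℕ, Stage F (i + 1)
  /-- transition maps -/
  q : ∀ i : ℕ, (st (i + 1)).obj ⟶ (st i).obj
  map_q : ∀ i, F.map (q i) (st (i + 1)).elt = (st i).elt
  uniq : ∀ (i : ℕ) {B : Art Λ k} (f g : (st i).obj ⟶ B),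
    F.map f (st i).elt = F.map g (st i).elt → f = g

theorem exists_sys [IsNoetherianRing Λ] [TangentStr F] (hfin : Hfin F) (h0 : H0 F) (h1 : S1 F)
    (h4 : HSq F) : Nonempty (Sys F) := by
  let st : ∀ i : ℕ, Stage F (i + 1) := fun i =>
    (exists_stage hfin h0 h1 (Nat.succ_ne_zero i)).some
  have hq : ∀ i, ∃ q : (st (i + 1)).obj ⟶ (st i).obj, F.map q (st (i + 1)).elt = (st i).elt :=
    fun i => (st (i + 1)).lift _ _ (by
      rw [eq_bot_iff, ← (st i).pow]; exact Ideal.pow_le_pow_right (Nat.le_succ _))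
  choose q hq using hq
  exact ⟨⟨st, q, hq, fun i {B} f g h =>
    hom_unique h0 h4 (tanInj_of_minimal h0 h1 (st i).minimal) f g h⟩⟩

namespace Sys

variable (𝒮 : Sys F)

/-- the objects of the system -/
abbrev E (i : ℕ) : Art Λ k := (𝒮.st i).obj

theorem q_surjective (i : ℕ) : Function.Surjective (𝒮.q i) :=
  surjective_of_minimal _ (𝒮.st i).minimal (𝒮.map_q i)

theorem ker_q (i : ℕ) :
    RingHom.ker (𝒮.q i).toAlgHom = maximalIdeal (𝒮.E (i + 1)) ^ (i + 1) := by
  refine le_antisymm (fun x hx => ?_) (fun x hx => ?_)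
  · have hK : maximalIdeal (𝒮.E (i + 1)) ^ (i + 1) ≤ maximalIdeal (𝒮.E (i + 1)) :=
      Ideal.pow_le_self (Nat.succ_ne_zero i)
    set Q := quotMk (𝒮.E (i + 1)) _ hK
    obtain ⟨f, hf⟩ := (𝒮.st i).lift _ (F.map Q (𝒮.st (i + 1)).elt) (by
      rw [← map_maximalIdeal_eq Q (quotMk_surjective _ _ hK), ← Ideal.map_pow, eq_bot_iff,
        Ideal.map_le_iff_le_comap]
      intro y hy
      exact Ideal.mem_bot.2 (Ideal.Quotient.eq_zero_iff_mem.2 hy))
    have hfac : 𝒮.q i ≫ f = Q :=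
      𝒮.uniq (i + 1) _ _ (by rw [FunctorToTypes.map_comp_apply, 𝒮.map_q, hf])
    have h0 : Q.toAlgHom x = 0 := by
      rw [← hfac]
      exact (congrArg f.toAlgHom (RingHom.mem_ker.1 hx)).trans (map_zero _)
    exact Ideal.Quotient.eq_zero_iff_mem.1 h0
  · have h := Ideal.mem_map_of_mem (𝒮.q i).toAlgHom hx
    rw [Ideal.map_pow] at h
    have h' := Ideal.pow_right_mono (map_maximalIdeal_le (𝒮.q i)) (i + 1) h
    rw [(𝒮.st i).pow] at h'
    exact RingHom.mem_ker.2 h'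

/-- transition maps -/
noncomputable def trans {i j : ℕ} (h : i ≤ j) : 𝒮.E j ⟶ 𝒮.E i :=
  Nat.leRecOn (C := fun l => 𝒮.E l ⟶ 𝒮.E i) h (fun {l} g => 𝒮.q l ≫ g) (𝟙 _)

theorem trans_self (i : ℕ) : 𝒮.trans (le_refl i) = 𝟙 _ := Nat.leRecOn_self _

theorem trans_succ {i j : ℕ} (h : i ≤ j) :
    𝒮.trans (Nat.le_succ_of_le h) = 𝒮.q j ≫ 𝒮.trans h := Nat.leRecOn_succ h _

theorem trans_trans {i j l : ℕ} (h : i ≤ j) (h' : j ≤ l) :
    𝒮.trans h' ≫ 𝒮.trans h = 𝒮.trans (h.trans h') := by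
  induction h' with
  | refl => rw [trans_self, Category.id_comp]
  | @step l h' ih => rw [trans_succ 𝒮 h', Category.assoc, ih, ← trans_succ 𝒮 (h.trans h')]

theorem map_trans {i j : ℕ} (h : i ≤ j) : F.map (𝒮.trans h) (𝒮.st j).elt = (𝒮.st i).elt := by
  induction h with
  | refl => rw [trans_self, FunctorToTypes.map_id_apply]
  | @step l h ih => rw [trans_succ 𝒮 h, FunctorToTypes.map_comp_apply, 𝒮.map_q, ih]

theorem q_trans {i j : ℕ} (h : i + 1 ≤ j) :
    𝒮.trans h ≫ 𝒮.q i = 𝒮.trans ((Nat.le_succ i).trans h) := by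
  rw [← trans_trans 𝒮 (Nat.le_succ i) h, trans_succ 𝒮 (le_refl i), trans_self, Category.comp_id]

/-- the limit ring -/
def Lim : Subalgebra Λ (∀ i, 𝒮.E i) where
  carrier := {x | ∀ i, (𝒮.q i).toAlgHom (x (i + 1)) = x i}
  mul_mem' {x y} hx hy i := by simp [hx i, hy i]
  one_mem' i := by simp
  add_mem' {x y} hx hy i := by simp [hx i, hy i]
  zero_mem' i := by simp
  algebraMap_mem' l i := by simp

/-- projections -/
def proj (i : ℕ) : 𝒮.Lim →ₐ[Λ] 𝒮.E i := (Pi.evalAlgHom Λ _ i).comp 𝒮.Lim.val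

theorem proj_q (x : 𝒮.Lim) (i : ℕ) : (𝒮.q i).toAlgHom (𝒮.proj (i + 1) x) = 𝒮.proj i x := x.2 i

theorem proj_trans (x : 𝒮.Lim) {i j : ℕ} (h : i ≤ j) :
    (𝒮.trans h).toAlgHom (𝒮.proj j x) = 𝒮.proj i x := by
  induction h with
  | refl => rw [trans_self]; rfl
  | @step l h ih =>
    rw [trans_succ 𝒮 h, Art.comp_toAlgHom, AlgHom.comp_apply, proj_q, ih]

theorem proj_ext {x y : 𝒮.Lim} (h : ∀ i, 𝒮.proj i x = 𝒮.proj i y) : x = y :=
  Subtype.ext (funext h)

/-- the augmentation -/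
def res : 𝒮.Lim →ₐ[Λ] k := (𝒮.E 0).res.comp (𝒮.proj 0)

theorem res_proj (x : 𝒮.Lim) (i : ℕ) : (𝒮.E i).res (𝒮.proj i x) = 𝒮.res x := by
  induction i with
  | zero => rfl
  | succ i ih => rw [← ih, ← 𝒮.proj_q x i]; exact (res_app (𝒮.q i) _).symm

theorem proj_surjective (j : ℕ) : Function.Surjective (𝒮.proj j) := by
  intro a
  choose sec hsec using fun i => 𝒮.q_surjective i
  let l : ∀ m, 𝒮.E (j + m) := fun m =>
    Nat.rec (motive := fun m => 𝒮.E (j + m)) a (fun m b => sec (j + m) b) m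
  have hl : ∀ m, (𝒮.q (j + m)).toAlgHom (l (m + 1)) = l m := fun m => hsec _ _
  refine ⟨⟨fun i => (𝒮.trans (Nat.le_add_left i j)).toAlgHom (l i), fun i => ?_⟩, ?_⟩
  · change ((𝒮.trans (Nat.le_add_left (i + 1) j)) ≫ 𝒮.q i).toAlgHom (l (i + 1)) = _
    show _ = (𝒮.trans (Nat.le_add_left i j)).toAlgHom (l i)
    rw [q_trans, ← hl i,
      show 𝒮.trans ((Nat.le_succ i).trans (Nat.le_add_left (i + 1) j)) =
        𝒮.q (j + i) ≫ 𝒮.trans (Nat.le_add_left i j) from 𝒮.trans_succ (Nat.le_add_left i j)]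
    rfl
  · change (𝒮.trans (Nat.le_add_left j j)).toAlgHom (l j) = a
    have key : ∀ m (h : j ≤ j + m), (𝒮.trans h).toAlgHom (l m) = a := by
      intro m
      induction m with
      | zero => intro h; rw [show 𝒮.trans h = 𝟙 _ from 𝒮.trans_self j]; rfl
      | succ m ih =>
        intro h
        rw [show 𝒮.trans h = 𝒮.q (j + m) ≫ 𝒮.trans (Nat.le_add_right j m) from
          𝒮.trans_succ _, Art.comp_toAlgHom, AlgHom.comp_apply, hl, ih]
    exact key j _

theorem res_surjective : Function.Surjective 𝒮.res :=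
  (𝒮.E 0).res_surjective.comp (𝒮.proj_surjective 0)

theorem isUnit_of_res_ne {x : 𝒮.Lim} (hx : 𝒮.res x ≠ 0) : IsUnit x := by
  have hu : ∀ i, IsUnit (𝒮.proj i x) := fun i => by
    by_contra h
    exact hx ((𝒮.res_proj x i).symm.trans
      ((Art.mem_maximalIdeal_iff _ _).1 ((mem_maximalIdeal _).2 h)))
  choose y hy using fun i => (hu i).exists_right_inv
  have hmem : y ∈ 𝒮.Lim := by
    intro i
    refine (hu i).mul_left_cancel ?_
    rw [hy i, ← 𝒮.proj_q x i, ← map_mul, hy (i + 1), map_one]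
  exact IsUnit.of_mul_eq_one (⟨y, hmem⟩ : 𝒮.Lim) (𝒮.proj_ext fun i => hy i)

instance isLocalRing : IsLocalRing 𝒮.Lim := by
  haveI : Nontrivial 𝒮.Lim := ⟨⟨1, 0, fun h => by
    have := congrArg 𝒮.res h; rw [map_one, map_zero] at this; exact one_ne_zero this⟩⟩
  refine IsLocalRing.of_isUnit_or_isUnit_one_sub_self fun a => ?_
  by_cases h : 𝒮.res a = 0
  · exact Or.inr (𝒮.isUnit_of_res_ne (by rw [map_sub, map_one, h, sub_zero]; exact one_ne_zero))
  · exact Or.inl (𝒮.isUnit_of_res_ne h)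

theorem mem_max {x : 𝒮.Lim} : x ∈ maximalIdeal 𝒮.Lim ↔ 𝒮.res x = 0 := by
  refine ⟨fun h => ?_, fun h => ?_⟩
  · by_contra hne
    exact (mem_maximalIdeal _).1 h (𝒮.isUnit_of_res_ne hne)
  · rw [mem_maximalIdeal]
    intro hu
    exact (hu.map 𝒮.res).ne_zero h

theorem map_max (i : ℕ) : (maximalIdeal 𝒮.Lim).map (𝒮.proj i) = maximalIdeal (𝒮.E i) := by
  refine le_antisymm (Ideal.map_le_iff_le_comap.2 fun x hx => ?_) fun e he => ?_
  · exact (Art.mem_maximalIdeal_iff _ _).2 ((𝒮.res_proj x i).trans (𝒮.mem_max.1 hx))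
  · obtain ⟨x, rfl⟩ := 𝒮.proj_surjective i e
    exact Ideal.mem_map_of_mem _
      (𝒮.mem_max.2 ((𝒮.res_proj x i).symm.trans ((Art.mem_maximalIdeal_iff _ _).1 he)))

theorem pow_le_ker (i : ℕ) :
    maximalIdeal 𝒮.Lim ^ (i + 1) ≤ RingHom.ker (𝒮.proj i) := fun x hx => by
  have h := Ideal.mem_map_of_mem (𝒮.proj i) hx
  rw [Ideal.map_pow, map_max, (𝒮.st i).pow] at h
  exact RingHom.mem_ker.2 h

theorem exists_fg : ∃ Y : Ideal 𝒮.Lim, Y.FG ∧ Y ≤ maximalIdeal 𝒮.Lim ∧
    ∀ i, Y.map (𝒮.proj i) = maximalIdeal (𝒮.E i) := by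
  classical
  obtain ⟨N, y₁, hy₁⟩ := Submodule.fg_iff_exists_fin_generating_family.1
    (IsNoetherian.noetherian (maximalIdeal (𝒮.E 1)))
  choose y hy using fun a => 𝒮.proj_surjective 1 (y₁ a)
  have hy₁' : ∀ a, y₁ a ∈ maximalIdeal (𝒮.E 1) := fun a => hy₁ ▸ Submodule.subset_span ⟨a, rfl⟩
  have hYJ : Ideal.span (Set.range y) ≤ maximalIdeal 𝒮.Lim := Ideal.span_le.2 (by
    rintro _ ⟨a, rfl⟩
    exact 𝒮.mem_max.2 (((𝒮.res_proj (y a) 1).symm.trans (by rw [hy])).trans
      ((Art.mem_maximalIdeal_iff _ _).1 (hy₁' a))))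
  have hker : ∀ i (h : 1 ≤ i),
      RingHom.ker (𝒮.trans h).toAlgHom ≤ maximalIdeal (𝒮.E i) ^ 2 := by
    intro i
    induction i with
    | zero => omega
    | succ i ih =>
      intro h x hx
      rcases eq_or_lt_of_le h with he | hlt
      · obtain rfl : i = 0 := by omega
        rw [show 𝒮.trans h = 𝟙 _ from 𝒮.trans_self 1] at hx
        have : x = 0 := hx
        rw [this]; exact zero_mem _
      · have h' : 1 ≤ i := by omega
        rw [show 𝒮.trans h = 𝒮.q i ≫ 𝒮.trans h' from 𝒮.trans_succ h'] at hx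
        have hx' := ih h' (show (𝒮.q i).toAlgHom x ∈ RingHom.ker (𝒮.trans h').toAlgHom from
          RingHom.mem_ker.2 (RingHom.mem_ker.1 hx))
        rw [← map_maximalIdeal_eq _ (𝒮.q_surjective i), ← Ideal.map_pow,
          Ideal.mem_map_iff_of_surjective _ (𝒮.q_surjective i)] at hx'
        obtain ⟨y, hy, hxy⟩ := hx'
        have hk : x - y ∈ RingHom.ker (𝒮.q i).toAlgHom := by
          rw [RingHom.mem_ker, map_sub, sub_eq_zero]; exact hxy.symm
        rw [ker_q] at hk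
        have := (maximalIdeal (𝒮.E (i + 1)) ^ 2).add_mem
          (Ideal.pow_le_pow_right (by omega) hk) hy
        rwa [sub_add_cancel] at this
  refine ⟨Ideal.span (Set.range y), Submodule.fg_span (Set.finite_range y), hYJ, fun i => ?_⟩
  refine le_antisymm ((Ideal.map_mono hYJ).trans (𝒮.map_max i).le) ?_
  rcases Nat.eq_zero_or_pos i with rfl | hi
  · intro e he
    have := Ideal.pow_le_pow_right (I := maximalIdeal (𝒮.E 0)) (le_refl (0 + 1))
      (show e ∈ maximalIdeal (𝒮.E 0) ^ (0 + 1) by rwa [zero_add, pow_one])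
    rw [(𝒮.st 0).pow, Ideal.mem_bot] at this
    rw [this]; exact zero_mem _
  refine Submodule.le_of_le_smul_of_le_jacobson_bot (IsNoetherian.noetherian _)
    (maximalIdeal_le_jacobson _) ?_
  intro e he
  rw [smul_eq_mul, ← pow_two]
  have h1 : (𝒮.trans hi).toAlgHom e ∈ maximalIdeal (𝒮.E 1) :=
    map_maximalIdeal_le _ (Ideal.mem_map_of_mem _ he)
  rw [← hy₁] at h1
  obtain ⟨c, hc⟩ := (Submodule.mem_span_range_iff_exists_fun _).1 h1
  choose d hd using fun a => 𝒮.proj_surjective 1 (c a)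
  have hk : e - 𝒮.proj i (∑ a, d a * y a) ∈ RingHom.ker (𝒮.trans hi).toAlgHom := by
    rw [RingHom.mem_ker, map_sub, 𝒮.proj_trans, map_sum, sub_eq_zero, ← hc]
    exact Finset.sum_congr rfl fun a _ => by rw [map_mul, hd, hy]; rfl
  rw [← sub_add_cancel e (𝒮.proj i (∑ a, d a * y a)), add_comm]
  exact Submodule.add_mem_sup (Ideal.mem_map_of_mem _
    (sum_mem fun a _ => Ideal.mul_mem_left _ _ (Ideal.subset_span ⟨a, rfl⟩))) (hker i hi hk)

theorem ker_le_pow {Y : Ideal 𝒮.Lim} (hY : Y.FG) (hYJ : Y ≤ maximalIdeal 𝒮.Lim)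
    (hYm : ∀ i, Y.map (𝒮.proj i) = maximalIdeal (𝒮.E i)) (i : ℕ) :
    RingHom.ker (𝒮.proj i) ≤ Y ^ (i + 1) := by
  classical
  obtain ⟨N, z, hz⟩ := Submodule.fg_iff_exists_fin_generating_family.1
    (Submodule.FG.pow hY (i + 1))
  have hzY : ∀ a, z a ∈ Y ^ (i + 1) := fun a => hz ▸ Submodule.subset_span ⟨a, rfl⟩
  have hzm : ∀ m, Ideal.span (Set.range fun a => 𝒮.proj m (z a)) =
      maximalIdeal (𝒮.E m) ^ (i + 1) := fun m => by
    rw [← hYm m, ← Ideal.map_pow, ← hz,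
      show Submodule.span 𝒮.Lim (Set.range z) = Ideal.span (Set.range z) from rfl, Ideal.map_span,
      ← Set.range_comp]
    rfl
  intro x hx
  have step : ∀ (m : ℕ) (r : 𝒮.Lim), 𝒮.proj (i + m) r = 0 →
      ∃ e : Fin N → 𝒮.Lim, (∀ a, ∀ l, l < m → 𝒮.proj l (e a) = 0) ∧
        𝒮.proj (i + m + 1) (r - ∑ a, z a * e a) = 0 := by
    intro m r hr
    have hmem : 𝒮.proj (i + m + 1) r ∈ maximalIdeal (𝒮.E (i + m + 1)) ^ (i + m + 1) := by
      rw [← 𝒮.ker_q (i + m), RingHom.mem_ker, proj_q]; exact hr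
    rw [show i + m + 1 = (i + 1) + m by omega, pow_add] at hmem
    rw [← show i + m + 1 = (i + 1) + m by omega] at hmem
    rw [← hzm, mul_comm, ← smul_eq_mul, Submodule.mem_ideal_smul_span_iff_exists_sum] at hmem
    obtain ⟨c, hc, hsum⟩ := hmem
    choose e he hee using fun a => (Ideal.mem_map_iff_of_surjective _
      (𝒮.proj_surjective (i + m + 1))).1
      (show c a ∈ (maximalIdeal 𝒮.Lim ^ m).map (𝒮.proj (i + m + 1)) by
        rw [Ideal.map_pow, map_max]; exact hc a)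
    refine ⟨e, fun a l hl => ?_, ?_⟩
    · exact RingHom.mem_ker.1 (𝒮.pow_le_ker l (Ideal.pow_le_pow_right hl (he a)))
    · rw [map_sub, map_sum, sub_eq_zero, ← hsum, Finsupp.sum_fintype _ _ (fun a => by simp)]
      exact Finset.sum_congr rfl fun a _ => by rw [map_mul, hee, smul_eq_mul, mul_comm]
  choose e he0 he1 using step
  let c : ∀ m, {c : Fin N → 𝒮.Lim // 𝒮.proj (i + m) (x - ∑ a, z a * c a) = 0} := fun m =>
    Nat.rec ⟨0, by simpa using RingHom.mem_ker.1 hx⟩ (fun m c =>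
      ⟨c.1 + e m _ c.2, show 𝒮.proj (i + m + 1) _ = 0 by
        have := he1 m _ c.2
        simpa [mul_add, Finset.sum_add_distrib, sub_sub] using this⟩) m
  have hstab : ∀ a l m (h : l + 1 ≤ m),
      𝒮.proj l ((c m).1 a) = 𝒮.proj l ((c (l + 1)).1 a) := by
    intro a l m h
    induction h with
    | refl => rfl
    | @step m h ih =>
      change 𝒮.proj l ((c m).1 a + e m _ (c m).2 a) = _
      rw [map_add, ih, he0 m _ (c m).2 a l h, add_zero]
  have hlim : ∀ a, (fun l => 𝒮.proj l ((c (l + 1)).1 a)) ∈ 𝒮.Lim := fun a l => by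
    change (𝒮.q l).toAlgHom (𝒮.proj (l + 1) ((c (l + 1 + 1)).1 a)) = _
    rw [proj_q, hstab a l (l + 1 + 1) (by omega)]
  have hx' : x = ∑ a, z a * ⟨_, hlim a⟩ := by
    refine 𝒮.proj_ext fun l => ?_
    have h := (c (l + 1)).2
    have h' := congrArg (𝒮.trans (show l ≤ i + (l + 1) by omega)).toAlgHom h
    rw [proj_trans, map_zero, map_sub, sub_eq_zero] at h'
    rw [h', map_sum, map_sum]
    exact Finset.sum_congr rfl fun a _ => by rw [map_mul, map_mul]; rfl
  rw [hx']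
  exact sum_mem fun a _ => Ideal.mul_mem_right _ _ (hzY a)

theorem ker_proj (i : ℕ) : RingHom.ker (𝒮.proj i) = maximalIdeal 𝒮.Lim ^ (i + 1) := by
  obtain ⟨Y, hY, hYJ, hYm⟩ := 𝒮.exists_fg
  exact le_antisymm ((𝒮.ker_le_pow hY hYJ hYm i).trans (Ideal.pow_right_mono hYJ _))
    (𝒮.pow_le_ker i)

theorem max_fg : (maximalIdeal 𝒮.Lim).FG := by
  obtain ⟨Y, hY, hYJ, hYm⟩ := 𝒮.exists_fg
  have : maximalIdeal 𝒮.Lim = Y := by
    refine le_antisymm (fun x hx => ?_) hYJ
    have h0 : 𝒮.proj 0 x = 0 := by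
      have := Ideal.mem_map_of_mem (𝒮.proj 0) hx
      rw [map_max] at this
      have h2 : 𝒮.proj 0 x ∈ maximalIdeal (𝒮.E 0) ^ (0 + 1) := by rwa [zero_add, pow_one]
      rw [(𝒮.st 0).pow] at h2
      exact h2
    simpa using 𝒮.ker_le_pow hY hYJ hYm 0 (RingHom.mem_ker.2 h0)
  exact this ▸ hY

theorem isAdicComplete : IsAdicComplete (maximalIdeal 𝒮.Lim) 𝒮.Lim where
  haus' x hx := by
    refine 𝒮.proj_ext fun i => ?_
    have := hx (i + 1)
    rw [SModEq.zero, smul_eq_mul, Ideal.mul_top, ← ker_proj, RingHom.mem_ker] at this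
    rw [this, map_zero]
  prec' f hf := by
    have key : ∀ {i m n : ℕ}, i + 1 ≤ m → m ≤ n → 𝒮.proj i (f n) = 𝒮.proj i (f m) := by
      intro i m n him hmn
      have h := hf hmn
      rw [SModEq.sub_mem, smul_eq_mul, Ideal.mul_top] at h
      have := RingHom.mem_ker.1 ((𝒮.ker_proj i).ge (Ideal.pow_le_pow_right him h))
      rw [map_sub, sub_eq_zero] at this
      exact this.symm
    refine ⟨⟨fun i => 𝒮.proj i (f (i + 1)), fun i => ?_⟩, fun n => ?_⟩
    · change (𝒮.q i).toAlgHom (𝒮.proj (i + 1) (f (i + 1 + 1))) = _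
      rw [proj_q, key (le_refl (i + 1)) (Nat.le_succ _)]
    · rw [SModEq.sub_mem, smul_eq_mul, Ideal.mul_top]
      cases n with
      | zero => rw [pow_zero, Ideal.one_eq_top]; trivial
      | succ n =>
        rw [← ker_proj, RingHom.mem_ker, map_sub, sub_eq_zero]
        rfl

theorem isNoetherianRing : IsNoetherianRing 𝒮.Lim := by
  haveI := 𝒮.isAdicComplete
  letI := Ideal.Quotient.field (maximalIdeal 𝒮.Lim)
  exact CplNoeth.isNoetherianRing_of_isAdicComplete _ 𝒮.max_fg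

/-- the limit as an augmented coefficient ring -/
noncomputable def cring : CRing Λ k :=
  haveI := 𝒮.isNoetherianRing
  { carrier := 𝒮.Lim
    res := 𝒮.res
    res_surjective := 𝒮.res_surjective
    isAdicComplete := 𝒮.isAdicComplete }

theorem exists_factor {A : Art Λ k} {n : ℕ} (hA : maximalIdeal A ^ (n + 1) = ⊥)
    (φ : HomSet 𝒮.Lim 𝒮.res A) :
    ∃ g : 𝒮.E n ⟶ A, ∀ x, g.toAlgHom (𝒮.proj n x) = φ.1 x := by
  have hres : ∀ x, A.res (φ.1 x) = 𝒮.res x := fun x => AlgHom.congr_fun φ.2 x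
  have hker : RingHom.ker (𝒮.proj n) ≤ RingHom.ker φ.1 := by
    rw [ker_proj]
    intro x hx
    have h := Ideal.mem_map_of_mem φ.1 hx
    rw [Ideal.map_pow] at h
    have hle : (maximalIdeal 𝒮.Lim).map φ.1 ≤ maximalIdeal A :=
      Ideal.map_le_iff_le_comap.2 fun y hy =>
        (Art.mem_maximalIdeal_iff A _).2 ((hres y).trans (𝒮.mem_max.1 hy))
    have h' := Ideal.pow_right_mono hle (n + 1) h
    rw [hA] at h'
    exact RingHom.mem_ker.2 h'
  have hwd : ∀ {x x'}, 𝒮.proj n x = 𝒮.proj n x' → φ.1 x = φ.1 x' := fun {x x'} h =>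
    sub_eq_zero.1 (by
      rw [← map_sub]
      exact RingHom.mem_ker.1 (hker (RingHom.mem_ker.2 (by rw [map_sub, h, sub_self]))))
  let s := Function.surjInv (𝒮.proj_surjective n)
  have hs : ∀ e, 𝒮.proj n (s e) = e := Function.surjInv_eq (𝒮.proj_surjective n)
  let g : 𝒮.E n →ₐ[Λ] A :=
    { toFun := fun e => φ.1 (s e)
      map_one' := (hwd (by rw [hs, map_one])).trans (map_one φ.1)
      map_mul' := fun a b => (hwd (by rw [hs, map_mul, hs, hs])).trans (map_mul φ.1 (s a) (s b))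
      map_zero' := (hwd (by rw [hs, map_zero])).trans (map_zero φ.1)
      map_add' := fun a b => (hwd (by rw [hs, map_add, hs, hs])).trans (map_add φ.1 (s a) (s b))
      commutes' := fun l => (hwd (by rw [hs, AlgHom.commutes])).trans (φ.1.commutes l) }
  refine ⟨⟨g, AlgHom.ext fun e => ?_⟩, fun x => hwd (hs _)⟩
  change A.res (φ.1 (s e)) = _
  rw [hres, ← 𝒮.res_proj _ n, hs]

/-- a level killing the maximal ideal -/
noncomputable def lvl (A : Art Λ k) : ℕ := (exists_pow_maximalIdeal_eq_bot A).choose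

theorem lvl_spec (A : Art Λ k) {n : ℕ} (h : lvl A ≤ n + 1) : maximalIdeal A ^ (n + 1) = ⊥ :=
  eq_bot_iff.2 ((Ideal.pow_le_pow_right h).trans (exists_pow_maximalIdeal_eq_bot A).choose_spec.le)

theorem value_indep {A : Art Λ k} {i j : ℕ} (g : 𝒮.E i ⟶ A) (g' : 𝒮.E j ⟶ A)
    (h : ∀ x, g.toAlgHom (𝒮.proj i x) = g'.toAlgHom (𝒮.proj j x)) :
    F.map g (𝒮.st i).elt = F.map g' (𝒮.st j).elt := by
  wlog hij : i ≤ j generalizing i j
  · exact (this g' g (fun x => (h x).symm) (by omega)).symm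
  rw [← 𝒮.map_trans hij, ← FunctorToTypes.map_comp_apply]
  refine congrArg (fun t : 𝒮.E j ⟶ A => F.map t (𝒮.st j).elt) ?_
  refine Art.hom_ext (AlgHom.ext fun e => ?_)
  obtain ⟨x, rfl⟩ := 𝒮.proj_surjective j e
  rw [Art.comp_toAlgHom, AlgHom.comp_apply, proj_trans, h]

/-- the universal family -/
noncomputable def family : Family 𝒮.Lim 𝒮.res F where
  app A φ := F.map (𝒮.exists_factor (lvl_spec A (n := lvl A) (Nat.le_succ _)) φ).choose
    (𝒮.st (lvl A)).elt
  natural {A B} f φ := by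
    set g := (𝒮.exists_factor (lvl_spec A (n := lvl A) (Nat.le_succ _)) φ).choose
    have hg := (𝒮.exists_factor (lvl_spec A (n := lvl A) (Nat.le_succ _)) φ).choose_spec
    set g' := (𝒮.exists_factor (lvl_spec B (n := lvl B) (Nat.le_succ _)) (HomSet.map f φ)).choose
    have hg' :=
      (𝒮.exists_factor (lvl_spec B (n := lvl B) (Nat.le_succ _)) (HomSet.map f φ)).choose_spec
    rw [← FunctorToTypes.map_comp_apply]
    exact 𝒮.value_indep g' (g ≫ f) fun x => by
      rw [hg', Art.comp_toAlgHom, AlgHom.comp_apply, hg]; rfl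

theorem family_universal : IsUniversal 𝒮.family := by
  intro A
  refine ⟨fun φ ψ h => ?_, fun η => ?_⟩
  · obtain ⟨g, hg⟩ := 𝒮.exists_factor (lvl_spec A (n := lvl A) (Nat.le_succ _)) φ
    obtain ⟨g', hg'⟩ := 𝒮.exists_factor (lvl_spec A (n := lvl A) (Nat.le_succ _)) ψ
    have e1 : 𝒮.family.app A φ = F.map g (𝒮.st (lvl A)).elt :=
      𝒮.value_indep _ _ fun x => by
        rw [(𝒮.exists_factor (lvl_spec A (n := lvl A) (Nat.le_succ _)) φ).choose_spec, hg]
    have e2 : 𝒮.family.app A ψ = F.map g' (𝒮.st (lvl A)).elt :=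
      𝒮.value_indep _ _ fun x => by
        rw [(𝒮.exists_factor (lvl_spec A (n := lvl A) (Nat.le_succ _)) ψ).choose_spec, hg']
    have hgg : g = g' := 𝒮.uniq _ g g' (by rw [← e1, ← e2, h])
    exact Subtype.ext (AlgHom.ext fun x => by rw [← hg, ← hg', hgg])
  · obtain ⟨f, hf⟩ := (𝒮.st (lvl A)).lift A η (lvl_spec A (Nat.le_succ _))
    let φ : HomSet 𝒮.Lim 𝒮.res A := ⟨f.toAlgHom.comp (𝒮.proj (lvl A)), AlgHom.ext fun x =>
      (res_app f _).trans (𝒮.res_proj x _)⟩
    refine ⟨φ, ?_⟩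
    rw [← hf]
    exact 𝒮.value_indep _ _ fun x => by
      rw [(𝒮.exists_factor (lvl_spec A (n := lvl A) (Nat.le_succ _)) φ).choose_spec]; rfl

theorem isProrepresentable (𝒮 : Sys F) : IsProrepresentable F :=
  ⟨⟨𝒮.cring, 𝒮.family, 𝒮.family_universal⟩⟩

end Sys

theorem isProrepresentable_of_conditions [IsNoetherianRing Λ] [TangentStr F] (h0 : H0 F)
    (h1 : Hbar F) (hfin : Hfin F) (h4 : HSq F) : IsProrepresentable F :=
  (exists_sys hfin h0 (s1_of_hbar h1) h4).elim Sys.isProrepresentable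

/-! ### the converse -/

theorem isLeftExact_of_prorep (h : IsProrepresentable F) : IsLeftExact F := by
  obtain ⟨⟨R, ξ, hξ⟩⟩ := h
  intro B A A' A'' p' p'' f' f'' hsq
  refine ⟨(cmp_injective_iff hsq).2 fun z₁ z₂ e₁ e₂ => ?_, (cmp_surjective_iff hsq).2 fun a b hab => ?_⟩
  · obtain ⟨φ₁, rfl⟩ := (hξ B).2 z₁
    obtain ⟨φ₂, rfl⟩ := (hξ B).2 z₂
    rw [← ξ.natural, ← ξ.natural] at e₁ e₂
    have h₁ := (hξ A').1 e₁
    have h₂ := (hξ A'').1 e₂
    exact congrArg _ (Subtype.ext (AlgHom.ext fun r => hsq.inj _ _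
      (AlgHom.congr_fun (Subtype.ext_iff.1 h₁) r) (AlgHom.congr_fun (Subtype.ext_iff.1 h₂) r)))
  · obtain ⟨α, rfl⟩ := (hξ A').2 a
    obtain ⟨β, rfl⟩ := (hξ A'').2 b
    rw [← ξ.natural, ← ξ.natural] at hab
    have h₀ := (hξ A).1 hab
    obtain ⟨c, hc₁, hc₂⟩ := exists_liftAlgHom hsq α.1 β.1
      fun r => AlgHom.congr_fun (Subtype.ext_iff.1 h₀) r
    let γ : HomSet R.carrier R.res B := ⟨c, AlgHom.ext fun r =>
      (res_app p' (c r)).symm.trans ((congrArg A'.res (hc₁ r)).trans (AlgHom.congr_fun α.2 r))⟩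
    refine ⟨ξ.app B γ, ?_, ?_⟩
    · rw [← ξ.natural]; exact congrArg _ (Subtype.ext (AlgHom.ext hc₁))
    · rw [← ξ.natural]; exact congrArg _ (Subtype.ext (AlgHom.ext hc₂))

theorem hfin_of_prorep [TangentStr F] (h : IsProrepresentable F) : Hfin F := by
  classical
  obtain ⟨⟨R, ξ, hξ⟩⟩ := h
  have hmem : ∀ r : R.carrier, r ∈ maximalIdeal R.carrier ↔ R.res r = 0 := fun r => by
    have hmax : (RingHom.ker R.res).IsMaximal :=
      RingHom.ker_isMaximal_of_surjective _ R.res_surjective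
    rw [← IsLocalRing.eq_maximalIdeal hmax]; rfl
  obtain ⟨N, y, hy⟩ := Submodule.fg_iff_exists_fin_generating_family.1
    (IsNoetherian.noetherian (maximalIdeal R.carrier))
  choose inv' hinv using fun x : F.obj (dual Λ k) => (hξ (dual Λ k)).2 x
  have huniq : ∀ {φ : HomSet R.carrier R.res (dual Λ k)} {x : F.obj (dual Λ k)},
      ξ.app _ φ = x → inv' x = φ := fun {φ x} e => (hξ _).1 ((hinv x).trans e.symm)
  let T : TangentSpace F →ₗ[k] (Fin N → k) :=
    { toFun := fun x a => ((inv' x).1 (y a)).snd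
      map_add' := fun x x' => by
        funext a
        obtain ⟨c, h₁, h₂⟩ := exists_liftAlgHom isFibreProd_dual2 (inv' x).1 (inv' x').1 (fun r =>
          (AlgHom.congr_fun (inv' x).2 r).trans (AlgHom.congr_fun (inv' x').2 r).symm)
        let γ : HomSet R.carrier R.res (dual2 Λ k) := ⟨c, AlgHom.ext fun r =>
          (res_app pr₁ (c r)).symm.trans
            ((congrArg (dual Λ k).res (h₁ r)).trans (AlgHom.congr_fun (inv' x).2 r))⟩
        have hp₁ : F.map pr₁ (ξ.app _ γ) = x := by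
          rw [← ξ.natural, show HomSet.map pr₁ γ = inv' x from Subtype.ext (AlgHom.ext h₁), hinv]
        have hp₂ : F.map pr₂ (ξ.app _ γ) = x' := by
          rw [← ξ.natural, show HomSet.map pr₂ γ = inv' x' from Subtype.ext (AlgHom.ext h₂), hinv]
        have hsum := TangentStr.add_eq (F := F) (ξ.app _ γ)
        rw [hp₁, hp₂, ← ξ.natural] at hsum
        change ((inv' _).1 (y a)).snd = ((inv' x).1 (y a)).snd + ((inv' x').1 (y a)).snd
        rw [show inv' (x + x') = HomSet.map plus γ from huniq hsum.symm, ← h₁ (y a), ← h₂ (y a)]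
        rfl
      map_smul' := fun c x => by
        funext a
        have hs : ξ.app _ (HomSet.map (scale c) (inv' x)) = c • x := by
          rw [ξ.natural, hinv]; exact (TangentStr.smul_eq (F := F) c x).symm
        change ((inv' _).1 (y a)).snd = c * ((inv' x).1 (y a)).snd
        rw [huniq hs]
        rfl }
  have hTi : Function.Injective T := by
    intro x x' h
    rw [← hinv x, ← hinv x']
    refine congrArg _ (Subtype.ext (AlgHom.ext fun r => ?_))
    have hf : ∀ t : R.carrier, ((inv' x).1 t).fst = ((inv' x').1 t).fst := fun t =>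
      (AlgHom.congr_fun (inv' x).2 t).trans (AlgHom.congr_fun (inv' x').2 t).symm
    have hm : ∀ r ∈ maximalIdeal R.carrier, (inv' x).1 r = (inv' x').1 r := by
      intro r hr
      rw [← hy] at hr
      induction hr using Submodule.span_induction with
      | mem z hz =>
        obtain ⟨a, rfl⟩ := hz
        exact TrivSqZeroExt.ext (hf _) (congrFun h a)
      | zero => rw [map_zero, map_zero]
      | add z w _ _ hz hw => rw [map_add, map_add, hz, hw]
      | smul s z hz' hz =>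
        rw [smul_eq_mul, map_mul, map_mul, hz]
        have hz0 : ((inv' x').1 z).fst = 0 :=
          (AlgHom.congr_fun (inv' x').2 z).trans ((hmem z).1 (hy ▸ hz'))
        refine TrivSqZeroExt.ext ?_ ?_
        · exact congrArg₂ (· * ·) (hf s) rfl
        · change (((inv' x).1 s).fst • ((inv' x').1 z).snd +
              MulOpposite.op ((inv' x').1 z).fst • ((inv' x).1 s).snd) =
            (((inv' x').1 s).fst • ((inv' x').1 z).snd +
              MulOpposite.op ((inv' x').1 z).fst • ((inv' x').1 s).snd)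
          rw [hf, hz0, MulOpposite.op_zero, zero_smul, zero_smul]
    obtain ⟨l, hl⟩ : ∃ l : Λ, algebraMap Λ k l = R.res r := ⟨_, lam_res _⟩
    have hrm : r - algebraMap Λ R.carrier l ∈ maximalIdeal R.carrier := by
      rw [hmem, map_sub, AlgHom.commutes, hl, sub_self]
    have := hm _ hrm
    rwa [map_sub, map_sub, AlgHom.commutes, AlgHom.commutes, sub_left_inj] at this
  exact Module.Finite.of_injective T hTi

theorem h0_of_prorep (h : IsProrepresentable F) : H0 F := by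
  obtain ⟨⟨R, ξ, hξ⟩⟩ := h
  let φ₀ : HomSet R.carrier R.res (base Λ k) := ⟨R.res, AlgHom.id_comp _⟩
  refine ⟨⟨ξ.app _ φ₀⟩, ⟨fun a b => ?_⟩⟩
  obtain ⟨α, rfl⟩ := (hξ _).2 a
  obtain ⟨β, rfl⟩ := (hξ _).2 b
  exact congrArg _ (Subtype.ext ((AlgHom.id_comp _).symm.trans (α.2.trans β.2.symm) |>.trans
    (AlgHom.id_comp _)))

theorem iff_conditions [IsNoetherianRing Λ] [TangentStr F] (h0 : H0 F) :
    IsProrepresentable F ↔ (Hbar F ∧ Heps F ∧ Hfin F ∧ HSq F) := by
  refine ⟨fun h => ?_, fun ⟨h1, _, h3, h4⟩ => isProrepresentable_of_conditions h0 h1 h3 h4⟩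
  have hl := isLeftExact_of_prorep h
  exact ⟨fun _ _ _ _ _ _ _ _ hs _ => (hl _ _ _ _ hs).2, fun _ _ _ _ hs => hl _ _ _ _ hs,
    hfin_of_prorep h, fun _ _ _ _ _ _ hs _ => hl _ _ _ _ hs⟩

theorem iff_leftExact [IsNoetherianRing Λ] [TangentStr F] (h0 : H0 F) :
    IsProrepresentable F ↔ (IsLeftExact F ∧ Hfin F) := by
  refine ⟨fun h => ⟨isLeftExact_of_prorep h, hfin_of_prorep h⟩, fun ⟨hl, h3⟩ => ?_⟩
  exact isProrepresentable_of_conditions h0 (fun _ _ _ _ _ _ _ _ hs _ => (hl _ _ _ _ hs).2) h3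
    (fun _ _ _ _ _ _ hs _ => hl _ _ _ _ hs)

end Groth.Agent.H4ProRep
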