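import Mathlib

/-! A formally unramified finite type purely inseparable algebra map is surjective. -/

universe u

open TensorProduct

set_option linter.style.haveILetI false

namespace Groth.Agent.H4PurInsep

theorem field_case (p : ℕ) [Fact p.Prime] {k C : Type u} [Field k] [CommRing C] [Algebra k C] [CharP k p]
    [Algebra.FormallyUnramified k C] [Algebra.FiniteType k C] (s : ℕ) (hpow : ∀ b : C, b ^ p ^ s ∈ Set.range (algebraMap k C)) :
    Function.Surjective (algebraMap k C) := by
  rcases subsingleton_or_nontrivial C with h | h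
  · exact fun x => ⟨0, Subsingleton.elim _ _⟩
  let K := AlgebraicClosure k
  haveI : IsReduced (K ⊗[k] C) := Algebra.FormallyUnramified.isReduced_of_field K (K ⊗[k] C)
  haveI : CharP K p := charP_of_injective_algebraMap (algebraMap k K).injective p
  haveI : Nontrivial (K ⊗[k] C) := inferInstance
  haveI : CharP (K ⊗[k] C) p := charP_of_injective_algebraMap (algebraMap K (K ⊗[k] C)).injective p
  have hsur : Function.Surjective (algebraMap K (K ⊗[k] C)) := by
    intro z
    induction z with
    | zero => exact ⟨0, map_zero _⟩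
    | add a b ha hb => obtain ⟨a', rfl⟩ := ha; obtain ⟨b', rfl⟩ := hb; exact ⟨a' + b', map_add _ _ _⟩
    | tmul a x =>
      obtain ⟨c, hc⟩ := hpow x
      obtain ⟨d, hd⟩ := IsAlgClosed.exists_pow_nat_eq (algebraMap k K c) (n := p ^ s) (pow_pos (Fact.out : p.Prime).pos s)
      have h1 : (1 : K) ⊗ₜ[k] x = algebraMap K (K ⊗[k] C) d := by
        have : ((1 : K) ⊗ₜ[k] x - algebraMap K (K ⊗[k] C) d) ^ p ^ s = 0 := by
          rw [sub_pow_char_pow, Algebra.TensorProduct.tmul_pow, one_pow, ← hc, ← map_pow, hd, sub_eq_zero,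
            Algebra.TensorProduct.algebraMap_apply, Algebra.algebraMap_eq_smul_one, TensorProduct.tmul_smul,
            Algebra.algebraMap_eq_smul_one, ← TensorProduct.smul_tmul', algebraMap_smul]
        exact sub_eq_zero.1 (eq_zero_of_pow_eq_zero this)
      refine ⟨a * d, ?_⟩
      rw [map_mul, ← h1, Algebra.TensorProduct.algebraMap_apply, Algebra.TensorProduct.tmul_mul_tmul]
      simp
  have hfr : Module.finrank K (K ⊗[k] C) = 1 := by
    rw [← (LinearEquiv.ofBijective (Algebra.linearMap K (K ⊗[k] C))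
      ⟨(algebraMap K (K ⊗[k] C)).injective, hsur⟩).finrank_eq, Module.finrank_self]
  rw [Module.finrank_baseChange] at hfr
  haveI : Module.Finite k C := Module.finite_of_finrank_eq_succ hfr
  intro x
  obtain ⟨c, hc⟩ := (finrank_eq_one_iff_of_nonzero' (1 : C) one_ne_zero).1 hfr x
  exact ⟨c, by rw [Algebra.algebraMap_eq_smul_one, hc]⟩

theorem surjective (p : ℕ) [Fact p.Prime] {A B : Type u} [CommRing A] [CommRing B] [Algebra A B] [CharP B p]
    [Algebra.FiniteType A B] [Algebra.FormallyUnramified A B] (s : ℕ) (hpow : ∀ b : B, b ^ p ^ s ∈ Set.range (algebraMap A B)) :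
    Function.Surjective (algebraMap A B) := by
  haveI : Algebra.IsIntegral A B := ⟨fun b => IsIntegral.of_pow (pow_pos (Fact.out : p.Prime).pos s) (by
    obtain ⟨a, ha⟩ := hpow b
    exact ha ▸ isIntegral_algebraMap)⟩
  haveI : Module.Finite A B := Algebra.IsIntegral.finite
  let N : Submodule A B := LinearMap.range (Algebra.linearMap A B)
  suffices N = ⊤ by exact fun x => (this ▸ Submodule.mem_top : x ∈ N)
  have hann : Module.annihilator A (B ⧸ N) = ⊤ := by
    by_contra hne
    obtain ⟨q, hq, hle⟩ := Ideal.exists_le_maximal _ hne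
    letI : Field (A ⧸ q) := Ideal.Quotient.field q
    have hpow' : ∀ c : (A ⧸ q) ⊗[A] B, (c ^ p ^ s) ∈ Set.range (algebraMap (A ⧸ q) ((A ⧸ q) ⊗[A] B)) := by
      intro c
      obtain ⟨b, rfl⟩ := TensorProduct.mk_surjective A B (A ⧸ q) Ideal.Quotient.mk_surjective c
      obtain ⟨a, ha⟩ := hpow b
      refine ⟨Ideal.Quotient.mk q a, ?_⟩
      rw [TensorProduct.mk_apply, Algebra.TensorProduct.tmul_pow, one_pow, ← ha, Algebra.TensorProduct.algebraMap_apply,
        Algebra.algebraMap_eq_smul_one a, TensorProduct.tmul_smul, TensorProduct.smul_tmul']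
      simp [Algebra.smul_def]
    have hsur : Function.Surjective (algebraMap (A ⧸ q) ((A ⧸ q) ⊗[A] B)) := by
      rcases subsingleton_or_nontrivial ((A ⧸ q) ⊗[A] B) with h | h
      · exact fun x => ⟨0, Subsingleton.elim _ _⟩
      · have hB : (p : (A ⧸ q) ⊗[A] B) = 0 := by
          rw [← map_natCast (Algebra.TensorProduct.includeRight : B →ₐ[A] (A ⧸ q) ⊗[A] B), CharP.cast_eq_zero, map_zero]
        haveI : CharP (A ⧸ q) p := (CharP.charP_iff_prime_eq_zero (Fact.out : p.Prime)).2
          ((algebraMap (A ⧸ q) ((A ⧸ q) ⊗[A] B)).injective (by rw [map_natCast, map_zero, hB]))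
        exact field_case p s hpow'
    have hsmul : (⊤ : Submodule A (B ⧸ N)) ≤ q • ⊤ := by
      intro y _
      obtain ⟨b, rfl⟩ := N.mkQ_surjective y
      obtain ⟨c, hc⟩ := hsur (1 ⊗ₜ b)
      obtain ⟨a, rfl⟩ := Ideal.Quotient.mk_surjective c
      have h0 : TensorProduct.mk A (A ⧸ q) B 1 (b - algebraMap A B a) = 0 := by
        rw [map_sub, TensorProduct.mk_apply, TensorProduct.mk_apply, ← hc, Algebra.TensorProduct.algebraMap_apply,
          Algebra.algebraMap_eq_smul_one a, TensorProduct.tmul_smul, TensorProduct.smul_tmul']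
        simp [Algebra.smul_def]
      have hmem : b - algebraMap A B a ∈ q • (⊤ : Submodule A B) := by
        have : TensorProduct.quotTensorEquivQuotSMul B q (Ideal.Quotient.mk q 1 ⊗ₜ[A] (b - algebraMap A B a)) = 0 := by
          rw [map_one, ← TensorProduct.mk_apply, h0, map_zero]
        simpa [TensorProduct.quotTensorEquivQuotSMul_mk_tmul, Submodule.Quotient.mk_eq_zero, -map_sub, -Submodule.Quotient.mk_sub, -Ideal.smul_top_eq_map] using this
      have := Submodule.mem_map_of_mem (f := N.mkQ) hmem
      rw [Submodule.map_smul'', Submodule.map_top, Submodule.range_mkQ, map_sub] at this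
      have e : N.mkQ (algebraMap A B a) = 0 := (Submodule.Quotient.mk_eq_zero N).2 ⟨a, rfl⟩
      rwa [e, sub_zero] at this
    obtain ⟨r, hr, hr0⟩ := Submodule.exists_sub_one_mem_and_smul_eq_zero_of_fg_of_le_smul q (⊤ : Submodule A (B ⧸ N))
      Module.Finite.fg_top hsmul
    have : r ∈ q := hle (Module.mem_annihilator.2 fun m => hr0 m trivial)
    exact hq.ne_top ((Ideal.eq_top_iff_one q).2 (by simpa using q.sub_mem this hr))
  rw [Module.annihilator_eq_top_iff] at hann
  exact Submodule.Quotient.subsingleton_iff.1 hann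

end Groth.Agent.H4PurInsep
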