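import Mathlib
import Groth.Agent.Lib.H4FerrandVasc
import Groth.Agent.Lib.H2DepthOpen

/-!
Finite projective dimension and projective conormal module: locally generated by a regular sequence.
-/

universe u

namespace Groth.Agent.H4RegIdeal

open RingTheory.Sequence IsLocalRing Groth.Agent.RegLocal Groth.Agent.H2DepthOpen

set_option maxHeartbeats 400000

variable {R : Type u} [CommRing R]

/-- Functionals expressing every element of `I` in terms of given generators, modulo `I²`. -/
theorem exists_dual (I : Ideal R) [Module.Projective (R ⧸ I) I.Cotangent] {m : ℕ} (η : Fin m → R)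
    (hη : ∀ l, η l ∈ I) (hspan : Ideal.span (Set.range η) = I) :
    ∃ f : Fin m → (I →ₗ[R] R ⧸ I), ∀ a : I, ∃ c : Fin m → R,
      (∀ l, Ideal.Quotient.mk I (c l) = f l a) ∧ (a : R) - ∑ l, c l * η l ∈ I ^ 2 := by
  classical
  let π := Fintype.linearCombination (R ⧸ I) (fun l => I.toCotangent ⟨η l, hη l⟩)
  have hπ : Function.Surjective π := by
    intro v
    obtain ⟨⟨a, ha⟩, rfl⟩ := I.toCotangent_surjective v
    obtain ⟨c, hc⟩ := Ideal.mem_span_range_iff_exists_fun.mp (hspan.symm ▸ ha : a ∈ Ideal.span (Set.range η))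
    refine ⟨fun l => Ideal.Quotient.mk I (c l), ?_⟩
    have e : (⟨a, ha⟩ : I) = ∑ l, c l • (⟨η l, hη l⟩ : I) := Subtype.ext (by simp [hc])
    rw [e, map_sum, Fintype.linearCombination_apply]
    refine Finset.sum_congr rfl fun l _ => ?_
    rw [map_smul, ← Ideal.Quotient.algebraMap_eq, algebraMap_smul]
  obtain ⟨σ, hσ⟩ := Module.projective_lifting_property π LinearMap.id hπ
  refine ⟨fun l => ((LinearMap.proj (R := R ⧸ I) (φ := fun _ => R ⧸ I) l).restrictScalars R) ∘ₗ σ.restrictScalars R ∘ₗ I.toCotangent, fun a => ?_⟩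
  choose c hc using fun l => Ideal.Quotient.mk_surjective (σ (I.toCotangent a) l)
  refine ⟨c, hc, ?_⟩
  have e : I.toCotangent a = I.toCotangent (∑ l, c l • (⟨η l, hη l⟩ : I)) := by
    rw [map_sum]
    conv_lhs => rw [← LinearMap.id_apply (R := R ⧸ I) (I.toCotangent a), ← hσ, LinearMap.comp_apply,
      Fintype.linearCombination_apply]
    refine Finset.sum_congr rfl fun l _ => ?_
    rw [map_smul, ← hc l, ← Ideal.Quotient.algebraMap_eq, algebraMap_smul]
  simpa using (I.toCotangent_eq).mp e

theorem det_isUnit {S : Type u} [CommRing S] [IsLocalRing S] {k : ℕ} (N : Matrix (Fin k) (Fin k) S)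
    (h : ∀ i j, (1 - N) i j ∈ maximalIdeal S) : IsUnit N.det := by
  have e : N.map (residue S) = 1 := by
    ext i j
    have h1 := (residue_eq_zero_iff _).mpr (h i j)
    rw [Matrix.sub_apply, map_sub, sub_eq_zero] at h1
    rw [Matrix.map_apply, ← h1, Matrix.one_apply, Matrix.one_apply]
    split <;> simp
  by_contra hu
  have h2 : residue S N.det = 0 := (residue_eq_zero_iff _).mpr hu
  rw [RingHom.map_det, RingHom.mapMatrix_apply, e, Matrix.det_one] at h2
  exact one_ne_zero h2

/-- At a prime, a projective conormal module gives generators that are independent modulo `I²`. -/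
theorem exists_indep [IsNoetherianRing R] (I : Ideal R) [Module.Projective (R ⧸ I) I.Cotangent]
    (p : Ideal R) [p.IsPrime] (hIp : I ≤ p) :
    ∃ (k : ℕ) (x : Fin k → Localization.AtPrime p), (∀ i, x i ∈ I.map (algebraMap R _)) ∧
      Ideal.span (Set.range x) = I.map (algebraMap R _) ∧
      ∀ a : Fin k → Localization.AtPrime p, ∑ i, a i * x i ∈ I.map (algebraMap R _) ^ 2 →
        ∀ i, a i ∈ I.map (algebraMap R _) := by
  classical
  let S := Localization.AtPrime p
  let am := algebraMap R S
  let J := I.map am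
  have : IsNoetherianRing S := IsLocalization.isNoetherianRing p.primeCompl S inferInstance
  have hJm : J ≤ maximalIdeal S := by
    rw [← Localization.AtPrime.map_eq_maximalIdeal]; exact Ideal.map_mono hIp
  obtain ⟨m, η, hη⟩ := Submodule.fg_iff_exists_fin_generating_family.mp (IsNoetherian.noetherian I)
  have hηI : ∀ l, η l ∈ I := fun l => hη ▸ Submodule.subset_span ⟨l, rfl⟩
  have hex : ∃ k, ∃ ξ : Fin k → R, (∀ i, ξ i ∈ I) ∧ Ideal.span (Set.range (am ∘ ξ)) = J := by
    refine ⟨m, η, hηI, ?_⟩
    rw [Set.range_comp, ← Ideal.map_span]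
    exact congrArg (Ideal.map am) hη
  obtain ⟨ξ, hξI, hξ⟩ := Nat.find_spec hex
  generalize hk : Nat.find hex = k at ξ
  refine ⟨k, am ∘ ξ, fun i => Ideal.mem_map_of_mem _ (hξI i), hξ, fun a ha => ?_⟩
  obtain ⟨f, hf⟩ := exists_dual I η hηI hη
  choose A hA hA2 using fun i => hf ⟨ξ i, hξI i⟩
  choose C hC using fun l => Ideal.mem_span_range_iff_exists_fun.mp
    (hξ.symm ▸ Ideal.mem_map_of_mem am (hηI l) : am (η l) ∈ Ideal.span (Set.range (am ∘ ξ)))
  let N : Matrix (Fin k) (Fin k) S := fun i j => ∑ l, am (A i l) * C l j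
  have hN : ∀ i, am (ξ i) - ∑ j, N i j * am (ξ j) ∈ J ^ 2 := by
    intro i
    have e : ∑ j, N i j * am (ξ j) = am (∑ l, A i l * η l) := by
      rw [Finset.sum_congr rfl (fun j _ => Finset.sum_mul _ _ (am (ξ j))), Finset.sum_comm, map_sum]
      simp only [map_mul]
      refine Finset.sum_congr rfl fun l _ => ?_
      rw [← hC l, Finset.mul_sum]
      exact Finset.sum_congr rfl fun j _ => mul_assoc _ _ _
    rw [e, ← map_sub, ← Ideal.map_pow]
    exact Ideal.mem_map_of_mem _ (hA2 i)
  have hent : ∀ i j, (1 - N) i j ∈ maximalIdeal S := by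
    intro i j
    by_contra hu
    rw [mem_maximalIdeal, mem_nonunits_iff, not_not] at hu
    obtain ⟨v, hv⟩ := hu.exists_left_inv
    obtain ⟨k, rfl⟩ : ∃ k', k = k' + 1 := ⟨k - 1, by have := j.2; omega⟩
    refine Nat.find_min hex (m := k) (by omega) ⟨ξ ∘ j.succAbove, fun i => hξI _, ?_⟩
    refine le_antisymm (Ideal.span_le.mpr (by rintro _ ⟨i, rfl⟩; exact Ideal.mem_map_of_mem _ (hξI _))) ?_
    refine Submodule.le_of_le_smul_of_le_jacobson_bot (IsNoetherian.noetherian J)
      (maximalIdeal_le_jacobson ⊥) ?_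
    refine hξ.symm.le.trans (Ideal.span_le.mpr ?_)
    rintro _ ⟨l, rfl⟩
    rcases Fin.eq_self_or_eq_succAbove j l with rfl | ⟨i', rfl⟩
    · have h1 : ∑ j, (1 - N) i j * am (ξ j) ∈ J ^ 2 := by
        simpa [Matrix.sub_apply, sub_mul, Finset.sum_sub_distrib, Matrix.one_apply, ite_mul] using hN i
      rw [Fin.sum_univ_succAbove _ l] at h1
      have e : am (ξ l) = v * ((1 - N) i l * am (ξ l) + ∑ i', (1 - N) i (l.succAbove i') * am (ξ (l.succAbove i')))
          - ∑ i', v * (1 - N) i (l.succAbove i') * am (ξ (l.succAbove i')) := by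
        rw [mul_add, Finset.mul_sum, ← mul_assoc, hv, one_mul]
        simp only [mul_assoc, add_sub_cancel_right]
      rw [SetLike.mem_coe, Function.comp_apply, e]
      refine sub_mem (Submodule.mem_sup_right ?_) (Submodule.mem_sup_left (sum_mem fun i' _ =>
        Ideal.mul_mem_left _ _ (Ideal.subset_span ⟨i', rfl⟩)))
      have h2 := Ideal.mul_mem_left (J ^ 2) v h1
      rw [pow_two, ← smul_eq_mul] at h2
      exact Submodule.smul_mono hJm le_rfl h2
    · exact Submodule.mem_sup_left (Ideal.subset_span ⟨i', rfl⟩)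
  obtain ⟨d, hd⟩ := IsLocalization.exist_integer_multiples_of_finite p.primeCompl a
  choose b hb using fun i => hd i
  have hsum : am (∑ i, b i * ξ i) ∈ (I ^ 2).map am := by
    rw [Ideal.map_pow, map_sum]
    have : ∀ i, am (b i * ξ i) = am d * (a i * am (ξ i)) := fun i => by
      rw [map_mul, show am (b i) = am d * a i from (hb i).trans (Algebra.smul_def _ _), mul_assoc]
    simp only [this, ← Finset.mul_sum]
    exact Ideal.mul_mem_left _ _ ha
  obtain ⟨t, ht, hts⟩ := (IsLocalization.algebraMap_mem_map_algebraMap_iff p.primeCompl S _ _).mp hsum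
  have hl : ∀ l, ∑ i, a i * am (A i l) ∈ J := by
    intro l
    have h1 : Ideal.Quotient.mk I (t * ∑ i, b i * A i l) = 0 := by
      have e : (t • ∑ i, b i • (⟨ξ i, hξI i⟩ : I)) = ⟨t * ∑ i, b i * ξ i, Ideal.pow_le_self two_ne_zero hts⟩ :=
        Subtype.ext (by simp)
      have h2 : f l ⟨t * ∑ i, b i * ξ i, Ideal.pow_le_self two_ne_zero hts⟩ = 0 := by
        have hle : I • (⊤ : Submodule R I) ≤ LinearMap.ker (f l) := Submodule.smul_le.mpr fun u hu w _ => by
          rw [LinearMap.mem_ker, map_smul, ← algebraMap_smul (R ⧸ I) u,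
            Ideal.Quotient.algebraMap_eq, Ideal.Quotient.eq_zero_iff_mem.mpr hu, zero_smul]
        have : ∀ z : I, (z : R) ∈ I ^ 2 → f l z = 0 := fun z hz => hle
          ((Submodule.mem_smul_top_iff I I z).mpr (by rwa [smul_eq_mul, ← pow_two]))
        exact this _ hts
      rw [← h2, ← e, map_smul, map_sum, map_mul, map_sum, ← Ideal.Quotient.algebraMap_eq, ← algebraMap_smul (R ⧸ I) t,
        smul_eq_mul]
      refine congrArg _ (Finset.sum_congr rfl fun i _ => ?_)
      rw [map_smul, ← hA i l, map_mul, ← algebraMap_smul (R ⧸ I) (b i), smul_eq_mul, Ideal.Quotient.algebraMap_eq]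
    have h3 := Ideal.mem_map_of_mem am (Ideal.Quotient.eq_zero_iff_mem.mp h1)
    have hu : IsUnit (am t * am d) :=
      (IsLocalization.map_units S (⟨t, ht⟩ : p.primeCompl)).mul (IsLocalization.map_units S d)
    refine (Ideal.unit_mul_mem_iff_mem J hu).mp ?_
    convert h3 using 1
    rw [map_mul, map_sum, mul_assoc, Finset.mul_sum (a := am d)]
    refine congrArg _ (Finset.sum_congr rfl fun i _ => ?_)
    rw [map_mul, show am (b i) = am d * a i from (hb i).trans (Algebra.smul_def _ _), mul_assoc]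
  have haN : ∀ j, Matrix.vecMul a N j ∈ J := by
    intro j
    have e : Matrix.vecMul a N j = ∑ l, (∑ i, a i * am (A i l)) * C l j := by
      simp only [Matrix.vecMul, dotProduct, N, Finset.mul_sum, Finset.sum_mul]
      rw [Finset.sum_comm]
      exact Finset.sum_congr rfl fun l _ => Finset.sum_congr rfl fun i _ => (mul_assoc _ _ _).symm
    rw [e]
    exact sum_mem fun l _ => Ideal.mul_mem_right _ _ (hl l)
  intro i
  have e : a = Matrix.vecMul (Matrix.vecMul a N) N⁻¹ := by
    rw [Matrix.vecMul_vecMul, Matrix.mul_nonsing_inv _ (det_isUnit N hent), Matrix.vecMul_one]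
  rw [e]
  show ∑ j, Matrix.vecMul a N j * N⁻¹ j i ∈ J
  exact sum_mem fun j _ => Ideal.mul_mem_right _ _ (haN j)

/-- Weakly regular sequences in a localization can be chosen with entries from `R`. -/
theorem exists_num (I : Ideal R) (p : Ideal R) [p.IsPrime] (ss : List (Localization.AtPrime p))
    (hss : ∀ z ∈ ss, z ∈ I.map (algebraMap R _)) (h : IsWeaklyRegular (Localization.AtPrime p) ss) :
    ∃ bs : List R, (∀ b ∈ bs, b ∈ I) ∧ IsWeaklyRegular (LocalizedModule p.primeCompl R) bs ∧
      (Ideal.ofList bs).map (algebraMap R (Localization.AtPrime p)) = Ideal.ofList ss := by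
  classical
  let A := Localization.AtPrime p
  have hrep : ∀ x : A, ∃ a : R, (x ∈ I.map (algebraMap R A) → a ∈ I) ∧ Associated x (algebraMap R A a) := by
    intro x
    by_cases hx : x ∈ I.map (algebraMap R A)
    · obtain ⟨⟨⟨b, hb⟩, t⟩, ht⟩ := (IsLocalization.mem_map_algebraMap_iff p.primeCompl A).1 hx
      exact ⟨b, fun _ => hb, ⟨(IsLocalization.map_units A t).unit, by simpa using ht⟩⟩
    · obtain ⟨⟨b, t⟩, ht⟩ := IsLocalization.surj p.primeCompl x
      exact ⟨b, fun h => absurd h hx, ⟨(IsLocalization.map_units A t).unit, by simpa using ht⟩⟩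
  choose num hnumI hnum using hrep
  have hspan : ∀ l : List A, Ideal.ofList l = (Ideal.ofList (l.map num)).map (algebraMap R A) := by
    intro l
    induction l with
    | nil => rw [List.map_nil, Ideal.ofList_nil, Ideal.ofList_nil, Ideal.map_bot]
    | cons x l ih =>
      rw [List.map_cons, Ideal.ofList_cons, Ideal.ofList_cons, Ideal.map_sup, ← ih, Ideal.map_span, Set.image_singleton,
        show Ideal.span {algebraMap R A (num x)} = Ideal.span {x} by
          obtain ⟨u, hu⟩ := hnum x; rw [← hu, Ideal.span_singleton_mul_right_unit u.isUnit]]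
  have hreg : IsWeaklyRegular A ((ss.map num).map (algebraMap R A)) := by
    refine ⟨fun i hi => ?_⟩
    have hi' : i < ss.length := by simpa using hi
    have h0 := h.regular_mod_prev i hi'
    obtain ⟨u, hu⟩ := hnum ss[i]
    have hj : Ideal.ofList (((ss.map num).map (algebraMap R A)).take i) = Ideal.ofList (ss.take i) := by
      rw [← List.map_take, ← List.map_take, hspan (ss.take i), Ideal.map_ofList]
    rw [hj]
    have : ((ss.map num).map (algebraMap R A))[i] = (u : A) * ss[i] := by
      simp only [List.getElem_map]; rw [← hu, mul_comm]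
    rw [this]
    exact (IsUnit.isSMulRegular _ u.isUnit).mul h0
  refine ⟨ss.map num, ?_, ?_, (hspan ss).symm⟩
  · intro b hb
    obtain ⟨x, hx, rfl⟩ := List.mem_map.1 hb
    exact hnumI x (hss x hx)
  · rw [isWeaklyRegular_map_algebraMap_iff] at hreg
    exact ((IsLocalizedModule.linearEquiv p.primeCompl (LocalizedModule.mkLinearMap p.primeCompl R)
      (Algebra.linearMap R A)).isWeaklyRegular_congr _).mpr hreg

/-- Regularity at every prime of a basic open gives regularity on the basic open. -/
theorem isWeaklyRegular_away (g : R) (bs : List R)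
    (h : ∀ (q : Ideal R) [q.IsPrime], g ∉ q → IsWeaklyRegular (LocalizedModule q.primeCompl R) bs) :
    IsWeaklyRegular (Localization.Away g) (bs.map (algebraMap R (Localization.Away g))) := by
  rw [isWeaklyRegular_map_algebraMap_iff]
  refine ((IsLocalizedModule.linearEquiv (Submonoid.powers g) (LocalizedModule.mkLinearMap (Submonoid.powers g) R)
      (Algebra.linearMap R (Localization.Away g))).isWeaklyRegular_congr _).mp ?_
  rw [isWeaklyRegular_localized_iff]
  intro i hi a ha
  let K : Ideal R := (Ideal.ofList (bs.take i) • ⊤ : Submodule R R).colon {a}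
  have hK : g ∈ K.radical := by
    rw [Ideal.radical_eq_sInf]
    refine Submodule.mem_sInf.mpr ?_
    rintro q ⟨hKq, hq⟩
    by_contra hg
    haveI : Ideal.IsPrime q := hq
    obtain ⟨s, hs, hsa⟩ := (isWeaklyRegular_localized_iff (Ideal.primeCompl q) bs).mp (h q hg) i hi a ha
    exact hs (hKq (Submodule.mem_colon_singleton.mpr hsa))
  obtain ⟨N, hN⟩ := hK
  exact ⟨g ^ N, ⟨N, rfl⟩, Submodule.mem_colon_singleton.mp hN⟩

theorem exists_away [IsNoetherianRing R] (I : Ideal R) (n : ℕ) (hpd : PdLT R I (n + 1))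
    [Module.Projective (R ⧸ I) I.Cotangent] (p : Ideal R) [p.IsPrime] (hIp : I ≤ p) :
    ∃ g : R, g ∉ p ∧ ∃ rs : List (Localization.Away g),
      IsRegular (Localization.Away g) rs ∧
        Ideal.ofList rs = I.map (algebraMap R (Localization.Away g)) := by
  classical
  let S := Localization.AtPrime p
  let am := algebraMap R S
  let J := I.map am
  have : IsNoetherianRing S := IsLocalization.isNoetherianRing p.primeCompl S inferInstance
  have : Module.Flat R S := IsLocalization.flat S p.primeCompl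
  have hJm : J ≤ maximalIdeal S := by
    rw [← Localization.AtPrime.map_eq_maximalIdeal]; exact Ideal.map_mono hIp
  obtain ⟨k, x, hx, hxs, hli⟩ := exists_indep I p hIp
  obtain ⟨zs, -, hzreg, hzeq⟩ := H4FV.exists_regular k S J (J ^ 2) hJm n (H4FV.pdLT_map S hpd) x hx
    le_rfl (Ideal.pow_le_self two_ne_zero)
    (by rw [hxs]; exact sup_eq_left.mpr (Ideal.pow_le_self two_ne_zero)) hli
  have hJ2 : J ^ 2 ≤ J := Ideal.pow_le_self two_ne_zero
  rw [hxs, sup_eq_left.mpr hJ2] at hzeq
  have hzJ : Ideal.ofList zs = J := by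
    refine le_antisymm (le_sup_left.trans hzeq.le) ?_
    refine Submodule.le_of_le_smul_of_le_jacobson_bot (IsNoetherian.noetherian J)
      (maximalIdeal_le_jacobson ⊥) ?_
    refine hzeq.symm.le.trans (sup_le_sup_left ?_ _)
    rw [pow_two, smul_eq_mul]; exact Ideal.mul_mono_left hJm
  obtain ⟨bs, hbI, hbreg, hbJ⟩ := exists_num I p zs (fun z hz => by
    show z ∈ J
    rw [← hzJ]; exact Ideal.subset_span hz) hzreg
  rw [hzJ] at hbJ
  obtain ⟨g₁, hg₁, hg₁'⟩ := exists_isWeaklyRegular_nhd bs hbreg
  obtain ⟨m, η, hη⟩ := Submodule.fg_iff_exists_fin_generating_family.mp (IsNoetherian.noetherian I)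
  have hs : ∀ l, ∃ s ∈ p.primeCompl, s * η l ∈ Ideal.ofList bs := fun l =>
    (IsLocalization.algebraMap_mem_map_algebraMap_iff p.primeCompl S _ _).mp
      (hbJ.symm ▸ Ideal.mem_map_of_mem am (hη ▸ Submodule.subset_span ⟨l, rfl⟩ : η l ∈ I) :
        am (η l) ∈ (Ideal.ofList bs).map am)
  choose s hsp hs using hs
  let g := g₁ * ∏ l, s l
  have hgp : g ∉ p := p.primeCompl.mul_mem hg₁ (prod_mem fun l _ => hsp l)
  refine ⟨g, hgp, bs.map (algebraMap R _), ?_⟩
  have hEq : (Ideal.ofList bs).map (algebraMap R (Localization.Away g)) = I.map (algebraMap R _) := by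
    refine le_antisymm (Ideal.map_mono (Ideal.span_le.mpr hbI)) ?_
    conv_lhs => rw [← hη]
    rw [show Submodule.span R (Set.range η) = Ideal.span (Set.range η) from rfl, Ideal.map_span, Ideal.span_le]
    rintro _ ⟨_, ⟨l, rfl⟩, rfl⟩
    have hu : IsUnit (algebraMap R (Localization.Away g) (s l)) :=
      isUnit_of_dvd_unit (map_dvd _ ((Finset.dvd_prod_of_mem s (Finset.mem_univ l)).mul_left g₁))
        (IsLocalization.map_units _ (⟨g, Submonoid.mem_powers g⟩ : Submonoid.powers g))
    rw [SetLike.mem_coe, ← Ideal.unit_mul_mem_iff_mem _ hu, ← map_mul]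
    exact Ideal.mem_map_of_mem _ (hs l)
  refine ⟨⟨isWeaklyRegular_away g bs fun q _ hq => hg₁' q fun h => hq (q.mul_mem_right _ h), ?_⟩, ?_⟩
  · rw [smul_eq_mul, Ideal.mul_top, ← Ideal.map_ofList, hEq]
    intro h
    have hdis : Disjoint (Submonoid.powers g : Set R) (p : Set R) := by
      rw [Set.disjoint_left]
      rintro _ ⟨e, rfl⟩ he
      exact hgp (Ideal.IsPrime.mem_of_pow_mem ‹_› e he)
    exact (IsLocalization.isPrime_of_isPrime_disjoint (Submonoid.powers g) (Localization.Away g) p ‹_› hdis).ne_top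
      (top_le_iff.mp (h.le.trans (Ideal.map_mono hIp)))
  · rw [← Ideal.map_ofList, hEq]

end Groth.Agent.H4RegIdeal
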