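import Mathlib

/-! Topology of schemes: maximal generizations, dimension and lifting of chains, generic points of
finite type algebras. -/

universe u v

open Topology

namespace Groth.Agent.H4SchTop

theorem exists_maximal_gen {α : Type u} [TopologicalSpace α] [QuasiSober α] [T0Space α] (x : α) :
    ∃ g, g ⤳ x ∧ ∀ g', g' ⤳ g → g' = g := by
  have hZ := irreducibleComponent_mem_irreducibleComponents x
  have hg := hZ.1.isGenericPoint_genericPoint (isClosed_of_mem_irreducibleComponents _ hZ)
  refine ⟨hZ.1.genericPoint, hg.specializes mem_irreducibleComponent, fun g' hg' => ?_⟩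
  have h1 : irreducibleComponent x ⊆ closure {g'} := by
    rw [← hg.def]
    exact specializes_iff_closure_subset.mp hg'
  have h2 := hZ.2 isIrreducible_singleton.closure h1
  rw [← hg.def] at h2
  exact (hg'.antisymm (specializes_iff_closure_subset.mpr h2)).eq

section Dim

attribute [local instance] specializationOrder

variable {α : Type u} {β : Type v} [TopologicalSpace α] [TopologicalSpace β] [QuasiSober α]
  [T0Space α] [QuasiSober β] [T0Space β]

theorem dim_eq_krullDim : topologicalKrullDim α = Order.krullDim α :=
  Order.krullDim_eq_of_orderIso (irreducibleSetEquivPoints (α := α))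

/-- specialization lifting surjections do not lower dimension -/
theorem dim_le_of_specializing {f : α → β} (hs : Function.Surjective f)
    (h : ∀ x y, f x ⤳ y → ∃ x', x ⤳ x' ∧ f x' = y) :
    topologicalKrullDim β ≤ topologicalKrullDim α := by
  rw [dim_eq_krullDim, dim_eq_krullDim]
  refine iSup_le fun p => ?_
  suffices ∃ q : LTSeries α, q.length = p.length ∧ f q.head = p.head by
    obtain ⟨q, hq, -⟩ := this
    rw [← hq]
    exact Order.LTSeries.length_le_krullDim q
  induction p using RelSeries.inductionOn with
  | singleton x =>
    obtain ⟨a, rfl⟩ := hs x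
    exact ⟨RelSeries.singleton _ a, rfl, rfl⟩
  | cons p y hy hp =>
    obtain ⟨q, hq, hqh⟩ := hp
    have hy' : y < p.head := hy
    obtain ⟨a, ha, rfl⟩ := h q.head y (hqh ▸ (hy'.le : p.head ⤳ y))
    have hlt : a < q.head := lt_of_le_of_ne (show q.head ⤳ a from ha) fun e =>
      hy'.ne (by rw [e, hqh])
    exact ⟨q.cons a hlt, by simp [RelSeries.cons, RelSeries.append, hq], by simp⟩

/-- generalization lifting surjections do not lower dimension -/
theorem dim_le_of_generalizing {f : α → β} (hs : Function.Surjective f)
    (h : ∀ x y, y ⤳ f x → ∃ x', x' ⤳ x ∧ f x' = y) :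
    topologicalKrullDim β ≤ topologicalKrullDim α := by
  rw [dim_eq_krullDim, dim_eq_krullDim]
  refine iSup_le fun p => ?_
  suffices ∃ q : LTSeries α, q.length = p.length ∧ f q.last = p.last by
    obtain ⟨q, hq, -⟩ := this
    rw [← hq]
    exact Order.LTSeries.length_le_krullDim q
  induction p using RelSeries.inductionOn' with
  | singleton x =>
    obtain ⟨a, rfl⟩ := hs x
    exact ⟨RelSeries.singleton _ a, rfl, rfl⟩
  | snoc p y hy hp =>
    obtain ⟨q, hq, hql⟩ := hp
    have hy' : p.last < y := hy
    obtain ⟨a, ha, rfl⟩ := h q.last y (hql ▸ (hy'.le : y ⤳ p.last))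
    have hlt : q.last < a := lt_of_le_of_ne (show a ⤳ q.last from ha) fun e =>
      hy'.ne (by rw [← e, hql])
    exact ⟨q.snoc a hlt, by simp [RelSeries.snoc, RelSeries.append, hq], by simp⟩

/-- a continuous map injective on specializations does not lower dimension -/
theorem dim_le_of_fibre {f : α → β} (hf : Continuous f)
    (h : ∀ x y, x ⤳ y → f x = f y → x = y) :
    topologicalKrullDim α ≤ topologicalKrullDim β := by
  rw [dim_eq_krullDim, dim_eq_krullDim]
  refine Order.krullDim_le_of_strictMono f fun a b hab => ?_
  exact lt_of_le_of_ne ((show b ⤳ a from hab.le).map hf)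
    fun e => hab.ne (h b a hab.le e.symm).symm

end Dim

/-- a finite type algebra with a prime over `0` has a basic open in its image -/
theorem exists_basicOpen_subset_range {R : Type u} {S : Type v} [CommRing R] [CommRing S]
    [IsDomain R] [IsDomain S] [Algebra R S] [Algebra.FiniteType R S] [FaithfulSMul R S] :
    ∃ f : R, f ≠ 0 ∧ ∀ p : Ideal R, p.IsPrime → f ∉ p →
      ∃ P : Ideal S, P.IsPrime ∧ P.comap (algebraMap R S) = p := by
  classical
  let M := Algebra.algebraMapSubmonoid S (nonZeroDivisors R)
  let SK := Localization M
  have hM : M ≤ nonZeroDivisors S := by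
    rintro _ ⟨a, ha, rfl⟩
    exact mem_nonZeroDivisors_of_ne_zero fun e => nonZeroDivisors.ne_zero ha
      (FaithfulSMul.algebraMap_injective R S (by rw [e, map_zero]))
  haveI : IsDomain SK := IsLocalization.isDomain_localization hM
  letI : Algebra (FractionRing R) SK := localizationAlgebra (nonZeroDivisors R) S
  haveI : IsScalarTower R (FractionRing R) SK :=
    isScalarTower_localizationAlgebra (nonZeroDivisors R) S
  obtain ⟨Q, hQ⟩ := Ideal.exists_maximal SK
  let L := SK ⧸ Q
  letI : Field L := Ideal.Quotient.field Q
  obtain ⟨s, hs⟩ := ‹Algebra.FiniteType R S›.1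
  haveI : Algebra.FiniteType (FractionRing R) L := by
    have hsurj : Algebra.adjoin (FractionRing R)
        ((fun x => Ideal.Quotient.mk Q (algebraMap S SK x)) '' (s : Set S)) = ⊤ := by
      set T := Algebra.adjoin (FractionRing R)
        ((fun x => Ideal.Quotient.mk Q (algebraMap S SK x)) '' (s : Set S))
      have hS : ∀ x : S, Ideal.Quotient.mk Q (algebraMap S SK x) ∈ T := by
        intro x
        have hx : x ∈ Algebra.adjoin R (s : Set S) := hs ▸ trivial
        induction hx using Algebra.adjoin_induction with
        | mem y hy => exact Algebra.subset_adjoin ⟨y, hy, rfl⟩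
        | algebraMap r =>
          rw [← IsScalarTower.algebraMap_apply R S SK,
            IsScalarTower.algebraMap_apply R (FractionRing R) SK]
          exact T.algebraMap_mem _
        | add a b _ _ ha hb => rw [map_add, map_add]; exact add_mem ha hb
        | mul a b _ _ ha hb => rw [map_mul, map_mul]; exact mul_mem ha hb
      rw [eq_top_iff]
      rintro z -
      obtain ⟨z, rfl⟩ := Ideal.Quotient.mk_surjective z
      obtain ⟨a, ⟨_, d, hd, rfl⟩, rfl⟩ := IsLocalization.exists_mk'_eq M z
      have hd0 : algebraMap R (FractionRing R) d ≠ 0 := fun e =>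
        nonZeroDivisors.ne_zero hd (IsFractionRing.injective R _ (by rw [e, map_zero]))
      have : IsLocalization.mk' SK a (⟨algebraMap R S d, ⟨d, hd, rfl⟩⟩ : M) =
          algebraMap (FractionRing R) SK (algebraMap R (FractionRing R) d)⁻¹ * algebraMap S SK a := by
        rw [IsLocalization.mk'_eq_iff_eq_mul, mul_comm (algebraMap (FractionRing R) SK _),
          mul_assoc, ← IsScalarTower.algebraMap_apply R S SK,
          IsScalarTower.algebraMap_apply R (FractionRing R) SK, ← map_mul,
          inv_mul_cancel₀ hd0, map_one, mul_one]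
      rw [this, map_mul]
      exact mul_mem (T.algebraMap_mem _) (hS a)
    exact ⟨⟨s.image fun x => Ideal.Quotient.mk Q (algebraMap S SK x), by
      rw [Finset.coe_image]; exact hsurj⟩⟩
  haveI : Module.Finite (FractionRing R) L := finite_of_finite_type_of_isJacobsonRing _ L
  let ψ : S →ₐ[R] L := (Ideal.Quotient.mkₐ R Q).comp (IsScalarTower.toAlgHom R S SK)
  have hy : ∀ x : S, ∃ y : R, y ≠ 0 ∧ IsIntegral R (y • ψ x) := fun x =>
    ((IsFractionRing.isAlgebraic_iff R (FractionRing R) L).mpr
      (IsIntegral.of_finite (FractionRing R) (ψ x)).isAlgebraic).exists_integral_multiple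
  choose y hy0 hyi using hy
  let f : R := ∏ x ∈ s, y x
  have hf : f ≠ 0 := Finset.prod_ne_zero_iff.mpr fun x _ => hy0 x
  refine ⟨f, hf, fun p hp hfp => ?_⟩
  have hRL : Function.Injective (algebraMap R L) := by
    rw [IsScalarTower.algebraMap_eq R (FractionRing R) L]
    exact (algebraMap (FractionRing R) L).injective.comp (IsFractionRing.injective R _)
  have hfL : IsUnit (algebraMap R L f) :=
    isUnit_iff_ne_zero.mpr fun e => hf (hRL (by rw [e, map_zero]))
  let j : Localization.Away f →+* L := IsLocalization.Away.lift f hfL
  letI := j.toAlgebra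
  haveI : IsScalarTower R (Localization.Away f) L :=
    IsScalarTower.of_algebraMap_eq fun a => (IsLocalization.Away.lift_eq f hfL a).symm
  have hj : Function.Injective j := by
    rw [injective_iff_map_eq_zero]
    intro z hz
    obtain ⟨a, d, rfl⟩ := IsLocalization.exists_mk'_eq (Submonoid.powers f) z
    have h0 := congrArg j (IsLocalization.mk'_spec (Localization.Away f) a d)
    rw [map_mul, hz, zero_mul, IsLocalization.Away.lift_eq] at h0
    rw [hRL (h0.symm.trans (map_zero _).symm), IsLocalization.mk'_zero]
  let T := integralClosure (Localization.Away f) L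
  have hψ : ∀ x : S, ψ x ∈ T := by
    intro x
    have hx : x ∈ Algebra.adjoin R (s : Set S) := hs ▸ trivial
    induction hx using Algebra.adjoin_induction with
    | mem x hx =>
      obtain ⟨c, hc⟩ : y x ∣ f := Finset.dvd_prod_of_mem y hx
      have h1 : IsIntegral (Localization.Away f) (y x • ψ x) := (hyi x).tower_top
      have hcK : algebraMap R L f = algebraMap R L (y x) * algebraMap R L c := by
        rw [hc, map_mul]
      have h3 : algebraMap (Localization.Away f) L (IsLocalization.Away.invSelf f) *
          algebraMap R L f = 1 := by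
        rw [IsScalarTower.algebraMap_apply R (Localization.Away f) L, ← map_mul, mul_comm,
          IsLocalization.Away.mul_invSelf, map_one]
      rw [hcK] at h3
      have h2 : ψ x = algebraMap (Localization.Away f) L
          (algebraMap R _ c * IsLocalization.Away.invSelf f) * (y x • ψ x) := by
        rw [map_mul, ← IsScalarTower.algebraMap_apply, Algebra.smul_def]
        linear_combination (-(ψ x)) * h3
      rw [h2]
      exact isIntegral_algebraMap.mul h1
    | algebraMap r =>
      rw [AlgHom.commutes, IsScalarTower.algebraMap_apply R (Localization.Away f) L]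
      exact T.algebraMap_mem _
    | add a b _ _ ha hb => rw [map_add]; exact add_mem ha hb
    | mul a b _ _ ha hb => rw [map_mul]; exact mul_mem ha hb
  have hd : Disjoint (Submonoid.powers f : Set R) (p : Set R) := by
    rw [Set.disjoint_left]
    rintro _ ⟨n, rfl⟩ hn
    exact hfp (hp.mem_of_pow_mem n hn)
  haveI := IsLocalization.isPrime_of_isPrime_disjoint (Submonoid.powers f) (Localization.Away f)
    p hp hd
  obtain ⟨P, hP, hPp⟩ := Ideal.exists_ideal_over_prime_of_isIntegral_of_isDomain (S := T)
    (p.map (algebraMap R (Localization.Away f))) (by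
      rw [(RingHom.injective_iff_ker_eq_bot _).mp ?_]
      · exact bot_le
      · exact fun a b e => hj (congrArg Subtype.val e))
  let φ : S →+* T := ψ.toRingHom.codRestrict T hψ
  refine ⟨P.comap φ, Ideal.comap_isPrime _ _, ?_⟩
  have hcomp : φ.comp (algebraMap R S) =
      (algebraMap (Localization.Away f) T).comp (algebraMap R _) := by
    ext a
    show ψ (algebraMap R S a) = algebraMap (Localization.Away f) L (algebraMap R _ a)
    rw [AlgHom.commutes, ← IsScalarTower.algebraMap_apply]
  rw [Ideal.comap_comap, hcomp, ← Ideal.comap_comap, hPp]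
  exact IsLocalization.comap_map_of_isPrime_disjoint (Submonoid.powers f) (Localization.Away f)
    hp hd

end Groth.Agent.H4SchTop
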