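import Mathlib

/-!
Formal smoothness of a quotient by one equation: derivation criterion.
-/

universe u

namespace Groth.Agent.H4SmoothDiv

variable {k P : Type u} [CommRing k] [CommRing P] [Algebra k P] [Algebra.FormallySmooth k P] (f : P)

theorem mem_ker : f ∈ RingHom.ker (algebraMap P (P ⧸ Ideal.span {f})) :=
  Ideal.Quotient.eq_zero_iff_mem.mpr (Ideal.mem_span_singleton_self f)

theorem of_derivation (D : Derivation k P P) (hD : D f - 1 ∈ Ideal.span {f}) :
    Algebra.FormallySmooth k (P ⧸ Ideal.span {f}) := by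
  let S := P ⧸ Ideal.span {f}
  let I := RingHom.ker (algebraMap P S)
  let φ : TensorProduct P S (Ω[P⁄k]) →ₗ[P] S :=
    (TensorProduct.rid P S).toLinearMap ∘ₗ D.liftKaehlerDifferential.lTensor S
  let ι : S →ₗ[P] I.Cotangent :=
    Submodule.liftQ _ (LinearMap.toSpanSingleton P I.Cotangent (I.toCotangent ⟨f, mem_ker f⟩)) (by
      refine Submodule.span_le.mpr (Set.singleton_subset_iff.mpr ?_)
      rw [SetLike.mem_coe, LinearMap.mem_ker, LinearMap.toSpanSingleton_apply, ← map_smul, Ideal.toCotangent_eq_zero]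
      rw [pow_two]
      exact Ideal.mul_mem_mul (mem_ker f) (mem_ker f))
  refine (Algebra.FormallySmooth.iff_split_injection (R := k) (P := P) (A := S) Ideal.Quotient.mk_surjective).mpr
    ⟨ι ∘ₗ φ, LinearMap.ext fun x => ?_⟩
  obtain ⟨⟨x, hx⟩, rfl⟩ := I.toCotangent_surjective x
  obtain ⟨c, rfl⟩ := Ideal.mem_span_singleton.mp (Ideal.Quotient.eq_zero_iff_mem.mp hx)
  show ι (φ (KaehlerDifferential.kerCotangentToTensor k P S (I.toCotangent ⟨f * c, hx⟩))) = _
  rw [KaehlerDifferential.kerCotangentToTensor_toCotangent]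
  have h1 : φ ((1 : S) ⊗ₜ[P] KaehlerDifferential.D k P (f * c)) = Submodule.Quotient.mk (D (f * c)) := by
    simp only [φ, LinearMap.comp_apply, LinearEquiv.coe_coe, LinearMap.lTensor_tmul, TensorProduct.rid_tmul,
      Derivation.liftKaehlerDifferential_comp_D]
    show Ideal.Quotient.mk _ _ = _
    simp only [smul_eq_mul, mul_one]
    rfl
  rw [h1]
  show D (f * c) • I.toCotangent ⟨f, mem_ker f⟩ = I.toCotangent ⟨f * c, hx⟩
  rw [← map_smul, Ideal.toCotangent_eq, pow_two]
  obtain ⟨a, ha⟩ := Ideal.mem_span_singleton.mp hD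
  have : D (f * c) * f - f * c = (f * f) * (D c + a * c) := by
    rw [Derivation.leibniz, smul_eq_mul, smul_eq_mul]
    linear_combination (c * f) * ha
  show D (f * c) * f - f * c ∈ I * I
  rw [this]
  exact Ideal.mul_mem_right _ _ (Ideal.mul_mem_mul (mem_ker f) (mem_ker f))

theorem exists_derivation [Algebra.FormallySmooth k (P ⧸ Ideal.span {f})] :
    ∃ (D : Derivation k P P) (a : P), (D f - 1) * f = a * f * f := by
  let S := P ⧸ Ideal.span {f}
  let I := RingHom.ker (algebraMap P S)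
  obtain ⟨l, hl⟩ := (Algebra.FormallySmooth.iff_split_injection (R := k) (P := P) (A := S) Ideal.Quotient.mk_surjective).mp inferInstance
  let g : P →ₗ[P] I.Cotangent := LinearMap.toSpanSingleton P I.Cotangent (I.toCotangent ⟨f, mem_ker f⟩)
  have hg : Function.Surjective g := fun x => by
    obtain ⟨⟨x, hx⟩, rfl⟩ := I.toCotangent_surjective x
    obtain ⟨c, rfl⟩ := Ideal.mem_span_singleton.mp (Ideal.Quotient.eq_zero_iff_mem.mp hx)
    refine ⟨c, ?_⟩
    rw [LinearMap.toSpanSingleton_apply, ← map_smul]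
    exact congrArg _ (Subtype.ext (mul_comm c f))
  obtain ⟨h, hh⟩ := Module.projective_lifting_property g (l ∘ₗ TensorProduct.mk P S (Ω[P⁄k]) 1) hg
  refine ⟨h.compDer (KaehlerDifferential.D k P), ?_⟩
  have h1 : g (h (KaehlerDifferential.D k P f)) = I.toCotangent ⟨f, mem_ker f⟩ := by
    rw [← LinearMap.comp_apply g h, hh]
    show l ((1 : S) ⊗ₜ[P] KaehlerDifferential.D k P f) = _
    rw [← KaehlerDifferential.kerCotangentToTensor_toCotangent k P S ⟨f, mem_ker f⟩, ← LinearMap.comp_apply, hl]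
    rfl
  rw [LinearMap.toSpanSingleton_apply, ← map_smul, Ideal.toCotangent_eq] at h1
  have h2 : (h (KaehlerDifferential.D k P f) - 1) * f ∈ Ideal.span {f * f} := by
    have hI : I = Ideal.span {f} := Ideal.mk_ker
    have h3 : h (KaehlerDifferential.D k P f) * f - f ∈ I ^ 2 := h1
    rw [hI, pow_two, Ideal.span_singleton_mul_span_singleton] at h3
    rw [sub_mul, one_mul]
    exact h3
  obtain ⟨a, ha⟩ := Ideal.mem_span_singleton'.mp h2
  exact ⟨a, by rw [mul_assoc, ha]; rfl⟩

end Groth.Agent.H4SmoothDiv
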