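import Mathlib

/-!
Tame and wild inertia for a group acting on a Dedekind domain.
-/

universe u v

namespace Groth.Agent.H4TameInertia

open scoped Pointwise

section Cancel

variable {B : Type u} [CommRing B] {m : Ideal B} [m.IsMaximal]

theorem cancel {n z : B} {k : ℕ} (hn : n ∉ m) (h : n * z ∈ m ^ k) : z ∈ m ^ k := by
  have h1 : Ideal.span {n} ⊔ m = ⊤ := by
    refine eq_top_iff.mpr ?_
    by_contra hne
    have : Ideal.span {n} ⊔ m = m := by
      refine (Ideal.IsMaximal.eq_of_le inferInstance ?_ le_sup_right).symm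
      intro htop; exact hne htop.ge
    exact hn (this ▸ Ideal.mem_sup_left (Ideal.mem_span_singleton_self n))
  have h2 : Ideal.span {n} ⊔ m ^ k = ⊤ := Ideal.sup_pow_eq_top h1
  obtain ⟨a, ha, b, hb, hab⟩ := Submodule.mem_sup.mp (h2.symm ▸ Submodule.mem_top : (1 : B) ∈ _)
  obtain ⟨c, rfl⟩ := Ideal.mem_span_singleton'.mp ha
  have : z = c * (n * z) + b * z := by linear_combination (-z) * hab
  rw [this]
  exact add_mem (Ideal.mul_mem_left _ _ h) (Ideal.mul_mem_right _ _ hb)

end Cancel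

section Action

variable {B : Type u} [CommRing B] {G : Type v} [Group G] [MulSemiringAction G B] {m : Ideal B}

theorem mem_inertia_iff (J : Ideal B) (σ : G) : σ ∈ J.inertia G ↔ ∀ x, σ • x - x ∈ J := Iff.rfl

theorem smul_mem_pow {σ : G} (hσ : σ ∈ MulAction.stabilizer G m) {i : ℕ} {z : B} (hz : z ∈ m ^ i) :
    σ • z ∈ m ^ i := by
  have h1 : σ • (m ^ i) = m ^ i := by
    rw [Ideal.pointwise_smul_def, Ideal.map_pow, ← Ideal.pointwise_smul_def,
      MulAction.mem_stabilizer_iff.mp hσ]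
  exact h1 ▸ Ideal.smul_mem_pointwise_smul σ z (m ^ i) hz

theorem smul_mem {σ : G} (hσ : σ ∈ MulAction.stabilizer G m) {z : B} (hz : z ∈ m) :
    σ • z ∈ m := by
  simpa using smul_mem_pow (i := 1) hσ (by simpa using hz)

theorem inertia_pow_le_inertia {i : ℕ} (hi : i ≠ 0) : (m ^ i).inertia G ≤ m.inertia G :=
  fun _ hσ x => Ideal.pow_le_self hi (hσ x)

/-- One step of the filtration. -/
theorem smul_sub_mem_succ {σ : G} (hσ : σ ∈ MulAction.stabilizer G m) {i : ℕ} (hi : 2 ≤ i)
    (h : ∀ x, σ • x - x ∈ m ^ i) {z : B} (hz : z ∈ m ^ i) : σ • z - z ∈ m ^ (i + 1) := by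
  obtain ⟨j, rfl⟩ : ∃ j, i = j + 1 := ⟨i - 1, by omega⟩
  rw [pow_succ'] at hz
  refine Submodule.mul_induction_on hz (fun a ha b hb => ?_) (fun x y hx hy => ?_)
  · have e : σ • (a * b) - a * b = (σ • a - a) * (σ • b) + a * (σ • b - b) := by
      rw [smul_mul']; ring
    rw [e]
    refine add_mem ?_ ?_
    · have := Ideal.mul_mem_mul (h a) (smul_mem_pow hσ hb)
      rw [← pow_add] at this
      exact Ideal.pow_le_pow_right (by omega) this
    · rw [pow_succ' m (j + 1)]
      exact Ideal.mul_mem_mul ha (h b)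
  · rw [smul_add, add_sub_add_comm]
    exact add_mem hx hy

theorem iter {σ : G} (hσ : σ ∈ MulAction.stabilizer G m) {i : ℕ} (hi : 2 ≤ i)
    (h : ∀ x, σ • x - x ∈ m ^ i) (x : B) :
    ∀ j : ℕ, (σ ^ j) • x - x - (j : B) * (σ • x - x) ∈ m ^ (i + 1)
  | 0 => by simp
  | j + 1 => by
    have h1 := iter hσ hi h x j
    have h2 : (σ ^ j) • x - x ∈ m ^ i := by
      have := add_mem (Ideal.pow_le_pow_right (Nat.le_succ i) h1)
        (Ideal.mul_mem_left _ (j : B) (h x))
      simpa using this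
    have h3 := smul_sub_mem_succ hσ hi h h2
    have e : (σ ^ (j + 1)) • x - x - ((j + 1 : ℕ) : B) * (σ • x - x) =
        (σ • ((σ ^ j) • x - x) - ((σ ^ j) • x - x)) +
          ((σ ^ j) • x - x - (j : B) * (σ • x - x)) := by
      rw [pow_succ', mul_smul, smul_sub]; push_cast; ring
    rw [e]
    exact add_mem h3 h1

variable [IsDomain B] [IsDedekindDomain B] [FaithfulSMul G B] [m.IsMaximal]

theorem eq_one_of_pow_eq_one {σ : G}
    (hσ : σ ∈ MulAction.stabilizer G m ⊓ (m ^ 2).inertia G) {n : ℕ} (hn : σ ^ n = 1)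
    (hnm : (n : B) ∉ m) : σ = 1 := by
  obtain ⟨hD, h2⟩ := hσ
  have key : ∀ i, 2 ≤ i → ∀ x, σ • x - x ∈ m ^ i := by
    intro i hi
    induction i, hi using Nat.le_induction with
    | base => exact h2
    | succ i hi ih =>
      intro x
      have := iter hD hi ih x n
      rw [hn, one_smul, sub_self, zero_sub] at this
      exact cancel hnm (neg_mem_iff.mp this)
  refine eq_of_smul_eq_smul fun x : B => ?_
  rw [one_smul, ← sub_eq_zero, ← Ideal.mem_bot,
    ← Ideal.iInf_pow_eq_bot_of_isDomain m (Ideal.IsMaximal.ne_top inferInstance)]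
  refine Submodule.mem_iInf _ |>.mpr fun i => ?_
  exact Ideal.pow_le_pow_right (by omega : i ≤ max i 2) (key _ (le_max_right _ _) x)

theorem exists_coeff {π : B} (hπ : π ∈ m) (hπ2 : π ∉ m ^ 2) {z : B} (hz : z ∈ m) :
    ∃ u : B, z - u * π ∈ m ^ 2 := by
  have hm : m ≠ ⊥ := by
    rintro rfl
    rw [Ideal.mem_bot] at hπ
    exact hπ2 (by simp [hπ])
  have hlt : m ^ (1 + 1) < Ideal.span {π} ⊔ m ^ 2 :=
    lt_of_le_of_ne le_sup_right fun h =>
      hπ2 (h ▸ Ideal.mem_sup_left (Ideal.mem_span_singleton_self π))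
  have hle : Ideal.span {π} ⊔ m ^ 2 ≤ m ^ 1 := by
    rw [pow_one]
    exact sup_le ((Ideal.span_singleton_le_iff_mem _).mpr hπ) (Ideal.pow_le_self two_ne_zero)
  have h := Ideal.eq_prime_pow_of_succ_lt_of_le hm hlt hle
  rw [pow_one] at h
  obtain ⟨a, ha, b, hb, hab⟩ := Submodule.mem_sup.mp (h.symm ▸ hz)
  obtain ⟨c, rfl⟩ := Ideal.mem_span_singleton'.mp ha
  exact ⟨c, by rw [← hab]; simpa using hb⟩

theorem coeff_unique {π : B} (hπ2 : π ∉ m ^ 2) {z u u' : B} (h : z - u * π ∈ m ^ 2)
    (h' : z - u' * π ∈ m ^ 2) : Ideal.Quotient.mk m u = Ideal.Quotient.mk m u' := by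
  rw [Ideal.Quotient.eq]
  by_contra hne
  exact hπ2 (cancel hne (by simpa [sub_mul] using sub_mem h' h))

/-- The tame character. -/
theorem exists_char (hm : m ≠ ⊥)
    (hsep : ∀ x : B, ∃ g : Polynomial B,
      (∀ σ : G, g.map (MulSemiringAction.toRingHom G B σ) = g) ∧
      g.eval x ∈ m ∧ g.derivative.eval x ∉ m) :
    ∃ θ : (m.inertia G) →* B ⧸ m, ∀ σ : m.inertia G,
      θ σ = 1 ↔ (σ : G) ∈ MulAction.stabilizer G m ⊓ (m ^ 2).inertia G := by
  obtain ⟨π, hπ', hπ2'⟩ := Ideal.exists_mem_pow_notMem_pow_succ m hm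
    (Ideal.IsMaximal.ne_top inferInstance) 1
  rw [pow_one] at hπ'
  change π ∉ m ^ 2 at hπ2'
  have hD : ∀ σ : m.inertia G, (σ : G) ∈ MulAction.stabilizer G m :=
    fun σ => Ideal.inertia_le_stabilizer m σ.2
  choose u hu using fun σ : m.inertia G => exists_coeff hπ' hπ2' (smul_mem (hD σ) hπ')
  let θ : (m.inertia G) →* B ⧸ m :=
    { toFun := fun σ => Ideal.Quotient.mk m (u σ)
      map_one' := by
        rw [← map_one (Ideal.Quotient.mk m)]
        exact coeff_unique hπ2' (hu 1) (by simp)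
      map_mul' := fun σ τ => by
        rw [← map_mul]
        refine coeff_unique hπ2' (hu (σ * τ)) ?_
        have h1 : (σ : G) • ((τ : G) • π) - (σ : G) • (u τ) * ((σ : G) • π) ∈ m ^ 2 := by
          have := smul_mem_pow (hD σ) (hu τ)
          rwa [smul_sub, smul_mul'] at this
        have h2 : ((σ : G) • u τ - u τ) * ((σ : G) • π) ∈ m ^ 2 := by
          rw [pow_two]
          exact Ideal.mul_mem_mul (σ.2 (u τ)) (smul_mem (hD σ) hπ')
        have h3 : u τ * ((σ : G) • π - u σ * π) ∈ m ^ 2 := Ideal.mul_mem_left _ _ (hu σ)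
        have := add_mem (add_mem h1 h2) h3
        rw [Subgroup.coe_mul, mul_smul]
        convert this using 1
        ring }
  refine ⟨θ, fun σ => ⟨fun h => ?_, fun h => ?_⟩⟩
  · refine ⟨hD σ, ?_⟩
    have h1 : (σ : G) • π - π ∈ m ^ 2 := by
      have hu1 : u σ - 1 ∈ m := by
        rw [← Ideal.Quotient.eq, map_one]; exact h
      have h2 : (u σ - 1) * π ∈ m ^ 2 := by
        rw [pow_two]; exact Ideal.mul_mem_mul hu1 hπ'
      have := add_mem (hu σ) h2
      convert this using 1
      ring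
    have hmz : ∀ z ∈ m, (σ : G) • z - z ∈ m ^ 2 := by
      intro z hz
      obtain ⟨a, ha⟩ := exists_coeff hπ' hπ2' hz
      have h2 : (σ : G) • (z - a * π) - (z - a * π) ∈ m ^ 2 :=
        sub_mem (smul_mem_pow (hD σ) ha) ha
      have h3 : ((σ : G) • a - a) * ((σ : G) • π) ∈ m ^ 2 := by
        rw [pow_two]
        exact Ideal.mul_mem_mul (σ.2 a) (smul_mem (hD σ) hπ')
      have h4 : a * ((σ : G) • π - π) ∈ m ^ 2 := Ideal.mul_mem_left _ _ h1
      have := add_mem (add_mem h2 h3) h4
      convert this using 1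
      rw [smul_sub, smul_mul']; ring
    intro x
    obtain ⟨g, hgσ, hgx, hgd⟩ := hsep x
    have e1 : (σ : G) • g.eval x = g.eval ((σ : G) • x) := by
      conv_rhs => rw [← hgσ (σ : G)]
      rw [Polynomial.eval_map]
      exact Polynomial.hom_eval₂ g (RingHom.id B) (MulSemiringAction.toRingHom G B (σ : G)) x
    have e2 := hmz _ hgx
    obtain ⟨k, hk⟩ := Polynomial.binomExpansion g x ((σ : G) • x - x)
    rw [show x + ((σ : G) • x - x) = (σ : G) • x by ring] at hk
    rw [e1, hk] at e2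
    have e3 : k * ((σ : G) • x - x) ^ 2 ∈ m ^ 2 :=
      Ideal.mul_mem_left _ _ (Ideal.pow_mem_pow (σ.2 x) 2)
    refine cancel hgd ?_
    have := sub_mem e2 e3
    convert this using 1
    ring
  · change Ideal.Quotient.mk m (u σ) = 1
    rw [← map_one (Ideal.Quotient.mk m)]
    exact coeff_unique hπ2' (hu σ) (by simpa using h.2 π)

end Action

section Sep

theorem hsep_of_isSeparable {A B : Type*} [CommRing A] [CommRing B] [Algebra A B]
    {G : Type*} [Group G] [MulSemiringAction G B] [SMulCommClass G A B] (m : Ideal B) [m.IsMaximal]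
    [(m.comap (algebraMap A B)).IsMaximal]
    [Algebra.IsSeparable (A ⧸ m.comap (algebraMap A B)) (B ⧸ m)] (x : B) :
    ∃ g : Polynomial B, (∀ σ : G, g.map (MulSemiringAction.toRingHom G B σ) = g) ∧
      g.eval x ∈ m ∧ g.derivative.eval x ∉ m := by
  let := Ideal.Quotient.field (m.comap (algebraMap A B))
  set xb : B ⧸ m := Ideal.Quotient.mk m x with hxb
  set f := minpoly (A ⧸ m.comap (algebraMap A B)) xb with hf
  obtain ⟨g, hg⟩ := Polynomial.map_surjective _ (Ideal.Quotient.mk_surjective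
    (I := m.comap (algebraMap A B))) f
  have hcomm : (Ideal.Quotient.mk m).comp (algebraMap A B) =
      (algebraMap (A ⧸ m.comap (algebraMap A B)) (B ⧸ m)).comp
        (Ideal.Quotient.mk (m.comap (algebraMap A B))) := by
    ext a; rfl
  have key : ∀ p : Polynomial A, Ideal.Quotient.mk m ((p.map (algebraMap A B)).eval x) =
      Polynomial.aeval xb (p.map (Ideal.Quotient.mk (m.comap (algebraMap A B)))) := by
    intro p
    rw [Polynomial.eval_map, Polynomial.hom_eval₂, hcomm, Polynomial.aeval_def,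
      Polynomial.eval₂_map]
  refine ⟨g.map (algebraMap A B), fun σ => ?_, ?_, ?_⟩
  · rw [Polynomial.map_map]
    congr 1
    ext a
    exact smul_algebraMap σ a
  · rw [← Ideal.Quotient.eq_zero_iff_mem, key, hg, hf]
    exact minpoly.aeval _ _
  · rw [← Ideal.Quotient.eq_zero_iff_mem, Polynomial.derivative_map, key, ← Polynomial.derivative_map,
      hg, hf]
    have hs : f.Separable := Algebra.IsSeparable.isSeparable (A ⧸ m.comap (algebraMap A B)) xb
    exact hs.aeval_derivative_ne_zero (minpoly.aeval _ _)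

end Sep

section GroupFacts

variable {k : Type u} [Field k] {I : Type v} [Group I] [Finite I]

theorem mulEquiv_roots (θ : I →* k) (N : Subgroup I) [N.Normal] (hN : ∀ σ, θ σ = 1 ↔ σ ∈ N)
    (e : ℕ) (he : Nat.card I = e) :
    IsCyclic (I ⧸ N) ∧
    (∀ p : ℕ, p.Prime → CharP k p → IsPGroup p N → Nat.card (I ⧸ N) = e / p ^ e.factorization p) ∧
    (N = ⊥ → Nat.card (I ⧸ N) = e) ∧
    (((∃ p, p.Prime ∧ CharP k p ∧ IsPGroup p N) ∨ N = ⊥) →
      Nonempty (I ⧸ N ≃* rootsOfUnity e k)) := by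
  have hker : θ.toHomUnits.ker = N := by
    ext σ
    rw [MonoidHom.mem_ker, ← hN σ, Units.ext_iff, MonoidHom.coe_toHomUnits, Units.val_one]
  let f : I ⧸ N →* kˣ := (QuotientGroup.kerLift θ.toHomUnits).comp
    (QuotientGroup.quotientMulEquivOfEq hker.symm).toMonoidHom
  have hf : Function.Injective f :=
    (QuotientGroup.kerLift_injective θ.toHomUnits).comp
      (QuotientGroup.quotientMulEquivOfEq hker.symm).injective
  have hcard : Nat.card I = Nat.card (I ⧸ N) * Nat.card N :=
    Subgroup.card_eq_card_quotient_mul_card_subgroup N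
  have hcyc : IsCyclic (I ⧸ N) :=
    isCyclic_of_injective_ringHom ((Units.coeHom k).comp f) (Units.val_injective.comp hf)
  have hnp : ∀ p : ℕ, p.Prime → CharP k p → ¬ p ∣ Nat.card (I ⧸ N) := by
    intro p hp _ hdvd
    have : Fact p.Prime := ⟨hp⟩
    obtain ⟨x, hx⟩ := exists_prime_orderOf_dvd_card' p hdvd
    have h1 : (f x : k) ^ p = 1 := by
      rw [← Units.val_pow_eq_pow_val, ← map_pow, ← hx, pow_orderOf_eq_one, map_one, Units.val_one]
    have h2 : ((f x : k) - 1) ^ p = 0 := by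
      rw [sub_pow_char, h1, one_pow, sub_self]
    have h3 : x = 1 := hf (by rw [map_one]; exact Units.ext (sub_eq_zero.mp (pow_eq_zero_iff hp.ne_zero |>.mp h2)))
    rw [h3, orderOf_one] at hx
    exact hp.one_lt.ne hx
  have hp_case : ∀ p : ℕ, p.Prime → CharP k p → IsPGroup p N →
      ∃ a, Nat.card N = p ^ a ∧ e / p ^ e.factorization p = Nat.card (I ⧸ N) := by
    intro p hp hc hN'
    have : Fact p.Prime := ⟨hp⟩
    obtain ⟨a, ha⟩ := IsPGroup.iff_card.mp hN'
    refine ⟨a, ha, ?_⟩
    have h0 : Nat.card (I ⧸ N) ≠ 0 := Nat.card_pos.ne'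
    rw [← he, hcard, ha, Nat.factorization_mul h0 (pow_ne_zero _ hp.ne_zero), Finsupp.add_apply,
      Nat.factorization_eq_zero_of_not_dvd (hnp p hp hc), zero_add, Nat.factorization_pow,
      Finsupp.smul_apply, hp.factorization_self, smul_eq_mul, mul_one,
      Nat.mul_div_cancel _ (pow_pos hp.pos _)]
  refine ⟨hcyc, fun p hp hc hN' => (hp_case p hp hc hN').choose_spec.2.symm,
    fun h => by subst h; rw [← he, hcard, Subgroup.card_bot, mul_one], fun hcase => ?_⟩
  have he0 : NeZero e := ⟨by rw [← he]; exact Nat.card_pos.ne'⟩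
  have hmem : ∀ y, f y ∈ rootsOfUnity e k := by
    intro y
    rw [mem_rootsOfUnity, ← map_pow, ← he, hcard, pow_mul, pow_card_eq_one', one_pow, map_one]
  let g : I ⧸ N →* rootsOfUnity e k := f.codRestrict _ hmem
  have hg : Function.Injective g := fun a b h => hf (congrArg Subtype.val h)
  have hle : Nat.card (rootsOfUnity e k) ≤ Nat.card (I ⧸ N) := by
    rcases hcase with ⟨p, hp, hc, hN'⟩ | h
    · obtain ⟨a, ha, -⟩ := hp_case p hp hc hN'
      have : ExpChar k p := ExpChar.prime hp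
      have : NeZero (Nat.card (I ⧸ N)) := ⟨Nat.card_pos.ne'⟩
      refine le_trans ?_ (card_rootsOfUnity k (Nat.card (I ⧸ N)))
      refine Nat.card_le_card_of_injective (Subgroup.inclusion (fun ζ hζ => ?_)) (Subgroup.inclusion_injective _)
      rw [mem_rootsOfUnity'] at hζ ⊢
      rw [← he, hcard, ha, pow_mul] at hζ
      exact iterateFrobenius_inj k p a (by simpa [iterateFrobenius_def] using hζ)
    · refine (card_rootsOfUnity k e).trans ?_
      subst h
      rw [← he, hcard, Subgroup.card_bot, mul_one]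
  exact ⟨MulEquiv.ofBijective g (hg.bijective_of_nat_card_le hle)⟩

end GroupFacts

section Count

attribute [local instance] Ideal.Quotient.field in
theorem card_inertia {R S G : Type*} [CommRing R] [CommRing S] [Algebra R S] [Group G]
    [MulSemiringAction G S] [IsGaloisGroup G R S] [Finite G] [IsDomain R] [IsDomain S]
    [Module.Finite R S] [Module.Flat R S] (p : Ideal R) (P : Ideal S) [P.LiesOver p] [p.IsMaximal]
    [P.IsMaximal] [Algebra.IsSeparable (R ⧸ p) (S ⧸ P)] :
    Nat.card (P.inertia G) = P.ramificationIdx R := by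
  have : Normal (R ⧸ p) (S ⧸ P) := Ideal.Quotient.normal G p P
  have : IsGalois (R ⧸ p) (S ⧸ P) := { }
  have : Module.Finite (R ⧸ p) (S ⧸ P) := Ideal.Quotient.finite_of_isInvariant G p P
  have h1 : Nat.card (MulAction.stabilizer G P) = Nat.card (P.inertia G) * P.inertiaDeg R := by
    have hidx : Subgroup.index _ = _ :=
      Nat.card_congr (Ideal.Quotient.stabilizerQuotientInertiaEquiv G p P).toEquiv
    rw [Ideal.inertiaDeg_eq_of_isMaximal p P, ← IsGalois.card_aut_eq_finrank, ← hidx,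
      ← ((P.inertia G).subgroupOf (MulAction.stabilizer G P)).card_mul_index,
      Nat.card_congr (Subgroup.subgroupOfEquivOfLe (Ideal.inertia_le_stabilizer (M := G) P)).toEquiv,
      AddSubgroup.subgroupOf_inertia]
  have h2 : (p.primesOver S).ncard * Nat.card (MulAction.stabilizer G P) = Nat.card G := by
    rw [← Algebra.IsInvariant.orbit_eq_primesOver R S G p P]
    simpa using Nat.card_congr (MulAction.orbitProdStabilizerEquivGroup G P)
  have h3 := Ideal.ncard_primesOver_mul_ramificationIdxIn_mul_inertiaDegIn p S G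
  rw [Ideal.inertiaDegIn_eq_inertiaDeg p P G, Ideal.ramificationIdxIn_eq_ramificationIdx p P G,
    ← h2, h1] at h3
  have hne1 : (p.primesOver S).ncard ≠ 0 := by
    intro h0
    rw [h0, zero_mul] at h2
    exact Nat.card_pos.ne' h2.symm
  have hne2 : P.inertiaDeg R ≠ 0 := (P.inertiaDeg_pos R).ne'
  exact mul_right_cancel₀ hne2 (mul_left_cancel₀ hne1 h3).symm

end Count

end Groth.Agent.H4TameInertia
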