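import Mathlib
import Groth.Prelude
universe v u v' u'
open CategoryTheory CategoryTheory.Limits
namespace Groth.Agent.H5RDer
set_option maxHeartbeats 600000

variable {C : Type u} [Category.{v} C] [Abelian C]

lemma ι_exact {X : C} (I : InjectiveResolution X) :
    (ShortComplex.mk (I.ι.f 0) (I.cocomplex.d 0 1) I.ι_f_zero_comp_complex_d).Exact :=
  ShortComplex.exact_of_f_is_kernel _ I.isLimitKernelFork

lemma exists_ext {A B E J : C} (p : A ⟶ B) (q : B ⟶ E) (w : p ≫ q = 0)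
    (he : (ShortComplex.mk p q w).Exact) [Injective J] (t : B ⟶ J) (ht : p ≫ t = 0) :
    ∃ s : E ⟶ J, q ≫ s = t :=
  ⟨he.descToInjective t ht, he.comp_descToInjective t ht⟩

section horseshoe

lemma exists_sesRes [EnoughInjectives C] (S : ShortComplex C) (hS : S.ShortExact) : Nonempty (RDer.SESRes S) := by
  have := hS.mono_f
  have := hS.epi_g
  let I := injectiveResolution S.X₁
  let J := injectiveResolution S.X₃
  let ι₁ : S.X₁ ⟶ I.cocomplex.X 0 := I.ι.f 0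
  let ι₃ : S.X₃ ⟶ J.cocomplex.X 0 := J.ι.f 0
  haveI : Mono ι₃ := inferInstanceAs (Mono (J.ι.f 0))
  let e : S.X₂ ⟶ I.cocomplex.X 0 := Injective.factorThru ι₁ S.f
  have he : S.f ≫ e = ι₁ := Injective.comp_factorThru _ _
  have hι₁ : ι₁ ≫ I.cocomplex.d 0 1 = 0 := I.ι_f_zero_comp_complex_d
  have hι₃ : ι₃ ≫ J.cocomplex.d 0 1 = 0 := J.ι_f_zero_comp_complex_d
  have h0 : S.f ≫ e ≫ I.cocomplex.d 0 1 = 0 := by rw [reassoc_of% he, hι₁]
  let k : S.X₃ ⟶ I.cocomplex.X 1 := hS.exact.desc _ h0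
  have hk : S.g ≫ k = e ≫ I.cocomplex.d 0 1 := hS.exact.g_desc _ h0
  let τ₀ : J.cocomplex.X 0 ⟶ I.cocomplex.X 1 := - Injective.factorThru k ι₃
  have hτ₀ : ι₃ ≫ τ₀ = -k := by simp [τ₀, Injective.comp_factorThru]
  obtain ⟨σ₁, hσ₁⟩ := exists_ext (B := J.cocomplex.X 0) ι₃ (J.cocomplex.d 0 1) hι₃ (ι_exact J) (τ₀ ≫ I.cocomplex.d 1 2) (by
    rw [reassoc_of% hτ₀, ← cancel_epi S.g, comp_zero, Preadditive.neg_comp, Preadditive.comp_neg,
      reassoc_of% hk, I.cocomplex.d_comp_d, comp_zero, neg_zero])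
  let St := fun n : ℕ => {x : (J.cocomplex.X n ⟶ I.cocomplex.X (n + 1)) × (J.cocomplex.X (n + 1) ⟶ I.cocomplex.X (n + 2)) //
    x.1 ≫ I.cocomplex.d (n + 1) (n + 2) + J.cocomplex.d n (n + 1) ≫ x.2 = 0}
  have step : ∀ n (x : St n), ∃ τ : J.cocomplex.X (n + 2) ⟶ I.cocomplex.X (n + 3),
      x.1.2 ≫ I.cocomplex.d (n + 2) (n + 3) + J.cocomplex.d (n + 1) (n + 2) ≫ τ = 0 := by
    intro n x
    obtain ⟨s, hs⟩ := exists_ext _ _ (J.cocomplex.d_comp_d n (n + 1) (n + 2)) (J.exact_succ n)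
      (x.1.2 ≫ I.cocomplex.d (n + 2) (n + 3)) (by
        have := congrArg (fun t => t ≫ I.cocomplex.d (n + 2) (n + 3)) x.2
        simpa using this)
    exact ⟨-s, by rw [Preadditive.comp_neg, hs, add_neg_cancel]⟩
  choose nx hnx using step
  let Q : ∀ n, St n := fun n => Nat.rec (motive := St) ⟨(τ₀, -σ₁), by
    show τ₀ ≫ I.cocomplex.d 1 2 + J.cocomplex.d 0 1 ≫ (-σ₁) = 0
    rw [Preadditive.comp_neg, hσ₁, add_neg_cancel]⟩
    (fun n x => ⟨(x.1.2, nx n x), hnx n x⟩) n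
  let dM : ∀ n, I.cocomplex.X n ⊞ J.cocomplex.X n ⟶ I.cocomplex.X (n + 1) ⊞ J.cocomplex.X (n + 1) := fun n =>
    biprod.desc (I.cocomplex.d n (n + 1) ≫ biprod.inl) (biprod.lift (Q n).1.1 (J.cocomplex.d n (n + 1)))
  have hdd : ∀ n, dM n ≫ dM (n + 1) = 0 := fun n => by
    have h1 : (Q n).1.1 ≫ I.cocomplex.d (n + 1) (n + 1 + 1) + J.cocomplex.d n (n + 1) ≫ (Q (n + 1)).1.1 = 0 := (Q n).2
    apply biprod.hom_ext'
    · simp [dM]
    · apply biprod.hom_ext
      · simp [dM, h1]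
      · simp [dM]
  let M : CochainComplex C ℕ := CochainComplex.of (fun n => I.cocomplex.X n ⊞ J.cocomplex.X n) dM hdd
  have hMd : ∀ n, M.d n (n + 1) = dM n := fun n => CochainComplex.of_d _ dM n
  let f : I.cocomplex ⟶ M :=
    { f := fun n => biprod.inl
      comm' := fun i j hij => by
        obtain rfl : i + 1 = j := hij
        rw [hMd]
        simp [dM] }
  let g : M ⟶ J.cocomplex :=
    { f := fun n => biprod.snd
      comm' := fun i j hij => by
        obtain rfl : i + 1 = j := hij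
        rw [hMd]
        apply biprod.hom_ext' <;> simp [dM] }
  have hfg : f ≫ g = 0 := by ext n; exact biprod.inl_snd
  have hM : (ShortComplex.mk f g hfg).ShortExact :=
    HomologicalComplex.shortExact_of_degreewise_shortExact _ fun n =>
      ShortComplex.Splitting.shortExact
        { r := biprod.fst, s := biprod.inr, f_r := biprod.inl_fst, s_g := biprod.inr_snd, id := biprod.total }
  let ι₂ : (CochainComplex.single₀ C).obj S.X₂ ⟶ M :=
    (CochainComplex.fromSingle₀Equiv M S.X₂).symm ⟨biprod.lift e (S.g ≫ ι₃), by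
      rw [hMd 0]
      apply biprod.hom_ext
      · have hQ : (Q 0).1.1 = τ₀ := rfl
        simp [dM, hQ, hτ₀, hk]
      · simp [dM, hι₃]⟩
  have hι₂ : ι₂.f 0 = biprod.lift e (S.g ≫ ι₃) := by simp [ι₂, CochainComplex.fromSingle₀Equiv]
  have hf : I.ι ≫ f = (CochainComplex.single₀ C).map S.f ≫ ι₂ := by
    refine HomologicalComplex.from_single_hom_ext ?_
    simp only [HomologicalComplex.comp_f, CochainComplex.single₀_map_f_zero, hι₂]
    change ι₁ ≫ biprod.inl = S.f ≫ biprod.lift e (S.g ≫ ι₃)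
    apply biprod.hom_ext <;> simp [he]
  have hg : ι₂ ≫ g = (CochainComplex.single₀ C).map S.g ≫ J.ι := by
    refine HomologicalComplex.from_single_hom_ext ?_
    simp only [HomologicalComplex.comp_f, CochainComplex.single₀_map_f_zero, hι₂]
    change biprod.lift e (S.g ≫ ι₃) ≫ biprod.snd = S.g ≫ ι₃
    simp
  have hS0 : (S.map (CochainComplex.single₀ C)).ShortExact := hS.map_of_exact (HomologicalComplex.single C (ComplexShape.up ℕ) 0)
  let Φ : S.map (CochainComplex.single₀ C) ⟶ ShortComplex.mk f g hfg :=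
    { τ₁ := I.ι, τ₂ := ι₂, τ₃ := J.ι, comm₁₂ := hf, comm₂₃ := hg }
  haveI hq : QuasiIso ι₂ := by
    rw [quasiIso_iff]
    intro n
    cases n with
    | succ n =>
      rw [quasiIsoAt_iff_exactAt ι₂ (n + 1) (HomologicalComplex.exactAt_single_obj _ _ _ _ (by simp))]
      exact hM.exactAt_X₂ (n + 1) (I.cocomplex_exactAt_succ n) (J.cocomplex_exactAt_succ n)
    | zero =>
      rw [quasiIsoAt_iff_isIso_homologyMap]
      have hse : ∀ {T : ShortComplex (CochainComplex C ℕ)} (hT : T.ShortExact), T.X₁.ExactAt 1 →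
          (T.map (HomologicalComplex.homologyFunctor C (ComplexShape.up ℕ) 0)).ShortExact := by
        intro T hT h1
        have := hT.mono_f
        have m : Mono (HomologicalComplex.homologyMap T.f 0) :=
          HomologicalComplex.mono_homologyMap_of_mono_of_not_rel T.f 0 (by simp)
        have ep : Epi (HomologicalComplex.homologyMap T.g 0) := (hT.homology_exact₃ 0 1 rfl).epi_f
          (((HomologicalComplex.exactAt_iff_isZero_homology _ _).1 h1).eq_of_tgt _ _)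
        exact { exact := hT.homology_exact₂ 0, mono_f := m, epi_g := ep }
      exact ShortComplex.isIso₂_of_shortExact_of_isIso₁₃'
        ((HomologicalComplex.homologyFunctor C (ComplexShape.up ℕ) 0).mapShortComplex.map Φ)
        (hse hS0 (HomologicalComplex.exactAt_single_obj _ _ _ _ (by simp)))
        (hse hM (I.cocomplex_exactAt_succ 0))
        (inferInstanceAs (IsIso (HomologicalComplex.homologyMap I.ι 0)))
        (inferInstanceAs (IsIso (HomologicalComplex.homologyMap J.ι 0)))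
  exact ⟨{
    I₁ := I
    I₂ := { cocomplex := M, ι := ι₂, injective := fun n => inferInstanceAs (Injective (I.cocomplex.X n ⊞ J.cocomplex.X n)) }
    I₃ := J
    f := f, g := g, zero := hfg, ι_f := hf, ι_g := hg, shortExact := hM }⟩

end horseshoe

section lift

variable {S S' : ShortComplex C}

lemma exists_lift (T : RDer.SESRes S) (T' : RDer.SESRes S') (hS : S.ShortExact) (φ : S ⟶ S') :
    ∃ (Φ : T.cx ⟶ T'.cx), T.I₁.ι.f 0 ≫ Φ.τ₁.f 0 = φ.τ₁ ≫ T'.I₁.ι.f 0 ∧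
      T.I₃.ι.f 0 ≫ Φ.τ₃.f 0 = φ.τ₃ ≫ T'.I₃.ι.f 0 := by
  have := hS.epi_g
  let α := InjectiveResolution.desc φ.τ₁ T'.I₁ T.I₁
  let γ := InjectiveResolution.desc φ.τ₃ T'.I₃ T.I₃
  have hα : T.I₁.ι.f 0 ≫ α.f 0 = φ.τ₁ ≫ T'.I₁.ι.f 0 := InjectiveResolution.desc_commutes_zero _ _ _
  have hγ : T.I₃.ι.f 0 ≫ γ.f 0 = φ.τ₃ ≫ T'.I₃.ι.f 0 := InjectiveResolution.desc_commutes_zero _ _ _
  let a1 : S.X₁ ⟶ T.I₁.cocomplex.X 0 := T.I₁.ι.f 0
  let a2 : S.X₂ ⟶ T.I₂.cocomplex.X 0 := T.I₂.ι.f 0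
  let a3 : S.X₃ ⟶ T.I₃.cocomplex.X 0 := T.I₃.ι.f 0
  let b1 : S'.X₁ ⟶ T'.I₁.cocomplex.X 0 := T'.I₁.ι.f 0
  let b2 : S'.X₂ ⟶ T'.I₂.cocomplex.X 0 := T'.I₂.ι.f 0
  let b3 : S'.X₃ ⟶ T'.I₃.cocomplex.X 0 := T'.I₃.ι.f 0
  have haf : a1 ≫ T.f.f 0 = S.f ≫ a2 := by simpa using HomologicalComplex.congr_hom T.ι_f 0
  have hag : a2 ≫ T.g.f 0 = S.g ≫ a3 := by simpa using HomologicalComplex.congr_hom T.ι_g 0
  have hbf : b1 ≫ T'.f.f 0 = S'.f ≫ b2 := by simpa using HomologicalComplex.congr_hom T'.ι_f 0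
  have hbg : b2 ≫ T'.g.f 0 = S'.g ≫ b3 := by simpa using HomologicalComplex.congr_hom T'.ι_g 0
  let P := fun (n : ℕ) (m : T.I₂.cocomplex.X n ⟶ T'.I₂.cocomplex.X n) =>
    T.f.f n ≫ m = α.f n ≫ T'.f.f n ∧ m ≫ T'.g.f n = T.g.f n ≫ γ.f n
  have fix : ∀ (n : ℕ) (m : T.I₂.cocomplex.X n ⟶ T'.I₂.cocomplex.X n) (s : T.I₃.cocomplex.X n ⟶ T'.I₁.cocomplex.X n),
      P n m → P n (m - T.g.f n ≫ s ≫ T'.f.f n) := by
    intro n m s hm
    have z1 : T.f.f n ≫ T.g.f n = 0 := (T.cx.map (HomologicalComplex.eval C _ n)).zero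
    have z2 : T'.f.f n ≫ T'.g.f n = 0 := (T'.cx.map (HomologicalComplex.eval C _ n)).zero
    exact ⟨by rw [Preadditive.comp_sub, reassoc_of% z1, zero_comp, sub_zero, hm.1],
      by rw [Preadditive.sub_comp, Category.assoc, Category.assoc, z2, comp_zero, comp_zero, sub_zero, hm.2]⟩
  have cand : ∀ n, ∃ m, P n m := by
    intro n
    let sp := T.splitting n
    let sp' := T'.splitting n
    let r : T.I₂.cocomplex.X n ⟶ T.I₁.cocomplex.X n := sp.r
    let s' : T'.I₃.cocomplex.X n ⟶ T'.I₂.cocomplex.X n := sp'.s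
    have e1 : T.f.f n ≫ r = 𝟙 _ := sp.f_r
    have e2 : s' ≫ T'.g.f n = 𝟙 _ := sp'.s_g
    have z1 : T.f.f n ≫ T.g.f n = 0 := (T.cx.map (HomologicalComplex.eval C _ n)).zero
    have z2 : T'.f.f n ≫ T'.g.f n = 0 := (T'.cx.map (HomologicalComplex.eval C _ n)).zero
    refine ⟨r ≫ α.f n ≫ T'.f.f n + T.g.f n ≫ γ.f n ≫ s', ?_, ?_⟩
    · rw [Preadditive.comp_add, reassoc_of% e1, reassoc_of% z1, zero_comp, add_zero]
    · simp only [Preadditive.add_comp, Category.assoc, z2, e2, Category.comp_id, comp_zero, zero_add]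
  have corr : ∀ (n : ℕ) {A : C} (E : A ⟶ T'.I₂.cocomplex.X n), E ≫ T'.g.f n = 0 →
      ∃ E' : A ⟶ T'.I₁.cocomplex.X n, E' ≫ T'.f.f n = E := by
    intro n A E hE
    let r : T'.I₂.cocomplex.X n ⟶ T'.I₁.cocomplex.X n := (T'.splitting n).r
    let s : T'.I₃.cocomplex.X n ⟶ T'.I₂.cocomplex.X n := (T'.splitting n).s
    have e : r ≫ T'.f.f n + T'.g.f n ≫ s = 𝟙 _ := (T'.splitting n).id
    refine ⟨E ≫ r, ?_⟩
    have := congrArg (E ≫ ·) e
    simpa [reassoc_of% hE] using this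
  have step : ∀ (n : ℕ) (m : T.I₂.cocomplex.X n ⟶ T'.I₂.cocomplex.X n) {A₂ A₃ : C} (h : A₂ ⟶ A₃) [Epi h]
      (p₂ : A₂ ⟶ T.I₂.cocomplex.X n) (p₃ : A₃ ⟶ T.I₃.cocomplex.X n) (w : p₃ ≫ T.I₃.cocomplex.d n (n + 1) = 0),
      (ShortComplex.mk p₃ (T.I₃.cocomplex.d n (n + 1)) w).Exact → P n m → p₂ ≫ T.g.f n = h ≫ p₃ →
      p₂ ≫ T.I₂.cocomplex.d n (n + 1) = 0 → p₂ ≫ m ≫ T'.I₂.cocomplex.d n (n + 1) = 0 →
      ∃ m', P (n + 1) m' ∧ T.I₂.cocomplex.d n (n + 1) ≫ m' = m ≫ T'.I₂.cocomplex.d n (n + 1) := by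
    intro n m A₂ A₃ h _ p₂ p₃ w hex hm hp hpd hpm
    obtain ⟨m₀, hm₀⟩ := cand (n + 1)
    let E := T.I₂.cocomplex.d n (n + 1) ≫ m₀ - m ≫ T'.I₂.cocomplex.d n (n + 1)
    have hEg : E ≫ T'.g.f (n + 1) = 0 := by
      simp only [E, Preadditive.sub_comp, Category.assoc, hm₀.2]
      rw [← T.g.comm_assoc, ← γ.comm, ← T'.g.comm, reassoc_of% hm.2, sub_self]
    obtain ⟨E₁, hE₁⟩ := corr (n + 1) E hEg
    have hfE : T.f.f n ≫ E₁ = 0 := by
      haveI : Mono (T'.f.f (n + 1)) := (T'.splitting (n + 1)).shortExact.mono_f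
      rw [← cancel_mono (T'.f.f (n + 1)), Category.assoc, hE₁, zero_comp]
      simp only [E, Preadditive.comp_sub]
      rw [T.f.comm_assoc, hm₀.1, reassoc_of% hm.1, T'.f.comm, ← α.comm_assoc, sub_self]
    let r : T.I₂.cocomplex.X n ⟶ T.I₁.cocomplex.X n := (T.splitting n).r
    let s : T.I₃.cocomplex.X n ⟶ T.I₂.cocomplex.X n := (T.splitting n).s
    have e : r ≫ T.f.f n + T.g.f n ≫ s = 𝟙 _ := (T.splitting n).id
    have hE₂ : T.g.f n ≫ s ≫ E₁ = E₁ := by
      have := congrArg (· ≫ E₁) e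
      simpa [hfE] using this
    have hpE : p₃ ≫ s ≫ E₁ = 0 := by
      rw [← cancel_epi h, ← reassoc_of% hp, hE₂, comp_zero]
      haveI : Mono (T'.f.f (n + 1)) := (T'.splitting (n + 1)).shortExact.mono_f
      rw [← cancel_mono (T'.f.f (n + 1)), Category.assoc, hE₁, zero_comp]
      simp only [E, Preadditive.comp_sub]
      rw [reassoc_of% hpd, hpm, zero_comp, sub_zero]
    obtain ⟨t, ht⟩ := exists_ext _ _ w hex (s ≫ E₁) hpE
    refine ⟨m₀ - T.g.f (n + 1) ≫ t ≫ T'.f.f (n + 1), fix _ _ t hm₀, ?_⟩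
    rw [Preadditive.comp_sub, ← T.g.comm_assoc, reassoc_of% ht, reassoc_of% hE₂, hE₁]
    simp only [E]
    abel
  obtain ⟨m₀, hm₀, hm₀ι⟩ : ∃ m, P 0 m ∧ a2 ≫ m = φ.τ₂ ≫ b2 := by
    obtain ⟨m, hm⟩ := cand 0
    let E : S.X₂ ⟶ T'.I₂.cocomplex.X 0 := a2 ≫ m - φ.τ₂ ≫ b2
    have hEg : E ≫ T'.g.f 0 = 0 := by
      simp only [E, Preadditive.sub_comp, Category.assoc, hm.2, hbg]
      have hγ' : a3 ≫ γ.f 0 = φ.τ₃ ≫ b3 := hγ
      rw [reassoc_of% hag, ← Category.assoc φ.τ₂, φ.comm₂₃, Category.assoc, hγ', sub_self]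
    obtain ⟨E₁, hE₁⟩ := corr 0 E hEg
    have hfE : S.f ≫ E₁ = 0 := by
      haveI : Mono (T'.f.f 0) := (T'.splitting 0).shortExact.mono_f
      rw [← cancel_mono (T'.f.f 0), Category.assoc, hE₁, zero_comp]
      simp only [E, Preadditive.comp_sub]
      rw [← reassoc_of% haf, hm.1, ← Category.assoc S.f, ← φ.comm₁₂, Category.assoc, ← hbf]
      exact sub_eq_zero.2 ((Category.assoc _ _ _).symm.trans ((congrArg (· ≫ T'.f.f 0) hα).trans (Category.assoc _ _ _)))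
    haveI : Mono a3 := inferInstanceAs (Mono (T.I₃.ι.f 0))
    let t := Injective.factorThru (hS.exact.desc E₁ hfE) a3
    refine ⟨m - T.g.f 0 ≫ t ≫ T'.f.f 0, fix _ _ t hm, ?_⟩
    rw [Preadditive.comp_sub, reassoc_of% hag, ← Category.assoc a3, Injective.comp_factorThru,
      hS.exact.g_desc_assoc, hE₁]
    simp only [E]
    abel
  have ha3 : a3 ≫ T.I₃.cocomplex.d 0 1 = 0 := T.I₃.ι_f_zero_comp_complex_d
  obtain ⟨m₁, hm₁⟩ := step 0 m₀ S.g a2 a3 ha3 (ι_exact T.I₃) hm₀ hag T.I₂.ι_f_zero_comp_complex_d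
    (by
      have hb : b2 ≫ T'.I₂.cocomplex.d 0 1 = 0 := T'.I₂.ι_f_zero_comp_complex_d
      rw [reassoc_of% hm₀ι, hb, comp_zero])
  let St := fun n : ℕ => {x : (T.I₂.cocomplex.X n ⟶ T'.I₂.cocomplex.X n) × (T.I₂.cocomplex.X (n + 1) ⟶ T'.I₂.cocomplex.X (n + 1)) //
    P n x.1 ∧ P (n + 1) x.2 ∧ T.I₂.cocomplex.d n (n + 1) ≫ x.2 = x.1 ≫ T'.I₂.cocomplex.d n (n + 1)}
  have next' : ∀ n (x : St n), ∃ m', P (n + 2) m' ∧
      T.I₂.cocomplex.d (n + 1) (n + 2) ≫ m' = x.1.2 ≫ T'.I₂.cocomplex.d (n + 1) (n + 2) := by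
    intro n x
    haveI : Epi (T.g.f n) := (T.splitting n).shortExact.epi_g
    exact step (n + 1) x.1.2 (T.g.f n) _ _ (T.I₃.cocomplex.d_comp_d n (n + 1) (n + 2)) (T.I₃.exact_succ n)
      x.2.2.1 (T.g.comm n (n + 1)).symm (T.I₂.cocomplex.d_comp_d _ _ _) (by rw [reassoc_of% x.2.2.2, HomologicalComplex.d_comp_d, comp_zero])
  choose nx hnx using next'
  let Q : ∀ n, St n := fun n => Nat.rec (motive := St) ⟨(m₀, m₁), hm₀, hm₁⟩
    (fun n x => ⟨(x.1.2, nx n x), x.2.2.1, hnx n x⟩) n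
  let β : T.I₂.cocomplex ⟶ T'.I₂.cocomplex :=
    { f := fun n => (Q n).1.1
      comm' := fun i j hij => by
        obtain rfl : i + 1 = j := hij
        exact (Q i).2.2.2.symm }
  exact ⟨{ τ₁ := α, τ₂ := β, τ₃ := γ
           comm₁₂ := by ext n; exact (Q n).2.1.1.symm
           comm₂₃ := by ext n; exact (Q n).2.1.2 }, hα, hγ⟩

end lift

variable {D : Type u'} [Category.{v'} D] [Abelian D] [HasInjectiveResolutions C] (F : C ⥤ D) [F.Additive]

lemma shortExact_of_sesRes {S : ShortComplex C} (T : RDer.SESRes S) : S.ShortExact := by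
  have hT := T.shortExact
  let Φ : S.map (CochainComplex.single₀ C) ⟶ T.cx :=
    { τ₁ := T.I₁.ι, τ₂ := T.I₂.ι, τ₃ := T.I₃.ι, comm₁₂ := T.ι_f, comm₂₃ := T.ι_g }
  let H := HomologicalComplex.homologyFunctor C (ComplexShape.up ℕ) 0
  have hz : IsZero (T.I₁.cocomplex.homology 1) := (HomologicalComplex.exactAt_iff_isZero_homology _ _).1 (T.I₁.cocomplex_exactAt_succ 0)
  have := hT.mono_f
  have h : (T.cx.map H).ShortExact :=
    { exact := hT.homology_exact₂ 0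
      mono_f := HomologicalComplex.mono_homologyMap_of_mono_of_not_rel T.f 0 (by simp)
      epi_g := (hT.homology_exact₃ 0 1 rfl).epi_f (hz.eq_of_tgt _ _) }
  haveI : IsIso (H.mapShortComplex.map Φ) := by
    haveI : IsIso (H.mapShortComplex.map Φ).τ₁ := inferInstanceAs (IsIso (HomologicalComplex.homologyMap T.I₁.ι 0))
    haveI : IsIso (H.mapShortComplex.map Φ).τ₂ := inferInstanceAs (IsIso (HomologicalComplex.homologyMap T.I₂.ι 0))
    haveI : IsIso (H.mapShortComplex.map Φ).τ₃ := inferInstanceAs (IsIso (HomologicalComplex.homologyMap T.I₃.ι 0))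
    apply ShortComplex.isIso_of_isIso
  have h2 : ((S.map (CochainComplex.single₀ C)).map H).ShortExact :=
    ShortComplex.shortExact_of_iso (asIso (H.mapShortComplex.map Φ)).symm h
  exact ShortComplex.shortExact_of_iso
    (S.mapNatIso (HomologicalComplex.homologyFunctorSingleIso C (ComplexShape.up ℕ) 0) ≪≫ Iso.refl _) h2

lemma delta_natural {S S' : ShortComplex C} (hS : S.ShortExact) (T : RDer.SESRes S) (T' : RDer.SESRes S') (φ : S ⟶ S')
    (n₀ n₁ : ℕ) (h : n₀ + 1 = n₁) :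
    (F.rightDerived n₀).map φ.τ₃ ≫ T'.delta F n₀ n₁ h = T.delta F n₀ n₁ h ≫ (F.rightDerived n₁).map φ.τ₁ := by
  obtain ⟨Φ, h₁, h₃⟩ := exists_lift T T' hS φ
  unfold RDer.SESRes.delta
  rw [InjectiveResolution.isoRightDerivedObj_hom_naturality_assoc φ.τ₃ T.I₃ T'.I₃ Φ.τ₃ h₃ F n₀]
  simp only [Category.assoc]
  congr 1
  erw [InjectiveResolution.isoRightDerivedObj_inv_naturality φ.τ₁ T.I₁ T'.I₁ Φ.τ₁ h₁ F n₁]
  refine (Category.assoc _ _ _).symm.trans ?_
  exact (congrArg (· ≫ (T'.I₁.isoRightDerivedObj F n₁).inv) (HomologicalComplex.HomologySequence.δ_naturality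
    ((F.mapHomologicalComplex (ComplexShape.up ℕ)).mapShortComplex.map Φ) (T.map_shortExact F) (T'.map_shortExact F) n₀ n₁ h).symm).trans
    (Category.assoc _ _ _)

theorem delta_indep {S : ShortComplex C} (T T' : RDer.SESRes S) (n₀ n₁ : ℕ) (h : n₀ + 1 = n₁) :
    T.delta F n₀ n₁ h = T'.delta F n₀ n₁ h := by
  simpa using (delta_natural F (shortExact_of_sesRes T) T T' (𝟙 S) n₀ n₁ h).symm

theorem nonempty_derivedLES [EnoughInjectives C] : Nonempty (RDer.DerivedLES F) := by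
  choose T _ using fun (S : ShortComplex C) (hS : S.ShortExact) => (⟨(exists_sesRes S hS).some, trivial⟩ : ∃ _T : RDer.SESRes S, True)
  let δ : ∀ (S : ShortComplex C) (hS : S.ShortExact) (n₀ n₁ : ℕ) (h : n₀ + 1 = n₁),
      (F.rightDerived n₀).obj S.X₃ ⟶ (F.rightDerived n₁).obj S.X₁ := fun S hS n₀ n₁ h => (T S hS).delta F n₀ n₁ h
  have mf : ∀ (S : ShortComplex C) (hS : S.ShortExact) n, (F.rightDerived n).map S.f ≫ ((T S hS).I₂.isoRightDerivedObj F n).hom =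
      ((T S hS).I₁.isoRightDerivedObj F n).hom ≫
        HomologicalComplex.homologyMap ((F.mapHomologicalComplex (ComplexShape.up ℕ)).map (T S hS).f) n := fun S hS n =>
    InjectiveResolution.isoRightDerivedObj_hom_naturality S.f _ _ (T S hS).f
      (by simpa using HomologicalComplex.congr_hom (T S hS).ι_f 0) F n
  have mg : ∀ (S : ShortComplex C) (hS : S.ShortExact) n, (F.rightDerived n).map S.g ≫ ((T S hS).I₃.isoRightDerivedObj F n).hom =
      ((T S hS).I₂.isoRightDerivedObj F n).hom ≫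
        HomologicalComplex.homologyMap ((F.mapHomologicalComplex (ComplexShape.up ℕ)).map (T S hS).g) n := fun S hS n =>
    InjectiveResolution.isoRightDerivedObj_hom_naturality S.g _ _ (T S hS).g
      (by simpa using HomologicalComplex.congr_hom (T S hS).ι_g 0) F n
  have md : ∀ (S : ShortComplex C) (hS : S.ShortExact) n₀ n₁ h, δ S hS n₀ n₁ h ≫ ((T S hS).I₁.isoRightDerivedObj F n₁).hom =
      ((T S hS).I₃.isoRightDerivedObj F n₀).hom ≫ ((T S hS).map_shortExact F).δ n₀ n₁ h := fun S hS n₀ n₁ h =>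
    RDer.SESRes.delta_comp_isoRightDerivedObj_hom _ F n₀ n₁ h
  refine ⟨{ δ := δ
            δ_eq := fun S hS T' n₀ n₁ h => delta_indep F _ T' n₀ n₁ h
            δ_natural := fun {S S'} hS hS' φ n₀ n₁ h => delta_natural F hS _ _ φ n₀ n₁ h
            exact₂ := fun S hS n => ?_
            comp_δ := fun S hS n₀ n₁ h => ?_
            exact₃ := fun S hS n₀ n₁ h => ?_
            δ_comp := fun S hS n₀ n₁ h => ?_
            exact₁ := fun S hS n₀ n₁ h => ?_ }⟩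
  · exact ShortComplex.exact_of_iso (ShortComplex.isoMk ((T S hS).I₁.isoRightDerivedObj F n) ((T S hS).I₂.isoRightDerivedObj F n)
      ((T S hS).I₃.isoRightDerivedObj F n) (mf S hS n).symm (mg S hS n).symm).symm
      (((T S hS).map_shortExact F).homology_exact₂ n)
  · rw [← cancel_mono ((T S hS).I₁.isoRightDerivedObj F n₁).hom, zero_comp, Category.assoc]
    refine (congrArg (fun t => (F.rightDerived n₀).map S.g ≫ t) (md S hS n₀ n₁ h)).trans ?_
    refine (Category.assoc _ _ _).symm.trans ?_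
    refine (congrArg (· ≫ ((T S hS).map_shortExact F).δ n₀ n₁ h) (mg S hS n₀)).trans ?_
    refine (Category.assoc _ _ _).trans ?_
    exact (congrArg (((T S hS).I₂.isoRightDerivedObj F n₀).hom ≫ ·) (((T S hS).map_shortExact F).comp_δ n₀ n₁ h)).trans comp_zero
  · exact ShortComplex.exact_of_iso (ShortComplex.isoMk ((T S hS).I₂.isoRightDerivedObj F n₀) ((T S hS).I₃.isoRightDerivedObj F n₀)
      ((T S hS).I₁.isoRightDerivedObj F n₁) (mg S hS n₀).symm (md S hS n₀ n₁ h).symm).symm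
      (((T S hS).map_shortExact F).homology_exact₃ n₀ n₁ h)
  · rw [← cancel_mono ((T S hS).I₂.isoRightDerivedObj F n₁).hom, zero_comp, Category.assoc]
    refine (congrArg (fun t => δ S hS n₀ n₁ h ≫ t) (mf S hS n₁)).trans ?_
    refine (Category.assoc _ _ _).symm.trans ?_
    refine (congrArg (· ≫ HomologicalComplex.homologyMap ((F.mapHomologicalComplex (ComplexShape.up ℕ)).map (T S hS).f) n₁) (md S hS n₀ n₁ h)).trans ?_
    refine (Category.assoc _ _ _).trans ?_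
    exact (congrArg (((T S hS).I₃.isoRightDerivedObj F n₀).hom ≫ ·) (((T S hS).map_shortExact F).δ_comp n₀ n₁ h)).trans comp_zero
  · exact ShortComplex.exact_of_iso (ShortComplex.isoMk ((T S hS).I₃.isoRightDerivedObj F n₀) ((T S hS).I₁.isoRightDerivedObj F n₁)
      ((T S hS).I₂.isoRightDerivedObj F n₁) (md S hS n₀ n₁ h).symm (mf S hS n₁).symm).symm
      (((T S hS).map_shortExact F).homology_exact₁ n₀ n₁ h)

end Groth.Agent.H5RDer
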