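import Mathlib
import Groth.Agent.Lib.H5RDer

open CategoryTheory CategoryTheory.Limits

namespace Groth.Agent.H5AcySES

universe v u v' u'

theorem acyclic_ses {A : Type u} [Category.{v} A] [Abelian A] [EnoughInjectives A]
    {B : Type u'} [Category.{v'} B] [Abelian B] (F : A ⥤ B) [F.Additive] [PreservesFiniteLimits F]
    (S : ShortComplex A) (hS : S.ShortExact) :
    ((∀ i : ℕ, 0 < i → IsZero ((F.rightDerived i).obj S.X₁)) → (∀ i : ℕ, 0 < i → IsZero ((F.rightDerived i).obj S.X₃)) →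
      (∀ i : ℕ, 0 < i → IsZero ((F.rightDerived i).obj S.X₂)) ∧ (S.map F).ShortExact) ∧
    ((∀ i : ℕ, 0 < i → IsZero ((F.rightDerived i).obj S.X₁)) → (∀ i : ℕ, 0 < i → IsZero ((F.rightDerived i).obj S.X₂)) →
      (∀ i : ℕ, 0 < i → IsZero ((F.rightDerived i).obj S.X₃)) ∧ (S.map F).ShortExact) ∧
    ((∀ i : ℕ, 0 < i → IsZero ((F.rightDerived i).obj S.X₂)) → (∀ i : ℕ, 0 < i → IsZero ((F.rightDerived i).obj S.X₃)) →
      Epi (F.map S.g) → (∀ i : ℕ, 0 < i → IsZero ((F.rightDerived i).obj S.X₁)) ∧ (S.map F).ShortExact) := by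
  obtain ⟨L⟩ := Groth.Agent.H5RDer.nonempty_derivedLES (F := F)
  let e := F.rightDerivedZeroIsoSelf
  have := hS.mono_f
  have hse : Epi (F.map S.g) → (S.map F).ShortExact := fun h =>
    have : Mono (S.map F).f := inferInstanceAs (Mono (F.map S.f))
    have : Epi (S.map F).g := h
    ⟨hS.exact.map_of_mono_of_preservesKernel F inferInstance inferInstance⟩
  have hepi : IsZero ((F.rightDerived 1).obj S.X₁) → Epi (F.map S.g) := fun h => by
    have : Epi ((F.rightDerived 0).map S.g) := (L.exact₃ S hS 0 1 rfl).epi_f (h.eq_of_tgt _ _)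
    have he := e.hom.naturality S.g
    have : Epi (e.hom.app S.X₂ ≫ F.map S.g) := by rw [← he]; exact epi_comp _ _
    exact epi_of_epi (e.hom.app S.X₂) _
  refine ⟨fun h1 h3 => ⟨fun i hi => ?_, hse (hepi (h1 1 one_pos))⟩,
    fun h1 h2 => ⟨fun i hi => ?_, hse (hepi (h1 1 one_pos))⟩, fun h2 h3 hg => ⟨fun i hi => ?_, hse hg⟩⟩
  · exact (L.exact₂ S hS i).isZero_of_both_zeros ((h1 i hi).eq_of_src _ _) ((h3 i hi).eq_of_tgt _ _)
  · exact (L.exact₃ S hS i (i+1) rfl).isZero_of_both_zeros ((h2 i hi).eq_of_src _ _) ((h1 (i+1) (by omega)).eq_of_tgt _ _)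
  · obtain ⟨j, rfl⟩ : ∃ j, i = j + 1 := ⟨i - 1, by omega⟩
    refine (L.exact₁ S hS j (j+1) rfl).isZero_of_both_zeros ?_ ((h2 _ hi).eq_of_tgt _ _)
    rcases Nat.eq_zero_or_pos j with rfl | hj
    · have he := e.inv.naturality S.g
      have : Epi ((F.rightDerived 0).map S.g) := by
        have : Epi (e.inv.app S.X₂ ≫ (F.rightDerived 0).map S.g) := by rw [← he]; exact epi_comp _ _
        exact epi_of_epi (e.inv.app S.X₂) _
      rw [← cancel_epi ((F.rightDerived 0).map S.g)]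
      exact (L.comp_δ S hS 0 1 rfl).trans comp_zero.symm
    · exact (h3 j hj).eq_of_src _ _

end Groth.Agent.H5AcySES
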