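import Mathlib
import Groth.Prelude
universe w u v
open CategoryTheory CategoryTheory.Limits MorphismProperty Opposite
open scoped ZeroObject
namespace Groth.Agent.H5Baer

section
variable {C : Type u} [Category.{v} C] [Abelian C] [IsGrothendieckAbelian.{w} C] {ι : Type*} (G : ι → C)

lemma injective_of_family (hG : ObjectProperty.IsSeparating (ObjectProperty.ofObj G)) (I : C)
    (h : ∀ (k : ι) (S : C) (i : S ⟶ G k) [Mono i] (φ : S ⟶ I), ∃ ψ : G k ⟶ I, i ≫ ψ = φ) :
    Injective I := by
  let W : MorphismProperty C := (MorphismProperty.ofHoms (fun _ : Unit => (0 : I ⟶ 0))).llp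
  have hWof : ∀ {A B : C} (i : A ⟶ B), W i → ∀ φ : A ⟶ I, ∃ ψ : B ⟶ I, i ≫ ψ = φ := by
    intro A B i hi φ
    have := hi (0 : I ⟶ 0) ⟨⟨⟩⟩
    have sq : CommSq φ i (0 : I ⟶ 0) 0 := ⟨by simp⟩
    exact ⟨sq.lift, sq.fac_left⟩
  have hWmk : ∀ {A B : C} (i : A ⟶ B), (∀ φ : A ⟶ I, ∃ ψ : B ⟶ I, i ≫ ψ = φ) → W i := by
    intro A B i hi X Y p hp
    obtain ⟨⟨⟩⟩ := hp
    refine ⟨fun {φ g} sq => ?_⟩
    obtain ⟨ψ, hψ⟩ := hi φ
    exact ⟨⟨⟨ψ, hψ, (isZero_zero C).eq_of_tgt _ _⟩⟩⟩
  have hiso : ∀ {A B : C} (i : A ⟶ B) [IsIso i], W i := fun i _ =>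
    hWmk i fun φ => ⟨inv i ≫ φ, by simp⟩
  have hdet : ObjectProperty.IsDetecting (ObjectProperty.ofObj G) := hG.isDetecting
  have step : ∀ {X : C} (A : Subobject X), A ≠ ⊤ →
      ∃ (A' : Subobject X) (hlt : A < A'), W (Subobject.ofLE A A' hlt.le) := by
    intro X A hA
    induction A using Subobject.ind with | _ p
    have hp : ¬ IsIso p := by rwa [Subobject.isIso_iff_mk_eq_top]
    rw [hdet.isIso_iff_of_mono] at hp
    push Not at hp
    obtain ⟨G', hG', hns⟩ := hp
    obtain ⟨k⟩ := hG'
    obtain ⟨f, hf⟩ : ∃ f : G k ⟶ X, ∀ a, a ≫ p ≠ f := by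
      simpa [Function.Surjective] using hns
    let p' := pushout.desc p f pullback.condition
    haveI : Mono p' := (IsPushout.of_hasPushout _ _).mono_of_isPullback_of_mono
      (IsPullback.of_hasPullback p f) _ (pushout.inl_desc _ _ _) (pushout.inr_desc _ _ _)
    have fac : pushout.inl (pullback.fst p f) (pullback.snd p f) ≫ p' = p := pushout.inl_desc _ _ _
    have hi : ¬ IsIso (pushout.inl (pullback.fst p f) (pullback.snd p f)) := by
      intro hh
      refine hf (pushout.inr _ _ ≫ inv (pushout.inl (pullback.fst p f) (pullback.snd p f))) ?_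
      rw [Category.assoc]
      have : inv (pushout.inl (pullback.fst p f) (pullback.snd p f)) ≫ p = p' := by
        rw [IsIso.inv_comp_eq, fac]
      rw [this]
      exact pushout.inr_desc _ _ _
    have hW : W (pushout.inl (pullback.fst p f) (pullback.snd p f)) :=
      MorphismProperty.of_isPushout (IsPushout.of_hasPushout _ _)
        (hWmk _ (fun φ => h k _ (pullback.snd p f) φ))
    refine ⟨Subobject.mk p', Subobject.mk_lt_mk_of_comm _ fac hi, (W.arrow_mk_iso_iff ?_).2 hW⟩
    refine CategoryTheory.Arrow.isoMk (Subobject.underlyingIso p) (Subobject.underlyingIso p') ?_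
    dsimp
    rw [← cancel_mono p']
    simp only [Category.assoc, fac, Subobject.underlyingIso_hom_comp_eq_mk, Subobject.ofLE_arrow]
  refine ⟨fun {A X} φ i _ => hWof i ?_ φ⟩
  classical
  let L : Subobject X → Subobject X := fun B => if hB : B = ⊤ then ⊤ else (step B hB).choose
  have hle : ∀ B, B ≤ L B := fun B => by
    by_cases hB : B = ⊤
    · subst hB; simp [L]
    · simp only [L, dif_neg hB]; exact (step B hB).choose_spec.choose.le
  have hWL : ∀ B, W (Subobject.ofLE B (L B) (hle B)) := fun B => by
    by_cases hB : B = ⊤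
    · have e : L B = B := by simp [L, hB]
      haveI : IsIso (Subobject.ofLE B (L B) (hle B)) := ⟨⟨Subobject.ofLE _ _ e.le, by simp, by simp⟩⟩
      exact hiso _
    · refine (W.arrow_mk_iso_iff ?_).1 (step B hB).choose_spec.choose_spec
      exact CategoryTheory.Arrow.isoMk (Iso.refl _) (Subobject.isoOfEq _ _ (by simp [L, dif_neg hB])) (by simp)
  let κ := Order.succ (Cardinal.mk (Shrink.{w} (Subobject X)))
  let J := κ.ord.ToType
  have : Nonempty J := by simp [J, κ]
  letI : OrderBot J := WellFoundedLT.toOrderBot _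
  obtain ⟨j, hj⟩ := top_mem_range_transfiniteIterate L (Subobject.mk i)
    (fun B hB => by simp only [L, dif_neg hB]; exact (step B hB).choose_spec.choose) (by simp [L])
    (J := J)
    (fun hf => by
      have h1 := Cardinal.mk_le_of_injective (f := fun x : J => equivShrink.{w} (Subobject X) (transfiniteIterate L x (Subobject.mk i)))
        ((equivShrink _).injective.comp hf)
      rw [show Cardinal.mk J = κ by simp [J]] at h1
      exact not_le_of_gt (Order.lt_succ _) h1)
  let F : J ⥤ MonoOver X :=
    { obj := fun k => MonoOver.mk (transfiniteIterate L k (Subobject.mk i)).arrow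
      map := fun {a b} g => MonoOver.homMk (Subobject.ofLE _ _
        (monotone_transfiniteIterate _ _ hle (leOfHom g))) }
  let FC : J ⥤ C := F ⋙ MonoOver.forget _ ⋙ Over.forget _
  have : FC.IsWellOrderContinuous :=
    { nonempty_isColimit := fun m hm => ⟨by
        have := hm.nonempty_Iio.to_subtype
        let c := (Set.principalSegIio m).cocone (F ⋙ MonoOver.forget _)
        have : Mono c.pt.hom := by
          show Mono (transfiniteIterate L m (Subobject.mk i)).arrow
          infer_instance
        apply IsGrothendieckAbelian.isColimitMapCoconeOfSubobjectMkEqISup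
          ((Set.principalSegIio m).monotone.functor ⋙ F) c
        show Subobject.mk (transfiniteIterate L m (Subobject.mk i)).arrow =
          ⨆ k, Subobject.mk (transfiniteIterate L ((Set.principalSegIio m) k) (Subobject.mk i)).arrow
        simp only [Subobject.mk_arrow]
        exact transfiniteIterate_limit L (Subobject.mk i) m hm⟩ }
  have key : ∀ (B B' : Subobject X) (hh : B ≤ B'), B' = L B → W (Subobject.ofLE B B' hh) := by
    rintro B _ hh rfl
    exact hWL B
  have T : W.TransfiniteCompositionOfShape (Set.Iic j) (FC.map (homOfLE bot_le : ⊥ ⟶ j)) :=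
    { F := (Set.initialSegIic j).monotone.functor ⋙ FC
      isoBot := Iso.refl _
      incl :=
        { app := fun k => FC.map (homOfLE k.2)
          naturality := fun k k' g => by simp [FC, F, MonoOver.forget] }
      isColimit := colimitOfDiagramTerminal isTerminalTop _
      fac := Category.id_comp _
      map_mem := fun k hk => key _ _ _ (by
        show transfiniteIterate L (Order.succ k : Set.Iic j).1 (Subobject.mk i) = L (transfiniteIterate L k.1 (Subobject.mk i))
        rw [Set.Iic.succ_eq_of_not_isMax hk]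
        exact transfiniteIterate_succ _ _ _ (Set.not_isMax_coe _ hk)) }
  have hmem : W (FC.map (homOfLE bot_le : ⊥ ⟶ j)) :=
    MorphismProperty.transfiniteCompositionsOfShape_le W (Set.Iic j) _ T.mem
  let t := transfiniteIterate L j (Subobject.mk i)
  haveI := (Subobject.isIso_arrow_iff_eq_top t).2 hj
  refine (W.arrow_mk_iso_iff ?_).1 hmem
  refine CategoryTheory.Arrow.isoMk ((Subobject.isoOfEq _ _ (transfiniteIterate_bot _ _) ≪≫
    Subobject.underlyingIso i)) (@asIso _ _ _ _ t.arrow ((Subobject.isIso_arrow_iff_eq_top t).2 hj)) ?_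
  dsimp [FC, F, MonoOver.forget]
  rw [Category.assoc, Subobject.underlyingIso_hom_comp_eq_mk]
  exact (Subobject.ofLE_arrow _).trans (Subobject.ofLE_arrow _).symm

end

lemma freeSheaf_isSeparating {C : Type u} [SmallCategory C] (J : GrothendieckTopology C) :
    ObjectProperty.IsSeparating (ObjectProperty.ofObj fun X : C => CohCx.freeSheaf J X) := by
  intro F F' f g hfg
  ext U x
  obtain ⟨U⟩ := U
  let α := (yonedaEquiv (F := F.obj ⋙ forget AddCommGrpCat.{u})).symm x
  let β := ((AddCommGrpCat.adj.{u}.whiskerRight Cᵒᵖ).homEquiv (yoneda.obj U) F.obj).symm α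
  let γ := ((sheafificationAdjunction J AddCommGrpCat.{u}).homEquiv _ F).symm β
  have h : γ ≫ f = γ ≫ g := hfg _ ⟨U⟩ γ
  have h2 : β ≫ f.hom = β ≫ g.hom := by
    have := congrArg ((sheafificationAdjunction J AddCommGrpCat.{u}).homEquiv _ F') h
    rw [Adjunction.homEquiv_naturality_right, Adjunction.homEquiv_naturality_right,
      Equiv.apply_symm_apply] at this
    exact this
  have h3 : α ≫ Functor.whiskerRight f.hom (forget _) = α ≫ Functor.whiskerRight g.hom (forget _) := by
    have := congrArg ((AddCommGrpCat.adj.{u}.whiskerRight Cᵒᵖ).homEquiv (yoneda.obj U) F'.obj) h2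
    rw [Adjunction.homEquiv_naturality_right, Adjunction.homEquiv_naturality_right,
      Equiv.apply_symm_apply] at this
    exact this
  have h4 := congrArg yonedaEquiv h3
  rw [yonedaEquiv_comp, yonedaEquiv_comp, Equiv.apply_symm_apply] at h4
  exact h4

theorem s6524 {C : Type u} [SmallCategory C]
    (J : GrothendieckTopology C) (I : Sheaf J AddCommGrpCat.{u})
    (h : ∀ (X : C) (S : Sheaf J AddCommGrpCat.{u}) (i : S ⟶ CohCx.freeSheaf J X) [Mono i] (φ : S ⟶ I),
      ∃ ψ : CohCx.freeSheaf J X ⟶ I, i ≫ ψ = φ) :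
    Injective I :=
  injective_of_family.{u} _ (freeSheaf_isSeparating J) I h

end Groth.Agent.H5Baer
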