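import Mathlib
universe v u
namespace Groth.Agent.H5BoundedKaroubi
open CategoryTheory Limits Pretriangulated Triangulated

variable {C : Type u} [Category.{v} C] [Preadditive C] [HasZeroObject C] [HasShift C ℤ]
  [∀ n : ℤ, (shiftFunctor C n).Additive] [Pretriangulated C]

/-- an idempotent splits -/
def Spl {X : C} (p : X ⟶ X) : Prop := ∃ (Y : C) (s : Y ⟶ X) (r : X ⟶ Y), s ≫ r = 𝟙 Y ∧ r ≫ s = p

lemma conj {X : C} (p q : X ⟶ X) (hp : p ≫ p = p) (hq : q ≫ q = q) (h : (p - q) ≫ (p - q) = 0)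
    (hs : Spl q) : Spl p := by
  obtain ⟨Y, s, r, hsr, hrs⟩ := hs
  let u : X ⟶ X := p ≫ q + (𝟙 X - p) ≫ (𝟙 X - q)
  let v : X ⟶ X := q ≫ p + (𝟙 X - q) ≫ (𝟙 X - p)
  have h' : p - p ≫ q - q ≫ p + q = 0 := by
    simp only [Preadditive.sub_comp, Preadditive.comp_sub, hp, hq] at h
    rw [← h]; abel
  have e1 : ∀ {T : C} (f : X ⟶ T), p ≫ p ≫ f = p ≫ f := fun f => by rw [← Category.assoc, hp]
  have e2 : ∀ {T : C} (f : X ⟶ T), q ≫ q ≫ f = q ≫ f := fun f => by rw [← Category.assoc, hq]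
  have h'' : p ≫ q ≫ p = p ≫ q + (q ≫ p - q) - p + p ≫ q ≫ p := by
    rw [eq_comm, ← sub_eq_zero, ← neg_eq_zero, ← h']; abel
  have huv : u ≫ v = 𝟙 X := by
    simp only [u, v, Preadditive.add_comp, Preadditive.comp_add, Preadditive.sub_comp, Preadditive.comp_sub,
      Category.comp_id, Category.id_comp, Category.assoc, hp, hq, e1, e2]
    rw [← sub_eq_zero, ← neg_eq_zero, ← h']; abel
  have hvu : v ≫ u = 𝟙 X := by
    simp only [u, v, Preadditive.add_comp, Preadditive.comp_add, Preadditive.sub_comp, Preadditive.comp_sub,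
      Category.comp_id, Category.id_comp, Category.assoc, hp, hq, e1, e2]
    rw [← sub_eq_zero, ← neg_eq_zero, ← h']; abel
  have hc : u ≫ q = p ≫ u := by
    simp only [u, Preadditive.add_comp, Preadditive.comp_add, Preadditive.sub_comp, Preadditive.comp_sub,
      Category.comp_id, Category.id_comp, Category.assoc, hp, hq, e1]
    abel
  refine ⟨Y, s ≫ v, u ≫ r, ?_, ?_⟩
  · rw [Category.assoc, ← Category.assoc v, hvu, Category.id_comp, hsr]
  · rw [Category.assoc, ← Category.assoc r, hrs, ← Category.assoc, hc, Category.assoc, huv, Category.comp_id]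

lemma glue {L X R : C} (f : L ⟶ X) (g : X ⟶ R) (δ : R ⟶ L⟦(1 : ℤ)⟧) (hT : Triangle.mk f g δ ∈ distTriang C)
    (p : X ⟶ X) (hp : p ≫ p = p)
    (pL : L ⟶ L) (pR : R ⟶ R) (h1 : pL ≫ f = f ≫ p)
    (h2 : p ≫ g = g ≫ pR) (h3 : pR ≫ δ = δ ≫ pL⟦(1 : ℤ)⟧')
    (hL : Spl pL) (hR : Spl pR) : Spl p := by
  obtain ⟨L1, sL, rL, hsL, hrL⟩ := hL
  obtain ⟨R1, sR, rR, hsR, hrR⟩ := hR
  obtain ⟨X1, i, π, hT1⟩ := distinguished_cocone_triangle₂ (sR ≫ δ ≫ rL⟦(1 : ℤ)⟧')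
  have hpLr : pL ≫ rL = rL := by rw [← hrL, Category.assoc, hsL, Category.comp_id]
  have hpRs : sR ≫ pR = sR := by rw [← hrR, ← Category.assoc, hsR, Category.id_comp]
  have c1 : δ ≫ rL⟦(1 : ℤ)⟧' = rR ≫ sR ≫ δ ≫ rL⟦(1 : ℤ)⟧' := by
    rw [← Category.assoc rR, hrR, ← Category.assoc pR, h3, Category.assoc, ← Functor.map_comp, hpLr]
  have c2 : (sR ≫ δ ≫ rL⟦(1 : ℤ)⟧') ≫ sL⟦(1 : ℤ)⟧' = sR ≫ δ := by
    rw [Category.assoc, Category.assoc, ← Functor.map_comp, hrL, ← h3, ← Category.assoc, hpRs]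
  obtain ⟨r, hr1, hr2⟩ : ∃ r : X ⟶ X1, f ≫ r = rL ≫ i ∧ g ≫ rR = r ≫ π :=
    complete_distinguished_triangle_morphism₂ (Triangle.mk f g δ) _ hT hT1 rL rR c1
  obtain ⟨s, hs1, hs2⟩ : ∃ s : X1 ⟶ X, i ≫ s = sL ≫ f ∧ π ≫ sR = s ≫ g :=
    complete_distinguished_triangle_morphism₂ _ (Triangle.mk f g δ) hT1 hT sL sR c2
  have hw1 : i ≫ s ≫ r = i := by rw [← Category.assoc, hs1, Category.assoc, hr1, ← Category.assoc, hsL, Category.id_comp]
  have hw2 : (s ≫ r) ≫ π = π := by rw [Category.assoc, ← hr2, ← Category.assoc, ← hs2, Category.assoc, hsR, Category.comp_id]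
  haveI : IsIso (s ≫ r) := by
    let φ : Triangle.mk i π (sR ≫ δ ≫ rL⟦(1 : ℤ)⟧') ⟶ Triangle.mk i π (sR ≫ δ ≫ rL⟦(1 : ℤ)⟧') :=
      Triangle.homMk _ _ (𝟙 L1) (s ≫ r) (𝟙 R1)
        (hw1.trans (Category.id_comp _).symm)
        ((Category.comp_id _).trans hw2.symm)
        (((congrArg (fun z => (sR ≫ δ ≫ rL⟦(1 : ℤ)⟧') ≫ z) (CategoryTheory.Functor.map_id _ _)).trans (Category.comp_id _)).trans (Category.id_comp _).symm)
    exact isIso₂_of_isIso₁₃ φ hT1 hT1 (inferInstanceAs (IsIso (𝟙 L1))) (inferInstanceAs (IsIso (𝟙 R1)))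
  let w := inv (s ≫ r)
  have hi : i ≫ w = i := by rw [IsIso.comp_inv_eq]; exact hw1.symm
  have hπ : w ≫ π = π := by rw [IsIso.inv_comp_eq]; exact hw2.symm
  have hwsr : w ≫ s ≫ r = 𝟙 _ := IsIso.inv_hom_id _
  let q := r ≫ w ≫ s
  have hq : q ≫ q = q := by
    simp only [q, Category.assoc]
    rw [← Category.assoc s r, ← Category.assoc w (s ≫ r), hwsr, Category.id_comp]
  refine conj p q hp hq ?_ ⟨X1, w ≫ s, r, by rw [Category.assoc, hwsr], rfl⟩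
  have d1 : f ≫ (p - q) = 0 := by
    rw [Preadditive.comp_sub, ← h1, sub_eq_zero]
    simp only [q]
    rw [← Category.assoc f, hr1, Category.assoc, ← Category.assoc i, hi, hs1, ← Category.assoc, hrL]
  have d2 : (p - q) ≫ g = 0 := by
    rw [Preadditive.sub_comp, h2, sub_eq_zero]
    simp only [q, Category.assoc]
    rw [← hs2, ← Category.assoc w, hπ, ← Category.assoc r, ← hr2, Category.assoc, hrR]
  obtain ⟨k, hk⟩ : ∃ k : X ⟶ L, p - q = k ≫ f := Triangle.coyoneda_exact₂ _ hT (p - q) d2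
  nth_rewrite 1 [hk]
  rw [Category.assoc, d1, comp_zero]

variable [IsTriangulated C] (t : TStructure C)

lemma spl_heart (a : ℤ) (X : C) [t.IsGE X a] [t.IsLE X a] (p : X ⟶ X) (hp : p ≫ p = p) : Spl p := by
  obtain ⟨D, c, d, hT⟩ := distinguished_cocone_triangle (𝟙 X - p)
  haveI hX1 : t.IsLE (X⟦(1 : ℤ)⟧) (a - 1) := t.isLE_shift X a 1 (a - 1)
  haveI : t.IsLE D a := by
    exact t.isLE₂ _ (rot_of_distTriang _ hT) a (inferInstanceAs (t.IsLE X a))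
      (t.isLE_of_le (X⟦(1 : ℤ)⟧) (a - 1) a (by omega))
  let Q := (t.truncGE a).obj D
  let c' : X ⟶ Q := c ≫ (t.truncGEπ a).app D
  have hcc : (𝟙 X - p) ≫ c = 0 := comp_distTriang_mor_zero₁₂ _ hT
  have hext : ∀ (φ : Q ⟶ X), c' ≫ φ = 0 → φ = 0 := fun φ hφ => by
    have h0 : (t.truncGEπ a).app D ≫ φ = 0 := by
      obtain ⟨ψ, hψ⟩ : ∃ ψ : X⟦(1 : ℤ)⟧ ⟶ _, (t.truncGEπ a).app D ≫ φ = d ≫ ψ :=
        Triangle.yoneda_exact₃ _ hT ((t.truncGEπ a).app D ≫ φ) ((Category.assoc _ _ _).symm.trans hφ)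
      rw [hψ, t.zero_of_isLE_of_isGE ψ (a - 1) a (by omega) hX1 inferInstance, comp_zero]
    refine t.from_truncGE_obj_ext ?_
    rw [h0, comp_zero]
  have hextQ : ∀ (φ : Q ⟶ Q), c' ≫ φ = 0 → φ = 0 := fun φ hφ => by
    have h0 : (t.truncGEπ a).app D ≫ φ = 0 := by
      obtain ⟨ψ, hψ⟩ : ∃ ψ : X⟦(1 : ℤ)⟧ ⟶ _, (t.truncGEπ a).app D ≫ φ = d ≫ ψ :=
        Triangle.yoneda_exact₃ _ hT ((t.truncGEπ a).app D ≫ φ) ((Category.assoc _ _ _).symm.trans hφ)
      rw [hψ, t.zero_of_isLE_of_isGE ψ (a - 1) a (by omega) hX1 inferInstance, comp_zero]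
    refine t.from_truncGE_obj_ext ?_
    rw [h0, comp_zero]
  obtain ⟨s₀, hs₀⟩ : ∃ s₀ : D ⟶ X, p = c ≫ s₀ :=
    Triangle.yoneda_exact₂ _ hT p (by change (𝟙 X - p) ≫ p = 0; simp [hp])
  obtain ⟨s, hs⟩ : ∃ s : Q ⟶ X, c' ≫ s = p :=
    ⟨t.descTruncGE s₀ a, by rw [Category.assoc, t.π_descTruncGE, hs₀]⟩
  refine ⟨Q, s, c', sub_eq_zero.1 (hextQ _ ?_), hs⟩
  rw [Preadditive.comp_sub, ← Category.assoc, hs, Category.comp_id]
  have : p ≫ c' = c' := by
    rw [← sub_eq_zero, ← neg_eq_zero, neg_sub]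
    have := congrArg (fun z => z ≫ (t.truncGEπ a).app D) hcc
    simpa [c', Preadditive.sub_comp, Category.assoc] using this
  rw [this, sub_self]

lemma spl_bounded : ∀ (n : ℕ) (a : ℤ) (X : C) (_ : t.IsGE X a) (_ : t.IsLE X (a + n)) (p : X ⟶ X), p ≫ p = p → Spl p := by
  intro n
  induction n with
  | zero =>
    intro a X _ h2 p hp
    haveI : t.IsLE X a := by simpa using h2
    exact spl_heart t a X p hp
  | succ n ih =>
    intro a X h1' h2 p hp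
    haveI := h1'
    haveI := h2
    refine glue _ _ _ (t.triangleLEGT_distinguished a X) p hp
      ((t.truncLE a).map p) ((t.truncGT a).map p) ((t.truncLEι a).naturality p) ((t.truncGTπ a).naturality p)
      ((t.truncGTδLE a).naturality p) ?_ ?_
    · exact spl_heart t a ((t.truncLE a).obj X) _ (by rw [← Functor.map_comp, hp])
    · haveI := h2
      exact ih (a + 1) ((t.truncGT a).obj X) inferInstance
        (by rw [show a + 1 + (n : ℤ) = a + ((n + 1 : ℕ) : ℤ) by push_cast; ring]; infer_instance) _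
        (by rw [← Functor.map_comp, hp])

theorem main (hb : ∀ X : C, t.bounded X) : IsIdempotentComplete C := by
  refine ⟨fun X p hp => ?_⟩
  obtain ⟨⟨a, ha⟩, ⟨b, hb'⟩⟩ := hb X
  haveI : t.IsLE X (a + (b - a).toNat) := t.isLE_of_le X b _ (by omega)
  obtain ⟨Y, s, r, h1, h2⟩ := spl_bounded t (b - a).toNat a X ha inferInstance p hp
  exact ⟨Y, s, r, h1, h2⟩

end Groth.Agent.H5BoundedKaroubi
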