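import Mathlib
import Groth.Prelude.Def_CohDer

/-! # Brown representability for perfectly generated triangulated categories -/

universe w v u u'

namespace Groth.Agent.H5Brown
open CategoryTheory Limits Category Pretriangulated Opposite

variable {D : Type u} [Category.{v} D]

/-- pullback of elements -/
abbrev pb (H : Dᵒᵖ ⥤ AddCommGrpCat.{w}) {X Y : D} (f : X ⟶ Y) (y : H.obj (op Y)) : H.obj (op X) :=
  H.map f.op y

section pb
variable (H : Dᵒᵖ ⥤ AddCommGrpCat.{w})

lemma pb_id {X : D} (x : H.obj (op X)) : pb H (𝟙 X) x = x := by simp [pb]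

lemma pb_comp {X Y Z : D} (f : X ⟶ Y) (g : Y ⟶ Z) (z : H.obj (op Z)) :
    pb H (f ≫ g) z = pb H f (pb H g z) := by simp [pb]

variable [Preadditive D] [H.Additive]

lemma pb_zero {X Y : D} (y : H.obj (op Y)) : pb H (0 : X ⟶ Y) y = 0 := by simp [pb]

lemma pb_add {X Y : D} (f g : X ⟶ Y) (y : H.obj (op Y)) :
    pb H (f + g) y = pb H f y + pb H g y := by simp [pb, H.map_add]

lemma pb_sub {X Y : D} (f g : X ⟶ Y) (y : H.obj (op Y)) :
    pb H (f - g) y = pb H f y - pb H g y := by simp [pb, H.map_sub]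

end pb

/-- elements of `H` on a coproduct -/
lemma coprod_bijective (H : Dᵒᵖ ⥤ AddCommGrpCat.{v}) {J : Type*} (X : J → D) [HasCoproduct X]
    [PreservesLimitsOfShape (Discrete J) H] :
    Function.Bijective (fun (y : H.obj (op (∐ X))) j => pb H (Sigma.ι X j) y) := by
  have h := isLimitOfPreserves (H ⋙ forget AddCommGrpCat.{v})
    (Cofan.IsColimit.op (coproductIsCoproduct X))
  have := (Types.isLimit_iff _).1 ⟨h⟩
  constructor
  · intro a b hab
    obtain ⟨x, -, hx⟩ := this (fun j => pb H (Sigma.ι X j.as) a)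
      (fun {j k} φ => by
        obtain rfl : j = k := Discrete.ext (Discrete.eq_of_hom φ)
        simp)
    exact (hx a (fun j => rfl)).trans (hx b (fun j => (congrFun hab j.as).symm)).symm
  · intro f
    obtain ⟨x, hx, -⟩ := this (fun j => f j.as)
      (fun {j k} φ => by
        obtain rfl : j = k := Discrete.ext (Discrete.eq_of_hom φ)
        simp)
    exact ⟨x, funext fun j => hx ⟨j⟩⟩

section core
variable [Preadditive D] [HasZeroObject D] [HasShift D ℤ] [∀ n : ℤ, (shiftFunctor D n).Additive]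
  [Pretriangulated D]

/-- the hypotheses of Brown representability -/
structure Data [HasCoproducts.{v} D] [HasColimitsOfShape (Discrete ℕ) D] {κ : Type v} (E : κ → D)
    (H : Dᵒᵖ ⥤ AddCommGrpCat.{v}) : Prop where
  det : ∀ X : D, (∀ (i : κ) (f : E i ⟶ X), f = 0) → IsZero X
  shift : ∀ (i : κ) (n : ℤ), ∃ i', Nonempty (E i' ≅ (E i)⟦n⟧)
  fac : ∀ (X : ℕ → D) (i : κ) (α : E i ⟶ ∐ X), ∃ (j : ℕ → κ) (β : ∀ n, E (j n) ⟶ X n)
      (γ : E i ⟶ ∐ (fun n => E (j n))), α = γ ≫ Limits.Sigma.map β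
  exact : ∀ (T : Triangle D), T ∈ distTriang D → ∀ y, pb H T.mor₁ y = 0 →
      ∃ z, pb H T.mor₂ z = y
  prod : ∀ {J : Type v} (X : J → D),
      Function.Bijective (fun (y : H.obj (op (∐ X))) j => pb H (Sigma.ι X j) y)
  prodN : ∀ X : ℕ → D, Function.Bijective (fun (y : H.obj (op (∐ X))) n => pb H (Sigma.ι X n) y)

lemma exact_of_isHomological (H : Dᵒᵖ ⥤ AddCommGrpCat.{v}) [H.IsHomological]
    (T : Triangle D) (hT : T ∈ distTriang D) (y : H.obj (op T.obj₂)) (hy : pb H T.mor₁ y = 0) :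
    ∃ z, pb H T.mor₂ z = y :=
  (ShortComplex.ab_exact_iff _).1 (H.map_distinguished_exact _ (op_distinguished T hT)) y hy

variable [HasColimitsOfShape (Discrete ℕ) D] [HasCoproducts.{v} D]
  {κ : Type v} {E : κ → D} {H : Dᵒᵖ ⥤ AddCommGrpCat.{v}} [H.Additive] (hE : Data E H)

/-- `(X, π)` computes `H` on the generators -/
def OnGen (E : κ → D) (H : Dᵒᵖ ⥤ AddCommGrpCat.{v}) (X : D) (π : H.obj (op X)) : Prop :=
  ∀ i, Function.Bijective (fun f : E i ⟶ X => pb H f π)

include hE in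
omit [H.Additive] in
lemma pb_ext {J : Type v} {X : J → D} {y y' : H.obj (op (∐ X))}
    (h : ∀ j, pb H (Sigma.ι X j) y = pb H (Sigma.ι X j) y') : y = y' :=
  (hE.prod X).injective (funext h)

include hE in
omit [H.Additive] in
lemma pbN_ext {X : ℕ → D} {y y' : H.obj (op (∐ X))}
    (h : ∀ j, pb H (Sigma.ι X j) y = pb H (Sigma.ι X j) y') : y = y' :=
  (hE.prodN X).injective (funext h)

include hE in
omit [H.Additive] in
lemma exact' {A B C : D} {f : A ⟶ B} {g : B ⟶ C} {h : C ⟶ A⟦(1 : ℤ)⟧}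
    (hT : Triangle.mk f g h ∈ distTriang D) (y : H.obj (op B)) (hy : pb H f y = 0) :
    ∃ z : H.obj (op C), pb H g z = y :=
  hE.exact _ hT y hy

omit [HasColimitsOfShape (Discrete ℕ) D] [HasCoproducts.{v} D] in
lemma cex₂ {A B C W : D} {f : A ⟶ B} {g : B ⟶ C} {h : C ⟶ A⟦(1 : ℤ)⟧}
    (hT : Triangle.mk f g h ∈ distTriang D) (a : W ⟶ B) (ha : a ≫ g = 0) :
    ∃ b : W ⟶ A, a = b ≫ f :=
  Triangle.coyoneda_exact₂ _ hT a ha

omit [HasColimitsOfShape (Discrete ℕ) D] [HasCoproducts.{v} D] in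
lemma cex₃ {A B C W : D} {f : A ⟶ B} {g : B ⟶ C} {h : C ⟶ A⟦(1 : ℤ)⟧}
    (hT : Triangle.mk f g h ∈ distTriang D) (a : W ⟶ C) (ha : a ≫ h = 0) :
    ∃ b : W ⟶ B, a = b ≫ g :=
  Triangle.coyoneda_exact₃ _ hT a ha

/-- a property closed under coproducts and cones, and true on the generators -/
structure Closed (E : κ → D) (P : D → Prop) : Prop where
  gen : ∀ i, P (E i)
  coprod : ∀ {J : Type v} (X : J → D), (∀ j, P (X j)) → P (∐ X)
  coprodN : ∀ X : ℕ → D, (∀ j, P (X j)) → P (∐ X)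
  cone : ∀ (T : Triangle D), T ∈ distTriang D → P T.obj₁ → P T.obj₂ → P T.obj₃

lemma closed_true (E : κ → D) : Closed E (fun _ => True) :=
  ⟨fun _ => trivial, fun _ _ => trivial, fun _ _ => trivial, fun _ _ _ _ => trivial⟩

include hE in
omit [H.Additive] in
lemma exists_step {Pr : D → Prop} (hPr : Closed E Pr) (X : D) (π : H.obj (op X)) :
    ∃ (X' : D) (φ : X ⟶ X') (π' : H.obj (op X')), pb H φ π' = π ∧
      (∀ i (f : E i ⟶ X), pb H f π = 0 → f ≫ φ = 0) ∧ (Pr X → Pr X') := by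
  let K := Σ i, { f : E i ⟶ X // pb H f π = 0 }
  let p : (∐ fun k : K => E k.1) ⟶ X := Sigma.desc fun k => k.2.1
  obtain ⟨X', φ, h, hT⟩ := distinguished_cocone_triangle p
  have hp : pb H p π = 0 := pb_ext hE fun k => by
    rw [← pb_comp, Sigma.ι_desc, k.2.2]; simp [pb]
  obtain ⟨π', hπ'⟩ := exact' hE hT π hp
  refine ⟨X', φ, π', hπ', fun i f hf => ?_,
    fun hX => hPr.cone _ hT (hPr.coprod _ fun k => hPr.gen k.1) hX⟩
  have h0 : p ≫ φ = 0 := comp_distTriang_mor_zero₁₂ _ hT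
  have := congrArg (Sigma.ι (fun k : K => E k.1) ⟨i, f, hf⟩ ≫ ·) h0
  simpa [p] using this

include hE in
/-- a pair mapping to `(X₀, π₀)` and computing `H` on the generators -/
lemma exists_onGen {Pr : D → Prop} (hPr : Closed E Pr) (X₀ : D) (π₀ : H.obj (op X₀))
    (h₀ : ∀ i (x : H.obj (op (E i))), ∃ f : E i ⟶ X₀, pb H f π₀ = x) :
    ∃ (X : D) (j : X₀ ⟶ X) (π : H.obj (op X)), pb H j π = π₀ ∧ OnGen E H X π ∧
      (Pr X₀ → Pr X) := by
  choose S Φ P hP hK hPS using fun q : Σ X : D, ↥(H.obj (op X)) => exists_step hE hPr q.1 q.2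
  let seq : ℕ → Σ X : D, ↥(H.obj (op X)) :=
    fun n => Nat.rec ⟨X₀, π₀⟩ (fun _ q => ⟨S q, P q⟩) n
  let X : ℕ → D := fun n => (seq n).1
  let π : ∀ n, ↥(H.obj (op (X n))) := fun n => (seq n).2
  let φ : ∀ n, X n ⟶ X (n + 1) := fun n => Φ (seq n)
  have hφ : ∀ n, pb H (φ n) (π (n + 1)) = π n := fun n => hP (seq n)
  have hker : ∀ n i (f : E i ⟶ X n), pb H f (π n) = 0 → f ≫ φ n = 0 := fun n => hK (seq n)
  -- the telescope
  let s : ∐ X ⟶ ∐ X := Sigma.desc fun n => Sigma.ι X n - φ n ≫ Sigma.ι X (n + 1)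
  obtain ⟨Xi, ρ, δ, hT⟩ := distinguished_cocone_triangle s
  obtain ⟨piN, hpi⟩ := (hE.prodN X).surjective π
  have hpiN : ∀ n, pb H (Sigma.ι X n) piN = π n := fun n => congrFun hpi n
  obtain ⟨πi, hπi⟩ := exact' hE hT piN (pbN_ext hE fun n => by
    rw [← pb_comp]
    simp [s, pb_sub, pb_comp, hpiN, hφ])
  let ρn : ∀ n, X n ⟶ Xi := fun n => Sigma.ι X n ≫ ρ
  have hρπ : ∀ n, pb H (ρn n) πi = π n := fun n => by
    rw [pb_comp]; exact (congrArg _ hπi).trans (hpiN n)
  have hρφ : ∀ n, φ n ≫ ρn (n + 1) = ρn n := fun n => by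
    have h0 : s ≫ ρ = 0 := comp_distTriang_mor_zero₁₂ _ hT
    have := congrArg (Sigma.ι X n ≫ ·) h0
    simp only [s, Sigma.ι_desc_assoc, Preadditive.sub_comp, comp_zero, sub_eq_zero, assoc] at this
    exact this.symm
  -- lifts in `X₀`
  let up : ∀ n, X₀ ⟶ X n := fun n => Nat.rec (𝟙 X₀) (fun k a => a ≫ φ k) n
  have hup : ∀ n, pb H (up n) (π n) = π₀ := fun n => by
    induction n with
    | zero => exact pb_id H _
    | succ k ih =>
      show pb H (up k ≫ φ k) _ = _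
      rw [pb_comp, hφ, ih]
  have hupρ : ∀ n, up n ≫ ρn n = ρn 0 := fun n => by
    induction n with
    | zero => exact id_comp _
    | succ k ih =>
      show (up k ≫ φ k) ≫ _ = _
      rw [assoc, hρφ, ih]
  have hlift : ∀ n i (f : E i ⟶ X n), ∃ f' : E i ⟶ X₀, f ≫ ρn n = f' ≫ ρn 0 ∧
      pb H f' π₀ = pb H f (π n) := fun n i f => by
    obtain ⟨f', hf'⟩ := h₀ i (pb H f (π n))
    refine ⟨f', ?_, hf'⟩
    have h1 : pb H (f - f' ≫ up n) (π n) = 0 := by rw [pb_sub, pb_comp, hup, hf', sub_self]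
    have h2 := hker n i _ h1
    rw [← hupρ n, ← sub_eq_zero, ← hρφ n, ← assoc f', ← Preadditive.sub_comp, ← assoc, h2,
      zero_comp]
  -- (a) `1 - shift` is injective on maps out of generators
  have hinj : ∀ i (g : E i ⟶ ∐ X), g ≫ s = 0 → g = 0 := by
    intro i g hg
    let R : ∐ X ⟶ ∐ fun _ : ℕ => Xi :=
      Sigma.desc fun n => - ∑ m ∈ Finset.range n, ρn n ≫ Sigma.ι (fun _ : ℕ => Xi) m
    have hsR : s ≫ R = Limits.Sigma.map ρn := by
      refine Sigma.hom_ext _ _ fun n => ?_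
      rw [show Sigma.ι X n ≫ s ≫ R = (Sigma.ι X n ≫ s) ≫ R from (assoc _ _ _).symm]
      simp only [s, R, Sigma.ι_desc, Preadditive.sub_comp, assoc, Preadditive.comp_neg,
        Preadditive.comp_sum, Sigma.ι_map]
      simp only [reassoc_of% hρφ, Finset.sum_range_succ]
      abel
    have hgR : g ≫ Limits.Sigma.map ρn = 0 := by rw [← hsR, ← assoc, hg, zero_comp]
    choose C c hc using fun n => distinguished_cocone_triangle₁ (ρn n)
    choose d hd using hc
    obtain ⟨Q, q, q', hQ⟩ := distinguished_cocone_triangle (Limits.Sigma.map c)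
    have hψ : ∀ n, ∃ ψ : Xi ⟶ Q, ρn n ≫ ψ = Sigma.ι X n ≫ q := fun n => by
      obtain ⟨ψ, hψ, -⟩ := Pretriangulated.complete_distinguished_triangle_morphism _ _ (hd n) hQ
        (Sigma.ι C n) (Sigma.ι X n) (Sigma.ι_map c n).symm
      exact ⟨ψ, hψ⟩
    choose ψ hψ using hψ
    have hq : Limits.Sigma.map ρn ≫ Sigma.desc ψ = q := Sigma.hom_ext _ _ fun n => by
      simp [hψ]
    obtain ⟨g', hg'⟩ := cex₂ hQ g
      (by rw [← hq, ← assoc, hgR, zero_comp])
    obtain ⟨jn, β, γ, hγ⟩ := hE.fac C i g'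
    have hφ0 : g ≫ Limits.Sigma.map φ = 0 := by
      have : ∀ n, β n ≫ c n ≫ φ n = 0 := fun n => by
        rw [← assoc]
        refine hker n _ _ ?_
        have h0 : c n ≫ ρn n = 0 := comp_distTriang_mor_zero₁₂ _ (hd n)
        rw [← hρπ n, ← pb_comp, assoc, h0, comp_zero, pb_zero]
      have h0 : Limits.Sigma.map β ≫ Limits.Sigma.map c ≫ Limits.Sigma.map φ = 0 :=
        Sigma.hom_ext _ _ fun n => by simp [reassoc_of% this n]
      rw [hg']
      rw [hγ]
      simp only [assoc, h0, comp_zero]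
    have hs : s = 𝟙 _ - Limits.Sigma.map φ ≫
        Sigma.desc (fun n => Sigma.ι X (n + 1)) := Sigma.hom_ext _ _ fun n => by simp [s]
    rw [hs, Preadditive.comp_sub, comp_id, ← assoc, hφ0, zero_comp, sub_zero] at hg
    exact hg
  refine ⟨Xi, ρn 0, πi, hρπ 0, fun i => ⟨?_, fun x => ?_⟩, fun h => ?_⟩
  · -- injective
    intro f f' hff'
    rw [← sub_eq_zero]
    set e := f - f' with he
    have hz : pb H e πi = 0 := by rw [he, pb_sub]; exact sub_eq_zero.2 hff'
    clear_value e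
    clear hff' he f f'
    have hd0 : e ≫ δ = 0 := by
      obtain ⟨i', ⟨u⟩⟩ := hE.shift i (-1)
      let θ := shiftFunctorCompIsoId D (1 : ℤ) (-1) (by omega)
      have h31 : δ ≫ s⟦(1 : ℤ)⟧' = 0 := comp_distTriang_mor_zero₃₁ _ hT
      have hk : (u.hom ≫ (e ≫ δ)⟦(-1 : ℤ)⟧' ≫ θ.hom.app _) ≫ s = 0 := by
        have hn := θ.hom.naturality s
        simp only [Functor.comp_map, Functor.id_map] at hn
        rw [assoc, assoc, ← hn, ← Functor.map_comp_assoc, assoc, h31, comp_zero,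
          Functor.map_zero, zero_comp, comp_zero]
      have := hinj i' _ hk
      rw [← comp_zero (f := u.hom), cancel_epi, ← zero_comp (f := θ.hom.app (∐ X)), cancel_mono,
        ← (shiftFunctor D (-1 : ℤ)).map_zero] at this
      exact (shiftFunctor D (-1 : ℤ)).map_injective this
    obtain ⟨g, hg⟩ := cex₃ hT e hd0
    obtain ⟨jn, β, γ, hγ⟩ := hE.fac X i g
    choose f' hf1 hf2 using fun n => hlift n _ (β n)
    have hb : Limits.Sigma.map β ≫ ρ = Sigma.desc f' ≫ ρn 0 := Sigma.hom_ext _ _ fun n => by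
      rw [Sigma.ι_map_assoc, Sigma.ι_desc_assoc]; exact hf1 n
    have he : e = (γ ≫ Sigma.desc f') ≫ ρn 0 := by
      rw [assoc, ← hb, ← assoc, ← hγ]; exact hg
    have h0 : pb H (γ ≫ Sigma.desc f') π₀ = 0 := by
      rw [← hz, he, pb_comp (g := ρn 0), hρπ 0]; rfl
    rw [he, ← hρφ 0, ← assoc, hker 0 i _ h0, zero_comp]
  · obtain ⟨f, hf⟩ := h₀ i x
    exact ⟨f ≫ ρn 0, by show pb H _ πi = x; rw [pb_comp, hρπ 0]; exact hf⟩
  · have hX : ∀ n, Pr (X n) := fun n => by
      induction n with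
      | zero => exact h
      | succ k ih => exact hPS (seq k) ih
    exact hPr.cone _ hT (hPr.coprodN _ hX) (hPr.coprodN _ hX)

include hE in
omit [H.Additive] in
lemma isIso_of_onGen {X X' : D} {π : H.obj (op X)} {π' : H.obj (op X')} (j : X ⟶ X')
    (hj : pb H j π' = π) (h : OnGen E H X π) (h' : OnGen E H X' π') : IsIso j := by
  have hb : ∀ i, Function.Bijective (fun f : E i ⟶ X => f ≫ j) := fun i => by
    have : (fun f : E i ⟶ X' => pb H f π') ∘ (fun f : E i ⟶ X => f ≫ j) = fun f => pb H f π :=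
      funext fun f => by simp only [Function.comp, pb_comp, hj]
    exact ((Function.Bijective.of_comp_iff' (h' i) _).1 (this ▸ h i))
  obtain ⟨Z, a, b, hT⟩ := distinguished_cocone_triangle j
  refine ((Triangle.isZero₃_iff_isIso₁ _ hT).1 ?_)
  refine hE.det Z fun i f => ?_
  have hfb : f ≫ b = 0 := by
    obtain ⟨i', ⟨u⟩⟩ := hE.shift i (-1)
    let θ := shiftFunctorCompIsoId D (1 : ℤ) (-1) (by omega)
    have h31 : b ≫ j⟦(1 : ℤ)⟧' = 0 := comp_distTriang_mor_zero₃₁ _ hT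
    have hn := θ.hom.naturality j
    simp only [Functor.comp_map, Functor.id_map] at hn
    have hk : (u.hom ≫ (f ≫ b)⟦(-1 : ℤ)⟧' ≫ θ.hom.app _) ≫ j = 0 := by
      rw [assoc, assoc, ← hn, ← Functor.map_comp_assoc, assoc, h31, comp_zero,
        Functor.map_zero, zero_comp, comp_zero]
    have hk' := (hb i').1 (hk.trans zero_comp.symm)
    rw [← comp_zero (f := u.hom), cancel_epi, ← zero_comp (f := θ.hom.app X), cancel_mono,
      ← (shiftFunctor D (-1 : ℤ)).map_zero] at hk'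
    exact (shiftFunctor D (-1 : ℤ)).map_injective hk'
  obtain ⟨g, hg⟩ := cex₃ hT f hfb
  obtain ⟨g', hg'⟩ := (hb i).2 g
  rw [hg, ← hg']
  show (g' ≫ j) ≫ a = 0
  rw [assoc, show j ≫ a = 0 from comp_distTriang_mor_zero₁₂ _ hT, comp_zero]

include hE in
theorem representable : ∃ (X : D) (π : H.obj (op X)),
    ∀ Y : D, Function.Bijective (fun f : Y ⟶ X => pb H f π) := by
  let K := Σ i, ↥(H.obj (op (E i)))
  obtain ⟨π₀, hπ₀⟩ := (hE.prod fun k : K => E k.1).surjective fun k => k.2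
  obtain ⟨X, -, π, -, hX, -⟩ := exists_onGen hE (closed_true E) _ π₀
    (fun i x => ⟨Sigma.ι (fun k : K => E k.1) ⟨i, x⟩, congrFun hπ₀ _⟩)
  have surj : ∀ (Y : D) (y : H.obj (op Y)), ∃ f : Y ⟶ X, pb H f π = y := by
    intro Y y
    let W : ULift.{v} Bool → D := fun k => match k.down with
      | true => X
      | false => Y
    obtain ⟨w, hw⟩ := (hE.prod W).surjective fun k => match k with
      | ⟨true⟩ => π
      | ⟨false⟩ => y
    have hw1 : pb H (Sigma.ι W ⟨true⟩) w = π := congrFun hw ⟨true⟩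
    have hw2 : pb H (Sigma.ι W ⟨false⟩) w = y := congrFun hw ⟨false⟩
    obtain ⟨X', j, π', hj, hX', -⟩ := exists_onGen hE (closed_true E) _ w (fun i x => by
      obtain ⟨g, hg⟩ := (hX i).2 x
      exact ⟨g ≫ Sigma.ι W ⟨true⟩, by rw [pb_comp, hw1]; exact hg⟩)
    have hjX : pb H (Sigma.ι W ⟨true⟩ ≫ j) π' = π := by rw [pb_comp, hj, hw1]
    have := isIso_of_onGen hE _ hjX hX hX'
    refine ⟨(Sigma.ι W ⟨false⟩ ≫ j) ≫ inv (Sigma.ι W ⟨true⟩ ≫ j), ?_⟩
    rw [pb_comp, ← hjX, ← pb_comp H (inv _), IsIso.inv_hom_id, pb_id, pb_comp, hj, hw2]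
  refine ⟨X, π, fun Y => ⟨fun f f' hff' => ?_, surj Y⟩⟩
  rw [← sub_eq_zero]
  set e := f - f' with he
  have hz : pb H e π = 0 := by rw [he, pb_sub]; exact sub_eq_zero.2 hff'
  clear_value e
  obtain ⟨Z, a, b, hT⟩ := distinguished_cocone_triangle e
  obtain ⟨z, hz'⟩ := exact' hE hT π hz
  obtain ⟨r, hr⟩ := surj Z z
  have : IsIso (a ≫ r) := isIso_of_onGen hE (a ≫ r) (by rw [pb_comp, hr]; exact hz') hX hX
  have h0 : e ≫ a = 0 := comp_distTriang_mor_zero₁₂ _ hT
  rw [← cancel_mono (a ≫ r), ← assoc, h0, zero_comp, zero_comp]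

include hE in
theorem isRepresentable : (H ⋙ forget AddCommGrpCat.{v}).IsRepresentable := by
  obtain ⟨X, π, h⟩ := representable hE
  exact Functor.RepresentableBy.isRepresentable (Y := X)
    { homEquiv := fun {Y} => Equiv.ofBijective _ (h Y)
      homEquiv_comp := fun f g => pb_comp H f g π }

end core

section apps

variable [Preadditive D] [HasZeroObject D] [HasShift D ℤ] [∀ n : ℤ, (shiftFunctor D n).Additive]
  [Pretriangulated D] [HasCoproducts.{v} D] [HasColimitsOfShape (Discrete ℕ) D]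

/-- detection and factorisation for a family -/
def Perfect {ι : Type v} (E : ι → D) : Prop :=
  (∀ X : D, ¬ IsZero X → ∃ (i : ι) (n : ℤ) (f : (E i)⟦n⟧ ⟶ X), f ≠ 0) ∧
    ∀ (X : ℕ → D) (i : ι) (α : E i ⟶ ∐ X), ∃ (j : ℕ → ι) (β : ∀ n, E (j n) ⟶ X n)
      (γ : E i ⟶ ∐ (fun n => E (j n))), α = γ ≫ Limits.Sigma.map β

omit [Pretriangulated D] [HasCoproducts.{v} D] in
lemma perfect_of {ι : Type v} {E : ι → D} [HasCoproducts.{v} D] [Pretriangulated D]
    (h1 : ∀ X : D, ¬ IsZero X → ∃ (i : ι) (f : E i ⟶ X), f ≠ 0)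
    (h2 : ∀ (X : ℕ → D) (i : ι) (α : E i ⟶ ∐ X), ∃ (j : ℕ → ι) (β : ∀ n, E (j n) ⟶ X n)
      (γ : E i ⟶ ∐ (fun n => E (j n))), α = γ ≫ Limits.Sigma.map β) : Perfect E :=
  ⟨fun X hX => by
    obtain ⟨i, f, hf⟩ := h1 X hX
    exact ⟨i, 0, (shiftFunctorZero D ℤ).hom.app (E i) ≫ f, fun h => hf (by
      rw [← cancel_epi ((shiftFunctorZero D ℤ).hom.app (E i)), h, comp_zero])⟩, h2⟩

lemma Perfect.data {ι : Type v} {E : ι → D} (hP : Perfect E) (H : Dᵒᵖ ⥤ AddCommGrpCat.{v})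
    (hex : ∀ (T : Triangle D), T ∈ distTriang D → ∀ y, pb H T.mor₁ y = 0 →
      ∃ z, pb H T.mor₂ z = y)
    [∀ (J : Type v), PreservesLimitsOfShape (Discrete J) H] :
    Data (fun p : ι × ULift.{v} ℤ => (E p.1)⟦p.2.down⟧) H where
  det X hX := by
    by_contra h
    obtain ⟨i, n, f, hf⟩ := hP.1 X h
    exact hf (hX ⟨i, ⟨n⟩⟩ f)
  shift p m := ⟨⟨p.1, ⟨p.2.down + m⟩⟩, ⟨(shiftFunctorAdd D p.2.down m).app (E p.1)⟩⟩
  fac X p α := by
    obtain ⟨i, ⟨n⟩⟩ := p
    let S := shiftFunctor D n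
    let T := shiftFunctor D (-n)
    let θ : T ⋙ S ≅ 𝟭 D := shiftFunctorCompIsoId D (-n) n (by omega)
    have : S.IsEquivalence := inferInstance
    have hu : IsIso (sigmaComparison S fun k => T.obj (X k)) := inferInstance
    let c : S.obj (∐ fun k => T.obj (X k)) ≅ ∐ X :=
      (@asIso _ _ _ _ _ hu).symm ≪≫ Limits.Sigma.mapIso (fun k => θ.app (X k))
    obtain ⟨α', hα'⟩ := S.map_surjective (α ≫ c.inv)
    obtain ⟨j, β, γ, hγ⟩ := hP.2 _ i α'
    let c' : S.obj (∐ fun k => E (j k)) ≅ ∐ fun k => S.obj (E (j k)) :=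
      (asIso (sigmaComparison S fun k => E (j k))).symm
    refine ⟨fun k => ⟨j k, ⟨n⟩⟩, fun k => S.map (β k) ≫ θ.hom.app (X k), S.map γ ≫ c'.hom, ?_⟩
    rw [← cancel_mono c.inv, ← hα', hγ, S.map_comp, assoc, assoc]
    congr 1
    rw [← cancel_epi c'.inv, Iso.inv_hom_id_assoc]
    refine Sigma.hom_ext _ _ fun k => ?_
    simp only [c, c', Iso.symm_inv, asIso_hom, ι_comp_sigmaComparison_assoc, Iso.trans_inv,
      Sigma.ι_map_assoc, assoc]
    have hk : θ.hom.app (X k) ≫ Sigma.ι X k ≫ (Limits.Sigma.mapIso fun k => θ.app (X k)).inv =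
        Sigma.ι (fun k => S.obj (T.obj (X k))) k := by
      rw [← assoc, Iso.comp_inv_eq]; simp
    rw [reassoc_of% hk, ι_comp_sigmaComparison, ← S.map_comp, ← S.map_comp, Sigma.ι_map]
  exact := hex
  prod X := coprod_bijective H X
  prodN X :=
    have : PreservesLimitsOfShape (Discrete ℕ) H :=
      preservesLimitsOfShape_of_equiv (Discrete.equivalence Equiv.ulift.{v}) H
    coprod_bijective H X

theorem isRepresentable_of_perfect {ι : Type v} {E : ι → D} (hP : Perfect E)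
    (H : Dᵒᵖ ⥤ AddCommGrpCat.{v}) [H.IsHomological]
    [∀ (J : Type v), PreservesLimitsOfShape (Discrete J) H] :
    (H ⋙ forget AddCommGrpCat.{v}).IsRepresentable :=
  have : H.Additive := inferInstance
  isRepresentable (hP.data H (exact_of_isHomological H))

theorem isLeftAdjoint_of_perfect {ι : Type v} {E : ι → D} (hP : Perfect E)
    {D' : Type u'} [Category.{v} D'] [Preadditive D'] [HasZeroObject D'] [HasShift D' ℤ]
    [∀ n : ℤ, (shiftFunctor D' n).Additive] [Pretriangulated D']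
    (F : D ⥤ D') [F.CommShift ℤ] [F.IsTriangulated]
    [∀ (J : Type v), PreservesColimitsOfShape (Discrete J) F] : F.IsLeftAdjoint := by
  have key : ∀ Y : D', ((F.op ⋙ preadditiveYoneda.obj Y) ⋙ forget _).IsRepresentable := fun Y => by
    have hex : ∀ (T : Triangle D), T ∈ distTriang D → ∀ y,
        pb (F.op ⋙ preadditiveYoneda.obj Y) T.mor₁ y = 0 →
        ∃ z, pb (F.op ⋙ preadditiveYoneda.obj Y) T.mor₂ z = y := fun T hT y hy => by
      obtain ⟨z, hz⟩ := Triangle.yoneda_exact₂ _ (F.map_distinguished T hT) y hy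
      exact ⟨z, hz.symm⟩
    have : ∀ (J : Type v), PreservesLimitsOfShape (Discrete J) (F.op ⋙ preadditiveYoneda.obj Y) := by
      intro J
      have : PreservesColimitsOfShape (Discrete J)ᵒᵖ F :=
        preservesColimitsOfShape_of_equiv (Discrete.opposite J).symm F
      have : PreservesLimitsOfShape (Discrete J) F.op := preservesLimitsOfShape_op _ F
      infer_instance
    exact isRepresentable (hP.data _ hex)
  let R := fun Y => ((F.op ⋙ preadditiveYoneda.obj Y) ⋙ forget _).reprX (hF := key Y)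
  let e : ∀ X Y, (F.obj X ⟶ Y) ≃ (X ⟶ R Y) := fun X Y =>
    (Functor.representableBy ((F.op ⋙ preadditiveYoneda.obj Y) ⋙ forget _) (hF := key Y)).homEquiv.symm
  have he : ∀ X' X Y (f : X' ⟶ X) (g : F.obj X ⟶ Y),
      e X' Y (F.map f ≫ g) = f ≫ e X Y g := fun X' X Y f g =>
    (Functor.RepresentableBy.comp_homEquiv_symm
      (Functor.representableBy ((F.op ⋙ preadditiveYoneda.obj Y) ⋙ forget _) (hF := key Y))
      g f).symm
  exact (Adjunction.adjunctionOfEquivRight e he).isLeftAdjoint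

omit [Pretriangulated D] in
/-- a compactly generated category is perfectly generated -/
lemma exists_perfect (hD : CohDer.IsCompactlyGenerated.{v} D) :
    ∃ (ι : Type v) (E : ι → D), Perfect E := by
  classical
  obtain ⟨ι, E, hc, hg⟩ := hD
  refine ⟨ι, E, fun X hX => ?_, fun X i α => ?_⟩
  · by_contra h
    push Not at h
    refine hX (hg X fun i n f => ?_)
    let θ := shiftFunctorCompIsoId D n (-n) (by omega)
    have := h i (-n) (f⟦-n⟧' ≫ θ.hom.app X)
    rw [← zero_comp (f := θ.hom.app X), cancel_mono, ← (shiftFunctor D (-n)).map_zero] at this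
    exact (shiftFunctor D (-n)).map_injective this
  · let c : (∐ fun k : ULift.{v} ℕ => X k.down) ≅ ∐ X := Sigma.reindex Equiv.ulift X
    obtain ⟨s, hs⟩ := (hc i (ULift.{v} ℕ) fun k => X k.down).2 (α ≫ c.inv)
    refine ⟨fun _ => i, fun n => s ⟨n⟩,
      ∑ k ∈ s.support, Sigma.ι (fun _ : ℕ => E i) k.down, ?_⟩
    have hα : α = ∑ k ∈ s.support, (s k) ≫ Sigma.ι X k.down := by
      rw [← cancel_mono c.inv, ← hs, Preadditive.sum_comp]
      have : CohDer.homSumToHomCoprod (E i) (fun k : ULift.{v} ℕ => X k.down) s =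
          ∑ k ∈ s.support, (s k) ≫ Sigma.ι (fun k : ULift.{v} ℕ => X k.down) k := by
        conv_lhs => rw [← DirectSum.sum_support_of s]
        simp only [CohDer.homSumToHomCoprod, map_sum]
        refine Finset.sum_congr rfl fun k _ => ?_
        exact (DirectSum.toAddMonoid_of (β := fun k : ULift.{v} ℕ => E i ⟶ X k.down)
          (fun k => Preadditive.rightComp (E i) (Sigma.ι (fun k : ULift.{v} ℕ => X k.down) k))
          k (s k))
      rw [this]
      refine Finset.sum_congr rfl fun k _ => ?_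
      rw [assoc]
      congr 1
      rw [Iso.eq_comp_inv]
      exact Sigma.ι_reindex_hom Equiv.ulift X k
    rw [hα, Preadditive.sum_comp]
    simp

/-- a property closed under coproducts and cones which holds on a generating family holds everywhere -/
theorem mem_of_closed {ι : Type v} {E : ι → D} (hP : Perfect E) {Pr : D → Prop}
    (hPr : Closed (fun p : ι × ULift.{v} ℤ => (E p.1)⟦p.2.down⟧) Pr)
    (hiso : ∀ {X Y : D}, (X ≅ Y) → Pr X → Pr Y) (M : D) : Pr M := by
  let H := preadditiveYoneda.obj M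
  have hd := hP.data H (fun T hT y hy => by
    obtain ⟨z, hz⟩ := Triangle.yoneda_exact₂ T hT y hy
    exact ⟨z, hz.symm⟩)
  let E' := fun p : ι × ULift.{v} ℤ => (E p.1)⟦p.2.down⟧
  let K := Σ i, ↥(H.obj (op (E' i)))
  obtain ⟨π₀, hπ₀⟩ := (hd.prod fun k : K => E' k.1).surjective fun k => k.2
  obtain ⟨X, -, π, -, hX, hPX⟩ := exists_onGen hd hPr _ π₀
    (fun i x => ⟨Sigma.ι (fun k : K => E' k.1) ⟨i, x⟩, congrFun hπ₀ _⟩)
  have hM : OnGen E' H M (𝟙 M) := fun i => by
    have : (fun f : E' i ⟶ M => pb H f (𝟙 M)) = id := funext fun f => comp_id f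
    rw [this]; exact Function.bijective_id
  have := isIso_of_onGen hd (π' := (𝟙 M : M ⟶ M)) (π : X ⟶ M) (comp_id _) hX hM
  exact hiso (asIso (π : X ⟶ M)) (hPX (hPr.coprod _ fun k => hPr.gen k.1))

end apps
end Groth.Agent.H5Brown
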