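import Groth.Agent.Lib.H5Brown
import Groth.Agent.Lib.H5KInjApps

universe w v u u'

namespace Groth.Agent.H5BrownGroth
open CategoryTheory Limits Category Pretriangulated Opposite
open scoped ZeroObject
open Groth.Agent

section small
variable {A : Type u} [Category.{v} A] [Abelian A]

attribute [local instance] HasDerivedCategory.standard in
/-- enough K-injectives make the derived category locally small -/
lemma exists_hasDerivedCategory (h : H5KApps.EnoughKInj A) : Nonempty (HasDerivedCategory.{v} A) := by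
  have R := H5KApps.resolving_Q h
  let W := HomologicalComplex.quasiIso A (ComplexShape.up ℤ)
  have : LocallySmall.{v} (DerivedCategory A) := ⟨fun Y Z => by
    let P := DerivedCategory.Q.objPreimage Y
    let e := DerivedCategory.Q.objObjPreimageIso Y
    refine small_of_surjective (f := fun f : P ⟶ R.res Z =>
      e.inv ≫ DerivedCategory.Q.map f ≫ (R.resIso Z).hom) (fun φ => ?_)
    obtain ⟨f, hf⟩ := R.surj P _ (R.res_mem Z) (e.hom ≫ φ ≫ (R.resIso Z).inv)
    exact ⟨f, by simp [hf]⟩⟩
  let E := ShrinkHoms.equivalence (DerivedCategory A)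
  have : (DerivedCategory.Q (C := A) ⋙ E.functor).IsLocalization W :=
    Functor.IsLocalization.of_equivalence_target DerivedCategory.Q W _ E (Iso.refl _)
  exact ⟨{ L := DerivedCategory.Q ⋙ E.functor }⟩

variable [IsGrothendieckAbelian.{v} A] [HasDerivedCategory.{v} A]

lemma sigma_Q {T : Type v} (K : T → CochainComplex A ℤ) :
    Nonempty (IsColimit (Cofan.mk (DerivedCategory.Q.obj (∐ K))
      (fun t => DerivedCategory.Q.map (Sigma.ι K t)))) := by
  have R := H5KApps.resolving_Q (A := A) H5KApps.enoughKInj_of_grothendieck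
  refine ⟨Cofan.IsColimit.mk _ (fun s => DerivedCategory.Q.map
    (Sigma.desc fun t => R.lift (R.res_mem s.pt) (s.inj t ≫ (R.resIso s.pt).inv)) ≫
      (R.resIso s.pt).hom) (fun s t => ?_) (fun s u hu => ?_)⟩
  · simp [Cofan.mk, Cofan.inj, ← Functor.map_comp_assoc]
  · have : (R.res s.pt).IsKInjective := R.res_mem _
    obtain ⟨f, hf⟩ := R.surj _ _ (R.res_mem s.pt) (u ≫ (R.resIso s.pt).inv)
    rw [← Iso.comp_inv_eq, ← hf, H5KApps.Q_map_eq_iff]
    refine H5KApps.homotopy_sigma K _ _ (fun t => (H5KApps.Q_map_eq_iff _ _).1 ?_)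
    rw [Functor.map_comp, Sigma.ι_desc, R.map_lift, hf, ← hu t]
    simp [Cofan.mk, Cofan.inj]

end small

section modules

variable (R : Type v) [Ring R]

/-- the complex `R` in degree `n` -/
noncomputable abbrev RS (n : ℤ) : CochainComplex (ModuleCat.{v} R) ℤ :=
  (HomologicalComplex.single (ModuleCat.{v} R) (ComplexShape.up ℤ) n).obj (ModuleCat.of R R)

instance isKProjective_RS (n : ℤ) : (RS R n).IsKProjective := by
  have : ∀ m, Projective ((RS R n).X m) := fun m => by
    by_cases h : m = n
    · subst h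
      exact Projective.of_iso (HomologicalComplex.singleObjXSelf (ComplexShape.up ℤ) m _).symm
        inferInstance
    · exact ⟨fun _ _ _ => ⟨0, (HomologicalComplex.isZero_single_obj_X _ _ _ _ h).eq_of_src _ _⟩⟩
  exact CochainComplex.isKProjective_of_projective _ n

variable {R} [HasDerivedCategory.{v} (ModuleCat.{v} R)]

lemma surj_RS {n : ℤ} {K : CochainComplex (ModuleCat.{v} R) ℤ}
    (φ : DerivedCategory.Q.obj (RS R n) ⟶ DerivedCategory.Q.obj K) :
    ∃ f, DerivedCategory.Q.map f = φ := by
  let e := DerivedCategory.quotientCompQhIso (ModuleCat.{v} R)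
  obtain ⟨f, hf⟩ := (CochainComplex.IsKProjective.Qh_map_bijective (RS R n)
    ((HomotopyCategory.quotient _ _).obj K)).surjective (e.hom.app _ ≫ φ ≫ e.inv.app _)
  obtain ⟨g, rfl⟩ := (HomotopyCategory.quotient _ _).map_surjective f
  refine ⟨g, ?_⟩
  have := e.hom.naturality g
  simp only [Functor.comp_map] at this
  rw [hf] at this
  simp only [assoc, Iso.inv_hom_id_app] at this
  exact ((cancel_epi (e.hom.app (RS R n))).1 (this.symm.trans (by
    rw [comp_id])))

lemma perfect_RS [HasCoproducts.{v} (DerivedCategory (ModuleCat.{v} R))]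
    [HasColimitsOfShape (Discrete ℕ) (DerivedCategory (ModuleCat.{v} R))] :
    H5Brown.Perfect (fun n : ULift.{v} ℤ => DerivedCategory.Q.obj (RS R n.down)) := by
  classical
  refine H5Brown.perfect_of (fun X hX => ?_) (fun X i α => ?_)
  · let K := DerivedCategory.Q.objPreimage X
    let e := DerivedCategory.Q.objObjPreimageIso X
    obtain ⟨n, hn⟩ : ∃ n, ¬ IsZero (K.homology n) := by
      by_contra h
      push Not at h
      have hK : K.Acyclic := fun n => (HomologicalComplex.exactAt_iff_isZero_homology _ _).2 (h n)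
      have hq : QuasiIso (0 : K ⟶ (0 : CochainComplex (ModuleCat.{v} R) ℤ)) := by
        rw [quasiIso_iff]; intro i
        rw [quasiIsoAt_iff_exactAt _ _ (hK i)]
        exact ShortComplex.exact_of_isZero_X₂ _
          ((HomologicalComplex.eval _ (ComplexShape.up ℤ) i).map_isZero (isZero_zero _))
      exact hX (((DerivedCategory.Q.map_isZero (isZero_zero _)).of_iso
        (asIso (DerivedCategory.Q.map (0 : K ⟶ (0 : CochainComplex (ModuleCat.{v} R) ℤ))))).of_iso e.symm)
    obtain ⟨p, hp⟩ : ∃ p : ModuleCat.of R R ⟶ K.cycles n, p ≫ K.homologyπ n ≠ 0 := by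
      by_contra h
      push Not at h
      refine hn ((IsZero.iff_id_eq_zero _).2 ?_)
      rw [← cancel_epi (K.homologyπ n), comp_zero, comp_id]
      refine (ModuleCat.hom_ext (LinearMap.ext fun z => ?_))
      have h1 := LinearMap.congr_fun (congrArg ModuleCat.Hom.hom
        (h (ModuleCat.ofHom (LinearMap.toSpanSingleton R (K.cycles n) z)))) (1 : R)
      exact (congrArg (K.homologyπ n).hom (one_smul R z).symm).trans h1
    let f : RS R n ⟶ K := HomologicalComplex.mkHomFromSingle (p ≫ K.iCycles n)
      (fun j _ => by rw [assoc, HomologicalComplex.iCycles_d, comp_zero])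
    refine ⟨⟨n⟩, DerivedCategory.Q.map f ≫ e.hom, fun h => hp ?_⟩
    rw [← zero_comp (f := e.hom), cancel_mono] at h
    have h2 : HomologicalComplex.homologyMap f n = 0 := by
      have := (DerivedCategory.homologyFunctorFactors (ModuleCat.{v} R) n).hom.naturality f
      simp only [Functor.comp_map, h, Functor.map_zero, zero_comp] at this
      exact (cancel_epi ((DerivedCategory.homologyFunctorFactors (ModuleCat.{v} R) n).hom.app (RS R n))).1
        (this.symm.trans comp_zero.symm)
    have h3 : HomologicalComplex.cyclesMap f n =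
        (HomologicalComplex.singleObjCyclesSelfIso (ComplexShape.up ℤ) n _).hom ≫ p := by
      rw [← cancel_mono (K.iCycles n), HomologicalComplex.cyclesMap_i, assoc]
      simp [f, HomologicalComplex.mkHomFromSingle_f, HomologicalComplex.singleObjCyclesSelfIso_hom]
    have h4 := HomologicalComplex.homologyπ_naturality f n
    rw [h2, comp_zero, h3, assoc] at h4
    exact (cancel_epi _).1 (h4.symm.trans comp_zero.symm)
  · obtain ⟨n⟩ := i
    let K := fun m => DerivedCategory.Q.objPreimage (X m)
    let e := fun m => DerivedCategory.Q.objObjPreimageIso (X m)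
    let K' := fun k : ULift.{v} ℕ => K k.down
    obtain ⟨hc⟩ := sigma_Q K'
    let c := Cofan.IsColimit.desc hc (fun k => (e k.down).hom ≫ Sigma.ι X k.down)
    let d : ∐ X ⟶ DerivedCategory.Q.obj (∐ K') :=
      Sigma.desc fun m => (e m).inv ≫ DerivedCategory.Q.map (Sigma.ι K' ⟨m⟩)
    have hcι : ∀ k, DerivedCategory.Q.map (Sigma.ι K' k) ≫ c = (e k.down).hom ≫ Sigma.ι X k.down :=
      fun k => Cofan.IsColimit.fac hc _ k
    have hdc : d ≫ c = 𝟙 _ := Sigma.hom_ext _ _ fun m => by
      simp [d, hcι]
    obtain ⟨g, hg⟩ := surj_RS (α ≫ d)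
    let π := fun k : ULift.{v} ℕ => Sigma.desc
      (fun l => if h : l = k then eqToHom (congrArg K' h) else 0) (f := K')
    let hK : IsColimit (Cofan.mk ((∐ K').X n) fun k => (Sigma.ι K' k).f n) :=
      isColimitCofanMkObjOfIsColimit (HomologicalComplex.eval _ (ComplexShape.up ℤ) n) _ _
        (coproductIsCoproduct K')
    let x : (∐ K').X n :=
      (g.f n).hom ((HomologicalComplex.singleObjXSelf (ComplexShape.up ℤ) n (ModuleCat.of R R)).inv.hom (1 : R))
    have hx : x ∈ ⨆ k, LinearMap.range ((Sigma.ι K' k).f n).hom := by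
      let S := ⨆ k, LinearMap.range ((Sigma.ι K' k).f n).hom
      have hq : ModuleCat.ofHom S.mkQ = (0 : (∐ K').X n ⟶ ModuleCat.of R _) :=
        Cofan.IsColimit.hom_ext hK _ _ fun k => ModuleCat.hom_ext (LinearMap.ext fun y => by
          exact (Submodule.Quotient.mk_eq_zero S).2 (le_iSup (fun k => LinearMap.range ((Sigma.ι K' k).f n).hom) k ⟨y, rfl⟩))
      have := LinearMap.congr_fun (congrArg ModuleCat.Hom.hom hq) x
      simpa [S] using this
    obtain ⟨s, hs⟩ := Submodule.exists_finset_of_mem_iSup _ hx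
    have hgs : g = ∑ k ∈ s, g ≫ π k ≫ Sigma.ι K' k := by
      refine HomologicalComplex.from_single_hom_ext ?_
      rw [← cancel_epi (HomologicalComplex.singleObjXSelf (ComplexShape.up ℤ) n _).inv]
      refine ModuleCat.hom_ext (LinearMap.ext_ring ?_)
      change x = _
      have key : ∀ y ∈ (⨆ k ∈ s, LinearMap.range ((Sigma.ι K' k).f n).hom),
          (∑ k ∈ s, (π k ≫ Sigma.ι K' k).f n).hom y = y := by
        intro y hy
        induction hy using Submodule.iSup_induction' with
        | zero => simp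
        | add y z _ _ h1 h2 => rw [map_add, h1, h2]
        | mem k y hy =>
          by_cases hk : k ∈ s
          · rw [iSup_pos hk] at hy
            obtain ⟨z, rfl⟩ := hy
            have : (Sigma.ι K' k).f n ≫ (∑ l ∈ s, (π l ≫ Sigma.ι K' l).f n) =
                (Sigma.ι K' k).f n := by
              rw [Preadditive.comp_sum, Finset.sum_eq_single k]
              · rw [← HomologicalComplex.comp_f, Sigma.ι_desc_assoc, dif_pos rfl, eqToHom_refl, id_comp]
              · intro l _ hl
                rw [← HomologicalComplex.comp_f, Sigma.ι_desc_assoc, dif_neg hl.symm, zero_comp,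
                  HomologicalComplex.zero_f]
              · exact fun h => absurd hk h
            exact LinearMap.congr_fun (congrArg ModuleCat.Hom.hom this) z
          · rw [iSup_neg hk, Submodule.mem_bot] at hy
            simp [hy]
      refine (key x hs).symm.trans ?_
      have hsum : (∑ k ∈ s, g ≫ π k ≫ Sigma.ι K' k).f n =
          g.f n ≫ ∑ k ∈ s, (π k ≫ Sigma.ι K' k).f n := by
        rw [Preadditive.comp_sum]
        exact Functor.map_sum (HomologicalComplex.eval (ModuleCat.{v} R) (ComplexShape.up ℤ) n) _ _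
      rw [hsum]
      rfl
    refine ⟨fun _ => ⟨n⟩, fun m => DerivedCategory.Q.map (g ≫ π ⟨m⟩) ≫ (e m).hom,
      ∑ k ∈ s, Sigma.ι (fun _ : ℕ => DerivedCategory.Q.obj (RS R n)) k.down, ?_⟩
    have hα : α = DerivedCategory.Q.map (∑ k ∈ s, g ≫ π k ≫ Sigma.ι K' k) ≫ c := by
      rw [← hgs, hg, assoc, hdc, comp_id]
    rw [hα]
    simp only [Functor.map_sum, Preadditive.sum_comp, Functor.map_comp, assoc, hcι, Sigma.ι_map]

end modules

section transfer

variable {D : Type u} [Category.{v} D] [Preadditive D] [HasZeroObject D] [HasShift D ℤ]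
  [∀ n : ℤ, (shiftFunctor D n).Additive] [Pretriangulated D]
  {D₀ : Type u'} [Category.{v} D₀] [Preadditive D₀] [HasZeroObject D₀] [HasShift D₀ ℤ]
  [∀ n : ℤ, (shiftFunctor D₀ n).Additive] [Pretriangulated D₀]

/-- exactness condition for a contravariant functor -/
def HEx (H : Dᵒᵖ ⥤ AddCommGrpCat.{v}) : Prop :=
  ∀ (T : Triangle D), T ∈ distTriang D → ∀ y, H5Brown.pb H T.mor₁ y = 0 →
    ∃ z, H5Brown.pb H T.mor₂ z = y

variable (D) in
/-- Brown representability -/
def BrownRep : Prop :=
  ∀ (H : Dᵒᵖ ⥤ AddCommGrpCat.{v}), H.Additive → HEx H →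
    (∀ (J : Type v), PreservesLimitsOfShape (Discrete J) H) →
      ∃ (X : D) (π : H.obj (op X)), ∀ Y : D, Function.Bijective (fun f : Y ⟶ X => H5Brown.pb H f π)

lemma brownRep_of_perfect [HasCoproducts.{v} D] [HasColimitsOfShape (Discrete ℕ) D]
    {ι : Type v} {E : ι → D} (hP : H5Brown.Perfect E) : BrownRep D :=
  fun H _ hex _ => H5Brown.representable (hP.data H hex)

lemma brownRep_of_localization (h₀ : BrownRep D₀) {L : D₀ ⥤ D} {R : D ⥤ D₀} (a : L ⊣ R)
    [L.CommShift ℤ] [L.IsTriangulated] [IsIso a.counit] : BrownRep D := by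
  intro H _ hex _
  have : ∀ J : Type v, PreservesLimitsOfShape (Discrete J) (L.op ⋙ H) := fun J => by
    have := a.leftAdjoint_preservesColimits
    have : PreservesColimitsOfShape (Discrete J)ᵒᵖ L :=
      preservesColimitsOfShape_of_equiv (Discrete.opposite J).symm L
    have : PreservesLimitsOfShape (Discrete J) L.op := preservesLimitsOfShape_op _ L
    infer_instance
  obtain ⟨X, π, hX⟩ := h₀ (L.op ⋙ H) inferInstance
    (fun T hT y hy => hex _ (L.map_distinguished T hT) y hy) inferInstance
  let η := a.unit.app X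
  have hLη : IsIso (L.map η) := by
    have := a.left_triangle_components X
    exact (IsIso.inv_eq_of_inv_hom_id this) ▸ inferInstance
  obtain ⟨C, p, δ, hT⟩ := distinguished_cocone_triangle η
  have hLC : IsZero (L.obj C) :=
    Triangle.isZero₃_of_isIso₁ _ (L.map_distinguished _ hT) hLη
  have hδ : δ = 0 := by
    let θ := shiftFunctorCompIsoId D₀ (1 : ℤ) (-1) (by omega)
    have hz : IsZero (L.obj (C⟦(-1 : ℤ)⟧)) :=
      ((shiftFunctor D (-1 : ℤ)).map_isZero hLC).of_iso ((L.commShiftIso (-1 : ℤ)).app C)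
    have hs : ∀ f : C⟦(-1 : ℤ)⟧ ⟶ X, f = 0 := fun f => (hX _).1 (by
      have : Subsingleton (H.obj (op (L.obj (C⟦(-1 : ℤ)⟧)))) :=
        AddCommGrpCat.subsingleton_of_isZero (H.map_isZero hz.op)
      exact this.elim _ _)
    have := hs (δ⟦(-1 : ℤ)⟧' ≫ θ.hom.app X)
    rw [← zero_comp (f := θ.hom.app X), cancel_mono, ← (shiftFunctor D₀ (-1 : ℤ)).map_zero] at this
    exact (shiftFunctor D₀ (-1 : ℤ)).map_injective this
  have hC : IsZero C := by
    obtain ⟨s, hs⟩ := Triangle.coyoneda_exact₃ _ hT (𝟙 C) (by show 𝟙 C ≫ δ = 0; rw [hδ, comp_zero])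
    have hs0 : s = 0 := (a.homEquiv C (L.obj X)).symm.injective (hLC.eq_of_src _ _)
    rw [IsZero.iff_id_eq_zero]
    rw [hs0] at hs
    exact hs.trans zero_comp
  have : IsIso η := (Triangle.isZero₃_iff_isIso₁ _ hT).1 hC
  let r : H.obj (op (L.obj X)) := π
  refine ⟨L.obj X, r, fun Y => ?_⟩
  let c := a.counit.app Y
  have hb : Function.Bijective (fun g : R.obj Y ⟶ X => H5Brown.pb H (inv c ≫ L.map g) r) := by
    have h2 : Function.Bijective (H5Brown.pb H (inv c) : H.obj (op (L.obj (R.obj Y))) → _) :=
      ConcreteCategory.bijective_of_isIso (H.map (inv c).op)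
    have : (fun g : R.obj Y ⟶ X => H5Brown.pb H (inv c ≫ L.map g) r) =
        H5Brown.pb H (inv c) ∘ (fun g => H5Brown.pb (L.op ⋙ H) g π) :=
      funext fun g => H5Brown.pb_comp H _ _ r
    rw [this]; exact h2.comp (hX (R.obj Y))
  have hg : ∀ f : Y ⟶ L.obj X, inv c ≫ L.map (R.map f ≫ inv η) = f := fun f => by
    rw [IsIso.inv_comp_eq]
    have h1 : a.counit.app (L.obj X) = inv (L.map η) :=
      IsIso.eq_inv_of_hom_inv_id (a.left_triangle_components X)
    rw [L.map_comp, Functor.map_inv, ← h1]
    exact a.counit_naturality f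
  have he : Function.Bijective (fun f : Y ⟶ L.obj X => R.map f ≫ inv η) := by
    have := a.fullyFaithfulROfIsIsoCounit.faithful
    have := a.fullyFaithfulROfIsIsoCounit.full
    exact ⟨fun f f' h => R.map_injective ((cancel_mono _).1 h), fun g =>
      ⟨R.preimage (g ≫ η), by simp⟩⟩
  have : (fun f : Y ⟶ L.obj X => H5Brown.pb H f r) =
      (fun g : R.obj Y ⟶ X => H5Brown.pb H (inv c ≫ L.map g) r) ∘
        (fun f : Y ⟶ L.obj X => R.map f ≫ inv η) :=
    funext fun f => by simp only [Function.comp, hg]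
  rw [this]; exact hb.comp he

lemma isRepresentable_of_brownRep (hD : BrownRep D) (H : Dᵒᵖ ⥤ AddCommGrpCat.{v}) [H.IsHomological]
    [∀ (J : Type v), PreservesLimitsOfShape (Discrete J) H] :
    (H ⋙ forget AddCommGrpCat.{v}).IsRepresentable := by
  obtain ⟨X, π, h⟩ := hD H inferInstance (H5Brown.exact_of_isHomological H) inferInstance
  exact Functor.RepresentableBy.isRepresentable (Y := X)
    { homEquiv := fun {Y} => Equiv.ofBijective _ (h Y)
      homEquiv_comp := fun f g => H5Brown.pb_comp H f g π }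

lemma isLeftAdjoint_of_brownRep (hD : BrownRep D) (F : D ⥤ D₀) [F.CommShift ℤ] [F.IsTriangulated]
    [∀ (J : Type v), PreservesColimitsOfShape (Discrete J) F] : F.IsLeftAdjoint := by
  have key : ∀ Z : D₀, ∃ (X : D) (π : (F.op ⋙ preadditiveYoneda.obj Z).obj (op X)),
      ∀ Y : D, Function.Bijective (fun f : Y ⟶ X => H5Brown.pb (F.op ⋙ preadditiveYoneda.obj Z) f π) := by
    intro Z
    refine hD _ inferInstance (fun T hT y hy => ?_) (fun J => ?_)
    · obtain ⟨z, hz⟩ := Triangle.yoneda_exact₂ _ (F.map_distinguished T hT) y hy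
      exact ⟨z, hz.symm⟩
    · have : PreservesColimitsOfShape (Discrete J)ᵒᵖ F :=
        preservesColimitsOfShape_of_equiv (Discrete.opposite J).symm F
      have : PreservesLimitsOfShape (Discrete J) F.op := preservesLimitsOfShape_op _ F
      infer_instance
  choose R ε hR using key
  let e : ∀ X Z, (F.obj X ⟶ Z) ≃ (X ⟶ R Z) := fun X Z => (Equiv.ofBijective _ (hR Z X)).symm
  have he : ∀ X' X Z (f : X' ⟶ X) (g : F.obj X ⟶ Z), e X' Z (F.map f ≫ g) = f ≫ e X Z g :=
    fun X' X Z f g => by
      have h1 : H5Brown.pb (F.op ⋙ preadditiveYoneda.obj Z) (e X Z g) (ε Z) = g :=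
        (Equiv.ofBijective _ (hR Z X)).apply_symm_apply g
      refine (Equiv.symm_apply_eq _).2 ?_
      show F.map f ≫ g = H5Brown.pb _ (f ≫ e X Z g) (ε Z)
      rw [H5Brown.pb_comp, h1]
      rfl
  exact (Adjunction.adjunctionOfEquivRight e he).isLeftAdjoint

end transfer

section grothendieck

variable (A : Type u) [Category.{v} A] [Abelian A] [IsGrothendieckAbelian.{v} A]
  [HasDerivedCategory.{v} A]

theorem brownRep_derived : BrownRep (DerivedCategory A) := by
  let U := separator A
  have hU : IsSeparator U := isSeparator_separator A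
  have hK : H5KApps.EnoughKInj (ModuleCat.{v} (End U)ᵐᵒᵖ) := H5KApps.enoughKInj_of_grothendieck
  obtain ⟨_⟩ := exists_hasDerivedCategory hK
  have : HasCoproducts.{v} (DerivedCategory (ModuleCat.{v} (End U)ᵐᵒᵖ)) :=
    H5KApps.hasCoproducts_derived
  have : HasColimitsOfShape (Discrete ℕ) (DerivedCategory (ModuleCat.{v} (End U)ᵐᵒᵖ)) :=
    hasColimitsOfShape_of_equivalence (Discrete.equivalence Equiv.ulift.{v, 0})
  have h₀ := brownRep_of_perfect (perfect_RS (R := (End U)ᵐᵒᵖ))
  have adj := IsGrothendieckAbelian.tensorObjPreadditiveCoyonedaObjAdjunction U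
  have : (IsGrothendieckAbelian.tensorObj U).Additive := adj.left_adjoint_additive
  have : PreservesFiniteLimits (IsGrothendieckAbelian.tensorObj U) :=
    IsGrothendieckAbelian.GabrielPopescu.preservesFiniteLimits U hU
  have : PreservesFiniteColimits (IsGrothendieckAbelian.tensorObj U) := inferInstance
  have : (preadditiveCoyonedaObj U).Full := IsGrothendieckAbelian.GabrielPopescu.full U hU
  have : (preadditiveCoyonedaObj U).Faithful := (isSeparator_iff_faithful_preadditiveCoyonedaObj U).1 hU
  have hR := H5KApps.resolving_Q (A := A) H5KApps.enoughKInj_of_grothendieck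
  have hF := H5KApps.compat_Q (A := A) (preadditiveCoyonedaObj U)
  have := hR.isRightDerived hF (HomologicalComplex.quasiIso A (ComplexShape.up ℤ))
  obtain ⟨a, ha⟩ := H5KApps.exists_derived_adjunction_ff adj (hR.unit hF)
    H5KApps.enoughKInj_of_grothendieck
  exact brownRep_of_localization h₀ a

end grothendieck

end Groth.Agent.H5BrownGroth
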