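import Mathlib
import Groth.Prelude

universe v u

open CategoryTheory CategoryTheory.Limits Opposite

namespace Groth.Agent.H5ToposColim

lemma bij_of_isColimit {ι : Type u} {F : Discrete ι ⥤ Type u} (c : Cocone F) :
    Nonempty (IsColimit c) ↔
      Function.Bijective (fun p : Σ i, F.obj ⟨i⟩ => c.ι.app ⟨p.1⟩ p.2) := by
  let f : ι → Type u := F.obj ∘ Discrete.mk
  have hF : F = Discrete.functor f :=
    Functor.hext (fun i ↦ rfl) (by rintro ⟨i⟩ ⟨j⟩ ⟨⟨rfl : i = j⟩⟩; simp [f])
  clear_value f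
  subst hF
  exact Cofan.nonempty_isColimit_iff_bijective_fromSigma c

theorem types_isVanKampen {ι : Type u} {F : Discrete ι ⥤ Type u} {c : Cocone F} (hc : IsColimit c) :
    IsVanKampenColimit c := by
  intro F' c' α f e hα
  have hb := (bij_of_isColimit c).1 ⟨hc⟩
  have he : ∀ (j : Discrete ι) (b : F'.obj j), f (c'.ι.app j b) = c.ι.app j (α.app j b) := by
    intro j b
    exact (ConcreteCategory.congr_hom (NatTrans.congr_app e j) b).symm
  constructor
  · rintro ⟨hc'⟩ ⟨j⟩
    have hb' := (bij_of_isColimit c').1 ⟨hc'⟩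
    rw [Types.isPullback_iff]
    refine ⟨?_, ?_, ?_⟩
    · exact (NatTrans.congr_app e ⟨j⟩).symm
    · rintro x y ⟨h, _⟩
      have := @hb'.1 ⟨j, x⟩ ⟨j, y⟩ h
      simpa using this
    · intro z a hza
      obtain ⟨⟨i, b⟩, rfl⟩ := hb'.2 z
      rw [he] at hza
      have h := @hb.1 ⟨i, α.app ⟨i⟩ b⟩ ⟨j, a⟩ hza
      obtain rfl : i = j := congrArg Sigma.fst h
      exact ⟨b, rfl, by simpa using h⟩
  · intro H
    refine (bij_of_isColimit c').2 ⟨?_, ?_⟩
    · rintro ⟨i, b⟩ ⟨j, b'⟩ h
      have h' : c.ι.app ⟨i⟩ (α.app ⟨i⟩ b) = c.ι.app ⟨j⟩ (α.app ⟨j⟩ b') := by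
        rw [← he, ← he]
        exact congrArg f h
      have h2 := @hb.1 ⟨i, α.app ⟨i⟩ b⟩ ⟨j, α.app ⟨j⟩ b'⟩ h'
      obtain rfl : i = j := congrArg Sigma.fst h2
      have h3 : α.app ⟨i⟩ b = α.app ⟨i⟩ b' := by simpa using h2
      obtain rfl := Types.ext_of_isPullback (H ⟨i⟩) (x₁ := b) (y₁ := b') h h3
      rfl
    · intro z
      obtain ⟨⟨i, a⟩, ha⟩ := hb.2 (f z)
      obtain ⟨b, hb1, _⟩ := Types.exists_of_isPullback (H ⟨i⟩) z a ha.symm
      exact ⟨⟨i, b⟩, hb1⟩

theorem presheaf_isVanKampen {C : Type v} [Category.{u} C] {ι : Type u} {F : Discrete ι ⥤ C ⥤ Type u}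
    {c : Cocone F} (hc : IsColimit c) : IsVanKampenColimit c :=
  isVanKampenColimit_of_evaluation F c fun x =>
    types_isVanKampen (isColimitOfPreserves ((evaluation C (Type u)).obj x) hc)

variable {C : Type u} [SmallCategory C] {J : GrothendieckTopology C}

theorem sheaf_isVanKampen {ι : Type u} {F : Discrete ι ⥤ Sheaf J (Type u)} {c : Cocone F}
    (hc : IsColimit c) : IsVanKampenColimit c := by
  let adj := sheafificationAdjunction J (Type u)
  let c0 := colimit.cocone (F ⋙ sheafToPresheaf J (Type u))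
  have hc0 : IsColimit c0 := colimit.isColimit _
  have h1 : IsVanKampenColimit ((presheafToSheaf J (Type u)).mapCocone c0) :=
    (presheaf_isVanKampen hc0).map_reflective adj
  let e : F ≅ (F ⋙ sheafToPresheaf J (Type u)) ⋙ presheafToSheaf J (Type u) :=
    (Functor.rightUnitor F).symm ≪≫ Functor.isoWhiskerLeft F (asIso adj.counit).symm ≪≫
      (Functor.associator _ _ _).symm
  have h2 := h1.precompose_isIso e.hom
  have h3 : IsColimit ((Cocone.precompose e.hom).obj ((presheafToSheaf J (Type u)).mapCocone c0)) :=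
    (IsColimit.precomposeHomEquiv e _).symm (isColimitOfPreserves _ hc0)
  exact h2.of_iso (h3.uniqueUpToIso hc)

theorem sheaf_coproductDisjoint {ι : Type u} (X : ι → Sheaf J (Type u)) : CoproductDisjoint X := by
  have hc : IsColimit (Cofan.mk (∐ X) (Sigma.ι X)) := coproductIsCoproduct X
  have hvk := sheaf_isVanKampen hc
  have : ∀ i, Mono (Sigma.ι X i) := fun i => mono_of_cofan_isVanKampen hvk ⟨i⟩
  refine CoproductDisjoint.of_hasCoproduct
    (fun {i j} hij => PullbackCone.mk (initial.to (X i)) (initial.to (X j))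
      (isPullback_initial_to_of_cofan_isVanKampen hvk ⟨i⟩ ⟨j⟩ (fun h => hij (congrArg Discrete.as h))).w)
    (fun {i j} hij =>
      (isPullback_initial_to_of_cofan_isVanKampen hvk ⟨i⟩ ⟨j⟩ (fun h => hij (congrArg Discrete.as h))).isLimit)
    (fun {i j} hij => initialIsInitial)

theorem hasDisjointUniversalCoproducts :
    SGA4.HasDisjointUniversalCoproducts.{u + 1, u} (Sheaf J (Type u)) := fun _ X =>
  ⟨Cofan.mk (∐ X) (Sigma.ι X), coproductIsCoproduct X, sheaf_coproductDisjoint X,
    (sheaf_isVanKampen (coproductIsCoproduct X)).isUniversal⟩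

/-- epimorphisms of sheaves of sets are stable under base change -/
theorem epi_of_isPullback {P X Y Z : Sheaf J (Type u)} {fst : P ⟶ X} {snd : P ⟶ Y} {f : X ⟶ Z}
    {g : Y ⟶ Z} (h : IsPullback fst snd f g) [Epi f] : Epi snd := by
  have hf : Sheaf.IsLocallySurjective f := (Sheaf.isLocallySurjective_iff_epi f).2 inferInstance
  rw [← Sheaf.isLocallySurjective_iff_epi]
  constructor
  intro U y
  refine J.superset_covering ?_ (Presheaf.imageSieve_mem J f.hom (g.hom.app (op U) y))
  rintro V k ⟨x, hx⟩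
  have hp : IsPullback (fst.hom.app (op V)) (snd.hom.app (op V)) (f.hom.app (op V))
      (g.hom.app (op V)) :=
    h.map (sheafToPresheaf J (Type u) ⋙ (evaluation _ _).obj (op V))
  obtain ⟨p, _, hp2⟩ := Types.exists_of_isPullback hp x (Y.obj.map k.op y)
    (hx.trans (ConcreteCategory.congr_hom (g.hom.naturality k.op) y).symm)
  exact ⟨p, hp2⟩

theorem effectiveEpi_of_epi {X Y : Sheaf J (Type u)} (f : X ⟶ Y) [Epi f] : EffectiveEpi f := by
  have := IsRegularEpiCategory.regularEpiOfEpi f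
  infer_instance

theorem effective_of_isEquivRel {R A : Sheaf J (Type u)} (p₁ p₂ : R ⟶ A)
    (h : SGA4.IsEquivRel p₁ p₂) : SGA4.IsEffectiveUniversalEquivRel p₁ p₂ := by
  classical
  let G := sheafToPresheaf J (Type u)
  let L := presheafToSheaf J (Type u)
  let adj := sheafificationAdjunction J (Type u)
  let c := coequalizer (G.map p₁) (G.map p₂)
  let q : A.obj ⟶ c := coequalizer.π (G.map p₁) (G.map p₂)
  -- pointwise properties
  have key : ∀ U : Cᵒᵖ, Function.Injective (fun r => (p₁.hom.app U r, p₂.hom.app U r)) ∧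
      Equivalence (fun a b : A.obj.obj U => ∃ r, p₁.hom.app U r = a ∧ p₂.hom.app U r = b) := by
    intro U
    let T := L.obj (yoneda.obj U.unop)
    let e : ∀ X : Sheaf J (Type u), (T ⟶ X) ≃ X.obj.obj U := fun X =>
      (adj.homEquiv _ X).trans yonedaEquiv
    have he : ∀ {X Y : Sheaf J (Type u)} (φ : X ⟶ Y) (t : T ⟶ X), e Y (t ≫ φ) = φ.hom.app U (e X t) := by
      intro X Y φ t
      simp only [e, Equiv.trans_apply]
      rw [Adjunction.homEquiv_naturality_right, yonedaEquiv_comp]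
      rfl
    obtain ⟨hi, hE⟩ := h T
    have hiff : ∀ a b : T ⟶ A, (∃ f : T ⟶ R, f ≫ p₁ = a ∧ f ≫ p₂ = b) ↔
        (∃ r, p₁.hom.app U r = e A a ∧ p₂.hom.app U r = e A b) := by
      intro a b
      constructor
      · rintro ⟨f, rfl, rfl⟩
        exact ⟨e R f, (he _ _).symm, (he _ _).symm⟩
      · rintro ⟨r, h1, h2⟩
        obtain ⟨f, rfl⟩ := (e R).surjective r
        rw [← he] at h1 h2
        exact ⟨f, (e A).injective h1, (e A).injective h2⟩
    refine ⟨fun r s hrs => ?_, ⟨fun a => ?_, fun {a b} hab => ?_, fun {a b d} hab hbd => ?_⟩⟩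
    · obtain ⟨f, rfl⟩ := (e R).surjective r
      obtain ⟨g, rfl⟩ := (e R).surjective s
      rw [Prod.ext_iff] at hrs
      simp only [← he] at hrs
      exact congrArg (e R) (hi (Prod.ext ((e A).injective hrs.1) ((e A).injective hrs.2)))
    · obtain ⟨a, rfl⟩ := (e A).surjective a
      exact (hiff _ _).1 (hE.refl a)
    · obtain ⟨a, rfl⟩ := (e A).surjective a
      obtain ⟨b, rfl⟩ := (e A).surjective b
      exact (hiff _ _).1 (hE.symm ((hiff _ _).2 hab))
    · obtain ⟨a, rfl⟩ := (e A).surjective a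
      obtain ⟨b, rfl⟩ := (e A).surjective b
      obtain ⟨d, rfl⟩ := (e A).surjective d
      exact (hiff _ _).1 (hE.trans ((hiff _ _).2 hab) ((hiff _ _).2 hbd))
  -- pointwise cocartesian and cartesian
  have hq : G.map p₁ ≫ q = G.map p₂ ≫ q := coequalizer.condition _ _
  have hpb : IsPullback (G.map p₁) (G.map p₂) q q := by
    refine ⟨⟨hq⟩, ⟨evaluationJointlyReflectsLimits _ fun U =>
      (isLimitMapConePullbackConeEquiv _ _).symm ?_⟩⟩
    refine (IsPullback.isLimit ?_)
    rw [Types.isPullback_iff]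
    refine ⟨congr_app hq U, fun x y hxy => (key U).1 (Prod.ext hxy.1 hxy.2), fun a b hab => ?_⟩
    have hcol := isColimitOfPreserves ((evaluation Cᵒᵖ (Type u)).obj U) (coequalizerIsCoequalizer (G.map p₁) (G.map p₂))
    have hcol' := isColimitMapCoconeCoforkEquiv _ _ hcol
    let S : Set (A.obj.obj U) := {x | ∃ r, p₁.hom.app U r = a ∧ p₂.hom.app U r = x}
    have hS : (((evaluation Cᵒᵖ (Type u)).obj U).map (G.map p₁)) ⁻¹' S
        = (((evaluation Cᵒᵖ (Type u)).obj U).map (G.map p₂)) ⁻¹' S := by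
      ext r
      exact ⟨fun hr => (key U).2.trans hr ⟨r, rfl, rfl⟩,
        fun hr => (key U).2.trans hr ((key U).2.symm ⟨r, rfl, rfl⟩)⟩
    have := Types.coequalizer_preimage_image_eq_of_preimage_eq _ _ _ _ hcol' S hS
    exact (Set.ext_iff.1 this b).1 ⟨a, (key U).2.refl a, hab⟩
  have hdiag : ∃ d : A ⟶ R, d ≫ p₁ = 𝟙 A ∧ d ≫ p₂ = 𝟙 A := (h A).2.refl (𝟙 A)
  obtain ⟨d, hd1, hd2⟩ := hdiag
  have hpo : IsPushout (G.map p₁) (G.map p₂) q q := by
    refine ⟨⟨hq⟩, ⟨PushoutCocone.isColimitAux' _ fun s => ?_⟩⟩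
    have hs : s.inl = s.inr := by
      have h' := congrArg (fun t => G.map d ≫ t) s.condition
      simpa [← G.map_comp_assoc, hd1, hd2] using h'
    refine ⟨coequalizer.desc s.inl (by simpa [hs] using s.condition), ?_, ?_, ?_⟩
    · exact coequalizer.π_desc _ _
    · exact (coequalizer.π_desc _ _).trans hs
    · intro m h1 _
      apply coequalizer.hom_ext
      exact h1.trans (coequalizer.π_desc _ _).symm
  -- transfer to sheaves
  let u := inv (adj.counit.app A)
  refine ⟨L.obj c, u ≫ L.map q, ?_, ?_, ?_⟩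
  · exact (hpb.map L).of_iso (asIso (adj.counit.app R)) (asIso (adj.counit.app A))
      (asIso (adj.counit.app A)) (Iso.refl _) (adj.counit.naturality p₁) (adj.counit.naturality p₂)
      (by simp [u, L, G]) (by simp [u, L, G])
  · exact (hpo.map L).of_iso (asIso (adj.counit.app R)) (asIso (adj.counit.app A))
      (asIso (adj.counit.app A)) (Iso.refl _) (adj.counit.naturality p₁) (adj.counit.naturality p₂)
      (by simp [u, L, G]) (by simp [u, L, G])
  · intro B' g
    have : Epi (L.map q) := Functor.map_epi _ _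
    have : Epi (u ≫ L.map q) := epi_comp _ _
    have := epi_of_isPullback (IsPullback.of_hasPullback (u ≫ L.map q) g)
    exact effectiveEpi_of_epi _

end Groth.Agent.H5ToposColim
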