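import Mathlib
import Groth.Prelude
import Groth.Agent.Lib.H5ToposColim

universe v u

open CategoryTheory CategoryTheory.Limits Opposite
open Groth.Agent.H5ToposColim

namespace Groth.Agent.H5CoprodSh

variable {C : Type u} [SmallCategory C] {J : GrothendieckTopology C}

instance sheaf_hasStrictInitial : HasStrictInitialObjects (Sheaf J (Type u)) := by
  apply hasStrictInitialObjects_of_initial_is_strict
  intro A f
  let F : Discrete PEmpty.{u+1} ⥤ Sheaf J (Type u) := Discrete.functor PEmpty.elim
  let c : Cocone F := { pt := ⊥_ _, ι := Discrete.natTrans fun x => x.as.elim }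
  have hc : IsColimit c :=
    { desc := fun s => initial.to _
      fac := fun s j => j.as.elim
      uniq := fun s m _ => initialIsInitial.hom_ext _ _ }
  let c' : Cocone F := { pt := A, ι := Discrete.natTrans fun x => x.as.elim }
  obtain ⟨hA⟩ := (sheaf_isVanKampen hc).isUniversal c' (𝟙 F) f
    (by ext ⟨x⟩; exact x.elim) (.of_discrete _) (fun j => j.as.elim)
  have hI : IsInitial A := IsInitial.ofUniqueHom
    (fun Z => hA.desc { pt := Z, ι := Discrete.natTrans fun x => x.as.elim })
    (fun Z m => hA.hom_ext fun j => j.as.elim)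
  exact ⟨initial.to A, hI.hom_ext _ _, initialIsInitial.hom_ext _ _⟩

/-- morphisms out of an object over a coproduct are determined on the pullbacks of the injections -/
theorem hom_ext_of_coproduct {ι : Type u} {A : ι → Sheaf J (Type u)} {c : Cofan A} (hc : IsColimit c)
    {P Z : Sheaf J (Type u)} (h : P ⟶ c.pt) (a b : P ⟶ Z)
    (H : ∀ i, pullback.snd (c.inj i) h ≫ a = pullback.snd (c.inj i) h ≫ b) : a = b := by
  let α : Discrete.functor (fun i => pullback (c.inj i) h) ⟶ Discrete.functor A :=
    Discrete.natTrans fun i => pullback.fst (c.inj i.as) h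
  obtain ⟨hc'⟩ := (sheaf_isVanKampen hc).isUniversal
    (Cofan.mk (f := fun i => pullback (c.inj i) h) P fun i => pullback.snd (c.inj i) h)
    α h
    (NatTrans.ext (funext fun i => pullback.condition (f := c.inj i.as) (g := h)))
    (.of_discrete _)
    (fun i => (IsPullback.of_hasPullback (c.inj i.as) h).flip)
  exact hc'.hom_ext fun i => H i.as

theorem nonempty_isColimit_cofan_iff {ι : Type u} {B : Sheaf J (Type u)}
    {A : ι → Sheaf J (Type u)} (f : ∀ i, A i ⟶ B) :
    Nonempty (IsColimit (Cofan.mk B f)) ↔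
      SGA4.IsEpiFamily f ∧ (∀ i, Mono (f i)) ∧
        ∀ i j, i ≠ j → Nonempty (IsInitial (pullback (f i) (f j))) := by
  have hd := sheaf_coproductDisjoint A
  constructor
  · rintro ⟨hc⟩
    refine ⟨fun Z a b h => hc.hom_ext fun i => h i.as, fun i => CoproductDisjoint.mono_inj hc i,
      fun i j hij => CoproductDisjoint.nonempty_isInitial_of_ne hc hij _
        (pullback.isLimit (f i) (f j))⟩
  · rintro ⟨he, hm, hdis⟩
    let d := Sigma.desc f
    have hepi : Epi d := ⟨fun a b hab => he _ a b fun i => by
      have := congrArg (fun t => Sigma.ι A i ≫ t) hab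
      simpa [d] using this⟩
    have hmono : Mono d := by
      constructor
      intro P a b hab
      refine hom_ext_of_coproduct (coproductIsCoproduct A) a a b fun i => ?_
      refine hom_ext_of_coproduct (coproductIsCoproduct A)
        (pullback.snd (Cofan.inj (Cofan.mk (∐ A) (Sigma.ι A)) i) a ≫ b) _ _ fun j => ?_
      simp only [cofan_mk_inj]
      set P1 := pullback (Sigma.ι A j) (pullback.snd (Sigma.ι A i) a ≫ b)
      have e1 : pullback.snd (Sigma.ι A i) a ≫ a = pullback.fst (Sigma.ι A i) a ≫ Sigma.ι A i :=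
        pullback.condition.symm
      have e2 : pullback.snd (Sigma.ι A j) (pullback.snd (Sigma.ι A i) a ≫ b) ≫
          pullback.snd (Sigma.ι A i) a ≫ b = pullback.fst _ _ ≫ Sigma.ι A j :=
        pullback.condition.symm
      rw [e2, e1]
      have e3 : (pullback.snd (Sigma.ι A j) (pullback.snd (Sigma.ι A i) a ≫ b) ≫
          pullback.fst (Sigma.ι A i) a) ≫ f i
          = pullback.fst (Sigma.ι A j) (pullback.snd (Sigma.ι A i) a ≫ b) ≫ f j := by
        rw [show f i = Sigma.ι A i ≫ d by simp [d], show f j = Sigma.ι A j ≫ d by simp [d]]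
        rw [Category.assoc, ← reassoc_of% e1, hab, pullback.condition_assoc]
        simp only [Category.assoc]
      by_cases hij : i = j
      · subst hij
        have := hm i
        rw [← Category.assoc, (cancel_mono (f i)).1 e3]
      · obtain ⟨hI⟩ := hdis i j hij
        let t := pullback.lift _ _ e3
        have := hI.isIso_to t
        exact (hI.ofIso (asIso t).symm).hom_ext _ _
    have : IsIso d := isIso_of_mono_of_epi d
    exact (Cofan.nonempty_isColimit_iff_isIso_sigmaDesc _).2 (by simpa [d] using this)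

theorem imageSieve_desc {ι : Type u} {X : C} (Yf : ι → C) (s : ∀ i, Yf i ⟶ X)
    {U : C} (u : U ⟶ X) :
    Presheaf.imageSieve (F := ∐ fun i => yoneda.obj (Yf i)) (Sigma.desc fun i => yoneda.map (s i)) (U := U) u =
      Sieve.pullback u (Sieve.ofArrows Yf s) := by
  ext V v
  constructor
  · rintro ⟨w, hw⟩
    obtain ⟨⟨i⟩, a, rfl⟩ := Types.jointly_surjective_of_isColimit
      (isColimitOfPreserves ((evaluation _ _).obj (op V))
        (coproductIsCoproduct fun i => yoneda.obj (Yf i))) w
    refine ⟨_, a, _, ⟨i⟩, ?_⟩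
    exact (ConcreteCategory.congr_hom (NatTrans.congr_app
      (Sigma.ι_desc (fun i => yoneda.map (s i)) i) (op V)) a).symm.trans hw
  · rintro ⟨_, a, _, ⟨i⟩, fac⟩
    exact ⟨(Sigma.ι (fun i => yoneda.obj (Yf i)) i).app (op V) a,
      (ConcreteCategory.congr_hom (NatTrans.congr_app
      (Sigma.ι_desc (fun i => yoneda.map (s i)) i) (op V)) a).trans fac⟩

variable (J) in
theorem isEpiFamily_iff_covering {ι : Type u} {X : C} (Y : ι → C) (s : ∀ i, Y i ⟶ X) :
    SGA4.IsEpiFamily (fun i => (presheafToSheaf J (Type u)).map (yoneda.map (s i))) ↔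
      Sieve.ofArrows Y s ∈ J X := by
  let d := Sigma.desc fun i => yoneda.map (s i)
  let L := presheafToSheaf J (Type u)
  have h1 : SGA4.IsEpiFamily (fun i => L.map (yoneda.map (s i))) ↔ Epi (L.map d) := by
    constructor
    · intro h
      constructor
      intro Z a b hab
      refine h Z a b fun i => ?_
      have := congrArg (fun t => L.map (Sigma.ι (fun i => yoneda.obj (Y i)) i) ≫ t) hab
      simpa [d, ← L.map_comp_assoc] using this
    · intro h Z a b hab
      rw [← cancel_epi (L.map d)]
      refine (isColimitOfPreserves L (coproductIsCoproduct fun i => yoneda.obj (Y i))).hom_ext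
        fun ⟨i⟩ => ?_
      simpa [d, ← L.map_comp_assoc] using hab i
  rw [h1, ← Sheaf.isLocallySurjective_iff_epi]
  rw [show Sheaf.IsLocallySurjective (L.map d) ↔ Presheaf.IsLocallySurjective J d from
    Presheaf.isLocallySurjective_presheafToSheaf_map_iff J d]
  constructor
  · intro h
    have := Presheaf.imageSieve_mem J d (U := op X) (𝟙 X)
    rwa [imageSieve_desc Y s, Sieve.pullback_id] at this
  · intro h
    exact ⟨fun {U} u => by rw [imageSieve_desc Y s u]; exact J.pullback_stable u h⟩

noncomputable def isoPullbackMap {A B Z : Cᵒᵖ ⥤ Type u} (f : A ⟶ Z) (g : B ⟶ Z) :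
    (presheafToSheaf J (Type u)).obj (pullback f g) ≅
      pullback ((presheafToSheaf J (Type u)).map f) ((presheafToSheaf J (Type u)).map g) :=
  ((IsPullback.of_hasPullback f g).map (presheafToSheaf J (Type u))).isoPullback

theorem coproduct_iff {X : C} {ι : Type u} (Y : ι → C) (s : ∀ i, Y i ⟶ X) :
    (Sieve.ofArrows Y s ∈ J X ∧
      (∀ i, IsIso ((presheafToSheaf J (Type u)).map (pullback.diagonal (yoneda.map (s i))))) ∧
      (∀ i j, i ≠ j → Nonempty (IsInitial ((presheafToSheaf J (Type u)).obj
        (pullback (yoneda.map (s i)) (yoneda.map (s j))))))) ↔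
    Nonempty (IsColimit (Cofan.mk ((presheafToSheaf J (Type u)).obj (yoneda.obj X))
      (fun i => (presheafToSheaf J (Type u)).map (yoneda.map (s i))))) := by
  rw [nonempty_isColimit_cofan_iff, isEpiFamily_iff_covering]
  have hm : ∀ i, IsIso ((presheafToSheaf J (Type u)).map (pullback.diagonal (yoneda.map (s i)))) ↔
      Mono ((presheafToSheaf J (Type u)).map (yoneda.map (s i))) := by
    intro i
    have e : (presheafToSheaf J (Type u)).map (pullback.diagonal (yoneda.map (s i))) ≫
        (isoPullbackMap (yoneda.map (s i)) (yoneda.map (s i))).hom =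
        pullback.diagonal ((presheafToSheaf J (Type u)).map (yoneda.map (s i))) := by
      apply pullback.hom_ext <;> simp [isoPullbackMap, ← Functor.map_comp]
    rw [← pullback.isIso_diagonal_iff, ← e, isIso_comp_right_iff]
  refine and_congr_right fun _ => and_congr (forall_congr' hm) (forall_congr' fun i =>
    forall_congr' fun j => imp_congr_right fun _ => ?_)
  exact ⟨fun ⟨h⟩ => ⟨h.ofIso (isoPullbackMap _ _)⟩, fun ⟨h⟩ => ⟨h.ofIso (isoPullbackMap _ _).symm⟩⟩

theorem nonempty_isInitial_of_bot_covering {Z : C} (h : (⊥ : Sieve Z) ∈ J Z) :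
    Nonempty (IsInitial ((presheafToSheaf J (Type u)).obj (yoneda.obj Z))) := by
  let e : ∀ F : Sheaf J (Type u), ((presheafToSheaf J (Type u)).obj (yoneda.obj Z) ⟶ F) ≃ F.obj.obj (op Z) :=
    fun F => ((sheafificationAdjunction J (Type u)).homEquiv _ F).trans yonedaEquiv
  have hu : ∀ F : Sheaf J (Type u), Unique (F.obj.obj (op Z)) := fun F =>
    (Types.isTerminalEquivUnique _).1 (F.isTerminalOfBotCover Z h)
  exact ⟨IsInitial.ofUniqueHom (fun F => (e F).symm (hu F).default)
    (fun F m => (e F).injective ((hu F).uniq _ |>.trans ((hu F).uniq _).symm))⟩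

theorem coproduct_of_bot {X : C} {ι : Type u} (Y : ι → C) (s : ∀ i, Y i ⟶ X)
    [∀ (i : ι) (Z : C) (g : Z ⟶ X), HasPullback (s i) g]
    (hcov : Sieve.ofArrows Y s ∈ J X) (hmono : ∀ i, Mono (s i))
    (hdisj : ∀ i j, i ≠ j → (⊥ : Sieve (pullback (s i) (s j))) ∈ J (pullback (s i) (s j))) :
    Nonempty (IsColimit (Cofan.mk ((presheafToSheaf J (Type u)).obj (yoneda.obj X))
      (fun i => (presheafToSheaf J (Type u)).map (yoneda.map (s i))))) := by
  refine (coproduct_iff Y s).1 ⟨hcov, fun i => ?_, fun i j hij => ?_⟩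
  · have := hmono i
    infer_instance
  · obtain ⟨hI⟩ := nonempty_isInitial_of_bot_covering (hdisj i j hij)
    exact ⟨hI.ofIso ((presheafToSheaf J (Type u)).mapIso
      ((IsPullback.of_hasPullback (s i) (s j)).map yoneda).isoPullback)⟩

end Groth.Agent.H5CoprodSh
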