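import Mathlib
import Groth.Prelude
import Groth.Agent.Lib.H5ToposColim
import Groth.Agent.Lib.H5CoprodSh

universe v u

open CategoryTheory CategoryTheory.Limits Opposite
open Groth.Agent.H5ToposColim Groth.Agent.H5CoprodSh

namespace Groth.Agent.H5CanSite

variable {C : Type u} [SmallCategory C]

/-- the canonical functor to sheaves for the canonical topology -/
noncomputable abbrev eps (C : Type u) [SmallCategory C] : C ⥤ Sheaf (Sheaf.canonicalTopology C) (Type u) :=
  yoneda ⋙ presheafToSheaf (Sheaf.canonicalTopology C) (Type u)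

noncomputable def epsIso : eps C ≅ (Sheaf.canonicalTopology C).yoneda :=
  Functor.isoWhiskerLeft (Sheaf.canonicalTopology C).yoneda
      (asIso (sheafificationAdjunction (Sheaf.canonicalTopology C) (Type u)).counit) ≪≫
    Functor.rightUnitor _

instance : (eps C).Full := Functor.Full.of_iso epsIso.symm
instance : (eps C).Faithful := Functor.Faithful.of_iso epsIso.symm

theorem initial_of_eps {P : C} (h : IsInitial ((eps C).obj P)) : Nonempty (IsInitial P) :=
  ⟨IsInitial.ofUniqueHom (fun W => (eps C).preimage (h.to _))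
    (fun W m => (eps C).map_injective (h.hom_ext _ _))⟩

theorem coproduct_canonical_iff {X : C} {ι : Type u} (Y : ι → C) (s : ∀ i, Y i ⟶ X)
    [∀ (i : ι) (Z : C) (g : Z ⟶ X), HasPullback (s i) g] :
    Nonempty (IsColimit (Cofan.mk ((eps C).obj X) (fun i => (eps C).map (s i)))) ↔
      (Nonempty (IsColimit (Cofan.mk X s)) ∧ CoproductDisjoint Y ∧
        IsUniversalColimit (Cofan.mk X s)) := by
  constructor
  · rintro ⟨hc⟩
    have hc' : IsColimit ((eps C).mapCocone (Cofan.mk X s)) :=
      (isColimitMapCoconeCofanMkEquiv (eps C) _ s).symm hc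
    have hcC : IsColimit (Cofan.mk X s) := isColimitOfReflects _ hc'
    obtain ⟨-, hm, hdis⟩ := (nonempty_isColimit_cofan_iff _).1 ⟨hc⟩
    have hms : ∀ i, Mono (s i) := fun i => by
      have := hm i
      exact (eps C).mono_of_mono_map (f := s i) inferInstance
    refine ⟨⟨hcC⟩, ?_, IsUniversalColimit.of_mapCocone (eps C) (sheaf_isVanKampen hc').isUniversal⟩
    have : ∀ i, Mono ((Cofan.mk X s).inj i) := hms
    refine CoproductDisjoint.of_cofan hcC
      (fun {i j} hij => PullbackCone.mk (pullback.fst (s i) (s j)) (pullback.snd (s i) (s j))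
        pullback.condition)
      (fun {i j} hij => pullbackIsPullback (s i) (s j)) (fun {i j} hij => (initial_of_eps ?_).some)
    exact (hdis i j hij).some.ofIso
      (((IsPullback.of_hasPullback (s i) (s j)).map (eps C)).isoPullback).symm
  · rintro ⟨⟨hc⟩, hd, hu⟩
    refine coproduct_of_bot Y s ?_ (fun i => CoproductDisjoint.mono_inj hc i) ?_
    · refine Sheaf.mem_finestTopology_of_forall_isSheafFor ?_
      rintro _ ⟨W, rfl⟩ Z f
      obtain ⟨hc'⟩ := hu (Cofan.mk (f := fun i => pullback (s i) f) Z fun i => pullback.snd (s i) f)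
        (Discrete.natTrans fun i => pullback.fst (s i.as) f) f
        (NatTrans.ext (funext fun i => pullback.condition (f := s i.as) (g := f)))
        (.of_discrete _) (fun i => (IsPullback.of_hasPullback (s i.as) f).flip)
      have heq : (Sieve.ofArrows Y s).pullback f =
          Sieve.ofArrows (fun i => pullback (s i) f) (fun i => pullback.snd (s i) f) := by
        ext V g
        constructor
        · rintro ⟨_, a, _, ⟨i⟩, fac⟩
          exact ⟨_, pullback.lift a g fac, _, ⟨i⟩, pullback.lift_snd _ _ _⟩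
        · rintro ⟨_, a, _, ⟨i⟩, rfl⟩
          exact ⟨_, a ≫ pullback.fst _ _, _, ⟨i⟩, by
            rw [Category.assoc, pullback.condition, ← Category.assoc]⟩
      rw [heq]
      change Presieve.IsSheafFor _ (Sieve.generate _).arrows
      rw [← Presieve.isSheafFor_iff_generate, Presieve.isSheafFor_arrows_iff]
      intro x _
      exact ⟨Cofan.IsColimit.desc hc' x, fun i => Cofan.IsColimit.fac hc' x i,
        fun y hy => Cofan.IsColimit.hom_ext hc' _ _ fun i =>
          (hy i).trans (Cofan.IsColimit.fac hc' x i).symm⟩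
    · intro i j hij
      obtain ⟨hI⟩ := CoproductDisjoint.nonempty_isInitial_of_ne hc hij _ (pullbackIsPullback (s i) (s j))
      refine Sheaf.mem_finestTopology_of_forall_isSheafFor ?_
      rintro _ ⟨W, rfl⟩ Z f x _
      let hZ : Z ⟶ X := f ≫ pullback.fst (s i) (s j) ≫ s i
      obtain ⟨hc'⟩ := hu (Cofan.mk (f := fun k => pullback (s k) hZ) Z fun k => pullback.snd (s k) hZ)
        (Discrete.natTrans fun k => pullback.fst (s k.as) hZ) hZ
        (NatTrans.ext (funext fun k => pullback.condition (f := s k.as) (g := hZ)))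
        (.of_discrete _) (fun k => (IsPullback.of_hasPullback (s k.as) hZ).flip)
      let si : Z ⟶ pullback (s i) hZ :=
        pullback.lift (f ≫ pullback.fst _ _) (𝟙 Z) (by simp [hZ])
      let sj : Z ⟶ pullback (s j) hZ :=
        pullback.lift (f ≫ pullback.snd _ _) (𝟙 Z) (by simp [hZ, pullback.condition])
      refine ⟨f ≫ hI.to W, fun V g hg => False.elim hg, fun y _ => ?_⟩
      classical
      obtain ⟨m, hm⟩ : ∃ m : Z ⟶ W, ∀ k, pullback.snd (s k) hZ ≫ m =
          pullback.snd (s k) hZ ≫ (if k = i then y else f ≫ hI.to W) :=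
        ⟨Cofan.IsColimit.desc hc' fun k => pullback.snd (s k) hZ ≫ (if k = i then y else f ≫ hI.to W),
          fun k => Cofan.IsColimit.fac hc' _ k⟩
      have h1 := si ≫= hm i
      have h2 := sj ≫= hm j
      simp only [si, sj, pullback.lift_snd_assoc, Category.id_comp, if_true, if_neg (Ne.symm hij)] at h1 h2
      exact h1.symm.trans h2

section EquivRel

variable {J : GrothendieckTopology C}

theorem isEquivRel_of_pointwise {R A : Sheaf J (Type u)} (p₁ p₂ : R ⟶ A)
    (h : ∀ U : Cᵒᵖ, Function.Injective (fun r => (p₁.hom.app U r, p₂.hom.app U r)) ∧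
      Equivalence (fun a b : A.obj.obj U => ∃ r, p₁.hom.app U r = a ∧ p₂.hom.app U r = b)) :
    SGA4.IsEquivRel p₁ p₂ := by
  intro T
  have mk : ∀ a b : T ⟶ A, (∀ U x, ∃ r, p₁.hom.app U r = a.hom.app U x ∧ p₂.hom.app U r = b.hom.app U x) →
      ∃ f : T ⟶ R, f ≫ p₁ = a ∧ f ≫ p₂ = b := by
    intro a b hab
    choose r h1 h2 using hab
    refine ⟨⟨{ app := fun U => ↾(r U), naturality := fun U V g => ?_ }⟩, ?_, ?_⟩
    · ext x
      refine (h V).1 (Prod.ext ?_ ?_)
      · change p₁.hom.app V (r V (T.obj.map g x)) = p₁.hom.app V (R.obj.map g (r U x))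
        rw [h1, NatTrans.naturality_apply p₁.hom, h1, NatTrans.naturality_apply a.hom]
      · change p₂.hom.app V (r V (T.obj.map g x)) = p₂.hom.app V (R.obj.map g (r U x))
        rw [h2, NatTrans.naturality_apply p₂.hom, h2, NatTrans.naturality_apply b.hom]
    · apply Sheaf.hom_ext
      ext U x
      exact h1 U x
    · apply Sheaf.hom_ext
      ext U x
      exact h2 U x
  refine ⟨fun f g hfg => ?_, ⟨fun a => ?_, fun {a b} hab => ?_, fun {a b c} hab hbc => ?_⟩⟩
  · apply Sheaf.hom_ext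
    ext U x
    rw [Prod.ext_iff] at hfg
    exact (h U).1 (Prod.ext (ConcreteCategory.congr_hom (congr_app (congrArg (·.hom) hfg.1) U) x)
      (ConcreteCategory.congr_hom (congr_app (congrArg (·.hom) hfg.2) U) x))
  · exact mk a a fun U x => (h U).2.refl _
  · obtain ⟨f, rfl, rfl⟩ := hab
    exact mk _ _ fun U x => (h U).2.symm ⟨f.hom.app U x, rfl, rfl⟩
  · obtain ⟨f, rfl, hb⟩ := hab
    obtain ⟨g, hb', rfl⟩ := hbc
    refine mk _ _ fun U x => (h U).2.trans ⟨f.hom.app U x, rfl, rfl⟩ ⟨g.hom.app U x, ?_, rfl⟩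
    exact ConcreteCategory.congr_hom (congr_app (congrArg (·.hom) (hb'.trans hb.symm)) U) x

theorem isEquivRel_of_iso {E : Type (u + 1)} [Category.{u} E] {R A R' A' : E} {p₁ p₂ : R ⟶ A}
    {q₁ q₂ : R' ⟶ A'} (h : SGA4.IsEquivRel p₁ p₂) (eR : R' ≅ R) (eA : A' ≅ A)
    (h₁ : q₁ ≫ eA.hom = eR.hom ≫ p₁) (h₂ : q₂ ≫ eA.hom = eR.hom ≫ p₂) :
    SGA4.IsEquivRel q₁ q₂ := by
  intro T
  obtain ⟨hi, hE⟩ := h T
  have e : ∀ a b : T ⟶ A', (∃ f, f ≫ q₁ = a ∧ f ≫ q₂ = b) ↔
      (∃ f, f ≫ p₁ = a ≫ eA.hom ∧ f ≫ p₂ = b ≫ eA.hom) := fun a b => by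
    constructor
    · rintro ⟨f, rfl, rfl⟩
      exact ⟨f ≫ eR.hom, by simp [h₁], by simp [h₂]⟩
    · rintro ⟨f, ha, hb⟩
      refine ⟨f ≫ eR.inv, ?_, ?_⟩
      · rw [← cancel_mono eA.hom]; simp [h₁, ha]
      · rw [← cancel_mono eA.hom]; simp [h₂, hb]
  refine ⟨fun f g hfg => ?_, ⟨fun a => (e _ _).2 (hE.refl _), fun {a b} hab => (e _ _).2 (hE.symm ((e _ _).1 hab)),
    fun {a b c} hab hbc => (e _ _).2 (hE.trans ((e _ _).1 hab) ((e _ _).1 hbc))⟩⟩
  rw [Prod.ext_iff] at hfg
  have := hi (a₁ := f ≫ eR.hom) (a₂ := g ≫ eR.hom) (Prod.ext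
    (by simp only [Category.assoc, ← h₁]; rw [reassoc_of% hfg.1])
    (by simp only [Category.assoc, ← h₂]; rw [reassoc_of% hfg.2]))
  exact (cancel_mono eR.hom).1 this

theorem eps_isEquivRel {R X : C} (p₁ p₂ : R ⟶ X) (hR : SGA4.IsEquivRel p₁ p₂) :
    SGA4.IsEquivRel ((eps C).map p₁) ((eps C).map p₂) :=
  isEquivRel_of_iso (p₁ := (Sheaf.canonicalTopology C).yoneda.map p₁)
    (p₂ := (Sheaf.canonicalTopology C).yoneda.map p₂)
    (isEquivRel_of_pointwise _ _ fun U => hR U.unop)
    (epsIso.app R) (epsIso.app X) (epsIso.hom.naturality p₁) (epsIso.hom.naturality p₂)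

theorem isPushout_of_reflexive {E : Type v} [Category.{u} E] {R X B : E} {p₁ p₂ : R ⟶ X} {π : X ⟶ B}
    (w : p₁ ≫ π = p₂ ≫ π) (hc : IsColimit (Cofork.ofπ π w)) (d : X ⟶ R) (hd₁ : d ≫ p₁ = 𝟙 X)
    (hd₂ : d ≫ p₂ = 𝟙 X) : IsPushout p₁ p₂ π π := by
  refine ⟨⟨w⟩, ⟨PushoutCocone.isColimitAux' _ fun s => ?_⟩⟩
  have hs : s.inl = s.inr := by
    have := d ≫= s.condition
    simpa [reassoc_of% hd₁, reassoc_of% hd₂] using this
  refine ⟨Cofork.IsColimit.desc hc s.inl (by simpa [hs] using s.condition),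
    Cofork.IsColimit.π_desc hc, (Cofork.IsColimit.π_desc hc).trans hs, fun {m} h1 _ => ?_⟩
  exact Cofork.IsColimit.hom_ext hc (h1.trans (Cofork.IsColimit.π_desc' hc s.inl _).symm)

theorem effective_iff [HasPullbacks C] {R X : C} (p₁ p₂ : R ⟶ X)
    (hR : SGA4.IsEquivRel p₁ p₂) (c : Cofork p₁ p₂) (hc : IsColimit c) :
    SGA4.IsEffectiveUniversalEquivRel p₁ p₂ ↔
      Nonempty (IsColimit ((eps C).mapCocone c)) := by
  obtain ⟨d, hd₁, hd₂⟩ := (hR X).2.refl (𝟙 X)
  have hc' : IsColimit (Cofork.ofπ c.π c.condition) := IsColimit.ofIsoColimit hc (Cofork.isoCoforkOfπ c)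
  have hpo := isPushout_of_reflexive c.condition hc' d hd₁ hd₂
  constructor
  · rintro ⟨B, π, hpb, hpoB, heff⟩
    let e : c.pt ≅ B := hpo.isoIsPushout _ _ hpoB
    have he : c.π ≫ e.hom = π := hpo.inl_isoIsPushout_hom _ _ hpoB
    have hpb' : IsPullback p₁ p₂ c.π c.π := hpb.of_iso (Iso.refl _) (Iso.refl _) (Iso.refl _) e.symm
      (by simp) (by simp) (by simp [← he]) (by simp [← he])
    have heff' : ∀ (Z : C) (g : Z ⟶ c.pt), EffectiveEpi (pullback.snd c.π g) := by
      intro Z g
      have hq : IsPullback (pullback.fst c.π g) (pullback.snd c.π g) π (g ≫ e.hom) :=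
        (IsPullback.of_hasPullback c.π g).of_iso (Iso.refl _) (Iso.refl _) (Iso.refl _) e
          (by simp) (by simp) (by simp [he]) (by simp)
      have := heff Z (g ≫ e.hom)
      have : EffectiveEpi (hq.isoPullback.hom ≫ pullback.snd π (g ≫ e.hom)) := inferInstance
      rwa [hq.isoPullback_hom_snd] at this
    have hcov : Sieve.ofArrows (fun _ : PUnit.{u+1} => X) (fun _ => c.π) ∈
        Sheaf.canonicalTopology C c.pt := by
      refine Sheaf.mem_finestTopology_of_forall_isSheafFor ?_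
      rintro _ ⟨W, rfl⟩ Z f
      have heq : (Sieve.ofArrows (fun _ : PUnit.{u+1} => X) (fun _ => c.π)).pullback f =
          Sieve.generate (Presieve.singleton (pullback.snd c.π f)) := by
        ext V g
        constructor
        · rintro ⟨_, a, _, ⟨i⟩, fac⟩
          exact ⟨_, pullback.lift a g fac, _, ⟨⟩, pullback.lift_snd _ _ _⟩
        · rintro ⟨_, a, _, ⟨⟩, rfl⟩
          exact ⟨_, a ≫ pullback.fst _ _, _, ⟨PUnit.unit⟩, by
            rw [Category.assoc, pullback.condition, ← Category.assoc]⟩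
      rw [heq, ← Presieve.isSheafFor_iff_generate]
      have := heff' Z f
      exact Presieve.IsSheafFor.singleton_of_isRepresentable_of_effectiveEpi (pullback.snd c.π f) _
    have hep : Epi ((eps C).map c.π) :=
      ⟨fun a b h => (isEpiFamily_iff_covering _ _ _).2 hcov _ a b fun _ => h⟩
    have := effectiveEpi_of_epi ((eps C).map c.π)
    refine ⟨(isColimitMapCoconeCoforkEquiv (eps C) c.condition).symm
      (isColimitCoforkOfEffectiveEpi ((eps C).map c.π) _ (hpb'.map (eps C)).isLimit) |> fun h => ?_⟩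
    exact IsColimit.ofIsoColimit h (Cocone.functoriality _ _ |>.mapIso (Cofork.isoCoforkOfπ c).symm)
  · rintro ⟨hε⟩
    have hε' : IsColimit (Cofork.ofπ ((eps C).map c.π)
        (by rw [← Functor.map_comp, ← Functor.map_comp, c.condition]) :
        Cofork ((eps C).map p₁) ((eps C).map p₂)) :=
      isColimitMapCoconeCoforkEquiv (eps C) c.condition
        (IsColimit.ofIsoColimit hε ((Cocone.functoriality _ _).mapIso (Cofork.isoCoforkOfπ c)))
    obtain ⟨B', π', hpb, hpo', -⟩ := effective_of_isEquivRel _ _ (eps_isEquivRel p₁ p₂ hR)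
    have hpoε := isPushout_of_reflexive _ hε' ((eps C).map d)
      (by rw [← Functor.map_comp, hd₁, CategoryTheory.Functor.map_id]) (by rw [← Functor.map_comp, hd₂, CategoryTheory.Functor.map_id])
    let e := hpo'.isoIsPushout _ _ hpoε
    have he : π' ≫ e.hom = (eps C).map c.π := hpo'.inl_isoIsPushout_hom _ _ hpoε
    have hpbε : IsPullback ((eps C).map p₁) ((eps C).map p₂) ((eps C).map c.π) ((eps C).map c.π) :=
      hpb.of_iso (Iso.refl _) (Iso.refl _) (Iso.refl _) e (by simp) (by simp) (by simp [he]) (by simp [he])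
    refine ⟨c.pt, c.π, IsPullback.of_map_of_faithful (eps C) hpbε, hpo, fun Z g => ?_⟩
    have hep : Epi ((eps C).map c.π) := Cofork.IsColimit.epi hε'
    have hcov : Sieve.ofArrows (fun _ : PUnit.{u+1} => X) (fun _ => c.π) ∈
        Sheaf.canonicalTopology C c.pt :=
      (isEpiFamily_iff_covering _ _ _).1 fun W a b h => (cancel_epi ((eps C).map c.π)).1 (h PUnit.unit)
    have hcov' := (Sheaf.canonicalTopology C).pullback_stable g hcov
    rw [← Sieve.effectiveEpimorphic_singleton]
    rw [Presieve.EffectiveEpimorphic.iff_forall_isSheafFor_yoneda]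
    intro W
    rw [Presieve.isSheafFor_iff_generate]
    refine Sheaf.isSheaf_yoneda_obj W _ ?_
    refine (Sheaf.canonicalTopology C).superset_covering ?_ hcov'
    rintro V k ⟨_, a, _, ⟨i⟩, fac⟩
    exact Sieve.le_generate _ _ _ (Presieve.singleton.mk) |> fun h =>
      (pullback.lift_snd a k fac) ▸ (Sieve.generate _).downward_closed h (pullback.lift a k fac)

end EquivRel

end Groth.Agent.H5CanSite
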