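import Groth.Agent.Lib.H5DTenRel
import Groth.Agent.Lib.H5Amp
import Mathlib.Algebra.Homology.Double
import Mathlib.RingTheory.PicardGroup

universe u

namespace Groth.Agent.H5CartierRHom
open CategoryTheory Limits Category HomologicalComplex
open scoped TensorProduct
open Groth.Agent

attribute [local instance] HasDerivedCategory.standard

section ev
variable {S : Type u} [CommRing S]

/-- the class of `1` in `H^j` of `S[-j]` -/
noncomputable def gen (j : ℤ) : Dual.HD S (DerivedCategory.Q.obj (H5BrownGroth.RS S j)) j :=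
  ((DerivedCategory.homologyFunctorFactors (ModuleCat.{u} S) j).inv.app (H5BrownGroth.RS S j)).hom
    (((singleObjHomologySelfIso (ComplexShape.up ℤ) j (ModuleCat.of S S)).inv).hom (1 : S))

/-- evaluation at the generator -/
noncomputable def evj {j : ℤ} {L : Dual.D S} (u : DerivedCategory.Q.obj (H5BrownGroth.RS S j) ⟶ L) :
    Dual.HD S L j :=
  ((DerivedCategory.homologyFunctor (ModuleCat.{u} S) j).map u).hom (gen j)

lemma evj_add {j : ℤ} {L : Dual.D S} (u v : DerivedCategory.Q.obj (H5BrownGroth.RS S j) ⟶ L) :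
    evj (u + v) = evj u + evj v := by
  rw [evj, Functor.map_add]; rfl

lemma evj_comp {j : ℤ} {L L' : Dual.D S} (u : DerivedCategory.Q.obj (H5BrownGroth.RS S j) ⟶ L) (v : L ⟶ L') :
    evj (u ≫ v) = ((DerivedCategory.homologyFunctor (ModuleCat.{u} S) j).map v).hom (evj u) := by
  rw [evj, Functor.map_comp]; rfl

lemma evj_Q {j : ℤ} {K : DRing.Cx S} (f : H5BrownGroth.RS S j ⟶ K) :
    ((DerivedCategory.homologyFunctorFactors (ModuleCat.{u} S) j).hom.app K).hom (evj (DerivedCategory.Q.map f)) =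
      (homologyMap f j).hom (((singleObjHomologySelfIso (ComplexShape.up ℤ) j (ModuleCat.of S S)).inv).hom (1 : S)) := by
  have h := (DerivedCategory.homologyFunctorFactors (ModuleCat.{u} S) j).hom.naturality f
  simp only [Functor.comp_map] at h
  refine (LinearMap.congr_fun (congrArg ModuleCat.Hom.hom h) (gen j)).trans ?_
  exact congrArg (homologyMap f j).hom
    (LinearMap.congr_fun (congrArg ModuleCat.Hom.hom
      ((DerivedCategory.homologyFunctorFactors (ModuleCat.{u} S) j).inv_hom_id_app (H5BrownGroth.RS S j))) _)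

lemma homologyMap_gen {j : ℤ} {K : DRing.Cx S} (z : K.cycles j) (f : H5BrownGroth.RS S j ⟶ K)
    (hf : (f.f j).hom ((singleObjXSelf (ComplexShape.up ℤ) j (ModuleCat.of S S)).inv.hom (1 : S)) = (K.iCycles j).hom z) :
    (homologyMap f j).hom (((singleObjHomologySelfIso (ComplexShape.up ℤ) j (ModuleCat.of S S)).inv).hom (1 : S)) =
      (K.homologyπ j).hom z := by
  have h1 : (singleObjHomologySelfIso (ComplexShape.up ℤ) j (ModuleCat.of S S)).inv ≫ homologyMap f j =
      ((singleObjCyclesSelfIso (ComplexShape.up ℤ) j (ModuleCat.of S S)).inv ≫ cyclesMap f j) ≫ K.homologyπ j := by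
    rw [← singleObjCyclesSelfIso_inv_homologyπ, assoc, assoc, homologyπ_naturality]
  refine (LinearMap.congr_fun (congrArg ModuleCat.Hom.hom h1) (1 : S)).trans ?_
  refine congrArg (K.homologyπ j).hom ((ModuleCat.mono_iff_injective (K.iCycles j)).1 inferInstance ?_)
  have h2 : (singleObjCyclesSelfIso (ComplexShape.up ℤ) j (ModuleCat.of S S)).inv ≫ cyclesMap f j ≫ K.iCycles j =
      (singleObjXSelf (ComplexShape.up ℤ) j (ModuleCat.of S S)).inv ≫ f.f j := by
    rw [cyclesMap_i, singleObjCyclesSelfIso_inv_iCycles_assoc]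
  exact (LinearMap.congr_fun (congrArg ModuleCat.Hom.hom h2) (1 : S)).trans hf

theorem evj_bijective (j : ℤ) (L : Dual.D S) : Function.Bijective (evj (j := j) (L := L)) := by
  let K := DerivedCategory.Q.objPreimage L
  let e : DerivedCategory.Q.obj K ≅ L := DerivedCategory.Q.objObjPreimageIso L
  let H := DerivedCategory.homologyFunctor (ModuleCat.{u} S) j
  let η := (DerivedCategory.homologyFunctorFactors (ModuleCat.{u} S) j).app K
  suffices h : Function.Bijective (evj (j := j) (L := DerivedCategory.Q.obj K)) by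
    have h2 : evj (j := j) (L := L) = (H.mapIso e).toLinearEquiv ∘ evj ∘ (fun u => u ≫ e.inv) := by
      funext u
      change _ = (H.map e.hom).hom (evj (u ≫ e.inv))
      rw [← evj_comp, assoc, Iso.inv_hom_id, comp_id]
    rw [h2]
    exact (LinearEquiv.bijective _).comp (h.comp
      ⟨fun a b hab => (cancel_mono e.inv).1 hab, fun g => ⟨g ≫ e.hom, (assoc _ _ _).trans ((congrArg (g ≫ ·) e.hom_inv_id).trans (comp_id g))⟩⟩)
  have hinj : Function.Injective η.hom.hom := η.toLinearEquiv.injective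
  refine ⟨?_, fun x => ?_⟩
  · intro u v huv
    obtain ⟨f, rfl⟩ := H5DTen.surj_of_kproj u
    obtain ⟨g, rfl⟩ := H5DTen.surj_of_kproj v
    suffices DerivedCategory.Q.map (f - g) = 0 by rwa [Functor.map_sub, sub_eq_zero] at this
    generalize hw : f - g = w
    have h0 : evj (DerivedCategory.Q.map w) = 0 := by
      have : evj (DerivedCategory.Q.map w + DerivedCategory.Q.map g) = evj (DerivedCategory.Q.map g) := by
        rw [← Functor.map_add, ← hw, sub_add_cancel, huv]
      rw [evj_add] at this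
      exact add_right_cancel (this.trans (zero_add _).symm)
    let e1 : (H5BrownGroth.RS S j).X j := (singleObjXSelf (ComplexShape.up ℤ) j (ModuleCat.of S S)).inv.hom (1 : S)
    have hy : (K.d j (j + 1)).hom ((w.f j).hom e1) = 0 := by
      have h3 := LinearMap.congr_fun (congrArg ModuleCat.Hom.hom (w.comm j (j + 1))) e1
      refine h3.trans ?_
      simp
    let p : ModuleCat.of S S ⟶ K.X j := (singleObjXSelf (ComplexShape.up ℤ) j (ModuleCat.of S S)).inv ≫ w.f j
    have hp : p ≫ K.d j (j + 1) = 0 := by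
      simp [p]
    let z : ModuleCat.of S S ⟶ K.cycles j := K.liftCycles p (j + 1) (CochainComplex.next ℤ j) hp
    have hz : z ≫ K.iCycles j = p := liftCycles_i _ _ _ _ _
    have h4 := evj_Q w
    rw [h0, map_zero, homologyMap_gen (z.hom (1 : S)) w
      (LinearMap.congr_fun (congrArg ModuleCat.Hom.hom hz) (1 : S)).symm] at h4
    obtain ⟨a, ha⟩ := (ShortComplex.moduleCat_exact_iff _).1
      (ShortComplex.exact_of_g_is_cokernel (ShortComplex.mk _ _ (K.toCycles_comp_homologyπ (j - 1) j))
        (K.homologyIsCokernel (j - 1) j (CochainComplex.prev ℤ j))) _ h4.symm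
    have hbd : (K.d (j - 1) j).hom a = p.hom (1 : S) := by
      have h5 := LinearMap.congr_fun (congrArg ModuleCat.Hom.hom (K.toCycles_i (i := j - 1) (j := j))) a
      refine h5.symm.trans ?_
      exact (congrArg (K.iCycles j).hom ha).trans (LinearMap.congr_fun (congrArg ModuleCat.Hom.hom hz) (1 : S))
    let hh : ∀ i i', (ComplexShape.up ℤ).Rel i' i → ((H5BrownGroth.RS S j).X i ⟶ K.X i') := fun i i' hr =>
      if h : i = j then
        (singleObjXIsoOfEq (ComplexShape.up ℤ) j (ModuleCat.of S S) i h).hom ≫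
          ModuleCat.ofHom (LinearMap.toSpanSingleton S (K.X (j - 1)) a) ≫
            eqToHom (by rw [show j - 1 = i' by have : i' + 1 = i := hr; omega])
      else 0
    have hnull : Homotopy.nullHomotopicMap' hh = w := by
      refine from_single_hom_ext ?_
      rw [Homotopy.nullHomotopicMap'_f (k₂ := j - 1) (k₀ := j + 1) (show (j - 1) + 1 = j by omega) rfl]
      simp only [single_obj_d, zero_comp, zero_add]
      rw [← cancel_epi (singleObjXSelf (ComplexShape.up ℤ) j (ModuleCat.of S S)).inv]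
      refine ModuleCat.hom_ext (LinearMap.ext_ring ?_)
      refine Eq.trans ?_ hbd
      simp [hh, singleObjXSelf, singleObjXIsoOfEq]
    rw [← hnull]
    exact (DerivedCategory.Q_map_eq_of_homotopy _ (Homotopy.nullHomotopy' hh)).trans (Functor.map_zero _ _ _)
  · obtain ⟨z, hz⟩ := (ModuleCat.epi_iff_surjective (K.homologyπ j)).1 inferInstance (η.hom.hom x)
    let p : ModuleCat.of S S ⟶ K.cycles j := ModuleCat.ofHom (LinearMap.toSpanSingleton S _ z)
    refine ⟨DerivedCategory.Q.map (mkHomFromSingle (p ≫ K.iCycles j)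
      (fun k _ => by rw [assoc, iCycles_d, comp_zero])), hinj ?_⟩
    refine (evj_Q _).trans ((homologyMap_gen z _ ?_).trans hz)
    have h6 : (singleObjXSelf (ComplexShape.up ℤ) j (ModuleCat.of S S)).inv ≫
        (mkHomFromSingle (p ≫ K.iCycles j) (fun k _ => by rw [assoc, iCycles_d, comp_zero] :
          ∀ k, (ComplexShape.up ℤ).Rel j k → (p ≫ K.iCycles j) ≫ K.d j k = 0)).f j = p ≫ K.iCycles j := by
      rw [mkHomFromSingle_f, Iso.inv_hom_id_assoc]
    refine (LinearMap.congr_fun (congrArg ModuleCat.Hom.hom h6) (1 : S)).trans ?_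
    exact congrArg (K.iCycles j).hom (one_smul S z)

lemma evj_smul {j : ℤ} {L : Dual.D S} (c : S) (u : DerivedCategory.Q.obj (H5BrownGroth.RS S j) ⟶ L) :
    evj (DerivedCategory.Q.map ((single (ModuleCat.{u} S) (ComplexShape.up ℤ) j).map
      (c • 𝟙 (ModuleCat.of S S))) ≫ u) = c • evj u := by
  rw [evj_comp]
  let f := (single (ModuleCat.{u} S) (ComplexShape.up ℤ) j).map (c • 𝟙 (ModuleCat.of S S))
  have h : evj (DerivedCategory.Q.map f) = c • gen j := by
    refine ((DerivedCategory.homologyFunctorFactors (ModuleCat.{u} S) j).app (H5BrownGroth.RS S j)).toLinearEquiv.injective ?_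
    refine (evj_Q f).trans ?_
    have h2 := (homologyFunctorSingleIso (ModuleCat.{u} S) (ComplexShape.up ℤ) j).inv.naturality (c • 𝟙 (ModuleCat.of S S))
    refine (LinearMap.congr_fun (congrArg ModuleCat.Hom.hom h2) (1 : S)).symm.trans ?_
    refine (map_smul (singleObjHomologySelfIso (ComplexShape.up ℤ) j (ModuleCat.of S S)).inv.hom c (1 : S)).trans ?_
    refine Eq.trans ?_ (map_smul ((DerivedCategory.homologyFunctorFactors (ModuleCat.{u} S) j).app
      (H5BrownGroth.RS S j)).hom.hom c (gen j)).symm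
    refine congrArg (c • ·) ?_
    exact (LinearMap.congr_fun (congrArg ModuleCat.Hom.hom
      ((DerivedCategory.homologyFunctorFactors (ModuleCat.{u} S) j).inv_hom_id_app (H5BrownGroth.RS S j))) _).symm
  change ((DerivedCategory.homologyFunctor (ModuleCat.{u} S) j).map u).hom (evj (DerivedCategory.Q.map f)) = _
  rw [h, map_smul]
  rfl

end ev

section semilinear

lemma equiv_of_semilinear {R A : Type u} [CommRing R] [CommRing A] [Algebra R A]
    (hφ : Function.Surjective (algebraMap R A)) {D H : Type u} [AddCommGroup D] [Module R D]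
    [AddCommGroup H] [Module A H] (ψ : D →+ H) (hs : ∀ r d, ψ (r • d) = algebraMap R A r • ψ d)
    (hsurj : Function.Surjective ψ)
    (hker : ∀ d, ψ d = 0 → d ∈ (RingHom.ker (algebraMap R A)) • (⊤ : Submodule R D)) :
    Nonempty (A ⊗[R] D ≃ₗ[A] H) := by
  let _ : Module R H := Module.compHom H (algebraMap R A)
  have : IsScalarTower R A H := ⟨fun r a h => by
    change (r • a) • h = algebraMap R A r • a • h
    rw [Algebra.smul_def, mul_smul]⟩
  let ψ' : D →ₗ[R] H :=
    { toFun := ψ, map_add' := map_add ψ, map_smul' := hs }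
  let Θ : A ⊗[R] D →ₗ[A] H := ψ'.liftBaseChange A
  have h1 : ∀ x : A ⊗[R] D, ∃ d, x = (1 : A) ⊗ₜ[R] d := fun x => by
    induction x using TensorProduct.induction_on with
    | zero => exact ⟨0, (TensorProduct.tmul_zero D (1 : A)).symm⟩
    | tmul a d =>
      obtain ⟨r, rfl⟩ := hφ a
      exact ⟨r • d, by rw [← TensorProduct.smul_tmul, Algebra.algebraMap_eq_smul_one]⟩
    | add x y hx hy =>
      obtain ⟨a, rfl⟩ := hx
      obtain ⟨b, rfl⟩ := hy
      exact ⟨a + b, (TensorProduct.tmul_add _ _ _).symm⟩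
  have h2 : ∀ d, Θ ((1 : A) ⊗ₜ[R] d) = ψ d := fun d => (one_smul A (ψ d) :)
  refine ⟨LinearEquiv.ofBijective Θ ⟨(injective_iff_map_eq_zero Θ).2 fun x hx => ?_, fun h => ?_⟩⟩
  · obtain ⟨d, rfl⟩ := h1 x
    have hd := hker d ((h2 d).symm.trans hx)
    refine Submodule.smul_induction_on (p := fun d => (1 : A) ⊗ₜ[R] d = 0) hd ?_ ?_
    · intro r hr m _
      rw [← TensorProduct.smul_tmul, ← Algebra.algebraMap_eq_smul_one, (RingHom.mem_ker.1 hr),
        TensorProduct.zero_tmul]
    · intro a b ha hb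
      rw [TensorProduct.tmul_add, ha, hb, add_zero]
  · obtain ⟨d, rfl⟩ := hsurj h
    exact ⟨(1 : A) ⊗ₜ[R] d, h2 d⟩

lemma inverse_unique {A : Type u} [CommRing A] {L L' N : Type u} [AddCommGroup L] [Module A L]
    [AddCommGroup L'] [Module A L'] [AddCommGroup N] [Module A N]
    (e' : L' ⊗[A] L ≃ₗ[A] A) (e : L ⊗[A] N ≃ₗ[A] A) : Nonempty (L' ≃ₗ[A] N) :=
  ⟨(TensorProduct.rid A L').symm ≪≫ₗ e.symm.lTensor L' ≪≫ₗ Module.Invertible.leftCancelEquiv N e'⟩

end semilinear

section cartier
variable (R A : Type u) [CommRing R] [CommRing A] [Algebra R A]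

local notation "φ" => algebraMap R A

/-- the two-term complex `I → R` in degrees `k`, `k + 1` -/
noncomputable abbrev P (k : ℤ) : DRing.Cx R :=
  double (ModuleCat.ofHom (Submodule.subtype (RingHom.ker (algebraMap R A))))
    (show (ComplexShape.up ℤ).Rel k (k + 1) from rfl)

lemma ne_succ (k : ℤ) : k ≠ k + 1 := by omega

noncomputable abbrev e₀ (k : ℤ) : (P R A k).X k ≅ ModuleCat.of R (RingHom.ker (algebraMap R A)) :=
  doubleXIso₀ _ _

noncomputable abbrev e₁ (k : ℤ) : (P R A k).X (k + 1) ≅ ModuleCat.of R R :=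
  doubleXIso₁ _ _ (ne_succ k)

/-- `R → res A`, in degree `k + 1` -/
noncomputable abbrev π₁ (k : ℤ) :
    ModuleCat.of R R ⟶ ((DTen.resCx (algebraMap R A)).obj (H5BrownGroth.RS A (k + 1))).X (k + 1) :=
  (ModuleCat.ofHom (X := R) (Y := (DTen.resM (algebraMap R A)).obj (ModuleCat.of A A))
    { toFun := fun r => (algebraMap R A r : A)
      map_add' := fun a b => map_add _ a b
      map_smul' := fun a b => map_mul (algebraMap R A) a b }) ≫
    (DTen.resM (algebraMap R A)).map (singleObjXSelf (ComplexShape.up ℤ) (k + 1) (ModuleCat.of A A)).inv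

noncomputable def π (k : ℤ) : P R A k ⟶ (DTen.resCx (algebraMap R A)).obj (H5BrownGroth.RS A (k + 1)) :=
  mkHomFromDouble _ (ne_succ k) 0 (π₁ R A k)
    (by
      rw [zero_comp]
      refine (ModuleCat.hom_ext (LinearMap.ext fun x => ?_)).symm
      refine (congrArg ((DTen.resM (algebraMap R A)).map
        (singleObjXSelf (ComplexShape.up ℤ) (k + 1) (ModuleCat.of A A)).inv).hom
        (show (algebraMap R A (x : R) : A) = 0 from x.2)).trans (map_zero _))
    (fun j hj => by
      refine (congrArg (fun t => π₁ R A k ≫ t) ?_).trans comp_zero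
      exact (congrArg (fun t => (DTen.resM (algebraMap R A)).map t) (single_obj_d _ _ _ _ _)).trans
        (Functor.map_zero _ _ _))

variable (hφ : Function.Surjective (algebraMap R A))

lemma quasiIsoAt_of_elements {K L : DRing.Cx R} (f : K ⟶ L) (i j k : ℤ)
    (hji : j + 1 = i) (hik : i + 1 = k)
    (hs : ∀ y : L.X i, (L.d i k).hom y = 0 → ∃ (x : K.X i) (w : L.X j),
      (K.d i k).hom x = 0 ∧ (f.f i).hom x - y = (L.d j i).hom w)
    (hi : ∀ (x : K.X i) (w : L.X j), (K.d i k).hom x = 0 → (f.f i).hom x = (L.d j i).hom w →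
      ∃ v : K.X j, (K.d j i).hom v = x) :
    QuasiIsoAt f i := by
  have hnext : (ComplexShape.up ℤ).next i = k := CochainComplex.next ℤ i ▸ hik
  have hprev : (ComplexShape.up ℤ).prev i = j := by simp only [CochainComplex.prev]; omega
  rw [quasiIsoAt_iff_isIso_homologyMap, ConcreteCategory.isIso_iff_bijective]
  have hπ : ∀ {M : DRing.Cx R}, Function.Surjective (M.homologyπ i).hom :=
    fun {M} => (ModuleCat.epi_iff_surjective _).1 inferInstance
  have hinj : ∀ {M : DRing.Cx R}, Function.Injective (M.iCycles i).hom :=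
    fun {M} => (ModuleCat.mono_iff_injective _).1 inferInstance
  have hlift : ∀ {M : DRing.Cx R} (x : M.X i), (M.d i k).hom x = 0 →
      ∃ z : M.cycles i, (M.iCycles i).hom z = x := fun {M} x hx => by
    let ψ : ModuleCat.of R R ⟶ M.X i := ModuleCat.ofHom (LinearMap.toSpanSingleton R _ x)
    have hψ : ψ ≫ M.d i k = 0 := by
      ext; simp [ψ, hx]
    refine ⟨(M.liftCycles ψ k hnext hψ).hom 1, ?_⟩
    have := LinearMap.congr_fun (congrArg ModuleCat.Hom.hom (M.liftCycles_i ψ k hnext hψ)) (1 : R)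
    exact this.trans (one_smul R x)
  have hcyc : ∀ {M : DRing.Cx R} (z : M.cycles i), (M.d i k).hom ((M.iCycles i).hom z) = 0 :=
    fun {M} z => LinearMap.congr_fun (congrArg ModuleCat.Hom.hom (M.iCycles_d i k)) z
  have hbd : ∀ {M : DRing.Cx R} (w : M.X j),
      (M.iCycles i).hom ((M.toCycles j i).hom w) = (M.d j i).hom w :=
    fun {M} w => LinearMap.congr_fun (congrArg ModuleCat.Hom.hom (M.toCycles_i (i := j) (j := i))) w
  have hker : ∀ {M : DRing.Cx R} (w : M.X j),
      (M.homologyπ i).hom ((M.toCycles j i).hom w) = 0 :=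
    fun {M} w => LinearMap.congr_fun (congrArg ModuleCat.Hom.hom (M.toCycles_comp_homologyπ j i)) w
  have hnat : ∀ z : K.cycles i, (homologyMap f i).hom ((K.homologyπ i).hom z) =
      (L.homologyπ i).hom ((cyclesMap f i).hom z) :=
    fun z => LinearMap.congr_fun (congrArg ModuleCat.Hom.hom (homologyπ_naturality f i)) z
  have hci : ∀ z : K.cycles i, (L.iCycles i).hom ((cyclesMap f i).hom z) = (f.f i).hom ((K.iCycles i).hom z) :=
    fun z => LinearMap.congr_fun (congrArg ModuleCat.Hom.hom (cyclesMap_i f i)) z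
  refine ⟨(injective_iff_map_eq_zero (homologyMap f i).hom).2 fun a ha => ?_, fun b => ?_⟩
  · obtain ⟨z, rfl⟩ := hπ a
    rw [hnat] at ha
    obtain ⟨w, hw⟩ := (ShortComplex.moduleCat_exact_iff _).1
      (ShortComplex.exact_of_g_is_cokernel (ShortComplex.mk _ _ (L.toCycles_comp_homologyπ j i))
        (L.homologyIsCokernel j i hprev)) _ ha
    obtain ⟨v, hv⟩ := hi _ w (hcyc z) (by rw [← hci, ← hbd, ← hw])
    rw [show z = (K.toCycles j i).hom v from hinj (by rw [hbd, hv])]
    exact hker v
  · obtain ⟨z, rfl⟩ := hπ b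
    obtain ⟨x, w, hx, hw⟩ := hs _ (hcyc z)
    obtain ⟨z', hz'⟩ := hlift x hx
    refine ⟨(K.homologyπ i).hom z', ?_⟩
    have h1 : (cyclesMap f i).hom z' - z = (L.toCycles j i).hom w := hinj (by
      rw [map_sub, hci, hz', hw, hbd])
    have h2 := congrArg (L.homologyπ i).hom h1
    rw [map_sub, hker, sub_eq_zero, ← hnat] at h2
    exact h2

include hφ in
lemma quasiIso_π (k : ℤ) : QuasiIso (π R A k) := by
  refine ⟨fun i => quasiIsoAt_of_elements R _ i (i - 1) (i + 1) (by omega) rfl ?_ ?_⟩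
  · intro y _
    by_cases hi : i = k + 1
    · subst hi
      let e := (DTen.resM (algebraMap R A)).mapIso (singleObjXSelf (ComplexShape.up ℤ) (k + 1) (ModuleCat.of A A))
      obtain ⟨r, hr⟩ := hφ (e.hom.hom y)
      refine ⟨(e₁ R A k).inv.hom r, 0, ?_, ?_⟩
      · rw [double_d_eq_zero₀ _ _ _ _ (ne_succ k).symm]; rfl
      · rw [map_zero, sub_eq_zero]
        have h : (e₁ R A k).inv ≫ (π R A k).f (k + 1) = π₁ R A k := by
          rw [π, mkHomFromDouble_f₁, Iso.inv_hom_id_assoc]
        refine (LinearMap.congr_fun (congrArg ModuleCat.Hom.hom h) r).trans ?_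
        refine (congrArg e.inv.hom hr).trans ?_
        exact LinearMap.congr_fun (congrArg ModuleCat.Hom.hom e.hom_inv_id) y
    · have := ModuleCat.subsingleton_of_isZero ((DTen.resM (algebraMap R A)).map_isZero
        (isZero_single_obj_X (ComplexShape.up ℤ) (k + 1) (ModuleCat.of A A) i hi))
      exact ⟨0, 0, map_zero _, Subsingleton.elim (α := (DTen.resM (algebraMap R A)).obj _) _ _⟩
  · intro x w hx hxw
    have hw : (((DTen.resCx (algebraMap R A)).obj (H5BrownGroth.RS A (k + 1))).d (i - 1) i).hom w = 0 :=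
      LinearMap.congr_fun (congrArg ModuleCat.Hom.hom ((congrArg (fun t => (DTen.resM (algebraMap R A)).map t)
        (single_obj_d _ _ _ _ _)).trans (Functor.map_zero _ _ _))) w
    rw [hw] at hxw
    by_cases hi : i = k + 1
    · subst hi
      let r : R := (e₁ R A k).hom.hom x
      have h : (π R A k).f (k + 1) = (e₁ R A k).hom ≫ π₁ R A k :=
        mkHomFromDouble_f₁ _ _ _ _ _ _
      have hr : r ∈ RingHom.ker (algebraMap R A) := by
        rw [h] at hxw
        refine RingHom.mem_ker.2 (((DTen.resM (algebraMap R A)).mapIso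
          (singleObjXSelf (ComplexShape.up ℤ) (k + 1) (ModuleCat.of A A))).symm.toLinearEquiv.injective ?_)
        refine Eq.trans ?_ (map_zero ((DTen.resM (algebraMap R A)).mapIso
          (singleObjXSelf (ComplexShape.up ℤ) (k + 1) (ModuleCat.of A A))).symm.toLinearEquiv).symm
        exact hxw
      have hk : k + 1 - 1 = k := by omega
      rw [hk]
      refine ⟨(e₀ R A k).inv.hom ⟨r, hr⟩, ?_⟩
      rw [double_d _ _ (ne_succ k)]
      have h2 : (e₀ R A k).inv ≫ ((e₀ R A k).hom ≫
          ModuleCat.ofHom (Submodule.subtype (RingHom.ker (algebraMap R A))) ≫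
          (e₁ R A k).inv) =
          ModuleCat.ofHom (Submodule.subtype (RingHom.ker (algebraMap R A))) ≫
          (e₁ R A k).inv := by
        rw [Iso.inv_hom_id_assoc]
      refine (LinearMap.congr_fun (congrArg ModuleCat.Hom.hom h2) ⟨r, hr⟩).trans ?_
      exact LinearMap.congr_fun (congrArg ModuleCat.Hom.hom
        (e₁ R A k).hom_inv_id) x
    · refine ⟨0, (map_zero _).trans ?_⟩
      by_cases hi0 : i = k
      · subst hi0
        rw [double_d _ _ (ne_succ i)] at hx
        refine (e₀ R A i).toLinearEquiv.injective (Subtype.ext ?_)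
        refine Eq.trans ?_ ((e₁ R A i).symm.toLinearEquiv.injective
          (hx.trans (map_zero _).symm)).symm
        rw [map_zero]; rfl
      · have := ModuleCat.subsingleton_of_isZero (isZero_double_X
          (ModuleCat.ofHom (Submodule.subtype (RingHom.ker (algebraMap R A))))
          (show (ComplexShape.up ℤ).Rel k (k + 1) from rfl) i hi0 hi)
        exact Subsingleton.elim (α := (P R A k).X i) _ _

include hφ in
lemma isIso_Qπ (k : ℤ) : IsIso (DerivedCategory.Q.map (π R A k)) := by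
  have := quasiIso_π R A hφ k
  infer_instance

/-- `Q(I → R) ≅ res A` -/
noncomputable def eP (k : ℤ) : DerivedCategory.Q.obj (P R A k) ≅
    (DRing.restrictD (algebraMap R A)).obj (DerivedCategory.Q.obj (H5BrownGroth.RS A (k + 1))) :=
  @asIso _ _ _ _ (DerivedCategory.Q.map (π R A k)) (isIso_Qπ R A hφ k) ≪≫
    ((DTen.resFactors (algebraMap R A)).app _).symm

variable [Module.Invertible R (RingHom.ker (algebraMap R A))]

lemma projective_P (k i : ℤ) : Module.Projective R ((P R A k).X i) ∧ Module.Finite R ((P R A k).X i) := by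
  by_cases h0 : i = k
  · subst h0
    exact ⟨Module.Projective.of_equiv (e₀ R A i).toLinearEquiv.symm,
      Module.Finite.equiv (e₀ R A i).toLinearEquiv.symm⟩
  by_cases h1 : i = k + 1
  · subst h1
    exact ⟨Module.Projective.of_equiv (e₁ R A k).toLinearEquiv.symm,
      Module.Finite.equiv (e₁ R A k).toLinearEquiv.symm⟩
  have := ModuleCat.subsingleton_of_isZero (isZero_double_X
    (ModuleCat.ofHom (Submodule.subtype (RingHom.ker (algebraMap R A))))
    (show (ComplexShape.up ℤ).Rel k (k + 1) from rfl) i h0 h1)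
  exact ⟨inferInstance, inferInstance⟩

lemma vanishes_P (k : ℤ) : DRing.VanishesOutside (P R A k) k (k + 1) := fun i hi =>
  isZero_double_X _ _ i (by omega) (by omega)

lemma kproj_P (k : ℤ) : CochainComplex.IsKProjective (P R A k) :=
  H5Amp.Proj.kproj (a := k) (b := k + 1) ⟨vanishes_P R A k, fun i => (projective_P R A k i).1⟩

include hφ in
theorem isPerfect_res_unit :
    DRing.IsPerfect R ((DRing.restrictD (algebraMap R A)).obj (DTen.unit A)) :=
  ⟨P R A (-1), -1, -1 + 1, vanishes_P R A (-1),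
    fun i => ⟨(projective_P R A (-1) i).2, (projective_P R A (-1) i).1⟩, ⟨eP R A hφ (-1)⟩⟩

lemma eq_zero_of_mul_ker {r : R} (h : ∀ x ∈ RingHom.ker (algebraMap R A), r * x = 0) : r = 0 :=
  FaithfulSMul.eq_of_smul_eq_smul (α := RingHom.ker (algebraMap R A)) fun x => by
    rw [zero_smul]; exact Subtype.ext (h x x.2)

lemma subtype_mem_smul_top :
    (Submodule.subtype (RingHom.ker (algebraMap R A)) : Module.Dual R (RingHom.ker (algebraMap R A))) ∈
      RingHom.ker (algebraMap R A) • (⊤ : Submodule R (Module.Dual R (RingHom.ker (algebraMap R A)))) := by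
  let I := RingHom.ker (algebraMap R A)
  obtain ⟨t, ht⟩ := (Module.Invertible.linearEquiv R I).surjective 1
  have key : ∀ t : Module.Dual R I ⊗[R] I, ((Module.Invertible.linearEquiv R I) t) • (Submodule.subtype I :
      Module.Dual R I) ∈ I • (⊤ : Submodule R (Module.Dual R I)) := by
    intro t
    induction t using TensorProduct.induction_on with
    | zero => rw [map_zero, zero_smul]; exact zero_mem _
    | tmul g x =>
      have h : ((Module.Invertible.linearEquiv R I) (g ⊗ₜ[R] x)) • (Submodule.subtype I : Module.Dual R I) = (x : R) • g := by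
        refine LinearMap.ext fun y => ?_
        change g x * (y : R) = (x : R) * g y
        rw [← smul_eq_mul (x : R) (g y), ← map_smul, mul_comm, ← smul_eq_mul (y : R) (g x), ← map_smul]
        exact congrArg g (Subtype.ext (mul_comm _ _))
      rw [h]
      exact Submodule.smul_mem_smul x.2 trivial
    | add a b ha hb => rw [map_add, add_smul]; exact add_mem ha hb
  simpa [ht] using key t

end cartier

section main
variable (R A : Type u) [CommRing R] [CommRing A] [Algebra R A] (hφ : Function.Surjective (algebraMap R A))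
  [DTen.HasRHomRel (algebraMap R A)]

/-- `RHom(A, R)` -/
noncomputable abbrev M₀ : Dual.D A := (DTen.RHomRel (algebraMap R A)).obj (DTen.unit R)

/-- the chain of bijections -/
noncomputable def adjP (k : ℤ) : (DerivedCategory.Q.obj (H5BrownGroth.RS A (k + 1)) ⟶ M₀ R A) ≃
    (DerivedCategory.Q.obj (P R A k) ⟶ DTen.unit R) :=
  ((DTen.relAdj (algebraMap R A)).homEquiv _ _).symm.trans
    { toFun := fun x => (eP R A hφ k).hom ≫ x
      invFun := fun x => (eP R A hφ k).inv ≫ x
      left_inv := fun x => (eP R A hφ k).inv_hom_id_assoc x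
      right_inv := fun x => (eP R A hφ k).hom_inv_id_assoc x }

lemma adjP_add (k : ℤ) (u v : DerivedCategory.Q.obj (H5BrownGroth.RS A (k + 1)) ⟶ M₀ R A) :
    adjP R A hφ k (u + v) = adjP R A hφ k u + adjP R A hφ k v := by
  change (eP R A hφ k).hom ≫ ((DTen.relAdj (algebraMap R A)).homEquiv _ _).symm (u + v) = _
  rw [Adjunction.homEquiv_counit, Functor.map_add, Preadditive.add_comp, Preadditive.comp_add,
    ← Adjunction.homEquiv_counit, ← Adjunction.homEquiv_counit]
  rfl

lemma adjP_precomp (k : ℤ) (a : H5BrownGroth.RS A (k + 1) ⟶ H5BrownGroth.RS A (k + 1)) (m : P R A k ⟶ P R A k)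
    (h : m ≫ π R A k = π R A k ≫ (DTen.resCx (algebraMap R A)).map a)
    (u : DerivedCategory.Q.obj (H5BrownGroth.RS A (k + 1)) ⟶ M₀ R A) :
    adjP R A hφ k (DerivedCategory.Q.map a ≫ u) = DerivedCategory.Q.map m ≫ adjP R A hφ k u := by
  change (eP R A hφ k).hom ≫ ((DTen.relAdj (algebraMap R A)).homEquiv _ _).symm (DerivedCategory.Q.map a ≫ u) = _
  rw [Adjunction.homEquiv_naturality_left_symm, ← assoc]
  refine Eq.trans (congrArg (fun t => t ≫ ((DTen.relAdj (algebraMap R A)).homEquiv _ _).symm u) ?_) (assoc _ _ _)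
  have n1 := (DTen.resFactors (algebraMap R A)).inv.naturality a
  change (DerivedCategory.Q.map (π R A k) ≫ (DTen.resFactors (algebraMap R A)).inv.app _) ≫
      (DRing.restrictD (algebraMap R A)).map (DerivedCategory.Q.map a) =
    DerivedCategory.Q.map m ≫ DerivedCategory.Q.map (π R A k) ≫ (DTen.resFactors (algebraMap R A)).inv.app _
  rw [assoc]
  refine (congrArg (fun t => DerivedCategory.Q.map (π R A k) ≫ t) n1.symm).trans ?_
  rw [Functor.comp_map, ← assoc, ← assoc, ← Functor.map_comp, ← Functor.map_comp, h]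

variable [Module.Invertible R (RingHom.ker (algebraMap R A))]

lemma eq_zero_of_ne (k : ℤ) (hk : k ≠ 0) (x : DerivedCategory.Q.obj (P R A k) ⟶ DTen.unit R) : x = 0 := by
  have := kproj_P R A k
  obtain ⟨f, rfl⟩ := H5DTen.surj_of_kproj (A := R) (X := H5BrownGroth.RS R 0) x
  suffices f = 0 by subst this; exact Functor.map_zero _ _ _
  refine from_double_hom_ext ((isZero_single_obj_X _ _ _ _ hk).eq_of_tgt _ _) ?_
  by_cases h1 : k + 1 = 0
  · obtain rfl : k = -1 := by omega
    let g : ModuleCat.of R R ⟶ ModuleCat.of R R :=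
      (e₁ R A (-1)).inv ≫ f.f (-1 + 1) ≫ (singleObjXSelf (ComplexShape.up ℤ) 0 (ModuleCat.of R R)).hom
    have h2 : (P R A (-1)).d (-1) (-1 + 1) ≫ f.f (-1 + 1) = 0 := by
      rw [← f.comm]
      exact (congrArg (fun t => f.f (-1) ≫ t) (single_obj_d _ _ _ _ _)).trans comp_zero
    have h3 : ModuleCat.ofHom (Submodule.subtype (RingHom.ker (algebraMap R A))) ≫ g = 0 := by
      rw [double_d _ _ (ne_succ (-1))] at h2
      rw [← cancel_epi (e₀ R A (-1)).hom, comp_zero]
      exact (congrArg (fun t => t ≫ (singleObjXSelf (ComplexShape.up ℤ) 0 (ModuleCat.of R R)).hom) h2).trans zero_comp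
        |> fun h => by simpa [g] using h
    have hg : g = 0 := by
      refine ModuleCat.hom_ext (LinearMap.ext_ring ?_)
      refine eq_zero_of_mul_ker R A fun x hx => ?_
      have h4 : g.hom x = 0 := LinearMap.congr_fun (congrArg ModuleCat.Hom.hom h3) ⟨x, hx⟩
      rw [mul_comm, ← smul_eq_mul, ← map_smul, smul_eq_mul, mul_one, h4]
    rw [← cancel_epi (e₁ R A (-1)).inv, ← cancel_mono (singleObjXSelf (ComplexShape.up ℤ) 0 (ModuleCat.of R R)).hom]
    simpa [g, assoc] using hg
  · exact (isZero_single_obj_X _ _ _ _ h1).eq_of_tgt _ _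

include hφ in
theorem subsingleton_H (k : ℤ) (hk : k ≠ 0) : Subsingleton (Dual.HD A (M₀ R A) (k + 1)) := by
  refine ⟨fun a b => ?_⟩
  obtain ⟨u, rfl⟩ := (evj_bijective (k + 1) (M₀ R A)).2 a
  obtain ⟨v, rfl⟩ := (evj_bijective (k + 1) (M₀ R A)).2 b
  exact congrArg evj ((adjP R A hφ k).injective ((eq_zero_of_ne R A k hk _).trans (eq_zero_of_ne R A k hk _).symm))

omit [DTen.HasRHomRel (algebraMap R A)] in
/-- the map of complexes attached to a functional on `I` -/
noncomputable def fg (g : Module.Dual R (RingHom.ker (algebraMap R A))) : P R A 0 ⟶ H5BrownGroth.RS R 0 :=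
  mkHomFromDouble _ (ne_succ 0)
    (ModuleCat.ofHom g ≫ (singleObjXSelf (ComplexShape.up ℤ) 0 (ModuleCat.of R R)).inv) 0
    (by simp) (fun j _ => by simp)

/-- `Hom(I, R) → H¹ RHom(A, R)` -/
noncomputable def psi : Module.Dual R (RingHom.ker (algebraMap R A)) →+ Dual.HD A (M₀ R A) (0 + 1) :=
  AddMonoidHom.mk' (fun g => evj ((adjP R A hφ 0).symm (DerivedCategory.Q.map (fg R A g)))) fun g g' => by
    rw [← evj_add]
    refine congrArg evj ((adjP R A hφ 0).symm_apply_eq.2 ?_)
    rw [adjP_add, Equiv.apply_symm_apply, Equiv.apply_symm_apply]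
    refine ((congrArg (fun t => DerivedCategory.Q.map t) ?_).trans (Functor.map_add _))
    refine from_double_hom_ext ?_ ?_
    · simp [fg, ModuleCat.ofHom_add]
    · simp [fg]

lemma psi_smul (r : R) (g : Module.Dual R (RingHom.ker (algebraMap R A))) :
    psi R A hφ (r • g) = algebraMap R A r • psi R A hφ g := by
  refine Eq.trans ?_ (evj_smul (algebraMap R A r) _)
  refine congrArg evj ((adjP R A hφ 0).symm_apply_eq.2 ?_)
  let m : P R A 0 ⟶ P R A 0 := r • 𝟙 _
  rw [adjP_precomp R A hφ 0 _ m ?_, Equiv.apply_symm_apply, ← Functor.map_comp]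
  · refine congrArg (fun t => DerivedCategory.Q.map t) (from_double_hom_ext ?_ ?_)
    · simp [fg, m, show ModuleCat.ofHom (r • g) = r • ModuleCat.ofHom g from rfl]
    · simp [fg, m]
  · refine from_double_hom_ext ?_ ?_
    · simp [π, m]
    · rw [← cancel_epi (e₁ R A 0).inv]
      refine ModuleCat.hom_ext (LinearMap.ext_ring ?_)
      have h1 : (e₁ R A 0).inv ≫ (π R A 0).f (0 + 1) = π₁ R A 0 := by
        rw [π, mkHomFromDouble_f₁, Iso.inv_hom_id_assoc]
      have hl : (e₁ R A 0).inv ≫ (m ≫ π R A 0).f (0 + 1) = r • π₁ R A 0 := by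
        change (e₁ R A 0).inv ≫ (r • 𝟙 ((P R A 0).X (0 + 1))) ≫ (π R A 0).f (0 + 1) = _
        rw [Linear.smul_comp, id_comp, Linear.comp_smul, h1]
      have hr : (e₁ R A 0).inv ≫ (π R A 0 ≫ (DTen.resCx (algebraMap R A)).map
          ((single (ModuleCat.{u} A) (ComplexShape.up ℤ) (0 + 1)).map (algebraMap R A r • 𝟙 (ModuleCat.of A A)))).f (0 + 1) =
          π₁ R A 0 ≫ (DTen.resM (algebraMap R A)).map
          (((single (ModuleCat.{u} A) (ComplexShape.up ℤ) (0 + 1)).map (algebraMap R A r • 𝟙 (ModuleCat.of A A))).f (0 + 1)) := by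
        exact (assoc _ _ _).symm.trans (congrArg (fun t => t ≫ _) h1)
      rw [hl, hr, single_map_f_self]
      change algebraMap R A r • (singleObjXSelf (ComplexShape.up ℤ) (0 + 1) (ModuleCat.of A A)).inv.hom (algebraMap R A 1) =
        (singleObjXSelf (ComplexShape.up ℤ) (0 + 1) (ModuleCat.of A A)).inv.hom
          (algebraMap R A r • ((singleObjXSelf (ComplexShape.up ℤ) (0 + 1) (ModuleCat.of A A)).hom.hom
          ((singleObjXSelf (ComplexShape.up ℤ) (0 + 1) (ModuleCat.of A A)).inv.hom (algebraMap R A 1))))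
      rw [← map_smul]
      refine congrArg _ (congrArg (algebraMap R A r • ·) ?_)
      exact (LinearMap.congr_fun (congrArg ModuleCat.Hom.hom
        (singleObjXSelf (ComplexShape.up ℤ) (0 + 1) (ModuleCat.of A A)).inv_hom_id) (algebraMap R A 1)).symm

lemma psi_surjective : Function.Surjective (psi R A hφ) := fun y => by
  obtain ⟨u, rfl⟩ := (evj_bijective (0 + 1) (M₀ R A)).2 y
  have := kproj_P R A 0
  obtain ⟨f, hf⟩ := H5DTen.surj_of_kproj (A := R) (X := H5BrownGroth.RS R 0) (adjP R A hφ 0 u)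
  refine ⟨((e₀ R A 0).inv ≫ f.f 0 ≫ (singleObjXSelf (ComplexShape.up ℤ) 0 (ModuleCat.of R R)).hom).hom, ?_⟩
  refine congrArg evj ((adjP R A hφ 0).symm_apply_eq.2 (Eq.trans ?_ hf))
  refine congrArg (fun t => DerivedCategory.Q.map t) (from_double_hom_ext ?_ ?_)
  · simp [fg]
  · exact (isZero_single_obj_X _ _ _ _ (by omega)).eq_of_tgt _ _

lemma psi_ker (g : Module.Dual R (RingHom.ker (algebraMap R A))) (hg : psi R A hφ g = 0) :
    g ∈ RingHom.ker (algebraMap R A) • (⊤ : Submodule R (Module.Dual R (RingHom.ker (algebraMap R A)))) := by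
  have := kproj_P R A 0
  have h0 : evj ((adjP R A hφ 0).symm (DerivedCategory.Q.map (fg R A g))) =
      evj ((adjP R A hφ 0).symm (DerivedCategory.Q.map (fg R A 0))) :=
    hg.trans (map_zero (psi R A hφ)).symm
  obtain ⟨h⟩ := H5DTen.homotopic_of_Q_eq
    ((adjP R A hφ 0).symm.injective ((evj_bijective _ _).1 h0))
  have hc := h.comm 0
  rw [dNext_eq _ (show (ComplexShape.up ℤ).Rel 0 (0 + 1) from rfl),
    prevD_eq _ (show (ComplexShape.up ℤ).Rel (-1) 0 from rfl)] at hc
  let t : ModuleCat.of R R ⟶ ModuleCat.of R R :=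
    (e₁ R A 0).inv ≫ h.hom (0 + 1) 0 ≫ (singleObjXSelf (ComplexShape.up ℤ) 0 (ModuleCat.of R R)).hom
  have hgt : ModuleCat.ofHom g = ModuleCat.ofHom (Submodule.subtype (RingHom.ker (algebraMap R A))) ≫ t := by
    have hc' := congrArg (fun z => (e₀ R A 0).inv ≫ z ≫ (singleObjXSelf (ComplexShape.up ℤ) 0 (ModuleCat.of R R)).hom) hc
    have hd : (H5BrownGroth.RS R 0).d (-1) 0 = 0 := single_obj_d _ _ _ _ _
    have h0 : (fg R A 0).f 0 = 0 := by simp [fg]
    have hP : (P R A 0).d 0 (0 + 1) = (e₀ R A 0).hom ≫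
        ModuleCat.ofHom (Submodule.subtype (RingHom.ker (algebraMap R A))) ≫ (e₁ R A 0).inv :=
      double_d _ _ (ne_succ 0)
    have hg' : (fg R A g).f 0 = (e₀ R A 0).hom ≫ ModuleCat.ofHom g ≫
        (singleObjXSelf (ComplexShape.up ℤ) 0 (ModuleCat.of R R)).inv := by simp [fg]
    rw [h0, add_zero, hg', hP] at hc'
    simp only [assoc, Iso.inv_hom_id_assoc, Iso.inv_hom_id, comp_id, Preadditive.add_comp, Preadditive.comp_add] at hc'
    refine hc'.trans ((congrArg₂ (· + ·) rfl ?_).trans (add_zero _))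
    refine (congrArg (fun z => (e₀ R A 0).inv ≫ h.hom 0 (-1) ≫ z) ?_).trans (by rw [comp_zero, comp_zero])
    exact (congrArg (fun z => z ≫ (singleObjXSelf (ComplexShape.up ℤ) 0 (ModuleCat.of R R)).hom) hd).trans zero_comp
  have : g = t.hom (1 : R) • (Submodule.subtype (RingHom.ker (algebraMap R A)) : Module.Dual R (RingHom.ker (algebraMap R A))) := by
    refine LinearMap.ext fun x => ?_
    refine (LinearMap.congr_fun (congrArg ModuleCat.Hom.hom hgt) x).trans ?_
    change t.hom (x : R) = t.hom (1 : R) * (x : R)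
    rw [mul_comm, ← smul_eq_mul (x : R) (t.hom (1 : R)), ← map_smul, smul_eq_mul, mul_one]
  rw [this]
  exact Submodule.smul_mem _ _ (subtype_mem_smul_top R A)

include hφ in
theorem main (N : Type u) [AddCommGroup N] [Module A N]
    (e : (A ⊗[R] (RingHom.ker (algebraMap R A))) ⊗[A] N ≃ₗ[A] A)
    [DTen.HasLTenMix (algebraMap R A)] :
    Nonempty (DTen.RHomRel (algebraMap R A) ≅
      (Functor.curry.obj (DTen.LTenMix (algebraMap R A))).flip.obj ((Dual.inD A N)⟦(-1 : ℤ)⟧)) := by
  obtain ⟨E⟩ := H5DTenRel.rhomRel_iso (φ := algebraMap R A) (isPerfect_res_unit R A hφ)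
  let M := M₀ R A
  have hv : ∀ i : ℤ, i ≠ 0 + 1 → IsZero ((DerivedCategory.homologyFunctor (ModuleCat.{u} A) i).obj M) := fun i hi => by
    obtain ⟨k, rfl⟩ : ∃ k, i = k + 1 := ⟨i - 1, by omega⟩
    have : Subsingleton ↥((DerivedCategory.homologyFunctor (ModuleCat.{u} A) (k + 1)).obj M) :=
      subsingleton_H R A hφ k (by omega)
    exact ModuleCat.isZero_of_subsingleton _
  have : M.IsGE (0 + 1) := (DerivedCategory.isGE_iff _ _).2 fun i hi => hv i (by omega)
  have : M.IsLE (0 + 1) := (DerivedCategory.isLE_iff _ _).2 fun i hi => hv i (by omega)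
  obtain ⟨Y, ⟨eY⟩⟩ := DerivedCategory.exists_iso_singleFunctor_obj_of_isGE_of_isLE M (0 + 1)
  let η : (DerivedCategory.homologyFunctor (ModuleCat.{u} A) (0 + 1)).obj M ≅ Y :=
    (DerivedCategory.homologyFunctor (ModuleCat.{u} A) (0 + 1)).mapIso
        (eY ≪≫ (DerivedCategory.singleFunctorIsoCompQ (ModuleCat.{u} A) (0 + 1)).app Y) ≪≫
      (DerivedCategory.homologyFunctorFactors (ModuleCat.{u} A) (0 + 1)).app _ ≪≫
      singleObjHomologySelfIso (ComplexShape.up ℤ) (0 + 1) Y
  obtain ⟨eD⟩ := equiv_of_semilinear hφ (psi R A hφ) (psi_smul R A hφ) (psi_surjective R A hφ) (psi_ker R A hφ)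
  let eI : (A ⊗[R] Module.Dual R (RingHom.ker (algebraMap R A))) ⊗[A] (A ⊗[R] (RingHom.ker (algebraMap R A))) ≃ₗ[A] A :=
    (TensorProduct.AlgebraTensorModule.distribBaseChange R A _ _).symm ≪≫ₗ
      TensorProduct.AlgebraTensorModule.congr (LinearEquiv.refl A A)
        (Module.Invertible.linearEquiv R (RingHom.ker (algebraMap R A))) ≪≫ₗ
      TensorProduct.AlgebraTensorModule.rid R A A
  obtain ⟨eN⟩ := inverse_unique eI e
  let j : M ≅ (Dual.inD A N)⟦(-1 : ℤ)⟧ :=
    eY ≪≫ (DerivedCategory.singleFunctor (ModuleCat.{u} A) (0 + 1)).mapIso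
      (η.symm ≪≫ (eD.symm ≪≫ₗ eN).toModuleIso) ≪≫
    (((DerivedCategory.singleFunctors (ModuleCat.{u} A)).shiftIso (-1) (0 + 1) 0 (by omega)).app (ModuleCat.of A N)).symm
  exact ⟨E ≪≫ (Functor.curry.obj (DTen.LTenMix (algebraMap R A))).flip.mapIso j⟩

end main

end Groth.Agent.H5CartierRHom
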