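import Mathlib
set_option autoImplicit false
universe u v w u₁ v₁ u₂ v₂ u₃ v₃
open CategoryTheory CategoryTheory.Limits

namespace Groth.Agent.H5Cat

theorem adj_ff {C : Type u₁} [Category.{v₁} C] {D : Type u₂} [Category.{v₂} D] {u : C ⥤ D} {v : D ⥤ C} (adj : u ⊣ v) :
    ((u ⋙ v).Full → (u ⋙ v).Faithful → u.Full ∧ u.Faithful) ∧ ((v ⋙ u).Full → (v ⋙ u).Faithful → v.Full ∧ v.Faithful) := by
  constructor
  · intro hF hf
    refine ⟨⟨fun {X Y} g => ?_⟩, Functor.Faithful.of_comp u v⟩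
    obtain ⟨h, hh⟩ := hF.map_surjective (v.map g)
    refine ⟨h, (adj.homEquiv _ _).injective ?_⟩
    simp only [Adjunction.homEquiv_unit]
    rw [show v.map (u.map h) = v.map g from hh]
  · intro hF hf
    refine ⟨⟨fun {X Y} g => ?_⟩, Functor.Faithful.of_comp v u⟩
    obtain ⟨h, hh⟩ := hF.map_surjective (u.map g)
    refine ⟨h, (adj.homEquiv _ _).symm.injective ?_⟩
    simp only [Adjunction.homEquiv_counit]
    rw [show u.map (v.map h) = u.map g from hh]

section fib
variable {𝒜 : Type u₁} [Category.{v₁} 𝒜] {ℬ : Type u₂} [Category.{v₂} ℬ] {𝒞 : Type u₃} [Category.{v₃} 𝒞]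

theorem sc_comp (F : 𝒜 ⥤ ℬ) (G : ℬ ⥤ 𝒞) {x y : 𝒜} (φ : x ⟶ y)
    [F.IsStronglyCartesian (F.map φ) φ] [G.IsStronglyCartesian (G.map (F.map φ)) (F.map φ)] :
    (F ⋙ G).IsStronglyCartesian ((F ⋙ G).map φ) φ := by
  constructor
  intro z g ψ hψ
  have e : G.map (F.map ψ) = g ≫ G.map (F.map φ) := by
    have := IsHomLift.fac' (F ⋙ G) (g ≫ (F ⋙ G).map φ) ψ
    simpa using this
  have : G.IsHomLift (g ≫ G.map (F.map φ)) (F.map ψ) := by rw [← e]; infer_instance
  obtain ⟨m, ⟨hm, hm'⟩, hmu⟩ := Functor.IsStronglyCartesian.universal_property G (G.map (F.map φ)) (F.map φ) g _ rfl (F.map ψ)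
  have hgm : G.map m = g := by
    have := IsHomLift.fac' G g m; simpa using this
  have : F.IsHomLift (m ≫ F.map φ) ψ := by rw [hm']; infer_instance
  obtain ⟨χ, ⟨hχ, hχ'⟩, hχu⟩ := Functor.IsStronglyCartesian.universal_property F (F.map φ) φ m _ rfl ψ
  have hFχ : F.map χ = m := by have := IsHomLift.fac' F m χ; simpa using this
  refine ⟨χ, ⟨?_, hχ'⟩, ?_⟩
  · have : g = (F ⋙ G).map χ := by rw [Functor.comp_map, hFχ, hgm]
    rw [this]; infer_instance
  · rintro χ' ⟨h1, h2⟩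
    have hg' : G.map (F.map χ') = g := by
      have := IsHomLift.fac' (F ⋙ G) g χ'; simpa using this
    have hm2 : F.map χ' = m := hmu _ ⟨by rw [← hg']; infer_instance, by rw [← F.map_comp, h2]⟩
    exact hχu _ ⟨by rw [← hm2]; infer_instance, h2⟩

theorem fib_comp (F : 𝒜 ⥤ ℬ) (G : ℬ ⥤ 𝒞) [F.IsFibered] [G.IsFibered] : (F ⋙ G).IsFibered := by
  refine Functor.IsFibered.of_exists_isStronglyCartesian fun a R f => ?_
  obtain ⟨b, g, hg⟩ := Functor.IsPreFibered.exists_isCartesian' (p := G) f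
  obtain ⟨a', φ, hφ⟩ := Functor.IsPreFibered.exists_isCartesian' (p := F) g
  obtain rfl : F.obj a' = b := IsHomLift.domain_eq F g φ
  obtain rfl : g = F.map φ := by
    have := IsHomLift.fac F g φ; simpa using this
  obtain rfl : G.obj (F.obj a') = R := IsHomLift.domain_eq G f (F.map φ)
  obtain rfl : f = G.map (F.map φ) := by
    have := IsHomLift.fac G f (F.map φ); simpa using this
  exact ⟨a', φ, sc_comp F G φ⟩

theorem over_obj_ext {U : ℬ} : ∀ (X Y : Over U) (h : X.left = Y.left), X.hom = eqToHom h ≫ Y.hom → X = Y := by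
  rintro ⟨l, ⟨⟨⟩⟩, m⟩ ⟨l', ⟨⟨⟩⟩, m'⟩ h e
  change l = l' at h
  subst h
  change m = eqToHom rfl ≫ m' at e
  simp only [eqToHom_refl, Category.id_comp] at e
  subst e
  rfl

theorem fib_overForget {U : ℬ} (p' : 𝒜 ⥤ Over U) [(p' ⋙ Over.forget U).IsFibered] : p'.IsFibered := by
  refine Functor.IsFibered.of_exists_isStronglyCartesian fun a R f => ?_
  obtain ⟨a', φ, hφ⟩ := Functor.IsPreFibered.exists_isCartesian' (p := p' ⋙ Over.forget U) (a := a) f.left
  have hL : (p' ⋙ Over.forget U).IsHomLift f.left φ := hφ.toIsHomLift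
  have hobj : p'.obj a' = R := by
    have h1 : (p'.obj a').left = R.left := @IsHomLift.domain_eq _ _ _ _ (p' ⋙ Over.forget U) _ _ _ _ f.left φ hL
    refine over_obj_ext _ _ h1 ?_
    have h2 := @IsHomLift.fac' _ _ _ _ (p' ⋙ Over.forget U) _ _ _ _ f.left φ hL
    rw [← Over.w (p'.map φ), show (p'.map φ).left = (p' ⋙ Over.forget U).map φ from rfl, h2]
    erw [Category.assoc, Category.assoc]
    congr 1
    erw [eqToHom_refl, Category.id_comp, Over.w f]
  subst hobj
  have hf : f = p'.map φ := Over.OverMorphism.ext (by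
    have := @IsHomLift.fac _ _ _ _ (p' ⋙ Over.forget U) _ _ _ _ f.left φ hL
    rw [this]
    show eqToHom rfl ≫ (p'.map φ).left ≫ eqToHom rfl = _
    simp)
  subst hf
  refine ⟨a', φ, ⟨fun {z} g ψ hψ => ?_⟩⟩
  have e : p'.map ψ = g ≫ p'.map φ := by
    have := IsHomLift.fac' p' (g ≫ p'.map φ) ψ; simpa using this
  have : (p' ⋙ Over.forget U).IsHomLift (g.left ≫ (p'.map φ).left) ψ := by
    rw [show g.left ≫ (p'.map φ).left = (p' ⋙ Over.forget U).map ψ by simp [e]]
    exact Functor.IsHomLift.map (p := p' ⋙ Over.forget U) ψ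
  have : (p' ⋙ Over.forget U).IsStronglyCartesian (p'.map φ).left φ :=
    @Functor.IsFibered.isStronglyCartesian_of_isCartesian _ _ _ _ (p' ⋙ Over.forget U) _ _ _ (p'.map φ).left _ _ φ hφ
  obtain ⟨χ, ⟨h1, h2⟩, hu⟩ := Functor.IsStronglyCartesian.universal_property (p' ⋙ Over.forget U) (p'.map φ).left φ g.left _ rfl ψ
  have hgl : ∀ (χ' : z ⟶ a'), p'.IsHomLift g χ' ↔ (p' ⋙ Over.forget U).IsHomLift g.left χ' := by
    intro χ'
    constructor
    · intro h
      have : g = p'.map χ' := by have := IsHomLift.fac p' g χ'; simpa using this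
      rw [this]; exact Functor.IsHomLift.map (p := p' ⋙ Over.forget U) χ'
    · intro h
      have : g.left = (p'.map χ').left := by
        rw [@IsHomLift.fac _ _ _ _ (p' ⋙ Over.forget U) _ _ _ _ g.left χ' h]
        show eqToHom rfl ≫ (p'.map χ').left ≫ eqToHom rfl = _
        simp
      rw [Over.OverMorphism.ext this]; infer_instance
  exact ⟨χ, ⟨(hgl χ).2 h1, h2⟩, fun χ' h => hu χ' ⟨(hgl χ').1 h.1, h.2⟩⟩

theorem reflects_iff (p : 𝒜 ⥤ ℬ) [p.IsFibered] :
    p.ReflectsIsomorphisms ↔ ∀ b : ℬ, IsGroupoid (p.Fiber b) := by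
  constructor
  · intro h b
    refine ⟨fun {x y} f => ?_⟩
    have := f.2
    have h1 : p.map f.1 = eqToHom (x.2.trans y.2.symm) := by
      have := IsHomLift.fac' p (𝟙 b) f.1; simpa using this
    have : IsIso (p.map f.1) := by rw [h1]; infer_instance
    have : IsIso f.1 := isIso_of_reflects_iso f.1 p
    exact ⟨⟨inv f.1, inferInstance⟩, Functor.Fiber.hom_ext (IsIso.hom_inv_id f.1), Functor.Fiber.hom_ext (IsIso.inv_hom_id f.1)⟩
  · intro h
    refine ⟨fun {x y} f hf => ?_⟩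
    obtain ⟨x', φ, hφ⟩ := Functor.IsPreFibered.exists_isCartesian' (p := p) (p.map f)
    let τ := Functor.IsCartesian.map p (p.map f) φ f
    let τ' : Functor.Fiber.mk (rfl : p.obj x = p.obj x) ⟶ Functor.Fiber.mk (IsHomLift.domain_eq p (p.map f) φ) :=
      ⟨τ, inferInstanceAs (p.IsHomLift (𝟙 (p.obj x)) τ)⟩
    have := (h (p.obj x)).all_isIso τ'
    have : IsIso τ := inferInstanceAs (IsIso (Functor.Fiber.fiberInclusion.map τ'))
    have : IsIso φ := Functor.IsStronglyCartesian.isIso_of_base_isIso p (p.map f) φ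
    rw [← Functor.IsCartesian.fac p (p.map f) φ f]
    infer_instance

theorem faithful_iff (p : 𝒜 ⥤ ℬ) [p.IsFibered] :
    p.Faithful ↔ ∀ (b : ℬ) (x y : p.Fiber b), Subsingleton (x ⟶ y) := by
  constructor
  · intro h b x y
    refine ⟨fun f g => Functor.Fiber.hom_ext (p.map_injective ?_)⟩
    have := f.2; have := g.2
    have h1 := IsHomLift.fac' p (𝟙 b) f.1
    have h2 := IsHomLift.fac' p (𝟙 b) g.1
    exact h1.trans h2.symm
  · intro h
    refine ⟨fun {x y} f g hfg => ?_⟩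
    obtain ⟨x', φ, hφ⟩ := Functor.IsPreFibered.exists_isCartesian' (p := p) (p.map f)
    have : p.IsHomLift (p.map f) g := by rw [hfg]; infer_instance
    let X₁ : p.Fiber (p.obj x) := Functor.Fiber.mk rfl
    let X₂ : p.Fiber (p.obj x) := Functor.Fiber.mk (IsHomLift.domain_eq p (p.map f) φ)
    have := h (p.obj x) X₁ X₂
    let t₁ : x ⟶ x' := Functor.IsCartesian.map p (p.map f) φ f
    let t₂ : x ⟶ x' := Functor.IsCartesian.map p (p.map f) φ g
    have ht₁ : p.IsHomLift (𝟙 (p.obj x)) t₁ := inferInstance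
    have ht₂ : p.IsHomLift (𝟙 (p.obj x)) t₂ := inferInstance
    let m₁ : X₁ ⟶ X₂ := ⟨t₁, ht₁⟩
    let m₂ : X₁ ⟶ X₂ := ⟨t₂, ht₂⟩
    have := congrArg Subtype.val (Subsingleton.elim m₁ m₂)
    rw [← Functor.IsCartesian.fac p (p.map f) φ f, ← Functor.IsCartesian.fac p (p.map f) φ g]
    exact congrArg (fun k : x ⟶ x' => k ≫ φ) (this : t₁ = t₂)

end fib

theorem discrete_iff (C : Type u) [Category.{v} C] :
    (∃ X : Type u, Nonempty (C ≌ Discrete X)) ↔ (Quiver.IsThin C ∧ IsGroupoid C) := by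
  constructor
  · rintro ⟨X, ⟨e⟩⟩
    refine ⟨fun a b => ⟨fun f g => e.functor.map_injective (Subsingleton.elim _ _)⟩, ⟨fun {a b} f => ?_⟩⟩
    have : IsIso (e.functor.map f) := IsGroupoid.all_isIso _
    exact isIso_of_reflects_iso f e.functor
  · rintro ⟨hthin, hgrp⟩
    have : Quiver.IsThin C := hthin
    refine ⟨Skeleton C, ⟨(skeletonEquivalence C).symm.trans ?_⟩⟩
    have heq : ∀ {a b : Skeleton C}, (a ⟶ b) → a = b := fun {a b} f =>
      skeleton_skeletal C ⟨(fromSkeleton C).preimageIso (@asIso _ _ _ _ ((fromSkeleton C).map f) (hgrp.all_isIso _))⟩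
    have hsub : ∀ a b : Skeleton C, Subsingleton (a ⟶ b) := fun a b =>
      ⟨fun f g => (fromSkeleton C).map_injective (Subsingleton.elim _ _)⟩
    exact {
      functor := { obj := fun a => ⟨a⟩, map := fun f => Discrete.eqToHom (heq f) }
      inverse := Discrete.functor id
      unitIso := NatIso.ofComponents (fun a => Iso.refl _) (fun _ => @Subsingleton.elim _ (hsub _ _) _ _)
      counitIso := NatIso.ofComponents (fun a => Iso.refl _) (fun _ => Subsingleton.elim _ _)
      functor_unitIso_comp := fun _ => Subsingleton.elim _ _ }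

section idem
variable {A : Type u} [Category.{v} A] [Preadditive A]

theorem idem_kernel_coker {x : A} (f : x ⟶ x) (hf : f ≫ f = f) [HasKernel f] (p : x ⟶ kernel f)
    (hp : p ≫ kernel.ι f = 𝟙 x - f) :
    kernel.ι f ≫ p = 𝟙 (kernel f) ∧ ∃ hc : f ≫ p = 0, Nonempty (IsColimit (CokernelCofork.ofπ p hc)) := by
  have hc : f ≫ p = 0 := by rw [← cancel_mono (kernel.ι f)]; simp [hp, hf]
  refine ⟨by rw [← cancel_mono (kernel.ι f)]; simp [hp], hc, ⟨?_⟩⟩
  refine CokernelCofork.IsColimit.ofπ p hc (fun g _ => kernel.ι f ≫ g) (fun g hg => ?_) (fun g hg m hm => ?_)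
  · rw [← Category.assoc, hp, Preadditive.sub_comp, hg, Category.id_comp, sub_zero]
  · have : kernel.ι f ≫ p = 𝟙 (kernel f) := by rw [← cancel_mono (kernel.ι f)]; simp [hp]
    rw [← hm, ← Category.assoc, this, Category.id_comp]

theorem retract_kernel {x y : A} (j : y ⟶ x) (q : x ⟶ y) (hqj : j ≫ q = 𝟙 y) :
    ∃ (hk : j ≫ (𝟙 x - q ≫ j) = 0) (hc : (𝟙 x - q ≫ j) ≫ q = 0),
      Nonempty (IsLimit (KernelFork.ofι j hk)) ∧ Nonempty (IsColimit (CokernelCofork.ofπ q hc)) := by
  refine ⟨by simp [← Category.assoc, hqj], by simp [hqj], ⟨?_⟩, ⟨?_⟩⟩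
  · refine KernelFork.IsLimit.ofι j _ (fun g _ => g ≫ q) (fun g hg => ?_) (fun g hg m hm => ?_)
    · simp only [Preadditive.comp_sub, Category.comp_id, sub_eq_zero] at hg
      rw [Category.assoc]; exact hg.symm
    · rw [← hm, Category.assoc, hqj, Category.comp_id]
  · refine CokernelCofork.IsColimit.ofπ q _ (fun g _ => j ≫ g) (fun g hg => ?_) (fun g hg m hm => ?_)
    · simp only [Preadditive.sub_comp, Category.id_comp, sub_eq_zero] at hg
      rw [← Category.assoc]; exact hg.symm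
    · rw [← hm, ← Category.assoc, hqj, Category.id_comp]

end idem

theorem split_presheaf {C : Type u₁} [Category.{v₁} C]
    {T S : C} (u : T ⟶ S) [IsSplitEpi u] [HasPullback u u] (F : Cᵒᵖ ⥤ Type w) :
    Function.Injective (F.map u.op) ∧
      ∀ y : F.obj (Opposite.op T),
        F.map (pullback.fst u u).op y = F.map (pullback.snd u u).op y →
          y ∈ Set.range (F.map u.op) := by
  constructor
  · intro a b hab
    have h : F.map (section_ u).op (F.map u.op a) = F.map (section_ u).op (F.map u.op b) := by rw [hab]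
    simpa [← FunctorToTypes.map_comp_apply, ← op_comp] using h
  · intro y hy
    refine ⟨F.map (section_ u).op y, ?_⟩
    let δ : T ⟶ pullback u u := pullback.lift (u ≫ section_ u) (𝟙 T) (by simp)
    have h := congrArg (F.map δ.op) hy
    simp only [← FunctorToTypes.map_comp_apply, ← op_comp, δ, pullback.lift_fst, pullback.lift_snd] at h
    simpa [← FunctorToTypes.map_comp_apply, ← op_comp] using h

section tri
open CategoryTheory.Pretriangulated
variable {D : Type u} [Category.{v} D] [Preadditive D] [HasZeroObject D] [HasShift D ℤ]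
    [∀ n : ℤ, (shiftFunctor D n).Additive] [Pretriangulated D]

theorem rightOrth_iff (P : ObjectProperty D) [P.IsStableUnderShift ℤ] (T : Triangle D) (hT : T ∈ distinguishedTriangles) :
    P.rightOrthogonal T.obj₃ ↔ ∀ A : D, P A → Function.Bijective (fun u : A ⟶ T.obj₁ => u ≫ T.mor₁) := by
  constructor
  · intro h A hA
    constructor
    · intro a b hab
      rw [← sub_eq_zero]
      apply (shiftFunctor D (1 : ℤ)).map_injective
      obtain ⟨g, hg⟩ := T.coyoneda_exact₁ hT ((shiftFunctor D (1 : ℤ)).map (a - b)) (by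
        rw [← Functor.map_comp, Preadditive.sub_comp, show a ≫ T.mor₁ = b ≫ T.mor₁ from hab, sub_self, Functor.map_zero])
      rw [hg, h g (P.le_shift (1 : ℤ) A hA), zero_comp, Functor.map_zero]
    · intro b
      obtain ⟨a, ha⟩ := T.coyoneda_exact₂ hT b (h (b ≫ T.mor₂) hA)
      exact ⟨a, ha.symm⟩
  · intro h A f hA
    let e : ((shiftFunctor D (1 : ℤ)).obj ((shiftFunctor D (-1 : ℤ)).obj A)) ≅ A := (shiftEquiv D (1 : ℤ)).counitIso.app A
    obtain ⟨u, hu⟩ := (shiftFunctor D (1 : ℤ)).map_surjective (e.hom ≫ f ≫ T.mor₃)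
    have h1 : u ≫ T.mor₁ = 0 := by
      apply (shiftFunctor D (1 : ℤ)).map_injective
      rw [Functor.map_comp, hu, Category.assoc, Category.assoc, comp_distTriang_mor_zero₃₁ T hT, comp_zero, comp_zero, Functor.map_zero]
    have h2 : u = 0 := (h _ (P.le_shift (-1 : ℤ) A hA)).1 (by simp [h1])
    rw [h2, Functor.map_zero] at hu
    have h3 : f ≫ T.mor₃ = 0 := by rw [← cancel_epi e.hom, ← hu, comp_zero]
    obtain ⟨b, rfl⟩ := T.coyoneda_exact₃ hT f h3
    obtain ⟨a, rfl⟩ := (h A hA).2 b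
    simp [comp_distTriang_mor_zero₁₂ T hT]

theorem leftOrth_iff (P : ObjectProperty D) [P.IsStableUnderShift ℤ] (T : Triangle D) (hT : T ∈ distinguishedTriangles) :
    P.leftOrthogonal T.obj₁ ↔ ∀ B : D, P B → Function.Bijective (fun u : T.obj₃ ⟶ B => T.mor₂ ≫ u) := by
  constructor
  · intro h B hB
    constructor
    · intro a b hab
      rw [← sub_eq_zero]
      obtain ⟨w, hw⟩ := T.yoneda_exact₃ hT (a - b) (by
        rw [Preadditive.comp_sub, show T.mor₂ ≫ a = T.mor₂ ≫ b from hab, sub_self])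
      let e : ((shiftFunctor D (1 : ℤ)).obj ((shiftFunctor D (-1 : ℤ)).obj B)) ≅ B := (shiftEquiv D (1 : ℤ)).counitIso.app B
      obtain ⟨s, hs⟩ := (shiftFunctor D (1 : ℤ)).map_surjective (w ≫ e.inv)
      rw [h s (P.le_shift (-1 : ℤ) B hB), Functor.map_zero] at hs
      have : w = 0 := by rw [← cancel_mono e.inv, ← hs, zero_comp]
      rw [hw, this, comp_zero]
    · intro b
      obtain ⟨a, ha⟩ := T.yoneda_exact₂ hT b (h (T.mor₁ ≫ b) hB)
      exact ⟨a, ha.symm⟩
  · intro h B f hB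
    have h0 : T.mor₃ ≫ (shiftFunctor D (1 : ℤ)).map f = 0 := (h _ (P.le_shift (1 : ℤ) B hB)).1 (by
      show T.mor₂ ≫ T.mor₃ ≫ _ = T.mor₂ ≫ 0
      rw [← Category.assoc, comp_distTriang_mor_zero₂₃ T hT, zero_comp, comp_zero])
    obtain ⟨g, hg⟩ := T.rotate.yoneda_exact₃ (rot_of_distTriang _ hT) _ h0
    obtain ⟨b, rfl⟩ := (shiftFunctor D (1 : ℤ)).map_surjective g
    have hf : f = -(T.mor₁ ≫ b) := by
      apply (shiftFunctor D (1 : ℤ)).map_injective
      rw [hg, Functor.map_neg]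
      exact (Preadditive.neg_comp _ _).trans (congrArg Neg.neg (Functor.map_comp _ _ _).symm)
    obtain ⟨c, rfl⟩ := (h B hB).2 b
    rw [hf]
    simp [comp_distTriang_mor_zero₁₂_assoc T hT]

theorem idem_triangle (T : Triangle D) (hT : T ∈ distinguishedTriangles) (a : T.obj₁ ⟶ T.obj₁) (c : T.obj₃ ⟶ T.obj₃)
    (ha : a ≫ a = a) (hc : c ≫ c = c) (comm : T.mor₃ ≫ (shiftFunctor D (1 : ℤ)).map a = c ≫ T.mor₃) :
    ∃ b : T.obj₂ ⟶ T.obj₂, b ≫ b = b ∧ T.mor₁ ≫ b = a ≫ T.mor₁ ∧ T.mor₂ ≫ c = b ≫ T.mor₂ := by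
  obtain ⟨b, hb1, hb2⟩ := complete_distinguished_triangle_morphism₂ T T hT hT a c comm
  obtain ⟨g, hg⟩ := T.yoneda_exact₂ hT (b ≫ b - b) (by
    rw [Preadditive.comp_sub, reassoc_of% hb1, hb1, ← Category.assoc, ha, sub_self])
  obtain ⟨k, hk⟩ := T.coyoneda_exact₂ hT (b ≫ b - b) (by
    rw [Preadditive.sub_comp, Category.assoc, ← hb2, ← Category.assoc, ← hb2, Category.assoc, hc, sub_self])
  have hnn : (b ≫ b - b) ≫ (b ≫ b - b) = 0 := by
    nth_rw 1 [hk]; rw [hg]; simp [comp_distTriang_mor_zero₁₂_assoc T hT]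
  set n := b ≫ b - b with hn
  have hbn : b ≫ n = n ≫ b := by simp [hn]
  have hbb : b ≫ b = b + n := by rw [hn]; abel
  refine ⟨b + n - 2 • (b ≫ n), ?_, ?_, ?_⟩
  · have e1 : b ≫ (b ≫ n) = b ≫ n := by rw [← Category.assoc, hbb, Preadditive.add_comp, hnn, add_zero]
    have e2 : n ≫ (b ≫ n) = 0 := by rw [← Category.assoc, ← hbn, Category.assoc, hnn, comp_zero]
    have e3 : (b ≫ n) ≫ (b ≫ n) = 0 := by rw [Category.assoc, e2, comp_zero]
    have e4 : (b ≫ n) ≫ b = b ≫ n := by rw [Category.assoc, ← hbn, e1]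
    have e5 : (b ≫ n) ≫ n = 0 := by rw [Category.assoc, hnn, comp_zero]
    simp only [Preadditive.add_comp, Preadditive.sub_comp, Preadditive.comp_add, Preadditive.comp_sub,
      Preadditive.nsmul_comp, Preadditive.comp_nsmul, e1, e2, e3, e4, e5, hbb, ← hbn, hnn]
    abel
  · have h0 : T.mor₁ ≫ n = 0 := by rw [hg, comp_distTriang_mor_zero₁₂_assoc T hT, zero_comp]
    rw [Preadditive.comp_sub, Preadditive.comp_add, Preadditive.comp_nsmul, ← Category.assoc, hb1, Category.assoc, h0]; simp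
  · have h0 : n ≫ T.mor₂ = 0 := by rw [hk, Category.assoc, comp_distTriang_mor_zero₁₂ T hT, comp_zero]
    rw [Preadditive.sub_comp, Preadditive.add_comp, Preadditive.nsmul_comp, Category.assoc, h0, hb2]; simp

end tri

theorem presheafOfModules_enoughInjectives (C : Type u) [SmallCategory C] (O : Cᵒᵖ ⥤ RingCat.{u}) :
    EnoughInjectives (PresheafOfModules.{u} O) := by
  have hsep : HasSeparator (PresheafOfModules.{u} O) := by
    refine ⟨∐ fun X : C => (yoneda ⋙ PresheafOfModules.free O).obj X, ?_⟩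
    exact (isSeparator_sigma _).2 (PresheafOfModules.freeYoneda.isSeparating O)
  have : AB5.{u} (PresheafOfModules.{u} O) := ⟨fun J _ _ =>
    HasExactColimitsOfShape.domain_of_functor J (PresheafOfModules.toPresheaf O)⟩
  have : IsGrothendieckAbelian.{u} (PresheafOfModules.{u} O) := {}
  infer_instance

end Groth.Agent.H5Cat
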