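import Mathlib
set_option autoImplicit false
universe u v w u₁ v₁ u₂ v₂
open CategoryTheory CategoryTheory.Limits

namespace Groth.Agent.H5Desc
attribute [local simp] pullback.lift_fst pullback.lift_snd pullback.lift_fst_assoc pullback.lift_snd_assoc prod.lift_fst prod.lift_snd prod.lift_fst_assoc prod.lift_snd_assoc

theorem idemComplete_of_products {D : Type u} [Category.{v} D] [Preadditive D] [HasCountableProducts D]
    (hk : ∀ ⦃X Y : D⦄ (f : X ⟶ Y), IsSplitEpi f → HasKernel f) : IsIdempotentComplete D := by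
  suffices h : ∀ (X : D) (e : X ⟶ X), e ≫ e = e → ∃ (K : D) (i : K ⟶ X) (r : X ⟶ K), i ≫ r = 𝟙 K ∧ r ≫ i = 𝟙 X - e by
    refine ⟨fun X p hp => ?_⟩
    obtain ⟨K, i, r, h1, h2⟩ := h X (𝟙 X - p) (by simp [hp])
    exact ⟨K, i, r, h1, by simpa using h2⟩
  intro X e he
  let P := ∏ᶜ fun _ : ℕ => X
  let π : ∀ n : ℕ, P ⟶ X := Pi.π (fun _ : ℕ => X)
  let g : P ⟶ P := Pi.lift fun n => π n ≫ e + π (n + 1) ≫ (𝟙 X - e)
  let c : ℕ → (P ⟶ X) := fun n => Nat.casesOn n (π 0 ≫ e) (fun m => π m ≫ (𝟙 X - e) + π (m + 1) ≫ e)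
  let s : P ⟶ P := Pi.lift c
  have hg : ∀ n, g ≫ π n = π n ≫ e + π (n + 1) ≫ (𝟙 X - e) := fun n => Pi.lift_π _ n
  have hs : ∀ n, s ≫ π n = c n := fun n => Pi.lift_π _ n
  have he' : (𝟙 X - e) ≫ e = 0 := by simp [he]
  have he'' : e ≫ (𝟙 X - e) = 0 := by simp [he]
  have hee : (𝟙 X - e) ≫ (𝟙 X - e) = 𝟙 X - e := by simp [he]
  have hse : IsSplitEpi g := ⟨⟨⟨s, Pi.hom_ext _ _ fun n => by
    show (s ≫ g) ≫ π n = 𝟙 _ ≫ π n
    rw [Category.assoc, hg, Preadditive.comp_add, ← Category.assoc, hs, ← Category.assoc, hs, Category.id_comp]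
    cases n with
    | zero =>
      show (π 0 ≫ e) ≫ e + (π 0 ≫ (𝟙 X - e) + π (0 + 1) ≫ e) ≫ (𝟙 X - e) = π 0
      rw [Category.assoc, he, Preadditive.add_comp, Category.assoc, hee, Category.assoc, he'', comp_zero, add_zero,
        ← Preadditive.comp_add, add_sub_cancel, Category.comp_id]
    | succ m =>
      show (π m ≫ (𝟙 X - e) + π (m + 1) ≫ e) ≫ e + (π (m + 1) ≫ (𝟙 X - e) + π (m + 1 + 1) ≫ e) ≫ (𝟙 X - e) = π (m + 1)
      rw [Preadditive.add_comp, Category.assoc, he', comp_zero, zero_add, Category.assoc, he, Preadditive.add_comp,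
        Category.assoc, hee, Category.assoc, he'', comp_zero, add_zero, ← Preadditive.comp_add, add_sub_cancel, Category.comp_id]⟩⟩⟩
  have := hk g hse
  let ι := kernel.ι g
  have hz : ∀ n, ι ≫ π n ≫ e + ι ≫ π (n + 1) ≫ (𝟙 X - e) = 0 := fun n => by
    rw [← Preadditive.comp_add, ← hg, ← Category.assoc, kernel.condition, zero_comp]
  have hz1 : ∀ n, (ι ≫ π n) ≫ e = 0 := fun n => by
    have h := congrArg (fun k => k ≫ e) (hz n)
    simp only [Preadditive.add_comp, Category.assoc, he, he', comp_zero, add_zero, zero_comp] at h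
    simpa only [Category.assoc] using h
  have hz2 : ∀ n, (ι ≫ π (n + 1)) ≫ (𝟙 X - e) = 0 := fun n => by
    have h := congrArg (fun k => k ≫ (𝟙 X - e)) (hz n)
    simp only [Preadditive.add_comp, Category.assoc, hee, he'', comp_zero, zero_add, zero_comp] at h
    simpa only [Category.assoc] using h
  have hzn : ∀ n, ι ≫ π (n + 1) = 0 := fun n => by
    calc ι ≫ π (n + 1) = (ι ≫ π (n + 1)) ≫ e + (ι ≫ π (n + 1)) ≫ (𝟙 X - e) := by
          rw [← Preadditive.comp_add, add_sub_cancel, Category.comp_id]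
      _ = 0 := by rw [hz1, hz2, add_zero]
  let x : ℕ → (X ⟶ X) := fun n => Nat.casesOn n (𝟙 X - e) (fun _ => 0)
  let r : X ⟶ kernel g := kernel.lift g (Pi.lift x) (Pi.hom_ext _ _ fun n => by
    show (Pi.lift x ≫ g) ≫ π n = 0 ≫ π n
    rw [Category.assoc, hg, Preadditive.comp_add, ← Category.assoc, ← Category.assoc,
      show Pi.lift x ≫ π n = x n from Pi.lift_π _ n, show Pi.lift x ≫ π (n + 1) = x (n + 1) from Pi.lift_π _ _]
    cases n <;> simp [x, he, he'])
  have hr : ∀ n, r ≫ ι ≫ π n = x n := fun n => by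
    rw [← Category.assoc, kernel.lift_ι]; exact Pi.lift_π _ n
  refine ⟨kernel g, ι ≫ π 0, r, ?_, hr 0⟩
  refine (cancel_mono ι).1 (Pi.hom_ext _ _ fun n => ?_)
  show (((ι ≫ π 0) ≫ r) ≫ ι) ≫ π n = (𝟙 _ ≫ ι) ≫ π n
  simp only [Category.assoc, hr, Category.id_comp]
  cases n with
  | zero =>
    show ι ≫ π 0 ≫ (𝟙 X - e) = _
    rw [Preadditive.comp_sub, Category.comp_id, Preadditive.comp_sub, ← Category.assoc ι (π 0) e, hz1 0, sub_zero]
  | succ m => simp [x, hzn m]

theorem idemComplete_of_coproducts {D : Type u} [Category.{v} D] [Preadditive D] [HasCountableCoproducts D]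
    (hk : ∀ ⦃X Y : D⦄ (f : X ⟶ Y), IsSplitMono f → HasCokernel f) : IsIdempotentComplete D := by
  rw [← Idempotents.isIdempotentComplete_iff_opposite]
  have : HasCountableProducts Dᵒᵖ := ⟨fun J _ => inferInstance⟩
  refine idemComplete_of_products fun X Y f hf => ?_
  have : IsSplitMono f.unop := ⟨⟨⟨(section_ f).unop, by rw [← unop_comp, IsSplitEpi.id, unop_id]⟩⟩⟩
  have := hk f.unop this
  exact ⟨⟨⟨_, CokernelCofork.IsColimit.ofπOp (cokernel.π f.unop) (cokernel.condition f.unop) (cokernelIsCokernel f.unop)⟩⟩⟩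

section desc
variable {C : Type u₁} [Category.{v₁} C] [HasPullbacks C]

/-- universal effective epimorphisms -/
abbrev UEE : MorphismProperty C := MorphismProperty.universally (fun (A B : C) (p : A ⟶ B) => EffectiveEpi p)

theorem uee_fst {S' S Z : C} {f : S' ⟶ S} (hf : UEE f) (a : Z ⟶ S) : EffectiveEpi (pullback.fst a f) :=
  hf _ _ _ (IsPullback.of_hasPullback a f)

theorem uee_self {X Y : C} {f : X ⟶ Y} (h : UEE f) : EffectiveEpi f :=
  MorphismProperty.universally_le _ _ h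

theorem effEpi_mk {X Y : C} (f : Y ⟶ X)
    (h : ∀ {W : C} (e : Y ⟶ W), (∀ {Z : C} (g₁ g₂ : Z ⟶ Y), g₁ ≫ f = g₂ ≫ f → g₁ ≫ e = g₂ ≫ e) → ∃! d : X ⟶ W, f ≫ d = e) :
    EffectiveEpi f :=
  ⟨⟨{ desc := fun {_} e he => (h e he).exists.choose
      fac := fun {_} e he => (h e he).exists.choose_spec
      uniq := fun {_} e he m hm => (h e he).unique hm (h e he).exists.choose_spec }⟩⟩

theorem mono_of_cover {S' S T : C} (f : S' ⟶ S) (hf : UEE f) (g : S ⟶ T)
    (h : ∀ {W : C} (a b : W ⟶ S'), a ≫ f ≫ g = b ≫ f ≫ g → a ≫ f = b ≫ f) : Mono g := by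
  constructor
  intro Z a b hab
  have := uee_fst hf a
  have := uee_fst hf (pullback.fst a f ≫ b)
  let p := pullback.fst (pullback.fst a f ≫ b) f ≫ pullback.fst a f
  have : Epi p := epi_comp _ _
  rw [← cancel_epi p]
  have h1 : p ≫ a = (pullback.fst (pullback.fst a f ≫ b) f ≫ pullback.snd a f) ≫ f := by
    simp [p, pullback.condition]
  have h2 : p ≫ b = pullback.snd (pullback.fst a f ≫ b) f ≫ f := by
    rw [← pullback.condition]; simp [p]
  rw [h1, h2]
  refine h _ _ ?_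
  rw [← Category.assoc, ← h1, ← Category.assoc _ f g, ← h2, Category.assoc, hab, ← Category.assoc]

theorem mono_of_mapDesc {S' S T : C} (f : S' ⟶ S) (hf : UEE f) (g : S ⟶ T)
    [IsIso (pullback.mapDesc f f g)] : Mono g := by
  refine mono_of_cover f hf g fun a b hab => ?_
  let m := pullback.lift a b hab ≫ inv (pullback.mapDesc f f g)
  have h0 : m ≫ pullback.mapDesc f f g = pullback.lift a b hab := by simp [m]
  have k1 : pullback.mapDesc f f g ≫ pullback.fst (f ≫ g) (f ≫ g) = pullback.fst f f :=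
    (pullback.lift_fst _ _ _).trans (Category.comp_id _)
  have k2 : pullback.mapDesc f f g ≫ pullback.snd (f ≫ g) (f ≫ g) = pullback.snd f f :=
    (pullback.lift_snd _ _ _).trans (Category.comp_id _)
  have h1 : m ≫ pullback.fst f f = a := by rw [← k1, ← Category.assoc, h0, pullback.lift_fst]
  have h2 : m ≫ pullback.snd f f = b := by rw [← k2, ← Category.assoc, h0, pullback.lift_snd]
  calc a ≫ f = m ≫ pullback.fst f f ≫ f := by rw [← Category.assoc, h1]
    _ = m ≫ pullback.snd f f ≫ f := by rw [pullback.condition]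
    _ = b ≫ f := by rw [← Category.assoc, h2]

theorem mono_iff_kernelPair {R X Z : C} {p₁ p₂ : R ⟶ X} (e : UniversallyEffectiveEquivalenceRelation p₁ p₂)
    (f : X ⟶ Z) (g : e.B ⟶ Z) (hg : e.π ≫ g = f) :
    Mono g ↔ IsKernelPair f p₁ p₂ := by
  subst hg
  constructor
  · intro hmono
    refine ⟨⟨by rw [← Category.assoc, e.isKernelPair.w, Category.assoc]⟩, ⟨PullbackCone.IsLimit.mk _
      (fun s => e.isKernelPair.lift s.fst s.snd (by rw [← cancel_mono g, Category.assoc, Category.assoc]; exact s.condition))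
      (fun s => e.isKernelPair.lift_fst _ _ _) (fun s => e.isKernelPair.lift_snd _ _ _)
      (fun s m h1 h2 => e.isKernelPair.hom_ext (by simpa using h1) (by simpa using h2))⟩⟩
  · intro hk
    refine mono_of_cover e.π e.universally_effectiveEpi_π g fun a b hab => ?_
    conv_lhs => rw [← hk.lift_fst a b hab]
    conv_rhs => rw [← hk.lift_snd a b hab]
    rw [Category.assoc, Category.assoc, e.isKernelPair.w]

theorem over_hom_iff {S' S : C} (f : S' ⟶ S) (hf : UEE f) (X Y : Over S) [Mono Y.hom] :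
    Nonempty (X ⟶ Y) ↔ Nonempty ((Over.pullback f).obj X ⟶ (Over.pullback f).obj Y) := by
  refine ⟨fun ⟨g⟩ => ⟨(Over.pullback f).map g⟩, fun ⟨h⟩ => ?_⟩
  have := uee_fst hf X.hom
  let m : pullback X.hom f ⟶ Y.left := h.left ≫ pullback.fst Y.hom f
  have hm : m ≫ Y.hom = pullback.fst X.hom f ≫ X.hom := by
    have hw : h.left ≫ pullback.snd Y.hom f = pullback.snd X.hom f := Over.w h
    simp only [m, Category.assoc]
    rw [pullback.condition, ← Category.assoc, hw, ← pullback.condition]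
  have hc : ∀ {Z : C} (g₁ g₂ : Z ⟶ pullback X.hom f), g₁ ≫ pullback.fst X.hom f = g₂ ≫ pullback.fst X.hom f → g₁ ≫ m = g₂ ≫ m := by
    intro Z g₁ g₂ h12
    rw [← cancel_mono Y.hom, Category.assoc g₁ m, Category.assoc g₂ m, hm, ← Category.assoc, h12, Category.assoc]
  refine ⟨Over.homMk (EffectiveEpi.desc (pullback.fst X.hom f) m hc) ?_⟩
  rw [← cancel_epi (pullback.fst X.hom f), ← Category.assoc, EffectiveEpi.fac, hm]

theorem over_iso_mono_iff {S' S : C} (f : S' ⟶ S) (hf : UEE f) {X Y : Over S} (g : X ⟶ Y) :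
    (IsIso g ↔ IsIso ((Over.pullback f).map g)) ∧ (Mono g ↔ Mono ((Over.pullback f).map g)) := by
  have hfst : ((Over.pullback f).map g).left ≫ pullback.fst Y.hom f = pullback.fst X.hom f ≫ g.left := by simp
  have monoBack : Mono ((Over.pullback f).map g) → Mono g := by
    intro hm
    refine Over.mono_of_mono_left g (hk := ⟨fun {Z} a b hab => ?_⟩)
    have hab' : a ≫ X.hom = b ≫ X.hom := by
      rw [← Over.w g, ← Category.assoc, hab, Category.assoc]
    have := uee_fst hf (a ≫ X.hom)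
    let a' : pullback (a ≫ X.hom) f ⟶ pullback X.hom f := pullback.lift (pullback.fst _ _ ≫ a) (pullback.snd _ _) (by rw [Category.assoc]; exact pullback.condition)
    let b' : pullback (a ≫ X.hom) f ⟶ pullback X.hom f := pullback.lift (pullback.fst _ _ ≫ b) (pullback.snd _ _) (by rw [Category.assoc, ← hab']; exact pullback.condition)
    have : Mono ((Over.pullback f).map g).left := Over.mono_left_of_mono _
    have e : a' ≫ ((Over.pullback f).map g).left = b' ≫ ((Over.pullback f).map g).left := by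
      apply pullback.hom_ext <;> simp [a', b', hab]
    rw [cancel_mono] at e
    rw [← cancel_epi (pullback.fst (a ≫ X.hom) f)]
    simpa [a', b'] using congrArg (fun k => k ≫ pullback.fst X.hom f) e
  refine ⟨⟨fun _ => inferInstance, fun hi => ?_⟩, ⟨fun _ => inferInstance, monoBack⟩⟩
  have : Mono g := monoBack inferInstance
  have : Mono g.left := Over.mono_left_of_mono g
  have := uee_fst hf Y.hom
  let q : pullback Y.hom f ⟶ pullback X.hom f := (inv ((Over.pullback f).map g)).left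
  have hq : q ≫ ((Over.pullback f).map g).left = 𝟙 _ := by
    show (inv ((Over.pullback f).map g) ≫ (Over.pullback f).map g).left = _
    rw [IsIso.inv_hom_id]; rfl
  have hm : (q ≫ pullback.fst X.hom f) ≫ g.left = pullback.fst Y.hom f := by
    rw [Category.assoc, ← hfst, ← Category.assoc, hq, Category.id_comp]
  have hc : ∀ {Z : C} (g₁ g₂ : Z ⟶ pullback Y.hom f), g₁ ≫ pullback.fst Y.hom f = g₂ ≫ pullback.fst Y.hom f → g₁ ≫ q ≫ pullback.fst X.hom f = g₂ ≫ q ≫ pullback.fst X.hom f := by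
    intro Z g₁ g₂ h12
    rw [← cancel_mono g.left, Category.assoc, Category.assoc g₂, hm, h12]
  have hd := EffectiveEpi.fac (pullback.fst Y.hom f) (q ≫ pullback.fst X.hom f) hc
  set d := EffectiveEpi.desc (pullback.fst Y.hom f) (q ≫ pullback.fst X.hom f) hc
  have h2 : d ≫ g.left = 𝟙 _ := by
    rw [← cancel_epi (pullback.fst Y.hom f), ← Category.assoc, hd, hm, Category.comp_id]
  have h1 : g.left ≫ d = 𝟙 _ := by
    rw [← cancel_mono g.left, Category.assoc, h2, Category.comp_id, Category.id_comp]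
  have : IsIso g.left := ⟨d, h1, h2⟩
  have : IsIso ((Over.forget S).map g) := ⟨d, h1, h2⟩
  exact isIso_of_reflects_iso g (Over.forget S)

theorem effEpi_comp {U T S : C} (v : U ⟶ T) (u : T ⟶ S) [EffectiveEpi u] [EffectiveEpi v]
    (hv : MorphismProperty.universally (MorphismProperty.epimorphisms C) v) : EffectiveEpi (v ≫ u) := by
  refine effEpi_mk _ fun {W} e he => ?_
  have hcv : ∀ {Z : C} (g₁ g₂ : Z ⟶ U), g₁ ≫ v = g₂ ≫ v → g₁ ≫ e = g₂ ≫ e := fun g₁ g₂ h => he g₁ g₂ (by rw [← Category.assoc, h, Category.assoc])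
  have hn := EffectiveEpi.fac v e hcv
  set n := EffectiveEpi.desc v e hcv
  have hcu : ∀ {Z : C} (g₁ g₂ : Z ⟶ T), g₁ ≫ u = g₂ ≫ u → g₁ ≫ n = g₂ ≫ n := by
    intro Z g₁ g₂ h
    have hep : ∀ {Z : C} (a : Z ⟶ T), Epi (pullback.fst a v) := fun a => hv _ _ _ (IsPullback.of_hasPullback a v)
    have := hep g₁
    have := hep (pullback.fst g₁ v ≫ g₂)
    let p := pullback.fst (pullback.fst g₁ v ≫ g₂) v ≫ pullback.fst g₁ v
    have : Epi p := epi_comp _ _
    rw [← cancel_epi p]
    have h1 : p ≫ g₁ = (pullback.fst (pullback.fst g₁ v ≫ g₂) v ≫ pullback.snd g₁ v) ≫ v := by simp [p, pullback.condition]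
    have h2 : p ≫ g₂ = pullback.snd (pullback.fst g₁ v ≫ g₂) v ≫ v := by rw [← pullback.condition]; simp [p]
    rw [← Category.assoc, h1, ← Category.assoc p g₂, h2, Category.assoc, hn, Category.assoc _ v n, hn]
    refine he _ _ ?_
    rw [← Category.assoc, ← h1, ← Category.assoc _ v u, ← h2, Category.assoc, h, ← Category.assoc]
  refine ⟨EffectiveEpi.desc u n hcu, ?_, fun d hd => ?_⟩
  · dsimp only; rw [Category.assoc, EffectiveEpi.fac, hn]
  · rw [← cancel_epi u, EffectiveEpi.fac, ← cancel_epi v, hn, ← hd, Category.assoc]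

theorem uee_of_comp {U T S : C} (v : U ⟶ T) (u : T ⟶ S) (h : UEE (v ≫ u)) : UEE u := by
  intro T₁ S₁ a b u₁ sq
  have hpb := IsPullback.paste_horiz (IsPullback.of_hasPullback a v) sq
  have heff : EffectiveEpi (pullback.fst a v ≫ u₁) := h _ _ _ hpb
  let v₁ := pullback.fst a v
  refine effEpi_mk _ fun {W} m hm => ?_
  have hc : ∀ {Z : C} (g₁ g₂ : Z ⟶ pullback a v), g₁ ≫ v₁ ≫ u₁ = g₂ ≫ v₁ ≫ u₁ → g₁ ≫ v₁ ≫ m = g₂ ≫ v₁ ≫ m := by
    intro Z g₁ g₂ h12
    simpa using hm (g₁ ≫ v₁) (g₂ ≫ v₁) (by simpa using h12)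
  have hd := EffectiveEpi.fac (v₁ ≫ u₁) (v₁ ≫ m) hc
  set d := EffectiveEpi.desc (v₁ ≫ u₁) (v₁ ≫ m) hc
  refine ⟨d, ?_, fun d' hd' => ?_⟩
  · -- the base change of `v₁ ≫ u₁` along `u₁` is an epimorphism
    show u₁ ≫ d = m
    have := h _ _ _ ((IsPullback.of_hasPullback u₁ (v₁ ≫ u₁)).paste_vert hpb)
    rw [← cancel_epi (pullback.fst u₁ (v₁ ≫ u₁))]
    have h1 := hm (pullback.fst u₁ (v₁ ≫ u₁)) (pullback.snd u₁ (v₁ ≫ u₁) ≫ v₁) (by rw [Category.assoc]; exact pullback.condition)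
    rw [h1, ← Category.assoc, pullback.condition, Category.assoc, hd, Category.assoc]
  · rw [← cancel_epi (v₁ ≫ u₁), hd, ← hd', Category.assoc]

end desc

theorem kernelPair_prod {C : Type u₁} [Category.{v₁} C] [HasBinaryProducts C]
    {R X R' X' B B' : C} {p₁ p₂ : R ⟶ X} {p₁' p₂' : R' ⟶ X'} {π : X ⟶ B} {π' : X' ⟶ B'}
    (h : IsKernelPair π p₁ p₂) (h' : IsKernelPair π' p₁' p₂') :
    IsKernelPair (prod.map π π') (prod.map p₁ p₁') (prod.map p₂ p₂') := by
  have hw : prod.map p₁ p₁' ≫ prod.map π π' = prod.map p₂ p₂' ≫ prod.map π π' := by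
    rw [prod.map_map, prod.map_map, h.w, h'.w]
  refine ⟨⟨hw⟩, ⟨PullbackCone.IsLimit.mk hw
    (fun s => prod.lift (h.lift (s.fst ≫ prod.fst) (s.snd ≫ prod.fst) (by simpa using congrArg (fun k => k ≫ prod.fst) s.condition))
      (h'.lift (s.fst ≫ prod.snd) (s.snd ≫ prod.snd) (by simpa using congrArg (fun k => k ≫ prod.snd) s.condition)))
    (fun s => by apply Limits.prod.hom_ext <;> simp) (fun s => by apply Limits.prod.hom_ext <;> simp) (fun s m h1 h2 => ?_)⟩⟩
  apply Limits.prod.hom_ext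
  · refine h.hom_ext ?_ ?_
    · simpa using congrArg (fun k => k ≫ prod.fst) h1
    · simpa using congrArg (fun k => k ≫ prod.fst) h2
  · refine h'.hom_ext ?_ ?_
    · simpa using congrArg (fun k => k ≫ prod.snd) h1
    · simpa using congrArg (fun k => k ≫ prod.snd) h2

end Groth.Agent.H5Desc
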