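import Groth.Agent.Lib.H5SiteCoh

universe u

namespace Groth.Agent.H5SieveCoh
open CategoryTheory Limits Abelian Opposite
open Groth.Agent Groth.Agent.H5SiteCoh

variable {C : Type u} [SmallCategory C] {J : GrothendieckTopology C}

/-- a sheaf, seen as a sheaf for the trivial topology -/
noncomputable abbrev toBot (J : GrothendieckTopology C) :
    Sheaf J AddCommGrpCat.{u} ⥤ Sheaf (⊥ : GrothendieckTopology C) AddCommGrpCat.{u} where
  obj F := ⟨F.obj, Presheaf.isSheaf_bot _⟩
  map f := ⟨f.hom⟩

/-- `toBot` has a left adjoint (sheafification) -/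
noncomputable def toBotAdj (J : GrothendieckTopology C) :
    (sheafToPresheaf (⊥ : GrothendieckTopology C) AddCommGrpCat.{u} ⋙ presheafToSheaf J AddCommGrpCat.{u}) ⊣ toBot J :=
  Adjunction.mkOfHomEquiv
    { homEquiv := fun P F => ((sheafificationAdjunction J AddCommGrpCat.{u}).homEquiv P.obj F).trans
        { toFun := fun f => ⟨f⟩, invFun := fun f => f.hom, left_inv := fun _ => rfl, right_inv := fun _ => rfl }
      homEquiv_naturality_left_symm := fun f g =>
        (sheafificationAdjunction J AddCommGrpCat.{u}).homEquiv_naturality_left_symm f.hom g.hom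
      homEquiv_naturality_right := fun f g =>
        ObjectProperty.hom_ext _ ((sheafificationAdjunction J AddCommGrpCat.{u}).homEquiv_naturality_right f g) }

instance : (toBot J).Additive where

instance preservesFiniteLimits_toBot : PreservesFiniteLimits (toBot J) :=
  have : PreservesLimitsOfSize.{0, 0} (toBot J) := (toBotAdj J).rightAdjoint_preservesLimits
  PreservesLimitsOfSize.preservesFiniteLimits _

instance preservesMono_toBot : (toBot J).PreservesMonomorphisms :=
  preservesMonomorphisms_of_preservesLimitsOfShape _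

instance injective_toBot (I : Sheaf J AddCommGrpCat.{u}) [Injective I] : Injective ((toBot J).obj I) := by
  have : (sheafToPresheaf (⊥ : GrothendieckTopology C) AddCommGrpCat.{u} ⋙
      presheafToSheaf J AddCommGrpCat.{u}).PreservesMonomorphisms := inferInstance
  exact Injective.injective_of_adjoint (toBotAdj J) I

/-- the free presheaf on a presheaf of sets -/
noncomputable abbrev frB (P : Cᵒᵖ ⥤ Type u) : Sheaf (⊥ : GrothendieckTopology C) AddCommGrpCat.{u} :=
  (presheafToSheaf ⊥ AddCommGrpCat.{u}).obj (P ⋙ AddCommGrpCat.free)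

noncomputable def eqvP (P : Cᵒᵖ ⥤ Type u) (F : Sheaf (⊥ : GrothendieckTopology C) AddCommGrpCat.{u}) :
    (frB P ⟶ F) ≃ (P ⟶ F.obj ⋙ forget AddCommGrpCat.{u}) :=
  ((sheafificationAdjunction ⊥ AddCommGrpCat.{u}).homEquiv _ F).trans
    ((AddCommGrpCat.adj.{u}.whiskerRight Cᵒᵖ).homEquiv P F.obj)

lemma eqvP_comp {P : Cᵒᵖ ⥤ Type u} {F G : Sheaf (⊥ : GrothendieckTopology C) AddCommGrpCat.{u}} (φ : frB P ⟶ F) (g : F ⟶ G) :
    eqvP P G (φ ≫ g) = eqvP P F φ ≫ Functor.whiskerRight g.hom (forget AddCommGrpCat.{u}) := by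
  simp only [eqvP, Equiv.trans_apply]
  erw [Adjunction.homEquiv_naturality_right, Adjunction.homEquiv_naturality_right]
  rfl

lemma eqvP_zero_app {P : Cᵒᵖ ⥤ Type u} {F : Sheaf (⊥ : GrothendieckTopology C) AddCommGrpCat.{u}} (V : Cᵒᵖ) (x : P.obj V) :
    (eqvP P F 0).app V x = 0 := by
  have h := eqvP_comp (P := P) (𝟙 _) (0 : frB P ⟶ F)
  rw [comp_zero] at h
  rw [h]
  rfl

variable {X : C} {R : Sieve X} (hR : R ∈ J X)

include hR in
lemma surj_iff {F G : Sheaf J AddCommGrpCat.{u}} (g : F ⟶ G) :
    Surj (frB R.functor) ((toBot J).map g) ↔ Function.Surjective (g.hom.app (op X)) := by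
  have hF : Presieve.IsSheafFor (F.obj ⋙ forget AddCommGrpCat.{u}) R.arrows :=
    ((sheafCompose J (forget AddCommGrpCat.{u})).obj F).property.isSheafFor (J := J) R hR
  have hG : Presieve.IsSheafFor (G.obj ⋙ forget AddCommGrpCat.{u}) R.arrows :=
    ((sheafCompose J (forget AddCommGrpCat.{u})).obj G).property.isSheafFor (J := J) R hR
  constructor
  · intro h s
    let a : R.functor ⟶ G.obj ⋙ forget AddCommGrpCat.{u} := R.functorInclusion ≫ yonedaEquiv.symm s
    obtain ⟨ψ, hψ⟩ := h ((eqvP R.functor ((toBot J).obj G)).symm a)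
    obtain ⟨t, ht⟩ := (Presieve.isSheafFor_iff_yonedaSheafCondition.1 hF (eqvP R.functor ((toBot J).obj F) ψ)).exists
    refine ⟨yonedaEquiv t, ?_⟩
    have h2 := congrArg (eqvP R.functor ((toBot J).obj G)) hψ
    rw [eqvP_comp, Equiv.apply_symm_apply, ← ht, Category.assoc] at h2
    have h3 := (Presieve.isSheafFor_iff_yonedaSheafCondition.1 hG a).unique h2 rfl
    refine Eq.trans ?_ (yonedaEquiv.apply_symm_apply (show (_ ⋙ forget AddCommGrpCat.{u}).obj (op X) from s))
    rw [← h3, yonedaEquiv_comp]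
    rfl
  · intro h φ
    obtain ⟨a, ha⟩ := (Presieve.isSheafFor_iff_yonedaSheafCondition.1 hG (eqvP R.functor ((toBot J).obj G) φ)).exists
    obtain ⟨t, ht⟩ := h (yonedaEquiv a)
    refine ⟨(eqvP R.functor ((toBot J).obj F)).symm (R.functorInclusion ≫ yonedaEquiv.symm t), ?_⟩
    apply (eqvP R.functor ((toBot J).obj G)).injective
    rw [eqvP_comp, Equiv.apply_symm_apply, ← ha, Category.assoc]
    congr 1
    apply yonedaEquiv.injective
    rw [yonedaEquiv_comp, Equiv.apply_symm_apply, ← ht]
    rfl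

/-- sequence with surjective sections -/
lemma shortExact_toBot {S : ShortComplex (Sheaf J AddCommGrpCat.{u})} (hS : S.ShortExact)
    (h : ∀ U : C, Function.Surjective (S.g.hom.app (op U))) : (S.map (toBot J)).ShortExact := by
  have := hS.mono_f
  refine { exact := ?_, mono_f := (toBot J).map_mono S.f, epi_g := ?_ }
  · have hh := hS.exact
    exact hh.map_of_mono_of_preservesKernel (toBot J) inferInstance inferInstance
  · have : Epi ((toBot J).map S.g).hom := by
      rw [NatTrans.epi_iff_epi_app]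
      intro U
      rw [AddCommGrpCat.epi_iff_surjective]
      exact h U.unop
    exact (sheafToPresheaf ⊥ AddCommGrpCat.{u}).epi_of_epi_map this

theorem ext_sieve_of_acyclic : ∀ (q : ℕ) (F : Sheaf J AddCommGrpCat.{u}),
    (∀ (U : C) (p : ℕ), Subsingleton (CohSite.HU F (p + 1) U)) →
      ∀ {X : C} {R : Sieve X}, R ∈ J X → Subsingleton (Ext (frB R.functor) ((toBot J).obj F) (q + 1)) := by
  intro q
  induction q with
  | zero =>
    intro F hF X R hR
    have hs : ∀ U : C, Function.Surjective ((injSeq F).g.hom.app (op U)) := fun U =>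
      (surj_fU _).1 (haveI : Subsingleton (Ext (fU J U) (injSeq F).X₁ 1) := hF U 0; surj_of_subsingleton (injSeq_shortExact F))
    have h1 := shortExact_toBot (injSeq_shortExact F) hs
    have : Subsingleton (Ext (frB R.functor) ((injSeq F).map (toBot J)).X₂ 1) :=
      have : Injective ((injSeq F).map (toBot J)).X₂ := injective_toBot (Injective.under F)
      inferInstance
    exact subsingleton_one h1 ((surj_iff hR _).2 (hs X))
  | succ q ih =>
    intro F hF X R hR
    have hs : ∀ U : C, Function.Surjective ((injSeq F).g.hom.app (op U)) := fun U =>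
      (surj_fU _).1 (haveI : Subsingleton (Ext (fU J U) (injSeq F).X₁ 1) := hF U 0; surj_of_subsingleton (injSeq_shortExact F))
    have h1 := shortExact_toBot (injSeq_shortExact F) hs
    have : Injective ((injSeq F).map (toBot J)).X₂ := injective_toBot (Injective.under F)
    have : Subsingleton (Ext (frB R.functor) ((injSeq F).map (toBot J)).X₃ (q + 1)) :=
      ih _ (fun U => acyc_quotient (hF U)) hR
    exact step₁ h1 (q + 1)

/-- vanishing on sieves -/
def GoodR (F : Sheaf J AddCommGrpCat.{u}) : Prop :=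
  ∀ (X : C) (R : Sieve X), R ∈ J X → ∀ q : ℕ, Subsingleton (Ext (frB R.functor) ((toBot J).obj F) (q + 1))

lemma surjective_of_good {S : ShortComplex (Sheaf J AddCommGrpCat.{u})} (hS : S.ShortExact) (hF : GoodR S.X₁) (X : C) :
    Function.Surjective (S.g.hom.app (op X)) := by
  intro s
  have := hS.mono_f
  have : Sheaf.IsLocallySurjective S.g :=
    (Sheaf.isLocallySurjective_iff_epi' (C := C) (J := J) _ S.g).2 hS.epi_g
  let R := Presheaf.imageSieve S.g.hom s
  have hR : R ∈ J X := Presheaf.imageSieve_mem J S.g.hom s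
  let g' := (toBot J).map S.g
  let φ : frB R.functor ⟶ (toBot J).obj S.X₃ :=
    (eqvP R.functor _).symm (R.functorInclusion ≫ yonedaEquiv.symm s)
  have hφ : φ ≫ cokernel.π g' = 0 := by
    apply (eqvP R.functor _).injective
    rw [eqvP_comp, Equiv.apply_symm_apply]
    ext V x
    refine Eq.trans ?_ (eqvP_zero_app V x).symm
    obtain ⟨f, hf⟩ := x
    obtain ⟨t, ht⟩ := hf
    have h0 : g'.hom.app V ≫ (cokernel.π g').hom.app V = 0 :=
      congr_app (congrArg (fun z => InducedCategory.Hom.hom z) (cokernel.condition g')) V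
    change (cokernel.π g').hom.app V (S.X₃.obj.map f.op s) = 0
    rw [← ht]
    exact ConcreteCategory.congr_hom h0 t
  let T : ShortComplex (Sheaf (⊥ : GrothendieckTopology C) AddCommGrpCat.{u}) :=
    ShortComplex.mk ((toBot J).map S.f) (Abelian.factorThruImage g') (by
      rw [← cancel_mono (Abelian.image.ι g'), zero_comp, Category.assoc, Abelian.image.fac, ← Functor.map_comp,
        S.zero, Functor.map_zero])
  have hT : T.ShortExact := by
    have hm : Mono T.f := (toBot J).map_mono S.f
    refine { exact := ?_, mono_f := hm, epi_g := inferInstanceAs (Epi (Abelian.factorThruImage g')) }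
    let α : T ⟶ S.map (toBot J) :=
      { τ₁ := 𝟙 _, τ₂ := 𝟙 _, τ₃ := Abelian.image.ι g'
        comm₁₂ := (Category.id_comp _).trans (Category.comp_id _).symm
        comm₂₃ := (Category.id_comp _).trans (Abelian.image.fac g').symm }
    have : Epi α.τ₁ := inferInstanceAs (Epi (𝟙 _))
    have : IsIso α.τ₂ := inferInstanceAs (IsIso (𝟙 _))
    have : Mono α.τ₃ := inferInstanceAs (Mono (Abelian.image.ι g'))
    exact (ShortComplex.exact_iff_of_epi_of_isIso_of_mono α).2
      (hS.exact.map_of_mono_of_preservesKernel (toBot J) inferInstance inferInstance)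
  obtain ⟨φ', hφ'⟩ : ∃ φ' : frB R.functor ⟶ T.X₃, φ' ≫ Abelian.image.ι g' = φ :=
    ⟨kernel.lift _ φ hφ, kernel.lift_ι _ _ _⟩
  have : Subsingleton (Ext (frB R.functor) T.X₁ 1) := hF X R hR 0
  obtain ⟨ψ, hψ⟩ := surj_of_subsingleton hT φ'
  have hlift : ψ ≫ g' = φ := by
    rw [← Abelian.image.fac g', ← hφ', ← hψ, Category.assoc]
  have hF2 : Presieve.IsSheafFor (S.X₂.obj ⋙ forget AddCommGrpCat.{u}) R.arrows :=
    ((sheafCompose J (forget AddCommGrpCat.{u})).obj S.X₂).property.isSheafFor (J := J) R hR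
  have hG : Presieve.IsSheafFor (S.X₃.obj ⋙ forget AddCommGrpCat.{u}) R.arrows :=
    ((sheafCompose J (forget AddCommGrpCat.{u})).obj S.X₃).property.isSheafFor (J := J) R hR
  obtain ⟨t, ht⟩ := (Presieve.isSheafFor_iff_yonedaSheafCondition.1 hF2 (eqvP R.functor ((toBot J).obj S.X₂) ψ)).exists
  refine ⟨yonedaEquiv t, ?_⟩
  have h2 := congrArg (eqvP R.functor ((toBot J).obj S.X₃)) hlift
  rw [eqvP_comp, Equiv.apply_symm_apply, ← ht, Category.assoc] at h2
  have h3 := (Presieve.isSheafFor_iff_yonedaSheafCondition.1 hG _).unique h2 rfl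
  refine Eq.trans ?_ (yonedaEquiv.apply_symm_apply (show (_ ⋙ forget AddCommGrpCat.{u}).obj (op X) from s))
  rw [← h3, yonedaEquiv_comp]
  rfl

lemma good_quotient {F : Sheaf J AddCommGrpCat.{u}} (hF : GoodR F) : GoodR (injSeq F).X₃ := fun X R hR q => by
  have h1 := shortExact_toBot (injSeq_shortExact F) (fun U => surjective_of_good (injSeq_shortExact F) hF U)
  have : Injective ((injSeq F).map (toBot J)).X₂ := injective_toBot (Injective.under F)
  have : Subsingleton (Ext (frB R.functor) ((injSeq F).map (toBot J)).X₁ (q + 1 + 1)) := hF X R hR (q + 1)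
  exact step₃ h1 (q + 1)

/-- acyclicity on objects is vanishing on covering sieves -/
theorem acyclic_iff (F : Sheaf J AddCommGrpCat.{u}) :
    (∀ (U : C) (p : ℕ), Subsingleton (CohSite.HU F (p + 1) U)) ↔ GoodR F :=
  ⟨fun h _ _ hR q => ext_sieve_of_acyclic q F h hR,
    fun h U p => acyclic_HU GoodR U (fun G hG => ⟨good_quotient hG, surjective_of_good (injSeq_shortExact G) hG U⟩) p F h⟩

end Groth.Agent.H5SieveCoh
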