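import Groth.Agent.Lib.H5SiteCoh
import Groth.Agent.Lib.H5SieveCoh
import Mathlib.GroupTheory.FreeAbelianGroup
import Mathlib.CategoryTheory.Sites.LocallyBijective

universe u

namespace Groth.Agent.H5Cech
open CategoryTheory Limits Opposite
open Groth.Agent

variable {C : Type u} [SmallCategory C] [HasPullbacks C] {U : C} {ι : Type u} (Y : ι → Over U)

/-- iterated fibre products -/
noncomputable abbrev W {n : ℕ} (a : Fin n → ι) : Over U := ∏ᶜ (Y ∘ a)

/-- projections -/
noncomputable def pr {n : ℕ} (a : Fin n → ι) (k : Fin n) : (W Y a).left ⟶ (Y (a k)).left :=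
  (Pi.π (Y ∘ a) k).left

lemma pr_hom {n : ℕ} (a : Fin n → ι) (k : Fin n) : pr Y a k ≫ (Y (a k)).hom = (W Y a).hom :=
  Over.w (Pi.π (Y ∘ a) k)

/-- maps into fibre products -/
noncomputable def lft {n : ℕ} (a : Fin n → ι) {V : C} (g : V ⟶ U) (x : ∀ k, V ⟶ (Y (a k)).left)
    (w : ∀ k, x k ≫ (Y (a k)).hom = g) : V ⟶ (W Y a).left :=
  (Pi.lift (f := Y ∘ a) (fun k => (Over.homMk (x k) (w k) : Over.mk g ⟶ Y (a k)))).left

lemma lft_pr {n : ℕ} (a : Fin n → ι) {V : C} (g : V ⟶ U) (x : ∀ k, V ⟶ (Y (a k)).left)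
    (w : ∀ k, x k ≫ (Y (a k)).hom = g) (k : Fin n) : lft Y a g x w ≫ pr Y a k = x k :=
  congrArg CommaMorphism.left
    (Pi.lift_π (f := Y ∘ a) (fun k => (Over.homMk (x k) (w k) : Over.mk g ⟶ Y (a k))) k)

lemma W_ext {n : ℕ} {a : Fin (n + 1) → ι} {V : C} {l l' : V ⟶ (W Y a).left}
    (h : ∀ k, l ≫ pr Y a k = l' ≫ pr Y a k) : l = l' := by
  have hg : l' ≫ (W Y a).hom = l ≫ (W Y a).hom := by
    rw [← pr_hom Y a 0, ← Category.assoc, ← Category.assoc, h 0]
  have := Pi.hom_ext (f := Y ∘ a) (Over.homMk l rfl : Over.mk (l ≫ (W Y a).hom) ⟶ W Y a)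
    (Over.homMk l' hg) (fun k => Over.OverMorphism.ext (h k))
  exact congrArg CommaMorphism.left this

/-- restriction to faces -/
noncomputable def face {n : ℕ} (a : Fin (n + 1) → ι) (j : Fin (n + 1)) :
    (W Y a).left ⟶ (W Y (a ∘ j.succAbove)).left :=
  (Pi.lift (f := Y ∘ (a ∘ j.succAbove)) (fun k => Pi.π (Y ∘ a) (j.succAbove k))).left

lemma face_pr {n : ℕ} (a : Fin (n + 1) → ι) (j : Fin (n + 1)) (k : Fin n) :
    face Y a j ≫ pr Y (a ∘ j.succAbove) k = pr Y a (j.succAbove k) :=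
  congrArg CommaMorphism.left (Pi.lift_π (f := Y ∘ (a ∘ j.succAbove)) (fun k => Pi.π (Y ∘ a) (j.succAbove k)) k)

variable (P : Cᵒᵖ ⥤ AddCommGrpCat.{u})

/-- the Cech complex -/
noncomputable abbrev cplx : CochainComplex AddCommGrpCat.{u} ℕ :=
  (cechComplexFunctor Y).obj ((Over.forget U).op ⋙ P)

/-- a component of a cochain -/
noncomputable def coord {n : ℕ} (a : Fin (n + 1) → ι) : (cplx Y P).X n →+ P.obj (op (W Y a).left) :=
  (Pi.π (fun i : Fin (n + 1) → ι => P.obj (op (W Y i).left)) a).hom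

lemma coord_ext {n : ℕ} {c c' : (cplx Y P).X n} (h : ∀ a, coord Y P a c = coord Y P a c') : c = c' :=
  Concrete.limit_ext (F := Discrete.functor (fun i : Fin (n + 1) → ι => P.obj (op (W Y i).left)))
    c c' (fun x => h x.as)

/-- a cochain from components -/
noncomputable def mk {n : ℕ} (f : ∀ a : Fin (n + 1) → ι, P.obj (op (W Y a).left)) : (cplx Y P).X n :=
  (Concrete.productEquiv (fun i : Fin (n + 1) → ι => P.obj (op (W Y i).left))).symm f

lemma coord_mk {n : ℕ} (f : ∀ a : Fin (n + 1) → ι, P.obj (op (W Y a).left)) (a : Fin (n + 1) → ι) :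
    coord Y P a (mk Y P f) = f a :=
  Concrete.productEquiv_symm_apply_π _ f a

/-- `hom`, as an additive map -/
noncomputable def homAdd (A B : AddCommGrpCat.{u}) : (A ⟶ B) →+ (A →+ B) where
  toFun := AddCommGrpCat.Hom.hom
  map_zero' := rfl
  map_add' _ _ := rfl

lemma coord_d {n : ℕ} (c : (cplx Y P).X n) (a : Fin (n + 2) → ι) :
    coord Y P a ((cplx Y P).d n (n + 1) c) =
      ∑ j : Fin (n + 2), ((-1 : ℤ) ^ (j : ℕ)) • P.map (face Y a j).op (coord Y P (a ∘ j.succAbove) c) := by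
  have hd : (cplx Y P).d n (n + 1) = AlgebraicTopology.AlternatingCofaceMapComplex.objD
      ((FormalCoproduct.cosimplicialObjectFunctor (FormalCoproduct.mk _ Y).cech).obj ((Over.forget U).op ⋙ P)) n := by
    simp only [cplx, cechComplexFunctor, FormalCoproduct.cochainComplexFunctor, Functor.comp_obj]
    dsimp [AlgebraicTopology.alternatingCofaceMapComplex, AlgebraicTopology.AlternatingCofaceMapComplex.obj, CochainComplex.of]
    rw [CochainComplex.of_d]
    rfl
  rw [hd]
  let π' : (cplx Y P).X (n + 1) ⟶ P.obj (op (W Y a).left) :=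
    Pi.π (fun i : Fin (n + 2) → ι => P.obj (op (W Y i).left)) a
  change (AlgebraicTopology.AlternatingCofaceMapComplex.objD
      ((FormalCoproduct.cosimplicialObjectFunctor (FormalCoproduct.mk _ Y).cech).obj ((Over.forget U).op ⋙ P)) n ≫ π').hom c = _
  rw [AlgebraicTopology.AlternatingCofaceMapComplex.objD]
  erw [Preadditive.sum_comp]
  change homAdd _ _ (∑ j : Fin (n + 2), _) c = _
  erw [map_sum, AddMonoidHom.finsetSum_apply]
  refine Finset.sum_congr rfl fun j _ => ?_
  erw [Preadditive.zsmul_comp, map_zsmul]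
  rw [AddMonoidHom.smul_apply]
  congr 1
  change AddCommGrpCat.Hom.hom (_ ≫ π') c = AddCommGrpCat.Hom.hom
    (Pi.π (fun i : Fin (n + 1) → ι => P.obj (op (W Y i).left)) (a ∘ j.succAbove) ≫ P.map (face Y a j).op) c
  congr 2
  exact Limits.Pi.lift_π _ _

lemma d_d {n : ℕ} (c : (cplx Y P).X n) : (cplx Y P).d (n + 1) (n + 2) ((cplx Y P).d n (n + 1) c) = 0 := by
  rw [← ConcreteCategory.comp_apply, HomologicalComplex.d_comp_d]
  rfl

lemma exactAt_succ_iff (n : ℕ) : (cplx Y P).ExactAt (n + 1) ↔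
    ∀ c : (cplx Y P).X (n + 1), (cplx Y P).d (n + 1) (n + 2) c = 0 →
      ∃ b, (cplx Y P).d n (n + 1) b = c := by
  rw [(cplx Y P).exactAt_iff' n (n + 1) (n + 2) (by simp) (by simp), ShortComplex.ab_exact_iff]
  rfl

lemma isZero_cechH_iff (n : ℕ) : IsZero (CohCx.cechH P Y (n + 1)) ↔ (cplx Y P).ExactAt (n + 1) :=
  (HomologicalComplex.exactAt_iff_isZero_homology _ _).symm

/-! ### the free resolution at the level of presheaves -/

/-- simplices -/
@[ext]
structure Smp (n : ℕ) (V : C) where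
  g : V ⟶ U
  pt : Fin (n + 1) → Σ i : ι, (V ⟶ (Y i).left)
  w : ∀ k, (pt k).2 ≫ (Y (pt k).1).hom = g

variable {Y}

/-- restriction of simplices -/
def Smp.res {n : ℕ} {V V' : C} (v : V' ⟶ V) (s : Smp Y n V) : Smp Y n V' where
  g := v ≫ s.g
  pt k := ⟨(s.pt k).1, v ≫ (s.pt k).2⟩
  w k := by rw [Category.assoc, s.w]

/-- faces of simplices -/
def Smp.δ {n : ℕ} {V : C} (s : Smp Y (n + 1) V) (j : Fin (n + 2)) : Smp Y n V where
  g := s.g
  pt := s.pt ∘ j.succAbove
  w _ := s.w _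

/-- the classifying map -/
noncomputable def Smp.cls {n : ℕ} {V : C} (s : Smp Y n V) : V ⟶ (W Y (fun k => (s.pt k).1)).left :=
  lft Y _ s.g (fun k => (s.pt k).2) s.w

variable (Y)

/-- the universal simplex -/
noncomputable def univS {n : ℕ} (a : Fin (n + 1) → ι) : Smp Y n (W Y a).left where
  g := (W Y a).hom
  pt k := ⟨a k, pr Y a k⟩
  w k := pr_hom Y a k

/-- free presheaf on simplices -/
noncomputable def ZS (n : ℕ) : Cᵒᵖ ⥤ AddCommGrpCat.{u} where
  obj V := AddCommGrpCat.of (FreeAbelianGroup (Smp Y n V.unop))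
  map {V V'} v := AddCommGrpCat.ofHom (FreeAbelianGroup.map (Smp.res v.unop))
  map_id V := by
    ext s
    change FreeAbelianGroup.of (Smp.res (𝟙 _) s) = FreeAbelianGroup.of s
    congr 1
    apply Smp.ext <;> simp [Smp.res]
  map_comp {A B D} v v' := by
    ext s
    change FreeAbelianGroup.of (Smp.res _ s) = FreeAbelianGroup.of (Smp.res _ (Smp.res _ s))
    congr 1
    apply Smp.ext <;> simp [Smp.res]

/-- the boundary on sections -/
noncomputable def bdry (n : ℕ) (V : C) : FreeAbelianGroup (Smp Y (n + 1) V) →+ FreeAbelianGroup (Smp Y n V) :=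
  FreeAbelianGroup.lift fun s => ∑ j : Fin (n + 2), ((-1 : ℤ) ^ (j : ℕ)) • FreeAbelianGroup.of (s.δ j)

lemma bdry_of (n : ℕ) {V : C} (s : Smp Y (n + 1) V) :
    bdry Y n V (FreeAbelianGroup.of s) = ∑ j : Fin (n + 2), ((-1 : ℤ) ^ (j : ℕ)) • FreeAbelianGroup.of (s.δ j) :=
  FreeAbelianGroup.lift_apply_of _ _

/-- the boundary -/
noncomputable def dS (n : ℕ) : ZS Y (n + 1) ⟶ ZS Y n where
  app V := AddCommGrpCat.ofHom (bdry Y n V.unop)
  naturality {V V'} v := by
    apply AddCommGrpCat.hom_ext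
    apply FreeAbelianGroup.lift_ext
    intro s
    change bdry Y n V'.unop (FreeAbelianGroup.of (Smp.res v.unop s)) =
      FreeAbelianGroup.map (Smp.res v.unop) (bdry Y n V.unop (FreeAbelianGroup.of s))
    rw [bdry_of, bdry_of, map_sum]
    refine Finset.sum_congr rfl fun j _ => ?_
    rw [map_zsmul]
    rfl

/-- a chosen member of the family lifting `g` -/
noncomputable def pick {V : C} (g : V ⟶ U) (h : ∃ p : Σ i : ι, (V ⟶ (Y i).left), p.2 ≫ (Y p.1).hom = g) :
    Σ i : ι, (V ⟶ (Y i).left) := Classical.choose h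

/-- the cone on a simplex -/
noncomputable def cone {n : ℕ} {V : C} (s : Smp Y n V) : Smp Y (n + 1) V where
  g := s.g
  pt := Fin.cons (pick Y s.g ⟨s.pt 0, s.w 0⟩) s.pt
  w k := by
    induction k using Fin.cases with
    | zero => exact Classical.choose_spec (p := fun p : Σ i : ι, (V ⟶ (Y i).left) => p.2 ≫ (Y p.1).hom = s.g) ⟨s.pt 0, s.w 0⟩
    | succ k => exact s.w k

lemma cone_δ_zero {n : ℕ} {V : C} (s : Smp Y n V) : (cone Y s).δ 0 = s := by
  apply Smp.ext
  · rfl
  · funext k; simp [Smp.δ, cone]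

lemma cone_δ_succ {n : ℕ} {V : C} (s : Smp Y (n + 1) V) (j : Fin (n + 2)) :
    (cone Y s).δ j.succ = cone Y (s.δ j) := by
  apply Smp.ext
  · rfl
  · funext k
    induction k using Fin.cases with
    | zero => simp only [Smp.δ, cone, Function.comp_apply, Fin.succ_succAbove_zero, Fin.cons_zero]
    | succ k => simp only [Smp.δ, cone, Function.comp_apply, Fin.succ_succAbove_succ, Fin.cons_succ]

lemma bdry_exact (n : ℕ) (V : C) (x : FreeAbelianGroup (Smp Y (n + 1) V)) (hx : bdry Y n V x = 0) :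
    ∃ y, bdry Y (n + 1) V y = x := by
  let h : ∀ m : ℕ, FreeAbelianGroup (Smp Y m V) →+ FreeAbelianGroup (Smp Y (m + 1) V) := fun m =>
    FreeAbelianGroup.map (cone Y)
  have key : (bdry Y (n + 1) V).comp (h (n + 1)) + (h n).comp (bdry Y n V) = AddMonoidHom.id _ := by
    apply FreeAbelianGroup.lift_ext
    intro s
    simp only [AddMonoidHom.add_apply, AddMonoidHom.comp_apply, AddMonoidHom.id_apply, h,
      FreeAbelianGroup.map_of_apply, bdry_of, map_sum, map_zsmul]
    rw [Fin.sum_univ_succ, cone_δ_zero, add_assoc]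
    simp [cone_δ_succ, pow_succ, ← Finset.sum_add_distrib]
  refine ⟨h (n + 1) x, ?_⟩
  have := DFunLike.congr_fun key x
  simpa [hx] using this

/-- evaluation of a cochain on a simplex -/
noncomputable def evS {n : ℕ} (c : (cplx Y P).X n) {V : C} (s : Smp Y n V) : P.obj (op V) :=
  P.map s.cls.op (coord Y P _ c)

lemma cls_pr {n : ℕ} {V : C} (s : Smp Y n V) (k : Fin (n + 1)) :
    s.cls ≫ pr Y (fun k => (s.pt k).1) k = (s.pt k).2 := lft_pr Y _ _ _ _ _

lemma evS_congr {n : ℕ} (c : (cplx Y P).X n) {V : C} {a b : Fin (n + 1) → ι} (e : a = b)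
    (l : V ⟶ (W Y a).left) (l' : V ⟶ (W Y b).left) (h : ∀ k, l ≫ pr Y a k ≍ l' ≫ pr Y b k) :
    P.map l.op (coord Y P a c) = P.map l'.op (coord Y P b c) := by
  subst e
  rw [W_ext Y (l := l) (l' := l') (fun k => eq_of_heq (h k))]

lemma evS_res {n : ℕ} (c : (cplx Y P).X n) {V V' : C} (v : V' ⟶ V) (s : Smp Y n V) :
    evS Y P c (Smp.res v s) = P.map v.op (evS Y P c s) := by
  change P.map (Smp.res v s).cls.op (coord Y P (fun k => (s.pt k).1) c) =
    P.map v.op (P.map s.cls.op (coord Y P (fun k => (s.pt k).1) c))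
  rw [← ConcreteCategory.comp_apply, ← P.map_comp, ← op_comp]
  exact evS_congr Y P c rfl _ _ fun k => heq_of_eq ((cls_pr Y (Smp.res v s) k).trans
    ((Category.assoc _ _ _).trans (congrArg (fun z => v ≫ z) (cls_pr Y s k))).symm)

lemma evS_d {n : ℕ} (c : (cplx Y P).X n) {V : C} (s : Smp Y (n + 1) V) :
    evS Y P ((cplx Y P).d n (n + 1) c) s = ∑ j : Fin (n + 2), ((-1 : ℤ) ^ (j : ℕ)) • evS Y P c (s.δ j) := by
  rw [evS, coord_d, map_sum]
  refine Finset.sum_congr rfl fun j _ => ?_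
  rw [map_zsmul, ← ConcreteCategory.comp_apply, ← P.map_comp, ← op_comp]
  congr 1
  refine congrArg (fun l : V ⟶ _ => P.map l.op (coord Y P _ c)) (W_ext Y fun k => ?_)
  rw [Category.assoc, face_pr]
  exact (cls_pr Y s (j.succAbove k)).trans (cls_pr Y (s.δ j) k).symm

lemma evS_univ {n : ℕ} (c : (cplx Y P).X n) (a : Fin (n + 1) → ι) :
    evS Y P c (univS Y a) = coord Y P a c := by
  refine (evS_congr Y P c (a := a) rfl (univS Y a).cls (𝟙 _) fun k =>
    heq_of_eq ((cls_pr Y (univS Y a) k).trans (Category.id_comp _).symm)).trans ?_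
  simp

/-- a cochain as a map -/
noncomputable def φS {n : ℕ} (c : (cplx Y P).X n) : ZS Y n ⟶ P where
  app V := AddCommGrpCat.ofHom (FreeAbelianGroup.lift fun s => evS Y P c s)
  naturality {V V'} v := by
    apply AddCommGrpCat.hom_ext
    apply FreeAbelianGroup.lift_ext
    intro s
    change FreeAbelianGroup.lift _ (FreeAbelianGroup.of (Smp.res v.unop s)) = P.map v (FreeAbelianGroup.lift _ (FreeAbelianGroup.of s))
    simp only [FreeAbelianGroup.lift_apply_of]
    exact evS_res Y P c v.unop s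

/-- injective presheaves have acyclic Cech complexes -/
theorem exactAt_of_injective [Injective P] (n : ℕ) : (cplx Y P).ExactAt (n + 1) := by
  rw [exactAt_succ_iff]
  intro c hc
  let d := dS Y n
  have hker : kernel.ι d ≫ φS Y P c = 0 := by
    apply NatTrans.ext
    funext V
    apply AddCommGrpCat.hom_ext
    ext x
    have hx : bdry Y n V.unop ((kernel.ι d).app V x) = 0 :=
      ConcreteCategory.congr_hom (congr_app (kernel.condition d) V) x
    obtain ⟨y, hy⟩ := bdry_exact Y n V.unop _ hx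
    change FreeAbelianGroup.lift (fun s => evS Y P c s) ((kernel.ι d).app V x) = (0 : P.obj V)
    rw [← hy, ← AddMonoidHom.comp_apply]
    refine DFunLike.congr_fun (g := (0 : FreeAbelianGroup (Smp Y (n + 2) V.unop) →+ P.obj V))
      (FreeAbelianGroup.lift_ext _ _ fun s => ?_) y
    rw [AddMonoidHom.comp_apply, bdry_of, map_sum]
    simp only [map_zsmul, FreeAbelianGroup.lift_apply_of]
    rw [← evS_d, hc, evS, map_zero, map_zero, AddMonoidHom.zero_apply]
  let φ₁ : Abelian.coimage d ⟶ P := cokernel.desc (kernel.ι d) (φS Y P c) hker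
  let ψ : ZS Y n ⟶ P := Injective.factorThru φ₁ (Abelian.factorThruCoimage d)
  have hψ : d ≫ ψ = φS Y P c := by
    calc d ≫ ψ = (Abelian.coimage.π d ≫ Abelian.factorThruCoimage d) ≫ ψ := by rw [Abelian.coimage.fac]
      _ = Abelian.coimage.π d ≫ φ₁ := by rw [Category.assoc, Injective.comp_factorThru]
      _ = φS Y P c := cokernel.π_desc _ _ _
  refine ⟨mk Y P fun a => ψ.app (op (W Y a).left) (FreeAbelianGroup.of (univS Y a)), coord_ext Y P fun a => ?_⟩
  rw [coord_d, ← evS_univ Y P c a]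
  have h := ConcreteCategory.congr_hom (congr_app hψ (op (W Y a).left)) (FreeAbelianGroup.of (univS Y a))
  change ψ.app _ (bdry Y n _ (FreeAbelianGroup.of (univS Y a))) =
    FreeAbelianGroup.lift (fun s => evS Y P c s) (FreeAbelianGroup.of (univS Y a)) at h
  rw [FreeAbelianGroup.lift_apply_of, bdry_of] at h
  erw [map_sum] at h
  refine Eq.trans (Finset.sum_congr rfl fun j _ => ?_) h
  rw [coord_mk]
  erw [map_zsmul, ← NatTrans.naturality_apply]
  congr 1
  refine congrArg (ψ.app _) (congrArg FreeAbelianGroup.of (Smp.ext ?_ ?_))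
  · exact Over.w (Pi.lift (f := Y ∘ (a ∘ j.succAbove)) (fun k => Pi.π (Y ∘ a) (j.succAbove k)))
  · funext k
    exact Sigma.ext rfl (heq_of_eq (face_pr Y a j k))

variable {J : GrothendieckTopology C}

lemma injective_obj (I : Sheaf J AddCommGrpCat.{u}) [Injective I] : Injective I.obj :=
  have : (presheafToSheaf J AddCommGrpCat.{u}).PreservesMonomorphisms := inferInstance
  Injective.injective_of_adjoint (sheafificationAdjunction J AddCommGrpCat.{u}) I

/-- injective sheaves have vanishing Cech cohomology -/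
theorem isZero_cechH_injective (I : Sheaf J AddCommGrpCat.{u}) [Injective I] (p : ℕ) :
    IsZero (CohCx.cechH I.obj Y (p + 1)) :=
  have := injective_obj I
  (isZero_cechH_iff Y I.obj p).2 (exactAt_of_injective Y I.obj p)

/-! ### surjectivity on sections -/

lemma app_injective {F G : Sheaf J AddCommGrpCat.{u}} (φ : F ⟶ G) [Mono φ] (V : C) :
    Function.Injective (φ.hom.app (op V)) := by
  rw [← AddCommGrpCat.mono_iff_injective]
  exact (NatTrans.mono_iff_mono_app _).1 (inferInstanceAs (Mono ((sheafToPresheaf J AddCommGrpCat.{u}).map φ))) (op V)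

lemma sections_exact (S : ShortComplex (Sheaf J AddCommGrpCat.{u})) (hS : S.ShortExact) {V : C}
    (y : S.X₂.obj.obj (op V)) (hy : S.g.hom.app (op V) y = 0) : ∃ x, S.f.hom.app (op V) x = y := by
  have := hS.mono_f
  let G := sheafToPresheaf J AddCommGrpCat.{u} ⋙ (evaluation Cᵒᵖ AddCommGrpCat.{u}).obj (op V)
  have h := hS.exact.map_of_mono_of_preservesKernel G inferInstance inferInstance
  rw [ShortComplex.ab_exact_iff] at h
  exact h y hy

lemma coord_map {P' : Cᵒᵖ ⥤ AddCommGrpCat.{u}} (φ : P ⟶ P') {n : ℕ} (c : (cplx Y P).X n) (a : Fin (n + 1) → ι) :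
    coord Y P' a (((cechComplexFunctor Y).map (Functor.whiskerLeft (Over.forget U).op φ)).f n c) =
      φ.app (op (W Y a).left) (coord Y P a c) := by
  change ((Pi.π (fun i : Fin (n + 1) → ι => P'.obj (op (W Y i).left))) a).hom _ = _
  erw [Pi.map_π_apply]
  rfl

/-- gluing -/
lemma glue (G : Sheaf J AddCommGrpCat.{u})
    (hY : Sieve.ofArrows (fun i => (Y i).left) (fun i => (Y i).hom) ∈ J U)
    (x : ∀ i, G.obj.obj (op (Y i).left))
    (hx : ∀ i j (Z : C) (gi : Z ⟶ (Y i).left) (gj : Z ⟶ (Y j).left), gi ≫ (Y i).hom = gj ≫ (Y j).hom →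
      G.obj.map gi.op (x i) = G.obj.map gj.op (x j)) :
    ∃! t, ∀ i, G.obj.map (Y i).hom.op t = x i := by
  have h : Presieve.IsSheaf J (G.obj ⋙ forget AddCommGrpCat.{u}) :=
    (isSheaf_iff_isSheaf_of_type _ _).1 ((sheafCompose J (forget AddCommGrpCat.{u})).obj G).property
  exact (Presieve.isSheafFor_arrows_iff _ _).1 ((Presieve.isSheafFor_iff_generate _).2 (h _ hY)) x hx

theorem surjective_of_cech (S : ShortComplex (Sheaf J AddCommGrpCat.{u})) (hS : S.ShortExact) (U : C)
    (h : ∀ T ∈ J U, ∃ (ι : Type u) (Y : ι → Over U), (∀ i, T.arrows (Y i).hom) ∧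
      Sieve.ofArrows (fun i => (Y i).left) (fun i => (Y i).hom) ∈ J U ∧
      IsZero (CohCx.cechH S.X₁.obj Y 1)) :
    Function.Surjective (S.g.hom.app (op U)) := by
  intro s
  have := hS.mono_f
  have := hS.epi_g
  have : Sheaf.IsLocallySurjective S.g :=
    (Sheaf.isLocallySurjective_iff_epi' (C := C) (J := J) _ S.g).2 inferInstance
  obtain ⟨ι, Y, hT, hY, hF⟩ := h _ (Presheaf.imageSieve_mem J S.g.hom s)
  choose t₀ ht₀ using hT
  have nat : ∀ {A B : C} (l : B ⟶ A) (x : S.X₂.obj.obj (op A)),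
      S.g.hom.app (op B) (S.X₂.obj.map l.op x) = S.X₃.obj.map l.op (S.g.hom.app (op A) x) :=
    fun l x => NatTrans.naturality_apply S.g.hom l.op x
  let tb : (cplx Y S.X₂.obj).X 0 := mk Y _ fun a => S.X₂.obj.map (pr Y a 0).op (t₀ (a 0))
  have htb : ∀ a : Fin 1 → ι, S.g.hom.app _ (coord Y _ a tb) = S.X₃.obj.map (W Y a).hom.op s := by
    intro a
    rw [coord_mk, nat]
    erw [ht₀]
    rw [← ConcreteCategory.comp_apply, ← Functor.map_comp, ← op_comp, pr_hom]
  have hdiff : ∀ a : Fin 2 → ι, S.g.hom.app _ (coord Y _ a ((cplx Y S.X₂.obj).d 0 1 tb)) = 0 := by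
    intro a
    rw [coord_d, map_sum, Fin.sum_univ_two]
    simp only [map_zsmul, nat, htb]
    have e : ∀ j : Fin 2, S.X₃.obj.map (face Y a j).op (S.X₃.obj.map (W Y (a ∘ j.succAbove)).hom.op s) =
        S.X₃.obj.map (W Y a).hom.op s := fun j => by
      rw [← ConcreteCategory.comp_apply, ← Functor.map_comp, ← op_comp]
      exact congrArg (fun l : (W Y a).left ⟶ U => S.X₃.obj.map l.op s)
        (Over.w (Pi.lift (f := Y ∘ (a ∘ j.succAbove)) (fun k => Pi.π (Y ∘ a) (j.succAbove k))))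
    rw [e 0, e 1]
    simp
  choose e he using fun a : Fin 2 → ι => sections_exact S hS _ (hdiff a)
  let Φ := cechComplexFunctor (A := AddCommGrpCat.{u}) Y
  let Φf := Φ.map (Functor.whiskerLeft (Over.forget U).op S.f.hom)
  have hde : (cplx Y S.X₁.obj).d 1 2 (mk Y _ e) = 0 := by
    refine coord_ext Y _ fun a => app_injective S.f _ ?_
    rw [← coord_map Y _ S.f.hom, ← ConcreteCategory.comp_apply, ← Φf.comm 1 2, ConcreteCategory.comp_apply,
      map_zero, map_zero]
    have : Φf.f 1 (mk Y _ e) = (cplx Y S.X₂.obj).d 0 1 tb :=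
      coord_ext Y _ fun b => by rw [coord_map, coord_mk, he]
    erw [this, d_d, map_zero]
  obtain ⟨b, hb⟩ := (exactAt_succ_iff Y _ 0).1 ((isZero_cechH_iff Y S.X₁.obj 0).1 hF) _ hde
  let t' : (cplx Y S.X₂.obj).X 0 := tb - Φf.f 0 b
  have hdt' : (cplx Y S.X₂.obj).d 0 1 t' = 0 := by
    simp only [t', map_sub]
    rw [sub_eq_zero, ← ConcreteCategory.comp_apply, Φf.comm 0 1, ConcreteCategory.comp_apply]
    erw [hb]
    refine coord_ext Y _ fun a => ?_
    rw [coord_map, coord_mk, he]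
  let x : ∀ i, S.X₂.obj.obj (op (Y i).left) := fun i =>
    S.X₂.obj.map (lft Y (fun _ : Fin 1 => i) (Y i).hom (fun _ => 𝟙 _) (fun _ => Category.id_comp _)).op
      (coord Y _ (fun _ : Fin 1 => i) t')
  have hx : ∀ i j (Z : C) (gi : Z ⟶ (Y i).left) (gj : Z ⟶ (Y j).left), gi ≫ (Y i).hom = gj ≫ (Y j).hom →
      S.X₂.obj.map gi.op (x i) = S.X₂.obj.map gj.op (x j) := by
    intro i j Z gi gj hij
    let s₂ : Smp Y 1 Z :=
      { g := gi ≫ (Y i).hom
        pt := ![⟨i, gi⟩, ⟨j, gj⟩]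
        w := fun k => by fin_cases k <;> simp [hij] }
    have h0 := evS_d Y S.X₂.obj t' s₂
    rw [hdt', Fin.sum_univ_two] at h0
    rw [show evS Y S.X₂.obj (0 : (cplx Y S.X₂.obj).X 1) s₂ = 0 by simp [evS]] at h0
    norm_num at h0
    rw [← sub_eq_add_neg, eq_comm, sub_eq_zero] at h0
    have ev : ∀ (k : ι) (gk : Z ⟶ (Y k).left) (q : Smp Y 0 Z), q.pt 0 = ⟨k, gk⟩ →
        S.X₂.obj.map gk.op (x k) = evS Y S.X₂.obj t' q := by
      intro k gk q hq
      change S.X₂.obj.map gk.op (S.X₂.obj.map _ _) = S.X₂.obj.map _ _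
      rw [← ConcreteCategory.comp_apply, ← Functor.map_comp, ← op_comp]
      refine evS_congr Y _ t' (funext fun z => by fin_cases z; exact (congrArg Sigma.fst hq).symm) _ _ fun z => ?_
      rw [Category.assoc, lft_pr, Category.comp_id, Smp.cls, lft_pr]
      fin_cases z
      exact (congr_arg_heq Sigma.snd hq).symm
    rw [ev i gi (s₂.δ 1) rfl, ev j gj (s₂.δ 0) rfl, h0]
  obtain ⟨t, ht, -⟩ := glue Y S.X₂ hY x hx
  refine ⟨t, ?_⟩
  obtain ⟨w, -, hw⟩ := glue Y S.X₃ hY (fun i => S.X₃.obj.map (Y i).hom.op s) (fun i j Z gi gj hij => by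
    rw [← ConcreteCategory.comp_apply, ← ConcreteCategory.comp_apply, ← Functor.map_comp, ← Functor.map_comp,
      ← op_comp, ← op_comp, hij])
  refine (hw _ fun i => ?_).trans (hw s fun i => rfl).symm
  rw [← nat, ht i]
  simp only [x, t', map_sub, nat]
  rw [coord_map Y _ S.f.hom]
  have hz : ∀ {A : C} (a : S.X₁.obj.obj (op A)), S.g.hom.app _ (S.f.hom.app _ a) = 0 := by
    intro A a
    exact ConcreteCategory.congr_hom (congr_app (congrArg InducedCategory.Hom.hom S.zero) (op A)) a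
  rw [hz, map_zero, sub_zero, htb, ← ConcreteCategory.comp_apply, ← Functor.map_comp, ← op_comp]
  refine congrArg (fun l : (Y i).left ⟶ U => S.X₃.obj.map l.op s) ?_
  rw [← pr_hom Y (fun _ : Fin 1 => i) 0, ← Category.assoc, lft_pr, Category.id_comp]

/-- the Cech complex as a functor of presheaves on `C` -/
noncomputable abbrev ΦC : (Cᵒᵖ ⥤ AddCommGrpCat.{u}) ⥤ CochainComplex AddCommGrpCat.{u} ℕ :=
  (Functor.whiskeringLeft _ _ AddCommGrpCat.{u}).obj (Over.forget U).op ⋙ cechComplexFunctor Y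

instance ΦC_additive : (ΦC Y).Additive where
  map_add := by
    intro P P' f g
    ext n c
    refine coord_ext Y P' fun x => ?_
    rw [HomologicalComplex.add_f_apply, AddCommGrpCat.hom_add, AddMonoidHom.add_apply, map_add]
    exact (coord_map Y P (f + g) c x).trans
      (congrArg₂ (· + ·) (coord_map Y P f c x).symm (coord_map Y P g c x).symm)

/-- Cech complexes of a short exact sequence -/
lemma cplx_shortExact (S : ShortComplex (Sheaf J AddCommGrpCat.{u})) (hS : S.ShortExact)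
    (hs : ∀ (n : ℕ) (a : Fin (n + 1) → ι), Function.Surjective (S.g.hom.app (op (W Y a).left))) :
    ((S.map (sheafToPresheaf _ _)).map (ΦC Y)).ShortExact := by
  refine HomologicalComplex.shortExact_of_degreewise_shortExact _ fun n => ?_
  have := hS.mono_f
  refine { exact := ?_, mono_f := ?_, epi_g := ?_ }
  · rw [ShortComplex.ab_exact_iff]
    intro c hc
    choose e he using fun a : Fin (n + 1) → ι => sections_exact S hS (coord Y _ a c) (by
      exact (coord_map Y _ S.g.hom c a).symm.trans ((congrArg (coord Y _ a) hc).trans (map_zero _)))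
    exact ⟨mk Y _ e, coord_ext Y _ fun a => by erw [coord_map, coord_mk]; exact he a⟩
  · rw [AddCommGrpCat.mono_iff_injective]
    intro a b hab
    refine coord_ext Y _ fun z => app_injective S.f _ ?_
    have := congrArg (fun q => coord Y _ z q) hab
    erw [coord_map, coord_map] at this
    exact this
  · rw [AddCommGrpCat.epi_iff_surjective]
    intro c
    choose e he using fun a : Fin (n + 1) → ι => hs n a (coord Y _ a c)
    exact ⟨mk Y _ e, coord_ext Y _ fun a => by erw [coord_map, coord_mk]; exact he a⟩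

theorem isZero_cechH_X₃ (S : ShortComplex (Sheaf J AddCommGrpCat.{u})) (hS : S.ShortExact)
    (hs : ∀ (n : ℕ) (a : Fin (n + 1) → ι), Function.Surjective (S.g.hom.app (op (W Y a).left))) (p : ℕ)
    (h₁ : IsZero (CohCx.cechH S.X₁.obj Y (p + 2))) (h₂ : IsZero (CohCx.cechH S.X₂.obj Y (p + 1))) :
    IsZero (CohCx.cechH S.X₃.obj Y (p + 1)) :=
  ShortComplex.Exact.isZero_of_both_zeros ((cplx_shortExact Y S hS hs).homology_exact₃ (p + 1) (p + 2) (by simp))
    (h₂.eq_of_src _ _) (h₁.eq_of_tgt _ _)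

/-- Cartan's lemma on a site -/
theorem subsingleton_HU_of_cech (B : Set C) (Cov : ∀ (U : C) (ι : Type u), (ι → Over U) → Prop)
    (h1 : ∀ (U : C) (ι : Type u) (Y : ι → Over U), Cov U ι Y → U ∈ B ∧
      Sieve.ofArrows (fun i => (Y i).left) (fun i => (Y i).hom) ∈ J U ∧
      ∀ (p : ℕ) (a : Fin (p + 1) → ι), (∏ᶜ fun k => Y (a k)).left ∈ B)
    (h2 : ∀ U ∈ B, ∀ T ∈ J U, ∃ (ι : Type u) (Y : ι → Over U), Cov U ι Y ∧ ∀ i, T.arrows (Y i).hom)
    (F : Sheaf J AddCommGrpCat.{u})
    (h3 : ∀ (U : C) (ι : Type u) (Y : ι → Over U), Cov U ι Y → ∀ p : ℕ, IsZero (CohCx.cechH F.obj Y (p + 1)))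
    (U : C) (hU : U ∈ B) (p : ℕ) : Subsingleton (CohSite.HU F (p + 1) U) := by
  let Good : Sheaf J AddCommGrpCat.{u} → Prop := fun G =>
    ∀ (U : C) (ι : Type u) (Y : ι → Over U), Cov U ι Y → ∀ p : ℕ, IsZero (CohCx.cechH G.obj Y (p + 1))
  have surj : ∀ G, Good G → ∀ V ∈ B, Function.Surjective ((H5SiteCoh.injSeq G).g.hom.app (op V)) :=
    fun G hG V hV => surjective_of_cech _ (H5SiteCoh.injSeq_shortExact G) V fun T hT => by
      obtain ⟨ι, Y, hc, hr⟩ := h2 V hV T hT
      exact ⟨ι, Y, hr, (h1 V ι Y hc).2.1, hG V ι Y hc 0⟩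
  refine H5SiteCoh.acyclic_HU Good U (fun G hG => ⟨fun V ι Y hc q => ?_, surj G hG U hU⟩) p F h3
  exact isZero_cechH_X₃ Y _ (H5SiteCoh.injSeq_shortExact G)
    (fun n a => surj G hG _ ((h1 V ι Y hc).2.2 n a)) q (hG V ι Y hc (q + 1))
    (isZero_cechH_injective Y (H5SiteCoh.injSeq G).X₂ q)

end Groth.Agent.H5Cech
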