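import Mathlib
import Groth.Prelude
universe u
open CategoryTheory CategoryTheory.Limits TopologicalSpace Opposite
namespace Groth.Agent.H5CechHtpy
set_option maxHeartbeats 600000

variable {X : TopCat.{u}} (F : (Opens X)ᵒᵖ ⥤ AddCommGrpCat.{u}) {ι : Type u} (U : ι → Opens X)

noncomputable abbrev W {n : ℕ} (a : Fin n → ι) : Opens X := ∏ᶜ (U ∘ a)

lemma W_le {n : ℕ} (a : Fin n → ι) (k : Fin n) : W U a ≤ U (a k) := leOfHom (Pi.π (U ∘ a) k)

lemma le_W {n : ℕ} (a : Fin n → ι) {V : Opens X} (h : ∀ k, V ≤ U (a k)) : V ≤ W U a :=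
  leOfHom (Pi.lift (f := U ∘ a) fun k => homOfLE (h k))

noncomputable abbrev K : CochainComplex AddCommGrpCat.{u} ℕ := (cechComplexFunctor U).obj F

noncomputable abbrev pj {n : ℕ} (a : Fin (n + 1) → ι) : (K F U).X n ⟶ F.obj (op (W U a)) :=
  Pi.π (fun b : Fin (n + 1) → ι => F.obj (op (W U b))) a

lemma hom_ext {n : ℕ} {A : AddCommGrpCat.{u}} {f g : A ⟶ (K F U).X n} (h : ∀ a, f ≫ pj F U a = g ≫ pj F U a) : f = g :=
  Pi.hom_ext f g h

lemma proj_congr {n : ℕ} {a b : Fin (n + 1) → ι} (e : a = b) {V : Opens X} (x : V ≤ W U a) (y : V ≤ W U b) :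
    pj F U a ≫ F.map (homOfLE x).op = pj F U b ≫ F.map (homOfLE y).op := by
  subst e; rfl

lemma d_proj {n : ℕ} (a : Fin (n + 2) → ι) :
    (K F U).d n (n + 1) ≫ pj F U a = ∑ j : Fin (n + 2), ((-1 : ℤ) ^ (j : ℕ)) •
      (pj F U (a ∘ j.succAbove) ≫ F.map (homOfLE (le_W U (a ∘ j.succAbove) (fun k => W_le U a (j.succAbove k)))).op) := by
  have hd : (K F U).d n (n + 1) = AlgebraicTopology.AlternatingCofaceMapComplex.objD
      ((FormalCoproduct.cosimplicialObjectFunctor (FormalCoproduct.mk _ U).cech).obj F) n := by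
    simp only [K, cechComplexFunctor, FormalCoproduct.cochainComplexFunctor, Functor.comp_obj]
    dsimp [AlgebraicTopology.alternatingCofaceMapComplex, AlgebraicTopology.AlternatingCofaceMapComplex.obj, CochainComplex.of]
    rw [CochainComplex.of_d]
    rfl
  rw [hd, AlgebraicTopology.AlternatingCofaceMapComplex.objD]
  erw [Preadditive.sum_comp]
  refine Finset.sum_congr rfl fun j _ => ?_
  erw [Preadditive.zsmul_comp]
  congr 1
  exact Limits.Pi.lift_π _ _

theorem cech_homotopyEquiv (i : ι) (hi : U i = iSup U) :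
    Nonempty (HomotopyEquiv ((CochainComplex.single₀ AddCommGrpCat.{u}).obj (F.obj (op (iSup U))))
      ((cechComplexFunctor U).obj F)) := by
  have hc : ∀ {n : ℕ} (a : Fin (n + 1) → ι), W U a ≤ U i := fun a => hi.symm ▸ (W_le U a 0).trans (le_iSup U _)
  have hcons : ∀ {n : ℕ} (a : Fin (n + 1) → ι), W U a ≤ W U (Fin.cons i a) := fun a =>
    le_W U _ (fun k => by
      induction k using Fin.cases with
      | zero => simpa using hc a
      | succ k => simpa using W_le U a k)
  let η : F.obj (op (iSup U)) ⟶ (K F U).X 0 :=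
    Pi.lift fun a : Fin 1 → ι => F.map (homOfLE ((W_le U a 0).trans (le_iSup U _))).op
  have hη : ∀ a : Fin 1 → ι, η ≫ pj F U a = F.map (homOfLE ((W_le U a 0).trans (le_iSup U _))).op :=
    fun a => Pi.lift_π _ a
  let r : (K F U).X 0 ⟶ F.obj (op (iSup U)) := pj F U (fun _ => i) ≫ F.map (homOfLE (le_W U _ (fun _ => hi.ge))).op
  let h : ∀ n, (K F U).X (n + 1) ⟶ (K F U).X n := fun n =>
    Pi.lift fun a : Fin (n + 1) → ι => pj F U (Fin.cons i a) ≫ F.map (homOfLE (hcons a)).op
  have hh : ∀ {n} (a : Fin (n + 1) → ι), h n ≫ pj F U a = pj F U (Fin.cons i a) ≫ F.map (homOfLE (hcons a)).op :=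
    fun a => Pi.lift_π _ a
  have hmap : ∀ {V V' V'' : Opens X} (x : V' ≤ V) (y : V'' ≤ V') (z : V'' ≤ V),
      F.map (homOfLE x).op ≫ F.map (homOfLE y).op = F.map (homOfLE z).op := fun x y z => by
    rw [← F.map_comp]; rfl
  have hdd : η ≫ (K F U).d 0 1 = 0 := by
    refine hom_ext F U fun a => ?_
    rw [Category.assoc, d_proj, Preadditive.comp_sum, zero_comp, Fin.sum_univ_two]
    simp only [Preadditive.comp_zsmul, reassoc_of% hη]
    rw [hmap _ _ ((W_le U a 0).trans (le_iSup U _)), hmap _ _ ((W_le U a 0).trans (le_iSup U _))]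
    simp
  let f : (CochainComplex.single₀ AddCommGrpCat.{u}).obj (F.obj (op (iSup U))) ⟶ K F U :=
    (CochainComplex.fromSingle₀Equiv _ _).symm ⟨η, hdd⟩
  let g : K F U ⟶ (CochainComplex.single₀ AddCommGrpCat.{u}).obj (F.obj (op (iSup U))) :=
    (CochainComplex.toSingle₀Equiv _ _).symm r
  have hf0 : f.f 0 = η := by simp [f, CochainComplex.fromSingle₀Equiv]
  have hg0 : g.f 0 = r := by simp [g, CochainComplex.toSingle₀Equiv]
  have hfg : f ≫ g = 𝟙 _ := by
    refine HomologicalComplex.from_single_hom_ext ?_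
    rw [HomologicalComplex.comp_f, hf0, hg0, HomologicalComplex.id_f]
    show η ≫ pj F U _ ≫ F.map _ = 𝟙 _
    rw [reassoc_of% hη, hmap _ _ le_rfl]
    exact F.map_id _
  let hom : ∀ p q, (K F U).X p ⟶ (K F U).X q := fun p q =>
    if hpq : q + 1 = p then eqToHom (by rw [hpq]) ≫ h q else 0
  have hom_eq : ∀ q, hom (q + 1) q = h q := fun q => by simp [hom]
  refine ⟨{ hom := f, inv := g, homotopyHomInvId := Homotopy.ofEq hfg, homotopyInvHomId := Homotopy.symm ?_ }⟩
  refine { hom := hom, zero := fun p q hpq => dif_neg hpq, comm := fun n => ?_ }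
  have hd0 : ∀ {m : ℕ} (a : Fin (m + 1) → ι),
      pj F U (Fin.cons i a ∘ (0 : Fin (m + 2)).succAbove) ≫
        F.map (homOfLE (le_W U _ (fun k => W_le U (Fin.cons i a) ((0 : Fin (m + 2)).succAbove k)))).op ≫
          F.map (homOfLE (hcons a)).op = pj F U a := by
    intro m a
    rw [hmap _ _ (le_W U _ (fun k => by simpa using W_le U a k))]
    refine (proj_congr F U (funext fun k => by simp) _ le_rfl).trans ?_
    exact (congrArg _ (F.map_id _)).trans (Category.comp_id _)
  cases n with
  | zero =>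
    rw [Homotopy.prevD_zero_cochainComplex, dNext_eq hom (show (ComplexShape.up ℕ).Rel 0 1 from rfl), hom_eq, add_zero,
      HomologicalComplex.id_f, HomologicalComplex.comp_f, hf0, hg0]
    refine hom_ext F U fun a => ?_
    rw [Category.id_comp, Preadditive.add_comp, Category.assoc, Category.assoc]
    refine Eq.trans ?_ (congrArg (fun t => (K F U).d 0 1 ≫ h 0 ≫ pj F U a + r ≫ t) (hη a)).symm
    rw [hh, ← Category.assoc,
      d_proj, Preadditive.sum_comp, Fin.sum_univ_two]
    simp only [Preadditive.zsmul_comp, Category.assoc]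
    rw [hd0]
    have e1 : pj F U (Fin.cons i a ∘ (1 : Fin 2).succAbove) ≫
        F.map (homOfLE (le_W U _ (fun k => W_le U (Fin.cons i a) ((1 : Fin 2).succAbove k)))).op ≫
          F.map (homOfLE (hcons a)).op = r ≫ F.map (homOfLE ((W_le U a 0).trans (le_iSup U _))).op := by
      simp only [r, Category.assoc]
      rw [hmap _ _ (le_W U _ (fun k => by fin_cases k; exact hc a)), hmap _ _ (le_W U _ (fun _ => hc a))]
      exact proj_congr F U (funext fun k => by fin_cases k; rfl) _ _
    rw [e1]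
    simp
  | succ m =>
    rw [dNext_eq hom (show (ComplexShape.up ℕ).Rel (m + 1) (m + 2) from rfl),
      prevD_eq hom (show (ComplexShape.up ℕ).Rel m (m + 1) from rfl), hom_eq, hom_eq,
      HomologicalComplex.id_f, HomologicalComplex.comp_f,
      (HomologicalComplex.isZero_single_obj_X (ComplexShape.up ℕ) 0 _ (m + 1) (by simp)).eq_of_tgt (g.f (m + 1)) 0, zero_comp, add_zero]
    refine hom_ext F U fun a => ?_
    rw [Category.id_comp, Preadditive.add_comp, Category.assoc, Category.assoc, hh, ← Category.assoc ((K F U).d (m + 1) (m + 2)),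
      d_proj, d_proj, Preadditive.sum_comp, Preadditive.comp_sum, Fin.sum_univ_succ]
    simp only [Preadditive.zsmul_comp, Preadditive.comp_zsmul, Category.assoc, hd0, reassoc_of% hh]
    have e2 : ∀ j : Fin (m + 2), pj F U (Fin.cons i a ∘ j.succ.succAbove) ≫
        F.map (homOfLE (le_W U _ (fun k => W_le U (Fin.cons i a) (j.succ.succAbove k)))).op ≫
          F.map (homOfLE (hcons a)).op =
        pj F U (Fin.cons i (a ∘ j.succAbove)) ≫ F.map (homOfLE (hcons (a ∘ j.succAbove))).op ≫
          F.map (homOfLE (le_W U (a ∘ j.succAbove) (fun k => W_le U a (j.succAbove k)))).op := fun j => by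
      have hle : W U a ≤ W U (Fin.cons i (a ∘ j.succAbove)) :=
        (le_W U (a ∘ j.succAbove) (fun k => W_le U a (j.succAbove k))).trans (hcons _)
      rw [hmap _ _ ((hcons a).trans (le_W U _ (fun k => W_le U (Fin.cons i a) (j.succ.succAbove k)))), hmap _ _ hle]
      refine proj_congr F U (funext fun k => ?_) _ _
      induction k using Fin.cases with
      | zero => simp
      | succ k => simp
    rw [Finset.sum_congr rfl (fun j _ => by rw [e2 j])]
    simp [pow_succ]

end Groth.Agent.H5CechHtpy
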