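import Mathlib.AlgebraicTopology.ExtraDegeneracy
import Mathlib.AlgebraicTopology.AlternatingFaceMapComplex
import Mathlib.Algebra.Homology.Functor
import Mathlib.CategoryTheory.Sites.LocallyBijective
import Mathlib.CategoryTheory.Sites.Adjunction
import Mathlib.CategoryTheory.Subfunctor.Image
import Mathlib.CategoryTheory.Sites.LocallySurjective
import Groth.Prelude.Def_CohCx

universe u v w v' w'

namespace Groth.Agent.H5CechNerve
open CategoryTheory Limits Opposite AlgebraicTopology Simplicial SimplicialObject

section comparison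
variable {A : Type w} [Category.{v} A] [Abelian A] {B : Type w'} [Category.{v'} B] [Abelian B]
  (G : A ⥤ B) [G.Additive]

/-- an additive functor commutes with alternating face map complexes -/
noncomputable def altIso (X : SimplicialObject A) :
    (G.mapHomologicalComplex _).obj (AlternatingFaceMapComplex.obj X) ≅
      AlternatingFaceMapComplex.obj (((SimplicialObject.whiskering A B).obj G).obj X) :=
  HomologicalComplex.Hom.isoOfComponents (fun _ => Iso.refl _) (by
    rintro _ n rfl
    simp [AlternatingFaceMapComplex.objD, Functor.map_sum, Functor.map_zsmul, SimplicialObject.δ]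
    exact (Category.id_comp _).trans (Category.comp_id _).symm)

lemma ε_map (X : SimplicialObject.Augmented A) :
    (G.mapHomologicalComplex _).map (AlternatingFaceMapComplex.ε.app X) ≫
        ((HomologicalComplex.singleMapHomologicalComplex G (ComplexShape.down ℕ) 0).app X.right).hom =
      (altIso G X.left).hom ≫
        AlternatingFaceMapComplex.ε.app (((SimplicialObject.Augmented.whiskering A B).obj G).obj X) := by
  apply HomologicalComplex.to_single_hom_ext
  refine Eq.trans ?_ (HomologicalComplex.comp_f (altIso G X.left).hom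
    (AlternatingFaceMapComplex.ε.app (((SimplicialObject.Augmented.whiskering A B).obj G).obj X)) 0).symm
  refine (HomologicalComplex.comp_f _ _ 0).trans ?_
  simp [altIso]
  refine Eq.trans ?_ (Category.id_comp _).symm
  rfl

lemma quasiIso_map_ε_iff (X : SimplicialObject.Augmented A) :
    QuasiIso ((G.mapHomologicalComplex _).map (AlternatingFaceMapComplex.ε.app X)) ↔
      QuasiIso (AlternatingFaceMapComplex.ε.app (((SimplicialObject.Augmented.whiskering A B).obj G).obj X)) :=
  (HomologicalComplex.quasiIso B (ComplexShape.down ℕ)).arrow_mk_iso_iff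
    (Arrow.isoMk (altIso G X.left)
      ((HomologicalComplex.singleMapHomologicalComplex G (ComplexShape.down ℕ) 0).app X.right) (ε_map G X).symm)

end comparison

variable {C : Type u} [SmallCategory C] {J : GrothendieckTopology C} {K' K : Sheaf J (Type u)} (f : K' ⟶ K)

/-- evaluation -/
noncomputable abbrev ev (V : Cᵒᵖ) : Sheaf J (Type u) ⥤ Type u :=
  sheafToPresheaf J (Type u) ⋙ (evaluation Cᵒᵖ (Type u)).obj V

/-- degree n of the nerve -/
noncomputable abbrev N (n : ℕ) : Sheaf J (Type u) :=
  widePullback K (fun _ : Fin (n + 1) => K') fun _ => f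

variable {f}

lemma N_ext {n : ℕ} {V : Cᵒᵖ} (a b : (N f n).obj.obj V)
    (h0 : (WidePullback.base (fun _ : Fin (n + 1) => f)).hom.app V a = (WidePullback.base (fun _ : Fin (n + 1) => f)).hom.app V b)
    (h : ∀ i, (WidePullback.π (fun _ : Fin (n + 1) => f) i).hom.app V a = (WidePullback.π (fun _ : Fin (n + 1) => f) i).hom.app V b) :
    a = b := by
  have e := (isLimitOfPreserves (ev V) (limit.isLimit (WidePullbackShape.wideCospan K (fun _ : Fin (n + 1) => K') fun _ => f))).hom_ext
    (f := TypeCat.ofHom fun _ : PUnit.{u + 1} => a) (f' := TypeCat.ofHom fun _ : PUnit.{u + 1} => b) (fun j => by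
      ext x
      rcases j with _ | i
      · exact h0
      · exact h i)
  exact ConcreteCategory.congr_hom e PUnit.unit

lemma N_exists {n : ℕ} {V : Cᵒᵖ} (b : K.obj.obj V) (x : Fin (n + 1) → K'.obj.obj V) (hx : ∀ i, f.hom.app V (x i) = b) :
    ∃ a : (N f n).obj.obj V, (WidePullback.base (fun _ : Fin (n + 1) => f)).hom.app V a = b ∧
      ∀ i, (WidePullback.π (fun _ : Fin (n + 1) => f) i).hom.app V a = x i := by
  let F := WidePullbackShape.wideCospan K (fun _ : Fin (n + 1) => K') fun _ => f
  let hl := isLimitOfPreserves (ev V) (limit.isLimit F)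
  let c : Cone (F ⋙ ev V) := WidePullbackShape.mkCone (X := PUnit.{u + 1}) (TypeCat.ofHom fun _ => b)
    (fun i => TypeCat.ofHom fun _ => x i) (fun i => by ext p; exact hx i)
  exact ⟨hl.lift c PUnit.unit, ConcreteCategory.congr_hom (hl.fac c none) PUnit.unit,
    fun i => ConcreteCategory.congr_hom (hl.fac c (some i)) PUnit.unit⟩

variable (f)

lemma cn_base {m n : SimplexCategoryᵒᵖ} (g : m ⟶ n) :
    (Arrow.mk f).cechNerve.map g ≫ WidePullback.base (fun _ : Fin (n.unop.len + 1) => f) =
      WidePullback.base (fun _ : Fin (m.unop.len + 1) => f) :=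
  WidePullback.lift_base _ _ _ _

lemma cn_π {m n : SimplexCategoryᵒᵖ} (g : m ⟶ n) (j : Fin (n.unop.len + 1)) :
    (Arrow.mk f).cechNerve.map g ≫ WidePullback.π (fun _ : Fin (n.unop.len + 1) => f) j =
      WidePullback.π (fun _ : Fin (m.unop.len + 1) => f) (g.unop.toOrderHom j) := by
  exact WidePullback.lift_π _ _ _ _ _

/-- the nerve augmented to the presheaf image -/
noncomputable def Y : SimplicialObject.Augmented (Cᵒᵖ ⥤ Type u) where
  left := ((SimplicialObject.whiskering _ _).obj (sheafToPresheaf J (Type u))).obj (Arrow.mk f).cechNerve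
  right := (Subfunctor.range f.hom).toFunctor
  hom :=
    { app := fun n => Subfunctor.lift (WidePullback.base (fun _ : Fin (n.unop.len + 1) => f)).hom (by
        intro V
        rintro _ ⟨a, rfl⟩
        refine ⟨(WidePullback.π (fun _ : Fin (n.unop.len + 1) => f) 0).hom.app V a, ?_⟩
        exact ConcreteCategory.congr_hom (congr_app (congrArg InducedCategory.Hom.hom
          (WidePullback.π_arrow (fun _ : Fin (n.unop.len + 1) => f) 0)) V) a)
      naturality := fun m n g => by
        ext V a
        have h := ConcreteCategory.congr_hom (congr_app (congrArg InducedCategory.Hom.hom (cn_base f g)) V) a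
        exact Subtype.ext h }

variable {f}

lemma map_base {m n : SimplexCategoryᵒᵖ} (g : m ⟶ n) (V : Cᵒᵖ) (a : (N f m.unop.len).obj.obj V) :
    (WidePullback.base (fun _ : Fin (n.unop.len + 1) => f)).hom.app V (((Y f).left.map g).app V a) =
      (WidePullback.base (fun _ : Fin (m.unop.len + 1) => f)).hom.app V a :=
  ConcreteCategory.congr_hom (congr_app (congrArg InducedCategory.Hom.hom (cn_base f g)) V) a

lemma map_π {m n : SimplexCategoryᵒᵖ} (g : m ⟶ n) (V : Cᵒᵖ) (a : (N f m.unop.len).obj.obj V) (j : Fin (n.unop.len + 1)) :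
    (WidePullback.π (fun _ : Fin (n.unop.len + 1) => f) j).hom.app V (((Y f).left.map g).app V a) =
      (WidePullback.π (fun _ : Fin (m.unop.len + 1) => f) (g.unop.toOrderHom j)).hom.app V a :=
  ConcreteCategory.congr_hom (congr_app (congrArg InducedCategory.Hom.hom (cn_π f g j)) V) a

lemma π_f {n : ℕ} {V : Cᵒᵖ} (a : (N f n).obj.obj V) (i : Fin (n + 1)) :
    f.hom.app V ((WidePullback.π (fun _ : Fin (n + 1) => f) i).hom.app V a) =
      (WidePullback.base (fun _ : Fin (n + 1) => f)).hom.app V a :=
  ConcreteCategory.congr_hom (congr_app (congrArg InducedCategory.Hom.hom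
    (WidePullback.π_arrow (fun _ : Fin (n + 1) => f) i)) V) a

variable (f)

/-- a chosen lift -/
noncomputable def sec (V : Cᵒᵖ) (b : (Subfunctor.range f.hom).obj V) : K'.obj.obj V :=
  Classical.choose b.2

lemma sec_spec (V : Cᵒᵖ) (b : (Subfunctor.range f.hom).obj V) : f.hom.app V (sec f V b) = b.1 :=
  Classical.choose_spec b.2

/-- the value in the image -/
noncomputable def bd (V : Cᵒᵖ) (n : ℕ) (a : (N f n).obj.obj V) : (Subfunctor.range f.hom).obj V :=
  ((Y f).hom.app (op (SimplexCategory.mk n))).app V a

lemma bd_val (V : Cᵒᵖ) (n : ℕ) (a : (N f n).obj.obj V) :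
    (bd f V n a).1 = (WidePullback.base (fun _ : Fin (n + 1) => f)).hom.app V a := rfl

/-- the extra degeneracy with its spec -/
noncomputable def sSub (V : Cᵒᵖ) (n : ℕ) (a : (N f n).obj.obj V) :
    { a' : (N f (n + 1)).obj.obj V //
      (WidePullback.base (fun _ : Fin (n + 2) => f)).hom.app V a' = (WidePullback.base (fun _ : Fin (n + 1) => f)).hom.app V a ∧
      ∀ i, (WidePullback.π (fun _ : Fin (n + 2) => f) i).hom.app V a' =
        (Fin.cases (motive := fun _ => K'.obj.obj V) (sec f V (bd f V n a)) (fun i => (WidePullback.π (fun _ : Fin (n + 1) => f) i).hom.app V a) i) } :=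
  Classical.indefiniteDescription _ (N_exists (f := f) (n := n + 1) (V := V) _ _ (fun i => by
    induction i using Fin.cases with
    | zero => exact sec_spec f V (bd f V n a)
    | succ i => exact π_f a i))

noncomputable def sFun (V : Cᵒᵖ) (n : ℕ) (a : (N f n).obj.obj V) : (N f (n + 1)).obj.obj V := (sSub f V n a).1

lemma sFun_spec (V : Cᵒᵖ) (n : ℕ) (a : (N f n).obj.obj V) :
    (WidePullback.base (fun _ : Fin (n + 2) => f)).hom.app V (sFun f V n a) =
        (WidePullback.base (fun _ : Fin (n + 1) => f)).hom.app V a ∧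
      ∀ i, (WidePullback.π (fun _ : Fin (n + 2) => f) i).hom.app V (sFun f V n a) =
        (Fin.cases (motive := fun _ => K'.obj.obj V) (sec f V (bd f V n a)) (fun i => (WidePullback.π (fun _ : Fin (n + 1) => f) i).hom.app V a) i) :=
  (sSub f V n a).2

noncomputable def s'Fun (V : Cᵒᵖ) (b : (Subfunctor.range f.hom).obj V) : (N f 0).obj.obj V :=
  Classical.choose (N_exists (f := f) (n := 0) (V := V) b.1 (fun _ => sec f V b) (fun _ => sec_spec f V b))

lemma s'Fun_spec (V : Cᵒᵖ) (b : (Subfunctor.range f.hom).obj V) :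
    (WidePullback.base (fun _ : Fin 1 => f)).hom.app V (s'Fun f V b) = b.1 ∧
      ∀ i, (WidePullback.π (fun _ : Fin 1 => f) i).hom.app V (s'Fun f V b) = sec f V b :=
  Classical.choose_spec (N_exists (f := f) (n := 0) (V := V) b.1 (fun _ => sec f V b) (fun _ => sec_spec f V b))

/-- simplicial operators on sections -/
noncomputable def mp {m n : ℕ} (g : SimplexCategory.mk n ⟶ SimplexCategory.mk m) (V : Cᵒᵖ) (a : (N f m).obj.obj V) :
    (N f n).obj.obj V := ((Y f).left.map g.op).app V a

lemma mp_base {m n : ℕ} (g : SimplexCategory.mk n ⟶ SimplexCategory.mk m) (V : Cᵒᵖ) (a : (N f m).obj.obj V) :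
    (WidePullback.base (fun _ : Fin (n + 1) => f)).hom.app V (mp f g V a) =
      (WidePullback.base (fun _ : Fin (m + 1) => f)).hom.app V a := map_base g.op V a

lemma mp_π {m n : ℕ} (g : SimplexCategory.mk n ⟶ SimplexCategory.mk m) (V : Cᵒᵖ) (a : (N f m).obj.obj V) (j : Fin (n + 1)) :
    (WidePullback.π (fun _ : Fin (n + 1) => f) j).hom.app V (mp f g V a) =
      (WidePullback.π (fun _ : Fin (m + 1) => f) (g.toOrderHom j)).hom.app V a := map_π g.op V a j

lemma bd_mp {m n : ℕ} (g : SimplexCategory.mk n ⟶ SimplexCategory.mk m) (V : Cᵒᵖ) (a : (N f m).obj.obj V) :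
    bd f V n (mp f g V a) = bd f V m a := Subtype.ext (mp_base f g V a)

set_option maxHeartbeats 1000000 in
lemma eq₁ (V : Cᵒᵖ) (a : (N f 0).obj.obj V) :
    mp f (SimplexCategory.δ 1) V (sFun f V 0 a) = s'Fun f V (bd f V 0 a) := by
  refine N_ext (f := f) (n := 0) _ _ ?_ fun j => ?_
  · exact ((mp_base f _ V _).trans ((sFun_spec f V 0 a).1)).trans ((s'Fun_spec f V (bd f V 0 a)).1).symm
  · refine ((mp_π f _ V _ j).trans ((sFun_spec f V 0 a).2 _)).trans ?_
    fin_cases j
    exact ((s'Fun_spec f V _).2 _).symm

set_option maxHeartbeats 1000000 in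
lemma eq₀ (V : Cᵒᵖ) (n : ℕ) (a : (N f n).obj.obj V) :
    mp f (SimplexCategory.δ 0) V (sFun f V n a) = a := by
  refine N_ext (f := f) (n := n) _ _ ?_ fun j => ?_
  · exact (mp_base f _ V _).trans ((sFun_spec f V n a).1)
  · exact (mp_π f _ V _ j).trans ((sFun_spec f V n a).2 _)

set_option maxHeartbeats 1000000 in
lemma eqδ (V : Cᵒᵖ) (n : ℕ) (i : Fin (n + 2)) (a : (N f (n + 1)).obj.obj V) :
    mp f (SimplexCategory.δ i.succ) V (sFun f V (n + 1) a) =
      sFun f V n (mp f (SimplexCategory.δ i) V a) := by
  refine N_ext (f := f) (n := n + 1) _ _ ?_ fun j => ?_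
  · exact ((mp_base f _ V _).trans ((sFun_spec f V (n + 1) a).1)).trans
      ((mp_base f _ V a).symm.trans (sFun_spec f V n _).1.symm)
  · refine ((mp_π f _ V _ j).trans ((sFun_spec f V (n + 1) a).2 _)).trans (Eq.trans ?_ ((sFun_spec f V n _).2 j).symm)
    induction j using Fin.cases with
    | zero =>
      change Fin.cases (motive := fun _ => K'.obj.obj V) _ _ (i.succ.succAbove 0) = _
      rw [Fin.succ_succAbove_zero]
      exact congrArg (sec f V) (bd_mp f _ V a).symm
    | succ j =>
      change Fin.cases (motive := fun _ => K'.obj.obj V) _ _ (i.succ.succAbove j.succ) = _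
      rw [Fin.succ_succAbove_succ]
      simp only [Fin.cases_succ]
      exact (mp_π f (SimplexCategory.δ i) V a j).symm

set_option maxHeartbeats 1000000 in
lemma eqσ (V : Cᵒᵖ) (n : ℕ) (i : Fin (n + 1)) (a : (N f n).obj.obj V) :
    mp f (SimplexCategory.σ i.succ) V (sFun f V n a) =
      sFun f V (n + 1) (mp f (SimplexCategory.σ i) V a) := by
  refine N_ext (f := f) (n := n + 2) _ _ ?_ fun j => ?_
  · exact ((mp_base f _ V _).trans ((sFun_spec f V n a).1)).trans
      ((mp_base f _ V a).symm.trans (sFun_spec f V (n + 1) _).1.symm)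
  · refine ((mp_π f _ V _ j).trans ((sFun_spec f V n a).2 _)).trans (Eq.trans ?_ ((sFun_spec f V (n + 1) _).2 j).symm)
    induction j using Fin.cases with
    | zero =>
      change Fin.cases (motive := fun _ => K'.obj.obj V) _ _ (Fin.predAbove i.succ 0) = _
      rw [show Fin.predAbove i.succ (0 : Fin (n + 3)) = 0 by simp [Fin.predAbove]]
      exact congrArg (sec f V) (bd_mp f _ V a).symm
    | succ j =>
      change Fin.cases (motive := fun _ => K'.obj.obj V) _ _ (Fin.predAbove i.succ j.succ) = _
      rw [show Fin.predAbove i.succ j.succ = (Fin.predAbove i j).succ by simp]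
      simp only [Fin.cases_succ]
      exact (mp_π f (SimplexCategory.σ i) V a j).symm

/-- pointwise extra degeneracy -/
noncomputable def ed (V : Cᵒᵖ) :
    SimplicialObject.Augmented.ExtraDegeneracy
      (((SimplicialObject.Augmented.whiskering _ _).obj ((evaluation Cᵒᵖ (Type u)).obj V)).obj (Y f)) where
  s' := TypeCat.ofHom (s'Fun f V)
  s n := TypeCat.ofHom (sFun f V n)
  s'_comp_ε := ConcreteCategory.hom_ext _ _ fun b => Subtype.ext (s'Fun_spec f V b).1
  s₀_comp_δ₁ := ConcreteCategory.hom_ext _ _ fun a => eq₁ f V a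
  s_comp_δ₀ n := ConcreteCategory.hom_ext _ _ fun a => eq₀ f V n a
  s_comp_δ n i := ConcreteCategory.hom_ext _ _ fun a => eqδ f V n i a
  s_comp_σ n i := ConcreteCategory.hom_ext _ _ fun a => eqσ f V n i a

/-- the free presheaf resolution -/
noncomputable abbrev Z : SimplicialObject.Augmented (Cᵒᵖ ⥤ AddCommGrpCat.{u}) :=
  ((SimplicialObject.Augmented.whiskering _ _).obj
    ((Functor.whiskeringRight Cᵒᵖ (Type u) AddCommGrpCat.{u}).obj AddCommGrpCat.free.{u})).obj (Y f)

set_option maxHeartbeats 1000000 in
lemma quasiIso_Z : QuasiIso (AlternatingFaceMapComplex.ε.app (Z f)) := by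
  rw [HomologicalComplex.quasiIso_iff_evaluation]
  intro V
  rw [quasiIso_map_ε_iff]
  have h := ((ed f V).map AddCommGrpCat.free.{u}).homotopyEquiv
  exact (inferInstance : QuasiIso ((ed f V).map AddCommGrpCat.free.{u}).homotopyEquiv.hom)

instance W_ι [Epi f] : IsIso ((presheafToSheaf J AddCommGrpCat.{u}).map
    (Functor.whiskerRight (Subfunctor.range f.hom).ι AddCommGrpCat.free.{u})) := by
  have : Sheaf.IsLocallySurjective f := (Sheaf.isLocallySurjective_iff_epi f).2 inferInstance
  have : Presheaf.IsLocallySurjective J (Subfunctor.range f.hom).ι := by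
    have : Presheaf.IsLocallySurjective J (Subfunctor.toRange f.hom ≫ (Subfunctor.range f.hom).ι) := by
      rw [Subfunctor.toRange_ι]; exact this
    exact Presheaf.isLocallySurjective_of_isLocallySurjective J (Subfunctor.toRange f.hom) _
  have : Presheaf.IsLocallyInjective J (Subfunctor.range f.hom).ι :=
    Presheaf.isLocallyInjective_of_injective J _ fun V => Subtype.val_injective
  have : J.PreservesSheafification AddCommGrpCat.free.{u} :=
    Sheaf.preservesSheafification_of_adjunction J AddCommGrpCat.adj.{u}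
  have h := J.W_of_preservesSheafification AddCommGrpCat.free.{u} _ (J.W_of_isLocallyBijective (Subfunctor.range f.hom).ι)
  exact (J.W_iff _).1 h

/-- the free Čech nerve resolution -/
theorem quasiIso_free [Epi f] :
    QuasiIso ((AlternatingFaceMapComplex.ε (C := Sheaf J AddCommGrpCat.{u})).app
      (((SimplicialObject.Augmented.whiskering _ _).obj (Sheaf.composeAndSheafify J AddCommGrpCat.free.{u})).obj
        (Arrow.mk f).augmentedCechNerve)) := by
  let S := presheafToSheaf J AddCommGrpCat.{u}
  let X' := ((SimplicialObject.Augmented.whiskering _ _).obj S).obj (Z f)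
  let X := ((SimplicialObject.Augmented.whiskering _ _).obj (Sheaf.composeAndSheafify J AddCommGrpCat.free.{u})).obj
        (Arrow.mk f).augmentedCechNerve
  have hε : QuasiIso (AlternatingFaceMapComplex.ε.app X') := by
    rw [← quasiIso_map_ε_iff]
    have := quasiIso_Z f
    infer_instance
  let a : X' ⟶ X :=
    { left := 𝟙 _
      right := S.map (Functor.whiskerRight (Subfunctor.range f.hom).ι AddCommGrpCat.free.{u})
      w := by
        ext n : 1
        change 𝟙 _ ≫ X.hom.app n = X'.hom.app n ≫ S.map _
        refine (Category.id_comp _).trans ?_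
        refine Eq.trans (Category.comp_id _) (Eq.trans ?_ (congrArg (fun t => t ≫ S.map
          (Functor.whiskerRight (Subfunctor.range f.hom).ι AddCommGrpCat.free.{u})) (Category.comp_id _).symm))
        have hb : Functor.whiskerRight (WidePullback.base (fun _ : Fin (n.unop.len + 1) => f)).hom AddCommGrpCat.free.{u} =
            Functor.whiskerRight ((Y f).hom.app n) AddCommGrpCat.free.{u} ≫
              Functor.whiskerRight (Subfunctor.range f.hom).ι AddCommGrpCat.free.{u} := by
          exact Functor.whiskerRight_comp ((Y f).hom.app n) (Subfunctor.range f.hom).ι (F := AddCommGrpCat.free.{u})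
        refine ((congrArg S.map hb).trans (S.map_comp _ _)).trans ?_
        exact congrArg (fun t => S.map t ≫ S.map _) (Category.comp_id _).symm }
  have h := AlternatingFaceMapComplex.ε.naturality a
  have : IsIso a.right := W_ι f
  have : QuasiIso (AlternatingFaceMapComplex.ε.app X' ≫ (SimplicialObject.Augmented.point ⋙ ChainComplex.single₀ _).map a) := by
    have : IsIso ((SimplicialObject.Augmented.point ⋙ ChainComplex.single₀ (Sheaf J AddCommGrpCat.{u})).map a) :=
      inferInstanceAs (IsIso ((ChainComplex.single₀ _).map a.right))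
    infer_instance
  rw [← h] at this
  have : IsIso ((SimplicialObject.Augmented.drop ⋙ alternatingFaceMapComplex (Sheaf J AddCommGrpCat.{u})).map a) :=
    inferInstanceAs (IsIso ((alternatingFaceMapComplex _).map (𝟙 X.left)))
  exact quasiIso_of_comp_left ((SimplicialObject.Augmented.drop ⋙ alternatingFaceMapComplex _).map a) _

end Groth.Agent.H5CechNerve
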