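import Groth.Agent.Lib.H5Cech
import Mathlib.CategoryTheory.Limits.Preserves.Shapes.Over
import Mathlib.CategoryTheory.Limits.Constructions.FiniteProductsOfBinaryProducts

universe u

namespace Groth.Agent.H5CechPull
open CategoryTheory Limits Opposite
open Groth.Agent Groth.Agent.H5Cech

variable {C D : Type u} [SmallCategory C] [SmallCategory D] [HasPullbacks C] [HasPullbacks D]
  (u : C ⥤ D) [PreservesLimitsOfShape WalkingCospan u] {U : C} {ι : Type u} (Y : ι → Over U)

lemma preservesFiniteProducts_post : PreservesFiniteProducts (Over.post u (X := U)) := by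
  haveI : PreservesLimitsOfShape (WidePullbackShape WalkingPair) u := inferInstanceAs (PreservesLimitsOfShape WalkingCospan u)
  haveI : PreservesLimitsOfShape (WithTerminal (Discrete WalkingPair)) u := inferInstance
  haveI : PreservesLimitsOfShape (Discrete WalkingPair) (Over.post u (X := U)) := PreservesLimitsOfShape.overPost
  haveI : PreservesLimit (Functor.empty.{0} (Over U)) (Over.post u (X := U)) :=
    preservesLimit_of_preserves_limit_cone (Over.mkIdTerminal (X := U))
      ((isLimitMapConeEmptyConeEquiv _ _).symm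
        ((Over.mkIdTerminal (X := u.obj U)).ofIso (Over.isoMk (Iso.refl _) (by
          exact (Category.id_comp _).trans (u.map_id U)))))
  haveI : PreservesLimitsOfShape (Discrete.{0} PEmpty) (Over.post u (X := U)) :=
    preservesLimitsOfShape_pempty_of_preservesTerminal _
  exact PreservesFiniteProducts.of_preserves_binary_and_terminal _

/-- the image family -/
noncomputable abbrev Y' (i : ι) : Over (u.obj U) := (Over.post u).obj (Y i)

/-- comparison of fibre products -/
noncomputable def θ {n : ℕ} (a : Fin (n + 1) → ι) : u.obj (W Y a).left ⟶ (W (Y' u Y) a).left :=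
  lft (Y' u Y) a (u.map (W Y a).hom) (fun k => u.map (pr Y a k))
    (fun k => (u.map_comp _ _).symm.trans (congrArg u.map (pr_hom Y a k)))

lemma θ_pr {n : ℕ} (a : Fin (n + 1) → ι) (k : Fin (n + 1)) :
    θ u Y a ≫ pr (Y' u Y) a k = u.map (pr Y a k) := lft_pr _ _ _ _ _ _

instance isIso_θ {n : ℕ} (a : Fin (n + 1) → ι) : IsIso (θ u Y a) := by
  haveI := preservesFiniteProducts_post u (U := U)
  have e : θ u Y a = (piComparison (Over.post u (X := U)) (Y ∘ a)).left := by
    refine W_ext (Y' u Y) fun k => ?_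
    rw [θ_pr]
    exact (congrArg CommaMorphism.left (piComparison_comp_π (Over.post u (X := U)) (Y ∘ a) k)).symm
  rw [e]
  exact inferInstanceAs (IsIso ((Over.forget _).map (piComparison (Over.post u (X := U)) (Y ∘ a))))

lemma θ_face {n : ℕ} (a : Fin (n + 2) → ι) (j : Fin (n + 2)) :
    θ u Y a ≫ face (Y' u Y) a j = u.map (face Y a j) ≫ θ u Y (a ∘ j.succAbove) := by
  refine W_ext (Y' u Y) fun k => ?_
  rw [Category.assoc, face_pr, Category.assoc, θ_pr]
  exact (congrArg u.map (face_pr Y a j k)).symm.trans ((u.map_comp _ _).trans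
    (congrArg (fun t => u.map (face Y a j) ≫ t) (θ_pr u Y (a ∘ j.succAbove) k).symm))

variable (Q : Dᵒᵖ ⥤ AddCommGrpCat.{u})

/-- transfer of cochains -/
noncomputable def tr {n : ℕ} (c : (cplx Y (u.op ⋙ Q)).X n) : (cplx (Y' u Y) Q).X n :=
  mk _ _ fun a => Q.map (inv (θ u Y a)).op (coord Y (u.op ⋙ Q) a c)

/-- transfer of cochains backwards -/
noncomputable def tr' {n : ℕ} (c : (cplx (Y' u Y) Q).X n) : (cplx Y (u.op ⋙ Q)).X n :=
  mk _ _ fun a => Q.map (θ u Y a).op (coord (Y' u Y) Q a c)

lemma tr'_d {n : ℕ} (c : (cplx (Y' u Y) Q).X n) :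
    (cplx Y (u.op ⋙ Q)).d n (n + 1) (tr' u Y Q c) = tr' u Y Q ((cplx (Y' u Y) Q).d n (n + 1) c) := by
  refine coord_ext Y _ fun a => ?_
  rw [coord_d, tr', tr', coord_mk, coord_d, map_sum]
  refine Finset.sum_congr rfl fun j _ => ?_
  rw [map_zsmul, coord_mk]
  congr 1
  change Q.map (u.map (face Y a j)).op (Q.map (θ u Y (a ∘ j.succAbove)).op _) = Q.map _ (Q.map _ _)
  rw [← ConcreteCategory.comp_apply, ← ConcreteCategory.comp_apply, ← Q.map_comp, ← Q.map_comp, ← op_comp,
    ← op_comp, θ_face]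

lemma tr'_tr {n : ℕ} (c : (cplx Y (u.op ⋙ Q)).X n) : tr' u Y Q (tr u Y Q c) = c := by
  refine coord_ext Y _ fun a => ?_
  rw [tr', tr, coord_mk, coord_mk, ← ConcreteCategory.comp_apply, ← Q.map_comp, ← op_comp, IsIso.hom_inv_id,
    op_id, Q.map_id]
  rfl

lemma tr'_injective {n : ℕ} : Function.Injective (tr' u Y Q (n := n)) := by
  intro c c' h
  refine coord_ext _ _ fun a => ?_
  have := congrArg (fun z => Q.map (inv (θ u Y a)).op (coord Y (u.op ⋙ Q) a z)) h
  simpa only [tr', coord_mk, ← ConcreteCategory.comp_apply, ← Q.map_comp, ← op_comp, IsIso.inv_hom_id,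
    op_id, Q.map_id, AddCommGrpCat.hom_id, AddMonoidHom.id_apply] using this

theorem exactAt_comp [Injective Q] (n : ℕ) : (cplx Y (u.op ⋙ Q)).ExactAt (n + 1) := by
  rw [exactAt_succ_iff]
  intro c hc
  have h0 : (cplx (Y' u Y) Q).d (n + 1) (n + 2) (tr u Y Q c) = 0 := by
    apply tr'_injective u Y Q
    rw [← tr'_d, tr'_tr, hc]
    refine coord_ext Y _ fun a => ?_
    rw [tr', coord_mk, map_zero, map_zero, map_zero]
  obtain ⟨b, hb⟩ := (exactAt_succ_iff (Y' u Y) Q n).1 (exactAt_of_injective (Y' u Y) Q n) _ h0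
  exact ⟨tr' u Y Q b, by rw [tr'_d, hb, tr'_tr]⟩

set_option maxHeartbeats 1000000 in
theorem subsingleton_HU_pull {J : GrothendieckTopology C} {K : GrothendieckTopology D} [u.IsContinuous J K]
    (I : Sheaf K AddCommGrpCat.{u}) [Injective I] (U : C) (p : ℕ) :
    Subsingleton (CohSite.HU ((CohSite.push K J u).obj I) (p + 1) U) := by
  have := injective_obj I
  have hP : ((CohSite.push K J u).obj I).obj = u.op ⋙ I.obj := rfl
  refine subsingleton_HU_of_cech (Set.univ : Set C)
    (fun U ι Y => Sieve.ofArrows (fun i => (Y i).left) (fun i => (Y i).hom) ∈ J U)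
    (fun U ι Y h => ⟨trivial, h, fun _ _ => trivial⟩) (fun U _ T hT => ?_) _
    (fun U ι Y _ q => by
      rw [hP]
      exact (isZero_cechH_iff Y (u.op ⋙ I.obj) q).2 (exactAt_comp u Y I.obj q)) U trivial p
  refine ⟨(Σ V : C, {g : V ⟶ U // T.arrows g}), fun i => Over.mk i.2.1, ?_, fun i => i.2.2⟩
  refine J.superset_covering ?_ hT
  intro V g hg
  exact Sieve.le_generate _ _ _ (Presieve.ofArrows.mk (⟨V, g, hg⟩ : Σ V : C, {g : V ⟶ U // T.arrows g}))

end Groth.Agent.H5CechPull
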