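import Groth.Agent.Lib.H5Compare
import Mathlib.Algebra.Category.Grp.ForgetCorepresentable

universe u

namespace Groth.Agent.H5CechPull2
open CategoryTheory Limits Opposite
open Groth.Agent

section simplices
variable {C : Type u} [SmallCategory C] {U : C} {ι : Type u} (Y : ι → Over U)

/-- simplices -/
@[ext]
structure Smp (n : ℕ) (V : C) where
  g : V ⟶ U
  pt : Fin (n + 1) → Σ i : ι, (V ⟶ (Y i).left)
  w : ∀ k, (pt k).2 ≫ (Y (pt k).1).hom = g

variable {Y}

/-- restriction of simplices -/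
def Smp.res {n : ℕ} {V V' : C} (v : V' ⟶ V) (s : Smp Y n V) : Smp Y n V' where
  g := v ≫ s.g
  pt k := ⟨(s.pt k).1, v ≫ (s.pt k).2⟩
  w k := by rw [Category.assoc, s.w]

/-- faces of simplices -/
def Smp.δ {n : ℕ} {V : C} (s : Smp Y (n + 1) V) (j : Fin (n + 2)) : Smp Y n V where
  g := s.g
  pt := s.pt ∘ j.succAbove
  w _ := s.w _

variable (Y)
/-- free presheaf on simplices -/
noncomputable def ZS (n : ℕ) : Cᵒᵖ ⥤ AddCommGrpCat.{u} where
  obj V := AddCommGrpCat.of (FreeAbelianGroup (Smp Y n V.unop))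
  map {V V'} v := AddCommGrpCat.ofHom (FreeAbelianGroup.map (Smp.res v.unop))
  map_id V := by
    ext s
    change FreeAbelianGroup.of (Smp.res (𝟙 _) s) = FreeAbelianGroup.of s
    congr 1
    apply Smp.ext <;> simp [Smp.res]
  map_comp {A B D} v v' := by
    ext s
    change FreeAbelianGroup.of (Smp.res _ s) = FreeAbelianGroup.of (Smp.res _ (Smp.res _ s))
    congr 1
    apply Smp.ext <;> simp [Smp.res]

/-- the boundary on sections -/
noncomputable def bdry (n : ℕ) (V : C) : FreeAbelianGroup (Smp Y (n + 1) V) →+ FreeAbelianGroup (Smp Y n V) :=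
  FreeAbelianGroup.lift fun s => ∑ j : Fin (n + 2), ((-1 : ℤ) ^ (j : ℕ)) • FreeAbelianGroup.of (s.δ j)

lemma bdry_of (n : ℕ) {V : C} (s : Smp Y (n + 1) V) :
    bdry Y n V (FreeAbelianGroup.of s) = ∑ j : Fin (n + 2), ((-1 : ℤ) ^ (j : ℕ)) • FreeAbelianGroup.of (s.δ j) :=
  FreeAbelianGroup.lift_apply_of _ _

/-- the boundary -/
noncomputable def dS (n : ℕ) : ZS Y (n + 1) ⟶ ZS Y n where
  app V := AddCommGrpCat.ofHom (bdry Y n V.unop)
  naturality {V V'} v := by
    apply AddCommGrpCat.hom_ext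
    apply FreeAbelianGroup.lift_ext
    intro s
    change bdry Y n V'.unop (FreeAbelianGroup.of (Smp.res v.unop s)) =
      FreeAbelianGroup.map (Smp.res v.unop) (bdry Y n V.unop (FreeAbelianGroup.of s))
    rw [bdry_of, bdry_of, map_sum]
    refine Finset.sum_congr rfl fun j _ => ?_
    rw [map_zsmul]
    rfl

/-- a chosen member of the family lifting `g` -/
noncomputable def pick {V : C} (g : V ⟶ U) (h : ∃ p : Σ i : ι, (V ⟶ (Y i).left), p.2 ≫ (Y p.1).hom = g) :
    Σ i : ι, (V ⟶ (Y i).left) := Classical.choose h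

/-- the cone on a simplex -/
noncomputable def cone {n : ℕ} {V : C} (s : Smp Y n V) : Smp Y (n + 1) V where
  g := s.g
  pt := Fin.cons (pick Y s.g ⟨s.pt 0, s.w 0⟩) s.pt
  w k := by
    induction k using Fin.cases with
    | zero => exact Classical.choose_spec (p := fun p : Σ i : ι, (V ⟶ (Y i).left) => p.2 ≫ (Y p.1).hom = s.g) ⟨s.pt 0, s.w 0⟩
    | succ k => exact s.w k

lemma cone_δ_zero {n : ℕ} {V : C} (s : Smp Y n V) : (cone Y s).δ 0 = s := by
  apply Smp.ext
  · rfl
  · funext k; simp [Smp.δ, cone]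

lemma cone_δ_succ {n : ℕ} {V : C} (s : Smp Y (n + 1) V) (j : Fin (n + 2)) :
    (cone Y s).δ j.succ = cone Y (s.δ j) := by
  apply Smp.ext
  · rfl
  · funext k
    induction k using Fin.cases with
    | zero => simp only [Smp.δ, cone, Function.comp_apply, Fin.succ_succAbove_zero, Fin.cons_zero]
    | succ k => simp only [Smp.δ, cone, Function.comp_apply, Fin.succ_succAbove_succ, Fin.cons_succ]

lemma bdry_exact (n : ℕ) (V : C) (x : FreeAbelianGroup (Smp Y (n + 1) V)) (hx : bdry Y n V x = 0) :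
    ∃ y, bdry Y (n + 1) V y = x := by
  let h : ∀ m : ℕ, FreeAbelianGroup (Smp Y m V) →+ FreeAbelianGroup (Smp Y (m + 1) V) := fun m =>
    FreeAbelianGroup.map (cone Y)
  have key : (bdry Y (n + 1) V).comp (h (n + 1)) + (h n).comp (bdry Y n V) = AddMonoidHom.id _ := by
    apply FreeAbelianGroup.lift_ext
    intro s
    simp only [AddMonoidHom.add_apply, AddMonoidHom.comp_apply, AddMonoidHom.id_apply, h,
      FreeAbelianGroup.map_of_apply, bdry_of, map_sum, map_zsmul]
    rw [Fin.sum_univ_succ, cone_δ_zero, add_assoc]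
    simp [cone_δ_succ, pow_succ, ← Finset.sum_add_distrib]
  refine ⟨h (n + 1) x, ?_⟩
  have := DFunLike.congr_fun key x
  simpa [hx] using this

end simplices

variable {C D : Type u} [SmallCategory C] [SmallCategory D] [HasPullbacks C]
  (u : C ⥤ D) [PreservesLimitsOfShape WalkingCospan u] {U : C} {ι : Type u} (Y : ι → Over U)

lemma preservesFiniteProducts_post : PreservesFiniteProducts (Over.post u (X := U)) := by
  haveI : PreservesLimitsOfShape (WidePullbackShape WalkingPair) u := inferInstanceAs (PreservesLimitsOfShape WalkingCospan u)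
  haveI : PreservesLimitsOfShape (WithTerminal (Discrete WalkingPair)) u := inferInstance
  haveI : PreservesLimitsOfShape (Discrete WalkingPair) (Over.post u (X := U)) := PreservesLimitsOfShape.overPost
  haveI : PreservesLimit (Functor.empty.{0} (Over U)) (Over.post u (X := U)) :=
    preservesLimit_of_preserves_limit_cone (Over.mkIdTerminal (X := U))
      ((isLimitMapConeEmptyConeEquiv _ _).symm
        ((Over.mkIdTerminal (X := u.obj U)).ofIso (Over.isoMk (Iso.refl _) (by
          exact (Category.id_comp _).trans (u.map_id U)))))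
  haveI : PreservesLimitsOfShape (Discrete.{0} PEmpty) (Over.post u (X := U)) :=
    preservesLimitsOfShape_pempty_of_preservesTerminal _
  exact PreservesFiniteProducts.of_preserves_binary_and_terminal _

/-- image family -/
noncomputable abbrev Z' (i : ι) : Over (u.obj U) := (Over.post u).obj (Y i)

/-- images of fibre products are fibre products -/
noncomputable def fanLim {n : ℕ} (a : Fin (n + 1) → ι) :
    IsLimit (Fan.mk ((Over.post u).obj (H5Cech.W Y a)) (fun k => (Over.post u).map (Pi.π (Y ∘ a) k))) :=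
  haveI := preservesFiniteProducts_post u (U := U)
  isLimitOfHasProductOfPreservesLimit (Over.post u) (Y ∘ a)

/-- lifting -/
noncomputable def lft' {n : ℕ} (a : Fin (n + 1) → ι) {V : D} (g : V ⟶ u.obj U) (x : ∀ k, V ⟶ u.obj (Y (a k)).left)
    (w : ∀ k, x k ≫ u.map (Y (a k)).hom = g) : V ⟶ u.obj (H5Cech.W Y a).left :=
  ((fanLim u Y a).lift (Fan.mk (Over.mk g) (fun k => (Over.homMk (x k) (w k) : Over.mk g ⟶ Z' u Y (a k))))).left

lemma lft'_pr {n : ℕ} (a : Fin (n + 1) → ι) {V : D} (g : V ⟶ u.obj U) (x : ∀ k, V ⟶ u.obj (Y (a k)).left)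
    (w : ∀ k, x k ≫ u.map (Y (a k)).hom = g) (k : Fin (n + 1)) :
    lft' u Y a g x w ≫ u.map (H5Cech.pr Y a k) = x k :=
  congrArg CommaMorphism.left ((fanLim u Y a).fac
    (Fan.mk (Over.mk g) (fun k => (Over.homMk (x k) (w k) : Over.mk g ⟶ Z' u Y (a k)))) ⟨k⟩)

lemma img_ext {n : ℕ} {a : Fin (n + 1) → ι} {V : D} {l l' : V ⟶ u.obj (H5Cech.W Y a).left}
    (h : ∀ k, l ≫ u.map (H5Cech.pr Y a k) = l' ≫ u.map (H5Cech.pr Y a k)) : l = l' := by
  have hg : l' ≫ u.map (H5Cech.W Y a).hom = l ≫ u.map (H5Cech.W Y a).hom := by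
    rw [← H5Cech.pr_hom Y a 0, u.map_comp, ← Category.assoc, ← Category.assoc, h 0]
  have := Fan.IsLimit.hom_ext (fanLim u Y a)
    (Over.homMk l rfl : Over.mk (l ≫ u.map (H5Cech.W Y a).hom) ⟶ (Over.post u).obj (H5Cech.W Y a))
    (Over.homMk l' hg) (fun k => Over.OverMorphism.ext (h k))
  exact congrArg CommaMorphism.left this

variable (Q : Dᵒᵖ ⥤ AddCommGrpCat.{u})

/-- evaluation of a cochain -/
noncomputable def ev {n : ℕ} (c : (H5Cech.cplx Y (u.op ⋙ Q)).X n) {V : D} (s : Smp (Y := Z' u Y) n V) : Q.obj (op V) :=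
  Q.map (lft' u Y (fun k => (s.pt k).1) s.g (fun k => (s.pt k).2) s.w).op (H5Cech.coord Y (u.op ⋙ Q) _ c)

lemma ev_res {n : ℕ} (c : (H5Cech.cplx Y (u.op ⋙ Q)).X n) {V V' : D} (v : V' ⟶ V) (s : Smp (Y := Z' u Y) n V) :
    ev u Y Q c (Smp.res v s) = Q.map v.op (ev u Y Q c s) := by
  let a : Fin (n + 1) → ι := fun k => (s.pt k).1
  have e : lft' u Y a (Smp.res v s).g (fun k => v ≫ (s.pt k).2) (Smp.res v s).w =
      v ≫ lft' u Y a s.g (fun k => (s.pt k).2) s.w := img_ext u Y fun k =>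
    (lft'_pr u Y a (Smp.res v s).g (fun k => v ≫ (s.pt k).2) (Smp.res v s).w k).trans
      (((Category.assoc _ _ _).trans (congrArg (fun t => v ≫ t) (lft'_pr u Y a s.g (fun k => (s.pt k).2) s.w k))).symm)
  change Q.map (lft' u Y a (Smp.res v s).g (fun k => v ≫ (s.pt k).2) (Smp.res v s).w).op (H5Cech.coord Y (u.op ⋙ Q) a c) =
    Q.map v.op (Q.map (lft' u Y a s.g (fun k => (s.pt k).2) s.w).op (H5Cech.coord Y (u.op ⋙ Q) a c))
  rw [e, op_comp, Q.map_comp]
  rfl

lemma ev_d {n : ℕ} (c : (H5Cech.cplx Y (u.op ⋙ Q)).X n) {V : D} (s : Smp (Y := Z' u Y) (n + 1) V) :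
    ev u Y Q ((H5Cech.cplx Y (u.op ⋙ Q)).d n (n + 1) c) s =
      ∑ j : Fin (n + 2), ((-1 : ℤ) ^ (j : ℕ)) • ev u Y Q c (s.δ j) := by
  rw [ev, H5Cech.coord_d, map_sum]
  refine Finset.sum_congr rfl fun j _ => ?_
  rw [map_zsmul]
  congr 1
  let a : Fin (n + 2) → ι := fun k => (s.pt k).1
  change Q.map (lft' u Y a s.g (fun k => (s.pt k).2) s.w).op
      (Q.map (u.map (H5Cech.face Y a j)).op (H5Cech.coord Y (u.op ⋙ Q) (a ∘ j.succAbove) c)) =
    Q.map (lft' u Y (a ∘ j.succAbove) s.g (fun k => (s.pt (j.succAbove k)).2) (s.δ j).w).op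
      (H5Cech.coord Y (u.op ⋙ Q) (a ∘ j.succAbove) c)
  rw [← ConcreteCategory.comp_apply, ← Q.map_comp, ← op_comp]
  refine congrArg (fun l => Q.map (Quiver.Hom.op l) (H5Cech.coord Y (u.op ⋙ Q) (a ∘ j.succAbove) c)) (img_ext u Y fun k => ?_)
  rw [Category.assoc, ← u.map_comp, H5Cech.face_pr]
  exact (lft'_pr u Y a s.g _ s.w (j.succAbove k)).trans (lft'_pr u Y (a ∘ j.succAbove) s.g _ (s.δ j).w k).symm

/-- the universal simplex -/
noncomputable def univ' {n : ℕ} (a : Fin (n + 1) → ι) : Smp (Y := Z' u Y) n (u.obj (H5Cech.W Y a).left) where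
  g := u.map (H5Cech.W Y a).hom
  pt k := ⟨a k, u.map (H5Cech.pr Y a k)⟩
  w k := (u.map_comp _ _).symm.trans (congrArg u.map (H5Cech.pr_hom Y a k))

lemma ev_univ {n : ℕ} (c : (H5Cech.cplx Y (u.op ⋙ Q)).X n) (a : Fin (n + 1) → ι) :
    ev u Y Q c (univ' u Y a) = H5Cech.coord Y (u.op ⋙ Q) a c := by
  have e : lft' u Y a (univ' u Y a).g (fun k => u.map (H5Cech.pr Y a k)) (univ' u Y a).w = 𝟙 _ :=
    img_ext u Y fun k => (lft'_pr u Y a (univ' u Y a).g (fun k => u.map (H5Cech.pr Y a k)) (univ' u Y a).w k).trans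
      (Category.id_comp _).symm
  change Q.map (lft' u Y a (univ' u Y a).g (fun k => u.map (H5Cech.pr Y a k)) (univ' u Y a).w).op (H5Cech.coord Y (u.op ⋙ Q) a c) = _
  rw [e, op_id, Q.map_id]
  rfl

/-- a cochain as a map -/
noncomputable def φS {n : ℕ} (c : (H5Cech.cplx Y (u.op ⋙ Q)).X n) : ZS (Z' u Y) n ⟶ Q where
  app V := AddCommGrpCat.ofHom (FreeAbelianGroup.lift fun s => ev u Y Q c s)
  naturality {V V'} v := by
    apply AddCommGrpCat.hom_ext
    apply FreeAbelianGroup.lift_ext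
    intro s
    change FreeAbelianGroup.lift _ (FreeAbelianGroup.of (Smp.res v.unop s)) = Q.map v (FreeAbelianGroup.lift _ (FreeAbelianGroup.of s))
    simp only [FreeAbelianGroup.lift_apply_of]
    exact ev_res u Y Q c v.unop s

theorem exactAt_image [Injective Q] (n : ℕ) : (H5Cech.cplx Y (u.op ⋙ Q)).ExactAt (n + 1) := by
  rw [H5Cech.exactAt_succ_iff]
  intro c hc
  let d := dS (Z' u Y) n
  have hker : kernel.ι d ≫ φS u Y Q c = 0 := by
    apply NatTrans.ext
    funext V
    apply AddCommGrpCat.hom_ext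
    ext x
    have hx : bdry (Z' u Y) n V.unop ((kernel.ι d).app V x) = 0 :=
      ConcreteCategory.congr_hom (congr_app (kernel.condition d) V) x
    obtain ⟨y, hy⟩ := bdry_exact (Z' u Y) n V.unop _ hx
    change FreeAbelianGroup.lift (fun s => ev u Y Q c s) ((kernel.ι d).app V x) = (0 : Q.obj V)
    rw [← hy, ← AddMonoidHom.comp_apply]
    refine DFunLike.congr_fun (g := (0 : FreeAbelianGroup (Smp (Y := Z' u Y) (n + 2) V.unop) →+ Q.obj V))
      (FreeAbelianGroup.lift_ext _ _ fun s => ?_) y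
    rw [AddMonoidHom.comp_apply, bdry_of, map_sum]
    simp only [map_zsmul, FreeAbelianGroup.lift_apply_of]
    rw [← ev_d, hc, ev, map_zero, map_zero, AddMonoidHom.zero_apply]
  let φ₁ : Abelian.coimage d ⟶ Q := cokernel.desc (kernel.ι d) (φS u Y Q c) hker
  let ψ : ZS (Z' u Y) n ⟶ Q := Injective.factorThru φ₁ (Abelian.factorThruCoimage d)
  have hψ : d ≫ ψ = φS u Y Q c := by
    calc d ≫ ψ = (Abelian.coimage.π d ≫ Abelian.factorThruCoimage d) ≫ ψ := by rw [Abelian.coimage.fac]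
      _ = Abelian.coimage.π d ≫ φ₁ := by rw [Category.assoc, Injective.comp_factorThru]
      _ = φS u Y Q c := cokernel.π_desc _ _ _
  refine ⟨H5Cech.mk Y _ fun a => ψ.app (op (u.obj (H5Cech.W Y a).left)) (FreeAbelianGroup.of (univ' u Y a)),
    H5Cech.coord_ext Y _ fun a => ?_⟩
  rw [H5Cech.coord_d, ← ev_univ u Y Q c a]
  have h := ConcreteCategory.congr_hom (congr_app hψ (op (u.obj (H5Cech.W Y a).left))) (FreeAbelianGroup.of (univ' u Y a))
  change ψ.app _ (bdry (Z' u Y) n _ (FreeAbelianGroup.of (univ' u Y a))) =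
    FreeAbelianGroup.lift (fun s => ev u Y Q c s) (FreeAbelianGroup.of (univ' u Y a)) at h
  rw [FreeAbelianGroup.lift_apply_of, bdry_of] at h
  erw [map_sum] at h
  refine Eq.trans (Finset.sum_congr rfl fun j _ => ?_) h
  rw [H5Cech.coord_mk]
  change _ = (ψ.app _).hom _
  erw [map_zsmul]
  congr 1
  refine (NatTrans.naturality_apply ψ (u.map (H5Cech.face Y a j)).op _).symm.trans ?_
  refine congrArg (ψ.app _) (congrArg FreeAbelianGroup.of (Smp.ext ?_ ?_))
  · exact (u.map_comp _ _).symm.trans (congrArg u.map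
      (Over.w (Pi.lift (f := Y ∘ (a ∘ j.succAbove)) (fun k => Pi.π (Y ∘ a) (j.succAbove k)))))
  · funext k
    exact Sigma.ext rfl (heq_of_eq ((u.map_comp _ _).symm.trans (congrArg u.map (H5Cech.face_pr Y a j k))))

variable {J : GrothendieckTopology C} {K : GrothendieckTopology D} [u.IsContinuous J K]

theorem subsingleton_HU_pull (I : Sheaf K AddCommGrpCat.{u}) [Injective I] (U : C) (p : ℕ) :
    Subsingleton (CohSite.HU ((CohSite.push K J u).obj I) (p + 1) U) := by
  have : Injective I.obj := Injective.injective_of_adjoint (sheafificationAdjunction K AddCommGrpCat.{u}) I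
  have hP : ((CohSite.push K J u).obj I).obj = u.op ⋙ I.obj := rfl
  refine H5Cech.subsingleton_HU_of_cech (Set.univ : Set C)
    (fun U ι Y => Sieve.ofArrows (fun i => (Y i).left) (fun i => (Y i).hom) ∈ J U)
    (fun U ι Y h => ⟨trivial, h, fun _ _ => trivial⟩) (fun U _ T hT => ?_) _
    (fun U ι Y _ q => by
      rw [hP]
      exact (H5Cech.isZero_cechH_iff Y (u.op ⋙ I.obj) q).2 (exactAt_image u Y I.obj q)) U trivial p
  refine ⟨(Σ V : C, {g : V ⟶ U // T.arrows g}), fun i => Over.mk i.2.1, ?_, fun i => i.2.2⟩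
  refine J.superset_covering ?_ hT
  intro V g hg
  exact Sieve.le_generate _ _ _ (Presieve.ofArrows.mk (⟨V, g, hg⟩ : Σ V : C, {g : V ⟶ U // T.arrows g}))

theorem HU_pull [u.IsCocontinuous J K] (F : Sheaf K AddCommGrpCat.{u}) (U : C) (p : ℕ) :
    Nonempty (CohSite.HU ((CohSite.push K J u).obj F) p U ≃+ CohSite.HU F p (u.obj U)) := by
  obtain ⟨e⟩ := H5Compare.compare (CohSite.push K J u) (H5Compare.shortExact_pull u)
    (H5SiteCoh.fU J U) (H5SiteCoh.fU K (u.obj U))
    (fun G => (H5Compare.eqvAdd (u.obj U) G).trans (H5Compare.eqvAdd U ((CohSite.push K J u).obj G)).symm)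
    (fun {G G'} φ g => by
      apply (H5Compare.eqvAdd U _).injective
      rw [H5Compare.eqvAdd_comp]
      exact ((H5Compare.eqvAdd U _).apply_symm_apply _).trans ((H5Compare.eqvAdd_comp φ g).trans
        (congrArg _ ((H5Compare.eqvAdd U ((CohSite.push K J u).obj G)).apply_symm_apply (H5Compare.eqvAdd (u.obj U) G φ)).symm)))
    (fun I hI n => subsingleton_HU_pull u I U n) p F
  exact ⟨e.symm⟩

section terminal
open CategoryTheory.Abelian Groth.Agent.H5SiteCoh
variable {E : Type u} [SmallCategory E] {L : GrothendieckTopology E}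

/-- global cohomology is cohomology over a terminal object -/
theorem H_equiv_terminal {T : E} (hT : IsTerminal T) (F : Sheaf L AddCommGrpCat.{u}) (n : ℕ) :
    Nonempty (Sheaf.H.{u} F n ≃+ CohSite.HU F n T) := by
  let Z := (constantSheaf L AddCommGrpCat.{u}).obj (AddCommGrpCat.of (ULift.{u} ℤ))
  let e : ∀ G : Sheaf L AddCommGrpCat.{u}, (Z ⟶ G) ≃ G.obj.obj (op T) := fun G =>
    ((constantSheafAdj L AddCommGrpCat.{u} hT).homEquiv _ G).trans
      (AddCommGrpCat.uliftZMultiplesAddEquiv _).toEquiv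
  have he : ∀ {G G' : Sheaf L AddCommGrpCat.{u}} (φ : Z ⟶ G) (g : G ⟶ G'), e G' (φ ≫ g) = g.hom.app (op T) (e G φ) := by
    intro G G' φ g
    simp only [e, Equiv.trans_apply]
    rw [Adjunction.homEquiv_naturality_right]
    rfl
  let i : fU L T ≅ Z :=
    { hom := (eqv T Z).symm (e Z (𝟙 Z))
      inv := (e _).symm (eqv T _ (𝟙 _))
      hom_inv_id := by
        apply (eqv T _).injective
        rw [eqv_comp, Equiv.apply_symm_apply, ← he, Category.id_comp, Equiv.apply_symm_apply]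
      inv_hom_id := by
        apply (e Z).injective
        rw [he, Equiv.apply_symm_apply, ← eqv_comp, Category.id_comp, Equiv.apply_symm_apply] }
  exact ⟨{ toFun := fun x => (Ext.mk₀ i.hom).comp x (zero_add n)
           invFun := fun x => (Ext.mk₀ i.inv).comp x (zero_add n)
           left_inv := fun x => by
             change (Ext.mk₀ i.inv).comp ((Ext.mk₀ i.hom).comp x (zero_add n)) (zero_add n) = x
             rw [Ext.mk₀_comp_mk₀_assoc, Iso.inv_hom_id, Ext.mk₀_id_comp]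
           right_inv := fun x => by
             exact (Ext.mk₀_comp_mk₀_assoc i.hom i.inv (x : Ext.{u} _ F n)).trans
               ((congrArg (fun z => (Ext.mk₀ z).comp (x : Ext.{u} _ F n) (zero_add n)) i.hom_inv_id).trans (Ext.mk₀_id_comp _))
           map_add' := fun x y => Ext.comp_add _ _ _ _ }⟩

theorem H_pull [u.IsCocontinuous J K] [HasTerminal C] [PreservesLimit (Functor.empty.{0} C) u]
    (F : Sheaf K AddCommGrpCat.{u}) (p : ℕ) :
    Nonempty (Sheaf.H.{u} ((CohSite.push K J u).obj F) p ≃+ Sheaf.H.{u} F p) := by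
  obtain ⟨a⟩ := H_equiv_terminal (L := J) (terminalIsTerminal) ((CohSite.push K J u).obj F) p
  obtain ⟨b⟩ := HU_pull u (J := J) F (⊤_ C) p
  obtain ⟨c⟩ := H_equiv_terminal (L := K) (IsTerminal.isTerminalObj u _ terminalIsTerminal) F p
  exact ⟨a.trans (b.trans c.symm)⟩

end terminal

end Groth.Agent.H5CechPull2
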