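import Groth.Agent.Lib.H5SiteCoh
import Mathlib.CategoryTheory.Abelian.Injective.Ext
import Mathlib.CategoryTheory.Abelian.FunctorCategory
import Mathlib.Algebra.Homology.ShortComplex.PreservesHomology

universe u

namespace Groth.Agent.H5CohPresheaf
open CategoryTheory Limits Abelian Opposite HomologicalComplex
open Groth.Agent Groth.Agent.H5SiteCoh

variable {C : Type u} [SmallCategory C] {J : GrothendieckTopology C}

/-- the universal section -/
noncomputable def g₀ (J : GrothendieckTopology C) (U : C) : (fU J U).obj.obj (op U) := eqv U _ (𝟙 _)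

lemma eqv_eq {U : C} {F : Sheaf J AddCommGrpCat.{u}} (φ : fU J U ⟶ F) :
    eqv U F φ = φ.hom.app (op U) (g₀ J U) := by
  rw [g₀, ← eqv_comp, Category.id_comp]

lemma eqv_symm_add {U : C} {F : Sheaf J AddCommGrpCat.{u}} (s t : F.obj.obj (op U)) :
    (eqv (J := J) U F).symm (s + t) = (eqv U F).symm s + (eqv U F).symm t := by
  apply (eqv U F).injective
  rw [Equiv.apply_symm_apply, eqv_eq, show ((eqv U F).symm s + (eqv U F).symm t).hom.app (op U) (g₀ J U) =
    ((eqv U F).symm s).hom.app (op U) (g₀ J U) + ((eqv U F).symm t).hom.app (op U) (g₀ J U) from rfl,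
    ← eqv_eq, ← eqv_eq, Equiv.apply_symm_apply, Equiv.apply_symm_apply]

lemma eqv_symm_map {U V : C} (a : V ⟶ U) {F : Sheaf J AddCommGrpCat.{u}} (s : F.obj.obj (op U)) :
    (eqv V F).symm (F.obj.map a.op s) = fMap J a ≫ (eqv U F).symm s := by
  apply (eqv V F).injective
  rw [Equiv.apply_symm_apply, eqv_fMap, Equiv.apply_symm_apply]

lemma eqv_symm_app {U : C} {F G : Sheaf J AddCommGrpCat.{u}} (g : F ⟶ G) (s : F.obj.obj (op U)) :
    (eqv U F).symm s ≫ g = (eqv U G).symm (g.hom.app (op U) s) := by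
  apply (eqv U G).injective
  rw [Equiv.apply_symm_apply, eqv_comp, Equiv.apply_symm_apply]

variable {F : Sheaf J AddCommGrpCat.{u}} (R : InjectiveResolution F) (n : ℕ)

/-- the complex of sections of a resolution -/
noncomputable abbrev secCx : CochainComplex (Cᵒᵖ ⥤ AddCommGrpCat.{u}) ℕ :=
  ((sheafToPresheaf J AddCommGrpCat.{u}).mapHomologicalComplex (ComplexShape.up ℕ)).obj R.cocomplex

/-- the section underlying a cycle -/
noncomputable def iz (U : Cᵒᵖ) (z : ((secCx R).cycles n).obj U) : (R.cocomplex.X n).obj.obj (op U.unop) :=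
  ((secCx R).iCycles n).app U z

lemma iz_add (U : Cᵒᵖ) (z z' : ((secCx R).cycles n).obj U) : iz R n U (z + z') = iz R n U z + iz R n U z' :=
  map_add (((secCx R).iCycles n).app U).hom z z'

lemma iz_injective (U : Cᵒᵖ) : Function.Injective (iz R n U) := by
  change Function.Injective (((secCx R).iCycles n).app U)
  rw [← AddCommGrpCat.mono_iff_injective]
  infer_instance

lemma iz_zero (U : Cᵒᵖ) : iz R n U 0 = 0 := map_zero (((secCx R).iCycles n).app U).hom

lemma iz_map {U V : Cᵒᵖ} (a : U ⟶ V) (z : ((secCx R).cycles n).obj U) :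
    iz R n V (((secCx R).cycles n).map a z) = (R.cocomplex.X n).obj.map a.unop.op (iz R n U z) :=
  NatTrans.naturality_apply ((secCx R).iCycles n) a z

lemma iz_toCycles (p : ℕ) (U : Cᵒᵖ) (y : (R.cocomplex.X p).obj.obj (op U.unop)) :
    iz R n U (((secCx R).toCycles p n).app U y) = (R.cocomplex.d p n).hom.app (op U.unop) y :=
  ConcreteCategory.congr_hom (congr_app ((secCx R).toCycles_i (i := p) (j := n)) U) y

lemma hom_zero_app {G H : Sheaf J AddCommGrpCat.{u}} (V : Cᵒᵖ) (x : G.obj.obj V) :
    (0 : G ⟶ H).hom.app V x = 0 := rfl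

lemma eqv_symm_zero {U : C} {G : Sheaf J AddCommGrpCat.{u}} : (eqv (J := J) U G).symm 0 = 0 := by
  apply (eqv U G).injective
  rw [Equiv.apply_symm_apply, eqv_eq]
  rfl

lemma iz_d (U : Cᵒᵖ) (z : ((secCx R).cycles n).obj U) :
    (eqv U.unop _).symm (iz R n U z) ≫ R.cocomplex.d n (n + 1) = 0 := by
  rw [eqv_symm_app, ← eqv_symm_zero]
  refine congrArg _ ?_
  exact ConcreteCategory.congr_hom (congr_app ((secCx R).iCycles_d n (n + 1)) U) z

/-- cocycles give cohomology classes -/
noncomputable def cls (U : Cᵒᵖ) (z : ((secCx R).cycles n).obj U) : Ext (fU J U.unop) F n :=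
  R.extMk ((eqv U.unop _).symm (iz R n U z)) (n + 1) rfl (iz_d R n U z)

/-- as a natural transformation -/
noncomputable def τ : (secCx R).cycles n ⟶ Sheaf.cohomologyPresheaf.{u} F n where
  app U := AddCommGrpCat.ofHom (AddMonoidHom.mk' (fun z => (cls R n U z : ((Sheaf.cohomologyPresheaf.{u} F n).obj U : Type u))) (fun z z' => by
    refine Eq.trans ?_ (R.add_extMk _ _ _ _ _ _).symm
    dsimp only [cls]
    congr 1
    rw [iz_add, eqv_symm_add]))
  naturality U V a := by
    ext z
    change cls R n V (((secCx R).cycles n).map a z) = (Ext.mk₀ (fMap J a.unop)).comp (cls R n U z) (zero_add n)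
    dsimp only [cls]
    rw [R.mk₀_comp_extMk]
    congr 1
    rw [iz_map, eqv_symm_map]

lemma cls_surjective (U : Cᵒᵖ) (x : Ext (fU J U.unop) F n) : ∃ z, cls R n U z = x := by
  obtain ⟨f, hf, rfl⟩ := R.extMk_surjective x (n + 1) rfl
  have hx : (R.cocomplex.d n (n + 1)).hom.app (op U.unop) (eqv U.unop _ f) = 0 := by
    rw [← eqv_comp, hf, eqv_eq]; rfl
  obtain ⟨z, hz⟩ := (ShortComplex.ab_exact_iff _).1
    ((ShortComplex.exact_of_f_is_kernel (ShortComplex.mk _ _ ((secCx R).iCycles_d n (n + 1)))
      ((secCx R).cyclesIsKernel n (n + 1) (by simp))).map ((evaluation _ AddCommGrpCat.{u}).obj U))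
      (show ((secCx R).X n).obj U from eqv U.unop _ f) hx
  refine ⟨z, ?_⟩
  dsimp only [cls]
  congr 1
  exact (congrArg _ (show iz R n U z = eqv U.unop _ f from hz)).trans ((eqv U.unop _).symm_apply_apply f)

lemma cls_eq_zero (U : Cᵒᵖ) (z : ((secCx R).cycles n).obj U) :
    cls R n U z = 0 ↔ ∃ y, ((secCx R).toCycles (n - 1) n).app U y = z := by
  rcases n with _ | p
  · refine ⟨fun h => ⟨0, ?_⟩, fun ⟨y, hy⟩ => ?_⟩
    · rw [map_zero]
      apply iz_injective R 0 U
      rw [iz_zero]
      dsimp only [cls] at h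
      rw [← R.extEquivCohomologyClass.apply_eq_iff_eq, InjectiveResolution.extEquivCohomologyClass_extMk,
        InjectiveResolution.extEquivCohomologyClass_zero, CochainComplex.HomComplex.CohomologyClass.mk_eq_zero_iff,
        CochainComplex.HomComplex.Cocycle.fromSingleMk_mem_coboundaries_iff _ _ _ _ _ (-1) (by omega)] at h
      obtain ⟨g, hg⟩ := h
      have : IsZero (R.cochainComplex.X (-1)) := CochainComplex.isZero_of_isStrictlyGE _ 0 _ (by omega)
      rw [this.eq_of_tgt g 0, zero_comp, eq_comm] at hg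
      have h2 : (eqv U.unop _).symm (iz R 0 U z) = 0 := by
        rw [← cancel_mono (R.cochainComplexXIso 0 0 rfl).inv, zero_comp]
        exact hg
      rw [← eqv_symm_zero] at h2
      exact ((eqv U.unop _).symm.injective h2).symm
    · have hz : z = 0 := by
        rw [← hy]
        have h1 : ((secCx R).toCycles (0 - 1) 0) = 0 := by
          rw [← cancel_mono ((secCx R).iCycles 0), zero_comp, toCycles_i]
          exact (secCx R).shape _ _ (by simp)
        rw [h1]; rfl
      subst hz
      exact ((τ R 0).app U).hom.map_zero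
  · dsimp only [cls]
    rw [R.extMk_eq_zero_iff _ _ _ _ p rfl]
    constructor
    · rintro ⟨g, hg⟩
      refine ⟨eqv U.unop _ g, iz_injective R (p + 1) U ?_⟩
      refine (iz_toCycles R (p + 1) p U (eqv U.unop (R.cocomplex.X p) g)).trans ?_
      rw [← eqv_comp, hg, Equiv.apply_symm_apply]
    · rintro ⟨y, hy⟩
      refine ⟨(eqv U.unop _).symm (show (R.cocomplex.X p).obj.obj (op U.unop) from y), ?_⟩
      rw [eqv_symm_app, ← hy]
      exact congrArg _ (iz_toCycles R (p + 1) p U _).symm

/-- the cohomology presheaf is the homology of the sections of a resolution -/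
theorem cohPresheaf_iso : Nonempty (Sheaf.cohomologyPresheaf.{u} F n ≅ (secCx R).homology n) := by
  have w : (secCx R).toCycles (n - 1) n ≫ τ R n = 0 := by
    ext U y
    exact (cls_eq_zero R n U _).2 ⟨y, rfl⟩
  let S := ShortComplex.mk _ _ w
  have hS : S.Exact := by
    rw [S.exact_iff_isZero_homology]
    refine Functor.isZero _ fun U => ?_
    refine IsZero.of_iso ((ShortComplex.exact_iff_isZero_homology _).1 ?_)
      (S.mapHomologyIso ((evaluation Cᵒᵖ AddCommGrpCat.{u}).obj U)).symm
    exact (ShortComplex.ab_exact_iff _).2 fun z hz => (cls_eq_zero R n U z).1 hz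
  have : Epi S.g := by
    rw [NatTrans.epi_iff_epi_app]
    intro U
    rw [AddCommGrpCat.epi_iff_surjective]
    exact cls_surjective R n U
  exact ⟨IsColimit.coconePointUniqueUpToIso hS.gIsCokernel
    ((secCx R).homologyIsCokernel (n - 1) n (by cases n <;> simp))⟩

section consequences
variable (F)

/-- right derived sections -/
theorem rightDerived_sheafToPresheaf :
    Nonempty (((sheafToPresheaf J AddCommGrpCat.{u}).rightDerived n).obj F ≅ Sheaf.cohomologyPresheaf.{u} F n) := by
  obtain ⟨e⟩ := cohPresheaf_iso (injectiveResolution F) n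
  exact ⟨(injectiveResolution F).isoRightDerivedObj _ n ≪≫ e.symm⟩

/-- higher direct images are sheafified cohomology presheaves -/
theorem Rpush_iso {D : Type u} [SmallCategory D] (K : GrothendieckTopology D) (u : D ⥤ C) [u.IsContinuous K J] :
    Nonempty ((CohSite.Rpush J K u n).obj F ≅
      (presheafToSheaf K AddCommGrpCat.{u}).obj (u.op ⋙ F.cohomologyPresheaf n)) := by
  let R := injectiveResolution F
  obtain ⟨e⟩ := cohPresheaf_iso R n
  let G : (Cᵒᵖ ⥤ AddCommGrpCat.{u}) ⥤ Sheaf K AddCommGrpCat.{u} :=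
    (Functor.whiskeringLeft _ _ _).obj u.op ⋙ presheafToSheaf K AddCommGrpCat.{u}
  let η : CohSite.push J K u ≅ sheafToPresheaf J AddCommGrpCat.{u} ⋙ G :=
    (Functor.rightUnitor _).symm ≪≫
      Functor.isoWhiskerLeft (CohSite.push J K u) (asIso (sheafificationAdjunction K AddCommGrpCat.{u}).counit).symm
  exact ⟨R.isoRightDerivedObj _ n ≪≫
    (HomologicalComplex.homologyFunctor _ _ n).mapIso
      ((NatIso.mapHomologicalComplex η (ComplexShape.up ℕ)).app R.cocomplex) ≪≫
    ShortComplex.mapHomologyIso ((secCx R).sc n) G ≪≫ G.mapIso e.symm⟩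

end consequences

end Groth.Agent.H5CohPresheaf
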