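import Groth.Agent.Lib.H5RAcy
import Mathlib.Algebra.Homology.DerivedCategory.FullyFaithful

universe w v u v' u'

namespace Groth.Agent.H5GrothSS

open CategoryTheory Category Limits Pretriangulated Triangulated Groth.Agent.H5RPlus Groth.Agent.H5RAcy
open DerivedCategory (Plus)

variable {A : Type u} [Category.{v} A] [Abelian A] [EnoughInjectives A] [HasDerivedCategory.{w} A]

/-- abbreviation for the t-structure -/
noncomputable abbrev tt : TStructure (DerivedCategory.Plus A) := DerivedCategory.Plus.TStructure.t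

omit [EnoughInjectives A] in
lemma exists_trunc_iso (X : DerivedCategory.Plus A) (q : ℤ) :
    ∃ W : A, Nonempty (((tt.truncGE q).obj ((tt.truncLT (q + 1)).obj X)).obj ≅ (DerivedCategory.singleFunctor A q).obj W) ∧
      Nonempty (W ≅ (DerivedCategory.homologyFunctor A q).obj X.obj) := by
  let Z := (tt.truncLT (q + 1)).obj X
  let Y := (tt.truncGE q).obj Z
  let T₁ := DerivedCategory.Plus.ι.mapTriangle.obj ((tt.triangleLTGE (q + 1)).obj X)
  let T₂ := DerivedCategory.Plus.ι.mapTriangle.obj ((tt.triangleLTGE q).obj Z)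
  have hT₁ : T₁ ∈ distTriang _ := DerivedCategory.Plus.ι.map_distinguished _ (tt.triangleLTGE_distinguished _ _)
  have hT₂ : T₂ ∈ distTriang _ := DerivedCategory.Plus.ι.map_distinguished _ (tt.triangleLTGE_distinguished _ _)
  let H := DerivedCategory.homologyFunctor A
  -- vanishing
  have a₁ : ∀ i, q < i → IsZero ((H i).obj Z.obj) := fun i hi =>
    haveI : Z.IsLE q := inferInstanceAs (tt.IsLE ((tt.truncLT (q + 1)).obj X) q)
    DerivedCategory.Plus.isZero_homology_of_isLE Z q i hi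
  have a₂ : ∀ i, i < q + 1 → IsZero ((H i).obj ((tt.truncGE (q + 1)).obj X).obj) := fun i hi =>
    haveI : ((tt.truncGE (q + 1)).obj X).IsGE (q + 1) := inferInstanceAs (tt.IsGE ((tt.truncGE (q + 1)).obj X) (q + 1))
    DerivedCategory.Plus.isZero_homology_of_isGE _ (q + 1) i hi
  have a₃ : ∀ i, q - 1 < i → IsZero ((H i).obj ((tt.truncLT q).obj Z).obj) := fun i hi =>
    haveI : ((tt.truncLT q).obj Z).IsLE (q - 1) := inferInstanceAs (tt.IsLE ((tt.truncLT q).obj Z) (q - 1))
    DerivedCategory.Plus.isZero_homology_of_isLE _ (q - 1) i hi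
  haveI : Mono ((H q).map T₁.mor₁) := by
    rw [DerivedCategory.HomologySequence.mono_homologyMap_mor₁_iff T₁ hT₁ (q - 1) q (by omega)]
    exact (a₂ (q - 1) (by omega)).eq_of_src _ _
  haveI : Epi ((H q).map T₁.mor₁) := by
    rw [DerivedCategory.HomologySequence.epi_homologyMap_mor₁_iff T₁ hT₁ q]
    exact (a₂ q (by omega)).eq_of_tgt _ _
  have hi₁ := isIso_of_mono_of_epi ((H q).map T₁.mor₁)
  haveI : Mono ((H q).map T₂.mor₂) := by
    rw [DerivedCategory.HomologySequence.mono_homologyMap_mor₂_iff T₂ hT₂ q]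
    exact (a₃ q (by omega)).eq_of_src _ _
  haveI : Epi ((H q).map T₂.mor₂) := by
    rw [DerivedCategory.HomologySequence.epi_homologyMap_mor₂_iff T₂ hT₂ q (q + 1) rfl]
    exact (a₃ (q + 1) (by omega)).eq_of_tgt _ _
  have hi₂ := isIso_of_mono_of_epi ((H q).map T₂.mor₂)
  haveI : Y.obj.IsLE q := by
    rw [DerivedCategory.isLE_iff]
    intro i hi
    exact (DerivedCategory.HomologySequence.exact₃ T₂ hT₂ i (i + 1) rfl).isZero_of_both_zeros
      ((a₁ i hi).eq_of_src _ _) ((a₃ (i + 1) (by omega)).eq_of_tgt _ _)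
  haveI : Y.IsGE q := inferInstanceAs (tt.IsGE ((tt.truncGE q).obj Z) q)
  haveI : Y.obj.IsGE q := (DerivedCategory.Plus.isGE_ι_obj_iff Y q).2 inferInstance
  obtain ⟨W, ⟨e⟩⟩ := DerivedCategory.exists_iso_singleFunctor_obj_of_isGE_of_isLE Y.obj q
  exact ⟨W, ⟨e⟩, ⟨((DerivedCategory.singleFunctorCompHomologyFunctorIso A q).app W).symm ≪≫
    ((H q).mapIso e).symm ≪≫ (@asIso _ _ _ _ _ hi₂).symm ≪≫ @asIso _ _ _ _ _ hi₁⟩⟩

variable {B : Type u'} [Category.{v'} B] [Abelian B] (S : A ⥤ B) [S.Additive]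

omit [EnoughInjectives A] in
lemma exists_sgl_shift_iso (W : A) (Y : DerivedCategory.Plus A) (q p : ℤ)
    (e : Y.obj ≅ (DerivedCategory.singleFunctor A q).obj W) :
    Nonempty (Y⟦p + q⟧ ≅ ((sgl A).obj W)⟦p⟧) :=
  ⟨(shiftFunctor _ (p + q)).mapIso
      (DerivedCategory.Plus.ι.preimageIso (X := Y) (Y := (DerivedCategory.Plus.singleFunctor A q).obj W) e) ≪≫
    (shiftFunctorAdd' (DerivedCategory.Plus A) q p (p + q) (by omega)).app _ ≪≫
    (shiftFunctor _ p).mapIso (((DerivedCategory.Plus.singleFunctors A).shiftIso q 0 q (add_zero q)).app W)⟩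

variable [PreservesFiniteLimits S]

/-- spectral sequence of hypercohomology of a bounded below complex of acyclic objects -/
theorem exists_spectralSequence (K : CochainComplex A ℤ) [K.IsStrictlyGE 0] (h : ∀ i, Acy S (K.X i))
    {H : ℤ → B} (e : ∀ n, ((S.mapHomologicalComplex (.up ℤ)).obj K).homology n ≅ H n) :
    ∃ (E : E₂CohomologicalSpectralSequence B) (a : SpSeq.Abutment E H),
      (∀ n, a.IsFinite n) ∧ SpSeq.IsBounded E ∧
      (∀ p q : ℤ, p < 0 ∨ q < 0 → IsZero ((E.page 2 le_rfl).X (p, q))) ∧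
      ∀ p q : ℕ, Nonempty ((E.page 2 le_rfl).X ((p : ℤ), (q : ℤ)) ≅ (S.rightDerived p).obj (K.homology (q : ℤ))) := by
  haveI hX : tt.IsGE (QP K 0) 0 :=
    (DerivedCategory.Plus.isGE_ι_obj_iff _ 0).1 (inferInstanceAs ((DerivedCategory.Q.obj K).IsGE 0))
  obtain ⟨E, a, h1, h2, h3, h4⟩ := Groth.Agent.H5HomolSS.exists_spectralSequence tt (R0 S)
    (fun Y m n hY hn => isZero_shift_of_isGE S Y m n hY hn) (QP K 0)
    (H := H) (fun n => (nonempty_shiftQPIso_of_acy S K 0 h n).some ≪≫ e n)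
  refine ⟨E, a, h1, h2, h3, fun p q => ?_⟩
  obtain ⟨e₂⟩ := h4 (p : ℤ) (q : ℤ)
  obtain ⟨W, ⟨eW⟩, ⟨eH⟩⟩ := exists_trunc_iso (QP K 0) (q : ℤ)
  obtain ⟨es⟩ := exists_sgl_shift_iso W _ (q : ℤ) (p : ℤ) eW
  let eK : W ≅ K.homology (q : ℤ) := eH ≪≫ (DerivedCategory.homologyFunctorFactors A (q : ℤ)).app K
  exact ⟨e₂ ≪≫ (R0 S).mapIso es ≪≫ shiftSglIso S W p ≪≫ (S.rightDerived p).mapIso eK⟩

omit [EnoughInjectives A] [HasDerivedCategory.{w} A] in
lemma enoughInjectives_of_hasInjectiveResolutions (C : Type*) [Category C] [Abelian C] [HasInjectiveResolutions C] :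
    EnoughInjectives C :=
  ⟨fun X => ⟨{ J := (injectiveResolution X).cocomplex.X 0
               injective := (injectiveResolution X).injective 0
               f := (injectiveResolution X).ι.f 0
               mono := inferInstanceAs (Mono ((injectiveResolution X).ι.f 0)) }⟩⟩

/-- the Grothendieck spectral sequence -/
theorem grothendieck {C : Type*} [Category C] [Abelian C] [HasInjectiveResolutions C]
    {C' : Type u} [Category.{v} C'] [Abelian C'] [HasInjectiveResolutions C']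
    {C'' : Type u'} [Category.{v'} C''] [Abelian C'']
    (T : C ⥤ C') [T.Additive] (S : C' ⥤ C'') [S.Additive] [PreservesFiniteLimits S]
    (hT : ∀ Q : C, Injective Q → ∀ q : ℕ, 0 < q → IsZero ((S.rightDerived q).obj (T.obj Q))) (X : C)
    (Hn : ℤ → C'') (hneg : ∀ n, n < 0 → IsZero (Hn n))
    (hnn : ∀ n : ℕ, Nonempty (((T ⋙ S).rightDerived n).obj X ≅ Hn n)) :
    ∃ (E : E₂CohomologicalSpectralSequence C'') (a : SpSeq.Abutment E Hn),
      (∀ n, a.IsFinite n) ∧ SpSeq.IsBounded E ∧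
      (∀ p q : ℤ, p < 0 ∨ q < 0 → IsZero ((E.page 2 le_rfl).X (p, q))) ∧
      ∀ p q : ℕ, Nonempty ((E.page 2 le_rfl).X ((p : ℤ), (q : ℤ)) ≅
        (S.rightDerived p).obj ((T.rightDerived q).obj X)) := by
  haveI := enoughInjectives_of_hasInjectiveResolutions C'
  letI : HasDerivedCategory C' := HasDerivedCategory.standard C'
  let R := injectiveResolution X
  let K := (T.mapHomologicalComplex (.up ℤ)).obj R.cochainComplex
  haveI : CochainComplex.IsStrictlyGE K 0 := inferInstanceAs (CochainComplex.IsStrictlyGE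
    ((T.mapHomologicalComplex (.up ℤ)).obj R.cochainComplex) 0)
  have e : ∀ n : ℤ, Nonempty (((S.mapHomologicalComplex (.up ℤ)).obj K).homology n ≅ Hn n) := fun n => by
    by_cases hn : 0 ≤ n
    · obtain ⟨k, rfl⟩ := Int.eq_ofNat_of_zero_le hn
      exact ⟨homologyResolutionIso (T ⋙ S) R k ≪≫ (hnn k).some⟩
    · haveI : CochainComplex.IsStrictlyGE ((S.mapHomologicalComplex (.up ℤ)).obj K) 0 := inferInstance
      exact ⟨(CochainComplex.isZero_of_isGE _ 0 n (by omega)).iso (hneg n (by omega))⟩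
  obtain ⟨E, a, h1, h2, h3, h4⟩ := exists_spectralSequence S K (fun i => hT _ inferInstance) (fun n => (e n).some)
  refine ⟨E, a, h1, h2, h3, fun p q => ?_⟩
  obtain ⟨e₂⟩ := h4 p q
  exact ⟨e₂ ≪≫ (S.rightDerived p).mapIso (homologyResolutionIso T R q)⟩

end Groth.Agent.H5GrothSS
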