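import Mathlib.CategoryTheory.Abelian.Injective.Ext
import Mathlib.CategoryTheory.Abelian.RightDerived
import Mathlib.Algebra.Homology.ShortComplex.Ab
import Mathlib.CategoryTheory.Preadditive.Yoneda.Basic
import Groth.Prelude.Def_RDer

universe v u
namespace Groth.Agent.H5HomExt
open CategoryTheory CategoryTheory.Limits Opposite
open CategoryTheory.Abelian (Ext)
open CochainComplex.HomComplex

variable {C : Type u} [Category.{v} C] [Abelian C] [HasExt.{v} C] [HasInjectiveResolutions C] (Z Y : C)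

omit [HasExt.{v} C] [HasInjectiveResolutions C] in
lemma exists_d_congr (K : CochainComplex C ℕ) {Z : C} {p m j : ℕ} (f : Z ⟶ K.X m) (h : j = p) :
    (∃ g : Z ⟶ K.X p, g ≫ K.d p m = f) ↔ ∃ g : Z ⟶ K.X j, g ≫ K.d j m = f := by
  subst h; rfl

lemma extMk_zero_iff_zero (R : InjectiveResolution Y) (f : Z ⟶ R.cocomplex.X 0) (hf : f ≫ R.cocomplex.d 0 1 = 0) :
    R.extMk f 1 rfl hf = 0 ↔ f = 0 := by
  constructor
  · intro h
    rw [← R.extEquivCohomologyClass.apply_eq_iff_eq, InjectiveResolution.extEquivCohomologyClass_extMk,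
      InjectiveResolution.extEquivCohomologyClass_zero, CohomologyClass.mk_eq_zero_iff,
      Cocycle.fromSingleMk_mem_coboundaries_iff _ _ _ _ _ (-1) (by omega)] at h
    obtain ⟨g, hg⟩ := h
    rw [(R.cochainComplex.isZero_of_isStrictlyGE 0 (-1) (by omega)).eq_of_tgt g 0, zero_comp] at hg
    simpa using hg.symm
  · rintro rfl
    exact R.extMk_zero 1 rfl

/-- `RⁿHom(Z, -) ≅ Extⁿ(Z, -)` -/
theorem nonempty_rightDerived_iso_ext {G : C ⥤ AddCommGrpCat.{v}} [G.Additive]
    (e : G ≅ preadditiveCoyoneda.obj (op Z)) (n : ℕ) :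
    Nonempty ((G.rightDerived n).obj Y ≅ AddCommGrpCat.of (Ext.{v} Z Y n)) := by
  let F := preadditiveCoyoneda.obj (op Z)
  let R := injectiveResolution Y
  let K := (F.mapHomologicalComplex (ComplexShape.up ℕ)).obj R.cocomplex
  let i := (ComplexShape.up ℕ).prev n
  have hin : (ComplexShape.up ℕ).prev n = i := rfl
  let S := K.sc' i n (n + 1)
  let φ : AddMonoidHom.ker S.g.hom →+ Ext.{v} Z Y n :=
    AddMonoidHom.mk' (fun f => R.extMk f.1 (n + 1) rfl f.2)
      (fun f g => (R.add_extMk f.1 g.1 (n + 1) rfl f.2 g.2).symm)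
  have hφ : Function.Surjective φ := fun α => by
    obtain ⟨f, hf, rfl⟩ := R.extMk_surjective α (n + 1) rfl
    exact ⟨⟨f, hf⟩, rfl⟩
  have hker : φ.ker = S.abToCycles.range := by
    ext ⟨f, hf⟩
    change R.extMk f (n + 1) rfl hf = 0 ↔ ∃ g, S.abToCycles g = ⟨f, hf⟩
    obtain rfl | ⟨p, rfl⟩ : n = 0 ∨ ∃ p, n = p + 1 := by
      cases n
      · exact Or.inl rfl
      · exact Or.inr ⟨_, rfl⟩
    · rw [extMk_zero_iff_zero]
      constructor
      · intro h; exact ⟨0, Subtype.ext (by simp [h]; rfl)⟩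
      · rintro ⟨g, hg⟩
        have : S.f = 0 := K.shape _ _ (by simp [i])
        have h := congrArg Subtype.val hg
        change S.f.hom g = f at h
        rw [this] at h
        exact h.symm
    · have hi : i = p := by simp [i]
      rw [R.extMk_eq_zero_iff f _ rfl hf p rfl]
      rw [exists_d_congr R.cocomplex f hi]
      constructor
      · intro h; exact ⟨h.choose, Subtype.ext h.choose_spec⟩
      · intro h; exact ⟨h.choose, congrArg Subtype.val h.choose_spec⟩
  let e₁ : AddMonoidHom.ker S.g.hom ⧸ S.abToCycles.range ≃+ Ext.{v} Z Y n :=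
    (QuotientAddGroup.quotientAddEquivOfEq hker.symm).trans (QuotientAddGroup.quotientKerEquivOfSurjective φ hφ)
  exact ⟨(RDer.rightDerivedIso e n).app Y ≪≫ R.isoRightDerivedObj F n ≪≫
    K.homologyIsoSc' i n (n + 1) hin (by simp) ≪≫ S.abHomologyIso ≪≫ e₁.toAddCommGrpIso⟩

end Groth.Agent.H5HomExt
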