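import Groth.Agent.Lib.H5Cech
import Groth.Agent.Lib.H5CohPresheaf
import Groth.Agent.Lib.H5HomExt
import Groth.Agent.Lib.H5GrothSS
import Groth.Prelude.Def_SpSeq
import Mathlib.CategoryTheory.Abelian.Projective.Ext
import Mathlib.CategoryTheory.Preadditive.Yoneda.Limits
import Mathlib.CategoryTheory.Abelian.GrothendieckCategory.EnoughInjectives
import Mathlib.CategoryTheory.Abelian.GrothendieckAxioms.Sheaf
import Mathlib.Algebra.Category.Grp.AB

universe w v u
set_option maxHeartbeats 600000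
set_option synthInstance.maxHeartbeats 40000

namespace Groth.Agent.H5CechRes
open CategoryTheory Limits Opposite
open CategoryTheory.Abelian (Ext)
open CochainComplex.HomComplex
open Groth.Agent

section generic
variable {C : Type w} [Category.{v} C] [Abelian C] [HasExt.{v} C] {Z P : C}

lemma extMk_zero_iff_zero (R : ProjectiveResolution Z) (f : R.complex.X 0 ⟶ P) (hf : R.complex.d 1 0 ≫ f = 0) :
    R.extMk f 1 rfl hf = 0 ↔ f = 0 := by
  constructor
  · intro h
    rw [← R.extEquivCohomologyClass.apply_eq_iff_eq, ProjectiveResolution.extEquivCohomologyClass_extMk,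
      ProjectiveResolution.extEquivCohomologyClass_zero, CohomologyClass.mk_eq_zero_iff,
      Cocycle.toSingleMk_mem_coboundaries_iff _ _ _ _ _ 1 (by omega)] at h
    obtain ⟨g, hg⟩ := h
    rw [(R.cochainComplex.isZero_of_isStrictlyLE 0 1 (by omega)).eq_of_src g 0, comp_zero] at hg
    rw [← cancel_epi (R.cochainComplexXIso (-((0 : ℕ) : ℤ)) 0 rfl).hom, comp_zero]
    exact hg.symm
  · rintro rfl
    exact R.extMk_zero 1 rfl

lemma extMk_congr (R : ProjectiveResolution Z) {n : ℕ} {f f' : R.complex.X n ⟶ P} (h : f = f')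
    (hf : R.complex.d (n + 1) n ≫ f = 0) (hf' : R.complex.d (n + 1) n ≫ f' = 0) :
    R.extMk f (n + 1) rfl hf = R.extMk f' (n + 1) rfl hf' := by subst h; rfl

/-- a complex of homomorphisms out of a projective resolution computes `Ext` -/
theorem homology_iso_ext (R : ProjectiveResolution Z) (K : CochainComplex AddCommGrpCat.{v} ℕ)
    (e : ∀ n, K.X n ≃+ (R.complex.X n ⟶ P))
    (he : ∀ n x, e (n + 1) (K.d n (n + 1) x) = R.complex.d (n + 1) n ≫ e n x) (n : ℕ) :
    Nonempty (K.homology n ≅ AddCommGrpCat.of (Ext.{v} Z P n)) := by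
  let i := (ComplexShape.up ℕ).prev n
  have hin : (ComplexShape.up ℕ).prev n = i := rfl
  let S := K.sc' i n (n + 1)
  have hc : ∀ f : AddMonoidHom.ker S.g.hom, R.complex.d (n + 1) n ≫ e n f.1 = 0 := fun f => by
    rw [← he n f.1]
    exact (congrArg (e (n + 1)) f.2).trans (map_zero _)
  let φ : AddMonoidHom.ker S.g.hom →+ Ext.{v} Z P n :=
    AddMonoidHom.mk' (fun f => R.extMk (e n f.1) (n + 1) rfl (hc f))
      (fun f g => by
        refine Eq.trans ?_ (R.add_extMk _ _ _ _ (hc f) (hc g)).symm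
        congr 1
        exact map_add (e n) f.1 g.1)
  have hφ : Function.Surjective φ := fun α => by
    obtain ⟨f, hf, rfl⟩ := R.extMk_surjective α (n + 1) rfl
    refine ⟨⟨(e n).symm f, ?_⟩, ?_⟩
    · refine (e (n + 1)).injective (((he n _).trans ?_).trans (map_zero (e (n + 1))).symm)
      rw [AddEquiv.apply_symm_apply, hf]
    · exact extMk_congr R ((e n).apply_symm_apply f) ((congrArg (fun t => R.complex.d (n + 1) n ≫ t) ((e n).apply_symm_apply f)).trans hf) hf
  have hker : φ.ker = S.abToCycles.range := by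
    ext ⟨f, hf⟩
    change R.extMk (e n f) (n + 1) rfl (hc ⟨f, hf⟩) = 0 ↔ ∃ g, S.abToCycles g = ⟨f, hf⟩
    rcases n with _ | p
    · rw [extMk_zero_iff_zero]
      constructor
      · intro h
        have h0 : f = 0 := (e 0).injective (h.trans (map_zero _).symm)
        exact ⟨0, Subtype.ext (by simp [h0])⟩
      · rintro ⟨g, hg⟩
        have : S.f = 0 := K.shape _ _ (by simp [i])
        have h := congrArg Subtype.val hg
        change S.f.hom g = f at h
        rw [this] at h
        rw [← h]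
        exact map_zero _
    · have hi : i = p := by simp [i]
      rw [R.extMk_eq_zero_iff _ _ rfl _ p rfl]
      constructor
      · rintro ⟨g, hg⟩
        suffices ∃ x : K.X i, K.d i (p + 1) x = f by
          obtain ⟨x, hx⟩ := this; exact ⟨x, Subtype.ext hx⟩
        rw [hi]
        exact ⟨(e p).symm g, (e (p + 1)).injective ((he p _).trans (by rw [AddEquiv.apply_symm_apply]; exact hg))⟩
      · rintro ⟨x, hx⟩
        have h : ∃ x : K.X i, K.d i (p + 1) x = f := ⟨x, congrArg Subtype.val hx⟩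
        rw [hi] at h
        obtain ⟨y, hy⟩ := h
        exact ⟨e p y, (he p y).symm.trans (congrArg (e (p + 1)) hy)⟩
  let e₁ : AddMonoidHom.ker S.g.hom ⧸ S.abToCycles.range ≃+ Ext.{v} Z P n :=
    (QuotientAddGroup.quotientAddEquivOfEq hker.symm).trans (QuotientAddGroup.quotientKerEquivOfSurjective φ hφ)
  exact ⟨K.homologyIsoSc' i n (n + 1) hin (by simp) ≪≫ S.abHomologyIso ≪≫ e₁.toAddCommGrpIso⟩

end generic

variable {C : Type u} [SmallCategory C] [HasPullbacks C] {U : C} {ι : Type u} (Y : ι → Over U)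
open Groth.Agent.H5Cech

lemma cls_hom {n : ℕ} {V : C} (s : Smp Y n V) : s.cls ≫ (W Y fun k => (s.pt k).1).hom = s.g :=
  Over.w (Pi.lift (f := Y ∘ fun k => (s.pt k).1) (fun k => Over.homMk ((s.pt k).2) (s.w k) : ∀ k, Over.mk s.g ⟶ Y (s.pt k).1))

lemma exact_of_eval (S : ShortComplex (Cᵒᵖ ⥤ AddCommGrpCat.{u}))
    (h : ∀ V : Cᵒᵖ, (S.map ((evaluation Cᵒᵖ AddCommGrpCat.{u}).obj V)).Exact) : S.Exact := by
  rw [ShortComplex.exact_iff_isZero_homology]
  refine Functor.isZero _ fun V => ?_
  exact ((ShortComplex.exact_iff_isZero_homology _).1 (h V)).of_iso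
    (S.mapHomologyIso ((evaluation Cᵒᵖ AddCommGrpCat.{u}).obj V)).symm

/-- universal simplices generate -/
lemma res_univS {n : ℕ} {V : C} (s : Smp Y n V) :
    Smp.res s.cls (univS Y fun k => (s.pt k).1) = s := by
  apply Smp.ext
  · exact cls_hom Y s
  · funext k
    exact Sigma.ext rfl (heq_of_eq (cls_pr Y s k))

lemma hom_ext_gen {n : ℕ} {P : Cᵒᵖ ⥤ AddCommGrpCat.{u}} {f g : ZS Y n ⟶ P}
    (h : ∀ a : Fin (n + 1) → ι, f.app (op (W Y a).left) (FreeAbelianGroup.of (univS Y a)) =
      g.app (op (W Y a).left) (FreeAbelianGroup.of (univS Y a))) : f = g := by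
  apply NatTrans.ext
  funext V
  apply AddCommGrpCat.hom_ext
  apply FreeAbelianGroup.lift_ext
  intro s
  have hs : (ZS Y n).map s.cls.op (FreeAbelianGroup.of (univS Y fun k => (s.pt k).1)) = FreeAbelianGroup.of s :=
    congrArg FreeAbelianGroup.of (res_univS Y s)
  change f.app V (FreeAbelianGroup.of s) = g.app V (FreeAbelianGroup.of s)
  rw [← hs]
  exact (NatTrans.naturality_apply f s.cls.op _).trans
    ((congrArg (P.map s.cls.op) (h _)).trans (NatTrans.naturality_apply g s.cls.op _).symm)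

lemma φS_gen (P : Cᵒᵖ ⥤ AddCommGrpCat.{u}) {n : ℕ} (c : (cplx Y P).X n) (a : Fin (n + 1) → ι) :
    (φS Y P c).app (op (W Y a).left) (FreeAbelianGroup.of (univS Y a)) = coord Y P a c :=
  (FreeAbelianGroup.lift_apply_of _ _).trans (evS_univ Y P c a)

/-- cochains are maps out of free presheaves -/
noncomputable def cEquiv (P : Cᵒᵖ ⥤ AddCommGrpCat.{u}) (n : ℕ) : (cplx Y P).X n ≃+ (ZS Y n ⟶ P) where
  toFun c := φS Y P c
  invFun f := mk Y P fun a => f.app (op (W Y a).left) (FreeAbelianGroup.of (univS Y a))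
  left_inv c := coord_ext Y P fun a => (coord_mk Y P _ a).trans (φS_gen Y P c a)
  right_inv f := hom_ext_gen Y fun a => (φS_gen Y P _ a).trans (coord_mk Y P _ a)
  map_add' c c' := hom_ext_gen Y fun a => (φS_gen Y P _ a).trans ((map_add _ c c').trans
    (congrArg₂ (· + ·) (φS_gen Y P c a).symm (φS_gen Y P c' a).symm))

lemma cEquiv_d (P : Cᵒᵖ ⥤ AddCommGrpCat.{u}) (n : ℕ) (c : (cplx Y P).X n) :
    cEquiv Y P (n + 1) ((cplx Y P).d n (n + 1) c) = dS Y n ≫ cEquiv Y P n c := by
  refine hom_ext_gen Y fun a => ?_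
  refine (φS_gen Y P ((cplx Y P).d n (n + 1) c) a).trans ?_
  refine ((evS_univ Y P ((cplx Y P).d n (n + 1) c) a).symm.trans (evS_d Y P c (univS Y a))).trans ?_
  refine Eq.trans ?_ (congrArg (FreeAbelianGroup.lift fun s => evS Y P c s) (bdry_of Y n (univS Y a))).symm
  rw [map_sum]
  exact Finset.sum_congr rfl fun j _ => by rw [map_zsmul, FreeAbelianGroup.lift_apply_of]

lemma dS_dS (n : ℕ) : dS Y (n + 1) ≫ dS Y n = 0 := by
  have h := (cEquiv Y (ZS Y n) n).apply_symm_apply (𝟙 _)
  have h1 := cEquiv_d Y (ZS Y n) n ((cEquiv Y (ZS Y n) n).symm (𝟙 _))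
  rw [h, Category.comp_id] at h1
  rw [← h1, ← cEquiv_d, H5Cech.d_d, map_zero]

lemma projective_ZS (n : ℕ) : Projective (ZS Y n) where
  factors {P Q} f π _ := by
    have hs : ∀ V, Function.Surjective (π.app V) := fun V =>
      (AddCommGrpCat.epi_iff_surjective _).1 ((NatTrans.epi_iff_epi_app π).1 inferInstance V)
    choose x hx using fun a : Fin (n + 1) → ι =>
      hs (op (W Y a).left) (f.app _ (FreeAbelianGroup.of (univS Y a)))
    refine ⟨cEquiv Y P n (mk Y P x), hom_ext_gen Y fun a => ?_⟩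
    change π.app _ ((φS Y P _).app _ _) = _
    rw [φS_gen, coord_mk, hx]

/-- the presheaf presented by simplices -/
noncomputable abbrev Z0 : Cᵒᵖ ⥤ AddCommGrpCat.{u} := cokernel (dS Y 0)

lemma of_d' (n : ℕ) : (ChainComplex.of (ZS Y) (dS Y) (dS_dS Y)).d (n + 1) n = dS Y n := by
  dsimp [ChainComplex.of]
  simp

/-- the Cech resolution -/
noncomputable def res : ProjectiveResolution (Z0 Y) where
  complex := ChainComplex.of (ZS Y) (dS Y) (dS_dS Y)
  projective := projective_ZS Y
  π := (ChainComplex.toSingle₀Equiv _ _).symm ⟨cokernel.π (dS Y 0),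
    (congrArg (fun t => t ≫ cokernel.π (dS Y 0)) (of_d' Y 0)).trans (cokernel.condition _)⟩
  quasiIso := ⟨fun n => by
    cases n with
    | zero =>
      rw [ChainComplex.quasiIsoAt₀_iff, ShortComplex.quasiIso_iff_of_zeros']
      rotate_left
      · exact (ChainComplex.of (ZS Y) (dS Y) (dS_dS Y)).shape _ _ (by simp)
      · rfl
      · rfl
      refine ⟨?_, ?_⟩
      · refine ShortComplex.exact_of_iso ?_ (ShortComplex.exact_cokernel (dS Y 0))
        exact ShortComplex.isoMk (Iso.refl _) (Iso.refl _) (Iso.refl _)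
          ((Category.id_comp _).trans ((of_d' Y 0).trans (Category.comp_id _).symm))
          ((Category.id_comp _).trans ((ChainComplex.toSingle₀Equiv_symm_apply_f_zero _ _).trans (Category.comp_id _).symm))
      · simp
        exact inferInstanceAs (Epi (cokernel.π (dS Y 0)))
    | succ m =>
      rw [quasiIsoAt_iff_exactAt' _ _ (ChainComplex.exactAt_succ_single_obj _ m),
        HomologicalComplex.exactAt_iff' _ (m + 2) (m + 1) m (by simp) (by simp)]
      refine ShortComplex.exact_of_iso (S₁ := ShortComplex.mk (dS Y (m + 1)) (dS Y m) (dS_dS Y m))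
        (ShortComplex.isoMk (Iso.refl _) (Iso.refl _) (Iso.refl _)
          ((Category.id_comp _).trans ((of_d' Y (m + 1)).trans (Category.comp_id _).symm))
          ((Category.id_comp _).trans ((of_d' Y m).trans (Category.comp_id _).symm))) ?_
      refine exact_of_eval _ fun V => ?_
      rw [ShortComplex.ab_exact_iff]
      intro x hx
      exact H5Cech.bdry_exact Y m V.unop x hx⟩

theorem cechH_iso_ext [HasExt.{u} (Cᵒᵖ ⥤ AddCommGrpCat.{u})] (P : Cᵒᵖ ⥤ AddCommGrpCat.{u}) (n : ℕ) :
    Nonempty (CohCx.cechH P Y n ≅ AddCommGrpCat.of (Ext.{u} (Z0 Y) P n)) :=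
  homology_iso_ext (res Y) (cplx Y P) (cEquiv Y P) (fun m x => by
    refine (cEquiv_d Y P m x).trans ?_
    exact congrArg (fun t => t ≫ cEquiv Y P m x) (of_d' Y m).symm) n

section sheaf
variable {J : GrothendieckTopology C}

/-- the simplex of a member -/
noncomputable def memS (i : ι) : Smp Y 0 (Y i).left where
  g := (Y i).hom
  pt _ := ⟨i, 𝟙 _⟩
  w _ := Category.id_comp _

/-- augmentation to the free presheaf on `U` -/
noncomputable def aug : Z0 Y ⟶ yoneda.obj U ⋙ AddCommGrpCat.free.{u} :=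
  cokernel.desc (dS Y 0)
    { app := fun V => AddCommGrpCat.ofHom (FreeAbelianGroup.map fun s : Smp Y 0 V.unop => s.g)
      naturality := fun V V' v => by
        apply AddCommGrpCat.hom_ext
        apply FreeAbelianGroup.lift_ext
        intro s
        rfl }
    (by
      apply NatTrans.ext
      funext V
      apply AddCommGrpCat.hom_ext
      apply FreeAbelianGroup.lift_ext
      intro s
      change FreeAbelianGroup.map _ (bdry Y 0 V.unop (FreeAbelianGroup.of s)) = 0
      rw [bdry_of, map_sum, Fin.sum_univ_two, map_zsmul, map_zsmul]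
      simp [Smp.δ])

lemma gen_app (i : ι) :
    (cokernel.π (dS Y 0) ≫ aug Y).app (op (Y i).left) (FreeAbelianGroup.of (memS Y i)) =
      FreeAbelianGroup.of (Y i).hom := by
  rw [aug, cokernel.π_desc]
  rfl

variable (G : Sheaf J AddCommGrpCat.{u})

theorem aug_bijective (hY : Sieve.ofArrows (fun i => (Y i).left) (fun i => (Y i).hom) ∈ J U) :
    Function.Bijective (fun ψ : (yoneda.obj U ⋙ AddCommGrpCat.free.{u}) ⟶ G.obj => aug Y ≫ ψ) := by
  let adjW := AddCommGrpCat.adj.{u}.whiskerRight Cᵒᵖ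
  have hnat : ∀ (t : G.obj.obj (op U)) (i : ι),
      (aug Y ≫ (adjW.homEquiv (yoneda.obj U) G.obj).symm (yonedaEquiv.symm t)).app (op (Y i).left)
        ((cokernel.π (dS Y 0)).app _ (FreeAbelianGroup.of (memS Y i))) = G.obj.map (Y i).hom.op t := by
    intro t i
    refine (congrArg (((adjW.homEquiv (yoneda.obj U) G.obj).symm (yonedaEquiv.symm t)).app (op (Y i).left))
      (gen_app Y i)).trans ?_
    exact FreeAbelianGroup.lift_apply_of _ _
  have hdet : ∀ (χ χ' : Z0 Y ⟶ G.obj), (∀ i, χ.app (op (Y i).left)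
        ((cokernel.π (dS Y 0)).app _ (FreeAbelianGroup.of (memS Y i))) =
      χ'.app (op (Y i).left) ((cokernel.π (dS Y 0)).app _ (FreeAbelianGroup.of (memS Y i)))) → χ = χ' := by
    intro χ χ' h
    refine coequalizer.hom_ext (hom_ext_gen Y fun a => ?_)
    have hs : (ZS Y 0).map (pr Y a 0).op (FreeAbelianGroup.of (memS Y (a 0))) =
        FreeAbelianGroup.of (univS Y a) := congrArg FreeAbelianGroup.of (by
      apply Smp.ext
      · exact pr_hom Y a 0
      · funext k; fin_cases k; exact Sigma.ext rfl (heq_of_eq (Category.comp_id _)))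
    rw [← hs]
    exact (NatTrans.naturality_apply (cokernel.π (dS Y 0) ≫ χ) (pr Y a 0).op _).trans
      ((congrArg (G.obj.map (pr Y a 0).op) (h (a 0))).trans
        (NatTrans.naturality_apply (cokernel.π (dS Y 0) ≫ χ') (pr Y a 0).op _).symm)
  constructor
  · intro ψ ψ' e
    obtain ⟨t, rfl⟩ := ((yonedaEquiv (F := G.obj ⋙ forget AddCommGrpCat.{u})).symm.trans (adjW.homEquiv (yoneda.obj U) G.obj).symm).surjective ψ
    obtain ⟨t', rfl⟩ := ((yonedaEquiv (F := G.obj ⋙ forget AddCommGrpCat.{u})).symm.trans (adjW.homEquiv (yoneda.obj U) G.obj).symm).surjective ψ'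
    refine congrArg _ ?_
    have hu : ∀ x : ∀ i, G.obj.obj (op (Y i).left), ∀ _ : ∀ i j (Z : C) (gi : Z ⟶ (Y i).left) (gj : Z ⟶ (Y j).left),
        gi ≫ (Y i).hom = gj ≫ (Y j).hom → G.obj.map gi.op (x i) = G.obj.map gj.op (x j),
        ∀ s s', (∀ i, G.obj.map (Y i).hom.op s = x i) → (∀ i, G.obj.map (Y i).hom.op s' = x i) → s = s' :=
      fun x hx s s' h h' => (H5Cech.glue Y G hY x hx).unique h h'
    refine hu (fun i => G.obj.map (Y i).hom.op t') (fun i j Z gi gj h => ?_) t t' (fun i => ?_) (fun i => rfl)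
    · rw [← ConcreteCategory.comp_apply, ← ConcreteCategory.comp_apply, ← G.obj.map_comp, ← G.obj.map_comp,
        ← op_comp, ← op_comp, h]
    · exact (hnat t i).symm.trans ((congrArg (fun χ => χ.app (op (Y i).left)
        ((cokernel.π (dS Y 0)).app _ (FreeAbelianGroup.of (memS Y i)))) e).trans (hnat t' i))
  · intro χ
    let χ' := cokernel.π (dS Y 0) ≫ χ
    obtain ⟨t, ht, -⟩ := H5Cech.glue Y G hY (fun i => χ'.app (op (Y i).left) (FreeAbelianGroup.of (memS Y i)))
      (fun i j Z gi gj h => by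
        let S1 : Smp Y 1 Z :=
          { g := gi ≫ (Y i).hom
            pt := ![⟨i, gi⟩, ⟨j, gj⟩]
            w := fun k => by fin_cases k; exacts [rfl, h.symm] }
        have h0 : χ'.app (op Z) (bdry Y 0 Z (FreeAbelianGroup.of S1)) = 0 := by
          have := ConcreteCategory.congr_hom (congr_app
            ((Category.assoc _ _ _).symm.trans ((congrArg (fun t => t ≫ χ) (cokernel.condition (dS Y 0))).trans zero_comp))
            (op Z)) (FreeAbelianGroup.of S1)
          exact this
        let g : FreeAbelianGroup (Smp Y 0 Z) →+ G.obj.obj (op Z) := (χ'.app (op Z)).hom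
        change g (bdry Y 0 Z (FreeAbelianGroup.of S1)) = 0 at h0
        rw [bdry_of, map_sum, Fin.sum_univ_two, map_zsmul, map_zsmul] at h0
        simp only [Fin.val_zero, pow_zero, one_smul, Fin.val_one, pow_one, neg_smul] at h0
        have hi : (ZS Y 0).map gi.op (FreeAbelianGroup.of (memS Y i)) = FreeAbelianGroup.of (S1.δ 1) :=
          congrArg FreeAbelianGroup.of (by
            apply Smp.ext
            · rfl
            · funext k; fin_cases k; exact Sigma.ext rfl (heq_of_eq (Category.comp_id _)))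
        have hj : (ZS Y 0).map gj.op (FreeAbelianGroup.of (memS Y j)) = FreeAbelianGroup.of (S1.δ 0) :=
          congrArg FreeAbelianGroup.of (by
            apply Smp.ext
            · exact h.symm
            · funext k; fin_cases k; exact Sigma.ext rfl (heq_of_eq (Category.comp_id _)))
        rw [← hi, ← hj] at h0
        refine ((NatTrans.naturality_apply χ' gi.op _).symm.trans ?_).trans (NatTrans.naturality_apply χ' gj.op _)
        exact (add_neg_eq_zero.1 h0).symm)
    refine ⟨(adjW.homEquiv (yoneda.obj U) G.obj).symm (yonedaEquiv.symm t), hdet _ _ fun i => ?_⟩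
    exact (hnat t i).trans (ht i)

theorem isIso_aug (hY : Sieve.ofArrows (fun i => (Y i).left) (fun i => (Y i).hom) ∈ J U) :
    IsIso ((presheafToSheaf J AddCommGrpCat.{u}).map (aug Y)) := by
  apply isIso_of_coyoneda_map_bijective
  intro G
  let adj := sheafificationAdjunction J AddCommGrpCat.{u}
  have he : (fun x => (presheafToSheaf J AddCommGrpCat.{u}).map (aug Y) ≫ x) =
      (adj.homEquiv (Z0 Y) G).symm ∘ (fun ψ => aug Y ≫ ψ) ∘ (adj.homEquiv (yoneda.obj U ⋙ AddCommGrpCat.free.{u}) G) := by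
    funext x
    exact (Equiv.eq_symm_apply _).2 (adj.homEquiv_naturality_left (aug Y) x)
  rw [he]
  exact (Equiv.bijective _).comp ((aug_bijective Y G hY).comp (Equiv.bijective _))

theorem cartanLeray [HasExt.{u} (Cᵒᵖ ⥤ AddCommGrpCat.{u})] (M : Sheaf J AddCommGrpCat.{u})
    (hY : Sieve.ofArrows (fun i => (Y i).left) (fun i => (Y i).hom) ∈ J U) :
    ∃ (E : E₂CohomologicalSpectralSequence AddCommGrpCat.{u})
      (a : SpSeq.Abutment E (fun n : ℤ =>
        if 0 ≤ n then AddCommGrpCat.of (CohSite.HU M n.toNat U) else AddCommGrpCat.of PUnit.{u + 1})),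
      (∀ n, a.IsFinite n) ∧ SpSeq.IsBounded E ∧
      ∀ p q : ℤ, Nonempty ((E.page 2 le_rfl).X (p, q) ≅
        (if 0 ≤ p ∧ 0 ≤ q then CohCx.cechH (M.cohomologyPresheaf q.toNat) Y p.toNat
         else AddCommGrpCat.of PUnit.{u + 1})) := by
  haveI : IsGrothendieckAbelian.{u} (Cᵒᵖ ⥤ AddCommGrpCat.{u}) :=
    IsGrothendieckAbelian.of_equivalence (sheafBotEquivalence AddCommGrpCat.{u})
  haveI : EnoughInjectives (Cᵒᵖ ⥤ AddCommGrpCat.{u}) := inferInstance
  let S := preadditiveCoyoneda.obj (op (Z0 Y))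
  have : PreservesLimits S := preservesLimits_preadditiveCoyoneda_obj _
  have : PreservesFiniteLimits S := PreservesLimits.preservesFiniteLimits _
  let adj := sheafificationAdjunction J AddCommGrpCat.{u}
  have : (presheafToSheaf J AddCommGrpCat.{u}).Additive := inferInstance
  have := isIso_aug Y hY
  let eH : sheafToPresheaf J AddCommGrpCat.{u} ⋙ S ≅ preadditiveCoyoneda.obj (op (H5SiteCoh.fU J U)) :=
    (NatIso.ofComponents (fun G => (adj.homAddEquiv (Z0 Y) G).symm.toAddCommGrpIso) (fun {G G'} g => by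
      refine ConcreteCategory.hom_ext _ _ fun x => ?_
      exact adj.homEquiv_naturality_right_symm x g) :
      sheafToPresheaf J AddCommGrpCat.{u} ⋙ S ≅ preadditiveCoyoneda.obj (op ((presheafToSheaf J AddCommGrpCat.{u}).obj (Z0 Y)))) ≪≫
    preadditiveCoyoneda.mapIso (asIso ((presheafToSheaf J AddCommGrpCat.{u}).map (aug Y))).symm.op
  obtain ⟨E, a, h1, h2, h3, h4⟩ := H5GrothSS.grothendieck (sheafToPresheaf J AddCommGrpCat.{u}) S
    (fun Q hQ q hq => by
      obtain ⟨m, rfl⟩ : ∃ m, q = m + 1 := ⟨q - 1, by omega⟩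
      haveI : Injective ((sheafToPresheaf J AddCommGrpCat.{u}).obj Q) := H5Cech.injective_obj Q
      exact S.isZero_rightDerived_obj_injective_succ m _) M
    (fun n : ℤ => if 0 ≤ n then AddCommGrpCat.of (CohSite.HU M n.toNat U) else AddCommGrpCat.of PUnit.{u + 1})
    (fun n hn => by rw [if_neg (by omega)]; exact AddCommGrpCat.isZero_of_subsingleton _)
    (fun n => ⟨(H5HomExt.nonempty_rightDerived_iso_ext _ M eH n).some ≪≫
      eqToIso (by rw [if_pos (Int.natCast_nonneg n), Int.toNat_natCast]; rfl)⟩)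
  refine ⟨E, a, h1, h2, fun p q => ?_⟩
  by_cases h : 0 ≤ p ∧ 0 ≤ q
  · rw [if_pos h]
    obtain ⟨e₂⟩ := h4 p.toNat q.toNat
    rw [Int.toNat_of_nonneg h.1, Int.toNat_of_nonneg h.2] at e₂
    exact ⟨e₂ ≪≫ (S.rightDerived p.toNat).mapIso (H5CohPresheaf.rightDerived_sheafToPresheaf M q.toNat).some ≪≫
      (H5HomExt.nonempty_rightDerived_iso_ext _ _ (Iso.refl S) p.toNat).some ≪≫ (cechH_iso_ext Y _ p.toNat).some.symm⟩
  · rw [if_neg h]
    exact ⟨(h3 p q (by omega)).iso (AddCommGrpCat.isZero_of_subsingleton _)⟩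

end sheaf

end Groth.Agent.H5CechRes
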