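import Mathlib
import Groth.Prelude

universe v u

open CategoryTheory CategoryTheory.Limits Opposite

namespace Groth.Agent.H5OpenClosed

variable {C : Type u} [SmallCategory C] {J : GrothendieckTopology C}

noncomputable def secEquiv (V : Cᵒᵖ) (X : Sheaf J (Type u)) :
    ((presheafToSheaf J (Type u)).obj (yoneda.obj V.unop) ⟶ X) ≃ X.obj.obj V :=
  ((sheafificationAdjunction J (Type u)).homEquiv _ X).trans yonedaEquiv

lemma secEquiv_comp {V : Cᵒᵖ} {X Y : Sheaf J (Type u)} (φ : X ⟶ Y)
    (t : (presheafToSheaf J (Type u)).obj (yoneda.obj V.unop) ⟶ X) :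
    secEquiv V Y (t ≫ φ) = φ.hom.app V (secEquiv V X t) := by
  simp only [secEquiv, Equiv.trans_apply]
  rw [Adjunction.homEquiv_naturality_right, yonedaEquiv_comp]
  rfl

lemma open_subsingleton {U : Sheaf J (Type u)} (hU : SGA4.IsOpen U) (V : Cᵒᵖ) :
    Subsingleton (U.obj.obj V) := by
  constructor
  intro a b
  obtain ⟨a, rfl⟩ := (secEquiv V U).surjective a
  obtain ⟨b, rfl⟩ := (secEquiv V U).surjective b
  have : Mono (terminal.from U) := hU
  rw [(cancel_mono (terminal.from U)).1 (Subsingleton.elim (a ≫ terminal.from U) (b ≫ terminal.from U))]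

theorem closedCompl_iff {U : Sheaf J (Type u)} (hU : SGA4.IsOpen U) (Z : Sheaf J (Type u)) :
    SGA4.closedCompl U Z ↔ ∀ V, Nonempty (U.obj.obj V) → Nonempty (Unique (Z.obj.obj V)) := by
  constructor
  · intro h V ⟨u⟩
    have : IsIso (prod.fst : U ⨯ Z ⟶ U) := h
    obtain ⟨u, rfl⟩ := (secEquiv V U).surjective u
    refine ⟨⟨⟨secEquiv V Z (u ≫ inv (prod.fst : U ⨯ Z ⟶ U) ≫ prod.snd)⟩, fun z => ?_⟩⟩
    obtain ⟨z, rfl⟩ := (secEquiv V Z).surjective z
    have h1 : prod.lift u z = u ≫ inv (prod.fst : U ⨯ Z ⟶ U) := by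
      rw [← cancel_mono (prod.fst : U ⨯ Z ⟶ U)]; simp [prod.lift_fst]
    apply congrArg
    rw [← Category.assoc, ← h1, prod.lift_snd]
  · intro h
    let s : U ⟶ Z := ⟨{
      app := fun V => ↾fun u => (h V ⟨u⟩).some.default
      naturality := fun V W g => by
        ext u
        exact ((h W ⟨U.obj.map g u⟩).some.uniq _).symm }⟩
    refine ⟨prod.lift (𝟙 U) s, ?_, prod.lift_fst _ _⟩
    apply prod.hom_ext
    · rw [Category.assoc, prod.lift_fst]; simp
    · apply Sheaf.hom_ext
      ext V p
      obtain ⟨hu⟩ := h V ⟨(prod.fst : U ⨯ Z ⟶ U).hom.app V p⟩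
      exact (hu.uniq _).trans (hu.uniq _).symm

def prodP (U X : Cᵒᵖ ⥤ Type u) : Cᵒᵖ ⥤ Type u where
  obj V := U.obj V × X.obj V
  map g := ↾fun p => (U.map g p.1, X.map g p.2)

def fstP (U X : Cᵒᵖ ⥤ Type u) : prodP U X ⟶ U where
  app V := ↾fun p => p.1

def sndP (U X : Cᵒᵖ ⥤ Type u) : prodP U X ⟶ X where
  app V := ↾fun p => p.2

def mapP (U : Cᵒᵖ ⥤ Type u) {X Y : Cᵒᵖ ⥤ Type u} (m : X ⟶ Y) : prodP U X ⟶ prodP U Y where
  app V := ↾fun p => (p.1, m.app V p.2)
  naturality V W g := by
    ext (p : U.obj V × X.obj V)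
    have h := ConcreteCategory.congr_hom (m.naturality g) p.2
    exact Prod.ext rfl h

noncomputable abbrev clP (U X : Cᵒᵖ ⥤ Type u) : Cᵒᵖ ⥤ Type u := pushout (fstP U X) (sndP U X)

lemma clP_sq (U X : Cᵒᵖ ⥤ Type u) (V : Cᵒᵖ) :
    IsPushout ((fstP U X).app V) ((sndP U X).app V)
      ((pushout.inl (fstP U X) (sndP U X)).app V) ((pushout.inr (fstP U X) (sndP U X)).app V) :=
  (IsPushout.of_hasPushout (fstP U X) (sndP U X)).map ((evaluation _ _).obj V)

lemma inr_bijective (U X : Cᵒᵖ ⥤ Type u) (V : Cᵒᵖ) (hV : IsEmpty (U.obj V)) :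
    Function.Bijective ((pushout.inr (fstP U X) (sndP U X)).app V) := by
  have : IsIso ((fstP U X).app V) := by
    rw [isIso_iff_bijective]
    exact ⟨fun p => (hV.false p.1).elim, fun u => (hV.false u).elim⟩
  have := (clP_sq U X V).isIso_inr_of_isIso
  exact (isIso_iff_bijective _).1 this

lemma clP_unique (U X : Cᵒᵖ ⥤ Type u) (V : Cᵒᵖ) (u : U.obj V) [Subsingleton (U.obj V)]
    (p : (clP U X).obj V) : p = (pushout.inl (fstP U X) (sndP U X)).app V u := by
  obtain ⟨(_ | _ | _), q, rfl⟩ := Types.jointly_surjective_of_isColimit (clP_sq U X V).isColimit p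
  · exact congrArg _ (Subsingleton.elim (α := U.obj V) _ _)
  · exact congrArg _ (Subsingleton.elim (α := U.obj V) _ _)
  · have := ConcreteCategory.congr_hom (clP_sq U X V).w (show (prodP U X).obj V from (u, (show X.obj V from q)))
    exact this.symm

noncomputable def clMap (U : Cᵒᵖ ⥤ Type u) {X Y : Cᵒᵖ ⥤ Type u} (m : X ⟶ Y) : clP U X ⟶ clP U Y :=
  pushout.map (fstP U X) (sndP U X) (fstP U Y) (sndP U Y) (𝟙 U) m (mapP U m) rfl rfl

theorem isIso_iff (U : Sheaf J (Type u)) (hU : SGA4.IsOpen U)
    (L : Sheaf J (Type u) ⥤ (SGA4.closedCompl U).FullSubcategory) (adj : L ⊣ (SGA4.closedCompl U).ι)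
    {X Y : Sheaf J (Type u)} (m : X ⟶ Y) :
    IsIso m ↔ IsIso ((Over.star U).map m) ∧ IsIso (L.map m) := by
  refine ⟨fun _ => ⟨inferInstance, inferInstance⟩, fun ⟨h1, h2⟩ => ?_⟩
  have hs := open_subsingleton hU
  -- over U
  have hb : ∀ V, Nonempty (U.obj.obj V) → Function.Bijective (m.hom.app V) := by
    rintro V ⟨u⟩
    obtain ⟨u, rfl⟩ := (secEquiv V U).surjective u
    have h1' : IsIso (prod.map (𝟙 U) m) := by
      have : IsIso ((Over.forget U).map ((Over.star U).map m)) := inferInstance
      rw [show prod.map (𝟙 U) m = (Over.forget U).map ((Over.star U).map m) from (Over.star_map_left U m).symm]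
      exact this
    constructor
    · intro a b hab
      obtain ⟨a, rfl⟩ := (secEquiv V X).surjective a
      obtain ⟨b, rfl⟩ := (secEquiv V X).surjective b
      rw [← secEquiv_comp, ← secEquiv_comp] at hab
      have := (secEquiv V Y).injective hab
      have h3 : prod.lift u a = prod.lift u b := by
        rw [← cancel_mono (prod.map (𝟙 U) m)]
        simp [this]
      have h4 := congrArg (fun t => t ≫ prod.snd) h3
      simp only [prod.lift_snd] at h4
      rw [h4]
    · intro y
      obtain ⟨y, rfl⟩ := (secEquiv V Y).surjective y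
      refine ⟨secEquiv V X (prod.lift u y ≫ inv (prod.map (𝟙 U) m) ≫ prod.snd), ?_⟩
      rw [← secEquiv_comp]
      apply congrArg
      simp only [Category.assoc]
      rw [← prod.map_snd (𝟙 U) m, IsIso.inv_hom_id_assoc, prod.lift_snd]
  -- reflection to the closed complement
  let LP := fun X : Sheaf J (Type u) => (presheafToSheaf J (Type u)).obj (clP U.obj X.obj)
  have hcl : ∀ X, SGA4.closedCompl U (LP X) := by
    intro X
    rw [closedCompl_iff hU]
    rintro V ⟨u⟩
    have hloc : ∀ (W : Cᵒᵖ) (g : V ⟶ W) (a b : (clP U.obj X.obj).obj W), a = b := fun W g a b => by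
      have := hs W
      rw [clP_unique _ _ W (U.obj.map g u) a, clP_unique _ _ W (U.obj.map g u) b]
    let φ := toSheafify J (clP U.obj X.obj)
    refine ⟨⟨⟨φ.app V ((pushout.inl (fstP U.obj X.obj) (sndP U.obj X.obj)).app V u)⟩, fun a => ?_⟩⟩
    refine ((((isSheaf_iff_isSheaf_of_type _ _).1 (LP X).property) _
      (Presheaf.imageSieve_mem J φ a)).isSeparatedFor).ext fun W g hg => ?_
    obtain ⟨t, ht⟩ := hg
    refine ht.symm.trans ?_
    erw [← NatTrans.naturality_apply φ]
    exact congrArg _ (hloc _ g.op _ _)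
  -- the reflection
  let η : ∀ X : Sheaf J (Type u), X ⟶ LP X := fun X =>
    ⟨pushout.inr (fstP U.obj X.obj) (sndP U.obj X.obj) ≫ toSheafify J (clP U.obj X.obj)⟩
  have huni : ∀ (X : Sheaf J (Type u)) (Z : Sheaf J (Type u)), SGA4.closedCompl U Z →
      Function.Bijective (fun g : LP X ⟶ Z => η X ≫ g) := by
    intro X Z hZ
    have hsub : ∀ V, Nonempty (U.obj.obj V) → Nonempty (Unique (Z.obj.obj V)) := (closedCompl_iff hU Z).1 hZ
    let s : U.obj ⟶ Z.obj := {
      app := fun V => ↾fun u => (hsub V ⟨u⟩).some.default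
      naturality := fun V W g => by
        ext u
        exact ((hsub W ⟨U.obj.map g u⟩).some.uniq _).symm }
    let e : (LP X ⟶ Z) ≃ (clP U.obj X.obj ⟶ Z.obj) :=
      (sheafificationAdjunction J (Type u)).homEquiv _ Z
    constructor
    · intro g g' hg
      apply e.injective
      apply pushout.hom_ext
      · ext V u
        obtain ⟨hu⟩ := hsub V ⟨u⟩
        exact (hu.uniq _).trans (hu.uniq _).symm
      · have := congrArg (fun t => t.hom) hg
        simp only [η, ObjectProperty.FullSubcategory.comp_hom, Category.assoc] at this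
        simp only [e, Adjunction.homEquiv_unit]
        exact this
    · intro f
      have w : fstP U.obj X.obj ≫ s = sndP U.obj X.obj ≫ f.hom := by
        ext V p
        obtain ⟨hu⟩ := hsub V ⟨p.1⟩
        exact (hu.uniq _).trans (hu.uniq _).symm
      refine ⟨e.symm (pushout.desc s f.hom w), ?_⟩
      apply Sheaf.hom_ext
      have := e.apply_symm_apply (pushout.desc s f.hom w)
      simp only [e, Adjunction.homEquiv_unit] at this
      change (pushout.inr _ _ ≫ _) ≫ _ = _
      rw [Category.assoc]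
      exact (congrArg (pushout.inr _ _ ≫ ·) this).trans (pushout.inr_desc _ _ _)
  -- comparison with `L`
  have hL : ∀ (Z : Sheaf J (Type u)), SGA4.closedCompl U Z →
      Function.Bijective (fun g : Y ⟶ Z => m ≫ g) := by
    intro Z hZ
    let Z' : (SGA4.closedCompl U).FullSubcategory := ⟨Z, hZ⟩
    have e : (fun g : Y ⟶ Z => m ≫ g) =
        (adj.homEquiv X Z') ∘ (fun h => L.map m ≫ h) ∘ (adj.homEquiv Y Z').symm := by
      funext g
      simp only [Function.comp_apply]
      rw [Adjunction.homEquiv_naturality_left, Equiv.apply_symm_apply]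
    rw [e]
    exact ((adj.homEquiv X Z').bijective.comp (((asIso (L.map m)).homFromEquiv).symm.bijective)).comp
      (adj.homEquiv Y Z').symm.bijective
  have hηm : ∀ Z, SGA4.closedCompl U Z → Function.Bijective (fun g : LP Y ⟶ Z =>
      (presheafToSheaf J (Type u)).map (clMap U.obj m.hom) ≫ g) := by
    intro Z hZ
    have e : η X ≫ (presheafToSheaf J (Type u)).map (clMap U.obj m.hom) = m ≫ η Y := by
      apply Sheaf.hom_ext
      simp only [η, ObjectProperty.FullSubcategory.comp_hom]
      have h3 : toSheafify J (clP U.obj X.obj) ≫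
          ((presheafToSheaf J (Type u)).map (clMap U.obj m.hom)).hom =
          clMap U.obj m.hom ≫ toSheafify J (clP U.obj Y.obj) := (toSheafify_naturality J _).symm
      rw [Category.assoc]
      erw [h3]
      rw [← Category.assoc]
      erw [pushout.inr_desc]
      simp only [Category.assoc]
    have h4 : (fun g : LP X ⟶ Z => η X ≫ g) ∘ (fun g : LP Y ⟶ Z =>
        (presheafToSheaf J (Type u)).map (clMap U.obj m.hom) ≫ g) =
        (fun g : Y ⟶ Z => m ≫ g) ∘ (fun g => η Y ≫ g) := by
      funext g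
      simp only [Function.comp_apply]
      erw [← Category.assoc, e, Category.assoc]
    exact (Function.Bijective.of_comp_iff' (huni X Z hZ) _).1
      (h4 ▸ (hL Z hZ).comp (huni Y Z hZ))
  have hiso : IsIso ((presheafToSheaf J (Type u)).map (clMap U.obj m.hom)) := by
    obtain ⟨r, hr⟩ := (hηm (LP X) (hcl X)).2 (𝟙 _)
    exact ⟨r, hr, (hηm (LP Y) (hcl Y)).1
      ((Category.assoc _ _ _).symm.trans (((congrArg (· ≫ _) hr).trans (Category.id_comp _)).trans
        (Category.comp_id _).symm))⟩
  -- conclude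
  have hinj : Presheaf.IsLocallyInjective J (clMap U.obj m.hom) := by
    rw [← Presheaf.isLocallyInjective_presheafToSheaf_map_iff]
    infer_instance
  have hsurj : Presheaf.IsLocallySurjective J (clMap U.obj m.hom) := by
    rw [← Presheaf.isLocallySurjective_presheafToSheaf_map_iff]
    infer_instance
  have hinr : ∀ (W : Cᵒᵖ) (x : X.obj.obj W), (clMap U.obj m.hom).app W
      ((pushout.inr (fstP U.obj X.obj) (sndP U.obj X.obj)).app W x) =
      (pushout.inr (fstP U.obj Y.obj) (sndP U.obj Y.obj)).app W (m.hom.app W x) := by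
    intro W x
    have : pushout.inr (fstP U.obj X.obj) (sndP U.obj X.obj) ≫ clMap U.obj m.hom =
        m.hom ≫ pushout.inr (fstP U.obj Y.obj) (sndP U.obj Y.obj) := pushout.inr_desc _ _ _
    exact ConcreteCategory.congr_hom (congr_app this W) x
  have hI : Presheaf.IsLocallyInjective J m.hom := by
    constructor
    intro V a b hab
    refine J.superset_covering ?_ (Presheaf.equalizerSieve_mem J (clMap U.obj m.hom)
      ((pushout.inr (fstP U.obj X.obj) (sndP U.obj X.obj)).app V a)
      ((pushout.inr (fstP U.obj X.obj) (sndP U.obj X.obj)).app V b)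
      (by rw [hinr, hinr, hab]))
    intro W g hg
    by_cases hW : Nonempty (U.obj.obj (op W))
    · refine (hb _ hW).1 ?_
      rw [NatTrans.naturality_apply m.hom, NatTrans.naturality_apply m.hom, hab]
    · refine (inr_bijective _ _ _ (not_nonempty_iff.1 hW)).1 ?_
      rw [NatTrans.naturality_apply, NatTrans.naturality_apply]
      exact hg
  have hSu : Presheaf.IsLocallySurjective J m.hom := by
    constructor
    intro V y
    refine J.superset_covering ?_ (Presheaf.imageSieve_mem J (clMap U.obj m.hom)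
      (U := op V) ((pushout.inr (fstP U.obj Y.obj) (sndP U.obj Y.obj)).app (op V) y))
    rintro W g ⟨p, hp⟩
    by_cases hW : Nonempty (U.obj.obj (op W))
    · exact (hb _ hW).2 _
    · obtain ⟨x, rfl⟩ := (inr_bijective _ _ _ (not_nonempty_iff.1 hW)).2 p
      refine ⟨x, (inr_bijective _ _ _ (not_nonempty_iff.1 hW)).1 ?_⟩
      rw [← hinr, hp]
      exact (NatTrans.naturality_apply _ g.op y).symm
  have : Sheaf.IsLocallyInjective m := hI
  have : Sheaf.IsLocallySurjective m := hSu
  have := Sheaf.mono_of_isLocallyInjective m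
  exact isIso_of_mono_of_epi m

end Groth.Agent.H5OpenClosed
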