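import Mathlib
import Groth.Prelude
import Groth.Agent.Lib.H5OpenClosed

universe v u

open CategoryTheory CategoryTheory.Limits Opposite
open Groth.Agent.H5OpenClosed

namespace Groth.Agent.H5Glue

variable {C : Type u} [SmallCategory C] {J : GrothendieckTopology C}
variable {U : Sheaf J (Type u)} (hU : SGA4.IsOpen U)

noncomputable abbrev LP (U X : Sheaf J (Type u)) : Sheaf J (Type u) :=
  (presheafToSheaf J (Type u)).obj (clP U.obj X.obj)

noncomputable abbrev η (U X : Sheaf J (Type u)) : X ⟶ LP U X :=
  ⟨pushout.inr (fstP U.obj X.obj) (sndP U.obj X.obj) ≫ toSheafify J (clP U.obj X.obj)⟩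

include hU in
theorem LP_closed (X : Sheaf J (Type u)) : SGA4.closedCompl U (LP U X) := by
  have hs := open_subsingleton hU
  rw [closedCompl_iff hU]
  rintro V ⟨u⟩
  have hloc : ∀ (W : Cᵒᵖ) (g : V ⟶ W) (a b : (clP U.obj X.obj).obj W), a = b := fun W g a b => by
    have := hs W
    rw [clP_unique _ _ W (U.obj.map g u) a, clP_unique _ _ W (U.obj.map g u) b]
  let φ := toSheafify J (clP U.obj X.obj)
  refine ⟨⟨⟨φ.app V ((pushout.inl (fstP U.obj X.obj) (sndP U.obj X.obj)).app V u)⟩, fun a => ?_⟩⟩
  refine ((((isSheaf_iff_isSheaf_of_type _ _).1 (LP U X).property) _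
    (Presheaf.imageSieve_mem J φ a)).isSeparatedFor).ext fun W g hg => ?_
  obtain ⟨t, ht⟩ := hg
  refine ht.symm.trans ?_
  erw [← NatTrans.naturality_apply φ]
  exact congrArg _ (hloc _ g.op _ _)

include hU in
theorem η_universal (X Z : Sheaf J (Type u)) (hZ : SGA4.closedCompl U Z) :
    Function.Bijective (fun g : LP U X ⟶ Z => η U X ≫ g) := by
  have hsub : ∀ V, Nonempty (U.obj.obj V) → Nonempty (Unique (Z.obj.obj V)) := (closedCompl_iff hU Z).1 hZ
  let s : U.obj ⟶ Z.obj := {
    app := fun V => ↾fun u => (hsub V ⟨u⟩).some.default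
    naturality := fun V W g => by
      ext u
      exact ((hsub W ⟨U.obj.map g u⟩).some.uniq _).symm }
  let e : (LP U X ⟶ Z) ≃ (clP U.obj X.obj ⟶ Z.obj) :=
    (sheafificationAdjunction J (Type u)).homEquiv _ Z
  constructor
  · intro g g' hg
    apply e.injective
    apply pushout.hom_ext
    · ext V u
      obtain ⟨hu⟩ := hsub V ⟨u⟩
      exact (hu.uniq _).trans (hu.uniq _).symm
    · have := congrArg (fun t => t.hom) hg
      simp only [η, ObjectProperty.FullSubcategory.comp_hom, Category.assoc] at this
      simp only [e, Adjunction.homEquiv_unit]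
      exact this
  · intro f
    have w : fstP U.obj X.obj ≫ s = sndP U.obj X.obj ≫ f.hom := by
      ext V p
      obtain ⟨hu⟩ := hsub V ⟨p.1⟩
      exact (hu.uniq _).trans (hu.uniq _).symm
    refine ⟨e.symm (pushout.desc s f.hom w), ?_⟩
    apply Sheaf.hom_ext
    have := e.apply_symm_apply (pushout.desc s f.hom w)
    simp only [e, Adjunction.homEquiv_unit] at this
    change (pushout.inr _ _ ≫ _) ≫ _ = _
    rw [Category.assoc]
    exact (congrArg (pushout.inr _ _ ≫ ·) this).trans (pushout.inr_desc _ _ _)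

lemma inr_clMap (U : Cᵒᵖ ⥤ Type u) {X Y : Cᵒᵖ ⥤ Type u} (m : X ⟶ Y) :
    pushout.inr (fstP U X) (sndP U X) ≫ clMap U m = m ≫ pushout.inr (fstP U Y) (sndP U Y) :=
  pushout.inr_desc _ _ _

lemma inl_clMap (U : Cᵒᵖ ⥤ Type u) {X Y : Cᵒᵖ ⥤ Type u} (m : X ⟶ Y) :
    pushout.inl (fstP U X) (sndP U X) ≫ clMap U m = pushout.inl (fstP U Y) (sndP U Y) :=
  (pushout.inl_desc _ _ _).trans (Category.id_comp _)

noncomputable def clFunctor (U : Sheaf J (Type u)) : (Cᵒᵖ ⥤ Type u) ⥤ (Cᵒᵖ ⥤ Type u) where
  obj X := clP U.obj X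
  map m := clMap U.obj m
  map_id X := by
    apply pushout.hom_ext
    · rw [inl_clMap, Category.comp_id]
    · rw [inr_clMap, Category.id_comp, Category.comp_id]
  map_comp f g := by
    apply pushout.hom_ext
    · rw [inl_clMap, ← Category.assoc, inl_clMap, inl_clMap]
    · rw [inr_clMap, ← Category.assoc, inr_clMap, Category.assoc, Category.assoc, inr_clMap]

noncomputable abbrev LPF (U : Sheaf J (Type u)) : Sheaf J (Type u) ⥤ Sheaf J (Type u) :=
  sheafToPresheaf J (Type u) ⋙ clFunctor U ⋙ presheafToSheaf J (Type u)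

lemma η_naturality {X Y : Sheaf J (Type u)} (m : X ⟶ Y) : η U X ≫ (LPF U).map m = m ≫ η U Y := by
  apply Sheaf.hom_ext
  simp only [ObjectProperty.FullSubcategory.comp_hom]
  have h3 : toSheafify J (clP U.obj X.obj) ≫
      ((presheafToSheaf J (Type u)).map (clMap U.obj m.hom)).hom =
      clMap U.obj m.hom ≫ toSheafify J (clP U.obj Y.obj) := (toSheafify_naturality J _).symm
  rw [Category.assoc]
  erw [h3]
  exact (Category.assoc _ _ _).symm.trans (congrArg (· ≫ toSheafify J (clP U.obj Y.obj)) (inr_clMap U.obj m.hom)) |>.trans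
    (Category.assoc _ _ _)

lemma inr_naturality {X Y : Cᵒᵖ ⥤ Type u} (U : Sheaf J (Type u)) (m : X ⟶ Y) :
    m ≫ pushout.inr (fstP U.obj Y) (sndP U.obj Y) =
      pushout.inr (fstP U.obj X) (sndP U.obj X) ≫ (clFunctor U).map m :=
  (pushout.inr_desc _ _ _).symm

include hU in
theorem LPF_isPullback {P X Y Z : Sheaf J (Type u)} {a : P ⟶ X} {b : P ⟶ Y} {c : X ⟶ Z} {d : Y ⟶ Z}
    (h : IsPullback a b c d) :
    IsPullback ((LPF U).map a) ((LPF U).map b) ((LPF U).map c) ((LPF U).map d) := by
  have hs := open_subsingleton hU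
  have hp : IsPullback ((clFunctor U).map a.hom) ((clFunctor U).map b.hom)
      ((clFunctor U).map c.hom) ((clFunctor U).map d.hom) := by
    have w : (clFunctor U).map a.hom ≫ (clFunctor U).map c.hom =
        (clFunctor U).map b.hom ≫ (clFunctor U).map d.hom := by
      rw [← Functor.map_comp, ← Functor.map_comp]
      exact (clFunctor U).congr_map (congrArg (·.hom) h.w)
    refine ⟨⟨w⟩, ⟨evaluationJointlyReflectsLimits _ fun V =>
      (isLimitMapConePullbackConeEquiv _ _).symm (IsPullback.isLimit ?_)⟩⟩
    by_cases hV : Nonempty (U.obj.obj V)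
    · obtain ⟨u⟩ := hV
      have := hs V
      rw [Types.isPullback_iff]
      exact ⟨congr_app w V, fun x y _ => (clP_unique _ _ V u x).trans (clP_unique _ _ V u y).symm,
        fun x y _ => ⟨(pushout.inl (fstP U.obj P.obj) (sndP U.obj P.obj)).app V u,
          (clP_unique _ _ V u _).trans (clP_unique _ _ V u x).symm,
          (clP_unique _ _ V u _).trans (clP_unique _ _ V u y).symm⟩⟩
    · have hi : ∀ X : Cᵒᵖ ⥤ Type u, IsIso ((pushout.inr (fstP U.obj X) (sndP U.obj X)).app V) :=
        fun X => (isIso_iff_bijective _).2 (inr_bijective _ _ V (not_nonempty_iff.1 hV))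
      have h0 := h.map (sheafToPresheaf J (Type u) ⋙ (evaluation _ _).obj V)
      exact h0.of_iso (@asIso _ _ _ _ _ (hi P.obj))
        (@asIso _ _ _ _ _ (hi X.obj))
        (@asIso _ _ _ _ _ (hi Y.obj))
        (@asIso _ _ _ _ _ (hi Z.obj))
        (congr_app (inr_naturality U a.hom) V) (congr_app (inr_naturality U b.hom) V)
        (congr_app (inr_naturality U c.hom) V) (congr_app (inr_naturality U d.hom) V)
  exact hp.map (presheafToSheaf J (Type u))

section Glue

variable (L : Sheaf J (Type u) ⥤ (SGA4.closedCompl U).FullSubcategory)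
  (adj : L ⊣ (SGA4.closedCompl U).ι)

noncomputable def cmp (hU : SGA4.IsOpen U) (adj : L ⊣ (SGA4.closedCompl U).ι) (X : Sheaf J (Type u)) :
    LP U X ⟶ (L.obj X).obj :=
  ((η_universal hU X _ (L.obj X).property).2 (adj.unit.app X)).choose

lemma η_cmp (X : Sheaf J (Type u)) : η U X ≫ cmp L hU adj X = adj.unit.app X :=
  ((η_universal hU X _ (L.obj X).property).2 (adj.unit.app X)).choose_spec

include hU adj in
theorem L_isPullback {P X Y Z : Sheaf J (Type u)} {a : P ⟶ X} {b : P ⟶ Y} {c : X ⟶ Z} {d : Y ⟶ Z}
    (h : IsPullback a b c d) :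
    IsPullback (L.map a) (L.map b) (L.map c) (L.map d) := by
  let ι := (SGA4.closedCompl U).ι
  have hnat : ∀ {X Y : Sheaf J (Type u)} (f : X ⟶ Y),
      (LPF U).map f ≫ cmp L hU adj Y = cmp L hU adj X ≫ ι.map (L.map f) := by
    intro X Y f
    apply (η_universal hU X _ (L.obj Y).property).1
    simp only [ι]
    erw [← Category.assoc, η_naturality, Category.assoc, η_cmp, ← Category.assoc]
    erw [η_cmp]
    exact adj.unit.naturality f
  have hiso : ∀ X, IsIso (cmp L hU adj X) := by
    intro X
    let Z' : (SGA4.closedCompl U).FullSubcategory := ⟨LP U X, LP_closed hU X⟩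
    let r : L.obj X ⟶ Z' := (adj.homEquiv X Z').symm (η U X)
    have hr : adj.unit.app X ≫ r.hom = η U X := by
      have := (adj.homEquiv X Z').apply_symm_apply (η U X)
      rw [Adjunction.homEquiv_unit] at this
      exact this
    refine ⟨r.hom, (η_universal hU X _ (LP_closed hU X)).1 ?_, ?_⟩
    · simp only
      rw [← Category.assoc, η_cmp, hr, Category.comp_id]
    · have : r ≫ (ObjectProperty.homMk (cmp L hU adj X) : Z' ⟶ L.obj X) = 𝟙 _ := by
        apply (adj.homEquiv X _).injective
        rw [Adjunction.homEquiv_unit, Adjunction.homEquiv_unit, Functor.map_comp, CategoryTheory.Functor.map_id]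
        erw [Category.comp_id]
        change adj.unit.app X ≫ r.hom ≫ cmp L hU adj X = _
        rw [← Category.assoc, hr]
        exact η_cmp hU L adj X
      exact congrArg (·.hom) this
  refine IsPullback.of_map_of_faithful ι ?_
  have h1 := LPF_isPullback hU h
  exact h1.of_iso (@asIso _ _ _ _ _ (hiso P)) (@asIso _ _ _ _ _ (hiso X)) (@asIso _ _ _ _ _ (hiso Y))
    (@asIso _ _ _ _ _ (hiso Z)) (hnat a) (hnat b) (hnat c) (hnat d)

include hU adj in
theorem glue [(Over.star U).IsLeftAdjoint] :
    Nonempty (Sheaf J (Type u) ≌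
      Comma (𝟭 (SGA4.closedCompl U).FullSubcategory) ((Over.star U).rightAdjoint ⋙ L)) := by
  let j := Over.star U
  let k := (Over.star U).rightAdjoint
  let adjJ : j ⊣ k := Adjunction.ofIsLeftAdjoint (Over.star U)
  let ι := (SGA4.closedCompl U).ι
  -- `forget` is fully faithful
  have hmono : Mono (terminal.from U) := hU
  have hff : (Over.forget U).FullyFaithful :=
    { preimage := fun {A B} f => Over.homMk f (by
        rw [← cancel_mono (terminal.from U)]
        exact Subsingleton.elim _ _) }
  have hk : k.FullyFaithful :=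
    (Adjunction.Triple.mk (Over.forgetAdjStar U) adjJ).fullyFaithfulEquiv hff
  have := hk.full
  have := hk.faithful
  have hcJ : IsIso adjJ.counit := inferInstance
  have hLη : ∀ X, IsIso (L.map (adj.unit.app X)) := fun X => by
    exact ⟨adj.counit.app (L.obj X), adj.left_triangle_components X, by
      rw [← cancel_mono (adj.counit.app (L.obj X)), Category.assoc]
      erw [adj.left_triangle_components X]
      simp⟩
  have hjη : ∀ X, IsIso (j.map (adjJ.unit.app X)) := fun X => by
    exact ⟨adjJ.counit.app (j.obj X), adjJ.left_triangle_components X, by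
      rw [← cancel_mono (adjJ.counit.app (j.obj X)), Category.assoc]
      erw [adjJ.left_triangle_components X]
      simp⟩
  -- restriction to `U` kills the closed complement
  have hjterm : ∀ W : (SGA4.closedCompl U).FullSubcategory, Nonempty (IsTerminal (j.obj W.obj)) := by
    intro W
    have : IsIso (prod.fst : U ⨯ W.obj ⟶ U) := W.property
    refine ⟨Over.mkIdTerminal.ofIso (Over.isoMk (asIso (prod.fst : U ⨯ W.obj ⟶ U)).symm ?_)⟩
    change inv (prod.fst : U ⨯ W.obj ⟶ U) ≫ (j.obj W.obj).hom = 𝟙 U
    rw [show (j.obj W.obj).hom = prod.fst from (Over.star_obj_hom U W.obj).trans (prod.lift_fst _ _)]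
    exact IsIso.inv_hom_id _
  have hjι : ∀ {W W' : (SGA4.closedCompl U).FullSubcategory} (f : W ⟶ W'), IsIso (j.map (ι.map f)) := by
    intro W W' f
    exact ⟨(hjterm W).some.from _, (hjterm W).some.hom_ext _ _, (hjterm W').some.hom_ext _ _⟩
  -- the fracture square
  have hfr : ∀ X, IsPullback (adj.unit.app X) (adjJ.unit.app X) (ι.map (L.map (adjJ.unit.app X)))
      (adj.unit.app (k.obj (j.obj X))) := by
    intro X
    have hw : adj.unit.app X ≫ ι.map (L.map (adjJ.unit.app X)) =
        adjJ.unit.app X ≫ adj.unit.app (k.obj (j.obj X)) :=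
      (adj.unit.naturality (adjJ.unit.app X)).symm
    let c := pullback.lift (adj.unit.app X) (adjJ.unit.app X) hw
    have hpb := IsPullback.of_hasPullback (ι.map (L.map (adjJ.unit.app X))) (adj.unit.app (k.obj (j.obj X)))
    have : IsIso c := by
      rw [Groth.Agent.H5OpenClosed.isIso_iff U hU L adj]
      constructor
      · have := hjι (L.map (adjJ.unit.app X))
        have := (hpb.map j).isIso_snd_of_isIso
        have e : j.map c ≫ j.map (pullback.snd _ _) = j.map (adjJ.unit.app X) := by
          rw [← j.map_comp, pullback.lift_snd]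
        exact IsIso.of_isIso_fac_right e
      · have := hLη (k.obj (j.obj X))
        have := (L_isPullback hU L adj hpb).isIso_fst_of_isIso
        have e : L.map c ≫ L.map (pullback.fst _ _) = L.map (adj.unit.app X) := by
          rw [← L.map_comp, pullback.lift_fst]
        have := hLη X
        exact IsIso.of_isIso_fac_right e
    exact hpb.of_iso (asIso c).symm (Iso.refl _) (Iso.refl _) (Iso.refl _)
      (by rw [Iso.refl_hom, Category.comp_id, Iso.symm_hom, asIso_inv, IsIso.eq_inv_comp]; exact pullback.lift_fst _ _ _)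
      (by rw [Iso.refl_hom, Category.comp_id, Iso.symm_hom, asIso_inv, IsIso.eq_inv_comp]; exact pullback.lift_snd _ _ _)
      (by simp) (by simp)
  let Φ : Sheaf J (Type u) ⥤ Comma (𝟭 (SGA4.closedCompl U).FullSubcategory) (k ⋙ L) :=
    { obj := fun X => { left := L.obj X, right := j.obj X, hom := L.map (adjJ.unit.app X) }
      map := fun {X Y} f => ⟨L.map f, j.map f, by
        dsimp
        rw [← L.map_comp, ← L.map_comp]
        exact L.congr_map (adjJ.unit.naturality f)⟩ }
  have : Φ.Faithful := ⟨fun {X Y} f g hfg => by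
    refine (hfr Y).hom_ext ?_ ?_
    · have e1 := adj.unit.naturality f
      have e2 := adj.unit.naturality g
      simp only [Functor.id_map, Functor.comp_map] at e1 e2
      rw [e1, e2, show L.map f = L.map g from congrArg (·.left) hfg]
    · have e1 := adjJ.unit.naturality f
      have e2 := adjJ.unit.naturality g
      simp only [Functor.id_map, Functor.comp_map] at e1 e2
      rw [e1, e2, show j.map f = j.map g from congrArg (·.right) hfg]⟩
  have : Φ.Full := ⟨fun {X Y} φ => by
    have hφ : φ.left ≫ L.map (adjJ.unit.app Y) = L.map (adjJ.unit.app X) ≫ L.map (k.map φ.right) := φ.w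
    have hw : (adj.unit.app X ≫ ι.map φ.left) ≫ ι.map (L.map (adjJ.unit.app Y)) =
        (adjJ.unit.app X ≫ k.map φ.right) ≫ adj.unit.app (k.obj (j.obj Y)) := by
      rw [Category.assoc, ← ι.map_comp, hφ, ← L.map_comp]
      exact (adj.unit.naturality _).symm
    obtain ⟨f, hf1, hf2⟩ := (hfr Y).exists_lift _ _ hw
    refine ⟨f, CommaMorphism.ext ?_ ?_⟩
    · apply (adj.homEquiv X _).injective
      rw [Adjunction.homEquiv_unit, Adjunction.homEquiv_unit]
      exact ((adj.unit.naturality f).symm.trans hf1 :)
    · apply (adjJ.homEquiv X _).injective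
      rw [Adjunction.homEquiv_unit, Adjunction.homEquiv_unit]
      exact ((adjJ.unit.naturality f).symm.trans hf2 :)⟩
  have : Φ.EssSurj := ⟨fun T => by
    let P := pullback (ι.map T.hom) (adj.unit.app (k.obj T.right))
    have hpb := IsPullback.of_hasPullback (ι.map T.hom) (adj.unit.app (k.obj T.right))
    have := hLη (k.obj T.right)
    have := (L_isPullback hU L adj hpb).isIso_fst_of_isIso
    have := hjι T.hom
    have := (hpb.map j).isIso_snd_of_isIso
    have : IsIso (adj.counit.app T.left) := inferInstance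
    let eL : L.obj P ≅ T.left := asIso (L.map (pullback.fst _ _)) ≪≫ asIso (adj.counit.app T.left)
    let eR : j.obj P ≅ T.right := asIso (j.map (pullback.snd _ _)) ≪≫ asIso (adjJ.counit.app T.right)
    refine ⟨P, ⟨Comma.isoMk eL eR ?_⟩⟩
    change (L.map (pullback.fst _ _) ≫ adj.counit.app T.left) ≫ T.hom =
      L.map (adjJ.unit.app P) ≫ L.map (k.map (j.map (pullback.snd _ _) ≫ adjJ.counit.app T.right))
    rw [k.map_comp, ← L.map_comp, ← Category.assoc (adjJ.unit.app P)]
    have e1 : adjJ.unit.app P ≫ k.map (j.map (pullback.snd (ι.map T.hom) (adj.unit.app (k.obj T.right)))) =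
        pullback.snd _ _ ≫ adjJ.unit.app (k.obj T.right) := (adjJ.unit.naturality _).symm
    rw [e1, Category.assoc (pullback.snd _ _), adjJ.right_triangle_components]
    erw [Category.comp_id]
    apply (adj.homEquiv P _).injective
    rw [Adjunction.homEquiv_unit, Adjunction.homEquiv_unit]
    have e2 := adj.unit.naturality (pullback.snd (ι.map T.hom) (adj.unit.app (k.obj T.right)))
    have e3 := adj.unit.naturality (pullback.fst (ι.map T.hom) (adj.unit.app (k.obj T.right)))
    simp only [Functor.id_map, Functor.comp_map] at e2 e3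
    refine Eq.trans ?_ ((pullback.condition (f := ι.map T.hom) (g := adj.unit.app (k.obj T.right))).trans e2)
    rw [Functor.map_comp, Functor.map_comp, ← Category.assoc, ← Category.assoc]
    refine congrArg (· ≫ ι.map T.hom) ?_
    rw [← e3, Category.assoc]
    erw [adj.right_triangle_components T.left]
    exact Category.comp_id _⟩
  have : Φ.IsEquivalence := {}
  exact ⟨Φ.asEquivalence⟩

end Glue

end Groth.Agent.H5Glue
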