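import Mathlib
import Groth.Prelude
import Groth.Agent.Lib.H5Glue

universe v u

open CategoryTheory CategoryTheory.Limits Opposite
open Groth.Agent.H5OpenClosed Groth.Agent.H5Glue

namespace Groth.Agent.H5ClosedCompl

variable {C : Type u} [SmallCategory C] {J : GrothendieckTopology C}
variable {U : Sheaf J (Type u)} (hU : SGA4.IsOpen U)

def prodPIsLimit (A B : Cᵒᵖ ⥤ Type u) : IsLimit (BinaryFan.mk (fstP A B) (sndP A B)) :=
  BinaryFan.isLimitMk
    (fun s => { app := fun V => ↾fun x => ((s.fst.app V x, s.snd.app V x) : A.obj V × B.obj V)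
                naturality := fun V W g => by
                  ext x
                  have h1 := ConcreteCategory.congr_hom (s.fst.naturality g) x
                  have h2 := ConcreteCategory.congr_hom (s.snd.naturality g) x
                  exact Prod.ext h1 h2 })
    (fun s => rfl) (fun s => rfl)
    (fun s m h₁ h₂ => by
      ext V x
      have e1 := ConcreteCategory.congr_hom (congr_app h₁ V) x
      have e2 := ConcreteCategory.congr_hom (congr_app h₂ V) x
      exact Prod.ext e1 e2)

theorem inv_counit_comp (X : Sheaf J (Type u)) :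
    inv ((sheafificationAdjunction J (Type u)).counit.app X) ≫
      (presheafToSheaf J (Type u)).map (pushout.inr (fstP U.obj X.obj) (sndP U.obj X.obj)) = η U X := by
  rw [IsIso.inv_comp_eq]
  apply ((sheafificationAdjunction J (Type u)).homEquiv _ _).injective
  rw [Adjunction.homEquiv_unit, Adjunction.homEquiv_unit, Functor.map_comp, ← Category.assoc]
  erw [← (sheafificationAdjunction J (Type u)).unit.naturality]
  erw [(sheafificationAdjunction J (Type u)).right_triangle_components X, Category.id_comp]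
  rfl

theorem pushout_iso (X : Sheaf J (Type u)) :
    ∃ e : pushout (prod.fst : U ⨯ X ⟶ U) (prod.snd : U ⨯ X ⟶ X) ≅ LP U X,
      pushout.inr (prod.fst : U ⨯ X ⟶ U) (prod.snd : U ⨯ X ⟶ X) ≫ e.hom = η U X := by
  let L := presheafToSheaf J (Type u)
  let ε := (sheafificationAdjunction J (Type u)).counit
  have hl := isLimitMapConeBinaryFanEquiv L (fstP U.obj X.obj) (sndP U.obj X.obj)
    (isLimitOfPreserves L (prodPIsLimit U.obj X.obj))
  let e1 : L.obj (prodP U.obj X.obj) ≅ U ⨯ X :=
    hl.conePointUniqueUpToIso (limit.isLimit _) ≪≫ prod.mapIso (asIso (ε.app U)) (asIso (ε.app X))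
  have h1 : e1.hom ≫ prod.fst = L.map (fstP U.obj X.obj) ≫ ε.app U := by
    simp only [e1, Iso.trans_hom, prod.mapIso_hom, Category.assoc, prod.map_fst, asIso_hom]
    rw [← Category.assoc]
    congr 1
    exact hl.conePointUniqueUpToIso_hom_comp (limit.isLimit _) ⟨WalkingPair.left⟩
  have h2 : e1.hom ≫ prod.snd = L.map (sndP U.obj X.obj) ≫ ε.app X := by
    simp only [e1, Iso.trans_hom, prod.mapIso_hom, Category.assoc, prod.map_snd, asIso_hom]
    rw [← Category.assoc]
    congr 1
    exact hl.conePointUniqueUpToIso_hom_comp (limit.isLimit _) ⟨WalkingPair.right⟩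
  have hp : IsPushout (prod.fst : U ⨯ X ⟶ U) (prod.snd : U ⨯ X ⟶ X)
      (inv (ε.app U) ≫ L.map (pushout.inl (fstP U.obj X.obj) (sndP U.obj X.obj))) (η U X) :=
    ((IsPushout.of_hasPushout (fstP U.obj X.obj) (sndP U.obj X.obj)).map L).of_iso e1
      (asIso (ε.app U)) (asIso (ε.app X)) (Iso.refl _) h1.symm h2.symm
      (by simp [L, ε])
      (by rw [← inv_counit_comp X]; simp [L, ε])
  exact ⟨hp.isoPushout.symm, hp.inr_isoPushout_inv⟩

include hU in
theorem closed_of_iso {X Z : Sheaf J (Type u)} (hZ : SGA4.closedCompl U Z) (e : X ≅ Z) :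
    SGA4.closedCompl U X := by
  rw [closedCompl_iff hU] at hZ ⊢
  intro V hV
  exact ⟨@Equiv.unique _ _ (hZ V hV).some (((sheafToPresheaf J (Type u)).mapIso e).app V).toEquiv⟩

include hU in
theorem isIso_η_of_closed {X : Sheaf J (Type u)} (hX : SGA4.closedCompl U X) : IsIso (η U X) := by
  obtain ⟨g, hg⟩ := (η_universal hU X X hX).2 (𝟙 X)
  refine ⟨g, hg, (η_universal hU X _ (LP_closed hU X)).1 ?_⟩
  simp only at hg ⊢
  rw [← Category.assoc, hg, Category.id_comp, Category.comp_id]

include hU in
theorem closedCompl_iff_isIso_toPushout (X : Sheaf J (Type u)) :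
    (SGA4.closedCompl U X ↔ IsIso (pushout.inr (prod.fst : U ⨯ X ⟶ U) (prod.snd : U ⨯ X ⟶ X))) ∧
    ((∃ Y : Sheaf J (Type u), Nonempty (X ≅ pushout (prod.fst : U ⨯ Y ⟶ U) (prod.snd : U ⨯ Y ⟶ Y))) →
      SGA4.closedCompl U X) := by
  refine ⟨?_, fun ⟨Y, ⟨i⟩⟩ => ?_⟩
  · obtain ⟨e, he⟩ := pushout_iso (U := U) X
    constructor
    · intro h
      have := isIso_η_of_closed hU h
      rw [← he] at this
      exact IsIso.of_isIso_comp_right _ e.hom
    · intro h
      exact closed_of_iso hU (LP_closed hU X) (asIso (pushout.inr _ _) ≪≫ e)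
  · obtain ⟨e, -⟩ := pushout_iso (U := U) Y
    exact closed_of_iso hU (LP_closed hU Y) (i ≪≫ e)

include hU in
theorem lex_reflective :
    ∃ (L : Sheaf J (Type u) ⥤ (SGA4.closedCompl U).FullSubcategory) (_ : L ⊣ (SGA4.closedCompl U).ι),
      PreservesFiniteLimits L ∧
      ∀ X : Sheaf J (Type u), Nonempty (((SGA4.closedCompl U).ι).obj (L.obj X) ≅
        pushout (prod.fst : U ⨯ X ⟶ U) (prod.snd : U ⨯ X ⟶ X)) := by
  let L : Sheaf J (Type u) ⥤ (SGA4.closedCompl U).FullSubcategory :=
    ObjectProperty.lift _ (LPF U) (LP_closed hU)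
  let adj : L ⊣ (SGA4.closedCompl U).ι := Adjunction.mkOfHomEquiv
    { homEquiv := fun X Z =>
        ({ toFun := fun g => g.hom, invFun := fun g => ObjectProperty.homMk g,
           left_inv := fun _ => rfl, right_inv := fun _ => rfl } : (L.obj X ⟶ Z) ≃ (LP U X ⟶ Z.obj)).trans
          (Equiv.ofBijective _ (η_universal hU X Z.obj Z.property))
      homEquiv_naturality_left_symm := fun {X' X Z} f g => by
        rw [Equiv.symm_apply_eq]
        obtain ⟨g', hg'⟩ := (η_universal hU X Z.obj Z.property).2 g
        change f ≫ g = η U X' ≫ ((LPF U).map f ≫ (Equiv.ofBijective _ (η_universal hU X Z.obj Z.property)).symm g)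
        refine Eq.trans ?_ (Category.assoc _ _ _)
        refine Eq.trans ?_ (congrArg (· ≫ _) (Groth.Agent.H5Glue.η_naturality f).symm)
        refine Eq.trans ?_ (Category.assoc _ _ _).symm
        exact congrArg (f ≫ ·) ((Equiv.ofBijective _ (η_universal hU X Z.obj Z.property)).apply_symm_apply g).symm
      homEquiv_naturality_right := fun {X Z Z'} g h => (Category.assoc (η U X) g.hom h.hom).symm }
  refine ⟨L, adj, ?_, fun X => ⟨(pushout_iso (U := U) X).choose.symm⟩⟩
  have : PreservesLimitsOfShape WalkingCospan L := ⟨fun {K} => by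
    suffices PreservesLimit (cospan (K.map WalkingCospan.Hom.inl) (K.map WalkingCospan.Hom.inr)) L from
      preservesLimit_of_iso_diagram L (diagramIsoCospan K).symm
    exact preservesLimit_of_preserves_limit_cone (pullbackIsPullback (K.map WalkingCospan.Hom.inl) (K.map WalkingCospan.Hom.inr))
      ((isLimitMapConePullbackConeEquiv L pullback.condition).symm
        (L_isPullback hU L adj (IsPullback.of_hasPullback (K.map WalkingCospan.Hom.inl) (K.map WalkingCospan.Hom.inr))).isLimit)⟩
  have hT : SGA4.closedCompl U (⊤_ _) := by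
    rw [closedCompl_iff hU]
    intro V _
    exact ⟨Types.isTerminalEquivUnique _ (IsTerminal.isTerminalObj
      (sheafToPresheaf J (Type u) ⋙ (evaluation _ _).obj V) _ terminalIsTerminal)⟩
  let Z0 : (SGA4.closedCompl U).FullSubcategory := L.obj (⊤_ _)
  have ht : IsTerminal Z0.obj := terminalIsTerminal.ofIso (@asIso _ _ _ _ _ (isIso_η_of_closed hU hT))
  have : PreservesLimit (Functor.empty.{0} _) L := preservesLimit_of_preserves_limit_cone terminalIsTerminal
    ((isLimitMapConeEmptyConeEquiv L _).symm (IsTerminal.ofUniqueHom (Y := Z0) (fun W => ObjectProperty.homMk (ht.from _))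
      (fun W m => ObjectProperty.hom_ext _ (ht.hom_ext _ _))))
  have : PreservesLimitsOfShape (Discrete PEmpty.{1}) L :=
    preservesLimitsOfShape_pempty_of_preservesTerminal L
  exact preservesFiniteLimits_of_preservesTerminal_and_pullbacks L

end Groth.Agent.H5ClosedCompl
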