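import Mathlib
set_option autoImplicit false
universe u
open Set Topology

namespace Groth.Agent.H5CompactCech
variable {X : Type u} [TopologicalSpace X]

theorem sep_compact {Z : Set X}
    (hZsep : ∀ z ∈ Z, ∀ z' ∈ Z, z ≠ z' → ∃ A B : Set X, IsOpen A ∧ IsOpen B ∧ z ∈ A ∧ z' ∈ B ∧ Disjoint A B)
    {L M : Set X} (hL : IsCompact L) (hM : IsCompact M) (hLZ : L ⊆ Z) (hMZ : M ⊆ Z) (hd : Disjoint L M) :
    ∃ A B : Set X, IsOpen A ∧ IsOpen B ∧ L ⊆ A ∧ M ⊆ B ∧ Disjoint A B := by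
  classical
  have h1 : ∀ x ∈ L, ∃ A B : Set X, IsOpen A ∧ IsOpen B ∧ x ∈ A ∧ M ⊆ B ∧ Disjoint A B := by
    intro x hx
    choose A B hA hB hxA hzB hAB using fun z : M =>
      hZsep x (hLZ hx) z.1 (hMZ z.2) (fun e => Set.disjoint_left.1 hd hx (e ▸ z.2))
    obtain ⟨t, ht⟩ := hM.elim_finite_subcover B hB (fun z hz => mem_iUnion.2 ⟨⟨z, hz⟩, hzB ⟨z, hz⟩⟩)
    refine ⟨⋂ z ∈ t, A z, ⋃ z ∈ t, B z, isOpen_biInter_finset fun z _ => hA z, isOpen_biUnion fun z _ => hB z,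
      mem_iInter₂.2 fun z _ => hxA z, ht, Set.disjoint_left.2 fun a ha hb => ?_⟩
    obtain ⟨z, hz, hb⟩ := mem_iUnion₂.1 hb
    exact Set.disjoint_left.1 (hAB z) (mem_iInter₂.1 ha z hz) hb
  choose A B hA hB hxA hMB hAB using fun x : L => h1 x.1 x.2
  obtain ⟨t, ht⟩ := hL.elim_finite_subcover A hA (fun x hx => mem_iUnion.2 ⟨⟨x, hx⟩, hxA ⟨x, hx⟩⟩)
  refine ⟨⋃ z ∈ t, A z, ⋂ z ∈ t, B z, isOpen_biUnion fun z _ => hA z, isOpen_biInter_finset fun z _ => hB z,
    ht, fun m hm => mem_iInter₂.2 fun z _ => hMB z hm, Set.disjoint_left.2 fun a ha hb => ?_⟩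
  obtain ⟨z, hz, ha⟩ := mem_iUnion₂.1 ha
  exact Set.disjoint_left.1 (hAB z) ha (mem_iInter₂.1 hb z hz)

variable {Z : Set X}
  (hZsep : ∀ z ∈ Z, ∀ z' ∈ Z, z ≠ z' → ∃ A B : Set X, IsOpen A ∧ IsOpen B ∧ z ∈ A ∧ z' ∈ B ∧ Disjoint A B)
include hZsep

theorem inter_compact {L M : Set X} (hL : IsCompact L) (hM : IsCompact M) (hLZ : L ⊆ Z) (hMZ : M ⊆ Z) :
    IsCompact (L ∩ M) := by
  have : ∀ x ∈ L \ M, ∃ A : Set X, IsOpen A ∧ x ∈ A ∧ Disjoint A M := fun x hx => by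
    obtain ⟨A, B, hA, _, hxA, hMB, hAB⟩ :=
      sep_compact hZsep isCompact_singleton hM (singleton_subset_iff.2 (hLZ hx.1)) hMZ (Set.disjoint_singleton_left.2 hx.2)
    exact ⟨A, hA, hxA rfl, hAB.mono_right hMB⟩
  choose A hA hxA hAM using this
  have e : L ∩ M = L \ ⋃ (x) (hx : x ∈ L \ M), A x hx := by
    ext y
    simp only [mem_inter_iff, mem_sdiff, mem_iUnion, not_exists]
    exact ⟨fun h => ⟨h.1, fun x hx hy => Set.disjoint_left.1 (hAM x hx) hy h.2⟩,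
      fun h => ⟨h.1, by_contra fun hn => h.2 y ⟨h.1, hn⟩ (hxA y ⟨h.1, hn⟩)⟩⟩
  rw [e]
  exact hL.diff (isOpen_iUnion fun x => isOpen_iUnion fun hx => hA x hx)

theorem exists_nhds_inter_subset : ∀ (m : ℕ) (K : Fin (m + 1) → Set X), (∀ l, IsCompact (K l)) → (∀ l, K l ⊆ Z) →
    ∀ W : Set X, IsOpen W → (⋂ l, K l) ⊆ W →
      ∃ O : Fin (m + 1) → Set X, (∀ l, IsOpen (O l)) ∧ (∀ l, K l ⊆ O l) ∧ (⋂ l, O l) ⊆ W := by
  intro m
  induction m with
  | zero =>
    intro K _ _ W hW hKW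
    refine ⟨fun _ => W, fun _ => hW, fun l x hx => hKW (mem_iInter.2 fun l' => ?_), fun x hx => mem_iInter.1 hx 0⟩
    rwa [(Fin.fin_one_eq_zero l').trans (Fin.fin_one_eq_zero l).symm]
  | succ m ih =>
    intro K hK hKZ W hW hKW
    have hM : IsCompact (⋂ l : Fin (m + 1), K l.succ) := by
      have : ∀ s : Finset (Fin (m + 1)), s.Nonempty → IsCompact (⋂ l ∈ s, K l.succ) := by
        intro s hs
        induction hs using Finset.Nonempty.cons_induction with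
        | singleton a => simpa using hK a.succ
        | cons a s ha hs ihs =>
          rw [Finset.cons_eq_insert, Finset.set_biInter_insert]
          refine inter_compact hZsep (hK _) ihs (hKZ _) ?_
          obtain ⟨b, hb⟩ := hs
          exact (biInter_subset_of_mem hb).trans (hKZ _)
      simpa using this Finset.univ Finset.univ_nonempty
    have hMZ : (⋂ l : Fin (m + 1), K l.succ) ⊆ Z := (iInter_subset _ 0).trans (hKZ _)
    obtain ⟨A, B, hA, hB, hLA, hMB, hAB⟩ := sep_compact hZsep ((hK 0).diff hW) hM (sdiff_subset.trans (hKZ 0)) hMZ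
      (Set.disjoint_left.2 fun x hx hx' => hx.2 (hKW (mem_iInter.2 fun l => by
        induction l using Fin.cases with
        | zero => exact hx.1
        | succ l => exact mem_iInter.1 hx' l)))
    obtain ⟨O, hO, hKO, hOB⟩ := ih (fun l => K l.succ) (fun l => hK _) (fun l => hKZ _) B hB hMB
    refine ⟨Fin.cases (A ∪ W) O, fun l => ?_, fun l => ?_, fun x hx => ?_⟩
    · induction l using Fin.cases with
      | zero => exact hA.union hW
      | succ l => exact hO l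
    · induction l using Fin.cases with
      | zero => intro x hx; by_cases hxW : x ∈ W
                · exact Or.inr hxW
                · exact Or.inl (hLA ⟨hx, hxW⟩)
      | succ l => exact hKO l
    · rw [mem_iInter] at hx
      rcases hx 0 with h | h
      · exact absurd (hOB (mem_iInter.2 fun l => hx l.succ)) (Set.disjoint_left.1 hAB h)
      · exact h

/-- shrinking a finite cover of a compact subset by compact pieces -/
theorem exists_compact_pieces (hZ : IsCompact Z) {ι : Type u} (U : ι → Set X) (hU : ∀ i, IsOpen (U i))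
    (hcov : Z ⊆ ⋃ i, U i) : ∃ (s : Finset ι) (K : ι → Set X), (∀ i, IsCompact (K i)) ∧ (∀ i, K i ⊆ U i) ∧
      (∀ i, K i ⊆ Z) ∧ (∀ i ∉ s, K i = ∅) ∧ Z ⊆ ⋃ i, K i := by
  classical
  obtain ⟨s, hs⟩ := hZ.elim_finite_subcover U hU hcov
  have : CompactSpace Z := isCompact_iff_compactSpace.1 hZ
  have : T2Space Z := ⟨fun a b hab => by
    obtain ⟨A, B, hA, hB, ha, hb, hAB⟩ := hZsep a a.2 b b.2 (fun e => hab (Subtype.ext e))
    exact ⟨_, _, hA.preimage continuous_subtype_val, hB.preimage continuous_subtype_val, ha, hb, hAB.preimage _⟩⟩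
  obtain ⟨K, hKcov, hKc, hK⟩ := exists_iUnion_eq_closed_subset
    (u := fun i : s => (Subtype.val ⁻¹' U i.1 : Set Z)) (fun i => (hU i.1).preimage continuous_subtype_val)
    (fun _ => toFinite _) (by
      ext z; simp only [mem_iUnion, mem_univ, iff_true]
      obtain ⟨i, hi, hz⟩ := mem_iUnion₂.1 (hs z.2)
      exact ⟨⟨i, hi⟩, hz⟩)
  refine ⟨s, fun i => if h : i ∈ s then Subtype.val '' K ⟨i, h⟩ else ∅, fun i => ?_, fun i => ?_, fun i => ?_,
    fun i hi => dif_neg hi, fun z hz => ?_⟩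
  · by_cases h : i ∈ s
    · simpa [dif_pos h] using (hKc ⟨i, h⟩).isCompact.image continuous_subtype_val
    · simp [dif_neg h]
  · by_cases h : i ∈ s
    · simp only [dif_pos h]; rintro _ ⟨a, ha, rfl⟩; exact hK ⟨i, h⟩ ha
    · simp [dif_neg h]
  · by_cases h : i ∈ s
    · simp only [dif_pos h]; rintro _ ⟨a, _, rfl⟩; exact a.2
    · simp [dif_neg h]
  · obtain ⟨i, hi⟩ := mem_iUnion.1 (show (⟨z, hz⟩ : Z) ∈ ⋃ i, K i from hKcov.symm ▸ mem_univ _)
    refine mem_iUnion.2 ⟨i.1, ?_⟩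
    simp only [dif_pos i.2]
    exact ⟨_, hi, rfl⟩

theorem exists_lifting_cover (hZ : IsCompact Z) {ι : Type u} (U : ι → Set X) (hU : ∀ i, IsOpen (U i))
    (hcov : Z ⊆ ⋃ i, U i) (p : ℕ) (W : (Fin (p + 1) → ι) → Set X) (hWo : ∀ t, IsOpen (W t))
    (hWZ : ∀ t, W t ∩ Z = (⋂ l, U (t l)) ∩ Z) :
    ∃ (K V : ι → Set X), (∀ i, IsCompact (K i) ∧ K i ⊆ U i) ∧ (∀ i, IsOpen (V i)) ∧ (∀ i, K i ⊆ V i) ∧
      (Z ⊆ ⋃ i, K i) ∧ (∀ i, V i ⊆ U i) ∧
      (∀ i, closure (V i) ∩ Z ⊆ U i) ∧ (∀ t : Fin (p + 1) → ι, (⋂ l, V (t l)) ⊆ W t) := by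
  classical
  obtain ⟨s, K, hKc, hKU, hKZ, hKs, hKcov⟩ := exists_compact_pieces hZsep hZ U hU hcov
  choose A B hA hB hKA hCB hAB using fun i => sep_compact hZsep (hKc i) (hZ.diff (hU i)) (hKZ i) sdiff_subset
    (Set.disjoint_left.2 fun x hx hx' => hx'.2 (hKU i hx))
  have hstep : ∀ t : Fin (p + 1) → ι, ∃ O : Fin (p + 1) → Set X,
      (∀ l, IsOpen (O l)) ∧ (∀ l, K (t l) ⊆ O l) ∧ (⋂ l, O l) ⊆ W t := fun t =>
    exists_nhds_inter_subset hZsep p _ (fun l => hKc _) (fun l => hKZ _) _ (hWo t) fun x hx => by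
      rw [mem_iInter] at hx
      have : x ∈ (⋂ l, U (t l)) ∩ Z := ⟨mem_iInter.2 fun l => hKU _ (hx l), hKZ _ (hx 0)⟩
      rw [← hWZ] at this
      exact this.1
  choose O hO hKO hOW using hstep
  let T : Finset (Fin (p + 1) → ι) := Fintype.piFinset fun _ => s
  let V : ι → Set X := fun i => if i ∈ s then (U i ∩ A i) ∩ ⋂ t ∈ T, ⋂ (l) (_ : t l = i), O t l else ∅
  refine ⟨K, V, fun i => ⟨hKc i, hKU i⟩, fun i => ?_, fun i => ?_, hKcov, fun i => ?_, fun i => ?_, fun t x hx => ?_⟩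
  · by_cases h : i ∈ s
    · simp only [V, if_pos h]
      exact ((hU i).inter (hA i)).inter (isOpen_biInter_finset fun t _ => isOpen_iInter_of_finite fun l =>
        isOpen_iInter_of_finite fun _ => hO t l)
    · simp [V, if_neg h]
  · by_cases h : i ∈ s
    · simp only [V, if_pos h]
      refine subset_inter (subset_inter (hKU i) (hKA i)) (subset_iInter₂ fun t _ => subset_iInter fun l => subset_iInter fun hl => ?_)
      subst hl; exact hKO t l
    · simp [hKs i h]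
  · by_cases h : i ∈ s
    · simp only [V, if_pos h]; exact fun x hx => hx.1.1
    · simp [V, if_neg h]
  · by_cases h : i ∈ s
    · rintro x ⟨hx, hxZ⟩
      by_contra hn
      have h1 : x ∈ closure (A i) := closure_mono (fun y hy => by simp only [V, if_pos h] at hy; exact hy.1.2) hx
      exact Set.disjoint_left.1 ((hAB i).closure_left (hB i)) h1 (hCB i ⟨hxZ, hn⟩)
    · simp [V, if_neg h]
  · rw [mem_iInter] at hx
    have hts : ∀ l, t l ∈ s := fun l => by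
      by_contra hn
      simpa [V, if_neg hn] using hx l
    refine hOW t (mem_iInter.2 fun l => ?_)
    have := hx l
    simp only [V, if_pos (hts l)] at this
    exact mem_iInter.1 (mem_iInter.1 (mem_iInter₂.1 this.2 t (Fintype.mem_piFinset.2 hts)) l) rfl

omit hZsep in
theorem exists_lifting_cover_locallyCompact [T2Space X] [LocallyCompactSpace X] (hZ : IsCompact Z)
    {ι : Type u} (U : ι → Set X) (hU : ∀ i, IsOpen (U i)) (hcov : Z ⊆ ⋃ i, U i) (p : ℕ)
    (W : (Fin (p + 1) → ι) → Set X) (hWo : ∀ t, IsOpen (W t)) (hWZ : ∀ t, W t ∩ Z = (⋂ l, U (t l)) ∩ Z) :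
    ∃ V : ι → Set X, (∀ i, IsOpen (V i)) ∧ (Z ⊆ ⋃ i, V i) ∧ (∀ i, closure (V i) ⊆ U i) ∧
      (∀ t : Fin (p + 1) → ι, (⋂ l, V (t l)) ⊆ W t) := by
  have hs : ∀ z ∈ Z, ∀ z' ∈ Z, z ≠ z' → ∃ A B : Set X, IsOpen A ∧ IsOpen B ∧ z ∈ A ∧ z' ∈ B ∧ Disjoint A B :=
    fun z _ z' _ h => t2_separation h
  obtain ⟨K, V, hK, hV, hKV, hKcov, -, -, hVW⟩ := exists_lifting_cover hs hZ U hU hcov p W hWo hWZ
  choose C hCc hKC hCU using fun i => exists_compact_between (hK i).1 (hU i) (hK i).2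
  refine ⟨fun i => V i ∩ interior (C i), fun i => (hV i).inter isOpen_interior,
    hKcov.trans (iUnion_mono fun i => subset_inter (hKV i) (hKC i)), fun i => ?_,
    fun t => (iInter_mono fun l => inter_subset_left).trans (hVW t)⟩
  exact (closure_minimal (inter_subset_right.trans interior_subset) (hCc i).isClosed).trans (hCU i)

omit hZsep in
theorem exists_cech_refinement [CompactSpace X] [T2Space X] {ι : Type u} (U : ι → Set X)
    (hU : ∀ i, IsOpen (U i)) (hcov : ⋃ i, U i = univ) (p : ℕ) (W : (Fin (p + 1) → ι) → Set (Set X))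
    (hWo : ∀ t, ∀ w ∈ W t, IsOpen w) (hWc : ∀ t, ⋃₀ W t = ⋂ l, U (t l)) (hWne : ∀ t, (W t).Nonempty) :
    ∃ (J : Type u) (V : J → Set X) (α : J → ι), (∀ j, IsOpen (V j)) ∧ (⋃ j, V j = univ) ∧
      (∀ j, closure (V j) ⊆ U (α j)) ∧
      (∀ t : Fin (p + 1) → J, ∃ w ∈ W (α ∘ t), (⋂ l, V (t l)) ⊆ w) := by
  classical
  have hcov' : univ ⊆ ⋃ i, U i := hcov.ge
  obtain ⟨s, hs⟩ := isCompact_univ.elim_finite_subcover U hU hcov'
  have hchoice : ∀ x, ∃ i ∈ s, x ∈ U i := fun x => by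
    obtain ⟨i, hi, hx⟩ := mem_iUnion₂.1 (hs (mem_univ x)); exact ⟨i, hi, hx⟩
  choose α hαs hα using hchoice
  choose C hCc hxC hCU using fun x => exists_compact_subset (hU (α x)) (hα x)
  obtain ⟨T, hT⟩ := isCompact_univ.elim_finite_subcover (fun x => interior (C x)) (fun _ => isOpen_interior)
    (fun x _ => mem_iUnion.2 ⟨x, hxC x⟩)
  let K : ι → Set X := fun i => ⋃ x ∈ T.filter (fun x => α x = i), C x
  have hKc : ∀ i, IsClosed (K i) := fun i =>
    isClosed_biUnion_finset fun x _ => (hCc x).isClosed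
  have hKU : ∀ i, K i ⊆ U i := fun i x hx => by
    obtain ⟨y, hy, hx⟩ := mem_iUnion₂.1 hx
    rw [← (Finset.mem_filter.1 hy).2]; exact hCU y hx
  have hb : ∀ x, ∃ y ∈ T, x ∈ interior (C y) := fun x => by
    obtain ⟨y, hy, hx⟩ := mem_iUnion₂.1 (hT (mem_univ x)); exact ⟨y, hy, hx⟩
  choose b hbT hxb using hb
  let β : X → ι := fun x => α (b x)
  let S : Finset ι := T.image α
  let tup : Finset (Fin (p + 1) → ι) := Fintype.piFinset fun _ => S
  have hw : ∀ (x : X) (t : Fin (p + 1) → ι), ∃ w ∈ W t, (∀ l, x ∈ K (t l)) → x ∈ w := fun x t => by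
    by_cases h : ∀ l, x ∈ K (t l)
    · obtain ⟨w, hw, hxw⟩ : x ∈ ⋃₀ W t := (hWc t).symm ▸ mem_iInter.2 fun l => hKU _ (h l)
      exact ⟨w, hw, fun _ => hxw⟩
    · exact ⟨(hWne t).some, (hWne t).some_mem, fun h' => absurd h' h⟩
  choose w hwW hxw using hw
  let N : X → Set X := fun x => interior (C (b x)) ∩ (⋂ i ∈ S.filter (fun i => x ∉ K i), (K i)ᶜ) ∩
    ⋂ t ∈ tup.filter (fun t => ∀ l, x ∈ K (t l)), w x t
  have hxN : ∀ x, x ∈ N x := fun x =>
    ⟨⟨hxb x, mem_iInter₂.2 fun i hi => (Finset.mem_filter.1 hi).2⟩,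
      mem_iInter₂.2 fun t ht => hxw x t (Finset.mem_filter.1 ht).2⟩
  refine ⟨X, N, β, fun x => ?_, eq_univ_of_forall fun x => mem_iUnion.2 ⟨x, hxN x⟩, fun x => ?_, fun t => ?_⟩
  · exact (isOpen_interior.inter (isOpen_biInter_finset fun i _ => (hKc i).isOpen_compl)).inter
      (isOpen_biInter_finset fun t _ => hWo t _ (hwW x t))
  · exact (closure_minimal (fun y hy => interior_subset hy.1.1) (hCc (b x)).isClosed).trans (hCU (b x))
  · have hS : ∀ l, β (t l) ∈ S := fun l => Finset.mem_image_of_mem α (hbT (t l))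
    by_cases h : ∀ l, t 0 ∈ K (β (t l))
    · refine ⟨w (t 0) (β ∘ t), hwW _ _, fun y hy => ?_⟩
      exact mem_iInter₂.1 (mem_iInter.1 hy 0).2 (β ∘ t) (Finset.mem_filter.2 ⟨Fintype.mem_piFinset.2 hS, h⟩)
    · push Not at h
      obtain ⟨l, hl⟩ := h
      refine ⟨(hWne _).some, (hWne _).some_mem, fun y hy => absurd ?_ (mem_iInter₂.1 (mem_iInter.1 hy 0).1.2 (β (t l)) (Finset.mem_filter.2 ⟨hS l, hl⟩))⟩
      exact mem_iUnion₂.2 ⟨b (t l), Finset.mem_filter.2 ⟨hbT _, rfl⟩, interior_subset (mem_iInter.1 hy l).1.1⟩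

end Groth.Agent.H5CompactCech
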