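import Groth.Agent.Lib.H5LerayDeg
import Groth.Agent.Lib.H5CechPull

universe v₁ u₁ v₂ u₂ w u

namespace Groth.Agent.H5Compare
open CategoryTheory Limits Opposite Abelian TopologicalSpace
open Groth.Agent Groth.Agent.H5SiteCoh

section generic
variable {A : Type u₁} [Category.{v₁} A] [Abelian A] [HasExt.{w} A]
variable {B : Type u₂} [Category.{v₂} B] [Abelian B] [HasExt.{w} B]

/-- connecting map in degree one -/
noncomputable def δ₁ (Z : A) {S : ShortComplex A} (hS : S.ShortExact) : (Z ⟶ S.X₃) →+ Ext.{w} Z S.X₁ 1 :=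
  (hS.extClass.postcomp Z (zero_add 1)).comp Ext.addEquiv₀.symm.toAddMonoidHom

lemma δ₁_surjective (Z : A) {S : ShortComplex A} (hS : S.ShortExact) [Subsingleton (Ext Z S.X₂ 1)] :
    Function.Surjective (δ₁ Z hS) := fun x => by
  obtain ⟨y, hy⟩ := Ext.covariant_sequence_exact₁ _ hS x (Subsingleton.elim _ _) (zero_add 1)
  obtain ⟨φ, rfl⟩ := (Ext.mk₀_bijective _ _).2 y
  exact ⟨φ, hy⟩

lemma δ₁_eq_zero_iff (Z : A) {S : ShortComplex A} (hS : S.ShortExact) (φ : Z ⟶ S.X₃) :
    δ₁ Z hS φ = 0 ↔ ∃ ψ, ψ ≫ S.g = φ := by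
  constructor
  · intro h
    obtain ⟨x, hx⟩ := Ext.covariant_sequence_exact₃ Z hS (Ext.mk₀ φ) (zero_add 1) h
    obtain ⟨ψ, rfl⟩ := (Ext.mk₀_bijective _ _).2 x
    exact ⟨ψ, (Ext.mk₀_bijective _ _).1 (by rw [← Ext.mk₀_comp_mk₀, hx])⟩
  · rintro ⟨ψ, rfl⟩
    change (Ext.mk₀ (ψ ≫ S.g)).comp hS.extClass (zero_add 1) = 0
    rw [← Ext.mk₀_comp_mk₀, Ext.comp_assoc_of_second_deg_zero, ShortComplex.ShortExact.comp_extClass, Ext.comp_zero]

lemma shift_bijective (Z : A) {S : ShortComplex A} (hS : S.ShortExact) (n : ℕ)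
    [Subsingleton (Ext Z S.X₂ (n + 1))] [Subsingleton (Ext Z S.X₂ (n + 2))] :
    Function.Bijective (hS.extClass.postcomp Z (rfl : n + 1 + 1 = n + 2)) := by
  refine ⟨(AddMonoidHom.ker_eq_bot_iff _).1 ((AddSubgroup.eq_bot_iff_forall _).2 fun x hx => ?_), fun y => ?_⟩
  · obtain ⟨x₂, rfl⟩ := Ext.covariant_sequence_exact₃ Z hS x rfl hx
    rw [Subsingleton.elim x₂ 0, Ext.zero_comp]
  · exact Ext.covariant_sequence_exact₁ _ hS y (Subsingleton.elim _ _) rfl

/-- comparison of cohomology through an exact functor sending injectives to acyclics -/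
theorem compare [EnoughInjectives B] (R : B ⥤ A) [R.PreservesZeroMorphisms]
    (hR : ∀ S : ShortComplex B, S.ShortExact → (S.map R).ShortExact) (Z : A) (Z' : B)
    (e : ∀ F : B, (Z' ⟶ F) ≃+ (Z ⟶ R.obj F))
    (he : ∀ {F G : B} (φ : Z' ⟶ F) (g : F ⟶ G), e G (φ ≫ g) = e F φ ≫ R.map g)
    (hI : ∀ I : B, Injective I → ∀ n : ℕ, Subsingleton (Ext.{w} Z (R.obj I) (n + 1))) :
    ∀ (n : ℕ) (F : B), Nonempty (Ext.{w} Z' F n ≃+ Ext.{w} Z (R.obj F) n) := by
  intro n
  induction n with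
  | zero => exact fun F => ⟨Ext.addEquiv₀.trans ((e F).trans Ext.addEquiv₀.symm)⟩
  | succ n ih =>
    intro F
    let S := injSeq F
    have hS := injSeq_shortExact F
    have hS' := hR S hS
    haveI hA : ∀ m : ℕ, Subsingleton (Ext.{w} Z (S.map R).X₂ (m + 1)) := hI S.X₂ inferInstance
    haveI hB : ∀ m : ℕ, Subsingleton (Ext.{w} Z' S.X₂ (m + 1)) := fun m => subsingleton_ext_injective _ _ m
    cases n with
    | zero =>
      let ψ : (Z' ⟶ S.X₃) →+ Ext.{w} Z (S.map R).X₁ 1 := (δ₁ Z hS').comp (e S.X₃).toAddMonoidHom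
      haveI : Subsingleton (Ext.{w} Z' S.X₂ 1) := hB 0
      haveI : Subsingleton (Ext.{w} Z (S.map R).X₂ 1) := hA 0
      have hψ : Function.Surjective ψ := (δ₁_surjective Z hS').comp (e S.X₃).surjective
      have hker : (δ₁ Z' hS).ker = ψ.ker := by
        ext φ
        rw [AddMonoidHom.mem_ker, AddMonoidHom.mem_ker, δ₁_eq_zero_iff]
        refine Iff.trans ?_ (δ₁_eq_zero_iff Z hS' (e S.X₃ φ)).symm
        constructor
        · rintro ⟨χ, rfl⟩
          exact ⟨e S.X₂ χ, (he χ S.g).symm⟩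
        · rintro ⟨χ, hχ⟩
          refine ⟨(e S.X₂).symm χ, (e S.X₃).injective ((he _ _).trans ?_)⟩
          exact (congrArg (fun t => t ≫ R.map S.g) ((e S.X₂).apply_symm_apply χ)).trans hχ
      exact ⟨((QuotientAddGroup.quotientKerEquivOfSurjective (δ₁ Z' hS) (δ₁_surjective Z' hS)).symm.trans
        (QuotientAddGroup.quotientAddEquivOfEq hker)).trans
          (QuotientAddGroup.quotientKerEquivOfSurjective ψ hψ)⟩
    | succ m =>
      obtain ⟨q⟩ := ih S.X₃
      haveI : Subsingleton (Ext.{w} Z' S.X₂ (m + 1)) := hB m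
      haveI : Subsingleton (Ext.{w} Z' S.X₂ (m + 2)) := hB (m + 1)
      haveI : Subsingleton (Ext.{w} Z (S.map R).X₂ (m + 1)) := hA m
      haveI : Subsingleton (Ext.{w} Z (S.map R).X₂ (m + 2)) := hA (m + 1)
      exact ⟨((AddEquiv.ofBijective _ (shift_bijective Z' hS m)).symm.trans q).trans
        (AddEquiv.ofBijective _ (shift_bijective Z hS' m))⟩

end generic

section site
variable {C D : Type u} [SmallCategory C] [SmallCategory D] {J : GrothendieckTopology C} {K : GrothendieckTopology D}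
  (u : C ⥤ D) [u.IsContinuous J K]

/-- additive version of `eqv` -/
noncomputable def eqvAdd (U : C) (F : Sheaf J AddCommGrpCat.{u}) : (fU J U ⟶ F) ≃+ F.obj.obj (op U) :=
  AddEquiv.symm { (eqv U F).symm with map_add' := fun s t => H5CohPresheaf.eqv_symm_add s t }

lemma eqvAdd_comp {U : C} {F G : Sheaf J AddCommGrpCat.{u}} (φ : fU J U ⟶ F) (g : F ⟶ G) :
    eqvAdd U G (φ ≫ g) = g.hom.app (op U) (eqvAdd U F φ) := eqv_comp φ g

lemma shortExact_pull [u.IsCocontinuous J K] (S : ShortComplex (Sheaf K AddCommGrpCat.{u})) (hS : S.ShortExact) :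
    (S.map (CohSite.push K J u)).ShortExact := by
  have := (u.sheafAdjunctionContinuous AddCommGrpCat.{u} J K).rightAdjoint_preservesLimits
  have : PreservesFiniteLimits (CohSite.push K J u) := PreservesLimits.preservesFiniteLimits _
  have := (u.sheafAdjunctionCocontinuous AddCommGrpCat.{u} J K).leftAdjoint_preservesColimits
  have : PreservesFiniteColimits (CohSite.push K J u) := PreservesColimits.preservesFiniteColimits _
  exact hS.map_of_exact _

theorem HU_pull [HasPullbacks C] [HasPullbacks D] [PreservesLimitsOfShape WalkingCospan u] [u.IsCocontinuous J K]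
    (F : Sheaf K AddCommGrpCat.{u}) (U : C) (p : ℕ) :
    Nonempty (CohSite.HU ((CohSite.push K J u).obj F) p U ≃+ CohSite.HU F p (u.obj U)) := by
  obtain ⟨e⟩ := compare (CohSite.push K J u) (shortExact_pull u) (fU J U) (fU K (u.obj U))
    (fun G => (eqvAdd (u.obj U) G).trans (eqvAdd U ((CohSite.push K J u).obj G)).symm)
    (fun {G G'} φ g => by
      apply (eqvAdd U _).injective
      rw [eqvAdd_comp]
      exact ((eqvAdd U _).apply_symm_apply _).trans ((eqvAdd_comp φ g).trans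
        (congrArg _ ((eqvAdd U ((CohSite.push K J u).obj G)).apply_symm_apply (eqvAdd (u.obj U) G φ)).symm)))
    (fun I hI n => H5CechPull.subsingleton_HU_pull u I U n) p F
  exact ⟨e.symm⟩

end site

section top
variable {X : TopCat.{u}}

theorem flasque_restr (U : Opens X) (F : CohTop.Ab X) (hF : TopCat.Sheaf.IsFlasque F) :
    TopCat.Sheaf.IsFlasque (CohTop.restr F U) :=
  ⟨fun {V W} i => hF.epi (U.isOpenEmbedding.isOpenMap.functor.op.map i)⟩

lemma shortExact_restr (U : Opens X) (S : ShortComplex (CohTop.Ab X)) (hS : S.ShortExact) :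
    (S.map (CohTop.restrFunctor U)).ShortExact := by
  let f : TopCat.of U ⟶ X := TopCat.ofHom ⟨Subtype.val, continuous_subtype_val⟩
  have hf : Topology.IsOpenEmbedding f := U.isOpenEmbedding
  haveI hc := hf.functor_isContinuous
  haveI : hf.functor.IsCocontinuous (Opens.grothendieckTopology (TopCat.of U)) (Opens.grothendieckTopology X) := by
    refine ⟨fun {V} T hT x hx => ?_⟩
    obtain ⟨W, i, hW, hxW⟩ := hT (f x) ⟨x, hx, rfl⟩
    let V' : Opens (TopCat.of U) := (Opens.map f).obj W ⊓ V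
    have h : hf.functor.obj V' ≤ W := by
      rintro _ ⟨z, hz, rfl⟩
      exact hz.1
    refine ⟨V', homOfLE inf_le_right, ?_, ⟨hxW, hx⟩⟩
    exact T.downward_closed hW (homOfLE h)
  exact shortExact_pull hf.functor S hS

theorem HU_restr (F : CohTop.Ab X) (U : Opens X) (n : ℕ) :
    Nonempty (CohTop.HU F n U ≃+ CohTop.H (CohTop.restr F U) n) := by
  obtain ⟨a⟩ := H5LerayDeg.H_equiv_HU_top (CohTop.restr F U) n
  have hU : U.isOpenEmbedding.isOpenMap.functor.obj ⊤ = U := Opens.ext (by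
    change Subtype.val '' (Set.univ : Set U) = _
    simp)
  obtain ⟨b⟩ := compare (CohTop.restrFunctor U) (shortExact_restr U)
    (fU (Opens.grothendieckTopology (TopCat.of U)) ⊤)
    (fU (Opens.grothendieckTopology X) (U.isOpenEmbedding.isOpenMap.functor.obj ⊤))
    (fun G => (eqvAdd _ G).trans (eqvAdd ⊤ ((CohTop.restrFunctor U).obj G)).symm)
    (fun {G G'} φ g => by
      apply (eqvAdd _ _).injective
      rw [eqvAdd_comp]
      exact ((eqvAdd ⊤ _).apply_symm_apply _).trans ((eqvAdd_comp φ g).trans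
        (congrArg _ ((eqvAdd ⊤ ((CohTop.restrFunctor U).obj G)).apply_symm_apply (eqvAdd _ G φ)).symm)))
    (fun I hI m => H5TopCoh.flasque_acyclic _ (flasque_restr U I (H5TopCoh.flasque_injective I)) ⊤ m) n F
  rw [hU] at b
  exact ⟨AddEquiv.trans b a.symm⟩

end top

end Groth.Agent.H5Compare
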