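import Mathlib
import Groth.Prelude
import Groth.Agent.Lib.H5ToposColim
import Groth.Agent.Lib.H5CoprodSh

universe w v u

open CategoryTheory CategoryTheory.Limits Opposite
open Groth.Agent.H5ToposColim Groth.Agent.H5CoprodSh

namespace Groth.Agent.H5ToposDescent

variable {C : Type u} [SmallCategory C] {J : GrothendieckTopology C}

/-- jointly epimorphic families of sheaves of sets are of effective descent for functors turning
coproducts and coequalizers into products and equalizers. -/
theorem descent {ι : Type u} {X : Sheaf J (Type u)} {A : ι → Sheaf J (Type u)} (g : ∀ i, A i ⟶ X)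
    (hg : SGA4.IsEpiFamily g) (G : (Sheaf J (Type u))ᵒᵖ ⥤ Type w)
    [PreservesLimitsOfSize.{u, u} G] (t : ∀ i, G.obj (op (A i)))
    (ht : ∀ i j, G.map (pullback.fst (g i) (g j)).op (t i) = G.map (pullback.snd (g i) (g j)).op (t j)) :
    ∃! x : G.obj (op X), ∀ i, G.map (g i).op x = t i := by
  let Q := ∐ A
  let d : Q ⟶ X := Sigma.desc g
  have hep : Epi d := ⟨fun a b hab => hg _ a b fun i => by
    have := congrArg (fun t => Sigma.ι A i ≫ t) hab
    simpa [d, Q] using this⟩
  have hQ : IsColimit (Cofan.mk Q (Sigma.ι A)) := coproductIsCoproduct A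
  -- elements of `G` on a coproduct
  have hext : ∀ {I : Type u} {B : I → Sheaf J (Type u)} (c : Cofan B), IsColimit c →
      ∀ x y : G.obj (op c.pt), (∀ i, G.map (c.inj i).op x = G.map (c.inj i).op y) → x = y := by
    intro I B c hc x y h
    exact ((Types.isLimitEquivSections (isLimitOfPreserves G hc.op))).injective
      (Subtype.ext (funext fun j => h j.unop.as))
  obtain ⟨q, hq, -⟩ := (Types.isLimit_iff _).1 ⟨isLimitOfPreserves G hQ.op⟩
    (fun j => t j.unop.as) (by
      rintro ⟨⟨a⟩⟩ ⟨⟨b⟩⟩ ⟨f⟩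
      obtain rfl : b = a := Discrete.eq_of_hom f
      obtain rfl : f = 𝟙 _ := Subsingleton.elim _ _
      simp)
  have hq' : ∀ i, G.map (Sigma.ι A i).op q = t i := fun i => hq ⟨⟨i⟩⟩
  -- `q` is equalised on the kernel pair
  have hker : G.map (pullback.fst d d).op q = G.map (pullback.snd d d).op q := by
    let a := pullback.fst d d
    let b := pullback.snd d d
    obtain ⟨hc1⟩ := (sheaf_isVanKampen hQ).isUniversal
      (Cofan.mk (f := fun i => pullback (Sigma.ι A i) a) (pullback d d) fun i => pullback.snd (Sigma.ι A i) a)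
      (Discrete.natTrans fun i => pullback.fst (Sigma.ι A i.as) a) a
      (NatTrans.ext (funext fun i => pullback.condition (f := Sigma.ι A i.as) (g := a)))
      (.of_discrete _)
      (fun i => (IsPullback.of_hasPullback (Sigma.ι A i.as) a).flip)
    refine hext _ hc1 _ _ fun i => ?_
    let b' := pullback.snd (Sigma.ι A i) a ≫ b
    obtain ⟨hc2⟩ := (sheaf_isVanKampen hQ).isUniversal
      (Cofan.mk (f := fun j => pullback (Sigma.ι A j) b') (pullback (Sigma.ι A i) a)
        fun j => pullback.snd (Sigma.ι A j) b')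
      (Discrete.natTrans fun j => pullback.fst (Sigma.ι A j.as) b') b'
      (NatTrans.ext (funext fun j => pullback.condition (f := Sigma.ι A j.as) (g := b')))
      (.of_discrete _)
      (fun j => (IsPullback.of_hasPullback (Sigma.ι A j.as) b').flip)
    refine hext _ hc2 _ _ fun j => ?_
    simp only [cofan_mk_inj, Cofan.mk_pt, ← ConcreteCategory.comp_apply, ← G.map_comp, ← op_comp]
    have e1 : pullback.snd (Sigma.ι A i) a ≫ a = pullback.fst (Sigma.ι A i) a ≫ Sigma.ι A i :=
      pullback.condition.symm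
    have e2 : pullback.snd (Sigma.ι A j) b' ≫ b' = pullback.fst _ _ ≫ Sigma.ι A j :=
      pullback.condition.symm
    have e3 : (pullback.snd (Sigma.ι A j) b' ≫ pullback.fst (Sigma.ι A i) a) ≫ g i
        = pullback.fst (Sigma.ι A j) b' ≫ g j := by
      have := e2 =≫ d
      simp only [b', b, Category.assoc] at this
      rw [← pullback.condition, reassoc_of% e1] at this
      simpa [d] using this
    rw [show pullback.snd (Sigma.ι A i) a ≫ pullback.fst d d = _ from e1]
    rw [show pullback.snd (Sigma.ι A j) b' ≫ pullback.snd (Sigma.ι A i) a ≫ pullback.snd d d = _ from e2]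
    rw [← Category.assoc]
    simp only [op_comp, G.map_comp, ConcreteCategory.comp_apply, hq']
    have h5 := congrArg (G.map (pullback.lift _ _ e3).op) (ht i j)
    simp only [← ConcreteCategory.comp_apply, ← G.map_comp, ← op_comp, pullback.lift_fst,
      pullback.lift_snd] at h5
    simpa using h5
  have hcoeq : IsColimit (Cofork.ofπ d (pullback.condition : pullback.fst d d ≫ d = _)) := by
    have := effectiveEpi_of_epi d
    exact isColimitCoforkOfEffectiveEpi d (pullback.cone d d) (pullback.isLimit d d)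
  have : PreservesLimitsOfSize.{0, 0} G := preservesLimitsOfSize_of_univLE.{u, u} G
  have hlim := isLimitForkMapOfIsLimit G _
    (Cofork.isColimitOfπEquivIsLimitOp d d pullback.condition (by rw [← op_comp, ← op_comp, pullback.condition]) rfl hcoeq)
  obtain ⟨x, hx, hux⟩ := Types.unique_of_type_equalizer _ _ hlim q hker
  refine ⟨x, fun i => ?_, fun y hy => hux y (hext _ hQ _ _ fun i => ?_)⟩
  · rw [← hq' i, ← hx, ← ConcreteCategory.comp_apply, ← G.map_comp, ← op_comp]
    simp [d, Q]
  · simp only [cofan_mk_inj]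
    rw [hq', ← hy i, ← ConcreteCategory.comp_apply, ← G.map_comp, ← op_comp]
    simp [d, Q]

theorem ext_of_epiFamily {ι : Type u} {X : Sheaf J (Type u)} {A : ι → Sheaf J (Type u)}
    (g : ∀ i, A i ⟶ X) (hg : SGA4.IsEpiFamily g) (G : (Sheaf J (Type u))ᵒᵖ ⥤ Type w)
    [PreservesLimitsOfSize.{u, u} G] (x y : G.obj (op X))
    (h : ∀ i, G.map (g i).op x = G.map (g i).op y) : x = y :=
  (descent g hg G (fun i => G.map (g i).op x) (fun i j => by
    simp only [← ConcreteCategory.comp_apply, ← G.map_comp, ← op_comp, pullback.condition])).unique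
    (fun _ => rfl) (fun i => (h i).symm)

section Elements

variable {D : Type u} [SmallCategory D] {K : GrothendieckTopology D}
  (Φ : (Cᵒᵖ ⥤ Type u) ⥤ Sheaf K (Type u))

abbrev elMap (P : Cᵒᵖ ⥤ Type u) (x : Σ U : C, P.obj (op U)) : yoneda.obj x.1 ⟶ P :=
  yonedaEquiv.symm x.2

/-- `Φ` is covered by the images of representables -/
abbrev IsCoveredByEl : Prop :=
  ∀ P : Cᵒᵖ ⥤ Type u, SGA4.IsEpiFamily fun x => Φ.map (elMap P x)

theorem descent_elements [PreservesLimitsOfShape WalkingCospan Φ] (hΦ : IsCoveredByEl Φ)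
    (G : (Sheaf K (Type u))ᵒᵖ ⥤ Type w) [PreservesLimitsOfSize.{u, u} G] (P : Cᵒᵖ ⥤ Type u)
    (t : ∀ U : C, P.obj (op U) → G.obj (op (Φ.obj (yoneda.obj U))))
    (ht : ∀ (U V : C) (a : V ⟶ U) (x : P.obj (op U)),
      G.map (Φ.map (yoneda.map a)).op (t U x) = t V (P.map a.op x)) :
    ∃! g : G.obj (op (Φ.obj P)), ∀ (U : C) (x : P.obj (op U)),
      G.map (Φ.map (yonedaEquiv.symm x)).op g = t U x := by
  have h := descent (fun x => Φ.map (elMap P x)) (hΦ P) G (fun x => t x.1 x.2) (fun x y => by
    have hp := (IsPullback.of_hasPullback (elMap P x) (elMap P y)).map Φ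
    have key : G.map (Φ.map (pullback.fst (elMap P x) (elMap P y))).op (t x.1 x.2) =
        G.map (Φ.map (pullback.snd (elMap P x) (elMap P y))).op (t y.1 y.2) := by
      refine ext_of_epiFamily _ (hΦ _) G _ _ fun z => ?_
      simp only [← ConcreteCategory.comp_apply, ← G.map_comp, ← op_comp, ← Φ.map_comp]
      obtain ⟨a, ha⟩ : ∃ a : z.1 ⟶ x.1, yoneda.map a = elMap _ z ≫ pullback.fst _ _ :=
        yoneda.map_surjective _
      obtain ⟨b, hb⟩ : ∃ b : z.1 ⟶ y.1, yoneda.map b = elMap _ z ≫ pullback.snd _ _ :=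
        yoneda.map_surjective _
      have hw : yoneda.map a ≫ elMap P x = yoneda.map b ≫ elMap P y := by
        rw [ha, hb, Category.assoc, Category.assoc, pullback.condition]
      have hx := congrArg yonedaEquiv hw
      rw [← yonedaEquiv_naturality, ← yonedaEquiv_naturality, Equiv.apply_symm_apply,
        Equiv.apply_symm_apply] at hx
      rw [← ha, ← hb, ht _ _ a, ht _ _ b]
      exact congrArg _ hx
    have h5 := congrArg (G.map hp.isoPullback.inv.op) key
    simp only [← ConcreteCategory.comp_apply, ← G.map_comp, ← op_comp, IsPullback.isoPullback_inv_fst,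
      IsPullback.isoPullback_inv_snd] at h5
    exact h5)
  obtain ⟨g, hg, hu⟩ := h
  exact ⟨g, fun U x => hg ⟨U, x⟩, fun g' hg' => hu g' fun x => hg' x.1 x.2⟩

/-- the presheaf on `C` induced by `G` -/
abbrev R (G : (Sheaf K (Type u))ᵒᵖ ⥤ Type w) : Cᵒᵖ ⥤ Type w := (yoneda ⋙ Φ).op ⋙ G

end Elements

theorem isEpiFamily_map_elements (P : Cᵒᵖ ⥤ Type u) :
    SGA4.IsEpiFamily fun x => (presheafToSheaf J (Type u)).map (elMap P x) := by
  intro Z a b h
  apply ((sheafificationAdjunction J (Type u)).homEquiv _ Z).injective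
  ext V x
  have := congrArg ((sheafificationAdjunction J (Type u)).homEquiv _ Z) (h ⟨V.unop, x⟩)
  rw [Adjunction.homEquiv_naturality_left, Adjunction.homEquiv_naturality_left] at this
  have h2 := congrArg yonedaEquiv this
  rw [yonedaEquiv_comp, yonedaEquiv_comp, Equiv.apply_symm_apply] at h2
  exact h2

theorem isIso_map_functorInclusion {X : C} {S : Sieve X} (hS : S ∈ J X) :
    IsIso ((presheafToSheaf J (Type u)).map S.functorInclusion) := by
  have hi : Presheaf.IsLocallyInjective J S.functorInclusion :=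
    Presheaf.isLocallyInjective_of_injective J _ fun V => fun a b h => Subtype.ext h
  have hs : Presheaf.IsLocallySurjective J S.functorInclusion := ⟨fun {U} u =>
    J.superset_covering (fun V v hv => ⟨⟨v ≫ u, hv⟩, rfl⟩) (J.pullback_stable u hS)⟩
  rw [← J.W_iff_isIso_map_of_adjunction (sheafificationAdjunction J (Type u))]
  exact J.W_of_isLocallyBijective _

section LeftAdjoint

variable {D : Type u} [SmallCategory D] {K : GrothendieckTopology D}
  (f : Sheaf J (Type u) ⥤ Sheaf K (Type u)) [PreservesFiniteLimits f]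
  (hf : SGA4.PreservesEpiFamilies.{u + 1, u + 1, u} f)

noncomputable abbrev ΦOf : (Cᵒᵖ ⥤ Type u) ⥤ Sheaf K (Type u) := presheafToSheaf J (Type u) ⋙ f

include hf in
omit [PreservesFiniteLimits f] in
theorem covered : IsCoveredByEl (ΦOf f) := fun P =>
  hf _ _ _ _ (isEpiFamily_map_elements P)

variable (Z : Sheaf K (Type u))

noncomputable def restrictHom (P : Cᵒᵖ ⥤ Type u) (g : (ΦOf f).obj P ⟶ Z) : P ⟶ R (ΦOf f) (yoneda.obj Z) where
  app U := ↾fun x => (ΦOf f).map (yonedaEquiv.symm x) ≫ g
  naturality U V a := by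
    ext x
    change (ΦOf f).map (yonedaEquiv.symm (P.map a x)) ≫ g =
      (ΦOf f).map (yoneda.map a.unop) ≫ (ΦOf f).map (yonedaEquiv.symm x) ≫ g
    rw [← Category.assoc, ← (ΦOf f).map_comp, ← yonedaEquiv_symm_map]

include hf in
theorem restrictHom_bijective (P : Cᵒᵖ ⥤ Type u) : Function.Bijective (restrictHom f Z P) := by
  constructor
  · intro g g' h
    exact covered f hf P Z g g' fun x => ConcreteCategory.congr_hom (congr_app h (op x.1)) x.2
  · intro φ
    obtain ⟨g, hg, -⟩ := descent_elements (ΦOf f) (covered f hf) (yoneda.obj Z) P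
      (fun U x => φ.app (op U) x) (fun U V a x => (NatTrans.naturality_apply φ a.op x).symm)
    refine ⟨g, ?_⟩
    ext U x
    exact hg U.unop x

include hf in
theorem R_isSheaf : Presheaf.IsSheaf J (R (ΦOf f) (yoneda.obj Z)) := by
  rw [isSheaf_iff_isSheaf_of_type]
  intro X S hS
  rw [Presieve.isSheafFor_iff_yonedaSheafCondition]
  intro φ
  have := isIso_map_functorInclusion hS
  have hb : Function.Bijective (fun g : (ΦOf f).obj (yoneda.obj X) ⟶ Z =>
      (ΦOf f).map S.functorInclusion ≫ g) := by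
    have : IsIso ((ΦOf f).map S.functorInclusion) := Functor.map_isIso f _
    exact ((asIso ((ΦOf f).map S.functorInclusion)).homFromEquiv).symm.bijective
  obtain ⟨g0, hg0⟩ := (restrictHom_bijective f hf Z _).2 φ
  obtain ⟨g, rfl⟩ := hb.2 g0
  have hn : ∀ g, S.functorInclusion ≫ restrictHom f Z _ g =
      restrictHom f Z _ ((ΦOf f).map S.functorInclusion ≫ g) := by
    intro g
    ext U x
    change (ΦOf f).map (yonedaEquiv.symm (S.functorInclusion.app U x)) ≫ g =
      (ΦOf f).map (yonedaEquiv.symm x) ≫ (ΦOf f).map S.functorInclusion ≫ g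
    rw [← Category.assoc, ← (ΦOf f).map_comp, ← yonedaEquiv_symm_naturality_right]
  refine ⟨restrictHom f Z _ g, (hn g).trans hg0, fun h hh => ?_⟩
  obtain ⟨g', rfl⟩ := (restrictHom_bijective f hf Z _).2 h
  rw [hn, ← hg0] at hh
  rw [hb.1 ((restrictHom_bijective f hf Z _).1 hh)]

include hf in
theorem isLeftAdjoint : f.IsLeftAdjoint := by
  let adj := sheafificationAdjunction J (Type u)
  let e : ∀ (X : Sheaf J (Type u)) (Z : Sheaf K (Type u)),
      (f.obj X ⟶ Z) ≃ (X ⟶ (⟨R (ΦOf f) (yoneda.obj Z), R_isSheaf f hf Z⟩ : Sheaf J (Type u))) :=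
    fun X Z => ((f.mapIso (asIso (adj.counit.app X))).homFromEquiv).symm.trans
      ((Equiv.ofBijective _ (restrictHom_bijective f hf Z X.obj)).trans
        { toFun := fun φ => ⟨φ⟩, invFun := fun a => a.hom, left_inv := fun _ => rfl, right_inv := fun _ => rfl })
  have hsymm : ∀ X' X Z (a : X' ⟶ X) (g : f.obj X ⟶ Z), e X' Z (f.map a ≫ g) = a ≫ e X Z g := by
    intro X' X Z a g
    apply Sheaf.hom_ext
    ext U x
    change (ΦOf f).map (yonedaEquiv.symm x) ≫ f.map (adj.counit.app X') ≫ f.map a ≫ g =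
      (ΦOf f).map (yonedaEquiv.symm (a.hom.app U x)) ≫ f.map (adj.counit.app X) ≫ g
    have h1 : (yonedaEquiv.symm (a.hom.app U x) : yoneda.obj U.unop ⟶ X.obj) =
        yonedaEquiv.symm x ≫ a.hom := (yonedaEquiv_symm_naturality_right U.unop a.hom x).symm
    rw [h1, (ΦOf f).map_comp, Category.assoc]
    congr 1
    have h2 : (presheafToSheaf J (Type u)).map a.hom ≫ adj.counit.app X =
        adj.counit.app X' ≫ a := adj.counit.naturality a
    have h3 := f.congr_map h2
    simp only [Functor.map_comp] at h3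
    exact ((Category.assoc _ _ _).symm.trans (congrArg (· ≫ g) h3.symm)).trans (Category.assoc _ _ _)
  exact (Adjunction.adjunctionOfEquivRight (fun X Z => e X Z) hsymm).isLeftAdjoint

end LeftAdjoint

end Groth.Agent.H5ToposDescent
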