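import Mathlib
import Groth.Prelude
import Groth.Agent.Lib.H5ToposColim
import Groth.Agent.Lib.H5CoprodSh
import Groth.Agent.Lib.H5ToposDescent

universe w v u

open CategoryTheory CategoryTheory.Limits Opposite
open Groth.Agent.H5ToposColim Groth.Agent.H5CoprodSh Groth.Agent.H5ToposDescent

namespace Groth.Agent.H5TopCanonical

variable {C : Type u} [SmallCategory C] {J : GrothendieckTopology C}

/-- the morphism `a(h_U) ⟶ X` of a section -/
noncomputable def el (X : Sheaf J (Type u)) {U : C} (x : X.obj.obj (op U)) :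
    (presheafToSheaf J (Type u)).obj (yoneda.obj U) ⟶ X :=
  (((sheafificationAdjunction J (Type u)).homEquiv _ X).trans yonedaEquiv).symm x

lemma el_comp {X Y : Sheaf J (Type u)} {U : C} (x : X.obj.obj (op U)) (φ : X ⟶ Y) :
    el X x ≫ φ = el Y (φ.hom.app (op U) x) := by
  simp only [el, Equiv.symm_trans_apply]
  rw [← Adjunction.homEquiv_naturality_right_symm, ← yonedaEquiv_symm_naturality_right]
  rfl

lemma map_el {X : Sheaf J (Type u)} {U V : C} (g : V ⟶ U) (x : X.obj.obj (op U)) :
    (presheafToSheaf J (Type u)).map (yoneda.map g) ≫ el X x = el X (X.obj.map g.op x) := by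
  simp only [el, Equiv.symm_trans_apply]
  rw [← Adjunction.homEquiv_naturality_left_symm, yonedaEquiv_symm_naturality_left]
  rfl

lemma el_injective (X : Sheaf J (Type u)) (U : C) : Function.Injective (el X (U := U)) :=
  (((sheafificationAdjunction J (Type u)).homEquiv _ X).trans yonedaEquiv).symm.injective

lemma isEpiFamily_el (X : Sheaf J (Type u)) :
    SGA4.IsEpiFamily fun p : Σ U : C, X.obj.obj (op U) => el X p.2 := by
  intro Z a b h
  apply Sheaf.hom_ext
  ext U x
  have := h ⟨U.unop, x⟩
  simp only [el_comp] at this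
  exact el_injective Z _ this

lemma isEpiFamily_pullback {ι : Type u} {X Y : Sheaf J (Type u)} {A : ι → Sheaf J (Type u)}
    (g : ∀ i, A i ⟶ X) (hg : SGA4.IsEpiFamily g) (f : Y ⟶ X) :
    SGA4.IsEpiFamily fun i => pullback.snd (g i) f := by
  intro Z a b h
  let d := Sigma.desc g
  have : Epi d := ⟨fun a b hab => hg _ a b fun i => by
    have := congrArg (fun t => Sigma.ι A i ≫ t) hab
    simpa [d] using this⟩
  have := epi_of_isPullback (IsPullback.of_hasPullback d f)
  rw [← cancel_epi (pullback.snd d f)]
  refine hom_ext_of_coproduct (coproductIsCoproduct A) (pullback.fst d f) _ _ fun i => ?_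
  simp only [cofan_mk_inj]
  let l : pullback (Sigma.ι A i) (pullback.fst d f) ⟶ pullback (g i) f :=
    pullback.lift (pullback.fst _ _) (pullback.snd _ _ ≫ pullback.snd d f) (by
      rw [Category.assoc, ← pullback.condition (f := d) (g := f), ← pullback.condition_assoc]
      simp [d])
  have := l ≫= h i
  simp only [l, pullback.lift_snd_assoc, Category.assoc] at this
  exact this

theorem isSheafFor_of_epiFamily {ι : Type u} {X : Sheaf J (Type u)} {A : ι → Sheaf J (Type u)}
    (g : ∀ i, A i ⟶ X) (hg : SGA4.IsEpiFamily g) (G : (Sheaf J (Type u))ᵒᵖ ⥤ Type w)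
    [PreservesLimitsOfSize.{u, u} G] (S : Sieve X) (hS : ∀ i, S (g i)) :
    Presieve.IsSheafFor G S.arrows := by
  intro t ht
  obtain ⟨x, hx, hux⟩ := descent g hg G (fun i => t (g i) (hS i))
    (fun i j => ht _ _ _ _ pullback.condition)
  refine ⟨x, fun Z a ha => ?_, fun y hy => hux y fun i => hy _ (hS i)⟩
  refine ext_of_epiFamily _ (isEpiFamily_pullback g hg a) G _ _ fun i => ?_
  rw [← ConcreteCategory.comp_apply, ← G.map_comp, ← op_comp, ← pullback.condition, op_comp,
    G.map_comp, ConcreteCategory.comp_apply, hx]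
  exact ht _ _ _ _ pullback.condition

theorem mem_canonical_of_epiFamily {ι : Type u} {X : Sheaf J (Type u)} {A : ι → Sheaf J (Type u)}
    (g : ∀ i, A i ⟶ X) (hg : SGA4.IsEpiFamily g) (S : Sieve X) (hS : ∀ i, S (g i)) :
    S ∈ Sheaf.canonicalTopology (Sheaf J (Type u)) X := by
  refine Sheaf.mem_finestTopology_of_forall_isSheafFor ?_
  rintro _ ⟨Z, rfl⟩ Y f
  refine isSheafFor_of_epiFamily _ (isEpiFamily_pullback g hg f) _ _ fun i => ?_
  rw [Sieve.pullback_apply, ← pullback.condition]
  exact S.downward_closed (hS i) _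

theorem isEpiFamily_of_mem_canonical {X : Sheaf J (Type u)} {S : Sieve X}
    (hS : S ∈ Sheaf.canonicalTopology (Sheaf J (Type u)) X) :
    SGA4.IsEpiFamily fun p : {q : Σ U : C, X.obj.obj (op U) // S (el X q.2)} => el X p.1.2 := by
  intro Z a b h
  refine ((Sheaf.isSheaf_yoneda_obj Z) S hS).isSeparatedFor.ext fun W k hk => ?_
  refine isEpiFamily_el W _ _ _ fun p => ?_
  change el W p.2 ≫ k ≫ a = el W p.2 ≫ k ≫ b
  rw [← Category.assoc, ← Category.assoc, el_comp]
  exact h ⟨⟨p.1, k.hom.app _ p.2⟩, by
    show S (el X _)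
    rw [← el_comp]
    exact S.downward_closed hk _⟩

theorem isSheaf_of_preservesLimits {E' : Type v} [Category.{w} E']
    (F : (Sheaf J (Type u))ᵒᵖ ⥤ E') [PreservesLimitsOfSize.{u, u} F] :
    Presheaf.IsSheaf (Sheaf.canonicalTopology (Sheaf J (Type u))) F := by
  intro e X S hS
  exact isSheafFor_of_epiFamily _ (isEpiFamily_of_mem_canonical hS) _ S fun p => p.2

section Converse

variable (G : (Sheaf J (Type u))ᵒᵖ ⥤ Type w)
  (hG : Presieve.IsSheaf (Sheaf.canonicalTopology (Sheaf J (Type u))) G)

include hG in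
theorem descent_of_isSheaf {ι : Type u} {X : Sheaf J (Type u)} {A : ι → Sheaf J (Type u)}
    (g : ∀ i, A i ⟶ X) (hg : SGA4.IsEpiFamily g) :
    (Presieve.ofArrows A g).IsSheafFor G := by
  rw [Presieve.isSheafFor_iff_generate]
  exact hG _ (mem_canonical_of_epiFamily g hg _ fun i =>
    Sieve.le_generate _ _ _ (Presieve.ofArrows.mk i))

include hG in
theorem subsingleton_of_isInitial {I : Sheaf J (Type u)} (hI : IsInitial I) :
    Subsingleton (G.obj (op I)) := by
  constructor
  intro a b
  exact (descent_of_isSheaf G hG (ι := PEmpty.{u+1}) (fun i : PEmpty.{u+1} => (i.elim : I ⟶ I))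
    (fun Z a b _ => hI.hom_ext a b)).isSeparatedFor.ext fun W k hk => by
      obtain ⟨i⟩ := hk
      exact i.elim

include hG in
theorem preservesProducts (I : Type u) : PreservesLimitsOfShape (Discrete I) G := by
  refine ⟨fun {K} => ?_⟩
  let B : I → Sheaf J (Type u) := fun i => (K.obj ⟨i⟩).unop
  suffices PreservesLimit (Discrete.functor fun i => op (B i)) G from
    preservesLimit_of_iso_diagram G (K₁ := Discrete.functor fun i => op (B i))
      (Discrete.natIso fun _ => Iso.refl _)
  refine preservesLimit_of_preserves_limit_cone (Cofan.IsColimit.op (coproductIsCoproduct B)) ?_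
  refine ((Types.isLimit_iff _).2 fun s hs => ?_).some
  have hd := sheaf_coproductDisjoint B
  have hc := coproductIsCoproduct B
  have he : SGA4.IsEpiFamily (Sigma.ι B) := fun Z a b h => Sigma.hom_ext _ _ h
  obtain ⟨x, hx, hux⟩ := (Presieve.isSheafFor_arrows_iff _ _).1 (descent_of_isSheaf G hG _ he)
    (fun i => s ⟨i⟩) (fun i j Z a b hab => by
      by_cases hij : i = j
      · subst hij
        have := CoproductDisjoint.mono_inj hc i
        rw [(cancel_mono (Sigma.ι B i)).1 hab]
      · have := subsingleton_of_isInitial G hG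
          (IsInitial.ofCoproductDisjointOfCommSq hij hc a b hab)
        exact Subsingleton.elim _ _)
  exact ⟨x, fun j => hx j.as, fun y hy => hux y fun i => hy ⟨i⟩⟩

include hG in
theorem eq_of_locally {U : C} (S : Sieve U) (hS : S ∈ J U)
    (a b : G.obj (op ((presheafToSheaf J (Type u)).obj (yoneda.obj U))))
    (h : ∀ ⦃V⦄ (g : V ⟶ U), S g → G.map ((presheafToSheaf J (Type u)).map (yoneda.map g)).op a =
      G.map ((presheafToSheaf J (Type u)).map (yoneda.map g)).op b) : a = b := by
  let I := {p : Σ V : C, V ⟶ U // S p.2}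
  have hcov : Sieve.ofArrows (fun p : I => p.1.1) (fun p => p.1.2) ∈ J U :=
    J.superset_covering (fun V g hg => Sieve.ofArrows_mk _ (fun p : I => p.1.2) ⟨⟨V, g⟩, hg⟩) hS
  refine (descent_of_isSheaf G hG _ ((isEpiFamily_iff_covering J _ _).2 hcov)).isSeparatedFor.ext
    fun W k hk => ?_
  obtain ⟨p⟩ := hk
  exact h _ p.2

include hG in
theorem preservesEqualizers : PreservesLimitsOfShape WalkingParallelPair G := by
  refine ⟨fun {K} => ?_⟩
  suffices ∀ (A B : Sheaf J (Type u)) (u' v' : B ⟶ A), PreservesLimit (parallelPair u'.op v'.op) G by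
    have := this _ _ (K.map WalkingParallelPairHom.left).unop (K.map WalkingParallelPairHom.right).unop
    exact preservesLimit_of_iso_diagram G
      (K₁ := parallelPair (K.map WalkingParallelPairHom.left).unop.op (K.map WalkingParallelPairHom.right).unop.op)
      (diagramIsoParallelPair K).symm
  intro A B m₁ m₂
  let p := coequalizer.π m₁ m₂
  have hp : IsLimit (Fork.ofι p.op (by rw [← op_comp, ← op_comp, coequalizer.condition]) :
      Fork m₁.op m₂.op) :=
    Cofork.isColimitOfπEquivIsLimitOp p p (coequalizer.condition _ _) _ rfl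
      (coequalizerIsCoequalizer m₁ m₂)
  refine preservesLimit_of_preserves_limit_cone hp
    ((isLimitMapConeForkEquiv G (by rw [← op_comp, ← op_comp, coequalizer.condition])).symm
      (Types.typeEqualizerOfUnique _ _ fun t ht => ?_))
  have hpe : SGA4.IsEpiFamily (fun _ : PUnit.{u+1} => p) := fun Z a b h =>
    (cancel_epi p).1 (h PUnit.unit)
  suffices hcompat : ∀ (Z : Sheaf J (Type u)) (a b : Z ⟶ A), a ≫ p = b ≫ p →
      G.map a.op t = G.map b.op t by
    obtain ⟨x, hx, hux⟩ := (Presieve.isSheafFor_arrows_iff _ _).1 (descent_of_isSheaf G hG _ hpe)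
      (fun _ => t) (fun _ _ Z a b hab => hcompat Z a b hab)
    exact ⟨x, hx PUnit.unit, fun y hy => hux y fun _ => hy⟩
  intro Z a b hab
  refine (descent_of_isSheaf G hG _ (isEpiFamily_el Z)).isSeparatedFor.ext fun W k hk => ?_
  obtain ⟨⟨U, z⟩⟩ := hk
  simp only [← ConcreteCategory.comp_apply, ← G.map_comp, ← op_comp, el_comp]
  -- the presheaf quotient of `A` by the kernel of evaluation at `t`
  let st : ∀ V : Cᵒᵖ, Setoid (A.obj.obj V) := fun V =>
    Setoid.ker (fun a => G.map (el A (U := V.unop) a).op t)
  let P : Cᵒᵖ ⥤ Type u :=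
    { obj := fun V => Quotient (st V)
      map := fun {V W} g => ↾(Quotient.map (A.obj.map g) fun a a' (h : _ = _) => by
        change G.map (el A (A.obj.map g a)).op t = G.map (el A (A.obj.map g a')).op t
        rw [← g.op_unop, ← map_el, ← map_el]
        simp only [op_comp, G.map_comp, ConcreteCategory.comp_apply]
        exact congrArg _ h)
      map_id := fun V => by
        ext q
        induction q using Quotient.ind with
        | _ a => simp
      map_comp := fun g h => by
        ext q
        induction q using Quotient.ind with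
        | _ a => simp }
  let q : A.obj ⟶ P :=
    { app := fun V => ↾(fun a => Quotient.mk (st V) a)
      naturality := fun V W g => rfl }
  let r : A ⟶ (presheafToSheaf J (Type u)).obj P := ⟨q ≫ toSheafify J P⟩
  have hr : m₁ ≫ r = m₂ ≫ r := by
    apply Sheaf.hom_ext
    ext V y
    apply congrArg ((toSheafify J P).app V)
    apply Quotient.sound
    change G.map (el A (U := V.unop) (m₁.hom.app V y)).op t = G.map (el A (U := V.unop) (m₂.hom.app V y)).op t
    rw [← el_comp, ← el_comp]
    simp only [op_comp, G.map_comp, ConcreteCategory.comp_apply]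
    rw [ht]
  let a' := a.hom.app (op U) z
  let b' := b.hom.app (op U) z
  have hab' : p.hom.app (op U) a' = p.hom.app (op U) b' :=
    ConcreteCategory.congr_hom (congr_app (congrArg (·.hom) hab) (op U)) z
  have hr' : r.hom.app (op U) a' = r.hom.app (op U) b' := by
    have := congrArg ((coequalizer.desc r hr).hom.app (op U)) hab'
    simp only [← ConcreteCategory.comp_apply, ← NatTrans.comp_app,
      ← ObjectProperty.FullSubcategory.comp_hom, p, coequalizer.π_desc] at this
    exact this
  refine eq_of_locally G hG _ (Presheaf.equalizerSieve_mem J (toSheafify J P)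
    (q.app (op U) a') (q.app (op U) b') hr') _ _ fun V g hg => ?_
  simp only [← ConcreteCategory.comp_apply, ← G.map_comp, ← op_comp, map_el]
  exact Quotient.exact hg

include hG in
theorem preservesLimits_of_isSheaf : PreservesLimitsOfSize.{u, u} G := by
  have := preservesEqualizers G hG
  have := fun I => preservesProducts G hG I
  exact preservesLimits_of_preservesEqualizers_and_products G

end Converse

theorem isSheaf_canonical_iff {E' : Type v} [Category.{w} E'] (F : (Sheaf J (Type u))ᵒᵖ ⥤ E') :
    Presheaf.IsSheaf (Sheaf.canonicalTopology (Sheaf J (Type u))) F ↔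
      PreservesLimitsOfSize.{u, u} F := by
  refine ⟨fun hF => ⟨⟨fun {K} => ⟨fun {c} hc => ⟨?_⟩⟩⟩⟩, fun _ => isSheaf_of_preservesLimits F⟩
  refine coyonedaJointlyReflectsLimits _ _ fun e => ?_
  have := preservesLimits_of_isSheaf _ (hF e.unop)
  exact isLimitOfPreserves (F ⋙ coyoneda.obj e) hc

end Groth.Agent.H5TopCanonical
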