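import Mathlib
import Groth.Prelude
import Groth.Agent.Lib.H5TopCanonical

universe v u

open CategoryTheory CategoryTheory.Limits Opposite
open Groth.Agent.H5TopCanonical

namespace Groth.Agent.H5Cont

theorem unit_counit_isIso {C D : Type u} [SmallCategory C] [SmallCategory D]
    (J : GrothendieckTopology C) (K : GrothendieckTopology D) (u : C ⥤ D)
    [u.IsCocontinuous J K] [u.IsContinuous J K] [u.Full] [u.Faithful] (F : Sheaf J AddCommGrpCat.{u}) :
    IsIso ((u.sheafAdjunctionContinuous AddCommGrpCat.{u} J K).unit.app F) ∧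
      IsIso ((u.sheafAdjunctionCocontinuous AddCommGrpCat.{u} J K).counit.app F) := by
  have hc : ∀ F : Sheaf J AddCommGrpCat.{u},
      IsIso ((u.sheafAdjunctionCocontinuous AddCommGrpCat.{u} J K).counit.app F) := by
    intro F
    have : IsIso ((sheafToPresheaf J AddCommGrpCat.{u}).map
        ((u.sheafAdjunctionCocontinuous AddCommGrpCat.{u} J K).counit.app F)) := by
      change IsIso ((u.sheafAdjunctionCocontinuous AddCommGrpCat.{u} J K).counit.app F).hom
      rw [u.sheafAdjunctionCocontinuous_counit_app_hom]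
      have : IsIso (u.op.ranAdjunction AddCommGrpCat.{u}).counit := inferInstance
      exact ((asIso (u.op.ranAdjunction AddCommGrpCat.{u}).counit).app F.obj).isIso_hom
    exact isIso_of_fully_faithful (sheafToPresheaf J AddCommGrpCat.{u}) _
  have : IsIso (u.sheafAdjunctionCocontinuous AddCommGrpCat.{u} J K).counit := NatIso.isIso_of_isIso_app _
  have h1 : IsIso (u.sheafAdjunctionContinuous AddCommGrpCat.{u} J K).unit :=
    (Adjunction.Triple.mk (u.sheafAdjunctionContinuous AddCommGrpCat.{u} J K)
      (u.sheafAdjunctionCocontinuous AddCommGrpCat.{u} J K)).isIso_unit_iff_isIso_counit.2 this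
  exact ⟨inferInstance, hc F⟩

theorem preservesColimits_iff_isContinuous {C D : Type u} [SmallCategory C] [SmallCategory D]
    (J : GrothendieckTopology C) (K : GrothendieckTopology D) (f : Sheaf J (Type u) ⥤ Sheaf K (Type u)) :
    PreservesColimitsOfSize.{u, u} f ↔
      f.IsContinuous.{u} (Sheaf.canonicalTopology (Sheaf J (Type u))) (Sheaf.canonicalTopology (Sheaf K (Type u))) := by
  constructor
  · intro h
    constructor
    intro G
    rw [← isSheaf_iff_isSheaf_of_type]
    have h1 := (isSheaf_canonical_iff G.obj).1 G.property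
    have : PreservesLimitsOfSize.{u, u} f.op := preservesLimitsOfSize_op f
    exact (isSheaf_canonical_iff (f.op ⋙ G.obj)).2 (comp_preservesLimits f.op G.obj)
  · intro h
    refine ⟨⟨fun {F} => ⟨fun {c} hc => ⟨?_⟩⟩⟩⟩
    refine isColimitOfOp (yonedaJointlyReflectsLimits _ _ fun Z' => ?_)
    have h3 := Functor.op_comp_isSheaf_of_isSheaf_type (F := f) (J := Sheaf.canonicalTopology (Sheaf J (Type u)))
      (K := Sheaf.canonicalTopology (Sheaf K (Type u))) (Sheaf.isSheaf_yoneda_obj Z')
    have h4 := (isSheaf_canonical_iff (f.op ⋙ yoneda.obj Z')).1 ((isSheaf_iff_isSheaf_of_type _ _).2 h3)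
    have h5 := isLimitOfPreserves (f.op ⋙ yoneda.obj Z') hc.op
    exact h5

end Groth.Agent.H5Cont
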