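import Mathlib

open CategoryTheory CategoryTheory.Limits

namespace Groth.Agent.H5CoprodLE

universe u

theorem coprod_le {C : Type u} [SmallCategory C] {J J' : GrothendieckTopology C} (hJ : J ≤ J')
    {X : C} {ι : Type u} (Y : ι → C) (s : ∀ i, Y i ⟶ X)
    (h : Nonempty (IsColimit (Cofan.mk ((presheafToSheaf J (Type u)).obj (yoneda.obj X))
      (fun i => (presheafToSheaf J (Type u)).map (yoneda.map (s i)))))) :
    Nonempty (IsColimit (Cofan.mk ((presheafToSheaf J' (Type u)).obj (yoneda.obj X))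
      (fun i => (presheafToSheaf J' (Type u)).map (yoneda.map (s i))))) := by
  obtain ⟨hc⟩ := h
  let A := sheafificationAdjunction J (Type u)
  let A' := sheafificationAdjunction J' (Type u)
  let res : Sheaf J' (Type u) → Sheaf J (Type u) := fun G => ⟨G.obj, (isSheaf_iff_isSheaf_of_type _ _).2 (Presieve.isSheaf_of_le _ hJ ((isSheaf_iff_isSheaf_of_type _ _).1 G.property))⟩
  let e : ∀ (P : Cᵒᵖ ⥤ Type u) (G : Sheaf J' (Type u)),
      ((presheafToSheaf J' (Type u)).obj P ⟶ G) ≃ ((presheafToSheaf J (Type u)).obj P ⟶ res G) :=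
    fun P G => (A'.homEquiv P G).trans (A.homEquiv P (res G)).symm
  have nat : ∀ {P Q : Cᵒᵖ ⥤ Type u} (f : P ⟶ Q) (G : Sheaf J' (Type u))
      (m : (presheafToSheaf J' (Type u)).obj Q ⟶ G),
      e P G ((presheafToSheaf J' (Type u)).map f ≫ m) = (presheafToSheaf J (Type u)).map f ≫ e Q G m := by
    intro P Q f G m
    simp only [e, Equiv.trans_apply, Adjunction.homEquiv_naturality_left]
    exact A.homEquiv_naturality_left_symm _ _
  refine ⟨Cofan.IsColimit.mk _
    (fun t => (e (yoneda.obj X) t.pt).symm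
      (Cofan.IsColimit.desc hc (fun i => e (yoneda.obj (Y i)) t.pt (t.inj i)))) ?_ ?_⟩
  · intro t i
    apply (e (yoneda.obj (Y i)) t.pt).injective
    erw [nat, Equiv.apply_symm_apply]
    exact Cofan.IsColimit.fac hc _ i
  · intro t m hm
    apply (e (yoneda.obj X) t.pt).injective
    rw [Equiv.apply_symm_apply]
    refine Cofan.IsColimit.hom_ext hc _ _ fun i => ?_
    rw [Cofan.IsColimit.fac hc]
    refine (nat _ _ _).symm.trans ?_
    exact congrArg _ (hm i)

end Groth.Agent.H5CoprodLE
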