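import Mathlib

universe u

namespace Groth.Agent.H5DCAlg
open Submodule

variable {A : Type u} [CommRing A]

/-- the shift of sequences -/
def shf (M : Type u) [AddCommGroup M] [Module A M] : (ℕ → M) →ₗ[A] (ℕ → M) := LinearMap.funLeft A M (· + 1)

/-- the telescope map of `f` -/
def tel (f : A) (M : Type u) [AddCommGroup M] [Module A M] : (ℕ → M) →ₗ[A] (ℕ → M) :=
  LinearMap.id - f • shf M

variable {M N : Type u} [AddCommGroup M] [Module A M] [AddCommGroup N] [Module A N]

lemma tel_apply (f : A) (x : ℕ → M) (i : ℕ) : tel f M x i = x i - f • x (i + 1) := rfl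

/-- algebraic derived completeness in the direction `f` -/
def DCf (f : A) (M : Type u) [AddCommGroup M] [Module A M] : Prop := Function.Bijective (tel f M)

/-- algebraic derived completeness -/
def DC (I : Ideal A) (M : Type u) [AddCommGroup M] [Module A M] : Prop := ∀ f ∈ I, DCf f M

lemma tel_comp (f : A) (u : M →ₗ[A] N) (x : ℕ → M) : tel f N (u ∘ x) = u ∘ tel f M x := by
  funext i; simp [tel_apply]

lemma DCf.of_equiv {f : A} (e : M ≃ₗ[A] N) (h : DCf f M) : DCf f N := by
  constructor
  · intro x y hxy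
    have := h.1 (a₁ := e.symm ∘ x) (a₂ := e.symm ∘ y) (by
      rw [show (e.symm : N → M) = e.symm.toLinearMap from rfl, tel_comp, tel_comp, hxy])
    funext i; exact e.symm.injective (congrFun this i)
  · intro y
    obtain ⟨x, hx⟩ := h.2 (e.symm ∘ y)
    refine ⟨e ∘ x, ?_⟩
    rw [show (e : M → N) = e.toLinearMap from rfl, tel_comp, hx]
    funext i; simp

lemma DC.of_equiv {I : Ideal A} (e : M ≃ₗ[A] N) (h : DC I M) : DC I N := fun f hf => (h f hf).of_equiv e

lemma dcf_of_subsingleton (f : A) [Subsingleton M] : DCf f M :=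
  ⟨fun _ _ _ => Subsingleton.elim _ _, fun y => ⟨y, Subsingleton.elim _ _⟩⟩

lemma DCf.ker {f : A} (u : M →ₗ[A] N) (hM : DCf f M) (hN : DCf f N) : DCf f (LinearMap.ker u) := by
  let ι := (LinearMap.ker u).subtype
  constructor
  · intro x y hxy
    have := hM.1 (a₁ := ι ∘ x) (a₂ := ι ∘ y) (by rw [tel_comp, tel_comp, hxy])
    funext i; exact Subtype.ext (congrFun this i)
  · intro y
    obtain ⟨x, hx⟩ := hM.2 (ι ∘ y)
    have h0 : u ∘ x = 0 := hN.1 (by rw [tel_comp, hx, map_zero]; funext i; exact (y i).2)
    refine ⟨fun i => ⟨x i, congrFun h0 i⟩, funext fun i => Subtype.ext ?_⟩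
    exact congrFun hx i

lemma DC.ker {I : Ideal A} (u : M →ₗ[A] N) (hM : DC I M) (hN : DC I N) : DC I (LinearMap.ker u) :=
  fun f hf => (hM f hf).ker u (hN f hf)

lemma lift_seq {P : Submodule A N} (y : ℕ → N ⧸ P) : ∃ z : ℕ → N, P.mkQ ∘ z = y :=
  ⟨fun i => (P.mkQ_surjective (y i)).choose, funext fun i => (P.mkQ_surjective (y i)).choose_spec⟩

lemma DCf.coker {f : A} (u : M →ₗ[A] N) (hM : DCf f M) (hN : DCf f N) :
    DCf f (N ⧸ LinearMap.range u) := by
  let π := (LinearMap.range u).mkQ
  constructor
  · rw [injective_iff_map_eq_zero]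
    intro y hy
    obtain ⟨z, rfl⟩ := lift_seq y
    have h1 : ∀ i, tel f N z i ∈ LinearMap.range u := fun i =>
      (Submodule.Quotient.mk_eq_zero _).1 (congrFun ((tel_comp f π z).symm.trans hy) i)
    choose m hm using h1
    obtain ⟨m', hm'⟩ := hM.2 m
    have : u ∘ m' = z := hN.1 (by rw [tel_comp, hm']; funext i; exact hm i)
    funext i
    exact (Submodule.Quotient.mk_eq_zero _).2 ⟨m' i, congrFun this i⟩
  · intro y
    obtain ⟨z, rfl⟩ := lift_seq y
    obtain ⟨x, hx⟩ := hN.2 z
    exact ⟨π ∘ x, by rw [tel_comp, hx]⟩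

lemma DC.coker {I : Ideal A} (u : M →ₗ[A] N) (hM : DC I M) (hN : DC I N) :
    DC I (N ⧸ LinearMap.range u) := fun f hf => (hM f hf).coker u (hN f hf)

lemma DCf.extension {f : A} (P : Submodule A M) (h1 : DCf f P) (h3 : DCf f (M ⧸ P)) : DCf f M := by
  constructor
  · rw [injective_iff_map_eq_zero]
    intro x hx
    have h0 : P.mkQ ∘ x = 0 := h3.1 (by rw [tel_comp, hx, map_zero]; funext i; simp)
    let x' : ℕ → P := fun i => ⟨x i, (Submodule.Quotient.mk_eq_zero _).1 (congrFun h0 i)⟩
    have : x' = 0 := h1.1 (by rw [map_zero]; funext i; exact Subtype.ext (congrFun hx i))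
    funext i; exact congrArg Subtype.val (congrFun this i)
  · intro y
    obtain ⟨q, hq⟩ := h3.2 (P.mkQ ∘ y)
    obtain ⟨z, rfl⟩ := lift_seq q
    rw [tel_comp] at hq
    obtain ⟨w, hw⟩ := h1.2 fun i => ⟨y i - tel f M z i,
      (Submodule.Quotient.eq P).1 (congrFun hq i).symm⟩
    refine ⟨z + P.subtype ∘ w, ?_⟩
    rw [map_add, tel_comp, hw]
    funext i; simp

lemma DC.extension {I : Ideal A} (P : Submodule A M) (h1 : DC I P) (h3 : DC I (M ⧸ P)) : DC I M :=
  fun f hf => DCf.extension P (h1 f hf) (h3 f hf)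

lemma DCf.eq_zero {f : A} (h : DCf f M) {x : ℕ → M} (hx : ∀ i, x i = f • x (i + 1)) (i : ℕ) : x i = 0 :=
  congrFun (h.1 (a₁ := x) (a₂ := 0) (by rw [map_zero]; funext i; simp [tel_apply, ← hx i])) i

lemma dcf_mul {f : A} (g : A) (h : DCf f M) : DCf (g * f) M := by
  let E := LinearEquiv.ofBijective (tel f M) h
  constructor
  · rw [injective_iff_map_eq_zero]
    intro x hx
    funext i
    have hxe : ∀ j, x j = (g * f) • x (j + 1) := fun j => sub_eq_zero.1 (congrFun hx j)
    simpa using h.eq_zero (x := fun j => g ^ j • x (i + j)) (fun j => by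
      rw [hxe (i + j), smul_smul, smul_smul, ← add_assoc]; congr 1; ring) 0
  · intro y
    let w := fun i => E.symm fun j => g ^ j • y (i + j)
    have hw : ∀ i j, tel f M (w i) j = g ^ j • y (i + j) := fun i j => congrFun (E.apply_symm_apply _) j
    refine ⟨fun i => w i 0, funext fun i => ?_⟩
    have hu : (fun k => w i (k + 1)) = g • w (i + 1) := h.1 (funext fun k => by
      rw [map_smul, Pi.smul_apply, hw, smul_smul, ← pow_succ', tel_apply]
      exact (hw i (k + 1)).trans (by congr 2; ring))
    have h0 := hw i 0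
    rw [tel_apply, pow_zero, one_smul, add_zero, congrFun hu 0, Pi.smul_apply, smul_smul, mul_comm] at h0
    exact h0

lemma dcf_of_pow {f : A} {n : ℕ} (hn : 0 < n) (h : DCf (f ^ n) M) : DCf f M := by
  have inj : ∀ d : ℕ → M, (∀ i, d i = f ^ n • d (i + n)) → d = 0 := fun d hd => funext fun i => by
    simpa using h.eq_zero (x := fun j => d (i + n * j)) (fun j => by
      rw [hd (i + n * j)]; ring_nf) 0
  constructor
  · rw [injective_iff_map_eq_zero]
    intro x hx
    refine inj x fun i => ?_
    have hxe : ∀ j, x j = f • x (j + 1) := fun j => sub_eq_zero.1 (congrFun hx j)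
    have : ∀ m, x i = f ^ m • x (i + m) := by
      intro m
      induction m with
      | zero => simp
      | succ m ih =>
        rw [ih, hxe (i + m), smul_smul, ← pow_succ, ← add_assoc]
    exact this n
  · intro y
    let E := LinearEquiv.ofBijective (tel (f ^ n) M) h
    let z := fun i => ∑ j ∈ Finset.range n, f ^ j • y (i + j)
    let w := fun i => E.symm fun k => z (i + n * k)
    have hw : ∀ i k, tel (f ^ n) M (w i) k = z (i + n * k) := fun i k => congrFun (E.apply_symm_apply _) k
    let x := fun i => w i 0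
    have hx : ∀ i, x i = z i + f ^ n • x (i + n) := fun i => by
      have hu : (fun k => w i (k + 1)) = w (i + n) := h.1 (funext fun k => by
        rw [tel_apply]
        exact (hw i (k + 1)).trans ((congrArg z (by ring)).trans (hw (i + n) k).symm))
      have h0 := hw i 0
      rw [tel_apply, congrFun hu 0, mul_zero, add_zero] at h0
      exact sub_eq_iff_eq_add.1 h0
    have hz : ∀ i, z i - f • z (i + 1) - y i = -(f ^ n • y (i + n)) := fun i => by
      have : ∀ m, (∑ j ∈ Finset.range m, f ^ j • y (i + j)) -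
          f • (∑ j ∈ Finset.range m, f ^ j • y (i + 1 + j)) = y i - f ^ m • y (i + m) := by
        intro m
        induction m with
        | zero => simp
        | succ m ih =>
          rw [Finset.sum_range_succ, Finset.sum_range_succ, smul_add, add_sub_add_comm, ih, smul_smul,
            ← pow_succ', add_assoc i 1 m, add_comm 1 m]
          abel
      simp only [z]
      rw [this n]; abel
    refine ⟨x, funext fun i => sub_eq_zero.1 (congrFun (inj (fun i => tel f M x i - y i) fun i => ?_) i)⟩
    have e1 := hx i; have e2 := hx (i + 1)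
    simp only [tel_apply]
    rw [e1, e2, show i + 1 + n = i + n + 1 by ring]
    have := hz i
    rw [smul_add, smul_comm f (f ^ n), smul_sub, smul_sub]
    rw [sub_eq_iff_eq_add] at this
    linear_combination (norm := module) this

lemma dcf_add {f g : A} (hf : DCf f M) (hg : DCf g M) : DCf (f + g) M := by
  let Ef := LinearEquiv.ofBijective (tel f M) hf
  let Eg := LinearEquiv.ofBijective (tel g M) hg
  let S := shf (A := A) M
  have comm : ∀ (a : A) (h : DCf a M) (x : ℕ → M),
      S ((LinearEquiv.ofBijective (tel a M) h).symm x) = (LinearEquiv.ofBijective (tel a M) h).symm (S x) :=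
    fun a h x => by
      apply (LinearEquiv.ofBijective (tel a M) h).injective
      rw [LinearEquiv.apply_symm_apply]
      funext i
      exact congrFun ((LinearEquiv.ofBijective (tel a M) h).apply_symm_apply x) (i + 1)
  let P : ℕ → ((ℕ → M) →ₗ[A] (ℕ → M)) := fun b => ((Ef.symm.toLinearMap ∘ₗ S) ^ b) ∘ₗ Ef.symm.toLinearMap
  have hP0 : ∀ y, tel f M (P 0 y) = y := fun y => Ef.apply_symm_apply y
  have hP1 : ∀ b y, tel f M (P (b + 1) y) = S (P b y) := fun b y => by
    change Ef (((Ef.symm.toLinearMap ∘ₗ S) ^ (b + 1)) (Ef.symm y)) = _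
    rw [pow_succ']
    exact Ef.apply_symm_apply _
  have hPS : ∀ b y, P b (S y) = S (P b y) := fun b => by
    induction b with
    | zero => exact fun y => (comm f hf y).symm
    | succ b ih =>
      intro y
      apply Ef.injective
      change tel f M (P (b + 1) (S y)) = tel f M (S (P (b + 1) y))
      rw [hP1, ih]
      funext i
      exact (congrFun (hP1 b y) (i + 1)).symm
  let G : (ℕ → M) →ₗ[A] (ℕ → M) := LinearMap.pi fun i =>
    LinearMap.proj 0 ∘ₗ Eg.symm.toLinearMap ∘ₗ (LinearMap.pi fun b => LinearMap.proj (R := A) (φ := fun _ : ℕ => M) i ∘ₗ P b)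
  have hG : ∀ y i, G y i = Eg.symm (fun b => P b y i) 0 := fun _ _ => rfl
  have hGS : ∀ y, G (S y) = S (G y) := fun y => funext fun i => by
    rw [hG]; simp only [hPS]; rfl
  have inv : ∀ y, tel (f + g) M (G y) = y := fun y => funext fun i => by
    let Q := fun i => Eg.symm (fun b => P b y i)
    have hQ : ∀ i, tel g M (Q i) = fun b => P b y i := fun i => Eg.apply_symm_apply _
    let r := Q i - f • Q (i + 1)
    have hr : ∀ k, tel g M r k = tel f M (P k y) i := fun k => by
      simp only [r, map_sub, map_smul, hQ]; rfl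
    have h1 : (fun k => r (k + 1)) = Q (i + 1) := hg.1 (funext fun k => by
      rw [hQ, tel_apply]
      exact (hr (k + 1)).trans (congrFun (hP1 k y) i))
    have h0 : tel g M r 0 = y i := (hr 0).trans (congrFun (hP0 y) i)
    rw [tel_apply, congrFun h1 0] at h0
    rw [tel_apply, ← h0]
    change Q i 0 - (f + g) • Q (i + 1) 0 = (Q i 0 - f • Q (i + 1) 0) - g • Q (i + 1) 0
    rw [add_smul]; abel
  refine ⟨fun x x' h => ?_, fun y => ⟨G y, inv y⟩⟩
  have : ∀ x, G (tel (f + g) M x) = x := fun x => by
    have h2 : G (tel (f + g) M x) = tel (f + g) M (G x) := by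
      simp only [tel, LinearMap.sub_apply, LinearMap.id_apply, LinearMap.smul_apply, map_sub, map_smul]
      rw [hGS]
    rw [h2, inv]
  rw [← this x, h, this x']

lemma dcf_zero : DCf (0 : A) M := by
  have : tel (0 : A) M = LinearMap.id := by simp [tel]
  rw [DCf, this]; exact Function.bijective_id

/-- the radical ideal of complete directions -/
def dcIdeal (M : Type u) [AddCommGroup M] [Module A M] : Ideal A where
  carrier := {f | DCf f M}
  zero_mem' := dcf_zero
  add_mem' := dcf_add
  smul_mem' g _ h := dcf_mul g h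

lemma isRadical_dcIdeal : (dcIdeal (A := A) M).IsRadical := fun f ⟨n, hn⟩ => by
  cases n with
  | zero =>
    have := dcf_mul (M := M) f hn
    change DCf f M
    simpa using this
  | succ n => exact dcf_of_pow n.succ_pos hn

lemma dc_span {s : Set A} (h : ∀ f ∈ s, DCf f M) : DC (Ideal.span s) M :=
  fun _ hf => (Ideal.span_le (I := dcIdeal M)).2 h hf

lemma subsingleton_of_smul_eq_top : ∀ (r : ℕ) (v : Fin r → A) (N : Type u) [AddCommGroup N] [Module A N],
    DC (Ideal.span (Set.range v)) N → Ideal.span (Set.range v) • (⊤ : Submodule A N) = ⊤ → Subsingleton N := by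
  intro r
  induction r with
  | zero =>
    intro v N _ _ _ h
    rw [Set.range_eq_empty, Ideal.span_empty, Submodule.bot_smul] at h
    exact (Submodule.subsingleton_iff A).1 (subsingleton_of_bot_eq_top h)
  | succ r ih =>
    intro v N _ _ hc h
    let u : N →ₗ[A] N := LinearMap.lsmul A N (v 0)
    have hv : v = Fin.cons (v 0) (Fin.tail v) := (Fin.cons_self_tail v).symm
    have hle : Ideal.span (Set.range (Fin.tail v)) ≤ Ideal.span (Set.range v) :=
      Ideal.span_mono (Set.range_comp_subset_range Fin.succ v)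
    have hq := ih (Fin.tail v) (N ⧸ LinearMap.range u) (fun f hf => (hc f (hle hf)).coker u (hc f (hle hf))) (by
      have := congrArg (Submodule.map (LinearMap.range u).mkQ) h
      rw [Submodule.map_smul'', Submodule.map_top, Submodule.range_mkQ] at this
      refine le_antisymm le_top (this.symm.le.trans ?_)
      rw [hv, Fin.range_cons, Ideal.span_insert, Submodule.sup_smul]
      refine sup_le (Submodule.smul_le.2 fun a ha n _ => ?_) le_rfl
      obtain ⟨c, rfl⟩ := Ideal.mem_span_singleton'.1 ha
      obtain ⟨m, rfl⟩ := Submodule.mkQ_surjective _ n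
      rw [← map_smul]
      suffices (LinearMap.range u).mkQ ((c * v 0) • m) = 0 by rw [this]; exact zero_mem _
      refine (Submodule.Quotient.mk_eq_zero _).2 ⟨c • m, ?_⟩
      simp [u, smul_smul, mul_comm])
    have surj : ∀ m : N, ∃ m', v 0 • m' = m := fun m =>
      (Submodule.Quotient.mk_eq_zero (LinearMap.range u)).1 (Subsingleton.elim _ _)
    choose d hd using surj
    refine ⟨fun a b => sub_eq_zero.1 ?_⟩
    simpa using (hc (v 0) (Ideal.subset_span ⟨0, rfl⟩)).eq_zero (x := fun i => d^[i] (a - b))
      (fun i => by rw [Function.iterate_succ_apply', hd]) 0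

theorem DC.subsingleton {I : Ideal A} (hI : I.FG) (hc : DC I M)
    (h : I • (⊤ : Submodule A M) = ⊤) : Subsingleton M := by
  obtain ⟨r, v, rfl⟩ := Submodule.fg_iff_exists_fin_generating_family.1 hI
  exact subsingleton_of_smul_eq_top r v M hc h

end Groth.Agent.H5DCAlg
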