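import Groth.Agent.Lib.H5DComp

universe u

namespace Groth.Agent.H5DCApps
open Groth.Agent Groth.Agent.H5DCAlg Groth.Agent.H5DComp

attribute [local instance] HasDerivedCategory.standard

variable {A : Type u} [CommRing A] {M : Type u} [AddCommGroup M] [Module A M]

theorem complete_iff_homology (I : Ideal A) (K : Dual.D A) :
    DRing.IsDerivedComplete I K ↔ ∀ i : ℤ, DRing.IsDerivedComplete I (Dual.inD A (Dual.HD A K i)) := by
  rw [isDerivedComplete_iff]; simp only [isDerivedComplete_inD_iff]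

lemma dc_of_subsingleton (I : Ideal A) [Subsingleton M] : DC I M := fun f _ => dcf_of_subsingleton f

lemma dc_of_adic (I : Ideal A) [IsAdicComplete I M] : DC I M := by
  intro f hf
  constructor
  · rw [injective_iff_map_eq_zero]
    intro x hx
    funext i
    refine IsHausdorff.haus (I := I) inferInstance _ fun n => ?_
    rw [SModEq.zero]
    have : ∀ n i, x i = f ^ n • x (i + n) := by
      intro n
      induction n with
      | zero => simp
      | succ n ih =>
        intro i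
        have h1 : x (i + n) = f • x (i + n + 1) := sub_eq_zero.1 (congrFun hx (i + n))
        rw [ih i, h1, smul_smul, ← pow_succ]; rfl
    rw [this n i]
    exact Submodule.smul_mem_smul (Ideal.pow_mem_pow hf n) Submodule.mem_top
  · intro y
    let s := fun i n => ∑ k ∈ Finset.range n, f ^ k • y (i + k)
    have hs : ∀ i m n, m ≤ n → s i m ≡ s i n [SMOD (I ^ m • ⊤ : Submodule A M)] := fun i m n h => by
      rw [SModEq.comm, SModEq.sub_mem]
      simp only [s]
      rw [← Finset.sum_range_add_sum_Ico _ h, add_sub_cancel_left]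
      exact Submodule.sum_mem _ fun k hk => Submodule.smul_mem_smul
        (Ideal.pow_le_pow_right (Finset.mem_Ico.1 hk).1 (Ideal.pow_mem_pow hf k)) Submodule.mem_top
    choose x hx using fun i => IsPrecomplete.prec (I := I) inferInstance (f := s i) (fun {m n} h => hs i m n h)
    refine ⟨x, funext fun i => ?_⟩
    refine sub_eq_zero.1 (IsHausdorff.haus (I := I) inferInstance _ fun n => ?_)
    rw [SModEq.zero, tel_apply]
    have h1 := (SModEq.sub_mem.1 (hx i (n + 1)))
    have h2 := (SModEq.sub_mem.1 (hx (i + 1) n))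
    have h3 : s i (n + 1) = y i + f • s (i + 1) n := by
      simp only [s]
      rw [Finset.sum_range_succ', Finset.smul_sum, pow_zero, one_smul, add_zero, add_comm]
      congr 1
      exact Finset.sum_congr rfl fun k _ => by rw [smul_smul, pow_succ']; congr 2; ring
    have h1' : s i (n + 1) - x i ∈ (I ^ n • ⊤ : Submodule A M) :=
      Submodule.smul_mono (Ideal.pow_le_pow_right n.le_succ) le_rfl h1
    have : x i - f • x (i + 1) - y i = -(s i (n + 1) - x i) + f • (s (i + 1) n - x (i + 1)) := by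
      rw [h3, smul_sub]; abel
    rw [this]
    exact add_mem (neg_mem h1') (Submodule.smul_mem _ f h2)

/-- the series `Σ f^k y_k` -/
lemma series {f : A} (h : DCf f M) (y : ℕ → M) :
    ∃ z : ℕ → M, ∀ i n, z i = (∑ k ∈ Finset.range n, f ^ k • y (i + k)) + f ^ n • z (i + n) := by
  obtain ⟨z, hz⟩ := h.2 y
  refine ⟨z, fun i n => ?_⟩
  induction n with
  | zero => simp
  | succ n ih =>
    have h1 : z (i + n) = y (i + n) + f • z (i + (n + 1)) := sub_eq_iff_eq_add.1 (congrFun hz (i + n))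
    rw [ih, h1, Finset.sum_range_succ, smul_add, smul_smul, ← pow_succ]; abel

lemma mem_span_smul {r : ℕ} (g : Fin r → A) {x : M}
    (hx : x ∈ Ideal.span (Set.range g) • (⊤ : Submodule A M)) : ∃ m : Fin r → M, x = ∑ j, g j • m j := by
  refine Submodule.smul_induction_on hx (fun a ha n _ => ?_) (fun x y hx hy => ?_)
  · obtain ⟨c, rfl⟩ := Ideal.mem_span_range_iff_exists_fun.1 ha
    exact ⟨fun j => c j • n, by rw [Finset.sum_smul]; exact Finset.sum_congr rfl fun j _ => by rw [smul_smul, mul_comm]⟩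
  · obtain ⟨m, rfl⟩ := hx; obtain ⟨m', rfl⟩ := hy
    exact ⟨m + m', by simp [Finset.sum_add_distrib]⟩

theorem isPrecomplete_of_dc (I : Ideal A) (hI : I.FG) (hc : DC I M) : IsPrecomplete I M := by
  obtain ⟨r, v, rfl⟩ := Submodule.fg_iff_exists_fin_generating_family.1 hI
  let J := Ideal.span (Set.range v)
  let Jn := fun n : ℕ => Ideal.span (Set.range fun j => v j ^ n)
  have hJ : ∀ n, ∃ k, n ≤ k ∧ J ^ k ≤ Jn n := fun n => by
    obtain ⟨k, hk⟩ := Ideal.exists_pow_le_of_le_radical_of_fg (I := J) (J := Jn n) (by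
      refine Ideal.span_le.2 ?_
      rintro _ ⟨j, rfl⟩
      exact Ideal.mem_radical_iff.2 ⟨n, Ideal.subset_span ⟨j, rfl⟩⟩) hI
    exact ⟨max n k, le_max_left _ _, (Ideal.pow_le_pow_right (le_max_right _ _)).trans hk⟩
  choose k hk hkJ using hJ
  have hJn : ∀ n, Jn n ≤ J ^ n := fun n => Ideal.span_le.2 (by
    rintro _ ⟨j, rfl⟩; exact Ideal.pow_mem_pow (show v j ∈ J from Ideal.subset_span ⟨j, rfl⟩) n)
  let K : ℕ → ℕ := Nat.rec (k 0) (fun n a => max a (k (n + 1)))
  have hKk : ∀ n, k n ≤ K n := fun n => by cases n with | zero => rfl | succ n => exact le_max_right _ _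
  have hKm : ∀ n, K n ≤ K (n + 1) := fun n => le_max_left _ _
  refine ⟨fun x hx => ?_⟩
  have hd : ∀ n, ∃ m : Fin r → M, x (K (n + 1)) - x (K n) = ∑ j, v j ^ n • m j := fun n => by
    refine mem_span_smul _ (Submodule.smul_mono ((Ideal.pow_le_pow_right (hKk n)).trans (hkJ n)) le_rfl ?_)
    exact SModEq.sub_mem.1 (SModEq.comm.1 (hx (hKm n)))
  choose m hm using hd
  choose z hz using fun j => series (hc (v j) (Ideal.subset_span ⟨j, rfl⟩)) (fun n => m n j)
  refine ⟨x (K 0) + ∑ j, z j 0, fun n => ?_⟩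
  have h1 : x (K n) = x (K 0) + ∑ j, ∑ i ∈ Finset.range n, v j ^ i • m i j := by
    rw [Finset.sum_comm, show (∑ i ∈ Finset.range n, ∑ j, v j ^ i • m i j) =
      ∑ i ∈ Finset.range n, (x (K (i + 1)) - x (K i)) from Finset.sum_congr rfl fun i _ => (hm i).symm,
      Finset.sum_range_sub (fun i => x (K i))]
    abel
  refine (hx ((hk n).trans (hKk n))).trans (SModEq.sub_mem.2 ?_)
  rw [h1, show ∀ a b c : M, a + b - (a + c) = -(c - b) from fun a b c => by abel, ← Finset.sum_sub_distrib]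
  refine neg_mem (Submodule.sum_mem _ fun j _ => ?_)
  rw [hz j 0 n]
  simp only [Nat.zero_add, add_sub_cancel_left]
  exact Submodule.smul_mem_smul (hJn n (Ideal.subset_span ⟨j, rfl⟩)) Submodule.mem_top

lemma smul_eq_zero_of_divisible {f : A} (h : DCf f M) (a : A) (m : M)
    (ha : ∀ n : ℕ, ∃ b : A, ∀ x : M, a • x = f ^ n • b • x) (hm : ∀ n : ℕ, ∃ y, m = f ^ n • y) :
    a • m = 0 := by
  choose b hb using ha
  choose y hy using hm
  have h0 : b 0 • m = a • m := by rw [hb 0 m, pow_zero, one_smul]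
  rw [← h0]
  refine h.eq_zero (x := fun n => b n • m) (fun n => sub_eq_zero.1 ?_) 0
  rw [hy n, ← smul_assoc f, ← sub_smul, smul_smul, mul_comm, ← smul_smul, sub_smul, smul_sub, smul_assoc, ← hb,
    smul_smul (f ^ n) f, ← pow_succ, ← hb, sub_self]

theorem single_smul_eq_bot (f : A) (hc : DCf f M) :
    (⨅ n : ℕ, Ideal.span {f ^ n}) • (⨅ n : ℕ, (Ideal.span {f ^ n}) • (⊤ : Submodule A M)) = ⊥ := by
  refine le_bot_iff.1 (Submodule.smul_le.2 fun a ha m hm => (Submodule.mem_bot A).2 ?_)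
  refine smul_eq_zero_of_divisible hc a m (fun n => ?_) (fun n => ?_)
  · obtain ⟨b, hb⟩ := Ideal.mem_span_singleton'.1 (Ideal.mem_iInf.1 ha n)
    exact ⟨b, fun x => by rw [← hb, smul_smul, mul_comm]⟩
  · obtain ⟨y, hy⟩ := mem_span_smul (fun _ : Fin 1 => f ^ n)
      (by simpa only [Set.range_const] using (Submodule.mem_iInf _).1 hm n)
    exact ⟨y 0, by simpa using hy⟩

lemma iInf_pow_le : ∀ (r : ℕ) (v : Fin r → A) (K₀ : Ideal A), DC (Ideal.span (Set.range v)) (A ⧸ K₀) →
    (⨅ n : ℕ, (Ideal.span (Set.range v) ^ n ⊔ K₀)) ^ (2 ^ r) ≤ K₀ := by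
  intro r
  induction r with
  | zero =>
    intro v K₀ _
    rw [pow_zero, pow_one]
    refine (iInf_le _ 1).trans ?_
    rw [Set.range_eq_empty, Ideal.span_empty, pow_one, bot_sup_eq]
  | succ r ih =>
    intro v K₀ hc
    let I := Ideal.span (Set.range v)
    let I' := Ideal.span (Set.range (Fin.tail v))
    let J := ⨅ n : ℕ, (I ^ n ⊔ K₀)
    have hI' : I' ≤ I := Ideal.span_mono (Set.range_comp_subset_range Fin.succ v)
    have hI : I = Ideal.span {v 0} ⊔ I' := by
      simp only [I, I']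
      conv_lhs => rw [← Fin.cons_self_tail v, Fin.range_cons, Ideal.span_insert]
    have hk : ∀ k : ℕ, J ^ (2 ^ r) ≤ K₀ ⊔ Ideal.span {v 0 ^ k} := fun k => by
      let K₁ := K₀ ⊔ Ideal.span {v 0 ^ k}
      let u : (A ⧸ K₀) →ₗ[A] A ⧸ K₀ := LinearMap.lsmul A _ (v 0 ^ k)
      have hu : LinearMap.range u = Submodule.map K₀.mkQ K₁ := by
        ext x
        constructor
        · rintro ⟨y, rfl⟩
          obtain ⟨y, rfl⟩ := Submodule.Quotient.mk_surjective _ y
          exact ⟨v 0 ^ k * y, le_sup_right (a := K₀) (Ideal.mul_mem_right _ _ (Ideal.subset_span rfl)), rfl⟩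
        · rintro ⟨y, hy, rfl⟩
          obtain ⟨a, ha, b, hb, rfl⟩ := Submodule.mem_sup.1 hy
          obtain ⟨c, rfl⟩ := Ideal.mem_span_singleton'.1 hb
          refine ⟨Submodule.Quotient.mk c, ?_⟩
          rw [map_add, show K₀.mkQ a = 0 from (Submodule.Quotient.mk_eq_zero _).2 ha, zero_add]
          change Submodule.Quotient.mk (v 0 ^ k • c) = Submodule.Quotient.mk (c * v 0 ^ k)
          rw [smul_eq_mul, mul_comm]
      have hc' : DC I' (A ⧸ K₁) := fun g hg =>
        ((hc g (hI' hg)).coker u (hc g (hI' hg))).of_equiv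
          ((Submodule.quotEquivOfEq _ _ hu).trans (Submodule.quotientQuotientEquivQuotient K₀ K₁ le_sup_left))
      refine le_trans (Ideal.pow_right_mono (le_iInf fun n => ?_) _) (ih (Fin.tail v) K₁ hc')
      refine (iInf_le _ (n + k)).trans (sup_le ?_ (le_sup_of_le_right le_sup_left))
      rw [hI, sup_comm]
      refine Ideal.sup_pow_add_le_pow_sup_pow.trans (sup_le_sup le_rfl ?_)
      rw [Ideal.span_singleton_pow]; exact le_sup_right
    rw [pow_succ, pow_mul, sq]
    refine Ideal.mul_le.2 fun a ha b hb => ?_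
    have := smul_eq_zero_of_divisible (M := A ⧸ K₀) (hc (v 0) (Ideal.subset_span ⟨0, rfl⟩)) a
      (Submodule.Quotient.mk b) (fun k => ?_) (fun k => ?_)
    · rw [← Submodule.Quotient.mk_smul, Submodule.Quotient.mk_eq_zero] at this; exact this
    · obtain ⟨p, hp, q, hq, rfl⟩ := Submodule.mem_sup.1 (hk k ha)
      obtain ⟨c, rfl⟩ := Ideal.mem_span_singleton'.1 hq
      refine ⟨c, fun x => ?_⟩
      obtain ⟨x, rfl⟩ := Submodule.Quotient.mk_surjective _ x
      simp only [← Submodule.Quotient.mk_smul, smul_eq_mul]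
      refine (Submodule.Quotient.eq K₀).2 ?_
      rw [show (p + c * v 0 ^ k) * x - v 0 ^ k * (c * x) = p * x by ring]
      exact K₀.mul_mem_right _ hp
    · obtain ⟨p, hp, q, hq, rfl⟩ := Submodule.mem_sup.1 (hk k hb)
      obtain ⟨c, rfl⟩ := Ideal.mem_span_singleton'.1 hq
      refine ⟨Submodule.Quotient.mk c, ?_⟩
      rw [← Submodule.Quotient.mk_smul, smul_eq_mul]
      refine (Submodule.Quotient.eq K₀).2 ?_
      rw [show p + c * v 0 ^ k - v 0 ^ k * c = p by ring]
      exact hp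

theorem iInf_pow_eq_bot (s : Finset A) (hc : DC (Ideal.span (s : Set A)) A) :
    (⨅ n : ℕ, Ideal.span (s : Set A) ^ n) ^ (2 ^ s.card) = ⊥ := by
  let v : Fin s.card → A := fun i => (s.equivFin.symm i : A)
  have hv : Set.range v = (s : Set A) := by
    ext x; exact ⟨fun ⟨i, hi⟩ => hi ▸ (s.equivFin.symm i).2, fun hx => ⟨s.equivFin ⟨x, hx⟩, by simp [v]⟩⟩
  have := iInf_pow_le s.card v ⊥ (by rw [hv]; exact hc.of_equiv (Submodule.quotEquivOfEqBot ⊥ rfl).symm)
  simpa [hv] using this

theorem isAdicComplete_of_reduced [IsReduced A] (I : Ideal A) (hI : I.FG) (hc : DC I A) :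
    IsAdicComplete I A := by
  obtain ⟨s, rfl⟩ := hI
  have h0 := iInf_pow_eq_bot s hc
  have : IsHausdorff (Ideal.span (s : Set A)) A := ⟨fun x hx => by
    have hx' : x ∈ ⨅ n : ℕ, Ideal.span (s : Set A) ^ n := Ideal.mem_iInf.2 fun n => by
      simpa [SModEq.zero] using hx n
    have : x ^ (2 ^ s.card) = 0 := (Submodule.mem_bot A).1 (h0 ▸ Ideal.pow_mem_pow hx' _)
    exact IsReduced.eq_zero x ⟨_, this⟩⟩
  have := isPrecomplete_of_dc (Ideal.span (s : Set A)) ⟨s, rfl⟩ hc
  exact ⟨⟩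

theorem exists_pow_smul_eq_bot (I : Ideal A) (hI : I.FG) (hc : DC I M) (ht : LocCoh.IsPowerTorsion I M) :
    ∃ n : ℕ, I ^ n • (⊤ : Submodule A M) = ⊥ := by
  classical
  have key : ∀ f ∈ I, ∃ b : ℕ, ∀ m : M, f ^ b • m = 0 := by
    intro f hf
    obtain ⟨S, hS⟩ : ∃ S : (ℕ → M) → M, ∀ y n, ∃ w, S y = (∑ k ∈ Finset.range n, f ^ k • y k) + f ^ n • w := by
      choose z hz using series (hc f hf)
      exact ⟨fun y => z y 0, fun y n => ⟨z y n, by simpa using hz y 0 n⟩⟩
    let bad := fun (a n : ℕ) (p : ℕ → M) => ∀ y : ℕ → M, (∀ k < n, y k = p k) → ∀ N, ∃ w, f ^ a • S y = f ^ N • w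
    by_cases hb : ∃ a n p, bad a n p
    · obtain ⟨a, n, p, hp⟩ := hb
      -- f^{a+n} M is divisible
      have hdiv : ∀ (m : M) (N : ℕ), ∃ w : M, f ^ (a + n) • m = f ^ N • w := by
        intro m N
        obtain ⟨y₁, hy₁⟩ : ∃ y : ℕ → M, y = fun k => if k < n then p k else if k = n then m else 0 := ⟨_, rfl⟩
        obtain ⟨y₀, hy₀⟩ : ∃ y : ℕ → M, y = fun k => if k < n then p k else 0 := ⟨_, rfl⟩
        obtain ⟨u₁, hu₁⟩ := hS y₁ (n + N + 1)
        obtain ⟨u₀, hu₀⟩ := hS y₀ (n + N + 1)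
        obtain ⟨w₁, hw₁⟩ := hp y₁ (fun k hk => by simp [hy₁, hk]) N
        obtain ⟨w₀, hw₀⟩ := hp y₀ (fun k hk => by simp [hy₀, hk]) N
        have hd : (∑ k ∈ Finset.range (n + N + 1), f ^ k • y₁ k) -
            (∑ k ∈ Finset.range (n + N + 1), f ^ k • y₀ k) = f ^ n • m := by
          rw [← Finset.sum_sub_distrib, Finset.sum_eq_single n]
          · simp [hy₁, hy₀]
          · intro k _ hk; by_cases h : k < n <;> simp [hy₁, hy₀, h, hk]
          · intro h; exact absurd (Finset.mem_range.2 (by omega)) h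
        refine ⟨w₁ - w₀ - f ^ (a + n + 1) • (u₁ - u₀), ?_⟩
        have e : f ^ a • S y₁ - f ^ a • S y₀ = f ^ (a + n) • m + f ^ (a + (n + N + 1)) • (u₁ - u₀) := by
          rw [← smul_sub, hu₁, hu₀, pow_add f a n, mul_smul, ← hd, pow_add f a (n + N + 1), mul_smul]
          simp only [smul_sub, smul_add]; abel
        rw [hw₁, hw₀] at e
        simp only [smul_sub, smul_smul, ← pow_add] at e ⊢
        rw [show N + (a + n + 1) = a + (n + N + 1) by omega]
        rw [sub_eq_iff_eq_add] at e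
        rw [e]; abel
      refine ⟨a + n, fun m => ?_⟩
      have hstep : ∀ m : M, ∃ m', f ^ (a + n) • m = f • f ^ (a + n) • m' := fun m => by
        obtain ⟨w, hw⟩ := hdiv m (a + n + 1)
        exact ⟨w, by rw [hw, smul_smul, pow_succ']⟩
      choose d hd using hstep
      simpa using (hc f hf).eq_zero (x := fun i => f ^ (a + n) • d^[i] m)
        (fun i => by rw [Function.iterate_succ_apply']; exact hd _) 0
    · exfalso
      simp only [bad, not_exists, not_forall] at hb
      choose y hy N hN using hb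
      let st : ℕ → ℕ × (ℕ → M) := Nat.rec (0, 0) (fun a s => (max (s.1 + 1) (N a s.1 s.2), y a s.1 s.2))
      have hst : ∀ a, (st (a + 1)).1 = max ((st a).1 + 1) (N a (st a).1 (st a).2) ∧
          (st (a + 1)).2 = y a (st a).1 (st a).2 := fun a => ⟨rfl, rfl⟩
      have hmono : Monotone fun a => (st a).1 := monotone_nat_of_le_succ fun a => by
        rw [(hst a).1]; exact le_trans (Nat.le_succ _) (le_max_left _ _)
      have hge : ∀ a, a ≤ (st a).1 := fun a => by
        induction a with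
        | zero => exact Nat.zero_le _
        | succ a ih => rw [(hst a).1]; exact le_trans (Nat.succ_le_succ ih) (le_max_left _ _)
      have hagree : ∀ a b k, a ≤ b → k < (st a).1 → (st b).2 k = (st a).2 k := by
        intro a b k hab hk
        induction hab with
        | refl => rfl
        | step hab ih => rw [(hst _).2, hy _ _ _ k (lt_of_lt_of_le hk (hmono hab)), ih]
      let Y := fun k => (st (k + 1)).2 k
      have hY : ∀ a k, k < (st a).1 → Y k = (st a).2 k := fun a k hk => by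
        rcases le_total a (k + 1) with h | h
        · exact hagree a (k + 1) k h hk
        · exact (hagree (k + 1) a k h (lt_of_lt_of_le (Nat.lt_succ_self k) (hge (k + 1)))).symm
      obtain ⟨n, hn⟩ := ht (S Y)
      obtain ⟨w, hw⟩ := hS Y (st (n + 1)).1
      obtain ⟨w', hw'⟩ := hS (y n (st n).1 (st n).2) (st (n + 1)).1
      have hsum : (∑ k ∈ Finset.range (st (n + 1)).1, f ^ k • Y k) =
          ∑ k ∈ Finset.range (st (n + 1)).1, f ^ k • y n (st n).1 (st n).2 k :=
        Finset.sum_congr rfl fun k hk => by rw [hY (n + 1) k (Finset.mem_range.1 hk), (hst n).2]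
      refine hN n (st n).1 (st n).2 (f ^ (n + (st (n + 1)).1 - N n (st n).1 (st n).2) • (w' - w)) ?_
      have hle : N n (st n).1 (st n).2 ≤ n + (st (n + 1)).1 := by
        rw [(hst n).1]; exact le_add_left (le_max_right _ _)
      rw [smul_smul, ← pow_add, Nat.add_sub_cancel' hle, pow_add, mul_smul, hw']
      have h0 := hn (f ^ n) (Ideal.pow_mem_pow hf n)
      rw [hw, hsum, smul_add, add_eq_zero_iff_eq_neg] at h0
      rw [smul_add, h0, smul_sub, smul_sub]; abel
  obtain ⟨n, hn⟩ := Ideal.exists_pow_le_of_le_radical_of_fg (I := I) (J := Module.annihilator A M)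
    (fun f hf => (key f hf).elim fun b hb => ⟨b, Module.mem_annihilator.2 hb⟩) hI
  exact ⟨n, le_bot_iff.1 (Submodule.smul_le.2 fun a ha m _ => (Submodule.mem_bot A).2
    (Module.mem_annihilator.1 (hn ha) m))⟩

theorem henselian (I : Ideal A) (hc : DC I A) : HenselianRing A I := by
  have hu : ∀ f ∈ I, IsUnit (1 - f) := fun f hf => by
    obtain ⟨x, hx⟩ := (hc f hf).2 (fun _ => 1)
    have : (fun i => x (i + 1)) = x := (hc f hf).1 (funext fun i => by
      rw [congrFun hx i, tel_apply]; exact congrFun hx (i + 1))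
    have h0 := congrFun hx 0
    rw [tel_apply, congrFun this 0, smul_eq_mul] at h0
    exact IsUnit.of_mul_eq_one (x 0) (by rw [sub_mul, one_mul]; exact h0)
  have hjac : I ≤ Ideal.jacobson ⊥ := fun f hf => Ideal.mem_jacobson_bot.2 fun b => by
    simpa [sub_neg_eq_add, add_comm] using hu (-(f * b)) (neg_mem (I.mul_mem_right _ hf))
  refine ⟨hjac, fun p _ a₀ ha₀ hu₀ => ?_⟩
  let f := p.eval a₀
  have hunit : ∀ b, b - a₀ ∈ Ideal.span {f} → IsUnit (p.derivative.eval b) := fun b hb => by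
    have h1 : Ideal.Quotient.mk I (p.derivative.eval b) = Ideal.Quotient.mk I (p.derivative.eval a₀) :=
      Ideal.Quotient.eq.2 ((Ideal.span_singleton_le_iff_mem I).2 ha₀
        (Ideal.span {f} |>.mem_of_dvd (p.derivative.sub_dvd_eval_sub b a₀) hb))
    obtain ⟨c, hc'⟩ := hu₀
    obtain ⟨d, hd⟩ := Ideal.Quotient.mk_surjective (↑c⁻¹ : A ⧸ I)
    have hmem : p.derivative.eval b * d - 1 ∈ I := Ideal.Quotient.eq.1 (by
      rw [map_mul, h1, ← hc', hd, Units.mul_inv, map_one])
    have := hu _ (neg_mem hmem)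
    exact isUnit_of_mul_isUnit_left (x := p.derivative.eval b) (y := d) (by simpa using this)
  -- Newton step
  have step : ∀ b, b - a₀ ∈ Ideal.span {f} → ∀ k : ℕ, ∀ c : A, p.eval b = f ^ (k + 1) * c →
      ∃ b', b' - b ∈ Ideal.span {f ^ (k + 1)} ∧ p.eval b' ∈ Ideal.span {f ^ (k + 1) * f ^ (k + 1)} := by
    intro b hb k c hck
    obtain ⟨w, hw⟩ := (hunit b hb).exists_right_inv
    obtain ⟨q, hq⟩ := p.binomExpansion b (-(f ^ (k + 1) * c * w))
    refine ⟨b + -(f ^ (k + 1) * c * w), Ideal.mem_span_singleton'.2 ⟨-(c * w), by ring⟩,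
      Ideal.mem_span_singleton'.2 ⟨q * (c * w) ^ 2, ?_⟩⟩
    rw [hq, hck]
    linear_combination (f ^ (k + 1) * c) * hw
  let P := fun (k : ℕ) (b : A) => b - a₀ ∈ Ideal.span {f} ∧ p.eval b ∈ Ideal.span {f ^ (k + 1)}
  have hex : ∀ k b, P k b → ∃ b', P (k + 1) b' ∧ b' - b ∈ Ideal.span {f ^ (k + 1)} := by
    rintro k b ⟨h1, h2⟩
    obtain ⟨c, hc'⟩ := Ideal.mem_span_singleton'.1 h2
    obtain ⟨b', h3, h4⟩ := step b h1 k c (by rw [← hc', mul_comm])
    refine ⟨b', ⟨?_, Ideal.span_singleton_le_span_singleton.2 ?_ h4⟩, h3⟩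
    · rw [← sub_add_sub_cancel b' b a₀]
      exact add_mem (Ideal.span_singleton_le_span_singleton.2 (dvd_pow_self f k.succ_ne_zero) h3) h1
    · rw [← pow_add]; exact pow_dvd_pow f (by omega)
  choose nx hnx hnd using hex
  let seq : ∀ k, { b // P k b } := fun k => Nat.rec
    ⟨a₀, by simp, by rw [pow_one]; exact Ideal.subset_span rfl⟩ (fun k b => ⟨nx k b.1 b.2, hnx k b.1 b.2⟩) k
  let If := Ideal.span {f}
  have hpre : IsPrecomplete If A := isPrecomplete_of_dc If (Submodule.fg_span_singleton f)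
    (fun g hg => hc g ((Ideal.span_singleton_le_iff_mem I).2 ha₀ hg))
  obtain ⟨L, hL⟩ := hpre.prec' (fun k => (seq k).1) (fun {m n} hmn => by
    induction hmn with
    | refl => exact SModEq.refl _
    | @step n hmn ih =>
      refine ih.trans (SModEq.sub_mem.2 ?_)
      rw [smul_eq_mul, Ideal.mul_top, ← neg_mem_iff, neg_sub]
      exact Ideal.pow_le_pow_right (Nat.le_succ_of_le hmn) (by
        rw [Ideal.span_singleton_pow]; exact hnd n (seq n).1 (seq n).2))
  have hL' : ∀ n, (seq n).1 - L ∈ If ^ n := fun n => by simpa [SModEq.sub_mem] using hL n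
  have hLf : L - a₀ ∈ If := by
    rw [show L - a₀ = ((seq 1).1 - a₀) - ((seq 1).1 - L) by ring]
    have h1 : (seq 1).1 - a₀ ∈ If := (seq 1).2.1
    have h2 : (seq 1).1 - L ∈ If := by simpa using hL' 1
    exact sub_mem h1 h2
  have hJ : ∀ n : ℕ, p.eval L ∈ Ideal.span {f ^ n} := fun n => by
    rw [← sub_sub_cancel (p.eval (seq n).1) (p.eval L)]
    refine sub_mem (Ideal.span_singleton_le_span_singleton.2 (pow_dvd_pow f n.le_succ) (seq n).2.2) ?_
    have := hL' n
    rw [Ideal.span_singleton_pow] at this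
    exact Ideal.mem_of_dvd _ (p.sub_dvd_eval_sub _ _) this
  obtain ⟨w, hw⟩ := (hunit L hLf).exists_right_inv
  obtain ⟨q, hq⟩ := p.binomExpansion L (-(p.eval L * w))
  have hsq : p.eval L * p.eval L = 0 := by
    have hd : ∀ n : ℕ, ∃ y, p.eval L = f ^ n * y := fun n => by
      obtain ⟨y, hy⟩ := Ideal.mem_span_singleton'.1 (hJ n)
      exact ⟨y, by rw [← hy, mul_comm]⟩
    exact smul_eq_zero_of_divisible (M := A) (hc f ha₀) _ _
      (fun n => (hd n).elim fun y hy => ⟨y, fun x => by simp [hy, mul_assoc]⟩) hd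
  refine ⟨L + -(p.eval L * w), ?_, ?_⟩
  · rw [Polynomial.IsRoot, hq]
    linear_combination (q * w ^ 2) * hsq - (p.eval L) * hw
  · refine (Ideal.span_singleton_le_iff_mem I).2 ha₀ ?_
    rw [show L + -(p.eval L * w) - a₀ = (L - a₀) - p.eval L * w by ring]
    have h1 := hJ 1
    rw [pow_one] at h1
    exact sub_mem hLf (Ideal.mul_mem_right _ _ h1)

theorem exists_radical (K : Dual.D A) : ∃ J : Ideal A, J.IsRadical ∧
    (J : Set A) = {f : A | ∀ n : ℤ, Subsingleton (Dual.inD A (Localization.Away f) ⟶ K⟦n⟧)} := by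
  refine ⟨⨅ n : ℤ, dcIdeal (Dual.HD A K n), fun f ⟨k, hk⟩ => Ideal.mem_iInf.2 fun n =>
    isRadical_dcIdeal ⟨k, Ideal.mem_iInf.1 hk n⟩, ?_⟩
  ext f
  simp only [SetLike.mem_coe, Ideal.mem_iInf, Set.mem_ofPred_eq]
  exact (bijective_tel_iff f K).symm

end Groth.Agent.H5DCApps
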