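import Groth.Agent.Lib.H5DCApps
import Groth.Agent.Lib.H5Perf
import Groth.Agent.Lib.H5WayOut
import Groth.Prelude.Def_DTen5

universe u

namespace Groth.Agent.H5DCRes
open CategoryTheory Limits Category Pretriangulated HomologicalComplex
open scoped ZeroObject
open Groth.Agent Groth.Agent.H5DCAlg Groth.Agent.H5DComp

attribute [local instance] HasDerivedCategory.standard

variable {A B : Type u} [CommRing A] [CommRing B] (φ : A →+* B)

lemma preserves_resCx (T : Type u) : PreservesColimitsOfShape (Discrete T) (DTen.resCx φ) := by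
  have : PreservesColimitsOfShape (Discrete T) (ModuleCat.restrictScalars.{u} φ) :=
    (ModuleCat.restrictCoextendScalarsAdj φ).leftAdjoint_preservesColimits.preservesColimitsOfShape
  refine ⟨fun {K} => ⟨fun {c} hc => ⟨HomologicalComplex.isColimitOfEval _ _ fun i => ?_⟩⟩⟩
  exact isColimitOfPreserves (ModuleCat.restrictScalars.{u} φ)
    (isColimitOfPreserves (HomologicalComplex.eval _ (ComplexShape.up ℤ) i) hc)

lemma preserves_restrictD (T : Type u) : PreservesColimitsOfShape (Discrete T) (DRing.restrictD φ) := by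
  refine ⟨fun {K} => ?_⟩
  let G := DRing.restrictD φ
  choose k e using fun t : T => (⟨_, ⟨DerivedCategory.Q.objObjPreimageIso (K.obj ⟨t⟩)⟩⟩ :
    ∃ k, Nonempty (DerivedCategory.Q.obj k ≅ K.obj ⟨t⟩))
  let d : Discrete.functor (fun t => DerivedCategory.Q.obj (k t)) ≅ K := Discrete.natIso fun ⟨t⟩ => (e t).some
  suffices PreservesColimit (Discrete.functor (fun t => DerivedCategory.Q.obj (k t))) G from
    preservesColimit_of_iso_diagram G d
  obtain ⟨hc⟩ := H5Perf.sigma_Q k
  refine preservesColimit_of_preserves_colimit_cocone hc ((isColimitMapCoconeCofanMkEquiv G _ _).symm ?_)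
  let Φ := DTen.resCx φ
  have := preserves_resCx φ T
  let s : (∐ fun t => Φ.obj (k t)) ≅ Φ.obj (∐ k) := PreservesCoproduct.iso Φ k |>.symm
  let hΦ := (H5Perf.sigma_Q (fun t => Φ.obj (k t))).some
  let η := DTen.resFactors φ
  refine IsColimit.ofIsoColimit ((IsColimit.precomposeHomEquiv
    (Discrete.natIso fun ⟨t⟩ => η.app (k t) :
      Discrete.functor (fun t => G.obj (DerivedCategory.Q.obj (k t))) ≅
        Discrete.functor (fun t => DerivedCategory.Q.obj (Φ.obj (k t))))
    (Cofan.mk _ fun t => DerivedCategory.Q.map (Sigma.ι (fun t => Φ.obj (k t)) t))).symm hΦ)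
    (Cofan.ext (DerivedCategory.Q.mapIso s ≪≫ (η.app (∐ k)).symm) (fun t => ?_))
  change (η.hom.app (k t) ≫ DerivedCategory.Q.map (Sigma.ι (fun t => Φ.obj (k t)) t)) ≫
      DerivedCategory.Q.map s.hom ≫ η.inv.app (∐ k) = G.map (DerivedCategory.Q.map (Sigma.ι k t))
  have h : Sigma.ι (fun t => Φ.obj (k t)) t ≫ s.hom = Φ.map (Sigma.ι k t) := by
    simp [s, PreservesCoproduct.inv_hom]
  rw [assoc, ← Functor.map_comp_assoc, h]
  have n1 := η.inv.naturality (Sigma.ι k t)
  dsimp at n1
  exact (congrArg (fun z => η.hom.app (k t) ≫ z) n1).trans (Iso.hom_inv_id_app_assoc _ _ _)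

lemma dc_res_iff (I : Ideal A) (N : ModuleCat.{u} B) :
    DC I ((DTen.resM φ).obj N) ↔ DC (I.map φ) N := by
  refine ⟨fun h => ?_, fun h f hf => h (φ f) (Ideal.mem_map_of_mem φ hf)⟩
  rw [Ideal.map]
  exact dc_span (by rintro _ ⟨f, hf, rfl⟩; exact h f hf)

theorem complete_res_iff (I : Ideal A) (L : Dual.D B) :
    DRing.IsDerivedComplete (I.map φ) L ↔ DRing.IsDerivedComplete I ((DRing.restrictD φ).obj L) := by
  rw [isDerivedComplete_iff, isDerivedComplete_iff]
  have e := fun n => (H5WayOut.mapDerived_H (ModuleCat.restrictScalars.{u} φ) L n).some.toLinearEquiv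
  exact ⟨fun h n => ((dc_res_iff φ I _).2 (h n)).of_equiv (e n).symm,
    fun h n => (dc_res_iff φ I _).1 ((h n).of_equiv (e n))⟩

lemma dc_pi {I : Ideal A} {M : Type u} [AddCommGroup M] [Module A M] (h : DC I M) (ι : Type) :
    DC I (ι → M) := fun f hf => by
  constructor
  · intro x y hxy
    funext i j
    exact congrFun ((h f hf).1 (a₁ := fun i => x i j) (a₂ := fun i => y i j)
      (funext fun i => congrFun (congrFun hxy i) j)) i
  · intro y
    choose x hx using fun j : ι => (h f hf).2 fun i => y i j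
    exact ⟨fun i j => x j i, funext fun i => funext fun j => congrFun (hx j) i⟩

theorem complete_of_pseudoCoherent (I : Ideal A) (hA : DRing.IsDerivedComplete I (Dual.inD A A))
    (K : Dual.D A) (hK : DRing.IsPseudoCoherent' A K) : DRing.IsDerivedComplete I K := by
  rw [isDerivedComplete_inD_iff] at hA
  obtain ⟨E, b, -, hE, ⟨e⟩⟩ := hK
  rw [isDerivedComplete_iff]
  intro n
  have hX : ∀ m, DC I (E.X m) := fun m => by
    have := (hE m).1; have := (hE m).2
    let bs := Module.Free.chooseBasis A (E.X m)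
    exact (dc_pi hA (Fin (Fintype.card _))).of_equiv ((bs.reindex (Fintype.equivFin _)).equivFun).symm
  let S := E.sc n
  have hker : DC I (LinearMap.ker S.g.hom) := (hX _).ker S.g.hom (hX _)
  have hq : DC I (LinearMap.ker S.g.hom ⧸ LinearMap.range S.moduleCatToCycles) :=
    DC.coker S.moduleCatToCycles (hX _) hker
  let i : (LinearMap.ker S.g.hom ⧸ LinearMap.range S.moduleCatToCycles) ≃ₗ[A] Dual.HD A K n :=
    (S.moduleCatHomologyIso.symm ≪≫
      ((DerivedCategory.homologyFunctorFactors (ModuleCat.{u} A) n).app E).symm ≪≫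
      (DerivedCategory.homologyFunctor (ModuleCat.{u} A) n).mapIso e).toLinearEquiv
  exact hq.of_equiv i

theorem away_iff (f : A) (K : Dual.D A) :
    (∀ n : ℤ, Subsingleton (Dual.inD A (Localization.Away f) ⟶ K⟦n⟧)) ↔
      ∀ E : Dual.D (Localization.Away f),
        Subsingleton ((DRing.restrictD (algebraMap A (Localization.Away f))).obj E ⟶ K) := by
  let B := Localization.Away f
  let G := DRing.restrictD (algebraMap A B)
  let e0 : (DTen.resM (algebraMap A B)).obj (ModuleCat.of B B) ≅ ModuleCat.of A B :=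
    LinearEquiv.toModuleIso (show ((DTen.resM (algebraMap A B)).obj (ModuleCat.of B B) : Type u) ≃ₗ[A] B from
      { toFun := fun x => x
        invFun := fun x => x
        left_inv := fun _ => rfl
        right_inv := fun _ => rfl
        map_add' := fun _ _ => rfl
        map_smul' := fun r x => (Algebra.smul_def r (A := B) x).symm })
  let i₀ : G.obj (Dual.inD B B) ≅ Dual.inD A B :=
    ((ModuleCat.restrictScalars.{u} (algebraMap A B)).mapDerivedCategorySingleFunctor 0).app (ModuleCat.of B B) ≪≫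
      (DerivedCategory.singleFunctor (ModuleCat.{u} A) 0).mapIso e0
  let iS : ∀ n : ℤ, G.obj ((Dual.inD B B)⟦n⟧) ≅ (Dual.inD A B)⟦n⟧ := fun n =>
    (G.commShiftIso n).app _ ≪≫ (shiftFunctor _ n).mapIso i₀
  constructor
  · intro h E
    have := preserves_restrictD (algebraMap A B)
    have key := H5Perf.devissage (A := B) (fun E => ∀ n : ℤ, ∀ x : G.obj E ⟶ K⟦n⟧, x = 0)
      (fun e hX n x => by rw [← cancel_epi (G.map e.hom), comp_zero]; exact hX n _)
      (fun j n x => by
        let r : (Dual.inD B B)⟦-j⟧ ≅ DerivedCategory.Q.obj (H5BrownGroth.RS B j) :=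
          ((DerivedCategory.singleFunctors (ModuleCat.{u} B)).shiftIso (-j) j 0 (by omega)).app
            (ModuleCat.of B B) ≪≫ (DerivedCategory.singleFunctorIsoCompQ (ModuleCat.{u} B) j).app _
        rw [← cancel_epi ((iS (-j)).symm ≪≫ G.mapIso r).hom, comp_zero]
        generalize ((iS (-j)).symm ≪≫ G.mapIso r).hom ≫ x = y
        let i : (K⟦n + j⟧)⟦-j⟧ ≅ K⟦n⟧ := ((shiftFunctorAdd' (Dual.D A) (n + j) (-j) n (by omega)).app K).symm
        obtain ⟨z, hz⟩ := (shiftFunctor (Dual.D A) (-j)).map_surjective (y ≫ i.inv)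
        have := h (n + j)
        rw [show z = 0 from this.elim _ _, Functor.map_zero] at hz
        exact ((cancel_mono i.inv).1 (hz.symm.trans zero_comp.symm)))
      (fun T X c hc hX n x => Cofan.IsColimit.hom_ext (c := Cofan.mk _ fun t => G.map (c.inj t))
        (isColimitCofanMkObjOfIsColimit G _ _ hc) _ _ (fun t => (hX t n _).trans comp_zero.symm))
      (fun T hT h₁ h₂ n x => by
        obtain ⟨g, hg⟩ := Triangle.yoneda_exact₃ _ (G.map_distinguished T hT) x (h₂ n _)
        have hg0 : g = 0 := by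
          let i : (K⟦n - 1⟧)⟦(1 : ℤ)⟧ ≅ K⟦n⟧ := ((shiftFunctorAdd' (Dual.D A) (n - 1) 1 n (by omega)).app K).symm
          obtain ⟨z, hz⟩ := (shiftFunctor (Dual.D A) (1 : ℤ)).map_surjective (g ≫ i.inv)
          rw [show z = 0 from h₁ (n - 1) z, Functor.map_zero] at hz
          exact ((cancel_mono i.inv).1 (hz.symm.trans zero_comp.symm))
        rw [hg, hg0, comp_zero]
        rfl) E 0
    refine ⟨fun a b => (cancel_mono ((shiftFunctorZero (Dual.D A) ℤ).inv.app K)).1 ?_⟩
    exact (key _).trans (key _).symm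
  · intro h n
    refine ⟨fun a b => ?_⟩
    have := h ((Dual.inD B B)⟦-n⟧)
    apply (shiftFunctor (Dual.D A) (-n)).map_injective
    rw [← cancel_epi (iS (-n)).hom, ← cancel_mono ((shiftFunctorCompIsoId (Dual.D A) n (-n) (by omega)).hom.app K)]
    exact this.elim _ _

theorem isZero_completion {I : Ideal A} [DRing.HasDerivedCompletion I] (K : DRing.Cx A) (f : A) (hf : f ∈ I)
    (hK : ∀ i : ℤ, Function.Bijective (fun x : K.X i => f • x)) :
    IsZero ((DRing.derivedCompletion I).obj (DRing.toD K)).obj := by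
  let C := (DRing.derivedCompletion I).obj (DRing.toD K)
  have hi : IsIso (f • 𝟙 (DRing.toD K)) := by
    have : IsIso (f • 𝟙 K) := by
      have : ∀ i, IsIso ((f • 𝟙 K : K ⟶ K).f i) := fun i =>
        (ConcreteCategory.isIso_iff_bijective _).2 (hK i)
      exact Hom.isIso_of_components _
    rw [show f • 𝟙 (DRing.toD K) = DerivedCategory.Q.map (f • 𝟙 K) by
      rw [Functor.map_smul, CategoryTheory.Functor.map_id]]
    infer_instance
  have e : (DRing.derivedCompletion I).map (f • 𝟙 (DRing.toD K)) = ObjectProperty.homMk (f • 𝟙 C.obj) := by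
    let η := (DRing.derivedCompletionAdj I).unit.app (DRing.toD K)
    apply ((DRing.derivedCompletionAdj I).homEquiv (DRing.toD K) C).injective
    rw [Adjunction.homEquiv_unit, Adjunction.homEquiv_unit]
    have h1 := (DRing.derivedCompletionAdj I).unit.naturality (f • 𝟙 (DRing.toD K))
    refine h1.symm.trans ?_
    change (f • 𝟙 (DRing.toD K)) ≫ η = η ≫ (f • 𝟙 C.obj)
    rw [Linear.smul_comp, Linear.comp_smul, id_comp]
    exact congrArg (f • ·) (comp_id η).symm
  have hi1 : IsIso (ObjectProperty.homMk (f • 𝟙 C.obj) : C ⟶ C) := by rw [← e]; infer_instance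
  have hi2 : IsIso (f • 𝟙 C.obj) :=
    Functor.map_isIso (ObjectProperty.ι (DRing.IsDerivedComplete I))
      (ObjectProperty.homMk (f • 𝟙 C.obj) : C ⟶ C)
  let X := DerivedCategory.Q.objPreimage C.obj
  let eX : DerivedCategory.Q.obj X ≅ C.obj := DerivedCategory.Q.objObjPreimageIso C.obj
  have hX : IsIso (DerivedCategory.Q.map (f • 𝟙 X)) := by
    have : DerivedCategory.Q.map (f • 𝟙 X) = eX.hom ≫ (f • 𝟙 C.obj) ≫ eX.inv := by
      rw [Functor.map_smul, CategoryTheory.Functor.map_id, Linear.smul_comp, Linear.comp_smul, id_comp, Iso.hom_inv_id]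
    rw [this]; infer_instance
  have hq : QuasiIso (f • 𝟙 X) := (DerivedCategory.isIso_Q_map_iff_quasiIso _ _).1 hX
  have hH : ∀ n, IsZero (X.homology n) := fun n => by
    have hb : IsIso (homologyMap (f • 𝟙 X) n) := inferInstance
    have he : homologyMap (f • 𝟙 X) n = f • 𝟙 _ := by
      have hc : cyclesMap (f • 𝟙 X) n = f • 𝟙 _ := by
        rw [← cancel_mono (X.iCycles n), cyclesMap_i]; simp
      rw [← cancel_epi (X.homologyπ n), homologyπ_naturality, hc]; simp
    rw [he] at hb
    have hs : ∀ x : X.homology n, ∃ y, x = f • y := fun x => by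
      obtain ⟨y, hy⟩ := ((ConcreteCategory.isIso_iff_bijective _).1 hb).2 x
      exact ⟨y, hy.symm⟩
    choose d hd using hs
    have hc : DCf f (X.homology n) := ((isDerivedComplete_iff I C.obj).1 C.property n f hf).of_equiv
      ((DerivedCategory.homologyFunctor _ n).mapIso eX.symm ≪≫
        (DerivedCategory.homologyFunctorFactors (ModuleCat.{u} A) n).app X).toLinearEquiv
    have : Subsingleton (X.homology n) := ⟨fun a b => sub_eq_zero.1 (by
      simpa using hc.eq_zero (x := fun i => d^[i] (a - b))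
        (fun i => by rw [Function.iterate_succ_apply']; exact hd _) 0)⟩
    exact ModuleCat.isZero_of_subsingleton _
  have : QuasiIso (0 : X ⟶ (0 : DRing.Cx A)) := by
    rw [quasiIso_iff]; intro i
    rw [quasiIsoAt_iff_exactAt _ _ ((exactAt_iff_isZero_homology _ _).2 (hH i))]
    exact ShortComplex.exact_of_isZero_X₂ _
      ((HomologicalComplex.eval _ (ComplexShape.up ℤ) i).map_isZero (isZero_zero _))
  exact ((DerivedCategory.Q.map_isZero (isZero_zero _)).of_iso
    (asIso (DerivedCategory.Q.map (0 : X ⟶ (0 : DRing.Cx A))))).of_iso eX.symm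

end Groth.Agent.H5DCRes
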