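import Groth.Agent.Lib.H5DCAlg
import Groth.Agent.Lib.H5DTen
import Groth.Prelude.Def_DRing3

universe u

namespace Groth.Agent.H5DComp
open CategoryTheory Limits Category Pretriangulated HomologicalComplex
open Groth.Agent Groth.Agent.H5DCAlg

attribute [local instance] HasDerivedCategory.standard

variable {A : Type u} [CommRing A]

/-- `H⁰` -/
noncomputable abbrev H₀ : Dual.D A ⥤ ModuleCat.{u} A := DerivedCategory.homologyFunctor (ModuleCat.{u} A) 0

/-- `H⁰(M[0]) ≅ M` -/
noncomputable def cIso : DerivedCategory.singleFunctor (ModuleCat.{u} A) 0 ⋙ H₀ ≅ 𝟭 (ModuleCat.{u} A) :=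
  (Functor.isoWhiskerLeft (CochainComplex.singleFunctor (ModuleCat.{u} A) 0)
      (DerivedCategory.homologyFunctorFactors (ModuleCat.{u} A) 0) ≪≫
    HomologicalComplex.homologyFunctorSingleIso (ModuleCat.{u} A) (ComplexShape.up ℤ) 0 : _)

/-- the map on `H⁰` -/
noncomputable def ev {M : ModuleCat.{u} A} {L : Dual.D A}
    (φ : (DerivedCategory.singleFunctor (ModuleCat.{u} A) 0).obj M ⟶ L) : M ⟶ H₀.obj L :=
  cIso.inv.app M ≫ H₀.map φ

lemma ev_comp {M : ModuleCat.{u} A} {L L' : Dual.D A}
    (φ : (DerivedCategory.singleFunctor (ModuleCat.{u} A) 0).obj M ⟶ L) (ψ : L ⟶ L') :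
    ev (φ ≫ ψ) = ev φ ≫ H₀.map ψ := by simp [ev]

lemma ev_pre {M M' : ModuleCat.{u} A} {L : Dual.D A} (u : M ⟶ M')
    (φ : (DerivedCategory.singleFunctor (ModuleCat.{u} A) 0).obj M' ⟶ L) :
    ev ((DerivedCategory.singleFunctor (ModuleCat.{u} A) 0).map u ≫ φ) = u ≫ ev φ := by
  have h := cIso.inv.naturality u
  simp only [ev, Functor.map_comp]
  rw [← assoc, ← assoc]
  exact congrArg (· ≫ H₀.map φ) h.symm

/-- the same on complexes -/
noncomputable def ev₀ {M : ModuleCat.{u} A} {K : DRing.Cx A}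
    (f : (single (ModuleCat.{u} A) (ComplexShape.up ℤ) 0).obj M ⟶ K) : M ⟶ K.homology 0 :=
  (homologyFunctorSingleIso (ModuleCat.{u} A) (ComplexShape.up ℤ) 0).inv.app M ≫ homologyMap f 0

lemma ev_Q {M : ModuleCat.{u} A} {K : DRing.Cx A}
    (f : (single (ModuleCat.{u} A) (ComplexShape.up ℤ) 0).obj M ⟶ K) :
    ev (DerivedCategory.Q.map f : (DerivedCategory.singleFunctor (ModuleCat.{u} A) 0).obj M ⟶ _) ≫
      (DerivedCategory.homologyFunctorFactors (ModuleCat.{u} A) 0).hom.app K = ev₀ f := by
  have h := (DerivedCategory.homologyFunctorFactors (ModuleCat.{u} A) 0).hom.naturality f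
  simp only [ev, ev₀, assoc]
  refine (congrArg (fun t => cIso.inv.app M ≫ t) h).trans ?_
  change ((homologyFunctorSingleIso (ModuleCat.{u} A) (ComplexShape.up ℤ) 0).inv.app M ≫
    (DerivedCategory.homologyFunctorFactors (ModuleCat.{u} A) 0).inv.app _) ≫ _ ≫ homologyMap f 0 = _
  rw [assoc]
  exact congrArg (fun t => _ ≫ t) (Iso.inv_hom_id_app_assoc _ _ _)

lemma ev₀_eq {M : ModuleCat.{u} A} {K : DRing.Cx A} (p : M ⟶ K.cycles 0) :
    ev₀ (mkHomFromSingle (p ≫ K.iCycles 0) (fun j _ => by rw [assoc, iCycles_d, comp_zero])) =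
      p ≫ K.homologyπ 0 := by
  let f := mkHomFromSingle (p ≫ K.iCycles 0) (fun j (_ : (ComplexShape.up ℤ).Rel 0 j) => by
    rw [assoc, iCycles_d, comp_zero])
  have h3 : cyclesMap f 0 = (singleObjCyclesSelfIso (ComplexShape.up ℤ) 0 _).hom ≫ p := by
    rw [← cancel_mono (K.iCycles 0), cyclesMap_i, assoc]
    simp [f, mkHomFromSingle_f, singleObjCyclesSelfIso_hom]
  have h4 := homologyπ_naturality f 0
  rw [h3, assoc] at h4
  change (singleObjHomologySelfIso (ComplexShape.up ℤ) 0 M).inv ≫ homologyMap f 0 = _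
  rw [← singleObjCyclesSelfIso_inv_homologyπ, assoc, h4, Iso.inv_hom_id_assoc]

theorem ev_bijective (M : ModuleCat.{u} A) [Projective M] (L : Dual.D A) :
    Function.Bijective (fun φ : (DerivedCategory.singleFunctor (ModuleCat.{u} A) 0).obj M ⟶ L => ev φ) := by
  have : CochainComplex.IsKProjective ((single (ModuleCat.{u} A) (ComplexShape.up ℤ) 0).obj M) := by
    have : ∀ m, Projective (((single (ModuleCat.{u} A) (ComplexShape.up ℤ) 0).obj M).X m) := fun m => by
      by_cases h : m = 0
      · subst h; exact Projective.of_iso (singleObjXSelf (ComplexShape.up ℤ) 0 M).symm inferInstance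
      · exact (isZero_single_obj_X _ _ _ _ h).projective
    exact CochainComplex.isKProjective_of_projective _ 0
  let K := DerivedCategory.Q.objPreimage L
  let e := DerivedCategory.Q.objObjPreimageIso L
  let η := (DerivedCategory.homologyFunctorFactors (ModuleCat.{u} A) 0).app K
  suffices h : Function.Bijective (fun φ : (DerivedCategory.singleFunctor (ModuleCat.{u} A) 0).obj M ⟶
      DerivedCategory.Q.obj K => ev φ ≫ η.hom) by
    have h2 : (fun φ : (DerivedCategory.singleFunctor (ModuleCat.{u} A) 0).obj M ⟶ L => ev φ) =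
        (fun g => g ≫ η.inv ≫ H₀.map e.hom) ∘ (fun φ => ev φ ≫ η.hom) ∘ (fun φ => φ ≫ e.inv) := by
      funext φ
      simp only [Function.comp_apply, assoc, Iso.hom_inv_id_assoc]
      rw [← ev_comp, assoc, Iso.inv_hom_id, comp_id]
    rw [h2]
    refine Function.Bijective.comp ?_ (h.comp ?_)
    · exact ⟨fun a b hab => (cancel_mono (η.inv ≫ H₀.map e.hom)).1 hab,
        fun b => ⟨b ≫ inv (η.inv ≫ H₀.map e.hom), by simp⟩⟩
    · exact ⟨fun a b hab => (cancel_mono e.inv).1 hab, fun b => ⟨b ≫ e.hom, by simp⟩⟩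
  constructor
  · intro φ φ' hφ
    suffices key : ∀ ψ : (DerivedCategory.singleFunctor (ModuleCat.{u} A) 0).obj M ⟶
        DerivedCategory.Q.obj K, ev ψ ≫ η.hom = 0 → ψ = 0 by
      refine sub_eq_zero.1 (key _ ?_)
      simp only [ev, Functor.map_sub, Preadditive.comp_sub, Preadditive.sub_comp] at hφ ⊢
      rw [sub_eq_zero]; exact hφ
    intro ψ hψ
    obtain ⟨f, hf⟩ := H5DTen.surj_of_kproj (K := (single (ModuleCat.{u} A) (ComplexShape.up ℤ) 0).obj M) ψ
    subst hf
    have h0 : ev₀ f = 0 := (ev_Q f).symm.trans hψ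
    let g := (singleObjXSelf (ComplexShape.up ℤ) 0 M).inv ≫ f.f 0
    have hg : g ≫ K.d 0 1 = 0 := by simp [g]
    let p := K.liftCycles g 1 (by simp) hg
    have hfp : f = mkHomFromSingle (p ≫ K.iCycles 0) (fun j _ => by rw [assoc, iCycles_d, comp_zero]) :=
      from_single_hom_ext (by simp [p, g])
    rw [hfp, ev₀_eq] at h0
    have hex : (ShortComplex.mk (K.toCycles (-1) 0) (K.homologyπ 0) (K.toCycles_comp_homologyπ _ _)).Exact :=
      ShortComplex.exact_of_g_is_cokernel _ (K.homologyIsCokernel (-1) 0 (by simp))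
    let h := hex.liftFromProjective p h0
    have hh : h ≫ K.d (-1) 0 = g := by
      rw [← K.toCycles_i (-1) 0, ← assoc]
      exact (congrArg (· ≫ K.iCycles 0) (hex.liftFromProjective_comp p h0)).trans (by simp [p])
    refine (DerivedCategory.Q_map_eq_of_homotopy _ (?_ : Homotopy f 0)).trans (Functor.map_zero _ _ _)
    let hom : ∀ i j, ((single (ModuleCat.{u} A) (ComplexShape.up ℤ) 0).obj M).X i ⟶ K.X j := fun i j =>
      if hij : i = 0 ∧ j = -1 then
        eqToHom (by rw [hij.1]) ≫ (singleObjXSelf (ComplexShape.up ℤ) 0 M).hom ≫ h ≫ eqToHom (by rw [hij.2])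
      else 0
    refine
      { hom := hom
        zero := fun i j hij => ?_
        comm := fun i => ?_ }
    · by_cases hc : i = 0 ∧ j = -1
      · exact absurd (by simp [hc.1, hc.2]) hij
      · exact dif_neg hc
    · by_cases hi : i = 0
      · subst hi
        rw [zero_f, add_zero, dNext_eq hom (show (ComplexShape.up ℤ).Rel 0 1 by simp),
          prevD_eq hom (show (ComplexShape.up ℤ).Rel (-1) 0 by simp)]
        simp [hom, hh, g]
      · exact (isZero_single_obj_X _ _ _ _ hi).eq_of_src _ _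
  · intro g
    have : Epi (K.homologyπ 0) := Cofork.IsColimit.epi (K.homologyIsCokernel (-1) 0 (by simp))
    let p := @Projective.factorThru _ _ _ _ _ _ g (K.homologyπ 0) this
    refine ⟨DerivedCategory.Q.map (mkHomFromSingle (p ≫ K.iCycles 0)
      (fun j _ => by rw [assoc, iCycles_d, comp_zero])), ?_⟩
    exact (ev_Q _).trans ((ev₀_eq p).trans (@Projective.factorThru_comp _ _ _ _ _ _ g (K.homologyπ 0) this))

section telescope

variable (f : A)

/-- the telescope differential -/
noncomputable def telU : (ℕ →₀ A) →ₗ[A] (ℕ →₀ A) :=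
  Finsupp.linearCombination A fun i => Finsupp.single i 1 - f • Finsupp.single (i + 1) 1

/-- to the localization -/
noncomputable def telP : (ℕ →₀ A) →ₗ[A] Localization.Away f :=
  Finsupp.linearCombination A fun i => Localization.mk 1 (⟨f, Submonoid.mem_powers f⟩ ^ i)

lemma telU_single (i : ℕ) (r : A) :
    telU f (Finsupp.single i r) = Finsupp.single i r - Finsupp.single (i + 1) (f * r) := by
  simp [telU, Finsupp.linearCombination_single, smul_sub, mul_comm]

lemma telP_telU : telP f ∘ₗ telU f = 0 := by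
  refine Finsupp.lhom_ext fun i r => ?_
  simp only [LinearMap.comp_apply, telU, telP, Finsupp.linearCombination_single, map_smul, map_sub,
    LinearMap.zero_apply, one_smul]
  rw [Localization.smul_mk, smul_eq_mul, mul_one, sub_eq_zero.2, smul_zero]
  refine Localization.mk_eq_mk_iff.2 (Localization.r_of_eq ?_)
  simp [pow_succ', mul_comm]

lemma telP_surjective : Function.Surjective (telP f) := fun z => by
  induction z using Localization.induction_on with
  | H x =>
    obtain ⟨a, ⟨_, n, rfl⟩⟩ := x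
    refine ⟨Finsupp.single n a, ?_⟩
    rw [telP, Finsupp.linearCombination_single, Localization.smul_mk, smul_eq_mul, mul_one]
    congr 1

lemma telU_apply (x : ℕ →₀ A) (i : ℕ) : telU f x (i + 1) = x (i + 1) - f * x i ∧ telU f x 0 = x 0 := by
  induction x using Finsupp.induction_linear with
  | zero => simp
  | add x y hx hy =>
    rw [(telU f).map_add]; simp only [Finsupp.add_apply, hx.1, hy.1, hx.2, hy.2]
    exact ⟨by ring, trivial⟩
  | single j r =>
    rw [telU_single]
    simp only [Finsupp.sub_apply, Finsupp.single_apply, Nat.add_right_cancel_iff]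
    refine ⟨?_, ?_⟩ <;> split_ifs <;> simp_all

lemma telU_injective : Function.Injective (telU f) := by
  rw [injective_iff_map_eq_zero]
  intro x hx
  have h : ∀ i, x i = 0 := fun i => by
    induction i with
    | zero => rw [← (telU_apply f x 0).2, hx]; rfl
    | succ i ih =>
      have := (telU_apply f x i).1
      rw [hx, ih, mul_zero, sub_zero] at this
      exact this.symm
  exact Finsupp.ext h

lemma tel_exact : LinearMap.ker (telP f) = LinearMap.range (telU f) := by
  refine le_antisymm (fun x hx => ?_) (by rintro _ ⟨y, rfl⟩; exact LinearMap.congr_fun (telP_telU f) y)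
  let R := LinearMap.range (telU f)
  have step : ∀ (i d : ℕ) (a : A), Finsupp.single i a - Finsupp.single (i + d) (f ^ d * a) ∈ R := by
    intro i d
    induction d with
    | zero => intro a; simp
    | succ d ih =>
      intro a
      rw [← sub_add_sub_cancel _ (Finsupp.single (i + d) (f ^ d * a))]
      refine add_mem (ih a) ⟨Finsupp.single (i + d) (f ^ d * a), ?_⟩
      rw [telU_single, ← add_assoc, ← mul_assoc, ← pow_succ']
  have norm : ∀ x : ℕ →₀ A, ∃ N, ∀ n, N ≤ n → ∃ c, x - Finsupp.single n c ∈ R := by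
    intro x
    induction x using Finsupp.induction_linear with
    | zero => exact ⟨0, fun n _ => ⟨0, by simp⟩⟩
    | single i a =>
      refine ⟨i, fun n hn => ⟨f ^ (n - i) * a, ?_⟩⟩
      have := step i (n - i) a
      rwa [Nat.add_sub_cancel' hn] at this
    | add x y hx hy =>
      obtain ⟨N, hN⟩ := hx
      obtain ⟨N', hN'⟩ := hy
      refine ⟨max N N', fun n hn => ?_⟩
      obtain ⟨c, hc⟩ := hN n (le_of_max_le_left hn)
      obtain ⟨c', hc'⟩ := hN' n (le_of_max_le_right hn)
      refine ⟨c + c', ?_⟩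
      rw [Finsupp.single_add, add_sub_add_comm]
      exact add_mem hc hc'
  obtain ⟨N, hN⟩ := norm x
  obtain ⟨c, hc⟩ := hN N le_rfl
  obtain ⟨y, hy⟩ := hc
  have h0 : telP f (Finsupp.single N c) = 0 := by
    have := LinearMap.congr_fun (telP_telU f) y
    rw [LinearMap.comp_apply, hy, map_sub, LinearMap.mem_ker.1 hx, zero_sub] at this
    simpa using this
  rw [telP, Finsupp.linearCombination_single, Localization.smul_mk, smul_eq_mul, mul_one] at h0
  obtain ⟨⟨_, k, rfl⟩, hk⟩ := (IsLocalization.mk'_eq_zero_iff c _).1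
    ((Localization.mk_eq_mk'_apply c _).symm.trans h0)
  have := step N k c
  rw [show f ^ k * c = 0 from hk, Finsupp.single_zero, sub_zero] at this
  rw [show x = (x - Finsupp.single N c) + Finsupp.single N c by simp]
  exact add_mem ⟨y, hy⟩ this

/-- the telescope sequence -/
noncomputable def telSeq : ShortComplex (ModuleCat.{u} A) :=
  ShortComplex.mk (ModuleCat.ofHom (telU f)) (ModuleCat.ofHom (telP f))
    (ModuleCat.hom_ext (telP_telU f))

lemma shortExact_telSeq : (telSeq f).ShortExact where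
  exact := (ShortComplex.moduleCat_exact_iff _).2 fun x hx => (tel_exact f).le hx
  mono_f := (ModuleCat.mono_iff_injective _).2 (telU_injective f)
  epi_g := (ModuleCat.epi_iff_surjective _).2 (telP_surjective f)

/-- `Hom((ℕ →₀ A)[0], L) → H⁰(L)^ℕ` -/
noncomputable def seqOf {L : Dual.D A} (φ : (DerivedCategory.singleFunctor (ModuleCat.{u} A) 0).obj (ModuleCat.of A (ℕ →₀ A)) ⟶ L) :
    ℕ → H₀.obj L := fun i => (ev φ).hom (Finsupp.single i 1)

lemma seqOf_bijective (L : Dual.D A) : Function.Bijective (seqOf (L := L)) := by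
  have : Projective (ModuleCat.of A (ℕ →₀ A)) := ModuleCat.projective_of_categoryTheory_projective _
  have h : Function.Bijective (fun g : ModuleCat.of A (ℕ →₀ A) ⟶ H₀.obj L => fun i => g.hom (Finsupp.single i 1)) :=
    ⟨fun g g' hgg => ModuleCat.hom_ext (Finsupp.lhom_ext fun i r => by
        rw [← mul_one r, ← smul_eq_mul, ← Finsupp.smul_single, map_smul, map_smul]
        exact congrArg (r • ·) (congrFun hgg i)),
      fun v => ⟨ModuleCat.ofHom (Finsupp.linearCombination A v), funext fun i => by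
        simp [Finsupp.linearCombination_single]⟩⟩
  exact h.comp (ev_bijective _ L)

lemma seqOf_tel {L : Dual.D A} (φ : (DerivedCategory.singleFunctor (ModuleCat.{u} A) 0).obj (ModuleCat.of A (ℕ →₀ A)) ⟶ L) :
    seqOf ((DerivedCategory.singleFunctor (ModuleCat.{u} A) 0).map (telSeq f).f ≫ φ) = tel f _ (seqOf φ) := by
  funext i
  simp only [seqOf, tel_apply]
  change (ev ((DerivedCategory.singleFunctor (ModuleCat.{u} A) 0).map (ModuleCat.ofHom (telU f)) ≫ φ)).hom _ = _
  rw [ev_pre]
  change (ev φ).hom (telU f (Finsupp.single i 1)) = _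
  rw [telU_single, mul_one, map_sub, ← Finsupp.smul_single_one (i + 1) f, map_smul]

theorem bijective_tel_iff (K : Dual.D A) :
    (∀ n : ℤ, Subsingleton (Dual.inD A (Localization.Away f) ⟶ K⟦n⟧)) ↔
      ∀ n : ℤ, DCf f (Dual.HD A K n) := by
  let T := (shortExact_telSeq f).singleTriangle
  have hT : T ∈ distinguishedTriangles := (shortExact_telSeq f).singleTriangle_distinguished
  let pre : ∀ L, (T.obj₂ ⟶ L) → (T.obj₁ ⟶ L) := fun L φ => T.mor₁ ≫ φ
  have e : ∀ L, DCf f (H₀.obj L) ↔ Function.Bijective (pre L) := fun L => by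
    have hc : seqOf ∘ pre L = tel f (H₀.obj L) ∘ seqOf := funext fun φ => seqOf_tel f φ
    exact ⟨fun h => ((seqOf_bijective L).of_comp_iff' _).1 (hc ▸ h.comp (seqOf_bijective L)),
      fun h => (Function.Bijective.of_comp_iff _ (seqOf_bijective L)).1 (hc ▸ (seqOf_bijective L).comp h)⟩
  have sh : ∀ n : ℤ, DCf f (Dual.HD A K n) ↔ Function.Bijective (pre (K⟦n⟧)) := fun n => by
    let i := (((DerivedCategory.homologyFunctor (ModuleCat.{u} A) 0).shiftIso n 0 n (by omega)).app K).toLinearEquiv
    rw [← e]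
    exact ⟨fun h => h.of_equiv i.symm, fun h => h.of_equiv i⟩
  simp only [sh]
  constructor
  · intro h n
    constructor
    · intro φ φ' hφ
      obtain ⟨y, hy⟩ := Triangle.yoneda_exact₂ T hT (φ - φ') (by
        rw [Preadditive.comp_sub, sub_eq_zero]; exact hφ)
      have := h n
      rw [show y = 0 from this.elim _ _] at hy
      exact sub_eq_zero.1 (hy.trans comp_zero)
    · intro ψ
      have h0 : T.invRotate.mor₁ ≫ ψ = 0 := by
        apply (shiftFunctor (Dual.D A) (1 : ℤ)).map_injective
        rw [Functor.map_zero]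
        have := h (n + 1)
        let i : (K⟦n⟧)⟦(1 : ℤ)⟧ ≅ K⟦n + 1⟧ := ((shiftFunctorAdd (Dual.D A) n 1).app K).symm
        let j := (shiftFunctorCompIsoId (Dual.D A) (-1 : ℤ) 1 (by omega)).app T.obj₃
        rw [← cancel_mono i.hom, zero_comp]
        exact (cancel_epi j.inv).1 (this.elim _ _)
      obtain ⟨φ, hφ⟩ := Triangle.yoneda_exact₂ T.invRotate (inv_rot_of_distTriang T hT) ψ h0
      exact ⟨φ, hφ.symm⟩
  · intro h n
    refine ⟨fun y y' => sub_eq_zero.1 ?_⟩
    generalize y - y' = z
    have h2 : T.mor₂ ≫ z = 0 := (h n).1 (by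
      exact ((assoc _ _ _).symm.trans ((congrArg (fun t => t ≫ z) (comp_distTriang_mor_zero₁₂ T hT)).trans
        zero_comp)).trans comp_zero.symm)
    obtain ⟨w, rfl⟩ := Triangle.yoneda_exact₃ T hT z h2
    let i : (K⟦n - 1⟧)⟦(1 : ℤ)⟧ ≅ K⟦n⟧ := ((shiftFunctorAdd' (Dual.D A) (n - 1) 1 n (by omega)).app K).symm
    obtain ⟨w', hw'⟩ := (shiftFunctor (Dual.D A) (1 : ℤ)).map_surjective (w ≫ i.inv)
    obtain ⟨v, rfl⟩ := (h (n - 1)).2 w'
    have hw : w = (shiftFunctor (Dual.D A) (1 : ℤ)).map (T.mor₁ ≫ v) ≫ i.hom := by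
      rw [hw', assoc, Iso.inv_hom_id, comp_id]
    rw [hw, Functor.map_comp, assoc, comp_distTriang_mor_zero₃₁_assoc T hT, zero_comp]
    rfl

theorem isDerivedComplete_iff (I : Ideal A) (K : Dual.D A) :
    DRing.IsDerivedComplete I K ↔ ∀ n : ℤ, DC I (Dual.HD A K n) :=
  ⟨fun h n f hf => (bijective_tel_iff f K).1 (h f hf) n,
    fun h f hf => (bijective_tel_iff f K).2 (fun n => h n f hf)⟩

lemma isZero_HD_inD (M : Type u) [AddCommGroup M] [Module A M] (n : ℤ) (hn : n ≠ 0) :
    Subsingleton (Dual.HD A (Dual.inD A M) n) := by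
  refine ModuleCat.subsingleton_of_isZero (IsZero.of_iso ?_
    ((DerivedCategory.homologyFunctor _ n).mapIso ((DerivedCategory.singleFunctorIsoCompQ _ 0).app _) ≪≫
      (DerivedCategory.homologyFunctorFactors (ModuleCat.{u} A) n).app _))
  exact HomologicalComplex.isZero_single_obj_homology _ _ _ _ hn

theorem isDerivedComplete_inD_iff (I : Ideal A) (M : Type u) [AddCommGroup M] [Module A M] :
    DRing.IsDerivedComplete I (Dual.inD A M) ↔ DC I M := by
  rw [isDerivedComplete_iff]
  let e := (cIso.app (ModuleCat.of A M)).toLinearEquiv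
  refine ⟨fun h => (h 0).of_equiv e, fun h n => ?_⟩
  by_cases hn : n = 0
  · subst hn; exact h.of_equiv e.symm
  · have := isZero_HD_inD (A := A) M n hn
    exact fun f _ => dcf_of_subsingleton f

end telescope

end Groth.Agent.H5DComp
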