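import Groth.Prelude.Def_ega3
import Mathlib.Topology.Semicontinuity.Basic
import Mathlib.RingTheory.Flat.EquationalCriterion
import Mathlib.RingTheory.Spectrum.Prime.FreeLocus
set_option autoImplicit false
universe u
open CategoryTheory CategoryTheory.Limits TensorProduct

namespace Groth.Agent.H5DRank
variable {A : Type u} [CommRing A]

section
variable (k : Type u) [CommRing k] [Algebra A k]

def resEquiv : ((ModuleCat.restrictScalars (algebraMap A k)).obj (ModuleCat.of k k)) ≃ₗ[A] k where
  toFun x := x
  invFun x := x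
  map_add' _ _ := rfl
  map_smul' a x := show (algebraMap A k a * (show k from x) : k) = a • (show k from x) from (Algebra.smul_def a _).symm
  left_inv _ := rfl
  right_inv _ := rfl

noncomputable def bcEquivA (M : ModuleCat.{u} A) :
    ((ModuleCat.extendScalars (algebraMap A k)).obj M) ≃+ (k ⊗[A] M) :=
  (TensorProduct.congr (resEquiv (A := A) k) (LinearEquiv.refl A M)).toAddEquiv

theorem bcEquivA_smul (M : ModuleCat.{u} A) (c : k)
    (z : (ModuleCat.extendScalars (algebraMap A k)).obj M) :
    bcEquivA k M (c • z) = c • bcEquivA k M z := by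
  induction z using TensorProduct.induction_on with
  | zero =>
    have h0 : bcEquivA k M (0 : (ModuleCat.extendScalars (algebraMap A k)).obj M) = 0 := map_zero _
    have h1 : c • (0 : (ModuleCat.extendScalars (algebraMap A k)).obj M) = 0 := smul_zero _
    exact (congrArg (bcEquivA k M) h1).trans (h0.trans ((congrArg (c • ·) h0).trans (smul_zero c)).symm)
  | tmul s m => rfl
  | add p q hp hq =>
    have h1 : c • (show (ModuleCat.extendScalars (algebraMap A k)).obj M from p + q) =
        c • (show (ModuleCat.extendScalars (algebraMap A k)).obj M from p) +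
        c • (show (ModuleCat.extendScalars (algebraMap A k)).obj M from q) := smul_add _ _ _
    exact (congrArg (bcEquivA k M) h1).trans (((bcEquivA k M).map_add _ _).trans
      ((congrArg₂ (· + ·) hp hq).trans ((smul_add c _ _).symm.trans
        (congrArg (c • ·) ((bcEquivA k M).map_add _ _).symm))))

noncomputable def bcEquiv (M : ModuleCat.{u} A) :
    ((ModuleCat.extendScalars (algebraMap A k)).obj M) ≃ₗ[k] (k ⊗[A] M) :=
  { bcEquivA k M with map_smul' := bcEquivA_smul k M }

theorem bcEquiv_tmul (M : ModuleCat.{u} A) (s : k) (m : M) :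
    bcEquiv k M ((s : ((ModuleCat.restrictScalars (algebraMap A k)).obj (ModuleCat.of k k))) ⊗ₜ[A] m) = s ⊗ₜ[A] m := rfl

theorem bcEquiv_map {M N : ModuleCat.{u} A} (f : M ⟶ N) (z) :
    bcEquiv k N (((ModuleCat.extendScalars (algebraMap A k)).map f).hom z) =
      f.hom.baseChange k (bcEquiv k M z) := by
  induction z using TensorProduct.induction_on with
  | zero => erw [map_zero]
  | tmul s m => rfl
  | add p q hp hq => erw [map_add, map_add, map_add, map_add, hp, hq]


theorem bcEquiv_finrank_range {M N : ModuleCat.{u} A} (f : M ⟶ N) :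
    Module.finrank k (LinearMap.range ((ModuleCat.extendScalars (algebraMap A k)).map f).hom) =
      Module.finrank k (LinearMap.range (f.hom.baseChange k)) := by
  have h : (f.hom.baseChange k) ∘ₗ (bcEquiv k M).toLinearMap =
      (bcEquiv k N).toLinearMap ∘ₗ ((ModuleCat.extendScalars (algebraMap A k)).map f).hom :=
    LinearMap.ext fun z => (bcEquiv_map k f z).symm
  have h1 : LinearMap.range (f.hom.baseChange k) =
      (LinearMap.range ((ModuleCat.extendScalars (algebraMap A k)).map f).hom).map (bcEquiv k N).toLinearMap := by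
    rw [← LinearMap.range_comp, ← h, LinearMap.range_comp, LinearEquiv.range, Submodule.map_top]
  rw [h1]
  exact (LinearEquiv.finrank_map_eq (bcEquiv k N) _).symm

end

theorem finrank_shortComplex {k : Type u} [Field k] (S : ShortComplex (ModuleCat.{u} k))
    [Module.Finite k S.X₂] :
    Module.finrank k S.homology + Module.finrank k (LinearMap.range S.f.hom) +
      Module.finrank k (LinearMap.range S.g.hom) = Module.finrank k S.X₂ := by
  rw [← LinearMap.finrank_range_add_finrank_ker S.g.hom, (S.moduleCatHomologyIso).toLinearEquiv.finrank_eq]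
  have h := (LinearMap.range S.moduleCatToCycles).finrank_quotient_add_finrank
  have h2 : Module.finrank k (LinearMap.range S.moduleCatToCycles) = Module.finrank k (LinearMap.range S.f.hom) := by
    have : LinearMap.range S.f.hom = (LinearMap.range S.moduleCatToCycles).map (LinearMap.ker S.g.hom).subtype := by
      rw [← LinearMap.range_comp]; rfl
    rw [this, Submodule.finrank_map_subtype_eq]
  show Module.finrank k (LinearMap.ker S.g.hom ⧸ LinearMap.range S.moduleCatToCycles) + _ + _ = _
  omega

section rank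
variable {M N : Type u} [AddCommGroup M] [Module A M] [AddCommGroup N] [Module A N]

/-- rank of the fibre of a linear map at a point -/
noncomputable def fRk (f : M →ₗ[A] N) (x : PrimeSpectrum A) : ℕ :=
  Module.finrank x.asIdeal.ResidueField (LinearMap.range (f.baseChange x.asIdeal.ResidueField))

theorem exists_functionals [Module.Finite A N] [Module.Projective A N] (x : PrimeSpectrum A) {r : ℕ}
    (v : Fin r → N) (hv : LinearIndependent x.asIdeal.ResidueField (fun i => (1 : x.asIdeal.ResidueField) ⊗ₜ[A] v i)) :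
    ∃ φ : Fin r → (N →ₗ[A] A), (Matrix.of fun i j => φ i (v j)).det ∉ x.asIdeal := by
  classical
  obtain ⟨n, π, hπ⟩ := Module.Finite.exists_fin' A N
  obtain ⟨s, hs⟩ := π.exists_rightInverse_of_surjective (LinearMap.range_eq_top.2 hπ)
  let k := x.asIdeal.ResidueField
  -- coordinates of the vectors modulo `x`
  let w : Fin r → (Fin n → k) := fun j l => algebraMap A k (s (v j) l)
  let bc : k ⊗[A] (Fin n → A) ≃ₗ[k] (Fin n → k) := TensorProduct.piScalarRight A k k (Fin n)
  have hw : LinearIndependent k w := by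
    have hinj : Function.Injective (s.baseChange k) := by
      intro a b hab
      have := congrArg (π.baseChange k) hab
      rwa [← LinearMap.comp_apply, ← LinearMap.comp_apply, ← LinearMap.baseChange_comp, hs, LinearMap.baseChange_id] at this
    have h1 := (hv.map' _ (LinearMap.ker_eq_bot.2 hinj)).map' bc.toLinearMap bc.ker
    have e : w = bc.toLinearMap ∘ (s.baseChange k) ∘ (fun i => (1 : k) ⊗ₜ[A] v i) := by
      ext j l
      simp [w, bc, Algebra.algebraMap_eq_smul_one]
    rw [e]; exact h1
  -- a left inverse, with coefficients in `k`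
  obtain ⟨g, hg⟩ := (Fintype.linearCombination k w).exists_leftInverse_of_injective (by
    rw [LinearMap.ker_eq_bot]; exact LinearIndependent.fintypeLinearCombination_injective hw)
  -- clear denominators
  obtain ⟨d, hd⟩ := IsLocalization.exist_integer_multiples_of_finite (nonZeroDivisors (A ⧸ x.asIdeal))
    (fun p : Fin r × Fin n => g (Pi.single p.2 1) p.1)
  obtain ⟨d', hd'⟩ := Ideal.Quotient.mk_surjective (d : A ⧸ x.asIdeal)
  choose q hq using hd
  choose q' hq' using fun p => Ideal.Quotient.mk_surjective (q p)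
  refine ⟨fun i => ∑ l, q' (i, l) • ((LinearMap.proj l).comp s), ?_⟩
  have hk : ∀ a : A, algebraMap A k a = algebraMap (A ⧸ x.asIdeal) k (Ideal.Quotient.mk _ a) := fun a =>
    IsScalarTower.algebraMap_apply A (A ⧸ x.asIdeal) k a
  have key : ∀ i j, algebraMap A k ((∑ l, q' (i, l) • ((LinearMap.proj l).comp s)) (v j)) =
      algebraMap A k d' * (if i = j then 1 else 0) := by
    intro i j
    have hqk : ∀ l, algebraMap A k (q' (i, l)) = algebraMap A k d' * g (Pi.single l 1) i := fun l => by
      rw [hk, hq', hk d', hd']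
      exact (hq (i, l)).trans (Algebra.smul_def _ _)
    have h1 : g (w j) = Pi.single j 1 := by
      have := LinearMap.congr_fun hg (Pi.single j (1 : k))
      simpa [Fintype.linearCombination_apply_single] using this
    have h2 : g (w j) i = ∑ l, w j l * g (Pi.single l 1) i := by
      conv_lhs => rw [pi_eq_sum_univ' (w j), map_sum]
      simp [Finset.sum_apply]
    calc algebraMap A k ((∑ l, q' (i, l) • ((LinearMap.proj l).comp s)) (v j))
        = ∑ l, algebraMap A k d' * g (Pi.single l 1) i * w j l := by simp [w, hqk]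
      _ = algebraMap A k d' * ∑ l, w j l * g (Pi.single l 1) i := by
          rw [Finset.mul_sum]; exact Finset.sum_congr rfl fun l _ => by ring
      _ = _ := by rw [← h2, h1, Pi.single_apply]
  intro hmem
  have h0 : algebraMap A k (Matrix.of fun i j => (∑ l, q' (i, l) • ((LinearMap.proj l).comp s)) (v j)).det = 0 :=
    Ideal.algebraMap_residueField_eq_zero.2 hmem
  rw [RingHom.map_det] at h0
  have hM : (algebraMap A k).mapMatrix (Matrix.of fun i j => (∑ l, q' (i, l) • ((LinearMap.proj l).comp s)) (v j)) =
      algebraMap A k d' • (1 : Matrix (Fin r) (Fin r) k) := by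
    ext i j
    rw [RingHom.mapMatrix_apply, Matrix.map_apply, Matrix.of_apply, key, Matrix.smul_apply, Matrix.one_apply, smul_eq_mul]
  rw [hM, Matrix.det_smul, Matrix.det_one, mul_one] at h0
  have hne : algebraMap A k d' ≠ 0 := by
    intro hz
    rw [Ideal.algebraMap_residueField_eq_zero, ← Ideal.Quotient.eq_zero_iff_mem, hd'] at hz
    exact nonZeroDivisors.ne_zero d.2 hz
  exact pow_ne_zero _ hne h0

theorem independent_of_det [Module.Finite A N] (y : PrimeSpectrum A) {r : ℕ} (v : Fin r → N)
    (φ : Fin r → (N →ₗ[A] A)) (h : (Matrix.of fun i j => φ i (v j)).det ∉ y.asIdeal) :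
    LinearIndependent y.asIdeal.ResidueField (fun i => (1 : y.asIdeal.ResidueField) ⊗ₜ[A] v i) := by
  classical
  let k := y.asIdeal.ResidueField
  let Φ : k ⊗[A] N →ₗ[k] (Fin r → k) :=
    (TensorProduct.piScalarRight A k k (Fin r)).toLinearMap ∘ₗ (LinearMap.pi φ).baseChange k
  refine LinearIndependent.of_comp Φ ?_
  let Mx := (algebraMap A k).mapMatrix (Matrix.of fun i j => φ i (v j))
  have hdet : IsUnit Mx.det := by
    rw [← RingHom.map_det]
    exact IsUnit.mk0 _ (fun h0 => h (Ideal.algebraMap_residueField_eq_zero.1 h0))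
  have := Matrix.linearIndependent_cols_of_isUnit ((Matrix.isUnit_iff_isUnit_det _).2 hdet)
  have e : Φ ∘ (fun i => (1 : k) ⊗ₜ[A] v i) = Mx.col := by
    ext j i
    simp [Φ, Mx, Algebra.algebraMap_eq_smul_one]
  rw [e]; exact this

theorem fRk_lsc [Module.Finite A N] [Module.Projective A N] (f : M →ₗ[A] N) (x : PrimeSpectrum A) :
    ∀ᶠ y in nhds x, fRk f x ≤ fRk f y := by
  classical
  let k := x.asIdeal.ResidueField
  let W := LinearMap.range (f.baseChange k)
  have hspan : Submodule.span k (Set.range fun m : M => (1 : k) ⊗ₜ[A] f m) = W := by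
    refine le_antisymm (Submodule.span_le.2 ?_) ?_
    · rintro _ ⟨m, rfl⟩; exact ⟨1 ⊗ₜ m, by simp⟩
    · rintro _ ⟨z, rfl⟩
      induction z using TensorProduct.induction_on with
      | zero => simp
      | tmul a m =>
        have : (f.baseChange k) (a ⊗ₜ m) = a • ((1 : k) ⊗ₜ[A] f m) := by simp [TensorProduct.smul_tmul']
        rw [this]; exact Submodule.smul_mem _ _ (Submodule.subset_span ⟨m, rfl⟩)
      | add p q hp hq => rw [map_add]; exact add_mem hp hq
  obtain ⟨b, hb1, hb2, hb3⟩ := exists_linearIndependent k (Set.range fun m : M => (1 : k) ⊗ₜ[A] f m)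
  have hbfin : b.Finite := hb3.setFinite
  have : Fintype b := hbfin.fintype
  have hcard : Fintype.card b = fRk f x := by
    show _ = Module.finrank k W
    rw [← hspan, ← hb2]
    exact (finrank_span_set_eq_card hb3).symm ▸ (Set.toFinset_card b).symm
  let e := Fintype.equivFinOfCardEq hcard
  choose m hm using fun i : Fin (fRk f x) => hb1 (e.symm i).2
  have hv : LinearIndependent k (fun i => (1 : k) ⊗ₜ[A] f (m i)) := by
    have : (fun i => (1 : k) ⊗ₜ[A] f (m i)) = Subtype.val ∘ e.symm := funext hm
    rw [this]; exact hb3.comp _ e.symm.injective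
  obtain ⟨φ, hφ⟩ := exists_functionals x (fun i => f (m i)) hv
  filter_upwards [(PrimeSpectrum.isOpen_basicOpen (a := (Matrix.of fun i j => φ i (f (m j))).det)).mem_nhds hφ] with y hy
  have hi := independent_of_det y (fun i => f (m i)) φ hy
  have hle : Submodule.span y.asIdeal.ResidueField (Set.range fun i => (1 : y.asIdeal.ResidueField) ⊗ₜ[A] f (m i)) ≤
      LinearMap.range (f.baseChange y.asIdeal.ResidueField) := by
    refine Submodule.span_le.2 ?_
    rintro _ ⟨i, rfl⟩; exact ⟨1 ⊗ₜ m i, by simp⟩
  have := Submodule.finrank_mono hle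
  rwa [finrank_span_eq_card hi, Fintype.card_fin] at this

end rank

section dRank
variable (P : ChainComplex (ModuleCat.{u} A) ℤ)

theorem dRank_add (hP : ∀ i, Module.Finite A (P.X i)) (hP' : ∀ i, Module.Flat A (P.X i)) (p : ℤ) (x : PrimeSpectrum A) :
    CohIII.dRank P p x + fRk (P.d (p + 1) p).hom x + fRk (P.d p (p - 1)).hom x = Module.rankAtStalk (P.X p) x := by
  let k := x.asIdeal.ResidueField
  let Q := CohIII.bcCx (algebraMap A k) P
  have := hP p
  have := hP' p
  have hfin : Module.Finite k (Q.X p) := Module.Finite.equiv (bcEquiv k (P.X p)).symm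
  have : Module.Finite k (Q.sc' (p + 1) p (p - 1)).X₂ := hfin
  have h := finrank_shortComplex (Q.sc' (p + 1) p (p - 1))
  have e : Module.finrank k (Q.sc' (p + 1) p (p - 1)).homology = CohIII.dRank P p x :=
    ((Q.homologyIsoSc' (p + 1) p (p - 1) (by simp) (by simp)).toLinearEquiv.finrank_eq).symm
  rw [e] at h
  rw [Module.rankAtStalk_eq]
  refine Eq.trans ?_ (h.trans (bcEquiv k (P.X p)).finrank_eq)
  congr 1
  congr 1
  · exact (bcEquiv_finrank_range k (P.d (p + 1) p)).symm
  · exact (bcEquiv_finrank_range k (P.d p (p - 1))).symm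

/-- the rank at `x` of the differential leaving degree `i` -/
noncomputable def rr (i : ℤ) (x : PrimeSpectrum A) : ℕ := fRk (P.d i (i - 1)).hom x

theorem rr_eq {a b : ℤ} (h : a - 1 = b) (x : PrimeSpectrum A) : fRk (P.d a b).hom x = rr P a x := by
  subst h; rfl

theorem dRank_add' (hP : ∀ i, Module.Finite A (P.X i)) (hP' : ∀ i, Module.Flat A (P.X i)) (p : ℤ) (x : PrimeSpectrum A) :
    CohIII.dRank P p x + rr P (p + 1) x + rr P p x = Module.rankAtStalk (P.X p) x := by
  rw [← rr_eq P (show p + 1 - 1 = p by simp)]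
  exact dRank_add P hP hP' p x

theorem rr_lsc (hP : ∀ i, Module.Finite A (P.X i) ∧ Module.Projective A (P.X i)) (i : ℤ) (x : PrimeSpectrum A) :
    ∀ᶠ y in nhds x, rr P i x ≤ rr P i y := by
  have := (hP (i - 1)).1; have := (hP (i - 1)).2
  exact fRk_lsc (P.d i (i - 1)).hom x

theorem rk_eventually (hP : ∀ i, Module.Finite A (P.X i) ∧ Module.Projective A (P.X i)) (i : ℤ) (x : PrimeSpectrum A) :
    ∀ᶠ y in nhds x, Module.rankAtStalk (P.X i) y = Module.rankAtStalk (P.X i) x := by
  have := (hP i).1; have := (hP i).2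
  have := Module.finitePresentation_of_projective A (P.X i)
  exact (Module.isLocallyConstant_rankAtStalk (R := A) (M := P.X i)).eventually_eq x

theorem proj_of_flat [IsNoetherianRing A] (hP : ∀ i, Module.Finite A (P.X i) ∧ Module.Flat A (P.X i)) (i : ℤ) :
    Module.Finite A (P.X i) ∧ Module.Projective A (P.X i) := by
  have := (hP i).1; have := (hP i).2
  have : Module.FinitePresentation A (P.X i) := Module.finitePresentation_of_finite A _
  exact ⟨(hP i).1, Module.Flat.projective_of_finitePresentation⟩

theorem dRank_usc_eventually (hP : ∀ i, Module.Finite A (P.X i) ∧ Module.Projective A (P.X i))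
    (p : ℤ) (x : PrimeSpectrum A) : ∀ᶠ y in nhds x, CohIII.dRank P p y ≤ CohIII.dRank P p x := by
  have hfl : ∀ i, Module.Flat A (P.X i) := fun i => by have := (hP i).2; infer_instance
  filter_upwards [rr_lsc P hP (p + 1) x, rr_lsc P hP p x, rk_eventually P hP p x] with y h1 h2 h3
  have a := dRank_add' P (fun i => (hP i).1) hfl p x
  have b := dRank_add' P (fun i => (hP i).1) hfl p y
  omega

theorem dRank_usc (hP : ∀ i, Module.Finite A (P.X i) ∧ Module.Projective A (P.X i)) (p : ℤ) :
    UpperSemicontinuous (CohIII.dRank P p) := by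
  intro x n hn
  filter_upwards [dRank_usc_eventually P hP p x] with y hy
  exact lt_of_le_of_lt hy hn

theorem dRank_const_of_neighbours (hP : ∀ i, Module.Finite A (P.X i) ∧ Module.Projective A (P.X i))
    (p : ℤ) (z : PrimeSpectrum A)
    (hlo : ∀ᶠ x in nhds z, CohIII.dRank P (p - 1) x = CohIII.dRank P (p - 1) z)
    (hhi : ∀ᶠ x in nhds z, CohIII.dRank P (p + 1) x = CohIII.dRank P (p + 1) z) :
    ∀ᶠ x in nhds z, CohIII.dRank P p x = CohIII.dRank P p z := by
  have hfl : ∀ i, Module.Flat A (P.X i) := fun i => by have := (hP i).2; infer_instance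
  filter_upwards [hlo, hhi, rr_lsc P hP (p - 1) z, rr_lsc P hP p z, rr_lsc P hP (p + 1) z,
    rr_lsc P hP (p + 1 + 1) z, rk_eventually P hP (p - 1) z, rk_eventually P hP p z,
    rk_eventually P hP (p + 1) z] with y hlo hhi a b c d e f g
  have l1 := dRank_add' P (fun i => (hP i).1) hfl (p - 1) y
  have l2 := dRank_add' P (fun i => (hP i).1) hfl (p - 1) z
  have m1 := dRank_add' P (fun i => (hP i).1) hfl p y
  have m2 := dRank_add' P (fun i => (hP i).1) hfl p z
  have n1 := dRank_add' P (fun i => (hP i).1) hfl (p + 1) y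
  have n2 := dRank_add' P (fun i => (hP i).1) hfl (p + 1) z
  rw [sub_add_cancel] at l1 l2
  omega

theorem dRank_le_rk (hP : ∀ i, Module.Finite A (P.X i) ∧ Module.Flat A (P.X i)) (p : ℤ) (x : PrimeSpectrum A) :
    CohIII.dRank P p x ≤ Module.rankAtStalk (P.X p) x := by
  have := dRank_add' P (fun i => (hP i).1) (fun i => (hP i).2) p x
  omega

theorem dRank_range_finite (hP : ∀ i, Module.Finite A (P.X i) ∧ Module.Projective A (P.X i)) (p : ℤ) :
    (Set.range (CohIII.dRank P p)).Finite := by
  have := (hP p).1; have := (hP p).2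
  have := Module.finitePresentation_of_projective A (P.X p)
  have hb := (Module.isLocallyConstant_rankAtStalk (R := A) (M := P.X p)).range_finite
  obtain ⟨B, hB⟩ := hb.bddAbove
  refine (Set.finite_Iic B).subset ?_
  rintro _ ⟨x, rfl⟩
  exact le_trans (dRank_le_rk P (fun i => ⟨(hP i).1, by have := (hP i).2; infer_instance⟩) p x) (hB ⟨x, rfl⟩)

theorem dRank_constructible [IsNoetherianRing A] (hP : ∀ i, Module.Finite A (P.X i) ∧ Module.Projective A (P.X i))
    (p : ℤ) (n : ℕ) : Topology.IsConstructible {x : PrimeSpectrum A | CohIII.dRank P p x = n} := by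
  have hop : ∀ m : ℕ, IsOpen {x : PrimeSpectrum A | CohIII.dRank P p x < m} := fun m =>
    (upperSemicontinuous_iff_isOpen_preimage.1 (dRank_usc P hP p)) m
  have hc : ∀ m : ℕ, Topology.IsConstructible {x : PrimeSpectrum A | CohIII.dRank P p x < m} := fun m =>
    IsCompact.isConstructible (TopologicalSpace.NoetherianSpace.isCompact _) (hop m)
  have he : {x : PrimeSpectrum A | CohIII.dRank P p x = n} =
      {x | CohIII.dRank P p x < n + 1} \ {x | CohIII.dRank P p x < n} := by
    ext x; simp only [Set.mem_ofPred_eq, Set.mem_sdiff]; omega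
  rw [he]
  exact (hc _).sdiff (hc _)

theorem euler (hP : ∀ i, Module.Finite A (P.X i) ∧ Module.Projective A (P.X i))
    (s : Finset ℤ) (hs : ∀ i, i ∉ s → IsZero (P.X i)) (x : PrimeSpectrum A) :
    (s.sum fun i => ((i.negOnePow : ℤˣ) : ℤ) * (CohIII.dRank P i x : ℤ)) =
      s.sum fun i => ((i.negOnePow : ℤˣ) : ℤ) * (Module.rankAtStalk (P.X i) x : ℤ) := by
  classical
  have hfl : ∀ i, Module.Flat A (P.X i) := fun i => by have := (hP i).2; infer_instance
  have hr : ∀ i, i ∉ s ∨ i - 1 ∉ s → rr P i x = 0 := by
    intro i hi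
    have h0 : P.d i (i - 1) = 0 := hi.elim (fun h => (hs _ h).eq_of_src _ _) (fun h => (hs _ h).eq_of_tgt _ _)
    show fRk _ x = 0
    rw [h0, ModuleCat.hom_zero]
    show Module.finrank _ (LinearMap.range _) = 0
    rw [LinearMap.baseChange_zero, LinearMap.range_zero, finrank_bot]
  let T := s ∪ s.image (· + 1)
  have e1 : (s.sum fun i => ((i.negOnePow : ℤˣ) : ℤ) * (rr P i x : ℤ)) =
      T.sum fun i => ((i.negOnePow : ℤˣ) : ℤ) * (rr P i x : ℤ) :=
    Finset.sum_subset Finset.subset_union_left fun i _ hi => by simp [hr i (Or.inl hi)]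
  have e2 : (s.sum fun i => ((i.negOnePow : ℤˣ) : ℤ) * (rr P (i + 1) x : ℤ)) =
      - T.sum fun i => ((i.negOnePow : ℤˣ) : ℤ) * (rr P i x : ℤ) := by
    rw [← Finset.sum_subset (Finset.subset_union_right : s.image (· + 1) ⊆ T) fun i _ hi => by
      rw [hr i (Or.inr fun h => hi (Finset.mem_image.2 ⟨i - 1, h, by simp⟩))]; simp]
    rw [Finset.sum_image (fun a _ b _ h => by simpa using h), ← Finset.sum_neg_distrib]
    refine Finset.sum_congr rfl fun i _ => ?_
    simp [Int.negOnePow_succ]
  have e3 : ∀ i, (Module.rankAtStalk (P.X i) x : ℤ) = CohIII.dRank P i x + rr P (i + 1) x + rr P i x := fun i => by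
    exact_mod_cast (dRank_add' P (fun i => (hP i).1) hfl i x).symm
  simp only [e3, mul_add, Finset.sum_add_distrib]
  rw [e1, e2]; ring

theorem euler_locallyConstant (hP : ∀ i, Module.Finite A (P.X i) ∧ Module.Projective A (P.X i))
    (s : Finset ℤ) (hs : ∀ i, i ∉ s → IsZero (P.X i)) :
    IsLocallyConstant fun x : PrimeSpectrum A =>
      s.sum fun i => ((i.negOnePow : ℤˣ) : ℤ) * (CohIII.dRank P i x : ℤ) := by
  simp only [euler P hP s hs]
  rw [IsLocallyConstant.iff_eventually_eq]
  intro x
  filter_upwards [(Filter.eventually_all_finset s).2 fun i _ => rk_eventually P hP i x] with y hy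
  exact Finset.sum_congr rfl fun i hi => by rw [hy i hi]

end dRank

end Groth.Agent.H5DRank
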