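import Groth.Agent.Lib.H5Perf

universe u

namespace Groth.Agent.H5DTenClosed
open CategoryTheory Limits Category Pretriangulated MonoidalCategory Opposite
open Groth.Agent Groth.Agent.H5Perf

attribute [local instance] HasDerivedCategory.standard

variable {A : Type u} [CommRing A] [DTen.HasLTen A]

/-- the derived tensor product on maps -/
noncomputable abbrev tm {a b c d : Dual.D A} (f : a ⟶ b) (g : c ⟶ d) :
    (DTen.LTen₂ A).obj (a, c) ⟶ (DTen.LTen₂ A).obj (b, d) :=
  (DTen.LTen₂ A).map (Prod.mkHom f g)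

@[reassoc]
lemma tm_comp {a b c a' b' c' : Dual.D A} (f : a ⟶ b) (f' : b ⟶ c) (g : a' ⟶ b') (g' : b' ⟶ c') :
    tm f g ≫ tm f' g' = tm (f ≫ f') (g ≫ g') := ((DTen.LTen₂ A).map_comp _ _).symm

@[simp]
lemma tm_id (a b : Dual.D A) : tm (𝟙 a) (𝟙 b) = 𝟙 _ := (DTen.LTen₂ A).map_id _

lemma isIso_of_comp_bijective {C : Type*} [Category C] {X Y : C} (f : X ⟶ Y)
    (h : ∀ Z : C, Function.Bijective (fun a : Z ⟶ X => a ≫ f)) : IsIso f := by
  obtain ⟨g, hg⟩ := (h Y).2 (𝟙 Y)
  have hg : g ≫ f = 𝟙 Y := hg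
  exact ⟨g, (h X).1 (by simp [hg]), hg⟩

lemma bij_precomp {C : Type*} [Category C] {X X' W : C} (e : X ≅ X') :
    Function.Bijective (fun a : X' ⟶ W => e.hom ≫ a) :=
  ⟨fun a b h => (cancel_epi e.hom).1 h, fun b => ⟨e.inv ≫ b, by simp⟩⟩

variable [DTen.HasLTen₃ A] [DTen.IsSymMonoidal A]

@[reassoc]
lemma assoc_naturality {a b c a' b' c' : Dual.D A} (f : a ⟶ a') (g : b ⟶ b') (h : c ⟶ c') :
    tm (tm f g) h ≫ (DTen.associator a' b' c').hom = (DTen.associator a b c).hom ≫ tm f (tm g h) := by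
  have h1 := (DTen.assocL A).naturality (Prod.mkHom f (Prod.mkHom g h) : (a, (b, c)) ⟶ (a', (b', c')))
  have h2 := (DTen.assocR A).naturality (Prod.mkHom f (Prod.mkHom g h) : (a, (b, c)) ⟶ (a', (b', c')))
  dsimp [DTen.LTenL, DTen.LTenR, prod.inverseAssociator] at h1 h2
  rw [← cancel_mono ((DTen.assocR A).app (a', (b', c'))), assoc, assoc, DTen.associator_hom_assocR]
  refine h1.trans ?_
  rw [← DTen.associator_hom_assocR a b c, assoc]
  exact congrArg ((DTen.associator a b c).hom ≫ ·) h2.symm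

/-- tensoring on the left is tensoring on the right -/
noncomputable def symmIso (K : Dual.D A) : DTen.tensorRightD A K ≅ (DTen.LTen A).obj K :=
  NatIso.ofComponents (fun L => DTen.braiding K L)
    (fun {L L'} f => (DTen.symm A).naturality (Prod.mkHom (𝟙 K) f : (K, L) ⟶ (K, L')))

omit [DTen.HasLTen₃ A] [DTen.IsSymMonoidal A] in
lemma inD_shift_iso (n : ℤ) :
    Nonempty ((Dual.inD A A)⟦n⟧ ≅ DerivedCategory.Q.obj (H5BrownGroth.RS A (-n))) :=
  ⟨((DerivedCategory.singleFunctors (ModuleCat.{u} A)).shiftIso n (-n) 0 (by omega)).app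
    (ModuleCat.of A A) ≪≫ (DerivedCategory.singleFunctorIsoCompQ (ModuleCat.{u} A) (-n)).app _⟩

omit [DTen.HasLTen₃ A] [DTen.IsSymMonoidal A] [DTen.HasLTen A] in
lemma RS_shift_iso (j n : ℤ) :
    Nonempty ((DerivedCategory.Q.obj (H5BrownGroth.RS A j))⟦n⟧ ≅
      DerivedCategory.Q.obj (H5BrownGroth.RS A (j - n))) :=
  ⟨((DerivedCategory.Q.commShiftIso n).app _).symm ≪≫ DerivedCategory.Q.mapIso
    (((CochainComplex.singleFunctors (ModuleCat.{u} A)).shiftIso n (j - n) j (by omega)).app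
      (ModuleCat.of A A))⟩

omit [DTen.HasLTen₃ A] [DTen.IsSymMonoidal A] [DTen.HasLTen A] in
lemma cpt_RS (n : ℤ) : Cpt (DerivedCategory.Q.obj (H5BrownGroth.RS A n)) :=
  cpt_Q _ n n (fun i hi => HomologicalComplex.isZero_single_obj_X _ _ _ _ (by omega)) (fun i => by
    by_cases h : i = n
    · subst h
      let e := (HomologicalComplex.singleObjXSelf (ComplexShape.up ℤ) i (ModuleCat.of A A)).toLinearEquiv
      exact ⟨Module.Finite.equiv e.symm, Module.Projective.of_equiv e.symm⟩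
    · have := ModuleCat.subsingleton_of_isZero (HomologicalComplex.isZero_single_obj_X
        (ComplexShape.up ℤ) n (ModuleCat.of A A) i h)
      exact ⟨inferInstance, inferInstance⟩)

omit [DTen.HasLTen₃ A] [DTen.IsSymMonoidal A] [DTen.HasLTen A] in
lemma cpt_map {Z : Dual.D A} (hZ : Cpt Z) (F : Dual.D A ⥤ Dual.D A) [F.IsEquivalence] [F.Additive] :
    Cpt (F.obj Z) := by
  intro T X c hc φ
  let ad := F.asEquivalence.toAdjunction
  let G := F.asEquivalence.inverse
  obtain ⟨s, ψ, hψ⟩ := hZ T _ (Cofan.mk _ fun t => G.map (c.inj t))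
    (isColimitCofanMkObjOfIsColimit G _ _ hc) (ad.homEquiv Z c.pt φ)
  refine ⟨s, fun t => F.map (ψ t) ≫ ad.counit.app (X t), ?_⟩
  rw [← (ad.homEquiv Z c.pt).symm_apply_apply φ, hψ, ad.homEquiv_counit]
  change F.map (∑ t ∈ s, ψ t ≫ G.map (c.inj t)) ≫ _ = _
  refine (congrArg (fun z => z ≫ ad.counit.app c.pt) (F.map_sum _ s)).trans
    ((Preadditive.sum_comp _ _ _).trans (Finset.sum_congr rfl fun t _ => ?_))
  exact ((congrArg (fun z => z ≫ ad.counit.app c.pt) (F.map_comp (ψ t) (G.map (c.inj t)))).trans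
    ((assoc _ _ _).trans ((congrArg (F.map (ψ t) ≫ ·) (ad.counit.naturality (c.inj t))).trans
      (assoc _ _ _).symm)))

variable [DTen.HasRHom A]

theorem isIso_curryHom (K L M : Dual.D A) : IsIso (DTen.curryHom K L M) := by
  refine isIso_of_comp_bijective _ fun X => ?_
  let ψ := ((DTen.rhomHomEquiv X ((DTen.LTen₂ A).obj (K, L)) M).symm.trans
    (Iso.homCongr (DTen.associator X K L).symm (Iso.refl M))).trans
    ((DTen.rhomHomEquiv _ L M).trans (DTen.rhomHomEquiv X K _))
  suffices (fun a : X ⟶ _ => a ≫ DTen.curryHom K L M) = ψ by rw [this]; exact ψ.bijective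
  funext a
  change a ≫ DTen.curryHom K L M = DTen.rhomHomEquiv _ _ _ (DTen.rhomHomEquiv _ _ _
    ((DTen.associator X K L).hom ≫ (tm a (𝟙 _) ≫ DTen.ev _ M) ≫ 𝟙 _))
  unfold DTen.curryHom
  refine ((DTen.rhomAdj A K).homEquiv_naturality_left _ _).symm.trans (congrArg _
    (((DTen.rhomAdj A L).homEquiv_naturality_left _ _).symm.trans (congrArg _ ?_)))
  change tm (tm a (𝟙 K)) (𝟙 L) ≫ DTen.curryHomAux K L M = _
  rw [comp_id]
  unfold DTen.curryHomAux
  rw [assoc_naturality_assoc, tm_id]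

section evalTen

variable (L M : Dual.D A)

lemma addR (Y : Dual.D A) : (DTen.tensorRightD A Y).Additive := additive_tensorRightD Y

/-- the Yoneda form of `evalTen` -/
noncomputable def etNat (X : Dual.D A) :
    NatHom (DTen.tensorRightD A ((DTen.RHomR A M).obj L)) (DTen.tensorRightD A L) X
      ((DTen.LTen₂ A).obj (X, M)) where
  app K φ := tm φ (𝟙 M) ≫ DTen.evalTenAux K L M
  add K x y := by
    have := addR (A := A) M
    change (DTen.tensorRightD A M).map (x + y) ≫ _ = _
    rw [Functor.map_add, Preadditive.add_comp]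
    rfl
  nat {K K'} f x := by
    change tm (x ≫ tm f (𝟙 _)) (𝟙 M) ≫ DTen.evalTenAux K' L M =
      (tm x (𝟙 M) ≫ DTen.evalTenAux K L M) ≫ tm f (𝟙 L)
    rw [show tm (x ≫ tm f (𝟙 _)) (𝟙 M) = tm x (𝟙 M) ≫ tm (tm f (𝟙 ((DTen.RHomR A M).obj L))) (𝟙 M) by
      rw [tm_comp, comp_id]]
    simp only [assoc]
    refine congrArg (tm x (𝟙 M) ≫ ·) ?_
    unfold DTen.evalTenAux
    rw [assoc_naturality_assoc, assoc, tm_id]
    refine congrArg ((DTen.associator _ _ _).hom ≫ ·) ?_
    rw [tm_comp, tm_comp]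
    simp

lemma etNat_precomp {X X' : Dual.D A} (e : X ≅ X') (K : Dual.D A)
    (h : Function.Bijective ((etNat L M X).app K)) : Function.Bijective ((etNat L M X').app K) := by
  let e' : (DTen.LTen₂ A).obj (X, M) ≅ (DTen.LTen₂ A).obj (X', M) := (DTen.tensorRightD A M).mapIso e
  have h1 : (fun b => e'.hom ≫ b) ∘ (etNat L M X').app K =
      (etNat L M X).app K ∘ (fun a => e.hom ≫ a) := funext fun a => by
    change tm e.hom (𝟙 M) ≫ tm a (𝟙 M) ≫ _ = tm (e.hom ≫ a) (𝟙 M) ≫ _
    rw [tm_comp_assoc, comp_id]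
  exact (bij_precomp e').of_comp_iff' _ |>.1 (h1 ▸ h.comp (bij_precomp e))

/-- the invertible case -/
lemma etNat_invertible (K : Dual.D A) [((DTen.LTen A).obj K).IsEquivalence] (X : Dual.D A) :
    Function.Bijective ((etNat L M X).app K) := by
  refine etNat_precomp L M (((DTen.LTen A).obj K).objObjPreimageIso X) K ?_
  let Y := ((DTen.LTen A).obj K).objPreimage X
  let F := (DTen.LTen A).obj K
  have hm : ∀ a b : Dual.D A, Function.Bijective (fun g : a ⟶ b => F.map g) := fun a b =>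
    ⟨F.map_injective, F.map_surjective⟩
  have h1 : (etNat L M (F.obj Y)).app K ∘ (fun g => F.map g) =
      (fun b => (DTen.associator K Y M).hom ≫ b) ∘ (fun g => F.map g) ∘
        (DTen.rhomHomEquiv Y M L).symm := funext fun g => by
    change tm (tm (𝟙 K) g) (𝟙 M) ≫ DTen.evalTenAux K L M =
      (DTen.associator K Y M).hom ≫ tm (𝟙 K) (tm g (𝟙 M) ≫ DTen.ev M L)
    unfold DTen.evalTenAux
    rw [assoc_naturality_assoc, tm_comp, comp_id]
  exact (Function.Bijective.of_comp_iff _ (hm _ _)).1 (h1 ▸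
    (bij_precomp (DTen.associator K Y M)).comp ((hm _ _).comp (Equiv.bijective _)))

lemma etNat_bij_RS (j : ℤ) (X : Dual.D A) : (etNat L M X).Bij (DerivedCategory.Q.obj (H5BrownGroth.RS A j)) :=
  fun n => by
  obtain ⟨e⟩ := RS_shift_iso (A := A) j n
  have := isEquivalence_tensorRightD_RS (A := A) (j - n)
  have := Functor.isEquivalence_of_iso (symmIso (DerivedCategory.Q.obj (H5BrownGroth.RS A (j - n))))
  exact (etNat L M X).bij_of_iso e.symm (etNat_invertible L M _ X)

lemma comp_evalTen (K X : Dual.D A) (a : X ⟶ (DTen.LTen₂ A).obj (K, (DTen.RHomR A M).obj L)) :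
    a ≫ DTen.evalTen K L M = DTen.rhomHomEquiv _ _ _ ((etNat L M X).app K a) := by
  unfold DTen.evalTen
  exact ((DTen.rhomAdj A M).homEquiv_naturality_left a _).symm

theorem isIso_evalTen_left (K : Dual.D A) (hK : DRing.IsPerfect A K) : IsIso (DTen.evalTen K L M) := by
  refine isIso_of_comp_bijective _ fun X => ?_
  rw [show (fun a => a ≫ DTen.evalTen K L M) = DTen.rhomHomEquiv _ _ _ ∘ (etNat L M X).app K from
    funext (comp_evalTen L M K X)]
  refine (Equiv.bijective _).comp ?_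
  have := addR (A := A) ((DTen.RHomR A M).obj L)
  have := addR (A := A) L
  let P : ObjectProperty (Dual.D A) := fun K => (etNat L M X).Bij K
  have : P.IsClosedUnderIsomorphisms := ⟨fun e h => NatHom.Bij.of_iso _ e h⟩
  have hK' : P K := perfect_induction P
    (fun n => by
      obtain ⟨e⟩ := inD_shift_iso (A := A) n
      have := isEquivalence_tensorRightD_RS (A := A) (-n)
      have := Functor.isEquivalence_of_iso (symmIso (DerivedCategory.Q.obj (H5BrownGroth.RS A (-n))))
      exact (etNat L M X).bij_of_iso e.symm (etNat_invertible L M _ X))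
    (fun K n h m => (etNat L M X).bij_of_iso ((shiftFunctorAdd _ n m).app K) (h (n + m)))
    (fun T hT h₁ h₃ => NatHom.Bij.obj₃ _ (triExact_tensorRightD _) (triExact_tensorRightD _) _
      (inv_rot_of_distTriang T hT)
      (fun m => (etNat L M X).bij_of_iso ((shiftFunctorAdd _ (-1) m).app T.obj₃) (h₃ (-1 + m))) h₁)
    (fun Y Z _ h n => (etNat L M X).bij_retract (biprod.inl⟦n⟧') (biprod.fst⟦n⟧')
      (by rw [← Functor.map_comp, biprod.inl_fst, CategoryTheory.Functor.map_id]) (h n)) K hK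
  exact (etNat L M X).bij_of_iso ((shiftFunctorZero (Dual.D A) ℤ).app K) (hK' 0)

theorem isIso_evalTen_source (K : Dual.D A) (hM : DRing.IsPerfect A M) :
    IsIso (DTen.evalTen K L M) := by
  refine isIso_of_gens _ fun j => ?_
  let X := DerivedCategory.Q.obj (H5BrownGroth.RS A j)
  rw [show (fun a : X ⟶ _ => a ≫ DTen.evalTen K L M) =
    DTen.rhomHomEquiv _ _ _ ∘ (etNat L M X).app K from funext (comp_evalTen L M K X)]
  refine (Equiv.bijective _).comp ?_
  have := addR (A := A) ((DTen.RHomR A M).obj L)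
  have := addR (A := A) L
  have := addR (A := A) X
  have := fun T => preservesColimits_tensorRightD (A := A) ((DTen.RHomR A M).obj L) T
  have := fun T => preservesColimits_tensorRightD (A := A) L T
  have := isEquivalence_tensorRightD_RS (A := A) j
  have hZ : Cpt ((DTen.LTen₂ A).obj (X, M)) := by
    obtain ⟨E, a, b, hE, hp, ⟨e⟩⟩ := hM
    exact ((cpt_map ((cpt_Q E a b hE hp).of_iso e) (DTen.tensorRightD A X)).of_iso
      (DTen.braiding X M))
  exact (etNat L M X).bij_of_iso ((shiftFunctorZero (Dual.D A) ℤ).app K)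
    (devissage (fun K => (etNat L M X).Bij K) (fun e h => NatHom.Bij.of_iso _ e h)
      (fun n => etNat_bij_RS L M n X) (fun T Y c hc h => NatHom.Bij.coprod _ (cpt_RS j) hZ Y c hc h)
      (fun T hT => NatHom.Bij.obj₃ _ (triExact_tensorRightD _) (triExact_tensorRightD _) T hT) K 0)

end evalTen

end Groth.Agent.H5DTenClosed
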