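import Groth.Agent.Lib.H5DTenMon

universe u

namespace Groth.Agent.H5DTenDual
open CategoryTheory Limits Category Pretriangulated MonoidalCategory
open Groth.Agent Groth.Agent.H5Perf Groth.Agent.H5DTenClosed Groth.Agent.H5DTenMon

attribute [local instance] HasDerivedCategory.standard

variable {A : Type u} [CommRing A] [DTen.HasLTen A] [DTen.HasLTen₃ A] [DTen.IsSymMonoidal A]
  [DTen.HasRHom A]

attribute [local instance] monoidal

section closure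

omit [DTen.HasLTen A] [DTen.HasLTen₃ A] [DTen.IsSymMonoidal A] [DTen.HasRHom A]

lemma cpt_retract {Z W : Dual.D A} (i : Z ⟶ W) (r : W ⟶ Z) (hir : i ≫ r = 𝟙 Z) (h : Cpt W) :
    Cpt Z := fun T X c hc φ => by
  obtain ⟨s, ψ, hs⟩ := h T X c hc (r ≫ φ)
  refine ⟨s, fun t => i ≫ ψ t, ?_⟩
  rw [← id_comp φ, ← hir, assoc, hs, Preadditive.comp_sum]
  exact Finset.sum_congr rfl fun t _ => by simp

lemma cpt_obj₂ (T : Triangle (Dual.D A)) (hT : T ∈ distinguishedTriangles) (h₁ : Cpt T.obj₁)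
    (h₃ : Cpt T.obj₃) : Cpt T.obj₂ := fun J X c hc φ => by
  classical
  obtain ⟨s, ψ, hs⟩ := h₁ J X c hc (T.mor₁ ≫ φ)
  let π := fun t => Cofan.IsColimit.desc hc (fun l => if e : l = t then eqToHom (congrArg X e) else 0)
  let p := ∑ t ∈ s, π t ≫ c.inj t
  have hp : ∀ l ∈ s, c.inj l ≫ p = c.inj l := fun l hl => by
    rw [Preadditive.comp_sum, Finset.sum_eq_single l]
    · rw [← assoc, show c.inj l ≫ π l = _ from Cofan.IsColimit.fac hc _ l, dif_pos rfl]; simp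
    · intro t _ ht
      rw [← assoc, show c.inj l ≫ π t = _ from Cofan.IsColimit.fac hc _ l, dif_neg ht.symm, zero_comp]
    · exact fun h => absurd hl h
  have h0 : T.mor₁ ≫ (φ - φ ≫ p) = 0 := by
    rw [Preadditive.comp_sub, ← assoc, hs, Preadditive.sum_comp, ← Finset.sum_sub_distrib]
    exact Finset.sum_eq_zero fun t ht => by rw [assoc, hp t ht, sub_self]
  obtain ⟨χ, hχ⟩ := Triangle.yoneda_exact₂ T hT _ h0
  obtain ⟨s', ψ', hs'⟩ := h₃ J X c hc χ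
  refine ⟨s ∪ s', fun t => (if t ∈ s then φ ≫ π t else 0) + (if t ∈ s' then T.mor₂ ≫ ψ' t else 0), ?_⟩
  have : φ = φ ≫ p + T.mor₂ ≫ χ := by rw [← hχ]; abel
  conv_lhs => rw [this]
  simp only [Preadditive.add_comp, Finset.sum_add_distrib, ite_comp, zero_comp]
  rw [Finset.sum_ite_mem, Finset.sum_ite_mem, Finset.union_inter_cancel_left,
    Finset.union_inter_cancel_right, hs', Preadditive.comp_sum, Preadditive.comp_sum]
  simp only [assoc]

end closure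

/-- the dual -/
noncomputable abbrev dual (K : Dual.D A) : Dual.D A := (DTen.RHomR A K).obj (DTen.unit A)

omit [DTen.HasLTen₃ A] [DTen.IsSymMonoidal A] in
lemma hom_ext_ev {W K M : Dual.D A} {a b : W ⟶ (DTen.RHomR A K).obj M}
    (h : tm a (𝟙 K) ≫ DTen.ev K M = tm b (𝟙 K) ≫ DTen.ev K M) : a = b :=
  (DTen.rhomHomEquiv W K M).symm.injective h

theorem isIso_evalTen_cpt (L M K : Dual.D A) (hM : Cpt M) : IsIso (DTen.evalTen K L M) := by
  refine isIso_of_gens _ fun j => ?_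
  let X := DerivedCategory.Q.obj (H5BrownGroth.RS A j)
  rw [show (fun a : X ⟶ _ => a ≫ DTen.evalTen K L M) =
    DTen.rhomHomEquiv _ _ _ ∘ (etNat L M X).app K from funext (comp_evalTen L M K X)]
  refine (Equiv.bijective _).comp ?_
  have := addR (A := A) ((DTen.RHomR A M).obj L)
  have := addR (A := A) L
  have := addR (A := A) X
  have := fun T => preservesColimits_tensorRightD (A := A) ((DTen.RHomR A M).obj L) T
  have := fun T => preservesColimits_tensorRightD (A := A) L T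
  have := isEquivalence_tensorRightD_RS (A := A) j
  have hZ : Cpt ((DTen.LTen₂ A).obj (X, M)) :=
    (cpt_map hM (DTen.tensorRightD A X)).of_iso (DTen.braiding X M)
  exact (etNat L M X).bij_of_iso ((shiftFunctorZero (Dual.D A) ℤ).app K)
    (devissage (fun K => (etNat L M X).Bij K) (fun e h => NatHom.Bij.of_iso _ e h)
      (fun n => etNat_bij_RS L M n X) (fun T Y c hc h => NatHom.Bij.coprod _ (cpt_RS j) hZ Y c hc h)
      (fun T hT => NatHom.Bij.obj₃ _ (triExact_tensorRightD _) (triExact_tensorRightD _) T hT) K 0)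

lemma etNat_bij {M : Dual.D A} (hM : Cpt M) (K L X : Dual.D A) :
    Function.Bijective ((etNat L M X).app K) := by
  have := isIso_evalTen_cpt L M K hM
  have hb : Function.Bijective (fun a : X ⟶ _ => a ≫ DTen.evalTen K L M) :=
    ⟨fun a b h => (cancel_mono _).1 h, fun b => ⟨b ≫ inv (DTen.evalTen K L M), by simp⟩⟩
  rw [show (fun a => a ≫ DTen.evalTen K L M) = DTen.rhomHomEquiv _ _ _ ∘ (etNat L M X).app K from
    funext (comp_evalTen L M K X)] at hb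
  exact (Function.Bijective.of_comp_iff' (Equiv.bijective _) _).1 hb

/-- coevaluation of a compact object -/
noncomputable def coevD {K : Dual.D A} (hK : Cpt K) : 𝟙_ (Dual.D A) ⟶ K ⊗ dual K :=
  ((etNat_bij hK K (DTen.unit A) (DTen.unit A)).2 ((λ_ K).hom ≫ (ρ_ K).inv)).choose

lemma zigzag₁ {K : Dual.D A} (hK : Cpt K) :
    coevD hK ▷ K ≫ (α_ K (dual K) K).hom ≫ K ◁ DTen.ev K (DTen.unit A) = (λ_ K).hom ≫ (ρ_ K).inv :=
  ((etNat_bij hK K (DTen.unit A) (DTen.unit A)).2 ((λ_ K).hom ≫ (ρ_ K).inv)).choose_spec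

lemma zigzag₂ {K : Dual.D A} (hK : Cpt K) :
    dual K ◁ coevD hK ≫ (α_ (dual K) K (dual K)).inv ≫
      (show dual K ⊗ K ⟶ 𝟙_ (Dual.D A) from DTen.ev K (DTen.unit A)) ▷ dual K =
      (ρ_ (dual K)).hom ≫ (λ_ (dual K)).inv := by
  set e : dual K ⊗ K ⟶ 𝟙_ (Dual.D A) := DTen.ev K (DTen.unit A) with he
  rw [← cancel_mono (λ_ (dual K)).hom]
  simp only [assoc, Iso.inv_hom_id, comp_id]
  refine hom_ext_ev ?_
  change (dual K ◁ coevD hK ≫ (α_ (dual K) K (dual K)).inv ≫ e ▷ dual K ≫ (λ_ (dual K)).hom) ▷ K ≫ e =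
    (ρ_ (dual K)).hom ▷ K ≫ e
  calc _ = (α_ (dual K) (𝟙_ _) K).hom ≫ dual K ◁ (coevD hK ▷ K) ≫
        dual K ◁ (α_ K (dual K) K).hom ≫ (α_ (dual K) K (dual K ⊗ K)).inv ≫
          (e ▷ (dual K ⊗ K) ≫ 𝟙_ _ ◁ e) ≫ (λ_ (𝟙_ _)).hom := by monoidal
    _ = (α_ (dual K) (𝟙_ _) K).hom ≫ dual K ◁ (coevD hK ▷ K ≫ (α_ K (dual K) K).hom ≫ K ◁ e) ≫
        (α_ (dual K) K (𝟙_ _)).inv ≫ e ▷ 𝟙_ _ ≫ (ρ_ (𝟙_ _)).hom := by
          rw [← whisker_exchange]; monoidal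
    _ = _ := by
          have h := zigzag₁ hK
          rw [← he] at h
          rw [h]; monoidal

/-- the exact pairing of a compact object and its dual -/
@[reducible]
noncomputable def pairing {K : Dual.D A} (hK : Cpt K) : ExactPairing K (dual K) where
  coevaluation' := coevD hK
  evaluation' := DTen.ev K (DTen.unit A)
  coevaluation_evaluation' := zigzag₂ hK
  evaluation_coevaluation' := zigzag₁ hK

/-- the dual of a morphism -/
noncomputable abbrev dualMap {K K' : Dual.D A} (f : K ⟶ K') : dual K' ⟶ dual K :=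
  DTen.RHomMap f (DTen.unit A)

lemma dinatural {K K' : Dual.D A} (hK : Cpt K) (hK' : Cpt K') (f : K ⟶ K') :
    coevD hK ≫ f ▷ dual K = coevD hK' ≫ K' ◁ dualMap f := by
  refine (etNat_bij hK K' (DTen.unit A) (DTen.unit A)).1 ?_
  change (coevD hK ≫ f ▷ dual K) ▷ K ≫ (α_ K' (dual K) K).hom ≫ K' ◁ DTen.ev K _ =
    (coevD hK' ≫ K' ◁ dualMap f) ▷ K ≫ (α_ K' (dual K) K).hom ≫ K' ◁ DTen.ev K _
  have h1 : dualMap f ▷ K ≫ DTen.ev K (DTen.unit A) = dual K' ◁ f ≫ DTen.ev K' (DTen.unit A) :=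
    DTen.RHom_map_ev f _
  calc _ = coevD hK ▷ K ≫ (α_ K (dual K) K).hom ≫
        (f ▷ (dual K ⊗ K) ≫ K' ◁ DTen.ev K (DTen.unit A)) := by monoidal
    _ = (coevD hK ▷ K ≫ (α_ K (dual K) K).hom ≫ K ◁ DTen.ev K (DTen.unit A)) ≫ f ▷ 𝟙_ _ := by
          rw [← whisker_exchange]; simp only [assoc]; rfl
    _ = 𝟙_ _ ◁ f ≫ (λ_ K').hom ≫ (ρ_ K').inv := by rw [zigzag₁]; monoidal
    _ = (𝟙_ _ ◁ f ≫ coevD hK' ▷ K') ≫ (α_ K' (dual K') K').hom ≫
        K' ◁ DTen.ev K' (DTen.unit A) := by rw [assoc, zigzag₁]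
    _ = coevD hK' ▷ K ≫ (α_ K' (dual K') K).hom ≫
        K' ◁ (dual K' ◁ f ≫ DTen.ev K' (DTen.unit A)) := by rw [whisker_exchange]; monoidal
    _ = _ := by rw [← h1]; monoidal

/-- maps out of a dual -/
noncomputable def dualHom {K : Dual.D A} (hK : Cpt K) (N : Dual.D A) :
    (dual K ⟶ N) → (𝟙_ (Dual.D A) ⟶ K ⊗ N) := fun ψ => coevD hK ≫ K ◁ ψ

lemma bij_dualHom {K : Dual.D A} (hK : Cpt K) (N : Dual.D A) : Function.Bijective (dualHom hK N) := by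
  let := pairing hK
  let e := (Iso.homCongr (ρ_ (dual K)) (Iso.refl N)).symm.trans
    (tensorLeftHomEquiv (𝟙_ (Dual.D A)) K (dual K) N)
  suffices dualHom hK N = e by rw [this]; exact e.bijective
  funext ψ
  change coevD hK ≫ K ◁ ψ =
    (λ_ _).inv ≫ (coevD hK ▷ 𝟙_ _) ≫ (α_ K (dual K) _).hom ≫ K ◁ ((ρ_ (dual K)).hom ≫ ψ ≫ 𝟙 N)
  monoidal

lemma exact_dual {K₁ K₂ K₃ : Dual.D A} (h₁ : Cpt K₁) (h₂ : Cpt K₂) (h₃ : Cpt K₃) (f : K₁ ⟶ K₂)
    (g : K₂ ⟶ K₃) (δ : K₃ ⟶ K₁⟦(1 : ℤ)⟧) (hT : Triangle.mk f g δ ∈ distinguishedTriangles)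
    (N : Dual.D A) (x : dual K₂ ⟶ N) (hx : dualMap g ≫ x = 0) :
    ∃ z : dual K₁ ⟶ N, x = dualMap f ≫ z := by
  have := additive_tensorRightD (A := A) N
  have hnat : ∀ {K K' : Dual.D A} (hK : Cpt K) (hK' : Cpt K') (f : K ⟶ K') (ψ : dual K ⟶ N),
      dualHom hK' N (dualMap f ≫ ψ) = dualHom hK N ψ ≫ f ▷ N := fun hK hK' f ψ => by
    change coevD hK' ≫ _ ◁ (dualMap f ≫ ψ) = (coevD hK ≫ _) ≫ _
    rw [MonoidalCategory.whiskerLeft_comp, ← assoc, ← dinatural hK hK' f, assoc, ← whisker_exchange, assoc]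
  have h0 : dualHom h₃ N 0 = 0 := by
    have := Functor.isEquivalence_of_iso (Iso.refl (𝟭 (Dual.D A)))
    have : ((DTen.LTen A).obj K₃).Additive := by
      have := additive_tensorRightD (A := A) K₃
      exact Functor.additive_of_iso (symmIso K₃)
    exact (congrArg (coevD h₃ ≫ ·) (((DTen.LTen A).obj K₃).map_zero _ _)).trans comp_zero
  obtain ⟨δ', hd⟩ := triExact_tensorRightD (A := A) N _ hT
  obtain ⟨y, hy⟩ := Triangle.coyoneda_exact₂ _ hd (dualHom h₂ N x)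
    (show dualHom h₂ N x ≫ g ▷ N = 0 by rw [← hnat h₂ h₃ g x, hx, h0])
  obtain ⟨z, rfl⟩ := (bij_dualHom h₁ N).2 y
  exact ⟨z, (bij_dualHom h₂ N).1 (hy.trans (hnat h₁ h₂ f z).symm)⟩

/-- `RHom(K, L) ≅ L ⊗ K^∨` -/
noncomputable def rhomDualIso (L : Dual.D A) {K : Dual.D A} (hK : Cpt K) :
    L ⊗ dual K ≅ (DTen.RHomR A K).obj L :=
  @asIso _ _ _ _ (DTen.evalTen L (DTen.unit A) K) (isIso_evalTen_cpt _ _ _ hK) ≪≫
    (DTen.RHomR A K).mapIso (ρ_ L)

lemma rhomDualIso_nat (L : Dual.D A) {K K' : Dual.D A} (hK : Cpt K) (hK' : Cpt K') (f : K ⟶ K') :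
    L ◁ dualMap f ≫ (rhomDualIso L hK).hom = (rhomDualIso L hK').hom ≫ DTen.RHomMap f L := by
  have h1 : L ◁ dualMap f ≫ DTen.evalTen L (DTen.unit A) K =
      DTen.evalTen L (DTen.unit A) K' ≫ DTen.RHomMap f ((DTen.LTen₂ A).obj (L, DTen.unit A)) := by
    refine hom_ext_ev ?_
    let T := (DTen.LTen₂ A).obj (L, DTen.unit A)
    change (L ◁ dualMap f ≫ DTen.evalTen L (DTen.unit A) K) ▷ K ≫ DTen.ev K T =
      (DTen.evalTen L (DTen.unit A) K' ≫ DTen.RHomMap f T) ▷ K ≫ DTen.ev K T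
    have e : DTen.evalTen L (DTen.unit A) K ▷ K ≫ DTen.ev K T =
      (α_ L (dual K) K).hom ≫ L ◁ DTen.ev K (DTen.unit A) := DTen.evalTen_fac _ _ _
    have e' : DTen.evalTen L (DTen.unit A) K' ▷ K' ≫ DTen.ev K' T =
      (α_ L (dual K') K').hom ≫ L ◁ DTen.ev K' (DTen.unit A) := DTen.evalTen_fac _ _ _
    have m : DTen.RHomMap f T ▷ K ≫ DTen.ev K T = (DTen.RHomR A K').obj T ◁ f ≫ DTen.ev K' T :=
      DTen.RHom_map_ev f _
    have m' : dualMap f ▷ K ≫ DTen.ev K (DTen.unit A) = dual K' ◁ f ≫ DTen.ev K' (DTen.unit A) :=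
      DTen.RHom_map_ev f _
    calc _ = (L ◁ dualMap f) ▷ K ≫ (DTen.evalTen L (DTen.unit A) K ▷ K ≫ DTen.ev K T) := by monoidal
      _ = (α_ L (dual K') K).hom ≫ L ◁ (dualMap f ▷ K ≫ DTen.ev K (DTen.unit A)) := by
        rw [e]; monoidal
      _ = (L ⊗ dual K') ◁ f ≫ (DTen.evalTen L (DTen.unit A) K' ▷ K' ≫ DTen.ev K' T) := by
        rw [m', e']; monoidal
      _ = DTen.evalTen L (DTen.unit A) K' ▷ K ≫ ((DTen.RHomR A K').obj T ◁ f ≫ DTen.ev K' T) := by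
        rw [← assoc, whisker_exchange, assoc]
      _ = _ := by rw [← m]; monoidal
  change L ◁ dualMap f ≫ DTen.evalTen L (DTen.unit A) K ≫ (DTen.RHomR A K).map (ρ_ L).hom =
    (DTen.evalTen L (DTen.unit A) K' ≫ (DTen.RHomR A K').map (ρ_ L).hom) ≫ DTen.RHomMap f L
  rw [reassoc_of% h1, assoc]
  exact congrArg (DTen.evalTen L (DTen.unit A) K' ≫ ·)
    (((DTen.RHom A).map f.op).naturality (ρ_ L).hom).symm

lemma exact_rhom (X L M : Dual.D A) {K₁ K₂ K₃ : Dual.D A} (h₁ : Cpt K₁) (h₂ : Cpt K₂) (h₃ : Cpt K₃)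
    (f : K₁ ⟶ K₂) (g : K₂ ⟶ K₃) (δ : K₃ ⟶ K₁⟦(1 : ℤ)⟧)
    (hT : Triangle.mk f g δ ∈ distinguishedTriangles)
    (x : X ⊗ (DTen.RHomR A K₂).obj L ⟶ M) (hx : X ◁ DTen.RHomMap g L ≫ x = 0) :
    ∃ z, x = X ◁ DTen.RHomMap f L ≫ z := by
  let W := X ⊗ L
  let ι : ∀ {K : Dual.D A}, Cpt K → (X ⊗ (DTen.RHomR A K).obj L ≅ dual K ⊗ W) := fun {K} hK =>
    whiskerLeftIso X (rhomDualIso L hK).symm ≪≫ (α_ X L (dual K)).symm ≪≫ DTen.braiding _ _
  have hι : ∀ {K K' : Dual.D A} (hK : Cpt K) (hK' : Cpt K') (f : K ⟶ K'),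
      (ι hK').hom ≫ dualMap f ▷ W = X ◁ DTen.RHomMap f L ≫ (ι hK).hom := fun {K K'} hK hK' f => by
    have h1 : (rhomDualIso L hK').inv ≫ L ◁ dualMap f = DTen.RHomMap f L ≫ (rhomDualIso L hK).inv := by
      rw [Iso.inv_comp_eq, ← assoc, Iso.eq_comp_inv, rhomDualIso_nat L hK hK' f]
    have h2 : (DTen.braiding (dual K') W).hom ≫ dualMap f ▷ W = W ◁ dualMap f ≫ (DTen.braiding (dual K) W).hom :=
      ((DTen.symm A).naturality (Prod.mkHom (dualMap f) (𝟙 W) : (dual K', W) ⟶ (dual K, W))).symm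
    change ((X ◁ (rhomDualIso L hK').inv) ≫ (α_ X L (dual K')).inv ≫ (DTen.braiding _ _).hom) ≫ _ =
      X ◁ DTen.RHomMap f L ≫ X ◁ (rhomDualIso L hK).inv ≫ (α_ X L (dual K)).inv ≫ _
    rw [assoc, assoc, h2, ← MonoidalCategory.whiskerLeft_comp_assoc, ← h1]
    monoidal
  let φ := fun K => DTen.rhomHomEquiv (dual K) W M
  have hφ : ∀ {K K' : Dual.D A} (f : K ⟶ K') (a : dual K ⊗ W ⟶ M),
      φ K' (dualMap f ▷ W ≫ a) = dualMap f ≫ φ K a := fun f a =>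
    (DTen.rhomAdj A W).homEquiv_naturality_left _ _
  have h0 : dualMap g ≫ φ K₂ ((ι h₂).inv ≫ x) = 0 := by
    rw [← hφ]
    have : dualMap g ▷ W ≫ (ι h₂).inv = (ι h₃).inv ≫ X ◁ DTen.RHomMap g L := by
      rw [Iso.eq_inv_comp, reassoc_of% hι h₂ h₃ g, Iso.hom_inv_id, comp_id]
    rw [reassoc_of% this, hx, comp_zero]
    have : (DTen.tensorRightD A W).Additive := addR W
    exact (DTen.rhomAdj A W).homAddEquiv_zero _ _
  obtain ⟨z, hz⟩ := exact_dual h₁ h₂ h₃ f g δ hT _ _ h0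
  refine ⟨(ι h₁).hom ≫ (φ K₁).symm z, ?_⟩
  have : (ι h₂).inv ≫ x = dualMap f ▷ W ≫ (φ K₁).symm z :=
    (φ K₂).injective (by rw [hφ, Equiv.apply_symm_apply]; exact hz)
  rw [Iso.inv_comp_eq, reassoc_of% hι h₁ h₂ f] at this
  exact this

/-- the Yoneda form of `evalHom` -/
noncomputable def eh (X L M K : Dual.D A) (φ : X ⟶ (DTen.RHomR A L).obj M ⊗ K) :
    X ⊗ (DTen.RHomR A K).obj L ⟶ M :=
  φ ▷ (DTen.RHomR A K).obj L ≫ DTen.evalHomAux K L M

lemma comp_evalHom (X L M K : Dual.D A) (a : X ⟶ (DTen.RHomR A L).obj M ⊗ K) :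
    a ≫ DTen.evalHom K L M = DTen.rhomHomEquiv _ _ _ (eh X L M K a) :=
  ((DTen.rhomAdj A _).homEquiv_naturality_left a _).symm

lemma eh_nat (X L M : Dual.D A) {K K' : Dual.D A} (f : K ⟶ K') (φ : X ⟶ (DTen.RHomR A L).obj M ⊗ K) :
    eh X L M K' (φ ≫ (DTen.RHomR A L).obj M ◁ f) = X ◁ DTen.RHomMap f L ≫ eh X L M K φ := by
  let R := (DTen.RHomR A L).obj M
  let S := (DTen.RHomR A K).obj L
  let S' := (DTen.RHomR A K').obj L
  let r : S' ⟶ S := DTen.RHomMap f L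
  have hs : f ▷ S' ≫ (DTen.symm A).app (S', K') ≫ DTen.ev K' L =
      K ◁ r ≫ (DTen.symm A).app (S, K) ≫ DTen.ev K L := by
    have n1 : f ▷ S' ≫ (DTen.symm A).app (S', K') = (DTen.symm A).app (S', K) ≫ S' ◁ f :=
      (DTen.symm A).naturality (Prod.mkHom (𝟙 S') f : (S', K) ⟶ (S', K'))
    have n2 : K ◁ r ≫ (DTen.symm A).app (S, K) = (DTen.symm A).app (S', K) ≫ r ▷ K :=
      (DTen.symm A).naturality (Prod.mkHom r (𝟙 K) : (S', K) ⟶ (S, K))
    have m : r ▷ K ≫ DTen.ev K L = S' ◁ f ≫ DTen.ev K' L := DTen.RHom_map_ev f L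
    rw [reassoc_of% n1, reassoc_of% n2, m]
  change (φ ≫ R ◁ f) ▷ S' ≫ (α_ R K' S').hom ≫
      R ◁ ((DTen.symm A).app (S', K') ≫ DTen.ev K' L) ≫ DTen.ev L M =
    X ◁ r ≫ φ ▷ S ≫ (α_ R K S).hom ≫ R ◁ ((DTen.symm A).app (S, K) ≫ DTen.ev K L) ≫ DTen.ev L M
  calc _ = φ ▷ S' ≫ (α_ R K S').hom ≫
        R ◁ (f ▷ S' ≫ (DTen.symm A).app (S', K') ≫ DTen.ev K' L) ≫ DTen.ev L M := by monoidal
    _ = φ ▷ S' ≫ (R ⊗ K) ◁ r ≫ (α_ R K S).hom ≫
        R ◁ ((DTen.symm A).app (S, K) ≫ DTen.ev K L) ≫ DTen.ev L M := by rw [hs]; monoidal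
    _ = _ := by rw [← assoc, ← whisker_exchange, assoc]

lemma eh_add (X L M K : Dual.D A) (a b : X ⟶ (DTen.RHomR A L).obj M ⊗ K) :
    eh X L M K (a + b) = eh X L M K a + eh X L M K b := by
  have := addR (A := A) ((DTen.RHomR A K).obj L)
  change (DTen.tensorRightD A _).map (a + b) ≫ _ = _
  rw [Functor.map_add, Preadditive.add_comp]
  rfl

lemma eh_invertible (X L M K : Dual.D A) [(DTen.tensorRightD A K).IsEquivalence] :
    Function.Bijective (eh X L M K) := by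
  let F := DTen.tensorRightD A K
  let Y := F.objPreimage X
  let i : Y ⊗ K ≅ X := F.objObjPreimageIso X
  let S := (DTen.RHomR A K).obj L
  let R := (DTen.RHomR A L).obj M
  have := (DTen.rhomAdj A K).isEquivalence_right_of_isEquivalence_left
  have : IsIso (DTen.ev K L) := inferInstanceAs (IsIso ((DTen.rhomAdj A K).counit.app L))
  let e : K ⊗ S ≅ L := (DTen.braiding S K) ≪≫ asIso (DTen.ev K L)
  have hb : Function.Bijective (fun ψ : Y ⟶ R => i.inv ≫ ψ ▷ K) :=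
    (bij_precomp i.symm).comp ⟨fun a b h => F.map_injective h, fun b => F.map_surjective b⟩
  refine (Function.Bijective.of_comp_iff _ hb).1 ?_
  have : eh X L M K ∘ (fun ψ : Y ⟶ R => i.inv ≫ ψ ▷ K) =
      (fun b => (whiskerRightIso i.symm S ≪≫ α_ Y K S ≪≫ whiskerLeftIso Y e).hom ≫ b) ∘
        (DTen.rhomHomEquiv Y L M).symm := funext fun ψ => by
    change (i.inv ≫ ψ ▷ K) ▷ S ≫ (α_ R K S).hom ≫ R ◁ e.hom ≫ DTen.ev L M =
      (i.inv ▷ S ≫ (α_ Y K S).hom ≫ Y ◁ e.hom) ≫ ψ ▷ L ≫ DTen.ev L M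
    generalize e.hom = E
    calc _ = i.inv ▷ S ≫ (α_ Y K S).hom ≫ (ψ ▷ (K ⊗ S) ≫ R ◁ E) ≫ DTen.ev L M := by monoidal
      _ = _ := by rw [← whisker_exchange]; simp only [assoc]
  rw [this]
  exact (bij_precomp _).comp (Equiv.bijective _)

/-- the class on which `evalHom` is invertible -/
def EH (X L M K : Dual.D A) : Prop := ∀ n : ℤ, Function.Bijective (eh X L M (K⟦n⟧))

lemma eh_of_iso (X L M : Dual.D A) {K K' : Dual.D A} (e : K ≅ K')
    (h : Function.Bijective (eh X L M K)) : Function.Bijective (eh X L M K') := by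
  let e' : (DTen.RHomR A L).obj M ⊗ K ≅ (DTen.RHomR A L).obj M ⊗ K' := whiskerLeftIso _ e
  have hr : IsIso (DTen.RHomMap e.hom L) := inferInstanceAs (IsIso (((DTen.RHom A).map e.hom.op).app L))
  let r : X ⊗ (DTen.RHomR A K').obj L ≅ X ⊗ (DTen.RHomR A K).obj L :=
    whiskerLeftIso X (asIso (DTen.RHomMap e.hom L))
  have h1 : eh X L M K' ∘ (fun φ => φ ≫ e'.hom) = (fun b => r.hom ≫ b) ∘ eh X L M K :=
    funext fun φ => eh_nat X L M e.hom φ
  refine (Function.Bijective.of_comp_iff _ ⟨fun a b h => (cancel_mono e'.hom).1 h,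
    fun b => ⟨b ≫ e'.inv, by simp⟩⟩).1 ?_
  rw [h1]; exact (bij_precomp r).comp h

lemma eh_five (X L M : Dual.D A) (T : Triangle (Dual.D A)) (hT : T ∈ distinguishedTriangles)
    (c₁ : Cpt T.obj₁) (c₂ : Cpt T.obj₂) (c₃ : Cpt T.obj₃)
    (b₁ : Function.Bijective (eh X L M T.obj₁)) (b₂ : Function.Bijective (eh X L M T.obj₂))
    (b₁' : Function.Bijective (eh X L M (T.obj₁⟦(1 : ℤ)⟧)))
    (b₂' : Function.Bijective (eh X L M (T.obj₂⟦(1 : ℤ)⟧))) :
    Function.Bijective (eh X L M T.obj₃) := by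
  let R := (DTen.RHomR A L).obj M
  have addF : ((DTen.LTen A).obj R).Additive :=
    have := additive_tensorRightD (A := A) R
    Functor.additive_of_iso (symmIso R)
  have hF : TriExact ((DTen.LTen A).obj R) := (triExact_tensorRightD R).of_iso (symmIso R)
  have c₁' := c₁.shift 1
  have c₂' := c₂.shift 1
  have hT' := rot_of_distTriang T hT
  have hT'' := rot_of_distTriang _ hT'
  have ex : ∀ (S : Triangle (Dual.D A)), S ∈ distinguishedTriangles → ∀ (x : X ⟶ R ⊗ S.obj₂),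
      x ≫ R ◁ S.mor₂ = 0 → ∃ y, x = y ≫ R ◁ S.mor₁ := fun S hS x hx => by
    obtain ⟨δ, hd⟩ := hF S hS
    exact Triangle.coyoneda_exact₂ _ hd x hx
  have z0 : ∀ K, eh X L M K 0 = 0 := fun K => by simpa using eh_add X L M K 0 0
  have map0 : ∀ {K K' : Dual.D A}, R ◁ (0 : K ⟶ K') = 0 :=
    fun {K K'} => ((DTen.LTen A).obj R).map_zero K K'
  constructor
  · intro x x' hxx
    obtain ⟨d, rfl⟩ : ∃ d, x = d + x' := ⟨x - x', (sub_add_cancel x x').symm⟩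
    suffices d = 0 by rw [this, zero_add]
    have hd : eh X L M _ d = 0 := by rw [eh_add] at hxx; simpa using hxx
    have h0 : d ≫ R ◁ T.mor₃ = 0 := b₁'.1 (by rw [eh_nat, hd, comp_zero, z0])
    obtain ⟨y, rfl⟩ : ∃ y, d = y ≫ R ◁ T.mor₂ := ex _ hT' d h0
    obtain ⟨z', hz'⟩ := exact_rhom X L M c₁ c₂ c₃ T.mor₁ T.mor₂ T.mor₃ hT (eh X L M _ y)
      (by rw [← eh_nat]; exact hd)
    obtain ⟨z, rfl⟩ := b₁.2 z'
    rw [← eh_nat] at hz'
    rw [b₂.1 hz', assoc, ← MonoidalCategory.whiskerLeft_comp, comp_distTriang_mor_zero₁₂ T hT, map0,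
      comp_zero]
  · intro w
    obtain ⟨v, hv⟩ := b₁'.2 (X ◁ DTen.RHomMap T.mor₃ L ≫ w)
    have hv0 : v ≫ R ◁ (T.mor₁⟦(1 : ℤ)⟧') = 0 := b₂'.1 (by
      have h := eh_nat X L M (0 : T.obj₃ ⟶ T.obj₂⟦(1 : ℤ)⟧) (0 : X ⟶ R ⊗ T.obj₃)
      rw [zero_comp, z0, z0, comp_zero] at h
      rw [eh_nat, hv, z0]
      have : X ◁ DTen.RHomMap (T.mor₁⟦(1 : ℤ)⟧') L ≫ X ◁ DTen.RHomMap T.mor₃ L =
          X ◁ DTen.RHomMap (0 : T.obj₃ ⟶ T.obj₂⟦(1 : ℤ)⟧) L := by
        rw [← MonoidalCategory.whiskerLeft_comp, ← comp_distTriang_mor_zero₃₁ T hT]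
        exact congrArg (X ◁ ·) (congrArg (fun t => t.app L) ((DTen.RHom A).map_comp
          (T.mor₁⟦(1 : ℤ)⟧').op T.mor₃.op)).symm
      rw [← assoc, this]
      have hr : DTen.RHomMap (0 : T.obj₃ ⟶ T.obj₂⟦(1 : ℤ)⟧) L = 0 := hom_ext_ev (by
        rw [DTen.RHom_map_ev]
        have := addR (A := A) T.obj₃
        have h1 : ((DTen.RHomR A (T.obj₂⟦(1 : ℤ)⟧)).obj L) ◁ (0 : T.obj₃ ⟶ T.obj₂⟦(1 : ℤ)⟧) = 0 := by
          have : ((DTen.LTen A).obj ((DTen.RHomR A (T.obj₂⟦(1 : ℤ)⟧)).obj L)).Additive :=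
            have := additive_tensorRightD (A := A) ((DTen.RHomR A (T.obj₂⟦(1 : ℤ)⟧)).obj L)
            Functor.additive_of_iso (symmIso _)
          exact ((DTen.LTen A).obj _).map_zero _ _
        exact (congrArg (· ≫ DTen.ev _ L) h1).trans (zero_comp.trans
          ((congrArg (· ≫ DTen.ev T.obj₃ L) ((DTen.tensorRightD A T.obj₃).map_zero _ _)).trans zero_comp).symm))
      rw [hr]
      have : ((DTen.LTen A).obj X).Additive :=
        have := additive_tensorRightD (A := A) X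
        Functor.additive_of_iso (symmIso X)
      exact (congrArg (· ≫ w) (((DTen.LTen A).obj X).map_zero _ _)).trans zero_comp)
    obtain ⟨x₀, rfl⟩ : ∃ x₀, v = x₀ ≫ R ◁ T.mor₃ := ex _ hT'' v (by
      change v ≫ ((DTen.LTen A).obj R).map (-T.mor₁⟦(1 : ℤ)⟧') = 0
      rw [Functor.map_neg, Preadditive.comp_neg]
      exact neg_eq_zero.2 hv0)
    rw [eh_nat] at hv
    obtain ⟨y', hy'⟩ := exact_rhom X L M c₂ c₃ c₁' T.mor₂ T.mor₃ _ hT' (w - eh X L M _ x₀)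
      (by rw [Preadditive.comp_sub, hv, sub_self])
    obtain ⟨y, rfl⟩ := b₂.2 y'
    exact ⟨x₀ + y ≫ R ◁ T.mor₂, by rw [eh_add, eh_nat, ← hy']; abel⟩

theorem isIso_evalHom (K L M : Dual.D A) (hK : DRing.IsPerfect A K) : IsIso (DTen.evalHom K L M) := by
  refine isIso_of_comp_bijective _ fun X => ?_
  rw [show (fun a : X ⟶ _ => a ≫ DTen.evalHom K L M) = DTen.rhomHomEquiv _ _ _ ∘ eh X L M K from
    funext (comp_evalHom X L M K)]
  refine (Equiv.bijective _).comp ?_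
  let P : ObjectProperty (Dual.D A) := fun K => Cpt K ∧ EH X L M K
  have : P.IsClosedUnderIsomorphisms := ⟨fun e h =>
    ⟨h.1.of_iso e, fun n => eh_of_iso X L M ((shiftFunctor _ n).mapIso e) (h.2 n)⟩⟩
  have hK' : P K := perfect_induction P
    (by
      obtain ⟨e⟩ := inD_shift_iso (A := A) 0
      refine ⟨(cpt_RS _).of_iso (e.symm ≪≫ (shiftFunctorZero (Dual.D A) ℤ).app _), fun n => ?_⟩
      obtain ⟨e⟩ := inD_shift_iso (A := A) n
      have := isEquivalence_tensorRightD_RS (A := A) (-n)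
      exact eh_of_iso X L M e.symm (eh_invertible X L M _))
    (fun K n h => ⟨h.1.shift n, fun m => eh_of_iso X L M ((shiftFunctorAdd _ n m).app K) (h.2 (n + m))⟩)
    (fun T hT h₁ h₃ => ⟨cpt_obj₂ T hT h₁.1 h₃.1, fun n => by
      have hT' := Triangle.shift_distinguished T.invRotate (inv_rot_of_distTriang T hT) n
      exact eh_five X L M _ hT' ((h₃.1.shift _).shift n) (h₁.1.shift n)
        ((cpt_obj₂ T hT h₁.1 h₃.1).shift n)
        (eh_of_iso X L M ((shiftFunctorAdd _ (-1) n).app T.obj₃) (h₃.2 (-1 + n))) (h₁.2 n)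
        (eh_of_iso X L M ((shiftFunctorAdd' _ (-1) (n + 1) n (by omega)).app T.obj₃ ≪≫
          (shiftFunctorAdd _ n 1).app _) (h₃.2 n))
        (eh_of_iso X L M ((shiftFunctorAdd _ n 1).app T.obj₁) (h₁.2 (n + 1)))⟩)
    (fun Y Z _ h => ⟨cpt_retract biprod.inl biprod.fst biprod.inl_fst h.1, fun n => by
      let i := (biprod.inl : Y ⟶ Y ⊞ Z)⟦n⟧'
      let r := (biprod.fst : Y ⊞ Z ⟶ Y)⟦n⟧'
      have hir : i ≫ r = 𝟙 _ := by rw [← Functor.map_comp, biprod.inl_fst, CategoryTheory.Functor.map_id]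
      have hir' : DTen.RHomMap r L ≫ DTen.RHomMap i L = 𝟙 _ := by
        change ((DTen.RHom A).map r.op).app L ≫ ((DTen.RHom A).map i.op).app L = _
        rw [← NatTrans.comp_app, ← Functor.map_comp, ← op_comp, hir, op_id, CategoryTheory.Functor.map_id]
        rfl
      constructor
      · intro a b hab
        have : a ≫ _ ◁ i = b ≫ _ ◁ i := (h.2 n).1 (by rw [eh_nat, eh_nat, hab])
        calc a = (a ≫ _ ◁ i) ≫ _ ◁ r := by
              rw [assoc, ← MonoidalCategory.whiskerLeft_comp, hir, MonoidalCategory.whiskerLeft_id, comp_id]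
          _ = b := by
              rw [this, assoc, ← MonoidalCategory.whiskerLeft_comp, hir, MonoidalCategory.whiskerLeft_id,
                comp_id]
      · intro w
        obtain ⟨a, ha⟩ := (h.2 n).2 (X ◁ DTen.RHomMap i L ≫ w)
        exact ⟨a ≫ _ ◁ r, by rw [eh_nat, ha, ← assoc, ← MonoidalCategory.whiskerLeft_comp, hir',
          MonoidalCategory.whiskerLeft_id, id_comp]⟩⟩) K hK
  exact eh_of_iso X L M ((shiftFunctorZero (Dual.D A) ℤ).app K) (hK'.2 0)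

end Groth.Agent.H5DTenDual
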