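import Groth.Agent.Lib.H5DTen
import Groth.Agent.Lib.H5KInjApps
import Groth.Prelude.Def_DTen6

universe u

namespace Groth.Agent.H5DTenMix
open CategoryTheory Limits Category MonoidalCategory HomologicalComplex
open Groth.Agent

attribute [local instance] HasDerivedCategory.standard

variable {R A : Type u} [CommRing R] [CommRing A] (φ : R →+* A)

/-- tensoring with a module in degree zero -/
noncomputable def singleHom (M : ModuleCat.{u} R) (K : DRing.Cx R) (n : ℤ) :
    M ⊗ K.X n ⟶ ((((single (ModuleCat.{u} R) (ComplexShape.up ℤ) 0).obj M) ⊗ K : DRing.Cx R)).X n :=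
  ((singleObjXSelf (ComplexShape.up ℤ) 0 M).inv ▷ K.X n) ≫
    ιTensorObj ((single (ModuleCat.{u} R) (ComplexShape.up ℤ) 0).obj M) K 0 n n (zero_add n)

lemma isIso_singleHom (M : ModuleCat.{u} R) (K : DRing.Cx R) (n : ℤ) : IsIso (singleHom M K n) := by
  let S := (single (ModuleCat.{u} R) (ComplexShape.up ℤ) 0).obj M
  let inv' : (S ⊗ K : DRing.Cx R).X n ⟶ M ⊗ K.X n :=
    mapBifunctorDesc (fun p q h => if hp : p = 0 then
      ((singleObjXIsoOfEq (ComplexShape.up ℤ) 0 M p hp).hom ▷ K.X q) ≫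
        eqToHom (by
          have hpq : p + q = n := h
          rw [show q = n by omega]) else 0)
  refine ⟨inv', ?_, ?_⟩
  · change (_ ≫ _) ≫ mapBifunctorDesc _ = _
    rw [assoc]
    erw [ι_mapBifunctorDesc]
    simp [singleObjXSelf, ← comp_whiskerRight]
  · refine mapBifunctor.hom_ext fun p q h => ?_
    change _ ≫ mapBifunctorDesc _ ≫ singleHom M K n = _ ≫ 𝟙 _
    erw [ι_mapBifunctorDesc_assoc, comp_id]
    by_cases hp : p = 0
    · subst hp
      have hpq : 0 + q = n := h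
      obtain rfl : q = n := by omega
      rw [dif_pos rfl]
      simp only [eqToHom_refl, comp_id, singleHom]
      rw [← comp_whiskerRight_assoc]
      simp [singleObjXSelf]
    · rw [dif_neg hp, zero_comp]
      refine IsZero.eq_of_src ?_ _ _
      exact ((tensorRight (K.X q)).map_isZero (isZero_single_obj_X _ _ _ _ hp) : _)

lemma singleHom_d (M : ModuleCat.{u} R) (K : DRing.Cx R) (i j : ℤ) :
    singleHom M K i ≫ (((single (ModuleCat.{u} R) (ComplexShape.up ℤ) 0).obj M) ⊗ K : DRing.Cx R).d i j =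
      (M ◁ K.d i j) ≫ singleHom M K j := by
  by_cases hij : (ComplexShape.up ℤ).Rel i j
  · change (_ ≫ _) ≫ (mapBifunctor _ _ _ _).d i j = _
    simp only [singleHom, assoc, mapBifunctor.d_eq, Preadditive.comp_add, mapBifunctor.ι_D₁,
      mapBifunctor.ι_D₂]
    have h1 : (ComplexShape.up ℤ).Rel 0 ((ComplexShape.up ℤ).next 0) := by simp
    have hd₁ : mapBifunctor.d₁ ((single (ModuleCat.{u} R) (ComplexShape.up ℤ) 0).obj M) K
        (curriedTensor (ModuleCat.{u} R)) (ComplexShape.up ℤ) 0 i j = 0 := by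
      by_cases h₂ : ComplexShape.π (ComplexShape.up ℤ) (ComplexShape.up ℤ) (ComplexShape.up ℤ)
          ((ComplexShape.up ℤ).next 0, i) = j
      · rw [mapBifunctor.d₁_eq _ _ _ _ h1 _ _ h₂, single_obj_d, Functor.map_zero,
          zero_app, zero_comp, smul_zero]
      · rw [mapBifunctor.d₁_eq_zero' _ _ _ _ h1 _ _ h₂]
    rw [hd₁, comp_zero, zero_add, mapBifunctor.d₂_eq _ _ _ _ _ hij _ (by simp)]
    dsimp
    simp only [ComplexShape.ε_zero, one_smul, ← whisker_exchange_assoc]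
  · rw [shape _ _ _ hij, shape _ _ _ hij, comp_zero, MonoidalPreadditive.whiskerLeft_zero, zero_comp]

/-- the identity, as a linear equivalence -/
noncomputable def resExtEquiv (N : ModuleCat.{u} R) :
    ((ModuleCat.restrictScalars.{u} φ).obj ((ModuleCat.extendScalars.{u, u, u} φ).obj N) : ModuleCat.{u} R) ≃ₗ[R]
      ((ModuleCat.restrictScalars.{u} φ).obj (ModuleCat.of A A) ⊗ N : ModuleCat.{u} R) where
  toFun x := x
  invFun x := x
  map_add' _ _ := rfl
  map_smul' r x := by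
    induction x using TensorProduct.induction_on with
    | zero =>
      exact (smul_zero (A := ((ModuleCat.restrictScalars.{u} φ).obj ((ModuleCat.extendScalars.{u, u, u} φ).obj N) : ModuleCat.{u} R)) r).trans
        (smul_zero (A := ((ModuleCat.restrictScalars.{u} φ).obj (ModuleCat.of A A) ⊗ N : ModuleCat.{u} R)) r).symm
    | tmul s m => rfl
    | add x y hx hy =>
      exact (smul_add (A := ((ModuleCat.restrictScalars.{u} φ).obj ((ModuleCat.extendScalars.{u, u, u} φ).obj N) : ModuleCat.{u} R)) r x y).trans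
        ((congrArg₂ (fun a b : ((ModuleCat.restrictScalars.{u} φ).obj (ModuleCat.of A A) ⊗ N : ModuleCat.{u} R) => a + b) hx hy).trans
          (smul_add (A := ((ModuleCat.restrictScalars.{u} φ).obj (ModuleCat.of A A) ⊗ N : ModuleCat.{u} R)) r x y).symm)
  left_inv _ := rfl
  right_inv _ := rfl

/-- restriction of an extension of scalars is the tensor product with the ring -/
noncomputable def resExt₀ (N : ModuleCat.{u} R) :
    (ModuleCat.restrictScalars.{u} φ).obj ((ModuleCat.extendScalars.{u, u, u} φ).obj N) ≅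
      (ModuleCat.restrictScalars.{u} φ).obj (ModuleCat.of A A) ⊗ N :=
  (resExtEquiv φ N).toModuleIso

lemma resExt₀_nat {N N' : ModuleCat.{u} R} (f : N ⟶ N') :
    (ModuleCat.restrictScalars.{u} φ).map ((ModuleCat.extendScalars.{u, u, u} φ).map f) ≫ (resExt₀ φ N').hom =
      (resExt₀ φ N).hom ≫ _ ◁ f :=
  ModuleCat.hom_ext (TensorProduct.ext' fun _ _ => rfl)

/-- the base ring as a complex -/
noncomputable abbrev ringCx : DRing.Cx R :=
  (single (ModuleCat.{u} R) (ComplexShape.up ℤ) 0).obj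
    ((ModuleCat.restrictScalars.{u} φ).obj (ModuleCat.of A A))

/-- restriction of termwise base change is tensoring with the ring -/
noncomputable def resExt (K : DRing.Cx R) :
    (DTen.resCx φ).obj ((DTen.extCx φ).obj K) ≅ ringCx φ ⊗ K :=
  Hom.isoOfComponents
    (fun n => resExt₀ φ (K.X n) ≪≫
      @asIso _ _ _ _ (singleHom ((ModuleCat.restrictScalars.{u} φ).obj (ModuleCat.of A A)) K n)
        (isIso_singleHom _ K n))
    (fun i j _ => by
      let M := (ModuleCat.restrictScalars.{u} φ).obj (ModuleCat.of A A)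
      change ((resExt₀ φ (K.X i)).hom ≫ singleHom M K i) ≫ (ringCx φ ⊗ K : DRing.Cx R).d i j =
        (ModuleCat.restrictScalars.{u} φ).map ((ModuleCat.extendScalars.{u, u, u} φ).map (K.d i j)) ≫
          (resExt₀ φ (K.X j)).hom ≫ singleHom M K j
      rw [assoc, singleHom_d, reassoc_of% resExt₀_nat φ (K.d i j)])

lemma resExt_nat {K K' : DRing.Cx R} (f : K ⟶ K') :
    (DTen.resCx φ).map ((DTen.extCx φ).map f) ≫ (resExt φ K').hom =
      (resExt φ K).hom ≫ ringCx φ ◁ f := by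
  ext n : 1
  change (ModuleCat.restrictScalars.{u} φ).map ((ModuleCat.extendScalars.{u, u, u} φ).map (f.f n)) ≫
      ((resExt₀ φ (K'.X n)).hom ≫ singleHom _ K' n) =
    ((resExt₀ φ (K.X n)).hom ≫ singleHom _ K n) ≫ (mapBifunctorMap (𝟙 (ringCx φ)) f _ _).f n
  rw [reassoc_of% resExt₀_nat φ (f.f n), assoc]
  refine congrArg ((resExt₀ φ (K.X n)).hom ≫ ·) ?_
  change _ = (_ ≫ _) ≫ _
  rw [assoc]
  erw [H5TenCx.ι_map₂]
  change _ ◁ f.f n ≫ _ ≫ _ = _
  rw [← assoc, whisker_exchange, assoc]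
  rfl

/-- base change preserves quasi-isomorphisms of K-flat complexes -/
lemma quasiIso_extCx {P Q : DRing.Cx R} (hP : H5KFlatApps.KFl R P) (hQ : H5KFlatApps.KFl R Q)
    (α : P ⟶ Q) [QuasiIso α] : QuasiIso ((DTen.extCx φ).map α) := by
  have := H5KFlatApps.quasiIso_tensor hP hQ α (ringCx φ)
  have h := resExt_nat φ α
  have : QuasiIso ((DTen.resCx φ).map ((DTen.extCx φ).map α) ≫ (resExt φ Q).hom) := by
    rw [h]; infer_instance
  have := quasiIso_of_comp_right ((DTen.resCx φ).map ((DTen.extCx φ).map α)) (resExt φ Q).hom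
  exact (quasiIso_map_iff_of_preservesHomology _ (ModuleCat.restrictScalars.{u} φ)).1 this

/-- K-projective complexes are K-flat -/
lemma kflat_of_kproj (K : DRing.Cx R) [K.IsKProjective] : H5KFlatApps.KFl R K := by
  obtain ⟨N, f, hN, hf⟩ := H5KFlat.exists_nice_resolution K
  have := hN.kproj
  obtain ⟨g, hg⟩ := H5DTen.surj_of_kproj (inv (DerivedCategory.Q.map f))
  obtain ⟨h₁⟩ := H5DTen.homotopic_of_Q_eq (f := f ≫ g) (g := 𝟙 N) (by simp [hg])
  obtain ⟨h₂⟩ := H5DTen.homotopic_of_Q_eq (f := g ≫ f) (g := 𝟙 K) (by simp [hg])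
  exact H5KFlatApps.kflat_of_homotopyEquiv _
    { hom := f, inv := g, homotopyHomInvId := h₁, homotopyInvHomId := h₂ } hN.kflat

/-- the adjunction on complexes -/
noncomputable abbrev adjCx : DTen.extCx φ ⊣ DTen.resCx φ :=
  H5KApps.adjC (ModuleCat.extendRestrictScalarsAdj.{u, u, u} φ)

lemma unit_adjCx (K : DRing.Cx R) : (adjCx φ).unit.app K = (DTen.unitCx φ).app K := rfl

lemma isKProjective_extCx (K : DRing.Cx R) [K.IsKProjective] :
    CochainComplex.IsKProjective ((DTen.extCx φ).obj K) := by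
  refine ⟨fun {L} f hL => ?_⟩
  have hL' : ((DTen.resCx φ).obj L).Acyclic := fun n =>
    (hL n).map (ModuleCat.restrictScalars.{u} φ)
  obtain ⟨H⟩ := CochainComplex.IsKProjective.nonempty_homotopy_zero ((adjCx φ).homEquiv K L f) hL'
  exact ⟨(Homotopy.ofEq (by
      exact (((adjCx φ).homEquiv K L).symm_apply_apply f).symm.trans ((adjCx φ).homEquiv_counit _ _ _))).trans
    ((((ModuleCat.extendScalars.{u, u, u} φ).mapHomotopy H).compRight ((adjCx φ).counit.app L)).trans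
      (Homotopy.ofEq (by rw [Functor.map_zero, zero_comp])))⟩

theorem isIso_baseCmp_nice [DTen.HasLBase φ] (K : DRing.Cx R) [K.IsKProjective] :
    IsIso ((DTen.baseCmp φ).app K) := by
  have := isKProjective_extCx φ K
  have hb : ∀ N : Dual.D A, Function.Bijective
      (fun a : DerivedCategory.Q.obj ((DTen.extCx φ).obj K) ⟶ N => (DTen.baseCmp φ).app K ≫ a) := by
    intro N
    let Y := DerivedCategory.Q.objPreimage N
    let e := DerivedCategory.Q.objObjPreimageIso N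
    refine (Function.Bijective.of_comp_iff' ((DTen.baseAdj φ).homEquiv _ N).bijective _).1 ?_
    have h1 : ((DTen.baseAdj φ).homEquiv _ N) ∘ (fun a => (DTen.baseCmp φ).app K ≫ a) =
        fun a => (DTen.baseγ φ).app K ≫ (DRing.restrictD φ).map a := funext fun a => by
      change (DTen.baseAdj φ).homEquiv _ N ((DTen.baseCmp φ).app K ≫ a) = _
      rw [(DTen.baseAdj φ).homEquiv_unit, Functor.map_comp]
      exact (assoc _ _ _).symm.trans (congrArg (fun t => t ≫ (DRing.restrictD φ).map a) (DTen.baseCmp_fac φ K))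
    erw [h1]
    have key : ∀ g : (DTen.extCx φ).obj K ⟶ Y,
        (DTen.baseγ φ).app K ≫ (DRing.restrictD φ).map (DerivedCategory.Q.map g) =
          DerivedCategory.Q.map ((adjCx φ).homEquiv K Y g) ≫ (DTen.resFactors φ).inv.app Y := fun g => by
      rw [(adjCx φ).homEquiv_unit, unit_adjCx, Functor.map_comp]
      dsimp only [DTen.baseγ]
      rw [assoc, assoc]
      exact congrArg (DerivedCategory.Q.map ((DTen.unitCx φ).app K) ≫ ·)
        ((DTen.resFactors φ).inv.naturality g).symm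
    constructor
    · intro a b hab
      obtain ⟨f, hf⟩ := H5DTen.surj_of_kproj (a ≫ e.inv)
      obtain ⟨g, hg⟩ := H5DTen.surj_of_kproj (b ≫ e.inv)
      have h2 : DerivedCategory.Q.map ((adjCx φ).homEquiv K Y f) =
          DerivedCategory.Q.map ((adjCx φ).homEquiv K Y g) := by
        rw [← cancel_mono ((DTen.resFactors φ).inv.app Y), ← key, ← key, hf, hg, Functor.map_comp,
          Functor.map_comp, ← assoc, ← assoc]
        exact congrArg (fun t => t ≫ (DRing.restrictD φ).map e.inv) hab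
      obtain ⟨H⟩ := H5DTen.homotopic_of_Q_eq h2
      have h3 : DerivedCategory.Q.map f = DerivedCategory.Q.map g :=
        DerivedCategory.Q_map_eq_of_homotopy _
          ((Homotopy.ofEq (by
              exact (((adjCx φ).homEquiv K Y).symm_apply_apply f).symm.trans ((adjCx φ).homEquiv_counit _ _ _))).trans
            ((((ModuleCat.extendScalars.{u, u, u} φ).mapHomotopy H).compRight ((adjCx φ).counit.app Y)).trans
              (Homotopy.ofEq (by
                exact (((adjCx φ).homEquiv_counit _ _ _)).symm.trans (((adjCx φ).homEquiv K Y).symm_apply_apply g)))))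
      rw [hf, hg] at h3
      exact (cancel_mono e.inv).1 h3
    · intro w
      obtain ⟨f, hf⟩ := H5DTen.surj_of_kproj
        (w ≫ (DRing.restrictD φ).map e.inv ≫ (DTen.resFactors φ).hom.app Y)
      refine ⟨DerivedCategory.Q.map (((adjCx φ).homEquiv K Y).symm f) ≫ e.hom, ?_⟩
      change (DTen.baseγ φ).app K ≫ (DRing.restrictD φ).map (_ ≫ e.hom) = w
      rw [Functor.map_comp, ← assoc, key, Equiv.apply_symm_apply, hf]
      simp only [assoc, Iso.hom_inv_id_app_assoc, ← Functor.map_comp, e.inv_hom_id]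
      exact (congrArg (w ≫ ·) ((DRing.restrictD φ).map_id N)).trans (comp_id w)
  obtain ⟨g, hg⟩ := (hb ((DTen.LBase φ).obj (DerivedCategory.Q.obj K))).2 (𝟙 _)
  have hg : (DTen.baseCmp φ).app K ≫ g = 𝟙 _ := hg
  exact ⟨g, hg, (hb _).1 (show (DTen.baseCmp φ).app K ≫ g ≫ (DTen.baseCmp φ).app K =
    (DTen.baseCmp φ).app K ≫ 𝟙 _ by rw [reassoc_of% hg, comp_id])⟩

theorem isIso_baseCmp [DTen.HasLBase φ] (K : DRing.Cx R) (hK : H5KFlatApps.KFl R K) :
    IsIso ((DTen.baseCmp φ).app K) := by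
  obtain ⟨N, f, hN, hf⟩ := H5KFlat.exists_nice_resolution K
  have := hN.kproj
  have := isIso_baseCmp_nice φ N
  have := quasiIso_extCx φ hN.kflat hK f
  have e := (DTen.baseCmp φ).naturality f
  dsimp at e
  have h2 : IsIso ((DTen.LBase φ).map (DerivedCategory.Q.map f) ≫ (DTen.baseCmp φ).app K) := by
    rw [e]; infer_instance
  exact IsIso.of_isIso_comp_left ((DTen.LBase φ).map (DerivedCategory.Q.map f)) _

section mix

lemma lResolving_QMix : H5DTen.LResolving (DTen.QMix R A)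
    (fun p => H5DTen.NiceP R p.1 ∧ H5DTen.NiceP A p.2) where
  surj I X hI ψ := by
    obtain ⟨f, hf⟩ := H5DTen.lResolving_Q.surj _ _ hI.1 ψ.1
    obtain ⟨g, hg⟩ := H5DTen.lResolving_Q.surj _ _ hI.2 ψ.2
    exact ⟨Prod.mkHom f g, Prod.ext hf hg⟩
  ess Y := by
    obtain ⟨I, hI, ⟨e⟩⟩ := H5DTen.lResolving_Q.ess Y.1
    obtain ⟨I', hI', ⟨e'⟩⟩ := H5DTen.lResolving_Q.ess Y.2
    exact ⟨(I, I'), ⟨hI, hI'⟩, ⟨Iso.prod e e'⟩⟩

lemma lCompat_mix₂ : H5DTen.LCompat (DTen.QMix R A)
    (fun p => H5DTen.NiceP R p.1 ∧ H5DTen.NiceP A p.2) (DTen.mix₂ φ) := by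
  intro I X hI f g h
  have := hI.1.kproj
  have := hI.2.kproj
  obtain ⟨h₁⟩ := H5DTen.homotopic_of_Q_eq (congrArg (fun p => p.1) h)
  exact H5DTen.Q_whisker_eq ⟨(ModuleCat.extendScalars.{u, u, u} φ).mapHomotopy h₁⟩
    (H5DTen.homotopic_of_Q_eq (K := I.2) (congrArg (fun p => p.2) h))

variable [DTen.HasLTenMix φ]

lemma isIso_εMix_nice (K : DRing.Cx R) (N : DRing.Cx A) (hK : H5DTen.NiceP R K) (hN : H5DTen.NiceP A N) :
    IsIso ((DTen.εMix φ).app (K, N)) :=
  lResolving_QMix.isIso_counit (lCompat_mix₂ φ) (DTen.qisMix R A) _ _ (K, N) ⟨hK, hN⟩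

lemma isIso_εMix (K : DRing.Cx R) (N : DRing.Cx A) (hK : H5KFlatApps.KFl R K) (hN : H5KFlatApps.KFl A N) :
    IsIso ((DTen.εMix φ).app (K, N)) := by
  obtain ⟨K', f, hK', hf⟩ := H5KFlat.exists_nice_resolution K
  obtain ⟨N', g, hN', hg⟩ := H5KFlat.exists_nice_resolution N
  have := isIso_εMix_nice φ K' N' hK' hN'
  have hfg : QuasiIso ((DTen.mixT φ).map (Prod.mkHom f g : (K', N') ⟶ (K, N))) := by
    change QuasiIso ((DTen.extCx φ).map f ▷ N' ≫ (DTen.extCx φ).obj K ◁ g)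
    have := quasiIso_extCx φ hK'.kflat hK f
    have := hK'.kproj
    have := isKProjective_extCx φ K'
    have := H5KFlatApps.quasiIso_tensor_right hN'.kflat ((DTen.extCx φ).map f)
    have hk : QuasiIso ((DTen.extCx φ).obj K' ◁ g) :=
      H5KFlatApps.quasiIso_tensor_left (kflat_of_kproj _) g
    have := H5KFlatApps.quasiIso_tensor_right hN ((DTen.extCx φ).map f)
    rw [← whisker_exchange]; infer_instance
  have e := (DTen.εMix φ).naturality (Prod.mkHom f g : (K', N') ⟶ (K, N))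
  have h1 : IsIso ((DTen.LTenMix φ).map ((DTen.QMix R A).map (Prod.mkHom f g : (K', N') ⟶ (K, N)))) := by
    have : IsIso ((DTen.QMix R A).map (Prod.mkHom f g : (K', N') ⟶ (K, N))) :=
      (isIso_prod_iff _ _).2 ⟨inferInstanceAs (IsIso (DerivedCategory.Q.map f)),
        inferInstanceAs (IsIso (DerivedCategory.Q.map g))⟩
    infer_instance
  have h2 : IsIso ((DTen.QMix R A ⋙ DTen.LTenMix φ).map (Prod.mkHom f g : (K', N') ⟶ (K, N)) ≫
      (DTen.εMix φ).app (K, N)) := by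
    rw [e]
    exact IsIso.comp_isIso' inferInstance (inferInstanceAs (IsIso (DerivedCategory.Q.map _)))
  exact @IsIso.of_isIso_comp_left _ _ _ _ _ ((DTen.QMix R A ⋙ DTen.LTenMix φ).map (Prod.mkHom f g : (K', N') ⟶ (K, N))) _ h1 h2

end mix

section legs

theorem isIso_split [DTen.HasLTen A] [DTen.HasLBase φ] [DTen.HasLTenMix φ] (E : Dual.D R) (N : Dual.D A) :
    IsIso ((DTen.split φ).app (E, N)) := by
  obtain ⟨⟨K, N'⟩, ⟨hK, hN⟩, ⟨e⟩⟩ := (lResolving_QMix (R := R) (A := A)).ess (E, N)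
  refine H5DTen.isIso_app_of_iso (DTen.split φ) e ?_
  have := isIso_εMix_nice φ K N' hK hN
  have h1 := isIso_baseCmp φ K hK.kflat
  have h2 := H5DTen.isIso_ε ((DTen.extCx φ).obj K) N' (.inr hN.kflat)
  have : IsIso ((DTen.split φ).app ((DTen.QMix R A).obj (K, N')) ≫ (DTen.εMix φ).app (K, N')) := by
    rw [DTen.split_fac]
    dsimp only [DTen.splitβ]
    have h3 : IsIso (Prod.mkHom ((DTen.baseCmp φ).app K) (𝟙 (DerivedCategory.Q.obj N'))) :=
      (isIso_prod_iff _ _).2 ⟨h1, inferInstance⟩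
    exact @IsIso.comp_isIso _ _ _ _ _ _ _ (@Functor.map_isIso _ _ _ _ _ _ _ _ h3) h2
  exact IsIso.of_isIso_comp_right _ ((DTen.εMix φ).app (K, N'))

variable {B C : Type u} [CommRing B] [CommRing C] (ψ : A →+* B)

/-- tensor products of K-flat complexes are K-flat -/
lemma kflat_tensor {K L : DRing.Cx A} (hK : H5KFlatApps.KFl A K) (hL : H5KFlatApps.KFl A L) :
    H5KFlatApps.KFl A (K ⊗ L) := fun M hM =>
  H5KFlat.acyclic_of_iso (α_ M K L) (hL _ (hK M hM))

/-- `QMix₃` on nice triples -/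
abbrev P₃ : ObjectProperty (DRing.Cx R × (DRing.Cx A × DRing.Cx B)) := fun p =>
  H5DTen.NiceP R p.1 ∧ H5DTen.NiceP A p.2.1 ∧ H5DTen.NiceP B p.2.2

lemma lResolving_QMix₃ : H5DTen.LResolving (DTen.QMix₃ R A B) P₃ where
  surj I X hI a := by
    obtain ⟨f, hf⟩ := H5DTen.lResolving_Q.surj _ _ hI.1 a.1
    obtain ⟨g, hg⟩ := (lResolving_QMix (R := A) (A := B)).surj _ _ hI.2 a.2
    exact ⟨Prod.mkHom f g, Prod.ext hf hg⟩
  ess Y := by
    obtain ⟨I, hI, ⟨e⟩⟩ := H5DTen.lResolving_Q.ess Y.1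
    obtain ⟨I', hI', ⟨e'⟩⟩ := (lResolving_QMix (R := A) (A := B)).ess Y.2
    exact ⟨(I, I'), ⟨hI, hI'.1, hI'.2⟩, ⟨Iso.prod e e'⟩⟩

lemma lCompat_mix₃ : H5DTen.LCompat (DTen.QMix₃ R A B) P₃ (DTen.mix₃ φ ψ) := by
  intro I X hI f g h
  have := hI.1.kproj
  have := hI.2.1.kproj
  have := hI.2.2.kproj
  obtain ⟨h₁⟩ := H5DTen.homotopic_of_Q_eq (congrArg (fun p => p.1) h)
  obtain ⟨h₂⟩ := H5DTen.homotopic_of_Q_eq (K := I.2.1) (congrArg (fun p => p.2.1) h)
  obtain ⟨h₃⟩ := H5DTen.homotopic_of_Q_eq (K := I.2.2) (congrArg (fun p => p.2.2) h)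
  let F := curriedTensor (ModuleCat.{u} A)
  let G := ((ModuleCat.extendScalars.{u, u, u} φ).mapHomotopy h₁)
  refine H5DTen.Q_whisker_eq ⟨(ModuleCat.extendScalars.{u, u, u} ψ).mapHomotopy ?_⟩ ⟨h₃⟩
  exact (((HomologicalComplex.mapBifunctorMapHomotopy₁ G (𝟙 I.2.1) F _).compRight _).trans
    ((HomologicalComplex.mapBifunctorMapHomotopy₂ (𝟙 ((DTen.extCx φ).obj X.1)) h₂ F _).compLeft _))

theorem isIso_legs [DTen.HasLTenMix φ] [DTen.HasLTenMix ψ] [DTen.HasLTenMix (ψ.comp φ)]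
    [DTen.HasLTenMix₃ φ ψ] (E : Dual.D R) (F : Dual.D A) (G : Dual.D B) :
    IsIso ((DTen.leg₃L φ ψ).app (E, (F, G))) ∧ IsIso ((DTen.leg₃R φ ψ).app (E, (F, G))) := by
  obtain ⟨⟨M, N, K⟩, ⟨hM, hN, hK⟩, ⟨e⟩⟩ := (lResolving_QMix₃ (R := R) (A := A) (B := B)).ess (E, (F, G))
  have := hM.kproj
  have := hN.kproj
  have := isKProjective_extCx φ M
  have := isKProjective_extCx ψ N
  have h₃ : IsIso ((DTen.εMix₃ φ ψ).app (M, (N, K))) :=
    lResolving_QMix₃.isIso_counit (lCompat_mix₃ φ ψ) (DTen.qisMix₃ R A B) _ _ (M, (N, K)) ⟨hM, hN, hK⟩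
  have a1 := isIso_εMix_nice φ M N hM hN
  have a2 := isIso_εMix_nice ψ N K hN hK
  constructor
  · refine H5DTen.isIso_app_of_iso (DTen.leg₃L φ ψ) e ?_
    have a3 := isIso_εMix ψ ((DTen.mixT φ).obj (M, N)) K
      (kflat_tensor (kflat_of_kproj ((DTen.extCx φ).obj M)) hN.kflat) hK.kflat
    have : IsIso ((DTen.leg₃L φ ψ).app ((DTen.QMix₃ R A B).obj (M, (N, K))) ≫
        (DTen.εMix₃ φ ψ).app (M, (N, K))) := by
      rw [DTen.leg₃L_fac]
      dsimp only [DTen.β₃L]
      have h4 : IsIso (Prod.mkHom ((DTen.εMix φ).app (M, N)) (𝟙 (DerivedCategory.Q.obj K))) :=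
        (isIso_prod_iff _ _).2 ⟨a1, inferInstance⟩
      exact @IsIso.comp_isIso _ _ _ _ _ _ _ (@Functor.map_isIso _ _ _ _ _ _ _ _ h4) a3
    exact IsIso.of_isIso_comp_right _ ((DTen.εMix₃ φ ψ).app (M, (N, K)))
  · refine H5DTen.isIso_app_of_iso (DTen.leg₃R φ ψ) e ?_
    have a3 := isIso_εMix (ψ.comp φ) M ((DTen.mixT ψ).obj (N, K)) hM.kflat
      (kflat_tensor (kflat_of_kproj ((DTen.extCx ψ).obj N)) hK.kflat)
    have : IsIso ((DTen.leg₃R φ ψ).app ((DTen.QMix₃ R A B).obj (M, (N, K))) ≫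
        (DTen.εMix₃ φ ψ).app (M, (N, K))) := by
      rw [DTen.leg₃R_fac]
      dsimp only [DTen.β₃R]
      have h4 : IsIso (Prod.mkHom (𝟙 (DerivedCategory.Q.obj M)) ((DTen.εMix ψ).app (N, K))) :=
        (isIso_prod_iff _ _).2 ⟨inferInstance, a2⟩
      refine @IsIso.comp_isIso _ _ _ _ _ _ _ (@Functor.map_isIso _ _ _ _ _ _ _ _ h4) ?_
      exact @IsIso.comp_isIso _ _ _ _ _ _ _ a3 inferInstance
    exact IsIso.of_isIso_comp_right _ ((DTen.εMix₃ φ ψ).app (M, (N, K)))

end legs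

end Groth.Agent.H5DTenMix
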