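import Groth.Agent.Lib.H5DTenClosed

universe u

namespace Groth.Agent.H5DTenMon
open CategoryTheory Limits Category Pretriangulated MonoidalCategory Opposite
open Groth.Agent Groth.Agent.H5Perf Groth.Agent.H5DTenClosed

attribute [local instance] HasDerivedCategory.standard

variable {A : Type u} [CommRing A] [DTen.HasLTen A] [DTen.HasLTen₃ A] [DTen.IsSymMonoidal A]


/-- the counit, with plainly typed target -/
noncomputable abbrev eps (K L : DRing.Cx A) :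
    (DTen.LTen₂ A).obj (DerivedCategory.Q.obj K, DerivedCategory.Q.obj L) ⟶
      DerivedCategory.Q.obj (K ⊗ L) := (DTen.ε A).app (K, L)

lemma assoc_Q (K L M : DRing.Cx A) :
    (DTen.associator (DerivedCategory.Q.obj K) (DerivedCategory.Q.obj L) (DerivedCategory.Q.obj M)).hom ≫
      tm (𝟙 (DerivedCategory.Q.obj K)) (eps (L) (M)) ≫ eps (K) (L ⊗ M) =
    tm (eps (K) (L)) (𝟙 (DerivedCategory.Q.obj M)) ≫ eps (K ⊗ L) (M) ≫ DerivedCategory.Q.map (α_ K L M).hom := by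
  have h1 := DTen.assocR_fac A (K, (L, M))
  have h2 := DTen.assocL_fac A (K, (L, M))
  have h3 := DTen.associator_hom_assocR (DerivedCategory.Q.obj K) (DerivedCategory.Q.obj L) (DerivedCategory.Q.obj M)
  dsimp only [DTen.βR, DTen.βL] at h1 h2
  refine (congrArg (_ ≫ ·) h1.symm).trans ((assoc _ _ _).symm.trans ?_)
  exact (congrArg (fun t => t ≫ _) h3).trans h2

lemma ε_nat {K K' L L' : DRing.Cx A} (f : K ⟶ K') (g : L ⟶ L') :
    tm (DerivedCategory.Q.map f) (DerivedCategory.Q.map g) ≫ eps (K') (L') =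
      eps (K) (L) ≫ DerivedCategory.Q.map (f ⊗ₘ g) := by
  have h := (DTen.ε A).naturality (Prod.mkHom f g)
  dsimp at h
  rw [← MonoidalCategory.tensorHom_def] at h
  exact h

set_option maxHeartbeats 1000000 in
lemma pentagon_cx (W X Y Z : DRing.Cx A) (hW : H5KFlatApps.KFl A W) (hX : H5KFlatApps.KFl A X)
    (hY : H5KFlatApps.KFl A Y) :
    tm (DTen.associator (DerivedCategory.Q.obj W) (DerivedCategory.Q.obj X) (DerivedCategory.Q.obj Y)).hom (𝟙 (DerivedCategory.Q.obj Z)) ≫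
      (DTen.associator (DerivedCategory.Q.obj W) ((DTen.LTen₂ A).obj (DerivedCategory.Q.obj X, DerivedCategory.Q.obj Y)) (DerivedCategory.Q.obj Z)).hom ≫
        tm (𝟙 (DerivedCategory.Q.obj W)) (DTen.associator (DerivedCategory.Q.obj X) (DerivedCategory.Q.obj Y) (DerivedCategory.Q.obj Z)).hom =
      (DTen.associator ((DTen.LTen₂ A).obj (DerivedCategory.Q.obj W, DerivedCategory.Q.obj X)) (DerivedCategory.Q.obj Y) (DerivedCategory.Q.obj Z)).hom ≫
        (DTen.associator (DerivedCategory.Q.obj W) (DerivedCategory.Q.obj X) ((DTen.LTen₂ A).obj (DerivedCategory.Q.obj Y, DerivedCategory.Q.obj Z))).hom := by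
  have hF : tm (𝟙 (DerivedCategory.Q.obj W)) (tm (𝟙 (DerivedCategory.Q.obj X)) (eps Y Z) ≫ eps X (Y ⊗ Z)) ≫ eps W (X ⊗ Y ⊗ Z) =
      tm (𝟙 (DerivedCategory.Q.obj W)) (tm (𝟙 (DerivedCategory.Q.obj X)) (eps Y Z)) ≫ tm (𝟙 (DerivedCategory.Q.obj W)) (eps X (Y ⊗ Z)) ≫
        eps W (X ⊗ Y ⊗ Z) := by rw [tm_comp_assoc, comp_id]
  have i1 : IsIso (eps Y Z) := H5DTen.isIso_ε Y Z (.inl hY)
  have i2 : IsIso (eps X (Y ⊗ Z)) := H5DTen.isIso_ε X _ (.inl hX)
  have i3 : IsIso (eps W (X ⊗ Y ⊗ Z)) := H5DTen.isIso_ε W _ (.inl hW)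
  have hi : ∀ {b c : Dual.D A} (f : b ⟶ c) (a : Dual.D A), IsIso f → IsIso (tm (𝟙 a) f) := fun f a _ => by
    have : IsIso (Prod.mkHom (𝟙 a) f) := (isIso_prod_iff _ _).2 ⟨inferInstance, inferInstance⟩
    exact Functor.map_isIso _ _
  have i4 := hi _ (DerivedCategory.Q.obj W) i2
  have i5 := hi _ (DerivedCategory.Q.obj W) (hi _ (DerivedCategory.Q.obj X) i1)
  rw [← cancel_mono (tm (𝟙 (DerivedCategory.Q.obj W)) (tm (𝟙 (DerivedCategory.Q.obj X)) (eps Y Z)) ≫ tm (𝟙 (DerivedCategory.Q.obj W)) (eps X (Y ⊗ Z)) ≫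
    eps W (X ⊗ Y ⊗ Z))]
  have a1 := assoc_Q X Y Z
  have a2 := assoc_Q W (X ⊗ Y) Z
  have a3 := assoc_Q W X (Y ⊗ Z)
  have a4 := assoc_Q (W ⊗ X) Y Z
  have a5 := assoc_Q W X Y
  have n1 := ε_nat (α_ W X Y).hom (𝟙 Z)
  have n2 := ε_nat (𝟙 W) (α_ X Y Z).hom
  rw [CategoryTheory.Functor.map_id] at n1 n2
  have p := congrArg (fun t => DerivedCategory.Q.map t) (MonoidalCategory.pentagon W X Y Z)
  simp only [Functor.map_comp] at p
  have L1 : tm (𝟙 (DerivedCategory.Q.obj W)) (DTen.associator (DerivedCategory.Q.obj X) (DerivedCategory.Q.obj Y) (DerivedCategory.Q.obj Z)).hom ≫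
      tm (𝟙 (DerivedCategory.Q.obj W)) (tm (𝟙 (DerivedCategory.Q.obj X)) (eps Y Z)) ≫ tm (𝟙 (DerivedCategory.Q.obj W)) (eps X (Y ⊗ Z)) ≫ eps W (X ⊗ Y ⊗ Z) =
      tm (𝟙 (DerivedCategory.Q.obj W)) (tm (eps X Y) (𝟙 (DerivedCategory.Q.obj Z))) ≫ tm (𝟙 (DerivedCategory.Q.obj W)) (eps (X ⊗ Y) Z) ≫
        eps W ((X ⊗ Y) ⊗ Z) ≫ DerivedCategory.Q.map (W ◁ (α_ X Y Z).hom) := by
    simp only [tm_comp_assoc, comp_id, assoc]
    rw [a1, ← id_tensorHom, ← n2, tm_comp_assoc, comp_id, assoc]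
  have L2 : (DTen.associator (DerivedCategory.Q.obj W) ((DTen.LTen₂ A).obj (DerivedCategory.Q.obj X, DerivedCategory.Q.obj Y)) (DerivedCategory.Q.obj Z)).hom ≫
      tm (𝟙 (DerivedCategory.Q.obj W)) (tm (eps X Y) (𝟙 (DerivedCategory.Q.obj Z))) ≫ tm (𝟙 (DerivedCategory.Q.obj W)) (eps (X ⊗ Y) Z) ≫
        eps W ((X ⊗ Y) ⊗ Z) =
      tm (tm (𝟙 (DerivedCategory.Q.obj W)) (eps X Y) ≫ eps W (X ⊗ Y)) (𝟙 (DerivedCategory.Q.obj Z)) ≫ eps (W ⊗ X ⊗ Y) Z ≫
        DerivedCategory.Q.map (α_ W (X ⊗ Y) Z).hom := by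
    rw [← assoc_naturality_assoc, a2, tm_comp_assoc, comp_id]
  have R1 : (DTen.associator (DerivedCategory.Q.obj W) (DerivedCategory.Q.obj X) ((DTen.LTen₂ A).obj (DerivedCategory.Q.obj Y, DerivedCategory.Q.obj Z))).hom ≫
      tm (𝟙 (DerivedCategory.Q.obj W)) (tm (𝟙 (DerivedCategory.Q.obj X)) (eps Y Z)) ≫ tm (𝟙 (DerivedCategory.Q.obj W)) (eps X (Y ⊗ Z)) ≫
        eps W (X ⊗ Y ⊗ Z) =
      tm (eps W X) (eps Y Z) ≫ eps (W ⊗ X) (Y ⊗ Z) ≫ DerivedCategory.Q.map (α_ W X (Y ⊗ Z)).hom := by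
    rw [← assoc_naturality_assoc, a3, tm_id, tm_comp_assoc, id_comp, comp_id]
  have R2 : (DTen.associator ((DTen.LTen₂ A).obj (DerivedCategory.Q.obj W, DerivedCategory.Q.obj X)) (DerivedCategory.Q.obj Y) (DerivedCategory.Q.obj Z)).hom ≫
      tm (eps W X) (eps Y Z) ≫ eps (W ⊗ X) (Y ⊗ Z) =
      tm (tm (eps W X) (𝟙 (DerivedCategory.Q.obj Y)) ≫ eps (W ⊗ X) Y) (𝟙 (DerivedCategory.Q.obj Z)) ≫ eps ((W ⊗ X) ⊗ Y) Z ≫
        DerivedCategory.Q.map (α_ (W ⊗ X) Y Z).hom := by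
    rw [show tm (eps W X) (eps Y Z) = tm (eps W X) (tm (𝟙 (DerivedCategory.Q.obj Y)) (𝟙 (DerivedCategory.Q.obj Z))) ≫
      tm (𝟙 (DerivedCategory.Q.obj (W ⊗ X))) (eps Y Z) by rw [tm_id, tm_comp, comp_id, id_comp]]
    rw [assoc, ← assoc_naturality_assoc, a4, tm_comp_assoc, comp_id]
  rw [assoc, assoc, assoc, L1, reassoc_of% L2, R1, reassoc_of% R2, tm_comp_assoc, comp_id,
    a5, ← id_tensorHom, id_tensorHom, ← p, ← tensorHom_id]
  rw [show tm (tm (eps W X) (𝟙 (DerivedCategory.Q.obj Y)) ≫ eps (W ⊗ X) Y ≫ DerivedCategory.Q.map (α_ W X Y).hom) (𝟙 (DerivedCategory.Q.obj Z)) =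
    tm (tm (eps W X) (𝟙 (DerivedCategory.Q.obj Y)) ≫ eps (W ⊗ X) Y) (𝟙 (DerivedCategory.Q.obj Z)) ≫
      tm (DerivedCategory.Q.map (α_ W X Y).hom) (𝟙 (DerivedCategory.Q.obj Z)) by rw [tm_comp, assoc, comp_id]]
  rw [assoc, reassoc_of% n1]

lemma triangle_cx
    (X Y : DRing.Cx A) (hX : H5KFlatApps.KFl A X) :
    (DTen.associator (DerivedCategory.Q.obj X) (DTen.unit A) (DerivedCategory.Q.obj Y)).hom ≫
      tm (𝟙 (DerivedCategory.Q.obj X)) (DTen.leftUnitor (DerivedCategory.Q.obj Y)).hom =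
    tm (DTen.rightUnitor (DerivedCategory.Q.obj X)).hom (𝟙 (DerivedCategory.Q.obj Y)) := by
  have i1 : IsIso (eps (X) (Y)) := H5DTen.isIso_ε X Y (.inl hX)
  rw [← cancel_mono (eps (X) (Y)), DTen.leftUnitor_hom, DTen.rightUnitor_hom, DTen.unitL_app,
    DTen.unitR_app]
  have n1 := ε_nat (ρ_ X).hom (𝟙 Y)
  have n2 := ε_nat (𝟙 X) (λ_ Y).hom
  rw [CategoryTheory.Functor.map_id] at n1 n2
  rw [show tm (eps (X) (𝟙_ (DRing.Cx A)) ≫ DerivedCategory.Q.map (ρ_ X).hom) (𝟙 (DerivedCategory.Q.obj Y)) =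
      tm (eps (X) (𝟙_ (DRing.Cx A))) (𝟙 _) ≫ tm (DerivedCategory.Q.map (ρ_ X).hom) (𝟙 _) by
    rw [tm_comp, comp_id]]
  rw [show tm (𝟙 (DerivedCategory.Q.obj X)) (eps (𝟙_ (DRing.Cx A)) (Y) ≫ DerivedCategory.Q.map (λ_ Y).hom) =
      tm (𝟙 _) (eps (𝟙_ (DRing.Cx A)) (Y)) ≫ tm (𝟙 _) (DerivedCategory.Q.map (λ_ Y).hom) by
    rw [tm_comp, comp_id]]
  simp only [assoc]
  rw [n1, n2, reassoc_of% (assoc_Q X (𝟙_ (DRing.Cx A)) Y)]
  refine congrArg _ (congrArg _ ?_)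
  rw [← Functor.map_comp, id_tensorHom, tensorHom_id, MonoidalCategory.triangle]

/-- transport an identity along isomorphisms -/
lemma pentagon_D {W X Y Z : Dual.D A} :
    tm (DTen.associator W X Y).hom (𝟙 Z) ≫
      (DTen.associator W ((DTen.LTen₂ A).obj (X, Y)) Z).hom ≫
        tm (𝟙 W) (DTen.associator X Y Z).hom =
      (DTen.associator ((DTen.LTen₂ A).obj (W, X)) Y Z).hom ≫
        (DTen.associator W X ((DTen.LTen₂ A).obj (Y, Z))).hom := by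
  obtain ⟨W', hW, ⟨w⟩⟩ := H5DTen.lResolving_Q.ess W
  obtain ⟨X', hX, ⟨x⟩⟩ := H5DTen.lResolving_Q.ess X
  obtain ⟨Y', hY, ⟨y⟩⟩ := H5DTen.lResolving_Q.ess Y
  obtain ⟨Z', -, ⟨z⟩⟩ := H5DTen.lResolving_Q.ess Z
  have : IsIso (tm (tm (tm w.hom x.hom) y.hom) z.hom) := by
    have hi : ∀ {a b c d : Dual.D A} (f : a ⟶ b) (g : c ⟶ d), IsIso f → IsIso g → IsIso (tm f g) :=
      fun f g _ _ => by
        have : IsIso (Prod.mkHom f g) := (isIso_prod_iff _ _).2 ⟨inferInstance, inferInstance⟩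
        exact Functor.map_isIso _ _
    exact hi _ _ (hi _ _ (hi _ _ inferInstance inferInstance) inferInstance) inferInstance
  rw [← cancel_epi (tm (tm (tm w.hom x.hom) y.hom) z.hom), assoc_naturality_assoc, assoc_naturality,
    ← reassoc_of% (pentagon_cx W' X' Y' Z' hW.kflat hX.kflat hY.kflat)]
  rw [tm_comp_assoc, comp_id, assoc_naturality, show tm ((DTen.associator _ _ _).hom ≫
      tm w.hom (tm x.hom y.hom)) z.hom =
    tm (DTen.associator (DerivedCategory.Q.obj W') (DerivedCategory.Q.obj X') (DerivedCategory.Q.obj Y')).hom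
      (𝟙 (DerivedCategory.Q.obj Z')) ≫ tm (tm w.hom (tm x.hom y.hom)) z.hom by rw [tm_comp, id_comp],
    assoc, assoc_naturality_assoc, tm_comp, tm_comp, assoc_naturality, comp_id, id_comp]

lemma triangle_D {X Y : Dual.D A} :
    (DTen.associator X (DTen.unit A) Y).hom ≫ tm (𝟙 X) (DTen.leftUnitor Y).hom =
      tm (DTen.rightUnitor X).hom (𝟙 Y) := by
  obtain ⟨X', hX, ⟨x⟩⟩ := H5DTen.lResolving_Q.ess X
  obtain ⟨Y', -, ⟨y⟩⟩ := H5DTen.lResolving_Q.ess Y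
  have : IsIso (tm (tm x.hom (𝟙 (DTen.unit A))) y.hom) := by
    have : IsIso (Prod.mkHom x.hom (𝟙 (DTen.unit A))) := (isIso_prod_iff _ _).2 ⟨inferInstance, inferInstance⟩
    have h1 : IsIso (tm x.hom (𝟙 (DTen.unit A))) := Functor.map_isIso _ _
    have : IsIso (Prod.mkHom (tm x.hom (𝟙 (DTen.unit A))) y.hom) :=
      (isIso_prod_iff _ _).2 ⟨h1, inferInstance⟩
    exact Functor.map_isIso _ _
  have nl : tm (𝟙 (DTen.unit A)) y.hom ≫ (DTen.leftUnitor Y).hom =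
      (DTen.leftUnitor (DerivedCategory.Q.obj Y')).hom ≫ y.hom := (DTen.unitL A).naturality y.hom
  have nr : tm x.hom (𝟙 (DTen.unit A)) ≫ (DTen.rightUnitor X).hom =
      (DTen.rightUnitor (DerivedCategory.Q.obj X')).hom ≫ x.hom := (DTen.unitR A).naturality x.hom
  rw [← cancel_epi (tm (tm x.hom (𝟙 (DTen.unit A))) y.hom), assoc_naturality_assoc, tm_comp, tm_comp,
    comp_id, comp_id, nl, nr]
  conv_lhs => rw [← id_comp x.hom, ← tm_comp, reassoc_of% (triangle_cx X' Y' hX.kflat)]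
  rw [tm_comp, id_comp]

/-- the monoidal category `D(A)` -/
@[reducible]
noncomputable def monoidalStruct (A : Type u) [CommRing A] [DTen.HasLTen A] [DTen.HasLTen₃ A] [DTen.IsSymMonoidal A] : MonoidalCategoryStruct (Dual.D A) where
  tensorObj a b := (DTen.LTen₂ A).obj (a, b)
  whiskerLeft a _ _ f := tm (𝟙 a) f
  whiskerRight f b := tm f (𝟙 b)
  tensorHom f g := tm f g
  tensorUnit := DTen.unit A
  associator := DTen.associator
  leftUnitor := DTen.leftUnitor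
  rightUnitor := DTen.rightUnitor

/-- `D(A)` is monoidal for the derived tensor product -/
@[reducible]
noncomputable def monoidal (A : Type u) [CommRing A] [DTen.HasLTen A] [DTen.HasLTen₃ A] [DTen.IsSymMonoidal A] : MonoidalCategory (Dual.D A) :=
  letI := monoidalStruct A
  MonoidalCategory.ofTensorHom
    (id_tensorHom_id := fun a b => tm_id a b)
    (id_tensorHom := fun _ _ _ _ => rfl)
    (tensorHom_id := fun _ _ => rfl)
    (tensorHom_comp_tensorHom := fun f₁ f₂ g₁ g₂ => tm_comp f₁ g₁ f₂ g₂)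
    (associator_naturality := fun f g h => assoc_naturality f g h)
    (leftUnitor_naturality := fun f => (DTen.unitL A).naturality f)
    (rightUnitor_naturality := fun f => (DTen.unitR A).naturality f)
    (pentagon := fun _ _ _ _ => pentagon_D)
    (triangle := fun _ _ => triangle_D)

end Groth.Agent.H5DTenMon
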