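import Groth.Agent.Lib.H5DTenMix
import Groth.Agent.Lib.H5DTenClosed
import Groth.Agent.Lib.H5Perf
import Groth.Prelude.Def_DTen5

universe v u

namespace Groth.Agent.H5DTenRel
open CategoryTheory Limits Category MonoidalCategory HomologicalComplex Pretriangulated
open Groth.Agent Groth.Agent.H5DTenMix Groth.Agent.H5Perf
open Groth.Agent.H5DTenClosed (tm tm_comp tm_comp_assoc tm_id bij_precomp cpt_RS)

attribute [local instance] HasDerivedCategory.standard

section general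

lemma isIso_desc_of_cofan {C : Type*} [Category C] {J : Type*} {X X' : J → C} (c : Cofan X) (c' : Cofan X')
    (hc : IsColimit c) (hc' : IsColimit c') (t : ∀ j, X j ⟶ X' j) (ht : ∀ j, IsIso (t j))
    (f : c.pt ⟶ c'.pt) (hf : ∀ j, c.inj j ≫ f = t j ≫ c'.inj j) : IsIso f := by
  refine ⟨Cofan.IsColimit.desc hc' (fun j => inv (t j) ≫ c.inj j), ?_, ?_⟩
  · refine Cofan.IsColimit.hom_ext hc _ _ fun j => ?_
    rw [← assoc, hf, assoc, Cofan.IsColimit.fac, IsIso.hom_inv_id_assoc, comp_id]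
  · refine Cofan.IsColimit.hom_ext hc' _ _ fun j => ?_
    rw [← assoc, Cofan.IsColimit.fac, assoc, hf, IsIso.inv_hom_id_assoc, comp_id]

lemma aux_inv_square {C : Type*} [Category C] {X X' Y Y' Z Z' : C} {a : X ⟶ Z} {a' : X' ⟶ Z'} {b : Y ⟶ Z}
    {b' : Y' ⟶ Z'} {f : X ⟶ X'} {g : Y ⟶ Y'} {c : Z ⟶ Z'} (i : IsIso b) (i' : IsIso b')
    (ha : f ≫ a' = a ≫ c) (hb : g ≫ b' = b ≫ c) : f ≫ a' ≫ inv b' = (a ≫ inv b) ≫ g := by
  rw [reassoc_of% ha, assoc]
  congr 1
  rw [IsIso.eq_inv_comp, ← assoc, IsIso.comp_inv_eq, hb]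

lemma aux_six {C : Type*} [Category C] {X₀ X₁ X₂ X₃ X₄ X₅ X₆ Y₀ Y₁ Y₂ Y₃ Y₄ Y₅ Y₆ : C}
    {p₁ : X₀ ⟶ X₁} {p₂ : X₁ ⟶ X₂} {p₃ : X₂ ⟶ X₃} {p₄ : X₃ ⟶ X₄} {p₅ : X₄ ⟶ X₅} {p₆ : X₅ ⟶ X₆}
    {q₁ : Y₀ ⟶ Y₁} {q₂ : Y₁ ⟶ Y₂} {q₃ : Y₂ ⟶ Y₃} {q₄ : Y₃ ⟶ Y₄} {q₅ : Y₄ ⟶ Y₅} {q₆ : Y₅ ⟶ Y₆}
    {f₀ : X₀ ⟶ Y₀} {f₁ : X₁ ⟶ Y₁} {f₂ : X₂ ⟶ Y₂} {f₃ : X₃ ⟶ Y₃} {f₄ : X₄ ⟶ Y₄} {f₅ : X₅ ⟶ Y₅} {f₆ : X₆ ⟶ Y₆}
    (h₁ : f₀ ≫ q₁ = p₁ ≫ f₁) (h₂ : f₁ ≫ q₂ = p₂ ≫ f₂) (h₃ : f₂ ≫ q₃ = p₃ ≫ f₃)
    (h₄ : f₃ ≫ q₄ = p₄ ≫ f₄) (h₅ : f₄ ≫ q₅ = p₅ ≫ f₅) (h₆ : f₅ ≫ q₆ = p₆ ≫ f₆) :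
    f₀ ≫ q₁ ≫ q₂ ≫ q₃ ≫ q₄ ≫ q₅ ≫ q₆ = (p₁ ≫ p₂ ≫ p₃ ≫ p₄ ≫ p₅ ≫ p₆) ≫ f₆ := by
  rw [reassoc_of% h₁, reassoc_of% h₂, reassoc_of% h₃, reassoc_of% h₄, reassoc_of% h₅, h₆]
  simp only [assoc]

lemma aux_tau {C : Type*} [Category C] {X₀ X₁ X₂ X₃ X₄ X₅ X₆ E : C} {x : X₀ ⟶ X₁} {p : X₁ ⟶ X₂}
    {q : X₂ ⟶ X₃} {s : X₄ ⟶ X₃} {r : X₅ ⟶ X₄} {u : X₅ ⟶ X₆} {v : X₆ ⟶ E} {Z : C} {e : Z ≅ X₀}
    {y : X₀ ⟶ X₂} {t₁ : Z ⟶ X₅} {w : Z ⟶ X₆} (is : IsIso s) (ir : IsIso r) (h₁ : x ≫ p = y)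
    (he : e.hom ≫ y ≫ q = t₁ ≫ r ≫ s) (h₂ : t₁ ≫ u = w) :
    x ≫ p ≫ q ≫ inv s ≫ inv r ≫ u ≫ v = e.inv ≫ w ≫ v := by
  rw [reassoc_of% h₁, ← cancel_epi e.hom, reassoc_of% he]
  simp only [IsIso.hom_inv_id_assoc, Iso.hom_inv_id_assoc, reassoc_of% h₂]

variable {R A : Type u} [CommRing R] [CommRing A] (φ : R →+* A)

/-- `k ⊗ res y → res (ext k ⊗ y)` -/
noncomputable def pfc (k : DRing.Cx R) (y : DRing.Cx A) :
    k ⊗ (DTen.resCx φ).obj y ⟶ (DTen.resCx φ).obj ((DTen.extCx φ).obj k ⊗ y) :=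
  (DTen.unitCx φ).app k ▷ (DTen.resCx φ).obj y ≫ DTen.resTenCx φ ((DTen.extCx φ).obj k) y

lemma pfc_nat {k k' : DRing.Cx R} {y y' : DRing.Cx A} (f : k ⟶ k') (g : y ⟶ y') :
    (f ⊗ₘ (DTen.resCx φ).map g) ≫ pfc φ k' y' =
      pfc φ k y ≫ (DTen.resCx φ).map ((DTen.extCx φ).map f ⊗ₘ g) := by
  have h := (DTen.unitCx φ).naturality f
  dsimp only [Functor.id_map, Functor.comp_map] at h
  have h2 : (f ⊗ₘ (DTen.resCx φ).map g) ≫ (DTen.unitCx φ).app k' ▷ (DTen.resCx φ).obj y' =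
      (DTen.unitCx φ).app k ▷ (DTen.resCx φ).obj y ≫
        ((DTen.resCx φ).map ((DTen.extCx φ).map f) ⊗ₘ (DTen.resCx φ).map g) := by
    rw [← tensorHom_id, ← tensorHom_id]
    erw [tensorHom_comp_tensorHom, tensorHom_comp_tensorHom]
    rw [h, comp_id, id_comp]
  dsimp only [pfc]
  rw [reassoc_of% h2, DTen.resTenCx_naturality, assoc]

/-- the summand of `pfc` -/
noncomputable abbrev pf₀ (M : ModuleCat.{u} R) (N : ModuleCat.{u} A) :
    M ⊗ (DTen.resM φ).obj N ⟶ (DTen.resM φ).obj ((DTen.extM φ).obj M ⊗ N) :=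
  (ModuleCat.extendRestrictScalarsAdj.{u, u, u} φ).unit.app M ▷ (DTen.resM φ).obj N ≫
    DTen.resTen₀app φ ((DTen.extM φ).obj M) N

lemma isIso_pf₀ (M : ModuleCat.{u} R) (N : ModuleCat.{u} A) : IsIso (pf₀ φ M N) := by
  let _ : Algebra R A := φ.toAlgebra
  let _ : Module R N := Module.compHom N φ
  have : IsScalarTower R A N := ⟨fun r a n => by
    change (φ r * a) • n = φ r • a • n
    rw [mul_smul]⟩
  let e : TensorProduct R M N ≃ₗ[R] TensorProduct A (TensorProduct R A M) N :=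
    (TensorProduct.comm R M N).trans
      ((TensorProduct.AlgebraTensorModule.cancelBaseChange R A A N M).symm.restrictScalars R |>.trans
        ((TensorProduct.comm A N (TensorProduct R A M)).restrictScalars R))
  have he : ∀ m n, e (m ⊗ₜ[R] n) = ((1 : A) ⊗ₜ[R] m) ⊗ₜ[A] n := fun m n => by
    simp [e]
  refine (ConcreteCategory.isIso_iff_bijective _).2 ?_
  have : ∀ x, (pf₀ φ M N).hom x = e x := by
    intro x
    induction x using TensorProduct.induction_on with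
    | zero => exact (map_zero _).trans (map_zero e).symm
    | tmul m n => exact (he m n).symm
    | add x y hx hy => exact ((pf₀ φ M N).hom.map_add x y).trans ((congrArg₂ _ hx hy).trans (e.map_add x y).symm)
  rw [show ⇑(ConcreteCategory.hom (pf₀ φ M N)) = e from funext this]
  exact e.bijective

theorem isIso_pfc (k : DRing.Cx R) (y : DRing.Cx A) : IsIso (pfc φ k y) := by
  have : ∀ n, IsIso ((pfc φ k y).f n) := fun n => by
    let J := (fun pq : ℤ × ℤ => pq.1 + pq.2) ⁻¹' {n}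
    let G := ((curriedTensor (ModuleCat.{u} A)).mapBifunctorHomologicalComplex (ComplexShape.up ℤ)
      (ComplexShape.up ℤ)).obj ((DTen.extCx φ).obj k) |>.obj y
    let c := Cofan.mk ((k ⊗ (DTen.resCx φ).obj y : DRing.Cx R).X n)
      (fun pq : J => ιTensorObj k ((DTen.resCx φ).obj y) pq.1.1 pq.1.2 n pq.2)
    let c₀ := Cofan.mk (((DTen.extCx φ).obj k ⊗ y : DRing.Cx A).X n)
      (fun pq : J => ιTensorObj ((DTen.extCx φ).obj k) y pq.1.1 pq.1.2 n pq.2)
    have hc : IsColimit c :=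
      GradedObject.isColimitCofanMapObj
        ((((curriedTensor (ModuleCat.{u} R)).mapBifunctorHomologicalComplex (ComplexShape.up ℤ)
          (ComplexShape.up ℤ)).obj k).obj ((DTen.resCx φ).obj y)).toGradedObject _ n
    have hc₀ : IsColimit c₀ := GradedObject.isColimitCofanMapObj G.toGradedObject _ n
    refine isIso_desc_of_cofan c (Cofan.mk _ fun pq : J => (DTen.resM φ).map (c₀.inj pq)) hc
      (isColimitCofanMkObjOfIsColimit (DTen.resM φ) _ _ hc₀)
      (fun pq => pf₀ φ (k.X pq.1.1) (y.X pq.1.2)) (fun _ => isIso_pf₀ φ _ _) _ (fun pq => ?_)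
    change ιTensorObj k ((DTen.resCx φ).obj y) pq.1.1 pq.1.2 n pq.2 ≫
      ((DTen.unitCx φ).app k ▷ (DTen.resCx φ).obj y ≫ DTen.resTenCx φ ((DTen.extCx φ).obj k) y).f n = _
    erw [HomologicalComplex.comp_f, ι_mapBifunctorMap_assoc,
      DTen.ι_resTenCx φ ((DTen.extCx φ).obj k) y pq.1.1 pq.1.2 n pq.2]
    simp only [curriedTensor_map_app, HomologicalComplex.id_f, CategoryTheory.Functor.map_id, id_comp]
    exact (assoc _ _ _).symm
  exact Hom.isIso_of_components _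

/-- exactness from nice representatives -/
theorem triExact_of_nice (F : Dual.D R ⥤ Dual.D A) (Φ : DRing.Cx R ⥤ DRing.Cx A) (hΦ : H5TenCx.Good Φ)
    (e : DerivedCategory.Q ⋙ F ⟶ Φ ⋙ DerivedCategory.Q)
    (he : ∀ K : DRing.Cx R, K.IsKProjective → IsIso (e.app K)) : TriExact F := by
  have key : ∀ T : Triangle (Dual.D R), T ∈ distinguishedTriangles →
      ∃ (Z : Dual.D A) (δ : F.obj (T.obj₁⟦(1 : ℤ)⟧) ⟶ Z) (i : Z ≅ (F.obj T.obj₂)⟦(1 : ℤ)⟧),
      Triangle.mk (F.map T.mor₂) (F.map T.mor₃) (δ ≫ i.hom) ∈ distinguishedTriangles := by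
    intro T hT
    obtain ⟨K, hK, ⟨e₁⟩⟩ := H5DTen.lResolving_Q.ess T.obj₁
    obtain ⟨K', hK', ⟨e₂⟩⟩ := H5DTen.lResolving_Q.ess T.obj₂
    have := hK.kproj
    obtain ⟨f, hf⟩ := H5DTen.surj_of_kproj (e₁.hom ≫ T.mor₁ ≫ e₂.inv)
    let iT := isoTriangleOfIso₁₂ T (DerivedCategory.Q.mapTriangle.obj (CochainComplex.mappingCone.triangle f))
      hT ((DerivedCategory.mem_distTriang_iff _).2 ⟨K, K', f, ⟨Iso.refl _⟩⟩) e₁.symm e₂.symm (by
        change T.mor₁ ≫ e₂.inv = e₁.inv ≫ DerivedCategory.Q.map f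
        rw [hf, Iso.inv_hom_id_assoc])
    let S := CochainComplex.mappingCone.triangleRotateShortComplex f
    have := hΦ.add
    have w : Φ.map S.f ≫ Φ.map S.g = 0 := by rw [← Φ.map_comp, S.zero, Φ.map_zero]
    have hS := hΦ.split S
      (fun n => ⟨CochainComplex.mappingCone.triangleRotateShortComplexSplitting f n⟩) w
    let T' := DerivedCategory.triangleOfSES hS
    have k₂ : IsIso (e.app S.X₁) := he _ hK'.kproj
    have k₃ : IsIso (e.app S.X₂) := he _ (hK.cone f hK').kproj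
    have : S.X₃.IsKProjective := inferInstanceAs (CochainComplex.IsKProjective (K⟦(1 : ℤ)⟧))
    have k₁ : IsIso (e.app S.X₃) := he _ this
    let a : T'.obj₁ ≅ F.obj T.obj₂ := (@asIso _ _ _ _ _ k₂).symm ≪≫ F.mapIso (Triangle.π₂.mapIso iT).symm
    let b : T'.obj₂ ≅ F.obj T.obj₃ := (@asIso _ _ _ _ _ k₃).symm ≪≫ F.mapIso (Triangle.π₃.mapIso iT).symm
    let c : T'.obj₃ ≅ F.obj (T.obj₁⟦(1 : ℤ)⟧) := (@asIso _ _ _ _ _ k₁).symm ≪≫
      F.mapIso ((DerivedCategory.Q.commShiftIso (1 : ℤ)).app K) ≪≫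
      F.mapIso ((shiftFunctor _ (1 : ℤ)).mapIso (Triangle.π₁.mapIso iT).symm)
    refine ⟨_, c.inv ≫ T'.mor₃, (shiftFunctor _ (1 : ℤ)).mapIso a, ?_⟩
    refine isomorphic_distinguished _ (DerivedCategory.triangleOfSES_distinguished hS) _
      (Triangle.isoMk _ T' a.symm b.symm c.symm ?_ ?_ ?_)
    · have h1 : T.mor₂ ≫ iT.hom.hom₃ = iT.hom.hom₂ ≫ DerivedCategory.Q.map S.f := iT.hom.comm₂
      exact (F.map_comp_assoc _ _ _).symm.trans
        ((congrArg (fun t => F.map t ≫ e.app S.X₂) h1).trans (auxNat F Φ e iT.hom.hom₂ S.f))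
    · have h1 : T.mor₃ ≫ (shiftFunctor (Dual.D R) (1 : ℤ)).map iT.hom.hom₁ =
          iT.hom.hom₃ ≫ DerivedCategory.Q.map S.g ≫
            (DerivedCategory.Q.commShiftIso (1 : ℤ)).hom.app K := iT.hom.comm₃
      let u₁ : T.obj₁⟦(1 : ℤ)⟧ ⟶ DerivedCategory.Q.obj (K⟦(1 : ℤ)⟧) :=
        (shiftFunctor (Dual.D R) (1 : ℤ)).map iT.hom.hom₁ ≫
          (DerivedCategory.Q.commShiftIso (1 : ℤ)).inv.app K
      have h2 : T.mor₃ ≫ u₁ = iT.hom.hom₃ ≫ DerivedCategory.Q.map S.g :=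
        (assoc _ _ _).symm.trans ((congrArg (fun t => t ≫
          (DerivedCategory.Q.commShiftIso (1 : ℤ)).inv.app K) h1).trans
          (by
            refine (assoc _ _ _).trans (congrArg (fun t => iT.hom.hom₃ ≫ t) ?_)
            exact (assoc _ _ _).trans ((congrArg (fun t => DerivedCategory.Q.map S.g ≫ t)
              ((DerivedCategory.Q.commShiftIso (1 : ℤ)).hom_inv_id_app K)).trans (comp_id _))))
      have hc : c.inv = F.map u₁ ≫ e.app S.X₃ :=
        (congrArg (fun t => t ≫ e.app S.X₃) (F.map_comp _ _).symm : _)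
      exact (congrArg (fun t => F.map T.mor₃ ≫ t) hc).trans ((F.map_comp_assoc _ _ _).symm.trans
        ((congrArg (fun t => F.map t ≫ e.app S.X₃) h2).trans (auxNat F Φ e iT.hom.hom₃ S.g)))
    · have ha : (shiftFunctor (Dual.D A) (1 : ℤ)).map a.hom ≫ (shiftFunctor (Dual.D A) (1 : ℤ)).map a.inv
          = 𝟙 _ := ((shiftFunctor (Dual.D A) (1 : ℤ)).mapIso a).hom_inv_id
      change ((c.inv ≫ T'.mor₃) ≫ (shiftFunctor (Dual.D A) (1 : ℤ)).map a.hom) ≫
        (shiftFunctor (Dual.D A) (1 : ℤ)).map a.inv = c.inv ≫ T'.mor₃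
      rw [assoc, ha, comp_id]
  intro T hT
  obtain ⟨Z, δ, i, h⟩ := key T.invRotate (inv_rot_of_distTriang T hT)
  let j := (shiftFunctorCompIsoId (Dual.D R) (-1 : ℤ) 1 (by omega)).app T.obj₃
  refine ⟨F.map j.inv ≫ δ ≫ i.hom, isomorphic_distinguished _ h _
    (Triangle.isoMk _ _ (Iso.refl _) (Iso.refl _) (F.mapIso j.symm) ?_ ?_ ?_)⟩
  · change F.map T.mor₁ ≫ 𝟙 _ = 𝟙 _ ≫ F.map T.invRotate.mor₂
    rw [comp_id, id_comp]
    rfl
  · change F.map T.mor₂ ≫ F.map j.inv = 𝟙 _ ≫ F.map T.invRotate.mor₃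
    rw [id_comp, ← F.map_comp]
    rfl
  · change (F.map j.inv ≫ δ ≫ i.hom) ≫ (shiftFunctor (Dual.D A) (1 : ℤ)).map (𝟙 _) = F.map j.inv ≫ δ ≫ i.hom
    rw [CategoryTheory.Functor.map_id, comp_id]
where
  auxNat (F : Dual.D R ⥤ Dual.D A) (Φ : DRing.Cx R ⥤ DRing.Cx A)
      (e : DerivedCategory.Q ⋙ F ⟶ Φ ⋙ DerivedCategory.Q) {X : Dual.D R} {K L : DRing.Cx R}
      (a : X ⟶ DerivedCategory.Q.obj K) (g : K ⟶ L) :
      F.map (a ≫ DerivedCategory.Q.map g) ≫ e.app L =
        (F.map a ≫ e.app K) ≫ DerivedCategory.Q.map (Φ.map g) := by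
    rw [F.map_comp, assoc, assoc]
    exact congrArg (F.map a ≫ ·) (e.naturality g)

end general

section extend

variable {C D H : Type*} [Category C] [Category D] [Category H] {L : C ⥤ D} {P : ObjectProperty C}
  (hR : H5DTen.LResolving L P) (F G : D ⥤ H) (t : ∀ I : C, F.obj (L.obj I) ⟶ G.obj (L.obj I))
  (ht : ∀ (I I' : C), P I → P I' → ∀ f : I ⟶ I', F.map (L.map f) ≫ t I' = t I ≫ G.map (L.map f))

include hR ht in
lemma exists_natTrans : ∃ τ : F ⟶ G, ∀ I, P I → τ.app (L.obj I) = t I := by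
  refine ⟨{ app := fun Y => F.map (hR.resIso Y).inv ≫ t (hR.res Y) ≫ G.map (hR.resIso Y).hom
            naturality := fun Y Y' h => ?_ }, fun I hI => ?_⟩
  · have h1 := ht _ _ (hR.res_mem Y) (hR.res_mem Y') (hR.mapRes h)
    simp only [H5DTen.LResolving.mapRes, H5DTen.LResolving.map_lift, Functor.map_comp, assoc] at h1
    rw [← cancel_epi (F.map (hR.resIso Y).hom), assoc, assoc,
      ← F.map_comp_assoc (hR.resIso Y).hom (hR.resIso Y).inv, Iso.hom_inv_id, F.map_id, id_comp]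
    rw [reassoc_of% h1, ← G.map_comp (hR.resIso Y').inv, Iso.inv_hom_id, G.map_id, comp_id]
  · have h1 := ht _ _ (hR.res_mem (L.obj I)) hI (hR.lift (hR.res_mem _) (hR.resIso (L.obj I)).hom)
    rw [H5DTen.LResolving.map_lift] at h1
    change F.map _ ≫ t (hR.res (L.obj I)) ≫ G.map _ = _
    rw [← h1, ← F.map_comp_assoc, Iso.inv_hom_id, F.map_id, id_comp]

end extend

section relative

lemma ε_nat {B : Type u} [CommRing B] [DTen.HasLTen B] {K K' L L' : DRing.Cx B} (f : K ⟶ K') (g : L ⟶ L') :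
    tm (DerivedCategory.Q.map f) (DerivedCategory.Q.map g) ≫ (DTen.ε B).app (K', L') =
      (DTen.ε B).app (K, L) ≫ DerivedCategory.Q.map (f ⊗ₘ g) := by
  have h := (DTen.ε B).naturality (Prod.mkHom f g)
  dsimp at h
  rw [← MonoidalCategory.tensorHom_def] at h
  exact h

variable {R A : Type u} [CommRing R] [CommRing A] (φ : R →+* A) [DTen.HasLTen R] [DTen.HasLTen A]

/-- tensoring on the left by a shift of the ring is an equivalence -/
theorem isEquivalence_LTen_obj_RS (n : ℤ) :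
    ((DTen.LTen R).obj (DerivedCategory.Q.obj (H5BrownGroth.RS R n))).IsEquivalence := by
  have := isEquivalence_tensorRightD_RS (A := R) n
  let K := DerivedCategory.Q.obj (H5BrownGroth.RS R n)
  exact Functor.isEquivalence_of_iso (NatIso.ofComponents
    (fun L => @asIso _ _ _ _ ((DTen.symm R).app (K, L)) (H5DTen.isIso_symm_app K L))
    (fun {L L'} f => (DTen.symm R).naturality (Prod.mkHom (𝟙 K) f : (K, L) ⟶ (K, L'))) :
    DTen.tensorRightD R K ≅ (DTen.LTen R).obj K)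

omit [DTen.HasLTen R] [DTen.HasLTen A] in
lemma extCx_RS (n : ℤ) :
    Nonempty ((DTen.extCx φ).obj (H5BrownGroth.RS R n) ≅ H5BrownGroth.RS A n) :=
  ⟨(singleMapHomologicalComplex (ModuleCat.extendScalars.{u, u, u} φ) (ComplexShape.up ℤ) n).app _ ≪≫
    (single (ModuleCat.{u} A) (ComplexShape.up ℤ) n).mapIso (by
      let _ : Algebra R A := φ.toAlgebra
      exact (TensorProduct.AlgebraTensorModule.rid R A A).toModuleIso)⟩

theorem isEquivalence_LTen_obj_extRS (n : ℤ) :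
    ((DTen.LTen A).obj (DerivedCategory.Q.obj ((DTen.extCx φ).obj (H5BrownGroth.RS R n)))).IsEquivalence := by
  have := isEquivalence_LTen_obj_RS (R := A) n
  exact Functor.isEquivalence_of_iso ((DTen.LTen A).mapIso (DerivedCategory.Q.mapIso (extCx_RS φ n).some)).symm

/-- the projection formula, as functors of `Y` -/
theorem exists_pf (k : DRing.Cx R) (hk : H5DTen.NiceP R k) :
    ∃ e : DRing.restrictD φ ⋙ (DTen.LTen R).obj (DerivedCategory.Q.obj k) ≅
        (DTen.LTen A).obj (DerivedCategory.Q.obj ((DTen.extCx φ).obj k)) ⋙ DRing.restrictD φ,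
      ∀ y : DRing.Cx A, e.hom.app (DerivedCategory.Q.obj y) ≫
          (DRing.restrictD φ).map ((DTen.ε A).app ((DTen.extCx φ).obj k, y)) ≫
            (DTen.resFactors φ).hom.app ((DTen.extCx φ).obj k ⊗ y) =
        tm (𝟙 _) ((DTen.resFactors φ).hom.app y) ≫ (DTen.ε R).app (k, (DTen.resCx φ).obj y) ≫
          DerivedCategory.Q.map (pfc φ k y) := by
  have := hk.kproj
  have : CochainComplex.IsKProjective ((DTen.extCx φ).obj k) := isKProjective_extCx φ k
  let ek := (DTen.extCx φ).obj k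
  let a : ∀ y, (DTen.LTen₂ R).obj (DerivedCategory.Q.obj k, (DRing.restrictD φ).obj (DerivedCategory.Q.obj y)) ⟶
      DerivedCategory.Q.obj ((DTen.resCx φ).obj (ek ⊗ y)) := fun y =>
    tm (𝟙 _) ((DTen.resFactors φ).hom.app y) ≫ (DTen.ε R).app (k, (DTen.resCx φ).obj y) ≫
      DerivedCategory.Q.map (pfc φ k y)
  let b : ∀ y, (DRing.restrictD φ).obj ((DTen.LTen₂ A).obj (DerivedCategory.Q.obj ek, DerivedCategory.Q.obj y)) ⟶
      DerivedCategory.Q.obj ((DTen.resCx φ).obj (ek ⊗ y)) := fun y =>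
    (DRing.restrictD φ).map ((DTen.ε A).app (ek, y)) ≫ (DTen.resFactors φ).hom.app (ek ⊗ y)
  have ia : ∀ y, IsIso (a y) := fun y => by
    have := H5DTen.isIso_ε k ((DTen.resCx φ).obj y) (.inl hk.kflat)
    have := isIso_pfc φ k y
    have i1 : IsIso (Prod.mkHom (𝟙 (DerivedCategory.Q.obj k)) ((DTen.resFactors φ).hom.app y)) :=
      (isIso_prod_iff _ _).2 ⟨inferInstance, inferInstance⟩
    exact @IsIso.comp_isIso _ _ _ _ _ _ _ (Functor.map_isIso _ _) inferInstance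
  have ib : ∀ y, IsIso (b y) := fun y => by
    have := H5DTen.isIso_ε ek y (.inl (kflat_of_kproj ek))
    exact IsIso.comp_isIso
  let F₁ := DRing.restrictD φ ⋙ (DTen.LTen R).obj (DerivedCategory.Q.obj k)
  let F₂ := (DTen.LTen A).obj (DerivedCategory.Q.obj ek) ⋙ DRing.restrictD φ
  let e₀ : DerivedCategory.Q ⋙ F₁ ≅ DerivedCategory.Q ⋙ F₂ :=
    NatIso.ofComponents (fun y => @asIso _ _ _ _ _ (ia y) ≪≫ (@asIso _ _ _ _ _ (ib y)).symm)
      (fun {y y'} g => by
        have ha : F₁.map (DerivedCategory.Q.map g) ≫ a y' =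
            a y ≫ DerivedCategory.Q.map ((DTen.resCx φ).map (ek ◁ g)) := by
          have n1 := (DTen.resFactors φ).hom.naturality g
          have n2 := ε_nat (𝟙 k) ((DTen.resCx φ).map g)
          have n3 := pfc_nat φ (𝟙 k) g
          dsimp at n1
          rw [CategoryTheory.Functor.map_id] at n2 n3
          change tm (𝟙 _) ((DRing.restrictD φ).map (DerivedCategory.Q.map g)) ≫ a y' = _
          dsimp only [a]
          rw [tm_comp_assoc, n1, ← tm_comp_assoc, reassoc_of% n2, ← Functor.map_comp, n3,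
            id_tensorHom, Functor.map_comp]
          simp only [assoc]
          rfl
        have hb : F₂.map (DerivedCategory.Q.map g) ≫ b y' =
            b y ≫ DerivedCategory.Q.map ((DTen.resCx φ).map (ek ◁ g)) := by
          have n1 := (DTen.resFactors φ).hom.naturality (ek ◁ g)
          have n2 := ε_nat (𝟙 ek) g
          dsimp at n1
          rw [CategoryTheory.Functor.map_id, id_tensorHom] at n2
          change (DRing.restrictD φ).map (tm (𝟙 _) (DerivedCategory.Q.map g)) ≫ b y' = _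
          dsimp only [b]
          rw [← Functor.map_comp_assoc]
          erw [n2]
          rw [Functor.map_comp, assoc, assoc]
          exact congrArg _ n1
        exact aux_inv_square (ib y) (ib y') ha hb)
  let _ : Localization.Lifting DerivedCategory.Q (DTen.qis A) (DerivedCategory.Q ⋙ F₁) F₁ := ⟨Iso.refl _⟩
  let _ : Localization.Lifting DerivedCategory.Q (DTen.qis A) (DerivedCategory.Q ⋙ F₂) F₂ := ⟨Iso.refl _⟩
  refine ⟨Localization.liftNatIso DerivedCategory.Q (DTen.qis A) (DerivedCategory.Q ⋙ F₁)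
    (DerivedCategory.Q ⋙ F₂) F₁ F₂ e₀, fun y => ?_⟩
  have h : (Localization.liftNatIso DerivedCategory.Q (DTen.qis A) (DerivedCategory.Q ⋙ F₁)
      (DerivedCategory.Q ⋙ F₂) F₁ F₂ e₀).hom.app (DerivedCategory.Q.obj y) = e₀.hom.app y := by
    simp only [Localization.liftNatIso_hom, Localization.liftNatTrans_app]
    change 𝟙 _ ≫ e₀.hom.app y ≫ 𝟙 _ = _
    rw [id_comp, comp_id]
  rw [h]
  change (a y ≫ @inv _ _ _ _ (b y) (ib y)) ≫ b y = a y
  rw [assoc, IsIso.inv_hom_id, comp_id]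

variable [DTen.HasRHomRel φ] [DTen.HasLTenMix φ]

/-- the mixed tensor product with a fixed object -/
noncomputable abbrev mixR (N : Dual.D A) : Dual.D R ⥤ Dual.D A :=
  (Functor.curry.obj (DTen.LTenMix φ)).flip.obj N

/-- its model on complexes -/
noncomputable abbrev mixCx (m : DRing.Cx A) : DRing.Cx R ⥤ DRing.Cx A :=
  DTen.extCx φ ⋙ H5TenCx.T₁ (curriedTensor (ModuleCat.{u} A)) m

/-- the counit, for a fixed complex -/
noncomputable def mixNat (m : DRing.Cx A) :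
    DerivedCategory.Q ⋙ mixR φ (DerivedCategory.Q.obj m) ⟶ mixCx φ m ⋙ DerivedCategory.Q where
  app k := (DTen.εMix φ).app (k, m)
  naturality k k' f := by
    have h := (DTen.εMix φ).naturality (Prod.mkHom f (𝟙 m) : (k, m) ⟶ (k', m))
    dsimp at h
    rw [CategoryTheory.Functor.map_id, MonoidalCategory.whiskerLeft_id, comp_id] at h
    exact h

omit [DTen.HasLTen R] [DTen.HasLTen A] [DTen.HasRHomRel φ] [DTen.HasLTenMix φ] in
lemma good_mixCx (m : DRing.Cx A) : H5TenCx.Good (mixCx φ m) where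
  hom f g := fun ⟨h⟩ =>
    ⟨mapBifunctorMapHomotopy₁ ((ModuleCat.extendScalars.{u, u, u} φ).mapHomotopy h) (𝟙 m)
      (curriedTensor (ModuleCat.{u} A)) _⟩
  add := inferInstance
  split S σ h := (H5TenCx.good₁ (curriedTensor (ModuleCat.{u} A)) m).split (S.map (DTen.extCx φ))
    (fun n => ⟨(σ n).some.map (ModuleCat.extendScalars.{u, u, u} φ)⟩) h

omit [DTen.HasLTen R] [DTen.HasLTen A] [DTen.HasRHomRel φ] [DTen.HasLTenMix φ] in
lemma preserves_mixCx (m : DRing.Cx A) (T : Type u) :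
    PreservesColimitsOfShape (Discrete T) (mixCx φ m) := by
  have := H5TenCx.preservesColimitsOfShape₂ (curriedTensor (ModuleCat.{u} A)) (J := Discrete T) m
  have h1 : PreservesColimitsOfShape (Discrete T) (H5TenCx.T₁ (curriedTensor (ModuleCat.{u} A)) m) :=
    preservesColimitsOfShape_of_natIso (NatIso.ofComponents (fun K => DTen.braidCx m K)
      (fun {K K'} f => by
        have h := DTen.braidCx_naturality (𝟙 m) f
        rw [id_tensorHom, tensorHom_id] at h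
        exact h) : H5TenCx.T₂ (curriedTensor (ModuleCat.{u} A)) m ≅
          H5TenCx.T₁ (curriedTensor (ModuleCat.{u} A)) m)
  have : PreservesColimitsOfShape (Discrete T) (DTen.extCx φ) :=
    (adjCx φ).leftAdjoint_preservesColimits.preservesColimitsOfShape
  exact comp_preservesColimitsOfShape _ _

variable (m : DRing.Cx A) (hm : H5DTen.NiceP A m)

include hm in
lemma isIso_mixNat (k : DRing.Cx R) [k.IsKProjective] : IsIso ((mixNat φ m).app k) :=
  isIso_εMix φ k m (kflat_of_kproj k) hm.kflat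

include hm in
lemma additive_mixR : (mixR φ (DerivedCategory.Q.obj m)).Additive := ⟨fun {Y Y' f g} => by
  obtain ⟨k, hk, ⟨e⟩⟩ := H5DTen.lResolving_Q.ess Y
  obtain ⟨k', hk', ⟨e'⟩⟩ := H5DTen.lResolving_Q.ess Y'
  have := hk.kproj
  have := hk'.kproj
  obtain ⟨a, ha⟩ := H5DTen.surj_of_kproj (e.hom ≫ f ≫ e'.inv)
  obtain ⟨b, hb⟩ := H5DTen.surj_of_kproj (e.hom ≫ g ≫ e'.inv)
  let G := mixR φ (DerivedCategory.Q.obj m)
  have := isIso_mixNat φ m hm k'
  have := (good_mixCx φ m).add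
  rw [← cancel_epi (G.map e.hom), ← cancel_mono (G.map e'.inv), ← cancel_mono ((mixNat φ m).app k'),
    Preadditive.comp_add, Preadditive.add_comp, Preadditive.add_comp, ← G.map_comp, ← G.map_comp,
    ← G.map_comp, ← G.map_comp, ← G.map_comp, ← G.map_comp]
  simp only [assoc, Preadditive.comp_add, Preadditive.add_comp]
  rw [← ha, ← hb, ← Functor.map_add]
  have hn := fun (a : k ⟶ k') => (mixNat φ m).naturality a
  simp only [Functor.comp_map] at hn
  rw [hn, hn, hn, Functor.map_add, Functor.map_add]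
  erw [Functor.map_add, Preadditive.comp_add]⟩

include hm in
lemma triExact_mixR : TriExact (mixR φ (DerivedCategory.Q.obj m)) :=
  triExact_of_nice _ _ (good_mixCx φ m) (mixNat φ m) (fun k _ => isIso_mixNat φ m hm k)

include hm in
lemma preserves_mixR (T : Type u) :
    PreservesColimitsOfShape (Discrete T) (mixR φ (DerivedCategory.Q.obj m)) := by
  refine ⟨fun {K} => ?_⟩
  let G := mixR φ (DerivedCategory.Q.obj m)
  choose k hk e using fun t : T => H5DTen.lResolving_Q.ess (K.obj ⟨t⟩)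
  let d : Discrete.functor (fun t => DerivedCategory.Q.obj (k t)) ≅ K :=
    Discrete.natIso fun ⟨t⟩ => (e t).some
  suffices PreservesColimit (Discrete.functor (fun t => DerivedCategory.Q.obj (k t))) G from
    preservesColimit_of_iso_diagram G d
  obtain ⟨hc⟩ := sigma_Q k
  refine preservesColimit_of_preserves_colimit_cocone hc ((isColimitMapCoconeCofanMkEquiv G _ _).symm ?_)
  have := fun t => (hk t).kproj
  have := H5KFlat.isKProjective_sigma k (fun t => (hk t).kproj)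
  let Φ := mixCx φ m
  have := preserves_mixCx φ m T
  let s : (∐ fun t => Φ.obj (k t)) ≅ Φ.obj (∐ k) := PreservesCoproduct.iso Φ k |>.symm
  let hΦ := (sigma_Q (fun t => Φ.obj (k t))).some
  have i1 := fun t => isIso_mixNat φ m hm (k t)
  have i2 := isIso_mixNat φ m hm (∐ k)
  refine IsColimit.ofIsoColimit ((IsColimit.precomposeHomEquiv
    (Discrete.natIso fun ⟨t⟩ => @asIso _ _ _ _ ((mixNat φ m).app (k t)) (i1 t) :
      Discrete.functor (fun t => G.obj (DerivedCategory.Q.obj (k t))) ≅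
        Discrete.functor (fun t => DerivedCategory.Q.obj (Φ.obj (k t))))
    (Cofan.mk _ fun t => DerivedCategory.Q.map (Sigma.ι (fun t => Φ.obj (k t)) t))).symm hΦ)
    (Cofan.ext (DerivedCategory.Q.mapIso s ≪≫ (@asIso _ _ _ _ ((mixNat φ m).app (∐ k)) i2).symm) (fun t => ?_))
  change ((mixNat φ m).app (k t) ≫ DerivedCategory.Q.map (Sigma.ι (fun t => Φ.obj (k t)) t)) ≫
      DerivedCategory.Q.map s.hom ≫ @inv _ _ _ _ ((mixNat φ m).app (∐ k)) i2 = G.map (DerivedCategory.Q.map (Sigma.ι k t))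
  rw [← assoc, IsIso.comp_inv_eq, assoc, ← Functor.map_comp]
  have h : Sigma.ι (fun t => Φ.obj (k t)) t ≫ s.hom = Φ.map (Sigma.ι k t) := by
    simp [s, PreservesCoproduct.inv_hom]
  rw [h]
  exact ((mixNat φ m).naturality (Sigma.ι k t)).symm

variable (ev' : (DRing.restrictD φ).obj (DerivedCategory.Q.obj m) ⟶ DTen.unit R)

include hm in
theorem exists_tau :
    ∃ τ : mixR φ (DerivedCategory.Q.obj m) ⋙ DRing.restrictD φ ⟶ 𝟭 (Dual.D R),
      ∀ (k : DRing.Cx R) (hk : H5DTen.NiceP R k), ∀ e : DRing.restrictD φ ⋙ (DTen.LTen R).obj (DerivedCategory.Q.obj k) ≅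
          (DTen.LTen A).obj (DerivedCategory.Q.obj ((DTen.extCx φ).obj k)) ⋙ DRing.restrictD φ,
        (∀ y : DRing.Cx A, e.hom.app (DerivedCategory.Q.obj y) ≫
            (DRing.restrictD φ).map ((DTen.ε A).app ((DTen.extCx φ).obj k, y)) ≫
              (DTen.resFactors φ).hom.app ((DTen.extCx φ).obj k ⊗ y) =
          tm (𝟙 _) ((DTen.resFactors φ).hom.app y) ≫ (DTen.ε R).app (k, (DTen.resCx φ).obj y) ≫
            DerivedCategory.Q.map (pfc φ k y)) →
        (DRing.restrictD φ).map ((DTen.ε A).app ((DTen.extCx φ).obj k, m) ≫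
            @inv _ _ _ _ ((DTen.εMix φ).app (k, m)) (isIso_εMix φ k m hk.kflat hm.kflat)) ≫
          τ.app (DerivedCategory.Q.obj k) =
        e.inv.app (DerivedCategory.Q.obj m) ≫ tm (𝟙 _) ev' ≫ (DTen.unitR R).app (DerivedCategory.Q.obj k) := by
  let G := mixR φ (DerivedCategory.Q.obj m)
  classical
  let t : ∀ k : DRing.Cx R, (G ⋙ DRing.restrictD φ).obj (DerivedCategory.Q.obj k) ⟶
      (𝟭 (Dual.D R)).obj (DerivedCategory.Q.obj k) := fun k =>
    if h : IsIso ((DTen.ε R).app (k, (DTen.resCx φ).obj m)) then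
      (DRing.restrictD φ).map ((DTen.εMix φ).app (k, m)) ≫ (DTen.resFactors φ).hom.app _ ≫
        @inv _ _ _ _ (DerivedCategory.Q.map (pfc φ k m)) (by have := isIso_pfc φ k m; infer_instance) ≫
        @inv _ _ _ _ _ h ≫ tm (𝟙 _) ((DTen.resFactors φ).inv.app m ≫ ev') ≫
        (DTen.unitR R).app (DerivedCategory.Q.obj k)
    else 0
  obtain ⟨τ, hτ⟩ := exists_natTrans H5DTen.lResolving_Q (G ⋙ DRing.restrictD φ) (𝟭 _) t
    (fun k k' hk hk' f => by
      have i := H5DTen.isIso_ε k ((DTen.resCx φ).obj m) (.inl hk.kflat)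
      have i' := H5DTen.isIso_ε k' ((DTen.resCx φ).obj m) (.inl hk'.kflat)
      have := isIso_pfc φ k m
      have := isIso_pfc φ k' m
      simp only [t, dif_pos i, dif_pos i']
      have n1 := (mixNat φ m).naturality f
      dsimp [mixNat] at n1
      have n2 := (DTen.resFactors φ).hom.naturality ((mixCx φ m).map f)
      dsimp at n2
      have n3 : DerivedCategory.Q.map ((DTen.resCx φ).map ((DTen.extCx φ).map f ▷ m)) ≫
          @inv _ _ _ _ (DerivedCategory.Q.map (pfc φ k' m)) (@Functor.map_isIso _ _ _ _ _ _ _ (pfc φ k' m) (isIso_pfc φ k' m)) =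
          @inv _ _ _ _ (DerivedCategory.Q.map (pfc φ k m)) (@Functor.map_isIso _ _ _ _ _ _ _ (pfc φ k m) (isIso_pfc φ k m)) ≫ DerivedCategory.Q.map (f ▷ (DTen.resCx φ).obj m) := by
        rw [IsIso.comp_inv_eq, assoc, IsIso.eq_inv_comp, ← Functor.map_comp, ← Functor.map_comp]
        refine congrArg (fun t => DerivedCategory.Q.map t) ?_
        have h := pfc_nat φ f (𝟙 m)
        rw [CategoryTheory.Functor.map_id, tensorHom_id, tensorHom_id] at h
        exact h.symm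
      have n4 : DerivedCategory.Q.map (f ▷ (DTen.resCx φ).obj m) ≫ inv ((DTen.ε R).app (k', (DTen.resCx φ).obj m)) =
          inv ((DTen.ε R).app (k, (DTen.resCx φ).obj m)) ≫
            tm (DerivedCategory.Q.map f) (𝟙 _) := by
        rw [IsIso.comp_inv_eq, assoc, IsIso.eq_inv_comp]
        have h := ε_nat f (𝟙 ((DTen.resCx φ).obj m))
        rw [CategoryTheory.Functor.map_id, tensorHom_id] at h
        exact h.symm
      have n5 : tm (DerivedCategory.Q.map f) (𝟙 (DTen.unit R)) ≫ (DTen.unitR R).app _ =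
          (DTen.unitR R).app _ ≫ DerivedCategory.Q.map f := (DTen.unitR R).naturality (DerivedCategory.Q.map f)
      exact aux_six ((Functor.map_comp _ _ _).symm.trans
          ((congrArg (fun t => (DRing.restrictD φ).map t) n1).trans (Functor.map_comp _ _ _)))
        n2 n3 n4 (by rw [tm_comp, tm_comp, id_comp, comp_id, id_comp, comp_id]) n5)
  refine ⟨τ, fun k hk e he => ?_⟩
  have i := H5DTen.isIso_ε k ((DTen.resCx φ).obj m) (.inl hk.kflat)
  have := isIso_pfc φ k m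
  rw [hτ k hk]
  simp only [t, dif_pos i]
  exact aux_tau (e := e.app _) (t₁ := tm (𝟙 _) ((DTen.resFactors φ).hom.app m)) _ i
    ((Functor.map_comp _ _ _).symm.trans (congrArg (fun t => (DRing.restrictD φ).map t)
      ((assoc _ _ _).trans ((congrArg _ (@IsIso.inv_hom_id _ _ _ _ _ (isIso_εMix φ k m hk.kflat hm.kflat))).trans (comp_id _))))) (he m)
    (by rw [tm_comp, id_comp, Iso.hom_inv_id_app_assoc])

omit [DTen.HasLTen R] [DTen.HasLTen A] in
lemma nice_RS (i : ℤ) : H5DTen.NiceP R (H5BrownGroth.RS R i) where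
  kproj := inferInstance
  kflat := kflat_of_kproj _
  proj n := by
    by_cases h : n = i
    · subst h
      have : Projective (ModuleCat.of R R) := ModuleCat.projective_of_categoryTheory_projective _
      exact Projective.of_iso (HomologicalComplex.singleObjXSelf (ComplexShape.up ℤ) n _).symm this
    · exact (HomologicalComplex.isZero_single_obj_X _ _ _ _ h).projective

omit [DTen.HasLTen R] [DTen.HasLTen A] [DTen.HasRHomRel φ] [DTen.HasLTenMix φ] in
lemma cpt_res_RS (hA : DRing.IsPerfect R ((DRing.restrictD φ).obj (DTen.unit A))) (j : ℤ) :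
    Cpt ((DRing.restrictD φ).obj (DerivedCategory.Q.obj (H5BrownGroth.RS A j))) := by
  obtain ⟨E, a, b, hE, hp, ⟨e⟩⟩ := hA
  let i : (DTen.unit A)⟦-j⟧ ≅ DerivedCategory.Q.obj (H5BrownGroth.RS A j) :=
    ((DerivedCategory.singleFunctors (ModuleCat.{u} A)).shiftIso (-j) j 0 (by omega)).app
      (ModuleCat.of A A) ≪≫ (DerivedCategory.singleFunctorIsoCompQ (ModuleCat.{u} A) j).app _
  exact (((cpt_Q E a b hE hp).of_iso e).shift (-j)).of_iso
    ((((DRing.restrictD φ).commShiftIso (-j)).app _).symm ≪≫ (DRing.restrictD φ).mapIso i)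

omit [DTen.HasLTen R] [DTen.HasLTen A] [DTen.HasRHomRel φ] [DTen.HasLTenMix φ] in
lemma bij_conj {C : Type*} [Category C] {X X' Y Y' : C} (a : X' ≅ X) (b : Y ≅ Y') :
    Function.Bijective (fun f : X ⟶ Y => a.hom ≫ f ≫ b.hom) :=
  ⟨fun f g h => by simpa using h, fun g => ⟨a.inv ≫ g ≫ b.inv, by simp⟩⟩

variable {φ m ev'}

include hm in
lemma bij_base (hev : ∀ X, Function.Bijective
      (fun g : X ⟶ DerivedCategory.Q.obj m => (DRing.restrictD φ).map g ≫ ev'))
    (τ : mixR φ (DerivedCategory.Q.obj m) ⋙ DRing.restrictD φ ⟶ 𝟭 (Dual.D R))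
    (i : ℤ) (e : DRing.restrictD φ ⋙ (DTen.LTen R).obj (DerivedCategory.Q.obj (H5BrownGroth.RS R i)) ≅
        (DTen.LTen A).obj (DerivedCategory.Q.obj ((DTen.extCx φ).obj (H5BrownGroth.RS R i))) ⋙ DRing.restrictD φ)
    (hτ : (DRing.restrictD φ).map ((DTen.ε A).app ((DTen.extCx φ).obj (H5BrownGroth.RS R i), m) ≫
            @inv _ _ _ _ ((DTen.εMix φ).app (H5BrownGroth.RS R i, m))
              (isIso_εMix φ _ m (nice_RS i).kflat hm.kflat)) ≫
          τ.app (DerivedCategory.Q.obj (H5BrownGroth.RS R i)) =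
        e.inv.app (DerivedCategory.Q.obj m) ≫ tm (𝟙 _) ev' ≫
          (DTen.unitR R).app (DerivedCategory.Q.obj (H5BrownGroth.RS R i)))
    (Z : Dual.D A) : Function.Bijective
      (fun f : Z ⟶ (mixR φ (DerivedCategory.Q.obj m)).obj (DerivedCategory.Q.obj (H5BrownGroth.RS R i)) =>
        (DRing.restrictD φ).map f ≫ τ.app _) := by
  let k := H5BrownGroth.RS R i
  let Lk := (DTen.LTen R).obj (DerivedCategory.Q.obj k)
  let Le := (DTen.LTen A).obj (DerivedCategory.Q.obj ((DTen.extCx φ).obj k))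
  have : Lk.IsEquivalence := isEquivalence_LTen_obj_RS i
  have : Le.IsEquivalence := isEquivalence_LTen_obj_extRS φ i
  have : CochainComplex.IsKProjective k := (nice_RS i).kproj
  have : CochainComplex.IsKProjective ((DTen.extCx φ).obj k) := isKProjective_extCx φ k
  have i1 : IsIso ((DTen.ε A).app ((DTen.extCx φ).obj k, m)) :=
    H5DTen.isIso_ε _ _ (.inl (kflat_of_kproj _))
  let p := Le.objObjPreimageIso Z
  let P := Le.objPreimage Z
  let θ : Le.obj (DerivedCategory.Q.obj m) ≅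
      (mixR φ (DerivedCategory.Q.obj m)).obj (DerivedCategory.Q.obj k) :=
    @asIso _ _ _ _ _ i1 ≪≫ (@asIso _ _ _ _ ((DTen.εMix φ).app (k, m))
      (isIso_εMix φ _ m (nice_RS i).kflat hm.kflat)).symm
  let u := (DTen.unitR R).app (DerivedCategory.Q.obj k)
  have : IsIso (DTen.unitR R) := H5DTen.isIso_unitR
  let F := fun f : Z ⟶ (mixR φ (DerivedCategory.Q.obj m)).obj (DerivedCategory.Q.obj k) =>
    (DRing.restrictD φ).map f ≫ τ.app (DerivedCategory.Q.obj k)
  let α := fun g : P ⟶ DerivedCategory.Q.obj m => p.inv ≫ Le.map g ≫ θ.hom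
  have hα : Function.Bijective α :=
    (bij_conj p.symm θ).comp ⟨Le.map_injective, Le.map_surjective⟩
  have key : F ∘ α = (fun z => ((DRing.restrictD φ).mapIso p.symm ≪≫ (e.app P).symm).hom ≫ z ≫ (asIso u).hom) ∘
      (fun g => Lk.map g) ∘ (fun g => (DRing.restrictD φ).map g ≫ ev') := funext fun g => by
    change (DRing.restrictD φ).map (p.inv ≫ Le.map g ≫ θ.hom) ≫ τ.app (DerivedCategory.Q.obj k) =
      ((DRing.restrictD φ).map p.inv ≫ e.inv.app P) ≫ Lk.map ((DRing.restrictD φ).map g ≫ ev') ≫ u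
    rw [Functor.map_comp, Functor.map_comp, assoc, assoc]
    erw [hτ]
    rw [Lk.map_comp, assoc, assoc]
    refine congrArg (fun t => (DRing.restrictD φ).map p.inv ≫ t) ?_
    rw [← assoc, ← assoc (e.inv.app P)]
    exact congrArg (fun t => t ≫ tm (𝟙 _) ev' ≫ u) (e.inv.naturality g)
  refine (Function.Bijective.of_comp_iff F hα).1 ?_
  rw [key]
  exact (bij_conj _ _).comp (Function.Bijective.comp ⟨Lk.map_injective, Lk.map_surjective⟩ (hev P))

include hm in
lemma bij_tau (hA : DRing.IsPerfect R ((DRing.restrictD φ).obj (DTen.unit A)))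
    (hev : ∀ X, Function.Bijective
      (fun g : X ⟶ DerivedCategory.Q.obj m => (DRing.restrictD φ).map g ≫ ev')) :
    ∃ τ : mixR φ (DerivedCategory.Q.obj m) ⋙ DRing.restrictD φ ⟶ 𝟭 (Dual.D R),
      ∀ (j : ℤ) (Y : Dual.D R), Function.Bijective
        (fun f : DerivedCategory.Q.obj (H5BrownGroth.RS A j) ⟶ (mixR φ (DerivedCategory.Q.obj m)).obj Y =>
          (DRing.restrictD φ).map f ≫ τ.app Y) := by
  obtain ⟨τ, hτ⟩ := exists_tau φ m hm ev'
  refine ⟨τ, fun j Y => ?_⟩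
  have := additive_mixR φ m hm
  have := fun T => preserves_mixR φ m hm T
  let η : NatHom (mixR φ (DerivedCategory.Q.obj m)) (𝟭 (Dual.D R))
      (DerivedCategory.Q.obj (H5BrownGroth.RS A j))
      ((DRing.restrictD φ).obj (DerivedCategory.Q.obj (H5BrownGroth.RS A j))) :=
    { app := fun Y f => (DRing.restrictD φ).map f ≫ τ.app Y
      add := fun Y f g => by rw [Functor.map_add]; exact Preadditive.add_comp _ _ _ _ _ _
      nat := fun {Y Y'} f x => by
        change (DRing.restrictD φ).map (x ≫ _) ≫ _ = _ ≫ f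
        rw [Functor.map_comp, assoc, assoc]
        exact congrArg _ (τ.naturality f) }
  have h2 : TriExact (𝟭 (Dual.D R)) := fun T hT => ⟨T.mor₃, hT⟩
  exact η.bij_of_iso ((shiftFunctorZero (Dual.D R) ℤ).app Y)
    (devissage (fun Y => η.Bij Y) (fun e h => NatHom.Bij.of_iso _ e h)
      (fun i n => by
        obtain ⟨r⟩ := H5DTenClosed.RS_shift_iso (A := R) i n
        obtain ⟨e, he⟩ := exists_pf φ _ (nice_RS (R := R) (i - n))
        exact η.bij_of_iso r.symm (bij_base hm hev τ (i - n) e (hτ _ (nice_RS (i - n)) e he) _))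
      (fun T X c hc h => NatHom.Bij.coprod _ (cpt_RS j) (cpt_res_RS φ hA j) X c hc h)
      (fun T hT => NatHom.Bij.obj₃ _ (triExact_mixR φ m hm) h2 T hT) Y 0)

omit [DTen.HasLTen R] [DTen.HasLTen A] in
theorem rhomRel_iso (hA : DRing.IsPerfect R ((DRing.restrictD φ).obj (DTen.unit A))) :
    Nonempty (DTen.RHomRel φ ≅
      (Functor.curry.obj (DTen.LTenMix φ)).flip.obj ((DTen.RHomRel φ).obj (DTen.unit R))) := by
  have := H5DTen.hasLTen (A := R)
  have := H5DTen.hasLTen (A := A)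
  let M := (DTen.RHomRel φ).obj (DTen.unit R)
  obtain ⟨m, hm, ⟨i⟩⟩ := H5DTen.lResolving_Q.ess M
  let ev' := (DRing.restrictD φ).map i.hom ≫ DTen.relEv φ (DTen.unit R)
  have hev : ∀ X, Function.Bijective
      (fun g : X ⟶ DerivedCategory.Q.obj m => (DRing.restrictD φ).map g ≫ ev') := fun X => by
    have h : (fun g : X ⟶ DerivedCategory.Q.obj m => (DRing.restrictD φ).map g ≫ ev') =
        ((DTen.relAdj φ).homEquiv X (DTen.unit R)).symm ∘ (fun g => g ≫ i.hom) := funext fun g => by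
      change _ = ((DTen.relAdj φ).homEquiv X (DTen.unit R)).symm (g ≫ i.hom)
      rw [Adjunction.homEquiv_counit, Functor.map_comp, assoc]
    rw [h]
    exact (Equiv.bijective _).comp ⟨fun a b h => (cancel_mono i.hom).1 h, fun b => ⟨b ≫ i.inv, by simp⟩⟩
  obtain ⟨τ, hτ⟩ := bij_tau hm hA hev
  let G := mixR φ (DerivedCategory.Q.obj m)
  let σ : G ⟶ DTen.RHomRel φ :=
    { app := fun Y => (DTen.relAdj φ).homEquiv _ _ (τ.app Y)
      naturality := fun Y Y' f => by
        rw [← Adjunction.homEquiv_naturality_left, ← Adjunction.homEquiv_naturality_right]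
        exact congrArg _ (τ.naturality f) }
  have : ∀ Y, IsIso (σ.app Y) := fun Y => by
    refine isIso_of_gens _ fun j => ?_
    have h : (fun f : DerivedCategory.Q.obj (H5BrownGroth.RS A j) ⟶ G.obj Y => f ≫ σ.app Y) =
        (DTen.relAdj φ).homEquiv _ _ ∘ (fun f => (DRing.restrictD φ).map f ≫ τ.app Y) :=
      funext fun f => ((DTen.relAdj φ).homEquiv_naturality_left f (τ.app Y)).symm
    rw [h]
    exact (Equiv.bijective _).comp (hτ j Y)
  have := NatIso.isIso_of_isIso_app σ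
  exact ⟨(asIso σ).symm ≪≫ (Functor.curry.obj (DTen.LTenMix φ)).flip.mapIso i⟩

end relative

end Groth.Agent.H5DTenRel
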