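import Groth.Agent.Lib.H5DTenMix
import Groth.Agent.Lib.H5DTenClosed

universe u

namespace Groth.Agent.H5DTenRes
open CategoryTheory Limits Category MonoidalCategory HomologicalComplex
open Groth.Agent Groth.Agent.H5DTenMix
open Groth.Agent.H5DTenClosed (tm tm_comp tm_comp_assoc tm_id isIso_of_comp_bijective)

attribute [local instance] HasDerivedCategory.standard

variable {R R' : Type u} [CommRing R] [CommRing R'] (φ : R →+* R')

lemma unit_resTen₀ (M N : ModuleCat.{u} R) :
    ((ModuleCat.extendRestrictScalarsAdj.{u, u, u} φ).unit.app M ⊗ₘ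
        (ModuleCat.extendRestrictScalarsAdj.{u, u, u} φ).unit.app N) ≫ DTen.resTen₀app φ _ _ =
      (ModuleCat.extendRestrictScalarsAdj.{u, u, u} φ).unit.app (M ⊗ N) ≫
        (DTen.resM φ).map (Functor.OplaxMonoidal.δ (DTen.extM φ) M N) := by
  refine ModuleCat.hom_ext (TensorProduct.ext' fun m n => ?_)
  exact (ModuleCat.extendScalars_δ_tmul φ M N m n).symm

lemma unitCx_resTenCx (x k : DRing.Cx R) :
    ((DTen.unitCx φ).app x ⊗ₘ (DTen.unitCx φ).app k) ≫
        DTen.resTenCx φ ((DTen.extCx φ).obj x) ((DTen.extCx φ).obj k) =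
      (DTen.unitCx φ).app (x ⊗ k) ≫ (DTen.resCx φ).map (DTen.extTenCxIso φ x k).hom := by
  refine HomologicalComplex.hom_ext _ _ (fun n => mapBifunctor.hom_ext (fun p q h => ?_))
  rw [HomologicalComplex.comp_f, HomologicalComplex.comp_f]
  have hu : ιTensorObj x k p q n h ≫ ((DTen.unitCx φ).app (x ⊗ k)).f n =
      (ModuleCat.extendRestrictScalarsAdj.{u, u, u} φ).unit.app (x.X p ⊗ k.X q) ≫
        (DTen.resM φ).map ((DTen.extM φ).map (ιTensorObj x k p q n h)) :=
    (ModuleCat.extendRestrictScalarsAdj.{u, u, u} φ).unit.naturality (ιTensorObj x k p q n h)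
  erw [reassoc_of% hu]
  erw [ι_mapBifunctorMap_assoc]
  erw [DTen.ι_resTenCx φ ((DTen.extCx φ).obj x) ((DTen.extCx φ).obj k) p q n h]
  refine Eq.trans ?_ (assoc _ _ _).symm
  erw [← (DTen.resM φ).map_comp, DTen.map_ι_extTenCxIso_hom φ x k p q n h, (DTen.resM φ).map_comp]
  have h1 := unit_resTen₀ φ (x.X p) (k.X q)
  rw [MonoidalCategory.tensorHom_def, assoc] at h1
  exact (reassoc_of% h1) _

variable [DTen.HasLTen R] [DTen.HasLTen R'] [DTen.HasLBase φ] [DTen.HasResTen φ] [DTen.ResLegIso φ]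

/-- `X ⊗ K ⟶ res (LX ⊗ LK)` -/
noncomputable def Om (X K : Dual.D R) :
    (DTen.LTen₂ R).obj (X, K) ⟶
      (DRing.restrictD φ).obj ((DTen.LTen₂ R').obj ((DTen.LBase φ).obj X, (DTen.LBase φ).obj K)) :=
  tm ((DTen.baseAdj φ).unit.app X) ((DTen.baseAdj φ).unit.app K) ≫
    (DTen.resPF φ).app ((DTen.LBase φ).obj X, (DTen.LBase φ).obj K)

lemma resPF_nat {a b c d : Dual.D R'} (f : a ⟶ b) (g : c ⟶ d) :
    tm ((DRing.restrictD φ).map f) ((DRing.restrictD φ).map g) ≫ (DTen.resPF φ).app (b, d) =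
      (DTen.resPF φ).app (a, c) ≫ (DRing.restrictD φ).map (tm f g) :=
  (DTen.resPF φ).naturality (Prod.mkHom f g)

lemma Om_nat {X X' K K' : Dual.D R} (f : X ⟶ X') (g : K ⟶ K') :
    tm f g ≫ Om φ X' K' =
      Om φ X K ≫ (DRing.restrictD φ).map (tm ((DTen.LBase φ).map f) ((DTen.LBase φ).map g)) := by
  have h1 : f ≫ (DTen.baseAdj φ).unit.app X' =
      (DTen.baseAdj φ).unit.app X ≫ (DRing.restrictD φ).map ((DTen.LBase φ).map f) :=
    (DTen.baseAdj φ).unit.naturality f
  have h2 : g ≫ (DTen.baseAdj φ).unit.app K' =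
      (DTen.baseAdj φ).unit.app K ≫ (DRing.restrictD φ).map ((DTen.LBase φ).map g) :=
    (DTen.baseAdj φ).unit.naturality g
  dsimp only [Om]
  rw [tm_comp_assoc, h1, h2, ← tm_comp_assoc, resPF_nat, assoc]

/-- `L (X ⊗ K) ⟶ LX ⊗ LK` -/
noncomputable def th (X K : Dual.D R) :=
  ((DTen.baseAdj φ).homEquiv _ _).symm (Om φ X K)

lemma th_nat {X X' K K' : Dual.D R} (f : X ⟶ X') (g : K ⟶ K') :
    (DTen.LBase φ).map (tm f g) ≫ th φ X' K' =
      th φ X K ≫ tm ((DTen.LBase φ).map f) ((DTen.LBase φ).map g) := by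
  dsimp only [th]
  rw [← Adjunction.homEquiv_naturality_left_symm, Om_nat, Adjunction.homEquiv_naturality_right_symm]

lemma isIso_th_cx (x k : DRing.Cx R) (hx : H5DTen.NiceP R x) (hk : H5DTen.NiceP R k) :
    IsIso (th φ (DerivedCategory.Q.obj x) (DerivedCategory.Q.obj k)) := by
  have := hx.kproj
  have := hk.kproj
  let ex := (DTen.extCx φ).obj x
  let ek := (DTen.extCx φ).obj k
  let bx := (DTen.baseCmp φ).app x
  let bk := (DTen.baseCmp φ).app k
  have ib : IsIso bx := isIso_baseCmp φ x hx.kflat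
  have ib' : IsIso bk := isIso_baseCmp φ k hk.kflat
  have : ek.IsKProjective := isKProjective_extCx φ k
  have iε : IsIso ((DTen.ε R').app (ex, ek)) := H5DTen.isIso_ε ex ek (.inr (kflat_of_kproj ek))
  have iε' : IsIso ((DTen.ε R).app (x, k)) := H5DTen.isIso_ε x k (.inr hk.kflat)
  let c := tm bx bk ≫ (DTen.ε R').app (ex, ek)
  have ic : IsIso c := by
    have : IsIso (Prod.mkHom bx bk) := (isIso_prod_iff _ _).2 ⟨ib, ib'⟩
    exact @IsIso.comp_isIso _ _ _ _ _ _ _ (Functor.map_isIso _ _) iε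
  let ε₀ := (DTen.ε R).app (x, k)
  let d := (DTen.LBase φ).map ε₀ ≫ (DTen.baseCmp φ).app (x ⊗ k) ≫
    DerivedCategory.Q.map (DTen.extTenCxIso φ x k).hom
  have key : th φ (DerivedCategory.Q.obj x) (DerivedCategory.Q.obj k) ≫ c = d := by
    apply ((DTen.baseAdj φ).homEquiv _ _).injective
    have l1 : ((DTen.baseAdj φ).homEquiv _ _) (th φ (DerivedCategory.Q.obj x) (DerivedCategory.Q.obj k) ≫ c) =
        Om φ (DerivedCategory.Q.obj x) (DerivedCategory.Q.obj k) ≫ (DRing.restrictD φ).map c := by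
      rw [Adjunction.homEquiv_naturality_right, th, Equiv.apply_symm_apply]
    have r1 : ((DTen.baseAdj φ).homEquiv _ _) d = ε₀ ≫ (DTen.baseγ φ).app (x ⊗ k) ≫
        (DRing.restrictD φ).map (DerivedCategory.Q.map (DTen.extTenCxIso φ x k).hom) := by
      rw [Adjunction.homEquiv_naturality_left]
      refine congrArg (ε₀ ≫ ·) ?_
      rw [(DTen.baseAdj φ).homEquiv_unit, Functor.map_comp]
      exact (assoc _ _ _).symm.trans (congrArg (fun t => t ≫ _) (DTen.baseCmp_fac φ (x ⊗ k)))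
    refine l1.trans (Eq.trans ?_ r1.symm)
    rw [← cancel_mono ((DTen.resFactors φ).hom.app ((DTen.tensorT R').obj (ex, ek)))]
    have p : (DTen.resPF φ).app ((DTen.QQ R').obj (ex, ek)) ≫
        (DRing.restrictD φ).map ((DTen.ε R').app (ex, ek)) ≫
          (DTen.resFactors φ).hom.app ((DTen.tensorT R').obj (ex, ek)) =
        tm ((DTen.resFactors φ).hom.app ex) ((DTen.resFactors φ).hom.app ek) ≫
          (DTen.ε R).app ((DTen.resCx φ).obj ex, (DTen.resCx φ).obj ek) ≫
            DerivedCategory.Q.map (DTen.resTenCx φ ex ek) := DTen.resPF_fac φ (ex, ek)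
    have g1 : ∀ y : DRing.Cx R, ((DTen.baseAdj φ).unit.app (DerivedCategory.Q.obj y) ≫
        (DRing.restrictD φ).map ((DTen.baseCmp φ).app y)) ≫ (DTen.resFactors φ).hom.app ((DTen.extCx φ).obj y) =
        DerivedCategory.Q.map ((DTen.unitCx φ).app y) := fun y => by
      rw [DTen.baseCmp_fac]
      dsimp only [DTen.baseγ]
      simp only [assoc, Iso.inv_hom_id_app]
      exact comp_id _
    have n := (DTen.ε R).naturality (Prod.mkHom ((DTen.unitCx φ).app x) ((DTen.unitCx φ).app k) :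
      (x, k) ⟶ ((DTen.resCx φ).obj ex, (DTen.resCx φ).obj ek))
    dsimp at n
    rw [← MonoidalCategory.tensorHom_def] at n
    calc _ = tm ((DTen.baseAdj φ).unit.app (DerivedCategory.Q.obj x) ≫ (DRing.restrictD φ).map bx)
          ((DTen.baseAdj φ).unit.app (DerivedCategory.Q.obj k) ≫ (DRing.restrictD φ).map bk) ≫
          (DTen.resPF φ).app ((DTen.QQ R').obj (ex, ek)) ≫
            (DRing.restrictD φ).map ((DTen.ε R').app (ex, ek)) ≫
              (DTen.resFactors φ).hom.app ((DTen.tensorT R').obj (ex, ek)) := by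
            dsimp only [Om, c]
            rw [Functor.map_comp]
            simp only [assoc]
            rw [← reassoc_of% resPF_nat φ bx bk, tm_comp_assoc]
            rfl
      _ = (DTen.LTen₂ R).map (Prod.mkHom (DerivedCategory.Q.map ((DTen.unitCx φ).app x))
            (DerivedCategory.Q.map ((DTen.unitCx φ).app k))) ≫
          (DTen.ε R).app ((DTen.resCx φ).obj ex, (DTen.resCx φ).obj ek) ≫
            DerivedCategory.Q.map (DTen.resTenCx φ ex ek) := by
            rw [p, tm_comp_assoc]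
            erw [g1 x, g1 k]
      _ = ε₀ ≫ DerivedCategory.Q.map ((DTen.unitCx φ).app (x ⊗ k) ≫
            (DTen.resCx φ).map (DTen.extTenCxIso φ x k).hom) := by
            erw [reassoc_of% n]
            rw [← Functor.map_comp, unitCx_resTenCx]
      _ = _ := by
            dsimp only [DTen.baseγ]
            rw [Functor.map_comp, assoc]
            refine congrArg (ε₀ ≫ ·) ?_
            rw [assoc, assoc]
            refine congrArg (DerivedCategory.Q.map ((DTen.unitCx φ).app (x ⊗ k)) ≫ ·) ?_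
            have := (DTen.resFactors φ).hom.naturality (DTen.extTenCxIso φ x k).hom
            dsimp at this
            erw [this, Iso.inv_hom_id_app_assoc]
  have id : IsIso d := by
    have : H5KFlatApps.KFl R (x ⊗ k) := kflat_tensor hx.kflat hk.kflat
    have := isIso_baseCmp φ (x ⊗ k) this
    have : IsIso ε₀ := iε'
    infer_instance
  have : IsIso (th φ (DerivedCategory.Q.obj x) (DerivedCategory.Q.obj k) ≫ c) := key ▸ id
  exact IsIso.of_isIso_comp_right _ c

theorem isIso_th (X K : Dual.D R) : IsIso (th φ X K) := by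
  obtain ⟨x, hx, ⟨ex⟩⟩ := H5DTen.lResolving_Q.ess X
  obtain ⟨k, hk, ⟨ek⟩⟩ := H5DTen.lResolving_Q.ess K
  have := isIso_th_cx φ x k hx hk
  have i1 : IsIso (Prod.mkHom ex.hom ek.hom) := (isIso_prod_iff _ _).2 ⟨inferInstance, inferInstance⟩
  have i2 : IsIso (Prod.mkHom ((DTen.LBase φ).map ex.hom) ((DTen.LBase φ).map ek.hom)) :=
    (isIso_prod_iff _ _).2 ⟨inferInstance, inferInstance⟩
  have : IsIso (tm ex.hom ek.hom) := Functor.map_isIso _ _
  have : IsIso (tm ((DTen.LBase φ).map ex.hom) ((DTen.LBase φ).map ek.hom)) := Functor.map_isIso _ _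
  have : IsIso ((DTen.LBase φ).map (tm ex.hom ek.hom) ≫ th φ X K) := by rw [th_nat]; infer_instance
  exact IsIso.of_isIso_comp_left ((DTen.LBase φ).map (tm ex.hom ek.hom)) _

variable [DTen.HasRHom R] [DTen.HasRHom R']

theorem isIso_rhomBC (K : Dual.D R) (M : Dual.D R') : IsIso (DTen.rhomBC φ K M) := by
  refine isIso_of_comp_bijective _ fun X => ?_
  have := isIso_th φ X K
  let ψ := ((DTen.baseAdj φ).homEquiv X _).symm.trans
    (((DTen.rhomHomEquiv ((DTen.LBase φ).obj X) ((DTen.LBase φ).obj K) M).symm.trans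
      (Iso.homCongr (asIso (th φ X K)).symm (Iso.refl M))).trans
      (((DTen.baseAdj φ).homEquiv _ M).trans (DTen.rhomHomEquiv X K _)))
  suffices (fun a : X ⟶ _ => a ≫ DTen.rhomBC φ K M) = ψ by rw [this]; exact ψ.bijective
  funext a
  obtain ⟨a', rfl⟩ := ((DTen.baseAdj φ).homEquiv X _).surjective a
  change _ = DTen.rhomHomEquiv _ _ _ ((DTen.baseAdj φ).homEquiv _ M
    (th φ X K ≫ (tm (((DTen.baseAdj φ).homEquiv X _).symm ((DTen.baseAdj φ).homEquiv X _ a')) (𝟙 _) ≫
      DTen.ev _ M) ≫ 𝟙 M))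
  rw [Equiv.symm_apply_apply, comp_id, Adjunction.homEquiv_naturality_right, th, Equiv.apply_symm_apply]
  unfold DTen.rhomBC
  refine ((DTen.rhomAdj R K).homEquiv_naturality_left _ _).symm.trans (congrArg _ ?_)
  change tm ((DTen.baseAdj φ).homEquiv X _ a') (𝟙 K) ≫ DTen.rhomBCCore φ K M = _
  dsimp only [DTen.rhomBCCore, Om]
  rw [tm_comp_assoc, (DTen.baseAdj φ).homEquiv_unit, comp_id, id_comp, Functor.map_comp, assoc]
  have h := resPF_nat φ a' (𝟙 ((DTen.LBase φ).obj K))
  rw [CategoryTheory.Functor.map_id] at h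
  rw [← reassoc_of% h, tm_comp_assoc]
  exact congrArg (fun t => tm _ t ≫ _) (comp_id _).symm

end Groth.Agent.H5DTenRes
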