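import Groth.Prelude.Def_DeltaF
import Mathlib
set_option autoImplicit false
universe v u v' u'
open CategoryTheory CategoryTheory.Limits DeltaF

namespace Groth.Agent.H5Delta
variable {A : Type u} [Category.{v} A] [Abelian A] {B : Type u'} [Category.{v'} B] [Abelian B]

/-- the short complex of a mono and its cokernel -/
noncomputable abbrev seq {X Y : A} (u : X ⟶ Y) : ShortComplex A := ShortComplex.mk u (cokernel.π u) (cokernel.condition u)

theorem seq_shortExact {X Y : A} (u : X ⟶ Y) [Mono u] : (seq u).ShortExact :=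
  { exact := ShortComplex.exact_of_g_is_cokernel _ (cokernelIsCokernel u) }

theorem exists_map_seq (S : ShortComplex A) (hS : S.ShortExact) {X' Y' : A} (u : X' ⟶ Y')
    (a : S.X₁ ⟶ X') (b : S.X₂ ⟶ Y') (h : a ≫ u = S.f ≫ b) :
    ∃ φ : S ⟶ seq u, φ.τ₁ = a := by
  have := hS.epi_g
  refine ⟨{ τ₁ := a, τ₂ := b, τ₃ := hS.exact.desc (b ≫ cokernel.π u) ?_, comm₁₂ := h, comm₂₃ := ?_ }, rfl⟩
  · rw [← Category.assoc, ← h, Category.assoc, cokernel.condition, comp_zero]
  · exact (hS.exact.g_desc _ _).symm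

variable (T T' : CohDeltaFunctor A B ℕ)

theorem compat_of_map {n : ℕ} (τ : T.F n ⟶ T'.F n) {S S' : ShortComplex A} (hS : S.ShortExact) (hS' : S'.ShortExact)
    (φ : S ⟶ S') {e : (T.F (n + 1)).obj S.X₁ ⟶ (T'.F (n + 1)).obj S.X₁}
    {e' : (T.F (n + 1)).obj S'.X₁ ⟶ (T'.F (n + 1)).obj S'.X₁}
    (h : e ≫ (T'.F (n + 1)).map φ.τ₁ = (T.F (n + 1)).map φ.τ₁ ≫ e')
    (h' : T.δ S' hS' n (n + 1) rfl ≫ e' = τ.app S'.X₃ ≫ T'.δ S' hS' n (n + 1) rfl) :
    (T.δ S hS n (n + 1) rfl ≫ e) ≫ (T'.F (n + 1)).map φ.τ₁ =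
      (τ.app S.X₃ ≫ T'.δ S hS n (n + 1) rfl) ≫ (T'.F (n + 1)).map φ.τ₁ := by
  rw [Category.assoc, h, ← Category.assoc, ← T.δ_natural hS hS' φ n (n + 1) rfl, Category.assoc, h',
    Category.assoc, ← T'.δ_natural hS hS' φ n (n + 1) rfl, ← Category.assoc, τ.naturality, Category.assoc]

theorem epi_δ {S : ShortComplex A} (hS : S.ShortExact) (n : ℕ) (h0 : (T.F (n + 1)).map S.f = 0) :
    Epi (T.δ S hS n (n + 1) rfl) :=
  (T.exact₁ S hS n (n + 1) rfl).epi_f h0

variable (hT : T.IsEffaceable)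

/-- chosen effacement -/
noncomputable def Mx (n : ℕ) (X : A) : A := (hT n X).choose
noncomputable def ux (n : ℕ) (X : A) : X ⟶ Mx T hT n X := (hT n X).choose_spec.choose
instance (n : ℕ) (X : A) : Mono (ux T hT n X) := (hT n X).choose_spec.choose_spec.1
theorem ux_zero (n : ℕ) (X : A) : (T.F (n + 1)).map (ux T hT n X) = 0 := (hT n X).choose_spec.choose_spec.2

theorem exists_next {n : ℕ} (τ : T.F n ⟶ T'.F n) {X Y : A} (u : X ⟶ Y) [Mono u] (hu : (T.F (n + 1)).map u = 0) :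
    ∃ e : (T.F (n + 1)).obj X ⟶ (T'.F (n + 1)).obj X,
      T.δ (seq u) (seq_shortExact u) n (n + 1) rfl ≫ e =
        τ.app _ ≫ T'.δ (seq u) (seq_shortExact u) n (n + 1) rfl := by
  have := epi_δ T (seq_shortExact u) n hu
  have h := T.exact₃ (seq u) (seq_shortExact u) n (n + 1) rfl
  have hz : (T.F n).map (seq u).g ≫ (τ.app (seq u).X₃ ≫ T'.δ (seq u) (seq_shortExact u) n (n + 1) rfl) = 0 := by
    rw [← Category.assoc, τ.naturality, Category.assoc, T'.comp_δ, comp_zero]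
  exact ⟨h.desc _ hz, h.g_desc _ hz⟩

noncomputable def next {n : ℕ} (τ : T.F n ⟶ T'.F n) (X : A) : (T.F (n + 1)).obj X ⟶ (T'.F (n + 1)).obj X :=
  (exists_next T T' τ (ux T hT n X) (ux_zero T hT n X)).choose

theorem next_comm {n : ℕ} (τ : T.F n ⟶ T'.F n) (S : ShortComplex A) (hS : S.ShortExact) :
    T.δ S hS n (n + 1) rfl ≫ next T T' hT τ S.X₁ = τ.app S.X₃ ≫ T'.δ S hS n (n + 1) rfl := by
  have := hS.mono_f
  let u := ux T hT n S.X₁
  have hsq := pushout.condition (f := S.f) (g := u)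
  have : Mono (pushout.inr S.f u) := inferInstance
  let w := u ≫ pushout.inr S.f u
  have hw : (T.F (n + 1)).map w = 0 := by rw [CategoryTheory.Functor.map_comp, ux_zero T hT, zero_comp]
  obtain ⟨e, he⟩ := exists_next T T' τ w hw
  obtain ⟨φ, hφ⟩ := exists_map_seq (seq u) (seq_shortExact u) w (𝟙 _) (pushout.inr S.f u) (Category.id_comp _)
  obtain ⟨ψ, hψ⟩ := exists_map_seq S hS w (𝟙 _) (pushout.inl S.f u) (by rw [Category.id_comp, hsq])
  have h1 := compat_of_map T T' τ (seq_shortExact u) (seq_shortExact w) φ (e := e)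
    (by rw [hφ, CategoryTheory.Functor.map_id, CategoryTheory.Functor.map_id]; exact (Category.comp_id e).trans (Category.id_comp e).symm) he
  rw [hφ, CategoryTheory.Functor.map_id, Category.comp_id, Category.comp_id] at h1
  have := epi_δ T (seq_shortExact u) n (ux_zero T hT n S.X₁)
  have hne : next T T' hT τ S.X₁ = e :=
    (cancel_epi _).1 ((exists_next T T' τ u (ux_zero T hT n S.X₁)).choose_spec.trans h1.symm)
  have h2 := compat_of_map T T' τ hS (seq_shortExact w) ψ (e := e)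
    (by rw [hψ, CategoryTheory.Functor.map_id, CategoryTheory.Functor.map_id]; exact (Category.comp_id e).trans (Category.id_comp e).symm) he
  rw [hψ, CategoryTheory.Functor.map_id, Category.comp_id, Category.comp_id] at h2
  rw [hne]; exact h2

theorem next_natural {n : ℕ} (τ : T.F n ⟶ T'.F n) {X X' : A} (f : X ⟶ X') :
    (T.F (n + 1)).map f ≫ next T T' hT τ X' = next T T' hT τ X ≫ (T'.F (n + 1)).map f := by
  let u := ux T hT n X
  let w := pushout.inl f u
  have : Mono w := inferInstance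
  obtain ⟨φ, hφ⟩ := exists_map_seq (seq u) (seq_shortExact u) w f (pushout.inr f u) pushout.condition
  have := epi_δ T (seq_shortExact u) n (ux_zero T hT n X)
  refine (cancel_epi (T.δ (seq u) (seq_shortExact u) n (n + 1) rfl)).1 ?_
  rw [← hφ]
  change _ = T.δ (seq u) (seq_shortExact u) n (n + 1) rfl ≫ next T T' hT τ (seq u).X₁ ≫ _
  rw [← Category.assoc, ← Category.assoc, ← T.δ_natural (seq_shortExact u) (seq_shortExact w) φ n (n + 1) rfl,
    Category.assoc]
  erw [next_comm T T' hT τ (seq w) (seq_shortExact w), next_comm T T' hT τ (seq u) (seq_shortExact u)]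
  rw [← Category.assoc, τ.naturality, Category.assoc, T'.δ_natural (seq_shortExact u) (seq_shortExact w) φ n (n + 1) rfl,
    Category.assoc]

noncomputable def ext' (t : T.F 0 ⟶ T'.F 0) : ∀ n, T.F n ⟶ T'.F n
  | 0 => t
  | n + 1 => { app := next T T' hT (ext' t n), naturality := fun _ _ f => next_natural T T' hT (ext' t n) f }

include hT in
theorem isUniversal : T.IsUniversal := by
  intro T' t
  refine ⟨{ app := ext' T T' hT t, comm := fun S hS n₀ n₁ h => ?_ }, rfl, fun σ hσ => ?_⟩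
  · subst h; exact next_comm T T' hT (ext' T T' hT t n₀) S hS
  · refine CohDeltaFunctor.hom_ext fun n => ?_
    induction n with
    | zero => exact hσ
    | succ n ih =>
      refine NatTrans.ext (funext fun X => ?_)
      have := epi_δ T (seq_shortExact (ux T hT n X)) n (ux_zero T hT n X)
      refine (cancel_epi (T.δ (seq (ux T hT n X)) (seq_shortExact (ux T hT n X)) n (n + 1) rfl)).1 ?_
      refine (σ.comm (seq (ux T hT n X)) (seq_shortExact (ux T hT n X)) n (n + 1) rfl).trans ?_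
      rw [ih]
      exact (next_comm T T' hT (ext' T T' hT t n) (seq (ux T hT n X)) (seq_shortExact _)).symm

theorem existsUnique_iso (T T' : CohDeltaFunctor A B ℕ) (hT : T.IsUniversal) (hT' : T'.IsUniversal)
    (e : T.F 0 ≅ T'.F 0) : ∃! φ : T ≅ T', φ.hom.app 0 = e.hom := by
  obtain ⟨f, hf, -⟩ := hT T' e.hom
  obtain ⟨g, hg, -⟩ := hT' T e.inv
  have h1 : f ≫ g = 𝟙 T := (hT T (𝟙 _)).unique (by simp [hf, hg]) (by simp)
  have h2 : g ≫ f = 𝟙 T' := (hT' T' (𝟙 _)).unique (by simp [hf, hg]) (by simp)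
  exact ⟨⟨f, g, h1, h2⟩, hf, fun φ hφ => Iso.ext ((hT T' e.hom).unique hφ hf)⟩

theorem isEffaceable_iff [EnoughInjectives A] (T : CohDeltaFunctor A B ℕ) :
    T.IsEffaceable ↔ ∀ (n : ℕ) (I : A), Injective I → IsZero ((T.F (n + 1)).obj I) := by
  refine ⟨fun h n I hI => ?_, fun h n X => ?_⟩
  · obtain ⟨Y, u, hu, h0⟩ := h n I
    rw [IsZero.iff_id_eq_zero, ← CategoryTheory.Functor.map_id, ← Injective.comp_factorThru (𝟙 I) u,
      CategoryTheory.Functor.map_comp, h0, zero_comp]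
  · exact ⟨Injective.under X, Injective.ι X, inferInstance, (h n _ inferInstance).eq_of_tgt _ _⟩

theorem exists_common (T : CohDeltaFunctor A B ℕ) (hT : T.IsEffaceable) (G : A ⥤ B) [G.PreservesZeroMorphisms]
    (n : ℕ) {X : A} (hG : ∃ (Y : A) (u : X ⟶ Y), Mono u ∧ G.map u = 0) :
    ∃ (Y : A) (u : X ⟶ Y), Mono u ∧ (T.F (n + 1)).map u = 0 ∧ G.map u = 0 := by
  obtain ⟨Y, u, hu, h0⟩ := hG
  obtain ⟨Z, v, hv, hv0⟩ := hT n X
  refine ⟨_, u ≫ pushout.inl u v, inferInstance, ?_, ?_⟩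
  · rw [pushout.condition, CategoryTheory.Functor.map_comp, hv0, zero_comp]
  · rw [CategoryTheory.Functor.map_comp, h0, zero_comp]

theorem mono_succ {T T' : CohDeltaFunctor A B ℕ} (hT : T.IsEffaceable) (φ : T ⟶ T') (m : ℕ) [IsIso (φ.app m)] :
    Mono (φ.app (m + 1)) := by
  suffices h : ∀ X, Mono ((φ.app (m + 1)).app X) from NatTrans.mono_of_mono_app _
  intro X
  obtain ⟨Y, u, hu, h0⟩ := hT m X
  have := epi_δ T (seq_shortExact u) m h0
  have hs := seq_shortExact u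
  refine Preadditive.mono_of_cancel_zero _ fun {P} x hx => ?_
  obtain ⟨P₁, π, hπ, z, hz⟩ := surjective_up_to_refinements_of_epi (T.δ (seq u) hs m (m + 1) rfl) x
  have h1 : (z ≫ (φ.app m).app (seq u).X₃) ≫ T'.δ (seq u) hs m (m + 1) rfl = 0 := by
    rw [Category.assoc, ← φ.comm (seq u) hs m (m + 1) rfl, ← Category.assoc, ← hz, Category.assoc]
    erw [hx, comp_zero]
  obtain ⟨P₂, π', hπ', y, hy⟩ := (T'.exact₃ (seq u) hs m (m + 1) rfl).exact_up_to_refinements _ h1
  dsimp only at y hy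
  have h2 : π' ≫ z = (y ≫ inv ((φ.app m).app (seq u).X₂)) ≫ (T.F m).map (seq u).g := by
    rw [← cancel_mono ((φ.app m).app (seq u).X₃), Category.assoc, Category.assoc, Category.assoc,
      (φ.app m).naturality, IsIso.inv_hom_id_assoc]
    exact hy
  have h3 : π' ≫ π ≫ x = 0 := by
    rw [hz, ← Category.assoc, h2, Category.assoc, T.comp_δ, comp_zero]
  exact zero_of_epi_comp π (zero_of_epi_comp π' h3)

theorem epi_succ {T T' : CohDeltaFunctor A B ℕ} (hT : T.IsEffaceable) (φ : T ⟶ T') (m : ℕ) [IsIso (φ.app m)]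
    (hE : ∀ X : A, ∃ (Y : A) (u : X ⟶ Y), Mono u ∧ (T'.F (m + 1)).map u = 0) : Epi (φ.app (m + 1)) := by
  suffices h : ∀ X, Epi ((φ.app (m + 1)).app X) from NatTrans.epi_of_epi_app _
  intro X
  obtain ⟨Y, u, hu, -, h0'⟩ := exists_common T hT (T'.F (m + 1)) m (hE X)
  have := epi_δ T' (seq_shortExact u) m h0'
  have h : Epi (T.δ (seq u) (seq_shortExact u) m (m + 1) rfl ≫ (φ.app (m + 1)).app (seq u).X₁) := by
    rw [φ.comm]; infer_instance
  exact epi_of_epi (T.δ (seq u) (seq_shortExact u) m (m + 1) rfl) _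

theorem iso_le_iff (T T' : CohDeltaFunctor A B ℕ) (hT : T.IsEffaceable) (φ : T ⟶ T') (n : ℕ) :
    ((∀ i : ℕ, i ≤ n → IsIso (φ.app i)) ∧ Mono (φ.app (n + 1)) ↔
      (Mono (φ.app 0) ∧ ∀ i : ℕ, i ≤ n → Epi (φ.app i))) ∧
    ((∀ i : ℕ, i ≤ n → IsIso (φ.app i)) ∧ Mono (φ.app (n + 1)) ↔
      (IsIso (φ.app 0) ∧ ∀ i : ℕ, 0 < i → i ≤ n → ∀ X : A, ∃ (Y : A) (u : X ⟶ Y), Mono u ∧ (T'.F i).map u = 0)) := by
  have key : IsIso (φ.app 0) → (∀ m, m + 1 ≤ n → IsIso (φ.app m) → Epi (φ.app (m + 1))) →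
      (∀ i : ℕ, i ≤ n → IsIso (φ.app i)) ∧ Mono (φ.app (n + 1)) := by
    intro h0 hs
    have hall : ∀ i, i ≤ n → IsIso (φ.app i) := by
      intro i
      induction i with
      | zero => exact fun _ => h0
      | succ i ih =>
        intro hi
        have := ih (by omega)
        have := mono_succ hT φ i
        have := hs i hi inferInstance
        exact isIso_of_mono_of_epi _
    have := hall n le_rfl
    exact ⟨hall, mono_succ hT φ n⟩
  refine ⟨⟨fun h => ?_, fun h => ?_⟩, ⟨fun h => ?_, fun h => ?_⟩⟩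
  · exact ⟨by have := h.1 0 (Nat.zero_le _); infer_instance, fun i hi => by have := h.1 i hi; infer_instance⟩
  · have := h.1; have := h.2 0 (Nat.zero_le _)
    exact key (isIso_of_mono_of_epi _) fun m hm _ => h.2 (m + 1) hm
  · refine ⟨h.1 0 (Nat.zero_le _), fun i hi hin X => ?_⟩
    obtain ⟨m, rfl⟩ : ∃ m, i = m + 1 := ⟨i - 1, by omega⟩
    obtain ⟨Y, u, hu, h0⟩ := hT m X
    have := h.1 (m + 1) hin
    refine ⟨Y, u, hu, ?_⟩
    rw [← cancel_epi ((φ.app (m + 1)).app X), ← (φ.app (m + 1)).naturality, h0, zero_comp, comp_zero]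
  · exact key h.1 fun m hm _ => epi_succ hT φ m (h.2 (m + 1) (by omega) hm)

end Groth.Agent.H5Delta
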