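import Groth.Prelude.Def_KZero2
universe v u
namespace Groth.Agent.H5Dense
open CategoryTheory CategoryTheory.Limits CategoryTheory.Pretriangulated KZero

theorem dense_tri {C : Type u} [Category.{v} C] [Preadditive C] [HasZeroObject C]
    [HasShift C ℤ] [∀ n : ℤ, (shiftFunctor C n).Additive] [Pretriangulated C]
    (S : Set C)
    (hdense : ∀ T : Set C, S ⊆ T →
      (∀ tr : Triangle C, tr ∈ distinguishedTriangles →
        (tr.obj₁ ∈ T → tr.obj₂ ∈ T → tr.obj₃ ∈ T) ∧ (tr.obj₁ ∈ T → tr.obj₃ ∈ T → tr.obj₂ ∈ T) ∧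
          (tr.obj₂ ∈ T → tr.obj₃ ∈ T → tr.obj₁ ∈ T)) → T = Set.univ) :
    AddSubgroup.closure (KZero.clTri '' S) = (⊤ : AddSubgroup (KZero.K0tri C)) := by
  set H := AddSubgroup.closure (KZero.clTri '' S)
  have hT : {X : C | clTri X ∈ H} = Set.univ := by
    refine hdense _ (fun X hX => AddSubgroup.subset_closure ⟨X, hX, rfl⟩) (fun T hT => ?_)
    have hm : FreeAbelianGroup.of (⟨T.obj₂, trivial⟩ : Subtype (⊤ : ObjectProperty C)) -
      FreeAbelianGroup.of ⟨T.obj₁, trivial⟩ - FreeAbelianGroup.of ⟨T.obj₃, trivial⟩ ∈ relTr (⊤ : ObjectProperty C) :=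
      AddSubgroup.subset_closure ⟨T, trivial, trivial, trivial, hT, rfl⟩
    have h' := (QuotientAddGroup.eq_zero_iff _).2 hm
    rw [QuotientAddGroup.mk_sub, QuotientAddGroup.mk_sub, sub_sub, sub_eq_zero] at h'
    change clTri T.obj₂ = clTri T.obj₁ + clTri T.obj₃ at h'
    simp only [Set.mem_setOf_eq]
    refine ⟨fun a b => ?_, fun a c => ?_, fun b c => ?_⟩
    · rwa [h', H.add_mem_cancel_left a] at b
    · rw [h']; exact H.add_mem a c
    · rwa [h', H.add_mem_cancel_right c] at b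
  rw [eq_top_iff]
  rintro x -
  obtain ⟨y, rfl⟩ := QuotientAddGroup.mk'_surjective _ x
  induction y using FreeAbelianGroup.induction_on with
  | zero => simp
  | of X => exact (Set.eq_univ_iff_forall.1 hT X.1 : clTri X.1 ∈ H)
  | neg X h => rw [map_neg]; exact H.neg_mem h
  | add a b ha hb => rw [map_add]; exact H.add_mem ha hb

theorem dense_ab {A : Type u} [Category.{v} A] [Abelian A] (S : Set A)
    (hdense : ∀ T : Set A, S ⊆ T →
      (∀ X : ShortComplex A, X.ShortExact →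
        (X.X₁ ∈ T → X.X₂ ∈ T → X.X₃ ∈ T) ∧ (X.X₁ ∈ T → X.X₃ ∈ T → X.X₂ ∈ T) ∧
          (X.X₂ ∈ T → X.X₃ ∈ T → X.X₁ ∈ T)) → T = Set.univ) :
    AddSubgroup.closure (KZero.cl '' S) = (⊤ : AddSubgroup (KZero.K0 A)) := by
  set H := AddSubgroup.closure (KZero.cl '' S)
  have hT : {X : A | cl X ∈ H} = Set.univ := by
    refine hdense _ (fun X hX => AddSubgroup.subset_closure ⟨X, hX, rfl⟩) (fun T hT => ?_)
    have hm : FreeAbelianGroup.of T.X₂ - FreeAbelianGroup.of T.X₁ - FreeAbelianGroup.of T.X₃ ∈ relAb A :=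
      AddSubgroup.subset_closure ⟨T, hT, rfl⟩
    have h' := (QuotientAddGroup.eq_zero_iff _).2 hm
    rw [QuotientAddGroup.mk_sub, QuotientAddGroup.mk_sub, sub_sub, sub_eq_zero] at h'
    change cl T.X₂ = cl T.X₁ + cl T.X₃ at h'
    simp only [Set.mem_setOf_eq]
    refine ⟨fun a b => ?_, fun a c => ?_, fun b c => ?_⟩
    · rwa [h', H.add_mem_cancel_left a] at b
    · rw [h']; exact H.add_mem a c
    · rwa [h', H.add_mem_cancel_right c] at b
  rw [eq_top_iff]
  rintro x -
  obtain ⟨y, rfl⟩ := QuotientAddGroup.mk'_surjective _ x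
  induction y using FreeAbelianGroup.induction_on with
  | zero => simp
  | of X => exact (Set.eq_univ_iff_forall.1 hT X : cl X ∈ H)
  | neg X h => rw [map_neg]; exact H.neg_mem h
  | add a b ha hb => rw [map_add]; exact H.add_mem ha hb

end Groth.Agent.H5Dense
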