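import Groth.Prelude.Def_CohCx
import Mathlib.Algebra.Homology.DerivedCategory.Ext.ExactSequences
import Mathlib.Algebra.Homology.DerivedCategory.Ext.EnoughInjectives
import Mathlib.Algebra.Category.Grp.EpiMono
import Mathlib.CategoryTheory.Sites.EpiMono
import Mathlib.CategoryTheory.Abelian.RightDerived
import Mathlib.Algebra.Homology.ShortComplex.ExactFunctor

universe w v u

namespace Groth.Agent.H5SiteCoh
open CategoryTheory Limits Abelian Opposite

section generic
variable {C : Type u} [Category.{v} C] [Abelian C] [HasExt.{w} C]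

/-- lifting along `g` for maps out of `Z` -/
def Surj (Z : C) {X Y : C} (g : X ⟶ Y) : Prop := ∀ φ : Z ⟶ Y, ∃ ψ, ψ ≫ g = φ

variable {Z : C} {S : ShortComplex C} (hS : S.ShortExact)

include hS in
lemma surj_of_subsingleton [Subsingleton (Ext Z S.X₁ 1)] : Surj Z S.g := fun φ => by
  obtain ⟨x, hx⟩ := Ext.covariant_sequence_exact₃ Z hS (Ext.mk₀ φ) (zero_add 1) (Subsingleton.elim _ _)
  obtain ⟨ψ, rfl⟩ := (Ext.mk₀_bijective _ _).2 x
  exact ⟨ψ, (Ext.mk₀_bijective _ _).1 (by rw [← Ext.mk₀_comp_mk₀, hx])⟩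

include hS in
lemma subsingleton_one (hg : Surj Z S.g) [Subsingleton (Ext Z S.X₂ 1)] : Subsingleton (Ext Z S.X₁ 1) := by
  refine subsingleton_of_forall_eq 0 fun x => ?_
  obtain ⟨x₃, rfl⟩ := Ext.covariant_sequence_exact₁ _ hS x (Subsingleton.elim _ _) (zero_add 1)
  obtain ⟨φ, rfl⟩ := (Ext.mk₀_bijective _ _).2 x₃
  obtain ⟨ψ, rfl⟩ := hg φ
  rw [← Ext.mk₀_comp_mk₀, Ext.comp_assoc_of_second_deg_zero, ShortComplex.ShortExact.comp_extClass,
    Ext.comp_zero]

include hS in
lemma step₁ (n : ℕ) [Subsingleton (Ext Z S.X₂ (n + 1))] [Subsingleton (Ext Z S.X₃ n)] :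
    Subsingleton (Ext Z S.X₁ (n + 1)) := by
  refine subsingleton_of_forall_eq 0 fun x => ?_
  obtain ⟨x₃, rfl⟩ := Ext.covariant_sequence_exact₁ _ hS x (Subsingleton.elim _ _) rfl
  rw [Subsingleton.elim x₃ 0, Ext.zero_comp]

include hS in
lemma step₃ (n : ℕ) [Subsingleton (Ext Z S.X₂ n)] [Subsingleton (Ext Z S.X₁ (n + 1))] :
    Subsingleton (Ext Z S.X₃ n) := by
  refine subsingleton_of_forall_eq 0 fun x => ?_
  obtain ⟨x₂, rfl⟩ := Ext.covariant_sequence_exact₃ _ hS x rfl (Subsingleton.elim _ _)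
  rw [Subsingleton.elim x₂ 0, Ext.zero_comp]

include hS in
lemma step₂ (n : ℕ) [Subsingleton (Ext Z S.X₁ n)] [Subsingleton (Ext Z S.X₃ n)] :
    Subsingleton (Ext Z S.X₂ n) := by
  refine subsingleton_of_forall_eq 0 fun x => ?_
  obtain ⟨x₁, rfl⟩ := Ext.covariant_sequence_exact₂ _ hS x (Subsingleton.elim _ _)
  rw [Subsingleton.elim x₁ 0, Ext.zero_comp]

instance subsingleton_ext_injective (Z I : C) [Injective I] (n : ℕ) : Subsingleton (Ext Z I (n + 1)) :=
  subsingleton_of_forall_eq 0 fun x => Ext.eq_zero_of_injective x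

variable (C) in
/-- acyclicity for maps out of `Z` -/
abbrev Acyc (Z F : C) : Prop := ∀ n : ℕ, Subsingleton (Ext Z F (n + 1))

lemma subsingleton_retract {Z Z' : C} (i : Z ⟶ Z') (r : Z' ⟶ Z) (h : i ≫ r = 𝟙 Z) {F : C} {n : ℕ}
    [Subsingleton (Ext Z' F n)] : Subsingleton (Ext Z F n) := by
  refine subsingleton_of_forall_eq 0 fun x => ?_
  have := congrArg (fun y => (Ext.mk₀ i).comp y (zero_add n))
    (Subsingleton.elim ((Ext.mk₀ r).comp x (zero_add n)) 0)
  simpa [Ext.mk₀_comp_mk₀_assoc, h] using this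

lemma subsingleton_congr {F F' : C} (e : F ≅ F') {Z : C} {n : ℕ} [Subsingleton (Ext Z F n)] :
    Subsingleton (Ext Z F' n) := by
  refine subsingleton_of_forall_eq 0 fun x => ?_
  have := congrArg (fun y => y.comp (Ext.mk₀ e.hom) (add_zero n))
    (Subsingleton.elim (x.comp (Ext.mk₀ e.inv) (add_zero n)) 0)
  simpa [Ext.comp_assoc_of_second_deg_zero, Ext.mk₀_comp_mk₀] using this

variable [EnoughInjectives C]

/-- `0 → F → I → G → 0` -/
noncomputable abbrev injSeq (F : C) : ShortComplex C :=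
  ShortComplex.mk (Injective.ι F) (cokernel.π (Injective.ι F)) (cokernel.condition _)

lemma injSeq_shortExact (F : C) : (injSeq F).ShortExact where
  exact := ShortComplex.exact_cokernel _

/-- dimension shifting -/
theorem acyc_of_good (Good : C → Prop) (Z : C)
    (h : ∀ F, Good F → Good (injSeq F).X₃ ∧ Surj Z (injSeq F).g) :
    ∀ (n : ℕ) (F : C), Good F → Subsingleton (Ext Z F (n + 1))
  | 0, F, hF => subsingleton_one (injSeq_shortExact F) (h F hF).2
  | n + 1, F, hF => by
    have := acyc_of_good Good Z h n _ (h F hF).1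
    exact step₁ (injSeq_shortExact F) (n + 1)

lemma acyc_quotient {Z F : C} (hF : Acyc C Z F) : Acyc C Z (injSeq F).X₃ := fun n => by
  have := hF (n + 1)
  exact step₃ (injSeq_shortExact F) (n + 1)

end generic

section site
variable {C : Type u} [SmallCategory C] {J : GrothendieckTopology C}

/-- the sheaf corepresenting sections over `U` -/
noncomputable abbrev fU (J : GrothendieckTopology C) (U : C) : Sheaf J AddCommGrpCat.{u} :=
  (presheafToSheaf J AddCommGrpCat.{u}).obj (yoneda.obj U ⋙ AddCommGrpCat.free)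

/-- functoriality -/
noncomputable abbrev fMap (J : GrothendieckTopology C) {U V : C} (a : V ⟶ U) : fU J V ⟶ fU J U :=
  (presheafToSheaf J AddCommGrpCat.{u}).map
    (((Functor.whiskeringRight Cᵒᵖ (Type u) AddCommGrpCat.{u}).obj AddCommGrpCat.free).map (yoneda.map a))

/-- maps out of `fU U` are sections -/
noncomputable def eqv (U : C) (F : Sheaf J AddCommGrpCat.{u}) : (fU J U ⟶ F) ≃ F.obj.obj (op U) :=
  ((sheafificationAdjunction J AddCommGrpCat.{u}).homEquiv _ F).trans
    (((AddCommGrpCat.adj.{u}.whiskerRight Cᵒᵖ).homEquiv (yoneda.obj U) F.obj).trans yonedaEquiv)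

lemma eqv_comp {U : C} {F G : Sheaf J AddCommGrpCat.{u}} (φ : fU J U ⟶ F) (g : F ⟶ G) :
    eqv U G (φ ≫ g) = g.hom.app (op U) (eqv U F φ) := by
  simp only [eqv, Equiv.trans_apply]
  erw [Adjunction.homEquiv_naturality_right, Adjunction.homEquiv_naturality_right, yonedaEquiv_comp]

lemma eqv_fMap {U V : C} (a : V ⟶ U) {F : Sheaf J AddCommGrpCat.{u}} (φ : fU J U ⟶ F) :
    eqv V F (fMap J a ≫ φ) = F.obj.map a.op (eqv U F φ) := by
  simp only [eqv, Equiv.trans_apply]
  erw [Adjunction.homEquiv_naturality_left, Adjunction.homEquiv_naturality_left]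
  exact (yonedaEquiv_naturality _ a).symm

lemma surj_fU {U : C} {F G : Sheaf J AddCommGrpCat.{u}} (g : F ⟶ G) :
    Surj (fU J U) g ↔ Function.Surjective (g.hom.app (op U)) := by
  constructor
  · intro h s
    obtain ⟨ψ, hψ⟩ := h ((eqv U G).symm s)
    exact ⟨eqv U F ψ, by rw [← eqv_comp, hψ, Equiv.apply_symm_apply]⟩
  · intro h φ
    obtain ⟨t, ht⟩ := h (eqv U G φ)
    exact ⟨(eqv U F).symm t, (eqv U G).injective (by rw [eqv_comp, Equiv.apply_symm_apply, ht])⟩

lemma res_eq {F : Sheaf J AddCommGrpCat.{u}} {n : ℕ} {U V : C} (a : V ⟶ U) (x : CohSite.HU F n U) :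
    CohSite.res F n a x = (Ext.mk₀ (fMap J a)).comp x (zero_add n) := rfl

theorem acyclic_HU (Good : Sheaf J AddCommGrpCat.{u} → Prop) (U : C)
    (h : ∀ F, Good F → Good (injSeq F).X₃ ∧ Function.Surjective ((injSeq F).g.hom.app (op U)))
    (n : ℕ) (F : Sheaf J AddCommGrpCat.{u}) (hF : Good F) : Subsingleton (CohSite.HU F (n + 1) U) :=
  acyc_of_good Good (fU J U) (fun F hF => ⟨(h F hF).1, (surj_fU _).2 (h F hF).2⟩) n F hF

/-- a cover on which a class dies -/
theorem kill (n : ℕ) : ∀ (F : Sheaf J AddCommGrpCat.{u}) (U : C) (ξ : CohSite.HU F (n + 1) U),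
    ∃ S : J.Cover U, ∀ a : S.Arrow, CohSite.res F (n + 1) a.f ξ = 0 := by
  induction n with
  | zero =>
    intro F U ξ
    obtain ⟨x₃, hx⟩ := Ext.covariant_sequence_exact₁ (fU J U) (injSeq_shortExact F) ξ
      (Subsingleton.elim _ _) (zero_add 1)
    obtain ⟨φ, rfl⟩ := (Ext.mk₀_bijective _ _).2 x₃
    have : Sheaf.IsLocallySurjective (injSeq F).g :=
      (Sheaf.isLocallySurjective_iff_epi' (C := C) (J := J) _ (injSeq F).g).2 inferInstance
    refine ⟨⟨_, Presheaf.imageSieve_mem J (injSeq F).g.hom (eqv U _ φ)⟩, fun a => ?_⟩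
    obtain ⟨t, ht⟩ := a.hf
    have hl : fMap J a.f ≫ φ = (eqv a.Y _).symm t ≫ (injSeq F).g := by
      apply (eqv a.Y _).injective
      rw [eqv_fMap, eqv_comp (g := (injSeq F).g), Equiv.apply_symm_apply]
      exact ht.symm
    rw [res_eq, ← hx, Ext.mk₀_comp_mk₀_assoc, hl, ← Ext.mk₀_comp_mk₀, Ext.comp_assoc_of_second_deg_zero,
      ShortComplex.ShortExact.comp_extClass, Ext.comp_zero]
    rfl
  | succ n ih =>
    intro F U ξ
    obtain ⟨x₃, hx⟩ := Ext.covariant_sequence_exact₁ (fU J U) (injSeq_shortExact F) ξ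
      (Subsingleton.elim _ _) (rfl : n + 1 + 1 = n + 2)
    obtain ⟨S, hS⟩ := ih _ U x₃
    refine ⟨S, fun a => ?_⟩
    have h0 : (Ext.mk₀ (fMap J a.f)).comp x₃ (zero_add (n + 1)) = 0 := hS a
    rw [res_eq, ← hx, ← Ext.comp_assoc _ _ _ (zero_add (n + 1)) rfl (by omega), h0, Ext.zero_comp]
    rfl

end site

section derived
variable {A : Type*} [Category A] [Abelian A] [HasInjectiveResolutions A]
  {B : Type*} [Category B] [Abelian B]

lemma exact_comp_epi (G : A ⥤ B) [G.Additive] [PreservesFiniteLimits G] {X Z Y W : A} (p : X ⟶ Z)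
    (i : Z ⟶ Y) (d : Y ⟶ W) (w : i ≫ d = 0) (hi : IsLimit (KernelFork.ofι i w))
    (w' : G.map (p ≫ i) ≫ G.map d = 0) [Epi (G.map p)] :
    (ShortComplex.mk (G.map (p ≫ i)) (G.map d) w').Exact := by
  have h : (ShortComplex.mk (G.map i) (G.map d) (by rw [← G.map_comp, w, G.map_zero])).Exact :=
    ShortComplex.exact_of_f_is_kernel _ (isLimitForkMapOfIsLimit' G w hi)
  let φ : ShortComplex.mk (G.map (p ≫ i)) (G.map d) w' ⟶
      ShortComplex.mk (G.map i) (G.map d) (by rw [← G.map_comp, w, G.map_zero]) :=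
    { τ₁ := G.map p, τ₂ := 𝟙 _, τ₃ := 𝟙 _ }
  have : Epi φ.τ₁ := inferInstanceAs (Epi (G.map p))
  have : IsIso φ.τ₂ := inferInstanceAs (IsIso (𝟙 _))
  have : Mono φ.τ₃ := inferInstanceAs (Mono (𝟙 _))
  exact (ShortComplex.exact_iff_of_epi_of_isIso_of_mono φ).2 h

/-- vanishing of right derived functors on a good class -/
theorem isZero_rightDerived (G : A ⥤ B) [G.Additive] [PreservesFiniteLimits G] (Good : A → Prop)
    (hiso : ∀ {X Y : A}, (X ≅ Y) → Good X → Good Y)
    (h : ∀ S : ShortComplex A, S.ShortExact → Good S.X₁ → Injective S.X₂ → Good S.X₃ ∧ Epi (G.map S.g))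
    {F : A} (hF : Good F) (q : ℕ) : IsZero ((G.rightDerived (q + 1)).obj F) := by
  let I := injectiveResolution F
  let K := I.cocomplex
  refine IsZero.of_iso ?_ (I.isoRightDerivedObj G (q + 1))
  have hS : ∀ n, ∃ w : K.iCycles n ≫ K.toCycles n (n + 1) = 0,
      (ShortComplex.mk (K.iCycles n) (K.toCycles n (n + 1)) w).ShortExact := fun n => by
    have he : Epi (K.toCycles n (n + 1)) := by
      have hz : IsZero (K.homology (n + 1)) := (I.cocomplex_exactAt_succ n).isZero_homology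
      exact ((ShortComplex.mk _ _ (K.toCycles_comp_homologyπ n (n + 1))).exact_iff_epi
        (hz.eq_of_tgt _ _)).1 (ShortComplex.exact_of_g_is_cokernel _
          (K.homologyIsCokernel n (n + 1) (by simp)))
    refine ⟨by rw [← cancel_mono (K.iCycles (n + 1)), zero_comp, Category.assoc, K.toCycles_i, K.iCycles_d],
      { exact := ?_, mono_f := inferInstance, epi_g := he }⟩
    let φ : ShortComplex.mk (K.iCycles n) (K.toCycles n (n + 1)) (by
          rw [← cancel_mono (K.iCycles (n + 1)), zero_comp, Category.assoc, K.toCycles_i, K.iCycles_d]) ⟶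
        ShortComplex.mk (K.iCycles n) (K.d n (n + 1)) (K.iCycles_d _ _) :=
      { τ₁ := 𝟙 _, τ₂ := 𝟙 _, τ₃ := K.iCycles (n + 1) }
    have : Epi φ.τ₁ := inferInstanceAs (Epi (𝟙 _))
    have : IsIso φ.τ₂ := inferInstanceAs (IsIso (𝟙 _))
    have : Mono φ.τ₃ := inferInstanceAs (Mono (K.iCycles (n + 1)))
    exact (ShortComplex.exact_iff_of_epi_of_isIso_of_mono φ).2
      (ShortComplex.exact_of_f_is_kernel _ (K.cyclesIsKernel n (n + 1) (by simp)))
  have hgood : ∀ n, Good (K.cycles n) := by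
    intro n
    induction n with
    | zero =>
      refine hiso ?_ hF
      exact IsLimit.conePointUniqueUpToIso I.isLimitKernelFork (K.cyclesIsKernel 0 1 (by simp))
    | succ n ih =>
      obtain ⟨w, hw⟩ := hS n
      exact (h _ hw ih (I.injective n)).1
  obtain ⟨w, hw⟩ := hS q
  have := (h _ hw (hgood q) (I.injective q)).2
  refine (HomologicalComplex.exactAt_iff_isZero_homology _ _).1 ?_
  rw [HomologicalComplex.exactAt_iff' _ q (q + 1) (q + 2) (by simp) (by simp)]
  have hh := exact_comp_epi G (K.toCycles q (q + 1)) (K.iCycles (q + 1)) (K.d (q + 1) (q + 2)) (K.iCycles_d _ _)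
    (K.cyclesIsKernel (q + 1) (q + 2) (by simp))
    (by rw [← G.map_comp, K.toCycles_i, K.d_comp_d, G.map_zero])
  simp only [HomologicalComplex.toCycles_i] at hh
  exact hh

end derived

section totally
variable {C : Type u} [SmallCategory C] {J : GrothendieckTopology C}

/-- the representable sheaf of sets -/
noncomputable abbrev ySh (J : GrothendieckTopology C) (U : C) : Sheaf J (Type u) :=
  (presheafToSheaf J (Type u)).obj (yoneda.obj U)

/-- `fU U` is a retract of the free sheaf on the sheafified representable -/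
lemma retract_fU (U : C) :
    ∃ (i : fU J U ⟶ (presheafToSheaf J AddCommGrpCat.{u}).obj ((ySh J U).obj ⋙ AddCommGrpCat.free))
      (r : (presheafToSheaf J AddCommGrpCat.{u}).obj ((ySh J U).obj ⋙ AddCommGrpCat.free) ⟶ fU J U),
      i ≫ r = 𝟙 _ := by
  let s : yoneda.obj U ⟶ (fU J U).obj ⋙ forget AddCommGrpCat.{u} :=
    ((AddCommGrpCat.adj.{u}.whiskerRight Cᵒᵖ).homEquiv _ _)
      (((sheafificationAdjunction J AddCommGrpCat.{u}).homEquiv _ _) (𝟙 _))
  let s' : (ySh J U).obj ⟶ (fU J U).obj ⋙ forget AddCommGrpCat.{u} :=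
    sheafifyLift J s ((sheafCompose J (forget AddCommGrpCat.{u})).obj (fU J U)).property
  refine ⟨(presheafToSheaf J AddCommGrpCat.{u}).map
      (((Functor.whiskeringRight Cᵒᵖ (Type u) AddCommGrpCat.{u}).obj AddCommGrpCat.free).map (toSheafify J (yoneda.obj U))),
    ((sheafificationAdjunction J AddCommGrpCat.{u}).homEquiv _ _).symm
      (((AddCommGrpCat.adj.{u}.whiskerRight Cᵒᵖ).homEquiv _ _).symm s'), ?_⟩
  erw [← Adjunction.homEquiv_naturality_left_symm, ← Adjunction.homEquiv_naturality_left_symm]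
  have h : toSheafify J (yoneda.obj U) ≫ s' = s := toSheafify_sheafifyLift _ _ _
  erw [h]
  simp [s]

theorem HU_of_totally (F : Sheaf J AddCommGrpCat.{u}) (hF : CohCx.IsTotallyAcyclic F) (U : C) (p : ℕ) :
    Subsingleton (CohSite.HU F (p + 1) U) := by
  obtain ⟨i, r, h⟩ := retract_fU (J := J) U
  have : Subsingleton (Ext ((presheafToSheaf J AddCommGrpCat.{u}).obj ((ySh J U).obj ⋙ AddCommGrpCat.free)) F (p + 1)) :=
    hF (ySh J U) p
  exact subsingleton_retract i r h

lemma acyc_injective_middle {Z : Sheaf J AddCommGrpCat.{u}} (S : ShortComplex (Sheaf J AddCommGrpCat.{u}))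
    (hS : S.ShortExact) (hF : Acyc _ Z S.X₁) (hI : Injective S.X₂) : Acyc _ Z S.X₃ ∧ Surj Z S.g := by
  refine ⟨fun n => ?_, ?_⟩
  · have := hF (n + 1)
    exact step₃ hS (n + 1)
  · have := hF 0
    exact surj_of_subsingleton hS

/-- higher direct images of acyclic sheaves -/
theorem isZero_Rpush {D : Type u} [SmallCategory D] (K : GrothendieckTopology D) (u : D ⥤ C) [u.IsContinuous K J]
    (F : Sheaf J AddCommGrpCat.{u}) (hF : ∀ (U : C) (p : ℕ), Subsingleton (CohSite.HU F (p + 1) U)) (p : ℕ) :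
    IsZero ((CohSite.Rpush J K u (p + 1)).obj F) := by
  have : PreservesFiniteLimits (CohSite.push J K u) := by
    have := (u.sheafAdjunctionContinuous AddCommGrpCat.{u} K J).rightAdjoint_preservesLimits
    exact PreservesLimits.preservesFiniteLimits _
  refine isZero_rightDerived (CohSite.push J K u) (fun F => ∀ V : D, Acyc _ (fU J (u.obj V)) F)
    (fun e h V n => ?_) (fun S hS hF hI => ⟨fun V => (acyc_injective_middle S hS (hF V) hI).1, ?_⟩)
    (fun V n => hF (u.obj V) n) p
  · have := h V n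
    exact subsingleton_congr e
  · have : Epi ((CohSite.push J K u).map S.g).hom := by
      rw [NatTrans.epi_iff_epi_app]
      intro V
      rw [AddCommGrpCat.epi_iff_surjective]
      exact (surj_fU S.g).1 (acyc_injective_middle S hS (hF V.unop) hI).2
    exact (sheafToPresheaf K AddCommGrpCat.{u}).epi_of_epi_map this

end totally

end Groth.Agent.H5SiteCoh
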