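import Groth.Agent.Lib.LHOn
import Groth.Agent.Lib.H5SiteCoh
import Groth.Prelude.Def_CohTop

universe u

namespace Groth.Agent.H5TopCoh
open CategoryTheory Limits Abelian Opposite TopologicalSpace TopCat
open Groth.Agent Groth.Agent.LCech

variable {X : TopCat.{u}}

lemma surjective_of_refine (T : ShortComplex (Shf X)) (hT : T.ShortExact) {V : Opens X}
    (href : ∀ (κ : Type u) (U : κ → Opens X), V ≤ iSup U → ∃ (ι : Type u) (W : ι → Opens X),
      iSup W = V ∧ (∀ i, ∃ k, W i ≤ U k) ∧ (cplx W T.X₁.obj).ExactAt 1) :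
    Function.Surjective (T.g.hom.app (op V)) := by
  intro s
  have := hT.mono_f
  have hls : TopCat.Presheaf.IsLocallySurjective T.g.hom := by
    have := hT.epi_g
    exact (TopCat.Sheaf.isLocallySurjective_iff_epi (X := X) T.g).mpr this
  rw [TopCat.Presheaf.isLocallySurjective_iff] at hls
  choose D hDV hD hxD using fun p : V => hls V s p.1 p.2
  obtain ⟨ι, W, hW, hWD, hex⟩ := href V D
    (fun p hp => Opens.mem_iSup.2 ⟨⟨p, hp⟩, hxD ⟨p, hp⟩⟩)
  choose k hk using hWD
  choose t₀ ht₀ using hD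
  have hWV : ∀ i, W i ≤ V := fun i => (le_iSup W i).trans hW.le
  have ht₀' : ∀ (p : V), T.g.hom.app (op (D p)) (t₀ p) = rs T.X₃.obj (hDV p) s := ht₀
  have nat : ∀ {A B : Opens X} (h : B ≤ A) (a : T.X₂.obj.obj (op A)),
      T.g.hom.app (op B) (rs T.X₂.obj h a) = rs T.X₃.obj h (T.g.hom.app (op A) a) :=
    fun h a => NatTrans.naturality_apply T.g.hom (homOfLE h).op a
  let tb : (cplx W T.X₂.obj).X 0 := mk W _ fun x =>
    rs T.X₂.obj ((inter_le W x 0).trans (hk (x 0))) (t₀ (k (x 0)))
  have htb : ∀ x : Fin 1 → ι, T.g.hom.app _ (coord W _ x tb) =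
      rs T.X₃.obj ((inter_le W x 0).trans (hWV _)) s := by
    intro x
    simp only [tb, coord_mk]
    rw [nat, ht₀', rs_rs]
  let Φ := cechComplexFunctor (A := AddCommGrpCat.{u}) W
  have hdiff : ∀ x : Fin 2 → ι, T.g.hom.app _ (coord W _ x ((cplx W T.X₂.obj).d 0 1 tb)) = 0 := by
    intro x
    rw [coord_d, map_sum, Fin.sum_univ_two]
    simp only [map_zsmul, nat, htb, rs_rs]
    simp
  choose e he using fun x : Fin 2 → ι =>
    TopCat.Sheaf.sections_exact_of_left_exact hT.exact hT.mono_f _ (hdiff x)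
  have hde : (cplx W T.X₁.obj).d 1 2 (mk W _ e) = 0 := by
    refine coord_ext W _ fun x => app_injective T.f _ ?_
    rw [← coord_map W T.f.hom, ← ConcreteCategory.comp_apply, ← (Φ.map T.f.hom).comm 1 2,
      ConcreteCategory.comp_apply, map_zero, map_zero]
    have : (Φ.map T.f.hom).f 1 (mk W _ e) = (cplx W T.X₂.obj).d 0 1 tb :=
      coord_ext W _ fun y => by rw [coord_map, coord_mk, he]
    erw [this, d_d, map_zero]
  obtain ⟨b, hb⟩ := (exactAt_succ_iff W _ 0).1 hex _ hde
  let t' : (cplx W T.X₂.obj).X 0 := tb - (Φ.map T.f.hom).f 0 b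
  have hdt' : (cplx W T.X₂.obj).d 0 1 t' = 0 := by
    simp only [t', map_sub]
    rw [sub_eq_zero, ← ConcreteCategory.comp_apply, (Φ.map T.f.hom).comm 0 1,
      ConcreteCategory.comp_apply]
    erw [hb]
    refine coord_ext W _ fun y => ?_
    rw [coord_map, coord_mk, he]
  let sf : ∀ i, T.X₂.obj.obj (op (W i)) := fun i =>
    rs T.X₂.obj ((le_inter_iff W (fun _ => i) _).2 fun _ => le_rfl)
      (coord W _ (fun _ : Fin 1 => i) t')
  have hcomp : TopCat.Presheaf.IsCompatible T.X₂.obj W sf := by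
    intro i j
    have hle : W i ⊓ W j ≤ inter W ![i, j] :=
      (le_inter_iff W _ _).2 (by simp [Fin.forall_fin_two])
    have h := congrArg (fun z => rs T.X₂.obj hle (coord W _ ![i, j] z)) hdt'
    simp only [coord_d] at h
    have e0 : (![i, j] ∘ (0 : Fin 2).succAbove) = fun _ => j := by ext z; fin_cases z; rfl
    have e1 : (![i, j] ∘ (1 : Fin 2).succAbove) = fun _ => i := by ext z; fin_cases z; rfl
    simp only [rs, map_sum, map_zsmul, map_zero] at h
    rw [Fin.sum_univ_two] at h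
    norm_num at h
    rw [← sub_eq_add_neg, sub_eq_zero] at h
    have key : ∀ (y y' : Fin 1 → ι) (_ : y = y') {Z : Opens X} (hy : Z ≤ inter W y)
        (hy' : Z ≤ inter W y'),
        rs T.X₂.obj hy (coord W _ y t') = rs T.X₂.obj hy' (coord W _ y' t') := by
      rintro y _ rfl _ _ _; rfl
    change rs T.X₂.obj inf_le_left _ = rs T.X₂.obj inf_le_right _
    simp only [sf, rs_rs]
    refine Eq.trans (key _ _ e1.symm _ (hle.trans (inter_succAbove W _ 1))) ?_
    refine Eq.trans ?_ (key _ _ e0 (hle.trans (inter_succAbove W _ 0)) _)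
    exact (rs_rs T.X₂.obj _ hle _).symm.trans (h.symm.trans (rs_rs T.X₂.obj _ hle _))
  obtain ⟨t, ht, -⟩ := TopCat.Sheaf.existsUnique_gluing' T.X₂ W V (fun i => homOfLE (hWV i))
    hW.ge sf hcomp
  refine ⟨t, TopCat.Sheaf.eq_of_locally_eq' T.X₃ W V (fun i => homOfLE (hWV i))
    hW.ge _ _ fun i => ?_⟩
  change rs T.X₃.obj (hWV i) _ = rs T.X₃.obj (hWV i) s
  rw [← nat]
  change T.g.hom.app _ ((T.X₂.obj).map _ t) = _
  erw [ht i]
  simp only [sf, t', nat, map_sub, coord_map]
  have hz : ∀ {A : Opens X} (a : T.X₁.obj.obj (op A)), T.g.hom.app _ (T.f.hom.app _ a) = 0 := by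
    intro A a
    rw [← ConcreteCategory.comp_apply, ← NatTrans.comp_app, ← ObjectProperty.FullSubcategory.comp_hom,
      T.zero]
    rfl
  erw [coord_map, hz]
  rw [show rs T.X₃.obj _ (0 : T.X₃.obj.obj (op (inter W fun _ : Fin 1 => i))) = 0 from map_zero _,
    sub_zero]
  erw [htb, rs_rs]


/-- basis + coverings form a system for Cartan's lemma -/
theorem subsingleton_HU_basis (F : CohTop.Ab X) (B : Set (Opens X)) (Cov : ∀ (ι : Type u), (ι → Opens X) → Prop)
    (h1 : ∀ (ι : Type u) (V : ι → Opens X), Cov ι V →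
      iSup V ∈ B ∧ ∀ (p : ℕ) (a : Fin (p + 1) → ι), (iInf fun k => V (a k)) ∈ B)
    (h2 : ∀ U ∈ B, ∀ (κ : Type u) (W : κ → Opens X), iSup W = U →
      ∃ (ι : Type u) (V : ι → Opens X), Cov ι V ∧ iSup V = U ∧ ∀ i, ∃ k, V i ≤ W k)
    (h3 : ∀ (ι : Type u) (V : ι → Opens X), Cov ι V → ∀ p : ℕ, IsZero (CohTop.cechH F.obj V (p + 1)))
    (U : Opens X) (hU : U ∈ B) (p : ℕ) : Subsingleton (CohTop.HU F (p + 1) U) := by
  let S : CovSys X :=
    { B := B
      Cov := fun V {ι} W => Cov ι W ∧ iSup W = V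
      iSup_eq := fun h => h.2
      inter_mem := fun {V ι W} h {n} x => by rw [inter_eq_iInf]; exact (h1 ι W h.1).2 n x
      refine' := fun V hV κ W hW => by
        obtain ⟨ι, V', hc, he, hle⟩ := h2 V hV κ (fun k => W k ⊓ V)
          (by rw [← iSup_inf_eq]; exact inf_eq_right.2 hW)
        exact ⟨ι, V', ⟨hc, he⟩, fun i => ⟨(hle i).choose, (hle i).choose_spec.trans inf_le_left⟩⟩ }
  exact subsingleton_ext_succ S hU p F fun V _ ι W hW n =>
    (HomologicalComplex.exactAt_iff_isZero_homology _ _).2 (h3 ι W hW.1 n)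

/-- extension of a section of a sheaf of families -/
lemma flasque_god {Q : Type u} (π : Q → X) (A : Q → AddCommGrpCat.{u}) :
    TopCat.Presheaf.IsFlasque (god π A) := ⟨fun {U V} i => by
  classical
  rw [AddCommGrpCat.epi_iff_surjective]
  intro s
  refine ⟨fun q _ => if h : π q ∈ V.unop then s q ⟨h⟩ else 0, ?_⟩
  funext q hq
  exact dif_pos hq.down⟩

lemma flasque_retract {P P' : TopCat.Presheaf AddCommGrpCat.{u} X} (h : TopCat.Presheaf.IsFlasque P)
    (s : P' ⟶ P) (r : P ⟶ P') (hsr : s ≫ r = 𝟙 P') : TopCat.Presheaf.IsFlasque P' := ⟨fun {U V} i => by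
  rw [AddCommGrpCat.epi_iff_surjective]
  intro y
  obtain ⟨x, hx⟩ := (AddCommGrpCat.epi_iff_surjective _).1 (h.epi i) (s.app V y)
  refine ⟨r.app U x, ?_⟩
  have h1 : r.app V (s.app V y) = y := ConcreteCategory.congr_hom (congr_app hsr V) y
  rw [← h1, ← hx]
  exact (NatTrans.naturality_apply r i x).symm⟩

theorem flasque_injective (I : CohTop.Ab X) [Injective I] : TopCat.Sheaf.IsFlasque I :=
  flasque_retract (flasque_god _ _) (toGod I).hom (Injective.factorThru (𝟙 I) (toGod I)).hom
    (congrArg (fun φ => InducedCategory.Hom.hom φ) (Injective.comp_factorThru (𝟙 I) (toGod I)))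

theorem surjective_of_flasque {S : ShortComplex (CohTop.Ab X)} (hS : S.ShortExact)
    (h : TopCat.Sheaf.IsFlasque S.X₁) (U : Opens X) : Function.Surjective (S.g.hom.app (op U)) :=
  (AddCommGrpCat.epi_iff_surjective _).1 (@TopCat.Sheaf.IsFlasque.epi_of_shortExact X U S hS h)

theorem flasque_quotient {S : ShortComplex (CohTop.Ab X)} (hS : S.ShortExact)
    (h : TopCat.Sheaf.IsFlasque S.X₁) (hI : Injective S.X₂) : TopCat.Sheaf.IsFlasque S.X₃ :=
  @TopCat.Sheaf.IsFlasque.of_shortExact_of_isFlasque₁₂ X S hS h (flasque_injective S.X₂)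

theorem flasque_acyclic (F : CohTop.Ab X) (hF : TopCat.Sheaf.IsFlasque F) (U : Opens X) (n : ℕ) :
    Subsingleton (CohTop.HU F (n + 1) U) :=
  H5SiteCoh.acyclic_HU (fun G : CohTop.Ab X => TopCat.Sheaf.IsFlasque G) U
    (fun G hG => ⟨flasque_quotient (H5SiteCoh.injSeq_shortExact G) hG inferInstance,
      surjective_of_flasque (H5SiteCoh.injSeq_shortExact G) hG U⟩) n F hF

theorem flasque_middle {S : ShortComplex (CohTop.Ab X)} (hS : S.ShortExact)
    (h1 : TopCat.Sheaf.IsFlasque S.X₁) (h3 : TopCat.Sheaf.IsFlasque S.X₃) : TopCat.Sheaf.IsFlasque S.X₂ :=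
  ⟨fun {U V} i => by
    rw [AddCommGrpCat.epi_iff_surjective]
    intro s
    obtain ⟨t, ht⟩ := (AddCommGrpCat.epi_iff_surjective _).1 (h3.epi i) (S.g.hom.app V s)
    obtain ⟨t', ht'⟩ := surjective_of_flasque hS h1 U.unop t
    obtain ⟨a, ha⟩ := TopCat.Sheaf.sections_exact_of_left_exact hS.exact hS.mono_f
      (s - S.X₂.obj.map i t') (by
        rw [map_sub, sub_eq_zero]
        refine ht.symm.trans ?_
        rw [← ht']
        exact (NatTrans.naturality_apply S.g.hom i t').symm)
    obtain ⟨b, hb⟩ := (AddCommGrpCat.epi_iff_surjective _).1 (h1.epi i) a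
    refine ⟨t' + S.f.hom.app U b, ?_⟩
    rw [map_add]
    have h4 : S.X₂.obj.map i (S.f.hom.app U b) = S.f.hom.app V a := by
      rw [← hb]; exact (NatTrans.naturality_apply S.f.hom i b).symm
    rw [h4, ha, add_sub_cancel]⟩

theorem isZero_Rpush_flasque {Y : TopCat.{u}} (f : X ⟶ Y) (F : CohTop.Ab X) (hF : TopCat.Sheaf.IsFlasque F)
    (q : ℕ) : IsZero ((CohTop.Rpush f (q + 1)).obj F) := by
  have : PreservesLimitsOfSize.{0, 0} (CohTop.push f) :=
    (TopCat.Sheaf.pullbackPushforwardAdjunction AddCommGrpCat.{u} f).rightAdjoint_preservesLimits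
  have : PreservesFiniteLimits (CohTop.push f) := PreservesLimitsOfSize.preservesFiniteLimits _
  refine H5SiteCoh.isZero_rightDerived (CohTop.push f) (fun G : CohTop.Ab X => TopCat.Sheaf.IsFlasque G)
    (fun {G G'} e h => flasque_retract h e.inv.hom e.hom.hom
      (congrArg (fun φ => InducedCategory.Hom.hom φ) e.inv_hom_id))
    (fun S hS hF hI => ⟨flasque_quotient hS hF hI, ?_⟩) hF q
  have : Epi ((CohTop.push f).map S.g).hom := by
    rw [NatTrans.epi_iff_epi_app]
    intro V
    rw [AddCommGrpCat.epi_iff_surjective]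
    exact surjective_of_flasque hS hF ((Opens.map f).obj V.unop)
  exact (sheafToPresheaf _ AddCommGrpCat.{u}).epi_of_epi_map this

theorem isZero_Rpush_closedEmbedding {Y : TopCat.{u}} (f : X ⟶ Y) (hf : Topology.IsClosedEmbedding f)
    (F : CohTop.Ab X) (q : ℕ) : IsZero ((CohTop.Rpush f (q + 1)).obj F) := by
  have : PreservesLimitsOfSize.{0, 0} (CohTop.push f) :=
    (TopCat.Sheaf.pullbackPushforwardAdjunction AddCommGrpCat.{u} f).rightAdjoint_preservesLimits
  have : PreservesFiniteLimits (CohTop.push f) := PreservesLimitsOfSize.preservesFiniteLimits _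
  refine H5SiteCoh.isZero_rightDerived (CohTop.push f) (fun _ => True) (fun _ _ => trivial)
    (fun S hS _ _ => ⟨trivial, ?_⟩) trivial q
  refine (TopCat.Sheaf.isLocallySurjective_iff_epi (X := Y) ((CohTop.push f).map S.g)).mp ?_
  rw [TopCat.Presheaf.isLocallySurjective_iff]
  intro V s y hy
  by_cases h : y ∈ Set.range f
  · obtain ⟨x, rfl⟩ := h
    have hls := (TopCat.Sheaf.isLocallySurjective_iff_epi (X := X) S.g).mpr hS.epi_g
    rw [TopCat.Presheaf.isLocallySurjective_iff] at hls
    obtain ⟨U, hUV, ⟨t, ht⟩, hxU⟩ := hls ((Opens.map f).obj V) s x hy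
    obtain ⟨W, hW, hWU⟩ := hf.isInducing.isOpen_iff.1 U.2
    let W' : Opens Y := ⟨W, hW⟩ ⊓ V
    have hle : (Opens.map f).obj W' ≤ U := fun z hz => by
      have : z ∈ f ⁻¹' W := hz.1
      rwa [hWU] at this
    refine ⟨W', inf_le_right, ⟨S.X₂.obj.map (homOfLE hle).op t, ?_⟩, ⟨by
      have : x ∈ f ⁻¹' W := by rw [hWU]; exact hxU
      exact this, hy⟩⟩
    refine (NatTrans.naturality_apply S.g.hom (homOfLE hle).op t).trans ?_
    refine (congrArg (S.X₃.obj.map (homOfLE hle).op) ht).trans ?_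
    exact (ConcreteCategory.congr_hom (S.X₃.obj.map_comp _ _) s).symm
  · let W' : Opens Y := ⟨(Set.range f)ᶜ, hf.isClosed_range.isOpen_compl⟩ ⊓ V
    refine ⟨W', inf_le_right, ⟨0, ?_⟩, ⟨h, hy⟩⟩
    have he : (Opens.map f).obj W' = ⊥ := by
      refine eq_bot_iff.2 fun z hz => (hz.1 ⟨z, rfl⟩).elim
    have : Subsingleton (S.X₃.obj.obj (op ((Opens.map f).obj W'))) := by
      rw [he]
      exact AddCommGrpCat.subsingleton_of_isZero
        ((IsTerminal.isZero (TopCat.Sheaf.isTerminalOfEqEmpty S.X₃ rfl)))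
    exact this.elim _ _

/-- the map into a sheaf of families given on stalks -/
noncomputable def toFam {Q : Type u} (π : Q → X) (E : Q → AddCommGrpCat.{u}) (G : Shf X)
    (a : ∀ q, TopCat.Presheaf.stalk G.obj (π q) ⟶ E q) : G ⟶ godSheaf π E where
  hom :=
    { app := fun W => AddCommGrpCat.ofHom
        { toFun := fun s q h => a q (TopCat.Presheaf.germ G.obj W.unop (π q) h.down s)
          map_zero' := by funext q h; exact (congrArg (a q) (map_zero _)).trans (map_zero _)
          map_add' := fun x y => by funext q h; exact (congrArg (a q) (map_add _ x y)).trans (map_add _ _ _) }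
      naturality := fun V W i => by
        ext s
        funext q h
        exact congrArg (a q) (TopCat.Presheaf.germ_res_apply G.obj i.unop (π q) h.down s) }

/-- maps into a sheaf of families of injectives extend -/
theorem injective_godSheaf {Q : Type u} (π : Q → X) (E : Q → AddCommGrpCat.{u}) (hE : ∀ q, Injective (E q)) :
    Injective (godSheaf π E) := by
  classical
  refine ⟨fun {G G'} t m hm => ?_⟩
  let ev : ∀ q (W : Opens X) (_ : π q ∈ W), G.obj.obj (op W) →+ E q := fun q W hW =>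
    { toFun := fun s => t.hom.app (op W) s q ⟨hW⟩
      map_zero' := congrArg (fun z => z q ⟨hW⟩) (map_zero (t.hom.app (op W)).hom)
      map_add' := fun x y => congrArg (fun z => z q ⟨hW⟩) (map_add (t.hom.app (op W)).hom x y) }
  let cc : ∀ q, Cocone ((OpenNhds.inclusion (π q)).op ⋙ G.obj) := fun q => Cocone.mk (E q)
    { app := fun W => AddCommGrpCat.ofHom (ev q W.unop.1 W.unop.2)
      naturality := fun W W' i => by
        ext s
        exact congrArg (fun (z : (god π E).obj (op W'.unop.1)) => z q ⟨W'.unop.2⟩) (NatTrans.naturality_apply t.hom _ s) }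
  let c : ∀ q, TopCat.Presheaf.stalk G.obj (π q) ⟶ E q := fun q => colimit.desc _ (cc q)
  have hc : ∀ q (W : Opens X) (hW : π q ∈ W) (s : G.obj.obj (op W)),
      c q (TopCat.Presheaf.germ G.obj W (π q) hW s) = t.hom.app (op W) s q ⟨hW⟩ := fun q W hW s => by
    have := colimit.ι_desc (cc q) (op (⟨W, hW⟩ : OpenNhds (π q)))
    exact ConcreteCategory.congr_hom this s
  have hst : ∀ q, Mono ((TopCat.Presheaf.stalkFunctor AddCommGrpCat.{u} (π q)).map m.hom) := fun q => by
    rw [AddCommGrpCat.mono_iff_injective]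
    exact TopCat.Presheaf.stalkFunctor_map_injective_of_app_injective (fun W => app_injective m W) (π q)
  let e : ∀ q, TopCat.Presheaf.stalk G'.obj (π q) ⟶ E q := fun q =>
    @Injective.factorThru _ _ _ _ _ (hE q) (c q) _ (hst q)
  refine ⟨toFam π E G' e, ?_⟩
  ext W s
  funext q h
  change e q (TopCat.Presheaf.germ G'.obj W.unop (π q) h.down (m.hom.app W s)) = t.hom.app W s q h
  rw [← hc q W.unop h.down s, ← TopCat.Presheaf.stalkFunctor_map_germ_apply]
  exact ConcreteCategory.congr_hom (@Injective.comp_factorThru _ _ _ _ _ (hE q) (c q) _ (hst q)) _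

theorem injective_push {Y : TopCat.{u}} (f : X ⟶ Y) (I : CohTop.Ab X) [Injective I] :
    Injective ((CohTop.push f).obj I) := by
  let E : X → AddCommGrpCat.{u} := fun x => Injective.under (stalks I x)
  have hE : ∀ x, Injective (E x) := fun x => inferInstance
  let j : I ⟶ godSheaf (id : X → X) E := toFam _ _ _ fun x => Injective.ι (stalks I x)
  have : Mono j := by
    have : Mono j.hom := by
      rw [NatTrans.mono_iff_mono_app]
      intro V
      rw [AddCommGrpCat.mono_iff_injective]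
      intro s t h
      refine app_injective (toGod I) V.unop (funext fun q => funext fun hq => ?_)
      exact (AddCommGrpCat.mono_iff_injective (Injective.ι (stalks I q))).1 inferInstance
        (congrFun (congrFun h q) hq)
    exact (sheafToPresheaf _ _).mono_of_mono_map (f := j) this
  let i0 : (CohTop.push f).obj (godSheaf (id : X → X) E) ≅ godSheaf (fun x => f x) E :=
    ObjectProperty.isoMk _ (Iso.refl _)
  have : Injective (godSheaf (fun x => f x) E) := injective_godSheaf _ E hE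
  have : Injective ((CohTop.push f).obj (godSheaf (id : X → X) E)) := Injective.of_iso i0.symm this
  refine ⟨fun g m => ⟨Injective.factorThru (g ≫ (CohTop.push f).map j) m ≫
    (CohTop.push f).map (Injective.factorThru (𝟙 I) j), ?_⟩⟩
  rw [Injective.comp_factorThru_assoc, Category.assoc, ← Functor.map_comp, Injective.comp_factorThru,
    CategoryTheory.Functor.map_id, Category.comp_id]

theorem kill_open (F : CohTop.Ab X) (U : Opens X) (n : ℕ) (ξ : CohTop.HU F (n + 1) U) :
    ∃ (ι : Type u) (V : ι → Opens X) (hV : ∀ i, V i ≤ U), iSup V = U ∧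
      ∀ i, CohTop.res F (n + 1) (hV i) ξ = 0 := by
  obtain ⟨S, hS⟩ := H5SiteCoh.kill n F U ξ
  refine ⟨S.Arrow, fun a => a.Y, fun a => a.f.le, le_antisymm (iSup_le fun a => a.f.le) fun x hx => ?_, fun a => hS a⟩
  obtain ⟨V, f, hf, hxV⟩ := S.condition x hx
  exact Opens.mem_iSup.2 ⟨⟨V, f, hf⟩, hxV⟩

end Groth.Agent.H5TopCoh
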