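import Groth.Agent.Lib.H5LerayDeg
import Groth.Agent.Lib.H5TopCoh

universe u

namespace Groth.Agent.H5DescFun
open CategoryTheory Limits Opposite TopologicalSpace
set_option maxHeartbeats 800000

section generic
variable {A : Type*} [Category A] [Abelian A] {Z : A} (I : InjectiveResolution Z) (K : CochainComplex A ℕ)
  (hK : ∀ n, Injective (K.X n))

/-- extension step -/
noncomputable def stp (n : ℕ) (g : I.cocomplex.X n ⟶ K.X n) (g' : I.cocomplex.X (n + 1) ⟶ K.X (n + 1))
    (w : g ≫ K.d n (n + 1) = I.cocomplex.d n (n + 1) ≫ g') :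
    Σ' g'' : I.cocomplex.X (n + 2) ⟶ K.X (n + 2),
      g' ≫ K.d (n + 1) (n + 2) = I.cocomplex.d (n + 1) (n + 2) ≫ g'' :=
  haveI := hK (n + 2)
  ⟨(I.exact_succ n).descToInjective (g' ≫ K.d (n + 1) (n + 2))
      (by dsimp; rw [← Category.assoc, ← w, Category.assoc, HomologicalComplex.d_comp_d, comp_zero]),
    ((I.exact_succ n).comp_descToInjective _ _).symm⟩

include hK in
/-- maps from a resolution to a complex of injectives extend -/
theorem exists_ext (f : Z ⟶ K.X 0) (hf : f ≫ K.d 0 1 = 0) :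
    ∃ φ : I.cocomplex ⟶ K, I.ι.f 0 ≫ φ.f 0 = f := by
  haveI := hK 0
  haveI := hK 1
  have hm : Mono (I.ι.f 0) := by infer_instance
  let g0 : I.cocomplex.X 0 ⟶ K.X 0 := @Injective.factorThru _ _ _ _ _ _ f (I.ι.f 0) hm
  have h0 : I.ι.f 0 ≫ g0 = f := @Injective.comp_factorThru _ _ _ _ _ _ f (I.ι.f 0) hm
  let g1 : I.cocomplex.X 1 ⟶ K.X 1 := I.exact₀.descToInjective (g0 ≫ K.d 0 1) (by
    dsimp; rw [← Category.assoc]; exact (congrArg (fun t => t ≫ K.d 0 1) h0).trans hf)
  refine ⟨CochainComplex.mkHom _ _ g0 g1 (I.exact₀.comp_descToInjective _ _).symm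
    (fun n p => ⟨(stp I K hK n p.1 p.2.1 p.2.2).1, (stp I K hK n p.1 p.2.1 p.2.2).2⟩), ?_⟩
  simpa using h0

include hK in
/-- and uniquely up to homotopy -/
theorem homotopy_zero (φ : I.cocomplex ⟶ K) (hφ : I.ι.f 0 ≫ φ.f 0 = 0) : Nonempty (Homotopy φ 0) := by
  haveI := hK 0
  haveI := hK 1
  let z0 : I.cocomplex.X 1 ⟶ K.X 0 := I.exact₀.descToInjective (φ.f 0) hφ
  have e0 : I.cocomplex.d 0 1 ≫ z0 = φ.f 0 := I.exact₀.comp_descToInjective _ _
  let z1 : I.cocomplex.X 2 ⟶ K.X 1 := (I.exact_succ 0).descToInjective (φ.f 1 - z0 ≫ K.d 0 1) (by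
    dsimp
    rw [Preadditive.comp_sub, ← Category.assoc, e0, HomologicalComplex.Hom.comm, sub_self])
  have e1 : I.cocomplex.d 1 2 ≫ z1 = φ.f 1 - z0 ≫ K.d 0 1 := (I.exact_succ 0).comp_descToInjective _ _
  exact ⟨Homotopy.mkCoinductive φ z0 e0.symm z1 (by rw [e1]; abel) (fun n ⟨g, g', w⟩ =>
    haveI := hK (n + 2)
    ⟨(I.exact_succ (n + 1)).descToInjective (φ.f (n + 2) - g' ≫ K.d _ _) (by
      dsimp
      rw [Preadditive.comp_sub, ← HomologicalComplex.Hom.comm, w, Preadditive.add_comp,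
        Category.assoc, Category.assoc, HomologicalComplex.d_comp_d, comp_zero,
        zero_add, sub_self]), by
      rw [(I.exact_succ (n + 1)).comp_descToInjective]; abel⟩)⟩

include hK in
theorem homotopy (φ ψ : I.cocomplex ⟶ K) (h : I.ι.f 0 ≫ φ.f 0 = I.ι.f 0 ≫ ψ.f 0) : Nonempty (Homotopy φ ψ) := by
  obtain ⟨e⟩ := homotopy_zero I K hK (φ - ψ) (by
    rw [HomologicalComplex.sub_f_apply, Preadditive.comp_sub, h, sub_self])
  exact ⟨Homotopy.equivSubZero.invFun e⟩

end generic

variable {S : TopCat.{u}} (F : CohTop.Ab S)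

/-- the chosen resolution of the inverse image -/
noncomputable def R (Y : Over S) : InjectiveResolution ((CohTop.pull Y.hom).obj F) := injectiveResolution _

/-- direct images of complexes -/
noncomputable def pC {A B : TopCat.{u}} (h : A ⟶ B) (K : CochainComplex (CohTop.Ab A) ℕ) : CochainComplex (CohTop.Ab B) ℕ :=
  ((CohTop.push h).mapHomologicalComplex (ComplexShape.up ℕ)).obj K

/-- the structure map of the resolution, on sections -/
noncomputable def e0 (Y : Over S) : F ⟶ (CohTop.push Y.hom).obj ((R F Y).cocomplex.X 0) :=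
  ((TopCat.Sheaf.pullbackPushforwardAdjunction AddCommGrpCat.{u} Y.hom).homEquiv F ((R F Y).cocomplex.X 0)) ((R F Y).ι.f 0)

/-- composition of preimages -/
lemma map_eq {Y Y' : Over S} (h : Y ⟶ Y') (V : Opens S) :
    (Opens.map Y.hom).obj V = (Opens.map h.left).obj ((Opens.map Y'.hom).obj V) := by
  rw [← Over.w h]; rfl

/-- the map comparing structure maps -/
noncomputable def e0map {Y Y' : Over S} (h : Y ⟶ Y') :
    F ⟶ (CohTop.push Y'.hom).obj ((CohTop.push h.left).obj ((R F Y).cocomplex.X 0)) :=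
  ⟨{ app := fun V => (e0 F Y).hom.app V ≫ ((R F Y).cocomplex.X 0).obj.map (eqToHom (map_eq h V.unop).symm).op
     naturality := fun V W i => by
       rw [← Category.assoc, (e0 F Y).hom.naturality i, Category.assoc, Category.assoc]
       congr 1
       exact ((((R F Y).cocomplex.X 0).obj.map_comp _ _).symm.trans (congrArg _ (Subsingleton.elim _ _))).trans
         (((R F Y).cocomplex.X 0).obj.map_comp _ _) }⟩

instance push_injective {A B : TopCat.{u}} (h : A ⟶ B) (I : CohTop.Ab A) [Injective I] :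
    Injective ((CohTop.push h).obj I) := H5TopCoh.injective_push h I

lemma pC_injective {Y Y' : Over S} (h : Y ⟶ Y') (n : ℕ) : Injective ((pC h.left (R F Y).cocomplex).X n) :=
  push_injective h.left ((R F Y).cocomplex.X n)

lemma homEquiv_zero {A : TopCat.{u}} (g : A ⟶ S) (K : CohTop.Ab A) :
    (TopCat.Sheaf.pullbackPushforwardAdjunction AddCommGrpCat.{u} g).homEquiv F K 0 = 0 :=
  ((TopCat.Sheaf.pullbackPushforwardAdjunction AddCommGrpCat.{u} g).homEquiv_unit _ _ _).trans
    ((congrArg (fun t => _ ≫ t) ((CohTop.push g).map_zero _ _)).trans comp_zero)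

/-- compatibility with the structure maps -/
def Good {Y Y' : Over S} (h : Y ⟶ Y') (φ : (R F Y').cocomplex ⟶ pC h.left (R F Y).cocomplex) : Prop :=
  e0 F Y' ≫ (CohTop.push Y'.hom).map (φ.f 0) = e0map F h

lemma e0_d (Y : Over S) : e0 F Y ≫ (CohTop.push Y.hom).map ((R F Y).cocomplex.d 0 1) = 0 := by
  refine ((TopCat.Sheaf.pullbackPushforwardAdjunction AddCommGrpCat.{u} Y.hom).homEquiv_naturality_right _ _).symm.trans ?_
  exact (congrArg ((TopCat.Sheaf.pullbackPushforwardAdjunction AddCommGrpCat.{u} Y.hom).homEquiv F _)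
    (R F Y).ι_f_zero_comp_complex_d).trans (homEquiv_zero F _ _)

theorem exists_good {Y Y' : Over S} (h : Y ⟶ Y') : ∃ φ, Good F h φ := by
  let a := TopCat.Sheaf.pullbackPushforwardAdjunction AddCommGrpCat.{u} Y'.hom
  obtain ⟨φ, hφ⟩ := exists_ext (R F Y') (pC h.left (R F Y).cocomplex) (pC_injective F h)
    ((a.homEquiv F _).symm (e0map F h)) (by
      apply (a.homEquiv F _).injective
      refine (a.homEquiv_naturality_right _ _).trans
        ((congrArg (fun t => t ≫ _) ((a.homEquiv F _).apply_symm_apply (e0map F h))).trans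
          (Eq.trans ?_ (homEquiv_zero F _ _).symm))
      refine ObjectProperty.hom_ext _ ?_
      refine NatTrans.ext (funext fun V => ?_)
      change ((e0 F Y).hom.app V ≫ ((R F Y).cocomplex.X 0).obj.map _) ≫ ((R F Y).cocomplex.d 0 1).hom.app _ = 0
      refine (Category.assoc _ _ _).trans ((congrArg (fun t => (e0 F Y).hom.app V ≫ t)
        (((R F Y).cocomplex.d 0 1).hom.naturality _)).trans ?_)
      refine (Category.assoc _ _ _).symm.trans ?_
      have := congr_app (congrArg (fun t => t.hom) (e0_d F Y)) V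
      exact (congrArg (fun t => t ≫ ((R F Y).cocomplex.X 1).obj.map _) this).trans zero_comp)
  refine ⟨φ, ?_⟩
  refine (a.homEquiv_naturality_right _ _).symm.trans ?_
  exact (congrArg (a.homEquiv F _) hφ).trans ((a.homEquiv F _).apply_symm_apply _)

theorem good_unique {Y Y' : Over S} (h : Y ⟶ Y') {φ ψ : (R F Y').cocomplex ⟶ pC h.left (R F Y).cocomplex}
    (h1 : Good F h φ) (h2 : Good F h ψ) : Nonempty (Homotopy φ ψ) := by
  let a := TopCat.Sheaf.pullbackPushforwardAdjunction AddCommGrpCat.{u} Y'.hom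
  refine homotopy (R F Y') _ (pC_injective F h) φ ψ ((a.homEquiv F _).injective ?_)
  exact ((a.homEquiv_naturality_right _ _).trans (h1.trans h2.symm)).trans (a.homEquiv_naturality_right _ _).symm

/-- the chosen map -/
noncomputable def φ {Y Y' : Over S} (h : Y ⟶ Y') : (R F Y').cocomplex ⟶ pC h.left (R F Y).cocomplex :=
  (exists_good F h).choose

/-- global sections -/
noncomputable abbrev Γ (A : TopCat.{u}) : CohTop.Ab A ⥤ AddCommGrpCat.{u} :=
  sheafToPresheaf _ AddCommGrpCat.{u} ⋙ (evaluation _ _).obj (op ⊤)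

instance (A : TopCat.{u}) : (Γ A).Additive where

/-- sections of the resolution -/
noncomputable abbrev ΓR (Y : Over S) : CochainComplex AddCommGrpCat.{u} ℕ :=
  ((Γ Y.left).mapHomologicalComplex (ComplexShape.up ℕ)).obj (R F Y).cocomplex

/-- sections of a map of resolutions -/
noncomputable def gm {Y Y' : Over S} (h : Y ⟶ Y') (f : (R F Y').cocomplex ⟶ pC h.left (R F Y).cocomplex) :
    ΓR F Y' ⟶ ΓR F Y :=
  ((Γ Y'.left).mapHomologicalComplex (ComplexShape.up ℕ)).map f

lemma homology_eq {Y Y' : Over S} (h : Y ⟶ Y') {f g : (R F Y').cocomplex ⟶ pC h.left (R F Y).cocomplex}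
    (h1 : Good F h f) (h2 : Good F h g) (q : ℕ) :
    HomologicalComplex.homologyMap (gm F h f) q = HomologicalComplex.homologyMap (gm F h g) q := by
  obtain ⟨t⟩ := good_unique F h h1 h2
  exact ((Γ Y'.left).mapHomotopy t).homologyMap_eq q

/-- cohomology of the inverse image, as a functor -/
noncomputable def Φ (q : ℕ) : (Over S)ᵒᵖ ⥤ AddCommGrpCat.{u} where
  obj Y := (ΓR F Y.unop).homology q
  map h := HomologicalComplex.homologyMap (gm F h.unop (φ F h.unop)) q
  map_id Y := by
    refine (homology_eq F (𝟙 Y.unop) (exists_good F (𝟙 Y.unop)).choose_spec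
      (g := (𝟙 (R F Y.unop).cocomplex : (R F Y.unop).cocomplex ⟶ pC (𝟙 Y.unop.left) (R F Y.unop).cocomplex)) ?_ q).trans ?_
    · ext1
      refine NatTrans.ext (funext fun V => ?_)
      change (e0 F Y.unop).hom.app V ≫ 𝟙 _ = (e0 F Y.unop).hom.app V ≫ ((R F Y.unop).cocomplex.X 0).obj.map (𝟙 _)
      exact congrArg (fun t => (e0 F Y.unop).hom.app V ≫ t) ((((R F Y.unop).cocomplex.X 0).obj.map_id _).symm)
    · refine Eq.trans ?_ (HomologicalComplex.homologyMap_id (ΓR F Y.unop) q)
      exact congrArg (fun t => HomologicalComplex.homologyMap t q) (CategoryTheory.Functor.map_id _ _)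
  map_comp {Y₁ Y₂ Y₃} h k := by
    let g : (R F Y₁.unop).cocomplex ⟶ pC (k.unop ≫ h.unop).left (R F Y₃.unop).cocomplex :=
      φ F h.unop ≫ ((CohTop.push h.unop.left).mapHomologicalComplex (ComplexShape.up ℕ)).map (φ F k.unop)
    refine (homology_eq F (k.unop ≫ h.unop) (exists_good F (k.unop ≫ h.unop)).choose_spec (g := g) ?_ q).trans ?_
    · ext1
      refine NatTrans.ext (funext fun V => ?_)
      have e1 := congr_app (congrArg (fun t => t.hom) ((exists_good F h.unop).choose_spec)) V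
      have e2 := congr_app (congrArg (fun t => t.hom) ((exists_good F k.unop).choose_spec)) V
      change (e0 F Y₁.unop).hom.app V ≫ ((φ F h.unop).f 0).hom.app _ ≫ ((φ F k.unop).f 0).hom.app _ = _
      refine (Category.assoc _ _ _).symm.trans ((congrArg (fun t => t ≫ ((φ F k.unop).f 0).hom.app _) e1).trans ?_)
      refine (Category.assoc _ _ _).trans ?_
      refine (congrArg (fun t => (e0 F Y₂.unop).hom.app V ≫ t) (((φ F k.unop).f 0).hom.naturality _)).trans ?_
      refine (Category.assoc _ _ _).symm.trans ((congrArg (fun t => t ≫ _) e2).trans ?_)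
      refine (Category.assoc _ _ _).trans (congrArg (fun t => (e0 F Y₃.unop).hom.app V ≫ t) ?_)
      exact ((((R F Y₃.unop).cocomplex.X 0).obj.map_comp _ _).symm.trans (congrArg _ (Subsingleton.elim _ _)))
    · refine Eq.trans ?_ (HomologicalComplex.homologyMap_comp (gm F h.unop (φ F h.unop)) (gm F k.unop (φ F k.unop)) q)
      exact congrArg (fun t => HomologicalComplex.homologyMap t q) (Functor.map_comp _ _ _)

theorem Φ_iso (q : ℕ) (Y : Over S) :
    Nonempty ((Φ F q).obj (op Y) ≅ AddCommGrpCat.of (CohTop.H ((CohTop.pull Y.hom).obj F) q)) := by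
  obtain ⟨a⟩ := H5LerayDeg.H_equiv_HU_top ((CohTop.pull Y.hom).obj F) q
  obtain ⟨b⟩ := H5LerayDeg.HU_equiv_sec (R F Y) ⊤ q
  exact ⟨((a.trans b).toAddCommGrpIso).symm⟩

end Groth.Agent.H5DescFun
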