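import Groth.Prelude.Def_SpSeq
import Mathlib.Algebra.Homology.Embedding.ExtendHomology
import Mathlib.AlgebraicTopology.ExtraDegeneracy
import Mathlib.Algebra.Category.Grp.Abelian
import Mathlib.Algebra.Homology.Opposite
import Mathlib.Data.Int.Interval
import Mathlib.Algebra.Homology.SingleHomology
import Mathlib.Algebra.Category.Grp.Zero

universe u

namespace Groth.Agent.H5SplitSS
open CategoryTheory Limits Opposite
open scoped ZeroObject
set_option maxHeartbeats 800000

section splice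
variable (K : ℕ → CochainComplex AddCommGrpCat.{u} ℕ)

/-- the rows -/
noncomputable def T (q : ℤ) : CochainComplex AddCommGrpCat.{u} ℤ :=
  if 0 ≤ q then (K q.toNat).extend ComplexShape.embeddingUpNat else 0

lemma T_isZero_X {p q : ℤ} (h : p < 0 ∨ q < 0) : IsZero ((T K q).X p) := by
  unfold T
  split_ifs with hq
  · exact HomologicalComplex.isZero_extend_X _ _ _ (fun i hi => by simp at hi; omega)
  · exact (HomologicalComplex.eval _ _ p).map_isZero (isZero_zero (CochainComplex AddCommGrpCat.{u} ℤ))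

lemma T_isZero_homology {p q : ℤ} (h : p < 0 ∨ q < 0) : IsZero ((T K q).homology p) :=
  (HomologicalComplex.exactAt_iff_isZero_homology _ _).1 (HomologicalComplex.ExactAt.of_isZero (T_isZero_X K h))

/-- the first page -/
noncomputable def P1 : HomologicalComplex AddCommGrpCat.{u} (ComplexShape.up' (⟨1, 1 - 1⟩ : ℤ × ℤ)) where
  X pq := (T K pq.2).X pq.1
  d pq pq' := if h : pq.2 = pq'.2 then (T K pq.2).d pq.1 pq'.1 ≫ eqToHom (by rw [h]) else 0
  shape pq pq' hne := by
    obtain ⟨p, q⟩ := pq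
    obtain ⟨p', q'⟩ := pq'
    dsimp only
    split_ifs with h
    · subst h
      rw [(T K q).shape p p' (fun e => hne (Prod.ext e (by simp))), zero_comp]
    · rfl
  d_comp_d' pq pq' pq'' _ _ := by
    obtain ⟨p, q⟩ := pq
    obtain ⟨p', q'⟩ := pq'
    obtain ⟨p'', q''⟩ := pq''
    dsimp only
    split_ifs with h h'
    · subst h h'
      simp
    all_goals simp

/-- the degenerate pages -/
noncomputable def Pz (r : ℤ) : HomologicalComplex AddCommGrpCat.{u} (ComplexShape.up' (⟨r, 1 - r⟩ : ℤ × ℤ)) where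
  X pq := (T K pq.2).homology pq.1
  d _ _ := 0

/-- all pages -/
noncomputable def page (r : ℤ) : HomologicalComplex AddCommGrpCat.{u} (ComplexShape.up' (⟨r, 1 - r⟩ : ℤ × ℤ)) :=
  if h : r = 1 then h ▸ P1 K else Pz K r

lemma page_one : page K 1 = P1 K := dif_pos rfl
lemma page_ne {r : ℤ} (h : r ≠ 1) : page K r = Pz K r := dif_neg h

/-- homology of the first page -/
noncomputable def isoP1 (pq : ℤ × ℤ) : (P1 K).homology pq ≅ (T K pq.2).homology pq.1 :=
  (P1 K).homologyIsoSc' (pq.1 - 1, pq.2) pq (pq.1 + 1, pq.2)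
      (ComplexShape.prev_eq' _ (Prod.ext (by simp) (by simp)))
      (ComplexShape.next_eq' _ (Prod.ext (by simp) (by simp))) ≪≫
    ShortComplex.homologyMapIso (ShortComplex.isoMk (Iso.refl _) (Iso.refl _) (Iso.refl _)
      (by simp [P1]; exact (Category.id_comp _).trans (Category.comp_id _).symm)
      (by simp [P1]; exact (Category.id_comp _).trans (Category.comp_id _).symm) :
      (P1 K).sc' (pq.1 - 1, pq.2) pq (pq.1 + 1, pq.2) ≅ (T K pq.2).sc' (pq.1 - 1) pq.1 (pq.1 + 1)) ≪≫
    ((T K pq.2).homologyIsoSc' (pq.1 - 1) pq.1 (pq.1 + 1)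
      (ComplexShape.prev_eq' _ (by simp)) (ComplexShape.next_eq' _ (by simp))).symm

/-- homology of a degenerate page -/
noncomputable def isoPz (r : ℤ) (pq : ℤ × ℤ) : (Pz K r).homology pq ≅ (T K pq.2).homology pq.1 :=
  (ShortComplex.HomologyData.ofZeros ((Pz K r).sc pq) rfl rfl).left.homologyIso

/-- a spectral sequence from rows -/
noncomputable def E : CohomologicalSpectralSequence AddCommGrpCat.{u} 1 where
  page r _ := page K r
  iso r r' pq hrr' hr :=
    if h : r = 1 then
      eqToIso (by subst h; rw [page_one]) ≪≫ isoP1 K pq ≪≫ eqToIso (by rw [page_ne K (r := r') (by omega)]; rfl)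
    else
      eqToIso (by rw [page_ne K h]) ≪≫ isoPz K r pq ≪≫ eqToIso (by rw [page_ne K (r := r') (by omega)]; rfl)

lemma gr_isZero {X : AddCommGrpCat.{u}} (Z B : Subobject X) (h : B ≤ Z) (e : B = Z) : IsZero (SpSeq.subquot Z B h) := by
  subst e
  haveI : Epi (B.ofLE B h) := by rw [Subobject.ofLE_refl]; infer_instance
  exact isZero_cokernel_of_epi _

/-- the trivial filtration -/
noncomputable def fil (X : AddCommGrpCat.{u}) (p : ℤ) : Subobject X := if p ≤ 0 then ⊤ else ⊥

lemma fil_anti (X : AddCommGrpCat.{u}) : Antitone (fil X) := fun a b hab => by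
  unfold fil
  split_ifs <;> first | exact le_rfl | exact bot_le | omega

theorem exists_degenerate {H : ℤ → AddCommGrpCat.{u}} (hneg : ∀ n, n < 0 → IsZero (H n))
    (h0 : ∀ q : ℕ, Nonempty ((K q).homology 0 ≅ H q)) (hex : ∀ q p : ℕ, IsZero ((K q).homology (p + 1))) :
    ∃ (E : CohomologicalSpectralSequence AddCommGrpCat.{u} 1) (a : SpSeq.Abutment E H),
      (∀ n, a.IsFinite n) ∧ SpSeq.IsBounded E ∧
      ∀ p q : ℤ, Nonempty ((E.page 1 le_rfl).X (p, q) ≅
        (if 0 ≤ p ∧ 0 ≤ q then (K q.toNat).X p.toNat else AddCommGrpCat.of PUnit.{u + 1})) := by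
  have β : ∀ pq : ℤ × ℤ, Nonempty (((E K).page 2 (by omega)).X pq ≅
      SpSeq.grPiece (fil (H (pq.1 + pq.2))) (fil_anti _) pq.1) := by
    rintro ⟨p, q⟩
    refine ⟨eqToIso (show (page K 2).X (p, q) = (T K q).homology p by rw [page_ne K (by norm_num)]; rfl) ≪≫ ?_⟩
    refine Nonempty.some ?_
    by_cases hp : p = 0
    · subst hp
      by_cases hq : 0 ≤ q
      · obtain ⟨n, rfl⟩ := Int.eq_ofNat_of_zero_le hq
        refine ⟨eqToIso (by rw [T, if_pos (Int.natCast_nonneg n), Int.toNat_natCast]) ≪≫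
          (K n).extendHomologyIso ComplexShape.embeddingUpNat (j' := 0) (j := 0) (by simp) ≪≫ (h0 n).some ≪≫
          eqToIso (by simp) ≪≫ (asIso (⊤ : Subobject (H ((0 : ℤ) + (n : ℤ)))).arrow).symm ≪≫ ?_⟩
        have e1 : fil (H ((0 : ℤ) + (n : ℤ))) 0 = ⊤ := if_pos le_rfl
        have e2 : fil (H ((0 : ℤ) + (n : ℤ))) (0 + 1) = ⊥ := if_neg (by omega)
        refine eqToIso (congrArg (fun Z : Subobject _ => (Z : AddCommGrpCat.{u})) e1.symm) ≪≫
          (cokernelZeroIsoTarget).symm ≪≫ cokernelIsoOfEq (?_ : (0 : (fil (H ((0 : ℤ) + (n : ℤ))) (0 + 1) : AddCommGrpCat.{u}) ⟶ _) = _)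
        refine (IsZero.eq_of_src ?_ _ _)
        rw [e2]
        exact (isZero_zero _).of_iso Subobject.botCoeIsoZero
      · refine ⟨(T_isZero_homology K (Or.inr (by omega))).iso ?_⟩
        haveI : Epi ((fil (H ((0 : ℤ) + q)) (0 + 1)).ofLE (fil (H ((0 : ℤ) + q)) 0) (fil_anti _ (by omega))) :=
          ⟨fun g h _ => ((hneg _ (by omega)).of_mono (fil (H ((0 : ℤ) + q)) 0).arrow).eq_of_src g h⟩
        exact isZero_cokernel_of_epi _
    · refine ⟨IsZero.iso ?_ (gr_isZero _ _ _ ?_)⟩
      · by_cases hq : 0 ≤ q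
        · by_cases hp' : 0 ≤ p
          · obtain ⟨m, rfl⟩ : ∃ m : ℕ, p = (m + 1 : ℕ) := ⟨(p - 1).toNat, by omega⟩
            rw [T, if_pos hq]
            exact (hex q.toNat m).of_iso ((K q.toNat).extendHomologyIso ComplexShape.embeddingUpNat (by simp))
          · exact T_isZero_homology K (Or.inl (by omega))
        · exact T_isZero_homology K (Or.inr (by omega))
      · unfold fil
        split_ifs <;> first | rfl | omega
  refine ⟨E K, ⟨fun n => fil (H n), fun n => fil_anti _, fun _ => 2, fun pq => ⟨by norm_num, fun r h₀ hr => ?_⟩,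
    fun pq => (β pq).some⟩, fun n => ⟨⟨0, show fil (H n) 0 = ⊤ from if_pos le_rfl⟩, ⟨1, show fil (H n) 1 = ⊥ from if_neg (by omega)⟩⟩, fun n => ?_, fun p q => ?_⟩
  · change (page K r).d _ _ = 0 ∧ (page K r).d _ _ = 0
    rw [page_ne K (by omega : r ≠ 1)]
    exact ⟨rfl, rfl⟩
  · refine (Set.finite_Icc 0 n).subset fun p hp => ?_
    by_contra h
    simp only [Set.mem_Icc, not_and_or, not_le] at h
    refine hp ?_
    change IsZero ((page K 1).X (p, n - p))
    rw [page_one]
    exact T_isZero_X K (h.imp id (fun h => by omega))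
  · change Nonempty ((page K 1).X (p, q) ≅ _)
    rw [page_one]
    by_cases h : 0 ≤ p ∧ 0 ≤ q
    · rw [if_pos h]
      obtain ⟨m, rfl⟩ := Int.eq_ofNat_of_zero_le h.1
      exact ⟨eqToIso (show (T K q).X (m : ℤ) = _ by rw [T, if_pos h.2]) ≪≫
        (K q.toNat).extendXIso ComplexShape.embeddingUpNat (i := m) (by simp)⟩
    · rw [if_neg h]
      exact ⟨(T_isZero_X K (by omega)).iso (AddCommGrpCat.isZero_of_subsingleton _)⟩

end splice

section nerve
variable {O : Type*} [Category O] (Φ : Oᵒᵖ ⥤ AddCommGrpCat.{u}) (X : SimplicialObject.Augmented O)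

/-- values on a simplicial object, in the opposite category -/
noncomputable abbrev chainOp : ChainComplex AddCommGrpCat.{u}ᵒᵖ ℕ :=
  AlgebraicTopology.AlternatingFaceMapComplex.obj
    (SimplicialObject.Augmented.drop.obj (((SimplicialObject.Augmented.whiskering _ _).obj Φ.rightOp).obj X))

/-- the cochains -/
noncomputable def cochains : CochainComplex AddCommGrpCat.{u} ℕ := (chainOp Φ X).unop

theorem cochains_exact (ed : SimplicialObject.Augmented.ExtraDegeneracy X) (n : ℕ) :
    IsZero ((cochains Φ X).homology (n + 1)) := by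
  let h := (ed.map Φ.rightOp).homotopyEquiv
  have : QuasiIso h.hom := inferInstance
  have hx : (chainOp Φ X).ExactAt (n + 1) :=
    (quasiIsoAt_iff_exactAt' h.hom (n + 1) (ChainComplex.exactAt_succ_single_obj _ n)).1 inferInstance
  rw [← HomologicalComplex.exactAt_iff_isZero_homology,
    HomologicalComplex.exactAt_iff' _ n (n + 1) (n + 2) (by simp) (by simp)]
  rw [HomologicalComplex.exactAt_iff' _ (n + 2) (n + 1) n (by simp) (by simp)] at hx
  exact hx.unop

theorem cochains_zero (ed : SimplicialObject.Augmented.ExtraDegeneracy X) :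
    Nonempty ((cochains Φ X).homology 0 ≅ Φ.obj (op X.right)) := by
  let h := (ed.map Φ.rightOp).homotopyEquiv
  let e : (chainOp Φ X).homology 0 ≅ op (Φ.obj (op X.right)) :=
    h.toHomologyIso 0 ≪≫ HomologicalComplex.singleObjHomologySelfIso (ComplexShape.down ℕ) 0 _
  exact ⟨(chainOp Φ X).homologyUnop 0 ≪≫ e.symm.unop⟩

end nerve

end Groth.Agent.H5SplitSS
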