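import Groth.Agent.Lib.H5DescFun
import Groth.Agent.Lib.H5SplitSS
import Mathlib.AlgebraicTopology.CechNerve
import Mathlib.Topology.Category.TopCat.Limits.Basic

universe u

namespace Groth.Agent.H5DescSec
open CategoryTheory Limits Opposite TopologicalSpace Simplicial
set_option maxHeartbeats 800000

section overAug
variable {C : Type*} [Category C] (A : SimplicialObject.Augmented C)

/-- an augmented simplicial object seen over its point -/
noncomputable def overAug : SimplicialObject.Augmented (Over A.right) where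
  left :=
    { obj := fun n => Over.mk (A.hom.app n)
      map := fun {m n} g => Over.homMk (A.left.map g) (by simpa using A.hom.naturality g)
      map_id := fun n => by ext; exact A.left.map_id n
      map_comp := fun g h => by ext; exact A.left.map_comp g h }
  right := Over.mk (𝟙 A.right)
  hom :=
    { app := fun n => Over.homMk (A.hom.app n) (by exact Category.comp_id _)
      naturality := fun m n g => by ext; simpa using A.hom.naturality g }

/-- with its extra degeneracy -/
noncomputable def overED (ed : SimplicialObject.Augmented.ExtraDegeneracy A) :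
    SimplicialObject.Augmented.ExtraDegeneracy (overAug A) where
  s' := Over.homMk ed.s' ed.s'_comp_ε
  s n := Over.homMk (ed.s n) (by
    change ed.s n ≫ A.hom.app (op ⦋n + 1⦌) = A.hom.app (op ⦋n⦌)
    have h := A.hom.naturality (SimplexCategory.δ (0 : Fin (n + 2))).op
    have h' : A.left.δ 0 ≫ A.hom.app (op ⦋n⦌) = A.hom.app (op ⦋n + 1⦌) := h.trans (Category.comp_id _)
    rw [← h', ed.s_comp_δ₀_assoc])
  s'_comp_ε := by ext; exact ed.s'_comp_ε
  s₀_comp_δ₁ := by ext; exact ed.s₀_comp_δ₁
  s_comp_δ₀ n := by ext; exact ed.s_comp_δ₀ n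
  s_comp_δ n i := by ext; exact ed.s_comp_δ n i
  s_comp_σ n i := by ext; exact ed.s_comp_σ n i

end overAug

/-- inverse image along the identity -/
noncomputable def pullId (S : TopCat.{u}) : CohTop.pull (𝟙 S) ≅ 𝟭 (CohTop.Ab S) :=
  ((TopCat.Sheaf.pullbackPushforwardAdjunction AddCommGrpCat.{u} (𝟙 S)).ofNatIsoRight
    (NatIso.ofComponents (fun G => Iso.refl G) : CohTop.push (𝟙 S) ≅ 𝟭 (CohTop.Ab S))).leftAdjointUniq Adjunction.id

theorem descent_section {X S : TopCat.{u}} (f : X ⟶ S) (s : S ⟶ X) (hs : s ≫ f = 𝟙 S) (F : CohTop.Ab S) :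
    ∃ (E : CohomologicalSpectralSequence AddCommGrpCat.{u} 1)
      (a : SpSeq.Abutment E (fun n : ℤ =>
        if 0 ≤ n then AddCommGrpCat.of (CohTop.H F n.toNat) else AddCommGrpCat.of PUnit.{u + 1})),
      (∀ n, a.IsFinite n) ∧ SpSeq.IsBounded E ∧
      ∀ p q : ℤ, Nonempty ((E.page 1 le_rfl).X (p, q) ≅
        (if 0 ≤ p ∧ 0 ≤ q then
          AddCommGrpCat.of (CohTop.H ((CohTop.pull
            (WidePullback.base (fun _ : Fin (p.toNat + 1) => f) :
              widePullback S (fun _ : Fin (p.toNat + 1) => X) (fun _ => f) ⟶ S)).obj F) q.toNat)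
         else AddCommGrpCat.of PUnit.{u + 1})) := by
  let A := (Arrow.mk f).augmentedCechNerve
  let ed := overED A (Arrow.AugmentedCechNerve.extraDegeneracy (Arrow.mk f) ⟨s, hs⟩)
  let K : ℕ → CochainComplex AddCommGrpCat.{u} ℕ := fun q => H5SplitSS.cochains (H5DescFun.Φ F q) (overAug A)
  obtain ⟨E, a, h1, h2, h3⟩ := H5SplitSS.exists_degenerate K
    (H := fun n : ℤ => if 0 ≤ n then AddCommGrpCat.of (CohTop.H F n.toNat) else AddCommGrpCat.of PUnit.{u + 1})
    (fun n hn => by rw [if_neg (by omega)]; exact AddCommGrpCat.isZero_of_subsingleton _)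
    (fun q => by
      obtain ⟨e⟩ := H5SplitSS.cochains_zero (H5DescFun.Φ F q) (overAug A) ed
      obtain ⟨e'⟩ := H5DescFun.Φ_iso F q (Over.mk (𝟙 S))
      refine ⟨e ≪≫ e' ≪≫ ((Abelian.extFunctor.{u} q).obj (op _)).mapIso ((pullId S).app F) ≪≫
        eqToIso (by rw [if_pos (Int.natCast_nonneg q), Int.toNat_natCast]; rfl)⟩)
    (fun q p => H5SplitSS.cochains_exact (H5DescFun.Φ F q) (overAug A) ed p)
  refine ⟨E, a, h1, h2, fun p q => ?_⟩
  obtain ⟨e⟩ := h3 p q
  by_cases h : 0 ≤ p ∧ 0 ≤ q
  · rw [if_pos h] at e ⊢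
    exact ⟨e ≪≫ (H5DescFun.Φ_iso F q.toNat
      (Over.mk (WidePullback.base (fun _ : Fin (p.toNat + 1) => f) :
        widePullback S (fun _ : Fin (p.toNat + 1) => X) (fun _ => f) ⟶ S))).some⟩
  · rw [if_neg h] at e ⊢
    exact ⟨e⟩

end Groth.Agent.H5DescSec
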