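import Mathlib
set_option autoImplicit false
universe u v
open CategoryTheory CategoryTheory.Limits MonoidalCategory

namespace Groth.Agent.H5DualRetract
variable {A : Type u} [Category.{v} A] [MonoidalCategory A] [IsIdempotentComplete A]

theorem hasRightDual_retract {X X₁ : A} (i : X₁ ⟶ X) (p : X ⟶ X₁) (hip : i ≫ p = 𝟙 X₁) [HasRightDual X] :
    Nonempty (HasRightDual X₁) := by
  let e := p ≫ i
  have he : e ≫ e = e := by simp [e, reassoc_of% hip]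
  have he' : (eᘁ) ≫ (eᘁ) = (eᘁ) := by rw [← comp_rightAdjointMate, he]
  obtain ⟨Y₁, j, q, hjq, hqj⟩ := IsIdempotentComplete.idempotents_split (Xᘁ) (eᘁ) he'
  have hev : (eᘁ ▷ X) ≫ ε_ X (Xᘁ) = ((Xᘁ) ◁ e) ≫ ε_ X (Xᘁ) := rightAdjointMate_comp_evaluation e
  have hco : η_ X (Xᘁ) ≫ X ◁ (eᘁ) = η_ X (Xᘁ) ≫ e ▷ (Xᘁ) := coevaluation_comp_rightAdjointMate e
  let η₁ : 𝟙_ A ⟶ X₁ ⊗ Y₁ := η_ X (Xᘁ) ≫ (p ⊗ₘ q)
  let ε₁ : Y₁ ⊗ X₁ ⟶ 𝟙_ A := (j ⊗ₘ i) ≫ ε_ X (Xᘁ)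
  have hep : e ≫ p = p := by simp [e, hip]
  have hje : j ≫ (eᘁ) = j := by rw [← hqj, reassoc_of% hjq]
  have heq : (eᘁ) ≫ q = q := by rw [← hqj, Category.assoc, hjq, Category.comp_id]
  have d1 : η₁ ≫ X₁ ◁ j = η_ X (Xᘁ) ≫ p ▷ (Xᘁ) := by
    simp only [η₁, MonoidalCategory.tensorHom_def, Category.assoc, ← MonoidalCategory.whiskerLeft_comp, hqj]
    rw [← whisker_exchange, reassoc_of% hco, ← comp_whiskerRight, hep]
  have d2 : η₁ ≫ i ▷ Y₁ = η_ X (Xᘁ) ≫ X ◁ q := by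
    simp only [η₁, MonoidalCategory.tensorHom_def', Category.assoc, ← comp_whiskerRight]
    show η_ X (Xᘁ) ≫ X ◁ q ≫ e ▷ Y₁ = _
    rw [whisker_exchange, ← reassoc_of% hco, ← MonoidalCategory.whiskerLeft_comp, heq]
  have d3 : q ▷ X₁ ≫ ε₁ = (Xᘁ) ◁ i ≫ ε_ X (Xᘁ) := by
    simp only [ε₁, MonoidalCategory.tensorHom_def, ← Category.assoc, ← comp_whiskerRight, hqj]
    rw [← whisker_exchange, Category.assoc, hev, ← Category.assoc, ← MonoidalCategory.whiskerLeft_comp]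
    simp [e, reassoc_of% hip]
  have d4 : Y₁ ◁ p ≫ ε₁ = j ▷ X ≫ ε_ X (Xᘁ) := by
    simp only [ε₁, MonoidalCategory.tensorHom_def', ← Category.assoc, ← MonoidalCategory.whiskerLeft_comp]
    show (Y₁ ◁ e ≫ j ▷ X) ≫ _ = _
    rw [whisker_exchange, Category.assoc, ← hev, ← comp_whiskerRight_assoc, hje]
  clear_value η₁ ε₁
  have : IsSplitMono j := ⟨⟨⟨q, hjq⟩⟩⟩
  have : IsSplitMono i := ⟨⟨⟨p, hip⟩⟩⟩
  have hmi : Mono (i ▷ 𝟙_ A) :=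
    (IsSplitMono.mk' ⟨p ▷ 𝟙_ A, by rw [← comp_whiskerRight, hip, id_whiskerRight]⟩).mono
  have hmj : Mono (𝟙_ A ◁ j) :=
    (IsSplitMono.mk' ⟨𝟙_ A ◁ q, by rw [← MonoidalCategory.whiskerLeft_comp, hjq, MonoidalCategory.whiskerLeft_id]⟩).mono
  refine ⟨@HasRightDual.mk _ _ _ _ Y₁ ⟨η₁, ε₁, ?_, ?_⟩⟩
  · rw [← cancel_mono (𝟙_ A ◁ j)]
    calc (Y₁ ◁ η₁ ≫ (α_ _ _ _).inv ≫ ε₁ ▷ Y₁) ≫ 𝟙_ A ◁ j
        = Y₁ ◁ (η₁ ≫ X₁ ◁ j) ≫ (α_ _ _ _).inv ≫ ε₁ ▷ (Xᘁ) := by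
          rw [MonoidalCategory.whiskerLeft_comp, Category.assoc, Category.assoc, Category.assoc,
            associator_inv_naturality_right_assoc, whisker_exchange]
      _ = Y₁ ◁ η_ X (Xᘁ) ≫ (α_ _ _ _).inv ≫ (Y₁ ◁ p ≫ ε₁) ▷ (Xᘁ) := by
          rw [d1, MonoidalCategory.whiskerLeft_comp, Category.assoc, associator_inv_naturality_middle_assoc,
            ← comp_whiskerRight]
      _ = j ▷ 𝟙_ A ≫ (Xᘁ) ◁ η_ X (Xᘁ) ≫ (α_ _ _ _).inv ≫ ε_ X (Xᘁ) ▷ (Xᘁ) := by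
          rw [d4, comp_whiskerRight, ← associator_inv_naturality_left_assoc, whisker_exchange_assoc]
      _ = _ := by
          rw [ExactPairing.coevaluation_evaluation]
          simp
  · rw [← cancel_mono (i ▷ 𝟙_ A)]
    calc (η₁ ▷ X₁ ≫ (α_ _ _ _).hom ≫ X₁ ◁ ε₁) ≫ i ▷ 𝟙_ A
        = (η₁ ≫ i ▷ Y₁) ▷ X₁ ≫ (α_ _ _ _).hom ≫ X ◁ ε₁ := by
          rw [comp_whiskerRight, Category.assoc, Category.assoc, Category.assoc,
            associator_naturality_left_assoc, whisker_exchange]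
      _ = η_ X (Xᘁ) ▷ X₁ ≫ (α_ _ _ _).hom ≫ X ◁ (q ▷ X₁ ≫ ε₁) := by
          rw [d2, comp_whiskerRight, Category.assoc, associator_naturality_middle_assoc,
            ← MonoidalCategory.whiskerLeft_comp]
      _ = 𝟙_ A ◁ i ≫ η_ X (Xᘁ) ▷ X ≫ (α_ _ _ _).hom ≫ X ◁ ε_ X (Xᘁ) := by
          rw [d3, MonoidalCategory.whiskerLeft_comp, ← associator_naturality_right_assoc, ← whisker_exchange_assoc]
      _ = _ := by
          rw [ExactPairing.evaluation_coevaluation]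
          simp

end Groth.Agent.H5DualRetract
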