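import Groth.Agent.Lib.H5Leray
import Groth.Prelude.Def_CechEdge
universe u
open CategoryTheory CategoryTheory.Limits Opposite Abelian
namespace Groth.Agent.H5Edge
set_option maxHeartbeats 600000

instance enoughInjectivesPresheaf {C : Type u} [SmallCategory C] : EnoughInjectives (Cᵒᵖ ⥤ AddCommGrpCat.{u}) :=
  haveI : IsGrothendieckAbelian.{u} (Cᵒᵖ ⥤ AddCommGrpCat.{u}) :=
    IsGrothendieckAbelian.of_equivalence (sheafBotEquivalence AddCommGrpCat.{u})
  inferInstance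

lemma exists_lift {A B T : Type*} [AddCommGroup A] [AddCommGroup B] [AddCommGroup T] (d : A →+ B)
    (hd : Function.Surjective d) (t : A →+ T) (h : ∀ x, d x = 0 → t x = 0) : ∃ f : B →+ T, ∀ x, f (d x) = t x :=
  ⟨d.liftOfSurjective hd ⟨t, h⟩, fun x => AddMonoidHom.liftOfRightInverse_comp_apply _ _ _ ⟨t, h⟩ x⟩

variable {C : Type u} [SmallCategory C] [HasPullbacks C] {J : GrothendieckTopology C} {U : C} {ι : Type u} (Y : ι → Over U)

lemma toCech_nat {P Q : Cᵒᵖ ⥤ AddCommGrpCat.{u}} (φ : P ⟶ Q) (s : P.obj (op U)) :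
    CechEdge.cechHMap Y φ 0 (CechEdge.toCech Y P s) = CechEdge.toCech Y Q (φ.app (op U) s) := by
  have h : (CechEdge.toCycles P Y ≫ (CechEdge.cx P Y).homologyπ 0) ≫ HomologicalComplex.homologyMap ((CechEdge.cxFunctor Y).map φ) 0 =
      φ.app (op U) ≫ CechEdge.toCycles Q Y ≫ (CechEdge.cx Q Y).homologyπ 0 := by
    rw [Category.assoc]
    erw [HomologicalComplex.homologyπ_naturality]
    rw [← Category.assoc, ← Category.assoc]
    congr 1
    erw [HomologicalComplex.liftCycles_comp_cyclesMap]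
    rw [← cancel_mono ((CechEdge.cx Q Y).iCycles 0), Category.assoc]
    erw [HomologicalComplex.liftCycles_i, HomologicalComplex.liftCycles_i]
    ext x
    refine H5Cech.coord_ext Y Q fun a => ?_
    refine (H5Cech.coord_map Y P φ (CechEdge.toCech₀ P Y x) a).trans ?_
    refine (congrArg (φ.app _) (Pi.lift_π_apply (f := fun i : Fin 1 → ι => P.obj (op (H5Cech.W Y i).left)) _ a x)).trans ?_
    refine Eq.trans ?_ (Pi.lift_π_apply (f := fun i : Fin 1 → ι => Q.obj (op (H5Cech.W Y i).left)) _ a (φ.app (op U) x)).symm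
    exact NatTrans.naturality_apply φ _ x
  exact ConcreteCategory.congr_hom h s

lemma toCech_eq_β (F : Sheaf J AddCommGrpCat.{u}) : CechEdge.toCech Y F.obj = (H5Leray.β Y F).hom := by
  have h : CechEdge.toCech₀ F.obj Y = H5Leray.σ Y F := by
    ext x
    refine H5Cech.coord_ext Y F.obj fun a => ?_
    exact (Pi.lift_π_apply (f := fun i : Fin 1 → ι => F.obj.obj (op (H5Cech.W Y i).left)) _ a x).trans
      (H5Leray.coord_σ Y F x a).symm
  have h2 : CechEdge.toCycles F.obj Y = (H5Cech.cplx Y F.obj).liftCycles (H5Leray.σ Y F) 1 (by simp) (H5Leray.σ_d Y F) := by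
    rw [← cancel_mono ((CechEdge.cx F.obj Y).iCycles 0), CechEdge.toCycles_i, h]
    exact ((H5Cech.cplx Y F.obj).liftCycles_i _ _ _ _).symm
  unfold CechEdge.toCech H5Leray.β
  rw [h2]

/-- sheaf: toCech bijective -/
lemma toCech_bijective (hY : Sieve.ofArrows (fun i => (Y i).left) (fun i => (Y i).hom) ∈ J U)
    (F : Sheaf J AddCommGrpCat.{u}) : Function.Bijective (CechEdge.toCech Y F.obj) := by
  rw [toCech_eq_β]
  exact H5Leray.β_bijective Y hY F

lemma cx_shortExact (S : ShortComplex (Cᵒᵖ ⥤ AddCommGrpCat.{u})) (hS : S.ShortExact) :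
    (S.map (CechEdge.cxFunctor Y)).ShortExact := by
  have hW : ∀ V : C, (S.map ((evaluation Cᵒᵖ AddCommGrpCat.{u}).obj (op V))).ShortExact := fun V => hS.map_of_exact _
  refine HomologicalComplex.shortExact_of_degreewise_shortExact _ fun n => ?_
  refine { exact := ?_, mono_f := ?_, epi_g := ?_ }
  · rw [ShortComplex.ab_exact_iff]
    intro c hc
    choose e he using fun a : Fin (n + 1) → ι => (ShortComplex.ab_exact_iff _).1 (hW (H5Cech.W Y a).left).exact
      (H5Cech.coord Y _ a c) (by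
        exact (H5Cech.coord_map Y _ S.g c a).symm.trans ((congrArg (H5Cech.coord Y _ a) hc).trans (map_zero _)))
    exact ⟨H5Cech.mk Y _ e, H5Cech.coord_ext Y _ fun a => by erw [H5Cech.coord_map, H5Cech.coord_mk]; exact he a⟩
  · rw [AddCommGrpCat.mono_iff_injective]
    intro a b hab
    refine H5Cech.coord_ext Y _ fun z => (AddCommGrpCat.mono_iff_injective _).1 (hW (H5Cech.W Y z).left).mono_f ?_
    have := congrArg (fun q => H5Cech.coord Y _ z q) hab
    erw [H5Cech.coord_map, H5Cech.coord_map] at this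
    exact this
  · rw [AddCommGrpCat.epi_iff_surjective]
    intro c
    choose e he using fun a : Fin (n + 1) → ι =>
      (AddCommGrpCat.epi_iff_surjective _).1 (hW (H5Cech.W Y a).left).epi_g (H5Cech.coord Y _ a c)
    exact ⟨H5Cech.mk Y _ e, H5Cech.coord_ext Y _ fun a => by erw [H5Cech.coord_map, H5Cech.coord_mk]; exact he a⟩

/-- Cech connecting map -/
noncomputable def dC {S : ShortComplex (Cᵒᵖ ⥤ AddCommGrpCat.{u})} (hS : S.ShortExact) (p : ℕ) :
    CohCx.cechH S.X₃ Y p →+ CohCx.cechH S.X₁ Y (p + 1) :=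
  ((cx_shortExact Y S hS).δ p (p + 1) rfl).hom

lemma dC_nat {S S' : ShortComplex (Cᵒᵖ ⥤ AddCommGrpCat.{u})} (hS : S.ShortExact) (hS' : S'.ShortExact)
    (Φ : S ⟶ S') (p : ℕ) (x : CohCx.cechH S.X₃ Y p) :
    CechEdge.cechHMap Y Φ.τ₁ (p + 1) (dC Y hS p x) = dC Y hS' p (CechEdge.cechHMap Y Φ.τ₃ p x) :=
  ConcreteCategory.congr_hom
    (HomologicalComplex.HomologySequence.δ_naturality ((CechEdge.cxFunctor Y).mapShortComplex.map Φ)
      (cx_shortExact Y S hS) (cx_shortExact Y S' hS') p (p + 1) rfl) x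

lemma dC_exact {S : ShortComplex (Cᵒᵖ ⥤ AddCommGrpCat.{u})} (hS : S.ShortExact) (p : ℕ) (x : CohCx.cechH S.X₃ Y p)
    (hx : dC Y hS p x = 0) : ∃ y, CechEdge.cechHMap Y S.g p y = x :=
  (ShortComplex.ab_exact_iff _).1 ((cx_shortExact Y S hS).homology_exact₃ p (p + 1) rfl) x hx

lemma dC_map {S : ShortComplex (Cᵒᵖ ⥤ AddCommGrpCat.{u})} (hS : S.ShortExact) (p : ℕ) (y : CohCx.cechH S.X₂ Y p) :
    dC Y hS p (CechEdge.cechHMap Y S.g p y) = 0 :=
  ConcreteCategory.congr_hom ((cx_shortExact Y S hS).comp_δ p (p + 1) rfl) y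

lemma dC_surjective {S : ShortComplex (Cᵒᵖ ⥤ AddCommGrpCat.{u})} (hS : S.ShortExact) [Injective S.X₂] (p : ℕ) :
    Function.Surjective (dC Y hS p) := fun z =>
  (ShortComplex.ab_exact_iff _).1 ((cx_shortExact Y S hS).homology_exact₁ p (p + 1) rfl) z
    ((AddCommGrpCat.subsingleton_of_isZero
      ((H5Cech.isZero_cechH_iff Y S.X₂ p).2 (H5Cech.exactAt_of_injective Y S.X₂ p))).elim _ _)

/-- presheaf injective sequence -/
noncomputable abbrev injP (P : Cᵒᵖ ⥤ AddCommGrpCat.{u}) : ShortComplex (Cᵒᵖ ⥤ AddCommGrpCat.{u}) :=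
  ShortComplex.mk (Injective.ι P) (cokernel.π _) (cokernel.condition _)

lemma injP_shortExact (P : Cᵒᵖ ⥤ AddCommGrpCat.{u}) : (injP P).ShortExact :=
  { exact := ShortComplex.exact_of_g_is_cokernel _ (cokernelIsCokernel _)
    mono_f := inferInstanceAs (Mono (Injective.ι P))
    epi_g := inferInstanceAs (Epi (cokernel.π _)) }

instance (P : Cᵒᵖ ⥤ AddCommGrpCat.{u}) : Injective (injP P).X₂ := inferInstanceAs (Injective (Injective.under P))

lemma exists_toInjP (S : ShortComplex (Cᵒᵖ ⥤ AddCommGrpCat.{u})) (hS : S.ShortExact)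
    (P : Cᵒᵖ ⥤ AddCommGrpCat.{u}) (φ : S.X₁ ⟶ P) :
    ∃ Φ : S ⟶ injP P, Φ.τ₁ = φ := by
  have := hS.mono_f
  have := hS.epi_g
  let τ₂ : S.X₂ ⟶ (injP P).X₂ := Injective.factorThru (φ ≫ Injective.ι P) S.f
  have h₁ : φ ≫ (injP P).f = S.f ≫ τ₂ := (Injective.comp_factorThru _ _).symm
  have h₀ : S.f ≫ τ₂ ≫ (injP P).g = 0 := by
    rw [← Category.assoc, ← h₁, Category.assoc, (injP P).zero, comp_zero]
  exact ⟨{ τ₁ := φ, τ₂ := τ₂, τ₃ := hS.exact.desc _ h₀, comm₁₂ := h₁, comm₂₃ := (hS.exact.g_desc _ h₀).symm }, rfl⟩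

lemma HUmap_apply {F G : Sheaf J AddCommGrpCat.{u}} (ψ : F ⟶ G) (p : ℕ) (x : CohSite.HU F p U) :
    CechEdge.HUmap ψ p U x = x.comp (Ext.mk₀ ψ) (add_zero p) := rfl

lemma HUmap_comp {F G H : Sheaf J AddCommGrpCat.{u}} (ψ : F ⟶ G) (χ : G ⟶ H) (p : ℕ) (x : CohSite.HU F p U) :
    CechEdge.HUmap (ψ ≫ χ) p U x = CechEdge.HUmap χ p U (CechEdge.HUmap ψ p U x) := by
  rw [HUmap_apply, HUmap_apply, HUmap_apply, Ext.comp_assoc_of_second_deg_zero, Ext.mk₀_comp_mk₀]

lemma HUmap_injective {F G : Sheaf J AddCommGrpCat.{u}} (ψ : F ⟶ G) [IsIso ψ] (p : ℕ) :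
    Function.Bijective (CechEdge.HUmap ψ p U) := by
  refine ⟨fun a b h => ?_, fun b => ⟨CechEdge.HUmap (inv ψ) p U b, ?_⟩⟩
  · have := congrArg (CechEdge.HUmap (inv ψ) p U) h
    rw [← HUmap_comp, ← HUmap_comp, IsIso.hom_inv_id, HUmap_apply, HUmap_apply] at this
    simpa using this
  · rw [← HUmap_comp, IsIso.inv_hom_id, HUmap_apply, Ext.comp_mk₀_id]

lemma sectH0_nat {F G : Sheaf J AddCommGrpCat.{u}} (ψ : F ⟶ G) (t : F.obj.obj (op U)) :
    CechEdge.HUmap ψ 0 U (CechEdge.sectH0 J U F t) = CechEdge.sectH0 J U G (ψ.hom.app (op U) t) := by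
  obtain ⟨φ, rfl⟩ := (CohFree.homEquivSect J U F).surjective t
  have e : ∀ {H : Sheaf J AddCommGrpCat.{u}} (χ : CohCx.freeSheaf J U ⟶ H),
      CechEdge.sectH0 J U H (CohFree.homEquivSect J U H χ) = Ext.mk₀ χ := by
    intro H χ
    refine ((AddEquiv.symm_apply_eq _).2 ?_)
    exact congrArg (CohFree.homEquivSect J U H) (Ext.addEquiv₀.apply_symm_apply χ).symm
  rw [e, HUmap_apply, Ext.mk₀_comp_mk₀]
  exact (e (φ ≫ ψ)).symm

lemma extδ_nat {S S' : ShortComplex (Sheaf J AddCommGrpCat.{u})} (hS : S.ShortExact) (hS' : S'.ShortExact)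
    (Φ : S ⟶ S') (p : ℕ) (x : CohSite.HU S.X₃ p U) :
    CechEdge.HUmap Φ.τ₁ (p + 1) U (CechEdge.extδ hS U p x) = CechEdge.extδ hS' U p (CechEdge.HUmap Φ.τ₃ p U x) := by
  rw [HUmap_apply, HUmap_apply]
  change (x.comp hS.extClass rfl).comp (Ext.mk₀ Φ.τ₁) (add_zero (p + 1)) =
    (x.comp (Ext.mk₀ Φ.τ₃) (add_zero p)).comp hS'.extClass rfl
  rw [Ext.comp_assoc_of_third_deg_zero, ShortComplex.ShortExact.extClass_naturality hS hS' Φ,
    Ext.comp_assoc_of_second_deg_zero]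

lemma extδ_map {S : ShortComplex (Sheaf J AddCommGrpCat.{u})} (hS : S.ShortExact) (p : ℕ) (y : CohSite.HU S.X₂ p U) :
    CechEdge.extδ hS U p (CechEdge.HUmap S.g p U y) = 0 := by
  rw [HUmap_apply]
  change (y.comp (Ext.mk₀ S.g) (add_zero p)).comp hS.extClass rfl = 0
  rw [Ext.comp_assoc_of_second_deg_zero, ShortComplex.ShortExact.comp_extClass, Ext.comp_zero]

lemma extδ_exact {S : ShortComplex (Sheaf J AddCommGrpCat.{u})} (hS : S.ShortExact) (p : ℕ) (x : CohSite.HU S.X₃ p U)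
    (hx : CechEdge.extδ hS U p x = 0) : ∃ y, CechEdge.HUmap S.g p U y = x :=
  Ext.covariant_sequence_exact₃ _ hS x rfl hx

lemma extδ_surjective {S : ShortComplex (Sheaf J AddCommGrpCat.{u})} (hS : S.ShortExact) [Injective S.X₂] (p : ℕ) :
    Function.Surjective (CechEdge.extδ hS U p) := fun z =>
  Ext.covariant_sequence_exact₁ _ hS z (Ext.eq_zero_of_injective _) rfl

variable (J)

/-- sheafified sequences -/
lemma shf_shortExact {S : ShortComplex (Cᵒᵖ ⥤ AddCommGrpCat.{u})} (hS : S.ShortExact) :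
    (S.map (presheafToSheaf J AddCommGrpCat.{u})).ShortExact := hS.map_of_exact _

section exists_
variable (hY : Sieve.ofArrows (fun i => (Y i).left) (fun i => (Y i).hom) ∈ J U)

abbrev Deg (p : ℕ) := ∀ P : Cᵒᵖ ⥤ AddCommGrpCat.{u}, CohCx.cechH P Y p →+ CohSite.HU (CechEdge.shf J P) p U

def Nat' {p : ℕ} (e : Deg J Y p) : Prop :=
  ∀ (P Q : Cᵒᵖ ⥤ AddCommGrpCat.{u}) (φ : P ⟶ Q) (x : CohCx.cechH P Y p),
    e Q (CechEdge.cechHMap Y φ p x) = CechEdge.HUmap (CechEdge.shfMap J φ) p U (e P x)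

def Compat {p : ℕ} (e : Deg J Y p) (e' : Deg J Y (p + 1)) : Prop :=
  ∀ (S : ShortComplex (Cᵒᵖ ⥤ AddCommGrpCat.{u})) (hS : S.ShortExact) (x : CohCx.cechH S.X₃ Y p),
    e' S.X₁ (dC Y hS p x) = CechEdge.extδ (shf_shortExact J hS) U p (e S.X₃ x)

include hY in
lemma exists_zero : ∃ e : Deg J Y 0, Nat' J Y e ∧ ∀ (P : Cᵒᵖ ⥤ AddCommGrpCat.{u}) (s : P.obj (op U)),
    e P (CechEdge.toCech Y P s) = CechEdge.sectH0 J U (CechEdge.shf J P) (((toSheafify J P).app (op U)).hom s) := by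
  let b : ∀ F : Sheaf J AddCommGrpCat.{u}, F.obj.obj (op U) ≃+ CohCx.cechH F.obj Y 0 := fun F =>
    AddEquiv.ofBijective _ (toCech_bijective Y hY F)
  refine ⟨fun P => ((CechEdge.sectH0 J U (CechEdge.shf J P)).toAddMonoidHom.comp
    (b (CechEdge.shf J P)).symm.toAddMonoidHom).comp (CechEdge.cechHMap Y (toSheafify J P) 0), ?_, ?_⟩
  · intro P Q φ x
    change CechEdge.sectH0 J U _ ((b _).symm (CechEdge.cechHMap Y (toSheafify J Q) 0 (CechEdge.cechHMap Y φ 0 x))) =
      CechEdge.HUmap _ 0 U (CechEdge.sectH0 J U _ ((b _).symm (CechEdge.cechHMap Y (toSheafify J P) 0 x)))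
    rw [sectH0_nat]
    congr 1
    rw [AddEquiv.symm_apply_eq]
    obtain ⟨t, ht⟩ := (b (CechEdge.shf J P)).surjective (CechEdge.cechHMap Y (toSheafify J P) 0 x)
    rw [← ht, AddEquiv.symm_apply_apply]
    refine Eq.trans ?_ (toCech_nat Y (CechEdge.shfMap J φ).hom t)
    change _ = CechEdge.cechHMap Y (CechEdge.shfMap J φ).hom 0 (b _ t)
    rw [ht]
    have := congrArg (fun f => HomologicalComplex.homologyMap ((CechEdge.cxFunctor Y).map f) 0) (toSheafify_naturality J φ)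
    simp only [Functor.map_comp, HomologicalComplex.homologyMap_comp] at this
    exact ConcreteCategory.congr_hom this x
  · intro P s
    exact congrArg (CechEdge.sectH0 J U (CechEdge.shf J P))
      ((AddEquiv.symm_apply_eq (b (CechEdge.shf J P))).2 (toCech_nat Y (toSheafify J P) s))

lemma exists_succ {p : ℕ} (e : Deg J Y p) (he : Nat' J Y e) :
    ∃ e' : Deg J Y (p + 1), Nat' J Y e' ∧ Compat J Y e e' := by
  have hex : ∀ P : Cᵒᵖ ⥤ AddCommGrpCat.{u}, ∃ f : CohCx.cechH P Y (p + 1) →+ CohSite.HU (CechEdge.shf J P) (p + 1) U,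
      ∀ x, f (dC Y (injP_shortExact P) p x) =
        CechEdge.extδ (shf_shortExact J (injP_shortExact P)) U p (e (injP P).X₃ x) := fun P =>
    exists_lift (dC Y (injP_shortExact P) p) (dC_surjective Y (injP_shortExact P) p)
      (AddMonoidHom.mk' (fun x => CechEdge.extδ (shf_shortExact J (injP_shortExact P)) U p (e (injP P).X₃ x))
        (fun x y => by erw [map_add, map_add]))
      (fun x hx => by
        obtain ⟨y, rfl⟩ := dC_exact Y (injP_shortExact P) p x hx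
        exact (congrArg (CechEdge.extδ (shf_shortExact J (injP_shortExact P)) U p) (he _ _ (injP P).g y)).trans
          (extδ_map (shf_shortExact J (injP_shortExact P)) p (e (injP P).X₂ y)))
  choose e' he' using hex
  have key : ∀ (S : ShortComplex (Cᵒᵖ ⥤ AddCommGrpCat.{u})) (hS : S.ShortExact) (P : Cᵒᵖ ⥤ AddCommGrpCat.{u})
      (φ : S.X₁ ⟶ P) (x : CohCx.cechH S.X₃ Y p), e' P (CechEdge.cechHMap Y φ (p + 1) (dC Y hS p x)) =
        CechEdge.HUmap (CechEdge.shfMap J φ) (p + 1) U (CechEdge.extδ (shf_shortExact J hS) U p (e S.X₃ x)) := by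
    intro S hS P φ x
    obtain ⟨Φ, hΦ⟩ := exists_toInjP S hS P φ
    subst hΦ
    refine (congrArg (e' P) (dC_nat Y hS (injP_shortExact P) Φ p x)).trans ?_
    refine (he' P (CechEdge.cechHMap Y Φ.τ₃ p x)).trans ?_
    refine (congrArg (CechEdge.extδ (shf_shortExact J (injP_shortExact P)) U p) (he _ _ Φ.τ₃ x)).trans ?_
    exact (extδ_nat (shf_shortExact J hS) (shf_shortExact J (injP_shortExact P))
      ((presheafToSheaf J AddCommGrpCat.{u}).mapShortComplex.map Φ) p (e S.X₃ x)).symm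
  refine ⟨e', fun P Q φ x => ?_, fun S hS x => ?_⟩
  · obtain ⟨x, rfl⟩ := dC_surjective Y (injP_shortExact P) p x
    exact (key (injP P) (injP_shortExact P) Q φ x).trans
      (congrArg (CechEdge.HUmap (CechEdge.shfMap J φ) (p + 1) U) (he' P x)).symm
  · have h := key S hS S.X₁ (𝟙 S.X₁) x
    have e1 : CechEdge.cechHMap Y (𝟙 S.X₁) (p + 1) (dC Y hS p x) = dC Y hS p x := by
      simp [CechEdge.cechHMap]
    rw [e1] at h
    refine h.trans ?_
    refine (congrArg (fun f => CechEdge.HUmap f (p + 1) U (CechEdge.extδ (shf_shortExact J hS) U p (e S.X₃ x)))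
      ((presheafToSheaf J AddCommGrpCat.{u}).map_id S.X₁)).trans ?_
    exact Ext.comp_mk₀_id _

include hY in
theorem exists_isEdge :
    ∃ e : ∀ (P : Cᵒᵖ ⥤ AddCommGrpCat.{u}) (p : ℕ), CohCx.cechH P Y p →+ CohSite.HU (CechEdge.shf J P) p U,
      CechEdge.IsEdge J Y e := by
  obtain ⟨e₀, h₀, hz⟩ := exists_zero J Y hY
  choose f hf₁ hf₂ using fun (p : ℕ) (e : {e : Deg J Y p // Nat' J Y e}) => exists_succ J Y e.1 e.2
  let F : ∀ p, {e : Deg J Y p // Nat' J Y e} := fun p =>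
    Nat.rec (motive := fun p => {e : Deg J Y p // Nat' J Y e}) ⟨e₀, h₀⟩ (fun p e => ⟨f p e, hf₁ p e⟩) p
  exact ⟨fun P p => (F p).1 P, hY, hz, fun P Q φ p x => (F p).2 P Q φ x,
    fun S hS hC p x => hf₂ p (F p) S hS x⟩

end exists_

variable {J} {Y}

theorem isEdge_unique {e e' : ∀ (P : Cᵒᵖ ⥤ AddCommGrpCat.{u}) (p : ℕ), CohCx.cechH P Y p →+ CohSite.HU (CechEdge.shf J P) p U}
    (he : CechEdge.IsEdge J Y e) (he' : CechEdge.IsEdge J Y e') : e = e' := by
  suffices h : ∀ p P x, e P p x = e' P p x from funext fun P => funext fun p => AddMonoidHom.ext (h p P)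
  intro p
  induction p with
  | zero =>
    intro P x
    apply (HUmap_injective (CechEdge.shfMap J (toSheafify J P)) 0).1
    rw [← he.natural, ← he'.natural]
    obtain ⟨t, ht⟩ := (toCech_bijective Y he.cover (CechEdge.shf J P)).2 (CechEdge.cechHMap Y (toSheafify J P) 0 x)
    exact (congrArg (e _ 0) ht.symm).trans ((he.zero _ t).trans ((he'.zero _ t).symm.trans (congrArg (e' _ 0) ht)))
  | succ p ih =>
    intro P x
    obtain ⟨x, rfl⟩ := dC_surjective Y (injP_shortExact P) p x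
    refine (he.delta (injP P) (injP_shortExact P) (cx_shortExact Y _ (injP_shortExact P)) p x).trans ?_
    refine Eq.trans ?_ (he'.delta (injP P) (injP_shortExact P) (cx_shortExact Y _ (injP_shortExact P)) p x).symm
    exact congrArg (CechEdge.extδ (shf_shortExact J (injP_shortExact P)) U p) (ih (injP P).X₃ x)

end Groth.Agent.H5Edge
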