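import Groth.Agent.Lib.H5Edge
import Groth.Prelude
universe u
open CategoryTheory CategoryTheory.Limits Opposite Abelian
namespace Groth.Agent.H5Edge2
set_option maxHeartbeats 600000

variable {C : Type u} [SmallCategory C] [HasPullbacks C] {J : GrothendieckTopology C} {U : C} {ι : Type u} {Y : ι → Over U}
  {e : ∀ (P : Cᵒᵖ ⥤ AddCommGrpCat.{u}) (p : ℕ), CohCx.cechH P Y p →+ CohSite.HU (CechEdge.shf J P) p U}

lemma edgeSh_apply (F : Sheaf J AddCommGrpCat.{u}) (p : ℕ) (x : CohCx.cechH F.obj Y p) :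
    CechEdge.edgeSh e F p x =
      CechEdge.HUmap ((sheafificationAdjunction J AddCommGrpCat.{u}).counit.app F) p U (e F.obj p x) := rfl

lemma unit_counit (F : Sheaf J AddCommGrpCat.{u}) :
    toSheafify J F.obj ≫ ((sheafificationAdjunction J AddCommGrpCat.{u}).counit.app F).hom = 𝟙 F.obj := by
  have := (sheafificationAdjunction J AddCommGrpCat.{u}).right_triangle_components F
  rw [sheafificationAdjunction_unit_app] at this
  exact this

lemma edgeSh_toCech (he : CechEdge.IsEdge J Y e) (F : Sheaf J AddCommGrpCat.{u}) (s : F.obj.obj (op U)) :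
    CechEdge.edgeSh e F 0 (CechEdge.toCech Y F.obj s) = CechEdge.sectH0 J U F s := by
  rw [edgeSh_apply, he.zero]
  refine (H5Edge.sectH0_nat _ _).trans ?_
  exact congrArg (CechEdge.sectH0 J U F) (ConcreteCategory.congr_hom (congr_app (unit_counit F) (op U)) s)

lemma edgeSh_zero_bijective (he : CechEdge.IsEdge J Y e) (F : Sheaf J AddCommGrpCat.{u}) :
    Function.Bijective (CechEdge.edgeSh e F 0) := by
  have hb := H5Edge.toCech_bijective Y he.cover F
  refine ⟨fun x y h => ?_, fun z => ?_⟩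
  · obtain ⟨s, rfl⟩ := hb.2 x
    obtain ⟨t, rfl⟩ := hb.2 y
    rw [edgeSh_toCech he, edgeSh_toCech he] at h
    rw [(CechEdge.sectH0 J U F).injective h]
  · obtain ⟨s, rfl⟩ := (CechEdge.sectH0 J U F).surjective z
    exact ⟨_, edgeSh_toCech he F s⟩

lemma edgeSh_nat (he : CechEdge.IsEdge J Y e) {F G : Sheaf J AddCommGrpCat.{u}} (g : F ⟶ G) (p : ℕ)
    (x : CohCx.cechH F.obj Y p) :
    CechEdge.edgeSh e G p (CechEdge.cechHMap Y g.hom p x) = CechEdge.HUmap g p U (CechEdge.edgeSh e F p x) := by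
  rw [edgeSh_apply, edgeSh_apply, he.natural, ← H5Edge.HUmap_comp, ← H5Edge.HUmap_comp]
  exact congrArg (fun f => CechEdge.HUmap f p U (e F.obj p x))
    ((sheafificationAdjunction J AddCommGrpCat.{u}).counit.naturality g)

/-- presheaf quotient sequence -/
noncomputable abbrev qseq (S : ShortComplex (Sheaf J AddCommGrpCat.{u})) : ShortComplex (Cᵒᵖ ⥤ AddCommGrpCat.{u}) :=
  ShortComplex.mk S.f.hom (cokernel.π S.f.hom) (cokernel.condition _)

lemma zero_hom (S : ShortComplex (Sheaf J AddCommGrpCat.{u})) : S.f.hom ≫ S.g.hom = 0 :=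
  congrArg InducedCategory.Hom.hom S.zero

/-- comparison with the sheaf quotient -/
noncomputable abbrev psi (S : ShortComplex (Sheaf J AddCommGrpCat.{u})) : (qseq S).X₃ ⟶ S.X₃.obj :=
  cokernel.desc S.f.hom S.g.hom (zero_hom S)

lemma qseq_shortExact (S : ShortComplex (Sheaf J AddCommGrpCat.{u})) (hS : S.ShortExact) : (qseq S).ShortExact :=
  haveI := hS.mono_f
  { exact := ShortComplex.exact_of_g_is_cokernel _ (cokernelIsCokernel _)
    mono_f := inferInstanceAs (Mono ((sheafToPresheaf J AddCommGrpCat.{u}).map S.f))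
    epi_g := inferInstanceAs (Epi (cokernel.π _)) }

lemma psi_π (S : ShortComplex (Sheaf J AddCommGrpCat.{u})) {V : C} (y : S.X₂.obj.obj (op V)) :
    (psi S).app (op V) ((qseq S).g.app (op V) y) = S.g.hom.app (op V) y :=
  ConcreteCategory.congr_hom (congr_app (cokernel.π_desc S.f.hom S.g.hom (zero_hom S)) (op V)) y

lemma psi_injective (S : ShortComplex (Sheaf J AddCommGrpCat.{u})) (hS : S.ShortExact) (V : C) :
    Function.Injective ((psi S).app (op V)) := by
  rw [injective_iff_map_eq_zero]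
  intro q hq
  have hV := (qseq_shortExact S hS).map_of_exact ((evaluation Cᵒᵖ AddCommGrpCat.{u}).obj (op V))
  obtain ⟨y, rfl⟩ := (AddCommGrpCat.epi_iff_surjective _).1 hV.epi_g q
  obtain ⟨x, rfl⟩ := H5Cech.sections_exact S hS y ((psi_π S y).symm.trans hq)
  exact ConcreteCategory.congr_hom (congr_app (qseq S).zero (op V)) x

lemma psi_H0_injective (S : ShortComplex (Sheaf J AddCommGrpCat.{u})) (hS : S.ShortExact) :
    Function.Injective (CechEdge.cechHMap Y (psi S) 0) := by
  let φ := (CechEdge.cxFunctor Y).map (psi S)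
  have h0 : Function.Injective (φ.f 0) := by
    intro a b hab
    refine H5Cech.coord_ext Y _ fun z => psi_injective S hS _ ?_
    have := congrArg (fun q => H5Cech.coord Y _ z q) hab
    erw [H5Cech.coord_map, H5Cech.coord_map] at this
    exact this
  have hc : Function.Injective (HomologicalComplex.cyclesMap φ 0) := by
    intro a b hab
    refine (AddCommGrpCat.mono_iff_injective ((CechEdge.cx (qseq S).X₃ Y).iCycles 0)).1 inferInstance (h0 ?_)
    have e1 := fun z => ConcreteCategory.congr_hom (HomologicalComplex.cyclesMap_i φ 0) z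
    exact ((e1 a).symm.trans (congrArg (fun q => (CechEdge.cx S.X₃.obj Y).iCycles 0 q) hab)).trans (e1 b)
  intro x y hxy
  obtain ⟨a, rfl⟩ := (ConcreteCategory.bijective_of_isIso ((CechEdge.cx (qseq S).X₃ Y).homologyπ 0)).2 x
  obtain ⟨b, rfl⟩ := (ConcreteCategory.bijective_of_isIso ((CechEdge.cx (qseq S).X₃ Y).homologyπ 0)).2 y
  have e2 := fun z => ConcreteCategory.congr_hom (HomologicalComplex.homologyπ_naturality φ 0) z
  rw [hc ((ConcreteCategory.bijective_of_isIso ((CechEdge.cx S.X₃.obj Y).homologyπ 0)).1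
    (((e2 a).symm.trans hxy).trans (e2 b)))]

lemma psi_H_bijective (S : ShortComplex (Sheaf J AddCommGrpCat.{u})) (hS : S.ShortExact)
    (hs : ∀ (n : ℕ) (a : Fin (n + 1) → ι), Function.Surjective (S.g.hom.app (op (H5Cech.W Y a).left))) (p : ℕ) :
    Function.Bijective (CechEdge.cechHMap Y (psi S) p) := by
  let φ := (CechEdge.cxFunctor Y).map (psi S)
  have hf : ∀ n, IsIso (φ.f n) := fun n => by
    rw [ConcreteCategory.isIso_iff_bijective]
    refine ⟨fun a b hab => H5Cech.coord_ext Y _ fun z => psi_injective S hS _ ?_, fun c => ?_⟩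
    · have := congrArg (fun q => H5Cech.coord Y _ z q) hab
      erw [H5Cech.coord_map, H5Cech.coord_map] at this
      exact this
    · choose y hy using fun a : Fin (n + 1) → ι => hs n a (H5Cech.coord Y _ a c)
      refine ⟨H5Cech.mk Y _ fun a => (qseq S).g.app _ (y a), H5Cech.coord_ext Y _ fun a => ?_⟩
      erw [H5Cech.coord_map, H5Cech.coord_mk]
      exact (psi_π S (y a)).trans (hy a)
  haveI : IsIso φ := HomologicalComplex.Hom.isIso_of_components φ
  exact ConcreteCategory.bijective_of_isIso ((HomologicalComplex.homologyFunctor AddCommGrpCat.{u} (ComplexShape.up ℕ) p).map φ)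

lemma edgeSh_dC (he : CechEdge.IsEdge J Y e) (S : ShortComplex (Sheaf J AddCommGrpCat.{u})) (hS : S.ShortExact)
    (p : ℕ) (y : CohCx.cechH (qseq S).X₃ Y p) :
    CechEdge.edgeSh e S.X₁ (p + 1) (H5Edge.dC Y (qseq_shortExact S hS) p y) =
      CechEdge.extδ hS U p (CechEdge.edgeSh e S.X₃ p (CechEdge.cechHMap Y (psi S) p y)) := by
  let adj := sheafificationAdjunction J AddCommGrpCat.{u}
  let θ : (qseq S).map (presheafToSheaf J AddCommGrpCat.{u}) ⟶ S :=
    { τ₁ := adj.counit.app S.X₁
      τ₂ := adj.counit.app S.X₂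
      τ₃ := (presheafToSheaf J AddCommGrpCat.{u}).map (psi S) ≫ adj.counit.app S.X₃
      comm₁₂ := (adj.counit.naturality S.f).symm
      comm₂₃ := by
        refine (adj.counit.naturality S.g).symm.trans ?_
        refine Eq.trans ?_ (Category.assoc _ _ _)
        refine congrArg (fun f => f ≫ adj.counit.app S.X₃) ?_
        refine Eq.trans ?_ ((presheafToSheaf J AddCommGrpCat.{u}).map_comp _ _)
        exact congrArg (presheafToSheaf J AddCommGrpCat.{u}).map (cokernel.π_desc S.f.hom S.g.hom (zero_hom S)).symm }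
  rw [edgeSh_apply, edgeSh_apply]
  refine (congrArg (CechEdge.HUmap (adj.counit.app S.X₁) (p + 1) U)
    (he.delta (qseq S) (qseq_shortExact S hS) (H5Edge.cx_shortExact Y _ (qseq_shortExact S hS)) p y)).trans ?_
  refine (H5Edge.extδ_nat (H5Edge.shf_shortExact J (qseq_shortExact S hS)) hS θ p (e (qseq S).X₃ p y)).trans ?_
  refine congrArg (CechEdge.extδ hS U p) ?_
  refine (H5Edge.HUmap_comp _ _ p _).trans ?_
  exact congrArg (CechEdge.HUmap (adj.counit.app S.X₃) p U) (he.natural _ _ (psi S) p y).symm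

lemma injective_step (he : CechEdge.IsEdge J Y e) (S : ShortComplex (Sheaf J AddCommGrpCat.{u})) (hS : S.ShortExact)
    [Injective S.X₂] (p : ℕ) (hψ : Function.Injective (CechEdge.cechHMap Y (psi S) p))
    (h₃ : Function.Injective (CechEdge.edgeSh e S.X₃ p)) (h₂ : Function.Surjective (CechEdge.edgeSh e S.X₂ p)) :
    Function.Injective (CechEdge.edgeSh e S.X₁ (p + 1)) := by
  rw [injective_iff_map_eq_zero]
  intro x hx
  haveI : Injective (qseq S).X₂ := H5Cech.injective_obj S.X₂
  obtain ⟨y, rfl⟩ := H5Edge.dC_surjective Y (qseq_shortExact S hS) p x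
  rw [edgeSh_dC he S hS p y] at hx
  obtain ⟨z, hz⟩ := H5Edge.extδ_exact hS p _ hx
  obtain ⟨w, rfl⟩ := h₂ z
  have h4 : CechEdge.cechHMap Y (psi S) p (CechEdge.cechHMap Y (qseq S).g p w) =
      CechEdge.cechHMap Y (psi S) p y := by
    refine Eq.trans ?_ (h₃ ((edgeSh_nat he S.g p w).trans hz))
    have := congrArg (fun f => HomologicalComplex.homologyMap ((CechEdge.cxFunctor Y).map f) p)
      (cokernel.π_desc S.f.hom S.g.hom (zero_hom S))
    simp only [Functor.map_comp, HomologicalComplex.homologyMap_comp] at this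
    exact ConcreteCategory.congr_hom this w
  rw [← hψ h4]
  exact H5Edge.dC_map Y (qseq_shortExact S hS) p w

/-- S16023 -/
theorem edgeSh_one_injective (he : CechEdge.IsEdge J Y e) (F : Sheaf J AddCommGrpCat.{u}) :
    Function.Injective (CechEdge.edgeSh e F 1) :=
  injective_step he (H5SiteCoh.injSeq F) (H5SiteCoh.injSeq_shortExact F) 0
    (psi_H0_injective _ (H5SiteCoh.injSeq_shortExact F)) (edgeSh_zero_bijective he _).1 (edgeSh_zero_bijective he _).2

/-- S16022 -/
theorem edgeSh_bijective_of_acyclic (he : CechEdge.IsEdge J Y e) : ∀ (p : ℕ) (F : Sheaf J AddCommGrpCat.{u}),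
    H5Leray.Good J Y F → Function.Bijective (CechEdge.edgeSh e F p) := by
  intro p
  induction p with
  | zero => exact fun F _ => edgeSh_zero_bijective he F
  | succ p ih =>
    intro F hF
    let S := H5SiteCoh.injSeq F
    have hS : S.ShortExact := H5SiteCoh.injSeq_shortExact F
    have hW : ∀ (n : ℕ) (a : Fin (n + 1) → ι), Function.Surjective (S.g.hom.app (op (H5Cech.W Y a).left)) := fun n a =>
      (H5SiteCoh.surj_fU S.g).1 (H5SiteCoh.acyc_injective_middle S hS (fun q => hF n a q) inferInstance).2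
    have hψ := psi_H_bijective S hS hW p
    have h₃ := ih S.X₃ (fun n a q => H5SiteCoh.acyc_quotient (fun q => hF n a q) q)
    have h₂ : Function.Surjective (CechEdge.edgeSh e S.X₂ p) := by
      cases p with
      | zero => exact (edgeSh_zero_bijective he _).2
      | succ q => exact fun z => ⟨0, (map_zero _).trans (Ext.eq_zero_of_injective z).symm⟩
    refine ⟨injective_step he S hS p hψ.1 h₃.1 h₂, fun z => ?_⟩
    obtain ⟨w, rfl⟩ := H5Edge.extδ_surjective hS p z
    obtain ⟨v, rfl⟩ := h₃.2 w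
    obtain ⟨y, rfl⟩ := hψ.2 v
    exact ⟨_, edgeSh_dC he S hS p y⟩

/-- S16021 -/
theorem isSheaf_iff_toCech_bijective (J : GrothendieckTopology C) (P : Cᵒᵖ ⥤ AddCommGrpCat.{u}) :
    Presheaf.IsSheaf J P ↔ ∀ (U : C) (ι : Type u) (Y : ι → Over U),
      Sieve.ofArrows (fun i => (Y i).left) (fun i => (Y i).hom) ∈ J U →
        Function.Bijective (CechEdge.toCech Y P) := by
  refine ⟨fun h U ι Y hY => H5Edge.toCech_bijective Y hY ⟨P, h⟩, fun h => ?_⟩
  rw [Presheaf.isSheaf_iff_isSheaf_forget J P (forget AddCommGrpCat.{u}), isSheaf_iff_isSheaf_of_type]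
  intro U T hT
  let κ := Σ V : C, { f : V ⟶ U // T.arrows f }
  let Z : κ → Over U := fun a => Over.mk a.2.1
  have hT' : Sieve.ofArrows (fun i => (Z i).left) (fun i => (Z i).hom) = T := by
    refine le_antisymm (Sieve.generate_le_iff _ _ |>.2 fun V g hg => ?_) fun V g hg => ?_
    · obtain ⟨⟨V', f, hf⟩⟩ := hg
      exact hf
    · exact Sieve.ofArrows_mk _ _ (⟨V, g, hg⟩ : κ)
  rw [← hT', ← Presieve.isSheafFor_iff_generate, Presieve.isSheafFor_arrows_iff]
  intro x hx
  have hb := h U κ Z (hT' ▸ hT)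
  have hπ := ConcreteCategory.bijective_of_isIso ((CechEdge.cx P Z).homologyπ 0)
  have hi : Function.Injective ((CechEdge.cx P Z).iCycles 0) := (AddCommGrpCat.mono_iff_injective _).1 inferInstance
  have hz : ∀ s, (CechEdge.cx P Z).iCycles 0 (CechEdge.toCycles P Z s) = CechEdge.toCech₀ P Z s := fun s =>
    ConcreteCategory.congr_hom (CechEdge.toCycles_i P Z) s
  have hco : ∀ s (a : Fin 1 → κ), H5Cech.coord Z P a (CechEdge.toCech₀ P Z s) = P.map (H5Cech.W Z a).hom.op s := fun s a =>
    Pi.lift_π_apply (f := fun i : Fin 1 → κ => P.obj (op (H5Cech.W Z i).left)) _ a s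
  let c : (CechEdge.cx P Z).X 0 := H5Cech.mk Z P fun a => P.map (H5Cech.pr Z a 0).op (x (a 0))
  have hc : (CechEdge.cx P Z).d 0 1 c = 0 := by
    refine H5Cech.coord_ext Z P fun a => ?_
    refine (H5Cech.coord_d Z P c a).trans ?_
    rw [map_zero, Fin.sum_univ_two]
    have e : ∀ j : Fin 2, P.map (H5Cech.face Z a j).op (H5Cech.coord Z P (a ∘ j.succAbove) c) =
        P.map (H5Cech.pr Z a (j.succAbove 0)).op (x (a (j.succAbove 0))) := fun j => by
      refine (congrArg (P.map (H5Cech.face Z a j).op) (H5Cech.coord_mk Z P _ (a ∘ j.succAbove))).trans ?_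
      rw [← ConcreteCategory.comp_apply, ← Functor.map_comp, ← op_comp, H5Cech.face_pr]
      rfl
    rw [e 0, e 1]
    have hh := hx (a 1) (a 0) _ (H5Cech.pr Z a 1) (H5Cech.pr Z a 0)
      ((H5Cech.pr_hom Z a 1).trans (H5Cech.pr_hom Z a 0).symm)
    have e0 : ((0 : Fin 2).succAbove 0) = (1 : Fin 2) := rfl
    have e1 : ((1 : Fin 2).succAbove 0) = (0 : Fin 2) := rfl
    rw [e0, e1]
    simp only [Fin.val_zero, Fin.val_one, pow_zero, pow_one, one_smul, neg_smul]
    rw [← sub_eq_add_neg, sub_eq_zero]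
    exact hh
  let k : AddCommGrpCat.of (((CechEdge.cx P Z).d 0 1).hom.ker) ⟶ (CechEdge.cx P Z).X 0 :=
    AddCommGrpCat.ofHom ((CechEdge.cx P Z).d 0 1).hom.ker.subtype
  have hk : k ≫ (CechEdge.cx P Z).d 0 1 = 0 := by ext z; exact z.2
  let z := (CechEdge.cx P Z).liftCycles k 1 (by simp) hk ⟨c, hc⟩
  have hzi : (CechEdge.cx P Z).iCycles 0 z = c :=
    ConcreteCategory.congr_hom ((CechEdge.cx P Z).liftCycles_i k 1 (by simp) hk) ⟨c, hc⟩
  obtain ⟨t, ht⟩ := hb.2 ((CechEdge.cx P Z).homologyπ 0 z)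
  have ht' : CechEdge.toCech₀ P Z t = c := by
    rw [← hz, show CechEdge.toCycles P Z t = z from hπ.1 ht, hzi]
  have hd : ∀ (i : κ) (s : P.obj (op U)), P.map (Z i).hom.op s =
      P.map (H5Leray.diag Z i).op (H5Cech.coord Z P (fun _ : Fin 1 => i) (CechEdge.toCech₀ P Z s)) := by
    intro i s
    rw [hco, ← ConcreteCategory.comp_apply, ← Functor.map_comp, ← op_comp]
    rw [← H5Cech.pr_hom Z (fun _ : Fin 1 => i) 0, ← Category.assoc, H5Leray.diag, H5Cech.lft_pr, Category.id_comp]
  refine ⟨t, fun i => ?_, fun t' ht'' => ?_⟩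
  · change P.map (Z i).hom.op t = x i
    rw [hd, ht', H5Cech.coord_mk, ← ConcreteCategory.comp_apply, ← Functor.map_comp, ← op_comp,
      H5Leray.diag, H5Cech.lft_pr]
    simp
  · refine hb.1 (congrArg ((CechEdge.cx P Z).homologyπ 0) (hi ((hz t').trans (Eq.trans ?_ (hz t).symm))))
    rw [ht']
    refine H5Cech.coord_ext Z P fun a => ?_
    rw [hco]
    refine Eq.trans ?_ (H5Cech.coord_mk Z P _ a).symm
    rw [← H5Cech.pr_hom Z a 0, op_comp, Functor.map_comp, ConcreteCategory.comp_apply]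
    exact congrArg _ (ht'' (a 0))

end Groth.Agent.H5Edge2
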