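import Groth.Agent.Lib.H5Edge2
universe u
open CategoryTheory CategoryTheory.Limits Opposite Abelian
namespace Groth.Agent.H5Edge3
set_option maxHeartbeats 600000

variable {C : Type u} [SmallCategory C] [HasPullbacks C] {J : GrothendieckTopology C} {U : C} {ι κ : Type u}
  {Y : ι → Over U} {Y' : κ → Over U} (f : FormalCoproduct.mk ι Y ⟶ FormalCoproduct.mk κ Y')

lemma coord_refine (P : Cᵒᵖ ⥤ AddCommGrpCat.{u}) {n : ℕ} (c : (H5Cech.cplx Y' P).X n) (a : Fin (n + 1) → ι) :
    H5Cech.coord Y P a ((CohCx.cechRefine P f).f n c) =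
      P.map ((Limits.Pi.map (f := Y ∘ a) (g := Y' ∘ (f.f ∘ a)) fun k => f.φ (a k)).left).op (H5Cech.coord Y' P (f.f ∘ a) c) :=
  Pi.lift_π_apply (f := fun i : Fin (n + 1) → ι => P.obj (op (H5Cech.W Y i).left)) _ a c

lemma refine_nat {P Q : Cᵒᵖ ⥤ AddCommGrpCat.{u}} (φ : P ⟶ Q) :
    (CechEdge.cxFunctor Y').map φ ≫ CohCx.cechRefine Q f = CohCx.cechRefine P f ≫ (CechEdge.cxFunctor Y).map φ := by
  refine HomologicalComplex.hom_ext _ _ fun n => ?_
  ext c
  refine H5Cech.coord_ext Y Q fun a => ?_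
  change H5Cech.coord Y Q a ((CohCx.cechRefine Q f).f n (((CechEdge.cxFunctor Y').map φ).f n c)) =
    H5Cech.coord Y Q a (((CechEdge.cxFunctor Y).map φ).f n ((CohCx.cechRefine P f).f n c))
  refine (coord_refine f Q _ a).trans ?_
  refine Eq.trans ?_ (H5Cech.coord_map Y P φ _ a).symm
  rw [coord_refine]
  refine (congrArg (Q.map _) (H5Cech.coord_map Y' P φ c (f.f ∘ a))).trans ?_
  exact (NatTrans.naturality_apply φ _ _).symm

lemma refine_toCech (P : Cᵒᵖ ⥤ AddCommGrpCat.{u}) (s : P.obj (op U)) :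
    HomologicalComplex.homologyMap (CohCx.cechRefine P f) 0 (CechEdge.toCech Y' P s) = CechEdge.toCech Y P s := by
  have h : (CechEdge.toCycles P Y' ≫ (CechEdge.cx P Y').homologyπ 0) ≫ HomologicalComplex.homologyMap (CohCx.cechRefine P f) 0 =
      CechEdge.toCycles P Y ≫ (CechEdge.cx P Y).homologyπ 0 := by
    rw [Category.assoc]
    erw [HomologicalComplex.homologyπ_naturality]
    rw [← Category.assoc]
    congr 1
    erw [HomologicalComplex.liftCycles_comp_cyclesMap]
    apply (cancel_mono ((CechEdge.cx P Y).iCycles 0)).1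
    erw [HomologicalComplex.liftCycles_i, HomologicalComplex.liftCycles_i]
    ext x
    refine H5Cech.coord_ext Y P fun a => ?_
    refine (coord_refine f P (CechEdge.toCech₀ P Y' x) a).trans ?_
    refine (congrArg (P.map _) (Pi.lift_π_apply (f := fun i : Fin 1 → κ => P.obj (op (H5Cech.W Y' i).left)) _ (f.f ∘ a) x)).trans ?_
    refine Eq.trans ?_ (Pi.lift_π_apply (f := fun i : Fin 1 → ι => P.obj (op (H5Cech.W Y i).left)) _ a x).symm
    refine (ConcreteCategory.congr_hom (P.map_comp (H5Cech.W Y' (f.f ∘ a)).hom.op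
      (Limits.Pi.map (f := Y ∘ a) (g := Y' ∘ (f.f ∘ a)) fun k => f.φ (a k)).left.op).symm x).trans ?_
    exact congrArg (fun l : (H5Cech.W Y a).left ⟶ U => P.map l.op x)
      (Over.w (Limits.Pi.map (f := Y ∘ a) (g := Y' ∘ (f.f ∘ a)) fun k => f.φ (a k)))
  exact ConcreteCategory.congr_hom h s

variable {e : ∀ (P : Cᵒᵖ ⥤ AddCommGrpCat.{u}) (p : ℕ), CohCx.cechH P Y p →+ CohSite.HU (CechEdge.shf J P) p U}
  {e' : ∀ (P : Cᵒᵖ ⥤ AddCommGrpCat.{u}) (p : ℕ), CohCx.cechH P Y' p →+ CohSite.HU (CechEdge.shf J P) p U}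

lemma refine_isEdge (he : CechEdge.IsEdge J Y e)
    (hY' : Sieve.ofArrows (fun i => (Y' i).left) (fun i => (Y' i).hom) ∈ J U) :
    CechEdge.IsEdge J Y' (fun P p => (e P p).comp (HomologicalComplex.homologyMap (CohCx.cechRefine P f) p).hom) where
  cover := hY'
  zero P s := (congrArg (e P 0) (refine_toCech f P s)).trans (he.zero P s)
  natural P Q φ p x := by
    refine Eq.trans ?_ (he.natural P Q φ p _)
    refine congrArg (e Q p) ?_
    exact ConcreteCategory.congr_hom (((HomologicalComplex.homologyMap_comp ((CechEdge.cxFunctor Y').map φ) (CohCx.cechRefine Q f) p).symm.trans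
      (congrArg (fun g => HomologicalComplex.homologyMap g p) (refine_nat f φ))).trans
      (HomologicalComplex.homologyMap_comp (CohCx.cechRefine P f) ((CechEdge.cxFunctor Y).map φ) p)) x
  delta S hS hC p x := by
    let Φ : S.map (CechEdge.cxFunctor Y') ⟶ S.map (CechEdge.cxFunctor Y) :=
      { τ₁ := CohCx.cechRefine S.X₁ f
        τ₂ := CohCx.cechRefine S.X₂ f
        τ₃ := CohCx.cechRefine S.X₃ f
        comm₁₂ := (refine_nat f S.f).symm
        comm₂₃ := (refine_nat f S.g).symm }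
    refine Eq.trans ?_ (he.delta S hS (H5Edge.cx_shortExact Y S hS) p _)
    refine congrArg (e S.X₁ (p + 1)) ?_
    exact ConcreteCategory.congr_hom
      (HomologicalComplex.HomologySequence.δ_naturality Φ hC (H5Edge.cx_shortExact Y S hS) p (p + 1) rfl) x

theorem edgeSh_cechRefine (he : CechEdge.IsEdge J Y e) (he' : CechEdge.IsEdge J Y' e')
    (F : Sheaf J AddCommGrpCat.{u}) (p : ℕ) (x : CohCx.cechH F.obj Y' p) :
    CechEdge.edgeSh e F p (HomologicalComplex.homologyMap (CohCx.cechRefine F.obj f) p x) =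
      CechEdge.edgeSh e' F p x := by
  have h := H5Edge.isEdge_unique (refine_isEdge f he he'.cover) he'
  subst h
  rfl

end Groth.Agent.H5Edge3
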