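import Groth.Prelude.Def_DerCA
universe v u
namespace Groth.Agent.H5EssDecomp
open CategoryTheory CategoryTheory.Limits Opposite CategoryTheory.Pretriangulated

variable {D : Type u} [Category.{v} D] [Preadditive D] [HasZeroObject D] [HasShift D ℤ]
    [∀ n : ℤ, (shiftFunctor D n).Additive] [Pretriangulated D]

lemma complement {A X : D} (c : A ⟶ X) (s : X ⟶ A) (h : c ≫ s = 𝟙 A) :
    ∃ (Z : D) (p : X ⟶ Z) (σ : Z ⟶ X), c ≫ p = 0 ∧ σ ≫ p = 𝟙 Z ∧ σ ≫ s = 0 ∧ s ≫ c + p ≫ σ = 𝟙 X := by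
  obtain ⟨Z, p, d, hT⟩ := distinguished_cocone_triangle c
  have hm : Mono c := (SplitMono.mk s h).mono
  have hd : d = 0 := (Triangle.mor₃_eq_zero_iff_mono₁ _ hT).2 hm
  have h0 : c ≫ p = 0 := comp_distTriang_mor_zero₁₂ _ hT
  obtain ⟨σ₀, hσ₀⟩ : ∃ σ₀ : Z ⟶ X, 𝟙 Z = σ₀ ≫ p :=
    Triangle.coyoneda_exact₃ _ hT (𝟙 Z) (by show 𝟙 Z ≫ d = 0; rw [hd, comp_zero])
  have hp : (σ₀ - σ₀ ≫ s ≫ c) ≫ p = 𝟙 Z := by
    simp [Preadditive.sub_comp, Category.assoc, h0, ← hσ₀]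
  have hs : (σ₀ - σ₀ ≫ s ≫ c) ≫ s = 0 := by
    simp [Preadditive.sub_comp, Category.assoc, h]
  refine ⟨Z, p, σ₀ - σ₀ ≫ s ≫ c, h0, hp, hs, ?_⟩
  obtain ⟨x, hx⟩ : ∃ x : X ⟶ A, 𝟙 X - s ≫ c - p ≫ (σ₀ - σ₀ ≫ s ≫ c) = x ≫ c := Triangle.coyoneda_exact₂ _ hT
    (𝟙 X - s ≫ c - p ≫ (σ₀ - σ₀ ≫ s ≫ c)) (by
      show (𝟙 X - s ≫ c - p ≫ (σ₀ - σ₀ ≫ s ≫ c)) ≫ p = 0
      rw [Preadditive.sub_comp, Preadditive.sub_comp, Category.assoc, Category.assoc, hp, h0]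
      simp)
  have hx0 : x = 0 := by
    have := hx =≫ s
    rw [Preadditive.sub_comp, Preadditive.sub_comp, Category.assoc, Category.assoc, hs, Category.assoc, h] at this
    simpa using this.symm
  rw [hx0, zero_comp, sub_sub, sub_eq_zero] at hx
  exact hx.symm

theorem decomp (X : ARSys.PS D) (A : D) (c : (Functor.const ℕᵒᵖ).obj A ⟶ X) (hX : DerCA.IsEssConstant X A c) :
    ∃ (i : ℕ) (Z : ℕ → D) (e : ∀ j : ℕ, X.obj (op (i + j)) ≅ A ⊞ Z j) (z : ∀ j k : ℕ, j ≤ k → (Z k ⟶ Z j)),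
      (∀ j : ℕ, c.app (op (i + j)) ≫ (e j).hom = biprod.inl) ∧
      (∀ (j k : ℕ) (hjk : j ≤ k), (e k).inv ≫ ARSys.tr X (Nat.add_le_add_left hjk i) = biprod.map (𝟙 A) (z j k hjk) ≫ (e j).inv) ∧
      (∀ j : ℕ, ∃ (k : ℕ) (hjk : j ≤ k), z j k hjk = 0) := by
  obtain ⟨i, s, hs, hX⟩ := hX
  have nat : ∀ {n m : ℕ} (h : n ≤ m), c.app (op m) ≫ ARSys.tr X h = c.app (op n) := by
    intro n m h
    exact ((c.naturality (homOfLE h).op).symm.trans (Category.id_comp _))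
  have trc : ∀ {a b d : ℕ} (h₁ : a ≤ b) (h₂ : b ≤ d), ARSys.tr X h₂ ≫ ARSys.tr X h₁ = ARSys.tr X (h₁.trans h₂) :=
    fun h₁ h₂ => (X.map_comp _ _).symm
  let r : ∀ j, X.obj (op (i + j)) ⟶ A := fun j => ARSys.tr X (Nat.le_add_right i j) ≫ s
  have hr : ∀ j, c.app (op (i + j)) ≫ r j = 𝟙 A := fun j => by
    simp only [r]; rw [← Category.assoc, nat]; exact hs
  have hrt : ∀ j k (h : j ≤ k), ARSys.tr X (Nat.add_le_add_left h i) ≫ r j = r k := fun j k h => by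
    simp only [r]; rw [← Category.assoc, trc]
  choose Z p σ h1 h2 h3 h4 using fun j => complement (c.app (op (i + j))) (r j) (hr j)
  let e : ∀ j, X.obj (op (i + j)) ≅ A ⊞ Z j := fun j =>
    { hom := biprod.lift (r j) (p j)
      inv := biprod.desc (c.app (op (i + j))) (σ j)
      hom_inv_id := by rw [biprod.lift_desc]; exact h4 j
      inv_hom_id := by
        apply biprod.hom_ext' <;> apply biprod.hom_ext <;> simp [hr, h1, h2, h3] }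
  refine ⟨i, Z, e, fun j k h => σ k ≫ ARSys.tr X (Nat.add_le_add_left h i) ≫ p j, fun j => ?_, fun j k hjk => ?_, fun j => ?_⟩
  · apply biprod.hom_ext <;> simp [e, hr, h1]
  · apply biprod.hom_ext'
    · simp [e, nat]
    · simp only [e, biprod.inr_desc_assoc, biprod.inr_map_assoc, biprod.inr_desc]
      conv_lhs => rw [← Category.comp_id (ARSys.tr X _), ← h4 j]
      simp [reassoc_of% (hrt j k hjk), reassoc_of% (h3 k)]
  · obtain ⟨k, hi, hj, e'⟩ := hX (i + j)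
    obtain ⟨k', rfl⟩ : ∃ k', k = i + k' := ⟨k - i, by omega⟩
    refine ⟨k', by omega, ?_⟩
    show σ k' ≫ ARSys.tr X hj ≫ p j = 0
    rw [e', ← Category.assoc (σ k')]
    have : σ k' ≫ ARSys.tr X hi ≫ s = 0 := h3 k'
    rw [← Category.assoc (ARSys.tr X hi), ← Category.assoc (σ k'), this, zero_comp, zero_comp]

end Groth.Agent.H5EssDecomp
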