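import Groth.Prelude.Def_EtBase
import Mathlib.CategoryTheory.Sites.Pullback
import Mathlib.CategoryTheory.Limits.Preserves.FunctorCategory
import Mathlib.Algebra.Category.Grp.AB
import Mathlib.CategoryTheory.Abelian.Injective.Resolution
import Groth.Agent.Lib.H5HomExt
import Groth.Agent.Lib.H5SplitSS
import Mathlib.AlgebraicTopology.CechNerve
import Mathlib.CategoryTheory.Preadditive.Injective.Preserves

universe u

namespace Groth.Agent.H5EtDescSec
open CategoryTheory Category Limits Opposite AlgebraicGeometry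
open scoped Simplicial
set_option maxHeartbeats 800000
set_option backward.isDefEq.respectTransparency false
set_option backward.isDefEq.respectTransparency.types false


lemma colim_preservesFiniteLimits {J : Type (u + 1)} [Category.{u} J] [IsFiltered J] :
    PreservesFiniteLimits (colim : (J ⥤ AddCommGrpCat.{u + 1}) ⥤ AddCommGrpCat.{u + 1}) := by
  let e : J ≌ AsSmall.{u + 1} J := AsSmall.equiv
  have : IsFiltered (AsSmall.{u + 1} J) := IsFiltered.of_equivalence e
  exact preservesFiniteLimits_of_natIso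
    (Functor.Final.colimIso (E := AddCommGrpCat.{u + 1}) e.inverse)

section lan

variable {C D : Type (u + 1)} [Category.{u} C] [Category.{u} D] (F : C ⥤ D)

set_option backward.defeqAttrib.useBackward true in
set_option backward.isDefEq.respectTransparency false in
/-- evaluation of the left Kan extension as a colimit -/
noncomputable def lanEvalIso (X : D) :
    (F.lan : (C ⥤ AddCommGrpCat.{u + 1}) ⥤ _) ⋙ (evaluation D (AddCommGrpCat.{u + 1})).obj X ≅
      (Functor.whiskeringLeft _ _ (AddCommGrpCat.{u + 1})).obj (CostructuredArrow.proj F X) ⋙ colim :=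
  NatIso.ofComponents (fun G =>
    IsColimit.coconePointUniqueUpToIso
    (Functor.isPointwiseLeftKanExtensionLeftKanExtensionUnit F G X)
    (colimit.isColimit _)) (fun {G₁ G₂} φ => by
      apply (Functor.isPointwiseLeftKanExtensionLeftKanExtensionUnit F G₁ X).hom_ext
      intro T
      have h₁ := fun (G : C ⥤ AddCommGrpCat.{u + 1}) => IsColimit.comp_coconePointUniqueUpToIso_hom
        (Functor.isPointwiseLeftKanExtensionLeftKanExtensionUnit F G X) (colimit.isColimit _) T
      have h₂ := congr_app (F.lanUnit.naturality φ) T.left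
      dsimp at h₁ h₂ ⊢
      simp only [Category.assoc] at h₁ ⊢
      simp only [Functor.lan, Functor.lanUnit] at h₂ ⊢
      rw [reassoc_of% h₁, NatTrans.naturality_assoc, ← reassoc_of% h₂, h₁,
        ι_colimMap, Functor.whiskerLeft_app]
      rfl)

lemma lan_preservesFiniteLimits [RepresentablyFlat F] :
    PreservesFiniteLimits (F.op.lan : (Cᵒᵖ ⥤ AddCommGrpCat.{u + 1}) ⥤ Dᵒᵖ ⥤ AddCommGrpCat.{u + 1}) := by
  refine ⟨fun J _ _ => ?_⟩
  apply preservesLimitsOfShape_of_evaluation
  intro K
  have : IsFiltered (CostructuredArrow F.op K) :=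
    IsFiltered.of_equivalence (structuredArrowOpEquivalence F (unop K))
  have := colim_preservesFiniteLimits (J := CostructuredArrow F.op K)
  exact preservesLimitsOfShape_of_natIso (lanEvalIso F.op K).symm

end lan

theorem preservesFiniteLimits_pull {X Y : Scheme.{u}} (g : X ⟶ Y) : PreservesFiniteLimits (EtCoh.pull g) := by
  have := lan_preservesFiniteLimits (EtCoh.bc g)
  exact Functor.sheafPullbackConstruction.preservesFiniteLimits (EtCoh.bc g) AddCommGrpCat.{u + 1} _ _

theorem injective_push {X Y : Scheme.{u}} (g : X ⟶ Y) (I : EtCoh.Ab X) [Injective I] :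
    Injective ((EtCoh.push g).obj I) := by
  have := preservesFiniteLimits_pull g
  exact Injective.injective_of_adjoint (EtCoh.pullPushAdj g) I

/-- the top object is terminal -/
noncomputable def topTerminal (X : Scheme.{u}) : IsTerminal (EtCoh.top X) :=
  IsTerminal.ofUniqueHom (fun U => MorphismProperty.Over.homMk U.hom (Category.comp_id _) trivial)
    (fun U m => by
      apply MorphismProperty.Over.Hom.ext
      have := MorphismProperty.Over.w m
      exact (Category.comp_id _).symm.trans this)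

/-- projection of a base change -/
noncomputable abbrev pr {A B : Scheme.{u}} (g : A ⟶ B) (V : B.Etale) : ((EtCoh.bc g).obj V).left ⟶ V.left :=
  pullback.fst V.hom g

/-- the comparison of iterated base change with base change -/
noncomputable def cmp {A B S : Scheme.{u}} (h : A ⟶ B) (g' : B ⟶ S) (g : A ⟶ S) (w : h ≫ g' = g) (V : S.Etale) :
    (EtCoh.bc h).obj ((EtCoh.bc g').obj V) ⟶ (EtCoh.bc g).obj V :=
  MorphismProperty.Over.homMk
    (pullback.lift (pr h ((EtCoh.bc g').obj V) ≫ pr g' V) ((EtCoh.bc h).obj ((EtCoh.bc g').obj V)).hom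
      (by
        subst w
        have h1 : pullback.fst ((EtCoh.bc g').obj V).hom h ≫ ((EtCoh.bc g').obj V).hom =
            pullback.snd ((EtCoh.bc g').obj V).hom h ≫ h := pullback.condition
        have h2 : pullback.fst V.hom g' ≫ V.hom = pullback.snd V.hom g' ≫ g' := pullback.condition
        rw [Category.assoc, h2, ← Category.assoc]
        exact (congrArg (fun t => t ≫ g') h1).trans (Category.assoc _ _ _)))
    (pullback.lift_snd _ _ _) trivial

lemma cmp_pr {A B S : Scheme.{u}} (h : A ⟶ B) (g' : B ⟶ S) (g : A ⟶ S) (w : h ≫ g' = g) (V : S.Etale) :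
    (cmp h g' g w V).left ≫ pr g V = pr h ((EtCoh.bc g').obj V) ≫ pr g' V := pullback.lift_fst _ _ _

lemma bc_map_pr {A B : Scheme.{u}} (g : A ⟶ B) {V W : B.Etale} (i : V ⟶ W) :
    ((EtCoh.bc g).map i).left ≫ pr g W = pr g V ≫ i.left := (EtCoh.isPullback_bc_map g i).w

/-- morphisms into a base change are determined by the projection -/
lemma hom_ext_pr {A B : Scheme.{u}} (g : A ⟶ B) (V : B.Etale) {T : A.Etale} (a b : T ⟶ (EtCoh.bc g).obj V)
    (h : a.left ≫ pr g V = b.left ≫ pr g V) : a = b := by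
  apply MorphismProperty.Over.Hom.ext
  apply pullback.hom_ext h
  exact (MorphismProperty.Over.w a).trans (MorphismProperty.Over.w b).symm

lemma cmp_natural {A B S : Scheme.{u}} (h : A ⟶ B) (g' : B ⟶ S) (g : A ⟶ S) (w : h ≫ g' = g) {V W : S.Etale} (i : V ⟶ W) :
    (EtCoh.bc h).map ((EtCoh.bc g').map i) ≫ cmp h g' g w W = cmp h g' g w V ≫ (EtCoh.bc g).map i := by
  apply hom_ext_pr
  rw [MorphismProperty.Comma.comp_left, MorphismProperty.Comma.comp_left, Category.assoc, Category.assoc, cmp_pr,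
    bc_map_pr, ← Category.assoc, bc_map_pr, Category.assoc, bc_map_pr, ← Category.assoc (cmp h g' g w V).left, cmp_pr,
    Category.assoc]

section generic
variable {A : Type*} [Category A] [Abelian A] {Z : A} (I : InjectiveResolution Z) (K : CochainComplex A ℕ)
  (hK : ∀ n, Injective (K.X n))

/-- extension step -/
noncomputable def stp (n : ℕ) (g : I.cocomplex.X n ⟶ K.X n) (g' : I.cocomplex.X (n + 1) ⟶ K.X (n + 1))
    (w : g ≫ K.d n (n + 1) = I.cocomplex.d n (n + 1) ≫ g') :
    Σ' g'' : I.cocomplex.X (n + 2) ⟶ K.X (n + 2),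
      g' ≫ K.d (n + 1) (n + 2) = I.cocomplex.d (n + 1) (n + 2) ≫ g'' :=
  haveI := hK (n + 2)
  ⟨(I.exact_succ n).descToInjective (g' ≫ K.d (n + 1) (n + 2))
      (by dsimp; rw [← Category.assoc, ← w, Category.assoc, HomologicalComplex.d_comp_d, comp_zero]),
    ((I.exact_succ n).comp_descToInjective _ _).symm⟩

include hK in
/-- maps from a resolution to a complex of injectives extend -/
theorem exists_ext (f : Z ⟶ K.X 0) (hf : f ≫ K.d 0 1 = 0) :
    ∃ φ : I.cocomplex ⟶ K, I.ι.f 0 ≫ φ.f 0 = f := by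
  haveI := hK 0
  haveI := hK 1
  have hm : Mono (I.ι.f 0) := by infer_instance
  let g0 : I.cocomplex.X 0 ⟶ K.X 0 := @Injective.factorThru _ _ _ _ _ _ f (I.ι.f 0) hm
  have h0 : I.ι.f 0 ≫ g0 = f := @Injective.comp_factorThru _ _ _ _ _ _ f (I.ι.f 0) hm
  let g1 : I.cocomplex.X 1 ⟶ K.X 1 := I.exact₀.descToInjective (g0 ≫ K.d 0 1) (by
    dsimp; rw [← Category.assoc]; exact (congrArg (fun t => t ≫ K.d 0 1) h0).trans hf)
  refine ⟨CochainComplex.mkHom _ _ g0 g1 (I.exact₀.comp_descToInjective _ _).symm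
    (fun n p => ⟨(stp I K hK n p.1 p.2.1 p.2.2).1, (stp I K hK n p.1 p.2.1 p.2.2).2⟩), ?_⟩
  simpa using h0

include hK in
/-- and uniquely up to homotopy -/
theorem homotopy_zero (φ : I.cocomplex ⟶ K) (hφ : I.ι.f 0 ≫ φ.f 0 = 0) : Nonempty (Homotopy φ 0) := by
  haveI := hK 0
  haveI := hK 1
  let z0 : I.cocomplex.X 1 ⟶ K.X 0 := I.exact₀.descToInjective (φ.f 0) hφ
  have e0 : I.cocomplex.d 0 1 ≫ z0 = φ.f 0 := I.exact₀.comp_descToInjective _ _
  let z1 : I.cocomplex.X 2 ⟶ K.X 1 := (I.exact_succ 0).descToInjective (φ.f 1 - z0 ≫ K.d 0 1) (by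
    dsimp
    rw [Preadditive.comp_sub, ← Category.assoc, e0, HomologicalComplex.Hom.comm, sub_self])
  have e1 : I.cocomplex.d 1 2 ≫ z1 = φ.f 1 - z0 ≫ K.d 0 1 := (I.exact_succ 0).comp_descToInjective _ _
  exact ⟨Homotopy.mkCoinductive φ z0 e0.symm z1 (by rw [e1]; abel) (fun n ⟨g, g', w⟩ =>
    haveI := hK (n + 2)
    ⟨(I.exact_succ (n + 1)).descToInjective (φ.f (n + 2) - g' ≫ K.d _ _) (by
      dsimp
      rw [Preadditive.comp_sub, ← HomologicalComplex.Hom.comm, w, Preadditive.add_comp,
        Category.assoc, Category.assoc, HomologicalComplex.d_comp_d, comp_zero,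
        zero_add, sub_self]), by
      rw [(I.exact_succ (n + 1)).comp_descToInjective]; abel⟩)⟩

include hK in
theorem homotopy (φ ψ : I.cocomplex ⟶ K) (h : I.ι.f 0 ≫ φ.f 0 = I.ι.f 0 ≫ ψ.f 0) : Nonempty (Homotopy φ ψ) := by
  obtain ⟨e⟩ := homotopy_zero I K hK (φ - ψ) (by
    rw [HomologicalComplex.sub_f_apply, Preadditive.comp_sub, h, sub_self])
  exact ⟨Homotopy.equivSubZero.invFun e⟩

end generic

section descent
variable {S : Scheme.{u}} (F : EtCoh.Ab S)

lemma hom_ext_pr2 {A B C : Scheme.{u}} (h : A ⟶ B) (g : B ⟶ C) (V : C.Etale) {T : A.Etale}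
    (a b : T ⟶ (EtCoh.bc h).obj ((EtCoh.bc g).obj V))
    (e : a.left ≫ pr h ((EtCoh.bc g).obj V) ≫ pr g V = b.left ≫ pr h ((EtCoh.bc g).obj V) ≫ pr g V) : a = b := by
  refine hom_ext_pr h _ a b ?_
  apply pullback.hom_ext
  · exact (Category.assoc _ _ _).trans (e.trans (Category.assoc _ _ _).symm)
  · refine (Category.assoc _ _ _).trans (Eq.trans ?_ (Category.assoc _ _ _).symm)
    change a.left ≫ pr h _ ≫ ((EtCoh.bc g).obj V).hom = b.left ≫ pr h _ ≫ ((EtCoh.bc g).obj V).hom
    rw [show pr h ((EtCoh.bc g).obj V) ≫ ((EtCoh.bc g).obj V).hom =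
      ((EtCoh.bc h).obj ((EtCoh.bc g).obj V)).hom ≫ h from pullback.condition, ← Category.assoc, ← Category.assoc]
    exact congrArg (fun t => t ≫ h) ((MorphismProperty.Over.w a).trans (MorphismProperty.Over.w b).symm)

/-- inverse comparison -/
noncomputable def cmp' {A B C : Scheme.{u}} (h : A ⟶ B) (g' : B ⟶ C) (g : A ⟶ C) (w : h ≫ g' = g) (V : C.Etale) :
    (EtCoh.bc g).obj V ⟶ (EtCoh.bc h).obj ((EtCoh.bc g').obj V) :=
  MorphismProperty.Over.homMk
    (pullback.lift (pullback.lift (pr g V) (((EtCoh.bc g).obj V).hom ≫ h) (by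
        rw [Category.assoc, w]; exact pullback.condition)) ((EtCoh.bc g).obj V).hom (pullback.lift_snd _ _ _))
    (pullback.lift_snd _ _ _) trivial

lemma cmp'_pr {A B C : Scheme.{u}} (h : A ⟶ B) (g' : B ⟶ C) (g : A ⟶ C) (w : h ≫ g' = g) (V : C.Etale) :
    (cmp' h g' g w V).left ≫ pr h ((EtCoh.bc g').obj V) ≫ pr g' V = pr g V := by
  refine (Category.assoc _ _ _).symm.trans ?_
  refine (congrArg (fun t => t ≫ pr g' V) (pullback.lift_fst _ _ _)).trans ?_
  exact pullback.lift_fst _ _ _

lemma cmp'_natural {A B C : Scheme.{u}} (h : A ⟶ B) (g' : B ⟶ C) (g : A ⟶ C) (w : h ≫ g' = g) {V W : C.Etale} (i : V ⟶ W) :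
    (EtCoh.bc g).map i ≫ cmp' h g' g w W = cmp' h g' g w V ≫ (EtCoh.bc h).map ((EtCoh.bc g').map i) := by
  apply hom_ext_pr2
  rw [MorphismProperty.Comma.comp_left, MorphismProperty.Comma.comp_left, Category.assoc, Category.assoc, cmp'_pr,
    bc_map_pr, ← Category.assoc ((EtCoh.bc h).map ((EtCoh.bc g').map i)).left, bc_map_pr, Category.assoc, bc_map_pr,
    ← Category.assoc (pr h ((EtCoh.bc g').obj V)), ← Category.assoc (cmp' h g' g w V).left, cmp'_pr]

/-- direct images along a composite -/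
noncomputable def compT {A B C : Scheme.{u}} (h : A ⟶ B) (g' : B ⟶ C) (g : A ⟶ C) (w : h ≫ g' = g) :
    EtCoh.push h ⋙ EtCoh.push g' ⟶ EtCoh.push g where
  app G := ⟨{ app := fun V => G.obj.map (cmp' h g' g w V.unop).op
              naturality := fun V W i => by
                refine (G.obj.map_comp _ _).symm.trans (Eq.trans ?_ (G.obj.map_comp _ _))
                exact congrArg G.obj.map (congrArg Quiver.Hom.op (cmp'_natural h g' g w i.unop).symm) }⟩
  naturality G G' f := ObjectProperty.hom_ext _ (NatTrans.ext (funext fun V => (f.hom.naturality _).symm))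

/-- the projection of a base change along the identity -/
noncomputable def prOne {A : Scheme.{u}} (V : A.Etale) : (EtCoh.bc (𝟙 A)).obj V ⟶ V :=
  MorphismProperty.Over.homMk (pr (𝟙 A) V)
    (((pullback.condition : pullback.fst V.hom (𝟙 A) ≫ V.hom = pullback.snd V.hom (𝟙 A) ≫ 𝟙 A)).trans (Category.comp_id _)) trivial

/-- direct image along the identity -/
noncomputable def idT (A : Scheme.{u}) : 𝟭 (EtCoh.Ab A) ⟶ EtCoh.push (𝟙 A) where
  app G := ⟨{ app := fun V => G.obj.map (prOne V.unop).op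
              naturality := fun V W i => by
                refine (G.obj.map_comp _ _).symm.trans (Eq.trans ?_ (G.obj.map_comp _ _))
                refine congrArg G.obj.map (congrArg Quiver.Hom.op (?_ : prOne W.unop ≫ i.unop = (EtCoh.bc (𝟙 A)).map i.unop ≫ prOne V.unop))
                apply MorphismProperty.Over.Hom.ext
                exact (bc_map_pr (𝟙 A) i.unop).symm }⟩
  naturality G G' f := ObjectProperty.hom_ext _ (NatTrans.ext (funext fun V => (f.hom.naturality _).symm))

instance isIso_prOne {A : Scheme.{u}} (V : A.Etale) : IsIso (prOne V) := by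
  let j : V ⟶ (EtCoh.bc (𝟙 A)).obj V := MorphismProperty.Over.homMk
    (pullback.lift (𝟙 _) V.hom (by rw [Category.id_comp, Category.comp_id])) (pullback.lift_snd _ _ _) trivial
  refine ⟨⟨j, ?_, ?_⟩⟩
  · apply hom_ext_pr
    rw [MorphismProperty.Comma.comp_left, Category.assoc]
    exact (congrArg (fun t => (prOne V).left ≫ t) (pullback.lift_fst _ _ _)).trans
      ((Category.comp_id _).trans (Category.id_comp _).symm)
  · apply MorphismProperty.Over.Hom.ext
    exact pullback.lift_fst _ _ _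

/-- inverse image along the identity -/
noncomputable def pullId (A : Scheme.{u}) : EtCoh.pull (𝟙 A) ≅ 𝟭 (EtCoh.Ab A) :=
  haveI : ∀ G, IsIso ((idT A).app G) := fun G => by
    haveI : IsIso ((sheafToPresheaf _ AddCommGrpCat.{u + 1}).map ((idT A).app G)) := by
      haveI : ∀ V, IsIso (((sheafToPresheaf _ AddCommGrpCat.{u + 1}).map ((idT A).app G)).app V) := fun V =>
        inferInstanceAs (IsIso (G.obj.map (prOne V.unop).op))
      exact NatIso.isIso_of_isIso_app _
    exact isIso_of_fully_faithful (sheafToPresheaf _ AddCommGrpCat.{u + 1}) _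
  haveI : IsIso (idT A) := NatIso.isIso_of_isIso_app _
  ((EtCoh.pullPushAdj (𝟙 A)).ofNatIsoRight (asIso (idT A)).symm).leftAdjointUniq Adjunction.id

/-- the chosen resolution of the inverse image -/
noncomputable def R (Y : Over S) : InjectiveResolution ((EtCoh.pull Y.hom).obj F) := injectiveResolution _

/-- direct images of complexes -/
noncomputable def pC {A B : Scheme.{u}} (h : A ⟶ B) (K : CochainComplex (EtCoh.Ab A) ℕ) : CochainComplex (EtCoh.Ab B) ℕ :=
  ((EtCoh.push h).mapHomologicalComplex (ComplexShape.up ℕ)).obj K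

lemma pC_injective {Y Y' : Over S} (h : Y ⟶ Y') (n : ℕ) : Injective ((pC h.left (R F Y).cocomplex).X n) :=
  injective_push h.left ((R F Y).cocomplex.X n)

/-- the structure map of the resolution, on sections -/
noncomputable def e0 (Y : Over S) : F ⟶ (EtCoh.push Y.hom).obj ((R F Y).cocomplex.X 0) :=
  ((EtCoh.pullPushAdj Y.hom).homEquiv F ((R F Y).cocomplex.X 0)) ((R F Y).ι.f 0)

/-- the map comparing structure maps -/
noncomputable def e0map {Y Y' : Over S} (h : Y ⟶ Y') :
    F ⟶ (EtCoh.push Y'.hom).obj ((EtCoh.push h.left).obj ((R F Y).cocomplex.X 0)) :=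
  ⟨{ app := fun V => (e0 F Y).hom.app V ≫
       ((R F Y).cocomplex.X 0).obj.map (cmp h.left Y'.hom Y.hom (Over.w h) V.unop).op
     naturality := fun V W i => by
       refine (Category.assoc _ _ _).symm.trans ((congrArg (fun t => t ≫ _) ((e0 F Y).hom.naturality i)).trans ?_)
       refine (Category.assoc _ _ _).trans (Eq.trans ?_ (Category.assoc _ _ _).symm)
       refine congrArg (fun t => (e0 F Y).hom.app V ≫ t) ?_
       refine (((R F Y).cocomplex.X 0).obj.map_comp _ _).symm.trans (Eq.trans ?_ (((R F Y).cocomplex.X 0).obj.map_comp _ _))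
       exact congrArg _ (congrArg Quiver.Hom.op (cmp_natural h.left Y'.hom Y.hom (Over.w h) i.unop).symm) }⟩

/-- compatibility with the structure maps -/
def Good {Y Y' : Over S} (h : Y ⟶ Y') (φ : (R F Y').cocomplex ⟶ pC h.left (R F Y).cocomplex) : Prop :=
  e0 F Y' ≫ (EtCoh.push Y'.hom).map (φ.f 0) = e0map F h

lemma homEquiv_zero {A : Scheme.{u}} (g : A ⟶ S) (K : EtCoh.Ab A) :
    (EtCoh.pullPushAdj g).homEquiv F K 0 = 0 :=
  ((EtCoh.pullPushAdj g).homEquiv_unit _ _ _).trans
    ((congrArg (fun t => _ ≫ t) ((EtCoh.push g).map_zero _ _)).trans comp_zero)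

lemma e0_d (Y : Over S) : e0 F Y ≫ (EtCoh.push Y.hom).map ((R F Y).cocomplex.d 0 1) = 0 := by
  refine ((EtCoh.pullPushAdj Y.hom).homEquiv_naturality_right _ _).symm.trans ?_
  exact (congrArg ((EtCoh.pullPushAdj Y.hom).homEquiv F _) (R F Y).ι_f_zero_comp_complex_d).trans (homEquiv_zero F _ _)

theorem exists_good {Y Y' : Over S} (h : Y ⟶ Y') : ∃ φ, Good F h φ := by
  let a := EtCoh.pullPushAdj Y'.hom
  obtain ⟨φ, hφ⟩ := exists_ext (R F Y') (pC h.left (R F Y).cocomplex) (pC_injective F h)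
    ((a.homEquiv F _).symm (e0map F h)) (by
      apply (a.homEquiv F _).injective
      refine (a.homEquiv_naturality_right _ _).trans
        ((congrArg (fun t => t ≫ _) ((a.homEquiv F _).apply_symm_apply (e0map F h))).trans
          (Eq.trans ?_ (homEquiv_zero F _ _).symm))
      refine ObjectProperty.hom_ext _ (NatTrans.ext (funext fun V => ?_))
      change ((e0 F Y).hom.app V ≫ ((R F Y).cocomplex.X 0).obj.map _) ≫ ((R F Y).cocomplex.d 0 1).hom.app _ = 0
      refine (Category.assoc _ _ _).trans ((congrArg (fun t => (e0 F Y).hom.app V ≫ t)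
        (((R F Y).cocomplex.d 0 1).hom.naturality _)).trans ?_)
      refine (Category.assoc _ _ _).symm.trans ?_
      have := congr_app (congrArg (fun t => t.hom) (e0_d F Y)) V
      exact (congrArg (fun t => t ≫ ((R F Y).cocomplex.X 1).obj.map _) this).trans zero_comp)
  exact ⟨φ, (a.homEquiv_naturality_right _ _).symm.trans
    ((congrArg (a.homEquiv F _) hφ).trans ((a.homEquiv F _).apply_symm_apply _))⟩

theorem good_unique {Y Y' : Over S} (h : Y ⟶ Y') {φ ψ : (R F Y').cocomplex ⟶ pC h.left (R F Y).cocomplex}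
    (h1 : Good F h φ) (h2 : Good F h ψ) : Nonempty (Homotopy φ ψ) := by
  let a := EtCoh.pullPushAdj Y'.hom
  refine homotopy (R F Y') _ (pC_injective F h) φ ψ ((a.homEquiv F _).injective ?_)
  exact ((a.homEquiv_naturality_right _ _).trans (h1.trans h2.symm)).trans (a.homEquiv_naturality_right _ _).symm

/-- the chosen map -/
noncomputable def φ {Y Y' : Over S} (h : Y ⟶ Y') : (R F Y').cocomplex ⟶ pC h.left (R F Y).cocomplex :=
  (exists_good F h).choose

/-- global sections -/
noncomputable abbrev Γ (A : Scheme.{u}) : EtCoh.Ab A ⥤ AddCommGrpCat.{u + 1} :=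
  sheafToPresheaf _ AddCommGrpCat.{u + 1} ⋙ (evaluation _ _).obj (op (EtCoh.top A))

instance (A : Scheme.{u}) : (Γ A).Additive where

/-- sections of the resolution -/
noncomputable abbrev ΓR (Y : Over S) : CochainComplex AddCommGrpCat.{u + 1} ℕ :=
  ((Γ Y.left).mapHomologicalComplex (ComplexShape.up ℕ)).obj (R F Y).cocomplex

/-- the graph -/
noncomputable def σ {A B : Scheme.{u}} (h : A ⟶ B) : EtCoh.top A ⟶ (EtCoh.bc h).obj (EtCoh.top B) :=
  MorphismProperty.Over.homMk (pullback.lift h (𝟙 A) ((Category.comp_id _).trans (Category.id_comp _).symm))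
    (pullback.lift_snd _ _ _) trivial

/-- sections of direct images -/
noncomputable def τ {A B : Scheme.{u}} (h : A ⟶ B) : EtCoh.push h ⋙ Γ B ⟶ Γ A where
  app G := G.obj.map (σ h).op
  naturality G G' f := (f.hom.naturality _).symm

/-- sections of a map of resolutions -/
noncomputable def gm {Y Y' : Over S} (h : Y ⟶ Y') (f : (R F Y').cocomplex ⟶ pC h.left (R F Y).cocomplex) :
    ΓR F Y' ⟶ ΓR F Y :=
  ((Γ Y'.left).mapHomologicalComplex (ComplexShape.up ℕ)).map f ≫
    (NatTrans.mapHomologicalComplex (τ h.left) (ComplexShape.up ℕ)).app (R F Y).cocomplex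

lemma homology_eq {Y Y' : Over S} (h : Y ⟶ Y') {f g : (R F Y').cocomplex ⟶ pC h.left (R F Y).cocomplex}
    (h1 : Good F h f) (h2 : Good F h g) (q : ℕ) :
    HomologicalComplex.homologyMap (gm F h f) q = HomologicalComplex.homologyMap (gm F h g) q := by
  obtain ⟨t⟩ := good_unique F h h1 h2
  exact (((Γ Y'.left).mapHomotopy t).compRight _).homologyMap_eq q

lemma good_id (Y : Over S) : Good F (𝟙 Y) ((NatTrans.mapHomologicalComplex (idT Y.left) (ComplexShape.up ℕ)).app (R F Y).cocomplex) := by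
  refine ObjectProperty.hom_ext _ (NatTrans.ext (funext fun V => ?_))
  change (e0 F Y).hom.app V ≫ ((R F Y).cocomplex.X 0).obj.map (prOne ((EtCoh.bc Y.hom).obj V.unop)).op =
    (e0 F Y).hom.app V ≫ ((R F Y).cocomplex.X 0).obj.map (cmp (𝟙 Y.left) Y.hom Y.hom (Category.id_comp _) V.unop).op
  congr 2
  refine congrArg Quiver.Hom.op ?_
  apply hom_ext_pr
  exact (cmp_pr (𝟙 Y.left) Y.hom Y.hom (Category.id_comp _) V.unop).symm

lemma gm_id (Y : Over S) : gm F (𝟙 Y) ((NatTrans.mapHomologicalComplex (idT Y.left) (ComplexShape.up ℕ)).app (R F Y).cocomplex) = 𝟙 _ := by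
  ext n : 1
  change ((R F Y).cocomplex.X n).obj.map (prOne (EtCoh.top Y.left)).op ≫ ((R F Y).cocomplex.X n).obj.map (σ (𝟙 Y.left)).op = _
  rw [← Functor.map_comp, ← op_comp, (topTerminal Y.left).hom_ext (σ (𝟙 Y.left) ≫ prOne _) (𝟙 _), op_id]
  exact (((R F Y).cocomplex.X n).obj.map_id _)

/-- the composite candidate -/
noncomputable def cand {Y₁ Y₂ Y₃ : Over S} (h : Y₂ ⟶ Y₁) (k : Y₃ ⟶ Y₂) :
    (R F Y₁).cocomplex ⟶ pC (k ≫ h).left (R F Y₃).cocomplex :=
  φ F h ≫ ((EtCoh.push h.left).mapHomologicalComplex (ComplexShape.up ℕ)).map (φ F k) ≫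
    (NatTrans.mapHomologicalComplex (compT k.left h.left (k ≫ h).left rfl) (ComplexShape.up ℕ)).app (R F Y₃).cocomplex

lemma good_comp {Y₁ Y₂ Y₃ : Over S} (h : Y₂ ⟶ Y₁) (k : Y₃ ⟶ Y₂) : Good F (k ≫ h) (cand F h k) := by
  refine ObjectProperty.hom_ext _ (NatTrans.ext (funext fun V => ?_))
  have e1 := congr_app (congrArg (fun t => t.hom) ((exists_good F h).choose_spec)) V
  have e2 := congr_app (congrArg (fun t => t.hom) ((exists_good F k).choose_spec)) V
  change (e0 F Y₁).hom.app V ≫ ((φ F h).f 0).hom.app _ ≫ ((φ F k).f 0).hom.app _ ≫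
    ((R F Y₃).cocomplex.X 0).obj.map _ = _
  refine (Category.assoc _ _ _).symm.trans ((congrArg (fun t => t ≫ _) e1).trans ?_)
  refine (Category.assoc _ _ _).trans ?_
  refine (congrArg (fun t => (e0 F Y₂).hom.app V ≫ t) ((Category.assoc _ _ _).symm.trans
    ((congrArg (fun t => t ≫ _) (((φ F k).f 0).hom.naturality _)).trans (Category.assoc _ _ _)))).trans ?_
  refine (Category.assoc _ _ _).symm.trans ((congrArg (fun t => t ≫ _) e2).trans ?_)
  refine (Category.assoc _ _ _).trans (congrArg (fun t => (e0 F Y₃).hom.app V ≫ t) ?_)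
  refine (congrArg (fun t => _ ≫ t) (((R F Y₃).cocomplex.X 0).obj.map_comp _ _).symm).trans ?_
  refine (((R F Y₃).cocomplex.X 0).obj.map_comp _ _).symm.trans ?_
  refine congrArg _ ?_
  apply Quiver.Hom.unop_inj
  apply hom_ext_pr
  change (((cmp' k.left h.left (k ≫ h).left rfl _) ≫ (EtCoh.bc k.left).map (cmp h.left Y₁.hom Y₂.hom (Over.w h) V.unop)) ≫
    cmp k.left Y₂.hom Y₃.hom (Over.w k) V.unop).left ≫ _ = _
  rw [MorphismProperty.Comma.comp_left, MorphismProperty.Comma.comp_left, Category.assoc, Category.assoc, cmp_pr,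
    ← Category.assoc ((EtCoh.bc k.left).map (cmp h.left Y₁.hom Y₂.hom (Over.w h) V.unop)).left, bc_map_pr, Category.assoc, cmp_pr,
    ← Category.assoc (pr k.left _), ← Category.assoc, cmp'_pr]
  exact (cmp_pr _ _ _ (Over.w (k ≫ h)) _).symm

lemma gm_comp {Y₁ Y₂ Y₃ : Over S} (h : Y₂ ⟶ Y₁) (k : Y₃ ⟶ Y₂) :
    gm F (k ≫ h) (cand F h k) = gm F h (φ F h) ≫ gm F k (φ F k) := by
  ext n : 1
  change (((φ F h).f n).hom.app _ ≫ ((φ F k).f n).hom.app _ ≫ ((R F Y₃).cocomplex.X n).obj.map _) ≫
      ((R F Y₃).cocomplex.X n).obj.map _ =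
    (((φ F h).f n).hom.app _ ≫ ((R F Y₂).cocomplex.X n).obj.map _) ≫ ((φ F k).f n).hom.app _ ≫
      ((R F Y₃).cocomplex.X n).obj.map _
  refine ((Category.assoc _ _ _).trans (congrArg (fun t => ((φ F h).f n).hom.app _ ≫ t) ?_)).trans (Category.assoc _ _ _).symm
  refine (Category.assoc _ _ _).trans ?_
  refine Eq.trans ?_ ((congrArg (fun t => t ≫ _) (((φ F k).f n).hom.naturality _)).symm.trans (Category.assoc _ _ _))
  refine Eq.trans ?_ (Category.assoc _ _ _).symm
  refine congrArg (fun t => ((φ F k).f n).hom.app _ ≫ t) ?_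
  refine (((R F Y₃).cocomplex.X n).obj.map_comp _ _).symm.trans (Eq.trans ?_ (((R F Y₃).cocomplex.X n).obj.map_comp _ _))
  refine congrArg _ ?_
  apply Quiver.Hom.unop_inj
  apply hom_ext_pr2
  change (σ (k ≫ h).left ≫ cmp' k.left h.left (k ≫ h).left rfl _).left ≫ _ =
    (σ k.left ≫ (EtCoh.bc k.left).map (σ h.left)).left ≫ _
  rw [MorphismProperty.Comma.comp_left, MorphismProperty.Comma.comp_left, Category.assoc, Category.assoc, cmp'_pr,
    ← Category.assoc ((EtCoh.bc k.left).map (σ h.left)).left, bc_map_pr, Category.assoc]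
  refine Eq.trans (pullback.lift_fst _ _ _) ?_
  refine Eq.trans ?_ ((congrArg (fun t => (σ k.left).left ≫ pr k.left (EtCoh.top Y₂.left) ≫ t) (pullback.lift_fst _ _ _)).trans rfl).symm
  exact ((Category.assoc _ _ _).symm.trans (congrArg (fun t => t ≫ h.left) (pullback.lift_fst _ _ _))).symm

/-- cohomology of the inverse image, as a functor -/
noncomputable def Φ (q : ℕ) : (Over S)ᵒᵖ ⥤ AddCommGrpCat.{u + 1} where
  obj Y := (ΓR F Y.unop).homology q
  map h := HomologicalComplex.homologyMap (gm F h.unop (φ F h.unop)) q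
  map_id Y := by
    refine (homology_eq F (𝟙 Y.unop) (exists_good F (𝟙 Y.unop)).choose_spec (good_id F Y.unop) q).trans ?_
    rw [gm_id]
    exact HomologicalComplex.homologyMap_id _ _
  map_comp {Y₁ Y₂ Y₃} h k := by
    refine (homology_eq F (k.unop ≫ h.unop) (exists_good F (k.unop ≫ h.unop)).choose_spec (good_comp F h.unop k.unop) q).trans ?_
    rw [gm_comp]
    exact HomologicalComplex.homologyMap_comp _ _ _

/-- global sections, corepresented -/
noncomputable def secIso (A : Scheme.{u}) :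
    preadditiveCoyoneda.obj (op ((constantSheaf A.smallEtaleTopology AddCommGrpCat.{u + 1}).obj
      (AddCommGrpCat.of (ULift.{u + 1} ℤ)))) ≅ Γ A :=
  let adj := constantSheafAdj A.smallEtaleTopology AddCommGrpCat.{u + 1} (topTerminal A)
  NatIso.ofComponents (fun G => ((adj.homAddEquiv _ G).trans (AddCommGrpCat.uliftZMultiplesAddEquiv _)).toAddCommGrpIso)
    (fun {G G'} g => ConcreteCategory.hom_ext _ _ fun x =>
      congrArg (AddCommGrpCat.uliftZMultiplesAddEquiv _) (adj.homEquiv_naturality_right x g))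

theorem Φ_iso (q : ℕ) (Y : Over S) :
    Nonempty ((Φ F q).obj (op Y) ≅ AddCommGrpCat.of (EtCoh.H Y.left ((EtCoh.pull Y.hom).obj F) q)) :=
  ⟨((R F Y).isoRightDerivedObj (Γ Y.left) q).symm ≪≫
    (H5HomExt.nonempty_rightDerived_iso_ext _ _ (secIso Y.left).symm q).some⟩

/-- an augmented simplicial object seen over its point -/
noncomputable def overAug {C : Type*} [Category C] (A : SimplicialObject.Augmented C) :
    SimplicialObject.Augmented (Over A.right) where
  left :=
    { obj := fun n => Over.mk (A.hom.app n)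
      map := fun {m n} g => Over.homMk (A.left.map g) (by simpa using A.hom.naturality g)
      map_id := fun n => by ext; exact A.left.map_id n
      map_comp := fun g h => by ext; exact A.left.map_comp g h }
  right := Over.mk (𝟙 A.right)
  hom :=
    { app := fun n => Over.homMk (A.hom.app n) (by exact Category.comp_id _)
      naturality := fun m n g => by ext; simpa using A.hom.naturality g }

/-- with its extra degeneracy -/
noncomputable def overED {C : Type*} [Category C] (A : SimplicialObject.Augmented C) (ed : SimplicialObject.Augmented.ExtraDegeneracy A) :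
    SimplicialObject.Augmented.ExtraDegeneracy (overAug A) where
  s' := Over.homMk ed.s' ed.s'_comp_ε
  s n := Over.homMk (ed.s n) (by
    change ed.s n ≫ A.hom.app (op ⦋n + 1⦌) = A.hom.app (op ⦋n⦌)
    have h := A.hom.naturality (SimplexCategory.δ (0 : Fin (n + 2))).op
    have h' : A.left.δ 0 ≫ A.hom.app (op ⦋n⦌) = A.hom.app (op ⦋n + 1⦌) := h.trans (Category.comp_id _)
    rw [← h', ed.s_comp_δ₀_assoc])
  s'_comp_ε := by ext; exact ed.s'_comp_ε
  s₀_comp_δ₁ := by ext; exact ed.s₀_comp_δ₁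
  s_comp_δ₀ n := by ext; exact ed.s_comp_δ₀ n
  s_comp_δ n i := by ext; exact ed.s_comp_δ n i
  s_comp_σ n i := by ext; exact ed.s_comp_σ n i



theorem descent_section {X S : Scheme.{u}} (f : X ⟶ S) (s : S ⟶ X) (hs : s ≫ f = 𝟙 S) (F : EtCoh.Ab S) :
    ∃ (E : CohomologicalSpectralSequence AddCommGrpCat.{u + 1} 1)
      (a : SpSeq.Abutment E (fun n : ℤ =>
        if 0 ≤ n then AddCommGrpCat.of (EtCoh.H S F n.toNat) else AddCommGrpCat.of PUnit.{u + 2})),
      (∀ n, a.IsFinite n) ∧ SpSeq.IsBounded E ∧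
      ∀ p q : ℤ, Nonempty ((E.page 1 le_rfl).X (p, q) ≅
        (if 0 ≤ p ∧ 0 ≤ q then
          AddCommGrpCat.of (EtCoh.H (widePullback S (fun _ : Fin (p.toNat + 1) => X) (fun _ => f)) ((EtCoh.pull
            (WidePullback.base (fun _ : Fin (p.toNat + 1) => f) :
              widePullback S (fun _ : Fin (p.toNat + 1) => X) (fun _ => f) ⟶ S)).obj F) q.toNat)
         else AddCommGrpCat.of PUnit.{u + 2})) := by
  let A := (Arrow.mk f).augmentedCechNerve
  let ed := overED A (Arrow.AugmentedCechNerve.extraDegeneracy (Arrow.mk f) ⟨s, hs⟩)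
  let K : ℕ → CochainComplex AddCommGrpCat.{u + 1} ℕ := fun q => H5SplitSS.cochains (Φ F q) (overAug A)
  obtain ⟨E, a, h1, h2, h3⟩ := H5SplitSS.exists_degenerate K
    (H := fun n : ℤ => if 0 ≤ n then AddCommGrpCat.of (EtCoh.H S F n.toNat) else AddCommGrpCat.of PUnit.{u + 2})
    (fun n hn => by rw [if_neg (by omega)]; exact AddCommGrpCat.isZero_of_subsingleton _)
    (fun q => by
      obtain ⟨e⟩ := H5SplitSS.cochains_zero (Φ F q) (overAug A) ed
      obtain ⟨e'⟩ := Φ_iso F q (Over.mk (𝟙 S))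
      refine ⟨e ≪≫ e' ≪≫ ((Abelian.extFunctor.{u + 1} q).obj (op _)).mapIso ((pullId S).app F) ≪≫
        eqToIso (by rw [if_pos (Int.natCast_nonneg q), Int.toNat_natCast]; rfl)⟩)
    (fun q p => H5SplitSS.cochains_exact (Φ F q) (overAug A) ed p)
  refine ⟨E, a, h1, h2, fun p q => ?_⟩
  obtain ⟨e⟩ := h3 p q
  by_cases h : 0 ≤ p ∧ 0 ≤ q
  · rw [if_pos h] at e ⊢
    exact ⟨e ≪≫ (Φ_iso F q.toNat
      (Over.mk (WidePullback.base (fun _ : Fin (p.toNat + 1) => f) :
        widePullback S (fun _ : Fin (p.toNat + 1) => X) (fun _ => f) ⟶ S))).some⟩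
  · rw [if_neg h] at e ⊢
    exact ⟨e⟩


end descent

end Groth.Agent.H5EtDescSec
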