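import Mathlib
import Groth.Prelude.Def_EtBase

/-! Exactness of the inverse image of sheaves of modules on small étale sites. -/

set_option autoImplicit false
universe u
open CategoryTheory Category Limits Opposite AlgebraicGeometry

namespace Groth.Agent.LEtPullExactAb


lemma colim_preservesFiniteLimits {J : Type (u + 1)} [Category.{u} J] [IsFiltered J] :
    PreservesFiniteLimits (colim : (J ⥤ AddCommGrpCat.{u + 1}) ⥤ AddCommGrpCat.{u + 1}) := by
  let e : J ≌ AsSmall.{u + 1} J := AsSmall.equiv
  have : IsFiltered (AsSmall.{u + 1} J) := IsFiltered.of_equivalence e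
  exact preservesFiniteLimits_of_natIso
    (Functor.Final.colimIso (E := AddCommGrpCat.{u + 1}) e.inverse)

section lan

variable {C D : Type (u + 1)} [Category.{u} C] [Category.{u} D] (F : C ⥤ D)

set_option backward.defeqAttrib.useBackward true in
set_option backward.isDefEq.respectTransparency false in
/-- evaluation of the left Kan extension as a colimit -/
noncomputable def lanEvalIso (X : D) :
    (F.lan : (C ⥤ AddCommGrpCat.{u + 1}) ⥤ _) ⋙ (evaluation D (AddCommGrpCat.{u + 1})).obj X ≅
      (Functor.whiskeringLeft _ _ (AddCommGrpCat.{u + 1})).obj (CostructuredArrow.proj F X) ⋙ colim :=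
  NatIso.ofComponents (fun G =>
    IsColimit.coconePointUniqueUpToIso
    (Functor.isPointwiseLeftKanExtensionLeftKanExtensionUnit F G X)
    (colimit.isColimit _)) (fun {G₁ G₂} φ => by
      apply (Functor.isPointwiseLeftKanExtensionLeftKanExtensionUnit F G₁ X).hom_ext
      intro T
      have h₁ := fun (G : C ⥤ AddCommGrpCat.{u + 1}) => IsColimit.comp_coconePointUniqueUpToIso_hom
        (Functor.isPointwiseLeftKanExtensionLeftKanExtensionUnit F G X) (colimit.isColimit _) T
      have h₂ := congr_app (F.lanUnit.naturality φ) T.left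
      dsimp at h₁ h₂ ⊢
      simp only [Category.assoc] at h₁ ⊢
      simp only [Functor.lan, Functor.lanUnit] at h₂ ⊢
      rw [reassoc_of% h₁, NatTrans.naturality_assoc, ← reassoc_of% h₂, h₁,
        ι_colimMap, Functor.whiskerLeft_app]
      rfl)

lemma lan_preservesFiniteLimits [RepresentablyFlat F] :
    PreservesFiniteLimits (F.op.lan : (Cᵒᵖ ⥤ AddCommGrpCat.{u + 1}) ⥤ Dᵒᵖ ⥤ AddCommGrpCat.{u + 1}) := by
  refine ⟨fun J _ _ => ?_⟩
  apply preservesLimitsOfShape_of_evaluation
  intro K
  have : IsFiltered (CostructuredArrow F.op K) :=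
    IsFiltered.of_equivalence (structuredArrowOpEquivalence F (unop K))
  have := colim_preservesFiniteLimits (J := CostructuredArrow F.op K)
  exact preservesLimitsOfShape_of_natIso (lanEvalIso F.op K).symm

end lan

theorem preservesFiniteLimits_pull {X Y : Scheme.{u}} (g : X ⟶ Y) : PreservesFiniteLimits (EtCoh.pull g) := by
  haveI : PreservesFiniteLimits (EtCoh.bc g) := inferInstance
  haveI : RepresentablyFlat (EtCoh.bc g) := flat_of_preservesFiniteLimits _
  haveI := lan_preservesFiniteLimits (EtCoh.bc g)
  exact Functor.sheafPullbackConstruction.preservesFiniteLimits (EtCoh.bc g) (AddCommGrpCat.{u + 1}) _ _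

end Groth.Agent.LEtPullExactAb
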