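import Groth.Agent.Lib.LEtStalk
import Groth.Agent.Lib.LEtPullExactAb

/-! Stalks of inverse images on small étale sites. -/

set_option autoImplicit false
universe u
open CategoryTheory Category Limits Opposite AlgebraicGeometry

namespace Groth.Agent.LEtStalkPull

variable {X Y : Scheme.{u}} (f : X ⟶ Y) {Ω : Type u} [Field Ω] [IsSepClosed Ω] (ξ : Spec (CommRingCat.of Ω) ⟶ X)

/-- fibres of base change -/
noncomputable def fiberIso :
    EtCoh.bc f ⋙ (Scheme.pointSmallEtale ξ).fiber ≅ (Scheme.pointSmallEtale (ξ ≫ f)).fiber :=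
  NatIso.ofComponents (fun W => Equiv.toIso
    { toFun := fun t => (Over.homMk (t.left ≫ pullback.fst W.hom f) (by
          refine (Category.assoc _ _ _).trans ((congrArg (t.left ≫ ·) pullback.condition).trans ?_)
          exact (Category.assoc _ _ _).symm.trans (congrArg (· ≫ f) (Over.w t))) :
          Over.mk (ξ ≫ f) ⟶ (Scheme.Etale.forget Y).obj W)
      invFun := fun s => (Over.homMk (pullback.lift s.left ξ (Over.w s)) (pullback.lift_snd _ _ _) :
          Over.mk ξ ⟶ (Scheme.Etale.forget X).obj ((EtCoh.bc f).obj W))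
      left_inv := fun t => Over.OverMorphism.ext (pullback.hom_ext (pullback.lift_fst _ _ _)
        ((pullback.lift_snd _ _ _).trans (Over.w t).symm))
      right_inv := fun s => Over.OverMorphism.ext (pullback.lift_fst _ _ _) })
    (fun {W W'} g => by
      ext t
      refine Over.OverMorphism.ext ?_
      change (t.left ≫ ((EtCoh.bc f).map g).left) ≫ pullback.fst W'.hom f = (t.left ≫ pullback.fst W.hom f) ≫ g.left
      rw [Category.assoc, Category.assoc]
      congr 1
      exact (EtCoh.isPullback_bc_map f g).w)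

lemma initiallySmall_of_iso {C : Type*} [Category* C] {F G : C ⥤ Type u} (e : F ≅ G)
    [InitiallySmall.{u} G.Elements] : InitiallySmall.{u} F.Elements := by
  let E : G.Elements ≌ F.Elements :=
    CategoryTheory.Equivalence.mk (CategoryOfElements.map e.inv) (CategoryOfElements.map e.hom)
      (NatIso.ofComponents (fun p => CategoryOfElements.isoMk _ _ (Iso.refl _) (by
        exact (ConcreteCategory.congr_hom (G.map_id _) _).trans
          (ConcreteCategory.congr_hom (e.inv_hom_id_app p.1) p.2).symm))
        (fun φ => CategoryOfElements.ext _ _ _ ((Category.comp_id _).trans (Category.id_comp _).symm)))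
      (NatIso.ofComponents (fun p => CategoryOfElements.isoMk _ _ (Iso.refl _) (by
        exact (ConcreteCategory.congr_hom (F.map_id _) _).trans
          (ConcreteCategory.congr_hom (e.hom_inv_id_app p.1) p.2)))
        (fun φ => CategoryOfElements.ext _ _ _ ((Category.comp_id _).trans (Category.id_comp _).symm)))
  exact initiallySmall_of_initial_of_initiallySmall E.functor

instance : InitiallySmall.{u} (EtCoh.bc f ⋙ (Scheme.pointSmallEtale ξ).fiber).Elements :=
  have : InitiallySmall.{u} (Scheme.pointSmallEtale (ξ ≫ f)).fiber.Elements := inferInstance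
  initiallySmall_of_iso (fiberIso f ξ)

/-- stalks of inverse images -/
noncomputable def stalkPullIso : EtCoh.pull f ⋙ EtCoh.stalk ξ ≅ EtCoh.stalk (ξ ≫ f) :=
  let Φ₁ := (Scheme.pointSmallEtale ξ).comap (EtCoh.bc f) (EtCoh.coverPreserving_bc f)
  let Φ₂ := Scheme.pointSmallEtale (ξ ≫ f)
  let a : Φ₁ ⟶ Φ₂ := ⟨(fiberIso f ξ).inv⟩
  let b : Φ₂ ⟶ Φ₁ := ⟨(fiberIso f ξ).hom⟩
  ((Scheme.pointSmallEtale ξ).sheafFiberComapIso (EtCoh.bc f) (EtCoh.coverPreserving_bc f) AddCommGrpCat.{u + 1}).symm ≪≫
    { hom := b.sheafFiber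
      inv := a.sheafFiber
      hom_inv_id := by
        rw [← GrothendieckTopology.Point.Hom.sheafFiber_comp,
          show a ≫ b = 𝟙 Φ₁ from GrothendieckTopology.Point.hom_ext (fiberIso f ξ).hom_inv_id,
          GrothendieckTopology.Point.Hom.sheafFiber_id]
      inv_hom_id := by
        rw [← GrothendieckTopology.Point.Hom.sheafFiber_comp,
          show b ≫ a = 𝟙 Φ₂ from GrothendieckTopology.Point.hom_ext (fiberIso f ξ).inv_hom_id,
          GrothendieckTopology.Point.Hom.sheafFiber_id] }

end Groth.Agent.LEtStalkPull
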