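import Mathlib
import Groth.Prelude
import Groth.Agent.Lib.LEtStalkPull
universe u
open CategoryTheory Limits AlgebraicGeometry Opposite
namespace Groth.Agent.H5EtFaithful
set_option maxHeartbeats 800000

theorem pullSh_faithful_reflects {X' X : Scheme.{u}} (f : X' ⟶ X) [Surjective f] :
    (EtDesc.pullSh f).Faithful ∧ (EtDesc.pullSh f).ReflectsIsomorphisms := by
  haveI : PreservesFilteredColimitsOfSize.{u, u} (forget (Type (u + 1))) :=
    preservesFilteredColimitsOfSize_shrink.{u, u + 1, u, u + 1} _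
  haveI : AB5OfSize.{u, u} (Type (u + 1)) := AB5OfSize_of_univLE.{u, u, u + 1, u + 1} _
  let Ω : X' → Type u := fun x => SeparableClosure (X'.residueField x)
  let η : ∀ x : X', Spec (CommRingCat.of (Ω x)) ⟶ X' := fun x =>
    (Scheme.SpecToEquivOfField (Ω x) X').symm ⟨x, CommRingCat.ofHom (algebraMap (X'.residueField x) _)⟩
  let ξ : ∀ x : X', Spec (CommRingCat.of (Ω x)) ⟶ X := fun x => η x ≫ f
  have hξ : ∀ y : X, ∃ x, ξ x default = y := by
    intro y
    obtain ⟨x, hx⟩ := f.surjective y
    refine ⟨x, ?_⟩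
    refine (Scheme.Hom.comp_apply (η x) f _).trans ?_
    simpa [η, Scheme.SpecToEquivOfField] using hx
  let Φ : ∀ x : X', GrothendieckTopology.Point.{u} X.smallEtaleTopology := fun x => Scheme.pointSmallEtale (ξ x)
  let Φ' : ∀ x : X', GrothendieckTopology.Point.{u} X'.smallEtaleTopology := fun x => Scheme.pointSmallEtale (η x)
  have e : ∀ x : X', Nonempty (EtDesc.pullSh f ⋙ (Φ' x).sheafFiber (A := Type (u + 1)) ≅ (Φ x).sheafFiber (A := Type (u + 1))) := by
    intro x
    let Φ₁ := (Φ' x).comap (EtCoh.bc f) (EtCoh.coverPreserving_bc f)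
    let a : Φ₁ ⟶ Φ x := ⟨(LEtStalkPull.fiberIso f (η x)).inv⟩
    let b : Φ x ⟶ Φ₁ := ⟨(LEtStalkPull.fiberIso f (η x)).hom⟩
    exact ⟨((Φ' x).sheafFiberComapIso (EtCoh.bc f) (EtCoh.coverPreserving_bc f) (Type (u + 1))).symm ≪≫
      { hom := b.sheafFiber
        inv := a.sheafFiber
        hom_inv_id := by
          rw [← GrothendieckTopology.Point.Hom.sheafFiber_comp,
            show a ≫ b = 𝟙 Φ₁ from GrothendieckTopology.Point.hom_ext (LEtStalkPull.fiberIso f (η x)).hom_inv_id,
            GrothendieckTopology.Point.Hom.sheafFiber_id]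
        inv_hom_id := by
          rw [← GrothendieckTopology.Point.Hom.sheafFiber_comp,
            show b ≫ a = 𝟙 (Φ x) from GrothendieckTopology.Point.hom_ext (LEtStalkPull.fiberIso f (η x)).inv_hom_id,
            GrothendieckTopology.Point.Hom.sheafFiber_id] }⟩
  constructor
  · refine ⟨fun {F G} {u v} huv => ?_⟩
    apply Sheaf.hom_ext
    ext W s
    obtain ⟨W⟩ := W
    have hs : Presieve.IsSeparated X.smallEtaleTopology G.obj :=
      ((isSheaf_iff_isSheaf_of_type _ _).1 G.property).isSeparated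
    refine hs (Presheaf.equalizerSieve (F := G.obj) (u.hom.app (op W) s) (v.hom.app (op W) s)) ?_ |>.ext fun Y g hg => hg
    refine LEtStalk.mem_topology_of_family ξ hξ W _ fun i x => ?_
    obtain ⟨ei⟩ := e i
    have hi : (Φ i).sheafFiber.map u = (Φ i).sheafFiber.map v := by
      rw [← NatIso.naturality_1 ei u, ← NatIso.naturality_1 ei v, Functor.comp_map, Functor.comp_map, huv]
    have h1 : (Φ i).toPresheafFiber W x G.obj (u.hom.app (op W) s) = (Φ i).toPresheafFiber W x G.obj (v.hom.app (op W) s) := by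
      rw [← (Φ i).toPresheafFiber_naturality_apply, ← (Φ i).toPresheafFiber_naturality_apply]
      exact ConcreteCategory.congr_hom hi _
    obtain ⟨Y, g, y, hy, hg⟩ := ((Φ i).toPresheafFiber_eq_iff' W x _ _).1 h1
    exact ⟨Y, g, hg, y, hy⟩
  · refine ⟨fun {F G} u hu => ?_⟩
    have hb : ∀ i, Function.Bijective ((Φ i).sheafFiber.map u) := by
      intro i
      obtain ⟨ei⟩ := e i
      haveI : IsIso ((EtDesc.pullSh f).map u) := hu
      haveI : IsIso ((Φ i).sheafFiber.map u) := by
        rw [← NatIso.naturality_1 ei u]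
        haveI : IsIso ((EtDesc.pullSh f ⋙ (Φ' i).sheafFiber).map u) := inferInstanceAs (IsIso ((Φ' i).sheafFiber.map ((EtDesc.pullSh f).map u)))
        infer_instance
      exact (isIso_iff_bijective _).1 inferInstance
    have hinj : Sheaf.IsLocallyInjective u := ⟨fun {W} a b hab => by
      refine LEtStalk.mem_topology_of_family ξ hξ W.unop _ fun i x => ?_
      have h1 : (Φ i).toPresheafFiber W.unop x F.obj a = (Φ i).toPresheafFiber W.unop x F.obj b := (hb i).1 (by
        change (Φ i).presheafFiber.map u.hom _ = (Φ i).presheafFiber.map u.hom _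
        rw [(Φ i).toPresheafFiber_naturality_apply, (Φ i).toPresheafFiber_naturality_apply, hab])
      obtain ⟨Y, g, y, hy, hg⟩ := ((Φ i).toPresheafFiber_eq_iff' W.unop x a b).1 h1
      exact ⟨Y, g, hg, y, hy⟩⟩
    have hsurj : Sheaf.IsLocallySurjective u := ⟨fun {W} s => by
      refine LEtStalk.mem_topology_of_family ξ hξ W _ fun i x => ?_
      let P := Φ i
      obtain ⟨p, hp⟩ := (hb i).2 (P.toPresheafFiber W x G.obj s)
      obtain ⟨V, v, z, rfl⟩ := P.toPresheafFiber_jointly_surjective (P := F.obj) (show P.presheafFiber.obj F.obj from p)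
      change P.presheafFiber.map u.hom _ = _ at hp
      rw [P.toPresheafFiber_naturality_apply] at hp
      obtain ⟨Z, z', a, b, ha, hb'⟩ : ∃ (Z : X.Etale) (z' : P.fiber.obj Z) (a : Z ⟶ V) (b : Z ⟶ W),
          P.fiber.map a z' = v ∧ P.fiber.map b z' = x :=
        let k₁ : P.fiber.Elements := ⟨V, v⟩
        let k₂ : P.fiber.Elements := ⟨W, x⟩
        ⟨_, _, (IsCofiltered.minToLeft k₁ k₂).1, (IsCofiltered.minToRight k₁ k₂).1,
          (IsCofiltered.minToLeft k₁ k₂).2, (IsCofiltered.minToRight k₁ k₂).2⟩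
      subst ha hb'
      rw [← P.toPresheafFiber_w_apply a, ← P.toPresheafFiber_w_apply b] at hp
      obtain ⟨Y, g, y, hy, hg⟩ := (P.toPresheafFiber_eq_iff' Z z' _ _).1 hp
      refine ⟨Y, g ≫ b, ⟨F.obj.map g.op (F.obj.map a.op z), ?_⟩, y, ?_⟩
      · rw [op_comp, Functor.map_comp, ConcreteCategory.comp_apply, NatTrans.naturality_apply,
          NatTrans.naturality_apply]
        exact hg
      · rw [Functor.map_comp, ConcreteCategory.comp_apply, hy]⟩
    haveI : Mono u := Sheaf.mono_of_isLocallyInjective u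
    haveI : Epi u := inferInstance
    exact isIso_of_mono_of_epi u

end Groth.Agent.H5EtFaithful
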