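import Groth.Agent.Lib.H5ExtSupp87

universe u

namespace Groth.Agent.H5ExtSupp86
open CategoryTheory Limits Abelian Opposite MonoidalCategory
open Groth.Agent

variable {C : Type u} [SmallCategory C] {J : GrothendieckTopology C} (U : C)

/-- the map to the point -/
noncomputable def v : yoneda.obj U ⟶ H5LocExt.pt (C := C) where
  app _ := TypeCat.ofHom fun _ => PUnit.unit

/-- the map onto the objects over `U` -/
noncomputable def yToS : yoneda.obj U ⟶ H5QuotOn.sU U where
  app _ := TypeCat.ofHom fun g => ⟨PUnit.unit, ⟨g⟩⟩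
  naturality _ _ _ := rfl

lemma yToS_sι : yToS U ≫ H5QuotOn.sι U = v U := rfl

lemma yToS_surj (V : Cᵒᵖ) : Function.Surjective ((yToS U).app V) := by
  rintro ⟨x, ⟨g⟩⟩
  exact ⟨g, Subtype.ext rfl⟩

variable (J)

/-- the free sheaf map onto the objects over `U` -/
instance epi_L1_yToS : Epi ((H5Flasque.L1 J).map (yToS U)) := by
  have : ∀ V, Epi ((Functor.whiskerRight (yToS U) AddCommGrpCat.free.{u}).app V) := fun V => by
    have : Epi ((yToS U).app V) := (epi_iff_surjective _).2 (yToS_surj U V)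
    have : PreservesColimitsOfSize.{u, u} AddCommGrpCat.free.{u} := AddCommGrpCat.adj.{u}.leftAdjoint_preservesColimits
    exact inferInstanceAs (Epi (AddCommGrpCat.free.{u}.map ((yToS U).app V)))
  have : Epi (Functor.whiskerRight (yToS U) AddCommGrpCat.free.{u}) := NatTrans.epi_of_epi_app _
  exact inferInstanceAs (Epi ((presheafToSheaf J AddCommGrpCat.{u}).map (Functor.whiskerRight (yToS U) AddCommGrpCat.free.{u})))

/-- `ℤ/ℤ_U` -/
noncomputable def quotZIso :
    cokernel ((H5Flasque.L1 J).map (H5QuotOn.sι U)) ≅ ToposFin.quotZ (ToposFin.eps J U) := by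
  let pS := H5LocExt.ptSh J
  let hsub : ∀ X : Sheaf J (Type u), Subsingleton (X ⟶ pS) := fun X =>
    ⟨fun a b => by ext V x; rfl⟩
  let θ : ⊤_ (ToposFin.Sh J) ≅ pS :=
    { hom := ⟨{ app := fun V => TypeCat.ofHom fun _ => PUnit.unit }⟩
      inv := terminal.from _
      hom_inv_id := terminal.hom_ext _ _
      inv_hom_id := (hsub _).elim _ _ }
  let η := toSheafify J (yoneda.obj U)
  haveI hη : IsIso ((H5Flasque.L1 J).map η) := by
    have : J.PreservesSheafification AddCommGrpCat.free.{u} :=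
      Sheaf.preservesSheafification_of_adjunction J AddCommGrpCat.adj.{u}
    exact (J.W_iff _).1 (J.W_of_preservesSheafification AddCommGrpCat.free.{u} _ (J.W_toSheafify _))
  have hv : η ≫ (terminal.from (ToposFin.eps J U) ≫ θ.hom).hom = yToS U ≫ H5QuotOn.sι U := by ext V x; rfl
  let a := (ToposFin.freeAb J).map (terminal.from (ToposFin.eps J U))
  let b := (ToposFin.freeAb J).map θ.hom
  haveI : IsIso b := ((ToposFin.freeAb J).mapIso θ).isIso_hom
  have key : (H5Flasque.L1 J).map η ≫ a ≫ b = (H5Flasque.L1 J).map (yToS U) ≫ (H5Flasque.L1 J).map (H5QuotOn.sι U) := by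
    refine Eq.trans ?_ ((congrArg (H5Flasque.L1 J).map hv).trans (Functor.map_comp _ _ _))
    refine Eq.trans ?_ (Functor.map_comp _ _ _).symm
    exact congrArg (fun t => (H5Flasque.L1 J).map η ≫ t) ((ToposFin.freeAb J).map_comp _ _).symm
  exact (cokernelEpiComp ((H5Flasque.L1 J).map (yToS U)) _).symm ≪≫ cokernelIsoOfEq key.symm ≪≫
    cokernelEpiComp ((H5Flasque.L1 J).map η) (a ≫ b) ≪≫ cokernelCompIsIso a b

/-- flasque sheaves have no higher cohomology with supports -/
theorem acyc_quotZ {X : Sheaf J AddCommGrpCat.{u}} (hX : CohCx.IsTotallyAcyclic X) (q : ℕ) :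
    Subsingleton (Ext.{u} (ToposFin.quotZ (ToposFin.eps J U)) X (q + 1)) := by
  let S := presheafToSheaf J AddCommGrpCat.{u}
  let W := (Functor.whiskeringRight Cᵒᵖ (Type u) AddCommGrpCat.{u}).obj AddCommGrpCat.free.{u}
  have hi : Mono (W.map (H5QuotOn.sι U)) := by
    rw [NatTrans.mono_iff_mono_app]
    intro V
    rw [AddCommGrpCat.mono_iff_injective]
    exact H5TotAcyc.free_map_injective _ (fun _ _ e => Subtype.ext e)
  let T : ShortComplex (Sheaf J AddCommGrpCat.{u}) := ShortComplex.mk ((H5Flasque.L1 J).map (H5QuotOn.sι U))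
    (cokernel.π _) (cokernel.condition _)
  have hm : Mono ((H5Flasque.L1 J).map (H5QuotOn.sι U)) := inferInstanceAs (Mono (S.map (W.map (H5QuotOn.sι U))))
  have hT : T.ShortExact := { exact := ShortComplex.exact_cokernel _ }
  haveI h2 : ∀ m, Subsingleton (Ext.{u} T.X₂ X (m + 1)) := fun m => hX (H5LocExt.ptSh J) m
  let sh := presheafToSheaf J (Type u)
  have : J.PreservesSheafification AddCommGrpCat.free.{u} :=
    Sheaf.preservesSheafification_of_adjunction J AddCommGrpCat.adj.{u}
  haveI hη : IsIso ((H5Flasque.L1 J).map (toSheafify J (H5QuotOn.sU U))) :=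
    (J.W_iff _).1 (J.W_of_preservesSheafification AddCommGrpCat.free.{u} _ (J.W_toSheafify _))
  haveI h1 : ∀ m, Subsingleton (Ext.{u} T.X₁ X (m + 1)) := fun m => by
    haveI : Subsingleton (Ext.{u} ((H5TotAcyc.Zf J).obj (sh.obj (H5QuotOn.sU U))) X (m + 1)) := hX _ m
    exact H5SiteCoh.subsingleton_retract (Z' := (H5TotAcyc.Zf J).obj (sh.obj (H5QuotOn.sU U)))
      ((H5Flasque.L1 J).map (toSheafify J (H5QuotOn.sU U))) (inv ((H5Flasque.L1 J).map (toSheafify J (H5QuotOn.sU U))))
      (IsIso.hom_inv_id _)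
  have h3 : Subsingleton (Ext.{u} T.X₃ X (q + 1)) := by
    cases q with
    | succ m => exact H5TotAcyc.cstep₃ hT (m + 1)
    | zero =>
      refine H5TotAcyc.subsingleton_of_extend hT fun φ => ?_
      let ι : sh.obj (H5QuotOn.sU U) ⟶ H5LocExt.ptSh J :=
        ⟨sheafifyLift J (H5QuotOn.sι U) (H5LocExt.ptSh J).property⟩
      haveI : Mono ι := by
        have e : ι = sh.map (H5QuotOn.sι U) ≫ (sheafificationAdjunction J (Type u)).counit.app (H5LocExt.ptSh J) := by
          apply ((sheafificationAdjunction J (Type u)).homEquiv _ _).injective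
          ext V x; rfl
        have : Mono (H5QuotOn.sι (C := C) U) := by
          rw [NatTrans.mono_iff_mono_app]
          exact fun V => (CategoryTheory.mono_iff_injective _).2 fun _ _ e => Subtype.ext e
        rw [e]
        have h1 : Mono (sh.map (H5QuotOn.sι U)) :=
          (inferInstance : (presheafToSheaf J (Type u)).PreservesMonomorphisms).preserves _
        have h2 : IsIso ((sheafificationAdjunction J (Type u)).counit.app (H5LocExt.ptSh J)) := inferInstance
        exact @mono_comp _ _ _ _ _ _ h1 _ (@IsIso.mono_of_iso _ _ _ _ _ h2)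
      obtain ⟨ψ, hψ⟩ := H5TotAcyc.restriction_surjective X hX ι
        (inv ((H5Flasque.L1 J).map (toSheafify J (H5QuotOn.sU U))) ≫ φ)
      refine ⟨ψ, ?_⟩
      have hψ' : (H5Flasque.L1 J).map ι.hom ≫ ψ = inv ((H5Flasque.L1 J).map (toSheafify J (H5QuotOn.sU U))) ≫ φ := hψ
      have e2 : (H5Flasque.L1 J).map (H5QuotOn.sι U) =
          (H5Flasque.L1 J).map (toSheafify J (H5QuotOn.sU U)) ≫ (H5Flasque.L1 J).map ι.hom :=
        (congrArg (H5Flasque.L1 J).map (toSheafify_sheafifyLift J _ _).symm).trans (Functor.map_comp _ _ _)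
      change (H5Flasque.L1 J).map (H5QuotOn.sι U) ≫ ψ = φ
      refine (congrArg (fun t => t ≫ ψ) e2).trans ?_
      refine (Category.assoc _ _ _).trans ?_
      refine (congrArg (fun t => (H5Flasque.L1 J).map (toSheafify J (H5QuotOn.sU U)) ≫ t) hψ').trans ?_
      exact IsIso.hom_inv_id_assoc _ _
  exact H5SiteCoh.subsingleton_retract (quotZIso J U).inv (quotZIso J U).hom (quotZIso J U).inv_hom_id

variable {J} (O : Sheaf J CommRingCat.{u}) (M : ModSite.Mod O) [ModSite.HasSheafHom M]

/-- cokernels correspond -/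
noncomputable def cokEquiv {P Q : Cᵒᵖ ⥤ Type u} (g : P ⟶ Q) (G : ModSite.Mod O) :
    (cokernel ((H5Flasque.L1 J).map g) ⟶ ModSite.toAb ((ModSite.sheafHom M).obj G)) ≃+
      (cokernel ((H5Flasque.L O M).map g) ⟶ G) where
  toFun φ := cokernel.desc _ (H5Flasque.E O M G Q (cokernel.π _ ≫ φ)) (by
    rw [← H5Flasque.E_nat, cokernel.condition_assoc, zero_comp, map_zero])
  invFun ψ := cokernel.desc _ ((H5Flasque.E O M G Q).symm (cokernel.π _ ≫ ψ)) (by
    apply (H5Flasque.E O M G P).injective
    rw [H5Flasque.E_nat, AddEquiv.apply_symm_apply, cokernel.condition_assoc, zero_comp, map_zero])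
  left_inv φ := by
    apply coequalizer.hom_ext
    simp only [cokernel.π_desc, AddEquiv.symm_apply_apply]
  right_inv ψ := by
    apply coequalizer.hom_ext
    simp only [cokernel.π_desc, AddEquiv.apply_symm_apply]
  map_add' a b := by
    apply coequalizer.hom_ext
    simp only [cokernel.π_desc, Preadditive.comp_add, map_add]

variable [ModSite.HasPushOver O U]

/-- `L` of the point modulo objects over `U` -/
noncomputable def cokIso : cokernel ((H5Flasque.L O M).map (H5QuotOn.sι U)) ≅ (ModSite.quotOn O U).obj M := by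
  let M' : H5QuotOn.PO O := (SheafOfModules.forget (ModSite.ringSh O)).obj M
  let F := (PresheafOfModules.free (O.obj ⋙ forget₂ CommRingCat.{u} RingCat.{u}))
  haveI : (H5ModTensor.sh O).IsLeftAdjoint := (H5QuotOn.adjSh O).isLeftAdjoint
  haveI : (H5ModTensor.sh O).Additive := (H5QuotOn.adjSh O).left_adjoint_additive
  haveI : (tensorRight M').IsLeftAdjoint := H5ModTensor.isLeftAdjoint_tensorRight O.obj M'
  let G : H5QuotOn.PO O ⥤ ModSite.Mod O := tensorRight M' ⋙ H5ModTensor.sh O
  haveI : G.IsLeftAdjoint := Functor.isLeftAdjoint_comp _ _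
  haveI : PreservesColimitsOfSize.{0, 0} G := (Adjunction.ofIsLeftAdjoint G).leftAdjoint_preservesColimits
  haveI : PreservesBinaryBiproducts G := preservesBinaryBiproducts_of_preservesBinaryCoproducts _
  haveI : G.Additive := Functor.additive_of_preservesBinaryBiproducts G
  have e : G.map (H5QuotOn.j O U) ≫ 𝟙 _ = (H5Flasque.L O M).map (H5QuotOn.sι U) ≫ G.map (H5QuotOn.ptUnit O).hom := by
    rw [Category.comp_id]
    exact G.map_comp _ _
  exact (cokernelCompIsIso ((H5Flasque.L O M).map (H5QuotOn.sι U)) (G.map (H5QuotOn.ptUnit O).hom)).symm ≪≫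
    cokernelIsoOfEq (e.symm.trans (Category.comp_id _)) ≪≫ (PreservesCokernel.iso G (H5QuotOn.j O U)).symm ≪≫
    (H5ModTensor.sh O).mapIso (β_ (H5QuotOn.Oz O U) M') ≪≫ ((H5ExtSupp87.quotTIso O U).app M).symm

/-- global sections with supports of internal homs -/
noncomputable def homZIso :
    (ModSite.sheafHom M ⋙ SheafOfModules.toSheaf (ModSite.ringSh O)) ⋙
        preadditiveCoyoneda.obj (op (ToposFin.quotZ (ToposFin.eps J U))) ≅
      preadditiveCoyoneda.obj (op ((ModSite.quotOn O U).obj M)) :=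
  Functor.isoWhiskerLeft _ (preadditiveCoyoneda.mapIso (quotZIso J U).op) ≪≫
    (NatIso.ofComponents (fun G => (cokEquiv O M (H5QuotOn.sι U) G).toAddCommGrpIso) (fun {G G'} g => by
      refine ConcreteCategory.hom_ext _ _ fun x => ?_
      apply coequalizer.hom_ext
      refine (cokernel.π_desc _ _ _).trans ?_
      refine Eq.trans ?_ ((congrArg (fun t => t ≫ g) (cokernel.π_desc _ _ _).symm).trans (Category.assoc _ _ _))
      refine Eq.trans ?_ (H5LocExt.E_natR O M g (cokernel.π _ ≫ x))
      exact congrArg (H5Flasque.E O M G' _) (Category.assoc _ _ _).symm) :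
      (ModSite.sheafHom M ⋙ SheafOfModules.toSheaf (ModSite.ringSh O)) ⋙
        preadditiveCoyoneda.obj (op (cokernel ((H5Flasque.L1 J).map (H5QuotOn.sι U)))) ≅
      preadditiveCoyoneda.obj (op (cokernel ((H5Flasque.L O M).map (H5QuotOn.sι U))))) ≪≫
    preadditiveCoyoneda.mapIso (cokIso U O M).symm.op

theorem supportsExt [HasInjectiveResolutions (ModSite.Mod O)] [HasExt.{u} (ModSite.Mod O)] (N : ModSite.Mod O) :
    ∃ (E : E₂CohomologicalSpectralSequence AddCommGrpCat.{u})
      (a : SpSeq.Abutment E (fun n : ℤ =>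
        if 0 ≤ n then AddCommGrpCat.of (ExtSupp.ExtZ U M N n.toNat) else AddCommGrpCat.of PUnit.{u + 1})),
      (∀ n, a.IsFinite n) ∧ SpSeq.IsBounded E ∧
      ∀ p q : ℤ, Nonempty ((E.page 2 le_rfl).X (p, q) ≅
        (if 0 ≤ p ∧ 0 ≤ q then AddCommGrpCat.of (ModSite.HZ U ((ModSite.extSh M q.toNat).obj N) p.toNat)
         else AddCommGrpCat.of PUnit.{u + 1})) := by
  let Z := ToposFin.quotZ (ToposFin.eps J U)
  let S := preadditiveCoyoneda.obj (op Z)
  have : PreservesLimits S := preservesLimits_preadditiveCoyoneda_obj _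
  have : PreservesFiniteLimits S := PreservesLimits.preservesFiniteLimits _
  let Φ := SheafOfModules.toSheaf (ModSite.ringSh O)
  have : PreservesFiniteLimits Φ := by
    have := H5ModFree.toSheaf_preservesLimits (ModSite.ringSh O); exact PreservesLimits.preservesFiniteLimits _
  have : PreservesFiniteColimits Φ := by
    have := H5ModFree.toSheaf_preservesColimits (ModSite.ringSh O); exact PreservesColimits.preservesFiniteColimits _
  have : Φ.Additive := Functor.additive_of_preserves_binary_products _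
  obtain ⟨E, a, h1, h2, h3, h4⟩ := H5GrothSS.grothendieck (ModSite.sheafHom M ⋙ Φ) S
    (fun Q hQ q hq => by
      obtain ⟨m, rfl⟩ : ∃ m, q = m + 1 := ⟨q - 1, by omega⟩
      exact (@AddCommGrpCat.isZero_of_subsingleton _
        (acyc_quotZ J U (H5Flasque.isTotallyAcyclic_sheafHom O M Q) m)).of_iso
        (H5HomExt.nonempty_rightDerived_iso_ext Z _ (Iso.refl S) (m + 1)).some) N
    (fun n : ℤ => if 0 ≤ n then AddCommGrpCat.of (ExtSupp.ExtZ U M N n.toNat) else AddCommGrpCat.of PUnit.{u + 1})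
    (fun n hn => by rw [if_neg (by omega)]; exact AddCommGrpCat.isZero_of_subsingleton _)
    (fun n => ⟨(H5HomExt.nonempty_rightDerived_iso_ext _ N (homZIso U O M) n).some ≪≫
      eqToIso (by rw [if_pos (Int.natCast_nonneg n), Int.toNat_natCast])⟩)
  refine ⟨E, a, h1, h2, fun p q => ?_⟩
  by_cases h : 0 ≤ p ∧ 0 ≤ q
  · rw [if_pos h]
    obtain ⟨e₂⟩ := h4 p.toNat q.toNat
    rw [Int.toNat_of_nonneg h.1, Int.toNat_of_nonneg h.2] at e₂
    exact ⟨e₂ ≪≫ (S.rightDerived p.toNat).mapIso (H5LocExt.rightDerived_comp_exact (ModSite.sheafHom M) Φ q.toNat N).some ≪≫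
      (H5HomExt.nonempty_rightDerived_iso_ext _ _ (Iso.refl S) p.toNat).some⟩
  · rw [if_neg h]
    exact ⟨(h3 p q (by omega)).iso (AddCommGrpCat.isZero_of_subsingleton _)⟩

end Groth.Agent.H5ExtSupp86
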