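import Groth.Agent.Lib.H5ExtSupp88

universe u

namespace Groth.Agent.H5ExtSupp87
open CategoryTheory Limits Abelian Opposite MonoidalCategory
open Groth.Agent

variable {C : Type u} [SmallCategory C] {J : GrothendieckTopology C} (O : Sheaf J CommRingCat.{u}) (U : C)
  [ModSite.HasPushOver O U]

/-- `quotOn` is `- ⊗ O_Z`, naturally -/
noncomputable def quotTIso : ModSite.quotOn O U ≅ H5QuotOn.T O U :=
  NatIso.ofComponents (fun A => (H5QuotOn.quotOn_iso O U A).choose) (fun {A B} f => by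
    have : Epi ((ModSite.quotOnπ O U).app A) := (ExtSupp.openSeq_exact U A).2
    have hp : H5QuotOn.p O U A ≫ (H5QuotOn.T O U).map f = f ≫ H5QuotOn.p O U B := by
      apply (H5QuotOn.shR O).map_injective
      rw [H5QuotOn.p_cancel]
      refine (congrArg (fun t => H5QuotOn.q O U _ ≫ t) ((H5QuotOn.adjSh O).homEquiv_unit (f := (H5QuotOn.T O U).map f))).trans ?_
      refine (congrArg (fun t => H5QuotOn.q O U _ ≫ t) ((H5QuotOn.adjSh O).unit.naturality ((H5QuotOn.shR O).map f ▷ H5QuotOn.Oz O U)).symm).trans ?_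
      refine ((Category.assoc _ _ _).symm.trans (congrArg (fun t => t ≫ _) (H5QuotOn.q_nat O U ((H5QuotOn.shR O).map f)))).trans ?_
      exact Category.assoc _ _ _
    have hA := (H5QuotOn.quotOn_iso O U A).choose_spec
    have hB := (H5QuotOn.quotOn_iso O U B).choose_spec
    apply (cancel_epi ((ModSite.quotOnπ O U).app A)).1
    refine ((Category.assoc _ _ _).symm.trans ((congrArg (fun t => t ≫ (H5QuotOn.quotOn_iso O U B).choose.hom)
      ((ModSite.quotOnπ O U).naturality f).symm).trans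
        ((Category.assoc _ _ _).trans ((congrArg (fun t => f ≫ t) hB).trans ?_)))).trans (Category.assoc _ _ _)
    exact hp.symm.trans (congrArg (fun t => t ≫ (H5QuotOn.T O U).map f) hA).symm)

variable (M : ModSite.Mod O)

/-- the projection formula -/
noncomputable def projIso :
    ModSite.quotOn O U ⋙ (ModSite.tensorBi O).flip.obj M ≅ (ModSite.tensorBi O).flip.obj ((H5QuotOn.T O U).obj M) := by
  let R : ModSite.Mod O ⥤ H5QuotOn.PO O := H5QuotOn.shR O
  let tR : H5QuotOn.PO O → H5QuotOn.PO O ⥤ H5QuotOn.PO O := fun X => tensorRight X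
  let M' : H5QuotOn.PO O := R.obj M
  let Z : H5QuotOn.PO O := H5QuotOn.Oz O U
  let η : M' ⊗ Z ⟶ R.obj ((H5QuotOn.T O U).obj M) := (H5QuotOn.adjSh O).unit.app (M' ⊗ Z)
  let s : ∀ A : H5QuotOn.PO O, (A ⊗ Z) ⊗ M' ≅ A ⊗ (M' ⊗ Z) := fun A => α_ A Z M' ≪≫ whiskerLeftIso A (β_ Z M')
  have hη : ∀ A : H5QuotOn.PO O, IsIso ((H5ModTensor.sh O).map (A ◁ η)) := fun A =>
    H5ModTensor.isIso_sheafify_whiskerLeft O η (H5ModTensor.W_unit O (M' ⊗ Z)) A
  refine Functor.isoWhiskerRight (quotTIso O U) _ ≪≫ ?_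
  refine Functor.associator _ _ _ ≪≫ Functor.isoWhiskerLeft R
    (Functor.associator _ _ _ ≪≫ Functor.isoWhiskerLeft (tR Z) (H5Flasque.shTensorIso O M).symm) ≪≫ ?_
  refine NatIso.ofComponents (fun A => (H5ModTensor.sh O).mapIso (s (R.obj A)) ≪≫ @asIso _ _ _ _ _ (hη (R.obj A))) ?_
  intro A B f
  change (H5ModTensor.sh O).map ((R.map f ▷ Z) ▷ M') ≫ (H5ModTensor.sh O).map (s (R.obj B)).hom ≫
      (H5ModTensor.sh O).map (R.obj B ◁ η) =
    ((H5ModTensor.sh O).map (s (R.obj A)).hom ≫ (H5ModTensor.sh O).map (R.obj A ◁ η)) ≫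
      (H5ModTensor.sh O).map (R.map f ▷ R.obj ((H5QuotOn.T O U).obj M))
  simp only [← Functor.map_comp, Category.assoc]
  congr 1
  simp only [s, Iso.trans_hom, whiskerLeftIso_hom, Category.assoc]
  rw [associator_naturality_left_assoc, ← whisker_exchange_assoc, ← whisker_exchange]

variable [ModSite.HasSheafHom M]

/-- `Γ_Z ℋom(M, -) ≅ ℋom(M_Z, -)` -/
noncomputable def secShHomIso :
    haveI := H5ModTensor.hasSheafHom O ((H5QuotOn.T O U).obj M)
    ModSite.sheafHom M ⋙ ModSite.sectOn O U ≅ ModSite.sheafHom ((H5QuotOn.T O U).obj M) :=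
  haveI := H5ModTensor.hasSheafHom O ((H5QuotOn.T O U).obj M)
  (((H5QuotOn.quotSectAdj O U).comp (ModSite.sheafHomAdj M)).ofNatIsoLeft (projIso O U M)).rightAdjointUniq
    (ModSite.sheafHomAdj ((H5QuotOn.T O U).obj M))

theorem localExtZ [HasInjectiveResolutions (ModSite.Mod O)] [HasExt.{u} (ModSite.Mod O)] (N : ModSite.Mod O) :
    ∃ (E : E₂CohomologicalSpectralSequence AddCommGrpCat.{u})
      (a : SpSeq.Abutment E (fun n : ℤ =>
        if 0 ≤ n then AddCommGrpCat.of (ExtSupp.ExtZ U M N n.toNat) else AddCommGrpCat.of PUnit.{u + 1})),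
      (∀ n, a.IsFinite n) ∧ SpSeq.IsBounded E ∧
      ∀ p q : ℤ, Nonempty ((E.page 2 le_rfl).X (p, q) ≅
        (if 0 ≤ p ∧ 0 ≤ q then AddCommGrpCat.of (ModSite.HC O ((ModSite.extZSh U M q.toNat).obj N) p.toNat)
         else AddCommGrpCat.of PUnit.{u + 1})) := by
  let M' := (H5QuotOn.T O U).obj M
  have := H5ModTensor.hasSheafHom O M'
  let Z := (constantSheaf J AddCommGrpCat.{u}).obj (AddCommGrpCat.of (ULift.{u} ℤ))
  let S := preadditiveCoyoneda.obj (op Z)
  have : PreservesLimits S := preservesLimits_preadditiveCoyoneda_obj _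
  have : PreservesFiniteLimits S := PreservesLimits.preservesFiniteLimits _
  let Φ := SheafOfModules.toSheaf (ModSite.ringSh O)
  have : PreservesFiniteLimits Φ := by
    have := H5ModFree.toSheaf_preservesLimits (ModSite.ringSh O); exact PreservesLimits.preservesFiniteLimits _
  have : PreservesFiniteColimits Φ := by
    have := H5ModFree.toSheaf_preservesColimits (ModSite.ringSh O); exact PreservesColimits.preservesFiniteColimits _
  have : Φ.Additive := Functor.additive_of_preserves_binary_products _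
  let Ψ := ModSite.sheafHom M ⋙ ModSite.sectOn O U
  let eH : (Ψ ⋙ Φ) ⋙ S ≅ preadditiveCoyoneda.obj (op ((ModSite.quotOn O U).obj M)) :=
    Functor.isoWhiskerRight (Functor.isoWhiskerRight (secShHomIso O U M) Φ) S ≪≫ H5LocExt.homIso O M' ≪≫
      preadditiveCoyoneda.mapIso ((quotTIso O U).app M).op
  obtain ⟨E, a, h1, h2, h3, h4⟩ := H5GrothSS.grothendieck (Ψ ⋙ Φ) S
    (fun Q hQ q hq => by
      obtain ⟨m, rfl⟩ : ∃ m, q = m + 1 := ⟨q - 1, by omega⟩
      have h := H5LocExt.acyc_const (H5Flasque.isTotallyAcyclic_sheafHom O M' Q) m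
      exact (@AddCommGrpCat.isZero_of_subsingleton _
        (@H5SiteCoh.subsingleton_congr _ _ _ _ _ _ (Φ.mapIso ((secShHomIso O U M).app Q).symm) _ _ h)).of_iso
        (H5HomExt.nonempty_rightDerived_iso_ext Z _ (Iso.refl S) (m + 1)).some) N
    (fun n : ℤ => if 0 ≤ n then AddCommGrpCat.of (ExtSupp.ExtZ U M N n.toNat) else AddCommGrpCat.of PUnit.{u + 1})
    (fun n hn => by rw [if_neg (by omega)]; exact AddCommGrpCat.isZero_of_subsingleton _)
    (fun n => ⟨(H5HomExt.nonempty_rightDerived_iso_ext _ N eH n).some ≪≫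
      eqToIso (by rw [if_pos (Int.natCast_nonneg n), Int.toNat_natCast])⟩)
  refine ⟨E, a, h1, h2, fun p q => ?_⟩
  by_cases h : 0 ≤ p ∧ 0 ≤ q
  · rw [if_pos h]
    obtain ⟨e₂⟩ := h4 p.toNat q.toNat
    rw [Int.toNat_of_nonneg h.1, Int.toNat_of_nonneg h.2] at e₂
    exact ⟨e₂ ≪≫ (S.rightDerived p.toNat).mapIso (H5LocExt.rightDerived_comp_exact Ψ Φ q.toNat N).some ≪≫
      (H5HomExt.nonempty_rightDerived_iso_ext _ _ (Iso.refl S) p.toNat).some⟩
  · rw [if_neg h]
    exact ⟨(h3 p q (by omega)).iso (AddCommGrpCat.isZero_of_subsingleton _)⟩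

end Groth.Agent.H5ExtSupp87
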