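import Groth.Agent.Lib.H5QuotOn

universe u

namespace Groth.Agent.H5ExtSupp88
open CategoryTheory Limits Abelian Opposite
open Groth.Agent

variable {C : Type u} [SmallCategory C] {J : GrothendieckTopology C} (O : Sheaf J CommRingCat.{u}) (U : C)
  [ModSite.HasPushOver O U] (M : ModSite.Mod O)

/-- maps into sections with supports -/
noncomputable def secHomIso :
    ModSite.sectOn O U ⋙ preadditiveCoyoneda.obj (op M) ≅ preadditiveCoyoneda.obj (op ((ModSite.quotOn O U).obj M)) :=
  haveI := (H5QuotOn.quotSectAdj O U).left_adjoint_additive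
  NatIso.ofComponents (fun G => ((H5QuotOn.quotSectAdj O U).homAddEquiv M G).symm.toAddCommGrpIso)
    (fun {G G'} g => by
      refine ConcreteCategory.hom_ext _ _ fun x => ?_
      exact (H5QuotOn.quotSectAdj O U).homEquiv_naturality_right_symm x g)

theorem ext_sectOn [HasInjectiveResolutions (ModSite.Mod O)] [HasExt.{u} (ModSite.Mod O)] (N : ModSite.Mod O) :
    ∃ (E : E₂CohomologicalSpectralSequence AddCommGrpCat.{u})
      (a : SpSeq.Abutment E (fun n : ℤ =>
        if 0 ≤ n then AddCommGrpCat.of (ExtSupp.ExtZ U M N n.toNat) else AddCommGrpCat.of PUnit.{u + 1})),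
      (∀ n, a.IsFinite n) ∧ SpSeq.IsBounded E ∧
      ∀ p q : ℤ, Nonempty ((E.page 2 le_rfl).X (p, q) ≅
        (if 0 ≤ p ∧ 0 ≤ q then AddCommGrpCat.of (Abelian.Ext.{u} M ((ModSite.HZsh O U q.toNat).obj N) p.toNat)
         else AddCommGrpCat.of PUnit.{u + 1})) := by
  let S := preadditiveCoyoneda.obj (op M)
  have : PreservesLimits S := preservesLimits_preadditiveCoyoneda_obj _
  have : PreservesFiniteLimits S := PreservesLimits.preservesFiniteLimits _
  obtain ⟨E, a, h1, h2, h3, h4⟩ := H5GrothSS.grothendieck (ModSite.sectOn O U) S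
    (fun Q hQ q hq => by
      obtain ⟨m, rfl⟩ : ∃ m, q = m + 1 := ⟨q - 1, by omega⟩
      have := H5QuotOn.sectOn_injective O U Q
      exact S.isZero_rightDerived_obj_injective_succ m _) N
    (fun n : ℤ => if 0 ≤ n then AddCommGrpCat.of (ExtSupp.ExtZ U M N n.toNat) else AddCommGrpCat.of PUnit.{u + 1})
    (fun n hn => by rw [if_neg (by omega)]; exact AddCommGrpCat.isZero_of_subsingleton _)
    (fun n => ⟨(H5HomExt.nonempty_rightDerived_iso_ext _ N (secHomIso O U M) n).some ≪≫
      eqToIso (by rw [if_pos (Int.natCast_nonneg n), Int.toNat_natCast])⟩)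
  refine ⟨E, a, h1, h2, fun p q => ?_⟩
  by_cases h : 0 ≤ p ∧ 0 ≤ q
  · rw [if_pos h]
    obtain ⟨e₂⟩ := h4 p.toNat q.toNat
    rw [Int.toNat_of_nonneg h.1, Int.toNat_of_nonneg h.2] at e₂
    exact ⟨e₂ ≪≫ (H5HomExt.nonempty_rightDerived_iso_ext M _ (Iso.refl S) p.toNat).some⟩
  · rw [if_neg h]
    exact ⟨(h3 p q (by omega)).iso (AddCommGrpCat.isZero_of_subsingleton _)⟩

end Groth.Agent.H5ExtSupp88
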