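import Mathlib
import Groth.Prelude.Def_ega3

universe u

namespace Groth.Agent.H5FCx
open CategoryTheory Limits TensorProduct LinearMap

noncomputable section

variable {A : Type u} [CommRing A]
variable {L P Q : Type u} [AddCommGroup L] [Module A L] [AddCommGroup P] [Module A P] [AddCommGroup Q] [Module A Q]

/-- lifting of homology classes along `g` -/
def Lifts (e : L →ₗ[A] P) (d : P →ₗ[A] Q) {M N : Type u} [AddCommGroup M] [Module A M] [AddCommGroup N] [Module A N]
    (g : M →ₗ[A] N) : Prop :=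
  ∀ z ∈ ker (d.rTensor N), ∃ y ∈ ker (d.rTensor M), z - g.lTensor P y ∈ range (e.rTensor N)

/-- injectivity on homology classes along `g` -/
def Detects (e : L →ₗ[A] P) (d : P →ₗ[A] Q) {M N : Type u} [AddCommGroup M] [Module A M] [AddCommGroup N] [Module A N]
    (g : M →ₗ[A] N) : Prop :=
  ∀ z ∈ ker (d.rTensor M), g.lTensor P z ∈ range (e.rTensor N) → z ∈ range (e.rTensor M)

section
variable {M N : Type u} [AddCommGroup M] [Module A M] [AddCommGroup N] [Module A N]

lemma comm_apply {X Y : Type u} [AddCommGroup X] [Module A X] [AddCommGroup Y] [Module A Y]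
    (f : X →ₗ[A] Y) (g : M →ₗ[A] N) (z : X ⊗[A] M) :
    f.rTensor N (g.lTensor X z) = g.lTensor Y (f.rTensor M z) :=
  by induction z <;> simp_all

lemma comp_zero_apply {e : L →ₗ[A] P} {d : P →ₗ[A] Q} (hed : d ∘ₗ e = 0) (x : L ⊗[A] M) :
    d.rTensor M (e.rTensor M x) = 0 := by
  rw [← LinearMap.comp_apply, ← rTensor_comp, hed, rTensor_zero, LinearMap.zero_apply]

lemma mkQ_zero_iff (e : L →ₗ[A] P) (z : P ⊗[A] M) :
    (range e).mkQ.rTensor M z = 0 ↔ z ∈ range (e.rTensor M) :=
  (rTensor_exact M (exact_map_mkQ_range e) (Submodule.mkQ_surjective _)) z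

theorem detects_of (e : L →ₗ[A] P) (d : P →ₗ[A] Q) (g : M →ₗ[A] N)
    (h : Function.Injective (g.lTensor (P ⧸ range e))) : Detects e d g := fun z _ hz => by
  refine (mkQ_zero_iff e z).1 (h ?_)
  rw [map_zero, ← comm_apply, (mkQ_zero_iff e _).2 hz]

theorem injective_of_detects (e : L →ₗ[A] P) (d : P →ₗ[A] Q) [Module.Flat A Q] (g : M →ₗ[A] N)
    (hg : Function.Injective g) (hed : d ∘ₗ e = 0) (h : Detects e d g) :
    Function.Injective (g.lTensor (P ⧸ range e)) := by
  rw [← ker_eq_bot, eq_bot_iff]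
  intro x hx
  obtain ⟨z, rfl⟩ := rTensor_surjective M (Submodule.mkQ_surjective (range e)) x
  rw [mem_ker, ← comm_apply, mkQ_zero_iff] at hx
  refine (mkQ_zero_iff e z).2 (h z ?_ hx)
  obtain ⟨v, hv⟩ := hx
  refine mem_ker.2 (Module.Flat.lTensor_preserves_injective_linearMap g hg ?_)
  rw [map_zero, ← comm_apply, ← hv, comp_zero_apply hed]

variable {K : Type u} [AddCommGroup K] [Module A K]

theorem lifts_of (e : L →ₗ[A] P) (d : P →ₗ[A] Q) (ι : K →ₗ[A] M) (π : M →ₗ[A] N)
    (hex : Function.Exact ι π) (hπ : Function.Surjective π)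
    (h : Function.Injective (ι.lTensor (Q ⧸ range d))) : Lifts e d π := by
  intro z hz
  obtain ⟨y, rfl⟩ := lTensor_surjective P hπ z
  rw [mem_ker, comm_apply] at hz
  obtain ⟨w, hw⟩ := (lTensor_exact Q hex hπ _).1 hz
  have hw' : w ∈ range (d.rTensor K) := (mkQ_zero_iff d w).1 (h (by
    rw [map_zero, ← comm_apply, hw]
    exact (mkQ_zero_iff d _).2 ⟨y, rfl⟩))
  obtain ⟨v, rfl⟩ := hw'
  refine ⟨y - ι.lTensor P v, ?_, ?_⟩
  · rw [mem_ker, map_sub, comm_apply, hw, sub_self]
  · rw [map_sub, (lTensor_exact P hex hπ).apply_apply_eq_zero, sub_zero, sub_self]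
    exact zero_mem _

theorem injective_of_lifts (e : L →ₗ[A] P) (d : P →ₗ[A] Q) [Module.Flat A Q] (hed : d ∘ₗ e = 0)
    (ι : K →ₗ[A] M) (π : M →ₗ[A] N)
    (hι : Function.Injective ι) (hex : Function.Exact ι π) (hπ : Function.Surjective π)
    (h : Lifts e d π) : Function.Injective (ι.lTensor (Q ⧸ range d)) := by
  rw [← ker_eq_bot, eq_bot_iff]
  intro x hx
  obtain ⟨w, rfl⟩ := rTensor_surjective K (Submodule.mkQ_surjective (range d)) x
  rw [mem_ker, ← comm_apply, mkQ_zero_iff] at hx
  obtain ⟨y, hy⟩ := hx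
  obtain ⟨y', hy', v, hv⟩ := h (π.lTensor P y) (mem_ker.2 (by
    rw [comm_apply, hy, (lTensor_exact Q hex hπ).apply_apply_eq_zero]))
  obtain ⟨v', rfl⟩ := lTensor_surjective L hπ v
  rw [comm_apply] at hv
  obtain ⟨t, ht⟩ := (lTensor_exact P hex hπ (y - y' - e.rTensor M v')).1 (by
    rw [map_sub, map_sub, hv, sub_self])
  refine (mkQ_zero_iff d w).2 ⟨t, Module.Flat.lTensor_preserves_injective_linearMap ι hι ?_⟩
  rw [← comm_apply, ht, map_sub, map_sub, mem_ker.1 hy', comp_zero_apply hed, hy, sub_zero, sub_zero]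

end

/-! ### bridge to homology -/

open HomologicalComplex

variable {ι : Type} {c : ComplexShape ι} (C : HomologicalComplex (ModuleCat.{u} A) c)

/-- class map from the kernel of the differential -/
def clHom (p q : ι) (hq : c.next p = q) : ModuleCat.of A (ker (C.d p q).hom) ⟶ C.homology p :=
  C.liftCycles (ModuleCat.ofHom (ker (C.d p q).hom).subtype) q hq (ModuleCat.hom_ext (LinearMap.ext fun x => x.2)) ≫
    C.homologyπ p

lemma iCycles_lift (p q : ι) (hq : c.next p = q) (z : ker (C.d p q).hom) :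
    (C.iCycles p).hom ((C.liftCycles (ModuleCat.ofHom (ker (C.d p q).hom).subtype) q hq
      (ModuleCat.hom_ext (LinearMap.ext fun x => x.2))).hom z) = (z : C.X p) :=
  congrArg (fun f : ModuleCat.of A (ker (C.d p q).hom) ⟶ C.X p => f.hom z)
    (C.liftCycles_i (ModuleCat.ofHom (ker (C.d p q).hom).subtype) q hq _)

lemma cl_surjective (p q : ι) (hq : c.next p = q) : Function.Surjective (clHom C p q hq).hom := by
  intro h
  obtain ⟨z, rfl⟩ := (ModuleCat.epi_iff_surjective (C.homologyπ p)).1 inferInstance h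
  let x : ker (C.d p q).hom := ⟨(C.iCycles p).hom z, mem_ker.2 (DFunLike.congr_fun
    (congrArg ModuleCat.Hom.hom (C.iCycles_d p q)) z)⟩
  refine ⟨x, congrArg (C.homologyπ p).hom ((ModuleCat.mono_iff_injective (C.iCycles p)).1 inferInstance ?_)⟩
  exact iCycles_lift C p q hq x

lemma cl_zero_iff (r p q : ι) (hr : c.prev p = r) (hq : c.next p = q) (z : ker (C.d p q).hom) :
    (clHom C p q hq).hom z = 0 ↔ (z : C.X p) ∈ range (C.d r p).hom := by
  have hex : (ShortComplex.mk _ _ (C.toCycles_comp_homologyπ r p)).Exact :=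
    ShortComplex.exact_of_g_is_cokernel _ (C.homologyIsCokernel r p hr)
  rw [ShortComplex.moduleCat_exact_iff] at hex
  have hi : Function.Injective (C.iCycles p).hom := (ModuleCat.mono_iff_injective _).1 inferInstance
  have hlift := iCycles_lift C p q hq z
  constructor
  · intro h
    obtain ⟨v, hv⟩ := hex _ h
    exact ⟨v, (DFunLike.congr_fun (congrArg ModuleCat.Hom.hom (C.toCycles_i r p)) v).symm.trans
      ((congrArg (C.iCycles p).hom hv).trans hlift)⟩
  · rintro ⟨v, hv⟩
    have : (C.toCycles r p).hom v = _ := hi (((DFunLike.congr_fun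
      (congrArg ModuleCat.Hom.hom (C.toCycles_i r p)) v).trans hv).trans hlift.symm)
    exact (congrArg (C.homologyπ p).hom this).symm.trans
      (DFunLike.congr_fun (congrArg ModuleCat.Hom.hom (C.toCycles_comp_homologyπ r p)) v)

lemma cl_naturality {D : HomologicalComplex (ModuleCat.{u} A) c} (φ : C ⟶ D) (p q : ι) (hq : c.next p = q)
    (z : ker (C.d p q).hom) (w : ker (D.d p q).hom) (h : (w : D.X p) = (φ.f p).hom z) :
    (homologyMap φ p).hom ((clHom C p q hq).hom z) = (clHom D p q hq).hom w := by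
  have h1 : ∀ x, (homologyMap φ p).hom ((C.homologyπ p).hom x) = (D.homologyπ p).hom ((cyclesMap φ p).hom x) :=
    fun x => DFunLike.congr_fun (congrArg ModuleCat.Hom.hom (homologyπ_naturality φ p)) x
  refine (h1 _).trans (congrArg (D.homologyπ p).hom ((ModuleCat.mono_iff_injective (D.iCycles p)).1 inferInstance ?_))
  refine (DFunLike.congr_fun (congrArg ModuleCat.Hom.hom (cyclesMap_i φ p)) _).trans ?_
  exact (congrArg (φ.f p).hom (iCycles_lift C p q hq z)).trans (h.symm.trans (iCycles_lift D p q hq w).symm)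

lemma d_d (r p q : ι) : (C.d p q).hom ∘ₗ (C.d r p).hom = 0 :=
  congrArg ModuleCat.Hom.hom (C.d_comp_d r p q)

/-- the homology class of a cycle of `C ⊗ M` -/
def cl (M : ModuleCat.{u} A) (p q : ι) (hq : c.next p = q) :
    ker ((C.d p q).hom.rTensor M) →ₗ[A] CohIII.T C p M :=
  (clHom (CohIII.tensorObj C M) p q hq).hom

/-- `g ⊗` on cycles -/
def zmap {M N : ModuleCat.{u} A} (g : M ⟶ N) (p q : ι) (z : ker ((C.d p q).hom.rTensor M)) :
    ker ((C.d p q).hom.rTensor N) :=
  ⟨g.hom.lTensor (C.X p) z.1, mem_ker.2 (((comm_apply (C.d p q).hom g.hom z.1).trans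
    (congrArg (g.hom.lTensor (C.X q)) (mem_ker.1 z.2))).trans (map_zero _))⟩

lemma cl_map {M N : ModuleCat.{u} A} (g : M ⟶ N) (p q : ι) (hq : c.next p = q) (z : ker ((C.d p q).hom.rTensor M)) :
    ((CohIII.TFun C p).map g).hom (cl C M p q hq z) = cl C N p q hq (zmap C g p q z) :=
  cl_naturality _ (CohIII.tensorMap C g) p q hq z (zmap C g p q z) rfl

lemma cl_surj (M : ModuleCat.{u} A) (p q : ι) (hq : c.next p = q) : Function.Surjective (cl C M p q hq) :=
  cl_surjective (CohIII.tensorObj C M) p q hq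

lemma cl_eq_zero_iff (M : ModuleCat.{u} A) (r p q : ι) (hr : c.prev p = r) (hq : c.next p = q)
    (z : ker ((C.d p q).hom.rTensor M)) :
    cl C M p q hq z = 0 ↔ z.1 ∈ range ((C.d r p).hom.rTensor M) :=
  cl_zero_iff (CohIII.tensorObj C M) r p q hr hq z

theorem tfun_surjective_iff {M N : ModuleCat.{u} A} (g : M ⟶ N) (r p q : ι) (hr : c.prev p = r) (hq : c.next p = q) :
    Function.Surjective ((CohIII.TFun C p).map g).hom ↔ Lifts (C.d r p).hom (C.d p q).hom g.hom := by
  constructor
  · intro h z hz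
    obtain ⟨y, hy⟩ := h (cl C N p q hq ⟨z, hz⟩)
    obtain ⟨y, rfl⟩ := cl_surj C M p q hq y
    refine ⟨y.1, y.2, (cl_eq_zero_iff C N r p q hr hq (⟨z, hz⟩ - zmap C g p q y)).1 ?_⟩
    rw [map_sub, sub_eq_zero]
    exact hy.symm.trans (cl_map C g p q hq y)
  · intro h x
    obtain ⟨z, rfl⟩ := cl_surj C N p q hq x
    obtain ⟨y, hy, hv⟩ := h z.1 z.2
    refine ⟨cl C M p q hq ⟨y, hy⟩, (cl_map C g p q hq ⟨y, hy⟩).trans ?_⟩
    exact (sub_eq_zero.1 ((map_sub _ _ _).symm.trans
      ((cl_eq_zero_iff C N r p q hr hq (z - zmap C g p q ⟨y, hy⟩)).2 hv))).symm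

theorem tfun_injective_iff {M N : ModuleCat.{u} A} (g : M ⟶ N) (r p q : ι) (hr : c.prev p = r) (hq : c.next p = q) :
    Function.Injective ((CohIII.TFun C p).map g).hom ↔ Detects (C.d r p).hom (C.d p q).hom g.hom := by
  constructor
  · intro h z hz hg
    exact (cl_eq_zero_iff C M r p q hr hq ⟨z, hz⟩).1 (h ((cl_map C g p q hq ⟨z, hz⟩).trans
      (((cl_eq_zero_iff C N r p q hr hq (zmap C g p q ⟨z, hz⟩)).2 hg).trans (map_zero _).symm)))
  · intro h
    rw [← ker_eq_bot, eq_bot_iff]
    intro x hx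
    obtain ⟨z, rfl⟩ := cl_surj C M p q hq x
    exact (cl_eq_zero_iff C M r p q hr hq z).2 (h z.1 z.2 ((cl_eq_zero_iff C N r p q hr hq _).1
      ((cl_map C g p q hq z).symm.trans (mem_ker.1 hx))))

/-- the cokernel of the differential into degree `p` -/
abbrev Cok (r p : ι) : Type u := C.X p ⧸ range (C.d r p).hom

/-- `T_p` detects monomorphisms iff `coker (C_r → C_p)` is flat -/
theorem presMono_iff (r p q : ι) (hr : c.prev p = r) (hq : c.next p = q) [Module.Flat A (C.X q)] :
    (CohIII.TFun C p).PreservesMonomorphisms ↔ Module.Flat A (Cok C r p) := by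
  constructor
  · intro h
    refine Module.Flat.iff_lTensor_preserves_injective_linearMap.2 fun M N _ _ _ _ g hg => ?_
    have : Mono (ModuleCat.ofHom g) := (ModuleCat.mono_iff_injective _).2 hg
    exact injective_of_detects _ (C.d p q).hom g hg (d_d C r p q) ((tfun_injective_iff C (ModuleCat.ofHom g) r p q hr hq).1
      ((ModuleCat.mono_iff_injective _).1 ((CohIII.TFun C p).map_mono (ModuleCat.ofHom g))))
  · intro h
    refine ⟨fun {M N} g _ => (ModuleCat.mono_iff_injective _).2 ((tfun_injective_iff C g r p q hr hq).2 ?_)⟩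
    exact detects_of _ _ _ (Module.Flat.lTensor_preserves_injective_linearMap _ ((ModuleCat.mono_iff_injective g).1 inferInstance))

/-- `T_p` preserves surjection along one short exact sequence iff injectivity after tensoring the next cokernel -/
theorem tfun_surjective_iff_injective {K M N : ModuleCat.{u} A} (i : K ⟶ M) (π : M ⟶ N)
    (hi : Function.Injective i.hom) (hex : Function.Exact i.hom π.hom) (hπ : Function.Surjective π.hom)
    (r p q : ι) (hr : c.prev p = r) (hq : c.next p = q) [Module.Flat A (C.X q)] :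
    Function.Surjective ((CohIII.TFun C p).map π).hom ↔ Function.Injective (i.hom.lTensor (Cok C p q)) := by
  rw [tfun_surjective_iff C π r p q hr hq]
  exact ⟨injective_of_lifts _ _ (d_d C r p q) _ _ hi hex hπ, lifts_of _ _ _ _ hex hπ⟩

/-- `T_p` preserves epimorphisms iff `coker (C_p → C_q)` is flat -/
theorem presEpi_iff (r p q : ι) (hr : c.prev p = r) (hq : c.next p = q) [Module.Flat A (C.X q)] :
    (CohIII.TFun C p).PreservesEpimorphisms ↔ Module.Flat A (Cok C p q) := by
  constructor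
  · intro h
    refine Module.Flat.iff_lTensor_preserves_injective_linearMap.2 fun M N _ _ _ _ g hg => ?_
    have : Epi (ModuleCat.ofHom (range g).mkQ) := (ModuleCat.epi_iff_surjective _).2 (Submodule.mkQ_surjective _)
    exact (tfun_surjective_iff_injective C (ModuleCat.ofHom g) (ModuleCat.ofHom (range g).mkQ) hg
      (exact_map_mkQ_range g) (Submodule.mkQ_surjective _) r p q hr hq).1
        ((ModuleCat.epi_iff_surjective _).1 ((CohIII.TFun C p).map_epi (ModuleCat.ofHom (range g).mkQ)))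
  · intro h
    refine ⟨fun {M N} g _ => (ModuleCat.epi_iff_surjective _).2 ?_⟩
    exact (tfun_surjective_iff_injective C (ModuleCat.ofHom (ker g.hom).subtype) g Subtype.val_injective
      (exact_subtype_ker_map g.hom) ((ModuleCat.epi_iff_surjective g).1 inferInstance) r p q hr hq).2
        (Module.Flat.lTensor_preserves_injective_linearMap _ Subtype.val_injective)

/-- the cokernel is the degree `p` opcycles -/
def opcyclesEquiv (r p : ι) (hr : c.prev p = r) : C.opcycles p ≃ₗ[A] Cok C r p :=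
  ((C.opcyclesIsCokernel r p hr).coconePointUniqueUpToIso (ModuleCat.cokernelIsColimit (C.d r p))).toLinearEquiv

end
end Groth.Agent.H5FCx
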