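import Groth.Agent.Lib.H5FCx
import Groth.Agent.Lib.H5DRank

universe u

namespace Groth.Agent.H5FCx
open CategoryTheory Limits TensorProduct LinearMap MonoidalCategory

noncomputable section

variable {A : Type u} [CommRing A] {ι : Type} {c : ComplexShape ι} (C : HomologicalComplex (ModuleCat.{u} A) c)

/-! ### tensoring with flat cokernels -/

theorem inj_aux {M₂ M₃ N₁ N₂ N₃ : Type u} [AddCommGroup M₂] [Module A M₂]
    [AddCommGroup M₃] [Module A M₃] [AddCommGroup N₁] [Module A N₁] [AddCommGroup N₂] [Module A N₂]
    [AddCommGroup N₃] [Module A N₃] (f₂ : M₂ →ₗ[A] M₃) (g₁ : N₁ →ₗ[A] N₂) (g₂ : N₂ →ₗ[A] N₃)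
    (hfsurj : Function.Surjective f₂)
    (hgexact : Function.Exact g₁ g₂) (hgsurj : Function.Surjective g₂)
    (hfinj : Function.Injective ((LinearMap.ker f₂).subtype.rTensor N₃)) (hginj : Function.Injective (g₁.lTensor M₂)) :
    Function.Injective (g₁.lTensor M₃) :=
  lTensor_injective_of_exact_of_exact_of_rTensor_injective (exact_subtype_ker_map f₂) hfsurj hgexact hgsurj hfinj hginj

theorem inj_aux2 {M₂ N₂ N₃ : Type u} [AddCommGroup M₂] [Module A M₂] [AddCommGroup N₂] [Module A N₂]
    [AddCommGroup N₃] [Module A N₃] (K : Submodule A M₂) (g₂ : N₂ →ₗ[A] N₃)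
    (hgsurj : Function.Surjective g₂) (hfinj : Function.Injective (K.subtype.rTensor N₃))
    (hginj : Function.Injective ((LinearMap.ker g₂).subtype.lTensor M₂)) :
    Function.Injective ((LinearMap.ker g₂).subtype.lTensor (M₂ ⧸ K)) :=
  lTensor_injective_of_exact_of_exact_of_rTensor_injective (exact_subtype_mkQ K) (Submodule.mkQ_surjective K)
    (exact_subtype_ker_map g₂) hgsurj hfinj hginj

theorem rTensor_injective_of_flat_quotient {Z P I : Type u} [AddCommGroup Z] [Module A Z] [AddCommGroup P]
    [Module A P] [AddCommGroup I] [Module A I] [Module.Flat A I] (f : Z →ₗ[A] P) (g : P →ₗ[A] I)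
    (hf : Function.Injective f) (hfg : Function.Exact f g) (hg : Function.Surjective g)
    (M : Type u) [AddCommGroup M] [Module A M] : Function.Injective (f.rTensor M) := by
  let F := Finsupp.linearCombination A (id : M → M)
  rw [← LinearMap.lTensor_inj_iff_rTensor_inj]
  exact inj_aux F f g
    (Finsupp.linearCombination_id_surjective A M) hfg hg
    (Module.Flat.rTensor_preserves_injective_linearMap (M := I) _ Subtype.val_injective)
    (Module.Flat.lTensor_preserves_injective_linearMap _ hf)

theorem flat_of_exact {X Y W : Type u} [AddCommGroup X] [Module A X] [AddCommGroup Y]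
    [Module A Y] [AddCommGroup W] [Module A W] [Module.Flat A W] (f : X →ₗ[A] Y) (g : Y →ₗ[A] W)
    (hf : Function.Injective f) (hfg : Function.Exact f g) (hg : Function.Surjective g) :
    Module.Flat A X ↔ Module.Flat A Y := by
  constructor
  · intro hX
    refine Module.Flat.iff_lTensor_preserves_injective_linearMap.2 fun M N _ _ _ _ k hk => ?_
    rw [← ker_eq_bot, eq_bot_iff]
    intro y hy
    have h1 : g.rTensor M y = 0 := Module.Flat.lTensor_preserves_injective_linearMap k hk (by
      rw [map_zero, ← comm_apply, mem_ker.1 hy, map_zero])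
    obtain ⟨x, rfl⟩ := (rTensor_exact M hfg hg y).1 h1
    rw [mem_ker, ← comm_apply] at hy
    have : x = 0 := Module.Flat.lTensor_preserves_injective_linearMap k hk (by
      rw [map_zero]
      exact rTensor_injective_of_flat_quotient f g hf hfg hg N (hy.trans (map_zero _).symm))
    rw [this, map_zero]; exact zero_mem _
  · intro hY
    refine Module.Flat.iff_lTensor_preserves_injective_linearMap.2 fun M N _ _ _ _ k hk => ?_
    intro x y h
    apply rTensor_injective_of_flat_quotient f g hf hfg hg M
    apply Module.Flat.lTensor_preserves_injective_linearMap (M := Y) k hk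
    rw [← comm_apply, ← comm_apply, h]

/-! ### the comparison map -/

/-- boundaries inside the cycles -/
def bd (r p q : ι) : Submodule A (ker (C.d p q).hom) :=
  (range (C.d r p).hom).comap (ker (C.d p q).hom).subtype

/-- homology as cycles modulo boundaries -/
abbrev Hm (r p q : ι) : Type u := ker (C.d p q).hom ⧸ bd C r p q

/-- `Z ⊗ M → Z(C ⊗ M)` -/
def zt (p q : ι) (M : ModuleCat.{u} A) : (ker (C.d p q).hom ⊗[A] M) →ₗ[A] ker ((C.d p q).hom.rTensor M) :=
  ((ker (C.d p q).hom).subtype.rTensor M).codRestrict _ fun x => mem_ker.2 (by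
    rw [← LinearMap.comp_apply, ← rTensor_comp]
    have : (C.d p q).hom ∘ₗ (ker (C.d p q).hom).subtype = 0 := LinearMap.ext fun x => x.2
    rw [this, rTensor_zero, LinearMap.zero_apply])

/-- the comparison `H ⊗ M → T_p(M)` -/
def comp (r p q : ι) (hr : c.prev p = r) (hq : c.next p = q) (M : ModuleCat.{u} A) :
    (Hm C r p q ⊗[A] M) →ₗ[A] CohIII.T C p M :=
  TensorProduct.lift ((bd C r p q).liftQ (TensorProduct.curry (cl C M p q hq ∘ₗ zt C p q M)) (by
    intro z hz
    obtain ⟨v, hv⟩ := Submodule.mem_comap.1 hz
    refine mem_ker.2 (LinearMap.ext fun m => ?_)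
    rw [TensorProduct.curry_apply, LinearMap.comp_apply, LinearMap.zero_apply]
    exact (cl_eq_zero_iff C M r p q hr hq _).2 ⟨v ⊗ₜ m, congrArg (· ⊗ₜ[A] m) hv⟩))

lemma comp_mk (r p q : ι) (hr : c.prev p = r) (hq : c.next p = q) (M : ModuleCat.{u} A)
    (x : ker (C.d p q).hom ⊗[A] M) :
    comp C r p q hr hq M ((bd C r p q).mkQ.rTensor M x) = cl C M p q hq (zt C p q M x) := by
  induction x with
  | zero => simp
  | tmul z m => rfl
  | add x y hx hy => simp only [map_add, hx, hy]

lemma comp_natural (r p q : ι) (hr : c.prev p = r) (hq : c.next p = q) {M N : ModuleCat.{u} A} (g : M ⟶ N)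
    (x : Hm C r p q ⊗[A] M) :
    ((CohIII.TFun C p).map g).hom (comp C r p q hr hq M x) = comp C r p q hr hq N (g.hom.lTensor _ x) := by
  induction x with
  | zero => rw [map_zero, map_zero, map_zero]; exact map_zero _
  | tmul z m =>
    obtain ⟨z, rfl⟩ := Submodule.mkQ_surjective (bd C r p q) z
    exact cl_map C g p q hq _
  | add x y hx hy => rw [map_add, map_add, map_add, ← hx, ← hy]; exact map_add _ _ _

theorem comp_bijective (r p q : ι) (hr : c.prev p = r) (hq : c.next p = q) [Module.Flat A (C.X q)]
    [Module.Flat A (Cok C p q)] (M : ModuleCat.{u} A) : Function.Bijective (comp C r p q hr hq M) := by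
  let d := (C.d p q).hom
  have hI : Module.Flat A (range d) :=
    (flat_of_exact (range d).subtype (range d).mkQ Subtype.val_injective (exact_subtype_mkQ _)
      (Submodule.mkQ_surjective _)).2 inferInstance
  have hex : Function.Exact (ker d).subtype d.rangeRestrict := by
    rw [LinearMap.exact_iff, ker_rangeRestrict, Submodule.range_subtype]
  have hinj : Function.Injective ((ker d).subtype.rTensor M) :=
    rTensor_injective_of_flat_quotient _ d.rangeRestrict Subtype.val_injective hex (surjective_rangeRestrict d) M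
  constructor
  · rw [← ker_eq_bot, eq_bot_iff]
    intro x hx
    obtain ⟨y, rfl⟩ := rTensor_surjective M (Submodule.mkQ_surjective _) x
    rw [mem_ker, comp_mk, cl_eq_zero_iff C M r p q hr hq] at hx
    obtain ⟨v, hv⟩ := hx
    have h0 : d ∘ₗ (C.d r p).hom = 0 := d_d C r p q
    let e' : C.X r →ₗ[A] ker d := (C.d r p).hom.codRestrict _ fun v => DFunLike.congr_fun h0 v
    have hy : y = e'.rTensor M v := hinj (by
      rw [← LinearMap.comp_apply (f := (ker d).subtype.rTensor M), ← rTensor_comp]
      exact hv.symm)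
    have h1 : (bd C r p q).mkQ ∘ₗ e' = 0 :=
      LinearMap.ext fun v => (Submodule.Quotient.mk_eq_zero _).2 (Submodule.mem_comap.2 ⟨v, rfl⟩)
    show _ = (0 : Hm C r p q ⊗[A] M)
    rw [hy, ← LinearMap.comp_apply, ← rTensor_comp, h1, rTensor_zero, LinearMap.zero_apply]
  · intro t
    obtain ⟨⟨z, hz⟩, rfl⟩ := cl_surj C M p q hq t
    have h1 : d.rangeRestrict.rTensor M z = 0 :=
      rTensor_injective_of_flat_quotient (range d).subtype (range d).mkQ Subtype.val_injective
        (exact_subtype_mkQ _) (Submodule.mkQ_surjective _) M (by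
          rw [map_zero, ← LinearMap.comp_apply, ← rTensor_comp]
          exact mem_ker.1 hz)
    obtain ⟨w, hw⟩ := (rTensor_exact M hex (surjective_rangeRestrict d) z).1 h1
    exact ⟨(bd C r p q).mkQ.rTensor M w, (comp_mk C r p q hr hq M w).trans (congrArg _ (Subtype.ext hw))⟩

/-- `T_p ≅ H ⊗ -` when the next cokernel is flat -/
def tfunIso (r p q : ι) (hr : c.prev p = r) (hq : c.next p = q) [Module.Flat A (C.X q)]
    [Module.Flat A (Cok C p q)] : CohIII.TFun C p ≅ tensorLeft (ModuleCat.of A (Hm C r p q)) :=
  (NatIso.ofComponents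
    (fun M => (LinearEquiv.ofBijective (comp C r p q hr hq M) (comp_bijective C r p q hr hq M)).toModuleIso)
    (fun {M N} g => ModuleCat.hom_ext (LinearMap.ext fun x => (comp_natural C r p q hr hq g x).symm)) :
      tensorLeft (ModuleCat.of A (Hm C r p q)) ≅ CohIII.TFun C p).symm

/-- evaluation of tensoring at the unit -/
def evalUnit (N : ModuleCat.{u} A) : (tensorLeft N).obj (ModuleCat.of A A) ≅ N :=
  (TensorProduct.rid A N).toModuleIso

theorem presEpi_of_iso_tensorLeft {p : ι} {N : ModuleCat.{u} A} (e : CohIII.TFun C p ≅ tensorLeft N) :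
    (CohIII.TFun C p).PreservesEpimorphisms := by
  have : (tensorLeft N).PreservesEpimorphisms := ⟨fun {X Y} g _ => (ModuleCat.epi_iff_surjective _).2
    (LinearMap.lTensor_surjective N ((ModuleCat.epi_iff_surjective g).1 inferInstance))⟩
  exact Functor.PreservesEpimorphisms.of_iso e.symm

theorem presMono_of_iso_tensorLeft {p : ι} {N : ModuleCat.{u} A} [Module.Flat A N]
    (e : CohIII.TFun C p ≅ tensorLeft N) : (CohIII.TFun C p).PreservesMonomorphisms := by
  have : (tensorLeft N).PreservesMonomorphisms := ⟨fun {X Y} g _ => (ModuleCat.mono_iff_injective _).2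
    (Module.Flat.lTensor_preserves_injective_linearMap g.hom ((ModuleCat.mono_iff_injective g).1 inferInstance))⟩
  exact Functor.PreservesMonomorphisms.of_iso e.symm

theorem flat_of_presMono {p : ι} {N : ModuleCat.{u} A} (e : CohIII.TFun C p ≅ tensorLeft N)
    [(CohIII.TFun C p).PreservesMonomorphisms] : Module.Flat A N := by
  have : (tensorLeft N).PreservesMonomorphisms := Functor.PreservesMonomorphisms.of_iso e
  refine Module.Flat.iff_lTensor_preserves_injective_linearMap.2 fun X Y _ _ _ _ g hg => ?_
  have : Mono (ModuleCat.ofHom g) := (ModuleCat.mono_iff_injective _).2 hg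
  exact (ModuleCat.mono_iff_injective _).1 ((tensorLeft N).map_mono (ModuleCat.ofHom g))

/-! ### local criteria -/

section localRing
variable [IsLocalRing A] {V : Type u} [AddCommGroup V] [Module A V]

open IsLocalRing

theorem maximalIdeal_rTensor_of_lTensor (h : Function.Injective ((maximalIdeal A).subtype.lTensor V)) :
    Function.Injective ((maximalIdeal A).subtype.rTensor V) :=
  (LinearMap.lTensor_inj_iff_rTensor_inj _ _).1 h

theorem flat_of_fg [IsNoetherianRing A] [Module.Finite A V]
    (h : Function.Injective ((maximalIdeal A).subtype.lTensor V)) : Module.Flat A V := by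
  have := Module.finitePresentation_of_finite A V
  have := Module.free_of_maximalIdeal_rTensor_injective (maximalIdeal_rTensor_of_lTensor h)
  infer_instance

theorem subsingleton_of_tensor_residue {n : ℕ} (hn : maximalIdeal A ^ n = ⊥)
    [Subsingleton ((A ⧸ maximalIdeal A) ⊗[A] V)] : Subsingleton V := by
  have : Subsingleton (V ⧸ (maximalIdeal A) • (⊤ : Submodule A V)) :=
    (TensorProduct.quotTensorEquivQuotSMul V (maximalIdeal A)).symm.toEquiv.subsingleton
  have h1 : (maximalIdeal A) • (⊤ : Submodule A V) = ⊤ := Submodule.Quotient.subsingleton_iff.1 this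
  have h2 : ∀ k, (maximalIdeal A ^ k) • (⊤ : Submodule A V) = ⊤ := fun k => by
    induction k with
    | zero => simp
    | succ k ih => rw [pow_succ, Submodule.mul_smul, h1, ih]
  have := h2 n
  rw [hn, Submodule.bot_smul] at this
  exact (Submodule.subsingleton_iff A).1 (subsingleton_of_bot_eq_top this)

theorem exists_lift_basis (k : Type u) [Field k] [Algebra A k] (hk : Function.Surjective (algebraMap A k))
    (V : Type u) [AddCommGroup V] [Module A V] :
    ∃ (σ : Type u) (φ : (σ →₀ A) →ₗ[A] V), Function.Bijective (φ.lTensor k) := by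
  let w := Module.Free.chooseBasis k (k ⊗[A] V)
  obtain ⟨v, hv⟩ := (TensorProduct.mk_surjective A V k hk).comp_left w
  refine ⟨_, Finsupp.linearCombination A v, ?_⟩
  let b := Finsupp.basisSingleOne.baseChange k (R := A) (ι := Module.Free.ChooseBasisIndex k (k ⊗[A] V))
  have h : (Finsupp.linearCombination A v).baseChange k = (b.equiv w (Equiv.refl _)).toLinearMap := b.ext fun i => by
    have hvi : (1 : k) ⊗ₜ[A] v i = w i := congrFun hv i
    rw [LinearEquiv.coe_coe, Module.Basis.equiv_apply, Equiv.refl_apply, Module.Basis.baseChange_apply,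
      Finsupp.coe_basisSingleOne, LinearMap.baseChange_tmul, ← hvi]
    simp
  have h2 : ((Finsupp.linearCombination A v).lTensor k : _ → _) = b.equiv w (Equiv.refl _) :=
    funext fun x => DFunLike.congr_fun h x
  rw [h2]
  exact LinearEquiv.bijective _

lemma subsingleton_coker_tensor (k : Type u) [AddCommGroup k] [Module A k] {F : Type u} [AddCommGroup F] [Module A F]
    (φ : F →ₗ[A] V) (hs : Function.Surjective (φ.lTensor k)) : Subsingleton (k ⊗[A] (V ⧸ range φ)) :=
  subsingleton_of_forall_eq 0 fun x => by
    obtain ⟨y, rfl⟩ := LinearMap.lTensor_surjective k (Submodule.mkQ_surjective (range φ)) x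
    obtain ⟨y, rfl⟩ := hs y
    exact (lTensor_exact k (exact_map_mkQ_range φ) (Submodule.mkQ_surjective _)).apply_apply_eq_zero y

lemma subsingleton_ker_tensor (k : Type u) [AddCommGroup k] [Module A k] {F : Type u} [AddCommGroup F] [Module A F]
    (φ : F →ₗ[A] V) (hφ : Function.Surjective φ) (hb : Function.Injective (φ.lTensor k))
    (hk : Function.Injective ((LinearMap.ker φ).subtype.lTensor k)) : Subsingleton (k ⊗[A] LinearMap.ker φ) :=
  subsingleton_of_forall_eq 0 fun x => hk (hb (by
    rw [map_zero, map_zero]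
    exact (lTensor_exact k (exact_subtype_ker_map φ) hφ).apply_apply_eq_zero x))

theorem free_of_lift {σ : Type u} {n : ℕ} (hn : maximalIdeal A ^ n = ⊥)
    (h : Function.Injective ((maximalIdeal A).subtype.lTensor V)) (φ : (σ →₀ A) →ₗ[A] V)
    (hbij : Function.Bijective (φ.lTensor (A ⧸ maximalIdeal A))) : Module.Free A V := by
  have := subsingleton_coker_tensor (A ⧸ maximalIdeal A) φ hbij.2
  have h1 := subsingleton_of_tensor_residue (V := V ⧸ range φ) hn
  have hsurj : Function.Surjective φ := range_eq_top.1 (Submodule.Quotient.subsingleton_iff.1 h1)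
  have hk : Function.Injective ((LinearMap.ker φ).subtype.lTensor (A ⧸ maximalIdeal A)) :=
    inj_aux2 (maximalIdeal A) φ hsurj (maximalIdeal_rTensor_of_lTensor h)
      (Module.Flat.lTensor_preserves_injective_linearMap _ Subtype.val_injective)
  have := subsingleton_ker_tensor (A ⧸ maximalIdeal A) φ hsurj hbij.1 hk
  have : Subsingleton (ker φ) := subsingleton_of_tensor_residue hn
  have hinj : Function.Injective φ := ker_eq_bot.1 (Submodule.eq_bot_of_subsingleton)
  exact Module.Free.of_equiv (LinearEquiv.ofBijective φ ⟨hinj, hsurj⟩)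

theorem free_of_artinian [IsArtinianRing A]
    (h : Function.Injective ((maximalIdeal A).subtype.lTensor V)) : Module.Free A V := by
  obtain ⟨n, hn⟩ : IsNilpotent (maximalIdeal A) := by
    rw [← jacobson_eq_maximalIdeal ⊥ bot_ne_top]
    exact IsArtinianRing.isNilpotent_jacobson_bot
  letI : Field (A ⧸ maximalIdeal A) := Ideal.Quotient.field _
  obtain ⟨σ, φ, hφ⟩ := exists_lift_basis (A ⧸ maximalIdeal A) Ideal.Quotient.mk_surjective V
  exact free_of_lift hn h φ hφ

end localRing

/-! ### base change -/

section bc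
variable (B : Type u) [CommRing B] [Algebra A B]

open Groth.Agent.H5DRank

/-- cokernels commute with base change -/
def cokBC (r p : ι) : Cok (CohIII.bcCx (algebraMap A B) C) r p ≃ₗ[B] B ⊗[A] Cok C r p :=
  let g : B ⊗[A] C.X p →ₗ[B] B ⊗[A] Cok C r p := (range (C.d r p).hom).mkQ.baseChange B
  have hg : Function.Surjective g := LinearMap.lTensor_surjective B (Submodule.mkQ_surjective _)
  have hker : ker g = range ((C.d r p).hom.baseChange B) := by
    ext x
    exact lTensor_exact B (exact_map_mkQ_range (C.d r p).hom) (Submodule.mkQ_surjective _) x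
  (Submodule.Quotient.equiv (range ((CohIII.bcCx (algebraMap A B) C).d r p).hom) (ker g) (bcEquiv B (C.X p)) (by
    have h : ((C.d r p).hom.baseChange B) ∘ₗ (bcEquiv B (C.X r)).toLinearMap =
        (bcEquiv B (C.X p)).toLinearMap ∘ₗ ((CohIII.bcCx (algebraMap A B) C).d r p).hom :=
      LinearMap.ext fun z => (bcEquiv_map B (C.d r p) z).symm
    refine (LinearMap.range_comp ((CohIII.bcCx (algebraMap A B) C).d r p).hom (bcEquiv B (C.X p)).toLinearMap).symm.trans ?_
    refine (congrArg LinearMap.range h).symm.trans ?_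
    refine (LinearMap.range_comp_of_range_eq_top ((C.d r p).hom.baseChange B) (LinearEquiv.range _)).trans hker.symm)).trans
  (g.quotKerEquivOfSurjective hg)

theorem flat_cok_bc (r p : ι) [Module.Flat A (Cok C r p)] : Module.Flat B (Cok (CohIII.bcCx (algebraMap A B) C) r p) :=
  Module.Flat.of_linearEquiv (cokBC C B r p)

theorem flat_cok_of_bc (r p : ι) [Module.FaithfullyFlat A B]
    [Module.Flat B (Cok (CohIII.bcCx (algebraMap A B) C) r p)] : Module.Flat A (Cok C r p) := by
  have : Module.Flat B (B ⊗[A] Cok C r p) := Module.Flat.of_linearEquiv (cokBC C B r p).symm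
  exact Module.Flat.of_flat_tensorProduct A (Cok C r p) B

theorem flat_bcCx (p : ι) [Module.Flat A (C.X p)] : Module.Flat B ((CohIII.bcCx (algebraMap A B) C).X p) :=
  Module.Flat.of_linearEquiv (bcEquiv B (C.X p))

end bc

end
end Groth.Agent.H5FCx
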