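import Groth.Agent.Lib.H5FCx2

universe u

namespace Groth.Agent.H5FCxApps
open CategoryTheory Limits TensorProduct LinearMap MonoidalCategory Groth.Agent.H5FCx

noncomputable section

variable {A : Type u} [CommRing A] (P : ChainComplex (ModuleCat.{u} A) ℤ)

lemma prv {r p : ℤ} (h : p + 1 = r) : (ComplexShape.down ℤ).prev p = r :=
  (ComplexShape.down ℤ).prev_eq' h

lemma nxt {p q : ℤ} (h : q + 1 = p) : (ComplexShape.down ℤ).next p = q :=
  (ComplexShape.down ℤ).next_eq' h

theorem mono_iff (hP : ∀ i, Module.Flat A (P.X i)) {r p : ℤ} (h : p + 1 = r) :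
    (CohIII.TFun P p).PreservesMonomorphisms ↔ Module.Flat A (Cok P r p) := by
  have := hP (p - 1)
  exact presMono_iff P r p (p - 1) (prv h) (nxt (sub_add_cancel p 1))

theorem epi_iff (hP : ∀ i, Module.Flat A (P.X i)) {p q : ℤ} (h : q + 1 = p) :
    (CohIII.TFun P p).PreservesEpimorphisms ↔ Module.Flat A (Cok P p q) := by
  have := hP q
  exact presEpi_iff P (p + 1) p q (prv rfl) (nxt h)

theorem epi_iff_mono_pred (hP : ∀ i, Module.Flat A (P.X i)) (p q : ℤ) (h : q + 1 = p) :
    (CohIII.TFun P p).PreservesEpimorphisms ↔ (CohIII.TFun P q).PreservesMonomorphisms :=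
  (epi_iff P hP h).trans (mono_iff P hP h).symm

theorem mono_iff_opcycles (hP : ∀ i, Module.Flat A (P.X i)) (p : ℤ) :
    (CohIII.TFun P p).PreservesMonomorphisms ↔ Module.Flat A (P.opcycles p) :=
  (mono_iff P hP rfl).trans (Module.Flat.equiv_iff (opcyclesEquiv P (p + 1) p (prv rfl))).symm

/-- the canonical form of `T_p` when it is right exact -/
theorem exists_iso_tensorLeft (hP : ∀ i, Module.Flat A (P.X i)) (p : ℤ)
    (h : (CohIII.TFun P p).PreservesEpimorphisms) :
    ∃ N : ModuleCat.{u} A, Nonempty (CohIII.TFun P p ≅ tensorLeft N) := by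
  have := hP (p - 1)
  have := (epi_iff P hP (sub_add_cancel p 1)).1 h
  exact ⟨_, ⟨tfunIso P (p + 1) p (p - 1) (prv rfl) (nxt (sub_add_cancel p 1))⟩⟩

theorem epi_iff_iso (hP : ∀ i, Module.Flat A (P.X i)) (p : ℤ) :
    (CohIII.TFun P p).PreservesEpimorphisms ↔
      ∃ N : ModuleCat.{u} A, Nonempty (CohIII.TFun P p ≅ tensorLeft N) :=
  ⟨exists_iso_tensorLeft P hP p, fun ⟨_, ⟨e⟩⟩ => presEpi_of_iso_tensorLeft P e⟩

theorem exact_iff_iso (hP : ∀ i, Module.Flat A (P.X i)) (p : ℤ) :
    ((CohIII.TFun P p).PreservesMonomorphisms ∧ (CohIII.TFun P p).PreservesEpimorphisms) ↔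
      ∃ N : ModuleCat.{u} A, Module.Flat A N ∧ Nonempty (CohIII.TFun P p ≅ tensorLeft N) := by
  constructor
  · rintro ⟨hm, he⟩
    obtain ⟨N, ⟨e⟩⟩ := exists_iso_tensorLeft P hP p he
    exact ⟨N, flat_of_presMono P e, ⟨e⟩⟩
  · rintro ⟨N, hN, ⟨e⟩⟩
    exact ⟨presMono_of_iso_tensorLeft P e, presEpi_of_iso_tensorLeft P e⟩

/-- value at the ring -/
def valueEquiv {p : ℤ} {N : ModuleCat.{u} A} (e : CohIII.TFun P p ≅ tensorLeft N) :
    (CohIII.TFun P p).obj (ModuleCat.of A A) ≃ₗ[A] N :=
  (e.app (ModuleCat.of A A) ≪≫ evalUnit N).toLinearEquiv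

/-! ### base change -/

theorem bc_epi_mono (hP : ∀ i, Module.Flat A (P.X i)) (B : Type u) [CommRing B] [Algebra A B] (p : ℤ) :
    ((CohIII.TFun P p).PreservesEpimorphisms →
        (CohIII.TFun (CohIII.bcCx (algebraMap A B) P) p).PreservesEpimorphisms) ∧
      ((CohIII.TFun P p).PreservesMonomorphisms →
        (CohIII.TFun (CohIII.bcCx (algebraMap A B) P) p).PreservesMonomorphisms) := by
  have hB : ∀ i, Module.Flat B ((CohIII.bcCx (algebraMap A B) P).X i) := fun i => by
    have := hP i; exact flat_bcCx P B i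
  refine ⟨fun h => ?_, fun h => ?_⟩
  · have := (epi_iff P hP (sub_add_cancel p 1)).1 h
    exact (epi_iff _ hB (sub_add_cancel p 1)).2 (flat_cok_bc P B p (p - 1))
  · have := (mono_iff P hP (p := p) rfl).1 h
    exact (mono_iff _ hB rfl).2 (flat_cok_bc P B (p + 1) p)

theorem bc_iff (hP : ∀ i, Module.Flat A (P.X i)) (B : Type u) [CommRing B] [Algebra A B]
    [Module.FaithfullyFlat A B] (p : ℤ) :
    ((CohIII.TFun (CohIII.bcCx (algebraMap A B) P) p).PreservesEpimorphisms ↔
        (CohIII.TFun P p).PreservesEpimorphisms) ∧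
      ((CohIII.TFun (CohIII.bcCx (algebraMap A B) P) p).PreservesMonomorphisms ↔
        (CohIII.TFun P p).PreservesMonomorphisms) := by
  have hB : ∀ i, Module.Flat B ((CohIII.bcCx (algebraMap A B) P).X i) := fun i => by
    have := hP i; exact flat_bcCx P B i
  refine ⟨⟨fun h => ?_, (bc_epi_mono P hP B p).1⟩, fun h => ?_, (bc_epi_mono P hP B p).2⟩
  · have := (epi_iff _ hB (sub_add_cancel p 1)).1 h
    exact (epi_iff P hP (sub_add_cancel p 1)).2 (flat_cok_of_bc P B p (p - 1))
  · have := (mono_iff _ hB (p := p) rfl).1 h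
    exact (mono_iff P hP rfl).2 (flat_cok_of_bc P B (p + 1) p)

/-! ### homology and cokernels -/

theorem hm_flat_iff {ι : Type} {c : ComplexShape ι} (C : HomologicalComplex (ModuleCat.{u} A) c) (r p q : ι)
    [Module.Flat A (C.X q)] [Module.Flat A (Cok C p q)] :
    Module.Flat A (Hm C r p q) ↔ Module.Flat A (Cok C r p) := by
  let d := (C.d p q).hom
  have : Module.Flat A (range d) :=
    (flat_of_exact (range d).subtype (range d).mkQ Subtype.val_injective (exact_subtype_mkQ _)
      (Submodule.mkQ_surjective _)).2 inferInstance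
  let f : Hm C r p q →ₗ[A] Cok C r p := (bd C r p q).mapQ _ (LinearMap.ker d).subtype le_rfl
  have hd : range (C.d r p).hom ≤ LinearMap.ker d.rangeRestrict := by
    rw [ker_rangeRestrict]
    exact range_le_ker_iff.2 (d_d C r p q)
  let g : Cok C r p →ₗ[A] range d := (range (C.d r p).hom).liftQ d.rangeRestrict hd
  refine flat_of_exact f g ?_ ?_ ?_
  · rw [← ker_eq_bot, eq_bot_iff]
    intro x hx
    obtain ⟨x, rfl⟩ := Submodule.mkQ_surjective _ x
    exact (Submodule.Quotient.mk_eq_zero _).2 ((Submodule.Quotient.mk_eq_zero (range (C.d r p).hom) (x := (x : C.X p))).1 (mem_ker.1 hx))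
  · intro x
    obtain ⟨x, rfl⟩ := Submodule.mkQ_surjective _ x
    constructor
    · intro hx
      exact ⟨(bd C r p q).mkQ ⟨x, mem_ker.2 (congrArg Subtype.val hx)⟩, rfl⟩
    · rintro ⟨y, hy⟩
      obtain ⟨y, rfl⟩ := Submodule.mkQ_surjective _ y
      rw [← hy]
      exact Subtype.ext (mem_ker.1 y.2)
  · intro y
    obtain ⟨x, hx⟩ := surjective_rangeRestrict d y
    exact ⟨Submodule.Quotient.mk x, hx⟩

theorem flat_value_iff (hP : ∀ i, Module.Flat A (P.X i)) {q : ℤ}
    [Module.Flat A (Cok P q (q - 1))] :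
    Module.Flat A ((CohIII.TFun P q).obj (ModuleCat.of A A)) ↔ Module.Flat A (Cok P (q + 1) q) := by
  have := hP (q - 1)
  have e := tfunIso P (q + 1) q (q - 1) (prv rfl) (nxt (sub_add_cancel q 1))
  exact (Module.Flat.equiv_iff (valueEquiv P e)).trans (hm_flat_iff P (q + 1) q (q - 1))

theorem cok_pred {q : ℤ} : Cok P (q - 1 + 1) (q - 1) = Cok P q (q - 1) := by rw [sub_add_cancel]

theorem exact_upTo_iff (hP : ∀ i, Module.Flat A (P.X i)) (i₀ : ℤ) (hb : ∀ i < i₀, IsZero (P.X i)) (p : ℤ) :
    (∀ q ≤ p, (CohIII.TFun P q).PreservesMonomorphisms ∧ (CohIII.TFun P q).PreservesEpimorphisms) ↔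
      ∀ q ≤ p, Module.Flat A ((CohIII.TFun P q).obj (ModuleCat.of A A)) := by
  constructor
  · intro h q hq
    obtain ⟨N, hN, ⟨e⟩⟩ := (exact_iff_iso P hP q).1 (h q hq)
    exact Module.Flat.of_linearEquiv (valueEquiv P e)
  · intro h
    have key : ∀ (n : ℕ) (q : ℤ), q < i₀ + n → q ≤ p → Module.Flat A (Cok P (q + 1) q) := by
      intro n
      induction n with
      | zero =>
        intro q hq _
        have := ModuleCat.subsingleton_of_isZero (hb q (by omega))
        infer_instance
      | succ n ih =>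
        intro q hq hqp
        have hc := ih (q - 1) (by omega) (by omega)
        rw [sub_add_cancel] at hc
        exact (flat_value_iff P hP).1 (h q hqp)
    intro q hq
    have h1 := key (q - i₀ + 1).toNat q (by omega) hq
    have h2 := key (q - i₀).toNat (q - 1) (by omega) (by omega)
    exact ⟨(mono_iff P hP rfl).2 h1, (epi_iff P hP (sub_add_cancel q 1)).2 (by rw [sub_add_cancel] at h2; exact h2)⟩

/-! ### local rings -/

section loc
variable [IsLocalRing A]
open IsLocalRing

/-- `A → k` -/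
abbrev resMap : ModuleCat.of A A ⟶ ModuleCat.of A (ResidueField A) :=
  ModuleCat.ofHom (Algebra.linearMap A (ResidueField A))

theorem surjective_res_iff (hP : ∀ i, Module.Flat A (P.X i)) {p q : ℤ} (h : q + 1 = p) :
    Function.Surjective ((CohIII.TFun P p).map resMap).hom ↔
      Function.Injective ((maximalIdeal A).subtype.lTensor (Cok P p q)) := by
  have := hP q
  exact tfun_surjective_iff_injective P (ModuleCat.ofHom (maximalIdeal A).subtype) resMap Subtype.val_injective
    (LinearMap.exact_iff.2 ((Submodule.ext fun x => IsLocalRing.residue_eq_zero_iff x).trans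
      (Submodule.range_subtype _).symm))
    Ideal.Quotient.mk_surjective (p + 1) p q (prv rfl) (nxt h)

theorem epi_iff_surjective_res [IsNoetherianRing A] (hP : ∀ i, Module.Finite A (P.X i) ∧ Module.Flat A (P.X i)) (p : ℤ) :
    (CohIII.TFun P p).PreservesEpimorphisms ↔ Function.Surjective ((CohIII.TFun P p).map resMap).hom := by
  have hfl : ∀ i, Module.Flat A (P.X i) := fun i => (hP i).2
  rw [epi_iff P hfl (sub_add_cancel p 1), surjective_res_iff P hfl (sub_add_cancel p 1)]
  have := (hP (p - 1)).1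
  exact ⟨fun _ => Module.Flat.lTensor_preserves_injective_linearMap _ Subtype.val_injective, flat_of_fg⟩

theorem exact_iff_surjective_res [IsNoetherianRing A] (hP : ∀ i, Module.Finite A (P.X i) ∧ Module.Flat A (P.X i))
    (p q : ℤ) (hpq : p + 1 = q) :
    ((CohIII.TFun P p).PreservesMonomorphisms ∧ (CohIII.TFun P p).PreservesEpimorphisms) ↔
      Function.Surjective ((CohIII.TFun P q).map resMap).hom ∧
        Function.Surjective ((CohIII.TFun P p).map resMap).hom := by
  rw [← epi_iff_surjective_res P hP q, ← epi_iff_surjective_res P hP p,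
    epi_iff_mono_pred P (fun i => (hP i).2) q p hpq]

theorem epi_iff_surjective_res_artinian [IsArtinianRing A] (hP : ∀ i, Module.Flat A (P.X i)) (p : ℤ) :
    (CohIII.TFun P p).PreservesEpimorphisms ↔ Function.Surjective ((CohIII.TFun P p).map resMap).hom := by
  rw [epi_iff P hP (sub_add_cancel p 1), surjective_res_iff P hP (sub_add_cancel p 1)]
  refine ⟨fun _ => Module.Flat.lTensor_preserves_injective_linearMap _ Subtype.val_injective, fun h => ?_⟩
  have := free_of_artinian h
  infer_instance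

theorem value_finite {p : ℤ} [IsNoetherianRing A] (hP : ∀ i, Module.Finite A (P.X i) ∧ Module.Flat A (P.X i)) :
    Module.Finite A (CohIII.T P p (ModuleCat.of A A)) := by
  have := (hP p).1
  have : IsNoetherian A (ker ((P.d p (p - 1)).hom.rTensor (ModuleCat.of A A))) := inferInstance
  exact Module.Finite.of_surjective _ (cl_surj P (ModuleCat.of A A) p (p - 1) (nxt (sub_add_cancel p 1)))

theorem exact_iff_epi_free [IsNoetherianRing A] (hP : ∀ i, Module.Finite A (P.X i) ∧ Module.Flat A (P.X i)) (p : ℤ) :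
    ((CohIII.TFun P p).PreservesMonomorphisms ∧ (CohIII.TFun P p).PreservesEpimorphisms) ↔
      ((CohIII.TFun P p).PreservesEpimorphisms ∧
        Module.Free A ((CohIII.TFun P p).obj (ModuleCat.of A A))) := by
  have hfl : ∀ i, Module.Flat A (P.X i) := fun i => (hP i).2
  constructor
  · intro h
    obtain ⟨N, hN, ⟨e⟩⟩ := (exact_iff_iso P hfl p).1 h
    have : Module.Flat A ((CohIII.TFun P p).obj (ModuleCat.of A A)) := Module.Flat.of_linearEquiv (valueEquiv P e)
    have : Module.Finite A ((CohIII.TFun P p).obj (ModuleCat.of A A)) := value_finite P hP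
    exact ⟨h.2, Module.free_of_flat_of_isLocalRing⟩
  · rintro ⟨h, hF⟩
    obtain ⟨N, ⟨e⟩⟩ := exists_iso_tensorLeft P hfl p h
    have : Module.Flat A ((CohIII.TFun P p).obj (ModuleCat.of A A)) := inferInstance
    have : Module.Flat A N := Module.Flat.of_linearEquiv (valueEquiv P e).symm
    exact ⟨presMono_of_iso_tensorLeft P e, h⟩

theorem isZero_of_residue [IsNoetherianRing A] (hP : ∀ i, Module.Finite A (P.X i) ∧ Module.Flat A (P.X i)) (p : ℤ)
    (hk : IsZero ((CohIII.TFun P p).obj (ModuleCat.of A (ResidueField A)))) (M : ModuleCat.{u} A) :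
    IsZero ((CohIII.TFun P p).obj M) := by
  have hfl : ∀ i, Module.Flat A (P.X i) := fun i => (hP i).2
  have := ModuleCat.subsingleton_of_isZero hk
  obtain ⟨N, ⟨e⟩⟩ := exists_iso_tensorLeft P hfl p
    ((epi_iff_surjective_res P hP p).2 (fun y => ⟨0, Subsingleton.elim _ _⟩))
  have : Module.Finite A ((CohIII.TFun P p).obj (ModuleCat.of A A)) := value_finite P hP
  have : Module.Finite A N := Module.Finite.equiv (valueEquiv P e)
  have h1 : Subsingleton (N ⊗[A] ResidueField A) :=
    (e.app (ModuleCat.of A (ResidueField A))).toLinearEquiv.symm.toEquiv.subsingleton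
  have : Subsingleton (ResidueField A ⊗[A] N) := (TensorProduct.comm A _ _).toEquiv.subsingleton
  have : Subsingleton N := IsLocalRing.subsingleton_tensorProduct.1 this
  have : Subsingleton ((tensorLeft N).obj M) := inferInstanceAs (Subsingleton (N ⊗[A] M))
  exact (ModuleCat.isZero_of_subsingleton ((tensorLeft N).obj M)).of_iso (e.app M)

theorem exact_free_of_adjacent [IsNoetherianRing A] (hP : ∀ i, Module.Finite A (P.X i) ∧ Module.Flat A (P.X i))
    (p q r : ℤ) (hqp : q + 1 = p) (hpr : p + 1 = r)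
    (hq : IsZero ((CohIII.TFun P q).obj (ModuleCat.of A (ResidueField A))))
    (hr : IsZero ((CohIII.TFun P r).obj (ModuleCat.of A (ResidueField A)))) :
    ((CohIII.TFun P p).PreservesMonomorphisms ∧ (CohIII.TFun P p).PreservesEpimorphisms) ∧
      Module.Free A ((CohIII.TFun P p).obj (ModuleCat.of A A)) := by
  have hfl : ∀ i, Module.Flat A (P.X i) := fun i => (hP i).2
  have := ModuleCat.subsingleton_of_isZero hr
  have hm := (epi_iff_mono_pred P hfl r p hpr).1 ((epi_iff_surjective_res P hP r).2 (fun y => ⟨0, Subsingleton.elim _ _⟩))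
  have he := (epi_iff_mono_pred P hfl p q hqp).2
    ⟨fun {M N} g _ => ⟨fun {Z} a b _ => (isZero_of_residue P hP q hq M).eq_of_tgt a b⟩⟩
  exact ⟨⟨hm, he⟩, ((exact_iff_epi_free P hP p).1 ⟨hm, he⟩).2⟩

end loc

theorem smul_cl {ι : Type} {c : ComplexShape ι} (C : HomologicalComplex (ModuleCat.{u} A) c) (M : ModuleCat.{u} A)
    (f : A) (p q : ι) (hq : c.next p = q) (y : CohIII.T C p M) :
    ((CohIII.TFun C p).map (ModuleCat.ofHom (f • (LinearMap.id : M →ₗ[A] M)))).hom y = f • y := by
  obtain ⟨z, rfl⟩ := cl_surj C M p q hq y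
  have : zmap C (ModuleCat.ofHom (f • (LinearMap.id : M →ₗ[A] M))) p q z = f • z :=
    Subtype.ext (by change (f • (LinearMap.id : M →ₗ[A] M)).lTensor (C.X p) z.1 = f • z.1; simp [LinearMap.lTensor_smul])
  refine (cl_map C (ModuleCat.ofHom (f • (LinearMap.id : M →ₗ[A] M))) p q hq z).trans ?_
  rw [this, map_smul]

theorem smul_injective_pred (hP : ∀ i, Module.Flat A (P.X i)) (p q : ℤ) (hpq : q + 1 = p)
    (hex : (CohIII.TFun P p).PreservesEpimorphisms) :
    (∀ (M : ModuleCat.{u} A) (f : A), Function.Injective (fun x : M => f • x) →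
        Function.Injective (fun y : CohIII.T P q M => f • y)) ∧
      (IsDomain A → NoZeroSMulDivisors A (CohIII.T P q (ModuleCat.of A A))) := by
  have hm := (epi_iff_mono_pred P hP p q hpq).1 hex
  have key : ∀ (M : ModuleCat.{u} A) (f : A), Function.Injective (fun x : M => f • x) →
        Function.Injective (fun y : CohIII.T P q M => f • y) := fun M f hf a b hab => by
    have : Mono (ModuleCat.ofHom (f • (LinearMap.id : M →ₗ[A] M))) := (ModuleCat.mono_iff_injective _).2 hf
    refine (ModuleCat.mono_iff_injective _).1 ((CohIII.TFun P q).map_mono (ModuleCat.ofHom (f • (LinearMap.id : M →ₗ[A] M)))) ?_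
    exact (smul_cl P M f q (q - 1) (nxt (sub_add_cancel q 1)) a).trans
      (hab.trans (smul_cl P M f q (q - 1) (nxt (sub_add_cancel q 1)) b).symm)
  refine ⟨key, fun _ => ⟨fun {f y} h => or_iff_not_imp_left.2 fun hf => ?_⟩⟩
  exact key _ f (fun a b hab => mul_left_cancel₀ hf hab) (h.trans (smul_zero f).symm)

end
end Groth.Agent.H5FCxApps
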