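import Groth.Agent.Lib.H5FCxRank
import Mathlib.Algebra.Category.ModuleCat.Descent

universe u

namespace Groth.Agent.H5FCxBC
open CategoryTheory Limits TensorProduct LinearMap Groth.Agent.H5FCx Groth.Agent.H5DRank

noncomputable section

variable {A : Type u} [CommRing A] {ι : Type} {c : ComplexShape ι}

/-- iterated base change of complexes -/
def bcComp {B C : Type u} [CommRing B] [CommRing C] (f : A →+* B) (g : B →+* C)
    (P : HomologicalComplex (ModuleCat.{u} A) c) :
    CohIII.bcCx (g.comp f) P ≅ CohIII.bcCx g (CohIII.bcCx f P) :=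
  HomologicalComplex.Hom.isoOfComponents (fun i => (ModuleCat.extendScalarsComp f g).app (P.X i))
    (fun i j _ => ((ModuleCat.extendScalarsComp f g).hom.naturality (P.d i j)).symm)

/-- exact base change commutes with homology -/
def bcHomology {B : Type u} [CommRing B] (f : A →+* B) (hf : f.Flat) (P : HomologicalComplex (ModuleCat.{u} A) c)
    (p : ι) : (CohIII.bcCx f P).homology p ≅ (ModuleCat.extendScalars f).obj (P.homology p) :=
  haveI := ModuleCat.preservesFiniteLimits_extendScalars_of_flat hf
  haveI : PreservesFiniteColimits (ModuleCat.extendScalars.{_, _, u} f) :=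
    inferInstance
  (P.sc p).mapHomologyIso (ModuleCat.extendScalars.{_, _, u} f)

theorem finrank_bc_field {k K : Type u} [Field k] [Field K] [Algebra k K]
    (Q : HomologicalComplex (ModuleCat.{u} k) c) (p : ι) :
    Module.finrank K ((CohIII.bcCx (algebraMap k K) Q).homology p) = Module.finrank k (Q.homology p) := by
  have hf : (algebraMap k K).Flat := by rw [RingHom.flat_algebraMap_iff]; infer_instance
  rw [(bcHomology (algebraMap k K) hf Q p).toLinearEquiv.finrank_eq, (bcEquiv K (Q.homology p)).finrank_eq]
  exact Module.finrank_baseChange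

theorem dRank_baseChange {A' : Type u} [CommRing A'] [Algebra A A'] (P : HomologicalComplex (ModuleCat.{u} A) c) (p : ι)
    (x' : PrimeSpectrum A') :
    CohIII.dRank (CohIII.bcCx (algebraMap A A') P) p x' =
      CohIII.dRank P p (x'.comap (algebraMap A A')) := by
  let q := (x'.comap (algebraMap A A')).asIdeal
  let ψ := Ideal.ResidueField.map q x'.asIdeal (algebraMap A A') rfl
  letI : Algebra q.ResidueField x'.asIdeal.ResidueField := ψ.toAlgebra
  have h : (algebraMap A' x'.asIdeal.ResidueField).comp (algebraMap A A') = ψ.comp (algebraMap A q.ResidueField) :=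
    RingHom.ext fun a => (Ideal.ResidueField.map_algebraMap q x'.asIdeal (algebraMap A A') rfl a).symm
  have e : CohIII.bcCx (algebraMap A' x'.asIdeal.ResidueField) (CohIII.bcCx (algebraMap A A') P) ≅
      CohIII.bcCx ψ (CohIII.bcCx (algebraMap A q.ResidueField) P) :=
    (bcComp _ _ P).symm ≪≫ eqToIso (by rw [h]) ≪≫ bcComp _ _ P
  refine (((HomologicalComplex.homologyFunctor (ModuleCat.{u} x'.asIdeal.ResidueField) c p).mapIso e).toLinearEquiv.finrank_eq).trans ?_
  exact finrank_bc_field (k := q.ResidueField) (K := x'.asIdeal.ResidueField) (CohIII.bcCx (algebraMap A q.ResidueField) P) p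

end
end Groth.Agent.H5FCxBC
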