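import Groth.Agent.Lib.H5FCxBC

universe u

namespace Groth.Agent.H5FCxDVRDim
open CategoryTheory Limits TensorProduct LinearMap IsLocalRing Groth.Agent.H5FCx Groth.Agent.H5FCxApps Groth.Agent.H5FCxRank Groth.Agent.H5DRank Groth.Agent.H5FCxBC

noncomputable section

variable {A : Type u} [CommRing A] (P : ChainComplex (ModuleCat.{u} A) ℤ)

/-- `P ⊗ A ≅ P` -/
def tensorUnit : CohIII.tensorObj P (ModuleCat.of A A) ≅ P :=
  HomologicalComplex.Hom.isoOfComponents (fun i => (TensorProduct.rid A (P.X i)).toModuleIso) (fun i j _ => by
    refine ModuleCat.hom_ext (LinearMap.ext fun (x : (P.X i : Type u) ⊗[A] A) => ?_)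
    change (P.d i j).hom (TensorProduct.rid A _ x) = TensorProduct.rid A _ ((P.d i j).hom.rTensor A x)
    induction x with
    | zero => simp
    | tmul y a => simp
    | add a b ha hb => simp only [map_add, ha, hb])

def valueA (p : ℤ) : CohIII.T P p (ModuleCat.of A A) ≃ₗ[A] P.homology p :=
  ((HomologicalComplex.homologyFunctor (ModuleCat.{u} A) _ p).mapIso (tensorUnit P)).toLinearEquiv

/-- tensoring a short exact sequence with a complex of flat modules -/
def tensorShort {K M N : ModuleCat.{u} A} (i : K ⟶ M) (π : M ⟶ N) (hex : Function.Exact i.hom π.hom) :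
    ShortComplex (ChainComplex (ModuleCat.{u} A) ℤ) :=
  ShortComplex.mk (CohIII.tensorMap P i) (CohIII.tensorMap P π) (HomologicalComplex.hom_ext _ _ fun j =>
    ModuleCat.hom_ext (LinearMap.ext fun (x : (P.X j : Type u) ⊗[A] K) => by
      change π.hom.lTensor _ (i.hom.lTensor _ x) = 0
      rw [← LinearMap.comp_apply, ← lTensor_comp, hex.linearMap_comp_eq_zero, lTensor_zero, LinearMap.zero_apply]))

theorem tensorShort_exact (hP : ∀ i, Module.Flat A (P.X i)) {K M N : ModuleCat.{u} A} (i : K ⟶ M) (π : M ⟶ N)
    (hi : Function.Injective i.hom) (hex : Function.Exact i.hom π.hom) (hπ : Function.Surjective π.hom) :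
    (tensorShort P i π hex).ShortExact := by
  refine HomologicalComplex.shortExact_of_degreewise_shortExact _ fun j => ?_
  have := hP j
  exact
    { exact := (ShortComplex.ShortExact.moduleCat_exact_iff_function_exact _).2 (lTensor_exact (P.X j) hex hπ)
      mono_f := (ModuleCat.mono_iff_injective _).2 (Module.Flat.lTensor_preserves_injective_linearMap _ hi)
      epi_g := (ModuleCat.epi_iff_surjective _).2 (LinearMap.lTensor_surjective _ hπ) }

/-! ### fibre dimensions at fields -/

theorem fdim_field {k : Type u} [Field k] [Algebra A k] (X : Type u) [AddCommGroup X] [Module A X] :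
    Module.finrank k (k ⊗[A] X) = fdim X ((⊥ : PrimeSpectrum k).comap (algebraMap A k)) := by
  rw [← fdim_baseChange]
  exact (Module.finrank_baseChange).symm

theorem comap_bot_fractionRing [IsDomain A] (K : Type u) [Field K] [Algebra A K] [IsFractionRing A K] :
    (⊥ : PrimeSpectrum K).comap (algebraMap A K) = (⊥ : PrimeSpectrum A) :=
  PrimeSpectrum.ext ((RingHom.injective_iff_ker_eq_bot _).1 (IsFractionRing.injective A K))

theorem comap_bot_residue [IsLocalRing A] :
    (⊥ : PrimeSpectrum (ResidueField A)).comap (algebraMap A (ResidueField A)) = closedPoint A :=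
  PrimeSpectrum.ext (IsLocalRing.ker_residue)

theorem finrank_le_of_surjective {k V W : Type u} [Field k] [AddCommGroup V] [Module k V]
    [AddCommGroup W] [Module k W] [Module.Finite k V] (f : V →ₗ[k] W) (hf : Function.Surjective f) :
    Module.finrank k W ≤ Module.finrank k V := by
  rw [← f.finrank_range_add_finrank_ker, range_eq_top.2 hf, finrank_top]
  exact Nat.le_add_right _ _

theorem finrank_tensor_le [IsLocalRing A] (X : Type u) [AddCommGroup X] [Module A X] [Module.Finite A X]
    (q : PrimeSpectrum A) : fdim X q ≤ fdim X (closedPoint A) := by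
  rw [← comap_bot_residue (A := A), ← fdim_field]
  obtain ⟨σ, φ, hφ⟩ := exists_lift_basis (ResidueField A) Ideal.Quotient.mk_surjective X
  have hsurj : Function.Surjective φ := by
    have := subsingleton_coker_tensor (ResidueField A) φ hφ.2
    exact range_eq_top.1 (Submodule.Quotient.subsingleton_iff.1 (IsLocalRing.subsingleton_tensorProduct.1 this))
  let eb : ResidueField A ⊗[A] (σ →₀ A) ≃ₗ[ResidueField A] ResidueField A ⊗[A] X :=
    LinearEquiv.ofBijective (φ.baseChange (ResidueField A)) hφ
  have : Finite σ := by
    have : Module.Finite (ResidueField A) (ResidueField A ⊗[A] (σ →₀ A)) := Module.Finite.equiv eb.symm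
    exact Module.Finite.finite_basis (Finsupp.basisSingleOne.baseChange (ResidueField A) (R := A) (ι := σ))
  rw [← eb.finrank_eq, Module.finrank_baseChange]
  refine (finrank_le_of_surjective (φ.baseChange q.asIdeal.ResidueField) (LinearMap.lTensor_surjective _ hsurj)).trans ?_
  exact le_of_eq Module.finrank_baseChange

/-! ### the residue fibre -/

/-- `k ⊗_A` versus `- ⊗_A k` -/
def bridge (k : Type u) [CommRing k] [Algebra A k] :
    ((ModuleCat.restrictScalars (algebraMap A k)).mapHomologicalComplex _).obj (CohIII.bcCx (algebraMap A k) P) ≅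
      CohIII.tensorObj P (ModuleCat.of A k) :=
  HomologicalComplex.Hom.isoOfComponents
    (fun i => LinearEquiv.toModuleIso
      ({ toFun := fun x => TensorProduct.comm A k (P.X i) (bcEquiv k (P.X i) x)
         invFun := fun x => (bcEquiv k (P.X i)).symm ((TensorProduct.comm A k (P.X i)).symm x)
         map_add' := fun x y =>
           (congrArg (TensorProduct.comm A k (P.X i)) ((bcEquiv k (P.X i)).map_add x y)).trans (map_add _ _ _)
         map_smul' := fun a x => by
           refine (congrArg (TensorProduct.comm A k (P.X i)) ((bcEquiv k (P.X i)).map_smul (algebraMap A k a) x)).trans ?_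
           rw [algebraMap_smul, map_smul]
           rfl
         left_inv := fun x => (congrArg (bcEquiv k (P.X i)).symm ((TensorProduct.comm A k (P.X i)).symm_apply_apply _)).trans
           ((bcEquiv k (P.X i)).symm_apply_apply x)
         right_inv := fun x => (congrArg (TensorProduct.comm A k (P.X i)) ((bcEquiv k (P.X i)).apply_symm_apply _)).trans
           ((TensorProduct.comm A k (P.X i)).apply_symm_apply x) } :
        (ModuleCat.restrictScalars (algebraMap A k)).obj ((CohIII.bcCx (algebraMap A k) P).X i) ≃ₗ[A]
          ((P.X i : Type u) ⊗[A] k)))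
    (fun i j _ => ModuleCat.hom_ext (LinearMap.ext fun x => by
      refine Eq.symm ((congrArg (TensorProduct.comm A k (P.X j)) (bcEquiv_map k (P.d i j) x)).trans ?_)
      change TensorProduct.comm A k (P.X j) ((P.d i j).hom.baseChange k _) = (P.d i j).hom.rTensor k (TensorProduct.comm A k (P.X i) _)
      generalize bcEquiv k (P.X i) x = y
      induction y with
      | zero => simp
      | tmul s m => simp
      | add a b ha hb => simp only [map_add, ha, hb]))

/-- homology of `k ⊗ P`, over `A`, is `T_p(k)` -/
def residueValue (k : Type u) [CommRing k] [Algebra A k] (p : ℤ) :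
    (ModuleCat.restrictScalars (algebraMap A k)).obj ((CohIII.bcCx (algebraMap A k) P).homology p) ≅
      CohIII.T P p (ModuleCat.of A k) :=
  (((CohIII.bcCx (algebraMap A k) P).sc p).mapHomologyIso (ModuleCat.restrictScalars (algebraMap A k))).symm ≪≫
    (HomologicalComplex.homologyFunctor (ModuleCat.{u} A) _ p).mapIso (bridge P k)

theorem length_residue [IsLocalRing A] (V : Type u) [AddCommGroup V] [Module A V] [Module (ResidueField A) V]
    [IsScalarTower A (ResidueField A) V] [Module.Finite A V] :
    Module.length A V = Module.finrank (ResidueField A) V := by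
  have : Module.Finite (ResidueField A) V := Module.Finite.of_restrictScalars_finite A _ _
  rw [Module.length_eq_of_surjective (R := ResidueField A) (M := V) (S := A) Ideal.Quotient.mk_surjective,
    Module.length_eq_finrank]

theorem finrank_bc_eq [IsLocalRing A] (p : ℤ) [Module.Finite A (CohIII.T P p (ModuleCat.of A (ResidueField A)))] :
    (Module.finrank (ResidueField A) ((CohIII.bcCx (algebraMap A (ResidueField A)) P).homology p) : ℕ∞) =
      Module.length A (CohIII.T P p (ModuleCat.of A (ResidueField A))) := by
  let H := (CohIII.bcCx (algebraMap A (ResidueField A)) P).homology p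
  letI : Module A H := Module.compHom H (algebraMap A (ResidueField A))
  have : IsScalarTower A (ResidueField A) H := IsScalarTower.of_algebraMap_smul fun _ _ => rfl
  let e : H ≃ₗ[A] CohIII.T P p (ModuleCat.of A (ResidueField A)) := (residueValue P (ResidueField A) p).toLinearEquiv
  have : Module.Finite A H := Module.Finite.equiv e.symm
  rw [← e.length_eq]
  exact (length_residue H).symm

variable [IsDomain A] [IsDiscreteValuationRing A]

theorem free_iff_regular (X : Type u) [AddCommGroup X] [Module A X] [Module.Finite A X] {t : A} (ht : Irreducible t) :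
    Module.Free A X ↔ ∀ x : X, t • x = 0 → x = 0 := by
  refine ⟨fun _ x hx => (smul_eq_zero.1 hx).resolve_left ht.ne_zero, fun h => ?_⟩
  have : Module.IsTorsionFree A X := Module.isTorsionFree_iff_smul_eq_zero.2 fun a x hax => by
    by_cases ha : a = 0
    · exact Or.inl ha
    · obtain ⟨n, u, rfl⟩ := IsDiscreteValuationRing.eq_unit_mul_pow_irreducible ha ht
      refine Or.inr ?_
      rw [mul_smul] at hax
      have h1 : t ^ n • x = 0 := by
        have := congrArg ((↑u⁻¹ : A) • ·) hax
        simpa [← mul_smul] using this
      clear hax ha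
      induction n with
      | zero => simpa using h1
      | succ n ih => rw [pow_succ', mul_smul] at h1; exact ih (h _ h1)
  infer_instance

theorem dvr_inequalities (hP : ∀ i, Module.Flat A (P.X i)) (hfin : ∀ i, Module.Finite A (P.homology i)) (p q : ℤ)
    (hpq : q + 1 = p) :
    (Module.finrank (FractionRing A) ((CohIII.bcCx (algebraMap A (FractionRing A)) P).homology p) ≤
        Module.finrank (ResidueField A) (ResidueField A ⊗[A] P.homology p) ∧
      Module.finrank (ResidueField A) (ResidueField A ⊗[A] P.homology p) ≤
        Module.finrank (ResidueField A) ((CohIII.bcCx (algebraMap A (ResidueField A)) P).homology p)) ∧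
    (Module.finrank (FractionRing A) ((CohIII.bcCx (algebraMap A (FractionRing A)) P).homology p) =
        Module.finrank (ResidueField A) ((CohIII.bcCx (algebraMap A (ResidueField A)) P).homology p) ↔
      Module.Free A (P.homology p) ∧ Module.Free A (P.homology q)) := by
  obtain ⟨t, ht⟩ := IsDiscreteValuationRing.exists_irreducible A
  have := hfin p; have := hfin q
  -- generic fibre
  have hK : Module.finrank (FractionRing A) ((CohIII.bcCx (algebraMap A (FractionRing A)) P).homology p) =
      fdim (P.homology p) (⊥ : PrimeSpectrum A) := by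
    have hf : (algebraMap A (FractionRing A)).Flat := by
      rw [RingHom.flat_algebraMap_iff]; exact IsLocalization.flat (FractionRing A) (nonZeroDivisors A)
    rw [(bcHomology (algebraMap A (FractionRing A)) hf P p).toLinearEquiv.finrank_eq,
      (bcEquiv (FractionRing A) (P.homology p)).finrank_eq, fdim_field, comap_bot_fractionRing]
  -- the sequence
  let i : ModuleCat.of A A ⟶ ModuleCat.of A A := ModuleCat.ofHom (t • (LinearMap.id : A →ₗ[A] A))
  have hi : Function.Injective i.hom := fun a b h => mul_left_cancel₀ ht.ne_zero h
  have hex : Function.Exact i.hom (Algebra.linearMap A (ResidueField A)) := by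
    intro a
    refine (IsLocalRing.residue_eq_zero_iff a).trans ?_
    rw [ht.maximalIdeal_eq, Ideal.mem_span_singleton']
    exact ⟨fun ⟨b, hb⟩ => ⟨b, (mul_comm t b).trans hb⟩, fun ⟨b, hb⟩ => ⟨b, (mul_comm b t).trans hb⟩⟩
  have hS := tensorShort_exact P hP i resMap hi hex Ideal.Quotient.mk_surjective
  let T0 := CohIII.T P p (ModuleCat.of A A)
  let f : T0 →ₗ[A] T0 := (HomologicalComplex.homologyMap (CohIII.tensorMap P i) p).hom
  let g : T0 →ₗ[A] CohIII.T P p (ModuleCat.of A (ResidueField A)) :=
    (HomologicalComplex.homologyMap (CohIII.tensorMap P resMap) p).hom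
  let δ : CohIII.T P p (ModuleCat.of A (ResidueField A)) →ₗ[A] CohIII.T P q (ModuleCat.of A A) :=
    (hS.δ p q hpq).hom
  let f' : CohIII.T P q (ModuleCat.of A A) →ₗ[A] CohIII.T P q (ModuleCat.of A A) :=
    (HomologicalComplex.homologyMap (CohIII.tensorMap P i) q).hom
  have e3 : range g = LinearMap.ker δ := (hS.homology_exact₃ p q hpq).moduleCat_range_eq_ker
  have e1 : range δ = LinearMap.ker f' := (hS.homology_exact₁ p q hpq).moduleCat_range_eq_ker
  have e2 : range f = LinearMap.ker g := (hS.homology_exact₂ p).moduleCat_range_eq_ker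
  have hf : ∀ y, f y = t • y := smul_cl P (ModuleCat.of A A) t p q (nxt hpq)
  have hf' : ∀ y, f' y = t • y := smul_cl P (ModuleCat.of A A) t q (q - 1) (nxt (sub_add_cancel q 1))
  have hfT : ∀ j, Module.Finite A (CohIII.T P j (ModuleCat.of A A)) := fun j =>
    have := hfin j; Module.Finite.equiv (valueA P j).symm
  have := hfT p; have := hfT q
  have : IsNoetherian A (CohIII.T P p (ModuleCat.of A (ResidueField A))) :=
    isNoetherian_of_range_eq_ker g δ e3
  -- range of `g`
  have hker : LinearMap.ker g = maximalIdeal A • (⊤ : Submodule A T0) := by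
    rw [← e2, ht.maximalIdeal_eq, Submodule.ideal_span_singleton_smul]
    ext y
    constructor
    · rintro ⟨x, rfl⟩
      rw [hf x]
      exact Submodule.smul_mem_pointwise_smul x t ⊤ trivial
    · intro hy
      obtain ⟨x, -, rfl⟩ := (Submodule.mem_smul_pointwise_iff_exists y t ⊤).1 hy
      exact ⟨x, hf x⟩
  have er : (range g) ≃ₗ[A] ResidueField A ⊗[A] P.homology p :=
    (g.quotKerEquivRange.symm ≪≫ₗ Submodule.quotEquivOfEq _ _ hker ≪≫ₗ
      (TensorProduct.quotTensorEquivQuotSMul T0 (maximalIdeal A)).symm) ≪≫ₗ
      TensorProduct.congr (LinearEquiv.refl A _) (valueA P p)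
  have : Module.Finite A (ResidueField A) := Module.Finite.of_surjective (Algebra.linearMap A _) Ideal.Quotient.mk_surjective
  have hlen := Module.length_eq_add_of_exact (range g).subtype δ.rangeRestrict Subtype.val_injective
    (surjective_rangeRestrict δ) (LinearMap.exact_iff.2 (by rw [ker_rangeRestrict, Submodule.range_subtype]; exact e3.symm))
  rw [← finrank_bc_eq P p, er.length_eq, length_residue (ResidueField A ⊗[A] P.homology p)] at hlen
  have hδ : Module.length A (range δ) ≠ ⊤ := by
    intro hh; rw [hh, add_top] at hlen; exact ENat.coe_ne_top _ hlen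
  obtain ⟨l, hl⟩ := ENat.ne_top_iff_exists.1 hδ
  rw [← hl] at hlen
  norm_cast at hlen
  have h1 : fdim (P.homology p) (⊥ : PrimeSpectrum A) ≤ Module.finrank (ResidueField A) (ResidueField A ⊗[A] P.homology p) := by
    rw [fdim_field, comap_bot_residue]; exact finrank_tensor_le _ _
  refine ⟨⟨hK ▸ h1, by omega⟩, ?_⟩
  rw [hK, hlen]
  have hq : Module.Free A (P.homology q) ↔ l = 0 := by
    have : Module.Free A (P.homology q) ↔ Module.Free A (CohIII.T P q (ModuleCat.of A A)) :=
      ⟨fun _ => Module.Free.of_equiv (valueA P q).symm, fun _ => Module.Free.of_equiv (valueA P q)⟩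
    rw [this, free_iff_regular _ ht]
    constructor
    · intro h
      have : range δ = ⊥ := by
        rw [e1, eq_bot_iff]
        intro y hy
        exact h y ((hf' y).symm.trans hy)
      rw [this, Module.length_bot] at hl
      exact_mod_cast hl
    · intro h y hy
      have : y ∈ range δ := e1 ▸ (mem_ker.2 ((hf' y).trans hy))
      have hs : Subsingleton (range δ) := Module.length_eq_zero_iff.1 (by rw [← hl, h]; rfl)
      exact congrArg Subtype.val (Subsingleton.elim (⟨y, this⟩ : range δ) 0)
  have hp : Module.Free A (P.homology p) ↔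
      fdim (P.homology p) (⊥ : PrimeSpectrum A) = Module.finrank (ResidueField A) (ResidueField A ⊗[A] P.homology p) := by
    rw [fdim_field, comap_bot_residue]
    constructor
    · intro hF
      have : Module.Flat A (P.homology p) := Module.Flat.of_free
      rw [fdim_eq_rankAtStalk, fdim_eq_rankAtStalk, Module.rankAtStalk_eq_finrank_of_free]
      rfl
    · intro h
      refine free_of_fdim _ fun r hr => ?_
      have : r = ⊥ := PrimeSpectrum.ext (by
        rw [IsDomain.minimalPrimes_eq_singleton_bot] at hr
        exact hr)
      rw [this]; exact h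
  rw [hp, hq]
  constructor
  · intro h; constructor <;> omega
  · rintro ⟨a, b⟩; omega

end
end Groth.Agent.H5FCxDVRDim
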