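import Groth.Agent.Lib.H5FCxBC
import Groth.Agent.Lib.H5FCxDVRDim
import Mathlib.Algebra.Homology.DerivedCategory.Basic

universe u

namespace Groth.Agent.H5FCxCochain
open CategoryTheory Limits TensorProduct LinearMap Pretriangulated Groth.Agent.H5FCx Groth.Agent.H5FCxApps Groth.Agent.H5FCxRank Groth.Agent.H5FCxDVRDim Groth.Agent.H5DRank

noncomputable section

attribute [local instance] HasDerivedCategory.standard

variable {A : Type u} [CommRing A]

/-! ### cochain complexes, bounded above -/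

section cochain
variable (F : CochainComplex (ModuleCat.{u} A) ℤ)

lemma up_prev {r p : ℤ} (h : r + 1 = p) : (ComplexShape.up ℤ).prev p = r := (ComplexShape.up ℤ).prev_eq' h
lemma up_next {p q : ℤ} (h : p + 1 = q) : (ComplexShape.up ℤ).next p = q := (ComplexShape.up ℤ).next_eq' h

theorem range_eq_ker_of_isZero {ι : Type} {c : ComplexShape ι} (C : HomologicalComplex (ModuleCat.{u} A) c) (r p q : ι)
    (hr : c.prev p = r) (hq : c.next p = q) (h : IsZero (C.homology p)) :
    range (C.d r p).hom = ker (C.d p q).hom := by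
  refine le_antisymm (range_le_ker_iff.2 (d_d C r p q)) fun z hz => ?_
  exact (cl_zero_iff C r p q hr hq ⟨z, hz⟩).1 ((ModuleCat.subsingleton_of_isZero h).elim _ _)

theorem flat_ker (hF : ∀ i, Module.Flat A (F.X i)) (hb : ∃ b : ℤ, ∀ i, b < i → IsZero (F.X i)) (d : ℤ)
    (hac : ∀ p, d < p → IsZero (F.homology p)) : Module.Flat A (ker (F.d d (d + 1)).hom) := by
  obtain ⟨b, hb⟩ := hb
  suffices key : ∀ (n : ℕ) (i : ℤ), b < i + n → d ≤ i → Module.Flat A (ker (F.d i (i + 1)).hom) from
    key (b - d + 1).toNat d (by omega) le_rfl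
  intro n
  induction n with
  | zero =>
    intro i hi _
    have := ModuleCat.subsingleton_of_isZero (hb i (by omega))
    infer_instance
  | succ n ih =>
    intro i hi hdi
    have h1 := ih (i + 1) (by omega) (by omega)
    have he := range_eq_ker_of_isZero F i (i + 1) (i + 1 + 1) (up_prev rfl) (up_next rfl) (hac _ (by omega))
    have : Module.Flat A (range (F.d i (i + 1)).hom) := Module.Flat.of_linearEquiv (LinearEquiv.ofEq _ _ he)
    exact (flat_of_exact (ker (F.d i (i + 1)).hom).subtype (F.d i (i + 1)).hom.rangeRestrict Subtype.val_injective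
      (LinearMap.exact_iff.2 (by rw [ker_rangeRestrict, Submodule.range_subtype])) (surjective_rangeRestrict _)).2 (hF i)

theorem flat_cycles (hF : ∀ i, Module.Flat A (F.X i)) (hb : ∃ b : ℤ, ∀ i, b < i → IsZero (F.X i)) (d : ℤ)
    (hac : ∀ p, d < p → IsZero (F.homology p)) : Module.Flat A (F.cycles d) := by
  have := flat_ker F hF hb d hac
  let Z := ker (F.d d (d + 1)).hom
  let f : ModuleCat.of A Z ⟶ F.cycles d :=
    F.liftCycles (ModuleCat.ofHom Z.subtype) (d + 1) (up_next rfl) (ModuleCat.hom_ext (LinearMap.ext fun x => x.2))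
  refine Module.Flat.of_linearEquiv (M := Z) (LinearEquiv.ofBijective f.hom ⟨?_, ?_⟩).symm
  · intro a b hab
    refine Subtype.ext ?_
    have := congrArg (F.iCycles d).hom hab
    exact (iCycles_lift F d (d + 1) (up_next rfl) a).symm.trans (this.trans (iCycles_lift F d (d + 1) (up_next rfl) b))
  · intro z
    refine ⟨⟨(F.iCycles d).hom z, mem_ker.2 (DFunLike.congr_fun (congrArg ModuleCat.Hom.hom (F.iCycles_d d (d + 1))) z)⟩, ?_⟩
    exact (ModuleCat.mono_iff_injective (F.iCycles d)).1 inferInstance (iCycles_lift F d (d + 1) (up_next rfl) _)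

theorem tensor_acyclic (hF : ∀ i, Module.Flat A (F.X i)) (hb : ∃ b : ℤ, ∀ i, b < i → IsZero (F.X i))
    (hac : ∀ p, IsZero (F.homology p)) (M : ModuleCat.{u} A) (p : ℤ) : IsZero (CohIII.T F p M) := by
  have := flat_ker F hF hb (p + 1 + 1) fun q _ => hac q
  have he := range_eq_ker_of_isZero F p (p + 1) (p + 1 + 1) (up_prev rfl) (up_next rfl) (hac _)
  have h1 : Module.Flat A (Cok F p (p + 1)) := by
    have h2 := range_eq_ker_of_isZero F (p + 1) (p + 1 + 1) (p + 1 + 1 + 1) (up_prev rfl) (up_next rfl) (hac _)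
    have e : Cok F p (p + 1) ≃ₗ[A] range (F.d (p + 1) (p + 1 + 1)).hom :=
      (Submodule.quotEquivOfEq _ _ he).trans (F.d (p + 1) (p + 1 + 1)).hom.quotKerEquivRange
    exact Module.Flat.of_linearEquiv (e.trans (LinearEquiv.ofEq _ _ h2))
  have := hF (p + 1)
  have hb' := comp_bijective F (p - 1) p (p + 1) (up_prev (sub_add_cancel p 1)) (up_next rfl) M
  have : Subsingleton (Hm F (p - 1) p (p + 1)) := Submodule.Quotient.subsingleton_iff.2 (eq_top_iff.2 fun z _ => by
    exact (range_eq_ker_of_isZero F (p - 1) p (p + 1) (up_prev (sub_add_cancel p 1)) (up_next rfl) (hac p)).ge z.2)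
  have : Subsingleton (CohIII.T F p M) := hb'.2.subsingleton
  exact ModuleCat.isZero_of_subsingleton _

theorem isZero_Q_iff (K : CochainComplex (ModuleCat.{u} A) ℤ) :
    IsZero (DerivedCategory.Q.obj K) ↔ ∀ i, IsZero (K.homology i) := by
  constructor
  · intro h i
    exact (Functor.map_isZero (DerivedCategory.homologyFunctor _ i) h).of_iso
      ((DerivedCategory.homologyFunctorFactors _ i).app K).symm
  · intro h
    have : QuasiIso (0 : K ⟶ K) := ⟨fun i => by
      rw [quasiIsoAt_iff_isIso_homologyMap]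
      exact ⟨0, (h i).eq_of_src _ _, (h i).eq_of_src _ _⟩⟩
    have h0 := (DerivedCategory.isIso_Q_map_iff_quasiIso _ (0 : K ⟶ K)).2 this
    rw [Functor.map_zero] at h0
    exact IsZero.of_mono_eq_zero (0 : DerivedCategory.Q.obj K ⟶ DerivedCategory.Q.obj K) rfl

theorem quasiIso_iff_cone {K L : CochainComplex (ModuleCat.{u} A) ℤ} (φ : K ⟶ L) :
    QuasiIso φ ↔ ∀ i, IsZero ((CochainComplex.mappingCone φ).homology i) := by
  rw [← isZero_Q_iff, ← DerivedCategory.isIso_Q_map_iff_quasiIso]
  have hT : DerivedCategory.Q.mapTriangle.obj (CochainComplex.mappingCone.triangle φ) ∈ distinguishedTriangles :=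
    (DerivedCategory.mem_distTriang_iff _).2 ⟨_, _, φ, ⟨Iso.refl _⟩⟩
  exact ((Pretriangulated.Triangle.isZero₃_iff_isIso₁ _ hT)).symm

theorem quasiIso_tensorRight {C D : CochainComplex (ModuleCat.{u} A) ℤ}
    (hC : ∀ i, Module.Flat A (C.X i)) (hD : ∀ i, Module.Flat A (D.X i))
    (bC : ∃ b : ℤ, ∀ i, b < i → IsZero (C.X i)) (bD : ∃ b : ℤ, ∀ i, b < i → IsZero (D.X i))
    (φ : C ⟶ D) [QuasiIso φ] (M : ModuleCat.{u} A) :
    QuasiIso (((MonoidalCategory.tensorRight M).mapHomologicalComplex (ComplexShape.up ℤ)).map φ) := by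
  rw [quasiIso_iff_cone]
  intro i
  let Z := CochainComplex.mappingCone φ
  have hX : ∀ j, Z.X j ≅ C.X (j + 1) ⊞ D.X j := fun j => HomologicalComplex.homotopyCofiber.XIsoBiprod φ j (j + 1) rfl
  have hZ : ∀ j, Module.Flat A (Z.X j) := fun j => by
    have := hC (j + 1); have := hD j
    have : Module.Flat A (C.X (j + 1) × D.X j) :=
      (flat_of_exact (LinearMap.inl A (C.X (j + 1)) (D.X j)) (LinearMap.snd A (C.X (j + 1)) (D.X j))
        LinearMap.inl_injective Function.Exact.inl_snd LinearMap.snd_surjective).1 inferInstance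
    exact Module.Flat.of_linearEquiv (M := C.X (j + 1) × D.X j)
      ((hX j) ≪≫ ModuleCat.biprodIsoProd _ _).toLinearEquiv
  have hbZ : ∃ b : ℤ, ∀ j, b < j → IsZero (Z.X j) := by
    obtain ⟨b, hb⟩ := bC
    obtain ⟨b', hb'⟩ := bD
    refine ⟨max b b', fun j hj => IsZero.of_iso ?_ (hX j)⟩
    exact (IsZero.iff_id_eq_zero _).2 (biprod.hom_ext _ _ ((hb (j + 1) (by omega)).eq_of_tgt _ _) ((hb' j (by omega)).eq_of_tgt _ _))
  exact IsZero.of_iso (tensor_acyclic Z hZ hbZ ((quasiIso_iff_cone φ).1 inferInstance) M i)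
    ((HomologicalComplex.homologyFunctor _ _ i).mapIso
      (CochainComplex.mappingCone.mapHomologicalComplexIso φ (MonoidalCategory.tensorRight M)).symm)

end cochain

/-! ### non-Noetherian ranks -/

theorem linear_of_epi {R k : Type u} [CommRing R] [CommRing k] [Algebra R k] {V W : Type u} [AddCommGroup V] [Module R V]
    [Module k V] [IsScalarTower R k V] [AddCommGroup W] [Module R W] [Module k W] [IsScalarTower R k W]
    (h : ∀ c : k, ∃ a s : R, IsUnit (algebraMap R k s) ∧ algebraMap R k s * c = algebraMap R k a)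
    (f : V →ₗ[R] W) (c : k) (x : V) : f (c • x) = c • f x := by
  obtain ⟨a, s, hs, hsc⟩ := h c
  refine (IsUnit.smul_left_cancel hs).1 ?_
  rw [algebraMap_smul, ← map_smul, ← algebraMap_smul k s (c • x), ← mul_smul, hsc, algebraMap_smul, map_smul,
    ← mul_smul, hsc, algebraMap_smul]

theorem residueField_fraction (x : PrimeSpectrum A) (c : x.asIdeal.ResidueField) :
    ∃ a s : A, IsUnit (algebraMap A x.asIdeal.ResidueField s) ∧
      algebraMap A x.asIdeal.ResidueField s * c = algebraMap A x.asIdeal.ResidueField a := by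
  obtain ⟨y, rfl⟩ := IsLocalRing.residue_surjective c
  obtain ⟨⟨a, s⟩, e⟩ := IsLocalization.surj x.asIdeal.primeCompl y
  refine ⟨a, s, ?_, ?_⟩
  · exact IsUnit.mk0 _ fun h => s.2 (Ideal.algebraMap_residueField_eq_zero.1 h)
  · rw [IsScalarTower.algebraMap_apply A (Localization.AtPrime x.asIdeal) x.asIdeal.ResidueField,
      IsScalarTower.algebraMap_apply A (Localization.AtPrime x.asIdeal) x.asIdeal.ResidueField a, ← e, map_mul, mul_comm]
    rfl

variable (P : ChainComplex (ModuleCat.{u} A) ℤ)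

theorem dRank_eq_fdim (hP : ∀ i, Module.Flat A (P.X i)) (p : ℤ) (h : (CohIII.TFun P p).PreservesEpimorphisms)
    (x : PrimeSpectrum A) : CohIII.dRank P p x = fdim (CohIII.T P p (ModuleCat.of A A)) x := by
  let k := x.asIdeal.ResidueField
  obtain ⟨N, ⟨e⟩⟩ := exists_iso_tensorLeft P hP p h
  let H := (CohIII.bcCx (algebraMap A k) P).homology p
  letI : Module A H := Module.compHom H (algebraMap A k)
  have : IsScalarTower A k H := IsScalarTower.of_algebraMap_smul fun _ _ => rfl
  let g : H ≃ₗ[A] k ⊗[A] CohIII.T P p (ModuleCat.of A A) :=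
    (residueValue P k p).toLinearEquiv ≪≫ₗ (e.app (ModuleCat.of A k)).toLinearEquiv ≪≫ₗ
      TensorProduct.comm A N k ≪≫ₗ TensorProduct.congr (LinearEquiv.refl A k) (valueEquiv P e).symm
  let g' : H ≃ₗ[k] k ⊗[A] CohIII.T P p (ModuleCat.of A A) :=
    { g with map_smul' := fun c z => linear_of_epi (residueField_fraction x) g.toLinearMap c z }
  exact g'.finrank_eq

theorem dRank_lc (hP : ∀ i, Module.Flat A (P.X i)) (p : ℤ)
    (hex : (CohIII.TFun P p).PreservesMonomorphisms ∧ (CohIII.TFun P p).PreservesEpimorphisms)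
    (hfp : Module.FinitePresentation A (CohIII.T P p (ModuleCat.of A A))) :
    IsLocallyConstant (CohIII.dRank P p) := by
  obtain ⟨N, hN, ⟨e⟩⟩ := (exact_iff_iso P hP p).1 hex
  have : Module.Flat A (CohIII.T P p (ModuleCat.of A A)) := Module.Flat.of_linearEquiv (valueEquiv P e)
  have h : CohIII.dRank P p = Module.rankAtStalk (CohIII.T P p (ModuleCat.of A A)) :=
    funext fun x => (dRank_eq_fdim P hP p hex.2 x).trans (fdim_eq_rankAtStalk _ x)
  rw [h]
  exact Module.isLocallyConstant_rankAtStalk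

theorem exact_upTo_ranks [IsLocalRing A] (hP : ∀ i, Module.Flat A (P.X i)) (i₀ : ℤ) (hb : ∀ i < i₀, IsZero (P.X i))
    (hfp : ∀ n : ℤ, Module.FinitePresentation A (CohIII.T P n (ModuleCat.of A A))) (p : ℤ) :
    ((∀ q ≤ p, (CohIII.TFun P q).PreservesMonomorphisms ∧ (CohIII.TFun P q).PreservesEpimorphisms) →
        ∀ (x : PrimeSpectrum A), ∀ q ≤ p, CohIII.dRank P q x = CohIII.dRank P q (IsLocalRing.closedPoint A)) ∧
      (IsReduced A →
        (∀ x : PrimeSpectrum A, x.asIdeal ∈ minimalPrimes A →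
          ∀ q ≤ p, CohIII.dRank P q x = CohIII.dRank P q (IsLocalRing.closedPoint A)) →
        ∀ q ≤ p, (CohIII.TFun P q).PreservesMonomorphisms ∧ (CohIII.TFun P q).PreservesEpimorphisms) := by
  refine ⟨fun h x q hq => lc_eq (dRank_lc P hP q (h q hq) (hfp q)) (IsLocalRing.specializes_closedPoint x), fun _ h => ?_⟩
  have key : ∀ (n : ℕ) (q : ℤ), q < i₀ + n → q ≤ p → Module.Flat A (Cok P (q + 1) q) := by
    intro n
    induction n with
    | zero =>
      intro q hq _
      have := ModuleCat.subsingleton_of_isZero (hb q (by omega))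
      infer_instance
    | succ n ih =>
      intro q hq hqp
      have hc := ih (q - 1) (by omega) (by omega)
      rw [sub_add_cancel] at hc
      have he := (epi_iff P hP (sub_add_cancel q 1)).2 hc
      have := hfp q
      have hF : Module.Free A (CohIII.T P q (ModuleCat.of A A)) := free_of_fdim _ fun x hx => by
        rw [← dRank_eq_fdim P hP q he, ← dRank_eq_fdim P hP q he]
        exact h x hx q hqp
      exact (flat_value_iff P hP).1 (show Module.Flat A (CohIII.T P q (ModuleCat.of A A)) from Module.Flat.of_free)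
  intro q hq
  have h1 := key (q - i₀ + 1).toNat q (by omega) hq
  have h2 := key (q - i₀).toNat (q - 1) (by omega) (by omega)
  rw [sub_add_cancel] at h2
  exact exact_of_cok_flat P hP q h1 h2

end
end Groth.Agent.H5FCxCochain
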