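import Groth.Agent.Lib.H5FCxCochain
import Groth.Agent.Lib.H5FCxLength

universe u

namespace Groth.Agent.H5FCxGeneric
open CategoryTheory Limits TensorProduct LinearMap PrimeSpectrum Topology Groth.Agent.H5FCx Groth.Agent.H5FCxApps Groth.Agent.H5FCxRank Groth.Agent.H5FCxDVRDim Groth.Agent.H5DRank Groth.Agent.H5FCxBC Groth.Agent.H5FCxCochain Groth.Agent.H5FCxLength

noncomputable section

variable {A : Type u} [CommRing A] (P : ChainComplex (ModuleCat.{u} A) ℤ)

theorem isZero_bc {B : Type u} [CommRing B] (f : A →+* B) {i : ℤ} (h : IsZero (P.X i)) :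
    IsZero ((CohIII.bcCx f P).X i) :=
  Functor.map_isZero (ModuleCat.extendScalars f) h

/-- values of flat base change at the ring -/
def valueBC (B : Type u) [CommRing B] [Algebra A B] [Module.Flat A B] (n : ℤ) :
    CohIII.T (CohIII.bcCx (algebraMap A B) P) n (ModuleCat.of B B) ≃ₗ[B]
      B ⊗[A] CohIII.T P n (ModuleCat.of A A) :=
  valueA (CohIII.bcCx (algebraMap A B) P) n ≪≫ₗ
    (bcHomology (algebraMap A B) (RingHom.flat_algebraMap_iff.2 inferInstance) P n).toLinearEquiv ≪≫ₗ
    bcEquiv B (P.homology n) ≪≫ₗ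
    TensorProduct.AlgebraTensorModule.congr (LinearEquiv.refl B B) (valueA P n).symm

theorem flat_away (X : Type u) [AddCommGroup X] [Module A X] [Module.FinitePresentation A X] (f : A)
    (hf : (basicOpen f : Set (PrimeSpectrum A)) ⊆ Module.freeLocus A X) :
    Module.Flat (Localization.Away f) (Localization.Away f ⊗[A] X) := by
  have := Module.basicOpen_subset_freeLocus_iff.1 hf
  exact Module.Flat.of_linearEquiv (LocalizedModule.equivTensorProduct (Submonoid.powers f) X).symm

theorem isZero_value_of_isZero {i : ℤ} (h : IsZero (P.X i)) : Subsingleton (CohIII.T P i (ModuleCat.of A A)) := by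
  have := ModuleCat.subsingleton_of_isZero h
  have : Subsingleton ((P.X i : Type u) ⊗[A] A) := inferInstance
  refine subsingleton_of_forall_eq 0 fun x => ?_
  obtain ⟨z, rfl⟩ := cl_surj P (ModuleCat.of A A) i (i - 1) (nxt (sub_add_cancel i 1)) x
  rw [show z = 0 from Subtype.ext (Subsingleton.elim (α := (P.X i : Type u) ⊗[A] A) _ _), map_zero]

theorem exact_away (hP : ∀ i, Module.Flat A (P.X i)) (i₀ : ℤ) (hb : ∀ i < i₀, IsZero (P.X i))
    (hfp : ∀ n : ℤ, Module.FinitePresentation A (CohIII.T P n (ModuleCat.of A A))) (N : ℤ) (f : A)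
    (hf : ∀ n ∈ Finset.Icc i₀ N, (basicOpen f : Set (PrimeSpectrum A)) ⊆ Module.freeLocus A (CohIII.T P n (ModuleCat.of A A))) :
    ∀ p ≤ N, (CohIII.TFun (CohIII.bcCx (algebraMap A (Localization.Away f)) P) p).PreservesMonomorphisms ∧
      (CohIII.TFun (CohIII.bcCx (algebraMap A (Localization.Away f)) P) p).PreservesEpimorphisms := by
  have : Module.Flat A (Localization.Away f) := IsLocalization.flat _ (Submonoid.powers f)
  refine (exact_upTo_iff _ (fun i => by have := hP i; exact flat_bcCx P _ i) i₀ (fun i hi => isZero_bc P _ (hb i hi)) N).2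
    fun q hq => ?_
  by_cases hq0 : q < i₀
  · have := isZero_value_of_isZero P (hb q hq0)
    have : Subsingleton (CohIII.T (CohIII.bcCx (algebraMap A (Localization.Away f)) P) q (ModuleCat.of _ _)) :=
      isZero_value_of_isZero _ (isZero_bc P _ (hb q hq0))
    exact inferInstanceAs (Module.Flat _ (CohIII.T (CohIII.bcCx (algebraMap A (Localization.Away f)) P) q (ModuleCat.of _ _)))
  · have := hfp q
    have := flat_away (CohIII.T P q (ModuleCat.of A A)) f (hf q (Finset.mem_Icc.2 ⟨by omega, hq⟩))
    exact Module.Flat.of_linearEquiv (valueBC P (Localization.Away f) q)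

theorem mem_freeLocus_of_minimal [IsReduced A] (X : Type u) [AddCommGroup X] [Module A X] [Module.Finite A X]
    (x : PrimeSpectrum A) (hx : x.asIdeal ∈ minimalPrimes A) : x ∈ Module.freeLocus A X := by
  rw [Module.mem_freeLocus_iff_tensor x (Localization.AtPrime x.asIdeal)]
  refine free_of_fdim _ fun q _ => ?_
  have : q = IsLocalRing.closedPoint _ := PrimeSpectrum.localization_comap_injective _ x.asIdeal.primeCompl
    (PrimeSpectrum.ext (le_antisymm (Ideal.comap_mono (IsLocalRing.le_maximalIdeal q.2.ne_top))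
      (by
        have h1 : (IsLocalRing.maximalIdeal (Localization.AtPrime x.asIdeal)).comap (algebraMap A _) = x.asIdeal :=
          IsLocalization.AtPrime.comap_maximalIdeal (Localization.AtPrime x.asIdeal) x.asIdeal
        have h2 : (q.comap (algebraMap A (Localization.AtPrime x.asIdeal))).asIdeal ≤ x.asIdeal :=
          (show (q.comap (algebraMap A (Localization.AtPrime x.asIdeal))).asIdeal ≤
            (IsLocalRing.maximalIdeal (Localization.AtPrime x.asIdeal)).comap (algebraMap A _) from
              Ideal.comap_mono (IsLocalRing.le_maximalIdeal q.2.ne_top)).trans h1.le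
        exact h1.le.trans (hx.2 ⟨(q.comap (algebraMap A (Localization.AtPrime x.asIdeal))).2, bot_le⟩ h2))))
  rw [this]

theorem dense_of_minimal {U : Set (PrimeSpectrum A)}
    (h : ∀ x : PrimeSpectrum A, x.asIdeal ∈ minimalPrimes A → x ∈ U) : Dense U := by
  rw [dense_iff_inter_open]
  rintro V hV ⟨x, hx⟩
  obtain ⟨q, hq, hqx⟩ := Ideal.exists_minimalPrimes_le (I := (⊥ : Ideal A)) (J := x.asIdeal) bot_le
  exact ⟨⟨q, hq.1.1⟩, ((PrimeSpectrum.le_iff_specializes ⟨q, hq.1.1⟩ x).1 hqx).mem_open hV hx, h _ hq⟩

theorem exists_away_exact [IsDomain A] (hP : ∀ i, Module.Flat A (P.X i)) (i₀ : ℤ) (hb : ∀ i < i₀, IsZero (P.X i))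
    (hfp : ∀ n : ℤ, Module.FinitePresentation A (CohIII.T P n (ModuleCat.of A A))) (N : ℤ) :
    ∃ f : A, f ≠ 0 ∧ ∀ p ≤ N,
      (CohIII.TFun (CohIII.bcCx (algebraMap A (Localization.Away f)) P) p).PreservesMonomorphisms ∧
        (CohIII.TFun (CohIII.bcCx (algebraMap A (Localization.Away f)) P) p).PreservesEpimorphisms := by
  let U := ⋂ n ∈ Finset.Icc i₀ N, Module.freeLocus A (CohIII.T P n (ModuleCat.of A A))
  have hU : IsOpen U := isOpen_biInter_finset fun n _ => by have := hfp n; exact Module.isOpen_freeLocus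
  have hbot : (⊥ : PrimeSpectrum A) ∈ U := Set.mem_iInter₂.2 fun n _ => by
    have := hfp n
    exact mem_freeLocus_of_minimal _ _ (by rw [IsDomain.minimalPrimes_eq_singleton_bot]; rfl)
  obtain ⟨_, ⟨f, rfl⟩, hf, hfU⟩ :=
    PrimeSpectrum.isTopologicalBasis_basic_opens.exists_subset_of_mem_open hbot hU
  exact ⟨f, fun h => hf (by simp [h]), exact_away P hP i₀ hb hfp N f fun n hn => hfU.trans (Set.biInter_subset_of_mem hn)⟩

/-- `T_n(M)` is finite for finite `M` -/
theorem value_finite_of_finite [IsNoetherianRing A] (hP : ∀ i, Module.Flat A (P.X i)) (i₀ : ℤ)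
    (hb : ∀ i < i₀, IsZero (P.X i)) (hfg : ∀ n : ℤ, Module.Finite A (CohIII.T P n (ModuleCat.of A A)))
    (n : ℤ) (M : Type u) [AddCommGroup M] [Module A M] [Module.Finite A M] :
    Module.Finite A (CohIII.T P n (ModuleCat.of A M)) := by
  suffices key : ∀ (m : ℕ) (n : ℤ), n < i₀ + m → ∀ (M : Type u) [AddCommGroup M] [Module A M] [Module.Finite A M],
      Module.Finite A (CohIII.T P n (ModuleCat.of A M)) from key (n - i₀ + 1).toNat n (by omega) M
  intro m
  induction m with
  | zero =>
    intro n hn M _ _ _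
    have := ModuleCat.subsingleton_of_isZero (hb n (by omega))
    have : Subsingleton ((P.X n : Type u) ⊗[A] M) := inferInstance
    have : Subsingleton (CohIII.T P n (ModuleCat.of A M)) := subsingleton_of_forall_eq 0 fun x => by
      obtain ⟨z, rfl⟩ := cl_surj P (ModuleCat.of A M) n (n - 1) (nxt (sub_add_cancel n 1)) x
      rw [show z = 0 from Subtype.ext (Subsingleton.elim (α := (P.X n : Type u) ⊗[A] M) _ _), map_zero]
    infer_instance
  | succ m ih =>
    intro n hn M _ _ _
    have free : ∀ k : ℕ, Module.Finite A (CohIII.T P n (ModuleCat.of A (Fin k → A))) := by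
      intro k
      induction k with
      | zero =>
        have : Subsingleton ((P.X n : Type u) ⊗[A] (Fin 0 → A)) := inferInstance
        have : Subsingleton (CohIII.T P n (ModuleCat.of A (Fin 0 → A))) := subsingleton_of_forall_eq 0 fun x => by
          obtain ⟨z, rfl⟩ := cl_surj P (ModuleCat.of A (Fin 0 → A)) n (n - 1) (nxt (sub_add_cancel n 1)) x
          rw [show z = 0 from Subtype.ext (Subsingleton.elim (α := (P.X n : Type u) ⊗[A] (Fin 0 → A)) _ _), map_zero]
        infer_instance
      | succ k ihk =>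
        let π : (Fin (k + 1) → A) →ₗ[A] (Fin k → A) := LinearMap.funLeft A A Fin.succ
        let i : A →ₗ[A] (Fin (k + 1) → A) := LinearMap.single A (fun _ => A) 0
        have hi : Function.Injective i := Pi.single_injective (M := fun _ : Fin (k + 1) => A) 0
        have hπ : Function.Surjective π := LinearMap.funLeft_surjective_of_injective A A _ (Fin.succ_injective k)
        have hex : Function.Exact i π := by
          intro v
          constructor
          · intro hv
            refine ⟨v 0, funext fun j => ?_⟩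
            induction j using Fin.cases with
            | zero => simp [i]
            | succ j => simpa [i, π, Fin.succ_ne_zero] using (congrFun hv j).symm
          · rintro ⟨a, rfl⟩
            ext j
            simp [π, i, Fin.succ_ne_zero]
        have h := half_exact' (A := A) P hP (ModuleCat.ofHom i) (ModuleCat.ofHom π) hi hex hπ n
        have : IsNoetherian A (CohIII.T P n (ModuleCat.of A A)) := isNoetherian_of_isNoetherianRing_of_finite A _
        have : IsNoetherian A (CohIII.T P n (ModuleCat.of A (Fin k → A))) := isNoetherian_of_isNoetherianRing_of_finite A _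
        have : IsNoetherian A (CohIII.T P n (ModuleCat.of A (Fin (k + 1) → A))) :=
          isNoetherian_of_range_eq_ker
            ((HomologicalComplex.homologyMap (CohIII.tensorMap P (ModuleCat.ofHom i)) n).hom :
              CohIII.T P n (ModuleCat.of A A) →ₗ[A] CohIII.T P n (ModuleCat.of A (Fin (k + 1) → A)))
            ((HomologicalComplex.homologyMap (CohIII.tensorMap P (ModuleCat.ofHom π)) n).hom :
              CohIII.T P n (ModuleCat.of A (Fin (k + 1) → A)) →ₗ[A] CohIII.T P n (ModuleCat.of A (Fin k → A)))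
            h.linearMap_ker_eq.symm
        infer_instance
    obtain ⟨k, g, hg⟩ := Module.Finite.exists_fin' A M
    have hS := tensorShort_exact P hP (ModuleCat.ofHom (LinearMap.ker g).subtype) (ModuleCat.ofHom g) Subtype.val_injective
      (exact_subtype_ker_map g) hg
    have : Module.Finite A (LinearMap.ker g) := Module.Finite.iff_fg.2 (IsNoetherian.noetherian _)
    have := free k
    have : IsNoetherian A (CohIII.T P n (ModuleCat.of A (Fin k → A))) := isNoetherian_of_isNoetherianRing_of_finite A _
    have := ih (n - 1) (by omega) (LinearMap.ker g)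
    have : IsNoetherian A (CohIII.T P (n - 1) (ModuleCat.of A (LinearMap.ker g))) := isNoetherian_of_isNoetherianRing_of_finite A _
    let f3 : CohIII.T P n (ModuleCat.of A (Fin k → A)) →ₗ[A] CohIII.T P n (ModuleCat.of A M) :=
      (HomologicalComplex.homologyMap (CohIII.tensorMap P (ModuleCat.ofHom g)) n).hom
    let d3 : CohIII.T P n (ModuleCat.of A M) →ₗ[A] CohIII.T P (n - 1) (ModuleCat.of A (LinearMap.ker g)) :=
      (hS.δ n (n - 1) (sub_add_cancel n 1)).hom
    have : IsNoetherian A (CohIII.T P n (ModuleCat.of A M)) :=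
      isNoetherian_of_range_eq_ker f3 d3 (hS.homology_exact₃ n (n - 1) (sub_add_cancel n 1)).moduleCat_range_eq_ker
    infer_instance

theorem dense_open_ranks [IsNoetherianRing A] (hP : ∀ i, Module.Flat A (P.X i)) (i₀ : ℤ)
    (hb : ∀ i < i₀, IsZero (P.X i)) (hfg : ∀ n : ℤ, Module.Finite A (CohIII.T P n (ModuleCat.of A A))) (N : ℤ) :
    ∃ U : Set (PrimeSpectrum A), IsOpen U ∧ Dense U ∧
      ∀ p ≤ N, IsLocallyConstant (fun x : U => CohIII.dRank P p x) := by
  let A₀ := A ⧸ nilradical A
  have : IsReduced A₀ := (Ideal.isRadical_iff_quotient_reduced _).1 (Ideal.radical_isRadical _)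
  let P₀ := CohIII.bcCx (algebraMap A A₀) P
  have hP₀ : ∀ i, Module.Flat A₀ (P₀.X i) := fun i => by have := hP i; exact flat_bcCx P A₀ i
  have hb₀ : ∀ i < i₀, IsZero (P₀.X i) := fun i hi => isZero_bc P _ (hb i hi)
  have hfp₀ : ∀ n : ℤ, Module.FinitePresentation A₀ (CohIII.T P₀ n (ModuleCat.of A₀ A₀)) := fun n => by
    let H := P₀.homology n
    letI : Module A H := Module.compHom H (algebraMap A A₀)
    have : IsScalarTower A A₀ H := IsScalarTower.of_algebraMap_smul fun _ _ => rfl
    let e : H ≃ₗ[A] CohIII.T P n (ModuleCat.of A A₀) := (residueValue P A₀ n).toLinearEquiv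
    have := value_finite_of_finite P hP i₀ hb hfg n A₀
    have : Module.Finite A H := Module.Finite.equiv e.symm
    have : Module.Finite A₀ H := Module.Finite.of_restrictScalars_finite A A₀ H
    have : Module.Finite A₀ (CohIII.T P₀ n (ModuleCat.of A₀ A₀)) := Module.Finite.equiv (valueA P₀ n).symm
    exact Module.finitePresentation_of_finite A₀ _
  have hh : IsHomeomorph (comap (algebraMap A A₀)) :=
    PrimeSpectrum.isHomeomorph_comap (algebraMap A A₀)
      (fun x => ⟨1, one_pos, by rw [pow_one]; exact Ideal.Quotient.mk_surjective x⟩)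
      (by rw [Ideal.Quotient.algebraMap_eq, Ideal.mk_ker])
  let V := ⋂ n ∈ Finset.Icc i₀ N, Module.freeLocus A₀ (CohIII.T P₀ n (ModuleCat.of A₀ A₀))
  have hV : IsOpen V := isOpen_biInter_finset fun n _ => by have := hfp₀ n; exact Module.isOpen_freeLocus
  have hVd : Dense V := dense_of_minimal fun x hx => Set.mem_iInter₂.2 fun n _ => by
    have := hfp₀ n; exact mem_freeLocus_of_minimal _ x hx
  refine ⟨comap (algebraMap A A₀) '' V, hh.isOpenMap _ hV, hh.surjective.denseRange.dense_image hh.continuous hVd,
    fun p hp => (IsLocallyConstant.iff_eventually_eq _).2 ?_⟩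
  rintro ⟨_, x, hx, rfl⟩
  obtain ⟨_, ⟨f, rfl⟩, hxf, hfV⟩ := PrimeSpectrum.isTopologicalBasis_basic_opens.exists_subset_of_mem_open hx hV
  let B := Localization.Away f
  obtain ⟨y, rfl⟩ : x ∈ Set.range (comap (algebraMap A₀ B)) := by rw [localization_away_comap_range B f]; exact hxf
  have hex := exact_away P₀ hP₀ i₀ hb₀ hfp₀ N f (fun n hn => hfV.trans (Set.biInter_subset_of_mem hn)) p hp
  have : Module.Flat A₀ B := IsLocalization.flat _ (Submonoid.powers f)
  have hfpB : Module.FinitePresentation B (CohIII.T (CohIII.bcCx (algebraMap A₀ B) P₀) p (ModuleCat.of B B)) := by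
    have := hfp₀ p
    exact Module.FinitePresentation.of_equiv (valueBC P₀ B p).symm
  have hlc := (dRank_lc _ (fun i => by have := hP₀ i; exact flat_bcCx P₀ B i) p hex hfpB).eventually_eq y
  have hoe : IsOpenEmbedding (comap (algebraMap A A₀) ∘ comap (algebraMap A₀ B)) :=
    hh.isOpenEmbedding.comp (localization_away_isOpenEmbedding B f)
  have h2 : ∀ᶠ z in 𝓝 (comap (algebraMap A A₀) (comap (algebraMap A₀ B) y)),
      CohIII.dRank P p z = CohIII.dRank P p (comap (algebraMap A A₀) (comap (algebraMap A₀ B) y)) := by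
    change ∀ᶠ z in 𝓝 ((comap (algebraMap A A₀) ∘ comap (algebraMap A₀ B)) y), _
    rw [← hoe.map_nhds_eq y, Filter.eventually_map]
    filter_upwards [hlc] with z hz
    exact (dRank_baseChange P p _).symm.trans ((dRank_baseChange P₀ p z).symm.trans
      (hz.trans ((dRank_baseChange P₀ p y).trans (dRank_baseChange P p _))))
  exact (continuous_subtype_val.tendsto (⟨comap (algebraMap A A₀) (comap (algebraMap A₀ B) y),
    comap (algebraMap A₀ B) y, hx, rfl⟩ : ↥(comap (algebraMap A A₀) '' V))).eventually h2

end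
end Groth.Agent.H5FCxGeneric
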