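import Groth.Agent.Lib.H5FCxApps

universe u

namespace Groth.Agent.H5FCxRank
open CategoryTheory Limits TensorProduct LinearMap Groth.Agent.H5FCx Groth.Agent.H5FCxApps Groth.Agent.H5DRank Topology

noncomputable section

variable {A : Type u} [CommRing A]

/-- fibre dimension -/
def fdim (X : Type u) [AddCommGroup X] [Module A X] (x : PrimeSpectrum A) : ℕ :=
  Module.finrank x.asIdeal.ResidueField (x.asIdeal.ResidueField ⊗[A] X)

theorem fdim_eq_rankAtStalk (X : Type u) [AddCommGroup X] [Module A X] [Module.Finite A X] [Module.Flat A X]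
    (x : PrimeSpectrum A) : fdim X x = Module.rankAtStalk X x :=
  (Module.rankAtStalk_eq (M := X) x).symm

theorem fdim_congr {X Y : Type u} [AddCommGroup X] [Module A X] [AddCommGroup Y] [Module A Y] (e : X ≃ₗ[A] Y)
    (x : PrimeSpectrum A) : fdim X x = fdim Y x :=
  (TensorProduct.AlgebraTensorModule.congr (LinearEquiv.refl x.asIdeal.ResidueField x.asIdeal.ResidueField) e).finrank_eq

theorem fdim_baseChange {B : Type u} [CommRing B] [Algebra A B] (X : Type u) [AddCommGroup X] [Module A X]
    (x' : PrimeSpectrum B) : fdim (B ⊗[A] X) x' = fdim X (x'.comap (algebraMap A B)) := by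
  let q := (x'.comap (algebraMap A B)).asIdeal
  letI : Algebra q.ResidueField x'.asIdeal.ResidueField :=
    (Ideal.ResidueField.map q x'.asIdeal (algebraMap A B) rfl).toAlgebra
  have : IsScalarTower A q.ResidueField x'.asIdeal.ResidueField := IsScalarTower.of_algebraMap_eq fun a => by
    change algebraMap A x'.asIdeal.ResidueField a = Ideal.ResidueField.map q x'.asIdeal (algebraMap A B) rfl _
    exact (IsScalarTower.algebraMap_apply A B x'.asIdeal.ResidueField a).trans
      (Ideal.ResidueField.map_algebraMap q x'.asIdeal (algebraMap A B) rfl a).symm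
  have e1 := TensorProduct.AlgebraTensorModule.cancelBaseChange A B x'.asIdeal.ResidueField x'.asIdeal.ResidueField X
  have e2 := TensorProduct.AlgebraTensorModule.cancelBaseChange A q.ResidueField x'.asIdeal.ResidueField
    x'.asIdeal.ResidueField X
  exact (e1.finrank_eq.trans e2.finrank_eq.symm).trans Module.finrank_baseChange

theorem closedPoint_surjective [IsLocalRing A] :
    Function.Surjective (algebraMap A (IsLocalRing.closedPoint A).asIdeal.ResidueField) := by
  have : (IsLocalRing.closedPoint A).asIdeal.IsMaximal := IsLocalRing.maximalIdeal.isMaximal A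
  exact Ideal.algebraMap_residueField_surjective _

/-- a finite module over a reduced local ring with constant fibre dimension is free -/
theorem free_of_fdim [IsLocalRing A] [IsReduced A] (X : Type u) [AddCommGroup X] [Module A X] [Module.Finite A X]
    (h : ∀ q : PrimeSpectrum A, q.asIdeal ∈ minimalPrimes A → fdim X q = fdim X (IsLocalRing.closedPoint A)) :
    Module.Free A X := by
  classical
  obtain ⟨σ, φ, hφ⟩ := exists_lift_basis (IsLocalRing.closedPoint A).asIdeal.ResidueField closedPoint_surjective X
  let k := (IsLocalRing.closedPoint A).asIdeal.ResidueField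
  have hsurj : Function.Surjective φ := by
    have := subsingleton_coker_tensor k φ hφ.2
    have : (IsLocalRing.closedPoint A).asIdeal.IsMaximal := IsLocalRing.maximalIdeal.isMaximal A
    let e : (A ⧸ (IsLocalRing.closedPoint A).asIdeal) ≃ₗ[A] k :=
      LinearEquiv.ofBijective (Algebra.linearMap (A ⧸ (IsLocalRing.closedPoint A).asIdeal) k |>.restrictScalars A)
        (Ideal.bijective_algebraMap_quotient_residueField (IsLocalRing.closedPoint A).asIdeal)
    have : Subsingleton (IsLocalRing.ResidueField A ⊗[A] (X ⧸ range φ)) :=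
      (LinearEquiv.rTensor (X ⧸ range φ) e).toEquiv.subsingleton
    exact range_eq_top.1 (Submodule.Quotient.subsingleton_iff.1 (IsLocalRing.subsingleton_tensorProduct.1 this))
  let eb : k ⊗[A] (σ →₀ A) ≃ₗ[k] k ⊗[A] X :=
    LinearEquiv.ofBijective (φ.baseChange k) hφ
  have hfin : Finite σ := by
    have : Module.Finite k (k ⊗[A] (σ →₀ A)) := Module.Finite.equiv eb.symm
    exact Module.Finite.finite_basis (Finsupp.basisSingleOne.baseChange k (R := A) (ι := σ))
  have hn : ∀ q : PrimeSpectrum A, fdim (σ →₀ A) q = Module.finrank A (σ →₀ A) := fun q =>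
    Module.finrank_baseChange
  have hinj : Function.Injective φ := by
    rw [← ker_eq_bot, eq_bot_iff]
    intro v hv
    refine Finsupp.ext fun i => ?_
    refine eq_zero_of_forall_minimal v i fun q hq => ?_
    let K := q.asIdeal.ResidueField
    have hs : Function.Surjective (φ.baseChange K) := LinearMap.lTensor_surjective K hsurj
    have hdim : Module.finrank K (K ⊗[A] (σ →₀ A)) = Module.finrank K (K ⊗[A] X) := by
      refine (hn q).trans ?_
      rw [← hn (IsLocalRing.closedPoint A)]
      exact eb.finrank_eq.trans (h q hq).symm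
    have hi : Function.Injective (φ.baseChange K) :=
      (LinearMap.injective_iff_surjective_of_finrank_eq_finrank hdim).2 hs
    have hz : (1 : K) ⊗ₜ[A] v = 0 := hi (by rw [LinearMap.baseChange_tmul, mem_ker.1 hv, TensorProduct.tmul_zero, map_zero])
    have := congrArg (fun z => TensorProduct.AlgebraTensorModule.rid A K K ((Finsupp.lapply i : (σ →₀ A) →ₗ[A] A).baseChange K z)) hz
    rw [← Ideal.algebraMap_residueField_eq_zero, Algebra.algebraMap_eq_smul_one]
    simpa using this
  exact Module.Free.of_equiv (LinearEquiv.ofBijective φ ⟨hinj, hsurj⟩)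
where
  eq_zero_of_forall_minimal {σ : Type u} [IsReduced A] (v : σ →₀ A) (i : σ)
      (h : ∀ q : PrimeSpectrum A, q.asIdeal ∈ minimalPrimes A → v i ∈ q.asIdeal) : v i = 0 := by
    have : v i ∈ nilradical A := by
      rw [nilradical, ← Ideal.sInf_minimalPrimes, Submodule.mem_sInf]
      intro I hI
      exact h ⟨I, hI.1.1⟩ hI
    rwa [nilradical_eq_zero, Ideal.zero_eq_bot, Ideal.mem_bot] at this

theorem lc_eq {X Y : Type*} [TopologicalSpace X] {f : X → Y} (h : IsLocallyConstant f) {a b : X} (hab : a ⤳ b) :
    f a = f b :=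
  hab.mem_open (h.isOpen_fiber (f b)) rfl

/-- a finite module over a reduced Noetherian ring with locally constant fibre dimension is projective -/
theorem projective_of_fdim [IsNoetherianRing A] [IsReduced A] (X : Type u) [AddCommGroup X] [Module A X]
    [Module.Finite A X] (h : IsLocallyConstant (fdim (A := A) X)) : Module.Projective A X := by
  have := Module.finitePresentation_of_finite A X
  rw [← Module.freeLocus_eq_univ_iff, Set.eq_univ_iff_forall]
  intro y
  rw [Module.mem_freeLocus_iff_tensor y (Localization.AtPrime y.asIdeal)]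
  refine free_of_fdim _ fun q _ => ?_
  rw [fdim_baseChange, fdim_baseChange]
  exact lc_eq h
    ((IsLocalRing.specializes_closedPoint q).map (PrimeSpectrum.continuous_comap _))

/-! ### the rank formula -/

theorem fdim_cok {M N : Type u} [AddCommGroup M] [Module A M] [AddCommGroup N] [Module A N] [Module.Finite A N]
    [Module.Flat A N] (f : M →ₗ[A] N) (x : PrimeSpectrum A) :
    fdim (N ⧸ range f) x + fRk f x = Module.rankAtStalk N x := by
  let k := x.asIdeal.ResidueField
  let g := (range f).mkQ.baseChange k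
  have hg : Function.Surjective g := LinearMap.lTensor_surjective k (Submodule.mkQ_surjective _)
  have hker : ker g = range (f.baseChange k) := by
    ext z
    exact lTensor_exact k (exact_map_mkQ_range f) (Submodule.mkQ_surjective _) z
  have := g.finrank_range_add_finrank_ker
  rw [range_eq_top.2 hg, finrank_top, hker] at this
  rw [Module.rankAtStalk_eq (M := N) x]
  exact this

variable (P : ChainComplex (ModuleCat.{u} A) ℤ)

theorem dRank_formula (hP : ∀ i, Module.Finite A (P.X i)) (hP' : ∀ i, Module.Flat A (P.X i)) (p : ℤ)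
    (x : PrimeSpectrum A) :
    CohIII.dRank P p x + Module.rankAtStalk (P.X (p - 1)) x =
      fdim (Cok P (p + 1) p) x + fdim (Cok P p (p - 1)) x := by
  have := hP p; have := hP' p; have := hP (p - 1); have := hP' (p - 1)
  have h1 := fdim_cok (P.d (p + 1) p).hom x
  have h2 := fdim_cok (P.d p (p - 1)).hom x
  have h3 := dRank_add P hP hP' p x
  change CohIII.dRank P p x + _ = fdim (P.X p ⧸ range (P.d (p + 1) p).hom) x + fdim (P.X (p - 1) ⧸ range (P.d p (p - 1)).hom) x
  omega

theorem cok_flat_of_exact (hP : ∀ i, Module.Flat A (P.X i)) (p : ℤ)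
    (h : (CohIII.TFun P p).PreservesMonomorphisms ∧ (CohIII.TFun P p).PreservesEpimorphisms) :
    Module.Flat A (Cok P (p + 1) p) ∧ Module.Flat A (Cok P p (p - 1)) :=
  ⟨(mono_iff P hP rfl).1 h.1, (epi_iff P hP (sub_add_cancel p 1)).1 h.2⟩

theorem exact_of_cok_flat (hP : ∀ i, Module.Flat A (P.X i)) (p : ℤ)
    (h1 : Module.Flat A (Cok P (p + 1) p)) (h2 : Module.Flat A (Cok P p (p - 1))) :
    (CohIII.TFun P p).PreservesMonomorphisms ∧ (CohIII.TFun P p).PreservesEpimorphisms :=
  ⟨(mono_iff P hP rfl).2 h1, (epi_iff P hP (sub_add_cancel p 1)).2 h2⟩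

theorem dRank_locallyConstant [IsNoetherianRing A] (hP : ∀ i, Module.Finite A (P.X i) ∧ Module.Flat A (P.X i)) (p : ℤ)
    (h : (CohIII.TFun P p).PreservesMonomorphisms ∧ (CohIII.TFun P p).PreservesEpimorphisms) :
    IsLocallyConstant (CohIII.dRank P p) := by
  obtain ⟨h1, h2⟩ := cok_flat_of_exact P (fun i => (hP i).2) p h
  have := (hP p).1; have := (hP (p - 1)).1
  have := (hP (p - 1)).2
  have hlc : ∀ (M : Type u) [AddCommGroup M] [Module A M] [Module.Finite A M] [Module.Flat A M],
      IsLocallyConstant (Module.rankAtStalk (R := A) M) := fun M _ _ _ _ => by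
    have := Module.finitePresentation_of_finite A M
    exact Module.isLocallyConstant_rankAtStalk
  refine IsLocallyConstant.iff_eventually_eq _ |>.2 fun x => ?_
  filter_upwards [(hlc (Cok P (p + 1) p)).eventually_eq x, (hlc (Cok P p (p - 1))).eventually_eq x,
    (hlc (P.X (p - 1))).eventually_eq x] with y a b c
  have l1 := dRank_formula P (fun i => (hP i).1) (fun i => (hP i).2) p x
  have l2 := dRank_formula P (fun i => (hP i).1) (fun i => (hP i).2) p y
  rw [fdim_eq_rankAtStalk, fdim_eq_rankAtStalk] at l1 l2
  omega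

theorem exact_of_locallyConstant [IsNoetherianRing A] [IsReduced A]
    (hP : ∀ i, Module.Finite A (P.X i) ∧ Module.Flat A (P.X i)) (p : ℤ)
    (h : IsLocallyConstant (CohIII.dRank P p)) :
    (CohIII.TFun P p).PreservesMonomorphisms ∧ (CohIII.TFun P p).PreservesEpimorphisms := by
  have hp := proj_of_flat P hP
  have := (hP p).1; have := (hP (p - 1)).1
  have := (hP p).2; have := (hP (p - 1)).2
  have key : ∀ x : PrimeSpectrum A, ∀ᶠ y in 𝓝 x,
      fdim (Cok P (p + 1) p) y = fdim (Cok P (p + 1) p) x ∧
        fdim (Cok P p (p - 1)) y = fdim (Cok P p (p - 1)) x := fun x => by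
    filter_upwards [h.eventually_eq x, rr_lsc P hp (p + 1) x, rr_lsc P hp p x, rk_eventually P hp p x,
      rk_eventually P hp (p - 1) x] with y a b c d e
    have l1 := fdim_cok (P.d (p + 1) p).hom x
    have l2 := fdim_cok (P.d (p + 1) p).hom y
    have m1 := fdim_cok (P.d p (p - 1)).hom x
    have m2 := fdim_cok (P.d p (p - 1)).hom y
    have n1 := dRank_formula P (fun i => (hP i).1) (fun i => (hP i).2) p x
    have n2 := dRank_formula P (fun i => (hP i).1) (fun i => (hP i).2) p y
    rw [← rr_eq P (show p + 1 - 1 = p by simp) x, ← rr_eq P (show p + 1 - 1 = p by simp) y] at b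
    simp only [rr] at c
    constructor
    · change fdim (P.X p ⧸ range (P.d (p + 1) p).hom) y = fdim (P.X p ⧸ range (P.d (p + 1) p).hom) x
      change CohIII.dRank P p x + _ = fdim (P.X p ⧸ range (P.d (p + 1) p).hom) x + fdim (P.X (p - 1) ⧸ range (P.d p (p - 1)).hom) x at n1
      change CohIII.dRank P p y + _ = fdim (P.X p ⧸ range (P.d (p + 1) p).hom) y + fdim (P.X (p - 1) ⧸ range (P.d p (p - 1)).hom) y at n2
      omega
    · change fdim (P.X (p - 1) ⧸ range (P.d p (p - 1)).hom) y = fdim (P.X (p - 1) ⧸ range (P.d p (p - 1)).hom) x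
      change CohIII.dRank P p x + _ = fdim (P.X p ⧸ range (P.d (p + 1) p).hom) x + fdim (P.X (p - 1) ⧸ range (P.d p (p - 1)).hom) x at n1
      change CohIII.dRank P p y + _ = fdim (P.X p ⧸ range (P.d (p + 1) p).hom) y + fdim (P.X (p - 1) ⧸ range (P.d p (p - 1)).hom) y at n2
      omega
  have p1 := projective_of_fdim (Cok P (p + 1) p) (IsLocallyConstant.iff_eventually_eq _ |>.2 fun x => (key x).mono fun _ h => h.1)
  have p2 := projective_of_fdim (Cok P p (p - 1)) (IsLocallyConstant.iff_eventually_eq _ |>.2 fun x => (key x).mono fun _ h => h.2)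
  exact exact_of_cok_flat P (fun i => (hP i).2) p inferInstance inferInstance

theorem exact_iff_minimal [IsNoetherianRing A] [IsLocalRing A] [IsReduced A]
    (hP : ∀ i, Module.Finite A (P.X i) ∧ Module.Flat A (P.X i)) (p : ℤ) :
    ((CohIII.TFun P p).PreservesMonomorphisms ∧ (CohIII.TFun P p).PreservesEpimorphisms) ↔
      ∀ q : PrimeSpectrum A, q.asIdeal ∈ minimalPrimes A →
        CohIII.dRank P p q = CohIII.dRank P p (IsLocalRing.closedPoint A) := by
  have hp := proj_of_flat P hP
  refine ⟨fun h q _ => lc_eq (dRank_locallyConstant P hP p h) (IsLocalRing.specializes_closedPoint q), fun h => ?_⟩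
  have := (hP p).1; have := (hP (p - 1)).1
  have := (hP p).2; have := (hP (p - 1)).2
  have key : ∀ q : PrimeSpectrum A, q.asIdeal ∈ minimalPrimes A →
      fdim (P.X p ⧸ range (P.d (p + 1) p).hom) q = fdim (P.X p ⧸ range (P.d (p + 1) p).hom) (IsLocalRing.closedPoint A) ∧
      fdim (P.X (p - 1) ⧸ range (P.d p (p - 1)).hom) q =
        fdim (P.X (p - 1) ⧸ range (P.d p (p - 1)).hom) (IsLocalRing.closedPoint A) := fun q hq => by
    have sp := IsLocalRing.specializes_closedPoint q
    have b' : fRk (P.d (p + 1) p).hom (IsLocalRing.closedPoint A) ≤ fRk (P.d (p + 1) p).hom q := by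
      have := (hp p).2
      exact ((fRk_lsc (P.d (p + 1) p).hom (IsLocalRing.closedPoint A)).filter_mono sp).self_of_nhds (x := q)
    have c' : fRk (P.d p (p - 1)).hom (IsLocalRing.closedPoint A) ≤ fRk (P.d p (p - 1)).hom q := by
      have := (hp (p - 1)).2
      exact ((fRk_lsc (P.d p (p - 1)).hom (IsLocalRing.closedPoint A)).filter_mono sp).self_of_nhds (x := q)
    have d := ((rk_eventually P hp p (IsLocalRing.closedPoint A)).filter_mono sp).self_of_nhds
    have e := ((rk_eventually P hp (p - 1) (IsLocalRing.closedPoint A)).filter_mono sp).self_of_nhds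
    have l1 := fdim_cok (P.d (p + 1) p).hom q
    have l2 := fdim_cok (P.d (p + 1) p).hom (IsLocalRing.closedPoint A)
    have m1 := fdim_cok (P.d p (p - 1)).hom q
    have m2 := fdim_cok (P.d p (p - 1)).hom (IsLocalRing.closedPoint A)
    have n1 : CohIII.dRank P p q + Module.rankAtStalk (P.X (p - 1)) q =
        fdim (P.X p ⧸ range (P.d (p + 1) p).hom) q + fdim (P.X (p - 1) ⧸ range (P.d p (p - 1)).hom) q :=
      dRank_formula P (fun i => (hP i).1) (fun i => (hP i).2) p q
    have n2 : CohIII.dRank P p (IsLocalRing.closedPoint A) + Module.rankAtStalk (P.X (p - 1)) (IsLocalRing.closedPoint A) =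
        fdim (P.X p ⧸ range (P.d (p + 1) p).hom) (IsLocalRing.closedPoint A) +
          fdim (P.X (p - 1) ⧸ range (P.d p (p - 1)).hom) (IsLocalRing.closedPoint A) :=
      dRank_formula P (fun i => (hP i).1) (fun i => (hP i).2) p _
    have hh := h q hq
    constructor <;> omega
  have f1 := free_of_fdim (Cok P (p + 1) p) fun q hq => (key q hq).1
  have f2 := free_of_fdim (Cok P p (p - 1)) fun q hq => (key q hq).2
  exact exact_of_cok_flat P (fun i => (hP i).2) p inferInstance inferInstance

/-! ### openness -/

theorem flat_cok_atPrime_iff [IsNoetherianRing A] (r p : ℤ) [Module.Finite A (Cok P r p)] (y : PrimeSpectrum A) :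
    Module.Flat (Localization.AtPrime y.asIdeal)
        (Cok (CohIII.bcCx (algebraMap A (Localization.AtPrime y.asIdeal)) P) r p) ↔
      y ∈ Module.freeLocus A (Cok P r p) := by
  rw [Module.mem_freeLocus_iff_tensor y (Localization.AtPrime y.asIdeal),
    Module.Flat.equiv_iff (cokBC P (Localization.AtPrime y.asIdeal) r p)]
  exact ⟨fun _ => Module.free_of_flat_of_isLocalRing, fun _ => inferInstance⟩

theorem isOpen_epi [IsNoetherianRing A] (hP : ∀ i, Module.Finite A (P.X i) ∧ Module.Flat A (P.X i)) (p : ℤ) :
    IsOpen {y : PrimeSpectrum A |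
      (CohIII.TFun (CohIII.bcCx (algebraMap A (Localization.AtPrime y.asIdeal)) P) p).PreservesEpimorphisms} := by
  have := (hP (p - 1)).1
  have := Module.finitePresentation_of_finite A (Cok P p (p - 1))
  convert Module.isOpen_freeLocus (R := A) (M := Cok P p (p - 1)) using 1
  ext y
  rw [Set.mem_setOf_eq, epi_iff _ (fun i => by have := (hP i).2; exact flat_bcCx P _ i) (sub_add_cancel p 1)]
  exact flat_cok_atPrime_iff P p (p - 1) y

theorem isOpen_mono [IsNoetherianRing A] (hP : ∀ i, Module.Finite A (P.X i) ∧ Module.Flat A (P.X i)) (p : ℤ) :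
    IsOpen {y : PrimeSpectrum A |
      (CohIII.TFun (CohIII.bcCx (algebraMap A (Localization.AtPrime y.asIdeal)) P) p).PreservesMonomorphisms} := by
  have := (hP p).1
  have := Module.finitePresentation_of_finite A (Cok P (p + 1) p)
  convert Module.isOpen_freeLocus (R := A) (M := Cok P (p + 1) p) using 1
  ext y
  rw [Set.mem_setOf_eq, mono_iff _ (fun i => by have := (hP i).2; exact flat_bcCx P _ i) rfl]
  exact flat_cok_atPrime_iff P (p + 1) p y

theorem isOpen_nonempty_exact [IsNoetherianRing A] [IsDomain A]
    (hP : ∀ i, Module.Finite A (P.X i) ∧ Module.Flat A (P.X i)) (p : ℤ) :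
    IsOpen {y : PrimeSpectrum A |
        (CohIII.TFun (CohIII.bcCx (algebraMap A (Localization.AtPrime y.asIdeal)) P) p).PreservesMonomorphisms ∧
          (CohIII.TFun (CohIII.bcCx (algebraMap A (Localization.AtPrime y.asIdeal)) P) p).PreservesEpimorphisms} ∧
      {y : PrimeSpectrum A |
        (CohIII.TFun (CohIII.bcCx (algebraMap A (Localization.AtPrime y.asIdeal)) P) p).PreservesMonomorphisms ∧
          (CohIII.TFun (CohIII.bcCx (algebraMap A (Localization.AtPrime y.asIdeal)) P) p).PreservesEpimorphisms}.Nonempty := by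
  refine ⟨(isOpen_mono P hP p).inter (isOpen_epi P hP p), ⟨⊥, Ideal.isPrime_bot⟩, ?_⟩
  let K := Localization.AtPrime (⊥ : Ideal A)
  have : IsField K := by
    rw [IsLocalRing.isField_iff_maximalIdeal_eq, ← Localization.AtPrime.map_eq_maximalIdeal, Ideal.map_bot]
  letI := this.toField
  have hfree : ∀ (M : Type u) [AddCommGroup M] [Module K M], Module.Flat K M := fun M _ _ => inferInstance
  exact exact_of_cok_flat _ (fun i => hfree _) p (hfree _) (hfree _)

end
end Groth.Agent.H5FCxRank
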