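import Groth.Agent.Lib.H5FibMor
set_option backward.isDefEq.respectTransparency false
set_option backward.defeqAttrib.useBackward true
universe u
namespace Groth.Agent.H5FibCoprod
open CategoryTheory CategoryTheory.Limits Opposite Pseudofunctor.CoGrothendieck FibSite
open Groth.Agent.H5FibTot (hmk comp_ι ι_comp hmk_inj)

variable {𝒮 : Type u} [SmallCategory 𝒮] {F : Pseudofunctor (LocallyDiscrete 𝒮ᵒᵖ) Cat.{u, u}}
  {J : Topologies F} (i j : 𝒮)

/-- all inverse images at once -/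
def allInv : Discrete (j ⟶ i) × F.obj ⟨op i⟩ ⥤ F.obj ⟨op j⟩ :=
  Functor.uncurry.obj (Discrete.functor fun f : j ⟶ i => invImage F f)

lemma allInv_map (f : j ⟶ i) {U V : F.obj ⟨op i⟩} (r : U ⟶ V) :
    (allInv (F := F) i j).map (X := (⟨f⟩, U)) (Y := (⟨f⟩, V)) (𝟙 _, r) = (invImage F f).map r := by
  simp [allInv]

/-- square -/
def sqA : TwoSquare (allInv (F := F) i j) (CategoryTheory.Prod.snd _ _) (ι F j) (ι F i) where
  app x := hmk x.1.as (𝟙 _)
  naturality := by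
    rintro ⟨⟨f⟩, U⟩ ⟨⟨f'⟩, V⟩ ⟨d, r⟩
    obtain rfl : f = f' := Discrete.eq_of_hom d
    obtain rfl : d = 𝟙 _ := Subsingleton.elim _ _
    show (ι F j).map _ ≫ hmk f (𝟙 _) = hmk f (𝟙 _) ≫ (ι F i).map r
    erw [ι_comp, comp_ι]
    rw [allInv_map]
    congr 1
    exact (Category.comp_id _).trans (Category.id_comp _).symm

instance exact_sqA : (sqA (F := F) i j).GuitartExact := by
  rw [TwoSquare.guitartExact_iff_isConnected_downwards]
  rintro V U ⟨f, a⟩
  have key : ∀ (f' : j ⟶ i) (X₁ : F.obj ⟨op i⟩) (a' : V ⟶ (invImage F f').obj X₁) (b : X₁ ⟶ U),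
      (ι F j).map a' ≫ (sqA i j).app (⟨f'⟩, X₁) ≫ (ι F i).map b =
        hmk f' (a' ≫ (invImage F f').map b) := by
    intro f' X₁ a' b
    show (ι F j).map a' ≫ hmk f' (𝟙 _) ≫ (ι F i).map b = _
    erw [comp_ι, ι_comp, Category.id_comp]
  let X₀ : (sqA i j).CostructuredArrowDownwards (X₂ := V) (X₃ := U) ⟨f, a⟩ :=
    TwoSquare.CostructuredArrowDownwards.mk _ _ (⟨f⟩, U) a (𝟙 U) (by
      erw [key]; show hmk f _ = hmk f a; congr 1; erw [CategoryTheory.Functor.map_id, Category.comp_id])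
  refine isConnected_of_isTerminal _ (x := X₀) (IsTerminal.ofUniqueHom (fun Y => ?_) ?_)
  · refine Classical.choice ?_
    obtain ⟨⟨⟨f'⟩, X₁⟩, a', b, comm, rfl⟩ := TwoSquare.CostructuredArrowDownwards.mk_surjective Y
    have e0 : hmk f' (a' ≫ (invImage F f').map b) = (⟨f, a⟩ : (ι F j).obj V ⟶ (ι F i).obj U) :=
      (key f' X₁ a' b).symm.trans comm
    obtain rfl : f' = f := congrArg (fun φ => φ.base) e0
    refine ⟨CostructuredArrow.homMk (StructuredArrow.homMk (show ((⟨f'⟩, X₁) : Discrete (j ⟶ i) × F.obj ⟨op i⟩) ⟶ (⟨f'⟩, U) from (𝟙 _, b)) ?_) ?_⟩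
    · show a' ≫ (allInv i j).map (X := (⟨f'⟩, X₁)) (Y := (⟨f'⟩, U)) (𝟙 _, b) = a
      rw [allInv_map]
      exact hmk_inj e0
    · exact StructuredArrow.ext _ _ (Category.comp_id b)
  · intro Y m
    obtain ⟨⟨⟨f'⟩, X₁⟩, a', b, comm, rfl⟩ := TwoSquare.CostructuredArrowDownwards.mk_surjective Y
    have hm : ∀ m₁ m₂ : TwoSquare.CostructuredArrowDownwards.mk (sqA i j) _ (⟨f'⟩, X₁) a' b comm ⟶ X₀,
        m₁ = m₂ := by
      intro m₁ m₂
      refine CostructuredArrow.hom_ext _ _ (StructuredArrow.ext _ _ ?_)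
      have e₁ : m₁.left.right.2 ≫ 𝟙 U = b := congrArg (fun φ => φ.right) (CostructuredArrow.w m₁)
      have e₂ : m₂.left.right.2 ≫ 𝟙 U = b := congrArg (fun φ => φ.right) (CostructuredArrow.w m₂)
      refine Prod.ext (Subsingleton.elim _ _) ?_
      exact ((Category.comp_id _).symm.trans (e₁.trans e₂.symm)).trans (Category.comp_id _)
    exact hm _ _

variable {i j}

/-- component at f -/
def comp (f : j ⟶ i) {a : (F.obj ⟨op i⟩)ᵒᵖ ⥤ Type u} {Z : (F.obj ⟨op j⟩)ᵒᵖ ⥤ Type u}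
    (φ : (CategoryTheory.Prod.snd (Discrete (j ⟶ i)) _).op ⋙ a ⟶ (allInv i j).op ⋙ Z) :
    a ⟶ (invImage F f).op ⋙ Z where
  app U := φ.app (op (⟨f⟩, U.unop))
  naturality U V r := by
    have h := φ.naturality (Quiver.Hom.op (show ((⟨f⟩, V.unop) : Discrete (j ⟶ i) × F.obj ⟨op i⟩) ⟶ (⟨f⟩, U.unop) from (𝟙 _, r.unop)))
    refine h.trans ?_
    show _ ≫ Z.map ((allInv i j).map (X := (⟨f⟩, V.unop)) (Y := (⟨f⟩, U.unop)) (𝟙 _, r.unop)).op =
      _ ≫ Z.map ((invImage F f).map r.unop).op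
    rw [allInv_map]

/-- glue -/
def glue {a : (F.obj ⟨op i⟩)ᵒᵖ ⥤ Type u} {Z : (F.obj ⟨op j⟩)ᵒᵖ ⥤ Type u}
    (ψ : ∀ f : j ⟶ i, a ⟶ (invImage F f).op ⋙ Z) :
    (CategoryTheory.Prod.snd (Discrete (j ⟶ i)) _).op ⋙ a ⟶ (allInv i j).op ⋙ Z where
  app x := (ψ x.unop.1.as).app (op x.unop.2)
  naturality := by
    rintro ⟨⟨f⟩, U⟩ ⟨⟨f'⟩, V⟩ ⟨d, r⟩
    obtain rfl : f' = f := Discrete.eq_of_hom d
    obtain rfl : d = 𝟙 _ := Subsingleton.elim _ _
    refine ((ψ f').naturality r.op).trans ?_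
    show _ ≫ Z.map ((invImage F f').map r).op =
      _ ≫ Z.map ((allInv i j).map (X := (⟨f'⟩, V)) (Y := (⟨f'⟩, U)) (𝟙 _, r)).op
    rw [allInv_map]

theorem result (hF : IsPreFibSite F J)
    [∀ S : 𝒮, (ι F S).IsContinuous (J S) (totalTopology F J)]
    [((ι F i).sheafPushforwardContinuous (Type u) (J i) (totalTopology F J)).IsRightAdjoint]
    [∀ (R S : 𝒮) (f : R ⟶ S), (invImage F f).IsContinuous (J S) (J R)]
    [∀ (R S : 𝒮) (f : R ⟶ S),
      ((invImage F f).sheafPushforwardContinuous (Type u) (J S) (J R)).IsRightAdjoint]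
    (a : Sheaf (J i) (Type u)) :
    ∃ c : Cofan fun f : j ⟶ i => ((invImage F f).sheafPullback (Type u) (J i) (J j)).obj a,
      Nonempty (IsColimit c) ∧
        Nonempty (c.pt ≅ (restr F J (Type u) j).obj ((extend F J (Type u) i).obj a)) := by
  letI : SmallCategory (∫ᶜ F) := Pseudofunctor.CoGrothendieck.category
  have := Groth.Agent.H5FibTot.isCocontinuous_ι hF j
  let P := CategoryTheory.Prod.snd (Discrete (j ⟶ i)) (F.obj ⟨op i⟩)
  let A := ((allInv (F := F) i j).op.lanAdjunction (Type u)).comp (sheafificationAdjunction (J j) (Type u))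
  let X := (presheafToSheaf (J j) (Type u)).obj ((allInv (F := F) i j).op.lan.obj (P.op ⋙ a.obj))
  let adj := fun f : j ⟶ i => (invImage F f).sheafAdjunctionContinuous (Type u) (J i) (J j)
  let c : Cofan fun f : j ⟶ i => ((invImage F f).sheafPullback (Type u) (J i) (J j)).obj a :=
    Cofan.mk X fun f => ((adj f).homEquiv a X).symm ⟨comp f (A.homEquiv (P.op ⋙ a.obj) X (𝟙 X))⟩
  have key : ∀ {Z : Sheaf (J j) (Type u)} (m : X ⟶ Z) (f : j ⟶ i),
      (adj f).homEquiv a Z (c.inj f ≫ m) = ⟨comp f (A.homEquiv (P.op ⋙ a.obj) Z m)⟩ := by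
    intro Z m f
    have h : A.homEquiv (P.op ⋙ a.obj) Z m = A.homEquiv (P.op ⋙ a.obj) X (𝟙 X) ≫
        Functor.whiskerLeft (allInv (F := F) i j).op m.hom := by
      have h := A.homEquiv_naturality_right (𝟙 X) m
      exact (congrArg _ (Category.id_comp m).symm).trans h
    rw [(adj f).homEquiv_naturality_right, h]
    show (adj f).homEquiv a X (((adj f).homEquiv a X).symm _) ≫ _ = _
    rw [Equiv.apply_symm_apply]
    rfl
  refine ⟨c, ⟨Cofan.IsColimit.mk c
    (fun t => (A.homEquiv (P.op ⋙ a.obj) t.pt).symm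
      (glue fun f => ((adj f).homEquiv a t.pt (t.inj f)).hom)) ?_ ?_⟩, ⟨?_⟩⟩
  · intro t f
    apply ((adj f).homEquiv a t.pt).injective
    rw [key, Equiv.apply_symm_apply]
    rfl
  · intro t m hm
    apply (A.homEquiv (P.op ⋙ a.obj) t.pt).injective
    rw [Equiv.apply_symm_apply]
    ext ⟨⟨f⟩, U⟩ : 2
    show _ = ((adj f).homEquiv a t.pt (t.inj f)).hom.app (op U)
    rw [← hm f, key]
    rfl
  · exact (presheafToSheaf (J j) (Type u)).mapIso
        ((asIso (TwoSquare.lanBaseChange (D := Type u) (sqA (F := F) i j).op)).app a.obj) ≪≫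
      ((ι F j).pushforwardContinuousSheafificationCompatibility (Type u) (J j) (totalTopology F J)).app _ ≪≫
      (restr F J (Type u) j).mapIso
        ((Functor.sheafPullbackConstruction.sheafPullbackIso (ι F i) (Type u) (J i) (totalTopology F J)).app a).symm

end Groth.Agent.H5FibCoprod
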