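import Groth.Agent.Lib.H5FibTot
import Mathlib.CategoryTheory.GuitartExact.KanExtension
import Mathlib.CategoryTheory.GuitartExact.Opposite
import Mathlib.CategoryTheory.Functor.ReflectsIso.Jointly
import Mathlib.CategoryTheory.Limits.IsConnected
set_option backward.isDefEq.respectTransparency false
set_option backward.defeqAttrib.useBackward true
universe u v₁ v₂ u₁ u₂ w
namespace Groth.Agent.H5FibMor
open CategoryTheory CategoryTheory.Limits Opposite Pseudofunctor.CoGrothendieck FibSite
open scoped CategoryTheory.Pseudofunctor.StrongTrans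
open Groth.Agent.H5FibTot (hmk comp_ι ι_comp hmk_inj)

variable {𝒮 : Type u₁} [Category.{v₁} 𝒮] {F G : Pseudofunctor (LocallyDiscrete 𝒮ᵒᵖ) Cat.{v₂, u₂}}
  (α : G ⟶ F)

/-- fibre functor -/
abbrev fib (S : 𝒮) : G.obj ⟨op S⟩ ⥤ F.obj ⟨op S⟩ := (α.app ⟨op S⟩).toFunctor

/-- commutation -/
def sqIso (S : 𝒮) : ι G S ⋙ map α ≅ fib α S ⋙ ι F S :=
  NatIso.ofComponents (fun _ => Iso.refl _) (fun {U V} r => by
    refine (Category.comp_id _).trans (Eq.trans ?_ (Category.id_comp _).symm)
    refine Hom.ext _ _ rfl ?_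
    simp [Cat.Hom.comp_toFunctor, Pseudofunctor.StrongTrans.naturality_id_hom_app,
      Cat.Hom.id_toFunctor, ← Category.assoc, ← Functor.map_comp, ← Cat.Hom₂.comp_app]
    rw [Category.assoc]
    simp [← Cat.Hom₂.comp_app])

lemma map_hmk {S T : 𝒮} {A : G.obj ⟨op S⟩} {U : G.obj ⟨op T⟩} (f : S ⟶ T)
    (c : A ⟶ (invImage G f).obj U) :
    (map α).map (hmk f c) =
      hmk f ((fib α S).map c ≫ (α.naturality f.op.toLoc).hom.toNatTrans.app U) := rfl

/-- the square -/
def sq (S : 𝒮) : TwoSquare (fib α S) (ι G S) (ι F S) (map α) := (sqIso α S).inv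

instance exact_sq (S : 𝒮) : (sq α S).GuitartExact := by
  rw [TwoSquare.guitartExact_iff_isConnected_downwards]
  rintro V ⟨T, U⟩ ⟨f, a⟩
  have key : ∀ (X₁ : G.obj ⟨op S⟩) (a' : V ⟶ (fib α S).obj X₁)
      (c : X₁ ⟶ (invImage G f).obj U),
      (ι F S).map a' ≫ (sq α S).app X₁ ≫ (map α).map (hmk f c) = hmk f
        (a' ≫ (fib α S).map c ≫ (α.naturality f.op.toLoc).hom.toNatTrans.app U) := by
    intro X₁ a' c
    have h1 : (sq α S).app X₁ ≫ (map α).map (hmk f c) = (map α).map (hmk f c) := Category.id_comp _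
    rw [h1]
    exact ι_comp f a' ((fib α S).map c ≫ (α.naturality f.op.toLoc).hom.toNatTrans.app U)
  have hinv : (α.naturality f.op.toLoc).inv.toNatTrans.app U ≫
      (α.naturality f.op.toLoc).hom.toNatTrans.app U = 𝟙 _ := by
    simp [← Cat.Hom₂.comp_app]
  have hinv' : (α.naturality f.op.toLoc).hom.toNatTrans.app U ≫
      (α.naturality f.op.toLoc).inv.toNatTrans.app U = 𝟙 _ := by
    simp [← Cat.Hom₂.comp_app]
  let X₀ : (sq α S).CostructuredArrowDownwards (X₂ := V) (X₃ := ⟨T, U⟩) ⟨f, a⟩ :=
    TwoSquare.CostructuredArrowDownwards.mk _ _ ((invImage G f).obj U)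
      (a ≫ (α.naturality f.op.toLoc).inv.toNatTrans.app U) (hmk f (𝟙 _)) (by
      rw [key]
      show hmk f _ = hmk f a
      congr 1
      erw [CategoryTheory.Functor.map_id]
      erw [Category.id_comp, Category.assoc, hinv, Category.comp_id])
  refine isConnected_of_isTerminal _ (x := X₀) (IsTerminal.ofUniqueHom (fun Y => ?_) ?_)
  · have hY := TwoSquare.CostructuredArrowDownwards.mk_surjective Y
    refine Classical.choice ?_
    obtain ⟨X₁, a', ⟨f', c⟩, comm, rfl⟩ := hY
    obtain rfl : f' = f := by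
      have := congrArg (fun φ => φ.base) comm
      simpa [sq, sqIso] using! this
    have e : hmk f' (a' ≫ (fib α S).map c ≫ (α.naturality f'.op.toLoc).hom.toNatTrans.app U) =
        hmk f' a := (key X₁ a' c).symm.trans comm
    refine ⟨CostructuredArrow.homMk (StructuredArrow.homMk c ?_) ?_⟩
    · show a' ≫ (fib α S).map c = a ≫ (α.naturality f'.op.toLoc).inv.toNatTrans.app U
      rw [← hmk_inj e]
      erw [Category.assoc, Category.assoc, hinv', Category.comp_id]
    · refine StructuredArrow.ext _ _ ?_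
      show (ι G S).map c ≫ hmk f' (𝟙 _) = hmk f' c
      rw [ι_comp, Category.comp_id]
  · intro Y m
    obtain ⟨X₁, a', ⟨f', c⟩, comm, rfl⟩ := TwoSquare.CostructuredArrowDownwards.mk_surjective Y
    have hm : ∀ m₁ m₂ : TwoSquare.CostructuredArrowDownwards.mk (sq α S) _ X₁ a' ⟨f', c⟩ comm ⟶ X₀,
        m₁ = m₂ := by
      intro m₁ m₂
      refine CostructuredArrow.hom_ext _ _ (StructuredArrow.ext _ _ ?_)
      have e₁ : (ι G S).map m₁.left.right ≫ hmk f (𝟙 _) = (⟨f', c⟩ : (⟨S, X₁⟩ : ∫ᶜ G) ⟶ ⟨T, U⟩) :=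
        congrArg (fun φ => φ.right) (CostructuredArrow.w m₁)
      have e₂ : (ι G S).map m₂.left.right ≫ hmk f (𝟙 _) = (⟨f', c⟩ : (⟨S, X₁⟩ : ∫ᶜ G) ⟶ ⟨T, U⟩) :=
        congrArg (fun φ => φ.right) (CostructuredArrow.w m₂)
      have e := (ι_comp f m₁.left.right (𝟙 _)).symm.trans
        ((e₁.trans e₂.symm).trans (ι_comp f m₂.left.right (𝟙 _)))
      have e' := hmk_inj e
      erw [Category.comp_id, Category.comp_id] at e'
      exact e'
    exact hm _ _

section Small
variable {𝒮 : Type u} [SmallCategory 𝒮] {F G : Pseudofunctor (LocallyDiscrete 𝒮ᵒᵖ) Cat.{u, u}}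
  {J : Topologies F} {K : Topologies G} (α : G ⟶ F)

lemma preserves_of_jointly {A B : Type*} [Category A] [Category B] {ι : Type*} {D : ι → Type*}
    [∀ i, Category (D i)] (M : A ⥤ B) (R : ∀ i, B ⥤ D i) {K : Type*} [Category K]
    [HasLimitsOfShape K A] [HasLimitsOfShape K B]
    (hR : ∀ {X Y : B} (g : X ⟶ Y), (∀ i, IsIso ((R i).map g)) → IsIso g)
    [∀ i, PreservesLimitsOfShape K (R i)] [∀ i, PreservesLimitsOfShape K (M ⋙ R i)] :
    PreservesLimitsOfShape K M := ⟨fun {Φ} => by
  refine preservesLimit_of_preserves_limit_cone (limit.isLimit Φ) ?_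
  let v := (limit.isLimit (Φ ⋙ M)).lift (M.mapCone (limit.cone Φ))
  have : IsIso v := hR v fun i => by
    have e : (R i).map v = ((isLimitOfPreserves (M ⋙ R i) (limit.isLimit Φ)).conePointUniqueUpToIso
        (isLimitOfPreserves (R i) (limit.isLimit (Φ ⋙ M)))).hom := by
      refine (isLimitOfPreserves (R i) (limit.isLimit (Φ ⋙ M))).hom_ext fun k => ?_
      erw [IsLimit.conePointUniqueUpToIso_hom_comp]
      show (R i).map v ≫ (R i).map _ = (R i).map _
      rw [← Functor.map_comp]
      exact congrArg _ ((limit.isLimit (Φ ⋙ M)).fac _ k)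
    rw [e]; infer_instance
  exact (limit.isLimit (Φ ⋙ M)).ofIsoLimit (Cone.ext (asIso v)
    (fun k => ((limit.isLimit (Φ ⋙ M)).fac (M.mapCone (limit.cone Φ)) k).symm)).symm⟩

theorem continuous_map (hF : IsPreFibSite F J) (hG : IsPreFibSite G K)
    (hα : ∀ S : 𝒮, (fib α S).IsContinuous (K S) (J S)) :
    (map α).IsContinuous (totalTopology G K) (totalTopology F J) := by
  rw [Groth.Agent.H5FibTot.isContinuous_iff hG]
  intro S
  have := hα S
  have := Groth.Agent.H5FibTot.isContinuous_ι hF S
  have := Functor.isContinuous_comp (fib α S) (ι F S) (K S) (J S) (totalTopology F J)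
  exact Functor.isContinuous_of_iso (sqIso α S).symm (K S) (totalTopology F J)

theorem result (hF : IsPreFibSite F J) (hG : IsPreFibSite G K)
    (hα : ∀ S : 𝒮, ∃ (_ : (α.app ⟨op S⟩).toFunctor.IsContinuous (K S) (J S))
      (_ : ((α.app ⟨op S⟩).toFunctor.sheafPushforwardContinuous (Type u) (K S) (J S)).IsRightAdjoint),
      PreservesFiniteLimits ((α.app ⟨op S⟩).toFunctor.sheafPullback (Type u) (K S) (J S))) :
    ∃ (_ : (map α).IsContinuous (totalTopology G K) (totalTopology F J))
      (_ : ((map α).sheafPushforwardContinuous (Type u)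
        (totalTopology G K) (totalTopology F J)).IsRightAdjoint),
      PreservesFiniteLimits ((map α).sheafPullback (Type u)
        (totalTopology G K) (totalTopology F J)) := by
  letI : SmallCategory (∫ᶜ F) := Pseudofunctor.CoGrothendieck.category
  letI : SmallCategory (∫ᶜ G) := Pseudofunctor.CoGrothendieck.category
  have := continuous_map α hF hG (fun S => (hα S).1)
  refine ⟨this, inferInstance, ?_⟩
  have hc : ∀ S, (ι F S).IsContinuous (J S) (totalTopology F J) :=
    fun S => Groth.Agent.H5FibTot.isContinuous_ι hF S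
  have hcG : ∀ S, (ι G S).IsContinuous (K S) (totalTopology G K) :=
    fun S => Groth.Agent.H5FibTot.isContinuous_ι hG S
  have hcc : ∀ S, (ι F S).IsCocontinuous (J S) (totalTopology F J) :=
    fun S => Groth.Agent.H5FibTot.isCocontinuous_ι hF S
  constructor
  intro P _ _
  let R : ∀ S : 𝒮, Sheaf (totalTopology F J) (Type u) ⥤ Sheaf (J S) (Type u) := fun S =>
    (ι F S).sheafPushforwardContinuous (Type u) (J S) (totalTopology F J)
  have hRl : ∀ S, PreservesLimits (R S) := fun S =>
    ((ι F S).sheafAdjunctionContinuous (Type u) (J S) (totalTopology F J)).rightAdjoint_preservesLimits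
  have hcomp : ∀ S, PreservesLimitsOfShape P ((map α).sheafPullback (Type u)
      (totalTopology G K) (totalTopology F J) ⋙ R S) := by
    intro S
    obtain ⟨_, _, hlex⟩ := hα S
    let B : _ ⥤ _ := sheafToPresheaf (totalTopology G K) (Type u)
    let e : (map α).sheafPullback (Type u) (totalTopology G K) (totalTopology F J) ⋙ R S ≅
        (ι G S).sheafPushforwardContinuous (Type u) (K S) (totalTopology G K) ⋙
          (fib α S).sheafPullback (Type u) (K S) (J S) :=
      Functor.isoWhiskerRight (Functor.sheafPullbackConstruction.sheafPullbackIso (map α) (Type u) _ _) (R S) ≪≫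
      Functor.isoWhiskerLeft (B ⋙ (map α).op.lan)
        ((ι F S).pushforwardContinuousSheafificationCompatibility (Type u) (J S) (totalTopology F J)).symm ≪≫
      Functor.isoWhiskerLeft B
        (Functor.isoWhiskerRight (asIso (TwoSquare.lanBaseChange (D := Type u) (sq α S).op)).symm
          (presheafToSheaf (J S) (Type u))) ≪≫
      Functor.isoWhiskerLeft ((ι G S).sheafPushforwardContinuous (Type u) (K S) (totalTopology G K))
        (Functor.sheafPullbackConstruction.sheafPullbackIso (fib α S) (Type u) (K S) (J S)).symm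
    have : PreservesLimitsOfShape P
        ((ι G S).sheafPushforwardContinuous (Type u) (K S) (totalTopology G K) ⋙
          (fib α S).sheafPullback (Type u) (K S) (J S)) := by
      have := ((ι G S).sheafAdjunctionContinuous (Type u) (K S) (totalTopology G K)).rightAdjoint_preservesLimits
      infer_instance
    exact preservesLimitsOfShape_of_natIso e.symm
  refine preserves_of_jointly _ R (fun {X Y} g hg => ?_)
  have : IsIso g.hom := by
    rw [NatTrans.isIso_iff_isIso_app]
    rintro ⟨⟨S, U⟩⟩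
    have : IsIso ((R S).map g).hom := (sheafToPresheaf _ _).map_isIso ((R S).map g)
    exact (inferInstance : IsIso (((R S).map g).hom.app (op U)))
  exact (isIso_iff_of_reflects_iso g (sheafToPresheaf _ _)).1 this

end Small
end Groth.Agent.H5FibMor
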