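import Groth.Agent.Lib.H5FibRetr
import Groth.Agent.Lib.H5FibMor
import Mathlib.CategoryTheory.Extensive
import Mathlib.CategoryTheory.Sites.LeftExact
import Mathlib.CategoryTheory.Limits.Constructions.LimitsOfProductsAndEqualizers
import Mathlib.CategoryTheory.Limits.Types.Coproducts
set_option backward.isDefEq.respectTransparency false
set_option backward.defeqAttrib.useBackward true
universe u
namespace Groth.Agent.H5FibMorConv
open CategoryTheory CategoryTheory.Limits Opposite Pseudofunctor.CoGrothendieck FibSite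
open scoped CategoryTheory.Pseudofunctor.StrongTrans
open Groth.Agent.H5FibMor (fib sqIso sq)
open Groth.Agent.H5FibRetr (η ρ ρ_η isPullback_η hE optCocone leg ρ_mk)

variable {𝒮 : Type u} [SmallCategory 𝒮] {F G : Pseudofunctor (LocallyDiscrete 𝒮ᵒᵖ) Cat.{u, u}}
  {J : Topologies F} {K : Topologies G} {α : G ⟶ F} {S : 𝒮}

theorem continuous_fib (hF : IsPreFibSite F J) (hG : IsPreFibSite G K)
    [(map α).IsContinuous (totalTopology G K) (totalTopology F J)] :
    (fib α S).IsContinuous (K S) (J S) := by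
  letI : SmallCategory (∫ᶜ F) := Pseudofunctor.CoGrothendieck.category
  letI : SmallCategory (∫ᶜ G) := Pseudofunctor.CoGrothendieck.category
  have := Groth.Agent.H5FibTot.isContinuous_ι hG S
  have := Functor.isContinuous_comp (ι G S) (map α) (K S) (totalTopology G K) (totalTopology F J)
  have hc : (fib α S ⋙ ι F S).IsContinuous (K S) (totalTopology F J) :=
    Functor.isContinuous_of_iso (sqIso α S) (K S) (totalTopology F J)
  constructor
  intro Q U R hR
  rw [Presieve.isSheafFor_iff_yonedaSheafCondition]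
  have hW : (totalTopology F J).W ((ι F S).op.lan.map ((fib α S).op.lan.map (R.functorInclusion : R.functor ⟶ yoneda.obj U))) := by
    intro Z hZ
    refine (((((fib α S).op.lanAdjunction (Type u))).comp ((ι F S).op.lanAdjunction (Type u))).map_comp_bijective_iff
      (R.functorInclusion : R.functor ⟶ yoneda.obj U) Z).2 ?_
    have hs : Presieve.IsSheaf (K S) ((fib α S ⋙ ι F S).op ⋙ Z) :=
      Functor.op_comp_isSheaf_of_types (fib α S ⋙ ι F S) (K S) (totalTopology F J) ⟨Z, hZ⟩
    rw [Function.bijective_iff_existsUnique]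
    exact (Presieve.isSheafFor_iff_yonedaSheafCondition.1 (hs R hR))
  have hb := (((fib α S).op.lanAdjunction (Type u)).map_comp_bijective_iff
      (R.functorInclusion : R.functor ⟶ yoneda.obj U) Q.obj).1
    (Groth.Agent.H5FibRetr.W_of_W_whisker_lan hF _ hW _ Q.property)
  rw [Function.bijective_iff_existsUnique] at hb
  exact hb

section Bool
variable (C : Type u) [SmallCategory C]

/-- point -/
abbrev Pt : Cᵒᵖ ⥤ Type u := (Functor.const _).obj PUnit
/-- two points -/
abbrev Two : Cᵒᵖ ⥤ Type u := (Functor.const _).obj (ULift Bool)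

def pick (b : Bool) : Pt C ⟶ Two C := (Functor.const _).map (TypeCat.ofHom fun _ => ULift.up b)

def isTerminalPt : IsTerminal (Pt C) :=
  IsTerminal.ofUniqueHom (fun X => { app := fun _ => TypeCat.ofHom fun _ => PUnit.unit })
    (fun X m => by ext; rfl)

noncomputable def isColimitTwo : IsColimit (BinaryCofan.mk (pick C true) (pick C false)) := by
  refine evaluationJointlyReflectsColimits _ fun k => ?_
  refine (isColimitMapCoconeBinaryCofanEquiv ((evaluation _ _).obj k) _ _).symm ?_
  refine Nonempty.some ((Types.binaryCofan_isColimit_iff _).2 ⟨fun _ _ _ => rfl, fun _ _ _ => rfl, ?_⟩)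
  constructor
  · rw [Set.disjoint_iff]
    rintro x ⟨⟨a, rfl⟩, ⟨b, hb⟩⟩
    have := congrArg ULift.down hb
    simp [pick] at this
  · rw [codisjoint_iff, eq_top_iff]
    rintro ⟨x⟩ -
    cases x
    · exact Or.inr ⟨PUnit.unit, rfl⟩
    · exact Or.inl ⟨PUnit.unit, rfl⟩

end Bool

lemma map_pullback_pick {C D : Type u} [SmallCategory C] [SmallCategory D] (J : GrothendieckTopology D)
    (Θ : (Cᵒᵖ ⥤ Type u) ⥤ Sheaf J (Type u)) [PreservesColimitsOfShape (Discrete WalkingPair) Θ]
    {A Y : Cᵒᵖ ⥤ Type u} {a : A ⟶ Y} {t : A ⟶ Pt C} {h : Y ⟶ Two C}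
    (hp : IsPullback a t h (pick C true)) :
    IsPullback (Θ.map a) (Θ.map t) (Θ.map h) (Θ.map (pick C true)) := by
  have hp' := IsPullback.of_hasPullback h (pick C false)
  have hv := (BinaryCofan.isVanKampen_iff _).1 (FinitaryExtensive.vanKampen _ (isColimitTwo C))
    (BinaryCofan.mk a (pullback.fst h (pick C false))) t (pullback.snd h (pick C false)) h hp.w.symm hp'.w.symm
  obtain ⟨hc⟩ := hv.2 ⟨hp, hp'⟩
  have h1 := mapIsColimitOfPreservesOfIsColimit Θ _ _ hc
  have h2 := mapIsColimitOfPreservesOfIsColimit Θ _ _ (isColimitTwo C)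
  exact (((BinaryCofan.isVanKampen_iff _).1 (FinitaryExtensive.vanKampen _ h2)
    (BinaryCofan.mk (Θ.map a) (Θ.map (pullback.fst h (pick C false)))) (Θ.map t)
    (Θ.map (pullback.snd h (pick C false))) (Θ.map h)
    (by show Θ.map t ≫ Θ.map _ = Θ.map a ≫ Θ.map h; rw [← Θ.map_comp, ← Θ.map_comp, hp.w])
    (by show Θ.map _ ≫ Θ.map _ = Θ.map _ ≫ Θ.map h; rw [← Θ.map_comp, ← Θ.map_comp, hp'.w])).1 ⟨h1⟩).1

/-- base-identity part -/
noncomputable def χ (S : 𝒮) :
    (ι G S).op ⋙ (ι G S).op.lan.obj (Pt (G.obj ⟨op S⟩)) ⟶ Two (G.obj ⟨op S⟩) where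
  app U := TypeCat.ofHom fun z => ULift.up (ρ (Pt _) U.unop z).isSome
  naturality U U' r := by
    ext z
    obtain ⟨g, p, rfl⟩ := Types.jointly_surjective _ (hE (Pt _) U.unop) z
    show ULift.up (ρ (Pt _) U'.unop _).isSome = ULift.up (ρ (Pt _) U.unop _).isSome
    have e : ((ι G S).op.lan.obj (Pt _)).map ((ι G S).op.map r)
        (((ι G S).op.lan.obj (Pt _)).map g.hom ((η (Pt _)).app g.left p)) =
        ((ι G S).op.lan.obj (Pt _)).map (CostructuredArrow.mk (g.hom ≫ (ι G S).op.map r)).hom
          ((η (Pt _)).app g.left p) := by simp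
    refine congrArg ULift.up ((congrArg (fun x => (ρ (Pt _) U'.unop x).isSome) e).trans ?_)
    erw [ρ_mk, ρ_mk]
    by_cases h : ∃ k : U.unop ⟶ g.left.unop, (ι G S).map k = g.hom.unop
    · obtain ⟨k, hk⟩ := h
      rw [Groth.Agent.H5FibRetr.leg_map _ g k hk, Groth.Agent.H5FibRetr.leg_map _ _ (r.unop ≫ k)
        (by rw [Functor.map_comp, hk]; rfl)]
      rfl
    · rw [Groth.Agent.H5FibRetr.leg_none _ g h, Groth.Agent.H5FibRetr.leg_none]
      rintro ⟨k, hk⟩
      refine h (Groth.Agent.H5FibRetr.exists_map_eq _ ?_)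
      have hb := congrArg (fun ψ => ψ.base) hk
      simpa using! hb.symm

lemma pb_η (S : 𝒮) : IsPullback (η (Pt _)) (𝟙 (Pt (G.obj ⟨op S⟩))) (χ S) (pick _ true) := by
  refine IsPullback.of_forall_isPullback_app (fun ⟨U⟩ => ?_)
  rw [Types.isPullback_iff]
  refine ⟨?_, ?_, ?_⟩
  · ext p
    show ULift.up (ρ (Pt _) U _).isSome = ULift.up true
    erw [ρ_η]; rfl
  · rintro p p' -; rfl
  · intro z q hzq
    obtain ⟨g, p, rfl⟩ := Types.jointly_surjective _ (hE (Pt _) U) z
    have h : (ρ (Pt _) U (((ι G S).op.lan.obj (Pt _)).map g.hom ((η (Pt _)).app g.left p))).isSome = true :=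
      congrArg ULift.down hzq
    rw [ρ_mk] at h
    by_cases hk : ∃ k : U ⟶ g.left.unop, (ι G S).map k = g.hom.unop
    · obtain ⟨k, hk⟩ := hk
      refine ⟨PUnit.unit, ?_, rfl⟩
      refine (NatTrans.naturality_apply (η (Pt _)) k.op p).trans ?_
      show ((ι G S).op.lan.obj (Pt _)).map ((ι G S).map k).op _ = _
      rw [hk]; rfl
    · rw [Groth.Agent.H5FibRetr.leg_none _ g hk] at h
      simp at h

/-- whiskered map -/
noncomputable abbrev Lu (S : 𝒮) {A B : (G.obj ⟨op S⟩)ᵒᵖ ⥤ Type u} (u : A ⟶ B) :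
    (ι G S).op ⋙ (ι G S).op.lan.obj A ⟶ (ι G S).op ⋙ (ι G S).op.lan.obj B :=
  ((Functor.whiskeringLeft _ _ _).obj (ι G S).op).map ((ι G S).op.lan.map u)

lemma pb_pt (S : 𝒮) {A : (G.obj ⟨op S⟩)ᵒᵖ ⥤ Type u} (u : A ⟶ Pt _) :
    IsPullback (η A) u (Lu S u ≫ χ S) (pick _ true) := by
  simpa using (isPullback_η u).paste_vert (pb_η S)

section Lex
variable [(map α).IsContinuous (totalTopology G K) (totalTopology F J)]

/-- pullback on presheaves -/
noncomputable abbrev Θ (α : G ⟶ F) (J : Topologies F) (S : 𝒮) :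
    ((G.obj ⟨op S⟩)ᵒᵖ ⥤ Type u) ⥤ Sheaf (J S) (Type u) :=
  (fib α S).op.lan ⋙ presheafToSheaf (J S) (Type u)

theorem lexΘ (hF : IsPreFibSite F J) (hG : IsPreFibSite G K)
    [PreservesFiniteLimits ((map α).sheafPullback (Type u) (totalTopology G K) (totalTopology F J))]
    (S : 𝒮) : PreservesFiniteLimits (Θ α J S) := by
  letI : SmallCategory (∫ᶜ F) := Pseudofunctor.CoGrothendieck.category
  letI : SmallCategory (∫ᶜ G) := Pseudofunctor.CoGrothendieck.category
  have := Groth.Agent.H5FibTot.isCocontinuous_ι hF S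
  have := Groth.Agent.H5FibTot.isContinuous_ι hF S
  let W := (Functor.whiskeringLeft _ _ (Type u)).obj (ι G S).op
  let R := (ι F S).sheafPushforwardContinuous (Type u) (J S) (totalTopology F J)
  have hR : PreservesLimits R :=
    ((ι F S).sheafAdjunctionContinuous (Type u) (J S) (totalTopology F J)).rightAdjoint_preservesLimits
  let e₁ : (map α).op.lan ⋙ presheafToSheaf (totalTopology F J) (Type u) ≅
      presheafToSheaf (totalTopology G K) (Type u) ⋙
        (map α).sheafPullback (Type u) (totalTopology G K) (totalTopology F J) :=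
    Adjunction.leftAdjointUniq (((map α).op.lanAdjunction (Type u)).comp (sheafificationAdjunction _ _))
      ((sheafificationAdjunction _ _).comp ((map α).sheafAdjunctionContinuous (Type u) _ _))
  let e : W ⋙ Θ α J S ≅ (presheafToSheaf (totalTopology G K) (Type u) ⋙
      (map α).sheafPullback (Type u) (totalTopology G K) (totalTopology F J)) ⋙ R :=
    Functor.isoWhiskerRight (asIso (TwoSquare.lanBaseChange (D := Type u) (sq α S).op))
        (presheafToSheaf (J S) (Type u)) ≪≫
      Functor.isoWhiskerLeft ((map α).op.lan)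
        ((ι F S).pushforwardContinuousSheafificationCompatibility (Type u) (J S) (totalTopology F J)) ≪≫
      Functor.isoWhiskerRight e₁ R
  have : PreservesFiniteLimits R := inferInstance
  have := comp_preservesFiniteLimits (presheafToSheaf (totalTopology G K) (Type u))
    ((map α).sheafPullback (Type u) (totalTopology G K) (totalTopology F J))
  have := comp_preservesFiniteLimits (presheafToSheaf (totalTopology G K) (Type u) ⋙
    (map α).sheafPullback (Type u) (totalTopology G K) (totalTopology F J)) R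
  have hlex : PreservesFiniteLimits (W ⋙ Θ α J S) := preservesFiniteLimits_of_natIso e.symm
  have hcol : PreservesColimitsOfShape (Discrete WalkingPair) (Θ α J S) := by
    have := (((fib α S).op.lanAdjunction (Type u)).comp
      (sheafificationAdjunction (J S) (Type u))).leftAdjoint_preservesColimits
    infer_instance
  have ht : PreservesLimit (Functor.empty.{0} _) (Θ α J S) := by
    have h1 : IsTerminal ((Θ α J S).obj (W.obj (Pt (∫ᶜ G)))) :=
      IsTerminal.isTerminalObj (W ⋙ Θ α J S) _ (isTerminalPt (∫ᶜ G))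
    exact preservesLimit_of_preserves_limit_cone (isTerminalPt (G.obj ⟨op S⟩))
      ((isLimitMapConeEmptyConeEquiv _ _).symm h1)
  have hp : ∀ {A B C P : (G.obj ⟨op S⟩)ᵒᵖ ⥤ Type u} {p : P ⟶ A} {q : P ⟶ B} {f : A ⟶ C} {g : B ⟶ C},
      IsPullback p q f g → IsPullback ((Θ α J S).map p) ((Θ α J S).map q) ((Θ α J S).map f) ((Θ α J S).map g) := by
    intro A B C P p q f g h
    let t : ∀ X, X ⟶ Pt (G.obj ⟨op S⟩) := fun X => (isTerminalPt _).from X
    let X := pullback ((ι G S).op.lan.map f) ((ι G S).op.lan.map g)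
    have hX := (IsPullback.of_hasPullback ((ι G S).op.lan.map f) ((ι G S).op.lan.map g)).map W
    have hXΘ := (IsPullback.of_hasPullback ((ι G S).op.lan.map f) ((ι G S).op.lan.map g)).map (W ⋙ Θ α J S)
    have hA := pb_pt S (t A)
    have hB := pb_pt S (t B)
    have hC := pb_pt S (t C)
    have hfC := isPullback_η (S := S) f
    let l : P ⟶ W.obj X := hX.lift (p ≫ η A) (q ≫ η B) (by
      rw [Category.assoc, Category.assoc]
      erw [hfC.w, (isPullback_η (S := S) g).w]
      rw [← Category.assoc, h.w, Category.assoc])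
    have hl1 : l ≫ W.map (pullback.fst _ _) = p ≫ η A := hX.lift_fst _ _ _
    have hl2 : l ≫ W.map (pullback.snd _ _) = q ≫ η B := hX.lift_snd _ _ _
    -- source
    have o : IsPullback (p ≫ η A) q (Lu S f) (g ≫ η C) := h.paste_horiz hfC
    have o' : IsPullback (l ≫ W.map (pullback.fst _ _)) q (Lu S f) (η B ≫ Lu S g) := by
      rw [hl1]; erw [(isPullback_η (S := S) g).w]; exact o
    have s1 : IsPullback l q (W.map (pullback.snd _ _)) (η B) := IsPullback.of_right o' hl2 hX
    have s2 := s1.paste_vert hB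
    -- target
    have tP := map_pullback_pick (J S) (Θ α J S) s2
    have tA := map_pullback_pick (J S) (Θ α J S) hA
    have tB := map_pullback_pick (J S) (Θ α J S) hB
    have tC := map_pullback_pick (J S) (Θ α J S) hC
    have eC : ∀ {A : (G.obj ⟨op S⟩)ᵒᵖ ⥤ Type u} (f : A ⟶ C), f ≫ t C = t A ∧ Lu S f ≫ Lu S (t C) ≫ χ S = Lu S (t A) ≫ χ S := by
      intro A f
      refine ⟨(isTerminalPt _).hom_ext _ _, ?_⟩
      rw [← Category.assoc, ← Functor.map_comp, ← Functor.map_comp, (isTerminalPt _).hom_ext (f ≫ t C) (t A)]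
    have tfC : IsPullback ((Θ α J S).map (η A)) ((Θ α J S).map f) ((Θ α J S).map (Lu S f)) ((Θ α J S).map (η C)) := by
      refine IsPullback.of_bot ?_ (by rw [← Functor.map_comp, ← Functor.map_comp]; erw [hfC.w]) tC
      rw [← Functor.map_comp, ← Functor.map_comp, (eC f).1, (eC f).2]
      exact tA
    have tPB : IsPullback ((Θ α J S).map l) ((Θ α J S).map q) ((Θ α J S).map (W.map (pullback.snd _ _))) ((Θ α J S).map (η B)) := by
      refine IsPullback.of_bot ?_ (by rw [← Functor.map_comp, ← Functor.map_comp, hl2]) tB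
      rw [← Functor.map_comp, ← Functor.map_comp]
      exact tP
    have out := tPB.paste_horiz hXΘ
    refine IsPullback.of_right ?_ (by rw [← Functor.map_comp, ← Functor.map_comp, h.w]) tfC
    have ea : (Θ α J S).map l ≫ (W ⋙ Θ α J S).map (pullback.fst _ _) =
        (Θ α J S).map p ≫ (Θ α J S).map (η A) := by
      show (Θ α J S).map l ≫ (Θ α J S).map (W.map _) = _
      rw [← Functor.map_comp, ← Functor.map_comp, hl1]
    have eb : (Θ α J S).map (η B) ≫ (W ⋙ Θ α J S).map ((ι G S).op.lan.map g) =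
        (Θ α J S).map g ≫ (Θ α J S).map (η C) :=
      ((Θ α J S).map_comp _ _).symm.trans ((congrArg (Θ α J S).map (isPullback_η (S := S) g).w).trans
        ((Θ α J S).map_comp _ _))
    exact ea ▸ eb ▸ out
  have : PreservesLimitsOfShape WalkingCospan (Θ α J S) := ⟨fun {K} => by
    have : PreservesLimit (cospan (K.map WalkingCospan.Hom.inl) (K.map WalkingCospan.Hom.inr)) (Θ α J S) :=
      preservesLimit_of_preserves_limit_cone
        (pullbackIsPullback (K.map WalkingCospan.Hom.inl) (K.map WalkingCospan.Hom.inr))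
        ((isLimitMapConePullbackConeEquiv _ pullback.condition).symm
          (hp (IsPullback.of_hasPullback (K.map WalkingCospan.Hom.inl) (K.map WalkingCospan.Hom.inr))).isLimit)
    exact preservesLimit_of_iso_diagram _ (diagramIsoCospan K).symm⟩
  have : PreservesLimitsOfShape (Discrete.{0} PEmpty) (Θ α J S) :=
    preservesLimitsOfShape_pempty_of_preservesTerminal _
  exact preservesFiniteLimits_of_preservesTerminal_and_pullbacks _

theorem result (hF : IsPreFibSite F J) (hG : IsPreFibSite G K)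
    [PreservesFiniteLimits ((map α).sheafPullback (Type u) (totalTopology G K) (totalTopology F J))]
    (S : 𝒮) :
    ∃ (_ : (α.app ⟨op S⟩).toFunctor.IsContinuous (K S) (J S))
      (_ : ((α.app ⟨op S⟩).toFunctor.sheafPushforwardContinuous (Type u) (K S) (J S)).IsRightAdjoint),
      PreservesFiniteLimits ((α.app ⟨op S⟩).toFunctor.sheafPullback (Type u) (K S) (J S)) := by
  have := continuous_fib (α := α) (S := S) hF hG
  refine ⟨this, inferInstance, ?_⟩
  have := lexΘ (α := α) hF hG S
  have : PreservesFiniteLimits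
      (Functor.sheafPullbackConstruction.sheafPullback (fib α S) (Type u) (K S) (J S)) :=
    comp_preservesFiniteLimits (sheafToPresheaf (K S) (Type u)) (Θ α J S)
  exact preservesFiniteLimits_of_natIso
    (Functor.sheafPullbackConstruction.sheafPullbackIso (fib α S) (Type u) (K S) (J S)).symm

end Lex
end Groth.Agent.H5FibMorConv
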