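import Groth.Agent.Lib.H5FibCoprod
set_option backward.isDefEq.respectTransparency false
set_option backward.defeqAttrib.useBackward true
universe u
namespace Groth.Agent.H5FibProd
open CategoryTheory CategoryTheory.Limits Opposite Pseudofunctor.CoGrothendieck FibSite
open Groth.Agent.H5FibCoprod (allInv sqA comp glue)

variable {𝒮 : Type u} [SmallCategory 𝒮] {F : Pseudofunctor (LocallyDiscrete 𝒮ᵒᵖ) Cat.{u, u}}
  {J : Topologies F} {i j : 𝒮}

theorem result (hF : IsPreFibSite F J)
    [∀ S : 𝒮, (ι F S).IsContinuous (J S) (totalTopology F J)]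
    [(ι F i).IsCocontinuous (J i) (totalTopology F J)]
    [∀ (P : (F.obj ⟨op i⟩)ᵒᵖ ⥤ Type u), (ι F i).op.HasPointwiseRightKanExtension P]
    [∀ (R S : 𝒮) (f : R ⟶ S), (invImage F f).IsContinuous (J S) (J R)]
    (a : Sheaf (J i) (Type u)) :
    ∃ c : Fan fun f : i ⟶ j => ((invImage F f).sheafPushforwardContinuous (Type u) (J j) (J i)).obj a,
      Nonempty (IsLimit c) ∧
        Nonempty (c.pt ≅ (restr F J (Type u) j).obj ((coextend F J (Type u) i).obj a)) := by
  letI : SmallCategory (∫ᶜ F) := Pseudofunctor.CoGrothendieck.category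
  let P := CategoryTheory.Prod.snd (Discrete (i ⟶ j)) (F.obj ⟨op j⟩)
  let W := (Functor.whiskeringLeft _ _ (Type u)).obj P.op
  let A := ((allInv (F := F) j i).op.lanAdjunction (Type u)).comp (sheafificationAdjunction (J i) (Type u))
  let L' := sheafToPresheaf (J j) (Type u) ⋙ W ⋙ (allInv (F := F) j i).op.lan ⋙ presheafToSheaf (J i) (Type u)
  let e : extend F J (Type u) j ⋙ restr F J (Type u) i ≅ L' :=
    Functor.isoWhiskerRight (Functor.sheafPullbackConstruction.sheafPullbackIso (ι F j) (Type u) (J j) (totalTopology F J)) (restr F J (Type u) i) ≪≫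
    Functor.isoWhiskerLeft (sheafToPresheaf (J j) (Type u) ⋙ (ι F j).op.lan)
      ((ι F i).pushforwardContinuousSheafificationCompatibility (Type u) (J i) (totalTopology F J)).symm ≪≫
    Functor.isoWhiskerLeft (sheafToPresheaf (J j) (Type u))
      (Functor.isoWhiskerRight (asIso (TwoSquare.lanBaseChange (D := Type u) (sqA (F := F) j i).op)).symm
        (presheafToSheaf (J i) (Type u)))
  let adjX : L' ⊣ coextend F J (Type u) i ⋙ restr F J (Type u) j :=
    (((ι F j).sheafAdjunctionContinuous (Type u) (J j) (totalTopology F J)).comp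
      ((ι F i).sheafAdjunctionCocontinuous (Type u) (J i) (totalTopology F J))).ofNatIsoLeft e
  let Y := (restr F J (Type u) j).obj ((coextend F J (Type u) i).obj a)
  let c : Fan fun f : i ⟶ j => ((invImage F f).sheafPushforwardContinuous (Type u) (J j) (J i)).obj a :=
    Fan.mk Y fun f => ⟨comp f (A.homEquiv (W.obj Y.obj) a ((adjX.homEquiv Y a).symm (𝟙 Y)))⟩
  have key : ∀ {b : Sheaf (J j) (Type u)} (m : b ⟶ Y) (f : i ⟶ j),
      m ≫ c.proj f = ⟨comp f (A.homEquiv (W.obj b.obj) a ((adjX.homEquiv b a).symm m))⟩ := by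
    intro b m f
    have h1 : (adjX.homEquiv b a).symm m = L'.map m ≫ (adjX.homEquiv Y a).symm (𝟙 Y) :=
      (congrArg (adjX.homEquiv b a).symm (Category.comp_id m).symm).trans
        (adjX.homEquiv_naturality_left_symm m (𝟙 Y))
    have h2 : A.homEquiv (W.obj b.obj) a ((adjX.homEquiv b a).symm m) =
        W.map m.hom ≫ A.homEquiv (W.obj Y.obj) a ((adjX.homEquiv Y a).symm (𝟙 Y)) :=
      (congrArg _ h1).trans (A.homEquiv_naturality_left (W.map m.hom) _)
    rw [h2]
    rfl
  refine ⟨c, ⟨mkFanLimit c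
    (fun t => adjX.homEquiv t.pt a ((A.homEquiv (W.obj t.pt.obj) a).symm (glue fun f => (t.proj f).hom))) ?_ ?_⟩,
    ⟨Iso.refl _⟩⟩
  · intro t f
    rw [key, Equiv.symm_apply_apply]
    erw [Equiv.apply_symm_apply]
    rfl
  · intro t m hm
    apply (adjX.homEquiv t.pt a).symm.injective
    rw [Equiv.symm_apply_apply]
    apply (A.homEquiv (W.obj t.pt.obj) a).injective
    erw [Equiv.apply_symm_apply]
    ext ⟨⟨f⟩, U⟩ : 2
    show _ = (t.proj f).hom.app (op U)
    rw [← hm f, key]
    rfl

end Groth.Agent.H5FibProd
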