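import Groth.Agent.Lib.H5FibMor
import Mathlib.CategoryTheory.Limits.Types.Colimits
set_option backward.isDefEq.respectTransparency false
set_option backward.defeqAttrib.useBackward true
universe u
namespace Groth.Agent.H5FibRetr
open CategoryTheory CategoryTheory.Limits Opposite Pseudofunctor.CoGrothendieck FibSite
open Groth.Agent.H5FibTot (hmk comp_ι ι_comp hmk_inj)

variable {𝒮 : Type u} [SmallCategory 𝒮] {F : Pseudofunctor (LocallyDiscrete 𝒮ᵒᵖ) Cat.{u, u}}
  {J : Topologies F} {S : 𝒮}

lemma faithful_ι (S : 𝒮) : (ι F S).Faithful where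
  map_injective {U V a b} h := by
    have := hmk_inj h
    exact (cancel_mono ((F.mapId ⟨op S⟩).inv.toNatTrans.app V)).1 this

lemma exists_map_eq {U V : F.obj ⟨op S⟩} (φ : (ι F S).obj U ⟶ (ι F S).obj V) (h : φ.base = 𝟙 S) :
    ∃ k : U ⟶ V, (ι F S).map k = φ := by
  obtain ⟨f, a⟩ := φ
  change f = 𝟙 S at h
  subst h
  refine ⟨a ≫ (F.mapId ⟨op S⟩).hom.toNatTrans.app V, ?_⟩
  refine Hom.ext _ _ rfl ?_
  simp [← Cat.Hom₂.comp_app]

variable (P : (F.obj ⟨op S⟩)ᵒᵖ ⥤ Type u)

/-- unit -/
noncomputable abbrev η : P ⟶ (ι F S).op ⋙ (ι F S).op.lan.obj P := (ι F S).op.lanUnit.app P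

noncomputable def leg (U : F.obj ⟨op S⟩) (g : CostructuredArrow (ι F S).op (op ((ι F S).obj U))) :
    P.obj g.left → Option (P.obj (op U)) := fun p =>
  open Classical in
  if h : ∃ k : U ⟶ g.left.unop, (ι F S).map k = g.hom.unop then some (P.map h.choose.op p) else none

lemma leg_map {U : F.obj ⟨op S⟩} (g : CostructuredArrow (ι F S).op (op ((ι F S).obj U)))
    (k : U ⟶ g.left.unop) (hk : (ι F S).map k = g.hom.unop) (p : P.obj g.left) :
    leg P U g p = some (P.map k.op p) := by
  have h : ∃ k : U ⟶ g.left.unop, (ι F S).map k = g.hom.unop := ⟨k, hk⟩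
  have := faithful_ι (F := F) S
  rw [leg, dif_pos h, (ι F S).map_injective (h.choose_spec.trans hk.symm)]

lemma leg_none {U : F.obj ⟨op S⟩} (g : CostructuredArrow (ι F S).op (op ((ι F S).obj U)))
    (h : ¬ ∃ k : U ⟶ g.left.unop, (ι F S).map k = g.hom.unop) (p : P.obj g.left) :
    leg P U g p = none := by rw [leg, dif_neg h]

noncomputable def optCocone (U : F.obj ⟨op S⟩) :
    Cocone (CostructuredArrow.proj (ι F S).op (op ((ι F S).obj U)) ⋙ P) where
  pt := Option (P.obj (op U))
  ι :=
    { app := fun g => TypeCat.ofHom (leg P U g)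
      naturality := fun g g' φ => by
        ext p
        show leg P U g' (P.map φ.left p) = leg P U g p
        have w : g'.hom.unop ≫ (ι F S).map φ.left.unop = g.hom.unop :=
          congrArg Quiver.Hom.unop (CostructuredArrow.w φ)
        by_cases h : ∃ k : U ⟶ g'.left.unop, (ι F S).map k = g'.hom.unop
        · obtain ⟨k, hk⟩ := h
          rw [leg_map P g' k hk, leg_map P g (k ≫ φ.left.unop) (by rw [Functor.map_comp, hk, w]),
            op_comp, Functor.map_comp, ConcreteCategory.comp_apply]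
          rfl
        · rw [leg_none P g' h, leg_none P g]
          rintro ⟨k, hk⟩
          refine h (exists_map_eq _ ?_)
          have hb := congrArg (fun ψ => ψ.base) (hk.trans w.symm)
          simpa using hb.symm }

noncomputable def hE (U : F.obj ⟨op S⟩) :=
  (Functor.isPointwiseLeftKanExtensionOfIsLeftKanExtension ((ι F S).op.lan.obj P) (η P))
    (op ((ι F S).obj U))

noncomputable def ρ (U : F.obj ⟨op S⟩) (z : ((ι F S).op.lan.obj P).obj (op ((ι F S).obj U))) :
    Option (P.obj (op U)) :=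
  (hE P U).desc (optCocone P U) z

lemma ρ_mk (U : F.obj ⟨op S⟩) (g : CostructuredArrow (ι F S).op (op ((ι F S).obj U))) (p : P.obj g.left) :
    ρ P U (((ι F S).op.lan.obj P).map g.hom ((η P).app g.left p)) = leg P U g p :=
  congrArg (fun ψ => (ConcreteCategory.hom ψ) p) ((hE P U).fac (optCocone P U) g)

lemma ρ_η (U : F.obj ⟨op S⟩) (p : P.obj (op U)) : ρ P U ((η P).app (op U) p) = some p := by
  have h := ρ_mk P U (CostructuredArrow.mk (𝟙 _)) p
  rw [leg_map P _ (𝟙 U) (by simp)] at h
  simpa using h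

lemma isPullback_η {P Q : (F.obj ⟨op S⟩)ᵒᵖ ⥤ Type u} (u : P ⟶ Q) :
    IsPullback (η P) u (((Functor.whiskeringLeft _ _ _).obj (ι F S).op).map ((ι F S).op.lan.map u)) (η Q) := by
  have hn : ∀ (X : (F.obj ⟨op S⟩)ᵒᵖ) (p : P.obj X),
      ((ι F S).op.lan.map u).app ((ι F S).op.obj X) ((η P).app X p) = (η Q).app X (u.app X p) :=
    fun X p => (congrArg (fun ψ => (ConcreteCategory.hom (ψ.app X)) p)
      ((ι F S).op.lanUnit.naturality u)).symm
  refine IsPullback.of_forall_isPullback_app (fun ⟨U⟩ => ?_)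
  rw [Types.isPullback_iff]
  refine ⟨?_, ?_, ?_⟩
  · ext p; exact hn (op U) p
  · rintro p p' ⟨h, -⟩
    have := congrArg (ρ P U) h
    rw [ρ_η, ρ_η] at this
    exact Option.some_injective _ this
  · intro z q hzq
    obtain ⟨g, p, rfl⟩ := Types.jointly_surjective _ (hE P U) z
    have e : ((ι F S).op.lan.map u).app (op ((ι F S).obj U))
        (((ι F S).op.lan.obj P).map g.hom ((η P).app g.left p)) =
        ((ι F S).op.lan.obj Q).map g.hom ((η Q).app g.left (u.app g.left p)) := by
      rw [← hn g.left p]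
      exact NatTrans.naturality_apply ((ι F S).op.lan.map u) g.hom _
    have h : leg Q U g (u.app g.left p) = some q :=
      (ρ_mk Q U g _).symm.trans ((congrArg (ρ Q U) (e.symm.trans hzq)).trans (ρ_η Q U q))
    by_cases hk : ∃ k : U ⟶ g.left.unop, (ι F S).map k = g.hom.unop
    · obtain ⟨k, hk⟩ := hk
      rw [leg_map Q g k hk] at h
      refine ⟨P.map k.op p, ?_, ?_⟩
      · refine (NatTrans.naturality_apply (η P) k.op p).trans ?_
        show ((ι F S).op.lan.obj P).map ((ι F S).map k).op _ = _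
        rw [hk]; rfl
      · exact (NatTrans.naturality_apply u k.op p).trans (Option.some_injective _ h)
    · rw [leg_none Q g hk] at h
      exact absurd h (by simp)

lemma W_of_W_whisker_lan (hF : IsPreFibSite F J) {P Q : (F.obj ⟨op S⟩)ᵒᵖ ⥤ Type u} (u : P ⟶ Q)
    (h : (totalTopology F J).W ((ι F S).op.lan.map u)) : (J S).W u := by
  have := Groth.Agent.H5FibTot.isCocontinuous_ι hF S
  have := Groth.Agent.H5FibTot.isContinuous_ι hF S
  rw [GrothendieckTopology.W_iff] at h ⊢
  let e := (ι F S).pushforwardContinuousSheafificationCompatibility (Type u) (J S) (totalTopology F J)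
  have h' : IsIso ((presheafToSheaf (J S) (Type u)).map
      (((Functor.whiskeringLeft _ _ _).obj (ι F S).op).map ((ι F S).op.lan.map u))) :=
    (NatIso.isIso_map_iff e _).2 (by dsimp; infer_instance)
  exact ((isPullback_η u).map (presheafToSheaf (J S) (Type u))).isIso_snd_of_isIso

lemma W_lan {C D : Type u} [SmallCategory C] [SmallCategory D] (G : C ⥤ D) {J : GrothendieckTopology C}
    {K : GrothendieckTopology D} [G.IsContinuous J K] {P Q : Cᵒᵖ ⥤ Type u} (u : P ⟶ Q) (h : J.W u) :
    K.W (G.op.lan.map u) := fun Z hZ =>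
  ((G.op.lanAdjunction (Type u)).map_comp_bijective_iff u Z).2
    (h _ (G.op_comp_isSheaf_of_isSheaf J K Z hZ))

theorem W_iff (hF : IsPreFibSite F J) {P Q : (F.obj ⟨op S⟩)ᵒᵖ ⥤ Type u} (u : P ⟶ Q) :
    (J S).W u ↔ (totalTopology F J).W ((ι F S).op.lan.map u) := by
  letI : SmallCategory (∫ᶜ F) := Pseudofunctor.CoGrothendieck.category
  have := Groth.Agent.H5FibTot.isContinuous_ι hF S
  exact ⟨W_lan _ u, W_of_W_whisker_lan hF u⟩

end Groth.Agent.H5FibRetr
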