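import Groth.Agent.Lib.H5FibMor
import Mathlib.CategoryTheory.Monad.Adjunction
set_option backward.isDefEq.respectTransparency false
set_option backward.defeqAttrib.useBackward true
universe u v₁ v₂ u₁ u₂ w
namespace Groth.Agent.H5FibTerm
open CategoryTheory CategoryTheory.Limits Opposite Pseudofunctor.CoGrothendieck FibSite
open Groth.Agent.H5FibTot (hmk comp_ι ι_comp hmk_inj)

variable {𝒮 : Type u} [SmallCategory 𝒮] {F : Pseudofunctor (LocallyDiscrete 𝒮ᵒᵖ) Cat.{u, u}}
  {J : Topologies F} {i : 𝒮}

lemma faithful_ι (S : 𝒮) : (ι F S).Faithful where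
  map_injective {U V a b} h := by
    have := hmk_inj h
    exact (cancel_mono ((F.mapId ⟨op S⟩).inv.toNatTrans.app V)).1 this

lemma full_ι (hi : IsTerminal i) : (ι F i).Full where
  map_surjective {U V} φ := by
    obtain ⟨f, a⟩ := φ
    obtain rfl : f = 𝟙 i := hi.hom_ext _ _
    refine ⟨a ≫ (F.mapId ⟨op i⟩).hom.toNatTrans.app V, ?_⟩
    refine Hom.ext _ _ rfl ?_
    simp [← Cat.Hom₂.comp_app]

/-- square to terminal fibre -/
def sqT (S : 𝒮) (f : S ⟶ i) : TwoSquare (invImage F f) (𝟭 _) (ι F S) (ι F i) where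
  app U := hmk f (𝟙 _)
  naturality U V r := by
    show (ι F S).map _ ≫ hmk f (𝟙 _) = hmk f (𝟙 _) ≫ (ι F i).map r
    rw [ι_comp, comp_ι]
    congr 1
    simp

lemma exact_sqT (hi : IsTerminal i) (S : 𝒮) (f : S ⟶ i) : (sqT (F := F) S f).GuitartExact := by
  rw [TwoSquare.guitartExact_iff_isConnected_downwards]
  rintro V U ⟨f', a⟩
  obtain rfl : f' = f := hi.hom_ext _ _
  have key : ∀ (X₁ : F.obj ⟨op i⟩) (a' : V ⟶ (invImage F f').obj X₁) (b : X₁ ⟶ U),
      (ι F S).map a' ≫ (sqT S f').app X₁ ≫ (ι F i).map b =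
        hmk f' (a' ≫ (invImage F f').map b) := by
    intro X₁ a' b
    show (ι F S).map a' ≫ hmk f' (𝟙 _) ≫ (ι F i).map b = _
    erw [comp_ι, ι_comp, Category.id_comp]
  let X₀ : (sqT S f').CostructuredArrowDownwards (X₂ := V) (X₃ := U) ⟨f', a⟩ :=
    TwoSquare.CostructuredArrowDownwards.mk _ _ U a (𝟙 _) (by
      erw [key]; show hmk f' _ = hmk f' a; congr 1; erw [CategoryTheory.Functor.map_id, Category.comp_id])
  refine isConnected_of_isTerminal _ (x := X₀) (IsTerminal.ofUniqueHom (fun Y => ?_) ?_)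
  · refine Classical.choice ?_
    obtain ⟨X₁, a', b, comm, rfl⟩ := TwoSquare.CostructuredArrowDownwards.mk_surjective Y
    have e := hmk_inj ((key X₁ a' b).symm.trans comm)
    refine ⟨CostructuredArrow.homMk (StructuredArrow.homMk b e) ?_⟩
    exact StructuredArrow.ext _ _ (Category.comp_id _)
  · intro Y m
    obtain ⟨X₁, a', b, comm, rfl⟩ := TwoSquare.CostructuredArrowDownwards.mk_surjective Y
    have hm : ∀ m₁ m₂ : TwoSquare.CostructuredArrowDownwards.mk (sqT S f') _ X₁ a' b comm ⟶ X₀,
        m₁ = m₂ := by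
      intro m₁ m₂
      refine CostructuredArrow.hom_ext _ _ (StructuredArrow.ext _ _ ?_)
      have e₁ : m₁.left.right ≫ 𝟙 U = b := congrArg (fun φ => φ.right) (CostructuredArrow.w m₁)
      have e₂ : m₂.left.right ≫ 𝟙 U = b := congrArg (fun φ => φ.right) (CostructuredArrow.w m₂)
      exact ((Category.comp_id _).symm.trans (e₁.trans e₂.symm)).trans (Category.comp_id _)
    exact hm _ _

theorem ff (hF : IsPreFibSite F J) (hi : IsTerminal i)
    [(ι F i).IsContinuous (J i) (totalTopology F J)]
    [((ι F i).sheafPushforwardContinuous (Type u) (J i) (totalTopology F J)).IsRightAdjoint] :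
    (extend F J (Type u) i).Full ∧ (extend F J (Type u) i).Faithful := by
  letI : SmallCategory (∫ᶜ F) := Pseudofunctor.CoGrothendieck.category
  have := faithful_ι (F := F) i
  have := full_ι (F := F) hi
  have := Groth.Agent.H5FibTot.isCocontinuous_ι hF i
  let e : extend F J (Type u) i ⋙ restr F J (Type u) i ≅ 𝟭 _ :=
    Functor.isoWhiskerRight (Functor.sheafPullbackConstruction.sheafPullbackIso (ι F i) (Type u) _ _) _ ≪≫
    Functor.isoWhiskerLeft (sheafToPresheaf (J i) (Type u) ⋙ (ι F i).op.lan)
      ((ι F i).pushforwardContinuousSheafificationCompatibility (Type u) (J i) (totalTopology F J)).symm ≪≫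
    Functor.isoWhiskerLeft (sheafToPresheaf (J i) (Type u))
      (Functor.isoWhiskerRight (asIso ((ι F i).op.lanUnit (H := Type u))).symm (presheafToSheaf (J i) (Type u))) ≪≫
    asIso (sheafificationAdjunction (J i) (Type u)).counit
  have h := ((ι F i).sheafAdjunctionContinuous (Type u) (J i) (totalTopology F J)).fullyFaithfulLOfCompIsoId e
  exact ⟨h.full, h.faithful⟩

theorem lex (hF : IsFibSite F J) (hi : IsTerminal i)
    [(ι F i).IsContinuous (J i) (totalTopology F J)]
    [((ι F i).sheafPushforwardContinuous (Type u) (J i) (totalTopology F J)).IsRightAdjoint] :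
    PreservesFiniteLimits (extend F J (Type u) i) := by
  letI : SmallCategory (∫ᶜ F) := Pseudofunctor.CoGrothendieck.category
  have hc : ∀ S, (ι F S).IsContinuous (J S) (totalTopology F J) :=
    fun S => Groth.Agent.H5FibTot.isContinuous_ι hF.isPreFibSite S
  have hcc : ∀ S, (ι F S).IsCocontinuous (J S) (totalTopology F J) :=
    fun S => Groth.Agent.H5FibTot.isCocontinuous_ι hF.isPreFibSite S
  constructor
  intro P _ _
  let R : ∀ S : 𝒮, Sheaf (totalTopology F J) (Type u) ⥤ Sheaf (J S) (Type u) := fun S =>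
    (ι F S).sheafPushforwardContinuous (Type u) (J S) (totalTopology F J)
  have hRl : ∀ S, PreservesLimits (R S) := fun S =>
    ((ι F S).sheafAdjunctionContinuous (Type u) (J S) (totalTopology F J)).rightAdjoint_preservesLimits
  have hcomp : ∀ S, PreservesLimitsOfShape P (extend F J (Type u) i ⋙ R S) := by
    intro S
    obtain ⟨_, _, hlex⟩ := hF (hi.from S)
    have := exact_sqT (F := F) hi S (hi.from S)
    let e : extend F J (Type u) i ⋙ R S ≅
        (invImage F (hi.from S)).sheafPullback (Type u) (J i) (J S) :=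
      Functor.isoWhiskerRight (Functor.sheafPullbackConstruction.sheafPullbackIso (ι F i) (Type u) _ _) (R S) ≪≫
      Functor.isoWhiskerLeft (sheafToPresheaf (J i) (Type u) ⋙ (ι F i).op.lan)
        ((ι F S).pushforwardContinuousSheafificationCompatibility (Type u) (J S) (totalTopology F J)).symm ≪≫
      Functor.isoWhiskerLeft (sheafToPresheaf (J i) (Type u))
        (Functor.isoWhiskerRight (asIso (TwoSquare.lanBaseChange (D := Type u) (sqT (F := F) S (hi.from S)).op)).symm
          (presheafToSheaf (J S) (Type u))) ≪≫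
      (Functor.sheafPullbackConstruction.sheafPullbackIso (invImage F (hi.from S)) (Type u) (J i) (J S)).symm
    exact preservesLimitsOfShape_of_natIso e.symm
  refine Groth.Agent.H5FibMor.preserves_of_jointly _ R (fun {X Y} g hg => ?_)
  have : IsIso g.hom := by
    rw [NatTrans.isIso_iff_isIso_app]
    rintro ⟨⟨S, U⟩⟩
    have : IsIso ((R S).map g).hom := (sheafToPresheaf _ _).map_isIso ((R S).map g)
    exact (inferInstance : IsIso (((R S).map g).hom.app (op U)))
  exact (isIso_iff_of_reflects_iso g (sheafToPresheaf _ _)).1 this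

end Groth.Agent.H5FibTerm
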