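import Groth.Prelude.Def_FibSite
import Mathlib.CategoryTheory.Sites.LocallyInjective
import Mathlib.CategoryTheory.Sites.InducedTopology
import Mathlib.CategoryTheory.Sites.ConcreteSheafification
set_option backward.isDefEq.respectTransparency false
universe w v₃ u₃ v₂ u₂ v₁ u₁
namespace Groth.Agent.H5FibTot
open CategoryTheory CategoryTheory.Limits Opposite Pseudofunctor.CoGrothendieck FibSite

section General
variable {C : Type u₂} [Category.{v₂} C] {D : Type u₂} [Category.{v₂} D]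
  (G : C ⥤ D) {U : C} (R : Sieve U)

structure El (W : D) where
  V : C
  r : V ⟶ U
  hr : R r
  a : W ⟶ G.obj V

variable {G R}

def ElRel (W : D) (p q : El G R W) : Prop :=
  ∃ m : p.V ⟶ q.V, m ≫ q.r = p.r ∧ p.a ≫ G.map m = q.a

variable (G R)

def pre : Dᵒᵖ ⥤ Type (max u₂ v₂) where
  obj W := Quot (ElRel (G := G) (R := R) W.unop)
  map {W W'} t := TypeCat.ofHom (Quot.map (fun p => ⟨p.V, p.r, p.hr, t.unop ≫ p.a⟩)
    (fun p q ⟨m, h₁, h₂⟩ => ⟨m, h₁, by simp [← h₂]⟩))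
  map_id W := by ext x; induction x using Quot.ind; simp [Quot.map]
  map_comp t s := by ext x; induction x using Quot.ind; simp [Quot.map]

variable {G R}

set_option maxHeartbeats 200000 in
theorem eq_of_separated {J : GrothendieckTopology C} {K : GrothendieckTopology D}
    [G.IsContinuous J K] (hR : R ∈ J U) (Q : Dᵒᵖ ⥤ Type w) (hQ : Presieve.IsSeparated K Q)
    (y : ∀ {V : C} (r : V ⟶ U), R r → Q.obj (op (G.obj V)))
    (hy : ∀ {V V' : C} (m : V' ⟶ V) (r : V ⟶ U) (hr : R r),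
      Q.map (G.map m).op (y r hr) = y (m ≫ r) (R.downward_closed hr m))
    {W : D} {V₁ V₂ : C} (r₁ : V₁ ⟶ U) (h₁ : R r₁) (r₂ : V₂ ⟶ U) (h₂ : R r₂)
    (a₁ : W ⟶ G.obj V₁) (a₂ : W ⟶ G.obj V₂) (e : a₁ ≫ G.map r₁ = a₂ ≫ G.map r₂) :
    Q.map a₁.op (y r₁ h₁) = Q.map a₂.op (y r₂ h₂) := by
  let L := pre G R
  obtain ⟨L', η, _⟩ : ∃ (L' : Sheaf K (Type (max u₂ v₂))) (η : L ⟶ L'.obj),
      Presheaf.IsLocallyInjective K η :=
    ⟨⟨K.sheafify L, (isSheaf_iff_isSheaf_of_type _ _).2 ((isSheaf_iff_isSheaf_of_type _ _).1 (GrothendieckTopology.sheafify_isSheaf K L))⟩,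
      K.toSheafify L, Presheaf.isLocallyInjective_toSheafify K L⟩
  have nat : ∀ {W W' : D} (s : W' ⟶ W) (p : El G R W),
      L'.obj.map s.op (η.app (op W) (Quot.mk _ p)) =
        η.app (op W') (Quot.mk _ (⟨p.V, p.r, p.hr, s ≫ p.a⟩ : El G R W')) :=
    fun s p => (NatTrans.naturality_apply η s.op _).symm
  let z : Presieve.FamilyOfElements (G.op ⋙ L'.obj) R.arrows := fun V r hr =>
    η.app (op (G.obj V)) (Quot.mk _ (⟨V, r, hr, 𝟙 _⟩ : El G R (G.obj V)))
  have hz : z.Compatible := by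
    rw [Presieve.compatible_iff_sieveCompatible]
    intro V V' r m hr
    refine Eq.trans (congrArg (η.app _) (Quot.sound ?_)) (nat (G.map m) ⟨V, r, hr, 𝟙 _⟩).symm
    exact ⟨m, rfl, by simp⟩
  have hT := G.op_comp_isSheaf_of_types J K L' R hR
  obtain ⟨t, ht⟩ : ∃ t, z.IsAmalgamation t := ⟨hT.amalgamate z hz, hT.isAmalgamation hz⟩
  have key : ∀ {V : C} (r : V ⟶ U) (hr : R r) (a : W ⟶ G.obj V),
      η.app (op W) (Quot.mk _ (⟨V, r, hr, a⟩ : El G R W)) = L'.obj.map (a ≫ G.map r).op t := by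
    intro V r hr a
    have h0 : L'.obj.map (G.map r).op t = z r hr := ht r hr
    rw [op_comp, Functor.map_comp, ConcreteCategory.comp_apply, h0]
    refine Eq.trans ?_ (nat a ⟨V, r, hr, 𝟙 _⟩).symm
    simp
  have hE := Presheaf.equalizerSieve_mem K η (X := op W)
    (Quot.mk _ (⟨V₁, r₁, h₁, a₁⟩ : El G R W)) (Quot.mk _ (⟨V₂, r₂, h₂, a₂⟩ : El G R W))
    ((key r₁ h₁ a₁).trans ((congrArg (fun b => L'.obj.map b.op t) e).trans (key r₂ h₂ a₂).symm))
  refine (hQ _ hE).ext fun W' s hs => ?_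
  let φ : L.obj (op W') → Q.obj (op W') := Quot.lift (fun p => Q.map p.a.op (y p.r p.hr))
    (fun p q ⟨m, e₁, e₂⟩ => by
      rw [← e₂, op_comp, Functor.map_comp, ConcreteCategory.comp_apply, hy m q.r q.hr]
      simp only [e₁])
  have := congrArg φ hs
  change Q.map (s ≫ a₁).op (y r₁ h₁) = Q.map (s ≫ a₂).op (y r₂ h₂) at this
  rw [op_comp, Functor.map_comp, ConcreteCategory.comp_apply, op_comp, Functor.map_comp, ConcreteCategory.comp_apply] at this
  exact this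

end General

variable {𝒮 : Type u₁} [Category.{v₁} 𝒮] {F : Pseudofunctor (LocallyDiscrete 𝒮ᵒᵖ) Cat.{v₂, u₂}}

/-- constructor -/
abbrev hmk {S₀ R₀ : 𝒮} {U : F.obj ⟨op S₀⟩} {A : F.obj ⟨op R₀⟩} (f : R₀ ⟶ S₀)
    (a : A ⟶ (invImage F f).obj U) : (⟨R₀, A⟩ : ∫ᶜ F) ⟶ ⟨S₀, U⟩ := ⟨f, a⟩

lemma comp_ι {S₀ R₀ : 𝒮} {V U : F.obj ⟨op S₀⟩} {A : F.obj ⟨op R₀⟩} (f : R₀ ⟶ S₀)
    (a : A ⟶ (invImage F f).obj V) (r : V ⟶ U) :
    hmk f a ≫ (ι F S₀).map r = hmk f (a ≫ (invImage F f).map r) := by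
  refine Hom.ext _ _ (Category.comp_id f) ?_
  change a ≫ (F.map f.op.toLoc).toFunctor.map (r ≫ (F.mapId ⟨op S₀⟩).inv.toNatTrans.app U) ≫
    (F.mapComp (𝟙 S₀).op.toLoc f.op.toLoc).inv.toNatTrans.app U = _
  simp [F.mapComp_id_left_inv_app, Bicategory.Strict.leftUnitor_eqToIso, PrelaxFunctor.map₂_eqToHom, -Functor.map_comp]
  rw [← Functor.map_comp_assoc, Category.assoc]
  congr 2
  simp [← Cat.Hom₂.comp_app]

lemma ι_comp {S₀ R₀ : 𝒮} {U : F.obj ⟨op S₀⟩} {A B : F.obj ⟨op R₀⟩} (f : R₀ ⟶ S₀)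
    (a : A ⟶ B) (b : B ⟶ (invImage F f).obj U) :
    (ι F R₀).map a ≫ hmk f b = hmk f (a ≫ b) := by
  refine Hom.ext _ _ (Category.id_comp f) ?_
  change (a ≫ (F.mapId ⟨op R₀⟩).inv.toNatTrans.app B) ≫ (F.map (𝟙 R₀).op.toLoc).toFunctor.map b ≫
    (F.mapComp f.op.toLoc (𝟙 R₀).op.toLoc).inv.toNatTrans.app U = _
  simp [F.mapComp_id_right_inv_app, Bicategory.Strict.rightUnitor_eqToIso, PrelaxFunctor.map₂_eqToHom, ← NatTrans.naturality_assoc, ← Cat.Hom₂.comp_app]

lemma hmk_inj {S₀ R₀ : 𝒮} {U : F.obj ⟨op S₀⟩} {A : F.obj ⟨op R₀⟩} {f : R₀ ⟶ S₀}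
    {a b : A ⟶ (invImage F f).obj U} (h : hmk f a = hmk f b) : a = b := by
  simpa using Hom.congr h

lemma push_iff {S₀ R₀ : 𝒮} {U : F.obj ⟨op S₀⟩} {A : F.obj ⟨op R₀⟩} (R : Sieve U) (f : R₀ ⟶ S₀)
    (a : A ⟶ (invImage F f).obj U) :
    (R.functorPushforward (ι F S₀)) (hmk f a) ↔ (R.functorPushforward (invImage F f)) a := by
  constructor
  · rintro ⟨V, r, ⟨kb, kf⟩, hr, e⟩
    have e' : hmk f a = hmk kb (kf ≫ (invImage F kb).map r) := e.trans (comp_ι kb kf r)
    obtain rfl : f = kb := congrArg (fun φ => φ.base) e'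
    exact ⟨V, r, kf, hr, hmk_inj e'⟩
  · rintro ⟨V, r, c, hr, rfl⟩
    exact ⟨V, r, hmk f c, hr, (comp_ι f c r).symm⟩

variable (F) (J : Topologies F)

/-- explicit covers -/
def covTop (hF : IsPreFibSite F J) : GrothendieckTopology (∫ᶜ F) where
  sieves X := {S | ∃ R ∈ J X.base X.fiber, Sieve.functorPushforward (ι F X.base) R ≤ S}
  top_mem' X := ⟨⊤, (J _).top_mem _, le_top⟩
  pullback_stable' := by
    rintro ⟨S₀, U⟩ ⟨R₀, A⟩ S ⟨f, a⟩ ⟨R, hR, hle⟩
    have := hF f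
    refine ⟨(R.functorPushforward (invImage F f)).pullback a, (J R₀).pullback_stable a
      ((CoverPreserving.of_isContinuous (F := invImage F f) (J := J S₀) (K := J R₀)).cover_preserve hR), ?_⟩
    rintro ⟨W₀, W⟩ φ ⟨B, t, k, ht, rfl⟩
    refine S.pullback (hmk f a) |>.downward_closed ?_ k
    show S ((ι F R₀).map t ≫ hmk f a)
    rw [ι_comp]
    exact hle _ ((push_iff R f _).2 ht)
  transitive' := by
    rintro ⟨S₀, U⟩ S ⟨R, hR, hle⟩ T hT
    have h : ∀ ⦃V : F.obj ⟨op S₀⟩⦄ ⦃r : V ⟶ U⦄, R r → ∃ R' ∈ J S₀ V,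
        Sieve.functorPushforward (ι F S₀) R' ≤ T.pullback ((ι F S₀).map r) :=
      fun V r hr => hT (hle _ (Sieve.image_mem_functorPushforward (ι F S₀) R hr))
    choose R' hR' hle' using h
    refine ⟨Sieve.bind R.arrows R', (J S₀).bind_covering hR hR', ?_⟩
    rintro Y φ ⟨B, t, k, ⟨V, g, r, hr, hg, rfl⟩, rfl⟩
    refine T.downward_closed ?_ k
    rw [Functor.map_comp]
    exact hle' hr _ (Sieve.image_mem_functorPushforward (ι F S₀) (R' hr) hg)

variable {F} {J}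

lemma mem_iff (hF : IsPreFibSite F J) (X : ∫ᶜ F) (S : Sieve X) :
    S ∈ totalTopology F J X ↔
      ∃ R ∈ J X.base X.fiber, Sieve.functorPushforward (ι F X.base) R ≤ S := by
  constructor
  · intro hS
    exact totalTopology_le (K := covTop F J hF) (fun S₀ U R hR => ⟨R, hR, le_rfl⟩) X hS
  · rintro ⟨R, hR, hle⟩
    exact (totalTopology F J).superset_covering hle (functorPushforward_mem_totalTopology hR)

lemma le_of_push_le {S₀ : 𝒮} {U : F.obj ⟨op S₀⟩} {R T : Sieve U}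
    (h : Sieve.functorPushforward (ι F S₀) R ≤ Sieve.functorPushforward (ι F S₀) T) : R ≤ T := by
  intro V r hr
  obtain ⟨W, c, k, hc, e⟩ := (push_iff T (𝟙 S₀) _).1 (h _ (Sieve.image_mem_functorPushforward (ι F S₀) R hr))
  let η := (F.mapId ⟨op S₀⟩).inv.toNatTrans
  let ε := (F.mapId ⟨op S₀⟩).hom.toNatTrans
  have hεη : ∀ X, η.app X ≫ ε.app X = 𝟙 _ := fun X => by
    simp [η, ε, ← Cat.Hom₂.comp_app]
  have : r = (k ≫ ε.app W) ≫ c := by
    have e' := e =≫ ε.app U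
    simp only [Category.assoc] at e'
    erw [hεη, ε.naturality] at e'
    simpa using e'
  rw [this]
  exact T.downward_closed hc _

lemma isSheaf_iff (hF : IsPreFibSite F J) (P : (∫ᶜ F)ᵒᵖ ⥤ Type w) :
    Presieve.IsSheaf (totalTopology F J) P ↔ ∀ S₀ : 𝒮, Presieve.IsSheaf (J S₀) ((ι F S₀).op ⋙ P) := by
  constructor
  · intro hP
    have hsep : ∀ S₀ : 𝒮, Presieve.IsSeparated (J S₀) ((ι F S₀).op ⋙ P) := by
      intro S₀ U R hR x t₁ t₂ h₁ h₂
      refine (hP _ (functorPushforward_mem_totalTopology hR)).isSeparatedFor.ext ?_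
      rintro Y _ ⟨V, r, k, hr, rfl⟩
      rw [op_comp, Functor.map_comp, ConcreteCategory.comp_apply, ConcreteCategory.comp_apply]
      exact congrArg _ ((h₁ r hr).trans (h₂ r hr).symm)
    intro S₀ U R hR
    rw [← Presieve.isSeparatedFor_and_exists_isAmalgamation_iff_isSheafFor]
    refine ⟨hsep S₀ R hR, fun x hx => ?_⟩
    have key : ∀ {Y : ∫ᶜ F} {V₁ V₂ : F.obj ⟨op S₀⟩} (k₁ : Y ⟶ (ι F S₀).obj V₁)
        (k₂ : Y ⟶ (ι F S₀).obj V₂) (r₁ : V₁ ⟶ U) (r₂ : V₂ ⟶ U) (h₁ : R r₁) (h₂ : R r₂),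
        k₁ ≫ (ι F S₀).map r₁ = k₂ ≫ (ι F S₀).map r₂ →
        P.map k₁.op (x r₁ h₁) = P.map k₂.op (x r₂ h₂) := by
      rintro ⟨R₀, A⟩ V₁ V₂ ⟨f, a₁⟩ ⟨f₂, a₂⟩ r₁ r₂ h₁ h₂ e
      have e' : hmk f (a₁ ≫ (invImage F f).map r₁) = hmk f₂ (a₂ ≫ (invImage F f₂).map r₂) :=
        (comp_ι f a₁ r₁).symm.trans (e.trans (comp_ι f₂ a₂ r₂))
      obtain rfl : f = f₂ := congrArg (fun φ => φ.base) e'
      haveI : (invImage F f).IsContinuous (J S₀) (J R₀) := hF f
      have h := eq_of_separated (G := invImage F f) (J := J S₀) (K := J R₀) hR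
        ((ι F R₀).op ⋙ P) (hsep R₀)
        (fun {V} r hr => P.map (hmk f (𝟙 ((invImage F f).obj V))).op (x r hr))
        (by
          intro V V' m r hr
          show P.map ((ι F R₀).map ((invImage F f).map m)).op (P.map _ (x r hr)) = _
          rw [← ConcreteCategory.comp_apply, ← Functor.map_comp, ← op_comp, ι_comp, Category.comp_id]
          have hm := (Presieve.FamilyOfElements.comp_of_compatible R hx hr m)
          rw [hm]
          show _ = P.map _ (P.map ((ι F S₀).map m).op (x r hr))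
          rw [← ConcreteCategory.comp_apply, ← Functor.map_comp, ← op_comp]
          erw [comp_ι, Category.id_comp]
          rfl)
        r₁ h₁ r₂ h₂ a₁ a₂ (hmk_inj e')
      change P.map ((ι F R₀).map a₁).op (P.map _ (x r₁ h₁)) = P.map ((ι F R₀).map a₂).op (P.map _ (x r₂ h₂)) at h
      rw [← ConcreteCategory.comp_apply, ← ConcreteCategory.comp_apply, ← Functor.map_comp,
        ← Functor.map_comp, ← op_comp, ← op_comp, ι_comp, ι_comp] at h
      erw [Category.comp_id, Category.comp_id] at h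
      exact h
    let z : Presieve.FamilyOfElements P (R.functorPushforward (ι F S₀)).arrows := fun Y φ hφ =>
      let s := Presieve.getFunctorPushforwardStructure hφ
      P.map s.lift.op (x s.premap s.cover)
    have hz : z.Compatible := by
      intro Y₁ Y₂ Z g₁ g₂ φ₁ φ₂ h₁ h₂ e
      simp only [z]
      rw [← ConcreteCategory.comp_apply, ← ConcreteCategory.comp_apply, ← Functor.map_comp,
        ← Functor.map_comp, ← op_comp, ← op_comp]
      refine key _ _ _ _ _ _ ?_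
      rw [Category.assoc, Category.assoc, ← (Presieve.getFunctorPushforwardStructure h₁).fac,
        ← (Presieve.getFunctorPushforwardStructure h₂).fac, e]
    have hT := hP _ (functorPushforward_mem_totalTopology hR)
    refine ⟨hT.amalgamate z hz, fun V r hr => ?_⟩
    have hm := Sieve.image_mem_functorPushforward (ι F S₀) R hr
    refine (hT.valid_glue hz _ hm).trans ?_
    simp only [z]
    rw [key (Presieve.getFunctorPushforwardStructure hm).lift (𝟙 _)
      (Presieve.getFunctorPushforwardStructure hm).premap r _ hr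
      ((Presieve.getFunctorPushforwardStructure hm).fac.symm.trans (Category.id_comp _).symm)]
    simp
  · intro h
    have hsep : ∀ ⦃X : ∫ᶜ F⦄ (S : Sieve X), S ∈ totalTopology F J X →
        Presieve.IsSeparatedFor P S.arrows := by
      rintro ⟨S₀, U⟩ S hS x t₁ t₂ h₁ h₂
      obtain ⟨R, hR, hle⟩ := (mem_iff hF _ S).1 hS
      refine (h S₀ R hR).isSeparatedFor.ext fun V r hr => ?_
      have hm := hle _ (Sieve.image_mem_functorPushforward (ι F S₀) R hr)
      exact (h₁ _ hm).trans (h₂ _ hm).symm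
    rintro ⟨S₀, U⟩ S hS
    rw [← Presieve.isSeparatedFor_and_exists_isAmalgamation_iff_isSheafFor]
    refine ⟨hsep S hS, fun x hx => ?_⟩
    obtain ⟨R, hR, hle⟩ := (mem_iff hF _ S).1 hS
    let y : Presieve.FamilyOfElements ((ι F S₀).op ⋙ P) R.arrows := fun V r hr =>
      x ((ι F S₀).map r) (hle _ (Sieve.image_mem_functorPushforward (ι F S₀) R hr))
    have hy : y.Compatible := by
      intro V₁ V₂ W g₁ g₂ r₁ r₂ h₁ h₂ e
      exact hx _ _ _ _ ((Functor.map_comp (ι F S₀) g₁ r₁).symm.trans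
        ((congrArg _ e).trans (Functor.map_comp (ι F S₀) g₂ r₂)))
    refine ⟨(h S₀ R hR).amalgamate y hy, fun Y φ hφ => ?_⟩
    refine (hsep _ ((totalTopology F J).pullback_stable φ
      (functorPushforward_mem_totalTopology hR))).ext fun W g hg => ?_
    obtain ⟨V, r, k, hr, e⟩ := hg
    rw [← ConcreteCategory.comp_apply, ← Functor.map_comp, ← op_comp, e, op_comp, Functor.map_comp,
      ConcreteCategory.comp_apply]
    erw [(h S₀ R hR).valid_glue hy r hr]
    exact hx k g _ hφ e.symm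

lemma isSheaf_iff' (hF : IsPreFibSite F J) {A : Type u₃} [Category.{v₃} A] (P : (∫ᶜ F)ᵒᵖ ⥤ A) :
    Presheaf.IsSheaf (totalTopology F J) P ↔
      ∀ S₀ : 𝒮, Presheaf.IsSheaf (J S₀) ((ι F S₀).op ⋙ P) :=
  ⟨fun h S₀ E => (isSheaf_iff hF _).1 (h E) S₀, fun h E => (isSheaf_iff hF _).2 fun S₀ => h S₀ E⟩

lemma isContinuous_iff (hF : IsPreFibSite F J) {D : Type u₃} [Category.{v₃} D]
    (K : GrothendieckTopology D) (m : ∫ᶜ F ⥤ D) :
    m.IsContinuous (totalTopology F J) K ↔ ∀ S : 𝒮, (ι F S ⋙ m).IsContinuous (J S) K := by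
  constructor
  · intro h S
    exact ⟨fun G => (isSheaf_iff hF _).1
      (Functor.op_comp_isSheaf_of_types m (totalTopology F J) K G) S⟩
  · intro h
    exact ⟨fun G => (isSheaf_iff hF _).2 fun S =>
      Functor.op_comp_isSheaf_of_types (ι F S ⋙ m) (J S) K G⟩

lemma isContinuous_ι (hF : IsPreFibSite F J) (S : 𝒮) :
    (ι F S).IsContinuous (J S) (totalTopology F J) :=
  ⟨fun G => (isSheaf_iff hF _).1 ((isSheaf_iff_isSheaf_of_type _ _).1 G.property) S⟩

lemma isCocontinuous_ι (hF : IsPreFibSite F J) (S : 𝒮) :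
    (ι F S).IsCocontinuous (J S) (totalTopology F J) where
  cover_lift {U T} hT := by
    obtain ⟨R, hR, hle⟩ := (mem_iff hF _ T).1 hT
    exact (J S).superset_covering
      (fun V r hr => hle _ (Sieve.image_mem_functorPushforward (ι F S) R hr)) hR

lemma induced_eq (hF : IsPreFibSite F J) (S : 𝒮) :
    (ι F S).inducedTopology (totalTopology F J) = J S := by
  refine le_antisymm ?_ (Functor.le_inducedTopology_iff.2 (isContinuous_ι hF S))
  intro U T hT
  obtain ⟨R, hR, hle⟩ := (mem_iff hF _ _).1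
    ((CoverPreserving.of_isContinuous (F := ι F S) (J := (ι F S).inducedTopology (totalTopology F J))
      (K := totalTopology F J)).cover_preserve hT)
  exact (J S).superset_covering (le_of_push_le hle) hR

end Groth.Agent.H5FibTot
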