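import Groth.Agent.Lib.H5FilInj

universe v u
namespace Groth.Agent.H5FilHom
open CategoryTheory Limits Opposite Pretriangulated CochainComplex HomComplex Preadditive
open Groth.Agent.H5FilStrict Groth.Agent.H5FilInj

variable {A : Type u} [Category.{v} A] [Abelian A]

lemma kInj_aux {K L : CochainComplex (FilD.FilF A) ℤ}
    (f : K ⟶ L) (α : Cochain K L (-1)) (n m : ℤ) (hnm : n + 1 = m)
    (hK : ∀ p, ((FilD.grCx p).obj K).ExactAt m) (hI : FilD.IsFilteredInjective (L.X m))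
    (hα : (δ (-1) 0 α).EqUpTo (Cochain.ofHom f) n) :
    ∃ (h : K.X (n + 2) ⟶ L.X (n + 1)),
      (δ (-1) 0 (α + Cochain.single h (-1))).EqUpTo (Cochain.ofHom f) m := by
  subst hnm
  let u := f.f (n + 1) - α.v (n + 1) n (by lia) ≫ L.d n (n + 1) -
    K.d (n + 1) (n + 2) ≫ α.v (n + 2) (n + 1) (by lia)
  have hu : K.d n (n + 1) ≫ u = 0 := by
    have eq := hα n n (add_zero n) (by rfl)
    simp only [δ_v (-1) 0 (neg_add_cancel 1) α n n (add_zero _) (n - 1) (n + 1)
      (by lia) (by lia), Int.negOnePow_zero, one_smul, Cochain.ofHom_v] at eq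
    simp only [u, comp_sub, HomologicalComplex.d_comp_d_assoc, zero_comp,
      ← f.comm, ← eq, add_comp, Category.assoc, L.d_comp_d, comp_zero, zero_add, sub_self]
  obtain ⟨β, hβ⟩ : ∃ (β : K.X (n + 2) ⟶ L.X (n + 1)), K.d (n + 1) (n + 2) ≫ β = u :=
    desc_of_grExact (K.sc' n (n + 1) (n + 2)) (fun p =>
      (((FilD.grCx p).obj K).exactAt_iff' n (n + 1) (n + 2) (by simp) (by simp; lia)).1 (hK p)) _ hI u hu
  refine ⟨β, ?_⟩
  intro p q hpq hp
  obtain rfl : p = q := by lia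
  obtain hp | rfl := hp.lt_or_eq
  · rw [δ_add, Cochain.add_v, hα p p (by lia) (by lia), add_eq_left,
      δ_v (-1) 0 (neg_add_cancel 1) _ p p hpq (p - 1) (p + 1) rfl rfl,
      Cochain.single_v_eq_zero _ _ _ _ _ (by lia),
      Cochain.single_v_eq_zero _ _ _ _ _ (by lia)]
    simp
  · rw [δ_v (-1) 0 (neg_add_cancel 1) _ (n + 1) (n + 1) (by lia) n (n + 2)
      (by lia) (by lia), Cochain.add_v,
      Cochain.single_v_eq_zero _ _ _ _ _ (by lia)]
    simp [hβ, u]

open Cochain.InductionUp in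
theorem homotopy_zero (K L : CochainComplex (FilD.FilF A) ℤ)
    (hK : FilD.IsFilteredAcyclic K) (d : ℤ) [L.IsStrictlyGE d]
    (hI : ∀ n, FilD.IsFilteredInjective (L.X n)) (f : K ⟶ L) : Nonempty (Homotopy f 0) := by
    let X (n : ℕ) : Set (Cochain K L (-1)) :=
      Set.ofPred (fun α => (δ (-1) 0 α).EqUpTo (Cochain.ofHom f) (n + d - 1))
    let x₀ : X 0 := ⟨0, fun p q hpq hp ↦
      IsZero.eq_of_tgt (L.isZero_of_isStrictlyGE d _ (by lia)) _ _⟩
    let φ (n : ℕ) (α : X n) : X (n + 1) :=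
      ⟨_, (kInj_aux f α.1 (n + d - 1) ((n + 1 : ℕ) + d - 1)
        (by lia) (fun p => hK p _) (hI _) α.2).choose_spec⟩
    have hφ (k : ℕ) (x : X k) : (φ k x).1.EqUpTo x.1 (d + k) := fun p q hpq hp => by
      dsimp [φ]
      rw [add_eq_left, Cochain.single_v_eq_zero _ _ _ _ _ (by lia)]
    refine ⟨(Cochain.equivHomotopy f 0).symm ⟨limitSequence φ hφ x₀, ?_⟩⟩
    rw [Cochain.ofHom_zero, add_zero]
    ext n
    let k₀ := (n - d + 1).toNat
    rw [← (sequence φ x₀ k₀).2 n n (add_zero n) (by lia),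
      δ_v (-1) 0 (neg_add_cancel 1) _ n n (by lia) (n - 1) (n + 1) rfl (by lia),
      δ_v (-1) 0 (neg_add_cancel 1) _ n n (by lia) (n - 1) (n + 1) rfl (by lia),
      limitSequence_eqUpTo φ hφ x₀ k₀ n (n - 1) (by lia) (by lia),
      limitSequence_eqUpTo φ hφ x₀ k₀ (n + 1) n (by lia) (by lia)]

/-- morphisms from acyclic objects vanish in the homotopy category -/
lemma hom_eq_zero (C I : CochainComplex (FilD.FilF A) ℤ) (hC : FilD.IsFilteredAcyclic C) (d : ℤ) [I.IsStrictlyGE d]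
    (hI : ∀ n, FilD.IsFilteredInjective (I.X n))
    (β : (HomotopyCategory.quotient _ (ComplexShape.up ℤ)).obj C ⟶ (HomotopyCategory.quotient _ (ComplexShape.up ℤ)).obj I) :
    β = 0 := by
  obtain ⟨b, rfl⟩ := (HomotopyCategory.quotient _ _).map_surjective β
  obtain ⟨h⟩ := homotopy_zero C I hC d hI b
  rw [HomotopyCategory.eq_of_homotopy _ _ h, Functor.map_zero]

lemma cone_acyclic {K L : CochainComplex (FilD.FilF A) ℤ} (α : K ⟶ L) (hα : FilD.IsFilteredQuasiIso α) :
    FilD.IsFilteredAcyclic (mappingCone α) := by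
  intro p n
  haveI := hα p
  let g := (FilD.grCx p).map α
  have h1 : HomotopyCategory.quasiIso A (ComplexShape.up ℤ) ((HomotopyCategory.quotient _ _).map g) :=
    (HomotopyCategory.quotient_map_mem_quasiIso_iff g).2 (by rw [HomologicalComplex.mem_quasiIso_iff]; exact hα p)
  rw [HomotopyCategory.quasiIso_eq_trW_subcategoryAcyclic] at h1
  replace h1 := ((HomotopyCategory.subcategoryAcyclic A).trW_iff_of_distinguished _
    (HomotopyCategory.mappingCone_triangleh_distinguished g)).1 h1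
  exact HomologicalComplex.ExactAt.of_iso
    ((HomotopyCategory.quotient_obj_mem_subcategoryAcyclic_iff_exactAt _).1 h1 n)
    (mappingCone.mapHomologicalComplexIso α (FilD.grF A p)).symm

theorem bijective_precomp (I : CochainComplex (FilD.FilF A) ℤ)
    (a : ℤ) [I.IsStrictlyGE a] (hI : ∀ n, FilD.IsFilteredInjective (I.X n))
    {K L : CochainComplex (FilD.FilF A) ℤ} (α : K ⟶ L) (hα : FilD.IsFilteredQuasiIso α) :
    Function.Bijective (fun β : (HomotopyCategory.quotient (FilD.FilF A) (ComplexShape.up ℤ)).obj L ⟶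
        (HomotopyCategory.quotient (FilD.FilF A) (ComplexShape.up ℤ)).obj I =>
      (HomotopyCategory.quotient (FilD.FilF A) (ComplexShape.up ℤ)).map α ≫ β) := by
  let q := HomotopyCategory.quotient (FilD.FilF A) (ComplexShape.up ℤ)
  let T := mappingCone.triangleh α
  have hT : T ∈ distTriang (HomotopyCategory (FilD.FilF A) (ComplexShape.up ℤ)) :=
    HomotopyCategory.mappingCone_triangleh_distinguished α
  have hC := cone_acyclic α hα
  haveI : (I⟦(1 : ℤ)⟧).IsStrictlyGE (a - 1) := I.isStrictlyGE_shift a 1 (a - 1) (by omega)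
  have hI1 : ∀ n, FilD.IsFilteredInjective ((I⟦(1 : ℤ)⟧).X n) := fun n => hI (n + 1)
  constructor
  · intro β β' h
    rw [← sub_eq_zero]
    obtain ⟨γ, hγ⟩ : ∃ γ : q.obj (mappingCone α) ⟶ q.obj I, β - β' = T.mor₂ ≫ γ :=
      Triangle.yoneda_exact₂ T hT (β - β') (by
        change q.map α ≫ (β - β') = 0
        rw [comp_sub, sub_eq_zero]; exact h)
    rw [hγ, hom_eq_zero _ I hC a hI γ]
    exact comp_zero
  · intro β
    have h1 : ∀ γ : (T.obj₃)⟦(-1 : ℤ)⟧ ⟶ q.obj I, γ = 0 := fun γ => by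
      apply (CategoryTheory.shiftFunctor (HomotopyCategory (FilD.FilF A) (ComplexShape.up ℤ)) (1 : ℤ)).map_injective
      rw [Functor.map_zero]
      have e1 := (shiftFunctorCompIsoId (HomotopyCategory (FilD.FilF A) (ComplexShape.up ℤ)) (-1 : ℤ) 1 (by norm_num)).app T.obj₃
      have e2 : (q.obj I)⟦(1 : ℤ)⟧ ≅ q.obj (I⟦(1 : ℤ)⟧) := ((q.commShiftIso (1 : ℤ)).app I).symm
      rw [← cancel_epi e1.inv, ← cancel_mono e2.hom, comp_zero, zero_comp]
      exact hom_eq_zero (mappingCone α) (I⟦(1 : ℤ)⟧) hC (a - 1) hI1 _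
    obtain ⟨γ, hγ⟩ : ∃ γ : q.obj L ⟶ q.obj I, β = q.map α ≫ γ :=
      Triangle.yoneda_exact₂ T.invRotate (inv_rot_of_distTriang T hT) β (h1 _)
    exact ⟨γ, hγ.symm⟩

/-- lifting of resolutions -/
theorem exists_map {X Y : FilD.FilF A} (f : X ⟶ Y)
    (I : CochainComplex (FilD.FilF A) ℤ)
    (a : (CochainComplex.singleFunctor (FilD.FilF A) 0).obj X ⟶ I) (ha : FilD.IsFilteredQuasiIso a)
    (J : CochainComplex (FilD.FilF A) ℤ) [J.IsStrictlyGE 0] (hJ : ∀ n, FilD.IsFilteredInjective (J.X n))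
    (b : (CochainComplex.singleFunctor (FilD.FilF A) 0).obj Y ⟶ J) :
    ∃ φ : I ⟶ J, a ≫ φ = (CochainComplex.singleFunctor (FilD.FilF A) 0).map f ≫ b := by
  let g := (CochainComplex.singleFunctor (FilD.FilF A) 0).map f ≫ b
  obtain ⟨β, hβ⟩ := (bijective_precomp J 0 hJ a ha).2 ((HomotopyCategory.quotient _ _).map g)
  obtain ⟨φ, rfl⟩ := (HomotopyCategory.quotient _ _).map_surjective β
  simp only [← Functor.map_comp] at hβ
  let h := HomotopyCategory.homotopyOfEq _ _ hβ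
  refine ⟨φ, HomologicalComplex.from_single_hom_ext ?_⟩
  have hc := h.comm 0
  rw [dNext_eq h.hom (show (ComplexShape.up ℤ).Rel 0 1 by simp), prevD_eq h.hom (show (ComplexShape.up ℤ).Rel (-1) 0 by simp),
    (J.isZero_of_isStrictlyGE 0 (-1) (by omega)).eq_of_tgt (h.hom 0 (-1)) 0, zero_comp, add_zero] at hc
  have hd : ((CochainComplex.singleFunctor (FilD.FilF A) 0).obj X).d 0 1 = 0 := HomologicalComplex.single_obj_d _ _ _ _ _
  rw [hd, zero_comp, zero_add] at hc
  exact hc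

end Groth.Agent.H5FilHom
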