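import Groth.Agent.Lib.H5FilStrict

universe v u
namespace Groth.Agent.H5FilInj
open CategoryTheory Limits Opposite Groth.Agent.H5FilStrict

variable {A : Type u} [Category.{v} A] [Abelian A]

instance : (FilD.IsFinFil A).IsClosedUnderIsomorphisms where
  of_iso {F G} e h := by
    obtain ⟨h1, ⟨b, h2⟩, ⟨a, h3⟩⟩ := h
    have key : ∀ ⦃p q : ℤᵒᵖ⦄ (f : p ⟶ q), G.map f = e.inv.app p ≫ F.map f ≫ e.hom.app q := fun p q f => by
      rw [e.hom.naturality f, ← Category.assoc, ← NatTrans.comp_app, e.inv_hom_id, NatTrans.id_app, Category.id_comp]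
    refine ⟨fun p q f => ?_, ⟨b, fun p hp => IsZero.of_iso (h2 p hp) (e.app _).symm⟩, ⟨a, fun p q f hp => ?_⟩⟩
    · haveI := h1 f; rw [key f]; infer_instance
    · haveI := h3 f hp; rw [key f]; infer_instance

lemma closed_fin (J : Type) [Finite J] : (FilD.IsFinFil A).IsClosedUnderLimitsOfShape (Discrete J) := by
  refine ObjectProperty.IsClosedUnderLimitsOfShape.mk' ?_
  rintro _ ⟨F, hF⟩
  haveI := Fintype.ofFinite J
  have hext : ∀ (p : ℤᵒᵖ) {W : A} (x y : W ⟶ (limit F).obj p),
      (∀ j, x ≫ (limit.π F j).app p = y ≫ (limit.π F j).app p) → x = y := fun p W x y h =>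
    (isLimitOfPreserves ((evaluation ℤᵒᵖ A).obj p) (limit.isLimit F)).hom_ext h
  have hm := fun j => (hF j).1
  choose b hb using fun j => (hF j).2.1
  choose a ha using fun j => (hF j).2.2
  have hmono : ∀ ⦃p q : ℤᵒᵖ⦄ (f : p ⟶ q), Mono ((limit F).map f) := fun p q f =>
    ⟨fun x y hxy => hext p x y fun j => by
      haveI := hm j f
      rw [← cancel_mono ((F.obj j).map f), Category.assoc, Category.assoc, ← NatTrans.naturality,
        ← Category.assoc, hxy, Category.assoc]⟩
  refine ⟨hmono, ⟨Finset.univ.sum (fun j : J => |b ⟨j⟩|), fun p hp => ?_⟩,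
    ⟨- Finset.univ.sum (fun j : J => |a ⟨j⟩|), fun p q f hp => ?_⟩⟩
  · refine (IsZero.iff_id_eq_zero _).2 (hext _ _ _ fun j => (hb j p ?_).eq_of_tgt _ _)
    have := Finset.single_le_sum (f := fun j : J => |b ⟨j⟩|) (fun i _ => abs_nonneg _) (Finset.mem_univ j.as)
    have := le_abs_self (b j)
    linarith
  · have hi : ∀ j, IsIso ((F.obj j).map f) := fun j => ha j f (by
      have := Finset.single_le_sum (f := fun j : J => |a ⟨j⟩|) (fun i _ => abs_nonneg _) (Finset.mem_univ j.as)
      have := neg_abs_le (a j)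
      linarith)
    let hlim := isLimitOfPreserves ((evaluation ℤᵒᵖ A).obj p) (limit.isLimit F)
    let c : Cone (F ⋙ (evaluation ℤᵒᵖ A).obj p) :=
      { pt := (limit F).obj q
        π := Discrete.natTrans fun j => (limit.π F j).app q ≫ @inv _ _ _ _ ((F.obj j).map f) (hi j) }
    have hs : hlim.lift c ≫ (limit F).map f = 𝟙 _ := hext _ _ _ fun j => by
      haveI := hi j
      have h1 : hlim.lift c ≫ (limit.π F j).app p = (limit.π F j).app q ≫ inv ((F.obj j).map f) := hlim.fac c j
      rw [Category.assoc, NatTrans.naturality, ← Category.assoc, h1, Category.assoc, IsIso.inv_hom_id,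
        Category.comp_id, Category.id_comp]
    haveI := hmono f
    haveI : Epi ((limit F).map f) := (SplitEpi.mk _ hs).epi
    exact isIso_of_mono_of_epi _

instance : (FilD.IsFinFil A).IsClosedUnderFiniteProducts where
  isClosedUnderLimitsOfShape J _ := closed_fin J

instance : HasFiniteBiproducts (FilD.FilF A) := HasFiniteBiproducts.of_hasFiniteProducts
instance : HasBinaryBiproducts (FilD.FilF A) := hasBinaryBiproducts_of_finite_biproducts _

/-- filtered injectives have injective steps -/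
lemma injective_obj (I : FilD.FilF A) (hI : FilD.IsFilteredInjective I) (p : ℤ) : Injective (I.obj.obj (op p)) := by
  obtain ⟨b, hb⟩ := I.property.2.1
  suffices ∀ (k : ℕ) (p : ℤ), b ≤ p + k → Injective (I.obj.obj (op p)) from this (b - p).toNat p (by omega)
  intro k
  induction k with
  | zero => intro p hp; exact (hb p (by simpa using hp)).injective
  | succ k ih =>
    intro p hp
    haveI := ih (p + 1) (by push_cast at hp; omega)
    haveI := I.property.1 (FilD.stepHom p)
    haveI : Injective (cokernel (I.obj.map (FilD.stepHom p))) := hI p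
    let S := ShortComplex.mk (I.obj.map (FilD.stepHom p)) (cokernel.π (I.obj.map (FilD.stepHom p))) (cokernel.condition _)
    let σ := ShortComplex.Splitting.ofExactOfRetraction S (ShortComplex.exact_cokernel _)
      (Injective.factorThru (𝟙 _) (I.obj.map (FilD.stepHom p))) (Injective.comp_factorThru _ _) inferInstance
    exact ⟨fun {X Y} g f _ => ⟨Injective.factorThru (g ≫ σ.r) f ≫ S.f + Injective.factorThru (g ≫ S.g) f ≫ σ.s, by
      rw [Preadditive.comp_add, Injective.comp_factorThru_assoc, Injective.comp_factorThru_assoc,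
        Category.assoc, Category.assoc, ← Preadditive.comp_add, σ.id, Category.comp_id]⟩⟩

/-- extension to the target of a graded exact sequence -/
theorem desc_of_grExact (S : ShortComplex (FilD.FilF A)) (hS : ∀ p : ℤ, (S.map (FilD.grF A p)).Exact)
    (I : FilD.FilF A) (hI : FilD.IsFilteredInjective I) (u : S.X₂ ⟶ I) (hu : S.f ≫ u = 0) :
    ∃ β : S.X₃ ⟶ I, S.g ≫ β = u := by
  obtain ⟨b, hb⟩ := I.property.2.1
  obtain ⟨hlift, -, hstr⟩ := main1 S hS
  rw [isStrict_iff] at hstr
  have w : ∀ p, S.f.hom.app (op p) ≫ u.hom.app (op p) = 0 := fun p => congr_app (congrArg (fun t => t.hom) hu) (op p)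
  have step : ∀ (p : ℤ) (β : S.X₃.obj.obj (op (p + 1)) ⟶ I.obj.obj (op (p + 1))),
      S.g.hom.app _ ≫ β = u.hom.app _ → ∃ β' : S.X₃.obj.obj (op p) ⟶ I.obj.obj (op p),
        S.g.hom.app _ ≫ β' = u.hom.app _ ∧
          tr S.X₃.obj (Int.le_add_one le_rfl : p ≤ p + 1) ≫ β' = β ≫ tr I.obj (Int.le_add_one le_rfl : p ≤ p + 1) := by
    intro p β hβ
    haveI := injective_obj I hI p
    let h : p ≤ p + 1 := Int.le_add_one le_rfl
    haveI := S.X₃.property.1 (homOfLE h).op
    let μ : S.X₂.obj.obj (op p) ⊞ S.X₃.obj.obj (op (p + 1)) ⟶ S.X₃.obj.obj (op p) :=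
      biprod.desc (S.g.hom.app _) (tr S.X₃.obj h)
    let ρ : S.X₂.obj.obj (op p) ⊞ S.X₃.obj.obj (op (p + 1)) ⟶ I.obj.obj (op p) :=
      biprod.desc (u.hom.app _) (β ≫ tr I.obj h)
    have key : kernel.ι μ ≫ ρ = 0 := by
      let k := kernel.ι μ
      obtain ⟨y, z, hk⟩ : ∃ (y : kernel μ ⟶ _) (z : kernel μ ⟶ _), k = y ≫ biprod.inl + z ≫ biprod.inr :=
        ⟨k ≫ biprod.fst, k ≫ biprod.snd, by
          simp only [Category.assoc, ← Preadditive.comp_add, biprod.total, Category.comp_id]⟩
      have h0 : y ≫ S.g.hom.app _ + z ≫ tr S.X₃.obj h = 0 := by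
        have h' := kernel.condition μ
        change k ≫ μ = 0 at h'
        rw [hk] at h'
        simpa [μ] using h'
      change k ≫ ρ = 0
      rw [hk]
      simp only [ρ, Preadditive.add_comp, Category.assoc, biprod.inl_desc, biprod.inr_desc]
      obtain ⟨W, π, _, y', hy'⟩ := hstr p (p + 1) h y (-z) (by
        rw [Preadditive.neg_comp]; exact eq_neg_of_add_eq_zero_left h0)
      have hd : (π ≫ y - y' ≫ tr S.X₂.obj h) ≫ S.g.hom.app (op p) = 0 := by
        rw [Preadditive.sub_comp, Category.assoc, Category.assoc, hy', sub_self]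
      obtain ⟨W', π', _, x, hx⟩ : ∃ (W' : A) (π' : W' ⟶ W) (_ : Epi π') (x : W' ⟶ S.X₁.obj.obj (op p)),
          π' ≫ (π ≫ y - y' ≫ tr S.X₂.obj h) = x ≫ S.f.hom.app (op p) :=
        (hlift p).exact_up_to_refinements _ hd
      have e1 : y' ≫ S.g.hom.app (op (p + 1)) = π ≫ (-z) := by
        rw [← cancel_mono (tr S.X₃.obj h), Category.assoc, ← tr_nat, ← hy', Category.assoc, Preadditive.neg_comp,
          ← eq_neg_of_add_eq_zero_left h0]
      have e2 : π' ≫ π ≫ y ≫ u.hom.app (op p) = π' ≫ π ≫ (-z) ≫ β ≫ tr I.obj h := by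
        have := congrArg (fun t => t ≫ u.hom.app (op p)) hx
        simp only [Category.assoc, w, comp_zero, Preadditive.sub_comp, Preadditive.comp_sub, sub_eq_zero] at this
        rw [this, tr_nat u.hom h, ← hβ, ← Category.assoc y', ← Category.assoc y', e1]
        simp only [Category.assoc]
      rw [← cancel_epi (π' ≫ π), comp_zero]
      simp only [Category.assoc, Preadditive.comp_add, e2]
      simp only [Preadditive.neg_comp, Preadditive.comp_neg, neg_add_cancel]
    have hex : (ShortComplex.mk (kernel.ι μ) μ (kernel.condition μ)).Exact :=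
      ShortComplex.exact_of_f_is_kernel _ (kernelIsKernel μ)
    let β' : S.X₃.obj.obj (op p) ⟶ I.obj.obj (op p) := hex.descToInjective ρ key
    have hβ' : μ ≫ β' = ρ := hex.comp_descToInjective ρ key
    refine ⟨β', ?_, ?_⟩
    · simpa [μ, ρ] using congrArg (fun t => biprod.inl ≫ t) hβ'
    · simpa [μ, ρ] using congrArg (fun t => biprod.inr ≫ t) hβ'
  let T (p : ℤ) := { β : S.X₃.obj.obj (op p) ⟶ I.obj.obj (op p) // S.g.hom.app _ ≫ β = u.hom.app _ }
  let top : ∀ p, b ≤ p → T p := fun p hp => ⟨0, (hb p hp).eq_of_tgt _ _⟩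
  have fam : ∀ k : ℕ, ∀ p : ℤ, b ≤ p + k → ∃ F : ∀ q, p ≤ q → T q, ∀ q (hq : p ≤ q),
      tr S.X₃.obj (Int.le_add_one le_rfl : q ≤ q + 1) ≫ (F q hq).1 =
        (F (q + 1) (by omega)).1 ≫ tr I.obj (Int.le_add_one le_rfl : q ≤ q + 1) := by
    intro k
    induction k with
    | zero =>
      intro p hp
      refine ⟨fun q hq => top q (by simp at hp; omega), fun q hq => ?_⟩
      simp [top]
    | succ k ih =>
      intro p hp
      obtain ⟨F, hF⟩ := ih (p + 1) (by push_cast at hp; omega)
      obtain ⟨β', h1, h2⟩ := step p (F (p + 1) le_rfl).1 (F (p + 1) le_rfl).2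
      refine ⟨fun q hq => if hqp : q = p then hqp ▸ ⟨β', h1⟩ else F q (by omega), fun q hq => ?_⟩
      by_cases hqp : q = p
      · subst hqp
        simp only [↓reduceDIte, show ¬ (q + 1 = q) by omega]
        exact h2
      · simp only [dif_neg hqp, dif_neg (show ¬ (q + 1 = p) by omega)]
        exact hF q _
  obtain ⟨a3, ha3⟩ := S.X₃.property.2.2
  obtain ⟨a2, ha2⟩ := S.X₂.property.2.2
  let a := min a2 a3
  obtain ⟨F, hF⟩ := fam (b - a).toNat a (by omega)
  -- extend below `a`
  have hiso : ∀ {p q : ℤ} (hp : p ≤ q), q ≤ a → IsIso (tr S.X₃.obj hp) := fun hp hq => ha3 _ (hq.trans (min_le_right _ _))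
  have hiso2 : ∀ {p : ℤ} (hp : p ≤ a), IsIso (tr S.X₂.obj hp) := fun hp => ha2 _ (min_le_left _ _)
  let G : ∀ p : ℤ, S.X₃.obj.obj (op p) ⟶ I.obj.obj (op p) := fun p =>
    if hp : a ≤ p then (F p hp).1 else
      @inv _ _ _ _ (tr S.X₃.obj (le_of_not_ge hp)) (hiso _ le_rfl) ≫ (F a le_rfl).1 ≫ tr I.obj (le_of_not_ge hp)
  have hGlow : ∀ p (hp : p ≤ a), tr S.X₃.obj hp ≫ G p = (F a le_rfl).1 ≫ tr I.obj hp := fun p hp => by
    by_cases h : a ≤ p
    · obtain rfl : p = a := le_antisymm hp h
      simp only [G, dif_pos h, tr_self, Category.id_comp, Category.comp_id]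
    · simp only [G, dif_neg h]
      haveI := hiso hp le_rfl
      rw [← Category.assoc, IsIso.hom_inv_id, Category.id_comp]
  have hG : ∀ p : ℤ, tr S.X₃.obj (Int.le_add_one le_rfl : p ≤ p + 1) ≫ G p = G (p + 1) ≫ tr I.obj (Int.le_add_one le_rfl : p ≤ p + 1) := fun p => by
    by_cases h : a ≤ p
    · simp only [G, dif_pos h, dif_pos (show a ≤ p + 1 by omega)]
      exact hF p h
    · haveI := hiso (show p + 1 ≤ a by omega) le_rfl
      rw [← cancel_epi (tr S.X₃.obj (show p + 1 ≤ a by omega)), ← Category.assoc, tr_tr, hGlow p (by omega),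
        ← Category.assoc (tr S.X₃.obj _), hGlow (p + 1) (by omega), Category.assoc, tr_tr]
  have hnat : ∀ (k : ℕ) (p q : ℤ) (h : p ≤ q), q = p + k → tr S.X₃.obj h ≫ G p = G q ≫ tr I.obj h := by
    intro k
    induction k with
    | zero => intro p q h hq; obtain rfl : q = p := by simpa using hq
              simp [tr_self]
    | succ k ih =>
      intro p q h hq
      have h' : p + 1 ≤ q := by push_cast at hq; omega
      rw [← tr_tr S.X₃.obj (Int.le_add_one le_rfl : p ≤ p + 1) h', Category.assoc, hG, ← Category.assoc,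
        ih (p + 1) q h' (by push_cast at hq ⊢; omega), Category.assoc, tr_tr]
  have hgu : ∀ p, S.g.hom.app (op p) ≫ G p = u.hom.app (op p) := fun p => by
    by_cases h : a ≤ p
    · simp only [G, dif_pos h]; exact (F p h).2
    · haveI := hiso2 (le_of_not_ge h)
      rw [← cancel_epi (tr S.X₂.obj (le_of_not_ge h)), ← Category.assoc, tr_nat S.g.hom, Category.assoc, hGlow p (le_of_not_ge h),
        ← Category.assoc, (F a le_rfl).2, ← tr_nat u.hom]
  exact ⟨ObjectProperty.homMk { app := fun p => G p.unop, naturality := fun p q f => hnat (p.unop - q.unop).toNat q.unop p.unop (leOfHom f.unop) (by have := leOfHom f.unop; omega) },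
    ObjectProperty.hom_ext _ (NatTrans.ext (funext fun p => hgu p.unop))⟩

/-- kernels are finite filtered -/
lemma isFinFil_kernel {F G : FilD.FilF A} (φ : F ⟶ G) : FilD.IsFinFil A (kernel φ.hom) := by
  obtain ⟨b, hb⟩ := F.property.2.1
  obtain ⟨a, ha⟩ := F.property.2.2
  have hm : ∀ p, Mono ((kernel.ι φ.hom).app p) := fun p => (NatTrans.mono_iff_mono_app _).1 inferInstance p
  have hmono : ∀ ⦃p q : ℤᵒᵖ⦄ (f : p ⟶ q), Mono ((kernel φ.hom).map f) := fun p q f => by
    haveI := F.property.1 f
    haveI := hm p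
    haveI : Mono ((kernel φ.hom).map f ≫ (kernel.ι φ.hom).app q) := by rw [NatTrans.naturality]; infer_instance
    exact mono_of_mono _ ((kernel.ι φ.hom).app q)
  refine ⟨hmono, ⟨b, fun p hp => haveI := hm (op p); IsZero.of_mono ((kernel.ι φ.hom).app (op p)) (hb p hp)⟩, ⟨a, fun p q f hp => ?_⟩⟩
  haveI := hmono f
  haveI := ha f hp
  haveI := hm p
  haveI := hm q
  haveI := G.property.1 f
  have hex : ((ShortComplex.mk (kernel.ι φ.hom) φ.hom (kernel.condition _)).map ((evaluation ℤᵒᵖ A).obj p)).Exact :=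
    (ShortComplex.exact_of_f_is_kernel _ (kernelIsKernel φ.hom)).map _
  let k : (kernel φ.hom).obj q ⟶ F.obj.obj p := (kernel.ι φ.hom).app q ≫ inv (F.obj.map f)
  have hk : k ≫ φ.hom.app p = 0 := by
    rw [← cancel_mono (G.obj.map f), zero_comp, Category.assoc, ← φ.hom.naturality]
    simp only [k, Category.assoc, IsIso.inv_hom_id_assoc]
    exact congr_app (kernel.condition φ.hom) q
  haveI : Mono ((ShortComplex.mk (kernel.ι φ.hom) φ.hom (kernel.condition _)).map ((evaluation ℤᵒᵖ A).obj p)).f := hm p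
  obtain ⟨l, hl⟩ : ∃ l : (kernel φ.hom).obj q ⟶ (kernel φ.hom).obj p, l ≫ (kernel.ι φ.hom).app p = k :=
    ⟨hex.lift k hk, hex.lift_f k hk⟩
  haveI : Epi ((kernel φ.hom).map f) := (SplitEpi.mk l (by
    rw [← cancel_mono ((kernel.ι φ.hom).app q), Category.assoc, NatTrans.naturality, ← Category.assoc, hl]
    simp only [k, Category.assoc, IsIso.inv_hom_id, Category.comp_id, Category.id_comp])).epi
  exact isIso_of_mono_of_epi _

lemma kernel_ι_eq_zero {F G : FilD.FilF A} (φ : F ⟶ G) [Mono φ] : kernel.ι φ.hom = 0 := by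
  let k : (⟨kernel φ.hom, isFinFil_kernel φ⟩ : FilD.FilF A) ⟶ F := ObjectProperty.homMk (kernel.ι φ.hom)
  have h : k ≫ φ = 0 ≫ φ := by
    rw [zero_comp]; exact ObjectProperty.hom_ext _ (kernel.condition φ.hom)
  exact congrArg (fun t => t.hom) ((cancel_mono φ).1 h)

lemma mono_gr {F G : FilD.FilF A} (φ : F ⟶ G) [Mono φ] (hφ : FilD.IsStrict φ) (p : ℤ) :
    Mono ((FilD.grF A p).map φ) := by
  have h := ((main2 φ).1 hφ p)
  have h0 : ((ShortComplex.mk (kernel.ι φ.hom) φ.hom (kernel.condition φ.hom)).map (FilD.gr A p)).f = 0 := by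
    change (FilD.gr A p).map (kernel.ι φ.hom) = 0
    rw [kernel_ι_eq_zero φ, Functor.map_zero]
  exact h.mono_g h0

/-- extension along strict monomorphisms -/
theorem extend {F G I : FilD.FilF A} (φ : F ⟶ G) [Mono φ] (hφ : FilD.IsStrict φ)
    (hI : FilD.IsFilteredInjective I) (u : F ⟶ I) : ∃ r : G ⟶ I, φ ≫ r = u := by
  refine desc_of_grExact (ShortComplex.mk (0 : F ⟶ F) φ zero_comp) (fun p => ?_) I hI u zero_comp
  refine (ShortComplex.exact_iff_mono _ ?_).2 (mono_gr φ hφ p)
  exact (FilD.grF A p).map_zero F F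

lemma strict_of_mono_gr {F G : FilD.FilF A} (φ : F ⟶ G) (h : ∀ p, Mono ((FilD.grF A p).map φ)) :
    Mono φ ∧ FilD.IsStrict φ := by
  let S : ShortComplex (FilD.FilF A) := ShortComplex.mk (0 : F ⟶ F) φ zero_comp
  have hS : ∀ p, (S.map (FilD.grF A p)).Exact := fun p =>
    (ShortComplex.exact_iff_mono _ ((FilD.grF A p).map_zero F F)).2 (h p)
  obtain ⟨h1, -, h3⟩ := main1 S hS
  refine ⟨?_, h3⟩
  haveI : ∀ p : ℤᵒᵖ, Mono (φ.hom.app p) := fun p => (h1 p.unop).mono_g rfl
  haveI : Mono φ.hom := NatTrans.mono_of_mono_app _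
  exact (FilD.IsFinFil A).ι.mono_of_mono_map (f := φ) ‹Mono φ.hom›

open ZeroObject in
/-- an object in filtration degree `≤ n` -/
noncomputable def stepFun (E : A) (n : ℤ) : ℤᵒᵖ ⥤ A where
  obj p := if p.unop ≤ n then E else 0
  map {p q} f := if h : p.unop ≤ n then eqToHom (by rw [if_pos h, if_pos ((leOfHom f.unop).trans h)]) else 0
  map_id p := by
    split_ifs with h
    · simp
    · exact IsZero.eq_of_src (by rw [if_neg h]; exact isZero_zero A) _ _
  map_comp {p q r} f g := by
    by_cases h : p.unop ≤ n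
    · rw [dif_pos h, dif_pos h, dif_pos ((leOfHom f.unop).trans h), eqToHom_trans]
    · exact IsZero.eq_of_src (by rw [if_neg h]; exact isZero_zero A) _ _

lemma stepFun_zero (E : A) {n p : ℤ} (h : ¬ p ≤ n) : IsZero ((stepFun E n).obj (op p)) := by
  change IsZero (if p ≤ n then E else _)
  rw [if_neg h]
  exact isZero_zero A

lemma stepFun_iso (E : A) (n : ℤ) {p q : ℤᵒᵖ} (f : p ⟶ q) (h : p.unop ≤ n) : IsIso ((stepFun E n).map f) := by
  have e : (stepFun E n).map f = eqToHom (by
      change (if p.unop ≤ n then E else _) = (if q.unop ≤ n then E else _)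
      rw [if_pos h, if_pos ((leOfHom f.unop).trans h)]) := dif_pos h
  rw [e]
  infer_instance

/-- the step object -/
noncomputable def stepF (E : A) (n : ℤ) : FilD.FilF A :=
  ⟨stepFun E n, fun p q f => by
      by_cases h : p.unop ≤ n
      · haveI := stepFun_iso E n f h; infer_instance
      · exact ⟨fun a b _ => (stepFun_zero E h).eq_of_tgt a b⟩,
    ⟨n + 1, fun p hp => stepFun_zero E (by omega)⟩, ⟨n, fun p q f hp => stepFun_iso E n f hp⟩⟩

/-- evaluation -/
noncomputable def stepIso (E : A) {n p : ℤ} (h : p ≤ n) : (stepFun E n).obj (op p) ≅ E := eqToIso (if_pos h)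

lemma stepF_injective (E : A) [Injective E] (n : ℤ) : FilD.IsFilteredInjective (stepF E n) := by
  intro p
  change Injective (cokernel ((stepFun E n).map (FilD.stepHom p)))
  by_cases h : p + 1 ≤ n
  · haveI := stepFun_iso E n (FilD.stepHom p) h
    exact (isZero_cokernel_of_epi _).injective
  · by_cases hp : p ≤ n
    · have e := (cokernelIsoOfEq ((stepFun_zero E h).eq_of_src ((stepFun E n).map (FilD.stepHom p)) 0)) ≪≫ cokernelZeroIsoTarget ≪≫ stepIso E hp
      exact Injective.of_iso e.symm inferInstance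
    · exact (IsZero.of_epi (cokernel.π _) (stepFun_zero E hp)).injective

/-- maps into a step object -/
lemma exists_toStep (X : FilD.FilF A) (E : A) [Injective E] (n : ℤ) (e : X.obj.obj (op n) ⟶ E)
    (he : tr X.obj (Int.le_add_one le_rfl : n ≤ n + 1) ≫ e = 0) :
    ∃ u : X ⟶ stepF E n, u.hom.app (op n) ≫ (stepIso E le_rfl).hom = e := by
  obtain ⟨a, ha⟩ := X.property.2.2
  let m := min a n
  haveI := X.property.1 (homOfLE (min_le_right a n : m ≤ n)).op
  let e0 : X.obj.obj (op m) ⟶ E := Injective.factorThru e (tr X.obj (min_le_right a n : m ≤ n))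
  let c : ∀ p : ℤ, p ≤ n → (X.obj.obj (op p) ⟶ E) := fun p _ =>
    if h : m ≤ p then tr X.obj h ≫ e0 else
      @inv _ _ _ _ (tr X.obj (le_of_not_ge h)) (ha _ (min_le_left a n)) ≫ e0
  have hc : ∀ p q (h : p ≤ q) (hq : q ≤ n), tr X.obj h ≫ c p (h.trans hq) = c q hq := fun p q h hq => by
    by_cases hp : m ≤ p
    · simp only [c, dif_pos hp, dif_pos (hp.trans h)]
      rw [← Category.assoc, tr_tr]
    · haveI : IsIso (tr X.obj (le_of_not_ge hp)) := ha _ (min_le_left a n)
      by_cases hq' : m ≤ q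
      · simp only [c, dif_neg hp, dif_pos hq']
        rw [← tr_tr X.obj (le_of_not_ge hp) hq', Category.assoc, IsIso.hom_inv_id_assoc]
      · simp only [c, dif_neg hp, dif_neg hq']
        haveI : IsIso (tr X.obj (le_of_not_ge hq')) := ha _ (min_le_left a n)
        rw [IsIso.eq_inv_comp, ← Category.assoc, tr_tr, IsIso.hom_inv_id_assoc]
  let app : ∀ p : ℤ, X.obj.obj (op p) ⟶ (stepFun E n).obj (op p) := fun p =>
    if h : p ≤ n then c p h ≫ (stepIso E h).inv else 0
  have hcn : c n le_rfl = e := by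
    exact (dif_pos (min_le_right a n : m ≤ n)).trans (Injective.comp_factorThru e (tr X.obj (min_le_right a n : m ≤ n)))
  refine ⟨ObjectProperty.homMk { app := fun p => app p.unop, naturality := fun p q f => ?_ }, ?_⟩
  · obtain ⟨p⟩ := p
    obtain ⟨q⟩ := q
    have h : q ≤ p := leOfHom f.unop
    change tr X.obj h ≫ app q = app p ≫ (stepFun E n).map f
    by_cases hp : p ≤ n
    · have e1 : (stepIso E hp).inv ≫ (stepFun E n).map f = (stepIso E (h.trans hp)).inv := by
        have e2 : (stepFun E n).map f = eqToHom ((if_pos hp).trans (if_pos (h.trans hp)).symm) := dif_pos hp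
        rw [e2]
        exact eqToHom_trans (if_pos hp).symm _
      simp only [app, dif_pos hp, dif_pos (h.trans hp)]
      rw [← Category.assoc, hc q p h hp, Category.assoc, e1]
    · simp only [app, dif_neg hp, zero_comp]
      by_cases hq : q ≤ n
      · simp only [dif_pos hq]
        have h1 : n + 1 ≤ p := by omega
        rw [← Category.assoc, ← tr_tr X.obj (show q ≤ n by omega) (show n ≤ p by omega), Category.assoc (tr X.obj _),
          hc q n hq le_rfl, hcn, ← tr_tr X.obj (Int.le_add_one le_rfl : n ≤ n + 1) h1, Category.assoc (tr X.obj h1), he,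
          comp_zero, zero_comp]
      · simp only [dif_neg hq, comp_zero]
  · change app n ≫ _ = e
    simp only [app, dif_pos (le_refl n), Category.assoc, Iso.inv_hom_id, Category.comp_id, hcn]

/-- enough filtered injectives -/
theorem exists_embedding [EnoughInjectives A] (X : FilD.FilF A) :
    ∃ (I : FilD.FilF A) (u : X ⟶ I), FilD.IsFilteredInjective I ∧ Mono u ∧ FilD.IsStrict u := by
  obtain ⟨b, hb⟩ := X.property.2.1
  obtain ⟨a, ha⟩ := X.property.2.2
  let pos : Fin ((b - a).toNat + 1) → ℤ := fun i => a + i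
  let Q : ℤ → A := fun n => (FilD.gr A n).obj X.obj
  choose v hv using fun i => exists_toStep X (Injective.under (Q (pos i))) (pos i)
    (πgr X.obj (pos i) ≫ Injective.ι (Q (pos i)))
    (by rw [← Category.assoc]; exact (congrArg (fun t => t ≫ Injective.ι (Q (pos i))) (tr_π X.obj (pos i))).trans zero_comp)
  let T := fun i => stepF (Injective.under (Q (pos i))) (pos i)
  refine ⟨⨁ T, biproduct.lift v, fun p => ?_, strict_of_mono_gr _ fun p => ?_⟩
  · haveI : ∀ i, Injective (((FilD.grF A p).obj ∘ T) i) := fun i => stepF_injective _ _ p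
    haveI : Injective (⨁ ((FilD.grF A p).obj ∘ T)) := ⟨fun {U W} g k _ =>
      ⟨biproduct.lift fun i => Injective.factorThru (g ≫ biproduct.π _ i) k, biproduct.hom_ext _ _ fun i => by
        rw [Category.assoc, biproduct.lift_π, Injective.comp_factorThru]⟩⟩
    exact Injective.of_iso ((FilD.grF A p).mapBiproduct T).symm inferInstance
  · by_cases hp : a ≤ p ∧ p < b
    · obtain ⟨i, rfl⟩ : ∃ i, pos i = p := ⟨⟨(p - a).toNat, by omega⟩, by simp only [pos]; omega⟩
      haveI : Mono ((FilD.grF A (pos i)).map (v i)) := by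
        have hz : (stepFun (Injective.under (Q (pos i))) (pos i)).map (FilD.stepHom (pos i)) = 0 :=
          (stepFun_zero _ (by omega)).eq_of_src _ _
        let ρ : (FilD.grF A (pos i)).obj (T i) ⟶ Injective.under (Q (pos i)) :=
          cokernel.desc _ (stepIso _ le_rfl).hom (by
            change (stepFun (Injective.under (Q (pos i))) (pos i)).map (FilD.stepHom (pos i)) ≫ _ = 0
            rw [hz, zero_comp])
        have e : (FilD.grF A (pos i)).map (v i) ≫ ρ = Injective.ι (Q (pos i)) := by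
          refine (cancel_epi (πgr X.obj (pos i))).1 ?_
          refine (Category.assoc _ _ _).symm.trans ?_
          refine (congrArg (fun t => t ≫ ρ) (gr_π (v i).hom (pos i))).trans ?_
          refine (Category.assoc _ _ _).trans ?_
          refine (congrArg (fun t => (v i).hom.app (op (pos i)) ≫ t) (cokernel.π_desc _ _ _)).trans ?_
          exact hv i
        haveI : Mono ((FilD.grF A (pos i)).map (v i) ≫ ρ) := e ▸ (inferInstanceAs (Mono (Injective.ι ((FilD.gr A (pos i)).obj X.obj))))
        exact mono_of_mono _ ρ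
      haveI : Mono ((FilD.grF A (pos i)).map (biproduct.lift v) ≫ (FilD.grF A (pos i)).map (biproduct.π T i)) := by
        rw [← Functor.map_comp, biproduct.lift_π]; infer_instance
      exact mono_of_mono _ ((FilD.grF A (pos i)).map (biproduct.π T i))
    · have hz : IsZero ((FilD.grF A p).obj X) := by
        by_cases h : b ≤ p
        · exact IsZero.of_epi (πgr X.obj p) (hb p h)
        · haveI := ha (FilD.stepHom p) (show p + 1 ≤ a by omega)
          exact isZero_cokernel_of_epi (X.obj.map (FilD.stepHom p))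
      exact ⟨fun x y _ => hz.eq_of_tgt x y⟩

end Groth.Agent.H5FilInj
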