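import Groth.Agent.Lib.H5FilInj

universe v u
namespace Groth.Agent.H5FilRes
open CategoryTheory Limits Opposite ZeroObject Groth.Agent.H5FilStrict Groth.Agent.H5FilInj

variable {A : Type u} [Category.{v} A] [Abelian A]

instance : HasZeroObject (FilD.FilF A) := inferInstance

lemma isFinFil_cokernel {F G : FilD.FilF A} (φ : F ⟶ G) (h : ∀ p, Mono ((FilD.grF A p).map φ)) :
    FilD.IsFinFil A (cokernel φ.hom) := by
  obtain ⟨b, hb⟩ := G.property.2.1
  obtain ⟨a, ha⟩ := G.property.2.2
  obtain ⟨-, hs⟩ := strict_of_mono_gr φ h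
  have hst := (isStrict_iff φ).1 hs
  have hex : ∀ p, ((ShortComplex.mk φ.hom (cokernel.π φ.hom) (cokernel.condition _)).map ((evaluation ℤᵒᵖ A).obj p)).Exact :=
    fun p => (ShortComplex.exact_cokernel φ.hom).map _
  haveI hπ : ∀ p, Epi ((cokernel.π φ.hom).app p) := fun p => (NatTrans.epi_iff_epi_app _).1 inferInstance p
  have hmono : ∀ ⦃p q : ℤᵒᵖ⦄ (f : p ⟶ q), Mono ((cokernel φ.hom).map f) := fun p q f => by
    refine (Preadditive.mono_iff_cancel_zero _).2 fun W c hc => ?_
    haveI := G.property.1 f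
    obtain ⟨W1, π1, _, y, hy⟩ := surjective_up_to_refinements_of_epi ((cokernel.π φ.hom).app p) c
    have h0 : (y ≫ G.obj.map f) ≫ (cokernel.π φ.hom).app q = 0 := by
      rw [Category.assoc, NatTrans.naturality, ← Category.assoc, ← hy, Category.assoc, hc, comp_zero]
    obtain ⟨W2, π2, _, x, hx⟩ : ∃ (W2 : A) (π2 : W2 ⟶ W1) (_ : Epi π2) (x : W2 ⟶ F.obj.obj q),
        π2 ≫ y ≫ G.obj.map f = x ≫ φ.hom.app q := (hex q).exact_up_to_refinements _ h0
    obtain ⟨W3, π3, _, x', hx'⟩ := hst q.unop p.unop (leOfHom f.unop) x (π2 ≫ y)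
      (hx.symm.trans (Category.assoc _ _ _).symm)
    have e : π3 ≫ π2 ≫ y = x' ≫ φ.hom.app p := by
      rw [← cancel_mono (G.obj.map f), Category.assoc, Category.assoc, hx, Category.assoc, hx']
      exact congrArg (fun z => x' ≫ z) (φ.hom.naturality f)
    rw [← cancel_epi (π3 ≫ π2 ≫ π1), comp_zero, Category.assoc, Category.assoc, hy, ← Category.assoc π2,
      ← Category.assoc π3, e, Category.assoc]
    exact (congrArg (fun z => x' ≫ z) (congr_app (cokernel.condition φ.hom) p)).trans comp_zero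
  refine ⟨hmono, ⟨b, fun p hp => IsZero.of_epi ((cokernel.π φ.hom).app (op p)) (hb p hp)⟩, ⟨a, fun p q f hp => ?_⟩⟩
  haveI := hmono f
  haveI := ha f hp
  haveI : Epi ((cokernel φ.hom).map f) := by
    haveI : Epi ((cokernel.π φ.hom).app p ≫ (cokernel φ.hom).map f) := by rw [← NatTrans.naturality]; infer_instance
    exact epi_of_epi ((cokernel.π φ.hom).app p) _
  exact isIso_of_mono_of_epi _

/-- cokernels of strict monomorphisms -/
theorem exists_coker {F G : FilD.FilF A} (φ : F ⟶ G) (h : ∀ p, Mono ((FilD.grF A p).map φ)) :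
    ∃ (C : FilD.FilF A) (π : G ⟶ C) (w : φ ≫ π = 0), Epi π ∧
      (∀ p, ((ShortComplex.mk φ π w).map (FilD.grF A p)).ShortExact) ∧
      ∀ {T : FilD.FilF A} (g : G ⟶ T), φ ≫ g = 0 → ∃ g', π ≫ g' = g := by
  let C : FilD.FilF A := ⟨cokernel φ.hom, isFinFil_cokernel φ h⟩
  let π : G ⟶ C := ObjectProperty.homMk (cokernel.π φ.hom)
  have w : φ ≫ π = 0 := ObjectProperty.hom_ext _ (cokernel.condition φ.hom)
  haveI : ∀ p, Epi (π.hom.app p) := fun p => (NatTrans.epi_iff_epi_app (cokernel.π φ.hom)).1 inferInstance p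
  refine ⟨C, π, w, (FilD.IsFinFil A).ι.epi_of_epi_map (f := π) (inferInstanceAs (Epi (cokernel.π φ.hom))), fun p => ?_, fun g hg =>
    ⟨ObjectProperty.homMk (cokernel.desc φ.hom g.hom (congrArg (fun z => z.hom) hg)),
      ObjectProperty.hom_ext _ (cokernel.π_desc _ _ _)⟩⟩
  have hex : ∀ q, ((ShortComplex.mk φ.hom (cokernel.π φ.hom) (cokernel.condition _)).map ((evaluation ℤᵒᵖ A).obj q)).Exact :=
    fun q => (ShortComplex.exact_cokernel φ.hom).map _
  have hepi : Epi ((FilD.gr A p).map π.hom) := by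
    have e := gr_π π.hom p
    haveI : Epi (πgr G.obj p ≫ (FilD.gr A p).map π.hom) := by rw [e]; infer_instance
    exact epi_of_epi (πgr G.obj p) _
  refine ShortComplex.ShortExact.mk' ?_ (h p) hepi
  rw [ShortComplex.exact_iff_exact_up_to_refinements]
  intro W y hy
  change W ⟶ (FilD.gr A p).obj G.obj at y
  change y ≫ (FilD.gr A p).map π.hom = 0 at hy
  obtain ⟨W1, π1, _, x, hx⟩ := surjective_up_to_refinements_of_epi (πgr G.obj p) y
  have h1 : (x ≫ π.hom.app (op p)) ≫ πgr C.obj p = 0 := by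
    rw [Category.assoc, ← gr_π, ← Category.assoc, ← hx, Category.assoc, hy, comp_zero]
  obtain ⟨W2, π2, _, z, hz⟩ := π_lift C.obj p _ h1
  obtain ⟨W3, π3, _, z', hz'⟩ := surjective_up_to_refinements_of_epi (π.hom.app (op (p + 1))) z
  let e : W3 ⟶ G.obj.obj (op p) := π3 ≫ π2 ≫ x - z' ≫ tr G.obj (Int.le_add_one le_rfl : p ≤ p + 1)
  have he : e ≫ π.hom.app (op p) = 0 := by
    simp only [e, Preadditive.sub_comp, Category.assoc, hz, tr_nat]
    rw [← Category.assoc π3, hz', Category.assoc, sub_self]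
  obtain ⟨W4, π4, _, k, hk⟩ : ∃ (W4 : A) (π4 : W4 ⟶ W3) (_ : Epi π4) (k : W4 ⟶ F.obj.obj (op p)),
      π4 ≫ e = k ≫ φ.hom.app (op p) := (hex (op p)).exact_up_to_refinements e he
  refine ⟨W4, π4 ≫ π3 ≫ π2 ≫ π1, inferInstance, k ≫ πgr F.obj p, ?_⟩
  change (π4 ≫ π3 ≫ π2 ≫ π1) ≫ y = (k ≫ _) ≫ (FilD.gr A p).map φ.hom
  rw [Category.assoc k, gr_π, ← Category.assoc k, ← hk]
  simp only [e, Category.assoc, Preadditive.sub_comp, Preadditive.comp_sub, hx, tr_π, comp_zero, sub_zero]

variable [EnoughInjectives A] (K : CochainComplex (FilD.FilF A) ℤ)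

lemma exists_emb (X : FilD.FilF A) : ∃ (E : FilD.FilF A) (j : X ⟶ E),
    FilD.IsFilteredInjective E ∧ (∀ p, Mono ((FilD.grF A p).map j)) ∧ (IsZero X → IsZero E) := by
  by_cases hX : IsZero X
  · refine ⟨0, 0, fun p => ((FilD.grF A p).map_isZero (isZero_zero _)).injective,
      fun p => ⟨fun a b _ => ((FilD.grF A p).map_isZero hX).eq_of_tgt a b⟩, fun _ => isZero_zero _⟩
  · obtain ⟨E, j, h1, h2, h3⟩ := exists_embedding X
    exact ⟨E, j, h1, fun p => mono_gr j h3 p, fun h => absurd h hX⟩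

noncomputable def EO (X : FilD.FilF A) : FilD.FilF A := (exists_emb X).choose
noncomputable def ej (X : FilD.FilF A) : X ⟶ EO X := (exists_emb X).choose_spec.choose
lemma EO_inj (X : FilD.FilF A) : FilD.IsFilteredInjective (EO X) := (exists_emb X).choose_spec.choose_spec.1
lemma ej_mono (X : FilD.FilF A) (p : ℤ) : Mono ((FilD.grF A p).map (ej X)) := (exists_emb X).choose_spec.choose_spec.2.1 p
lemma EO_zero {X : FilD.FilF A} (h : IsZero X) : IsZero (EO X) := (exists_emb X).choose_spec.choose_spec.2.2 h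

/-- a node of the resolution -/
structure Nd (n : ℤ) where
  W : FilD.FilF A
  k : W ⟶ K.X (n + 1)
  hk : k ≫ K.d (n + 1) (n + 2) = 0

/-- the relation between consecutive nodes -/
def Rel {n n' : ℤ} (h : n + 1 = n') (x : Nd K n) (y : Nd K n') : Prop :=
  ∃ (π : K.X n' ⊞ EO x.W ⟶ y.W) (w : biprod.lift (-(x.k ≫ eqToHom (by rw [h]))) (ej x.W) ≫ π = 0),
    (∀ p, ((ShortComplex.mk _ π w).map (FilD.grF A p)).ShortExact) ∧
    biprod.inl ≫ π ≫ y.k = K.d n' (n' + 1) ∧ biprod.inr ≫ π ≫ y.k = 0

lemma exists_next {n n' : ℤ} (h : n + 1 = n') (x : Nd K n) : ∃ y : Nd K n', Rel K h x y := by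
  subst h
  let u : x.W ⟶ K.X (n + 1) ⊞ EO x.W := biprod.lift (-(x.k ≫ eqToHom rfl)) (ej x.W)
  have hm : ∀ p, Mono ((FilD.grF A p).map u) := fun p => by
    haveI : Mono ((FilD.grF A p).map u ≫ (FilD.grF A p).map biprod.snd) := by
      rw [← Functor.map_comp, biprod.lift_snd]; exact ej_mono x.W p
    exact mono_of_mono _ ((FilD.grF A p).map biprod.snd)
  obtain ⟨C, π, w, hπe, hse, hdesc⟩ := exists_coker u hm
  obtain ⟨g, hg⟩ := hdesc (biprod.desc (K.d (n + 1) (n + 1 + 1)) 0) (by
    rw [biprod.lift_desc]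
    have : x.k ≫ K.d (n + 1) (n + 1 + 1) = 0 := by
      have := x.hk
      rwa [show n + 1 + 1 = n + 2 by ring]
    simp [this])
  haveI := hπe
  have hgd : g ≫ K.d (n + 1 + 1) (n + 1 + 2) = 0 := by
    rw [← cancel_epi π, ← Category.assoc, hg, comp_zero]
    apply biprod.hom_ext' <;> simp
  refine ⟨⟨C, g, hgd⟩, π, w, hse, ?_, ?_⟩
  · rw [hg, biprod.inl_desc]
  · rw [hg, biprod.inr_desc]

/-- the zero node -/
noncomputable def zeroNd (n : ℤ) : Nd K n := ⟨0, 0, zero_comp⟩

variable (a : ℤ)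

/-- the nodes -/
noncomputable def node (n : ℤ) : Nd K n :=
  if h : n < a then zeroNd K n
  else (exists_next K (show n - 1 + 1 = n by omega) (node (n - 1))).choose
termination_by (n - a + 1).toNat
decreasing_by omega

lemma node_zero {n : ℤ} (h : n < a) : IsZero (node K a n).W := by
  rw [node, dif_pos h]
  exact isZero_zero _

lemma isZero_biprod {X Y : FilD.FilF A} (hX : IsZero X) (hY : IsZero Y) : IsZero (X ⊞ Y) :=
  (IsZero.iff_id_eq_zero _).2 (biprod.hom_ext _ _ (hX.eq_of_tgt _ _) (hY.eq_of_tgt _ _))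

lemma node_rel [K.IsStrictlyGE a] {n n' : ℤ} (h : n + 1 = n') : Rel K h (node K a n) (node K a n') := by
  subst h
  by_cases h' : n + 1 < a
  · have hz : IsZero (K.X (n + 1) ⊞ EO (node K a n).W) :=
      isZero_biprod (K.isZero_of_isStrictlyGE a _ h') (EO_zero (node_zero K a (by omega)))
    have hz1 := node_zero K a (show n < a by omega)
    have hz3 := node_zero K a h'
    refine ⟨0, comp_zero, fun p => ?_, (K.isZero_of_isStrictlyGE a _ h').eq_of_src _ _, (EO_zero hz1).eq_of_src _ _⟩
    refine ShortComplex.ShortExact.mk' ?_ ?_ ?_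
    · exact ShortComplex.exact_of_isZero_X₂ _ ((FilD.grF A p).map_isZero hz)
    · exact ⟨fun a b _ => ((FilD.grF A p).map_isZero hz1).eq_of_tgt a b⟩
    · exact ⟨fun a b _ => ((FilD.grF A p).map_isZero hz3).eq_of_src a b⟩
  · have e : n + 1 - 1 = n := by omega
    rw [show node K a (n + 1) = (exists_next K (show n + 1 - 1 + 1 = n + 1 by omega) (node K a (n + 1 - 1))).choose by
      rw [node, dif_neg h']]
    have := (exists_next K (show n + 1 - 1 + 1 = n + 1 by omega) (node K a (n + 1 - 1))).choose_spec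
    revert this
    generalize (exists_next K (show n + 1 - 1 + 1 = n + 1 by omega) (node K a (n + 1 - 1))).choose = y
    intro hy
    have key : ∀ (m : ℤ) (hm : m + 1 = n + 1), Rel K hm (node K a m) y → Rel K (rfl : n + 1 = n + 1) (node K a n) y := by
      intro m hm
      obtain rfl : m = n := by omega
      exact id
    exact key _ _ hy

theorem exists_resolution [K.IsStrictlyGE a] :
    ∃ (I : CochainComplex (FilD.FilF A) ℤ) (φ : K ⟶ I), I.IsStrictlyGE a ∧ (∀ n, FilD.IsFilteredInjective (I.X n)) ∧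
      FilD.IsFilteredQuasiIso φ ∧ ∀ n, Mono (φ.f n) ∧ FilD.IsStrict (φ.f n) := by
  choose π w hse hinl hinr using fun n : ℤ => node_rel K a (n := n) (n' := n + 1) rfl
  have w' : ∀ n, (node K a n).k ≫ biprod.inl ≫ π n = ej (node K a n).W ≫ biprod.inr ≫ π n := fun n => by
    have h := w n
    rw [biprod.lift_eq, Preadditive.add_comp, Preadditive.neg_comp, Preadditive.neg_comp, neg_add_eq_zero] at h
    simpa using h
  let ι : ∀ n, K.X (n + 1) ⟶ (node K a (n + 1)).W := fun n => biprod.inl ≫ π n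
  let dI : ∀ n, EO (node K a n).W ⟶ EO (node K a (n + 1)).W := fun n => biprod.inr ≫ π n ≫ ej _
  have hdd : ∀ n, dI n ≫ dI (n + 1) = 0 := fun n => by
    simp only [dI, Category.assoc]
    rw [← reassoc_of% (w' (n + 1))]
    simp only [reassoc_of% (hinr n), zero_comp]
  let I : CochainComplex (FilD.FilF A) ℤ := CochainComplex.of (fun n => EO (node K a n).W) dI hdd
  have hιk : ∀ n, ι n ≫ (node K a (n + 1)).k = K.d (n + 1) (n + 1 + 1) := fun n => by
    rw [Category.assoc, hinl n]
  let φ' : ∀ n, K.X (n + 1) ⟶ I.X (n + 1) := fun n => ι n ≫ ej _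
  have hcomm : ∀ n, φ' n ≫ I.d (n + 1) (n + 1 + 1) = K.d (n + 1) (n + 1 + 1) ≫ φ' (n + 1) := fun n => by
    rw [show I.d (n + 1) (n + 1 + 1) = dI (n + 1) from CochainComplex.of_d _ dI _]
    simp only [φ', dI, ← hιk, ι, Category.assoc, reassoc_of% (w' (n + 1))]
  let φf : ∀ m, K.X m ⟶ I.X m := fun m =>
    (K.XIsoOfEq (show m = m - 1 + 1 by omega)).hom ≫ φ' (m - 1) ≫ (I.XIsoOfEq (show m - 1 + 1 = m by omega)).hom
  have hφf : ∀ n, φf (n + 1) = φ' n := fun n => by
    have key : ∀ (m : ℤ) (hm : m + 1 = n + 1) (h1 : n + 1 = m + 1),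
        (K.XIsoOfEq h1).hom ≫ φ' m ≫ (I.XIsoOfEq hm).hom = φ' n := by
      intro m hm h1
      obtain rfl : m = n := by omega
      simp [HomologicalComplex.XIsoOfEq]
    exact key _ _ _
  let φ : K ⟶ I :=
    { f := φf
      comm' := fun i j hij => by
        obtain rfl : i + 1 = j := hij
        obtain ⟨n, rfl⟩ : ∃ n, i = n + 1 := ⟨i - 1, by omega⟩
        rw [hφf, hφf]
        exact hcomm n }
  have hmono : ∀ n p, Mono ((FilD.grF A p).map (φ.f (n + 1))) := fun n p => by
    change Mono ((FilD.grF A p).map (φf (n + 1)))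
    rw [hφf]
    haveI := ej_mono (node K a (n + 1)).W p
    haveI : Mono ((FilD.grF A p).map (ι n)) := by
      refine (Preadditive.mono_iff_cancel_zero _).2 fun T x hx => ?_
      simp only [ι, Functor.map_comp, ← Category.assoc] at hx
      obtain ⟨T', q, _, z, hz⟩ : ∃ (T' : A) (q : T' ⟶ T) (_ : Epi q) (z : T' ⟶ (FilD.grF A p).obj (node K a n).W),
          q ≫ x ≫ (FilD.grF A p).map biprod.inl =
            z ≫ (FilD.grF A p).map (biprod.lift (-((node K a n).k ≫ eqToHom rfl)) (ej (node K a n).W)) :=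
        (hse n p).exact.exact_up_to_refinements _ hx
      have h2 := congrArg (fun t => t ≫ (FilD.grF A p).map biprod.snd) hz
      simp only [Category.assoc, ← Functor.map_comp, biprod.inl_snd, biprod.lift_snd, Functor.map_zero, comp_zero] at h2
      haveI := ej_mono (node K a n).W p
      have hz0 : z = 0 := by rw [← cancel_mono ((FilD.grF A p).map (ej (node K a n).W)), zero_comp, ← h2]
      have h3 := congrArg (fun t => t ≫ (FilD.grF A p).map biprod.fst) hz
      simp only [hz0, zero_comp, Category.assoc, ← Functor.map_comp, biprod.inl_fst, CategoryTheory.Functor.map_id, Category.comp_id] at h3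
      rw [← cancel_epi q, comp_zero, h3]
    rw [show φ' n = ι n ≫ ej _ from rfl, Functor.map_comp]
    exact mono_comp _ _
  refine ⟨I, φ, (CochainComplex.isStrictlyGE_iff _ _).2 fun i hi => EO_zero (node_zero K a hi), fun n => EO_inj _, fun p => ?_, fun n => ?_⟩
  · refine ⟨fun m => ?_⟩
    obtain ⟨n', rfl⟩ : ∃ n', m = n' + 1 := ⟨m - 1, by omega⟩
    obtain ⟨n, rfl⟩ : ∃ n, n' = n + 1 := ⟨n' - 1, by omega⟩
    let G := FilD.grF A p
    rw [quasiIsoAt_iff' _ (n + 1) (n + 1 + 1) (n + 1 + 1 + 1) (by simp) (by simp)]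
    let S := (HomologicalComplex.shortComplexFunctor' A (ComplexShape.up ℤ) (n + 1) (n + 1 + 1) (n + 1 + 1 + 1)).map ((FilD.grCx p).map φ)
    have e1 : G.map (φ.f (n + 1 + 1)) = G.map (biprod.inl ≫ π (n + 1) ≫ ej _) := congrArg G.map ((hφf (n + 1)).trans (Category.assoc _ _ _))
    have edI : ∀ i, I.d i (i + 1) = dI i := fun i => CochainComplex.of_d _ dI i
    have dec : ∀ {T : A} (y : T ⟶ G.obj (K.X (n + 1) ⊞ EO (node K a n).W)),
        y = (y ≫ G.map biprod.fst) ≫ G.map biprod.inl + (y ≫ G.map biprod.snd) ≫ G.map biprod.inr := fun y => by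
      simp only [Category.assoc, ← Preadditive.comp_add, ← Functor.map_comp, ← Functor.map_add, biprod.total,
        CategoryTheory.Functor.map_id, Category.comp_id]
    have hk1 : ∀ {T : A} (y : T ⟶ G.obj (K.X (n + 1) ⊞ EO (node K a n).W)),
        y ≫ G.map (π n) ≫ G.map (node K a (n + 1)).k = (y ≫ G.map biprod.fst) ≫ G.map (K.d (n + 1) (n + 1 + 1)) := fun y => by
      conv_lhs => rw [dec y]
      simp only [Preadditive.add_comp, Category.assoc, ← Functor.map_comp, hinl n, hinr n, Functor.map_zero, comp_zero, add_zero]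
    -- lifting along the exact sequences
    have key : ∀ {T : A} (x : T ⟶ G.obj (K.X (n + 1 + 1))) (z : T ⟶ G.obj (EO (node K a (n + 1)).W)),
        x ≫ G.map (biprod.inl ≫ π (n + 1)) + z ≫ G.map (biprod.inr ≫ π (n + 1)) = 0 →
        ∃ (T' : A) (q : T' ⟶ T) (_ : Epi q) (x' : T' ⟶ G.obj (K.X (n + 1))) (y' : T' ⟶ G.obj (EO (node K a n).W)),
          q ≫ x = - (x' ≫ G.map (K.d (n + 1) (n + 1 + 1))) ∧
          q ≫ z = x' ≫ G.map (φ.f (n + 1)) + y' ≫ G.map (dI n) := by
      intro T x z h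
      have h0 : (x ≫ G.map biprod.inl + z ≫ G.map biprod.inr) ≫ G.map (π (n + 1)) = 0 := by
        simpa [Preadditive.add_comp, Functor.map_comp] using h
      obtain ⟨T1, q1, _, v, hv⟩ : ∃ (T1 : A) (q1 : T1 ⟶ T) (_ : Epi q1) (v : T1 ⟶ G.obj (node K a (n + 1)).W),
          q1 ≫ (x ≫ G.map biprod.inl + z ≫ G.map biprod.inr) =
            v ≫ G.map (biprod.lift (-((node K a (n + 1)).k ≫ eqToHom rfl)) (ej (node K a (n + 1)).W)) :=
        (hse (n + 1) p).exact.exact_up_to_refinements _ h0
      have hx := congrArg (fun t => t ≫ G.map biprod.fst) hv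
      have hz := congrArg (fun t => t ≫ G.map biprod.snd) hv
      simp only [Category.assoc, Preadditive.add_comp, Preadditive.comp_add, ← Functor.map_comp, biprod.inl_fst, biprod.inr_fst,
        biprod.inl_snd, biprod.inr_snd, biprod.lift_fst, biprod.lift_snd, CategoryTheory.Functor.map_id, Functor.map_zero, Category.comp_id,
        comp_zero, add_zero, zero_add, eqToHom_refl, Functor.map_neg, Preadditive.comp_neg] at hx hz
      haveI := (hse n p).epi_g
      obtain ⟨T2, q2, _, y, hy⟩ : ∃ (T2 : A) (q2 : T2 ⟶ T1) (_ : Epi q2) (y : T2 ⟶ G.obj (K.X (n + 1) ⊞ EO (node K a n).W)),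
          q2 ≫ v = y ≫ G.map (π n) := by
        haveI : Epi (G.map (π n)) := (hse n p).epi_g
        exact surjective_up_to_refinements_of_epi (G.map (π n)) v
      refine ⟨T2, q2 ≫ q1, inferInstance, y ≫ G.map biprod.fst, y ≫ G.map biprod.snd, ?_, ?_⟩
      · rw [Category.assoc, hx, Preadditive.comp_neg, ← hk1 y, ← Category.assoc y, ← hy, Category.assoc]
      · rw [Category.assoc, hz, ← Category.assoc q2, hy]
        conv_lhs => rw [dec y]
        simp only [Preadditive.add_comp, Category.assoc, ← Functor.map_comp]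
        rw [show φ.f (n + 1) = φ' n from hφf n]
        simp only [φ', ι, dI, Category.assoc]
    have iso : IsIso (ShortComplex.homologyMap S) := by
      haveI : Mono (ShortComplex.homologyMap S) := by
        rw [ShortComplex.mono_homologyMap_iff_up_to_refinements]
        intro T x hx y hy
        change T ⟶ G.obj (K.X (n + 1 + 1)) at x
        change T ⟶ G.obj (EO (node K a (n + 1)).W) at y
        change x ≫ G.map (φ.f (n + 1 + 1)) = y ≫ G.map (I.d (n + 1) (n + 1 + 1)) at hy
        rw [edI] at hy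
        haveI := ej_mono (node K a (n + 1 + 1)).W p
        obtain ⟨T', q, hq, x', y', h1, -⟩ := key x (-y) (by
          rw [← cancel_mono (G.map (ej (node K a (n + 1 + 1)).W)), zero_comp, Preadditive.add_comp, Preadditive.neg_comp,
            Preadditive.neg_comp, Category.assoc, Category.assoc, ← Functor.map_comp, ← Functor.map_comp, Category.assoc, Category.assoc]
          rw [e1] at hy
          rw [hy]
          exact add_neg_cancel _)
        exact ⟨T', q, hq, -x', h1.trans (Preadditive.neg_comp _ _).symm⟩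
      haveI : Epi (ShortComplex.homologyMap S) := by
        rw [ShortComplex.epi_homologyMap_iff_up_to_refinements]
        intro T z hz
        change T ⟶ G.obj (EO (node K a (n + 1 + 1)).W) at z
        change z ≫ G.map (I.d (n + 1 + 1) (n + 1 + 1 + 1)) = 0 at hz
        rw [edI] at hz
        haveI := ej_mono (node K a (n + 1 + 1 + 1)).W p
        haveI := ej_mono (node K a (n + 1 + 1)).W p
        have hz0 : z ≫ G.map (biprod.inr ≫ π (n + 1 + 1)) = 0 := by
          rw [← cancel_mono (G.map (ej (node K a (n + 1 + 1 + 1)).W)), zero_comp, Category.assoc, ← Functor.map_comp, Category.assoc]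
          exact hz
        obtain ⟨T1, q1, _, v, hv⟩ : ∃ (T1 : A) (q1 : T1 ⟶ T) (_ : Epi q1) (v : T1 ⟶ G.obj (node K a (n + 1 + 1)).W),
            q1 ≫ z ≫ G.map biprod.inr =
              v ≫ G.map (biprod.lift (-((node K a (n + 1 + 1)).k ≫ eqToHom rfl)) (ej (node K a (n + 1 + 1)).W)) :=
          (hse (n + 1 + 1) p).exact.exact_up_to_refinements _ (by
            change (z ≫ G.map biprod.inr) ≫ G.map (π (n + 1 + 1)) = 0
            rw [Category.assoc, ← Functor.map_comp]; exact hz0)
        have hx := congrArg (fun t => t ≫ G.map biprod.fst) hv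
        have hzz := congrArg (fun t => t ≫ G.map biprod.snd) hv
        simp only [Category.assoc, ← Functor.map_comp, biprod.inr_fst, biprod.inr_snd, biprod.lift_fst, biprod.lift_snd,
          CategoryTheory.Functor.map_id, Functor.map_zero, Category.comp_id, comp_zero, eqToHom_refl, Functor.map_neg, Preadditive.comp_neg] at hx hzz
        haveI : Epi (G.map (π (n + 1))) := (hse (n + 1) p).epi_g
        obtain ⟨T2, q2, _, y, hy⟩ := surjective_up_to_refinements_of_epi (G.map (π (n + 1))) v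
        have dec' : y = (y ≫ G.map biprod.fst) ≫ G.map biprod.inl + (y ≫ G.map biprod.snd) ≫ G.map biprod.inr := by
          simp only [Category.assoc, ← Preadditive.comp_add, ← Functor.map_comp, ← Functor.map_add, biprod.total,
            CategoryTheory.Functor.map_id, Category.comp_id]
        refine ⟨T2, q2 ≫ q1, inferInstance, y ≫ G.map biprod.fst, ?_, y ≫ G.map biprod.snd, ?_⟩
        · change (y ≫ G.map biprod.fst) ≫ G.map (K.d (n + 1 + 1) (n + 1 + 1 + 1)) = 0
          have h1 : v ≫ G.map (node K a (n + 1 + 1)).k = 0 := neg_eq_zero.1 hx.symm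
          have h2 := congrArg (fun t => t ≫ G.map (node K a (n + 1 + 1)).k) hy
          simp only [Category.assoc, h1, comp_zero] at h2
          rw [h2]
          conv_rhs => rw [dec']
          simp only [Preadditive.add_comp, Category.assoc, ← Functor.map_comp, hinl, hinr, Functor.map_zero, comp_zero, add_zero]
        · change (q2 ≫ q1) ≫ z = (y ≫ G.map biprod.fst) ≫ G.map (φ.f (n + 1 + 1)) + (y ≫ G.map biprod.snd) ≫ G.map (I.d (n + 1) (n + 1 + 1))
          rw [edI, Category.assoc, hzz, ← Category.assoc q2, hy, e1]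
          conv_lhs => rw [dec']
          simp only [dI, Preadditive.add_comp, Category.assoc, ← Functor.map_comp]
      exact isIso_of_mono_of_epi _
    exact ⟨iso⟩
  · obtain ⟨m, rfl⟩ : ∃ m, n = m + 1 := ⟨n - 1, by omega⟩
    exact strict_of_mono_gr _ (hmono m)

end Groth.Agent.H5FilRes
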