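import Mathlib
import Groth.Prelude.Def_SpSeq

open CategoryTheory CategoryTheory.Limits

namespace Groth.Agent.H5FilStrict

universe v u

variable {A : Type u} [Category.{v} A] [Abelian A]

theorem image_epi_comp {X X' Y : A} (h : X' ⟶ X) [Epi h] (f : X ⟶ Y) :
    imageSubobject (h ≫ f) = imageSubobject f := by
  refine le_antisymm (imageSubobject_comp_le h f) ?_
  have : IsIso (Subobject.ofLE _ _ (imageSubobject_comp_le h f)) := isIso_of_mono_of_epi _
  exact Subobject.le_of_comm (inv (Subobject.ofLE _ _ (imageSubobject_comp_le h f))) (by simp)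

theorem image_comp_mono {X Y Z : A} (a : X ⟶ Y) (g : Y ⟶ Z) [Mono g] :
    imageSubobject (a ≫ g) = (Subobject.map g).obj (imageSubobject a) := by
  conv_lhs => rw [← imageSubobject_arrow_comp a, Category.assoc]
  rw [image_epi_comp, imageSubobject_mono, ← Subobject.map_mk, Subobject.mk_arrow]

open SpSeq SpSeq.FilObj

theorem strict_comp_mono {K L M : SpSeq.FilObj A} (f : K ⟶ L) (g : L ⟶ M)
    (hf : SpSeq.FilObj.IsStrict f) (hg : SpSeq.FilObj.IsStrict g) [Mono g.hom] :
    SpSeq.FilObj.IsStrict (f ≫ g) := by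
  intro p
  change imageSubobject ((K.fil p).arrow ≫ f.hom ≫ g.hom) = imageSubobject (f.hom ≫ g.hom) ⊓ M.fil p
  rw [← Category.assoc, image_comp_mono, hf p, Subobject.inf_map, ← image_comp_mono]
  have hL : (Subobject.map g.hom).obj (L.fil p) = imageSubobject g.hom ⊓ M.fil p := by
    rw [← hg p, image_comp_mono, imageSubobject_mono, Subobject.mk_arrow]
  rw [hL, ← inf_assoc, inf_eq_left.mpr (imageSubobject_comp_le f.hom g.hom)]

theorem strict_comp_epi {K L M : SpSeq.FilObj A} (f : K ⟶ L) (g : L ⟶ M)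
    (hf : SpSeq.FilObj.IsStrict f) (hg : SpSeq.FilObj.IsStrict g) [Epi f.hom] :
    SpSeq.FilObj.IsStrict (f ≫ g) := by
  intro p
  change imageSubobject ((K.fil p).arrow ≫ f.hom ≫ g.hom) = imageSubobject (f.hom ≫ g.hom) ⊓ M.fil p
  rw [image_epi_comp f.hom g.hom, ← hg p]
  have htop : imageSubobject f.hom = ⊤ := by
    refine top_unique ?_
    have h := image_epi_comp f.hom (𝟙 L.obj)
    rw [Category.comp_id, imageSubobject_mono (𝟙 L.obj), ← Subobject.top_eq_id] at h
    rw [h]
  have h := hf p
  rw [htop, top_inf_eq] at h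
  have e1 : ∀ {X : A} (a : X ⟶ L.obj), imageSubobject (a ≫ g.hom) =
      imageSubobject ((imageSubobject a).arrow ≫ g.hom) := by
    intro X a
    conv_lhs => rw [← imageSubobject_arrow_comp a, Category.assoc]
    rw [image_epi_comp]
  rw [← Category.assoc, e1, h]

end Groth.Agent.H5FilStrict
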