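import Mathlib
import Groth.Prelude.Def_PCoh

open CategoryTheory CategoryTheory.Limits HomologicalComplex

namespace Groth.Agent.H5FinType

universe v u

variable {C : Type u} [Category.{v} C] [Abelian C]

theorem ft (P : ObjectProperty C) [P.IsClosedUnderIsomorphisms] (hqs : PCoh.IsQuasiStableUnderKernels P)
    (n : ℤ) (E : CochainComplex C ℤ) (hE : PCoh.IsStrictPC P n E)
    (hac : ∀ i : ℤ, n < i → IsZero (E.homology i)) :
    PCoh.IsOfFiniteType P (E.homology n) := by
  obtain ⟨⟨b, hb⟩, hP⟩ := hE
  let X : ℕ → C := fun i => match i with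
    | 0 => E.cycles n
    | (j+1) => E.X (n + j)
  let d : ∀ i, X i ⟶ X (i+1) := fun i => match i with
    | 0 => E.iCycles n ≫ (E.XIsoOfEq (by simp)).hom
    | (j+1) => E.d (n + j) (n + (j+1 : ℕ))
  have sq : ∀ i, d i ≫ d (i+1) = 0 := by
    intro i
    match i with
    | 0 => simp [d]
    | (j+1) => simp [d]
  let K : CochainComplex C ℕ := CochainComplex.of X d sq
  have hd : ∀ i, K.d i (i + 1) = d i := fun i => by simp [K, CochainComplex.of, CochainComplex.of.d]
  have hd1 : K.d 1 2 = d 1 := hd 1
  have h1 : ∀ i, K.ExactAt i := by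
    intro i
    match i with
    | 0 =>
      rw [exactAt_iff' K 0 0 1 (by simp) (by simp)]
      refine (ShortComplex.exact_iff_mono _ (K.shape 0 0 (by simp))).2 ?_
      have : Mono (K.d 0 1) := by
        rw [hd 0]
        exact mono_comp _ _
      exact this
    | 1 =>
      rw [exactAt_iff' K 0 1 2 (by simp) (by simp)]
      let S' := ShortComplex.mk (E.iCycles n) (E.d n (n+1)) (E.iCycles_d n (n+1))
      have : S'.Exact := ShortComplex.exact_of_f_is_kernel _ (E.cyclesIsKernel n (n+1) (by simp))
      refine ShortComplex.exact_of_iso ?_ this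
      refine ShortComplex.isoMk (Iso.refl _) (E.XIsoOfEq (by simp)) (E.XIsoOfEq (by simp)) ?_ ?_
      · simp [S', hd 0, d, X]
        exact Category.id_comp _
      · simp [S', hd1, d, X]
        erw [Category.comp_id]
        exact E.XIsoOfEq_hom_comp_d _ _
    | (j+2) =>
      rw [exactAt_iff' K (j+1) (j+2) (j+3) (by simp) (by simp)]
      have h : E.ExactAt (n + (j+1 : ℕ)) :=
        (exactAt_iff_isZero_homology _ _).2 (hac _ (by omega))
      rw [exactAt_iff' E (n + j) (n + (j+1 : ℕ)) (n + (j+2 : ℕ)) (by simp; omega) (by simp; omega)] at h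
      refine ShortComplex.exact_of_iso ?_ h
      refine ShortComplex.isoMk (Iso.refl _) (Iso.refl _) (E.XIsoOfEq (by simp)) ?_ ?_
      · simp [hd (j+1), d, X]
        exact (Category.id_comp _).trans (Category.comp_id _).symm
      · simp [hd (j+2), d, X]
        refine (Category.id_comp _).trans ?_
        exact (E.d_comp_XIsoOfEq_hom (show n + ((j:ℤ) + 2) = n + ((j:ℤ) + 1 + 1) by ring) _).symm
  have h2 : ∃ m : ℕ, ∀ i : ℕ, m < i → IsZero (K.X i) := by
    refine ⟨(b - n).toNat + 1, fun i hi => ?_⟩
    match i with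
    | 0 => omega
    | (j+1) => exact hb _ (by omega)
  obtain ⟨F, π, hF, hπ⟩ := hqs K h1 h2 (fun i hi => by
    match i with
    | 0 => omega
    | (j+1) => exact hP _ (by omega))
  refine ⟨F, π ≫ E.homologyπ n, hF, ?_⟩
  exact epi_comp' hπ inferInstance

end Groth.Agent.H5FinType
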