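import Groth.Prelude.Def_ModSite
import Mathlib
set_option autoImplicit false
universe u
open CategoryTheory CategoryTheory.Limits Opposite MonoidalCategory TensorProduct

namespace Groth.Agent.H5ModTensor

variable {C : Type u} [SmallCategory C] {J : GrothendieckTopology C}

section bilin
variable {R : Cᵒᵖ ⥤ CommRingCat.{u}}

variable {A B N P : PresheafOfModules.{u} (R ⋙ forget₂ CommRingCat.{u} RingCat.{u})}

theorem sep_ext (hP : Presheaf.IsSheaf J P.presheaf) {X : Cᵒᵖ} {S : Sieve X.unop} (hS : S ∈ J X.unop)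
    {x y : P.obj X} (h : ∀ (Y : Cᵒᵖ) (g : X ⟶ Y), S g.unop → P.map g x = P.map g y) : x = y :=
  ((Presheaf.isSheaf_iff_isSheaf_forget J _ (forget AddCommGrpCat.{u})).1 hP
    |> (isSheaf_iff_isSheaf_of_type J _).1).isSeparated S hS |>.ext
    (fun Y f hf => h (op Y) f.op hf)

variable (f : A ⟶ B)

theorem precomp_injective (hP : Presheaf.IsSheaf J P.presheaf)
    [Presheaf.IsLocallySurjective J ((PresheafOfModules.toPresheaf _).map f)]
    {ψ₁ ψ₂ : B ⊗ N ⟶ P} (h : f ▷ N ≫ ψ₁ = f ▷ N ≫ ψ₂) : ψ₁ = ψ₂ := by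
  refine PresheafOfModules.Hom.ext (funext fun X => ?_)
  refine ModuleCat.MonoidalCategory.tensor_ext (fun b n => ?_)
  refine sep_ext hP (Presheaf.imageSieve_mem J ((PresheafOfModules.toPresheaf _).map f) b) (fun Y g hg => ?_)
  obtain ⟨a, ha⟩ : ∃ a : A.obj Y, f.app Y a = B.map g b := hg
  have ha' : f.app Y a = B.map g b := ha
  have e := fun (ψ : B ⊗ N ⟶ P) => (PresheafOfModules.naturality_apply ψ g (b ⊗ₜ n)).symm
  refine (e ψ₁).trans (Eq.trans ?_ (e ψ₂).symm)
  show ψ₁.app Y (B.map g b ⊗ₜ N.map g n) = ψ₂.app Y (B.map g b ⊗ₜ N.map g n)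
  rw [← ha']
  exact congrArg (fun (k : A ⊗ N ⟶ P) => k.app Y (a ⊗ₜ N.map g n)) h

variable (φ : A ⊗ N ⟶ P)

local notation "RR" => R ⋙ forget₂ CommRingCat RingCat

/-- the bilinear form of `φ` -/
noncomputable def bf (Y : Cᵒᵖ) (a : A.obj Y) (n : N.obj Y) : P.obj Y := φ.app Y (a ⊗ₜ n)

theorem bf_addl (Y : Cᵒᵖ) (a a' : A.obj Y) (n : N.obj Y) : bf φ Y (a + a') n = bf φ Y a n + bf φ Y a' n :=
  (congrArg _ (TensorProduct.add_tmul a a' n)).trans (map_add (φ.app Y).hom _ _)

theorem bf_addr (Y : Cᵒᵖ) (a : A.obj Y) (n n' : N.obj Y) : bf φ Y a (n + n') = bf φ Y a n + bf φ Y a n' :=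
  (congrArg _ (TensorProduct.tmul_add a n n')).trans (map_add (φ.app Y).hom _ _)

theorem bf_smull (Y : Cᵒᵖ) (r : (R ⋙ forget₂ CommRingCat.{u} RingCat.{u}).obj Y) (a : A.obj Y) (n : N.obj Y) :
    bf φ Y (r • a) n = r • bf φ Y a n :=
  (congrArg _ (TensorProduct.smul_tmul' r a n).symm).trans (map_smul (φ.app Y).hom r _)

theorem bf_smulr (Y : Cᵒᵖ) (r : (R ⋙ forget₂ CommRingCat.{u} RingCat.{u}).obj Y) (a : A.obj Y) (n : N.obj Y) :
    bf φ Y a (r • n) = r • bf φ Y a n :=
  (congrArg _ (TensorProduct.tmul_smul r a n)).trans (map_smul (φ.app Y).hom r _)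

theorem bf_nat {X Y : Cᵒᵖ} (g : X ⟶ Y) (a : A.obj X) (n : N.obj X) :
    P.map g (bf φ X a n) = bf φ Y (A.map g a) (N.map g n) :=
  (PresheafOfModules.naturality_apply φ g (a ⊗ₜ n)).symm

/-- restriction, as a map to the unrestricted module -/
noncomputable def res (M : PresheafOfModules.{u} (R ⋙ forget₂ CommRingCat.{u} RingCat.{u})) {X Y : Cᵒᵖ} (g : X ⟶ Y)
    (m : M.obj X) : M.obj Y := M.map g m

theorem res_comp (M : PresheafOfModules.{u} (R ⋙ forget₂ CommRingCat.{u} RingCat.{u})) {X Y Z : Cᵒᵖ} (g : X ⟶ Y)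
    (k : Y ⟶ Z) (m : M.obj X) : res M (g ≫ k) m = res M k (res M g m) := PresheafOfModules.map_comp_apply M g k m

/-- candidate value of the extended bilinear map at `(b, n)` -/
def IsVal (X : Cᵒᵖ) (b : B.obj X) (n : N.obj X) (x : P.obj X) : Prop :=
  ∀ (Y : Cᵒᵖ) (g : X ⟶ Y) (a : A.obj Y), f.app Y a = res B g b → P.map g x = bf φ Y a (res N g n)

variable (hP : Presheaf.IsSheaf J P.presheaf)
include hP

theorem isVal_unique [Presheaf.IsLocallySurjective J ((PresheafOfModules.toPresheaf _).map f)]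
    {X : Cᵒᵖ} {b : B.obj X} {n : N.obj X} {x y : P.obj X} (hx : IsVal f φ X b n x) (hy : IsVal f φ X b n y) :
    x = y := by
  refine sep_ext hP (Presheaf.imageSieve_mem J ((PresheafOfModules.toPresheaf _).map f) b) (fun Y g hg => ?_)
  obtain ⟨a, ha⟩ : ∃ a : A.obj Y, f.app Y a = B.map g b := hg
  exact (hx Y g a ha).trans (hy Y g a ha).symm

theorem app_eq_of_eq [Presheaf.IsLocallyInjective J ((PresheafOfModules.toPresheaf _).map f)]
    {Y : Cᵒᵖ} {a a' : A.obj Y} (h : f.app Y a = f.app Y a') (n : N.obj Y) :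
    bf φ Y a n = bf φ Y a' n := by
  refine sep_ext hP (Presheaf.equalizerSieve_mem J ((PresheafOfModules.toPresheaf _).map f) a a' h) (fun Z g hg => ?_)
  have hg' : A.map g a = A.map g a' := hg
  refine (bf_nat φ g a n).trans (Eq.trans ?_ (bf_nat φ g a' n).symm)
  rw [hg']

variable [Presheaf.IsLocallyInjective J ((PresheafOfModules.toPresheaf _).map f)]
  [Presheaf.IsLocallySurjective J ((PresheafOfModules.toPresheaf _).map f)]

theorem exists_isVal (X : Cᵒᵖ) (b : B.obj X) (n : N.obj X) : ∃ x, IsVal f φ X b n x := by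
  classical
  let S := Presheaf.imageSieve ((PresheafOfModules.toPresheaf _).map f) b
  have hS : S ∈ J X.unop := Presheaf.imageSieve_mem J ((PresheafOfModules.toPresheaf _).map f) b
  let fam : Presieve.FamilyOfElements (P.presheaf ⋙ forget AddCommGrpCat.{u}) S.arrows :=
    fun Y g hg => bf φ (op Y) hg.choose (res N g.op n)
  have hc : fam.Compatible := by
    intro Y₁ Y₂ Z g₁ g₂ h₁ h₂ hh₁ hh₂ hcomm
    show P.map g₁.op (bf φ (op Y₁) hh₁.choose (res N h₁.op n)) =
      P.map g₂.op (bf φ (op Y₂) hh₂.choose (res N h₂.op n))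
    refine (bf_nat φ g₁.op _ _).trans (Eq.trans ?_ (bf_nat φ g₂.op _ _).symm)
    have hop : h₁.op ≫ g₁.op = h₂.op ≫ g₂.op := congrArg Quiver.Hom.op hcomm
    have hn : res N g₁.op (res N h₁.op n) = res N g₂.op (res N h₂.op n) := by
      rw [← res_comp, ← res_comp, hop]
    refine (congrArg (bf φ (op Z) (res A g₁.op hh₁.choose)) hn).trans ?_
    refine app_eq_of_eq f φ hP ?_ _
    have k₁ : f.app (op Y₁) hh₁.choose = res B h₁.op b := hh₁.choose_spec
    have k₂ : f.app (op Y₂) hh₂.choose = res B h₂.op b := hh₂.choose_spec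
    refine (PresheafOfModules.naturality_apply f g₁.op _).trans (Eq.trans ?_ (PresheafOfModules.naturality_apply f g₂.op _).symm)
    rw [k₁, k₂]
    show res B g₁.op (res B h₁.op b) = res B g₂.op (res B h₂.op b)
    rw [← res_comp, ← res_comp, hop]
  obtain ⟨x, hx, -⟩ := ((Presheaf.isSheaf_iff_isSheaf_forget J _ (forget AddCommGrpCat.{u})).1 hP
    |> (isSheaf_iff_isSheaf_of_type J _).1) S hS fam hc
  refine ⟨x, fun Y g a ha => ?_⟩
  have hg : S g.unop := ⟨a, ha⟩
  have := hx g.unop hg
  refine this.trans ?_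
  exact app_eq_of_eq f φ hP (hg.choose_spec.trans ha.symm) _

noncomputable def val (X : Cᵒᵖ) (b : B.obj X) (n : N.obj X) : P.obj X := (exists_isVal f φ hP X b n).choose

theorem val_spec (X : Cᵒᵖ) (b : B.obj X) (n : N.obj X) : IsVal f φ X b n (val f φ hP X b n) :=
  (exists_isVal f φ hP X b n).choose_spec

theorem exists_lift : ∃ ψ : B ⊗ N ⟶ P, f ▷ N ≫ ψ = φ := by
  classical
  have addl : ∀ X (b b' : B.obj X) (n : N.obj X), val f φ hP X (b + b') n = val f φ hP X b n + val f φ hP X b' n := by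
    intro X b b' n
    refine sep_ext hP (J.intersection_covering
      (Presheaf.imageSieve_mem J ((PresheafOfModules.toPresheaf _).map f) b)
      (Presheaf.imageSieve_mem J ((PresheafOfModules.toPresheaf _).map f) b')) (fun Y g hg => ?_)
    obtain ⟨⟨a, ha⟩, a', ha'⟩ : (∃ a : A.obj Y, f.app Y a = B.map g b) ∧ ∃ a : A.obj Y, f.app Y a = B.map g b' := hg
    rw [map_add, val_spec f φ hP X b n Y g a ha, val_spec f φ hP X b' n Y g a' ha',
      val_spec f φ hP X (b + b') n Y g (a + a')
        ((map_add (f.app Y).hom a a').trans ((congrArg₂ (· + ·) ha ha').trans (map_add (B.map g).hom b b').symm))]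
    exact bf_addl φ Y a a' _
  have smull : ∀ X (r : (R ⋙ forget₂ CommRingCat.{u} RingCat.{u}).obj X) (b : B.obj X) (n : N.obj X), val f φ hP X (r • b) n = r • val f φ hP X b n := by
    intro X r b n
    refine sep_ext hP (Presheaf.imageSieve_mem J ((PresheafOfModules.toPresheaf _).map f) b) (fun Y g hg => ?_)
    obtain ⟨a, ha⟩ : ∃ a : A.obj Y, f.app Y a = B.map g b := hg
    let r' := (R ⋙ forget₂ CommRingCat.{u} RingCat.{u}).map g r
    have h1 : f.app Y (r' • a) = res B g (r • b) :=
      (map_smul (f.app Y).hom r' a).trans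
        ((congrArg (r' • ·) ha).trans (PresheafOfModules.map_smul B g r b).symm)
    refine (val_spec f φ hP X (r • b) n Y g _ h1).trans (Eq.trans ?_ (PresheafOfModules.map_smul P g r _).symm)
    exact (bf_smull φ Y r' a _).trans (congrArg (r' • ·) (val_spec f φ hP X b n Y g a ha).symm)
  have addr : ∀ X (b : B.obj X) (n n' : N.obj X), val f φ hP X b (n + n') = val f φ hP X b n + val f φ hP X b n' := by
    intro X b n n'
    refine sep_ext hP (Presheaf.imageSieve_mem J ((PresheafOfModules.toPresheaf _).map f) b) (fun Y g hg => ?_)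
    obtain ⟨a, ha⟩ : ∃ a : A.obj Y, f.app Y a = B.map g b := hg
    rw [map_add, val_spec f φ hP X b n Y g a ha, val_spec f φ hP X b n' Y g a ha,
      val_spec f φ hP X b (n + n') Y g a ha]
    exact (congrArg (bf φ Y a) (map_add (N.map g).hom n n')).trans (bf_addr φ Y a _ _)
  have smulr : ∀ X (r : (R ⋙ forget₂ CommRingCat.{u} RingCat.{u}).obj X) (b : B.obj X) (n : N.obj X), val f φ hP X b (r • n) = r • val f φ hP X b n := by
    intro X r b n
    refine sep_ext hP (Presheaf.imageSieve_mem J ((PresheafOfModules.toPresheaf _).map f) b) (fun Y g hg => ?_)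
    obtain ⟨a, ha⟩ : ∃ a : A.obj Y, f.app Y a = B.map g b := hg
    let r' := (R ⋙ forget₂ CommRingCat.{u} RingCat.{u}).map g r
    refine (val_spec f φ hP X b (r • n) Y g a ha).trans (Eq.trans ?_ (PresheafOfModules.map_smul P g r _).symm)
    exact (congrArg (bf φ Y a) (PresheafOfModules.map_smul N g r n)).trans
      ((bf_smulr φ Y r' a _).trans (congrArg (r' • ·) (val_spec f φ hP X b n Y g a ha).symm))
  have nat : ∀ X Y (g : X ⟶ Y) (b : B.obj X) (n : N.obj X),
      val f φ hP Y (res B g b) (res N g n) = P.map g (val f φ hP X b n) := by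
    intro X Y g b n
    refine isVal_unique f φ hP (val_spec f φ hP Y _ _) (fun Z k a ha => ?_)
    have ha2 : f.app Z a = res B (g ≫ k) b := ha.trans (PresheafOfModules.map_comp_apply B g k b).symm
    refine (PresheafOfModules.map_comp_apply P g k _).symm.trans ?_
    refine (val_spec f φ hP X b n Z (g ≫ k) a ha2).trans ?_
    exact congrArg (bf φ Z a) (PresheafOfModules.map_comp_apply N g k n)
  refine ⟨{ app := fun X => ModuleCat.MonoidalCategory.tensorLift (fun b n => val f φ hP X b n)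
              (fun b b' n => addl X b b' n) (fun r b n => smull X r b n)
              (fun b n n' => addr X b n n') (fun r b n => smulr X r b n)
            naturality := fun {X Y} g => ModuleCat.MonoidalCategory.tensor_ext (fun b n => ?_) }, ?_⟩
  · exact nat X Y g b n
  · refine PresheafOfModules.Hom.ext (funext fun X => ModuleCat.MonoidalCategory.tensor_ext (fun a n => ?_))
    show val f φ hP X (f.app X a) n = φ.app X (a ⊗ₜ n)
    have idm : ∀ (M : PresheafOfModules.{u} (R ⋙ forget₂ CommRingCat.{u} RingCat.{u})) (m : M.obj X), res M (𝟙 X) m = m := fun M m => by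
      show M.map (𝟙 X) m = m
      rw [M.map_id]; rfl
    have := val_spec f φ hP X (f.app X a) n X (𝟙 X) a (idm B _).symm
    exact (idm P _).symm.trans (this.trans (congrArg (bf φ X a) (idm N n)))

theorem precomp_bijective : Function.Bijective (fun ψ : B ⊗ N ⟶ P => f ▷ N ≫ ψ) :=
  ⟨fun _ _ h => precomp_injective f hP h, fun φ => exists_lift f φ hP⟩

end bilin

/-- Reflective localisation: a functor on the big category inverting the units gives a left adjoint on the small one. -/
theorem isLeftAdjoint_of_inverts_unit {P Q D : Type*} [Category P] [Category Q] [Category D]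
    {L : P ⥤ Q} {R : Q ⥤ P} (adj : L ⊣ R) [R.Full] [R.Faithful] (T : P ⥤ D) [T.IsLeftAdjoint]
    (h : ∀ X, IsIso (T.map (adj.unit.app X))) : (R ⋙ T).IsLeftAdjoint := by
  let R' := T.rightAdjoint
  let adj' : T ⊣ R' := Adjunction.ofIsLeftAdjoint T
  have hu : ∀ G : D, IsIso (adj.unit.app (R'.obj G)) := fun G => by
    have := h (R'.obj G)
    let r : R.obj (L.obj (R'.obj G)) ⟶ R'.obj G :=
      adj'.homEquiv (R.obj (L.obj (R'.obj G))) G (inv (T.map (adj.unit.app (R'.obj G))) ≫ adj'.counit.app G)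
    have h1 : adj.unit.app (R'.obj G) ≫ r = 𝟙 (R'.obj G) := by
      refine (adj'.homEquiv_naturality_left _ _).symm.trans ?_
      rw [Adjunction.homEquiv_unit]
      erw [IsIso.hom_inv_id_assoc]
      exact adj'.right_triangle_components G
    refine ⟨r, h1, ?_⟩
    obtain ⟨k, hk⟩ := R.map_surjective (r ≫ adj.unit.app (R'.obj G))
    have h3 : k = 𝟙 _ := (adj.homEquiv (R'.obj G) (L.obj (R'.obj G))).injective (by
      rw [Adjunction.homEquiv_unit, Adjunction.homEquiv_unit, hk, reassoc_of% h1]; simp)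
    show r ≫ adj.unit.app (R'.obj G) = _
    rw [← hk, h3]; simp
  exact Adjunction.isLeftAdjoint (Adjunction.mkOfHomEquiv (F := R ⋙ T) (G := R' ⋙ L)
      { homEquiv := fun M G => (adj'.homEquiv (R.obj M) G).trans
          ((@asIso _ _ _ _ _ (hu G)).homToEquiv.trans ((Functor.FullyFaithful.ofFullyFaithful R).homEquiv).symm)
        homEquiv_naturality_left_symm := fun {M M'} G f g => by simp [Adjunction.homEquiv_counit]
        homEquiv_naturality_right := fun {M G G'} f g => by
          apply R.map_injective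
          simp [Adjunction.homEquiv_unit] })

variable (O : Sheaf J CommRingCat.{u})

theorem isIso_sheafify_whiskerRight {A B : PresheafOfModules.{u} (O.obj ⋙ forget₂ CommRingCat.{u} RingCat.{u})}
    (f : A ⟶ B) (hf : J.W ((PresheafOfModules.toPresheaf _).map f))
    (N : PresheafOfModules.{u} (O.obj ⋙ forget₂ CommRingCat.{u} RingCat.{u})) :
    IsIso ((ModSite.sheafify O).map (f ▷ N)) := by
  have := ((J.W_iff_isLocallyBijective _).1 hf).1
  have := ((J.W_iff_isLocallyBijective _).1 hf).2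
  apply isIso_of_coyoneda_map_bijective
  intro G
  let adj := PresheafOfModules.sheafificationAdjunction.{u} (𝟙 (ModSite.ringSh O).obj)
  have hb := precomp_bijective (N := N) f
    (P := (SheafOfModules.forget _ ⋙ PresheafOfModules.restrictScalars (𝟙 (ModSite.ringSh O).obj)).obj G) G.isSheaf
  have he : (fun x => (ModSite.sheafify O).map (f ▷ N) ≫ x) =
      (adj.homEquiv (A ⊗ N : PresheafOfModules.{u} (O.obj ⋙ forget₂ CommRingCat.{u} RingCat.{u})) G).symm ∘ (fun ψ => f ▷ N ≫ ψ) ∘ (adj.homEquiv (B ⊗ N : PresheafOfModules.{u} (O.obj ⋙ forget₂ CommRingCat.{u} RingCat.{u})) G) := by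
    funext x
    show _ = (adj.homEquiv (A ⊗ N : PresheafOfModules.{u} (O.obj ⋙ forget₂ CommRingCat.{u} RingCat.{u})) G).symm (f ▷ N ≫ adj.homEquiv _ G x)
    exact (Equiv.eq_symm_apply _).2 (adj.homEquiv_naturality_left (f ▷ N) x)
  rw [he]
  exact (Equiv.bijective _).comp (hb.comp (Equiv.bijective _))

/-- presheaves of modules over the presheaf underlying `O` -/
abbrev PO : Type (u + 1) := PresheafOfModules.{u} (O.obj ⋙ forget₂ CommRingCat.{u} RingCat.{u})

/-- sheafification, with its source typed as `PO O` -/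
noncomputable abbrev sh : PO O ⥤ ModSite.Mod O := ModSite.sheafify O

section
variable (R : Cᵒᵖ ⥤ CommRingCat.{u})

theorem preservesColimits_tensorRight (N : PresheafOfModules.{u} (R ⋙ forget₂ CommRingCat.{u} RingCat.{u})) :
    PreservesColimitsOfSize.{u, u} (tensorRight N) where
  preservesColimitsOfShape {K} _ := ⟨fun {D} => ⟨fun {c} hc => ⟨PresheafOfModules.evaluationJointlyReflectsColimits _ _ fun X => by
    have h1 : IsColimit ((PresheafOfModules.evaluation (R ⋙ forget₂ CommRingCat.{u} RingCat.{u}) X).mapCocone c) :=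
      isColimitOfPreserves _ hc
    have : PreservesColimitsOfShape K (tensorRight (C := ModuleCat.{u} (R.obj X)) (N.obj X)) :=
      preservesColimitsOfShape_of_natIso (BraidedCategory.tensorLeftIsoTensorRight (C := ModuleCat.{u} (R.obj X)) (N.obj X))
    exact isColimitOfPreserves (tensorRight (C := ModuleCat.{u} (R.obj X)) (N.obj X)) h1⟩⟩⟩

theorem isLeftAdjoint_tensorRight (N : PresheafOfModules.{u} (R ⋙ forget₂ CommRingCat.{u} RingCat.{u})) :
    (tensorRight N).IsLeftAdjoint := by
  have := preservesColimits_tensorRight R N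
  exact isLeftAdjoint_of_preservesColimits_of_isSeparating
    (PresheafOfModules.freeYoneda.isSeparating (R ⋙ forget₂ CommRingCat.{u} RingCat.{u})) _

end

theorem W_unit (A : PresheafOfModules.{u} (O.obj ⋙ forget₂ CommRingCat.{u} RingCat.{u})) :
    J.W ((PresheafOfModules.toPresheaf _).map
      ((PresheafOfModules.sheafificationAdjunction.{u} (𝟙 (ModSite.ringSh O).obj)).unit.app A)) :=
  J.W_toSheafify _

/-- `T N = (forget ⋙ - ⊗ N ⋙ sheafify)` is a left adjoint -/
theorem hasSheafHom (N : ModSite.Mod O) : ModSite.HasSheafHom N := by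
  let R : ModSite.Mod O ⥤ PO O := SheafOfModules.forget _ ⋙ PresheafOfModules.restrictScalars (𝟙 (ModSite.ringSh O).obj)
  let adj : sh O ⊣ R := PresheafOfModules.sheafificationAdjunction.{u} (𝟙 (ModSite.ringSh O).obj)
  have : R.Full := inferInstanceAs (SheafOfModules.forget _ ⋙ PresheafOfModules.restrictScalars (𝟙 (ModSite.ringSh O).obj)).Full
  have : R.Faithful := inferInstanceAs (SheafOfModules.forget _ ⋙ PresheafOfModules.restrictScalars (𝟙 (ModSite.ringSh O).obj)).Faithful
  let N' : PO O := (SheafOfModules.forget (ModSite.ringSh O)).obj N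
  let T : PO O ⥤ ModSite.Mod O := tensorRight N' ⋙ sh O
  have : (tensorRight N').IsLeftAdjoint := isLeftAdjoint_tensorRight O.obj _
  have : (sh O).IsLeftAdjoint := adj.isLeftAdjoint
  have hT : T.IsLeftAdjoint := Functor.isLeftAdjoint_comp (tensorRight N') (sh O)
  have h := @isLeftAdjoint_of_inverts_unit _ _ _ _ _ _ (sh O) R adj _ _ T hT
    (fun A => isIso_sheafify_whiskerRight O (adj.unit.app A) (W_unit O A) N')
  exact Functor.isLeftAdjoint_of_iso (NatIso.ofComponents (fun M => Iso.refl _)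
    (fun g => by exact (Category.comp_id _).trans (Category.id_comp _).symm) :
      R ⋙ T ≅ (ModSite.tensorBi O).flip.obj N)

theorem isIso_sheafify_whiskerLeft {A B : PO O}
    (f : A ⟶ B) (hf : J.W ((PresheafOfModules.toPresheaf _).map f)) (N : PO O) :
    IsIso ((sh O).map (N ◁ f)) := by
  have : IsIso ((sh O).map (f ▷ N)) := isIso_sheafify_whiskerRight O f hf N
  have e : N ◁ f = (β_ N A).hom ≫ (f ▷ N) ≫ (β_ B N).hom := by simp
  rw [e, Functor.map_comp, Functor.map_comp]
  infer_instance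

theorem sheafify_tensor_iso (M N : PresheafOfModules.{u} (O.obj ⋙ forget₂ CommRingCat.{u} RingCat.{u})) :
    Nonempty ((ModSite.sheafify O).obj (M ⊗ N : PresheafOfModules.{u} (O.obj ⋙ forget₂ CommRingCat.{u} RingCat.{u})) ≅
      ((ModSite.tensorBi O).obj ((ModSite.sheafify O).obj M)).obj ((ModSite.sheafify O).obj N)) := by
  let adj := PresheafOfModules.sheafificationAdjunction.{u} (𝟙 (ModSite.ringSh O).obj)
  let N' : PO O := (SheafOfModules.forget (ModSite.ringSh O)).obj ((ModSite.sheafify O).obj N)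
  let M' : PO O := (SheafOfModules.forget (ModSite.ringSh O)).obj ((ModSite.sheafify O).obj M)
  let ηM : M ⟶ M' := adj.unit.app M
  let ηN : N ⟶ N' := adj.unit.app N
  have this_1 : IsIso ((sh O).map (ηM ▷ N)) := isIso_sheafify_whiskerRight O ηM (W_unit O M) N
  have this_2 : IsIso ((sh O).map (M' ◁ ηN)) := isIso_sheafify_whiskerLeft O ηN (W_unit O N) M'
  exact ⟨(@asIso _ _ _ _ ((sh O).map (ηM ▷ N)) this_1) ≪≫ (@asIso _ _ _ _ ((sh O).map (M' ◁ ηN)) this_2)⟩

end Groth.Agent.H5ModTensor
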