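import Groth.Agent.Lib.H5TotAcyc
import Groth.Agent.Lib.H5ModTensor
import Groth.Prelude.Def_ModSite2

universe u

namespace Groth.Agent.H5Flasque
open CategoryTheory Limits Abelian Opposite MonoidalCategory
open Groth.Agent

section good
variable {C : Type u} [SmallCategory C] {J : GrothendieckTopology C}

/-- Čech acyclicity for all epimorphisms of sheaves of sets -/
def Good (F : Sheaf J AddCommGrpCat.{u}) : Prop :=
  ∀ (K' K : Sheaf J (Type u)) (f : K' ⟶ K), Epi f → ∀ (n : ℕ) (φ : (H5TotAcyc.Pn f).X (n + 1) ⟶ F),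
    (H5TotAcyc.Pn f).d (n + 2) (n + 1) ≫ φ = 0 → ∃ ψ, (H5TotAcyc.Pn f).d (n + 1) n ≫ ψ = φ

lemma good_of_homology (F : Sheaf J AddCommGrpCat.{u})
    (h : ∀ (K' K : Sheaf J (Type u)) (f : K' ⟶ K), Epi f →
      ∀ q : ℕ, IsZero ((CohCx.cechNerveCx F f).homology (q + 1))) : Good F := by
  intro K' K f hf n φ hφ
  have h := h _ _ f hf n
  rw [← HomologicalComplex.exactAt_iff_isZero_homology,
    (CohCx.cechNerveCx F f).exactAt_iff' n (n + 1) (n + 2) (by simp) (by simp), ShortComplex.ab_exact_iff] at h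
  obtain ⟨ψ, hψ⟩ := h φ ((H5TotAcyc.nerveCx_d F f (n + 1) φ).trans hφ)
  exact ⟨ψ, (H5TotAcyc.nerveCx_d F f n ψ).symm.trans hψ⟩

lemma good_injective (I : Sheaf J AddCommGrpCat.{u}) [Injective I] : Good I := by
  intro K' K f hf n φ hφ
  have : QuasiIso (AlgebraicTopology.AlternatingFaceMapComplex.ε.app (H5TotAcyc.Xn f)) := H5CechNerve.quasiIso_free f
  exact H5TotAcyc.dual_exact (H5TotAcyc.Pn f) (AlgebraicTopology.AlternatingFaceMapComplex.ε.app (H5TotAcyc.Xn f)) I
    (fun q => inferInstance) (fun m q => inferInstance) n φ hφ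

lemma surj {S : ShortComplex (Sheaf J AddCommGrpCat.{u})} (hS : S.ShortExact) (hF : Good S.X₁)
    (K : Sheaf J (Type u)) : H5SiteCoh.Surj ((H5TotAcyc.Zf J).obj K) S.g := by
  intro s
  let adj := Sheaf.adjunction J AddCommGrpCat.adj.{u}
  let T := sheafCompose J (forget AddCommGrpCat.{u})
  have : Epi S.g := hS.epi_g
  have : Mono S.f := hS.mono_f
  have hT : Epi (T.map S.g) := by
    rw [← Sheaf.isLocallySurjective_iff_epi]
    have h := (Sheaf.isLocallySurjective_iff_epi' AddCommGrpCat.{u} S.g).2 inferInstance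
    exact ⟨fun {U} x => h.imageSieve_mem x⟩
  let σ : K ⟶ T.obj S.X₃ := adj.homEquiv _ _ s
  let f : pullback σ (T.map S.g) ⟶ K := pullback.fst _ _
  have hf : Epi f := by
    rw [← Sheaf.isLocallySurjective_iff_epi]
    have h := (Sheaf.isLocallySurjective_iff_epi (T.map S.g)).2 hT
    refine ⟨fun {U} x => ?_⟩
    refine J.superset_covering (fun V a ha => ?_) (h.imageSieve_mem (σ.hom.app _ x))
    obtain ⟨y, hy⟩ := ha
    let P := sheafToPresheaf J (Type u) ⋙ (evaluation Cᵒᵖ (Type u)).obj (op V)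
    have hl := IsPullback.map P (IsPullback.of_hasPullback σ (T.map S.g))
    have hc : σ.hom.app (op V) (K.obj.map a.op x) = (T.map S.g).hom.app (op V) y :=
      (NatTrans.naturality_apply σ.hom a.op x).trans hy.symm
    obtain ⟨z, hz1, hz2⟩ := Types.exists_of_isPullback hl (K.obj.map a.op x) y hc
    exact ⟨z, hz1⟩
  let τ : (H5TotAcyc.Zf J).obj (pullback σ (T.map S.g)) ⟶ S.X₂ := (adj.homEquiv _ _).symm (pullback.snd _ _)
  have hτ : τ ≫ S.g = (H5TotAcyc.Zf J).map f ≫ s := by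
    apply (adj.homEquiv _ _).injective
    rw [adj.homEquiv_naturality_right, adj.homEquiv_naturality_left, Equiv.apply_symm_apply]
    exact pullback.condition.symm
  let P := H5TotAcyc.Pn f
  let ε := AlgebraicTopology.AlternatingFaceMapComplex.ε.app (H5TotAcyc.Xn f)
  have : QuasiIso ε := H5CechNerve.quasiIso_free f
  let e := (H5TotAcyc.Zf J).map (H5TotAcyc.nerve0Iso f).hom
  have he : e ≫ (H5TotAcyc.Zf J).map f = ε.f 0 := by
    rw [← Functor.map_comp]
    refine Eq.trans (congrArg (H5TotAcyc.Zf J).map (WidePullback.π_arrow _ _)) ?_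
    simp [ε]
    rfl
  let τ0 : P.X 0 ⟶ S.X₂ := e ≫ τ
  have hτ0 : τ0 ≫ S.g = ε.f 0 ≫ s := by
    change (e ≫ τ) ≫ S.g = _
    rw [← he, Category.assoc, hτ]
    exact (Category.assoc _ _ _).symm
  have hc : (P.d 1 0 ≫ τ0) ≫ S.g = 0 := by
    rw [Category.assoc, hτ0, ← Category.assoc, H5TotAcyc.d_ε P ε, zero_comp]
  let c := hS.exact.lift _ hc
  have hc' : c ≫ S.f = P.d 1 0 ≫ τ0 := hS.exact.lift_f _ hc
  have hdc : P.d 2 1 ≫ c = 0 := by
    rw [← cancel_mono S.f, Category.assoc, hc', ← Category.assoc, P.d_comp_d, zero_comp, zero_comp]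
  obtain ⟨ψ, hψ⟩ := hF _ _ f hf 0 c hdc
  let τ1 : P.X 0 ⟶ S.X₂ := τ0 - ψ ≫ S.f
  have h1 : P.d 1 0 ≫ τ1 = 0 := by
    refine (Preadditive.comp_sub (P.d 1 0) τ0 (ψ ≫ S.f)).trans (sub_eq_zero.2 ?_)
    exact hc'.symm.trans ((congrArg (fun t => t ≫ S.f) hψ).symm.trans (Category.assoc _ _ _))
  have hex := H5TotAcyc.exact_zero P ε
  have : Epi (ε.f 0) := hex.2
  refine ⟨hex.1.desc τ1 h1, ?_⟩
  refine (cancel_epi (ε.f 0)).1 ?_
  erw [← Category.assoc, hex.1.g_desc τ1 h1]
  refine (Preadditive.sub_comp τ0 (ψ ≫ S.f) S.g).trans ?_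
  refine Eq.trans ?_ hτ0
  exact sub_eq_self.2 ((Category.assoc ψ S.f S.g).trans ((congrArg (fun t => ψ ≫ t) S.zero).trans comp_zero))

lemma good_quotient {S : ShortComplex (Sheaf J AddCommGrpCat.{u})} (hS : S.ShortExact) (hF : Good S.X₁)
    (hI : Good S.X₂) : Good S.X₃ := by
  intro K' K f hf n φ hφ
  have : Mono S.f := hS.mono_f
  let P := H5TotAcyc.Pn f
  obtain ⟨φ', hφ'⟩ : ∃ φ' : P.X (n + 1) ⟶ S.X₂, φ' ≫ S.g = φ := surj hS hF _ φ
  have hφ'' : φ' ≫ S.g = φ := hφ'
  have hc : (P.d (n + 2) (n + 1) ≫ φ') ≫ S.g = 0 := by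
    exact (Category.assoc _ _ _).trans ((congrArg (fun t => P.d (n + 2) (n + 1) ≫ t) hφ'').trans hφ)
  let c := hS.exact.lift _ hc
  have hc' : c ≫ S.f = P.d (n + 2) (n + 1) ≫ φ' := hS.exact.lift_f _ hc
  have hdc : P.d (n + 3) (n + 2) ≫ c = 0 := by
    rw [← cancel_mono S.f, Category.assoc, hc', ← Category.assoc, P.d_comp_d, zero_comp, zero_comp]
  obtain ⟨ψ0, h0⟩ := hF _ _ f hf (n + 1) c hdc
  obtain ⟨ψ, hψ⟩ := hI _ _ f hf n (φ' - ψ0 ≫ S.f) (by
    rw [Preadditive.comp_sub, ← Category.assoc]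
    erw [h0]
    rw [hc', sub_self])
  refine ⟨ψ ≫ S.g, ?_⟩
  rw [← Category.assoc, hψ, Preadditive.sub_comp, Category.assoc, S.zero, comp_zero, sub_zero]
  exact hφ''

theorem totallyAcyclic_of_good (F : Sheaf J AddCommGrpCat.{u}) (hF : Good F) : CohCx.IsTotallyAcyclic F := by
  intro K p
  exact H5SiteCoh.acyc_of_good Good ((H5TotAcyc.Zf J).obj K) (fun G hG =>
    ⟨good_quotient (H5SiteCoh.injSeq_shortExact G) hG (good_injective _), surj (H5SiteCoh.injSeq_shortExact G) hG K⟩) p F hF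

end good

section sheafHom
variable {C : Type u} [SmallCategory C] {J : GrothendieckTopology C} (O : Sheaf J CommRingCat.{u})

/-- presheaves of modules -/
abbrev PO : Type (u + 1) := H5ModTensor.PO O

lemma exact_of_eval (S : ShortComplex (Cᵒᵖ ⥤ AddCommGrpCat.{u}))
    (h : ∀ V : Cᵒᵖ, (S.map ((evaluation Cᵒᵖ AddCommGrpCat.{u}).obj V)).Exact) : S.Exact := by
  rw [ShortComplex.exact_iff_isZero_homology]
  refine Functor.isZero _ fun V => ?_
  exact ((ShortComplex.exact_iff_isZero_homology _).1 (h V)).of_iso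
    (S.mapHomologyIso ((evaluation Cᵒᵖ AddCommGrpCat.{u}).obj V)).symm

/-- `K ↦ O[K] ⊗ N` -/
noncomputable abbrev preL (N : PO O) : (Cᵒᵖ ⥤ Type u) ⥤ PO O :=
  PresheafOfModules.free (O.obj ⋙ forget₂ CommRingCat.{u} RingCat.{u}) ⋙ tensorRight N

lemma preL_exact (N : PO O) {K' K : Sheaf J (Type u)} (f : K' ⟶ K) (n : ℕ) :
    (AlgebraicTopology.AlternatingFaceMapComplex.obj
      (((SimplicialObject.whiskering _ _).obj (preL O N)).obj (H5CechNerve.Y f).left)).ExactAt (n + 1) := by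
  let U := ((SimplicialObject.Augmented.whiskering _ _).obj (preL O N)).obj (H5CechNerve.Y f)
  rw [HomologicalComplex.exactAt_iff' _ (n + 2) (n + 1) n (by simp) (by simp),
    ← ShortComplex.exact_map_iff_of_faithful _ (PresheafOfModules.toPresheaf _)]
  refine exact_of_eval _ fun V => ?_
  let Fv : Type u ⥤ ModuleCat.{u} (O.obj.obj V) := ModuleCat.free _ ⋙ tensorRight (N.obj V)
  let X₀ := ((SimplicialObject.Augmented.whiskering _ _).obj ((evaluation Cᵒᵖ (Type u)).obj V)).obj (H5CechNerve.Y f)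
  let h := ((H5CechNerve.ed f V).map Fv).homotopyEquiv
  have : QuasiIso h.hom := inferInstance
  have hx : ((SimplicialObject.Augmented.drop ⋙ AlgebraicTopology.alternatingFaceMapComplex _).obj
      (((SimplicialObject.Augmented.whiskering _ _).obj Fv).obj X₀)).ExactAt (n + 1) :=
    (quasiIsoAt_iff_exactAt' h.hom (n + 1) (ChainComplex.exactAt_succ_single_obj _ n)).1 inferInstance
  let G : PO O ⥤ ModuleCat.{u} (O.obj.obj V) :=
    PresheafOfModules.evaluation (O.obj ⋙ forget₂ CommRingCat.{u} RingCat.{u}) V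
  have hG : G.Additive := inferInstanceAs (PresheafOfModules.evaluation (O.obj ⋙ forget₂ CommRingCat.{u} RingCat.{u}) V).Additive
  have hy : ((G.mapHomologicalComplex _).obj (AlgebraicTopology.AlternatingFaceMapComplex.obj
      (((SimplicialObject.whiskering _ _).obj (preL O N)).obj (H5CechNerve.Y f).left))).ExactAt (n + 1) :=
    HomologicalComplex.ExactAt.of_iso hx (H5CechNerve.altIso G
      (((SimplicialObject.whiskering _ _).obj (preL O N)).obj (H5CechNerve.Y f).left)).symm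
  rw [HomologicalComplex.exactAt_iff' _ (n + 2) (n + 1) n (by simp) (by simp)] at hy
  exact hy.map (forget₂ (ModuleCat.{u} (O.obj.obj V)) AddCommGrpCat.{u})

/-- `K ↦ O[K] ⊗ F`, sheafified -/
noncomputable abbrev L (F : ModSite.Mod O) : (Cᵒᵖ ⥤ Type u) ⥤ ModSite.Mod O :=
  preL O ((SheafOfModules.forget (ModSite.ringSh O)).obj F) ⋙ H5ModTensor.sh O

lemma L_exact (F : ModSite.Mod O) {K' K : Sheaf J (Type u)} (f : K' ⟶ K) (n : ℕ) :
    (AlgebraicTopology.AlternatingFaceMapComplex.obj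
      (((SimplicialObject.whiskering _ _).obj (L O F)).obj (H5CechNerve.Y f).left)).ExactAt (n + 1) := by
  let adj : H5ModTensor.sh O ⊣ (SheafOfModules.forget _ ⋙ PresheafOfModules.restrictScalars (𝟙 (ModSite.ringSh O).obj)) :=
    PresheafOfModules.sheafificationAdjunction.{u} (𝟙 (ModSite.ringSh O).obj)
  haveI : (H5ModTensor.sh O).IsLeftAdjoint := adj.isLeftAdjoint
  haveI : PreservesFiniteLimits (H5ModTensor.sh O) :=
    inferInstanceAs (PreservesFiniteLimits (PresheafOfModules.sheafification.{u} (𝟙 (ModSite.ringSh O).obj)))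
  haveI : (H5ModTensor.sh O).Additive := Functor.additive_of_preserves_binary_products _
  let P := AlgebraicTopology.AlternatingFaceMapComplex.obj
      (((SimplicialObject.whiskering _ _).obj (preL O ((SheafOfModules.forget (ModSite.ringSh O)).obj F))).obj
        (H5CechNerve.Y f).left)
  have h := preL_exact O ((SheafOfModules.forget (ModSite.ringSh O)).obj F) f n
  have hm : (((H5ModTensor.sh O).mapHomologicalComplex _).obj P).ExactAt (n + 1) := by
    rw [HomologicalComplex.exactAt_iff' _ (n + 2) (n + 1) n (by simp) (by simp)] at h ⊢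
    exact h.map (H5ModTensor.sh O)
  exact hm.of_iso (H5CechNerve.altIso _ _)

variable (F : ModSite.Mod O) [ModSite.HasSheafHom F]

/-- sets underlying the internal hom -/
noncomputable abbrev R : ModSite.Mod O ⥤ (Cᵒᵖ ⥤ Type u) :=
  ModSite.sheafHom F ⋙ (SheafOfModules.forget _ ⋙ PresheafOfModules.restrictScalars (𝟙 (ModSite.ringSh O).obj)) ⋙
    (PresheafOfModules.toPresheaf (O.obj ⋙ forget₂ CommRingCat.{u} RingCat.{u}) ⋙
      (Functor.whiskeringRight _ _ _).obj (forget AddCommGrpCat.{u}))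

/-- tensoring commutes with sheafification -/
noncomputable def shTensorIso :
    tensorRight (C := PO O) ((SheafOfModules.forget (ModSite.ringSh O)).obj F) ⋙ H5ModTensor.sh O ≅
      H5ModTensor.sh O ⋙ (ModSite.tensorBi O).flip.obj F := by
  let adj : H5ModTensor.sh O ⊣ (SheafOfModules.forget _ ⋙ PresheafOfModules.restrictScalars (𝟙 (ModSite.ringSh O).obj)) :=
    PresheafOfModules.sheafificationAdjunction.{u} (𝟙 (ModSite.ringSh O).obj)
  let N' : PO O := (SheafOfModules.forget (ModSite.ringSh O)).obj F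
  let T : PO O ⥤ ModSite.Mod O := tensorRight (C := PO O) N' ⋙ H5ModTensor.sh O
  let η := Functor.whiskerRight adj.unit T
  have : ∀ A, IsIso (η.app A) := fun A =>
    H5ModTensor.isIso_sheafify_whiskerRight O (adj.unit.app A) (H5ModTensor.W_unit O A) N'
  exact (Functor.leftUnitor T).symm ≪≫ @asIso _ _ _ _ η (@NatIso.isIso_of_isIso_app _ _ _ _ _ _ η this) ≪≫ Functor.associator _ _ _ ≪≫
    Functor.isoWhiskerLeft (H5ModTensor.sh O) (NatIso.ofComponents (fun M => Iso.refl _)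
      (fun g => by exact (Category.comp_id _).trans (Category.id_comp _).symm) :
        (SheafOfModules.forget _ ⋙ PresheafOfModules.restrictScalars (𝟙 (ModSite.ringSh O).obj)) ⋙ T ≅
          (ModSite.tensorBi O).flip.obj F)

/-- the adjunction -/
noncomputable def adjL : L O F ⊣ R O F :=
  (((PresheafOfModules.freeAdjunction (O.obj ⋙ forget₂ CommRingCat.{u} RingCat.{u})).comp
      (PresheafOfModules.sheafificationAdjunction.{u} (𝟙 (ModSite.ringSh O).obj) :
        H5ModTensor.sh O ⊣ _)).comp (ModSite.sheafHomAdj F)).ofNatIsoLeft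
    (Functor.associator _ _ _ ≪≫ Functor.isoWhiskerLeft _ (shTensorIso O F).symm)

/-- free abelian sheaves on presheaves of sets -/
noncomputable abbrev L1 (J : GrothendieckTopology C) : (Cᵒᵖ ⥤ Type u) ⥤ Sheaf J AddCommGrpCat.{u} :=
  (Functor.whiskeringRight Cᵒᵖ (Type u) AddCommGrpCat.{u}).obj AddCommGrpCat.free.{u} ⋙ presheafToSheaf J _

/-- sections as sets -/
noncomputable abbrev R1 (J : GrothendieckTopology C) : Sheaf J AddCommGrpCat.{u} ⥤ (Cᵒᵖ ⥤ Type u) :=
  sheafToPresheaf J _ ⋙ (Functor.whiskeringRight Cᵒᵖ AddCommGrpCat.{u} (Type u)).obj (forget AddCommGrpCat.{u})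

/-- its adjunction -/
noncomputable def adj1 (J : GrothendieckTopology C) : L1 J ⊣ R1 J :=
  (Adjunction.whiskerRight Cᵒᵖ AddCommGrpCat.adj.{u}).comp (sheafificationAdjunction J AddCommGrpCat.{u})

variable {O}

/-- value of a map of presheaves of sets into sections -/
noncomputable def ev {K : Cᵒᵖ ⥤ Type u} {A : Sheaf J AddCommGrpCat.{u}} (t : K ⟶ (R1 J).obj A) (V : Cᵒᵖ)
    (x : K.obj V) : A.obj.obj V := t.app V x

lemma ev_add (K : Cᵒᵖ ⥤ Type u) (A : Sheaf J AddCommGrpCat.{u}) (p q : (L1 J).obj K ⟶ A) (V : Cᵒᵖ) (x : K.obj V) :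
    ev ((adj1 J).homEquiv K A (p + q)) V x =
      ev ((adj1 J).homEquiv K A p) V x + ev ((adj1 J).homEquiv K A q) V x := by
  rw [Adjunction.homEquiv_unit, Adjunction.homEquiv_unit, Adjunction.homEquiv_unit]
  rfl

variable (O)
variable (G : ModSite.Mod O)

/-- the comparison of hom groups -/
noncomputable def E (K : Cᵒᵖ ⥤ Type u) :
    ((L1 J).obj K ⟶ ModSite.toAb ((ModSite.sheafHom F).obj G)) ≃+ ((L O F).obj K ⟶ G) :=
  AddEquiv.symm
  { toEquiv := ((adjL O F).homEquiv K G).trans ((adj1 J).homEquiv K (ModSite.toAb ((ModSite.sheafHom F).obj G))).symm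
    map_add' := fun a b => by
      apply ((adj1 J).homEquiv K _).injective
      simp only [Equiv.toFun_as_coe, Equiv.trans_apply, Equiv.apply_symm_apply]
      ext V x
      refine Eq.trans ?_ (ev_add K _ _ _ V x).symm
      refine Eq.trans ?_ (congrArg₂ (fun p q => ev p V x + ev q V x)
        (((adj1 J).homEquiv K (ModSite.toAb ((ModSite.sheafHom F).obj G))).apply_symm_apply ((adjL O F).homEquiv K G a))
        (((adj1 J).homEquiv K (ModSite.toAb ((ModSite.sheafHom F).obj G))).apply_symm_apply ((adjL O F).homEquiv K G b))).symm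
      erw [Equiv.apply_symm_apply]
      change ev (A := ModSite.toAb ((ModSite.sheafHom F).obj G)) ((adjL O F).homEquiv K G (a + b)) V x =
        ev (A := ModSite.toAb ((ModSite.sheafHom F).obj G)) ((adjL O F).homEquiv K G a) V x +
          ev (A := ModSite.toAb ((ModSite.sheafHom F).obj G)) ((adjL O F).homEquiv K G b) V x
      rw [Adjunction.homEquiv_unit, Adjunction.homEquiv_unit, Adjunction.homEquiv_unit]
      change ((ModSite.sheafHom F).map (a + b)).val.app V _ = _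
      rw [Functor.map_add]
      rfl }

lemma E_nat {K K' : Cᵒᵖ ⥤ Type u} (g : K ⟶ K') (φ : (L1 J).obj K' ⟶ ModSite.toAb ((ModSite.sheafHom F).obj G)) :
    E O F G K ((L1 J).map g ≫ φ) = (L O F).map g ≫ E O F G K' φ := by
  change ((adjL O F).homEquiv K G).symm ((adj1 J).homEquiv K _ ((L1 J).map g ≫ φ)) =
    (L O F).map g ≫ ((adjL O F).homEquiv K' G).symm ((adj1 J).homEquiv K' _ φ)
  refine (congrArg ((adjL O F).homEquiv K G).symm ((adj1 J).homEquiv_naturality_left g φ)).trans ?_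
  exact (adjL O F).homEquiv_naturality_left_symm g _

lemma E_d (S : SimplicialObject (Cᵒᵖ ⥤ Type u)) (m : ℕ)
    (χ : (L1 J).obj (S.obj (op ⟨m⟩)) ⟶ ModSite.toAb ((ModSite.sheafHom F).obj G)) :
    E O F G (S.obj (op ⟨m + 1⟩))
        ((∑ i : Fin (m + 2), (-1 : ℤ) ^ (i : ℕ) • (L1 J).map (S.δ i)) ≫ χ) =
      (∑ i : Fin (m + 2), (-1 : ℤ) ^ (i : ℕ) • (L O F).map (S.δ i)) ≫ E O F G (S.obj (op ⟨m⟩)) χ := by
  rw [Preadditive.sum_comp, Preadditive.sum_comp, map_sum]
  refine Finset.sum_congr rfl fun i _ => ?_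
  rw [Preadditive.zsmul_comp, Preadditive.zsmul_comp, map_zsmul]
  exact congrArg (fun t => (-1 : ℤ) ^ (i : ℕ) • t) (E_nat O F G (S.δ i) χ)

lemma alt_d {A : Type (u + 1)} [Category.{u} A] [Preadditive A] (Φ : (Cᵒᵖ ⥤ Type u) ⥤ A)
    (S : SimplicialObject (Cᵒᵖ ⥤ Type u)) (m : ℕ) :
    (AlgebraicTopology.AlternatingFaceMapComplex.obj (((SimplicialObject.whiskering _ _).obj Φ).obj S)).d (m + 1) m =
      ∑ i : Fin (m + 2), (-1 : ℤ) ^ (i : ℕ) • Φ.map (S.δ i) :=
  AlgebraicTopology.AlternatingFaceMapComplex.obj_d_eq _ _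

lemma good_aux [Injective G] (S : SimplicialObject (Cᵒᵖ ⥤ Type u))
    (hS : ∀ n, (AlgebraicTopology.AlternatingFaceMapComplex.obj
      (((SimplicialObject.whiskering _ _).obj (L O F)).obj S)).ExactAt (n + 1)) (n : ℕ)
    (φ : (AlgebraicTopology.AlternatingFaceMapComplex.obj (((SimplicialObject.whiskering _ _).obj (L1 J)).obj S)).X (n + 1)
      ⟶ ModSite.toAb ((ModSite.sheafHom F).obj G))
    (hφ : (AlgebraicTopology.AlternatingFaceMapComplex.obj (((SimplicialObject.whiskering _ _).obj (L1 J)).obj S)).d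
      (n + 2) (n + 1) ≫ φ = 0) :
    ∃ ψ, (AlgebraicTopology.AlternatingFaceMapComplex.obj (((SimplicialObject.whiskering _ _).obj (L1 J)).obj S)).d
      (n + 1) n ≫ ψ = φ := by
  have h := hS n
  rw [HomologicalComplex.exactAt_iff' _ (n + 2) (n + 1) n (by simp) (by simp)] at h
  let φ' : (L1 J).obj (S.obj (op ⟨n + 1⟩)) ⟶ ModSite.toAb ((ModSite.sheafHom F).obj G) := φ
  have h0 : (AlgebraicTopology.AlternatingFaceMapComplex.obj (((SimplicialObject.whiskering _ _).obj (L O F)).obj S)).d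
      (n + 2) (n + 1) ≫ E O F G (S.obj (op ⟨n + 1⟩)) φ' = 0 := by
    rw [alt_d]
    refine (E_d O F G S (n + 1) φ').symm.trans ?_
    rw [← alt_d]
    exact (congrArg (E O F G (S.obj (op ⟨n + 2⟩))) hφ).trans (map_zero _)
  let ψ' : (L O F).obj (S.obj (op ⟨n⟩)) ⟶ G := h.descToInjective (E O F G (S.obj (op ⟨n + 1⟩)) φ') h0
  refine ⟨(E O F G (S.obj (op ⟨n⟩))).symm ψ', ?_⟩
  apply (E O F G (S.obj (op ⟨n + 1⟩))).injective
  rw [alt_d]
  refine (E_d O F G S n _).trans ?_
  rw [AddEquiv.apply_symm_apply, ← alt_d]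
  exact h.comp_descToInjective _ h0

/-- total acyclicity of internal homs into injectives -/
theorem good_sheafHom [Injective G] : Good (ModSite.toAb ((ModSite.sheafHom F).obj G)) :=
  fun _ _ f _ n φ hφ => good_aux O F G (H5CechNerve.Y f).left (fun m => L_exact O F f m) n φ hφ

theorem isTotallyAcyclic_sheafHom [Injective G] :
    CohCx.IsTotallyAcyclic (ModSite.toAb ((ModSite.sheafHom F).obj G)) :=
  totallyAcyclic_of_good _ (good_sheafHom O F G)

end sheafHom

end Groth.Agent.H5Flasque
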