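import Mathlib
import Groth.Prelude.Def_W4c5qcohlocdualityLoc

universe w v u
namespace Groth.Agent.H5GabClosed
open CategoryTheory Limits GabLoc ZeroObject

variable {C : Type u} [Category.{v} C] [Abelian C] (M : C)

/-- no maps to `M` -/
def C0 (Y : C) : Prop := ∀ f : Y ⟶ M, f = 0

/-- extensions by `M` have sections -/
def C2 (Y : C) : Prop :=
  ∀ (N : C) (i : M ⟶ N) (p : N ⟶ Y) (hp : i ≫ p = 0), (ShortComplex.mk i p hp).ShortExact → ∃ s : Y ⟶ N, s ≫ p = 𝟙 Y

/-- every subquotient is closed -/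
def T : ObjectProperty C := fun X => ∀ (B Y : C) (i : B ⟶ X) (p : B ⟶ Y), Mono i → Epi p → C0 M Y ∧ C2 M Y

variable {M}

lemma C0_ext {Y1 Y Y3 : C} (u : Y1 ⟶ Y) (v : Y ⟶ Y3) (huv : u ≫ v = 0) (h : (ShortComplex.mk u v huv).ShortExact)
    (h1 : C0 M Y1) (h3 : C0 M Y3) : C0 M Y := fun f => by
  have := h.epi_g
  have e : v ≫ h.exact.desc f (h1 _) = f := h.exact.g_desc f (h1 _)
  rw [← e, h3 (h.exact.desc f (h1 _)), comp_zero]

lemma C2_ext {Y1 Y Y3 : C} (u : Y1 ⟶ Y) (v : Y ⟶ Y3) (huv : u ≫ v = 0) (h : (ShortComplex.mk u v huv).ShortExact)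
    (h1 : C2 M Y1) (h3 : C2 M Y3) : C2 M Y := by
  intro N i p hp hS
  haveI : Mono i := hS.mono_f
  haveI : Epi p := hS.epi_g
  haveI : Mono u := h.mono_f
  haveI : Epi v := h.epi_g
  let i1 : M ⟶ pullback p u := pullback.lift i 0 (by rw [hp, zero_comp])
  have hp1 : i1 ≫ pullback.snd p u = 0 := pullback.lift_snd _ _ _
  have hS1 : (ShortComplex.mk i1 (pullback.snd p u) hp1).ShortExact := by
    haveI : Mono i1 := by
      haveI : Mono (i1 ≫ pullback.fst p u) := by rw [pullback.lift_fst]; infer_instance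
      exact mono_of_mono i1 (pullback.fst p u)
    refine ShortComplex.ShortExact.mk' ?_ ‹Mono i1› inferInstance
    rw [ShortComplex.exact_iff_exact_up_to_refinements]
    intro A y hy
    obtain ⟨A', π, hπ, m, hm⟩ := hS.exact.exact_up_to_refinements (y ≫ pullback.fst p u) (by
      change (y ≫ pullback.fst p u) ≫ p = 0
      rw [Category.assoc, pullback.condition, ← Category.assoc]
      change (y ≫ pullback.snd p u) ≫ u = 0
      rw [hy, zero_comp])
    refine ⟨A', π, hπ, m, pullback.hom_ext ?_ ?_⟩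
    · change (π ≫ y) ≫ _ = (m ≫ i1) ≫ _
      rw [Category.assoc m, pullback.lift_fst, Category.assoc]
      exact hm
    · change (π ≫ y) ≫ _ = (m ≫ i1) ≫ _
      rw [Category.assoc m, pullback.lift_snd, comp_zero, Category.assoc, hy, comp_zero]
  obtain ⟨σ₀, hσ₀⟩ := h1 _ i1 _ hp1 hS1
  let σ : Y1 ⟶ N := σ₀ ≫ pullback.fst p u
  have hσ : σ ≫ p = u := by
    rw [Category.assoc, pullback.condition, ← Category.assoc, hσ₀, Category.id_comp]
  let π := cokernel.π σ
  let p' : cokernel σ ⟶ Y3 := cokernel.desc σ (p ≫ v) (by rw [← Category.assoc, hσ, huv])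
  have hπp : π ≫ p' = p ≫ v := cokernel.π_desc _ _ _
  have hp' : (i ≫ π) ≫ p' = 0 := by rw [Category.assoc, hπp, ← Category.assoc, hp, zero_comp]
  have hker : ∀ {A : C} (z : A ⟶ N), z ≫ π = 0 → ∃ (A' : C) (q : A' ⟶ A) (_ : Epi q) (k : A' ⟶ Y1), q ≫ z = k ≫ σ :=
    fun z hz => (ShortComplex.exact_cokernel σ).exact_up_to_refinements z hz
  have hS3 : (ShortComplex.mk (i ≫ π) p' hp').ShortExact := by
    refine ShortComplex.ShortExact.mk' ?_ ?_ ?_
    · rw [ShortComplex.exact_iff_exact_up_to_refinements]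
      intro A y hy
      change y ≫ p' = 0 at hy
      obtain ⟨A1, q1, _, n, hn⟩ := surjective_up_to_refinements_of_epi π y
      have h0 : (n ≫ p) ≫ v = 0 := by
        rw [Category.assoc, ← hπp, ← Category.assoc, ← hn, Category.assoc, hy, comp_zero]
      obtain ⟨A2, q2, _, z, hz⟩ := h.exact.exact_up_to_refinements (n ≫ p) h0
      change q2 ≫ n ≫ p = z ≫ u at hz
      obtain ⟨A3, q3, _, m, hm⟩ := hS.exact.exact_up_to_refinements (q2 ≫ n - z ≫ σ) (by
        change (q2 ≫ n - z ≫ σ) ≫ p = 0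
        rw [Preadditive.sub_comp, Category.assoc, hz, Category.assoc, hσ, sub_self])
      change q3 ≫ (q2 ≫ n - z ≫ σ) = m ≫ i at hm
      refine ⟨A3, q3 ≫ q2 ≫ q1, inferInstance, m, ?_⟩
      change (q3 ≫ q2 ≫ q1) ≫ y = m ≫ i ≫ π
      rw [← Category.assoc m, ← hm]
      simp only [Preadditive.comp_sub, Preadditive.sub_comp, Category.assoc, π, cokernel.condition, comp_zero, sub_zero, hn]
    · change Mono (i ≫ π)
      refine (Preadditive.mono_iff_cancel_zero _).2 fun A x hx => ?_
      obtain ⟨A', q, _, k, hk⟩ := hker (x ≫ i) (by rw [Category.assoc, hx])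
      have hk0 : k = 0 := by
        rw [← cancel_mono u, zero_comp, ← hσ, ← Category.assoc, ← hk, Category.assoc, Category.assoc, hp, comp_zero, comp_zero]
      rw [hk0, zero_comp, ← Category.assoc] at hk
      rw [← cancel_epi q, comp_zero, ← cancel_mono i, zero_comp, hk]
    · change Epi p'
      haveI : Epi (π ≫ p') := by rw [hπp]; infer_instance
      exact epi_of_epi π p'
  obtain ⟨τ, hτ⟩ := h3 _ _ _ hp' hS3
  let sp := ShortComplex.Splitting.ofExactOfSection _ hS3.exact τ hτ hS3.mono_f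
  let sp' := ShortComplex.Splitting.ofExactOfRetraction _ hS.exact (π ≫ sp.r)
    (by rw [← Category.assoc]; exact sp.f_r) hS.epi_g
  exact ⟨sp'.s, sp'.s_g⟩

lemma T_sub {X X' : C} (i : X' ⟶ X) [Mono i] (h : T M X) : T M X' :=
  fun B Y j p _ hp => h B Y (j ≫ i) p inferInstance hp

lemma T_quot {X X' : C} (q : X ⟶ X') [Epi q] (h : T M X) : T M X' := fun B Y j p _ _ =>
  h (pullback q j) Y (pullback.fst q j) (pullback.snd q j ≫ p) inferInstance inferInstance

lemma T_self {X : C} (h : T M X) : C0 M X ∧ C2 M X := h X X (𝟙 X) (𝟙 X) inferInstance inferInstance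

lemma T_zero {X : C} (hX : IsZero X) : T M X := fun B Y j p _ _ => by
  have hY : IsZero Y := IsZero.of_epi p (IsZero.of_mono j hX)
  exact ⟨fun f => hY.eq_of_src _ _, fun N i q hq _ => ⟨0, hY.eq_of_src _ _⟩⟩

lemma T_ext {S : ShortComplex C} (hS : S.ShortExact) (h1 : T M S.X₁) (h3 : T M S.X₃) : T M S.X₂ := by
  intro B Y j p _ _
  haveI := hS.mono_f
  let K := kernel (j ≫ S.g)
  let a : K ⟶ S.X₁ := hS.exact.lift (kernel.ι (j ≫ S.g) ≫ j) (by rw [Category.assoc, kernel.condition])
  haveI : Mono a := by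
    haveI : Mono (a ≫ S.f) := by rw [hS.exact.lift_f]; infer_instance
    exact mono_of_mono a S.f
  let h' := kernel.ι (j ≫ S.g) ≫ p
  have hT1 := h1 K (Abelian.image h') a (Abelian.factorThruImage h') inferInstance inferInstance
  let b : cokernel (kernel.ι (j ≫ S.g)) ⟶ S.X₃ := cokernel.desc _ (j ≫ S.g) (kernel.condition _)
  haveI : Mono b := inferInstanceAs (Mono (Abelian.factorThruCoimage (j ≫ S.g)))
  let c : cokernel (kernel.ι (j ≫ S.g)) ⟶ cokernel h' := cokernel.desc _ (p ≫ cokernel.π h') (by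
    rw [← Category.assoc]; exact cokernel.condition h')
  haveI : Epi c := by
    haveI : Epi (cokernel.π (kernel.ι (j ≫ S.g)) ≫ c) := by rw [cokernel.π_desc]; infer_instance
    exact epi_of_epi (cokernel.π (kernel.ι (j ≫ S.g))) c
  have hT3 := h3 _ _ b c inferInstance inferInstance
  have hse : (ShortComplex.mk (Abelian.image.ι h') (cokernel.π h') (kernel.condition _)).ShortExact :=
    ShortComplex.ShortExact.mk' (ShortComplex.exact_of_f_is_kernel _ (kernelIsKernel _)) inferInstance inferInstance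
  exact ⟨C0_ext _ _ _ hse hT1.1 hT3.1, C2_ext _ _ _ hse hT1.2 hT3.2⟩

lemma T_iso {X X' : C} (e : X ≅ X') (h : T M X) : T M X' := T_sub e.inv h

instance : (T M).IsClosedUnderIsomorphisms := ⟨fun e h => T_iso e h⟩

variable [IsGrothendieckAbelian.{w} C]

lemma T_fin {α : Type w} [Finite α] : ∀ (X : α → C), (∀ j, T M (X j)) → T M (∐ X) := by
  refine Finite.induction_empty_option (P := fun α => ∀ (X : α → C), (∀ j, T M (X j)) → T M (∐ X)) ?_ ?_ ?_ α
  · intro α β e hα X hX
    exact T_iso (Sigma.reindex e X) (hα _ fun j => hX (e j))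
  · intro X _
    exact T_zero ((IsZero.iff_id_eq_zero _).2 (Sigma.hom_ext _ _ fun j => j.elim))
  · intro β _ hβ X hX
    refine T_ext (S := ShortComplex.mk (Sigma.ι X none)
        (Sigma.desc (fun j => j.casesOn 0 (fun b => Sigma.ι (fun b => X (some b)) b))) (by simp))
      (ShortComplex.Splitting.shortExact
        { r := Sigma.desc (fun j => match j with | none => 𝟙 _ | some _ => 0)
          s := Sigma.desc (fun b => Sigma.ι X (some b))
          f_r := by simp
          s_g := Sigma.hom_ext _ _ fun b => by simp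
          id := Sigma.hom_ext _ _ fun j => by cases j <;> simp }) (hX none) (hβ _ fun b => hX (some b))

lemma cover {J : Type w} (X : J → C) {B : C} (i : B ⟶ ∐ X) [Mono i] (hX : ∀ j, T M (X j)) :
    ∃ (κ : Type w) (K : κ → C) (l : ∀ s, K s ⟶ B), (∀ s, T M (K s)) ∧ Epi (Sigma.desc l) := by
  haveI : HasExactColimitsOfShape (Finset (Discrete J)) C := inferInstance
  haveI : IsConnected (Finset (Discrete J)) := IsFiltered.isConnected _
  let D := CoproductsFromFiniteFiltered.liftToFinsetObj (Discrete.functor X)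
  let e : ∐ X ≅ colimit D := (colimit.isColimit _).coconePointUniqueUpToIso
    (CoproductsFromFiniteFiltered.liftToFinsetColimitCocone (Discrete.functor X)).isColimit
  let i' : B ⟶ colimit D := i ≫ e.hom
  let Q := cokernel i'
  let q : colimit D ⟶ Q := cokernel.π i'
  let φ : D ⟶ (Functor.const (Finset (Discrete J))).obj Q :=
    { app := fun s => colimit.ι D s ≫ q
      naturality := fun s t a => by simp }
  let S : ShortComplex (Finset (Discrete J) ⥤ C) := ShortComplex.mk (kernel.ι φ) φ (kernel.condition φ)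
  have hS : S.Exact := ShortComplex.exact_of_f_is_kernel _ (kernelIsKernel φ)
  have hcomb := colim.exact_mapShortComplex hS (colimit.isColimit _) (colimit.isColimit D)
    (isColimitConstCocone (Finset (Discrete J)) Q) (colimMap (kernel.ι φ)) q
    (fun s => ι_colimMap _ _) (fun s => (Category.comp_id _).symm)
  haveI : Mono i' := mono_comp i e.hom
  haveI : ∀ s, Mono ((kernel.ι φ).app s) := fun s =>
    (NatTrans.mono_iff_mono_app _).1 inferInstance s
  have hz : ∀ s, ((kernel.ι φ).app s ≫ colimit.ι D s) ≫ q = 0 := fun s => by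
    rw [Category.assoc]; exact congr_app (kernel.condition φ) s
  have hex := ShortComplex.exact_cokernel i'
  let l : ∀ s, (kernel φ).obj s ⟶ B := fun s => hex.lift _ (hz s)
  have hl : ∀ s, l s ≫ i' = (kernel.ι φ).app s ≫ colimit.ι D s := fun s => hex.lift_f _ _
  refine ⟨Finset (Discrete J), fun s => (kernel φ).obj s, l,
    fun s => T_sub ((kernel.ι φ).app s) (T_fin _ fun x => hX x.1.as), ?_⟩
  obtain ⟨A', π, hπ, x, hx⟩ : ∃ (A' : C) (π : A' ⟶ B) (_ : Epi π) (x : A' ⟶ colimit (kernel φ)),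
      π ≫ i' = x ≫ colimMap (kernel.ι φ) := hcomb.exact_up_to_refinements i' (cokernel.condition i')
  refine (Preadditive.epi_iff_cancel_zero _).2 fun Z u hu => ?_
  let L : colimit (kernel φ) ⟶ B := hex.lift (colimMap (kernel.ι φ)) (colimit.hom_ext fun s => by
    rw [ι_colimMap_assoc, comp_zero, ← Category.assoc]; exact hz s)
  have hL : ∀ s, colimit.ι (kernel φ) s ≫ L = l s := fun s => by
    rw [← cancel_mono i', Category.assoc, hex.lift_f, ι_colimMap, hl]
  have hπL : π = x ≫ L := by rw [← cancel_mono i', Category.assoc, hex.lift_f]; exact hx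
  have hLu : L ≫ u = 0 := colimit.hom_ext fun s => by
    rw [← Category.assoc, hL, comp_zero]
    simpa using congrArg (fun z => Sigma.ι (fun s => (kernel φ).obj s) s ≫ z) hu
  rw [← cancel_epi π, comp_zero, hπL, Category.assoc, hLu, comp_zero]

lemma C0_sub {J : Type w} (X : J → C) (hX : ∀ j, T M (X j)) {B Y : C} (i : B ⟶ ∐ X) [Mono i] (p : B ⟶ Y) [Epi p] :
    C0 M Y := fun f => by
  obtain ⟨κ, K, l, hK, hl⟩ := cover X i hX
  rw [← cancel_epi p, ← cancel_epi (Sigma.desc l)]
  refine Sigma.hom_ext _ _ fun s => ?_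
  rw [Sigma.ι_desc_assoc]
  exact ((T_self (hK s)).1 (l s ≫ p ≫ f)).trans (by simp)

lemma T_coprod {J : Type w} (X : J → C) (hX : ∀ j, T M (X j)) : T M (∐ X) := by
  intro B Y j p _ _
  refine ⟨C0_sub X hX j p, fun N a q haq hS => ?_⟩
  obtain ⟨κ, K, l, hK, hl⟩ := cover X j hX
  haveI : Mono a := hS.mono_f
  have hY : ∀ s, C2 M (Abelian.image (l s ≫ p)) := fun s =>
    (hK s (K s) _ (𝟙 _) (Abelian.factorThruImage (l s ≫ p)) inferInstance inferInstance).2
  have hlift : ∀ s, ∃ g : K s ⟶ N, g ≫ q = l s ≫ p := fun s => by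
    let e := Abelian.image.ι (l s ≫ p)
    let a1 : M ⟶ pullback q e := pullback.lift a 0 (by rw [haq, zero_comp])
    have h1 : a1 ≫ pullback.snd q e = 0 := pullback.lift_snd _ _ _
    haveI : Mono a1 := by
      haveI : Mono (a1 ≫ pullback.fst q e) := by rw [pullback.lift_fst]; infer_instance
      exact mono_of_mono a1 (pullback.fst q e)
    haveI := hS.epi_g
    have hS1 : (ShortComplex.mk a1 (pullback.snd q e) h1).ShortExact := by
      refine ShortComplex.ShortExact.mk' ?_ ‹Mono a1› inferInstance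
      rw [ShortComplex.exact_iff_exact_up_to_refinements]
      intro A y hy
      obtain ⟨A', π, hπ, m, hm⟩ := hS.exact.exact_up_to_refinements (y ≫ pullback.fst q e) (by
        change (y ≫ pullback.fst q e) ≫ q = 0
        rw [Category.assoc, pullback.condition, ← Category.assoc]
        change (y ≫ pullback.snd q e) ≫ e = 0
        rw [hy, zero_comp])
      refine ⟨A', π, hπ, m, pullback.hom_ext ?_ ?_⟩
      · change (π ≫ y) ≫ _ = (m ≫ a1) ≫ _
        rw [Category.assoc m, pullback.lift_fst, Category.assoc]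
        exact hm
      · change (π ≫ y) ≫ _ = (m ≫ a1) ≫ _
        rw [Category.assoc m, pullback.lift_snd, comp_zero, Category.assoc, hy, comp_zero]
    obtain ⟨σ, hσ⟩ := hY s _ a1 _ h1 hS1
    refine ⟨Abelian.factorThruImage (l s ≫ p) ≫ σ ≫ pullback.fst q e, ?_⟩
    rw [Category.assoc, Category.assoc, pullback.condition, ← Category.assoc σ, hσ, Category.id_comp]
    exact Abelian.image.fac _
  choose g hg using hlift
  let L := Sigma.desc l ≫ p
  let G := Sigma.desc g
  have hG : G ≫ q = L := Sigma.hom_ext _ _ fun s => by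
    simp only [G, L, Sigma.ι_desc_assoc, hg]
  have hk : kernel.ι L ≫ G = 0 := by
    have h0 : (kernel.ι L ≫ G) ≫ q = 0 := by rw [Category.assoc, hG, kernel.condition]
    have e : hS.exact.lift (kernel.ι L ≫ G) h0 ≫ a = kernel.ι L ≫ G := hS.exact.lift_f _ h0
    rw [← e, C0_sub K hK (kernel.ι L) (𝟙 _) (hS.exact.lift (kernel.ι L ≫ G) h0), zero_comp]
  haveI : Epi L := epi_comp _ _
  let K0 : ShortComplex C := ShortComplex.mk (kernel.ι L) L (kernel.condition L)
  have hK0 : K0.Exact := ShortComplex.exact_of_f_is_kernel _ (kernelIsKernel L)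
  refine ⟨hK0.desc G hk, ?_⟩
  rw [← cancel_epi L, ← Category.assoc, Category.comp_id]
  exact (congrArg (fun z => z ≫ q) (hK0.g_desc G hk)).trans hG

variable (M) in
lemma isLocalizing_T : IsLocalizing.{w} (T M : ObjectProperty C) where
  isSerreClass :=
    { exists_zero := ⟨0, isZero_zero C, T_zero (isZero_zero C)⟩
      prop_of_mono := fun f _ h => T_sub f h
      prop_of_epi := fun f _ h => T_quot f h
      prop_X₂_of_shortExact := fun hS h1 h3 => T_ext hS h1 h3 }
  isClosedUnderCoproducts J := ObjectProperty.IsClosedUnderColimitsOfShape.mk' (by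
    rintro _ ⟨F, hF⟩
    exact T_iso (HasColimit.isoOfNatIso (Discrete.natIsoFunctor (F := F)).symm)
      (T_coprod (fun j => F.obj ⟨j⟩) fun j => hF ⟨j⟩))

/-- closedness for a class closed under subquotients -/
lemma le_T (P : ObjectProperty C) (hsub : ∀ {A B : C} (i : A ⟶ B), Mono i → P B → P A)
    (hquot : ∀ {A B : C} (i : A ⟶ B), Epi i → P A → P B) (h : IsClosedFor P M) : P ≤ T M := by
  intro X hX B Y j p hj hpe
  have hY : P Y := hquot p hpe (hsub j hj hX)
  refine ⟨fun f => h.1 hY f, fun N i q hq hS => ?_⟩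
  have := h.2 i q hq hY hS
  let sp := ShortComplex.Splitting.ofExactOfRetraction _ hS.exact (retraction i) (IsSplitMono.id i) hS.epi_g
  exact ⟨sp.s, sp.s_g⟩

lemma closed_mono {P Q : ObjectProperty C} (hPQ : P ≤ Q) (h : IsClosedFor Q M) : IsClosedFor P M :=
  ⟨fun Y hY f => h.1 (hPQ Y hY) f, fun _ Y i p hp hY hS => h.2 i p hp (hPQ Y hY) hS⟩

lemma le_locClosure (P : ObjectProperty C) : P ≤ locClosure.{w} P := fun X hX Q _ hle => hle X hX

lemma closed_locClosure (P : ObjectProperty C) (h : P ≤ T M) : IsClosedFor (locClosure.{w} P) M := by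
  have hle : locClosure.{w} P ≤ T M := fun X hX => hX _ (isLocalizing_T M) h
  refine ⟨fun Y hY f => (T_self (hle Y hY)).1 f, fun N Y i p hp hY hS => ?_⟩
  obtain ⟨s, hs⟩ := (T_self (hle Y hY)).2 N i p hp hS
  let sp := ShortComplex.Splitting.ofExactOfSection _ hS.exact s hs hS.mono_f
  exact ⟨⟨⟨sp.r, sp.f_r⟩⟩⟩

end Groth.Agent.H5GabClosed
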