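import Mathlib
import Groth.Prelude.Def_CohDer

open CategoryTheory CategoryTheory.Limits CategoryTheory.Pretriangulated

namespace Groth.Agent.H5GenClass

universe v u

theorem gen_of_classical {D : Type u} [Category.{v} D] [Preadditive D] [HasZeroObject D] [HasShift D ℤ]
    [∀ n : ℤ, (shiftFunctor D n).Additive] [Pretriangulated D] [IsTriangulated D]
    (E : D) (hE : (ObjectProperty.singleton E).IsClassicalTriangulatedGenerator) :
    CohDer.Generates (fun _ : PUnit.{1} => E) := by
  intro K hK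
  let P : ObjectProperty D := fun Y => ∃ n : ℤ, Nonempty (Y ≅ K⟦n⟧)
  have : P.IsStableUnderShift ℤ := ⟨fun a => ⟨fun Y ⟨n, ⟨e⟩⟩ =>
    ⟨n + a, ⟨(shiftFunctor D a).mapIso e ≪≫ ((shiftFunctorAdd D n a).app K).symm⟩⟩⟩⟩
  have : P.leftOrthogonal.IsStableUnderRetracts := ⟨fun {X Y} r hY Z f hZ => by
    have := hY (r.r ≫ f) hZ
    rw [← Category.id_comp f, ← r.retract, Category.assoc, this, comp_zero]⟩
  have hle : (ObjectProperty.singleton E) ≤ P.leftOrthogonal := by
    intro X hX
    obtain ⟨⟩ := hX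
    rintro Z f ⟨n, ⟨e⟩⟩
    rw [← cancel_mono e.hom, zero_comp]
    exact hK PUnit.unit n _
  have hall : P.leftOrthogonal K := by
    have h := (ObjectProperty.triangEnvelope_le_iff _).2 hle
    rw [show (ObjectProperty.singleton E).triangEnvelope = ⊤ from hE] at h
    exact h K trivial
  rw [IsZero.iff_id_eq_zero]
  exact hall (𝟙 K) ⟨0, ⟨((shiftFunctorZero D ℤ).app K).symm⟩⟩

end Groth.Agent.H5GenClass
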