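import Mathlib

open CategoryTheory

namespace Groth.Agent.H5GenCover

universe v₁ u₁

theorem gen_cover {C : Type u₁} [Category.{v₁} C] (J : GrothendieckTopology C) (G : ObjectProperty C)
    (hG : ∀ X : C, Sieve.generate (fun Y => {_f : Y ⟶ X | G Y}) ∈ J X)
    {X : C} (S : Sieve X) (hS : S ∈ J X) :
    Sieve.generate (fun Y => {f : Y ⟶ X | G Y ∧ S.arrows f}) ∈ J X := by
  refine J.transitive hS _ fun Y f hf => J.superset_covering ?_ (hG Y)
  rintro Z g ⟨W, a, b, hW, rfl⟩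
  exact ⟨W, a, b ≫ f, ⟨hW, S.downward_closed hf b⟩, by simp⟩

end Groth.Agent.H5GenCover
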