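import Mathlib
universe w v₁ u₁
namespace Groth.Agent.H5GenTop
open CategoryTheory CategoryTheory.Limits Opposite

variable {C : Type u₁} [Category.{v₁} C] {C' : C → Prop} {P P' : Precoverage C}

lemma exists_refine [P.IsStableUnderComposition]
    (hb : ∀ X : C, ∃ R ∈ P X, ∀ ⦃Y : C⦄ ⦃f : Y ⟶ X⦄, R f → C' Y)
    {X : C} {R : Presieve X} (hR : R ∈ P X) :
    ∃ Q ∈ P X, ∀ ⦃T : C⦄ ⦃q : T ⟶ X⦄, Q q →
      C' T ∧ ∃ (Z : C) (z : Z ⟶ X) (t : T ⟶ Z), R z ∧ t ≫ z = q := by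
  obtain ⟨ι, Z, g, rfl⟩ := R.exists_eq_ofArrows
  choose B hB hBC using hb
  choose σ W h hW using fun i => (B (Z i)).exists_eq_ofArrows
  refine ⟨_, Precoverage.comp_mem_coverings g hR h (fun i => hW i ▸ hB (Z i)), ?_⟩
  rintro T q ⟨p⟩
  exact ⟨hBC (Z p.1) (hW p.1 ▸ Presieve.ofArrows.mk p.2), _, g p.1, h p.1 p.2, .mk _, rfl⟩

section
variable [P.HasPullbacks] [P.IsStableUnderBaseChange]
    (hP'C : ∀ ⦃X : C⦄ ⦃R : Presieve X⦄, R ∈ P' X → C' X ∧ ∀ ⦃Y : C⦄ ⦃f : Y ⟶ X⦄, R f → C' Y)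
    (ha : ∀ ⦃X : C⦄ ⦃R : Presieve X⦄, R ∈ P' X → ∀ ⦃T : C⦄ (g : T ⟶ X), C' T →
      ∃ _ : R.HasPullbacks g, Presieve.pullbackArrows g R ∈ P' T)
    (hb : ∀ X : C, ∃ R ∈ P X, ∀ ⦃Y : C⦄ ⦃f : Y ⟶ X⦄, R f → C' Y)

omit [P.HasPullbacks] [P.IsStableUnderBaseChange] in
include ha in
lemma exists_pull {X : C} {R : Presieve X} (hR : R ∈ P' X) {T : C} (g : T ⟶ X) (hT : C' T) :
    ∃ R' ∈ P' T, Sieve.generate R' = (Sieve.generate R).pullback g := by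
  obtain ⟨_, h⟩ := ha hR g hT
  exact ⟨_, h, Sieve.pullbackArrows_comm g R⟩

lemma exists_pullP {X : C} {R : Presieve X} (hR : R ∈ P X) {T : C} (g : T ⟶ X) :
    ∃ R' ∈ P T, Sieve.generate R' = (Sieve.generate R).pullback g := by
  have := P.hasPullbacks_of_mem g hR
  exact ⟨_, Precoverage.pullbackArrows_mem g hR, Sieve.pullbackArrows_comm g R⟩

/-- Good sieves. -/
def Good (C' : C → Prop) (P P' : Precoverage C) (X : C) (S' : Sieve X) : Prop :=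
      ∃ (R : Presieve X) (_ : R ∈ P X) (_ : ∀ ⦃Y : C⦄ ⦃f : Y ⟶ X⦄, R f → C' Y)
        (R' : ∀ ⦃Y : C⦄ ⦃f : Y ⟶ X⦄, R f → Presieve Y),
        (∀ ⦃Y : C⦄ ⦃f : Y ⟶ X⦄ (hf : R f), R' hf ∈ P' Y) ∧
        ∀ ⦃Y : C⦄ ⦃f : Y ⟶ X⦄ (hf : R f) ⦃Z : C⦄ ⦃g : Z ⟶ Y⦄, R' hf g → S' (g ≫ f)

lemma Good.mk' {X : C} {S : Sieve X} (Q : Presieve X) (hQ : Q ∈ P X)
    (hC : ∀ ⦃Y : C⦄ ⦃f : Y ⟶ X⦄, Q f → C' Y)
    (h : ∀ ⦃Y : C⦄ ⦃f : Y ⟶ X⦄, Q f → ∃ R' ∈ P' Y, Sieve.generate R' ≤ S.pullback f) :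
    Good C' P P' X S := by
  choose R' hR' hle using h
  exact ⟨Q, hQ, hC, R', hR', fun Y f hf Z g hg => hle hf _ (Sieve.le_generate _ _ _ hg)⟩

lemma mem_iff [P.IsStableUnderComposition]
    (hP'C : ∀ ⦃X : C⦄ ⦃R : Presieve X⦄, R ∈ P' X → C' X ∧ ∀ ⦃Y : C⦄ ⦃f : Y ⟶ X⦄, R f → C' Y)
    (hP'id : ∀ ⦃X : C⦄, C' X → Presieve.singleton (𝟙 X) ∈ P' X)
    (ha : ∀ ⦃X : C⦄ ⦃R : Presieve X⦄, R ∈ P' X → ∀ ⦃T : C⦄ (g : T ⟶ X), C' T →
      ∃ _ : R.HasPullbacks g, Presieve.pullbackArrows g R ∈ P' T)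
    (hb : ∀ X : C, ∃ R ∈ P X, ∀ ⦃Y : C⦄ ⦃f : Y ⟶ X⦄, R f → C' Y)
    (hc : ∀ ⦃S : C⦄ ⦃R₁ : Presieve S⦄, R₁ ∈ P' S →
      ∀ (R₂ : ∀ ⦃Y : C⦄ ⦃f : Y ⟶ S⦄, R₁ f → Presieve Y),
        (∀ ⦃Y : C⦄ ⦃f : Y ⟶ S⦄ (hf : R₁ f), R₂ hf ∈ P Y ∧ ∀ ⦃Z : C⦄ ⦃g : Z ⟶ Y⦄, R₂ hf g → C' Z) →
      ∀ (R₃ : ∀ ⦃Y : C⦄ ⦃f : Y ⟶ S⦄ (hf : R₁ f) ⦃Z : C⦄ ⦃g : Z ⟶ Y⦄, R₂ hf g → Presieve Z),
        (∀ ⦃Y : C⦄ ⦃f : Y ⟶ S⦄ (hf : R₁ f) ⦃Z : C⦄ ⦃g : Z ⟶ Y⦄ (hg : R₂ hf g), R₃ hf hg ∈ P' Z) →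
      ∃ T ∈ P' S, ∀ ⦃W : C⦄ ⦃q : W ⟶ S⦄, T q →
        ∃ (Y Z V : C) (f : Y ⟶ S) (hf : R₁ f) (g : Z ⟶ Y) (hg : R₂ hf g) (h : V ⟶ Z) (_ : R₃ hf hg h)
          (r : W ⟶ V), r ≫ h ≫ g ≫ f = q)
    (X : C) (S' : Sieve X) :
    S' ∈ (P ⊔ P').toGrothendieck X ↔ Good C' P P' X S' := by
  constructor
  · intro hS
    induction hS with
    | of X R hR =>
      rcases hR with hR | hR
      · obtain ⟨Q, hQ, hQ'⟩ := exists_refine hb hR
        refine .mk' Q hQ (fun Y f hf => (hQ' hf).1) fun Y f hf => ?_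
        refine ⟨_, hP'id (hQ' hf).1, ?_⟩
        obtain ⟨_, Z, z, t, hz, rfl⟩ := hQ' hf
        rw [Sieve.generate_le_iff]
        rintro _ _ ⟨⟩
        exact ⟨Z, t, z, hz, by simp⟩
      · obtain ⟨Q, hQ, hQC⟩ := hb X
        refine .mk' Q hQ hQC fun Y f hf => ?_
        obtain ⟨R', hR', e⟩ := exists_pull ha hR f (hQC hf)
        exact ⟨R', hR', e.le⟩
    | top X =>
      obtain ⟨Q, hQ, hQC⟩ := hb X
      exact .mk' Q hQ hQC fun Y f hf => ⟨_, hP'id (hQC hf), by simp⟩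
    | pullback X S hS Y f ih =>
      obtain ⟨R, hR, hRC, R', hR', hle⟩ := ih
      obtain ⟨R₀, hR₀, e⟩ := exists_pullP hR f
      obtain ⟨Q, hQ, hQ'⟩ := exists_refine hb hR₀
      refine .mk' Q hQ (fun T q hq => (hQ' hq).1) fun T q hq => ?_
      obtain ⟨hT, Z, z, t, hz, htq⟩ := hQ' hq
      obtain ⟨W, s, r, hr, hsr⟩ : ((Sieve.generate R).pullback f) z := e ▸ Sieve.le_generate _ _ _ hz
      obtain ⟨R'', hR'', e'⟩ := exists_pull ha (hR' hr) (t ≫ s) hT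
      refine ⟨R'', hR'', e'.le.trans ?_⟩
      rintro V g ⟨V', a, b, hb', hab⟩
      show S ((g ≫ q) ≫ f)
      have := S.downward_closed (hle hr hb') a
      rw [← Category.assoc a, hab] at this
      simpa [← htq, hsr] using this
    | transitive X S T hS hT ih₁ ih₂ =>
      obtain ⟨R, hR, hRC, R', hR', hle⟩ := ih₁
      refine .mk' R hR hRC fun Y f hf => ?_
      choose Q hQ hQC Q' hQ' hQle using
        fun (Z : C) (g : Z ⟶ Y) (hg : R' hf g) => ih₂ (hle hf hg)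
      obtain ⟨T', hT', hT'le⟩ := hc (hR' hf) (fun Z g hg => Q Z g hg)
        (fun Z g hg => ⟨hQ Z g hg, hQC Z g hg⟩)
        (fun Z g hg V h hh => Q' Z g hg hh) (fun Z g hg V h hh => hQ' Z g hg hh)
      refine ⟨T', hT', ?_⟩
      rw [Sieve.generate_le_iff]
      intro W q hq
      obtain ⟨Z, V, U, g, hg, h, hh, k, hk, r, rfl⟩ := hT'le hq
      show T ((r ≫ k ≫ h ≫ g) ≫ f)
      have := T.downward_closed (hQle Z g hg hh hk) r
      simpa using this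
  · rintro ⟨R, hR, -, R', hR', hle⟩
    refine (P ⊔ P').toGrothendieck.transitive (Precoverage.generate_mem_toGrothendieck (Or.inl hR)) _ ?_
    rintro Y _ ⟨Z, a, f, hf, rfl⟩
    rw [Sieve.pullback_comp]
    refine (P ⊔ P').toGrothendieck.pullback_stable _ ?_
    refine (P ⊔ P').toGrothendieck.superset_covering ?_
      (Precoverage.generate_mem_toGrothendieck (Or.inr (hR' hf)))
    rw [Sieve.generate_le_iff]
    exact fun V g hg => hle hf hg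

include hP'C ha hb in
lemma isSheaf_iff (F : Cᵒᵖ ⥤ Type w) :
    Presieve.IsSheaf (P ⊔ P').toGrothendieck F ↔
      (∀ ⦃X : C⦄ ⦃R : Presieve X⦄, R ∈ P X → Presieve.IsSheafFor F R) ∧
      (∀ ⦃X : C⦄ ⦃R : Presieve X⦄, R ∈ P' X → Presieve.IsSheafFor F R) := by
  refine ⟨fun h => ⟨fun X R hR => h.isSheafFor_of_mem_precoverage (Or.inl hR),
    fun X R hR => h.isSheafFor_of_mem_precoverage (Or.inr hR)⟩, fun ⟨h, h'⟩ => ?_⟩
  rw [Precoverage.isSheaf_toGrothendieck_iff]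
  intro X Y f R hR
  rcases hR with hR | hR
  · obtain ⟨R₀, hR₀, e⟩ := exists_pullP hR f
    rw [← e, ← Presieve.isSheafFor_iff_generate]
    exact h hR₀
  · have hP : ∀ {T : C} (g : T ⟶ X), C' T →
        Presieve.IsSheafFor F ((Sieve.generate R).pullback g).arrows := by
      intro T g hT
      obtain ⟨R₀, hR₀, e⟩ := exists_pull ha hR g hT
      rw [← e, ← Presieve.isSheafFor_iff_generate]
      exact h' hR₀
    have hsep : ∀ {W : C} (g : W ⟶ X),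
        Presieve.IsSeparatedFor F ((Sieve.generate R).pullback g).arrows := by
      intro W g x t₁ t₂ h₁ h₂
      obtain ⟨Q, hQ, hQC⟩ := hb W
      refine (h hQ).isSeparatedFor.ext fun T q hq => ?_
      refine (hP (q ≫ g) (hQC hq)).isSeparatedFor.ext fun V a haV => ?_
      have haq : ((Sieve.generate R).pullback g).arrows (a ≫ q) := by
        rw [Sieve.pullback_comp] at haV
        exact haV
      have e₁ := h₁ _ haq
      have e₂ := h₂ _ haq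
      simp only [op_comp, Functor.map_comp, ConcreteCategory.comp_apply] at e₁ e₂
      exact e₁.trans e₂.symm
    rw [← Presieve.isSeparatedFor_and_exists_isAmalgamation_iff_isSheafFor]
    have hsep' := hsep f
    set S := (Sieve.generate R).pullback f with hS
    refine ⟨hsep', fun x hx => ?_⟩
    obtain ⟨Q, hQ, hQC⟩ := hb Y
    have hz : ∀ ⦃T : C⦄ ⦃q : T ⟶ Y⦄, Q q → ∃ z : F.obj (op T),
        ∀ ⦃V : C⦄ (a : V ⟶ T) (haV : S.arrows (a ≫ q)), F.map a.op z = x (a ≫ q) haV := by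
      intro T q hq
      have hT : Presieve.IsSheafFor F (S.pullback q).arrows := by
        rw [hS, ← Sieve.pullback_comp]
        exact hP _ (hQC hq)
      let y : Presieve.FamilyOfElements F (S.pullback q).arrows := fun V a haV => x (a ≫ q) haV
      have hy : y.Compatible := by
        intro V₁ V₂ W g₁ g₂ a₁ a₂ h₁ h₂ e
        exact hx g₁ g₂ (h₁ : S.arrows (a₁ ≫ q)) (h₂ : S.arrows (a₂ ≫ q)) (by rw [reassoc_of% e])
      exact ⟨hT.amalgamate y hy, fun V a haV => hT.valid_glue hy a haV⟩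
    choose z hz using hz
    have hzc : Presieve.FamilyOfElements.Compatible
        (fun T q hq => z hq : Presieve.FamilyOfElements F Q) := by
      intro T₁ T₂ W g₁ g₂ q₁ q₂ h₁ h₂ e
      have hW : Presieve.IsSeparatedFor F (S.pullback (g₁ ≫ q₁)).arrows := by
        rw [hS, ← Sieve.pullback_comp]
        exact hsep _
      refine hW.ext fun V a haV => ?_
      have m₁ : S.arrows ((a ≫ g₁) ≫ q₁) := by simpa using haV
      have m₂ : S.arrows ((a ≫ g₂) ≫ q₂) := by simpa [← e] using haV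
      rw [← ConcreteCategory.comp_apply, ← ConcreteCategory.comp_apply, ← Functor.map_comp,
        ← Functor.map_comp, ← op_comp, ← op_comp, hz h₁ _ m₁, hz h₂ _ m₂]
      congr 1
      simp [e]
    refine ⟨(h hQ).amalgamate _ hzc, fun Z a haZ => ?_⟩
    obtain ⟨Q₀, hQ₀, e⟩ := exists_pullP hQ a
    refine (h hQ₀).isSeparatedFor.ext fun V b hbV => ?_
    obtain ⟨T, c, q, hq, hcq⟩ : ((Sieve.generate Q).pullback a) b :=
      e ▸ Sieve.le_generate _ _ _ hbV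
    have m : S.arrows (c ≫ q) := hcq ▸ S.downward_closed haZ b
    have e₁ := hz hq c m
    rw [← (h hQ).valid_glue hzc q hq, ← ConcreteCategory.comp_apply, ← Functor.map_comp,
      ← op_comp] at e₁
    rw [← ConcreteCategory.comp_apply, ← Functor.map_comp, ← op_comp]
    have e₂ : F.map b.op (x a haZ) = x (b ≫ a) (S.downward_closed haZ b) :=
      (Presieve.FamilyOfElements.comp_of_compatible S hx haZ b).symm
    rw [e₂]
    refine (?_ : ∀ (W : V ⟶ Y) (hW : S.arrows W), c ≫ q = W → F.map W.op _ = x W hW) _ _ hcq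
    rintro W hW rfl
    exact e₁

end
end Groth.Agent.H5GenTop
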