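import Mathlib
universe w v u
namespace Groth.Agent.H5Ghost
open CategoryTheory Limits DerivedCategory

variable {A : Type u} [Category.{v} A] [Abelian A] [HasDerivedCategory.{w} A]

lemma zero_of_heart (X : DerivedCategory A) (a : ℤ) [X.IsGE a] [X.IsLE a] (f : X ⟶ X)
    (hf : (homologyFunctor A a).map f = 0) : f = 0 := by
  obtain ⟨Y, ⟨e⟩⟩ := exists_iso_singleFunctor_obj_of_isGE_of_isLE X a
  obtain ⟨g, hg⟩ := (singleFunctor A a).map_surjective (e.inv ≫ f ≫ e.hom)
  have hg0 : g = 0 := by
    have h := NatIso.naturality_1 (singleFunctorCompHomologyFunctorIso A a) g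
    rw [Functor.comp_map, hg, Functor.map_comp, Functor.map_comp, hf, zero_comp, comp_zero, zero_comp, comp_zero] at h
    simpa using h.symm
  rw [hg0, Functor.map_zero] at hg
  simpa using (congrArg (fun z => e.hom ≫ z ≫ e.inv) hg).symm

theorem ghost : ∀ (n : ℕ) (a : ℤ) (X : DerivedCategory A)
    (_ : ∀ i : ℤ, i < a ∨ a + n < i → IsZero ((homologyFunctor A i).obj X))
    (f : CategoryTheory.End X) (_ : ∀ i : ℤ, (homologyFunctor A i).map f = 0), f ^ (n + 1) = 0 := by
  intro n
  induction n with
  | zero =>
    intro a X hX f hf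
    haveI : X.IsGE a := (isGE_iff X a).2 fun i hi => hX i (Or.inl hi)
    haveI : X.IsLE a := (isLE_iff X a).2 fun i hi => hX i (Or.inr (by simpa using hi))
    rw [pow_one]
    exact zero_of_heart X a f (hf a)
  | succ n ih =>
    intro a X hX f hf
    haveI : X.IsGE a := (isGE_iff X a).2 fun i hi => hX i (Or.inl hi)
    let t : Triangulated.TStructure (DerivedCategory A) := DerivedCategory.TStructure.t
    let T := (t.triangleLEGE a (a + 1) rfl).obj X
    have hT : T ∈ Pretriangulated.distinguishedTriangles := t.triangleLEGE_distinguished a (a + 1) rfl X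
    let L := (t.truncLE a).obj X
    let R := (t.truncGE (a + 1)).obj X
    haveI hRge : R.IsGE (a + 1) := inferInstanceAs (t.IsGE ((t.truncGE (a + 1)).obj X) (a + 1))
    haveI hLle : L.IsLE a := inferInstanceAs (t.IsLE ((t.truncLE a).obj X) a)
    -- homology of R
    have hepi : ∀ i : ℤ, a < i → Epi ((homologyFunctor A i).map ((t.truncGEπ (a + 1)).app X)) := fun i hi =>
      (HomologySequence.epi_homologyMap_mor₂_iff T hT i (i + 1) rfl).2
        ((isZero_of_isLE L a (i + 1) (by omega)).eq_of_tgt _ _)
    have hR : ∀ i : ℤ, i < a + 1 ∨ a + 1 + n < i → IsZero ((homologyFunctor A i).obj R) := by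
      rintro i (hi | hi)
      · exact isZero_of_isGE R (a + 1) i hi
      · haveI := hepi i (by omega)
        exact IsZero.of_epi ((homologyFunctor A i).map ((t.truncGEπ (a + 1)).app X)) (hX i (Or.inr (by push_cast; omega)))
    let fR : CategoryTheory.End R := (t.truncGE (a + 1)).map f
    have hfR : ∀ i : ℤ, (homologyFunctor A i).map fR = 0 := fun i => by
      by_cases hi : a < i
      · haveI := hepi i hi
        rw [← cancel_epi ((homologyFunctor A i).map ((t.truncGEπ (a + 1)).app X)), comp_zero, ← Functor.map_comp]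
        rw [show (t.truncGEπ (a + 1)).app X ≫ fR = f ≫ (t.truncGEπ (a + 1)).app X from
          ((t.truncGEπ (a + 1)).naturality f).symm, Functor.map_comp, hf, zero_comp]
      · exact (isZero_of_isGE R (a + 1) i (by omega)).eq_of_src _ _
    have hpow : ∀ k : ℕ, (f ^ k : CategoryTheory.End X) ≫ (t.truncGEπ (a + 1)).app X =
        (t.truncGEπ (a + 1)).app X ≫ (fR ^ k : CategoryTheory.End R) := by
      intro k
      induction k with
      | zero => exact (Category.id_comp _).trans (Category.comp_id _).symm
      | succ k ihk =>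
        rw [pow_succ, pow_succ, End.mul_def, End.mul_def, Category.assoc, ihk, ← Category.assoc,
          show f ≫ (t.truncGEπ (a + 1)).app X = (t.truncGEπ (a + 1)).app X ≫ fR from
            (t.truncGEπ (a + 1)).naturality f, Category.assoc]
    have h0 : (f ^ (n + 1) : CategoryTheory.End X) ≫ (t.truncGEπ (a + 1)).app X = 0 := by
      rw [hpow, ih (a + 1) R hR fR hfR]
      exact comp_zero
    obtain ⟨g, hg⟩ : ∃ g : X ⟶ L, (f ^ (n + 1) : CategoryTheory.End X) = g ≫ (t.truncLEι a).app X :=
      Pretriangulated.Triangle.coyoneda_exact₂ T hT _ h0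
    -- homology of L
    haveI : L.IsGE a := (isGE_iff L a).2 fun i hi => by
      haveI : Mono ((homologyFunctor A i).map ((t.truncLEι a).app X)) :=
        (HomologySequence.mono_homologyMap_mor₁_iff T hT (i - 1) i (by omega)).2
          ((isZero_of_isGE R (a + 1) (i - 1) (by omega)).eq_of_src _ _)
      exact IsZero.of_mono ((homologyFunctor A i).map ((t.truncLEι a).app X)) (hX i (Or.inl hi))
    have hfL : (t.truncLE a).map f = 0 := by
      refine zero_of_heart L a _ ?_
      haveI : Mono ((homologyFunctor A a).map ((t.truncLEι a).app X)) :=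
        (HomologySequence.mono_homologyMap_mor₁_iff T hT (a - 1) a (by omega)).2
          ((isZero_of_isGE R (a + 1) (a - 1) (by omega)).eq_of_src _ _)
      rw [← cancel_mono ((homologyFunctor A a).map ((t.truncLEι a).app X)), zero_comp, ← Functor.map_comp,
        show (t.truncLE a).map f ≫ (t.truncLEι a).app X = (t.truncLEι a).app X ≫ f from (t.truncLEι a).naturality f,
        Functor.map_comp, hf, comp_zero]
    rw [pow_succ', End.mul_def, hg, Category.assoc,
      show (t.truncLEι a).app X ≫ f = (t.truncLE a).map f ≫ (t.truncLEι a).app X from ((t.truncLEι a).naturality f).symm,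
      hfL, zero_comp, comp_zero]

end Groth.Agent.H5Ghost
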