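import Mathlib
import Groth.Prelude

universe v u

open CategoryTheory CategoryTheory.Limits Opposite

namespace Groth.Agent.H5Giraud

variable {E : Type v} [Category.{u} E] [HasFiniteLimits E]

/-- a covering (extremally epimorphic) family -/
def Cov {ι : Type u} {X : E} {A : ι → E} (g : ∀ i, A i ⟶ X) : Prop :=
  ∀ (Z : E) (m : Z ⟶ X), Mono m → (∀ i, ∃ a : A i ⟶ Z, a ≫ m = g i) → IsIso m

lemma Cov.ext {ι : Type u} {X : E} {A : ι → E} {g : ∀ i, A i ⟶ X} (hg : Cov g) {Y : E}
    {a b : X ⟶ Y} (h : ∀ i, g i ≫ a = g i ≫ b) : a = b := by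
  have := hg _ (equalizer.ι a b) inferInstance fun i => ⟨equalizer.lift (g i) (h i), equalizer.lift_ι _ _⟩
  rw [← cancel_epi (equalizer.ι a b)]
  exact equalizer.condition a b

lemma Cov.trans {ι : Type u} {X : E} {A : ι → E} {g : ∀ i, A i ⟶ X} (hg : Cov g)
    {κ : Type u} {B : κ → E} (h : ∀ k, B k ⟶ X)
    (H : ∀ i, ∃ (κ' : Type u) (B' : κ' → E) (h' : ∀ k, B' k ⟶ A i), Cov h' ∧
      ∀ k, ∃ (k' : κ) (a : B' k ⟶ B k'), a ≫ h k' = h' k ≫ g i) : Cov h := by
  intro Z m hm hf
  refine hg Z m hm fun i => ?_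
  obtain ⟨κ', B', h', hc, hl⟩ := H i
  have := hc _ (pullback.snd m (g i)) inferInstance fun k => by
    obtain ⟨k', a, ha⟩ := hl k
    obtain ⟨l, hl'⟩ := hf k'
    exact ⟨pullback.lift (a ≫ l) (h' k) (by rw [Category.assoc, hl', ha]), pullback.lift_snd _ _ _⟩
  exact ⟨inv (pullback.snd m (g i)) ≫ pullback.fst _ _, by
    rw [Category.assoc, pullback.condition, IsIso.inv_hom_id_assoc]⟩

section Giraud

variable (hb : SGA4.HasDisjointUniversalCoproducts.{v, u} E)
  (hc : ∀ (R A : E) (p₁ p₂ : R ⟶ A), SGA4.IsEquivRel p₁ p₂ → SGA4.IsEffectiveUniversalEquivRel p₁ p₂)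

lemma cov_inj {ι : Type u} {X : ι → E} {c : Cofan X} (hcol : IsColimit c) : Cov c.inj := by
  intro Z m hm hf
  choose a ha using hf
  refine ⟨Cofan.IsColimit.desc hcol a, ?_, ?_⟩
  · rw [← cancel_mono m, Category.assoc, Category.id_comp]
    have : Cofan.IsColimit.desc hcol a ≫ m = 𝟙 _ :=
      Cofan.IsColimit.hom_ext hcol _ _ fun i => by
        rw [Cofan.IsColimit.fac_assoc, ha]
        exact (Category.comp_id _).symm
    rw [this]
    exact Category.comp_id _
  · exact Cofan.IsColimit.hom_ext hcol _ _ fun i => by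
      rw [Cofan.IsColimit.fac_assoc, ha]
      exact (Category.comp_id _).symm

include hc in
/-- a covering family gives a universally effective epimorphism from the coproduct -/
lemma effectiveEpi_pullback {ι : Type u} {X : E} {A : ι → E} {g : ∀ i, A i ⟶ X} (hg : Cov g)
    {c : Cofan A} (hcol : IsColimit c) {Y : E} (h : Y ⟶ X) :
    EffectiveEpi (pullback.snd (Cofan.IsColimit.desc hcol g) h) := by
  let d := Cofan.IsColimit.desc hcol g
  have hR : SGA4.IsEquivRel (pullback.fst d d) (pullback.snd d d) := by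
    intro T
    refine ⟨fun f f' hff => pullback.hom_ext (congrArg Prod.fst hff) (congrArg Prod.snd hff),
      ⟨fun a => ⟨pullback.lift a a rfl, pullback.lift_fst _ _ _, pullback.lift_snd _ _ _⟩,
      fun {a b} => ?_, fun {a b e} => ?_⟩⟩
    · rintro ⟨f, rfl, rfl⟩
      exact ⟨pullback.lift (f ≫ pullback.snd d d) (f ≫ pullback.fst d d)
        (by simp [pullback.condition]), pullback.lift_fst _ _ _, pullback.lift_snd _ _ _⟩
    · rintro ⟨f, rfl, hf⟩ ⟨f', hf', rfl⟩
      exact ⟨pullback.lift (f ≫ pullback.fst d d) (f' ≫ pullback.snd d d)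
        (by rw [Category.assoc, pullback.condition, reassoc_of% hf, ← hf', Category.assoc,
          pullback.condition, Category.assoc]), pullback.lift_fst _ _ _, pullback.lift_snd _ _ _⟩
  obtain ⟨B, q, hpb, hpo, heff⟩ := hc _ _ _ _ hR
  let m : B ⟶ X := hpo.desc d d pullback.condition
  have hqm : q ≫ m = d := hpo.inl_desc _ _ _
  have hm : Mono m := by
    constructor
    intro T a b hab
    have := heff T a
    rw [← cancel_epi (pullback.snd q a)]
    have := heff _ (pullback.snd q a ≫ b)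
    rw [← cancel_epi (pullback.snd q (pullback.snd q a ≫ b))]
    let a' := pullback.snd q (pullback.snd q a ≫ b) ≫ pullback.fst q a
    let b' := pullback.fst q (pullback.snd q a ≫ b)
    have ha' : a' ≫ q = pullback.snd q (pullback.snd q a ≫ b) ≫ pullback.snd q a ≫ a := by
      simp [a', pullback.condition]
    have hb' : b' ≫ q = pullback.snd q (pullback.snd q a ≫ b) ≫ pullback.snd q a ≫ b :=
      pullback.condition
    have hd : a' ≫ d = b' ≫ d := by
      rw [← hqm, reassoc_of% ha', reassoc_of% hb', hab]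
    have := (pullback.lift a' b' hd) ≫= hpb.w
    simp only [pullback.lift_fst_assoc, pullback.lift_snd_assoc] at this
    rw [← ha', ← hb', this]
  have : IsIso m := hg B m hm fun i => ⟨c.inj i ≫ q, by rw [Category.assoc, hqm, Cofan.IsColimit.fac]⟩
  have hq : IsPullback (pullback.fst q (h ≫ inv m)) (pullback.snd q (h ≫ inv m)) d h :=
    (IsPullback.of_hasPullback q (h ≫ inv m)).of_iso (Iso.refl _) (Iso.refl _) (Iso.refl _) (asIso m)
      (by simp) (by simp) (by simp [hqm]) (by simp)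
  have := heff Y (h ≫ inv m)
  have h2 : EffectiveEpi (hq.isoPullback.inv ≫ pullback.snd q (h ≫ inv m)) := inferInstance
  rwa [hq.isoPullback_inv_snd] at h2

include hb hc in
lemma Cov.pullback {ι : Type u} {X : E} {A : ι → E} {g : ∀ i, A i ⟶ X} (hg : Cov g)
    {Y : E} (h : Y ⟶ X) : Cov fun i => pullback.snd (g i) h := by
  intro Z m hm hf
  choose a ha using hf
  obtain ⟨c, hcol, -, hu⟩ := hb ι A
  let d := Cofan.IsColimit.desc hcol g
  have := effectiveEpi_pullback hc hg hcol h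
  let P := Limits.pullback d h
  let p := Limits.pullback.fst d h
  obtain ⟨hc'⟩ := hu (Cofan.mk (f := fun i => Limits.pullback (c.inj i) p) P fun i => Limits.pullback.snd (c.inj i) p)
    (Discrete.natTrans fun i => Limits.pullback.fst (c.inj i.as) p) p
    (NatTrans.ext (funext fun i => Limits.pullback.condition (f := c.inj i.as) (g := p)))
    (.of_discrete _) (fun i => (IsPullback.of_hasPullback (c.inj i.as) p).flip)
  have hl : ∀ i, (Limits.pullback.fst (c.inj i) p) ≫ g i =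
      (Limits.pullback.snd (c.inj i) p ≫ Limits.pullback.snd d h) ≫ h := by
    intro i
    rw [Category.assoc, ← Limits.pullback.condition, ← Limits.pullback.condition_assoc,
      Cofan.IsColimit.fac]
  let l : P ⟶ Z := Cofan.IsColimit.desc hc' fun i =>
    Limits.pullback.lift _ _ (hl i) ≫ a i
  have hlm : l ≫ m = Limits.pullback.snd d h := Cofan.IsColimit.hom_ext hc' _ _ fun i => by
    rw [Cofan.IsColimit.fac_assoc, Category.assoc, ha, Limits.pullback.lift_snd]
    rfl
  let s := EffectiveEpi.desc (Limits.pullback.snd d h) l fun g₁ g₂ hgg => by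
    rw [← cancel_mono m, Category.assoc, Category.assoc, hlm, hgg]
  have hs : s ≫ m = 𝟙 _ := by
    rw [← cancel_epi (Limits.pullback.snd d h), EffectiveEpi.fac_assoc, hlm, Category.comp_id]
  exact ⟨s, by rw [← cancel_mono m, Category.assoc, hs, Category.comp_id, Category.id_comp], hs⟩

include hb hc in
lemma Cov.glue {ι : Type u} {X : E} {A : ι → E} {g : ∀ i, A i ⟶ X} (hg : Cov g) {Y : E}
    (t : ∀ i, A i ⟶ Y) (ht : ∀ i j (T : E) (a : T ⟶ A i) (b : T ⟶ A j), a ≫ g i = b ≫ g j → a ≫ t i = b ≫ t j) :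
    ∃ f : X ⟶ Y, ∀ i, g i ≫ f = t i := by
  obtain ⟨c, hcol, -, -⟩ := hb ι A
  let d := Cofan.IsColimit.desc hcol g
  have : EffectiveEpi d := by
    have := effectiveEpi_pullback hc hg hcol (𝟙 X)
    have h2 : EffectiveEpi (inv (Limits.pullback.fst d (𝟙 X)) ≫ Limits.pullback.snd d (𝟙 X)) := inferInstance
    have : inv (Limits.pullback.fst d (𝟙 X)) ≫ Limits.pullback.snd d (𝟙 X) = d := by
      rw [IsIso.inv_comp_eq, Limits.pullback.condition, Category.comp_id]
    rwa [this] at h2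
  refine ⟨EffectiveEpi.desc d (Cofan.IsColimit.desc hcol t) fun {T} x y hxy => ?_, fun i => ?_⟩
  · refine ((cov_inj hcol).pullback hb hc x).ext fun i => ?_
    refine ((cov_inj hcol).pullback hb hc (Limits.pullback.snd (c.inj i) x ≫ y)).ext fun j => ?_
    have e1 := (Limits.pullback.condition (f := c.inj i) (g := x)).symm
    have e2 := (Limits.pullback.condition (f := c.inj j) (g := Limits.pullback.snd (c.inj i) x ≫ y)).symm
    rw [reassoc_of% e1, reassoc_of% e2, Cofan.IsColimit.fac, Cofan.IsColimit.fac, ← Category.assoc]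
    refine ht _ _ _ _ _ ?_
    have h3 := (Limits.pullback.snd (c.inj j) (Limits.pullback.snd (c.inj i) x ≫ y) ≫
      Limits.pullback.snd (c.inj i) x) ≫= hxy
    rw [Category.assoc, Category.assoc, reassoc_of% e1, reassoc_of% e2] at h3
    simpa [d] using h3
  · rw [show g i = c.inj i ≫ d from (Cofan.IsColimit.fac hcol g i).symm, Category.assoc,
      EffectiveEpi.fac, Cofan.IsColimit.fac]

include hb hc in
/-- every family factors as a covering family followed by a monomorphism -/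
lemma exists_image {ι : Type u} {X : E} {A : ι → E} (g : ∀ i, A i ⟶ X) :
    ∃ (Z : E) (m : Z ⟶ X) (a : ∀ i, A i ⟶ Z), Mono m ∧ Cov a ∧ ∀ i, a i ≫ m = g i := by
  obtain ⟨c, hcol, -, -⟩ := hb ι A
  let d := Cofan.IsColimit.desc hcol g
  have hR : SGA4.IsEquivRel (Limits.pullback.fst d d) (Limits.pullback.snd d d) := by
    intro T
    refine ⟨fun f f' hff => Limits.pullback.hom_ext (congrArg Prod.fst hff) (congrArg Prod.snd hff),
      ⟨fun a => ⟨Limits.pullback.lift a a rfl, Limits.pullback.lift_fst _ _ _, Limits.pullback.lift_snd _ _ _⟩,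
      fun {a b} => ?_, fun {a b e} => ?_⟩⟩
    · rintro ⟨f, rfl, rfl⟩
      exact ⟨Limits.pullback.lift (f ≫ Limits.pullback.snd d d) (f ≫ Limits.pullback.fst d d)
        (by simp [Limits.pullback.condition]), Limits.pullback.lift_fst _ _ _, Limits.pullback.lift_snd _ _ _⟩
    · rintro ⟨f, rfl, hf⟩ ⟨f', hf', rfl⟩
      exact ⟨Limits.pullback.lift (f ≫ Limits.pullback.fst d d) (f' ≫ Limits.pullback.snd d d)
        (by rw [Category.assoc, Limits.pullback.condition, reassoc_of% hf, ← hf', Category.assoc,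
          Limits.pullback.condition, Category.assoc]), Limits.pullback.lift_fst _ _ _, Limits.pullback.lift_snd _ _ _⟩
  obtain ⟨B, q, hpb, hpo, heff⟩ := hc _ _ _ _ hR
  let m : B ⟶ X := hpo.desc d d Limits.pullback.condition
  have hqm : q ≫ m = d := hpo.inl_desc _ _ _
  refine ⟨B, m, fun i => c.inj i ≫ q, ?_, ?_, fun i => by rw [Category.assoc, hqm, Cofan.IsColimit.fac]⟩
  · constructor
    intro T a b hab
    have := heff T a
    rw [← cancel_epi (Limits.pullback.snd q a)]
    have := heff _ (Limits.pullback.snd q a ≫ b)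
    rw [← cancel_epi (Limits.pullback.snd q (Limits.pullback.snd q a ≫ b))]
    let a' := Limits.pullback.snd q (Limits.pullback.snd q a ≫ b) ≫ Limits.pullback.fst q a
    let b' := Limits.pullback.fst q (Limits.pullback.snd q a ≫ b)
    have ha' : a' ≫ q = Limits.pullback.snd q (Limits.pullback.snd q a ≫ b) ≫ Limits.pullback.snd q a ≫ a := by
      simp [a', Limits.pullback.condition]
    have hb' : b' ≫ q = Limits.pullback.snd q (Limits.pullback.snd q a ≫ b) ≫ Limits.pullback.snd q a ≫ b :=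
      Limits.pullback.condition
    have hd : a' ≫ d = b' ≫ d := by
      rw [← hqm, reassoc_of% ha', reassoc_of% hb', hab]
    have := (Limits.pullback.lift a' b' hd) ≫= hpb.w
    simp only [Limits.pullback.lift_fst_assoc, Limits.pullback.lift_snd_assoc] at this
    rw [← ha', ← hb', this]
  · intro Z n hn hf
    choose a ha using hf
    have hl : Cofan.IsColimit.desc hcol a ≫ n = q :=
      Cofan.IsColimit.hom_ext hcol _ _ fun i => by rw [Cofan.IsColimit.fac_assoc, ha]
    let s : B ⟶ Z := hpo.desc (Cofan.IsColimit.desc hcol a) (Cofan.IsColimit.desc hcol a) (by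
      rw [← cancel_mono n, Category.assoc, Category.assoc, hl, hpo.w])
    have hs : s ≫ n = 𝟙 B := hpo.hom_ext (by rw [hpo.inl_desc_assoc, hl, Category.comp_id])
      (by rw [hpo.inr_desc_assoc, hl, Category.comp_id])
    exact ⟨s, by rw [← cancel_mono n, Category.assoc, hs, Category.comp_id, Category.id_comp], hs⟩

variable {C : Type u} [SmallCategory C] (i : C ⥤ E) [i.Full] [i.Faithful]
  (hd : ∀ ⦃X Y : E⦄ (f : X ⟶ Y), (∀ (c : C) (h : i.obj c ⟶ Y), ∃! h' : i.obj c ⟶ X, h' ≫ f = h) → IsIso f)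

include hd in
lemma cov_el (X : E) : Cov fun p : Σ c : C, i.obj c ⟶ X => p.2 := by
  intro Z m hm hf
  refine hd m fun c h => ?_
  obtain ⟨a, ha⟩ := hf ⟨c, h⟩
  exact ⟨a, ha, fun b hb' => (cancel_mono m).1 (hb'.trans ha.symm)⟩

/-- sieves covering in `E` -/
def covers {c : C} (S : Sieve c) : Prop :=
  Cov fun p : {q : Σ d : C, d ⟶ c // S q.2} => i.map p.1.2

include hb hc hd in
lemma covers_pullback {c d : C} (h : d ⟶ c) {S : Sieve c} (hS : covers i S) :
    covers i (S.pullback h) := by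
  refine (Cov.pullback hb hc hS (i.map h)).trans _ fun p => ?_
  refine ⟨_, _, _, cov_el i hd _, fun k => ?_⟩
  obtain ⟨a, ha⟩ := i.map_surjective (k.2 ≫ Limits.pullback.snd (i.map p.1.2) (i.map h))
  obtain ⟨b, hb'⟩ := i.map_surjective (k.2 ≫ Limits.pullback.fst (i.map p.1.2) (i.map h))
  have hab : a ≫ h = b ≫ p.1.2 := i.map_injective (by
    rw [i.map_comp, i.map_comp, ha, hb', Category.assoc, Category.assoc, Limits.pullback.condition])
  refine ⟨⟨⟨k.1, a⟩, ?_⟩, 𝟙 _, (Category.id_comp _).trans ha⟩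
  show S (a ≫ h)
  rw [hab]
  exact S.downward_closed p.2 _

def top (hb : SGA4.HasDisjointUniversalCoproducts.{v, u} E)
    (hc : ∀ (R A : E) (p₁ p₂ : R ⟶ A), SGA4.IsEquivRel p₁ p₂ → SGA4.IsEffectiveUniversalEquivRel p₁ p₂)
    (hd : ∀ ⦃X Y : E⦄ (f : X ⟶ Y), (∀ (c : C) (h : i.obj c ⟶ Y), ∃! h' : i.obj c ⟶ X, h' ≫ f = h) → IsIso f) :
    GrothendieckTopology C where
  sieves c := {S | covers i S}
  top_mem' c := fun Z m hm hf => by
    obtain ⟨a, ha⟩ := hf ⟨⟨c, 𝟙 c⟩, trivial⟩
    simp only [CategoryTheory.Functor.map_id] at ha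
    exact ⟨a, by rw [← cancel_mono m, Category.assoc, ha, Category.comp_id, Category.id_comp], ha⟩
  pullback_stable' c d S h hS := covers_pullback hb hc i hd h hS
  transitive' c S hS R hR := by
    refine Cov.trans hS _ fun p => ⟨_, _, _, hR p.2, fun k => ?_⟩
    exact ⟨⟨⟨k.1.1, k.1.2 ≫ p.1.2⟩, k.2⟩, 𝟙 _, (Category.id_comp _).trans (i.map_comp _ _)⟩

def homPsh (X : E) : Cᵒᵖ ⥤ Type u := i.op ⋙ yoneda.obj X

theorem homPsh_isSheaf (X : E) : Presheaf.IsSheaf (top i hb hc hd) (homPsh i X) := by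
  rw [isSheaf_iff_isSheaf_of_type]
  intro c S hS t ht
  obtain ⟨f, hf⟩ := Cov.glue hb hc hS (fun p => t p.1.2 p.2) (fun p p' T a b hab => by
    refine (cov_el i hd T).ext fun k => ?_
    obtain ⟨a', ha'⟩ := i.map_surjective (k.2 ≫ a)
    obtain ⟨b', hb'⟩ := i.map_surjective (k.2 ≫ b)
    have hab' : a' ≫ p.1.2 = b' ≫ p'.1.2 := i.map_injective (by
      rw [i.map_comp, i.map_comp, ha', hb', Category.assoc, Category.assoc, hab])
    have := ht a' b' p.2 p'.2 hab'
    rw [← Category.assoc, ← Category.assoc, ← ha', ← hb']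
    exact this)
  exact ⟨f, fun d g hg => hf ⟨⟨d, g⟩, hg⟩, fun f' hf' => hS.ext fun p => (hf' p.1.2 p.2).trans (hf p).symm⟩

def R : E ⥤ Sheaf (top i hb hc hd) (Type u) where
  obj X := ⟨homPsh i X, homPsh_isSheaf hb hc i hd X⟩
  map f := ⟨Functor.whiskerLeft i.op (yoneda.map f)⟩

theorem R_faithful : (R hb hc i hd).Faithful := ⟨fun {X Y} f g hfg =>
  (cov_el i hd X).ext fun p => ConcreteCategory.congr_hom (congr_app (congrArg (·.hom) hfg) (op p.1)) p.2⟩

theorem R_full : (R hb hc i hd).Full := ⟨fun {X Y} φ => by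
  obtain ⟨f, hf⟩ := Cov.glue hb hc (cov_el i hd X) (fun p => φ.hom.app (op p.1) p.2) (fun p p' T a b hab => by
    refine (cov_el i hd T).ext fun k => ?_
    obtain ⟨a', ha'⟩ := i.map_surjective (k.2 ≫ a)
    obtain ⟨b', hb'⟩ := i.map_surjective (k.2 ≫ b)
    rw [← Category.assoc, ← Category.assoc, ← ha', ← hb']
    refine ((ConcreteCategory.congr_hom (φ.hom.naturality a'.op) p.2).symm.trans ?_).trans
      (ConcreteCategory.congr_hom (φ.hom.naturality b'.op) p'.2)
    change φ.hom.app (op k.1) (i.map a' ≫ p.2) = φ.hom.app (op k.1) (i.map b' ≫ p'.2)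
    rw [ha', hb', Category.assoc, Category.assoc, hab])
  refine ⟨f, ?_⟩
  ext c h
  exact hf ⟨c.unop, h⟩⟩

theorem R_essSurj : (R hb hc i hd).EssSurj := by
  refine ⟨fun F => ?_⟩
  let T := top i hb hc hd
  have hF : Presieve.IsSheaf T F.obj := (isSheaf_iff_isSheaf_of_type _ _).1 F.property
  let I := Σ c : C, F.obj.obj (op c)
  obtain ⟨Y, hY, hdis, hu⟩ := hb I (fun x => i.obj x.1)
  have hinj : ∀ x, Mono (Y.inj x) := fun x => CoproductDisjoint.mono_inj hY x
  -- morphisms to an initial object are covered by the empty sieve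
  have hempty : ∀ (e : C) (x y : I) (a : i.obj e ⟶ i.obj x.1) (b : i.obj e ⟶ i.obj y.1),
      x ≠ y → a ≫ Y.inj x = b ≫ Y.inj y → ∀ s s' : F.obj.obj (op e), s = s' := by
    intro e x y a b hxy hab s s'
    let l := Limits.pullback.lift a b hab
    obtain ⟨hI⟩ := CoproductDisjoint.nonempty_isInitial_of_ne hY hxy _
      (pullbackIsPullback (Y.inj x) (Y.inj y))
    obtain ⟨c0, hc0, -, hu0⟩ := hb PEmpty.{u+1} PEmpty.elim
    have hcov : Cov (fun z : PEmpty.{u+1} => (z.elim : PEmpty.elim z ⟶ i.obj e)) := by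
      have h0 := Cov.pullback hb hc (cov_inj hc0) (l ≫ hI.to c0.pt)
      exact fun Z m hm _ => h0 Z m hm fun z => z.elim
    have hS : (⊥ : Sieve e) ∈ T e := fun Z m hm _ => hcov Z m hm fun z => z.elim
    exact (hF ⊥ hS).isSeparatedFor.ext fun d g hg => False.elim hg
  -- the map `p : R Y ⟶ F`
  let Sf : ∀ (c : C) (f : i.obj c ⟶ Y.pt), Sieve c := fun c f =>
    { arrows := fun e g => ∃ (x : I) (a : e ⟶ x.1), i.map g ≫ f = i.map a ≫ Y.inj x
      downward_closed := by
        rintro e e' g ⟨x, a, h⟩ k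
        exact ⟨x, k ≫ a, by rw [i.map_comp, i.map_comp, Category.assoc, h, Category.assoc]⟩ }
  have hSf : ∀ c f, Sf c f ∈ T c := by
    intro c f
    refine Cov.trans (Cov.pullback hb hc (cov_inj hY) f) _ fun x => ⟨_, _, _, cov_el i hd _, fun k => ?_⟩
    obtain ⟨g, hg⟩ := i.map_surjective (k.2 ≫ Limits.pullback.snd (Y.inj x) f)
    obtain ⟨a, ha⟩ := i.map_surjective (k.2 ≫ Limits.pullback.fst (Y.inj x) f)
    exact ⟨⟨⟨k.1, g⟩, x, a, by rw [hg, ha, Category.assoc, Category.assoc, Limits.pullback.condition]⟩,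
      𝟙 _, (Category.id_comp _).trans hg⟩
  have hwd : ∀ (e : C) (x y : I) (a : e ⟶ x.1) (b : e ⟶ y.1),
      i.map a ≫ Y.inj x = i.map b ≫ Y.inj y → F.obj.map a.op x.2 = F.obj.map b.op y.2 := by
    intro e x y a b hab
    by_cases hxy : x = y
    · subst hxy
      rw [i.map_injective ((cancel_mono (Y.inj x)).1 hab)]
    · exact hempty e x y _ _ hxy hab _ _
  have hp : ∀ (c : C) (f : i.obj c ⟶ Y.pt), ∃! s : F.obj.obj (op c),
      ∀ (e : C) (g : e ⟶ c) (x : I) (a : e ⟶ x.1), i.map g ≫ f = i.map a ≫ Y.inj x →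
        F.obj.map g.op s = F.obj.map a.op x.2 := by
    intro c f
    let t : Presieve.FamilyOfElements F.obj (Sf c f).arrows :=
      fun e g hg => F.obj.map hg.choose_spec.choose.op hg.choose.2
    have ht : t.Compatible := by
      intro e₁ e₂ e g₁ g₂ k₁ k₂ h₁ h₂ hw
      simp only [t, ← ConcreteCategory.comp_apply, ← F.obj.map_comp, ← op_comp]
      refine hwd _ _ _ _ _ ?_
      rw [i.map_comp, i.map_comp, Category.assoc, Category.assoc, ← h₁.choose_spec.choose_spec,
        ← h₂.choose_spec.choose_spec, ← Category.assoc, ← Category.assoc, ← i.map_comp, ← i.map_comp, hw]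
    obtain ⟨s, hs, hus⟩ := hF _ (hSf c f) t ht
    refine ⟨s, fun e g x a h => ?_, fun s' hs' => hus s' fun e g hg => hs' e g _ _ hg.choose_spec.choose_spec⟩
    rw [hs g ⟨x, a, h⟩]
    exact hwd _ _ _ _ _ ((⟨x, a, h⟩ : ∃ (x : I) (a : e ⟶ x.1), i.map g ≫ f = i.map a ≫ Y.inj x).choose_spec.choose_spec.symm.trans h)
  choose p hp hpu using fun c f => (hp c f)
  have hpn : ∀ (c d : C) (k : d ⟶ c) (f : i.obj c ⟶ Y.pt), p d (i.map k ≫ f) = F.obj.map k.op (p c f) := by
    intro c d k f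
    refine (hpu d _ _ fun e g x a h => ?_).symm
    rw [← ConcreteCategory.comp_apply, ← F.obj.map_comp, ← op_comp]
    exact hp c f e (g ≫ k) x a (by rw [i.map_comp, Category.assoc, h])
  have hpx : ∀ x : I, p x.1 (Y.inj x) = x.2 := by
    intro x
    have := hp x.1 (Y.inj x) x.1 (𝟙 _) x (𝟙 _) rfl
    simpa using this
  have hpx' : ∀ (c : C) (x : F.obj.obj (op c)), p c (Y.inj ⟨c, x⟩) = x := fun c x => hpx ⟨c, x⟩
  -- the relation
  let K := {q : Σ c : C, i.obj c ⟶ Y.pt ⨯ Y.pt // p q.1 (q.2 ≫ prod.fst) = p q.1 (q.2 ≫ prod.snd)}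
  obtain ⟨Z, m, l, hm, hl, hlm⟩ := exists_image hb hc (fun q : K => q.1.2)
  have hmem : ∀ (c : C) (h : i.obj c ⟶ Y.pt ⨯ Y.pt),
      (∃ h' : i.obj c ⟶ Z, h' ≫ m = h) ↔ p c (h ≫ prod.fst) = p c (h ≫ prod.snd) := by
    intro c h
    refine ⟨?_, fun hh => ⟨l ⟨⟨c, h⟩, hh⟩, hlm _⟩⟩
    rintro ⟨h', rfl⟩
    have hcov : (Sieve.generate (fun e (g : e ⟶ c) => ∃ (q : K) (a : e ⟶ q.1.1),
        i.map g ≫ h' = i.map a ≫ l q) : Sieve c) ∈ T c := by
      refine Cov.trans (Cov.pullback hb hc hl h') _ fun q => ⟨_, _, _, cov_el i hd _, fun k => ?_⟩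
      obtain ⟨g, hg⟩ := i.map_surjective (k.2 ≫ Limits.pullback.snd (l q) h')
      obtain ⟨a, ha⟩ := i.map_surjective (k.2 ≫ Limits.pullback.fst (l q) h')
      refine ⟨⟨⟨k.1, g⟩, Sieve.le_generate _ _ _ ⟨q, a, ?_⟩⟩, 𝟙 _, (Category.id_comp _).trans hg⟩
      rw [hg, ha, Category.assoc, Category.assoc, Limits.pullback.condition]
    refine (hF _ hcov).isSeparatedFor.ext ?_
    rintro e _ ⟨e', k, g, ⟨q, a, hga⟩, rfl⟩
    simp only [op_comp, F.obj.map_comp, ConcreteCategory.comp_apply]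
    congr 1
    have hga' : ∀ z : Y.pt ⨯ Y.pt ⟶ Y.pt, i.map g ≫ (h' ≫ m) ≫ z = i.map a ≫ q.1.2 ≫ z := fun z => by
      rw [Category.assoc, reassoc_of% hga, reassoc_of% (hlm q)]
    rw [← hpn, ← hpn, hga', hga', hpn, hpn, q.2]
  have hfac : ∀ (W : E) (a b : W ⟶ Y.pt), (∃ f : W ⟶ Z, f ≫ m ≫ prod.fst = a ∧ f ≫ m ≫ prod.snd = b) ↔
      ∀ (c : C) (k : i.obj c ⟶ W), p c (k ≫ a) = p c (k ≫ b) := by
    intro W a b
    constructor
    · rintro ⟨f, rfl, rfl⟩ c k
      have := (hmem c ((k ≫ f) ≫ m)).1 ⟨k ≫ f, rfl⟩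
      simpa using this
    · intro h
      have := cov_el i hd W _ (Limits.pullback.snd m (prod.lift a b)) inferInstance fun q => by
        obtain ⟨h', hh'⟩ := (hmem q.1 (q.2 ≫ prod.lift a b)).2 (by
          simpa [prod.lift_fst, prod.lift_snd] using h q.1 q.2)
        exact ⟨Limits.pullback.lift h' q.2 hh', Limits.pullback.lift_snd _ _ _⟩
      refine ⟨inv (Limits.pullback.snd m (prod.lift a b)) ≫ Limits.pullback.fst _ _, ?_, ?_⟩
      · rw [Category.assoc, Limits.pullback.condition_assoc, IsIso.inv_hom_id_assoc, prod.lift_fst]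
      · rw [Category.assoc, Limits.pullback.condition_assoc, IsIso.inv_hom_id_assoc, prod.lift_snd]
  have hR : SGA4.IsEquivRel (m ≫ prod.fst) (m ≫ prod.snd) := by
    intro W
    refine ⟨fun f f' hff => ?_, ⟨fun a => (hfac W a a).2 fun _ _ => rfl,
      fun {a b} hab => (hfac W b a).2 fun c k => ((hfac W a b).1 hab c k).symm,
      fun {a b e} hab hbe => (hfac W a e).2 fun c k => ((hfac W a b).1 hab c k).trans ((hfac W b e).1 hbe c k)⟩⟩
    rw [Prod.ext_iff] at hff
    rw [← cancel_mono m]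
    exact prod.hom_ext (by simpa using hff.1) (by simpa using hff.2)
  obtain ⟨B, π, hpb, hpo, heff⟩ := hc _ _ _ _ hR
  have hπ : ∀ (c : C) (f g : i.obj c ⟶ Y.pt), p c f = p c g → f ≫ π = g ≫ π := by
    intro c f g h
    obtain ⟨r, rfl, rfl⟩ := (hfac _ f g).2 fun d k => by
      obtain ⟨k', rfl⟩ := i.map_surjective k
      rw [hpn, hpn, h]
    rw [Category.assoc, Category.assoc]
    simpa using r ≫= hpb.w
  let ψ : F.obj ⟶ homPsh i B :=
    { app := fun c => ↾fun x => Y.inj ⟨c.unop, x⟩ ≫ π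
      naturality := fun c d k => by
        ext x
        change Y.inj ⟨d.unop, F.obj.map k x⟩ ≫ π = i.map k.unop ≫ Y.inj ⟨c.unop, x⟩ ≫ π
        rw [← Category.assoc]
        apply hπ
        rw [hpn, hpx', hpx']
        rfl }
  have hinjψ : ∀ c, Function.Injective (ψ.app c) := by
    intro c x y (hxy : Y.inj ⟨c.unop, x⟩ ≫ π = Y.inj ⟨c.unop, y⟩ ≫ π)
    obtain ⟨r, h1, h2⟩ := hpb.exists_lift _ _ hxy
    have := (hfac _ _ _).1 ⟨r, h1, h2⟩ c.unop (𝟙 _)
    rw [Category.id_comp, Category.id_comp] at this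
    rw [hpx', hpx'] at this
    exact this
  have hsur : ∀ c, Function.Surjective (ψ.app c) := by
    rintro ⟨c⟩ (b : i.obj c ⟶ B)
    let S : Sieve c :=
      { arrows := fun e g => ∃ (x : I) (a : e ⟶ x.1), i.map g ≫ b = i.map a ≫ Y.inj x ≫ π
        downward_closed := by
          rintro e e' g ⟨x, a, h⟩ k
          exact ⟨x, k ≫ a, by rw [i.map_comp, i.map_comp, Category.assoc, h, Category.assoc]⟩ }
    have hcovπ : Cov (fun _ : PUnit.{u+1} => Limits.pullback.snd π b) := by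
      intro W n hn hf
      obtain ⟨a, ha⟩ := hf ⟨⟩
      have := heff _ b
      let s := EffectiveEpi.desc (Limits.pullback.snd π b) a fun g₁ g₂ hgg => by
        rw [← cancel_mono n, Category.assoc, Category.assoc, ha, hgg]
      have hs : s ≫ n = 𝟙 _ := by
        rw [← cancel_epi (Limits.pullback.snd π b), EffectiveEpi.fac_assoc, ha, Category.comp_id]
      exact ⟨s, by rw [← cancel_mono n, Category.assoc, hs, Category.comp_id, Category.id_comp], hs⟩
    have hS : S ∈ T c := by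
      refine Cov.trans hcovπ _ fun _ => ⟨_, _, _, Cov.pullback hb hc (cov_inj hY) (Limits.pullback.fst π b) |>.trans
        (fun q : Σ x : I, Σ e : C, i.obj e ⟶ Limits.pullback (Y.inj x) (Limits.pullback.fst π b) =>
          q.2.2 ≫ Limits.pullback.snd _ _) (fun x => ⟨_, _, _, cov_el i hd _, fun k => ⟨⟨x, k⟩, 𝟙 _, by simp⟩⟩),
        fun q => ?_⟩
      obtain ⟨g, hg⟩ := i.map_surjective (q.2.2 ≫ Limits.pullback.snd _ _ ≫ Limits.pullback.snd π b)
      obtain ⟨a, ha⟩ := i.map_surjective (q.2.2 ≫ Limits.pullback.fst (Y.inj q.1) (Limits.pullback.fst π b))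
      refine ⟨⟨⟨q.2.1, g⟩, q.1, a, ?_⟩, 𝟙 _, by simp [hg]⟩
      rw [hg, ha]
      simp only [Category.assoc]
      rw [Limits.pullback.condition_assoc, Limits.pullback.condition]
    let t : Presieve.FamilyOfElements F.obj S.arrows :=
      fun e g hg => F.obj.map hg.choose_spec.choose.op hg.choose.2
    have ht' : ∀ e (g : e ⟶ c) (hg : S g), ψ.app (op e) (t g hg) = i.map g ≫ b := by
      intro e g hg
      rw [NatTrans.naturality_apply ψ]
      exact hg.choose_spec.choose_spec.symm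
    have ht : t.Compatible := by
      intro e₁ e₂ e g₁ g₂ k₁ k₂ h₁ h₂ hw
      apply hinjψ
      rw [NatTrans.naturality_apply ψ g₁.op, NatTrans.naturality_apply ψ g₂.op, ht', ht']
      change i.map g₁ ≫ i.map k₁ ≫ b = i.map g₂ ≫ i.map k₂ ≫ b
      rw [← i.map_comp_assoc, ← i.map_comp_assoc, hw]
    obtain ⟨s, hs, -⟩ := hF S hS t ht
    refine ⟨s, ((isSheaf_iff_isSheaf_of_type _ _).1 (homPsh_isSheaf hb hc i hd B) S hS).isSeparatedFor.ext
      fun e g hg => ?_⟩
    rw [← NatTrans.naturality_apply ψ, hs g hg, ht']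
    rfl
  exact ⟨B, ⟨((fullyFaithfulSheafToPresheaf T (Type u)).preimageIso
    (X := F) (Y := (R hb hc i hd).obj B) (NatIso.ofComponents (fun c => @asIso _ _ _ _ (ψ.app c) ((isIso_iff_bijective _).2 ⟨hinjψ c, hsur c⟩))
      (fun k => ψ.naturality k))).symm⟩⟩

end Giraud

theorem isTopos (hb : SGA4.HasDisjointUniversalCoproducts.{v, u} E)
    (hc : ∀ (R A : E) (p₁ p₂ : R ⟶ A), SGA4.IsEquivRel p₁ p₂ → SGA4.IsEffectiveUniversalEquivRel p₁ p₂)
    (hd : ∃ P : ObjectProperty E, ObjectProperty.Small.{u} P ∧ P.IsDetecting) :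
    SGA4.IsTopos.{v, u} E := by
  obtain ⟨P, hP, hdet⟩ := hd
  have : Small.{u} (Subtype P) := hP
  let φ : Shrink.{u} (Subtype P) → E := fun k => ((equivShrink (Subtype P)).symm k).1
  let i := inducedFunctor φ
  have hd' : ∀ ⦃X Y : E⦄ (f : X ⟶ Y), (∀ (c : InducedCategory E φ) (h : i.obj c ⟶ Y),
      ∃! h' : i.obj c ⟶ X, h' ≫ f = h) → IsIso f := by
    intro X Y f hf
    refine hdet f fun G hG h => ?_
    obtain ⟨k, hk⟩ : ∃ k, φ k = G := ⟨equivShrink _ ⟨G, hG⟩, by simp [φ]⟩
    subst hk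
    exact hf k h
  have := R_faithful hb hc i hd'
  have := R_full hb hc i hd'
  have := R_essSurj hb hc i hd'
  have : (R hb hc i hd').IsEquivalence := {}
  exact ⟨_, inferInstance, top i hb hc hd', ⟨(R hb hc i hd').asEquivalence⟩⟩

end Groth.Agent.H5Giraud
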