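import Mathlib
set_option autoImplicit false
universe u
open Function Set

namespace Groth.Agent.H5Gleason

/-- the points of a space, with the discrete topology -/
structure Pts (X : Type u) : Type u where
  pt : X

instance (X : Type u) : TopologicalSpace (Pts X) := ⊥
instance (X : Type u) : DiscreteTopology (Pts X) := ⟨rfl⟩

variable {X : Type u} [TopologicalSpace X] [CompactSpace X] [T2Space X]

theorem irreducible_self_map_eq_id {E : Type u} [TopologicalSpace E] [CompactSpace E] [T2Space E]
    {p : E → X} (hs : Surjective p) (hmin : ∀ F : Set E, IsClosed F → F ≠ univ → p '' F ≠ univ)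
    {h : E → E} (hh : Continuous h) (hph : p ∘ h = p) : h = id := by
  funext x
  by_contra hx
  obtain ⟨U, V, hU, hV, hxU, hxV, hUV⟩ := t2_separation hx
  -- `hxU : h x ∈ U`, `hxV : x ∈ V`
  let W := V ∩ h ⁻¹' U
  have hW : IsOpen W := hV.inter (hU.preimage hh)
  have hne : (Wᶜ : Set E) ≠ univ := fun e => (e.symm ▸ mem_univ x : x ∈ (Wᶜ : Set E)) ⟨hxV, hxU⟩
  obtain ⟨z, hz⟩ := (ne_univ_iff_exists_notMem _).1 (hmin _ hW.isClosed_compl hne)
  have hin : ∀ y, p y = z → y ∈ W := fun y hy => by_contra fun hn => hz ⟨y, hn, hy⟩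
  obtain ⟨y, hy⟩ := hs z
  have h1 := hin y hy
  have h2 := hin (h y) ((congrFun hph y).trans hy)
  exact Set.disjoint_left.1 hUV h1.2 h2.1

theorem exists_minimal_cover : ∃ (X' : Type u) (_ : TopologicalSpace X') (_ : CompactSpace X') (_ : T2Space X')
    (_ : ExtremallyDisconnected X') (p : X' → X), Continuous p ∧ Surjective p ∧
      ∀ E : Set X', IsClosed E → E ≠ univ → p '' E ≠ univ := by
  let D : Type u := Pts X
  let F := StoneCech (Pts X)
  let π : F → X := stoneCechExtend (g := (Pts.pt : Pts X → X)) continuous_of_discreteTopology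
  have hπ : Continuous π := continuous_stoneCechExtend _
  have hπs : Surjective π := fun x =>
    ⟨stoneCechUnit (Pts.mk x), congrFun (stoneCechExtend_extends (g := (Pts.pt : Pts X → X)) continuous_of_discreteTopology) (Pts.mk x)⟩
  obtain ⟨E, hEc, hEs, hEm⟩ := exists_compact_surjective_zorn_subset hπ hπs
  have := hEc
  let p : E → X := E.domRestrict π
  have hp : Continuous p := hπ.comp continuous_subtype_val
  have hps : Surjective p := fun x => by
    obtain ⟨y, hy, rfl⟩ : x ∈ π '' E := hEs.symm ▸ mem_univ x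
    exact ⟨⟨y, hy⟩, rfl⟩
  have hm : ∀ G : Set E, IsClosed G → G ≠ univ → p '' G ≠ univ := fun G h1 h2 => hEm G h2 h1
  obtain ⟨r, hr, hpr⟩ := (StoneCech.projective (X := Pts X)) hπ hp hps
  have hid : r ∘ Subtype.val = id := irreducible_self_map_eq_id hps hm (hr.comp continuous_subtype_val)
    (by funext e; exact congrFun hpr e.1)
  have hproj : CompactT2.Projective E := by
    intro Y Z _ _ _ _ _ _ f g hf hg hgs
    obtain ⟨k, hk, hgk⟩ := (StoneCech.projective (X := Pts X)) (hf.comp hr) hg hgs
    refine ⟨k ∘ Subtype.val, hk.comp continuous_subtype_val, ?_⟩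
    rw [← comp_assoc, hgk, comp_assoc, hid, comp_id]
  exact ⟨E, inferInstance, hEc, inferInstance, hproj.extremallyDisconnected, p, hp, hps, hm⟩

theorem minimal_cover_unique (X' X'' : Type u) [TopologicalSpace X'] [CompactSpace X'] [T2Space X']
    [ExtremallyDisconnected X'] [TopologicalSpace X''] [CompactSpace X''] [T2Space X''] [ExtremallyDisconnected X'']
    (p : X' → X) (q : X'' → X) (hp : Continuous p) (hps : Surjective p)
    (hpm : ∀ E : Set X', IsClosed E → E ≠ univ → p '' E ≠ univ) (hq : Continuous q) (hqs : Surjective q)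
    (hqm : ∀ E : Set X'', IsClosed E → E ≠ univ → q '' E ≠ univ) : ∃ h : X' ≃ₜ X'', q ∘ h = p := by
  obtain ⟨f, hf, hqf⟩ := CompactT2.ExtremallyDisconnected.projective hp hq hqs
  obtain ⟨g, hg, hpg⟩ := CompactT2.ExtremallyDisconnected.projective hq hp hps
  have h1 : g ∘ f = id := irreducible_self_map_eq_id hps hpm (hg.comp hf) (by rw [← comp_assoc, hpg, hqf])
  have h2 : f ∘ g = id := irreducible_self_map_eq_id hqs hqm (hf.comp hg) (by rw [← comp_assoc, hqf, hpg])
  exact ⟨{ toFun := f, invFun := g, left_inv := congrFun h1, right_inv := congrFun h2 }, hqf⟩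

end Groth.Agent.H5Gleason
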