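import Mathlib
import Groth.Prelude
import Groth.Agent.Lib.H5ToposColim
import Groth.Agent.Lib.H5CoprodSh
import Groth.Agent.Lib.H5TopCanonical
import Groth.Agent.Lib.H5Giraud

universe v u

open CategoryTheory CategoryTheory.Limits Opposite
open Groth.Agent.H5ToposColim Groth.Agent.H5CoprodSh Groth.Agent.H5TopCanonical

namespace Groth.Agent.H5GlueTopos

theorem isEquivRel_map {A : Type (u + 1)} [Category.{u} A] [HasFiniteLimits A]
    {B : Type (u + 1)} [Category.{u} B] [HasFiniteLimits B] (F : A ⥤ B) [PreservesFiniteLimits F]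
    {R X : A} {p₁ p₂ : R ⟶ X} (h : SGA4.IsEquivRel p₁ p₂) :
    SGA4.IsEquivRel (F.map p₁) (F.map p₂) := by
  have hm : Mono (prod.lift p₁ p₂) := ⟨fun {T} f g hfg => (h T).1 (Prod.ext
    (by simpa [prod.lift_fst] using congrArg (· ≫ prod.fst) hfg) (by simpa [prod.lift_snd] using congrArg (· ≫ prod.snd) hfg))⟩
  obtain ⟨d, hd₁, hd₂⟩ := (h X).2.refl (𝟙 X)
  obtain ⟨σ, hσ₁, hσ₂⟩ := (h R).2.symm (⟨𝟙 R, Category.id_comp _, Category.id_comp _⟩ :
    ∃ f : R ⟶ R, f ≫ p₁ = p₁ ∧ f ≫ p₂ = p₂)
  have hp := IsPullback.of_hasPullback p₂ p₁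
  obtain ⟨τ, hτ₁, hτ₂⟩ := (h (pullback p₂ p₁)).2.trans
    (⟨pullback.fst p₂ p₁, rfl, rfl⟩ : ∃ f, f ≫ p₁ = pullback.fst p₂ p₁ ≫ p₁ ∧ f ≫ p₂ = pullback.fst p₂ p₁ ≫ p₂)
    (⟨pullback.snd p₂ p₁, pullback.condition.symm, rfl⟩ :
      ∃ f, f ≫ p₁ = pullback.fst p₂ p₁ ≫ p₂ ∧ f ≫ p₂ = pullback.snd p₂ p₁ ≫ p₂)
  intro T
  refine ⟨fun f g hfg => ?_, ⟨fun a => ⟨a ≫ F.map d, ?_, ?_⟩, ?_, ?_⟩⟩
  · rw [← cancel_mono (F.map (prod.lift p₁ p₂))]
    rw [Prod.ext_iff] at hfg
    rw [← cancel_mono (prodComparison F X X)]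
    refine Limits.prod.hom_ext ?_ ?_
    · simp only [Category.assoc, prodComparison_fst, ← F.map_comp, prod.lift_fst]
      exact hfg.1
    · simp only [Category.assoc, prodComparison_snd, ← F.map_comp, prod.lift_snd]
      exact hfg.2
  · rw [Category.assoc, ← F.map_comp, hd₁, F.map_id, Category.comp_id]
  · rw [Category.assoc, ← F.map_comp, hd₂, F.map_id, Category.comp_id]
  · rintro a b ⟨f, rfl, rfl⟩
    exact ⟨f ≫ F.map σ, by rw [Category.assoc, ← F.map_comp, hσ₁], by rw [Category.assoc, ← F.map_comp, hσ₂]⟩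
  · rintro a b c ⟨f, rfl, hf⟩ ⟨g, hg, rfl⟩
    obtain ⟨l, hl₁, hl₂⟩ := (hp.map F).exists_lift f g (hf.trans hg.symm)
    refine ⟨l ≫ F.map τ, ?_, ?_⟩
    · rw [Category.assoc, ← F.map_comp, hτ₁, F.map_comp, reassoc_of% hl₁]
    · rw [Category.assoc, ← F.map_comp, hτ₂, F.map_comp, reassoc_of% hl₂]

variable {C D : Type u} [SmallCategory C] [SmallCategory D] {J : GrothendieckTopology C}
    {K : GrothendieckTopology D} (ρ : Sheaf J (Type u) ⥤ Sheaf K (Type u)) [PreservesFiniteLimits ρ]


instance preservesLimitsOfShape_fst {S : Type} [SmallCategory S] [FinCategory S] :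
    PreservesLimitsOfShape S (Comma.fst (𝟭 (Sheaf K (Type u))) ρ) where
  preservesLimit :=
    preservesLimit_of_preserves_limit_cone
      (Comma.coneOfPreservesIsLimit _ (limit.isLimit _) (limit.isLimit _)) (limit.isLimit _)

instance preservesLimitsOfShape_snd {S : Type} [SmallCategory S] [FinCategory S] :
    PreservesLimitsOfShape S (Comma.snd (𝟭 (Sheaf K (Type u))) ρ) where
  preservesLimit :=
    preservesLimit_of_preserves_limit_cone
      (Comma.coneOfPreservesIsLimit _ (limit.isLimit _) (limit.isLimit _)) (limit.isLimit _)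

instance : PreservesFiniteLimits (Comma.fst (𝟭 (Sheaf K (Type u))) ρ) := ⟨fun _ _ _ => inferInstance⟩
instance : PreservesFiniteLimits (Comma.snd (𝟭 (Sheaf K (Type u))) ρ) := ⟨fun _ _ _ => inferInstance⟩

abbrev fstF := Comma.fst (𝟭 (Sheaf K (Type u))) ρ
abbrev sndF := Comma.snd (𝟭 (Sheaf K (Type u))) ρ

theorem isPullback_of_components {P X Y Z : (Comma (𝟭 (Sheaf K (Type u))) ρ)} {f : P ⟶ X} {g : P ⟶ Y} {h : X ⟶ Z} {k : Y ⟶ Z}
    (h₁ : IsPullback ((fstF ρ).map f) ((fstF ρ).map g) ((fstF ρ).map h) ((fstF ρ).map k))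
    (h₂ : IsPullback ((sndF ρ).map f) ((sndF ρ).map g) ((sndF ρ).map h) ((sndF ρ).map k)) :
    IsPullback f g h k := by
  have w : f ≫ h = g ≫ k := CommaMorphism.ext h₁.w h₂.w
  exact ⟨⟨w⟩, ⟨Comma.fstSndJointlyReflectLimit
    ((isLimitMapConePullbackConeEquiv (fstF ρ) w).symm h₁.isLimit)
    ((isLimitMapConePullbackConeEquiv (sndF ρ) w).symm h₂.isLimit)⟩⟩

theorem isPushout_of_components {P X Y Z : (Comma (𝟭 (Sheaf K (Type u))) ρ)} {f : Z ⟶ X} {g : Z ⟶ Y} {h : X ⟶ P} {k : Y ⟶ P}
    (h₁ : IsPushout ((fstF ρ).map f) ((fstF ρ).map g) ((fstF ρ).map h) ((fstF ρ).map k))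
    (h₂ : IsPushout ((sndF ρ).map f) ((sndF ρ).map g) ((sndF ρ).map h) ((sndF ρ).map k)) :
    IsPushout f g h k := by
  have w : f ≫ h = g ≫ k := CommaMorphism.ext h₁.w h₂.w
  exact ⟨⟨w⟩, ⟨Comma.fstSndJointlyReflectColimit
    ((isColimitMapCoconePushoutCoconeEquiv (fstF ρ) w).symm h₁.isColimit)
    ((isColimitMapCoconePushoutCoconeEquiv (sndF ρ) w).symm h₂.isColimit)⟩⟩

theorem effectiveEpi_of_components {X Y : (Comma (𝟭 (Sheaf K (Type u))) ρ)} (f : X ⟶ Y) [Epi ((fstF ρ).map f)] [Epi ((sndF ρ).map f)] :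
    EffectiveEpi f := by
  have h1 := effectiveEpi_of_epi ((fstF ρ).map f)
  have h2 := effectiveEpi_of_epi ((sndF ρ).map f)
  have hp := IsPullback.of_hasPullback f f
  have : IsRegularEpi f := ⟨⟨{
    W := pullback f f
    left := pullback.fst f f
    right := pullback.snd f f
    w := pullback.condition
    isColimit := Comma.fstSndJointlyReflectColimit
      ((isColimitMapCoconeCoforkEquiv (fstF ρ) pullback.condition).symm
        (isColimitCoforkOfEffectiveEpi _ _ (hp.map (fstF ρ)).isLimit))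
      ((isColimitMapCoconeCoforkEquiv (sndF ρ) pullback.condition).symm
        (isColimitCoforkOfEffectiveEpi _ _ (hp.map (sndF ρ)).isLimit)) }⟩⟩
  infer_instance

theorem effective {R A : (Comma (𝟭 (Sheaf K (Type u))) ρ)} (p₁ p₂ : R ⟶ A) (h : SGA4.IsEquivRel p₁ p₂) :
    SGA4.IsEffectiveUniversalEquivRel p₁ p₂ := by
  obtain ⟨Bl, πl, hpbl, hpol, heffl⟩ := effective_of_isEquivRel _ _ (isEquivRel_map (fstF ρ) h)
  obtain ⟨Br, πr, hpbr, hpor, heffr⟩ := effective_of_isEquivRel _ _ (isEquivRel_map (sndF ρ) h)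
  have w : (fstF ρ).map p₁ ≫ A.hom ≫ ρ.map πr = (fstF ρ).map p₂ ≫ A.hom ≫ ρ.map πr := by
    have e1 : p₁.left ≫ A.hom = R.hom ≫ ρ.map p₁.right := p₁.w
    have e2 : p₂.left ≫ A.hom = R.hom ≫ ρ.map p₂.right := p₂.w
    change p₁.left ≫ A.hom ≫ ρ.map πr = p₂.left ≫ A.hom ≫ ρ.map πr
    rw [reassoc_of% e1, reassoc_of% e2, ← ρ.map_comp, ← ρ.map_comp]
    exact congrArg (fun t => R.hom ≫ ρ.map t) hpor.w
  let B : (Comma (𝟭 (Sheaf K (Type u))) ρ) := { left := Bl, right := Br, hom := hpol.desc (A.hom ≫ ρ.map πr) (A.hom ≫ ρ.map πr) w }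
  let π : A ⟶ B := ⟨πl, πr, hpol.inl_desc _ _ w⟩
  refine ⟨B, π, isPullback_of_components ρ hpbl hpbr, isPushout_of_components ρ hpol hpor, fun B' g => ?_⟩
  have : Epi πl := ⟨fun a b hab => hpol.hom_ext hab hab⟩
  have : Epi πr := ⟨fun a b hab => hpor.hom_ext hab hab⟩
  have hp := IsPullback.of_hasPullback π g
  have := epi_of_isPullback (f := πl) (hp.map (fstF ρ))
  have := epi_of_isPullback (f := πr) (hp.map (sndF ρ))
  exact effectiveEpi_of_components ρ _

theorem isVanKampen_universal {ι : Type u} {F : Discrete ι ⥤ (Comma (𝟭 (Sheaf K (Type u))) ρ)} {c : Cocone F} (hc : IsColimit c) :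
    IsUniversalColimit c := by
  intro F' c' α f e hα H
  have h1 := (sheaf_isVanKampen (isColimitOfPreserves (fstF ρ) hc)).isUniversal
    ((fstF ρ).mapCocone c') (Functor.whiskerRight α (fstF ρ)) ((fstF ρ).map f)
    (by refine NatTrans.ext (funext fun j => ?_); simpa using! (fstF ρ).congr_map (NatTrans.congr_app e j))
    (hα.whiskerRight _) (fun j => (H j).map (fstF ρ))
  have h2 := (sheaf_isVanKampen (isColimitOfPreserves (sndF ρ) hc)).isUniversal
    ((sndF ρ).mapCocone c') (Functor.whiskerRight α (sndF ρ)) ((sndF ρ).map f)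
    (by refine NatTrans.ext (funext fun j => ?_); simpa using! (sndF ρ).congr_map (NatTrans.congr_app e j))
    (hα.whiskerRight _) (fun j => (H j).map (sndF ρ))
  exact ⟨Comma.fstSndJointlyReflectColimit h1.some h2.some⟩

theorem isInitial_of_components {X : (Comma (𝟭 (Sheaf K (Type u))) ρ)} (h₁ : IsInitial X.left) (h₂ : IsInitial X.right) :
    Nonempty (IsInitial X) :=
  ⟨IsInitial.ofUniqueHom (fun Y => ⟨h₁.to _, h₂.to _, h₁.hom_ext _ _⟩)
    (fun Y m => CommaMorphism.ext (h₁.hom_ext _ _) (h₂.hom_ext _ _))⟩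

theorem coproducts : SGA4.HasDisjointUniversalCoproducts.{u + 1, u} (Comma (𝟭 (Sheaf K (Type u))) ρ) := by
  intro ι X
  have hc := coproductIsCoproduct X
  have hl : IsColimit (Cofan.mk ((fstF ρ).obj (∐ X)) fun i => (fstF ρ).map (Sigma.ι X i)) :=
    isColimitMapCoconeCofanMkEquiv (fstF ρ) _ _ (isColimitOfPreserves (fstF ρ) hc)
  have hr : IsColimit (Cofan.mk ((sndF ρ).obj (∐ X)) fun i => (sndF ρ).map (Sigma.ι X i)) :=
    isColimitMapCoconeCofanMkEquiv (sndF ρ) _ _ (isColimitOfPreserves (sndF ρ) hc)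
  obtain ⟨-, hml, hdl⟩ := (nonempty_isColimit_cofan_iff _).1 ⟨hl⟩
  obtain ⟨-, hmr, hdr⟩ := (nonempty_isColimit_cofan_iff _).1 ⟨hr⟩
  have : ∀ i, Mono ((Cofan.mk (∐ X) (Sigma.ι X)).inj i) := fun i => ⟨fun a b hab =>
    CommaMorphism.ext ((hml i).right_cancellation _ _ (congrArg (·.left) hab))
      ((hmr i).right_cancellation _ _ (congrArg (·.right) hab))⟩
  refine ⟨Cofan.mk (∐ X) (Sigma.ι X), hc, ?_, isVanKampen_universal ρ hc⟩
  refine CoproductDisjoint.of_cofan hc (fun {i j} _ => pullback.cone (Sigma.ι X i) (Sigma.ι X j))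
    (fun {i j} _ => pullback.isLimit _ _) (fun {i j} hij => Nonempty.some ?_)
  have hp := IsPullback.of_hasPullback (Sigma.ι X i) (Sigma.ι X j)
  exact isInitial_of_components ρ ((hdl i j hij).some.ofIso (hp.map (fstF ρ)).isoPullback.symm)
    ((hdr i j hij).some.ofIso (hp.map (sndF ρ)).isoPullback.symm)

lemma exists_of_isColimit_presheaf {S : Type u} [SmallCategory S] {P : S ⥤ Cᵒᵖ ⥤ Type u} {c : Cocone P}
    (hc : IsColimit c) : SGA4.IsEpiFamily fun j => (presheafToSheaf J (Type u)).map (c.ι.app j) :=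
  fun Z a b h => (isColimitOfPreserves (presheafToSheaf J (Type u)) hc).hom_ext h

theorem detecting [ρ.IsAccessible.{u}] :
    ∃ P : ObjectProperty (Comma (𝟭 (Sheaf K (Type u))) ρ), ObjectProperty.Small.{u} P ∧ P.IsDetecting := by
  obtain ⟨κ, hκ, hρ⟩ := Functor.IsAccessible.exists_cardinal.{u} (F := ρ)
  have hle : IsCardinalLocallyPresentable (Type u) κ := inferInstance
  obtain ⟨G, hG, hgen⟩ := HasCardinalFilteredGenerator.exists_small_generator (Cᵒᵖ ⥤ Type u) κ
  let L := presheafToSheaf J (Type u)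
  let LK := presheafToSheaf K (Type u)
  -- test objects
  let t₁ : C → (Comma (𝟭 (Sheaf K (Type u))) ρ) := fun c =>
    { left := ⊥_ _, right := L.obj (yoneda.obj c), hom := initial.to _ }
  let Idx := Σ (d : D) (g : Subtype G), (LK.obj (yoneda.obj d) ⟶ ρ.obj (L.obj g.1))
  let t₂ : Idx → (Comma (𝟭 (Sheaf K (Type u))) ρ) := fun p => { left := LK.obj (yoneda.obj p.1), right := L.obj p.2.1.1, hom := p.2.2 }
  have hsm : Small.{u} (Subtype G) := hG
  refine ⟨ObjectProperty.ofObj (Sum.elim t₁ t₂), inferInstance, ?_⟩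
  intro S T φ hφ
  have hr : IsIso φ.right := by
    have : IsIso ((sheafToPresheaf J (Type u)).map φ.right) := by
      have : ∀ U, IsIso (((sheafToPresheaf J (Type u)).map φ.right).app U) := fun ⟨c⟩ => by
        rw [isIso_iff_bijective]
        let e : ∀ X : Sheaf J (Type u), (L.obj (yoneda.obj c) ⟶ X) ≃ X.obj.obj (op c) := fun X =>
          ((sheafificationAdjunction J (Type u)).homEquiv _ X).trans yonedaEquiv
        have he : ∀ x, el T.right (e T.right x) = x := fun x => (e T.right).symm_apply_apply x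
        have key : ∀ y : T.right.obj.obj (op c), ∃! x : S.right.obj.obj (op c), φ.right.hom.app (op c) x = y := by
          intro y
          obtain ⟨h', hh', hu⟩ := hφ _ (ObjectProperty.ofObj_apply _ (Sum.inl c))
            (⟨initial.to _, el T.right y, initialIsInitial.hom_ext _ _⟩ : t₁ c ⟶ T)
          obtain ⟨x, hx⟩ : ∃ x, el S.right x = h'.right := ⟨e S.right h'.right, (e S.right).symm_apply_apply _⟩
          refine ⟨x, el_injective T.right c ?_, fun x' hx' => el_injective S.right c ?_⟩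
          · rw [← el_comp, hx]
            exact congrArg (·.right) hh'
          · rw [hx]
            have := hu (⟨initial.to _, el S.right x', initialIsInitial.hom_ext _ _⟩ : t₁ c ⟶ S)
              (CommaMorphism.ext (initialIsInitial.hom_ext _ _) ((el_comp x' φ.right).trans (congrArg _ hx')))
            exact congrArg (·.right) this
        exact Function.bijective_iff_existsUnique _ |>.2 key
      exact NatIso.isIso_of_isIso_app _
    exact isIso_of_fully_faithful (sheafToPresheaf J (Type u)) _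
  -- sections of `T.left` factor locally through test objects
  have hloc : ∀ (d : D) (z : T.left.obj.obj (op d)), ∃ S' ∈ K d, ∀ ⦃e⦄ (k : e ⟶ d), S' k →
      ∃ (g : Subtype G) (h : LK.obj (yoneda.obj e) ⟶ ρ.obj (L.obj g.1)) (r : L.obj g.1 ⟶ T.right),
        h ≫ ρ.map r = el T.left (T.left.obj.map k.op z) ≫ T.hom := by
    intro d z
    obtain ⟨Js, _, _, ⟨pres⟩⟩ := hgen.exists_colimitsOfShape T.right.obj
    have : PreservesColimitsOfShape Js ρ := ρ.preservesColimitsOfShape_of_isCardinalAccessible κ Js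
    let εc := (sheafificationAdjunction J (Type u)).counit.app T.right
    let cc := ρ.mapCocone (L.mapCocone pres.cocone)
    have hcc : IsColimit cc := isColimitOfPreserves ρ (isColimitOfPreserves L pres.isColimit)
    have hepi : SGA4.IsEpiFamily fun j => ρ.map (L.map (pres.ι.app j) ≫ εc) := by
      intro Z a b h
      rw [← cancel_epi (ρ.map εc)]
      refine hcc.hom_ext fun j => ?_
      have := h j
      simp only [Functor.map_comp, Category.assoc] at this
      exact this
    let H := Sigma.desc fun j => ρ.map (L.map (pres.ι.app j) ≫ εc)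
    have : Epi H := ⟨fun a b hab => hepi _ a b fun j => by
      have := congrArg (fun t => Sigma.ι (fun j => ρ.obj (L.obj (pres.diag.obj j))) j ≫ t) hab
      simpa [H] using this⟩
    have hls : Sheaf.IsLocallySurjective H := (Sheaf.isLocallySurjective_iff_epi H).2 inferInstance
    -- sections of a coproduct of sheaves come locally from a summand
    have hco : SGA4.IsEpiFamily (Sigma.ι fun j => ρ.obj (L.obj (pres.diag.obj j))) :=
      fun Z a b h => Sigma.hom_ext _ _ h
    let W := fun j => ρ.obj (L.obj (pres.diag.obj j))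
    let S' : Sieve d :=
      { arrows := fun e k => ∃ (j : Js) (w : (W j).obj.obj (op e)),
          el (W j) w ≫ ρ.map (L.map (pres.ι.app j) ≫ εc) = el T.left (T.left.obj.map k.op z) ≫ T.hom
        downward_closed := by
          rintro e e' k ⟨j, w, hw⟩ l
          refine ⟨j, (W j).obj.map l.op w, ?_⟩
          rw [← map_el, Category.assoc, hw, ← Category.assoc, map_el]
          simp }
    have hS' : S' ∈ K d := by
      refine K.transitive (Presheaf.imageSieve_mem K H.hom (U := op d) (T.hom.hom.app (op d) z)) S'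
        fun e k ⟨q, hq⟩ => ?_
      let P := ∐ fun j => (W j).obj
      let qS : LK.obj P ⟶ ∐ W := ((sheafificationAdjunction K (Type u)).homEquiv _ _).symm
        (Sigma.desc fun j => (Sigma.ι W j).hom)
      have : Epi qS := ⟨fun a b hab => hco _ a b fun j => by
        have h5 := congrArg ((sheafificationAdjunction K (Type u)).homEquiv _ _) hab
        simp only [qS, Adjunction.homEquiv_naturality_right, Equiv.apply_symm_apply] at h5
        have h6 := congrArg (fun t => Sigma.ι (fun j => (W j).obj) j ≫ t) h5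
        simp only [Sigma.ι_desc_assoc] at h6
        exact Sheaf.hom_ext h6⟩
      have hls2 : Presheaf.IsLocallySurjective K (Sigma.desc fun j => (Sigma.ι W j).hom : P ⟶ (∐ W).obj) := by
        have e1 : (Sigma.desc fun j => (Sigma.ι W j).hom : P ⟶ (∐ W).obj) = toSheafify K P ≫ qS.hom := by
          simp [qS, Adjunction.homEquiv_counit]
        have : Presheaf.IsLocallySurjective K qS.hom := (Sheaf.isLocallySurjective_iff_epi qS).2 inferInstance
        rw [e1]
        infer_instance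
      refine K.superset_covering ?_ (Presheaf.imageSieve_mem K (Sigma.desc fun j => (Sigma.ι W j).hom : P ⟶ (∐ W).obj) (U := op e) q)
      rintro e' l ⟨p, hp⟩
      obtain ⟨⟨j⟩, w, rfl⟩ := Types.jointly_surjective_of_isColimit
        (isColimitOfPreserves ((evaluation _ _).obj (op e')) (coproductIsCoproduct fun j => (W j).obj)) p
      have hp' : (Sigma.ι W j).hom.app (op e') w = (∐ W).obj.map l.op q := by
        rw [← hp]
        exact (ConcreteCategory.congr_hom (congr_app
          (Sigma.ι_desc (fun j => (Sigma.ι W j).hom) j) (op e')) w).symm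
      refine ⟨j, w, ?_⟩
      rw [el_comp, el_comp]
      congr 1
      have h7 := congrArg (H.hom.app (op e')) hp'
      rw [NatTrans.naturality_apply H.hom, hq] at h7
      have h8 : Sigma.ι W j ≫ H = ρ.map (L.map (pres.ι.app j) ≫ εc) := Sigma.ι_desc _ _
      rw [← h8]
      simp only [op_comp, Functor.map_comp, ConcreteCategory.comp_apply]
      refine h7.trans ?_
      exact ((congrArg _ (NatTrans.naturality_apply T.hom.hom k.op z).symm).trans
        (NatTrans.naturality_apply T.hom.hom l.op _).symm)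
    refine ⟨S', hS', fun e k ⟨j, w, hw⟩ => ⟨⟨_, pres.prop_diag_obj j⟩, el (W j) w, L.map (pres.ι.app j) ≫ εc, hw⟩⟩
  have hl : IsIso φ.left := by
    have hφw : φ.left ≫ T.hom = S.hom ≫ ρ.map φ.right := φ.w
    have key : ∀ (e : D) (z : T.left.obj.obj (op e)) (g : Subtype G) (h : LK.obj (yoneda.obj e) ⟶ ρ.obj (L.obj g.1))
        (r : L.obj g.1 ⟶ T.right), h ≫ ρ.map r = el T.left z ≫ T.hom →
        ∃! s : S.left.obj.obj (op e), φ.left.hom.app (op e) s = z := by
      intro e z g h r hr'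
      obtain ⟨h', hh', hu⟩ := hφ _ (ObjectProperty.ofObj_apply _ (Sum.inr (⟨e, g, h⟩ : Idx)))
        (⟨el T.left z, r, hr'.symm⟩ : t₂ ⟨e, g, h⟩ ⟶ T)
      obtain ⟨x, hx⟩ : ∃ x, el S.left x = h'.left :=
        ⟨_, (((sheafificationAdjunction K (Type u)).homEquiv _ S.left).trans yonedaEquiv).symm_apply_apply h'.left⟩
      refine ⟨x, el_injective T.left e ?_, fun x' hx' => el_injective S.left e ?_⟩
      · rw [← el_comp, hx]
        exact congrArg (·.left) hh'
      · rw [hx]
        have hz : el S.left x' ≫ φ.left = el T.left z := (el_comp x' φ.left).trans (congrArg _ hx')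
        have := hu (⟨el S.left x', r ≫ inv φ.right, by
            rw [← cancel_mono (ρ.map φ.right)]
            change (el S.left x' ≫ S.hom) ≫ ρ.map φ.right = (h ≫ ρ.map (r ≫ inv φ.right)) ≫ ρ.map φ.right
            rw [Category.assoc, ← hφw, reassoc_of% hz, Category.assoc, ← ρ.map_comp, Category.assoc,
              IsIso.inv_hom_id, Category.comp_id, hr']⟩ : t₂ ⟨e, g, h⟩ ⟶ S)
          (CommaMorphism.ext hz (by simp [t₂]))
        exact congrArg (·.left) this
    have : Sheaf.IsLocallyInjective φ.left := by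
      constructor
      intro U a b hab
      obtain ⟨S', hS', hk⟩ := hloc U.unop (φ.left.hom.app U a)
      refine K.superset_covering (fun e k hk' => ?_) hS'
      obtain ⟨g, h, r, hr'⟩ := hk k hk'
      refine (key e _ g h r hr').unique (NatTrans.naturality_apply φ.left.hom k.op a) ?_
      rw [NatTrans.naturality_apply φ.left.hom k.op b, ← hab]
    have : Sheaf.IsLocallySurjective φ.left := by
      constructor
      intro U z
      obtain ⟨S', hS', hk⟩ := hloc U z
      refine K.superset_covering (fun e k hk' => ?_) hS'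
      obtain ⟨g, h, r, hr'⟩ := hk k hk'
      exact (key e _ g h r hr').exists
    have := Sheaf.mono_of_isLocallyInjective φ.left
    exact isIso_of_mono_of_epi φ.left
  exact ⟨⟨inv φ.left, inv φ.right, by
    change inv φ.left ≫ S.hom = T.hom ≫ ρ.map (inv φ.right)
    rw [IsIso.inv_comp_eq, reassoc_of% φ.w, ← ρ.map_comp, IsIso.hom_inv_id, ρ.map_id, Category.comp_id]⟩,
    CommaMorphism.ext (IsIso.hom_inv_id φ.left) (IsIso.hom_inv_id φ.right),
    CommaMorphism.ext (IsIso.inv_hom_id φ.left) (IsIso.inv_hom_id φ.right)⟩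

theorem glued_isTopos [ρ.IsAccessible.{u}] : SGA4.IsTopos.{u + 1, u} (Comma (𝟭 (Sheaf K (Type u))) ρ) :=
  Groth.Agent.H5Giraud.isTopos (coproducts ρ) (fun _ _ p₁ p₂ h => effective ρ p₁ p₂ h) (detecting ρ)

end Groth.Agent.H5GlueTopos
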