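import Groth.Agent.Lib.H5TopCoh
import Groth.Prelude.Def_CohTop
import Mathlib.Topology.Category.TopCat.Adjunctions

universe u

namespace Groth.Agent.H5Godement
open CategoryTheory Limits Opposite TopologicalSpace

theorem flasque_discrete {Z : TopCat.{u}} [DiscreteTopology Z] (G : CohTop.Ab Z) : TopCat.Sheaf.IsFlasque G := by
  refine ⟨fun {W V} i => ?_⟩
  obtain ⟨W⟩ := W
  obtain ⟨V⟩ := V
  rw [AddCommGrpCat.epi_iff_surjective]
  intro s
  have hle : V ≤ W := i.unop.le
  let R : Opens Z := ⟨(W : Set Z) \ V, isOpen_discrete _⟩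
  let U : ULift.{u} Bool → Opens Z := fun b => if b.down then V else R
  have hUW : ∀ b, U b ≤ W := fun b => by
    dsimp [U]; split_ifs
    · exact hle
    · exact Set.diff_subset
  have hcov : W ≤ iSup U := fun z hz => by
    by_cases h : z ∈ V
    · exact Opens.mem_iSup.2 ⟨⟨true⟩, h⟩
    · exact Opens.mem_iSup.2 ⟨⟨false⟩, hz, h⟩
  let sf : ∀ b, G.obj.obj (op (U b)) := fun b =>
    if h : b.down then G.obj.map (eqToHom (show op V = op (U b) by simp [U, h])) s else 0
  have hc : TopCat.Presheaf.IsCompatible G.obj U sf := fun a b => by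
    rcases a with ⟨a⟩; rcases b with ⟨b⟩
    by_cases hab : a = b
    · subst hab; rfl
    · have he : U ⟨a⟩ ⊓ U ⟨b⟩ = ⊥ := by
        cases a <;> cases b <;> first | exact absurd rfl hab | (ext z; simp [U, R])
      have : Subsingleton (G.obj.obj (op (U ⟨a⟩ ⊓ U ⟨b⟩))) := by
        rw [he]
        exact AddCommGrpCat.subsingleton_of_isZero (IsTerminal.isZero (TopCat.Sheaf.isTerminalOfEqEmpty G rfl))
      exact this.elim _ _
  obtain ⟨t, ht, -⟩ := TopCat.Sheaf.existsUnique_gluing' G U W (fun b => homOfLE (hUW b)) hcov sf hc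
  refine ⟨t, ?_⟩
  have h := ht ⟨true⟩
  have e : sf ⟨true⟩ = s := (ConcreteCategory.congr_hom (G.obj.map_id (op V)) s)
  exact (h.trans e)

theorem godement_first {X : TopCat.{u}} (F : CohTop.Ab X) :
    Mono ((TopCat.Sheaf.pullbackPushforwardAdjunction AddCommGrpCat.{u}
      (TopCat.adj₁.counit.app X)).unit.app F) ∧
    TopCat.Sheaf.IsFlasque ((CohTop.push (TopCat.adj₁.counit.app X)).obj
      ((CohTop.pull (TopCat.adj₁.counit.app X)).obj F)) := by
  let Z := TopCat.discrete.{u}.obj ((forget TopCat.{u}).obj X)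
  let π := TopCat.adj₁.counit.app X
  haveI : DiscreteTopology Z := ⟨rfl⟩
  refine ⟨?_, ?_⟩
  · let adj := TopCat.Sheaf.pullbackPushforwardAdjunction AddCommGrpCat.{u} π
    let i0 : (CohTop.push π).obj (LCech.godSheaf (id : Z → Z) (fun z => LCech.stalks F (π z))) ≅
        LCech.godSheaf (id : X → X) (LCech.stalks F) := ObjectProperty.isoMk _ (Iso.refl _)
    haveI : Mono (LCech.toGod F ≫ i0.inv) := by
      haveI : Mono (LCech.toGod F) := inferInstance
      exact mono_comp _ _
    have h : adj.unit.app F ≫ (CohTop.push π).map ((adj.homEquiv F _).symm (LCech.toGod F ≫ i0.inv)) =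
        LCech.toGod F ≫ i0.inv :=
      (adj.homEquiv_unit _ _ _).symm.trans ((adj.homEquiv F _).apply_symm_apply _)
    exact @mono_of_mono_fac _ _ _ _ _ _ _ _ (mono_comp (LCech.toGod F) i0.inv) h
  · exact ⟨fun {W V} i => (@flasque_discrete Z ⟨rfl⟩ ((CohTop.pull π).obj F)).epi ((Opens.map π).op.map i)⟩

end Groth.Agent.H5Godement
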