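import Mathlib
import Groth.Prelude
universe u
open CategoryTheory TopologicalSpace Opposite
namespace Groth.Agent.H5GrpFlasque
set_option maxHeartbeats 600000

variable {X : TopCat.{u}}

lemma res_res (F : TopCat.Presheaf GrpCat.{u} X) {U V W : Opens X} (h : V ≤ U) (h' : W ≤ V) (x : F.obj (op U)) :
    F.map (homOfLE h').op (F.map (homOfLE h).op x) = F.map (homOfLE (h'.trans h)).op x := by
  rw [← ConcreteCategory.comp_apply, ← F.map_comp]; rfl

lemma res_self (F : TopCat.Presheaf GrpCat.{u} X) {U : Opens X} (h : U ≤ U) (x : F.obj (op U)) :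
    F.map (homOfLE h).op x = x := by
  rw [show (homOfLE h).op = 𝟙 (op U) from rfl, F.map_id]; rfl

lemma nat {F G : TopCat.Presheaf GrpCat.{u} X} (φ : F ⟶ G) {U V : Opens X} (h : V ≤ U) (x : F.obj (op U)) :
    φ.app (op V) (F.map (homOfLE h).op x) = G.map (homOfLE h).op (φ.app (op U) x) :=
  NatTrans.naturality_apply φ _ x

theorem surj_flasque (F G H : TopCat.Presheaf GrpCat.{u} X) (hG : G.IsSheaf) (hH : H.IsSheaf)
    (α : F ⟶ G) (β : G ⟶ H)
    (hex : ∀ (U : Opens X) (g : G.obj (op U)),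
      (β.app (op U)).hom g = 1 ↔ g ∈ Set.range (α.app (op U)).hom)
    (hβ : ∀ (U : Opens X) (s : H.obj (op U)) (x : X), x ∈ U →
      ∃ (V : Opens X) (hV : V ≤ U), x ∈ V ∧ ∃ g : G.obj (op V), (β.app (op V)).hom g = (H.map (homOfLE hV).op).hom s)
    (hfl : ∀ (U V : Opens X) (hUV : V ≤ U), Function.Surjective (F.map (homOfLE hUV).op).hom) :
    (∀ U : Opens X, Function.Surjective (β.app (op U)).hom) ∧
      ((∀ (U V : Opens X) (hUV : V ≤ U), Function.Surjective (G.map (homOfLE hUV).op).hom) →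
        ∀ (U V : Opens X) (hUV : V ≤ U), Function.Surjective (H.map (homOfLE hUV).op).hom) := by
  have part1 : ∀ U : Opens X, Function.Surjective (β.app (op U)) := by
    intro U s
    let Gs : TopCat.Sheaf GrpCat.{u} X := ⟨G, hG⟩
    let Hs : TopCat.Sheaf GrpCat.{u} X := ⟨H, hH⟩
    let P := {p : Σ V : {V : Opens X // V ≤ U}, G.obj (op V.1) // β.app (op p.1.1) p.2 = H.map (homOfLE p.1.2).op s}
    let r : P → P → Prop := fun a b => ∃ h : a.1.1.1 ≤ b.1.1.1, G.map (homOfLE h).op b.1.2 = a.1.2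
    obtain ⟨m, hm⟩ := exists_maximal_of_chains_bounded (r := r) (fun c hc => by
      let W : c → Opens X := fun a => a.1.1.1.1
      have hcmp : TopCat.Presheaf.IsCompatible Gs.obj W (fun a => a.1.1.2) := by
        intro a b
        rcases eq_or_ne a b with rfl | hne
        · rfl
        rcases hc a.2 b.2 (fun e => hne (Subtype.ext e)) with ⟨h, e⟩ | ⟨h, e⟩
        · change G.map (homOfLE (inf_le_left)).op a.1.1.2 = G.map (homOfLE inf_le_right).op b.1.1.2
          rw [← e, res_res]
        · change G.map (homOfLE (inf_le_left)).op a.1.1.2 = G.map (homOfLE inf_le_right).op b.1.1.2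
          rw [← e, res_res]
      obtain ⟨g, hg, -⟩ := Gs.existsUnique_gluing W _ hcmp
      have hle : iSup W ≤ U := iSup_le fun a => a.1.1.1.2
      refine ⟨⟨⟨⟨iSup W, hle⟩, g⟩, ?_⟩, fun a ha => ⟨le_iSup W ⟨a, ha⟩, hg ⟨a, ha⟩⟩⟩
      refine Hs.eq_of_locally_eq' W (iSup W) (fun a => homOfLE (le_iSup W a)) le_rfl _ _ fun a => ?_
      change H.map (homOfLE (le_iSup W a)).op (β.app (op (iSup W)) g) = H.map (homOfLE (le_iSup W a)).op (H.map (homOfLE hle).op s)
      rw [← nat, res_res]
      exact (congrArg (β.app (op (W a))) (hg a)).trans a.1.2)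
      (fun {a b c} hab hbc => ⟨hab.1.trans hbc.1, (res_res G hbc.1 hab.1 _).symm.trans ((congrArg (fun z => G.map (homOfLE hab.1).op z) hbc.2).trans hab.2)⟩)
    obtain ⟨⟨⟨V, hVU⟩, g⟩, hg⟩ := m
    by_cases hUV : U ≤ V
    · refine ⟨G.map (homOfLE hUV).op g, ?_⟩
      have hg' : β.app (op V) g = H.map (homOfLE hVU).op s := hg
      rw [nat, hg', res_res, res_self]
    exfalso
    obtain ⟨x, hxU, hxV⟩ := Set.not_subset.1 hUV
    obtain ⟨W, hWU, hxW, g', hg'⟩ := hβ U s x hxU
    let V₁ := V ⊓ W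
    let k : G.obj (op V₁) := G.map (homOfLE inf_le_left).op g * (G.map (homOfLE inf_le_right).op g')⁻¹
    have hk : (β.app (op V₁)).hom k = 1 := by
      change β.app (op V₁) k = 1
      rw [map_mul, map_inv, nat, nat]
      have e1 : β.app (op V) g = H.map (homOfLE hVU).op s := hg
      have e2 : β.app (op W) g' = H.map (homOfLE hWU).op s := hg'
      rw [e1, e2, res_res, res_res, mul_inv_cancel]
    obtain ⟨f, hf⟩ := (hex V₁ k).1 hk
    obtain ⟨f', hf'⟩ := hfl W V₁ inf_le_right f
    let g'' : G.obj (op W) := α.app (op W) f' * g'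
    have hg'' : β.app (op W) g'' = H.map (homOfLE hWU).op s := by
      have e0 : β.app (op W) (α.app (op W) f') = 1 := (hex W _).2 ⟨f', rfl⟩
      rw [map_mul, e0, one_mul]
      exact hg'
    have hagree : G.map (homOfLE (inf_le_left : V ⊓ W ≤ V)).op g = G.map (homOfLE (inf_le_right : V ⊓ W ≤ W)).op g'' := by
      rw [map_mul, ← nat]
      have e1 : F.map (homOfLE (inf_le_right : V ⊓ W ≤ W)).op f' = f := hf'
      have e2 : α.app (op V₁) f = k := hf
      rw [e1, e2]
      exact (inv_mul_cancel_right _ _).symm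
    let T : Bool → Opens X := fun b => bif b then V else W
    let sf : ∀ b, ToType (Gs.obj.obj (op (T b))) := fun b => match b with | true => g | false => g''
    have hcmp : TopCat.Presheaf.IsCompatible Gs.obj T sf := by
      rintro (_ | _) (_ | _)
      · rfl
      · change G.map (homOfLE (inf_le_left : W ⊓ V ≤ W)).op g'' = G.map (homOfLE (inf_le_right : W ⊓ V ≤ V)).op g
        have hle : W ⊓ V ≤ V ⊓ W := le_of_eq (inf_comm _ _)
        have := congrArg (fun z => G.map (homOfLE hle).op z) hagree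
        simp only [res_res] at this
        exact this.symm
      · exact hagree
      · rfl
    obtain ⟨gg, hgg, -⟩ := Gs.existsUnique_gluing T sf hcmp
    have hle : iSup T ≤ U := iSup_le (fun b => by cases b; exacts [hWU, hVU])
    have hbig : β.app (op (iSup T)) gg = H.map (homOfLE hle).op s := by
      refine Hs.eq_of_locally_eq' T (iSup T) (fun b => homOfLE (le_iSup T b)) le_rfl _ _ fun b => ?_
      change H.map (homOfLE (le_iSup T b)).op (β.app (op (iSup T)) gg) = H.map (homOfLE (le_iSup T b)).op (H.map (homOfLE hle).op s)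
      rw [← nat, res_res]
      refine (congrArg (β.app (op (T b))) (hgg b)).trans ?_
      cases b
      · exact hg''
      · exact hg
    obtain ⟨h, -⟩ := hm ⟨⟨⟨iSup T, hle⟩, gg⟩, hbig⟩ ⟨le_iSup T true, hgg true⟩
    exact hxV (h ((le_iSup T false) hxW))
  refine ⟨part1, fun hG' U V hUV t => ?_⟩
  obtain ⟨g, rfl⟩ := part1 V t
  obtain ⟨g', rfl⟩ := hG' U V hUV g
  exact ⟨β.app (op U) g', (nat β hUV g').symm⟩

end Groth.Agent.H5GrpFlasque
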