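import Groth.Agent.Lib.H5SiteCoh
import Mathlib.CategoryTheory.Sites.CartesianMonoidal
import Mathlib.CategoryTheory.Monoidal.Cartesian.CommGrp_
import Mathlib.CategoryTheory.Monoidal.Types.Basic
import Mathlib.CategoryTheory.Sites.Pullback
import Mathlib.Algebra.Homology.ShortComplex.ExactFunctor

universe u

namespace Groth.Agent.H5GrpSheaf
open CategoryTheory Limits Opposite MonoidalCategory CartesianMonoidalCategory MonObj
open scoped MonObj
open Groth.Agent CategoryTheory.Abelian

variable {C : Type u} [SmallCategory C] (J : GrothendieckTopology C)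

noncomputable local instance (priority := 10000) : MonoidalCategory (Sheaf J (Type u)) :=
  SemiCartesianMonoidalCategory.toMonoidalCategory

noncomputable local instance :
    @BraidedCategory (Sheaf J (Type u)) _ SemiCartesianMonoidalCategory.toMonoidalCategory := .ofCartesianMonoidalCategory

/-- underlying sheaf of sets -/
noncomputable abbrev T : Sheaf J AddCommGrpCat.{u} ⥤ Sheaf J (Type u) := sheafCompose J (forget AddCommGrpCat.{u})

variable {J}

/-- addition on sections -/
def addF (G : Sheaf J AddCommGrpCat.{u}) (V : Cᵒᵖ) (p : G.obj.obj V × G.obj.obj V) : G.obj.obj V := p.1 + p.2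

/-- negation on sections -/
def negF (G : Sheaf J AddCommGrpCat.{u}) (V : Cᵒᵖ) (p : G.obj.obj V) : G.obj.obj V := -p

/-- addition -/
noncomputable def mulT (G : Sheaf J AddCommGrpCat.{u}) : (T J).obj G ⊗ (T J).obj G ⟶ (T J).obj G :=
  ⟨{ app := fun V => TypeCat.ofHom (addF G V)
     naturality := fun V W a => by
       ext p
       have h := (G.obj.map a).hom.map_add p.1 p.2; exact h.symm }⟩

/-- zero -/
noncomputable def oneT (G : Sheaf J AddCommGrpCat.{u}) : 𝟙_ (Sheaf J (Type u)) ⟶ (T J).obj G :=
  ⟨{ app := fun V => TypeCat.ofHom fun _ => (0 : G.obj.obj V)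
     naturality := fun V W a => by
       ext p
       have h := (G.obj.map a).hom.map_zero; exact h.symm }⟩

/-- negation -/
noncomputable def invT (G : Sheaf J AddCommGrpCat.{u}) : (T J).obj G ⟶ (T J).obj G :=
  ⟨{ app := fun V => TypeCat.ofHom (negF G V)
     naturality := fun V W a => by
       ext p
       have h := (G.obj.map a).hom.map_neg p; exact h.symm }⟩

noncomputable instance grpT (G : Sheaf J AddCommGrpCat.{u}) : GrpObj ((T J).obj G) where
  one := oneT G
  mul := mulT G
  inv := invT G
  one_mul := by ext V p; exact @zero_add (G.obj.obj V) _ p.2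
  mul_one := by ext V p; exact @add_zero (G.obj.obj V) _ p.1
  mul_assoc := by ext V p; exact @add_assoc (G.obj.obj V) _ p.1.1 p.1.2 p.2
  left_inv := by ext V p; exact @neg_add_cancel (G.obj.obj V) _ p
  right_inv := by ext V p; exact @add_neg_cancel (G.obj.obj V) _ p

instance commT (G : Sheaf J AddCommGrpCat.{u}) : IsCommMonObj ((T J).obj G) where
  mul_comm := by ext V p; exact @add_comm (G.obj.obj V) _ p.2 p.1

instance isMonHom_T {G H : Sheaf J AddCommGrpCat.{u}} (f : G ⟶ H) : IsMonHom ((T J).map f) where
  one_hom := by ext V p; have h := (f.hom.app V).hom.map_zero; exact h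
  mul_hom := by ext V p; have h := (f.hom.app V).hom.map_add p.1 p.2; exact h

variable (J)

/-- sheaves of groups as group objects -/
noncomputable def Φ : Sheaf J AddCommGrpCat.{u} ⥤ CommGrp (Sheaf J (Type u)) where
  obj G := { X := (T J).obj G }
  map f := InducedCategory.homMk (Grp.homMk' ⟨(T J).map f⟩)
  map_id _ := by ext; rfl
  map_comp _ _ := by ext; rfl

instance : (Φ J).Faithful where
  map_injective {G H} f g h := (T J).map_injective (congrArg (fun z => z.hom.hom.hom) h)

instance : (Φ J).Full where
  map_surjective {G H} φ := by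
    let ψ : (T J).obj G ⟶ (T J).obj H := φ.hom.hom.hom
    have hψ : IsMonHom ψ := φ.hom.hom.isMonHom_hom
    refine ⟨⟨{ app := fun V =>
                 AddCommGrpCat.ofHom (AddMonoidHom.mk' (fun (x : G.obj.obj V) => (ψ.hom.app V x : H.obj.obj V))
                   fun x y => ?_)
               naturality := fun V W a => ?_ }⟩, ?_⟩
    · exact ConcreteCategory.congr_hom (congr_app (congrArg (InducedCategory.Hom.hom) hψ.mul_hom) V) ((x, y) : G.obj.obj V × G.obj.obj V)
    · ext x
      exact ConcreteCategory.congr_hom (ψ.hom.naturality a) x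
    · ext : 3
      rfl

variable {J}

/-- the group structure on sections of a group object -/
noncomputable abbrev grpSections (M : CommGrp (Sheaf J (Type u))) (V : Cᵒᵖ) : AddCommGroup (M.X.obj.obj V) where
  add x y := μ[M.X].hom.app V ((x, y) : M.X.obj.obj V × M.X.obj.obj V)
  zero := η[M.X].hom.app V PUnit.unit
  neg x := ι[M.X].hom.app V x
  add_assoc x y z := ConcreteCategory.congr_hom (congr_app (congrArg (InducedCategory.Hom.hom) (MonObj.mul_assoc M.X)) V) (((x, y), z) : (M.X.obj.obj V × M.X.obj.obj V) × M.X.obj.obj V)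
  zero_add x := ConcreteCategory.congr_hom (congr_app (congrArg (InducedCategory.Hom.hom) (MonObj.one_mul M.X)) V) ((PUnit.unit, x) : PUnit.{u+1} × M.X.obj.obj V)
  add_zero x := ConcreteCategory.congr_hom (congr_app (congrArg (InducedCategory.Hom.hom) (MonObj.mul_one M.X)) V) ((x, PUnit.unit) : M.X.obj.obj V × PUnit.{u+1})
  add_comm x y := ConcreteCategory.congr_hom (congr_app (congrArg (InducedCategory.Hom.hom) (IsCommMonObj.mul_comm M.X)) V) ((y, x) : M.X.obj.obj V × M.X.obj.obj V)
  neg_add_cancel x := ConcreteCategory.congr_hom (congr_app (congrArg (InducedCategory.Hom.hom) (GrpObj.left_inv M.X)) V) x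
  nsmul := letI : Zero (M.X.obj.obj V) := ⟨η[M.X].hom.app V PUnit.unit⟩
    letI : Add (M.X.obj.obj V) := ⟨fun x y => μ[M.X].hom.app V ((x, y) : M.X.obj.obj V × M.X.obj.obj V)⟩
    nsmulRec
  zsmul := letI : Zero (M.X.obj.obj V) := ⟨η[M.X].hom.app V PUnit.unit⟩
    letI : Add (M.X.obj.obj V) := ⟨fun x y => μ[M.X].hom.app V ((x, y) : M.X.obj.obj V × M.X.obj.obj V)⟩
    letI : Neg (M.X.obj.obj V) := ⟨fun x => ι[M.X].hom.app V x⟩
    zsmulRec

/-- the presheaf of groups of a group object -/
noncomputable def unΦ (M : CommGrp (Sheaf J (Type u))) : Cᵒᵖ ⥤ AddCommGrpCat.{u} where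
  obj V := @AddCommGrpCat.of (M.X.obj.obj V) (grpSections M V)
  map {V W} a := @AddCommGrpCat.ofHom (M.X.obj.obj V) (M.X.obj.obj W) (grpSections M V) (grpSections M W)
    (letI := grpSections M V; letI := grpSections M W
     AddMonoidHom.mk' (fun x => M.X.obj.map a x) fun x y =>
      (ConcreteCategory.congr_hom (μ[M.X].hom.naturality a) ((x, y) : M.X.obj.obj V × M.X.obj.obj V)).symm)
  map_id V := ConcreteCategory.hom_ext _ _ fun x => ConcreteCategory.congr_hom (M.X.obj.map_id V) x
  map_comp a b := ConcreteCategory.hom_ext _ _ fun x => ConcreteCategory.congr_hom (M.X.obj.map_comp a b) x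

instance : (Φ J).EssSurj where
  mem_essImage M := by
    have h : Presheaf.IsSheaf J (unΦ M) :=
      (Presheaf.isSheaf_iff_isSheaf_forget J _ (forget AddCommGrpCat.{u})).2
        (Presheaf.isSheaf_of_iso_iff (NatIso.ofComponents (fun V => Iso.refl _) (fun _ => rfl)) |>.1 M.X.property)
    let i : ((Φ J).obj ⟨unΦ M, h⟩).X ≅ M.X :=
      ObjectProperty.isoMk _ (NatIso.ofComponents (fun V => Iso.refl _) (fun _ => rfl))
    exact ⟨⟨unΦ M, h⟩, ⟨CommGrp.mkIso i (by ext V p; rfl) (by ext V p; rfl)⟩⟩

instance : (Φ J).IsEquivalence where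

variable {D : Type u} [SmallCategory D] (K : GrothendieckTopology D) (u : D ⥤ C) [u.IsContinuous K J]

omit [u.IsContinuous K J] in
theorem mono_T {G H : Sheaf K AddCommGrpCat.{u}} (h : G ⟶ H) [Mono h] : Mono ((T K).map h) := by
  refine (sheafToPresheaf K (Type u)).mono_of_mono_map ?_
  have : ∀ V, Mono (h.hom.app V) := fun V =>
    (NatTrans.mono_iff_mono_app _).1 (inferInstanceAs (Mono ((sheafToPresheaf K AddCommGrpCat.{u}).map h))) V
  exact (NatTrans.mono_iff_mono_app _).2 fun V => inferInstanceAs (Mono ((forget AddCommGrpCat.{u}).map (h.hom.app V)))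

/-- the pullback of abelian sheaves preserves monomorphisms -/
theorem preservesMono_pullback [PreservesFiniteLimits (u.sheafPullback (Type u) K J)] :
    (u.sheafPullback AddCommGrpCat.{u} K J).PreservesMonomorphisms := by
  let L := u.sheafPullback (Type u) K J
  let P := u.sheafPushforwardContinuous (Type u) K J
  let adj : L ⊣ P := u.sheafAdjunctionContinuous (Type u) K J
  have : PreservesLimitsOfSize.{0, 0} P := adj.rightAdjoint_preservesLimits
  let _ : L.Braided := Functor.Braided.ofChosenFiniteProducts L
  let _ : P.Braided := Functor.Braided.ofChosenFiniteProducts P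
  let pushA := u.sheafPushforwardContinuous AddCommGrpCat.{u} K J
  let e₁ : Φ J ⋙ P.mapCommGrp ≅ pushA ⋙ Φ K :=
    NatIso.ofComponents (fun G => CommGrp.mkIso (ObjectProperty.isoMk _ (NatIso.ofComponents (fun V => Iso.refl _) (fun _ => rfl)))
      (by ext V p; rfl) (by
        ext V p
        refine congrArg (addF G (op (u.obj V.unop))) (Prod.ext ?_ ?_)
        · exact (ConcreteCategory.congr_hom (congr_app (congrArg InducedCategory.Hom.hom (Functor.Monoidal.μ_fst P ((T J).obj G) ((T J).obj G))) V) p)
        · exact (ConcreteCategory.congr_hom (congr_app (congrArg InducedCategory.Hom.hom (Functor.Monoidal.μ_snd P ((T J).obj G) ((T J).obj G))) V) p)))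
      (fun f => by ext : 5; rfl)
  let EJ := (Φ J).asEquivalence
  let EK := (Φ K).asEquivalence
  let adj' := (EK.toAdjunction.comp adj.mapCommGrp).comp EJ.symm.toAdjunction
  let e₂ : EJ.functor ⋙ P.mapCommGrp ⋙ EK.inverse ≅ pushA :=
    (Functor.associator _ _ _).symm ≪≫ Functor.isoWhiskerRight e₁ EK.inverse ≪≫ Functor.associator _ _ _ ≪≫
      Functor.isoWhiskerLeft pushA EK.unitIso.symm ≪≫ pushA.rightUnitor
  let adj'' : (EK.functor ⋙ L.mapCommGrp) ⋙ EJ.inverse ⊣ pushA := adj'.ofNatIsoRight e₂
  let e₃ := adj''.leftAdjointUniq (u.sheafAdjunctionContinuous AddCommGrpCat.{u} K J)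
  have : L.mapCommGrp.PreservesMonomorphisms := ⟨fun {M N} f hf => by
    let F := CommGrp.forget (Sheaf K (Type u))
    have hF : F.PreservesMonomorphisms := ⟨fun {A B} g hg => by
      let EK' := EK.inverse ⋙ T K
      have : Mono ((T K).map (EK.inverse.map g)) := mono_T K (EK.inverse.map g)
      haveI : Mono ((EK.inverse ⋙ T K).map g) := this
      have e : EK.inverse ⋙ T K ≅ F :=
        Functor.isoWhiskerLeft EK.inverse (Iso.refl (Φ K ⋙ F) : T K ≅ Φ K ⋙ F) ≪≫
          (Functor.associator _ _ _).symm ≪≫ Functor.isoWhiskerRight EK.counitIso F ≪≫ F.leftUnitor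
      rw [← NatIso.naturality_1 e g]
      exact inferInstance⟩
    refine (CommGrp.forget (Sheaf J (Type u))).mono_of_mono_map ?_
    exact inferInstanceAs (Mono (L.map (F.map f)))⟩
  exact Functor.PreservesMonomorphisms.of_iso e₃

/-- the pullback of abelian sheaves is exact -/
theorem preservesFiniteLimits_pullback [PreservesFiniteLimits (u.sheafPullback (Type u) K J)] :
    PreservesFiniteLimits (u.sheafPullback AddCommGrpCat.{u} K J) := by
  have adj := u.sheafAdjunctionContinuous AddCommGrpCat.{u} K J
  have := preservesMono_pullback (J := J) K u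
  have := adj.leftAdjoint_preservesColimits
  have : (u.sheafPushforwardContinuous AddCommGrpCat.{u} K J).Additive := ⟨fun {X Y f g} => rfl⟩
  have := adj.left_adjoint_additive
  have := Functor.preservesHomology_of_preservesMonos_and_cokernels (u.sheafPullback AddCommGrpCat.{u} K J)
  exact Functor.preservesFiniteLimits_of_preservesHomology _

/-- one step of dimension shifting -/
theorem acyclic_push_aux (adj : u.sheafPullback AddCommGrpCat.{u} K J ⊣ CohSite.push J K u)
    [PreservesFiniteLimits (u.sheafPullback AddCommGrpCat.{u} K J)]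
    [PreservesFiniteLimits (CohSite.push J K u)]
    (F : Sheaf J AddCommGrpCat.{u}) (hF : ∀ (U : C) (q : ℕ), Subsingleton (CohSite.HU F (q + 1) U)) (V : D) :
    Subsingleton (CohSite.HU ((CohSite.push J K u).obj F) 1 V) ∧
    ((H5SiteCoh.injSeq F).map (CohSite.push J K u)).ShortExact ∧
    Injective ((H5SiteCoh.injSeq F).map (CohSite.push J K u)).X₂ ∧
    ∀ (U : C) (q : ℕ), Subsingleton (CohSite.HU (H5SiteCoh.injSeq F).X₃ (q + 1) U) := by
  let S := H5SiteCoh.injSeq F
  have hS := H5SiteCoh.injSeq_shortExact F
  have hsurj : ∀ U : C, Function.Surjective (S.g.hom.app (op U)) := fun U =>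
    (H5SiteCoh.surj_fU S.g).1 (H5SiteCoh.acyc_injective_middle S hS (fun n => hF U n) inferInstance).2
  have hI : Injective (S.map (CohSite.push J K u)).X₂ :=
    Injective.injective_of_adjoint adj S.X₂
  have hep : Epi ((CohSite.push J K u).map S.g) := by
    have : Epi ((CohSite.push J K u).map S.g).hom := by
      rw [NatTrans.epi_iff_epi_app]
      intro W
      rw [AddCommGrpCat.epi_iff_surjective]
      exact hsurj (u.obj W.unop)
    exact (sheafToPresheaf K AddCommGrpCat.{u}).epi_of_epi_map this
  have hS' : (S.map (CohSite.push J K u)).ShortExact := by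
    have := hS.mono_f
    exact ShortComplex.ShortExact.mk' (hS.exact.map_of_mono_of_preservesKernel _ this inferInstance)
      (inferInstanceAs (Mono ((CohSite.push J K u).map S.f))) hep
  have := hI
  refine ⟨?_, hS', hI, fun U q => H5SiteCoh.acyc_quotient (C := Sheaf J AddCommGrpCat.{u}) (hF U) q⟩
  have : Subsingleton (Ext.{u} (H5SiteCoh.fU K V) (S.map (CohSite.push J K u)).X₂ 1) :=
    H5SiteCoh.subsingleton_ext_injective _ _ 0
  exact H5SiteCoh.subsingleton_one (Z := H5SiteCoh.fU K V) hS'
    ((H5SiteCoh.surj_fU _).2 (hsurj (u.obj V)))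

/-- if all objects upstairs are acyclic, so are all objects downstairs for the direct image -/
theorem acyclic_push [PreservesFiniteLimits (u.sheafPullback (Type u) K J)] (F : Sheaf J AddCommGrpCat.{u})
    (hF : ∀ (U : C) (q : ℕ), Subsingleton (CohSite.HU F (q + 1) U)) (V : D) (q : ℕ) :
    Subsingleton (CohSite.HU ((CohSite.push J K u).obj F) (q + 1) V) := by
  have := preservesFiniteLimits_pullback (J := J) K u
  have adj := u.sheafAdjunctionContinuous AddCommGrpCat.{u} K J
  have := adj.rightAdjoint_preservesLimits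
  have : PreservesFiniteLimits (CohSite.push J K u) := PreservesLimits.preservesFiniteLimits _
  induction q generalizing F with
  | zero => exact (acyclic_push_aux K u adj F hF V).1
  | succ n ih =>
    obtain ⟨_, hS', hI, hQ⟩ := acyclic_push_aux K u adj F hF V
    have : Subsingleton (Ext.{u} (H5SiteCoh.fU K V) ((H5SiteCoh.injSeq F).map (CohSite.push J K u)).X₃ (n + 1)) := ih _ hQ
    exact H5SiteCoh.step₁ (Z := H5SiteCoh.fU K V) hS' (n + 1)

theorem push_preservesEpi [(u.sheafPushforwardContinuous (Type u) K J).PreservesEpimorphisms] :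
    (u.sheafPushforwardContinuous AddCommGrpCat.{u} K J).PreservesEpimorphisms := ⟨fun {F G} g hg => by
  have h1 : Sheaf.IsLocallySurjective g := (Sheaf.isLocallySurjective_iff_epi' (C := C) (J := J) _ g).2 hg
  have : Sheaf.IsLocallySurjective ((T J).map g) := ⟨fun {U} s => h1.1 s⟩
  have : Epi ((T J).map g) := (Sheaf.isLocallySurjective_iff_epi _).1 this
  have h2 : Sheaf.IsLocallySurjective ((u.sheafPushforwardContinuous (Type u) K J).map ((T J).map g)) :=
    (Sheaf.isLocallySurjective_iff_epi _).2 inferInstance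
  have : Sheaf.IsLocallySurjective ((u.sheafPushforwardContinuous AddCommGrpCat.{u} K J).map g) :=
    ⟨fun {U} s => h2.1 s⟩
  exact (Sheaf.isLocallySurjective_iff_epi' (C := D) (J := K) _ _).1 this⟩

theorem preservesFiniteColimits_push [(u.sheafPushforwardContinuous (Type u) K J).PreservesEpimorphisms] :
    PreservesFiniteColimits (u.sheafPushforwardContinuous AddCommGrpCat.{u} K J) := by
  have := push_preservesEpi (J := J) K u
  have := (u.sheafAdjunctionContinuous AddCommGrpCat.{u} K J).rightAdjoint_preservesLimits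
  have : PreservesFiniteLimits (u.sheafPushforwardContinuous AddCommGrpCat.{u} K J) :=
    PreservesLimits.preservesFiniteLimits _
  have : (u.sheafPushforwardContinuous AddCommGrpCat.{u} K J).Additive := ⟨fun {X Y f g} => rfl⟩
  have := Functor.preservesHomology_of_preservesEpis_and_kernels (u.sheafPushforwardContinuous AddCommGrpCat.{u} K J)
  exact Functor.preservesFiniteColimits_of_preservesHomology _

end Groth.Agent.H5GrpSheaf
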