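import Mathlib

open CategoryTheory CategoryTheory.Limits CategoryTheory.Pretriangulated

namespace Groth.Agent.H5HBdd

universe v u v' u'

theorem bdd {D : Type u} [Category.{v} D] [Preadditive D] [HasZeroObject D] [HasShift D ℤ]
    [∀ n : ℤ, (shiftFunctor D n).Additive] [Pretriangulated D]
    {A : Type u'} [Category.{v'} A] [Abelian A] (H : D ⥤ A) [H.IsHomological]
    (S : Set ℤ → Prop) (hmono : ∀ s t, s ⊆ t → S s → S t) (huniv : S Set.univ)
    (hinter : ∀ s t, S s → S t → S (s ∩ t)) (hsh : ∀ s (a : ℤ), S s → S {n | a + n ∈ s}) :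
    let P : ObjectProperty D := fun X => S {n : ℤ | IsZero (H.obj ((shiftFunctor D n).obj X))}
    P.IsTriangulated ∧ P.IsClosedUnderIsomorphisms ∧ (∀ X Y : D, P (X ⊞ Y) → P X ∧ P Y) := by
  intro P
  have hiso : P.IsClosedUnderIsomorphisms := ⟨fun {X Y} e h => hmono _ _
    (fun n (hn : IsZero _) => hn.of_iso (H.mapIso ((shiftFunctor D n).mapIso e)).symm) h⟩
  refine ⟨?_, hiso, fun X Y h => ⟨hmono _ _ (fun n (hn : IsZero _) => ?_) h, hmono _ _ (fun n (hn : IsZero _) => ?_) h⟩⟩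
  · exact
      { exists_zero := ⟨_, isZero_zero D, hmono Set.univ _
          (fun n _ => H.map_isZero ((shiftFunctor D n).map_isZero (isZero_zero D))) huniv⟩
        isStableUnderShiftBy := fun a => ⟨fun X hX => hmono _ _
          (fun n (hn : IsZero _) => hn.of_iso (H.mapIso (((shiftFunctorAdd D a n).app X).symm))) (hsh _ a hX)⟩
        ext₂' := fun T hT h1 h3 => ObjectProperty.le_isoClosure _ _ (hmono _ _
          (fun n (hn : IsZero _ ∧ IsZero _) =>
            (H.map_distinguished_exact _ (Triangle.shift_distinguished T hT n)).isZero_of_both_zeros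
              (hn.1.eq_of_src _ _) (hn.2.eq_of_tgt _ _)) (hinter _ _ h1 h3)) }
  · rw [Set.mem_setOf, IsZero.iff_id_eq_zero, ← H.map_id, ← CategoryTheory.Functor.map_id, ← biprod.inl_fst (X := X) (Y := Y),
      Functor.map_comp, H.map_comp, hn.eq_of_src (H.map ((shiftFunctor D n).map biprod.fst)) 0, comp_zero]
  · rw [Set.mem_setOf, IsZero.iff_id_eq_zero, ← H.map_id, ← CategoryTheory.Functor.map_id, ← biprod.inr_snd (X := X) (Y := Y),
      Functor.map_comp, H.map_comp, hn.eq_of_src (H.map ((shiftFunctor D n).map biprod.snd)) 0, comp_zero]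

theorem bdd_below {D : Type u} [Category.{v} D] [Preadditive D] [HasZeroObject D] [HasShift D ℤ]
    [∀ n : ℤ, (shiftFunctor D n).Additive] [Pretriangulated D]
    {A : Type u'} [Category.{v'} A] [Abelian A] (H : D ⥤ A) [H.IsHomological] :
    let P : ObjectProperty D := fun X => ∃ N : ℤ, ∀ n : ℤ, n ≤ N → IsZero (H.obj ((shiftFunctor D n).obj X))
    P.IsTriangulated ∧ P.IsClosedUnderIsomorphisms ∧ (∀ X Y : D, P (X ⊞ Y) → P X ∧ P Y) :=
  bdd H (fun s => ∃ N : ℤ, ∀ n : ℤ, n ≤ N → n ∈ s) (fun s t hst ⟨N, h⟩ => ⟨N, fun n hn => hst (h n hn)⟩)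
    ⟨0, fun _ _ => trivial⟩
    (fun s t ⟨N, h⟩ ⟨M, g⟩ => ⟨min N M, fun n hn => ⟨h n (by omega), g n (by omega)⟩⟩)
    (fun s a ⟨N, h⟩ => ⟨N - a, fun n hn => h _ (by omega)⟩)

theorem bdd_above {D : Type u} [Category.{v} D] [Preadditive D] [HasZeroObject D] [HasShift D ℤ]
    [∀ n : ℤ, (shiftFunctor D n).Additive] [Pretriangulated D]
    {A : Type u'} [Category.{v'} A] [Abelian A] (H : D ⥤ A) [H.IsHomological] :
    let P : ObjectProperty D := fun X => ∃ N : ℤ, ∀ n : ℤ, N ≤ n → IsZero (H.obj ((shiftFunctor D n).obj X))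
    P.IsTriangulated ∧ P.IsClosedUnderIsomorphisms ∧ (∀ X Y : D, P (X ⊞ Y) → P X ∧ P Y) :=
  bdd H (fun s => ∃ N : ℤ, ∀ n : ℤ, N ≤ n → n ∈ s) (fun s t hst ⟨N, h⟩ => ⟨N, fun n hn => hst (h n hn)⟩)
    ⟨0, fun _ _ => trivial⟩
    (fun s t ⟨N, h⟩ ⟨M, g⟩ => ⟨max N M, fun n hn => ⟨h n (by omega), g n (by omega)⟩⟩)
    (fun s a ⟨N, h⟩ => ⟨N - a, fun n hn => h _ (by omega)⟩)

end Groth.Agent.H5HBdd
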