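import Groth.Agent.Lib.H5SpObj
import Mathlib.CategoryTheory.Triangulated.TStructure.SpectralObject
import Mathlib.CategoryTheory.Triangulated.HomologicalFunctor
import Mathlib.CategoryTheory.Shift.ShiftSequence

universe v u v' u'

namespace Groth.Agent.H5HomolSS

open CategoryTheory Category Limits ComposableArrows Pretriangulated Triangulated

variable {D : Type u'} [Category.{v'} D] [Preadditive D] [HasZeroObject D] [HasShift D ℤ]
  [∀ (n : ℤ), (shiftFunctor D n).Additive] [Pretriangulated D]
  {C : Type u} [Category.{v} C] [Abelian C]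

/-- a homological functor sends a triangulated spectral object to an abelian one -/
noncomputable def mapHomological {ι : Type*} [Category ι] (Z : Triangulated.SpectralObject D ι)
    (G : D ⥤ C) [G.IsHomological] [G.ShiftSequence ℤ] : Abelian.SpectralObject C ι where
  H n := Z.ω₁ ⋙ G.shift n
  δ' n₀ n₁ h :=
    { app := fun E => G.homologySequenceδ (Z.ω₂.obj E) n₀ n₁ h
      naturality := fun E E' φ => G.homologySequenceδ_naturality _ _ (Z.ω₂.map φ) n₀ n₁ h }
  exact₁' n₀ n₁ h E :=
    (G.homologySequence_exact₁ _ (Z.ω₂_obj_distinguished E) n₀ n₁ h).exact_toComposableArrows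
  exact₂' n E :=
    (G.homologySequence_exact₂ _ (Z.ω₂_obj_distinguished E) n).exact_toComposableArrows
  exact₃' n₀ n₁ h E :=
    (G.homologySequence_exact₃ _ (Z.ω₂_obj_distinguished E) n₀ n₁ h).exact_toComposableArrows

variable [IsTriangulated D] (t : Triangulated.TStructure D) (G : D ⥤ C) [G.IsHomological] [G.ShiftSequence ℤ]
  (hG : ∀ (Y : D) (m n : ℤ), t.IsGE Y m → n < m → IsZero ((G.shift n).obj Y))

include hG in
/-- spectral sequence `G^{p+q}(gr^q X) ⇒ G^n X` attached to a t-structure -/
theorem exists_spectralSequence (X : D) [t.IsGE X 0] {H : ℤ → C} (e : ∀ n, (G.shift n).obj X ≅ H n) :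
    ∃ (E : E₂CohomologicalSpectralSequence C) (a : SpSeq.Abutment E H),
      (∀ n, a.IsFinite n) ∧ SpSeq.IsBounded E ∧
      (∀ p q : ℤ, p < 0 ∨ q < 0 → IsZero ((E.page 2 le_rfl).X (p, q))) ∧
      ∀ p q : ℤ, Nonempty ((E.page 2 le_rfl).X (p, q) ≅
        (G.shift (p + q)).obj ((t.truncGE q).obj ((t.truncLT (q + 1)).obj X))) := by
  let Y := mapHomological (t.spectralObject X) G
  haveI : Y.IsFirstQuadrant := by
    constructor
    · intro i j hij hj n
      refine (G.shift n).map_isZero ?_
      exact (t.eTruncGE.obj i).map_isZero (t.isZero_eTruncLT_obj_obj X 0 j hj)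
    · intro i j hij n hi
      induction i using WithBotTop.rec with
      | bot => simp at hi
      | coe i => exact hG _ i n (inferInstanceAs (t.IsGE ((t.truncGE i).obj _) i)) (by simpa using hi)
      | top => exact (G.shift n).map_isZero (Functor.zero_obj _)
  obtain ⟨E, a, h1, h2, h3, h4⟩ := Groth.Agent.H5SpObj.exists_spectralSequence Y (H := H) (fun n => e n)
  exact ⟨E, a, h1, h2, h3, h4⟩

end Groth.Agent.H5HomolSS
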