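import Groth.Agent.Lib.H5FilHom

universe v u
namespace Groth.Agent.H5Horseshoe
open CategoryTheory Limits Opposite HomologicalComplex Groth.Agent.H5FilStrict Groth.Agent.H5FilInj Groth.Agent.H5FilHom

variable {A : Type u} [Category.{v} A] [Abelian A]

lemma shortExact_ι (S : ShortComplex (FilD.FilF A))
    (hS : ∀ p : ℤ, (S.map ((FilD.IsFinFil A).ι ⋙ (evaluation ℤᵒᵖ A).obj (op p))).ShortExact) :
    (S.map (FilD.IsFinFil A).ι).ShortExact := by
  haveI : Mono (S.map (FilD.IsFinFil A).ι).f := by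
    haveI : ∀ p, Mono ((S.map (FilD.IsFinFil A).ι).f.app p) := fun p => (hS p.unop).mono_f
    exact NatTrans.mono_of_mono_app _
  haveI : Epi (S.map (FilD.IsFinFil A).ι).g := by
    haveI : ∀ p, Epi ((S.map (FilD.IsFinFil A).ι).g.app p) := fun p => (hS p.unop).epi_g
    exact NatTrans.epi_of_epi_app _
  refine ShortComplex.ShortExact.mk' ?_ inferInstance inferInstance
  rw [ShortComplex.exact_iff_isZero_homology]
  refine Functor.isZero _ fun p => ?_
  exact IsZero.of_iso ((ShortComplex.exact_iff_isZero_homology _).1 (hS p.unop).exact)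
    ((S.map (FilD.IsFinFil A).ι).mapHomologyIso ((evaluation ℤᵒᵖ A).obj p)).symm

theorem horseshoe [EnoughInjectives A] (S : ShortComplex (FilD.FilF A))
    (hS : ∀ p : ℤ, (S.map ((FilD.IsFinFil A).ι ⋙ (evaluation ℤᵒᵖ A).obj (op p))).ShortExact)
    (I : CochainComplex (FilD.FilF A) ℤ) [I.IsStrictlyGE 0] (hI : ∀ n, FilD.IsFilteredInjective (I.X n))
    (a : (single (FilD.FilF A) (ComplexShape.up ℤ) 0).obj S.X₁ ⟶ I)
    (J : CochainComplex (FilD.FilF A) ℤ)
    (c : (single (FilD.FilF A) (ComplexShape.up ℤ) 0).obj S.X₃ ⟶ J) (hc : FilD.IsFilteredQuasiIso c) :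
    ∃ (M : CochainComplex (FilD.FilF A) ℤ) (α : I ⟶ M) (β : M ⟶ J) (b : (single (FilD.FilF A) (ComplexShape.up ℤ) 0).obj S.X₂ ⟶ M),
      (∀ n, ∃ (r : M.X n ⟶ I.X n) (s : J.X n ⟶ M.X n), α.f n ≫ r = 𝟙 _ ∧ s ≫ β.f n = 𝟙 _ ∧ α.f n ≫ β.f n = 0 ∧
        r ≫ α.f n + β.f n ≫ s = 𝟙 _) ∧
      a ≫ α = (single (FilD.FilF A) (ComplexShape.up ℤ) 0).map S.f ≫ b ∧ b ≫ β = (single (FilD.FilF A) (ComplexShape.up ℤ) 0).map S.g ≫ c := by
  have hse := shortExact_ι S hS
  haveI : Mono S.f := (FilD.IsFinFil A).ι.mono_of_mono_map (f := S.f) hse.mono_f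
  haveI : Epi S.g := (FilD.IsFinFil A).ι.epi_of_epi_map (f := S.g) hse.epi_g
  have hstrict : FilD.IsStrict S.f := (isStrict_iff _).2 (strict_f S.f.hom S.g.hom
    (congrArg (fun t => t.hom) S.zero) (fun p W y hy => (hS p).exact.exact_up_to_refinements y hy) S.X₃.property.1)
  let sn := fun X : FilD.FilF A => singleObjXSelf (ComplexShape.up ℤ) 0 X
  let a0 : S.X₁ ⟶ I.X 0 := (sn S.X₁).inv ≫ a.f 0
  let c0 : S.X₃ ⟶ J.X 0 := (sn S.X₃).inv ≫ c.f 0
  have ha0 : a0 ≫ I.d 0 1 = 0 := by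
    have := a.comm 0 1
    simp only [a0, Category.assoc]
    rw [this]
    simp [single_obj_d]
  have hc0 : c0 ≫ J.d 0 1 = 0 := by
    have := c.comm 0 1
    simp only [c0, Category.assoc]
    rw [this]
    simp [single_obj_d]
  obtain ⟨e0, he0⟩ := extend S.f hstrict (hI 0) a0
  obtain ⟨g, hg⟩ : ∃ g : S.X₃ ⟶ I.X 1, S.g ≫ g = e0 ≫ I.d 0 1 := by
    have h : S.f ≫ e0 ≫ I.d 0 1 = 0 := by rw [← Category.assoc, he0, ha0]
    haveI := hse.epi_g
    exact ⟨ObjectProperty.homMk (hse.exact.desc (e0 ≫ I.d 0 1).hom (congrArg (fun t => t.hom) h)),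
      ObjectProperty.hom_ext _ (hse.exact.g_desc _ _)⟩
  have hgd : g ≫ I.d 1 (2) = 0 := by
    rw [← cancel_epi S.g, ← Category.assoc, hg, Category.assoc, I.d_comp_d, comp_zero, comp_zero]
  let I1 : CochainComplex (FilD.FilF A) ℤ := I⟦(1 : ℤ)⟧
  let G : (single (FilD.FilF A) (ComplexShape.up ℤ) 0).obj S.X₃ ⟶ I1 :=
    mkHomFromSingle (K := I1) g (fun k hk => by
      obtain rfl : (1 : ℤ) = k := by simpa using hk
      change g ≫ ((1 : ℤ).negOnePow • I.d 1 (2)) = 0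
      simp [hgd])
  haveI : I1.IsStrictlyGE (-1) := I.isStrictlyGE_shift 0 1 (-1) (by omega)
  obtain ⟨ψ', hψ'⟩ := (bijective_precomp I1 (-1) (fun n => hI _) c hc).2 ((HomotopyCategory.quotient _ _).map G)
  obtain ⟨ψ, rfl⟩ := (HomotopyCategory.quotient _ _).map_surjective ψ'
  simp only [← Functor.map_comp] at hψ'
  have hh := (HomotopyCategory.homotopyOfEq _ _ hψ').comm 0
  generalize (HomotopyCategory.homotopyOfEq _ _ hψ').hom = H at hh
  rw [dNext_eq H (show (ComplexShape.up ℤ).Rel 0 1 by simp), prevD_eq H (show (ComplexShape.up ℤ).Rel (-1) 0 by simp)] at hh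
  let δ : ∀ n, J.X n ⟶ I.X (n + 1) := fun n => - ψ.f n
  have hδ : ∀ n, δ n ≫ I.d (n + 1) (n + 1 + 1) + J.d n (n + 1) ≫ δ (n + 1) = 0 := fun n => by
    have h : δ n ≫ ((1 : ℤ).negOnePow • I.d (n + 1) (n + 1 + 1)) = J.d n (n + 1) ≫ δ (n + 1) := by
      exact (Preadditive.neg_comp _ _).trans ((congrArg Neg.neg (ψ.comm n (n + 1))).trans (Preadditive.comp_neg _ _).symm)
    simp only [Int.negOnePow_one, Units.neg_smul, one_smul, Preadditive.comp_neg] at h
    rw [← h]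
    exact add_neg_cancel _
  obtain ⟨k, hk⟩ : ∃ k : S.X₃ ⟶ I.X 0, c0 ≫ (show J.X 0 ⟶ I.X 1 from δ 0) = k ≫ I.d 0 1 - g := by
    let k : S.X₃ ⟶ I.X 0 := (sn S.X₃).inv ≫ H 0 (-1) ≫ (I.XIsoOfEq (show (-1 : ℤ) + 1 = 0 by omega)).hom
    refine ⟨k, ?_⟩
    have e1 : ((single (FilD.FilF A) (ComplexShape.up ℤ) 0).obj S.X₃).d 0 1 = 0 := single_obj_d _ _ _ _ _
    rw [e1, zero_comp, zero_add, HomologicalComplex.comp_f] at hh
    let ψ0 : J.X 0 ⟶ I.X 1 := ψ.f 0
    let g' : S.X₃ ⟶ I1.X 0 := g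
    have e2 : c0 ≫ ψ.f 0 = (sn S.X₃).inv ≫ H 0 (-1) ≫ I1.d (-1) 0 + g' := by
      change ((sn S.X₃).inv ≫ c.f 0) ≫ ψ.f 0 = _
      rw [Category.assoc, hh, Preadditive.comp_add]
      congr 1
      exact (congrArg (fun t => (sn S.X₃).inv ≫ t) (mkHomFromSingle_f (K := I1) g _)).trans ((sn S.X₃).inv_hom_id_assoc g)
    have e3 : H 0 (-1) ≫ I1.d (-1) 0 = - (H 0 (-1) ≫ (I.XIsoOfEq (show (-1 : ℤ) + 1 = 0 by omega)).hom ≫ I.d 0 1) := by
      change H 0 (-1) ≫ ((1 : ℤ).negOnePow • I.d (-1 + 1) (0 + 1)) = _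
      simp
      exact (Preadditive.comp_neg _ _).trans (congrArg (fun t => - (H 0 (-1) ≫ t)) (Category.id_comp _).symm)
    have e4 : c0 ≫ ψ0 = - (k ≫ I.d 0 1) + g := by
      refine e2.trans (congrArg (fun t => t + g) ?_)
      rw [e3]
      exact (Preadditive.comp_neg _ _).trans (congrArg Neg.neg
        ((Category.assoc _ _ _).trans (congrArg (fun t => (sn S.X₃).inv ≫ t) (Category.assoc _ _ _))).symm)
    change c0 ≫ (-ψ0) = _
    rw [Preadditive.comp_neg, e4]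
    abel
  let e : S.X₂ ⟶ I.X 0 := e0 - S.g ≫ k
  have he : S.f ≫ e = a0 := by simp [e, he0]
  have hed : e ≫ I.d 0 1 + S.g ≫ c0 ≫ (show J.X 0 ⟶ I.X 1 from δ 0) = 0 := by
    rw [hk]
    simp only [e, Preadditive.sub_comp, Preadditive.comp_sub, Category.assoc, hg]
    abel
  let dM : ∀ n, I.X n ⊞ J.X n ⟶ I.X (n + 1) ⊞ J.X (n + 1) := fun n =>
    biprod.desc (I.d n (n + 1) ≫ biprod.inl) (biprod.lift (δ n) (J.d n (n + 1)))
  have hdd : ∀ n, dM n ≫ dM (n + 1) = 0 := fun n => by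
    apply biprod.hom_ext'
    · simp [dM]
    · apply biprod.hom_ext
      · simp [dM, hδ n]
      · simp [dM]
  let M : CochainComplex (FilD.FilF A) ℤ := CochainComplex.of (fun n => I.X n ⊞ J.X n) dM hdd
  have hMd : ∀ n, M.d n (n + 1) = dM n := fun n => CochainComplex.of_d _ dM n
  let α : I ⟶ M :=
    { f := fun n => biprod.inl
      comm' := fun i j hij => by
        obtain rfl : i + 1 = j := hij
        rw [hMd]
        simp [dM] }
  let β : M ⟶ J :=
    { f := fun n => biprod.snd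
      comm' := fun i j hij => by
        obtain rfl : i + 1 = j := hij
        rw [hMd]
        apply biprod.hom_ext' <;> simp [dM] }
  let b : (single (FilD.FilF A) (ComplexShape.up ℤ) 0).obj S.X₂ ⟶ M :=
    mkHomFromSingle (K := M) (biprod.lift e (S.g ≫ c0)) (fun k hk => by
      obtain rfl : (1 : ℤ) = k := by simpa using hk
      rw [show M.d 0 1 = dM 0 from hMd 0]
      apply biprod.hom_ext
      · simpa [dM] using hed
      · simp [dM, hc0])
  refine ⟨M, α, β, b, fun n => ⟨biprod.fst, biprod.inr, biprod.inl_fst, biprod.inr_snd, biprod.inl_snd, biprod.total⟩, ?_, ?_⟩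
  · apply from_single_hom_ext
    rw [HomologicalComplex.comp_f, HomologicalComplex.comp_f]
    change a.f 0 ≫ biprod.inl = ((single _ (ComplexShape.up ℤ) 0).map S.f).f 0 ≫ _
    rw [single_map_f_self, mkHomFromSingle_f]
    simp only [Category.assoc, Iso.inv_hom_id_assoc]
    rw [← Iso.inv_comp_eq]
    apply biprod.hom_ext <;> simp [he, a0, sn]
  · apply from_single_hom_ext
    rw [HomologicalComplex.comp_f, HomologicalComplex.comp_f]
    change _ ≫ biprod.snd = ((single _ (ComplexShape.up ℤ) 0).map S.g).f 0 ≫ _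
    rw [single_map_f_self, mkHomFromSingle_f]
    simp [c0, sn]

end Groth.Agent.H5Horseshoe
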