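import Groth.Prelude.Def_Hyper
import Mathlib.CategoryTheory.Sites.LocallyBijective
import Mathlib.CategoryTheory.Sites.Abelian
import Mathlib.Algebra.Homology.ShortComplex.Ab
import Mathlib.Algebra.Homology.ShortComplex.PreservesHomology
import Mathlib.GroupTheory.FreeAbelianGroup
import Mathlib.Algebra.Category.Grp.Adjunctions
import Mathlib.CategoryTheory.Limits.Types.Coproducts

universe u

namespace Groth.Agent.H5HyperFree
open CategoryTheory Limits Opposite Simplicial
open scoped ZeroObject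
set_option maxHeartbeats 600000

variable {C : Type u} [SmallCategory C] (J : GrothendieckTopology C) (X : SimplicialObject (Cᵒᵖ ⥤ Type u))

/-- sections of a simplicial presheaf -/
abbrev El (n : ℕ) (V : C) : Type u := (X.obj (op (SimplexCategory.mk n))).obj (op V)

/-- restriction -/
def res {n : ℕ} {V W : C} (g : W ⟶ V) (x : El X n V) : El X n W := (X.obj (op (SimplexCategory.mk n))).map g.op x

/-- face -/
def face {n : ℕ} {V : C} (i : Fin (n + 2)) (x : El X (n + 1) V) : El X n V := (X.δ i).app (op V) x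

variable {X}

lemma face_res {n : ℕ} {V W : C} (g : W ⟶ V) (i : Fin (n + 2)) (x : El X (n + 1) V) :
    face X i (res X g x) = res X g (face X i x) :=
  NatTrans.naturality_apply (X.δ i) g.op x

lemma res_res {n : ℕ} {V W W' : C} (g : W ⟶ V) (g' : W' ⟶ W) (x : El X n V) :
    res X g' (res X g x) = res X (g' ≫ g) x := by
  simp [res]

lemma face_face {n : ℕ} {V : C} (i j : Fin (n + 2)) (h : i ≤ j) (x : El X (n + 2) V) :
    face X i (face X j.succ x) = face X j (face X i.castSucc x) :=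
  ConcreteCategory.congr_hom (congr_app (X.δ_comp_δ h) (op V)) x

variable (X)

/-- spheres fill locally -/
structure LFill : Prop where
  vertex : ∀ W : C, ∃ R ∈ J W, ∀ ⦃W' : C⦄ (g : W' ⟶ W), R.arrows g → Nonempty (El X 0 W')
  edge : ∀ (W : C) (a b : El X 0 W), ∃ R ∈ J W, ∀ ⦃W' : C⦄ (g : W' ⟶ W), R.arrows g →
    ∃ y : El X 1 W', face X 1 y = res X g a ∧ face X 0 y = res X g b
  fill : ∀ (n : ℕ) (W : C) (s : Fin (n + 3) → El X (n + 1) W),
    (∀ i j : Fin (n + 2), i ≤ j → face X i (s j.succ) = face X j (s i.castSucc)) →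
      ∃ R ∈ J W, ∀ ⦃W' : C⦄ (g : W' ⟶ W), R.arrows g →
        ∃ y : El X (n + 2) W', ∀ i, face X i y = res X g (s i)

variable {J X}

lemma cover_finset {V : C} {α : Type*} (s : Finset α) (P : α → ∀ ⦃W : C⦄, (W ⟶ V) → Prop)
    (hP : ∀ a ∈ s, ∃ R ∈ J V, ∀ ⦃W : C⦄ (g : W ⟶ V), R.arrows g → P a g) :
    ∃ R ∈ J V, ∀ ⦃W : C⦄ (g : W ⟶ V), R.arrows g → ∀ a ∈ s, P a g := by
  classical
  induction s using Finset.induction_on with
  | empty => exact ⟨⊤, J.top_mem _, fun W g _ a ha => by simp at ha⟩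
  | insert b s _ ih =>
    obtain ⟨R, hR, h⟩ := ih (fun a ha => hP a (Finset.mem_insert_of_mem ha))
    obtain ⟨R', hR', h'⟩ := hP b (Finset.mem_insert_self _ _)
    refine ⟨R' ⊓ R, J.intersection_covering hR' hR, fun W g hg a ha => ?_⟩
    rcases Finset.mem_insert.1 ha with rfl | ha
    · exact h' g hg.1
    · exact h g hg.2 a ha

lemma cover_trans {V : C} (P : ∀ ⦃W : C⦄, (W ⟶ V) → Prop)
    {R : Sieve V} (hR : R ∈ J V) (h : ∀ ⦃W : C⦄ (g : W ⟶ V), R.arrows g →
      ∃ R' ∈ J W, ∀ ⦃W' : C⦄ (g' : W' ⟶ W), R'.arrows g' → P (g' ≫ g)) :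
    ∃ S ∈ J V, ∀ ⦃W : C⦄ (g : W ⟶ V), S.arrows g → P g := by
  choose R' hR' h' using h
  refine ⟨Sieve.bind R.arrows R', J.bind_covering hR hR', fun W g hg => ?_⟩
  obtain ⟨Y, g', f, hf, hg', rfl⟩ := hg
  exact h' f hf g' hg'

lemma nonempty_El {W : C} (v : El X 0 W) (n : ℕ) : Nonempty (El X n W) :=
  ⟨(X.map (SimplexCategory.const (SimplexCategory.mk n) (SimplexCategory.mk 0) 0).op).app (op W) v⟩

variable (hX : LFill J X)
include hX

lemma cone_zero {V : C} (S : Finset (El X 0 V)) :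
    ∃ R ∈ J V, ∀ ⦃W : C⦄ (g : W ⟶ V), R.arrows g → ∃ (h : El X 0 V → El X 1 W) (v : El X 0 W),
      ∀ x ∈ S, face X 0 (h x) = res X g x ∧ face X 1 (h x) = v := by
  obtain ⟨R, hR, hv⟩ := hX.vertex V
  refine cover_trans (fun W g => ∃ (h : El X 0 V → El X 1 W) (v : El X 0 W),
    ∀ x ∈ S, face X 0 (h x) = res X g x ∧ face X 1 (h x) = v) hR fun W g hg => ?_
  obtain ⟨v⟩ := hv g hg
  obtain ⟨R', hR', h'⟩ := cover_finset S (fun x W' g' => ∃ y : El X 1 W', face X 1 y = res X g' v ∧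
    face X 0 y = res X g' (res X g x)) (fun x _ => hX.edge W v (res X g x))
  refine ⟨R', hR', fun W' g' hg' => ?_⟩
  classical
  obtain ⟨y₀⟩ := nonempty_El (res X g' v) 1
  choose y hy1 hy0 using h' g' hg'
  refine ⟨fun x => if hx : x ∈ S then y x hx else y₀, res X g' v, fun x hx => ?_⟩
  dsimp only
  rw [dif_pos hx]
  exact ⟨(hy0 x hx).trans (res_res g g' x), hy1 x hx⟩

/-- one step of the cone -/
lemma cone_step {n : ℕ} {V : C} (S : Finset (El X (n + 1) V)) {W : C} (g : W ⟶ V) (v : El X 0 W)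
    (h : El X n V → El X (n + 1) W)
    (h0 : ∀ x ∈ S, ∀ i, face X 0 (h (face X i x)) = res X g (face X i x))
    (hc : ∀ x ∈ S, ∀ i j : Fin (n + 1), i ≤ j →
      face X i.succ (h (face X j.succ x)) = face X j.succ (h (face X i.castSucc x))) :
    ∃ R ∈ J W, ∀ ⦃W' : C⦄ (g' : W' ⟶ W), R.arrows g' → ∃ k : El X (n + 1) V → El X (n + 2) W',
      ∀ x ∈ S, face X 0 (k x) = res X (g' ≫ g) x ∧ ∀ i, face X i.succ (k x) = res X g' (h (face X i x)) := by
  classical
  obtain ⟨R, hR, hy⟩ := cover_finset S (fun x W' g' => ∃ y : El X (n + 2) W', ∀ i,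
      face X i y = res X g' (Fin.cons (α := fun _ => El X (n + 1) W) (res X g x) (fun i => h (face X i x)) i))
    (fun x hx => hX.fill n W _ fun i j hij => by
      rw [Fin.cons_succ]
      induction i using Fin.cases with
      | zero => rw [Fin.castSucc_zero, Fin.cons_zero, h0 x hx j, face_res]
      | succ i' =>
        induction j using Fin.cases with
        | zero => exact absurd hij (by simp [Fin.le_def])
        | succ j' =>
          rw [← Fin.succ_castSucc, Fin.cons_succ]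
          exact hc x hx i' j' (Fin.succ_le_succ_iff.1 hij))
  refine ⟨R, hR, fun W' g' hg' => ?_⟩
  obtain ⟨y₀⟩ := nonempty_El (res X g' v) (n + 2)
  choose y hy' using hy g' hg'
  refine ⟨fun x => if hx : x ∈ S then y x hx else y₀, fun x hx => ?_⟩
  dsimp only
  rw [dif_pos hx]
  exact ⟨((hy' x hx 0).trans (congrArg (res X g') (Fin.cons_zero _ _))).trans (res_res g g' x),
    fun i => (hy' x hx i.succ).trans (congrArg (res X g') (Fin.cons_succ _ _ i))⟩

lemma cone : ∀ (n : ℕ) {V : C} (S : Finset (El X (n + 1) V)),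
    ∃ R ∈ J V, ∀ ⦃W : C⦄ (g : W ⟶ V), R.arrows g →
      ∃ (h : El X (n + 1) V → El X (n + 2) W) (h' : El X n V → El X (n + 1) W) (_ : El X 0 W),
        ∀ x ∈ S, face X 0 (h x) = res X g x ∧ ∀ i, face X i.succ (h x) = h' (face X i x)
  | 0, V, S => by
    classical
    let S' : Finset (El X 0 V) := S.biUnion fun x => Finset.univ.image fun i => face X i x
    have hm : ∀ x ∈ S, ∀ i, face X i x ∈ S' := fun x hx i =>
      Finset.mem_biUnion.2 ⟨x, hx, Finset.mem_image.2 ⟨i, Finset.mem_univ _, rfl⟩⟩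
    obtain ⟨R, hR, h1⟩ := cone_zero hX S'
    refine cover_trans (fun W g => ∃ (h : El X 1 V → El X 2 W) (h' : El X 0 V → El X 1 W) (_ : El X 0 W),
      ∀ x ∈ S, face X 0 (h x) = res X g x ∧ ∀ i, face X i.succ (h x) = h' (face X i x)) hR fun W g hg => ?_
    obtain ⟨h, v, hh⟩ := h1 g hg
    obtain ⟨R', hR', h2⟩ := cone_step hX S g v h (fun x hx i => (hh _ (hm x hx i)).1) (fun x hx i j _ => by
      rw [show i.succ = 1 from by fin_cases i; rfl, show j.succ = 1 from by fin_cases j; rfl, (hh _ (hm x hx _)).2,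
        (hh _ (hm x hx _)).2])
    refine ⟨R', hR', fun W' g' hg' => ?_⟩
    obtain ⟨k, hk⟩ := h2 g' hg'
    exact ⟨k, fun y => res X g' (h y), res X g' v, hk⟩
  | n + 1, V, S => by
    classical
    let S' : Finset (El X (n + 1) V) := S.biUnion fun x => Finset.univ.image fun i => face X i x
    have hm : ∀ x ∈ S, ∀ i, face X i x ∈ S' := fun x hx i =>
      Finset.mem_biUnion.2 ⟨x, hx, Finset.mem_image.2 ⟨i, Finset.mem_univ _, rfl⟩⟩
    obtain ⟨R, hR, h1⟩ := cone n S'
    refine cover_trans (fun W g => ∃ (h : El X (n + 2) V → El X (n + 3) W) (h' : El X (n + 1) V → El X (n + 2) W)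
      (_ : El X 0 W), ∀ x ∈ S, face X 0 (h x) = res X g x ∧ ∀ i, face X i.succ (h x) = h' (face X i x)) hR
      fun W g hg => ?_
    obtain ⟨h, h', v, hh⟩ := h1 g hg
    obtain ⟨R', hR', h2⟩ := cone_step hX S g v h (fun x hx i => (hh _ (hm x hx i)).1) (fun x hx i j hij => by
      rw [(hh _ (hm x hx _)).2 i, (hh _ (hm x hx _)).2 j, face_face i j hij])
    refine ⟨R', hR', fun W' g' hg' => ?_⟩
    obtain ⟨k, hk⟩ := h2 g' hg'
    exact ⟨k, fun y => res X g' (h y), res X g' v, hk⟩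

omit hX

/-- boundary -/
noncomputable def bd (X : SimplicialObject (Cᵒᵖ ⥤ Type u)) (n : ℕ) (V : C) :
    FreeAbelianGroup (El X (n + 1) V) →+ FreeAbelianGroup (El X n V) :=
  ∑ i : Fin (n + 2), (-1 : ℤ) ^ (i : ℕ) • FreeAbelianGroup.map (face X i)

lemma bd_of (n : ℕ) {V : C} (x : El X (n + 1) V) :
    bd X n V (FreeAbelianGroup.of x) = ∑ i : Fin (n + 2), (-1 : ℤ) ^ (i : ℕ) • FreeAbelianGroup.of (face X i x) := by
  simp [bd, FreeAbelianGroup.map_of_apply]

lemma exists_support {α : Type u} (z : FreeAbelianGroup α) : ∃ S : Finset α, ∀ {B : Type u} [AddCommGroup B]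
    (f f' : FreeAbelianGroup α →+ B), (∀ x ∈ S, f (FreeAbelianGroup.of x) = f' (FreeAbelianGroup.of x)) → f z = f' z := by
  classical
  induction z using FreeAbelianGroup.induction_on with
  | zero => exact ⟨∅, fun f f' _ => by simp⟩
  | of x => exact ⟨{x}, fun f f' h => h x (by simp)⟩
  | neg x hx =>
    obtain ⟨S, hS⟩ := hx
    exact ⟨S, fun f f' h => by rw [map_neg, map_neg, hS f f' h]⟩
  | add x y hx hy =>
    obtain ⟨S, hS⟩ := hx
    obtain ⟨T, hT⟩ := hy
    exact ⟨S ∪ T, fun f f' h => by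
      rw [map_add, map_add, hS f f' fun x hx => h x (Finset.mem_union_left _ hx),
        hT f f' fun x hx => h x (Finset.mem_union_right _ hx)]⟩

include hX

theorem locally_bd {n : ℕ} {V : C} (z : FreeAbelianGroup (El X (n + 1) V)) (hz : bd X n V z = 0) :
    ∃ R ∈ J V, ∀ ⦃W : C⦄ (g : W ⟶ V), R.arrows g →
      ∃ y, bd X (n + 1) W y = FreeAbelianGroup.map (res X g) z := by
  obtain ⟨S, hS⟩ := exists_support z
  obtain ⟨R, hR, hh⟩ := cone hX n S
  refine ⟨R, hR, fun W g hg => ?_⟩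
  obtain ⟨h, h', -, H⟩ := hh g hg
  refine ⟨FreeAbelianGroup.map h z, ?_⟩
  have h1 := hS ((bd X (n + 1) W).comp (FreeAbelianGroup.map h))
    (FreeAbelianGroup.map (res X g) - (FreeAbelianGroup.map h').comp (bd X n V)) (fun x hx => by
      simp only [AddMonoidHom.comp_apply, AddMonoidHom.sub_apply, FreeAbelianGroup.map_of_apply, bd_of, map_sum,
        map_zsmul]
      rw [Fin.sum_univ_succ, (H x hx).1]
      simp only [Fin.val_zero, pow_zero, one_smul, Fin.val_succ, (H x hx).2, pow_succ]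
      simp [sub_eq_add_neg])
  simpa [hz] using h1

theorem locally_bd_zero {V : C} (z : FreeAbelianGroup (El X 0 V))
    (hz : FreeAbelianGroup.lift (fun _ : El X 0 V => ULift.up.{u} (1 : ℤ)) z = 0) :
    ∃ R ∈ J V, ∀ ⦃W : C⦄ (g : W ⟶ V), R.arrows g →
      ∃ y, bd X 0 W y = FreeAbelianGroup.map (res X g) z := by
  obtain ⟨S, hS⟩ := exists_support z
  obtain ⟨R, hR, hh⟩ := cone_zero hX S
  refine ⟨R, hR, fun W g hg => ?_⟩
  obtain ⟨h, v, H⟩ := hh g hg
  refine ⟨FreeAbelianGroup.map h z, ?_⟩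
  have h1 := hS ((bd X 0 W).comp (FreeAbelianGroup.map h))
    (FreeAbelianGroup.map (res X g) - ((zmultiplesHom _ (FreeAbelianGroup.of v)).comp AddEquiv.ulift.toAddMonoidHom).comp
      (FreeAbelianGroup.lift (fun _ : El X 0 V => ULift.up.{u} (1 : ℤ)))) (fun x hx => by
      simp [bd_of, Fin.sum_univ_two, sub_eq_add_neg, FreeAbelianGroup.map_of_apply]
      rw [(H x hx).1, (H x hx).2, show (AddEquiv.ulift (ULift.up.{u} (1 : ℤ))) = (1 : ℤ) from rfl, one_zsmul])
  simpa [hz] using h1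

omit hX

section sheaf

/-- free presheaves -/
noncomputable abbrev Fr : (Cᵒᵖ ⥤ Type u) ⥤ Cᵒᵖ ⥤ AddCommGrpCat.{u} :=
  (Functor.whiskeringRight Cᵒᵖ (Type u) AddCommGrpCat.{u}).obj AddCommGrpCat.free.{u}

/-- free chain complex -/
noncomputable abbrev FC (X : SimplicialObject (Cᵒᵖ ⥤ Type u)) : ChainComplex (Cᵒᵖ ⥤ AddCommGrpCat.{u}) ℕ :=
  AlgebraicTopology.AlternatingFaceMapComplex.obj (((SimplicialObject.whiskering _ _).obj Fr).obj X)

/-- degree -/
noncomputable def deg (X : SimplicialObject (Cᵒᵖ ⥤ Type u)) :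
    (FC X).X 0 ⟶ (Functor.const Cᵒᵖ).obj (AddCommGrpCat.of (ULift.{u} ℤ)) where
  app V := AddCommGrpCat.ofHom (FreeAbelianGroup.lift fun _ : El X 0 V.unop => ULift.up (1 : ℤ))
  naturality {V W} g := by
    apply AddCommGrpCat.hom_ext
    apply FreeAbelianGroup.lift_ext
    intro x
    rfl

lemma FC_d (n : ℕ) (V : C) : ((FC X).d (n + 1) n).app (op V) = AddCommGrpCat.ofHom (bd X n V) := by
  rw [AlgebraicTopology.AlternatingFaceMapComplex.obj_d_eq, NatTrans.app_sum]
  apply AddCommGrpCat.hom_ext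
  apply FreeAbelianGroup.lift_ext
  intro x
  refine Eq.trans ?_ (bd_of n x).symm
  let hA : ∀ A B : AddCommGrpCat.{u}, (A ⟶ B) →+ (A →+ B) := fun A B =>
    { toFun := AddCommGrpCat.Hom.hom, map_zero' := rfl, map_add' := fun _ _ => rfl }
  change hA _ _ (∑ i : Fin (n + 2), _) _ = _
  rw [map_sum, AddMonoidHom.finsetSum_apply]
  refine Finset.sum_congr rfl fun i _ => ?_
  rw [NatTrans.app_zsmul, map_zsmul, AddMonoidHom.smul_apply]
  rfl

lemma d_deg : (FC X).d 1 0 ≫ deg X = 0 := by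
  ext ⟨V⟩ : 2
  rw [NatTrans.comp_app, FC_d]
  apply AddCommGrpCat.hom_ext
  apply FreeAbelianGroup.lift_ext
  intro x
  change FreeAbelianGroup.lift _ (bd X 0 V (FreeAbelianGroup.of x)) = 0
  simp [bd_of, Fin.sum_univ_two]

/-- the homology presheaf of a locally exact complex sheafifies to zero -/
lemma exact_sheafify (S : ShortComplex (Cᵒᵖ ⥤ AddCommGrpCat.{u}))
    (h : ∀ (V : C) (x : S.X₂.obj (op V)), S.g.app (op V) x = 0 →
      ∃ R ∈ J V, ∀ ⦃W : C⦄ (g : W ⟶ V), R.arrows g → ∃ y, S.f.app (op W) y = S.X₂.map g.op x) :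
    (S.map (presheafToSheaf J AddCommGrpCat.{u})).Exact := by
  rw [ShortComplex.exact_iff_isZero_homology]
  refine IsZero.of_iso ?_ (S.mapHomologyIso (presheafToSheaf J AddCommGrpCat.{u}))
  let z : S.homology ⟶ 0 := 0
  have hmem : ∀ {V : C} (a : S.homology.obj (op V)),
      ∃ R ∈ J V, ∀ ⦃W : C⦄ (g : W ⟶ V), R.arrows g → S.homology.map g.op a = 0 := by
    intro V a
    obtain ⟨c, rfl⟩ := (AddCommGrpCat.epi_iff_surjective _).1 (inferInstance : Epi (S.homologyπ.app (op V))) a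
    obtain ⟨R, hR, hy⟩ := h V (S.iCycles.app (op V) c) (ConcreteCategory.congr_hom (congr_app S.iCycles_g (op V)) c)
    refine ⟨R, hR, fun W g hg => ?_⟩
    obtain ⟨y, hy⟩ := hy g hg
    have hc : S.cycles.map g.op c = S.toCycles.app (op W) y := by
      apply (AddCommGrpCat.mono_iff_injective _).1 (inferInstance : Mono (S.iCycles.app (op W)))
      refine (NatTrans.naturality_apply S.iCycles g.op c).trans ?_
      refine hy.symm.trans ?_
      exact (ConcreteCategory.congr_hom (congr_app S.toCycles_i (op W)) y).symm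
    refine (NatTrans.naturality_apply S.homologyπ g.op c).symm.trans ?_
    rw [hc]
    exact ConcreteCategory.congr_hom (congr_app S.toCycles_comp_homologyπ (op W)) y
  have : Presheaf.IsLocallyInjective J z := ⟨fun {V} a b _ => by
    obtain ⟨R, hR, hz⟩ := hmem (V := V.unop) (a - b)
    refine J.superset_covering (fun W g hg => ?_) hR
    exact sub_eq_zero.1 ((map_sub _ a b).symm.trans (hz g hg))⟩
  have : Presheaf.IsLocallySurjective J z := Presheaf.isLocallySurjective_of_surjective J _ fun V b =>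
    ⟨0, ((AddCommGrpCat.subsingleton_of_isZero ((isZero_zero (Cᵒᵖ ⥤ AddCommGrpCat.{u})).obj V)).elim _ _)⟩
  have := (J.W_iff _).1 (J.W_of_isLocallyBijective z)
  exact IsZero.of_iso ((presheafToSheaf J AddCommGrpCat.{u}).map_isZero (isZero_zero _))
    (asIso ((presheafToSheaf J AddCommGrpCat.{u}).map z))

include hX

theorem exactAt_sheafify (n : ℕ) :
    (((presheafToSheaf J AddCommGrpCat.{u}).mapHomologicalComplex _).obj (FC X)).ExactAt (n + 1) := by
  rw [HomologicalComplex.exactAt_iff' _ (n + 2) (n + 1) n (by simp) (by simp)]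
  refine exact_sheafify ((FC X).sc' (n + 2) (n + 1) n) fun V x hx => ?_
  have hx' : bd X n V x = 0 := (ConcreteCategory.congr_hom (FC_d n V) x).symm.trans hx
  obtain ⟨R, hR, hy⟩ := locally_bd hX x hx'
  refine ⟨R, hR, fun W g hg => ?_⟩
  obtain ⟨y, hy⟩ := hy g hg
  exact ⟨y, (ConcreteCategory.congr_hom (FC_d (n + 1) W) y).trans hy⟩

theorem exact_deg :
    ((ShortComplex.mk _ _ (d_deg (X := X))).map (presheafToSheaf J AddCommGrpCat.{u})).Exact := by
  refine exact_sheafify _ fun V x hx => ?_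
  let x' : FreeAbelianGroup (El X 0 V) := x
  have hx' : (FreeAbelianGroup.lift fun _ : El X 0 V => ULift.up.{u} (1 : ℤ)) x' = 0 := hx
  obtain ⟨R, hR, hy⟩ := locally_bd_zero hX x' hx'
  refine ⟨R, hR, fun W g hg => ?_⟩
  obtain ⟨y, hy⟩ := hy g hg
  have hd : ((FC X).d 1 0).app (op W) = AddCommGrpCat.ofHom (bd X 0 W) := FC_d 0 W
  refine ⟨y, ?_⟩
  change ((FC X).d 1 0).app (op W) y = _
  rw [hd]
  exact hy

theorem epi_deg : Epi ((presheafToSheaf J AddCommGrpCat.{u}).map (deg X)) := by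
  have : Presheaf.IsLocallySurjective J (deg X) := ⟨fun {V} b => by
    obtain ⟨R, hR, hv⟩ := hX.vertex V
    refine J.superset_covering (fun W g hg => ?_) hR
    obtain ⟨v⟩ := hv g hg
    refine ⟨b.down • FreeAbelianGroup.of v, ?_⟩
    refine (map_zsmul ((deg X).app (op W)).hom b.down (FreeAbelianGroup.of v)).trans ?_
    apply ULift.ext
    simp [deg]
    change b.down * (ULift.down (FreeAbelianGroup.lift (fun _ : El X 0 W => ULift.up.{u} (1 : ℤ)) (FreeAbelianGroup.of v))) = b.down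
    rw [FreeAbelianGroup.lift_apply_of, mul_one]⟩
  have : Sheaf.IsLocallySurjective ((presheafToSheaf J AddCommGrpCat.{u}).map (deg X)) :=
    (Presheaf.isLocallySurjective_presheafToSheaf_map_iff J (deg X)).2 this
  infer_instance

omit hX

end sheaf

end Groth.Agent.H5HyperFree
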