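import Mathlib.CategoryTheory.Sites.Over
import Mathlib.CategoryTheory.Preadditive.Injective.Preserves
import Mathlib.Algebra.Category.Grp.AB
import Mathlib.Algebra.Category.Grp.Colimits
import Groth.Agent.Lib.H5SiteCoh

universe u
namespace Groth.Agent.H5OverInj
open CategoryTheory Limits Opposite
open Groth.Agent
set_option maxHeartbeats 600000

variable {C : Type u} [SmallCategory C] {X : C} (P : (Over X)ᵒᵖ ⥤ AddCommGrpCat.{u})

/-- summands -/
noncomputable abbrev fib (V : Cᵒᵖ) (g : V.unop ⟶ X) : AddCommGrpCat.{u} := P.obj (op (Over.mk g))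

lemma ι_congr {Y : Over X} {V : Cᵒᵖ} {g g' : V.unop ⟶ X} (h : g = g') (e : Over.mk g ⟶ Y) (e' : Over.mk g' ⟶ Y)
    (hl : e.left = e'.left) : P.map e.op ≫ Sigma.ι (fib P V) g = P.map e'.op ≫ Sigma.ι (fib P V) g' := by
  subst h
  rw [Over.OverMorphism.ext hl]

/-- extension by zero -/
noncomputable def ext0 : Cᵒᵖ ⥤ AddCommGrpCat.{u} where
  obj V := ∐ fib P V
  map {V V'} a := Sigma.desc fun g =>
    P.map (Over.homMk a.unop rfl : Over.mk (a.unop ≫ g) ⟶ Over.mk g).op ≫ Sigma.ι (fib P V') (a.unop ≫ g)
  map_id V := Sigma.hom_ext _ _ fun g => by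
    rw [Sigma.ι_desc, Category.comp_id]
    refine (ι_congr P (Category.id_comp g) _ (𝟙 (Over.mk g)) rfl).trans ?_
    rw [op_id, P.map_id, Category.id_comp]
  map_comp {V V' V''} a b := Sigma.hom_ext _ _ fun g => by
    rw [Sigma.ι_desc, Sigma.ι_desc_assoc, Category.assoc, Sigma.ι_desc, ← P.map_comp_assoc, ← op_comp]
    exact ι_congr P (Category.assoc _ _ _) _ _ rfl

variable {P}

lemma mono_sigma {ι : Type u} {f g : ι → AddCommGrpCat.{u}} (p : ∀ i, f i ⟶ g i) [∀ i, Mono (p i)] :
    Mono (Limits.Sigma.map p) := by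
  haveI : ∀ i : Discrete ι, Mono ((Discrete.natTrans (F := Discrete.functor f) (G := Discrete.functor g) fun i => p i.as).app i) :=
    fun i => inferInstanceAs (Mono (p i.as))
  haveI : Mono (Discrete.natTrans (F := Discrete.functor f) (G := Discrete.functor g) fun i => p i.as) :=
    NatTrans.mono_of_mono_app _
  exact inferInstanceAs (Mono (colim.map (Discrete.natTrans (F := Discrete.functor f) (G := Discrete.functor g) fun i => p i.as)))

/-- functoriality -/
noncomputable def ext0Map {Q : (Over X)ᵒᵖ ⥤ AddCommGrpCat.{u}} (m : P ⟶ Q) : ext0 P ⟶ ext0 Q where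
  app V := Limits.Sigma.map fun g => m.app (op (Over.mk g))
  naturality V V' a := Sigma.hom_ext _ _ fun g => by
    dsimp [ext0]
    simp [Sigma.ι_desc_assoc, Sigma.ι_desc, NatTrans.naturality_assoc]

lemma injective_restrict (I : Cᵒᵖ ⥤ AddCommGrpCat.{u}) [Injective I] : Injective ((Over.forget X).op ⋙ I) where
  factors {A B} f m _ := by
    haveI : Mono (ext0Map m) := by
      haveI : ∀ V, Mono ((ext0Map m).app V) := fun V => by
        haveI : ∀ g : V.unop ⟶ X, Mono (m.app (op (Over.mk g))) := fun g => inferInstance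
        exact mono_sigma (fun g : V.unop ⟶ X => m.app (op (Over.mk g)))
      exact NatTrans.mono_of_mono_app _
    let f' : ext0 A ⟶ I :=
      { app := fun V => Sigma.desc fun g => f.app (op (Over.mk g))
        naturality := fun V V' a => Sigma.hom_ext _ _ fun g => by
          dsimp [ext0]
          rw [Sigma.ι_desc_assoc, Category.assoc, Sigma.ι_desc, Sigma.ι_desc_assoc]
          exact f.naturality (Over.homMk a.unop rfl : Over.mk (a.unop ≫ g) ⟶ Over.mk g).op }
    obtain ⟨h, hh⟩ := Injective.factors f' (ext0Map m)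
    refine ⟨{ app := fun W => Sigma.ι (fib B (op W.unop.left)) W.unop.hom ≫ h.app (op W.unop.left)
              naturality := fun W W' φ => ?_ }, ?_⟩
    · change B.map φ ≫ _ = _ ≫ I.map φ.unop.left.op
      refine Eq.trans ?_ (Category.assoc _ _ _).symm
      refine Eq.trans ?_ (congrArg (fun t => Sigma.ι (fib B (op W.unop.left)) W.unop.hom ≫ t) (h.naturality φ.unop.left.op))
      refine (Category.assoc _ _ _).symm.trans ((congrArg (fun t => t ≫ h.app (op W'.unop.left)) ?_).trans (Category.assoc _ _ _))
      refine Eq.trans ?_ (Sigma.ι_desc (fun g : W.unop.left ⟶ X => B.map (Over.homMk φ.unop.left rfl : Over.mk (φ.unop.left ≫ g) ⟶ Over.mk g).op ≫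
        Sigma.ι (fib B (op W'.unop.left)) (φ.unop.left ≫ g)) W.unop.hom).symm
      exact ι_congr B (Over.w φ.unop).symm φ.unop _ rfl
    · ext W : 2
      refine Eq.trans ?_ ((congrArg (fun t => Sigma.ι (fib A (op W.unop.left)) W.unop.hom ≫ t)
        (congr_app hh (op W.unop.left))).trans (show Sigma.ι (fib A (op W.unop.left)) W.unop.hom ≫ f'.app (op W.unop.left) = f.app W by dsimp [f']; rw [Sigma.ι_desc]; rfl))
      refine ((Category.assoc _ _ _).symm.trans ((congrArg (fun t => t ≫ h.app (op W.unop.left)) ?_).trans (Category.assoc _ _ _)))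
      exact (Limits.Sigma.ι_map (f := fib A (op W.unop.left)) (g := fib B (op W.unop.left)) (fun g => m.app (op (Over.mk g))) W.unop.hom).symm

theorem injective_over {J : GrothendieckTopology C} (I : Sheaf J AddCommGrpCat.{u}) [Injective I] :
    Injective (I.over X) := by
  have : (presheafToSheaf J AddCommGrpCat.{u}).PreservesMonomorphisms := inferInstance
  haveI : Injective I.obj := Injective.injective_of_adjoint (sheafificationAdjunction J AddCommGrpCat.{u}) I
  haveI : Injective ((sheafToPresheaf (J.over X) AddCommGrpCat.{u}).obj (I.over X)) := injective_restrict I.obj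
  exact (sheafToPresheaf (J.over X) AddCommGrpCat.{u}).injective_of_map_injective inferInstance

end Groth.Agent.H5OverInj
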