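import Groth.Agent.Lib.H5HyperSS
import Groth.Agent.Lib.H5OverInj
import Mathlib.CategoryTheory.Sites.Over

universe u

namespace Groth.Agent.H5HyperOver
open CategoryTheory Limits Opposite Simplicial
open CategoryTheory.Abelian (Ext)
open Groth.Agent.H5HyperSS Groth.Agent.H5OverInj
set_option maxHeartbeats 600000

section overX
open H5HyperSite (Hfc sX simp' ofS injS simpMap injS_ext injS_map injS_ofS simp_hom_ext)
variable {C : Type u} [SmallCategory C] {J : GrothendieckTopology C}

lemma isLocallySurjective_of_covering {L M : FormalCoproduct.{u} C} (f : L ⟶ M) (hf : Hyper.IsSRCovering J f) :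
    Presheaf.IsLocallySurjective J (Hfc.map f) where
  imageSieve_mem {W} φ := by
    change Presheaf.imageSieve (Hfc.map f) φ ∈ J W
    rw [← FormalCoproduct.Hom.fromIncl_asSigma φ]
    generalize FormalCoproduct.Hom.asSigma φ = s
    obtain ⟨j, g⟩ := s
    refine J.superset_covering ?_ (J.pullback_stable g (hf j))
    intro W' a ha
    obtain ⟨⟨i, hi⟩, h, e⟩ := (Sieve.mem_ofArrows_iff _ _ _).1 ha
    subst hi
    refine ⟨FormalCoproduct.Hom.fromIncl i h, FormalCoproduct.hom_ext rfl fun _ => ?_⟩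
    refine (Category.comp_id _).trans ?_
    exact ((congrArg (fun t => h ≫ t) (Category.comp_id (f.φ i)).symm).trans e.symm)

section edge
variable {K : SimplicialObject (FormalCoproduct.{u} C)} {W : C}
    (s : Fin 2 → ((FormalCoproduct.incl C).obj W ⟶ K.obj (op (SimplexCategory.mk 0))))

/-- a zero sphere -/
noncomputable def sphere0 :
    (SimplicialObject.truncation 0).obj (simp' W 1) ⟶ (SimplicialObject.truncation 0).obj K where
  app m := ofS W 1 (op m.unop.obj) fun φ =>
    s (φ.toOrderHom 0) ≫ K.map (SimplexCategory.const m.unop.obj (SimplexCategory.mk 0) 0).op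
  naturality m m' θ := by
    refine injS_ext W fun φ => ?_
    change injS W 1 (op m.unop.obj) φ ≫ (simp' W 1).map ((SimplexCategory.Truncated.inclusion 0).op.map θ) ≫ _ =
      injS W 1 (op m.unop.obj) φ ≫ _ ≫ K.map ((SimplexCategory.Truncated.inclusion 0).op.map θ)
    let θ' := ((SimplexCategory.Truncated.inclusion 0).op.map θ).unop
    refine (Category.assoc _ _ _).symm.trans ?_
    refine (congrArg (fun t => t ≫ _) (injS_map W 1 ((SimplexCategory.Truncated.inclusion 0).op.map θ) φ)).trans ?_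
    refine (injS_ofS W _ _).trans ?_
    refine Eq.trans ?_ (Category.assoc _ _ _)
    refine Eq.trans ?_ (congrArg (fun t => t ≫ K.map ((SimplexCategory.Truncated.inclusion 0).op.map θ)) (injS_ofS W _ _).symm)
    refine Eq.trans ?_ (Category.assoc _ _ _).symm
    refine Eq.trans ?_ (congrArg (fun t => s (φ.toOrderHom 0) ≫ t) (K.map_comp _ _))
    refine congrArg₂ (fun a t => a ≫ K.map t) (congrArg s ?_) (Quiver.Hom.unop_inj (by ext; simp))
    change φ.toOrderHom (θ'.toOrderHom 0) = φ.toOrderHom 0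
    refine congrArg φ.toOrderHom (Fin.ext ?_)
    have h1 := (θ'.toOrderHom 0).isLt
    have h2 : m.unop.obj.len ≤ 0 := m.unop.property
    change (θ'.toOrderHom 0).val = 0
    change (θ'.toOrderHom 0).val < m.unop.obj.len + 1 at h1
    omega

theorem exists_edge [∀ (n : ℕ) (F : (SimplexCategory.Truncated n)ᵒᵖ ⥤ FormalCoproduct.{u} C),
      (SimplexCategory.Truncated.inclusion n).op.HasRightKanExtension F]
    (hK : Presheaf.IsLocallySurjective J
      (Hfc.map (((SimplicialObject.coskAdj 0).unit.app K).app (op (SimplexCategory.mk 1))))) :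
    ∃ R ∈ J W, ∀ ⦃W' : C⦄ (g : W' ⟶ W), R.arrows g →
      ∃ y : (FormalCoproduct.incl C).obj W' ⟶ K.obj (op (SimplexCategory.mk 1)),
        ∀ i : Fin 2, y ≫ K.δ i = (FormalCoproduct.incl C).map g ≫ s ((SimplexCategory.δ i).toOrderHom 0) := by
  let adj := SimplicialObject.coskAdj (C := FormalCoproduct.{u} C) 0
  let σ := sphere0 s
  let Φ := adj.homEquiv _ _ σ
  refine ⟨_, hK.imageSieve_mem (U := W) (H5HyperSite.gen W 1 ≫ Φ.app _), fun W' g hg => ?_⟩
  obtain ⟨y, hy⟩ := hg
  refine ⟨y, fun i => ?_⟩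
  let yt : simp' W' 1 ⟶ K :=
    { app := fun m => ofS W' 1 m fun φ => y ≫ K.map φ.op
      naturality := fun m m' θ => by
        refine injS_ext W' fun φ => ?_
        rw [← Category.assoc, injS_map, injS_ofS, ← Category.assoc, injS_ofS, Category.assoc, ← K.map_comp]
        rfl }
  have hg1 : H5HyperSite.gen W' 1 ≫ (simpMap g 1).app _ = (FormalCoproduct.incl C).map g ≫ H5HyperSite.gen W 1 :=
    FormalCoproduct.hom_ext rfl fun _ => (Category.comp_id _).trans ((Category.id_comp _).trans (Category.comp_id _).symm)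
  have h1 : yt ≫ adj.unit.app K = simpMap g 1 ≫ Φ := by
    refine simp_hom_ext W' ?_
    rw [NatTrans.comp_app, NatTrans.comp_app, ← Category.assoc, ← Category.assoc, hg1]
    refine Eq.trans ?_ (Category.assoc _ _ _).symm
    refine Eq.trans ?_ hy
    refine congrArg (fun t => t ≫ (adj.unit.app K).app _) ?_
    exact (injS_ofS W' _ _).trans ((congrArg (fun t => y ≫ t) (K.map_id _)).trans (Category.comp_id _))
  have h2 : (SimplicialObject.truncation 0).map yt =
      (SimplicialObject.truncation 0).map (simpMap g 1) ≫ σ := by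
    apply (adj.homEquiv _ _).injective
    rw [adj.homEquiv_naturality_left, adj.homEquiv_unit]
    exact (adj.unit.naturality yt).symm.trans h1
  let a : (SimplexCategory.Truncated 0)ᵒᵖ := op ⟨SimplexCategory.mk 0, le_refl 0⟩
  have h3 : injS W' 1 (op (SimplexCategory.mk 0)) (SimplexCategory.δ i) ≫ yt.app (op (SimplexCategory.mk 0)) =
      injS W' 1 (op (SimplexCategory.mk 0)) (SimplexCategory.δ i) ≫ (simpMap g 1).app (op (SimplexCategory.mk 0)) ≫ σ.app a :=
    congrArg (fun t => injS W' 1 (op (SimplexCategory.mk 0)) (SimplexCategory.δ i) ≫ t) (congr_app h2 a)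
  have hl : injS W' 1 (op (SimplexCategory.mk 0)) (SimplexCategory.δ i) ≫ yt.app (op (SimplexCategory.mk 0)) = y ≫ K.δ i :=
    injS_ofS W' _ _
  have hr : injS W' 1 (op (SimplexCategory.mk 0)) (SimplexCategory.δ i) ≫ (simpMap g 1).app (op (SimplexCategory.mk 0)) =
      (FormalCoproduct.incl C).map g ≫ injS W 1 (op (SimplexCategory.mk 0)) (SimplexCategory.δ i) :=
    FormalCoproduct.hom_ext rfl fun _ => (Category.comp_id _).trans ((Category.id_comp _).trans (Category.comp_id _).symm)
  refine hl.symm.trans (h3.trans ?_)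
  refine (Category.assoc _ _ _).symm.trans ?_
  refine (congrArg (fun t => t ≫ σ.app a) hr).trans ?_
  refine (Category.assoc _ _ _).trans ?_
  refine congrArg (fun t => (FormalCoproduct.incl C).map g ≫ t) ((injS_ofS W _ _).trans ?_)
  have hc : SimplexCategory.const (SimplexCategory.mk 0) (SimplexCategory.mk 0) 0 = 𝟙 _ := by ext; simp
  refine (congrArg (fun t => s ((SimplexCategory.δ i).toOrderHom 0) ≫ K.map t.op) hc).trans ?_
  exact (congrArg (fun t => s ((SimplexCategory.δ i).toOrderHom 0) ≫ t) (K.map_id _)).trans (Category.comp_id _)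

end edge

variable {X : C} {K : SimplicialObject (FormalCoproduct.{u} (Over X))}
    [∀ (n : ℕ) (F : (SimplexCategory.Truncated n)ᵒᵖ ⥤ FormalCoproduct.{u} (Over X)),
      (SimplexCategory.Truncated.inclusion n).op.HasRightKanExtension F]

theorem lfill_over (hK : Hyper.IsHypercovering J X K) : H5HyperFree.LFill (J.over X) (sX K) where
  vertex W := by
    let R' := (Sieve.ofArrows (fun i => ((K.obj (op (SimplexCategory.mk 0))).obj i).left)
      (fun i => ((K.obj (op (SimplexCategory.mk 0))).obj i).hom)).pullback W.hom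
    refine ⟨(Sieve.overEquiv W).symm R', ?_, fun W' g hg => ?_⟩
    · rw [GrothendieckTopology.mem_over_iff, OrderIso.apply_symm_apply]
      exact J.pullback_stable _ hK.1
    · have hg' : R'.arrows g.left := (Sieve.overEquiv_symm_iff R' g).1 hg
      obtain ⟨i, h, e⟩ := (Sieve.mem_ofArrows_iff _ _ _).1 hg'
      exact ⟨FormalCoproduct.Hom.fromIncl i (Over.homMk h (e.symm.trans (Over.w g)))⟩
  edge W a b := by
    obtain ⟨R, hR, hy⟩ := exists_edge (W := W) ![a, b] (isLocallySurjective_of_covering _ (hK.2 0))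
    refine ⟨R, hR, fun W' g hg => ?_⟩
    obtain ⟨y, hy'⟩ := hy g hg
    exact ⟨y, hy' 1, hy' 0⟩
  fill n W s hs := H5HyperSite.exists_fill (J.over X) s hs (isLocallySurjective_of_covering _ (hK.2 (n + 1)))

theorem resolves_over (hK : Hyper.IsHypercovering J X K) : Resolves (J.over X) K :=
  resolves_of_lfill _ _ (lfill_over hK)

theorem resolution_over (hK : Hyper.IsHypercovering J X K) :
    (∀ i : ℕ, IsZero ((Hyper.freeChainCx (J.over X) K).homology (i + 1))) ∧
    Nonempty ((Hyper.freeChainCx (J.over X) K).homology 0 ≅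
      (presheafToSheaf (J.over X) AddCommGrpCat.{u}).obj
        ((Functor.const (Over X)ᵒᵖ).obj (AddCommGrpCat.free.{u}.obj PUnit.{u + 1}))) := by
  obtain ⟨h1, ⟨e⟩⟩ := resolves_over hK
  exact ⟨h1, ⟨e ≪≫ (constantSheaf (J.over X) AddCommGrpCat.{u}).mapIso
    ((FreeAbelianGroup.uniqueEquiv PUnit.{u + 1}).trans AddEquiv.ulift.symm).toAddCommGrpIso.symm⟩⟩

theorem vanishing_over (hK : Hyper.IsHypercovering J X K) (I : Sheaf J AddCommGrpCat.{u}) [Injective I] (p : ℕ) :
    IsZero (Hyper.cechH X K I.obj (p + 1)) :=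
  haveI := injective_over (X := X) I
  injective_vanishing (J.over X) (resolves_over hK) (I.over X) p

theorem zero_over (hK : Hyper.IsHypercovering J X K) (F : Sheaf J AddCommGrpCat.{u}) :
    Nonempty (Hyper.cechH X K F.obj 0 ≅ F.obj.obj (op X)) :=
  ⟨(homology_zero (J.over X) (resolves_over hK) (F.over X)).some ≪≫
    (limit.isLimit _).conePointUniqueUpToIso (limitOfDiagramInitial (Over.mkIdTerminal (X := X)).op (F.over X).obj)⟩

lemma lift_coinvariants (hK : Hyper.IsHypercovering J X K) {A B : Sheaf (J.over X) AddCommGrpCat.{u}} (g : A ⟶ B)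
    (hg : Function.Surjective (g.hom.app (op (Over.mk (𝟙 X))))) (c : Q (J.over X) K ⟶ B) :
    ∃ ψ : Q (J.over X) K ⟶ A, ψ ≫ g = c := by
  obtain ⟨q⟩ := Q_iso (J.over X) (resolves_over hK)
  let adj := constantSheafAdj (J.over X) AddCommGrpCat.{u} (Over.mkIdTerminal (X := X))
  let c' := adj.homEquiv _ _ (q.inv ≫ c)
  obtain ⟨s, hs⟩ := hg (AddCommGrpCat.uliftZMultiplesAddEquiv _ c')
  let ψ' := (adj.homEquiv ZZ A).symm ((AddCommGrpCat.uliftZMultiplesAddEquiv _).symm s)
  refine ⟨q.hom ≫ ψ', ?_⟩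
  have : ψ' ≫ g = q.inv ≫ c := by
    apply (adj.homEquiv _ _).injective
    rw [adj.homEquiv_naturality_right]
    apply (AddCommGrpCat.uliftZMultiplesAddEquiv _).injective
    refine Eq.trans ?_ hs
    refine congrArg (g.hom.app (op (Over.mk (𝟙 X)))) ?_
    refine (congrArg (AddCommGrpCat.uliftZMultiplesAddEquiv _) ((adj.homEquiv _ _).apply_symm_apply _)).trans ?_
    exact (AddCommGrpCat.uliftZMultiplesAddEquiv _).apply_symm_apply s
  rw [Category.assoc, this, Iso.hom_inv_id_assoc]

open H5SiteCoh in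
theorem exactAt_acyclic (hK : Hyper.IsHypercovering J X K) :
    ∀ (p : ℕ) (F : Sheaf J AddCommGrpCat.{u}), (∀ (U : C) (q : ℕ), Subsingleton (CohSite.HU F (q + 1) U)) →
      (Hyper.cechCx X K F.obj).ExactAt (p + 1) := by
  intro p
  induction p using Nat.strong_induction_on with
  | _ p ih =>
  intro F hF
  rw [HomologicalComplex.exactAt_iff' _ p (p + 1) (p + 2) (by simp) (by simp), ShortComplex.ab_exact_iff]
  intro x hx
  let S := injSeq F
  have hS : S.ShortExact := injSeq_shortExact F
  haveI : Injective S.X₂ := inferInstanceAs (Injective (Injective.under F))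
  have hQ : ∀ (U : C) (q : ℕ), Subsingleton (CohSite.HU S.X₃ (q + 1) U) := fun U =>
    acyc_quotient (Z := fU J U) (fun q => hF U q)
  have hsurj : ∀ U : C, Function.Surjective (S.g.hom.app (op U)) := fun U =>
    (surj_fU S.g).1 (haveI : Subsingleton (Abelian.Ext (fU J U) S.X₁ 1) := hF U 0; surj_of_subsingleton hS)
  have hev : ∀ U : C, Function.Injective (S.f.hom.app (op U)) ∧
      ∀ v, S.g.hom.app (op U) v = 0 → ∃ w, S.f.hom.app (op U) w = v := fun U => by
    haveI := hS.mono_f
    let E := sheafToPresheaf J AddCommGrpCat.{u} ⋙ (evaluation Cᵒᵖ AddCommGrpCat.{u}).obj (op U)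
    have he := hS.exact.map_of_mono_of_preservesKernel E inferInstance inferInstance
    exact ⟨(AddCommGrpCat.mono_iff_injective _).1 (inferInstanceAs (Mono (E.map S.f))),
      fun v hv => (ShortComplex.ab_exact_iff _).1 he v hv⟩
  let Φf := (FormalCoproduct.cochainComplexFunctor K).map ((J.overPullback AddCommGrpCat.{u} X).map S.f).hom
  let Φg := (FormalCoproduct.cochainComplexFunctor K).map ((J.overPullback AddCommGrpCat.{u} X).map S.g).hom
  have hfi : ∀ n, Function.Injective (Φf.f n) := fun n a b h => coord_ext fun i =>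
    (hev _).1 ((coord_app _ a i).symm.trans ((congrArg (coord _ i) h).trans (coord_app _ b i)))
  have hge : ∀ n v, Φg.f n v = 0 → ∃ w, Φf.f n w = v := fun n v hv => by
    choose w hw using fun i : (K.obj (op (SimplexCategory.mk n))).I => (hev _).2 (coord (S.X₂.over X).obj i v)
      ((coord_app _ v i).symm.trans ((congrArg (coord _ i) hv).trans (map_zero _)))
    refine ⟨(Concrete.productEquiv (fun i => (S.X₁.over X).obj.obj (op ((K.obj (op (SimplexCategory.mk n))).obj i)))).symm w,
      coord_ext fun i => (coord_app _ _ i).trans ?_⟩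
    exact (congrArg (S.f.hom.app _) (Concrete.productEquiv_symm_apply_π _ w i)).trans (hw i)
  have hgs : ∀ n, Function.Surjective (Φg.f n) := fun n v => by
    choose w hw using fun i : (K.obj (op (SimplexCategory.mk n))).I => hsurj _ (coord (S.X₃.over X).obj i v)
    refine ⟨(Concrete.productEquiv (fun i => (S.X₂.over X).obj.obj (op ((K.obj (op (SimplexCategory.mk n))).obj i)))).symm w,
      coord_ext fun i => (coord_app _ _ i).trans ?_⟩
    exact (congrArg (S.g.hom.app _) (Concrete.productEquiv_symm_apply_π _ w i)).trans (hw i)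
  have hgf : ∀ n v, Φg.f n (Φf.f n v) = 0 := fun n v => coord_ext fun i => by
    refine (coord_app _ _ i).trans ((congrArg (S.g.hom.app _) (coord_app _ v i)).trans ?_)
    refine Eq.trans ?_ (map_zero _).symm
    exact ConcreteCategory.congr_hom (congr_app (congrArg (fun t => t.hom) S.zero) _) _
  have cf : ∀ (n : ℕ) v, Φf.f (n + 1) ((Hyper.cechCxSite K (S.X₁.over X).obj).d n (n + 1) v) =
      (Hyper.cechCxSite K (S.X₂.over X).obj).d n (n + 1) (Φf.f n v) := fun n v =>
    (ConcreteCategory.congr_hom (Φf.comm n (n + 1)) v).symm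
  have cg : ∀ (n : ℕ) v, Φg.f (n + 1) ((Hyper.cechCxSite K (S.X₂.over X).obj).d n (n + 1) v) =
      (Hyper.cechCxSite K (S.X₃.over X).obj).d n (n + 1) (Φg.f n v) := fun n v =>
    (ConcreteCategory.congr_hom (Φg.comm n (n + 1)) v).symm
  have hI := (HomologicalComplex.exactAt_iff' _ p (p + 1) (p + 2) (by simp) (by simp)).1
    ((HomologicalComplex.exactAt_iff_isZero_homology _ _).2 (vanishing_over hK S.X₂ p))
  obtain ⟨y0, hy0⟩ := (ShortComplex.ab_exact_iff _).1 hI (Φf.f (p + 1) x)
    ((cf (p + 1) x).symm.trans ((congrArg (Φf.f (p + 2)) hx).trans (map_zero (Φf.f (p + 2)).hom)))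
  let y : (Hyper.cechCxSite K (S.X₂.over X).obj).X p := y0
  have hy : (Hyper.cechCxSite K (S.X₂.over X).obj).d p (p + 1) y = Φf.f (p + 1) x := hy0
  have hgy : (Hyper.cechCxSite K (S.X₃.over X).obj).d p (p + 1) (Φg.f p y) = 0 :=
    (cg p y).symm.trans ((congrArg (Φg.f (p + 1)) hy).trans (hgf (p + 1) x))
  suffices hl : ∃ y', Φg.f p y' = Φg.f p y ∧ (Hyper.cechCxSite K (S.X₂.over X).obj).d p (p + 1) y' = 0 by
    obtain ⟨y', hy1, hy2⟩ := hl
    obtain ⟨z, hz⟩ := hge p (y - y') (by rw [map_sub, hy1, sub_self])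
    refine ⟨z, hfi (p + 1) ?_⟩
    refine (cf p z).trans ((congrArg _ hz).trans ?_)
    refine (map_sub _ _ _).trans ?_
    rw [hy2, sub_zero]
    exact hy
  rcases p with _ | r
  · let G := (J.overPullback AddCommGrpCat.{u} X).map S.g
    let f := (ΘK (J.over X) K 0 (S.X₃.over X)).symm (Φg.f 0 y)
    have hf : (Hyper.freeChainCx (J.over X) K).d 1 0 ≫ f = 0 := (ΘK (J.over X) K 1 _).injective
      ((ΘK_d (J.over X) K 0 _).trans ((congrArg ((Hyper.cechCxSite K (S.X₃.over X).obj).d 0 1)
        ((ΘK (J.over X) K 0 _).apply_symm_apply _)).trans (hgy.trans (map_zero (ΘK (J.over X) K 1 _)).symm)))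
    obtain ⟨ψ, hψ⟩ := lift_coinvariants hK G (hsurj X) ((Hyper.freeChainCx (J.over X) K).descOpcycles f 1 (by simp) hf)
    refine ⟨ΘK (J.over X) K 0 _ ((Hyper.freeChainCx (J.over X) K).pOpcycles 0 ≫ ψ), ?_, ?_⟩
    · refine (ΘK_comp (J.over X) K 0 _ G).symm.trans ?_
      rw [Category.assoc, hψ, HomologicalComplex.p_descOpcycles]
      exact (ΘK (J.over X) K 0 _).apply_symm_apply _
    · refine (ΘK_d (J.over X) K 0 _).symm.trans ?_
      rw [HomologicalComplex.d_pOpcycles_assoc, zero_comp, map_zero]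
  · have hQ' := (HomologicalComplex.exactAt_iff' _ r (r + 1) (r + 2) (by simp) (by simp)).1 (ih r (by omega) S.X₃ hQ)
    obtain ⟨w, hw⟩ := (ShortComplex.ab_exact_iff _).1 hQ' (Φg.f (r + 1) y) hgy
    obtain ⟨w', hw'⟩ := hgs r w
    refine ⟨(Hyper.cechCxSite K (S.X₂.over X).obj).d r (r + 1) w', (cg r w').trans ((congrArg _ hw').trans hw), ?_⟩
    exact ConcreteCategory.congr_hom ((Hyper.cechCxSite K (S.X₂.over X).obj).d_comp_d r (r + 1) (r + 2)) w'

end overX
end Groth.Agent.H5HyperOver
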