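import Groth.Prelude.Def_ModSite2
import Mathlib
set_option autoImplicit false
universe u
open CategoryTheory CategoryTheory.Limits Opposite

namespace Groth.Agent.H5ModFree

/-- a functor out of a reflective subcategory preserves colimits as soon as its composite with the reflector does -/
theorem preservesColimitsOfShape_of_reflector {P Q D : Type*} [Category P] [Category Q] [Category D]
    {L : P ⥤ Q} {R : Q ⥤ P} (adj : L ⊣ R) [R.Full] [R.Faithful] (F : Q ⥤ D)
    (K : Type*) [Category K] [HasColimitsOfShape K P] [PreservesColimitsOfShape K (L ⋙ F)] :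
    PreservesColimitsOfShape K F where
  preservesColimit {G} := by
    have : IsIso adj.counit := inferInstance
    let e : (G ⋙ R) ⋙ L ≅ G :=
      Functor.associator _ _ _ ≪≫ Functor.isoWhiskerLeft G (asIso adj.counit) ≪≫ G.rightUnitor
    have := adj.isLeftAdjoint
    let c := colimit.cocone (G ⋙ R)
    have hc : IsColimit (L.mapCocone c) := isColimitOfPreserves L (colimit.isColimit _)
    have hF : IsColimit (F.mapCocone (L.mapCocone c)) := isColimitOfPreserves (L ⋙ F) (colimit.isColimit (G ⋙ R))
    have : PreservesColimit ((G ⋙ R) ⋙ L) F := preservesColimit_of_preserves_colimit_cocone hc hF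
    exact preservesColimit_of_iso_diagram F e

section ringed
variable {C : Type u} [SmallCategory C] {J : GrothendieckTopology C}

theorem toSheaf_preservesLimits (R : Sheaf J RingCat.{u}) :
    PreservesLimitsOfSize.{u, u} (SheafOfModules.toSheaf.{u} R) where
  preservesLimitsOfShape {K} _ := by
    let e : SheafOfModules.toSheaf.{u} R ⋙ sheafToPresheaf J AddCommGrpCat.{u} ≅
        SheafOfModules.forget R ⋙ PresheafOfModules.toPresheaf R.obj := Iso.refl _
    have : PreservesLimitsOfShape K (SheafOfModules.toSheaf.{u} R ⋙ sheafToPresheaf J AddCommGrpCat.{u}) :=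
      preservesLimitsOfShape_of_natIso e.symm
    exact preservesLimitsOfShape_of_reflects_of_preserves _ (sheafToPresheaf J AddCommGrpCat.{u})

theorem toSheaf_preservesColimits (R : Sheaf J RingCat.{u}) :
    PreservesColimitsOfSize.{u, u} (SheafOfModules.toSheaf.{u} R) where
  preservesColimitsOfShape {K} _ := by
    have : PreservesColimitsOfShape K (PresheafOfModules.sheafification.{u} (𝟙 R.obj) ⋙ SheafOfModules.toSheaf R) :=
      preservesColimitsOfShape_of_natIso (PresheafOfModules.sheafificationCompToSheaf.{u} (𝟙 R.obj)).symm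
    exact preservesColimitsOfShape_of_reflector (PresheafOfModules.sheafificationAdjunction.{u} (𝟙 R.obj)) _ K

theorem restrictScalars_preserves {A B : Sheaf J RingCat.{u}} (φ : A ⟶ B) :
    PreservesLimitsOfSize.{u, u} (SheafOfModules.restrictScalars.{u} φ) ∧
    PreservesColimitsOfSize.{u, u} (SheafOfModules.restrictScalars.{u} φ) ∧
    (SheafOfModules.restrictScalars.{u} φ).ReflectsIsomorphisms := by
  have hA := toSheaf_preservesColimits A
  have hB := toSheaf_preservesColimits B
  let e : SheafOfModules.restrictScalars.{u} φ ⋙ SheafOfModules.toSheaf A ≅ SheafOfModules.toSheaf B :=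
    NatIso.ofComponents (fun _ => Iso.refl _)
  have hl : PreservesLimitsOfSize.{u, u} (SheafOfModules.toSheaf.{u} A) := toSheaf_preservesLimits A
  have hl' : PreservesLimitsOfSize.{u, u} (SheafOfModules.toSheaf.{u} B) := toSheaf_preservesLimits B
  have hr : PreservesLimitsOfSize.{u, u} (SheafOfModules.restrictScalars.{u} φ ⋙ SheafOfModules.toSheaf A) :=
    preservesLimits_of_natIso e.symm
  have hr' : PreservesColimitsOfSize.{u, u} (SheafOfModules.restrictScalars.{u} φ ⋙ SheafOfModules.toSheaf A) :=
    preservesColimits_of_natIso e.symm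
  have : ReflectsLimitsOfSize.{u, u} (SheafOfModules.toSheaf.{u} A) := reflectsLimits_of_reflectsIsomorphisms
  have : ReflectsColimitsOfSize.{u, u} (SheafOfModules.toSheaf.{u} A) := reflectsColimits_of_reflectsIsomorphisms
  refine ⟨preservesLimits_of_reflects_of_preserves _ (SheafOfModules.toSheaf A),
    preservesColimits_of_reflects_of_preserves _ (SheafOfModules.toSheaf A), ⟨fun f hf => ?_⟩⟩
  have : IsIso ((SheafOfModules.toSheaf.{u} B).map f) :=
    (NatIso.isIso_map_iff e f).1 (inferInstanceAs (IsIso ((SheafOfModules.toSheaf A).map ((SheafOfModules.restrictScalars φ).map f))))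
  exact isIso_of_reflects_iso f (SheafOfModules.toSheaf B)

variable (O : Sheaf J CommRingCat.{u})

theorem stalk_exact (S : ShortComplex (ModSite.Mod O)) (hS : S.ShortExact) (p : GrothendieckTopology.Point.{u} J) :
    Function.Injective (ModSite.stalkMap p S.f).hom ∧ Function.Surjective (ModSite.stalkMap p S.g).hom ∧
      LinearMap.range (ModSite.stalkMap p S.f).hom = LinearMap.ker (ModSite.stalkMap p S.g).hom := by
  let F := SheafOfModules.toSheaf (ModSite.ringSh O) ⋙ p.sheafFiber (A := AddCommGrpCat.{u})
  have := toSheaf_preservesColimits (ModSite.ringSh O)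
  have : PreservesFiniteColimits (SheafOfModules.toSheaf.{u} (ModSite.ringSh O)) :=
    PreservesColimitsOfSize.preservesFiniteColimits _
  have : PreservesFiniteColimits (p.sheafFiber (A := AddCommGrpCat.{u})) :=
    PreservesColimitsOfSize.preservesFiniteColimits.{u, u} _
  have : PreservesFiniteLimits F := comp_preservesFiniteLimits _ _
  have : PreservesFiniteColimits F := comp_preservesFiniteColimits _ _
  have : F.PreservesZeroMorphisms := by
    have : PreservesBinaryBiproducts F := preservesBinaryBiproducts_of_preservesBinaryProducts F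
    have := Functor.additive_of_preservesBinaryBiproducts F
    infer_instance
  have h := hS.map_of_exact F
  have h1 : Function.Injective (ModSite.stalkMap p S.f).hom := (AddCommGrpCat.mono_iff_injective _).1 h.mono_f
  have h2 : Function.Surjective (ModSite.stalkMap p S.g).hom := (AddCommGrpCat.epi_iff_surjective _).1 h.epi_g
  refine ⟨h1, h2, ?_⟩
  ext x
  exact SetLike.ext_iff.1 (ShortComplex.ab_exact_iff_range_eq_ker.1 h.exact) x

/-! ### free modules on an object -/

variable (X : C)

/-- sections over the slice are values at `X` -/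
noncomputable def secEquiv (G : ModSite.Mod O) : ((ModSite.restr O X).obj G).sections ≃ G.val.obj (op X) where
  toFun s := s.1 (op (Over.mk (𝟙 X)))
  invFun x := PresheafOfModules.sectionsMk (fun V => G.val.map V.unop.hom.op x) (fun V W k => by
    show G.val.map k.unop.left.op (G.val.map V.unop.hom.op x) = G.val.map W.unop.hom.op x
    rw [← PresheafOfModules.map_comp_apply, ← op_comp, Over.w k.unop])
  left_inv s := by
    refine PresheafOfModules.sections_ext _ _ (fun V => ?_)
    exact PresheafOfModules.sections_property s (Over.homMk V.unop.hom (Category.comp_id _) : V.unop ⟶ Over.mk (𝟙 X)).op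
  right_inv x := by
    show G.val.map (𝟙 X).op x = x
    rw [op_id, G.val.map_id]; rfl

/-- maps out of the free module on `X` are sections over `X` -/
noncomputable def freeOnEquiv (G : ModSite.Mod O) : (ModSite.freeOn O X ⟶ G) ≃ G.val.obj (op X) :=
  ((ModSite.extZeroAdj O X).homEquiv _ G).trans ((SheafOfModules.unitHomEquiv _).trans (secEquiv O X G))

theorem freeOnEquiv_comp {G H : ModSite.Mod O} (f : ModSite.freeOn O X ⟶ G) (p : G ⟶ H) :
    freeOnEquiv O X H (f ≫ p) = p.val.app (op X) (freeOnEquiv O X G f) := by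
  show secEquiv O X H (SheafOfModules.unitHomEquiv _ ((ModSite.extZeroAdj O X).homEquiv _ H (f ≫ p))) = _
  erw [Adjunction.homEquiv_naturality_right, SheafOfModules.unitHomEquiv_comp_apply]
  rfl

theorem app_eq_of_free {M N : ModSite.Mod O} (f g : M ⟶ N)
    (h : ∀ φ : ModSite.freeOn O X ⟶ M, φ ≫ f = φ ≫ g) (y : M.val.obj (op X)) :
    f.val.app (op X) y = g.val.app (op X) y := by
  obtain ⟨φ, rfl⟩ := (freeOnEquiv O X M).surjective y
  exact (freeOnEquiv_comp O X φ f).symm.trans ((congrArg _ (h φ)).trans (freeOnEquiv_comp O X φ g))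

theorem app_eq_of_cover {M N : ModSite.Mod O} (f g : M ⟶ N) {V : Cᵒᵖ} {ι : Type u} {Y : ι → C}
    {k : ∀ i, Y i ⟶ V.unop} (hk : Sieve.ofArrows Y k ∈ J V.unop)
    (key : ∀ i (y : M.val.obj (op (Y i))), f.val.app _ y = g.val.app _ y) (x : M.val.obj V) :
    f.val.app V x = g.val.app V x := by
  refine (((Presheaf.isSheaf_iff_isSheaf_forget J _ (forget AddCommGrpCat.{u})).1 N.isSheaf
    |> (isSheaf_iff_isSheaf_of_type J _).1).isSeparated _ hk).ext (fun W q hq => ?_)
  obtain ⟨i, a, e⟩ := (Sieve.mem_ofArrows_iff _ _ _).1 hq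
  show N.val.map q.op (f.val.app V x) = N.val.map q.op (g.val.app V x)
  have hq' : q.op = (k i).op ≫ a.op := by rw [e]; rfl
  rw [hq', PresheafOfModules.map_comp_apply, PresheafOfModules.map_comp_apply]
  refine congrArg _ ?_
  exact (PresheafOfModules.naturality_apply f.val (k i).op x).symm.trans
    ((key i _).trans (PresheafOfModules.naturality_apply g.val (k i).op x))

theorem freeOn_separating (G : Set C)
    (hG : ∀ X : C, ∃ (ι : Type u) (Y : ι → C) (f : ∀ i, Y i ⟶ X), Sieve.ofArrows Y f ∈ J X ∧ ∀ i, Y i ∈ G) :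
    (ObjectProperty.ofObj fun X : G => ModSite.freeOn O (X : C)).IsSeparating := by
  intro M N f g h
  apply SheafOfModules.hom_ext
  refine PresheafOfModules.Hom.ext (funext fun V => ModuleCat.hom_ext (LinearMap.ext fun x => ?_))
  obtain ⟨ι, Y, k, hk, hY⟩ := hG V.unop
  exact app_eq_of_cover O f g hk (fun i y => app_eq_of_free O (Y i) f g (fun φ => h (ModSite.freeOn O (Y i)) (ObjectProperty.ofObj_apply (fun X : G => ModSite.freeOn O (X : C)) ⟨Y i, hY i⟩) φ) y) x

theorem freeOn_detecting (G : Set C)
    (hG : ∀ X : C, ∃ (ι : Type u) (Y : ι → C) (f : ∀ i, Y i ⟶ X), Sieve.ofArrows Y f ∈ J X ∧ ∀ i, Y i ∈ G) :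
    (ObjectProperty.ofObj fun X : G => ModSite.freeOn O (X : C)).IsDetecting :=
  (freeOn_separating O G hG).isDetecting

end ringed

theorem pull_freeOn {C D : Type u} [SmallCategory C] [SmallCategory D] {J : GrothendieckTopology C}
    {K : GrothendieckTopology D} {O_C : Sheaf J CommRingCat.{u}} {O_D : Sheaf K CommRingCat.{u}}
    (f : ModSite.RMor O_C O_D) (X : D) :
    Nonempty (f.pull.obj (ModSite.freeOn O_D X) ≅ ModSite.freeOn O_C (f.fn.obj X)) := by
  let A := f.pull.obj (ModSite.freeOn O_D X)
  let B := ModSite.freeOn O_C (f.fn.obj X)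
  let e1 : ∀ G : ModSite.Mod O_C, (A ⟶ G) ≃ G.val.obj (op (f.fn.obj X)) :=
    fun G => (f.adj.homEquiv _ G).trans (freeOnEquiv O_D X (f.push.obj G))
  have h1 : ∀ {G H : ModSite.Mod O_C} (a : A ⟶ G) (p : G ⟶ H),
      e1 H (a ≫ p) = p.val.app _ (e1 G a) := fun {G H} a p =>
    (congrArg (freeOnEquiv O_D X (f.push.obj H)) (f.adj.homEquiv_naturality_right a p)).trans
      (freeOnEquiv_comp O_D X _ (f.push.map p))
  let hom : A ⟶ B := (e1 B).symm (freeOnEquiv O_C (f.fn.obj X) B (𝟙 B))
  let iv : B ⟶ A := (freeOnEquiv O_C (f.fn.obj X) A).symm (e1 A (𝟙 A))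
  refine ⟨⟨hom, iv, ?_, ?_⟩⟩
  · apply (e1 A).injective
    rw [h1, Equiv.apply_symm_apply, ← freeOnEquiv_comp, Category.id_comp]
    exact Equiv.apply_symm_apply _ _
  · apply (freeOnEquiv O_C (f.fn.obj X) B).injective
    refine (freeOnEquiv_comp O_C (f.fn.obj X) iv hom).trans ?_
    rw [Equiv.apply_symm_apply, ← h1, Category.id_comp]
    exact Equiv.apply_symm_apply _ _

end Groth.Agent.H5ModFree
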