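import Groth.Agent.Lib.H5SiteCoh
import Groth.Agent.Lib.H5KInjApps
import Mathlib.CategoryTheory.Sites.Point.Skyscraper
import Mathlib.CategoryTheory.Abelian.GrothendieckCategory.EnoughInjectives

universe w v u

namespace Groth.Agent.H5SiteApps
open CategoryTheory Limits Abelian Opposite
open Groth.Agent Groth.Agent.H5SiteCoh

section wc
variable {C : Type u} [Category.{v} C] {J : GrothendieckTopology C}
  [HasSheafify J AddCommGrpCat.{w}] [J.WEqualsLocallyBijective AddCommGrpCat.{w}]
  {U : C} (hU : ∀ (P Q : Sheaf J (Type w)) (ψ : P ⟶ Q), Epi ψ → Function.Surjective (ψ.hom.app (op U)))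

include hU in
lemma surjective_of_epi {F G : Sheaf J AddCommGrpCat.{w}} (g : F ⟶ G) [Epi g] :
    Function.Surjective (g.hom.app (op U)) := by
  have h : Sheaf.IsLocallySurjective g := (Sheaf.isLocallySurjective_iff_epi' (C := C) (J := J) _ g).2 inferInstance
  have h2 : Sheaf.IsLocallySurjective ((sheafCompose J (forget AddCommGrpCat.{w})).map g) := inferInstance
  exact hU _ _ ((sheafCompose J (forget AddCommGrpCat.{w})).map g) (Sheaf.epi_of_isLocallySurjective _)

lemma sections_zero {F G H : Sheaf J AddCommGrpCat.{w}} (f : F ⟶ G) (g : G ⟶ H) (h : f ≫ g = 0) (V : C)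
    (x : F.obj.obj (op V)) : g.hom.app (op V) (f.hom.app (op V) x) = 0 := by
  have := congrArg (fun (t : F ⟶ H) => (t.hom.app (op V)) x) h
  simpa using this

include hU in
lemma exact_sections {S : ShortComplex (Sheaf J AddCommGrpCat.{w})} (hS : S.Exact) (x : S.X₂.obj.obj (op U))
    (hx : S.g.hom.app (op U) x = 0) : ∃ y, S.f.hom.app (op U) y = x := by
  let K := kernel S.g
  have : Epi (kernel.lift S.g S.f S.zero) := (S.exact_iff_epi_kernel_lift).1 hS
  let G := sheafToPresheaf J AddCommGrpCat.{w} ⋙ (evaluation Cᵒᵖ AddCommGrpCat.{w}).obj (op U)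
  have hk : (ShortComplex.mk (G.map (kernel.ι S.g)) (G.map S.g) (by
      rw [← G.map_comp, kernel.condition, G.map_zero])).Exact :=
    ShortComplex.exact_of_f_is_kernel _ (isLimitForkMapOfIsLimit' G (kernel.condition S.g) (kernelIsKernel S.g))
  obtain ⟨z, hz⟩ := (ShortComplex.ab_exact_iff _).1 hk x hx
  obtain ⟨y, hy⟩ := surjective_of_epi hU (kernel.lift S.g S.f S.zero) z
  refine ⟨y, ?_⟩
  rw [← hz, ← hy]
  exact (congrArg (fun (t : S.X₁ ⟶ S.X₂) => t.hom.app (op U) y) (kernel.lift_ι S.g S.f S.zero)).symm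

lemma exact_of_sections (B : C → Prop)
    (hcov : ∀ V : C, ∃ S : Sieve V, S ∈ J V ∧ ∀ ⦃W : C⦄ (f : W ⟶ V), S.arrows f →
      ∃ (U : C) (g : W ⟶ U) (h : U ⟶ V), B U ∧ g ≫ h = f)
    (S : ShortComplex (Sheaf J AddCommGrpCat.{w}))
    (h : ∀ U, B U → ∀ x : S.X₂.obj.obj (op U), S.g.hom.app (op U) x = 0 → ∃ y, S.f.hom.app (op U) y = x) :
    S.Exact := by
  rw [S.exact_iff_epi_kernel_lift]
  refine (Sheaf.isLocallySurjective_iff_epi' (C := C) (J := J) _ _).1 ⟨fun {V} s => ?_⟩
  obtain ⟨T, hT, hf⟩ := hcov V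
  refine J.superset_covering (fun W f hW => ?_) hT
  obtain ⟨U, g, a, hBU, rfl⟩ := hf f hW
  let k := kernel.ι S.g
  let x := k.hom.app (op U) ((kernel S.g).obj.map a.op s)
  obtain ⟨y, hy⟩ := h U hBU x (sections_zero k S.g (kernel.condition S.g) U _)
  refine ⟨S.X₁.obj.map g.op y, ?_⟩
  have hinj : Function.Injective (k.hom.app (op W)) := by
    have : Mono k.hom := inferInstanceAs (Mono ((sheafToPresheaf J AddCommGrpCat.{w}).map k))
    rw [← AddCommGrpCat.mono_iff_injective]
    infer_instance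
  apply hinj
  have e : k.hom.app (op W) ((kernel.lift S.g S.f S.zero).hom.app (op W) (S.X₁.obj.map g.op y)) =
      S.f.hom.app (op W) (S.X₁.obj.map g.op y) :=
    congrArg (fun (t : S.X₁ ⟶ S.X₂) => t.hom.app (op W) (S.X₁.obj.map g.op y)) (kernel.lift_ι S.g S.f S.zero)
  refine e.trans ((NatTrans.naturality_apply S.f.hom g.op y).trans ?_)
  rw [hy]
  refine ((NatTrans.naturality_apply k.hom g.op _).symm).trans (congrArg _ ?_)
  rw [op_comp, Functor.map_comp]
  rfl

end wc

section small
variable {C : Type u} [SmallCategory C] {J : GrothendieckTopology C}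

lemma preservesFiniteColimits_eval {U : C} (hU : CohSite.IsWeaklyContractible J U) :
    PreservesFiniteColimits (sheafToPresheaf J AddCommGrpCat.{u} ⋙ (evaluation Cᵒᵖ AddCommGrpCat.{u}).obj (op U)) := by
  let G := sheafToPresheaf J AddCommGrpCat.{u} ⋙ (evaluation Cᵒᵖ AddCommGrpCat.{u}).obj (op U)
  have : G.PreservesEpimorphisms := ⟨fun {X Y} g _ => by
    rw [AddCommGrpCat.epi_iff_surjective]
    exact surjective_of_epi hU g⟩
  have : G.PreservesHomology := Functor.preservesHomology_of_preservesEpis_and_kernels _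
  exact Functor.preservesFiniteColimits_of_preservesHomology G

lemma HU_weaklyContractible {U : C} (hU : CohSite.IsWeaklyContractible J U) (F : Sheaf J AddCommGrpCat.{u}) (p : ℕ) :
    Subsingleton (CohSite.HU F (p + 1) U) :=
  acyclic_HU (fun _ => True) U (fun F _ => ⟨trivial, surjective_of_epi hU _⟩) p F trivial

lemma HU_one_pi_injective {I : Type u} (F : I → Sheaf J AddCommGrpCat.{u}) (U : C) (x : CohSite.HU (∏ᶜ F) 1 U)
    (hx : ∀ i, (Ext.mk₀ (Pi.π F i)).postcomp (fU J U) (add_zero 1) x = 0) : x = 0 := by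
  let m : (∏ᶜ F) ⟶ ∏ᶜ fun i => Injective.under (F i) := Limits.Pi.map fun i => Injective.ι (F i)
  let T : ShortComplex (Sheaf J AddCommGrpCat.{u}) := ShortComplex.mk m (cokernel.π m) (cokernel.condition _)
  have hT : T.ShortExact := { exact := ShortComplex.exact_cokernel _ }
  obtain ⟨x₃, hx₃⟩ := Ext.covariant_sequence_exact₁ (fU J U) hT x (Ext.eq_zero_of_injective _) (zero_add 1)
  obtain ⟨φ, rfl⟩ := (Ext.mk₀_bijective _ _).2 x₃
  let τ : ∀ i, T ⟶ injSeq (F i) := fun i =>
    { τ₁ := Pi.π F i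
      τ₂ := Pi.π (fun i => Injective.under (F i)) i
      τ₃ := cokernel.map m (Injective.ι (F i)) (Pi.π F i) (Pi.π (fun i => Injective.under (F i)) i) (by simp [m])
      comm₁₂ := by simp [T, m]
      comm₂₃ := by simp [T] }
  have hψ : ∀ i, ∃ ψ : fU J U ⟶ Injective.under (F i), ψ ≫ cokernel.π (Injective.ι (F i)) = φ ≫ (τ i).τ₃ := fun i => by
    have h0 : (Ext.mk₀ (φ ≫ (τ i).τ₃)).comp (injSeq_shortExact (F i)).extClass (zero_add 1) = 0 := by
      rw [← Ext.mk₀_comp_mk₀, Ext.comp_assoc_of_second_deg_zero,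
        ← ShortComplex.ShortExact.extClass_naturality hT (injSeq_shortExact (F i)) (τ i),
        ← Ext.comp_assoc_of_third_deg_zero, hx₃]
      exact hx i
    obtain ⟨y, hy⟩ := Ext.covariant_sequence_exact₃ (fU J U) (injSeq_shortExact (F i))
      (Ext.mk₀ (φ ≫ (τ i).τ₃)) (zero_add 1) h0
    obtain ⟨ψ, rfl⟩ := (Ext.mk₀_bijective _ _).2 y
    exact ⟨ψ, (Ext.mk₀_bijective _ _).1 (by rw [← Ext.mk₀_comp_mk₀, hy])⟩
  choose ψ hψ using hψ
  let P : ShortComplex (Sheaf J AddCommGrpCat.{u}) :=
    ShortComplex.mk m (Limits.Pi.map fun i => cokernel.π (Injective.ι (F i))) (by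
      ext i; simp [m])
  have hP : P.Exact := by
    refine ShortComplex.exact_of_f_is_kernel _ (KernelFork.IsLimit.ofι' _ _ fun {A} k hk =>
      ⟨Pi.lift fun i => (injSeq_shortExact (F i)).exact.lift (k ≫ Pi.π _ i) (by
        have h1 := congrArg (fun t => t ≫ Pi.π _ i) hk
        simpa [P] using h1), ?_⟩)
    apply Pi.hom_ext
    intro i
    simp only [P, m, Category.assoc, Pi.map_π, Pi.lift_π_assoc]
    exact (injSeq_shortExact (F i)).exact.lift_f (k ≫ Pi.π _ i) _
  have hc : Mono (cokernel.desc m P.g P.zero) := hP.mono_cokernelDesc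
  have hd : φ = Pi.lift ψ ≫ cokernel.π m := by
    rw [← cancel_mono (cokernel.desc m P.g P.zero)]
    apply Pi.hom_ext
    intro i
    have h1 : cokernel.desc m P.g P.zero ≫ Pi.π (fun i => cokernel (Injective.ι (F i))) i = (τ i).τ₃ := by
      apply coequalizer.hom_ext
      simp [τ, P]
    simp only [Category.assoc, cokernel.π_desc_assoc]
    rw [h1, ← hψ i]
    simp [P]
  rw [← hx₃, hd, ← Ext.mk₀_comp_mk₀, Ext.comp_assoc_of_second_deg_zero]
  exact (congrArg (fun t => (Ext.mk₀ (Pi.lift ψ)).comp t (zero_add 1)) hT.comp_extClass).trans (Ext.comp_zero _ _ _ _ _)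

lemma HU_one_pi {I : Type u} (F : I → Sheaf J AddCommGrpCat.{u}) (U : C) :
    Function.Injective (fun (x : CohSite.HU (∏ᶜ F) 1 U) (i : I) =>
      (((Sheaf.cohomologyPresheafFunctor J 1).map (Pi.π F i)).app (op U)).hom x) := by
  intro a b h
  have : a - b = 0 := HU_one_pi_injective F U _ fun i => by
    exact (map_sub _ a b).trans (sub_eq_zero.2 (congrFun h i))
  exact sub_eq_zero.1 this

lemma isZero_sheafify (B : ObjectProperty C)
    (hB : ∀ (V : C) (S : Sieve V), S ∈ J V →
      Sieve.generate (fun (U : C) => {g : U ⟶ V | S.arrows g ∧ B U}) ∈ J V)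
    (F : Cᵒᵖ ⥤ AddCommGrpCat.{u}) (hF : ∀ U : C, B U → IsZero (F.obj (op U))) :
    IsZero ((presheafToSheaf J AddCommGrpCat.{u}).obj F) := by
  have h0 : ∀ (G : Sheaf J AddCommGrpCat.{u}) (t : F ⟶ G.obj), t = 0 := fun G t => by
    ext V x
    refine G.property.isSeparated _ (Sieve.generate (fun (U : C) => {g : U ⟶ V.unop | (⊤ : Sieve V.unop).arrows g ∧ B U}))
      (hB V.unop ⊤ (J.top_mem _)) _ _ ?_
    rintro W f ⟨U, g, a, ⟨-, hU⟩, rfl⟩
    have hz : Subsingleton (F.obj (op U)) := AddCommGrpCat.subsingleton_of_isZero (hF U hU)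
    have h1 : (G.obj.map (g ≫ a).op) (t.app V x) = t.app (op W) (F.map g.op (F.map a.op x)) := by
      rw [← NatTrans.naturality_apply]
      simp
    refine h1.trans ?_
    rw [Subsingleton.elim (F.map a.op x) 0, map_zero, map_zero]
    simp
  rw [IsZero.iff_id_eq_zero]
  apply ((sheafificationAdjunction J AddCommGrpCat.{u}).homEquiv F _).injective
  exact (h0 _ _).trans (h0 _ _).symm

theorem ab4Star (B : Set C) (hB : ∀ U ∈ B, CohSite.IsWeaklyContractible J U)
    (hcov : ∀ V : C, ∃ (ι : Type u) (U : ι → C) (f : ∀ i, U i ⟶ V), (∀ i, U i ∈ B) ∧ Sieve.ofArrows U f ∈ J V) :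
    AB4Star (Sheaf J AddCommGrpCat.{u}) := by
  refine ⟨fun α => ⟨?_⟩⟩
  let L : (Discrete α ⥤ Sheaf J AddCommGrpCat.{u}) ⥤ Sheaf J AddCommGrpCat.{u} := lim
  have : L.Additive := Functor.additive_of_preserves_binary_products L
  have : L.PreservesEpimorphisms := ⟨fun {X Z} g hg => by
    refine (Sheaf.isLocallySurjective_iff_epi' (C := C) (J := J) _ _).1 ⟨fun {V} s => ?_⟩
    obtain ⟨ι, W, f, hW, hJ⟩ := hcov V
    refine J.superset_covering (Sieve.generate_le_iff _ _ |>.2 ?_) hJ
    rintro W' f' ⟨i⟩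
    have hs : ∀ a : Discrete α, ∃ y, (g.app a).hom.app (op (W i)) y =
        (Z.obj a).obj.map (f i).op ((limit.π Z a).hom.app (op V) s) := fun a => by
      have : Epi (g.app a) := inferInstance
      exact surjective_of_epi (hB _ (hW i)) (g.app a) _
    choose y hy using hs
    let ψ : fU J (W i) ⟶ L.obj X := limit.lift X (Cone.mk (fU J (W i))
      (Discrete.natTrans fun a => (eqv (W i) (X.obj a)).symm (y a)))
    refine ⟨eqv (W i) _ ψ, ?_⟩
    apply (eqv (W i) _).symm.injective
    rw [← eqv_comp, Equiv.symm_apply_apply]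
    apply limit.hom_ext
    intro a
    apply (eqv (W i) _).injective
    rw [Category.assoc, show L.map g ≫ limit.π Z a = limit.π X a ≫ g.app a from limMap_π g a, ← Category.assoc, eqv_comp, eqv_comp, eqv_comp]
    erw [Equiv.apply_symm_apply]
    refine (congrArg ((g.app a).hom.app (op (W i))) ?_).trans ((hy a).trans ?_)
    · rw [← eqv_comp, show ψ ≫ limit.π X a = (eqv (W i) (X.obj a)).symm (y a) from limit.lift_π _ a,
        Equiv.apply_symm_apply]
    · exact (NatTrans.naturality_apply (limit.π Z a).hom (f i).op s).symm⟩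
  have : L.PreservesHomology := Functor.preservesHomology_of_preservesEpis_and_kernels _
  exact Functor.preservesFiniteColimits_of_preservesHomology L

theorem skyscraper_exact (p : GrothendieckTopology.Point.{u} J) :
    PreservesFiniteColimits (p.skyscraperSheafFunctor (A := AddCommGrpCat.{u})) := by
  let L := p.skyscraperSheafFunctor (A := AddCommGrpCat.{u})
  have : PreservesLimitsOfSize.{0, 0} L := p.skyscraperSheafAdjunction.rightAdjoint_preservesLimits
  have : L.Additive := Functor.additive_of_preserves_binary_products L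
  have : L.PreservesEpimorphisms := ⟨fun {M N} g hg => by
    have : Epi (L.map g).hom := by
      rw [NatTrans.epi_iff_epi_app]
      intro V
      change Epi ((p.skyscraperPresheafFunctor.map g).app V)
      rw [AddCommGrpCat.epi_iff_surjective]
      intro s
      have hsj := (AddCommGrpCat.epi_iff_surjective g).1 hg
      choose y hy using fun x : p.fiber.obj V.unop => hsj ((Pi.π (fun (_ : p.fiber.obj V.unop) => N) x) s)
      refine ⟨(Concrete.productEquiv (fun (_ : p.fiber.obj V.unop) => M)).symm y, ?_⟩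
      apply Concrete.limit_ext
      rintro ⟨x⟩
      have h1 : (p.skyscraperPresheafFunctor.map g).app V ≫ Pi.π (fun (_ : p.fiber.obj V.unop) => N) x =
          Pi.π (fun (_ : p.fiber.obj V.unop) => M) x ≫ g := by
        simp [GrothendieckTopology.Point.skyscraperPresheafFunctor]
        exact Limits.Pi.map_π _ _
      refine (ConcreteCategory.congr_hom h1 _).trans ?_
      refine (congrArg g ?_).trans (hy x)
      exact Concrete.productEquiv_symm_apply_π _ y x
    
    exact (sheafToPresheaf J AddCommGrpCat.{u}).epi_of_epi_map this⟩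
  have : L.PreservesHomology := Functor.preservesHomology_of_preservesEpis_and_kernels _
  exact Functor.preservesFiniteColimits_of_preservesHomology L

theorem enoughInjectives_modules (R : Sheaf J RingCat.{u}) : EnoughInjectives (SheafOfModules.{u} R) :=
  have := H5KApps.isGrothendieckAbelian_sheafOfModules J R
  inferInstance

end small

end Groth.Agent.H5SiteApps
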