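import Groth.Agent.Lib.H5Flasque
import Groth.Agent.Lib.H5GrothSS
import Groth.Agent.Lib.H5HomExt
import Groth.Agent.Lib.H5ModFree
import Groth.Agent.Lib.H5SiteApps
import Mathlib.CategoryTheory.Preadditive.Yoneda.Limits
import Mathlib.Algebra.Homology.ShortComplex.ExactFunctor

universe u

namespace Groth.Agent.H5LocExt
open CategoryTheory Limits Abelian Opposite MonoidalCategory
open Groth.Agent

/-- exact functors commute with right derived functors, objectwise -/
theorem rightDerived_comp_exact {A : Type*} [Category A] [Abelian A] [HasInjectiveResolutions A]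
    {B : Type*} [Category B] [Abelian B] {B' : Type*} [Category B'] [Abelian B']
    (T : A ⥤ B) [T.Additive] (Φ : B ⥤ B') [Φ.Additive] [Φ.PreservesHomology] (q : ℕ) (X : A) :
    Nonempty (((T ⋙ Φ).rightDerived q).obj X ≅ Φ.obj ((T.rightDerived q).obj X)) :=
  ⟨(injectiveResolution X).isoRightDerivedObj (T ⋙ Φ) q ≪≫
    (((T.mapHomologicalComplex (ComplexShape.up ℕ)).obj (injectiveResolution X).cocomplex).sc q).mapHomologyIso Φ ≪≫
    Φ.mapIso ((injectiveResolution X).isoRightDerivedObj T q).symm⟩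

variable {C : Type u} [SmallCategory C] {J : GrothendieckTopology C}

/-- the constant presheaf on a point -/
noncomputable abbrev pt : Cᵒᵖ ⥤ Type u := (Functor.const Cᵒᵖ).obj PUnit.{u + 1}

/-- it is a sheaf -/
noncomputable def ptSh (J : GrothendieckTopology C) : Sheaf J (Type u) :=
  ⟨pt, (isSheaf_iff_isSheaf_of_type _ _).2 fun _ _ _ _ _ =>
    ⟨PUnit.unit, fun _ _ _ => rfl, fun _ _ => rfl⟩⟩

/-- the constant sheaf of integers as a free sheaf -/
noncomputable def zIso (J : GrothendieckTopology C) :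
    (H5Flasque.L1 J).obj pt ≅ (constantSheaf J AddCommGrpCat.{u}).obj (AddCommGrpCat.of (ULift.{u} ℤ)) :=
  (presheafToSheaf J AddCommGrpCat.{u}).mapIso (NatIso.ofComponents
    (fun _ => AddEquiv.toAddCommGrpIso
      (X := AddCommGrpCat.free.{u}.obj PUnit.{u + 1}) (Y := AddCommGrpCat.of (ULift.{u} ℤ))
      ((FreeAbelianGroup.uniqueEquiv PUnit.{u + 1}).trans AddEquiv.ulift.symm))
    (fun {X Y} f => by
      have h : ((((Functor.whiskeringRight Cᵒᵖ (Type u) AddCommGrpCat).obj AddCommGrpCat.free).obj pt).map f) =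
          𝟙 (AddCommGrpCat.free.{u}.obj PUnit.{u + 1}) := AddCommGrpCat.free.{u}.map_id _
      rw [h]
      exact (Category.id_comp _).trans (Category.comp_id _).symm))

lemma acyc_const {F : Sheaf J AddCommGrpCat.{u}} (hF : CohCx.IsTotallyAcyclic F) (n : ℕ) :
    Subsingleton (Sheaf.H F (n + 1)) := by
  haveI : Subsingleton (Ext.{u} ((H5Flasque.L1 J).obj pt) F (n + 1)) := hF (ptSh J) n
  exact H5SiteCoh.subsingleton_retract (zIso J).inv (zIso J).hom (zIso J).inv_hom_id

variable (O : Sheaf J CommRingCat.{u}) (M : ModSite.Mod O) [ModSite.HasSheafHom M]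

omit [ModSite.HasSheafHom M] in
lemma ptIso_aux {V W : Cᵒᵖ} (g : V ⟶ W) :
    (Finsupp.uniqueLinearEquiv (O.obj.obj W) (O.obj.obj W) PUnit.unit.{u + 1})
        (Finsupp.single PUnit.unit.{u + 1} (1 : O.obj.obj W)) =
      (O.obj.map g).hom
        ((Finsupp.uniqueLinearEquiv (O.obj.obj V) (O.obj.obj V) PUnit.unit.{u + 1})
          (Finsupp.single PUnit.unit.{u + 1} (1 : O.obj.obj V))) := by
  simp

/-- the free module on a point tensored with `M` is `M` -/
noncomputable def ptIso : (H5Flasque.L O M).obj pt ≅ M :=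
  (H5ModTensor.sh O).mapIso
      (MonoidalCategory.whiskerRightIso (C := H5Flasque.PO O)
        ((PresheafOfModules.isoMk (fun V => (Finsupp.uniqueLinearEquiv (O.obj.obj V) (O.obj.obj V) PUnit.unit).toModuleIso)
          (fun V W g => by
            apply ModuleCat.free_hom_ext
            intro x
            refine Eq.trans ?_ (ptIso_aux O g)
            exact congrArg (Finsupp.uniqueLinearEquiv (O.obj.obj W) (O.obj.obj W) PUnit.unit)
              (ModuleCat.freeDesc_apply _ x))) :
          (PresheafOfModules.free (O.obj ⋙ forget₂ CommRingCat.{u} RingCat.{u})).obj pt ≅ 𝟙_ (H5Flasque.PO O))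
        ((SheafOfModules.forget (ModSite.ringSh O)).obj M) ≪≫
      MonoidalCategory.leftUnitor (C := H5Flasque.PO O) ((SheafOfModules.forget (ModSite.ringSh O)).obj M)) ≪≫
    (asIso (PresheafOfModules.sheafificationAdjunction.{u} (𝟙 (ModSite.ringSh O).obj)).counit).app M

lemma E_natR {K : Cᵒᵖ ⥤ Type u} {G G' : ModSite.Mod O} (g : G ⟶ G')
    (x : (H5Flasque.L1 J).obj K ⟶ ModSite.toAb ((ModSite.sheafHom M).obj G)) :
    H5Flasque.E O M G' K (x ≫ (SheafOfModules.toSheaf (ModSite.ringSh O)).map ((ModSite.sheafHom M).map g)) =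
      H5Flasque.E O M G K x ≫ g := by
  change ((H5Flasque.adjL O M).homEquiv K G').symm ((H5Flasque.adj1 J).homEquiv K
      (ModSite.toAb ((ModSite.sheafHom M).obj G')) (x ≫ (SheafOfModules.toSheaf (ModSite.ringSh O)).map ((ModSite.sheafHom M).map g))) =
    ((H5Flasque.adjL O M).homEquiv K G).symm ((H5Flasque.adj1 J).homEquiv K (ModSite.toAb ((ModSite.sheafHom M).obj G)) x) ≫ g
  let y : K ⟶ (H5Flasque.R O M).obj G := (H5Flasque.adj1 J).homEquiv K _ x
  have h : ((H5Flasque.adj1 J).homEquiv K _ (x ≫ (SheafOfModules.toSheaf (ModSite.ringSh O)).map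
      ((ModSite.sheafHom M).map g)) : K ⟶ (H5Flasque.R O M).obj G') = y ≫ (H5Flasque.R O M).map g :=
    (H5Flasque.adj1 J).homEquiv_naturality_right x _
  exact (congrArg ((H5Flasque.adjL O M).homEquiv K G').symm h).trans
    ((H5Flasque.adjL O M).homEquiv_naturality_right_symm y g)

/-- global sections of internal homs -/
noncomputable def homIso :
    (ModSite.sheafHom M ⋙ SheafOfModules.toSheaf (ModSite.ringSh O)) ⋙
        preadditiveCoyoneda.obj (op ((constantSheaf J AddCommGrpCat.{u}).obj (AddCommGrpCat.of (ULift.{u} ℤ)))) ≅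
      preadditiveCoyoneda.obj (op M) :=
  Functor.isoWhiskerLeft _ (preadditiveCoyoneda.mapIso (zIso J).op) ≪≫
    (NatIso.ofComponents (fun G => (H5Flasque.E O M G pt).toAddCommGrpIso) (fun {G G'} g => by
      refine ConcreteCategory.hom_ext _ _ fun x => ?_
      exact E_natR O M g x) :
      (ModSite.sheafHom M ⋙ SheafOfModules.toSheaf (ModSite.ringSh O)) ⋙
        preadditiveCoyoneda.obj (op ((H5Flasque.L1 J).obj pt)) ≅
      preadditiveCoyoneda.obj (op ((H5Flasque.L O M).obj pt))) ≪≫
    preadditiveCoyoneda.mapIso (ptIso O M).symm.op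

theorem localToGlobal_gen [HasInjectiveResolutions (ModSite.Mod O)] [HasExt.{u} (ModSite.Mod O)] (N : ModSite.Mod O) (z : AddCommGrpCat.{u}) (hz : IsZero z) :
    ∃ (E : E₂CohomologicalSpectralSequence AddCommGrpCat.{u})
      (a : SpSeq.Abutment E (fun n : ℤ =>
        if 0 ≤ n then AddCommGrpCat.of (Abelian.Ext.{u} M N n.toNat) else z)),
      (∀ n : ℤ, a.IsFinite n) ∧ SpSeq.IsBounded E ∧
      ∀ p q : ℤ, Nonempty ((E.page 2 le_rfl).X (p, q) ≅
        (if 0 ≤ p ∧ 0 ≤ q then AddCommGrpCat.of (ModSite.HC O ((ModSite.extSh M q.toNat).obj N) p.toNat)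
          else z)) := by
  let Z := (constantSheaf J AddCommGrpCat.{u}).obj (AddCommGrpCat.of (ULift.{u} ℤ))
  let S := preadditiveCoyoneda.obj (op Z)
  haveI : PreservesLimits S := preservesLimits_preadditiveCoyoneda_obj _
  haveI : PreservesFiniteLimits S := PreservesLimits.preservesFiniteLimits _
  haveI : PreservesFiniteLimits (SheafOfModules.toSheaf (ModSite.ringSh O)) := by
    haveI := H5ModFree.toSheaf_preservesLimits (ModSite.ringSh O); exact PreservesLimits.preservesFiniteLimits _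
  haveI : PreservesFiniteColimits (SheafOfModules.toSheaf (ModSite.ringSh O)) := by
    haveI := H5ModFree.toSheaf_preservesColimits (ModSite.ringSh O); exact PreservesColimits.preservesFiniteColimits _
  haveI : (SheafOfModules.toSheaf (ModSite.ringSh O)).Additive := Functor.additive_of_preserves_binary_products _
  obtain ⟨E, a, h1, h2, h3, h4⟩ := H5GrothSS.grothendieck
    (ModSite.sheafHom M ⋙ SheafOfModules.toSheaf (ModSite.ringSh O)) S
    (fun Q hQ q hq => by
      obtain ⟨m, rfl⟩ : ∃ m, q = m + 1 := ⟨q - 1, by omega⟩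
      exact (@AddCommGrpCat.isZero_of_subsingleton _
        (acyc_const (H5Flasque.isTotallyAcyclic_sheafHom O M Q) m)).of_iso
        (H5HomExt.nonempty_rightDerived_iso_ext Z _ (Iso.refl S) (m + 1)).some) N
    (fun n : ℤ => if 0 ≤ n then AddCommGrpCat.of (Abelian.Ext.{u} M N n.toNat) else z)
    (fun n hn => by rw [if_neg (by omega)]; exact hz)
    (fun n => ⟨(H5HomExt.nonempty_rightDerived_iso_ext M N (homIso O M) n).some ≪≫
      eqToIso (by rw [if_pos (Int.natCast_nonneg n), Int.toNat_natCast])⟩)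
  refine ⟨E, a, h1, h2, fun p q => ?_⟩
  by_cases h : 0 ≤ p ∧ 0 ≤ q
  · rw [if_pos h]
    obtain ⟨e₂⟩ := h4 p.toNat q.toNat
    rw [Int.toNat_of_nonneg h.1, Int.toNat_of_nonneg h.2] at e₂
    exact ⟨e₂ ≪≫ (S.rightDerived p.toNat).mapIso
      (rightDerived_comp_exact (ModSite.sheafHom M) (SheafOfModules.toSheaf (ModSite.ringSh O)) q.toNat N).some ≪≫
      (H5HomExt.nonempty_rightDerived_iso_ext _ _ (Iso.refl S) p.toNat).some⟩
  · rw [if_neg h]
    exact ⟨(h3 p q (by omega)).iso hz⟩

theorem localToGlobal [HasInjectiveResolutions (ModSite.Mod O)] [HasExt.{u} (ModSite.Mod O)] (N : ModSite.Mod O) :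
    ∃ (E : E₂CohomologicalSpectralSequence AddCommGrpCat.{u})
      (a : SpSeq.Abutment E (fun n : ℤ =>
        if 0 ≤ n then AddCommGrpCat.of (Abelian.Ext.{u} M N n.toNat) else AddCommGrpCat.of PUnit.{u + 1})),
      (∀ n : ℤ, a.IsFinite n) ∧ SpSeq.IsBounded E ∧
      ∀ p q : ℤ, Nonempty ((E.page 2 le_rfl).X (p, q) ≅
        (if 0 ≤ p ∧ 0 ≤ q then AddCommGrpCat.of (ModSite.HC O ((ModSite.extSh M q.toNat).obj N) p.toNat)
          else AddCommGrpCat.of PUnit.{u + 1})) :=
  localToGlobal_gen O M N _ (AddCommGrpCat.isZero_of_subsingleton _)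

end Groth.Agent.H5LocExt
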