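import Groth.Agent.Lib.H5HyperSite
import Groth.Agent.Lib.H5CechRes
import Groth.Agent.Lib.H5LocExt
import Groth.Prelude.Def_SpSeq
import Mathlib.Algebra.Homology.Double
import Mathlib.Algebra.Homology.GrothendieckAbelian
import Mathlib.Algebra.Homology.HomologicalComplexAbelian
import Mathlib.CategoryTheory.Abelian.Exact
import Mathlib.CategoryTheory.Sites.SheafCohomology.Basic
import Mathlib.Algebra.Category.Grp.ForgetCorepresentable
import Mathlib.Algebra.Category.Grp.ZModuleEquivalence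
import Mathlib.Algebra.Category.Grp.AB

universe u

namespace Groth.Agent.H5HyperSS
open CategoryTheory Limits Opposite Simplicial
open CategoryTheory.Abelian (Ext)
open Groth.Agent
set_option maxHeartbeats 600000

/-! ### derived functors of degree-zero cohomology on complexes -/
section cx
open HomologicalComplex

abbrev Cx := CochainComplex AddCommGrpCat.{u} ℕ
noncomputable abbrev ZZ : AddCommGrpCat.{u} := AddCommGrpCat.of (ULift.{u} ℤ)
noncomputable abbrev Z0 : Cx.{u} := (CochainComplex.single₀ AddCommGrpCat.{u}).obj ZZ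

lemma rel (n : ℕ) : (ComplexShape.up ℕ).Rel n (n + 1) := rfl

/-- disks -/
noncomputable abbrev D (n : ℕ) : Cx.{u} := HomologicalComplex.double (𝟙 ZZ.{u}) (rel n)

/-- disks represent evaluation -/
noncomputable def dEquiv (n : ℕ) (K : Cx.{u}) : K.X n ≃+ (D n ⟶ K) :=
  AddEquiv.symm
    { (evalCompCoyonedaCorepresentableByDoubleId (rel n) (by omega) ZZ.{u}).homEquiv.trans
        (AddCommGrpCat.uliftZMultiplesAddEquiv (K.X n)).toEquiv with
      map_add' := fun f g => by
        exact (congrArg (AddCommGrpCat.uliftZMultiplesAddEquiv (K.X n))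
          (Preadditive.comp_add _ _ _ (doubleXIso₀ (𝟙 ZZ) (rel n)).inv (f.f n) (g.f n))).trans
          (map_add (AddCommGrpCat.uliftZMultiplesAddEquiv (K.X n)) _ _) }

lemma dEquiv_symm (n : ℕ) {K : Cx.{u}} (f : D n ⟶ K) :
    (dEquiv n K).symm f = ((doubleXIso₀ _ (rel n)).inv ≫ f.f n).hom (ULift.up 1) := rfl

lemma dEquiv_symm_comp (n : ℕ) {K L : Cx.{u}} (f : D n ⟶ K) (g : K ⟶ L) :
    (dEquiv n L).symm (f ≫ g) = g.f n ((dEquiv n K).symm f) := rfl

/-- maps of disks -/
noncomputable def δD (n : ℕ) : D.{u} (n + 1) ⟶ D n :=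
  dEquiv (n + 1) (D n) ((D n).d n (n + 1) ((dEquiv n (D n)).symm (𝟙 _)))

lemma δD_comp (n : ℕ) (K : Cx.{u}) (x : K.X n) :
    dEquiv (n + 1) K (K.d n (n + 1) x) = δD n ≫ dEquiv n K x := by
  apply (dEquiv (n + 1) K).symm.injective
  rw [AddEquiv.symm_apply_apply, dEquiv_symm_comp, δD, AddEquiv.symm_apply_apply]
  refine Eq.trans ?_ (ConcreteCategory.congr_hom ((dEquiv n K x).comm n (n + 1)) _)
  refine congrArg (K.d n (n + 1)) ?_
  exact ((dEquiv_symm_comp n (𝟙 _) (dEquiv n K x)).symm.trans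
    ((congrArg _ (Category.id_comp _)).trans ((dEquiv n K).symm_apply_apply x))).symm

lemma δD_δD (n : ℕ) : δD.{u} (n + 1) ≫ δD n = 0 := by
  refine (δD_comp (n + 1) (D n) _).symm.trans ?_
  refine (congrArg (dEquiv (n + 1 + 1) (D n)) ?_).trans (map_zero _)
  exact ConcreteCategory.congr_hom ((D n).d_comp_d n (n + 1) (n + 2)) _

instance isIso_δD (n : ℕ) : IsIso ((δD.{u} n).f (n + 1)) := by
  have hd : (D.{u} n).d n (n + 1) = (doubleXIso₀ _ (rel n)).hom ≫ 𝟙 _ ≫ (doubleXIso₁ _ (rel n) (by omega)).inv :=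
    double_d _ _ (by omega)
  have h : (doubleXIso₀ _ (rel (n + 1))).inv ≫ (δD.{u} n).f (n + 1) = (doubleXIso₁ _ (rel n) (by omega)).inv := by
    apply (AddCommGrpCat.uliftZMultiplesAddEquiv _).injective
    refine ((dEquiv (n + 1) (D n)).symm_apply_apply _).trans ?_
    rw [hd, dEquiv_symm]
    simp
    rfl
  rw [← Iso.inv_comp_eq] at *
  have h' : (δD.{u} n).f (n + 1) = (doubleXIso₀ _ (rel (n + 1))).hom ≫ (doubleXIso₁ _ (rel n) (by omega)).inv := by
    rw [← h, Iso.hom_inv_id_assoc]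
  rw [h']
  infer_instance

lemma isZero_D (n k : ℕ) (h : k ≠ n) (h' : k ≠ n + 1) : IsZero ((D.{u} n).X k) :=
  isZero_double_X _ _ k h h'

/-- augmentation -/
noncomputable def εD : D.{u} 0 ⟶ Z0 := dEquiv 0 Z0 (ULift.up 1)

lemma δD_εD : δD.{u} 0 ≫ εD = 0 := by
  rw [εD, ← δD_comp]
  exact (congrArg (dEquiv 1 Z0) (ConcreteCategory.congr_hom (HomologicalComplex.single_obj_d _ _ _ _ _) _)).trans (map_zero _)

instance isIso_εD : IsIso (εD.{u}.f 0) := by
  have h : (doubleXIso₀ _ (rel 0)).inv ≫ εD.{u}.f 0 = 𝟙 ZZ := by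
    apply (AddCommGrpCat.uliftZMultiplesAddEquiv _).injective
    exact (dEquiv 0 Z0).symm_apply_apply _
  have h' : εD.{u}.f 0 = (doubleXIso₀ _ (rel 0)).hom := by
    rw [← Iso.hom_inv_id_assoc (doubleXIso₀ _ (rel 0)) (εD.{u}.f 0), h]
    exact Category.comp_id _
  rw [h']
  infer_instance

lemma projective_D (n : ℕ) : Projective (D.{u} n) where
  factors {K L} f π _ := by
    obtain ⟨x, hx⟩ := (AddCommGrpCat.epi_iff_surjective _).1 (show Epi (π.f n) from inferInstance) ((dEquiv n L).symm f)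
    refine ⟨dEquiv n K x, (dEquiv n L).symm.injective ?_⟩
    rw [dEquiv_symm_comp, AddEquiv.symm_apply_apply, hx]

lemma of_d (n : ℕ) : (ChainComplex.of D.{u} δD δD_δD).d (n + 1) n = δD n := by
  dsimp [ChainComplex.of]
  simp

/-- the resolution by disks -/
noncomputable def resD : ProjectiveResolution Z0.{u} where
  complex := ChainComplex.of D δD δD_δD
  projective := projective_D
  π := (ChainComplex.toSingle₀Equiv _ _).symm ⟨εD, (congrArg (fun t => t ≫ εD) (of_d 0)).trans δD_εD⟩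
  quasiIso := ⟨fun n => by
    cases n with
    | zero =>
      rw [ChainComplex.quasiIsoAt₀_iff, ShortComplex.quasiIso_iff_of_zeros']
      rotate_left
      · exact (ChainComplex.of D δD δD_δD).shape _ _ (by simp)
      · rfl
      · rfl
      have he : Epi εD.{u} := by
        apply HomologicalComplex.epi_of_epi_f
        intro k
        cases k with
        | zero => infer_instance
        | succ k => exact (HomologicalComplex.isZero_single_obj_X _ _ _ _ (by omega)).epi _
      refine ⟨?_, ?_⟩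
      · refine ShortComplex.exact_of_iso (S₁ := ShortComplex.mk (δD 0) εD δD_εD) ?_ ?_
        · exact ShortComplex.isoMk (Iso.refl _) (Iso.refl _) (Iso.refl _)
            ((Category.id_comp _).trans ((of_d 0).trans (Category.comp_id _).symm))
            ((Category.id_comp _).trans ((ChainComplex.toSingle₀Equiv_symm_apply_f_zero _ _).trans (Category.comp_id _).symm))
        · refine exact_of_degreewise_exact _ fun k => ?_
          rcases k with _ | _ | k
          · refine (ShortComplex.exact_iff_mono _ ?_).2 ?_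
            · exact (isZero_D 1 0 (by omega) (by omega)).eq_of_src _ _
            · exact inferInstanceAs (Mono (εD.f 0))
          · refine (ShortComplex.exact_iff_epi _ ?_).2 ?_
            · exact (HomologicalComplex.isZero_single_obj_X _ _ _ _ (by omega)).eq_of_tgt _ _
            · exact inferInstanceAs (Epi ((δD 0).f 1))
          · exact ShortComplex.exact_of_isZero_X₂ _ (isZero_D 0 (k + 2) (by omega) (by omega))
      · simp
        exact he
    | succ m =>
      rw [quasiIsoAt_iff_exactAt' _ _ (ChainComplex.exactAt_succ_single_obj _ m),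
        HomologicalComplex.exactAt_iff' _ (m + 2) (m + 1) m (by simp) (by simp)]
      refine ShortComplex.exact_of_iso (S₁ := ShortComplex.mk (δD (m + 1)) (δD m) (δD_δD m))
        (ShortComplex.isoMk (Iso.refl _) (Iso.refl _) (Iso.refl _)
          ((Category.id_comp _).trans ((of_d (m + 1)).trans (Category.comp_id _).symm))
          ((Category.id_comp _).trans ((of_d m).trans (Category.comp_id _).symm))) ?_
      refine exact_of_degreewise_exact _ fun k => ?_
      by_cases h1 : k = m + 1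
      · subst h1
        refine (ShortComplex.exact_iff_mono _ ?_).2 ?_
        · exact (isZero_D (m + 2) (m + 1) (by omega) (by omega)).eq_of_src _ _
        · exact inferInstanceAs (Mono ((δD m).f (m + 1)))
      by_cases h2 : k = m + 2
      · subst h2
        refine (ShortComplex.exact_iff_epi _ ?_).2 ?_
        · exact (isZero_D m (m + 2) (by omega) (by omega)).eq_of_tgt _ _
        · exact inferInstanceAs (Epi ((δD (m + 1)).f (m + 2)))
      exact ShortComplex.exact_of_isZero_X₂ _ (isZero_D (m + 1) k h1 h2)⟩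

theorem ext_iso_homology [HasExt.{u} Cx.{u}] (K : Cx.{u}) (n : ℕ) :
    Nonempty (K.homology n ≅ AddCommGrpCat.of (Ext.{u} Z0 K n)) :=
  H5CechRes.homology_iso_ext resD K (fun m => dEquiv m K) (fun m x => by
    exact (δD_comp m K x).trans (congrArg (fun t => t ≫ dEquiv m K x) (of_d m).symm)) n

end cx

/-! ### maps out of free objects -/
section theta
variable {C : Type u} [SmallCategory C] {J : GrothendieckTopology C}

/-- free presheaves on formal coproducts -/
noncomputable abbrev PfF : FormalCoproduct.{u} C ⥤ Cᵒᵖ ⥤ AddCommGrpCat.{u} :=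
  FormalCoproduct.yoneda ⋙ (Functor.whiskeringRight _ _ _).obj AddCommGrpCat.free.{u}

/-- values on formal coproducts -/
noncomputable abbrev evF (P : Cᵒᵖ ⥤ AddCommGrpCat.{u}) : (FormalCoproduct.{u} C)ᵒᵖ ⥤ AddCommGrpCat.{u} :=
  (FormalCoproduct.evalOp.{u} C AddCommGrpCat.{u}).obj P

/-- generators -/
noncomputable def gen (X : FormalCoproduct.{u} C) (i : X.I) : (FormalCoproduct.yoneda.obj X).obj (op (X.obj i)) :=
  (Sigma.ι (fun i => yoneda.obj (X.obj i)) i).app (op (X.obj i)) (𝟙 _)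

lemma gen_res (X : FormalCoproduct.{u} C) (i : X.I) (V : Cᵒᵖ) (g : V.unop ⟶ X.obj i) :
    (FormalCoproduct.yoneda.obj X).map g.op (gen X i) = (Sigma.ι (fun i => yoneda.obj (X.obj i)) i).app V g :=
  (NatTrans.naturality_apply (Sigma.ι (fun i => yoneda.obj (X.obj i)) i) g.op (𝟙 (X.obj i) : (yoneda.obj (X.obj i)).obj (op (X.obj i)))).symm.trans
    (congrArg (fun t : V.unop ⟶ X.obj i => (Sigma.ι (fun i => yoneda.obj (X.obj i)) i).app V t) (Category.comp_id g))

variable {P : Cᵒᵖ ⥤ AddCommGrpCat.{u}}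

lemma hom_ext_gen {X : FormalCoproduct.{u} C} {f f' : PfF.obj X ⟶ P}
    (h : ∀ i, f.app (op (X.obj i)) (FreeAbelianGroup.of (gen X i)) = f'.app (op (X.obj i)) (FreeAbelianGroup.of (gen X i))) :
    f = f' := by
  apply NatTrans.ext
  funext V
  apply AddCommGrpCat.hom_ext
  apply FreeAbelianGroup.lift_ext
  intro s
  let c := ((evaluation Cᵒᵖ (Type u)).obj V).mapCocone (colimit.cocone (Discrete.functor fun i : X.I => yoneda.obj (X.obj i)))
  have hc : IsColimit c := isColimitOfPreserves _ (colimit.isColimit _)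
  obtain ⟨⟨i⟩, g, rfl⟩ := Types.jointly_surjective_of_isColimit hc s
  have hs : (PfF.obj X).map g.op (FreeAbelianGroup.of (gen X i)) =
      FreeAbelianGroup.of ((Sigma.ι (fun i => yoneda.obj (X.obj i)) i).app V g) :=
    congrArg FreeAbelianGroup.of (gen_res X i V g)
  change f.app V (FreeAbelianGroup.of ((Sigma.ι (fun i => yoneda.obj (X.obj i)) i).app V g)) =
    f'.app V (FreeAbelianGroup.of ((Sigma.ι (fun i => yoneda.obj (X.obj i)) i).app V g))
  exact (congrArg (f.app V) hs.symm).trans ((NatTrans.naturality_apply f g.op _).trans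
    ((congrArg (P.map g.op) (h i)).trans
      ((NatTrans.naturality_apply f' g.op _).symm.trans (congrArg (f'.app V) hs))))

/-- a coordinate -/
noncomputable def coord (P : Cᵒᵖ ⥤ AddCommGrpCat.{u}) {X : FormalCoproduct.{u} C} (i : X.I) :
    (evF P).obj (op X) →+ P.obj (op (X.obj i)) :=
  (Pi.π (fun i : X.I => P.obj (op (X.obj i))) i).hom

lemma coord_ext {X : FormalCoproduct.{u} C} {x y : (evF P).obj (op X)} (h : ∀ i, coord P i x = coord P i y) : x = y :=
  Concrete.limit_ext (F := Discrete.functor (fun i : X.I => P.obj (op (X.obj i)))) x y (fun t => h t.as)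

lemma coord_map {X Y : FormalCoproduct.{u} C} (f : X ⟶ Y) (y : (evF P).obj (op Y)) (i : X.I) :
    coord P i ((evF P).map f.op y) = P.map (f.φ i).op (coord P (f.f i) y) :=
  ConcreteCategory.congr_hom (Pi.lift_π (fun i : X.I => Pi.π (fun j : Y.I => P.obj (op (Y.obj j))) (f.f i) ≫ P.map (f.φ i).op) i) y

lemma coord_app {P' : Cᵒᵖ ⥤ AddCommGrpCat.{u}} (g : P ⟶ P') {X : FormalCoproduct.{u} C} (y : (evF P).obj (op X)) (i : X.I) :
    coord P' i (((FormalCoproduct.evalOp C AddCommGrpCat.{u}).map g).app (op X) y) = g.app _ (coord P i y) :=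
  ConcreteCategory.congr_hom (Pi.map_π (fun i : X.I => g.app (op (X.obj i))) i) y

/-- evaluation at generators -/
noncomputable def θhom (P : Cᵒᵖ ⥤ AddCommGrpCat.{u}) (X : FormalCoproduct.{u} C) (f : PfF.obj X ⟶ P) :
    (evF P).obj (op X) :=
  (Concrete.productEquiv (fun i : X.I => P.obj (op (X.obj i)))).symm
    (fun i => f.app (op (X.obj i)) (FreeAbelianGroup.of (gen X i)))

lemma coord_θ {X : FormalCoproduct.{u} C} (f : PfF.obj X ⟶ P) (i : X.I) :
    coord P i (θhom P X f) = f.app (op (X.obj i)) (FreeAbelianGroup.of (gen X i)) :=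
  Concrete.productEquiv_symm_apply_π _ _ i

lemma θ_bijective (P : Cᵒᵖ ⥤ AddCommGrpCat.{u}) (X : FormalCoproduct.{u} C) : Function.Bijective (θhom P X) := by
  refine ⟨fun f f' h => hom_ext_gen fun i => ?_, fun x => ?_⟩
  · exact (coord_θ f i).symm.trans ((congrArg (coord P i) h).trans (coord_θ f' i))
  · let y : ∀ i, yoneda.obj (X.obj i) ⟶ P ⋙ forget AddCommGrpCat.{u} :=
      fun i => yonedaEquiv.symm (coord P i x : (P ⋙ forget AddCommGrpCat.{u}).obj (op (X.obj i)))
    let φ : FormalCoproduct.yoneda.obj X ⟶ P ⋙ forget AddCommGrpCat.{u} := Sigma.desc y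
    refine ⟨((AddCommGrpCat.adj.{u}.whiskerRight Cᵒᵖ).homEquiv _ P).symm φ, coord_ext fun i => ?_⟩
    refine (coord_θ _ i).trans ((FreeAbelianGroup.lift_apply_of _ _).trans ?_)
    exact (ConcreteCategory.congr_hom (congr_app (Sigma.ι_desc y i) (op (X.obj i))) (𝟙 (X.obj i) : (yoneda.obj (X.obj i)).obj (op (X.obj i)))).trans
      (Equiv.apply_symm_apply (yonedaEquiv (X := X.obj i) (F := P ⋙ forget AddCommGrpCat.{u})) (coord P i x))

lemma θ_add {X : FormalCoproduct.{u} C} (f f' : PfF.obj X ⟶ P) : θhom P X (f + f') = θhom P X f + θhom P X f' :=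
  coord_ext fun i => by rw [map_add, coord_θ, coord_θ, coord_θ]; rfl

/-- maps out of free presheaves -/
noncomputable def θ (P : Cᵒᵖ ⥤ AddCommGrpCat.{u}) (X : FormalCoproduct.{u} C) : (PfF.obj X ⟶ P) ≃+ (evF P).obj (op X) :=
  AddEquiv.ofBijective (AddMonoidHom.mk' (θhom P X) θ_add) (θ_bijective P X)

lemma gen_map {X Y : FormalCoproduct.{u} C} (f : X ⟶ Y) (i : X.I) :
    (FormalCoproduct.yoneda.map f).app (op (X.obj i)) (gen X i) =
      (FormalCoproduct.yoneda.obj Y).map (f.φ i).op (gen Y (f.f i)) := by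
  refine Eq.trans ?_ (gen_res Y (f.f i) (op (X.obj i)) (f.φ i)).symm
  refine (ConcreteCategory.congr_hom (congr_app (Sigma.ι_desc
    (fun i => yoneda.map (f.φ i) ≫ Sigma.ι (yoneda.obj ∘ Y.obj) (f.f i)) i) (op (X.obj i)))
    (𝟙 (X.obj i) : (yoneda.obj (X.obj i)).obj (op (X.obj i)))).trans ?_
  exact congrArg (fun t : X.obj i ⟶ Y.obj (f.f i) => (Sigma.ι (yoneda.obj ∘ Y.obj) (f.f i)).app (op (X.obj i)) t) (Category.id_comp (f.φ i))

lemma θ_comp {P' : Cᵒᵖ ⥤ AddCommGrpCat.{u}} {X : FormalCoproduct.{u} C} (h : PfF.obj X ⟶ P) (g : P ⟶ P') :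
    θ P' X (h ≫ g) = ((FormalCoproduct.evalOp C AddCommGrpCat.{u}).map g).app (op X) (θ P X h) :=
  coord_ext fun i => (coord_θ _ i).trans ((congrArg (g.app _) (coord_θ h i).symm).trans (coord_app g _ i).symm)

lemma θ_map {X Y : FormalCoproduct.{u} C} (f : X ⟶ Y) (h : PfF.obj Y ⟶ P) :
    θ P X (PfF.map f ≫ h) = (evF P).map f.op (θ P Y h) :=
  coord_ext fun i => by
    refine (coord_θ _ i).trans ((congrArg (h.app _) (congrArg FreeAbelianGroup.of (gen_map f i))).trans ?_)
    refine (NatTrans.naturality_apply h (f.φ i).op (FreeAbelianGroup.of (gen Y (f.f i)))).trans ?_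
    exact (congrArg (P.map (f.φ i).op) (coord_θ h (f.f i)).symm).trans (coord_map f _ i).symm

variable (J)

/-- maps out of free sheaves -/
noncomputable def Θ (X : FormalCoproduct.{u} C) (G : Sheaf J AddCommGrpCat.{u}) :
    ((presheafToSheaf J AddCommGrpCat.{u}).obj (PfF.obj X) ⟶ G) ≃+ (evF G.obj).obj (op X) :=
  ((sheafificationAdjunction J AddCommGrpCat.{u}).homAddEquiv (PfF.obj X) G).trans (θ G.obj X)

lemma Θ_comp {G G' : Sheaf J AddCommGrpCat.{u}} (X : FormalCoproduct.{u} C)
    (h : (presheafToSheaf J AddCommGrpCat.{u}).obj (PfF.obj X) ⟶ G) (g : G ⟶ G') :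
    Θ J X G' (h ≫ g) = ((FormalCoproduct.evalOp C AddCommGrpCat.{u}).map g.hom).app (op X) (Θ J X G h) :=
  (congrArg (θ G'.obj X) ((sheafificationAdjunction J AddCommGrpCat.{u}).homEquiv_naturality_right h g)).trans
    (θ_comp _ g.hom)

lemma Θ_map {G : Sheaf J AddCommGrpCat.{u}} {X Y : FormalCoproduct.{u} C} (f : X ⟶ Y)
    (h : (presheafToSheaf J AddCommGrpCat.{u}).obj (PfF.obj Y) ⟶ G) :
    Θ J X G ((presheafToSheaf J AddCommGrpCat.{u}).map (PfF.map f) ≫ h) = (evF G.obj).map f.op (Θ J Y G h) :=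
  (congrArg (θ G.obj X) ((sheafificationAdjunction J AddCommGrpCat.{u}).homEquiv_naturality_left (PfF.map f) h)).trans
    (θ_map f _)

variable (K : SimplicialObject (FormalCoproduct.{u} C))

/-- maps out of the free complex are cochains -/
noncomputable def ΘK (n : ℕ) (G : Sheaf J AddCommGrpCat.{u}) :
    ((Hyper.freeChainCx J K).X n ⟶ G) ≃+ (Hyper.cechCxSite K G.obj).X n :=
  Θ J (K.obj (op (SimplexCategory.mk n))) G

lemma ΘK_comp (n : ℕ) {G G' : Sheaf J AddCommGrpCat.{u}} (h : (Hyper.freeChainCx J K).X n ⟶ G) (g : G ⟶ G') :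
    ΘK J K n G' (h ≫ g) = ((FormalCoproduct.cochainComplexFunctor K).map g.hom).f n (ΘK J K n G h) :=
  Θ_comp J _ h g

lemma ΘK_d (n : ℕ) {G : Sheaf J AddCommGrpCat.{u}} (h : (Hyper.freeChainCx J K).X n ⟶ G) :
    ΘK J K (n + 1) G ((Hyper.freeChainCx J K).d (n + 1) n ≫ h) = (Hyper.cechCxSite K G.obj).d n (n + 1) (ΘK J K n G h) := by
  have hd : (Hyper.cechCxSite K G.obj).d n (n + 1) = AlgebraicTopology.AlternatingCofaceMapComplex.objD
      ((FormalCoproduct.cosimplicialObjectFunctor K).obj G.obj) n := by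
    simp only [Hyper.cechCxSite, FormalCoproduct.cochainComplexFunctor, Functor.comp_obj]
    dsimp [AlgebraicTopology.alternatingCofaceMapComplex, AlgebraicTopology.AlternatingCofaceMapComplex.obj, CochainComplex.of]
    rw [CochainComplex.of_d]
    rfl
  have hd' : (Hyper.freeChainCx J K).d (n + 1) n =
      AlgebraicTopology.AlternatingFaceMapComplex.objD (Hyper.freeSimplicialSheaf J K) n :=
    AlgebraicTopology.AlternatingFaceMapComplex.obj_d_eq _ _
  rw [hd, hd']
  refine (congrArg (fun t => ΘK J K (n + 1) G t) (Preadditive.sum_comp _ _ _)).trans ?_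
  rw [map_sum]
  refine Eq.trans ?_ (ConcreteCategory.congr_hom (Eq.refl (AlgebraicTopology.AlternatingCofaceMapComplex.objD
      ((FormalCoproduct.cosimplicialObjectFunctor K).obj G.obj) n)) _)
  change _ = H5Cech.homAdd _ _ (∑ j : Fin (n + 2), _) _
  erw [map_sum, AddMonoidHom.finsetSum_apply]
  refine Finset.sum_congr rfl fun j _ => ?_
  erw [Preadditive.zsmul_comp, map_zsmul, map_zsmul]
  rw [AddMonoidHom.smul_apply]
  congr 1
  exact Θ_map J (K.δ j) h

end theta

/-! ### consequences for hypercoverings -/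
section main
variable {C : Type u} [SmallCategory C] (J : GrothendieckTopology C) (K : SimplicialObject (FormalCoproduct.{u} C))

/-- the free complex resolves the constant sheaf -/
def Resolves : Prop :=
  (∀ n : ℕ, IsZero ((Hyper.freeChainCx J K).homology (n + 1))) ∧
    Nonempty ((Hyper.freeChainCx J K).homology 0 ≅ (constantSheaf J AddCommGrpCat.{u}).obj (AddCommGrpCat.of (ULift.{u} ℤ)))

theorem resolves_of_lfill (hX : H5HyperFree.LFill J (H5HyperSite.sX K)) : Resolves J K := by
  let S := presheafToSheaf J AddCommGrpCat.{u}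
  let P := (S.mapHomologicalComplex (ComplexShape.down ℕ)).obj (H5HyperFree.FC (H5HyperSite.sX K))
  refine ⟨fun n => ?_, ?_⟩
  · exact ((HomologicalComplex.exactAt_iff_isZero_homology _ _).1 (H5HyperFree.exactAt_sheafify hX n)).of_iso
      ((HomologicalComplex.homologyFunctor _ _ (n + 1)).mapIso (H5HyperSite.freeIso J K))
  · have h1 := H5HyperFree.exact_deg hX
    have h2 := H5HyperFree.epi_deg hX
    haveI : Epi ((ShortComplex.mk _ _ (H5HyperFree.d_deg (X := H5HyperSite.sX K))).map S).g := h2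
    exact ⟨(HomologicalComplex.homologyFunctor _ _ 0).mapIso (H5HyperSite.freeIso J K) ≪≫
      (ChainComplex.isoHomologyι₀ P ≪≫ (P.opcyclesIsCokernel 1 0 (by simp)).coconePointUniqueUpToIso h1.gIsCokernel)⟩

theorem resolves [∀ (n : ℕ) (F : (SimplexCategory.Truncated n)ᵒᵖ ⥤ FormalCoproduct.{u} C),
      (SimplexCategory.Truncated.inclusion n).op.HasRightKanExtension F] {K}
    (hK : Hyper.IsHypercoveringSite J K) : Resolves J K :=
  H5HyperSite.freeChainCx_resolution J hK

noncomputable abbrev Φ : (Cᵒᵖ ⥤ AddCommGrpCat.{u}) ⥤ Cx.{u} := FormalCoproduct.cochainComplexFunctor K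

lemma Φ_additive : (Φ K).Additive :=
  ⟨fun {P P' f g} => by
    apply HomologicalComplex.Hom.ext
    funext n
    refine ConcreteCategory.hom_ext _ _ fun x => coord_ext fun i => ?_
    refine (coord_app (f + g) x i).trans (Eq.trans ?_ (map_add (coord P' i) _ _).symm)
    exact congrArg₂ (· + ·) (coord_app f x i).symm (coord_app g x i).symm⟩

lemma Φ_preservesHomology : haveI := Φ_additive K; (Φ K).PreservesHomology := by
  haveI := Φ_additive K
  refine Functor.preservesHomology_of_map_exact _ fun S hS => ?_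
  refine HomologicalComplex.exact_of_degreewise_exact _ fun n => ?_
  rw [ShortComplex.ab_exact_iff]
  intro x hx
  have h : ∀ i, ∃ y, S.f.app (op ((K.obj (op (SimplexCategory.mk n))).obj i)) y = coord S.X₂ i x := fun i => by
    refine (ShortComplex.ab_exact_iff _).1 (hS.map ((evaluation Cᵒᵖ AddCommGrpCat.{u}).obj _)) (coord S.X₂ i x) ?_
    exact (coord_app S.g x i).symm.trans ((congrArg (coord S.X₃ i) hx).trans (map_zero _))
  choose y hy using h
  refine ⟨(Concrete.productEquiv (fun i => S.X₁.obj (op ((K.obj (op (SimplexCategory.mk n))).obj i)))).symm y, coord_ext fun i => ?_⟩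
  refine (coord_app S.f _ i).trans ?_
  exact (congrArg (S.f.app _) (Concrete.productEquiv_symm_apply_π _ y i)).trans (hy i)

variable {K}

theorem injective_vanishing (hR : Resolves J K) (I : Sheaf J AddCommGrpCat.{u}) [Injective I] (p : ℕ) :
    IsZero ((Hyper.cechCxSite K I.obj).homology (p + 1)) := by
  rw [← HomologicalComplex.exactAt_iff_isZero_homology, HomologicalComplex.exactAt_iff' _ p (p + 1) (p + 2) (by simp) (by simp),
    ShortComplex.ab_exact_iff]
  intro x hx
  have hE : ((Hyper.freeChainCx J K).sc' (p + 2) (p + 1) p).Exact :=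
    (HomologicalComplex.exactAt_iff' _ (p + 2) (p + 1) p (by simp) (by simp)).1
      ((HomologicalComplex.exactAt_iff_isZero_homology _ _).2 (hR.1 p))
  let f := (ΘK J K (p + 1) I).symm x
  have hf : ((Hyper.freeChainCx J K).sc' (p + 2) (p + 1) p).f ≫ f = 0 :=
    (ΘK J K (p + 2) I).injective ((ΘK_d J K (p + 1) f).trans
      ((congrArg ((Hyper.cechCxSite K I.obj).d (p + 1) (p + 2)) ((ΘK J K (p + 1) I).apply_symm_apply x)).trans
        (hx.trans (map_zero (ΘK J K (p + 2) I)).symm)))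
  refine ⟨ΘK J K p I (hE.descToInjective f hf), ?_⟩
  exact (ΘK_d J K p _).symm.trans ((congrArg (ΘK J K (p + 1) I) (hE.comp_descToInjective f hf)).trans
    ((ΘK J K (p + 1) I).apply_symm_apply x))

/-- maps out of a complex in degree zero -/
lemma single_hom_ext {L : Cx.{u}} {φ φ' : Z0 ⟶ L}
    (h : φ.f 0 (ULift.up 1) = φ'.f 0 (ULift.up 1)) : φ = φ' :=
  (CochainComplex.fromSingle₀Equiv L ZZ).injective (Subtype.ext ((AddCommGrpCat.uliftZMultiplesAddEquiv _).injective h))

variable (K)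

/-- the coinvariants -/
noncomputable abbrev Q : Sheaf J AddCommGrpCat.{u} := (Hyper.freeChainCx J K).opcycles 0

lemma toZ_cycle (G : Sheaf J AddCommGrpCat.{u}) (c : Q J K ⟶ G) :
    (AddCommGrpCat.uliftZMultiplesAddEquiv _).symm (ΘK J K 0 G ((Hyper.freeChainCx J K).pOpcycles 0 ≫ c)) ≫
      (Hyper.cechCxSite K G.obj).d 0 1 = 0 := by
  apply (AddCommGrpCat.uliftZMultiplesAddEquiv _).injective
  rw [map_zero]
  refine (congrArg ((Hyper.cechCxSite K G.obj).d 0 1)
    ((AddCommGrpCat.uliftZMultiplesAddEquiv _).apply_symm_apply _)).trans ?_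
  refine (ΘK_d J K 0 _).symm.trans ?_
  rw [HomologicalComplex.d_pOpcycles_assoc, zero_comp, map_zero]

/-- degree zero cocycles -/
noncomputable def toZ (G : Sheaf J AddCommGrpCat.{u}) (c : Q J K ⟶ G) : Z0 ⟶ Hyper.cechCxSite K G.obj :=
  (CochainComplex.fromSingle₀Equiv _ _).symm ⟨_, toZ_cycle J K G c⟩

lemma toZ_apply (G : Sheaf J AddCommGrpCat.{u}) (c : Q J K ⟶ G) :
    (toZ J K G c).f 0 (ULift.up 1) = ΘK J K 0 G ((Hyper.freeChainCx J K).pOpcycles 0 ≫ c) :=
  (congrArg (AddCommGrpCat.uliftZMultiplesAddEquiv ((Hyper.cechCxSite K G.obj).X 0))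
    (CochainComplex.fromSingle₀Equiv_symm_apply_f_zero (C := Hyper.cechCxSite K G.obj) (X := ZZ) _ (toZ_cycle J K G c))).trans
    ((AddCommGrpCat.uliftZMultiplesAddEquiv _).apply_symm_apply _)

/-- degree zero cocycles are maps out of the coinvariants -/
noncomputable def zEquiv (G : Sheaf J AddCommGrpCat.{u}) : (Q J K ⟶ G) ≃+ (Z0 ⟶ Hyper.cechCxSite K G.obj) :=
  AddEquiv.ofBijective (AddMonoidHom.mk' (toZ J K G) (fun c c' => single_hom_ext (by
      refine (toZ_apply J K G _).trans ?_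
      rw [Preadditive.comp_add, map_add]
      exact congrArg₂ (· + ·) (toZ_apply J K G c).symm (toZ_apply J K G c').symm)))
    ⟨fun c c' h => by
      rw [← cancel_epi ((Hyper.freeChainCx J K).pOpcycles 0)]
      exact (ΘK J K 0 G).injective ((toZ_apply J K G c).symm.trans
        ((congrArg (fun φ : Z0 ⟶ Hyper.cechCxSite K G.obj => φ.f 0 (ULift.up 1)) h).trans (toZ_apply J K G c'))),
    fun φ => by
      let x := φ.f 0 (ULift.up 1)
      have hx : (Hyper.cechCxSite K G.obj).d 0 1 x = 0 :=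
        ConcreteCategory.congr_hom (((CochainComplex.fromSingle₀Equiv _ _) φ).2) (ULift.up 1)
      have hf : (Hyper.freeChainCx J K).d 1 0 ≫ (ΘK J K 0 G).symm x = 0 := (ΘK J K 1 G).injective
        ((ΘK_d J K 0 _).trans ((congrArg ((Hyper.cechCxSite K G.obj).d 0 1) ((ΘK J K 0 G).apply_symm_apply x)).trans
          (hx.trans (map_zero (ΘK J K 1 G)).symm)))
      refine ⟨(Hyper.freeChainCx J K).descOpcycles _ 1 (by simp) hf, single_hom_ext ((toZ_apply J K G _).trans ?_)⟩
      rw [HomologicalComplex.p_descOpcycles]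
      exact (ΘK J K 0 G).apply_symm_apply x⟩

/-- degree zero cocycles, naturally -/
noncomputable def zIso :
    (sheafToPresheaf J AddCommGrpCat.{u} ⋙ Φ K) ⋙ preadditiveCoyoneda.obj (op Z0) ≅
      preadditiveCoyoneda.obj (op (Q J K)) :=
  NatIso.ofComponents (fun G => (zEquiv J K G).symm.toAddCommGrpIso) (fun {G G'} g => by
    refine ConcreteCategory.hom_ext _ _ fun φ => ?_
    obtain ⟨c, rfl⟩ := (zEquiv J K G).surjective φ
    change (zEquiv J K G').symm (zEquiv J K G c ≫ (Φ K).map g.hom) = (zEquiv J K G).symm (zEquiv J K G c) ≫ g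
    rw [AddEquiv.symm_apply_apply, AddEquiv.symm_apply_eq]
    refine single_hom_ext (Eq.trans ?_ (toZ_apply J K G' _).symm)
    refine (congrArg (((Φ K).map g.hom).f 0) (toZ_apply J K G c)).trans ?_
    exact (ΘK_comp J K 0 _ g).symm.trans (congrArg (ΘK J K 0 G') (Category.assoc _ _ _)))

variable {K}

/-- the coinvariants of a hypercovering are constant -/
theorem Q_iso (hR : Resolves J K) :
    Nonempty (Q J K ≅ (constantSheaf J AddCommGrpCat.{u}).obj ZZ) :=
  ⟨(Hyper.freeChainCx J K).isoHomologyι₀.symm ≪≫ hR.2.some⟩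

theorem homology_zero (hR : Resolves J K) (F : Sheaf J AddCommGrpCat.{u}) :
    Nonempty ((Hyper.cechCxSite K F.obj).homology 0 ≅ limit F.obj) := by
  obtain ⟨e⟩ := ext_iso_homology (Hyper.cechCxSite K F.obj) 0
  obtain ⟨q⟩ := Q_iso J hR
  let a : (Z0 ⟶ Hyper.cechCxSite K F.obj) ≃+ ((constantSheaf J AddCommGrpCat.{u}).obj ZZ ⟶ F) :=
    (zEquiv J K F).symm.trans
      ((preadditiveCoyoneda.mapIso q.symm.op).app F).addCommGroupIsoToAddEquiv
  let b : ((constantSheaf J AddCommGrpCat.{u}).obj ZZ ⟶ F) ≃+ (ZZ ⟶ limit F.obj) :=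
    ((sheafificationAdjunction J AddCommGrpCat.{u}).homAddEquiv _ F).trans
      ((constLimAdj (J := Cᵒᵖ) (C := AddCommGrpCat.{u})).homAddEquiv ZZ F.obj)
  exact ⟨e ≪≫ ((Abelian.Ext.addEquiv₀.trans a).trans (b.trans (AddCommGrpCat.uliftZMultiplesAddEquiv _))).toAddCommGrpIso⟩

theorem spectralSequence (hR : Resolves J K) (F : Sheaf J AddCommGrpCat.{u}) :
    ∃ (E : E₂CohomologicalSpectralSequence AddCommGrpCat.{u})
      (a : SpSeq.Abutment E (fun n : ℤ => if 0 ≤ n then AddCommGrpCat.of (Sheaf.H F n.toNat) else AddCommGrpCat.of PUnit.{u + 1})),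
      (∀ n, a.IsFinite n) ∧ SpSeq.IsBounded E ∧
      ∀ p q : ℤ, Nonempty ((E.page 2 le_rfl).X (p, q) ≅
        (if 0 ≤ p ∧ 0 ≤ q then (Hyper.cechCxSite K (Sheaf.cohomologyPresheaf F q.toNat)).homology p.toNat
         else AddCommGrpCat.of PUnit.{u + 1})) := by
  haveI := Φ_additive K
  haveI := Φ_preservesHomology K
  let S := preadditiveCoyoneda.obj (op Z0.{u})
  have : PreservesLimits S := preservesLimits_preadditiveCoyoneda_obj _
  have : PreservesFiniteLimits S := PreservesLimits.preservesFiniteLimits _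
  obtain ⟨qi⟩ := Q_iso J hR
  have rS : ∀ (n : ℕ) (L : Cx.{u}), Nonempty ((S.rightDerived n).obj L ≅ L.homology n) := fun n L =>
    ⟨(H5HomExt.nonempty_rightDerived_iso_ext _ L (Iso.refl S) n).some ≪≫ (ext_iso_homology L n).some.symm⟩
  let eH : (sheafToPresheaf J AddCommGrpCat.{u} ⋙ Φ K) ⋙ S ≅
      preadditiveCoyoneda.obj (op ((constantSheaf J AddCommGrpCat.{u}).obj ZZ)) :=
    zIso J K ≪≫ preadditiveCoyoneda.mapIso qi.symm.op
  obtain ⟨E, a, h1, h2, h3, h4⟩ := H5GrothSS.grothendieck (sheafToPresheaf J AddCommGrpCat.{u} ⋙ Φ K) S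
    (fun I hI q hq => by
      obtain ⟨m, rfl⟩ : ∃ m, q = m + 1 := ⟨q - 1, by omega⟩
      exact (injective_vanishing J hR I m).of_iso (rS (m + 1) _).some) F
    (fun n : ℤ => if 0 ≤ n then AddCommGrpCat.of (Sheaf.H F n.toNat) else AddCommGrpCat.of PUnit.{u + 1})
    (fun n hn => by rw [if_neg (by omega)]; exact AddCommGrpCat.isZero_of_subsingleton _)
    (fun n => ⟨(H5HomExt.nonempty_rightDerived_iso_ext _ F eH n).some ≪≫
      eqToIso (by rw [if_pos (Int.natCast_nonneg n), Int.toNat_natCast])⟩)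
  refine ⟨E, a, h1, h2, fun p q => ?_⟩
  by_cases h : 0 ≤ p ∧ 0 ≤ q
  · rw [if_pos h]
    obtain ⟨e₂⟩ := h4 p.toNat q.toNat
    rw [Int.toNat_of_nonneg h.1, Int.toNat_of_nonneg h.2] at e₂
    exact ⟨e₂ ≪≫ (rS p.toNat _).some ≪≫ (HomologicalComplex.homologyFunctor _ _ p.toNat).mapIso
      ((H5LocExt.rightDerived_comp_exact (sheafToPresheaf J AddCommGrpCat.{u}) (Φ K) q.toNat F).some ≪≫
        (Φ K).mapIso (H5CohPresheaf.rightDerived_sheafToPresheaf F q.toNat).some)⟩
  · rw [if_neg h]
    exact ⟨(h3 p q (by omega)).iso (AddCommGrpCat.isZero_of_subsingleton _)⟩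

end main
end Groth.Agent.H5HyperSS
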