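import Groth.Agent.Lib.H5HyperFree
import Mathlib.CategoryTheory.Limits.FormalCoproducts.Basic
import Mathlib.CategoryTheory.Limits.Types.Colimits
import Mathlib.CategoryTheory.Sites.GlobalSections

universe u

namespace Groth.Agent.H5HyperSite
open CategoryTheory Limits Opposite Simplicial
open Groth.Agent Groth.Agent.H5HyperFree

set_option maxHeartbeats 800000

variable {C : Type u} [SmallCategory C]

/-- maps from representables into formal coproducts -/
noncomputable abbrev Hfc : FormalCoproduct.{u} C ⥤ Cᵒᵖ ⥤ Type u :=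
  yoneda ⋙ (Functor.whiskeringLeft Cᵒᵖ (FormalCoproduct.{u} C)ᵒᵖ (Type u)).obj (FormalCoproduct.incl C).op

/-- comparison on a component -/
noncomputable def compMap (X : FormalCoproduct.{u} C) (i : X.I) : yoneda.obj (X.obj i) ⟶ Hfc.obj X where
  app _ := TypeCat.ofHom fun g => FormalCoproduct.Hom.fromIncl i g
  naturality V W a := by
    ext g
    exact FormalCoproduct.hom_ext rfl fun _ => Category.comp_id _

/-- comparison -/
noncomputable def ηapp (X : FormalCoproduct.{u} C) : FormalCoproduct.yoneda.obj X ⟶ Hfc.obj X :=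
  Sigma.desc (compMap X)

lemma η_bijective (X : FormalCoproduct.{u} C) (V : Cᵒᵖ) : Function.Bijective ((ηapp X).app V) := by
  let c := (evaluation Cᵒᵖ (Type u)).obj V |>.mapCocone (colimit.cocone (Discrete.functor fun i : X.I => yoneda.obj (X.obj i)))
  have hc : IsColimit c := isColimitOfPreserves _ (colimit.isColimit _)
  have hι : ∀ (i : X.I) (g : V.unop ⟶ X.obj i),
      (ηapp X).app V ((Sigma.ι (fun i => yoneda.obj (X.obj i)) i).app V g) = FormalCoproduct.Hom.fromIncl i g :=
    fun i g => ConcreteCategory.congr_hom (congr_app (Sigma.ι_desc (compMap X) i) V) g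
  constructor
  · intro a b hab
    obtain ⟨⟨i⟩, g, rfl⟩ := Types.jointly_surjective_of_isColimit hc a
    obtain ⟨⟨j⟩, h, rfl⟩ := Types.jointly_surjective_of_isColimit hc b
    have he : (Sigma.mk i g : Σ i : X.I, V.unop ⟶ X.obj i) = Sigma.mk j h :=
      congrArg (FormalCoproduct.Hom.asSigma (Y := X)) ((hι i g).symm.trans (hab.trans (hι j h)))
    cases he
    rfl
  · intro φ
    exact ⟨_, (hι (FormalCoproduct.Hom.asSigma φ).1 (FormalCoproduct.Hom.asSigma φ).2).trans
      (FormalCoproduct.Hom.fromIncl_asSigma φ)⟩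

/-- formal coproducts of representables are sets of maps -/
noncomputable def ηIso : (FormalCoproduct.yoneda : FormalCoproduct.{u} C ⥤ _) ≅ Hfc :=
  haveI : ∀ X : FormalCoproduct.{u} C, IsIso (ηapp X) := fun X => by
    rw [NatTrans.isIso_iff_isIso_app]
    exact fun V => (isIso_iff_bijective _).2 (η_bijective X V)
  NatIso.ofComponents (fun X => asIso (ηapp X)) (fun {X Y} f => by
    change FormalCoproduct.yoneda.map f ≫ ηapp Y = ηapp X ≫ Hfc.map f
    refine Sigma.hom_ext _ _ fun i => ?_
    change Sigma.ι (fun i => yoneda.obj (X.obj i)) i ≫ Sigma.desc (fun i => yoneda.map (f.φ i) ≫ Sigma.ι (yoneda.obj ∘ Y.obj) (f.f i)) ≫ ηapp Y =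
      Sigma.ι (fun i => yoneda.obj (X.obj i)) i ≫ ηapp X ≫ Hfc.map f
    rw [Sigma.ι_desc_assoc, ← Category.assoc]
    unfold ηapp
    rw [Sigma.ι_desc]
    refine (Category.assoc _ _ _).trans ((congrArg (fun t => yoneda.map (f.φ i) ≫ t) (Sigma.ι_desc (compMap Y) (f.f i))).trans ?_)
    ext V g
    exact FormalCoproduct.hom_ext rfl fun _ => Category.comp_id _)

/-- the simplicial presheaf of a simplicial formal coproduct -/
noncomputable abbrev sX (K : SimplicialObject (FormalCoproduct.{u} C)) : SimplicialObject (Cᵒᵖ ⥤ Type u) :=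
  ((SimplicialObject.whiskering _ _).obj Hfc).obj K

section simplex
variable (W : C)

/-- a map out of copies of `W` -/
noncomputable def ofFam {I : Type u} {X : FormalCoproduct.{u} C} (e : I → ((FormalCoproduct.incl C).obj W ⟶ X)) :
    FormalCoproduct.mk I (fun _ => W) ⟶ X :=
  ⟨fun i => (e i).f PUnit.unit, fun i => (e i).φ PUnit.unit⟩

/-- inclusion of a copy -/
noncomputable def inj {I : Type u} (i : I) : (FormalCoproduct.incl C).obj W ⟶ FormalCoproduct.mk I (fun _ => W) :=
  ⟨fun _ => i, fun _ => 𝟙 W⟩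

lemma inj_ofFam {I : Type u} {X : FormalCoproduct.{u} C} (e : I → ((FormalCoproduct.incl C).obj W ⟶ X)) (i : I) :
    inj W i ≫ ofFam W e = e i :=
  FormalCoproduct.hom_ext rfl fun _ => (Category.comp_id _).trans (Category.id_comp _)

lemma fam_ext {I : Type u} {X : FormalCoproduct.{u} C} {f f' : FormalCoproduct.mk I (fun _ => W) ⟶ X}
    (h : ∀ i, inj W i ≫ f = inj W i ≫ f') : f = f' := by
  have hs : ∀ i, (Sigma.mk (f.f i) (f.φ i) : Σ j : X.I, W ⟶ X.obj j) = Sigma.mk (f'.f i) (f'.φ i) := fun i => by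
    have := congrArg (FormalCoproduct.Hom.asSigma (Y := X)) (h i)
    exact ((congrArg (Sigma.mk (f.f i)) (Category.id_comp (f.φ i)).symm).trans this).trans
      (congrArg (Sigma.mk (f'.f i)) (Category.id_comp (f'.φ i)))
  obtain ⟨a, b⟩ := f
  obtain ⟨a', b'⟩ := f'
  obtain rfl : a = a' := funext fun i => congrArg Sigma.fst (hs i)
  obtain rfl : b = b' := funext fun i => eq_of_heq (Sigma.ext_iff.1 (hs i)).2
  rfl

/-- the simplex on `W` -/
noncomputable def simp' (n : ℕ) : SimplicialObject (FormalCoproduct.{u} C) where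
  obj m := FormalCoproduct.mk (ULift.{u} (m.unop ⟶ SimplexCategory.mk n)) (fun _ => W)
  map {m m'} θ := ⟨fun φ => ULift.up (θ.unop ≫ φ.down), fun _ => 𝟙 W⟩
  map_id m := FormalCoproduct.hom_ext (funext fun φ => ULift.ext _ _ (Category.id_comp _)) fun _ => by simp
  map_comp θ θ' := FormalCoproduct.hom_ext (funext fun φ => ULift.ext _ _ (Category.assoc _ _ _)) fun _ => by simp

/-- a copy in the simplex -/
noncomputable def injS (n : ℕ) (m : SimplexCategoryᵒᵖ) (φ : m.unop ⟶ SimplexCategory.mk n) :
    (FormalCoproduct.incl C).obj W ⟶ (simp' W n).obj m := inj W (ULift.up φ)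

/-- maps out of the simplex in one degree -/
noncomputable def ofS (n : ℕ) (m : SimplexCategoryᵒᵖ) {X : FormalCoproduct.{u} C}
    (e : (m.unop ⟶ SimplexCategory.mk n) → ((FormalCoproduct.incl C).obj W ⟶ X)) : (simp' W n).obj m ⟶ X :=
  ofFam W fun φ => e φ.down

lemma injS_ofS {n : ℕ} {m : SimplexCategoryᵒᵖ} {X : FormalCoproduct.{u} C}
    (e : (m.unop ⟶ SimplexCategory.mk n) → ((FormalCoproduct.incl C).obj W ⟶ X)) (φ : m.unop ⟶ SimplexCategory.mk n) :
    injS W n m φ ≫ ofS W n m e = e φ := inj_ofFam W _ (ULift.up φ)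

lemma injS_map (n : ℕ) {m m' : SimplexCategoryᵒᵖ} (θ : m ⟶ m') (φ : m.unop ⟶ SimplexCategory.mk n) :
    injS W n m φ ≫ (simp' W n).map θ = injS W n m' (θ.unop ≫ φ) :=
  FormalCoproduct.hom_ext rfl fun _ => (Category.comp_id _).trans (Category.comp_id _)

lemma injS_ext {n : ℕ} {m : SimplexCategoryᵒᵖ} {X : FormalCoproduct.{u} C} {f f' : (simp' W n).obj m ⟶ X}
    (h : ∀ φ, injS W n m φ ≫ f = injS W n m φ ≫ f') : f = f' :=
  fam_ext W fun φ => h φ.down

/-- the generator -/
noncomputable def gen (n : ℕ) : (FormalCoproduct.incl C).obj W ⟶ (simp' W n).obj (op (SimplexCategory.mk n)) :=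
  injS W n _ (𝟙 _)

lemma simp_hom_ext {n : ℕ} {L : SimplicialObject (FormalCoproduct.{u} C)} {f f' : simp' W n ⟶ L}
    (h : gen W n ≫ f.app _ = gen W n ≫ f'.app _) : f = f' := by
  apply NatTrans.ext
  funext m
  refine injS_ext W fun φ => ?_
  have e : injS W n m φ = gen W n ≫ (simp' W n).map φ.op :=
    ((injS_map W n φ.op (𝟙 _)).trans (congrArg (injS W n m) (Category.comp_id _))).symm
  rw [e, Category.assoc, Category.assoc, f.naturality φ.op, f'.naturality φ.op, ← Category.assoc, ← Category.assoc, h]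

variable {W}

/-- change of base object -/
noncomputable def simpMap {W' : C} (g : W' ⟶ W) (n : ℕ) : simp' W' n ⟶ simp' W n where
  app m := ⟨id, fun _ => g⟩
  naturality m m' θ := FormalCoproduct.hom_ext rfl fun _ => by simp [simp']

end simplex

variable (J : GrothendieckTopology C) (K : SimplicialObject (FormalCoproduct.{u} C))

section fill
variable {K} {W : C} {n : ℕ} (s : Fin (n + 3) → ((FormalCoproduct.incl C).obj W ⟶ K.obj (op (SimplexCategory.mk (n + 1)))))

lemma exists_missing {m : ℕ} (hm : m ≤ n + 1) (φ : SimplexCategory.mk m ⟶ SimplexCategory.mk (n + 2)) :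
    ∃ j : Fin (n + 3), ∀ k : Fin (m + 1), φ.toOrderHom k ≠ j := by
  by_contra h
  push Not at h
  have := Fintype.card_le_of_surjective φ.toOrderHom h
  simp at this
  omega

variable (hs : ∀ i j : Fin (n + 2), i ≤ j → s j.succ ≫ K.δ i = s i.castSucc ≫ K.δ j)
include hs

lemma indep_lt {m : ℕ} (φ : SimplexCategory.mk m ⟶ SimplexCategory.mk (n + 2)) (j j' : Fin (n + 3)) (hlt : j < j')
    (hj : ∀ k : Fin (m + 1), φ.toOrderHom k ≠ j) (hj' : ∀ k : Fin (m + 1), φ.toOrderHom k ≠ j') :
    s j ≫ K.map (SimplexCategory.factor_δ φ j).op = s j' ≫ K.map (SimplexCategory.factor_δ φ j').op := by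
  obtain ⟨b, rfl⟩ := Fin.exists_succ_eq.2 (Fin.pos_iff_ne_zero.1 (lt_of_le_of_lt (Fin.zero_le j) hlt))
  obtain ⟨a, rfl⟩ : ∃ a : Fin (n + 2), a.castSucc = j := Fin.exists_castSucc_eq.2 (Fin.ne_last_of_lt hlt)
  have hab : a ≤ b := Fin.le_def.2 (Nat.lt_succ_iff.1 (Fin.lt_def.1 hlt))
  let ψ := SimplexCategory.factor_δ φ b.succ
  have hψ : ψ ≫ SimplexCategory.δ b.succ = φ := SimplexCategory.factor_δ_spec φ _ hj'
  have hmiss : ∀ k, ψ.toOrderHom k ≠ a := by
    intro k hk
    apply hj k
    rw [← hψ]
    change (SimplexCategory.δ b.succ).toOrderHom (ψ.toOrderHom k) = a.castSucc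
    rw [hk]
    exact Fin.succAbove_of_castSucc_lt _ _ hlt
  let χ := SimplexCategory.factor_δ ψ a
  have hχ : χ ≫ SimplexCategory.δ a = ψ := SimplexCategory.factor_δ_spec ψ _ hmiss
  have hψ' : SimplexCategory.factor_δ φ a.castSucc = χ ≫ SimplexCategory.δ b := by
    have : Mono (SimplexCategory.δ a.castSucc : SimplexCategory.mk (n + 1) ⟶ _) := inferInstance
    rw [← cancel_mono (SimplexCategory.δ a.castSucc), SimplexCategory.factor_δ_spec φ _ hj, Category.assoc,
      ← SimplexCategory.δ_comp_δ hab, ← Category.assoc, hχ, hψ]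
  rw [hψ', show SimplexCategory.factor_δ φ b.succ = χ ≫ SimplexCategory.δ a from hχ.symm, op_comp, op_comp,
    K.map_comp, K.map_comp, ← Category.assoc, ← Category.assoc]
  exact congrArg (fun t => t ≫ K.map χ.op) (hs a b hab).symm

lemma indep {m : ℕ} (φ : SimplexCategory.mk m ⟶ SimplexCategory.mk (n + 2)) (j j' : Fin (n + 3))
    (hj : ∀ k : Fin (m + 1), φ.toOrderHom k ≠ j) (hj' : ∀ k : Fin (m + 1), φ.toOrderHom k ≠ j') :
    s j ≫ K.map (SimplexCategory.factor_δ φ j).op = s j' ≫ K.map (SimplexCategory.factor_δ φ j').op := by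
  rcases lt_trichotomy j j' with h | rfl | h
  · exact indep_lt s hs φ j j' h hj hj'
  · rfl
  · exact (indep_lt s hs φ j' j h hj' hj).symm

omit hs

/-- the value on a face -/
noncomputable def el {m : ℕ} (hm : m ≤ n + 1) (φ : SimplexCategory.mk m ⟶ SimplexCategory.mk (n + 2)) :
    (FormalCoproduct.incl C).obj W ⟶ K.obj (op (SimplexCategory.mk m)) :=
  s (exists_missing hm φ).choose ≫ K.map (SimplexCategory.factor_δ φ (exists_missing hm φ).choose).op

include hs

/-- the sphere as a map of truncated objects -/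
noncomputable def sphere :
    (SimplicialObject.truncation (n + 1)).obj (simp' W (n + 2)) ⟶ (SimplicialObject.truncation (n + 1)).obj K where
  app m := ofS W (n + 2) (op m.unop.obj) fun φ => el s (m := m.unop.obj.len) m.unop.property φ
  naturality m m' θ := by
    refine injS_ext W fun φ => ?_
    change injS W (n + 2) (op m.unop.obj) φ ≫ (simp' W (n + 2)).map ((SimplexCategory.Truncated.inclusion (n + 1)).op.map θ) ≫ _ =
      injS W (n + 2) (op m.unop.obj) φ ≫ _ ≫ K.map ((SimplexCategory.Truncated.inclusion (n + 1)).op.map θ)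
    let θ' := ((SimplexCategory.Truncated.inclusion (n + 1)).op.map θ).unop
    refine (Category.assoc _ _ _).symm.trans ?_
    refine (congrArg (fun t => t ≫ _) (injS_map W (n + 2) ((SimplexCategory.Truncated.inclusion (n + 1)).op.map θ) φ)).trans ?_
    refine (injS_ofS W _ _).trans ?_
    refine Eq.trans ?_ (Category.assoc _ _ _)
    refine Eq.trans ?_ (congrArg (fun t => t ≫ K.map ((SimplexCategory.Truncated.inclusion (n + 1)).op.map θ)) (injS_ofS W _ _).symm)
    let j := (exists_missing m.unop.property φ).choose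
    have hj := (exists_missing m.unop.property φ).choose_spec
    have hj' : ∀ k, (θ' ≫ φ).toOrderHom k ≠ j := fun k => hj (θ'.toOrderHom k)
    refine (indep s hs (θ' ≫ φ) _ j (exists_missing m'.unop.property (θ' ≫ φ)).choose_spec hj').trans ?_
    refine Eq.trans ?_ (Category.assoc _ _ _).symm
    refine Eq.trans ?_ (congrArg (fun t => s j ≫ t) (K.map_comp _ _))
    exact congrArg (fun t => s j ≫ K.map t) (congrArg Quiver.Hom.op (Category.assoc θ' φ _))

variable [∀ (n : ℕ) (F : (SimplexCategory.Truncated n)ᵒᵖ ⥤ FormalCoproduct.{u} C),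
      (SimplexCategory.Truncated.inclusion n).op.HasRightKanExtension F]

theorem exists_fill
    (hK : Presheaf.IsLocallySurjective J
      (Hfc.map (((SimplicialObject.coskAdj (n + 1)).unit.app K).app (op (SimplexCategory.mk (n + 2)))))) :
    ∃ R ∈ J W, ∀ ⦃W' : C⦄ (g : W' ⟶ W), R.arrows g →
      ∃ y : (FormalCoproduct.incl C).obj W' ⟶ K.obj (op (SimplexCategory.mk (n + 2))),
        ∀ i, y ≫ K.δ i = (FormalCoproduct.incl C).map g ≫ s i := by
  let adj := SimplicialObject.coskAdj (C := FormalCoproduct.{u} C) (n + 1)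
  let σ := sphere s hs
  let Φ := adj.homEquiv _ _ σ
  refine ⟨_, hK.imageSieve_mem (U := W) (gen W (n + 2) ≫ Φ.app _), fun W' g hg => ?_⟩
  obtain ⟨y, hy⟩ := hg
  refine ⟨y, fun i => ?_⟩
  let yt : simp' W' (n + 2) ⟶ K :=
    { app := fun m => ofS W' (n + 2) m fun φ => y ≫ K.map φ.op
      naturality := fun m m' θ => by
        refine injS_ext W' fun φ => ?_
        rw [← Category.assoc, injS_map, injS_ofS, ← Category.assoc, injS_ofS, Category.assoc, ← K.map_comp]
        rfl }
  have hg1 : gen W' (n + 2) ≫ (simpMap g (n + 2)).app _ = (FormalCoproduct.incl C).map g ≫ gen W (n + 2) :=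
    FormalCoproduct.hom_ext rfl fun _ => (Category.comp_id _).trans ((Category.id_comp _).trans (Category.comp_id _).symm)
  have h1 : yt ≫ adj.unit.app K = simpMap g (n + 2) ≫ Φ := by
    refine simp_hom_ext W' ?_
    rw [NatTrans.comp_app, NatTrans.comp_app, ← Category.assoc, ← Category.assoc, hg1]
    refine Eq.trans ?_ (Category.assoc _ _ _).symm
    refine Eq.trans ?_ hy
    refine congrArg (fun t => t ≫ (adj.unit.app K).app _) ?_
    exact (injS_ofS W' _ _).trans ((congrArg (fun t => y ≫ t) (K.map_id _)).trans (Category.comp_id _))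
  have h2 : (SimplicialObject.truncation (n + 1)).map yt =
      (SimplicialObject.truncation (n + 1)).map (simpMap g (n + 2)) ≫ σ := by
    apply (adj.homEquiv _ _).injective
    rw [adj.homEquiv_naturality_left, adj.homEquiv_unit]
    exact (adj.unit.naturality yt).symm.trans h1
  let a : (SimplexCategory.Truncated (n + 1))ᵒᵖ := op ⟨SimplexCategory.mk (n + 1), le_refl (n + 1)⟩
  have h3 : injS W' (n + 2) (op (SimplexCategory.mk (n + 1))) (SimplexCategory.δ i) ≫ yt.app (op (SimplexCategory.mk (n + 1))) =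
      injS W' (n + 2) (op (SimplexCategory.mk (n + 1))) (SimplexCategory.δ i) ≫ (simpMap g (n + 2)).app (op (SimplexCategory.mk (n + 1))) ≫ σ.app a :=
    congrArg (fun t => injS W' (n + 2) (op (SimplexCategory.mk (n + 1))) (SimplexCategory.δ i) ≫ t) (congr_app h2 a)
  have hl : injS W' (n + 2) (op (SimplexCategory.mk (n + 1))) (SimplexCategory.δ i) ≫ yt.app (op (SimplexCategory.mk (n + 1))) = y ≫ K.δ i :=
    injS_ofS W' _ _
  have hr : injS W' (n + 2) (op (SimplexCategory.mk (n + 1))) (SimplexCategory.δ i) ≫ (simpMap g (n + 2)).app (op (SimplexCategory.mk (n + 1))) =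
      (FormalCoproduct.incl C).map g ≫ injS W (n + 2) (op (SimplexCategory.mk (n + 1))) (SimplexCategory.δ i) :=
    FormalCoproduct.hom_ext rfl fun _ => (Category.comp_id _).trans ((Category.id_comp _).trans (Category.comp_id _).symm)
  refine hl.symm.trans (h3.trans ?_)
  refine (Category.assoc _ _ _).symm.trans ?_
  refine (congrArg (fun t => t ≫ σ.app a) hr).trans ?_
  refine (Category.assoc _ _ _).trans ?_
  refine congrArg (fun t => (FormalCoproduct.incl C).map g ≫ t) ((injS_ofS W _ _).trans ?_)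
  have hm := exists_missing (le_refl (n + 1)) (SimplexCategory.δ i)
  have hi : ∀ k : Fin (n + 2), (SimplexCategory.δ i).toOrderHom k ≠ i := fun k => Fin.succAbove_ne i k
  refine (indep s hs (SimplexCategory.δ i) hm.choose i hm.choose_spec hi).trans ?_
  have : SimplexCategory.factor_δ (SimplexCategory.δ i) i = 𝟙 _ := by
    rw [← cancel_mono (SimplexCategory.δ i), SimplexCategory.factor_δ_spec _ _ hi, Category.id_comp]
  rw [this, op_id, K.map_id, Category.comp_id]

end fill

theorem lfill [∀ (n : ℕ) (F : (SimplexCategory.Truncated n)ᵒᵖ ⥤ FormalCoproduct.{u} C),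
      (SimplexCategory.Truncated.inclusion n).op.HasRightKanExtension F]
    (hK : Hyper.IsHypercoveringSite J K) : LFill J (sX K) where
  vertex W := by
    let P := FormalCoproduct.yoneda.obj (K.obj (op (SimplexCategory.mk 0)))
    haveI := hK.1
    let t : (⊤_ (Cᵒᵖ ⥤ Type u)).obj (op W) :=
      yonedaEquiv (terminal.from (yoneda.obj W))
    refine ⟨_, Presheaf.imageSieve_mem J (terminal.from P) t, fun W' g hg => ?_⟩
    exact ⟨(ηapp _).app (op W') hg.choose⟩
  edge W a b := by
    haveI := hK.2.1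
    obtain ⟨a', ha⟩ := (η_bijective _ (op W)).2 a
    obtain ⟨b', hb⟩ := (η_bijective _ (op W)).2 b
    let P0 := FormalCoproduct.yoneda.obj (K.obj (op (SimplexCategory.mk 0)))
    let e : (P0 ⨯ P0).obj (op W) := yonedaEquiv (prod.lift (yonedaEquiv.symm a') (yonedaEquiv.symm b'))
    have hfst : (prod.fst : P0 ⨯ P0 ⟶ P0).app (op W) e = a' := by
      have := ConcreteCategory.congr_hom (congr_app (prod.lift_fst (yonedaEquiv.symm a') (yonedaEquiv.symm b')) (op W)) (𝟙 W)
      exact this.trans (yonedaEquiv.apply_symm_apply a')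
    have hsnd : (prod.snd : P0 ⨯ P0 ⟶ P0).app (op W) e = b' := by
      have := ConcreteCategory.congr_hom (congr_app (prod.lift_snd (yonedaEquiv.symm a') (yonedaEquiv.symm b')) (op W)) (𝟙 W)
      exact this.trans (yonedaEquiv.apply_symm_apply b')
    refine ⟨_, Presheaf.imageSieve_mem J (prod.lift (FormalCoproduct.yoneda.map (K.δ (1 : Fin 2)))
      (FormalCoproduct.yoneda.map (K.δ (0 : Fin 2)))) e, fun W' g hg => ?_⟩
    obtain ⟨y, hy⟩ := hg
    have hnat : ∀ (X Y : FormalCoproduct.{u} C) (f : X ⟶ Y) (z), (Hfc.map f).app (op W') ((ηapp X).app (op W') z) =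
        (ηapp Y).app (op W') ((FormalCoproduct.yoneda.map f).app (op W') z) := fun X Y f z =>
      (ConcreteCategory.congr_hom (congr_app (ηIso.hom.naturality f) (op W')) z).symm
    refine ⟨(ηapp _).app (op W') y, ?_, ?_⟩
    · refine (hnat _ _ (K.δ 1) y).trans ?_
      rw [← ha]
      refine Eq.trans ?_ (NatTrans.naturality_apply (ηapp _) g.op a')
      refine congrArg ((ηapp _).app (op W')) ?_
      rw [← hfst, ← NatTrans.naturality_apply, ← hy]
      exact (ConcreteCategory.congr_hom (congr_app (prod.lift_fst (FormalCoproduct.yoneda.map (K.δ (1 : Fin 2))) (FormalCoproduct.yoneda.map (K.δ (0 : Fin 2)))) (op W')) y).symm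
    · refine (hnat _ _ (K.δ 0) y).trans ?_
      rw [← hb]
      refine Eq.trans ?_ (NatTrans.naturality_apply (ηapp _) g.op b')
      refine congrArg ((ηapp _).app (op W')) ?_
      rw [← hsnd, ← NatTrans.naturality_apply, ← hy]
      exact (ConcreteCategory.congr_hom (congr_app (prod.lift_snd (FormalCoproduct.yoneda.map (K.δ (1 : Fin 2))) (FormalCoproduct.yoneda.map (K.δ (0 : Fin 2)))) (op W')) y).symm
  fill n W s hs := by
    have h := hK.2.2 (n + 1) (by omega)
    have hH : Presheaf.IsLocallySurjective J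
        (Hfc.map (((SimplicialObject.coskAdj (n + 1)).unit.app K).app (op (SimplexCategory.mk (n + 2))))) := by
      rw [← NatIso.naturality_1 ηIso (((SimplicialObject.coskAdj (n + 1)).unit.app K).app (op (SimplexCategory.mk (n + 2))))]
      infer_instance
    exact exists_fill J s hs hH

/-- an additive functor commutes with alternating face map complexes -/
noncomputable def altIso' {A : Type*} [Category A] [Preadditive A] {B : Type*} [Category B] [Preadditive B]
    (G : A ⥤ B) [G.Additive] (X : SimplicialObject A) :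
    (G.mapHomologicalComplex _).obj (AlgebraicTopology.AlternatingFaceMapComplex.obj X) ≅
      AlgebraicTopology.AlternatingFaceMapComplex.obj (((SimplicialObject.whiskering A B).obj G).obj X) :=
  HomologicalComplex.Hom.isoOfComponents (fun _ => Iso.refl _) (by
    rintro _ n rfl
    simp [AlgebraicTopology.AlternatingFaceMapComplex.objD, Functor.map_sum, Functor.map_zsmul, SimplicialObject.δ]
    exact (Category.id_comp _).trans (Category.comp_id _).symm)

/-- the free complex is the free complex of the simplicial presheaf -/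
noncomputable def freeIso :
    Hyper.freeChainCx J K ≅ ((presheafToSheaf J AddCommGrpCat.{u}).mapHomologicalComplex _).obj (FC (sX K)) :=
  (AlgebraicTopology.alternatingFaceMapComplex _).mapIso
      (Functor.isoWhiskerRight (Functor.isoWhiskerRight (Functor.isoWhiskerLeft K ηIso)
        ((Functor.whiskeringRight _ _ _).obj AddCommGrpCat.free.{u})) (presheafToSheaf J AddCommGrpCat.{u})) ≪≫
    (altIso' (presheafToSheaf J AddCommGrpCat.{u}) (((SimplicialObject.whiskering _ _).obj Fr).obj (sX K))).symm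

variable [∀ (n : ℕ) (F : (SimplexCategory.Truncated n)ᵒᵖ ⥤ FormalCoproduct.{u} C),
      (SimplexCategory.Truncated.inclusion n).op.HasRightKanExtension F] {K}

theorem freeChainCx_resolution (hK : Hyper.IsHypercoveringSite J K) :
    (∀ n : ℕ, IsZero ((Hyper.freeChainCx J K).homology (n + 1))) ∧
    Nonempty ((Hyper.freeChainCx J K).homology 0 ≅ (constantSheaf J AddCommGrpCat.{u}).obj (AddCommGrpCat.of (ULift.{u} ℤ))) := by
  have hX := lfill J K hK
  let S := presheafToSheaf J AddCommGrpCat.{u}
  let P := (S.mapHomologicalComplex (ComplexShape.down ℕ)).obj (FC (sX K))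
  refine ⟨fun n => ?_, ?_⟩
  · exact ((HomologicalComplex.exactAt_iff_isZero_homology _ _).1 (H5HyperFree.exactAt_sheafify hX n)).of_iso
      ((HomologicalComplex.homologyFunctor _ _ (n + 1)).mapIso (freeIso J K))
  · have h1 := H5HyperFree.exact_deg hX
    have h2 := H5HyperFree.epi_deg hX
    haveI : Epi ((ShortComplex.mk _ _ (H5HyperFree.d_deg (X := sX K))).map S).g := h2
    exact ⟨(HomologicalComplex.homologyFunctor _ _ 0).mapIso (freeIso J K) ≪≫
      (ChainComplex.isoHomologyι₀ P ≪≫ (P.opcyclesIsCokernel 1 0 (by simp)).coconePointUniqueUpToIso h1.gIsCokernel)⟩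

end Groth.Agent.H5HyperSite
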