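import Mathlib
import Groth.Prelude
import Groth.Agent.Lib.H5Glue

universe v u

open CategoryTheory CategoryTheory.Limits Opposite MonoidalCategory

namespace Groth.Agent.H5IhomLoc

theorem ihom_localization {C : Type u} [SmallCategory C] (J : GrothendieckTopology C)
    (Z Y : Sheaf J (Type u)) [(Over.star Z).IsLeftAdjoint] {_ : Closed Z} :
    Nonempty (((Over.star Z).rightAdjoint).obj ((Over.star Z).obj Y) ≅ (ihom Z).obj Y) := by
  let adj := (Adjunction.ofIsLeftAdjoint (Over.star Z))
  let e : Over.star Z ⋙ Over.forget Z ≅ tensorLeft Z :=
    NatIso.ofComponents (fun W =>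
      { hom := CartesianMonoidalCategory.lift (prod.fst : Z ⨯ W ⟶ Z) prod.snd
        inv := prod.lift (SemiCartesianMonoidalCategory.fst Z W) (SemiCartesianMonoidalCategory.snd Z W)
        hom_inv_id := by
          refine Limits.prod.hom_ext ?_ ?_
          · erw [Category.assoc, prod.lift_fst, CartesianMonoidalCategory.lift_fst]
          · erw [Category.assoc, prod.lift_snd, CartesianMonoidalCategory.lift_snd]
        inv_hom_id := by
          refine CartesianMonoidalCategory.hom_ext _ _ ?_ ?_
          · erw [Category.assoc, CartesianMonoidalCategory.lift_fst, prod.lift_fst]; exact (Category.id_comp _).symm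
          · erw [Category.assoc, CartesianMonoidalCategory.lift_snd, prod.lift_snd]; exact (Category.id_comp _).symm })
      (fun {W W'} f => by
        simp only [Functor.comp_map, Over.forget_map, Over.star_map_left]
        refine CartesianMonoidalCategory.hom_ext _ _ ?_ ?_
        · erw [Category.assoc, Category.assoc, CartesianMonoidalCategory.lift_fst, CartesianMonoidalCategory.whiskerLeft_fst, prod.map_fst, CartesianMonoidalCategory.lift_fst]
          exact Category.comp_id _
        · erw [Category.assoc, Category.assoc, CartesianMonoidalCategory.lift_snd, CartesianMonoidalCategory.whiskerLeft_snd, prod.map_snd, CartesianMonoidalCategory.lift_snd_assoc]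
          rfl)
  exact ⟨((adj.comp (Over.forgetAdjStar Z)).ofNatIsoLeft e |>.rightAdjointUniq (ihom.adjunction Z)).app Y |> fun h => h⟩

theorem push_ihom_pull {C D : Type u} [SmallCategory C] [SmallCategory D] (J : GrothendieckTopology C)
    (K : GrothendieckTopology D) (u : D ⥤ C) [u.IsContinuous K J] [PreservesFiniteLimits (u.sheafPullback (Type u) K J)]
    (X : Sheaf J (Type u)) (Y : Sheaf K (Type u)) {_ : Closed ((u.sheafPullback (Type u) K J).obj Y)}
    {_ : Closed Y} :
    Nonempty ((u.sheafPushforwardContinuous (Type u) K J).obj ((ihom ((u.sheafPullback (Type u) K J).obj Y)).obj X) ≅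
      (ihom Y).obj ((u.sheafPushforwardContinuous (Type u) K J).obj X)) := by
  let F := u.sheafPullback (Type u) K J
  let adj : F ⊣ u.sheafPushforwardContinuous (Type u) K J := u.sheafAdjunctionContinuous (Type u) K J
  let e : F ⋙ tensorLeft (F.obj Y) ≅ tensorLeft Y ⋙ F :=
    NatIso.ofComponents (fun W => (asIso (CartesianMonoidalCategory.prodComparison F Y W)).symm)
      (fun {W W'} f => by
        simp only [Functor.comp_map, Iso.symm_hom, asIso_inv, IsIso.eq_inv_comp, ← Category.assoc,
          IsIso.comp_inv_eq]
        exact (CartesianMonoidalCategory.prodComparison_natural_whiskerLeft F f).symm)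
  exact ⟨((((adj.comp (ihom.adjunction (F.obj Y))).ofNatIsoLeft e).rightAdjointUniq
    ((ihom.adjunction Y).comp adj))).app X⟩

end Groth.Agent.H5IhomLoc
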