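import Groth.Prelude.Def_W4c5stacksedinertiaGpd
import Mathlib
set_option autoImplicit false
open W4c5stacksedinertia

namespace Groth.Agent.H5Inertia
attribute [local instance] Fintype.ofFinite

/-- the transported group is the original one -/
noncomputable def ofEquiv (G : Type) [Group G] [Finite G] : (FinGrp.of G).carrier ≃* G where
  toEquiv := (Nat.equivFinOfCardPos (α := G) Nat.card_pos.ne').symm
  map_mul' x y := Equiv.apply_symm_apply (Nat.equivFinOfCardPos (α := G) Nat.card_pos.ne').symm _

theorem idxOf_congr {G H : Type} [Group G] [Finite G] [Group H] [Finite H] (e : G ≃* H) :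
    Idx.of G = Idx.of H :=
  Quotient.sound ⟨(ofEquiv G).trans (e.trans (ofEquiv H).symm)⟩

theorem cl_congr {G H : Type} [Group G] [Finite G] [Group H] [Finite H] (e : G ≃* H) : cl G = cl H := by
  rw [cl, cl, idxOf_congr e]

theorem of_rep (i : Idx) : Idx.of i.rep = i := by
  conv_rhs => rw [← Quotient.out_eq i]
  exact Quotient.sound ⟨ofEquiv i.rep⟩

theorem cl_rep (i : Idx) : cl i.rep = Finsupp.single i 1 := by rw [cl, of_rep]

theorem nonempty_rep_of (G : Type) [Group G] [Finite G] : Nonempty ((Idx.of G).rep ≃* G) := by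
  obtain ⟨e⟩ := Quotient.exact ((of_rep (Idx.of G)))
  exact ⟨((ofEquiv (Idx.of G).rep).symm.trans e).trans (ofEquiv G)⟩

section group
variable (G : Type) [Group G] [Finite G] (r : ℕ)

instance : Finite (CommTuple G r) := Subtype.finite
instance : Finite (CommTuple.Orbit G r) := Quotient.finite _

variable {G r}

/-- the common centraliser -/
abbrev cent (s : CommTuple G r) : Subgroup G := Subgroup.centralizer (Set.range s.1)

/-- conjugate tuple -/
def conjT (g : G) (s : CommTuple G r) : CommTuple G r :=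
  ⟨fun i => g * s.1 i * g⁻¹, fun i j h => s.2.1 (by simpa using h), fun i j => by
    simpa using (s.2.2 i j).map (MulAut.conj g).toMonoidHom⟩

instance : MulAction G (CommTuple G r) where
  smul := conjT
  one_smul s := Subtype.ext (funext fun i => by show 1 * s.1 i * 1⁻¹ = s.1 i; simp)
  mul_smul g h s := Subtype.ext (funext fun i => by
    show g * h * s.1 i * (g * h)⁻¹ = g * (h * s.1 i * h⁻¹) * g⁻¹; group)

theorem smul_val (g : G) (s : CommTuple G r) (i : Fin r) : (g • s).1 i = g * s.1 i * g⁻¹ := rfl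

theorem rel_iff (s t : CommTuple G r) : (CommTuple.setoid G r).r s t ↔ ∃ g : G, g • s = t :=
  exists_congr fun g => ⟨fun h => Subtype.ext (funext h), fun h i => by rw [← h]; rfl⟩

theorem stab_eq (s : CommTuple G r) : MulAction.stabilizer G s = cent s := by
  ext g
  rw [MulAction.mem_stabilizer_iff, Subgroup.mem_centralizer_iff]
  constructor
  · rintro h _ ⟨i, rfl⟩
    have := congrArg (fun t => t.1 i) h
    simp only [smul_val] at this
    calc s.1 i * g = (g * s.1 i * g⁻¹) * g := by rw [this]
      _ = g * s.1 i := by group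
  · intro h
    refine Subtype.ext (funext fun i => ?_)
    rw [smul_val, ← h _ ⟨i, rfl⟩, mul_inv_cancel_right]

noncomputable def centCong (s : CommTuple G r) (g : G) : cent s ≃* cent (g • s) :=
  ((MulAut.conj g).subgroupMap (cent s)).trans (MulEquiv.subgroupCongr (by
    ext x
    simp only [Subgroup.mem_map, Subgroup.mem_centralizer_iff, Set.forall_mem_range, smul_val]
    constructor
    · rintro ⟨y, hy, rfl⟩ i
      show g * s.1 i * g⁻¹ * (g * y * g⁻¹) = g * y * g⁻¹ * (g * s.1 i * g⁻¹)
      have := hy i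
      calc g * s.1 i * g⁻¹ * (g * y * g⁻¹) = g * (s.1 i * y) * g⁻¹ := by group
        _ = g * (y * s.1 i) * g⁻¹ := by rw [this]
        _ = _ := by group
    · intro hx
      refine ⟨g⁻¹ * x * g, fun i => ?_, by simp [mul_assoc]⟩
      calc s.1 i * (g⁻¹ * x * g) = g⁻¹ * (g * s.1 i * g⁻¹ * x) * g := by group
        _ = g⁻¹ * (x * (g * s.1 i * g⁻¹)) * g := by rw [hx i]
        _ = _ := by group))

/-- weighted class of the centraliser -/
noncomputable def wt (s : CommTuple G r) : K := ((Nat.card (cent s) : ℚ) / Nat.card G) • cl (cent s)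

theorem wt_smul (s : CommTuple G r) (g : G) : wt (g • s) = wt s := by
  rw [wt, wt, Nat.card_congr (centCong s g).toEquiv, cl_congr (centCong s g)]

theorem inertiaROf_eq_sum : inertiaROf r G = ∑ s : CommTuple G r, wt s := by
  classical
  rw [inertiaROf, finsum_eq_sum_of_fintype,
    ← Finset.sum_fiberwise Finset.univ (fun s => (Quotient.mk (CommTuple.setoid G r) s : CommTuple.Orbit G r)) wt]
  refine Finset.sum_congr (Finset.ext fun _ => iff_of_true (by exact @Finset.mem_univ _ (_) _) (by exact @Finset.mem_univ _ (_) _)) fun O _ => ?_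
  set s := Quotient.out (s := CommTuple.setoid G r) O with hs
  have hO : ∀ t, (Quotient.mk (CommTuple.setoid G r) t : CommTuple.Orbit G r) = O ↔ t ∈ MulAction.orbit G s := fun t => by
    rw [← Quotient.out_eq O]
    exact ⟨fun h => (rel_iff s t).1 (Quotient.exact h.symm), fun h => (Quotient.sound ((rel_iff s t).2 h)).symm⟩
  have hF : ∀ F : Finset (CommTuple G r),
      (∀ t, t ∈ F ↔ (Quotient.mk (CommTuple.setoid G r) t : CommTuple.Orbit G r) = O) →
        ∑ t ∈ F, wt t = (Nat.card (MulAction.orbit G s)) • wt s := by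
    intro F hmem
    have hset : (MulAction.orbit G s).toFinset = F := by
      ext t; rw [Set.mem_toFinset, hmem, hO]
    rw [Nat.card_eq_fintype_card, ← Set.toFinset_card, hset]
    refine Finset.sum_eq_card_nsmul fun t ht => ?_
    obtain ⟨g, rfl⟩ := (hO t).1 ((hmem t).1 ht)
    exact wt_smul s g
  symm
  refine (hF _ (fun t => by simp)).trans ?_
  have h := MulAction.card_orbit_mul_card_stabilizer_eq_card_group G s
  simp only [← Nat.card_eq_fintype_card] at h
  rw [stab_eq] at h
  rw [wt, ← Nat.cast_smul_eq_nsmul ℚ, smul_smul]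
  have hG : (Nat.card G : ℚ) ≠ 0 := by exact_mod_cast Nat.card_pos.ne'
  have e : (Nat.card (MulAction.orbit G s) : ℚ) * ((Nat.card (cent s) : ℚ) / Nat.card G) = 1 := by
    rw [mul_div_assoc', div_eq_one_iff_eq hG]
    exact_mod_cast h
  rw [e, one_smul]

end group

section iso
variable {G H : Type} [Group G] [Finite G] [Group H] [Finite H]

def tupleCongr (e : G ≃* H) (r : ℕ) : CommTuple G r ≃ CommTuple H r where
  toFun s := ⟨e ∘ s.1, e.injective.comp s.2.1, fun i j => (s.2.2 i j).map e.toMonoidHom⟩
  invFun s := ⟨e.symm ∘ s.1, e.symm.injective.comp s.2.1, fun i j => (s.2.2 i j).map e.symm.toMonoidHom⟩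
  left_inv s := Subtype.ext (funext fun i => e.symm_apply_apply _)
  right_inv s := Subtype.ext (funext fun i => e.apply_symm_apply _)

theorem inertiaROf_congr (e : G ≃* H) (r : ℕ) : inertiaROf r G = inertiaROf r H := by
  rw [inertiaROf_eq_sum, inertiaROf_eq_sum]
  refine Fintype.sum_equiv (tupleCongr e r) _ _ fun s => ?_
  have f : cent s ≃* cent (tupleCongr e r s) := (e.subgroupMap (cent s)).trans (MulEquiv.subgroupCongr (by
    ext x
    simp only [Subgroup.mem_map, Subgroup.mem_centralizer_iff, Set.forall_mem_range, MonoidHom.coe_coe]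
    constructor
    · rintro ⟨y, hy, rfl⟩ i
      show e (s.1 i) * e y = e y * e (s.1 i)
      rw [← map_mul, hy i, map_mul]
    · intro h
      refine ⟨e.symm x, fun i => e.injective ?_, e.apply_symm_apply x⟩
      rw [map_mul, map_mul, e.apply_symm_apply]
      exact h i))
  rw [wt, wt, Nat.card_congr f.toEquiv, cl_congr f, Nat.card_congr e.toEquiv]

end iso

theorem inertiaR_cl (r : ℕ) (G : Type) [Group G] [Finite G] : inertiaR r (cl G) = inertiaROf r G := by
  obtain ⟨e⟩ := nonempty_rep_of G
  rw [inertiaR, cl, Finsupp.linearCombination_single, one_smul]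
  exact inertiaROf_congr e r

theorem inertiaR_zero : inertiaR 0 = LinearMap.id := by
  refine Finsupp.lhom_ext fun i b => ?_
  rw [inertiaR, Finsupp.linearCombination_single, inertiaROf_eq_sum, LinearMap.id_apply]
  have : Unique (CommTuple i.rep 0) :=
    ⟨⟨⟨Fin.elim0, fun a => a.elim0, fun a => a.elim0⟩⟩, fun s => Subtype.ext (funext fun a => a.elim0)⟩
  rw [Fintype.sum_unique, wt]
  have hc : cent (default : CommTuple i.rep 0) = ⊤ := by
    ext x; simp [Subgroup.mem_centralizer_iff]
  have e : cent (default : CommTuple i.rep 0) ≃* i.rep := (MulEquiv.subgroupCongr hc).trans Subgroup.topEquiv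
  rw [Nat.card_congr e.toEquiv, cl_congr e, cl_rep, div_self (by exact_mod_cast Nat.card_pos.ne'), one_smul,
    Finsupp.smul_single, smul_eq_mul, mul_one]

section recursion
variable {G : Type} [Group G] [Finite G] {r : ℕ}

/-- centralisers of an element inside a centraliser -/
abbrev cent2 (s : CommTuple G r) (g : cent s) : Subgroup G := cent s ⊓ Subgroup.centralizer {(g : G)}

noncomputable def wt2 (s : CommTuple G r) (g : cent s) : K :=
  ((Nat.card (cent2 s g) : ℚ) / Nat.card G) • cl (cent2 s g)

theorem inertia_wt (s : CommTuple G r) : inertia (wt s) = ∑ g : cent s, wt2 s g := by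
  rw [wt, map_smul, inertia, inertiaR_cl, inertiaROf_eq_sum, Finset.smul_sum]
  let e : CommTuple (cent s) 1 ≃ cent s :=
    { toFun := fun t => t.1 0
      invFun := fun g => ⟨fun _ => g, Function.injective_of_subsingleton _, fun _ _ => Commute.refl g⟩
      left_inv := fun t => Subtype.ext (funext fun i => congrArg t.1 (Subsingleton.elim _ _))
      right_inv := fun g => rfl }
  refine Fintype.sum_equiv e _ _ fun t => ?_
  have hc : (cent t).map (cent s).subtype = cent2 s (t.1 0) := by
    ext x
    simp only [Subgroup.mem_map, Subgroup.mem_inf]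
    constructor
    · rintro ⟨y, hy, rfl⟩
      refine ⟨y.2, Subgroup.mem_centralizer_iff.2 fun a ha => ?_⟩
      rw [Set.mem_singleton_iff.1 ha]
      exact congrArg Subtype.val (Subgroup.mem_centralizer_iff.1 hy _ ⟨0, rfl⟩)
    · rintro ⟨hx, hx'⟩
      refine ⟨⟨x, hx⟩, Subgroup.mem_centralizer_iff.2 ?_, rfl⟩
      rintro _ ⟨i, rfl⟩
      rw [Subsingleton.elim i 0]
      exact Subtype.ext (Subgroup.mem_centralizer_iff.1 hx' _ rfl)
  have f : cent t ≃* cent2 s (t.1 0) :=
    ((cent t).equivMapOfInjective _ (cent s).subtype_injective).trans (MulEquiv.subgroupCongr hc)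
  show _ = wt2 s (t.1 0)
  rw [wt, wt2, smul_smul, Nat.card_congr f.toEquiv, cl_congr f]
  have h1 : (Nat.card (cent s) : ℚ) ≠ 0 := by exact_mod_cast Nat.card_pos.ne'
  congr 1
  field_simp

/-- add a new commuting element at the end -/
def snocFun (p : Σ s : CommTuple G r, {g : cent s // (g : G) ∉ Set.range s.1}) : CommTuple G (r + 1) :=
  ⟨Fin.snoc p.1.1 (p.2.1 : G),
    Fin.snoc_injective_iff.2 ⟨p.1.2.1, p.2.2⟩,
    fun i j => by
      have hc : ∀ i, Commute (p.1.1 i) (p.2.1 : G) := fun i => Subgroup.mem_centralizer_iff.1 p.2.1.2 _ ⟨i, rfl⟩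
      induction i using Fin.lastCases with
      | last => induction j using Fin.lastCases with
        | last => exact Commute.refl _
        | cast j => simpa using (hc j).symm
      | cast i => induction j using Fin.lastCases with
        | last => simpa using hc i
        | cast j => simpa using p.1.2.2 i j⟩

theorem snocFun_bijective : Function.Bijective (snocFun (G := G) (r := r)) := by
  refine ⟨?_, fun t => ⟨⟨⟨fun i => t.1 i.castSucc, t.2.1.comp (Fin.castSucc_injective r), fun i j => t.2.2 _ _⟩,
    ⟨⟨t.1 (Fin.last r), Subgroup.mem_centralizer_iff.2 (by rintro _ ⟨i, rfl⟩; exact (t.2.2 i.castSucc (Fin.last r)).eq)⟩,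
      by rintro ⟨i, hi⟩; exact (Fin.castSucc_lt_last i).ne (t.2.1 hi)⟩⟩, Subtype.ext (Fin.snoc_init_self t.1)⟩⟩
  rintro ⟨s, g, hg⟩ ⟨s', g', hg'⟩ h
  have h' := congrArg Subtype.val h
  have hs : s = s' := Subtype.ext (funext fun i => by simpa [snocFun] using congrFun h' i.castSucc)
  subst hs
  have hgg : g = g' := Subtype.ext (by simpa [snocFun] using congrFun h' (Fin.last r))
  subst hgg
  rfl

theorem inertia_inertiaROf : inertia (inertiaROf r G) = inertiaROf (r + 1) G + (r : ℚ) • inertiaROf r G := by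
  classical
  rw [inertiaROf_eq_sum, map_sum]
  have split : ∀ s : CommTuple G r, ∑ g : cent s, wt2 s g =
      (∑ g : {g : cent s // (g : G) ∉ Set.range s.1}, wt2 s g.1) + (r : ℚ) • wt s := by
    intro s
    rw [← Fintype.sum_subtype_add_sum_subtype (fun g : cent s => (g : G) ∉ Set.range s.1) (wt2 s)]
    congr 1
    let e : Fin r ≃ {g : cent s // ¬ (g : G) ∉ Set.range s.1} := Equiv.ofBijective
      (fun i => ⟨⟨s.1 i, Subgroup.mem_centralizer_iff.2 (by rintro _ ⟨j, rfl⟩; exact (s.2.2 j i).eq)⟩, not_not.2 ⟨i, rfl⟩⟩)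
      ⟨fun i j h => s.2.1 (congrArg (fun g => ((g.1 : cent s) : G)) h),
       fun g => let ⟨i, hi⟩ := not_not.1 g.2; ⟨i, Subtype.ext (Subtype.ext hi)⟩⟩
    rw [← e.sum_comp]
    have hw : ∀ i, wt2 s (e i).1 = wt s := fun i => by
      have hc : cent2 s (e i).1 = cent s := inf_eq_left.2 fun x hx => Subgroup.mem_centralizer_iff.2 fun a ha => by
        rw [Set.mem_singleton_iff.1 ha]
        exact Subgroup.mem_centralizer_iff.1 hx _ ⟨i, rfl⟩
      have f := MulEquiv.subgroupCongr hc
      rw [wt2, wt, Nat.card_congr f.toEquiv, cl_congr f]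
    simp only [hw, Finset.sum_const, Finset.card_univ, Fintype.card_fin]
    exact (Nat.cast_smul_eq_nsmul ℚ r _).symm
  rw [Finset.sum_congr rfl fun s _ => inertia_wt s]
  refine (Finset.sum_congr rfl fun s _ => ?_).trans ((Finset.sum_add_distrib (f := fun s : CommTuple G r =>
    ∑ g : {g : cent s // (g : G) ∉ Set.range s.1}, wt2 s g.1) (g := fun s => (r : ℚ) • wt s)).trans ?_)
  · convert split s
  rw [← Finset.smul_sum]
  congr 1
  rw [inertiaROf_eq_sum, ← Fintype.sum_sigma']
  refine Fintype.sum_equiv (Equiv.ofBijective _ snocFun_bijective) _ _ fun p => ?_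
  have hc : cent2 p.1 p.2.1 = cent (snocFun p) := by
    ext x
    rw [Subgroup.mem_inf, Subgroup.mem_centralizer_iff, Subgroup.mem_centralizer_iff, Subgroup.mem_centralizer_iff]
    constructor
    · rintro ⟨h1, h2⟩ _ ⟨i, rfl⟩
      induction i using Fin.lastCases with
      | last => simpa [snocFun] using h2 _ rfl
      | cast i => simpa [snocFun] using h1 _ ⟨i, rfl⟩
    · intro h
      refine ⟨?_, ?_⟩
      · rintro _ ⟨i, rfl⟩; simpa [snocFun] using h _ ⟨i.castSucc, rfl⟩
      · rintro a ha; rw [Set.mem_singleton_iff.1 ha]; simpa [snocFun] using h _ ⟨Fin.last r, rfl⟩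
  rw [Equiv.ofBijective_apply]
  have f := MulEquiv.subgroupCongr hc
  rw [wt2, wt, Nat.card_congr f.toEquiv, cl_congr f]

end recursion

theorem inertiaR_succ (r : ℕ) : inertiaR (r + 1) = (inertia - algebraMap ℚ (Module.End ℚ K) r) * inertiaR r := by
  refine Finsupp.lhom_ext fun i b => ?_
  rw [Module.End.mul_apply, LinearMap.sub_apply, Module.algebraMap_end_apply]
  rw [inertiaR, Finsupp.linearCombination_single, inertiaR, Finsupp.linearCombination_single, map_smul,
    inertia_inertiaROf, smul_add, smul_comm (r : ℚ) b, add_sub_cancel_right]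

theorem card_congr_rep (G : Type) [Group G] [Finite G] :
    (Idx.of G).card = Nat.card G ∧ (Idx.of G).centerCard = Nat.card (Subgroup.center G) := by
  obtain ⟨e⟩ := nonempty_rep_of G
  exact ⟨Nat.card_congr e.toEquiv, Nat.card_congr (Subgroup.centerCongr e).toEquiv⟩

theorem centerCard_pos (i : Idx) : 0 < i.centerCard := Nat.card_pos

theorem centerCard_le_card (i : Idx) : i.centerCard ≤ i.card := Subgroup.card_le_card_group _

section triangular
variable (G : Type) [Group G] [Finite G]

/-- groups of smaller order and larger centre -/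
def better (c n : ℕ) : Submodule ℚ K := Finsupp.supported ℚ ℚ {i : Idx | c < i.centerCard ∧ i.card < n}

theorem inertia_sub_mem : inertia (cl G) - (Nat.card (Subgroup.center G) : ℚ) • cl G ∈
    better (Nat.card (Subgroup.center G)) (Nat.card G) := by
  classical
  rw [inertia, inertiaR_cl, inertiaROf_eq_sum,
    ← Fintype.sum_subtype_add_sum_subtype (fun s : CommTuple G 1 => s.1 0 ∈ Subgroup.center G) wt]
  have h1 : ∑ s : {s : CommTuple G 1 // s.1 0 ∈ Subgroup.center G}, wt s.1 = (Nat.card (Subgroup.center G) : ℚ) • cl G := by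
    have hw : ∀ s : {s : CommTuple G 1 // s.1 0 ∈ Subgroup.center G}, wt s.1 = cl G := fun s => by
      have hc : cent s.1 = ⊤ := by
        refine (Subgroup.eq_top_iff' _).2 fun x => Subgroup.mem_centralizer_iff.2 ?_
        rintro _ ⟨i, rfl⟩
        rw [Subsingleton.elim i 0]
        exact ((Subgroup.mem_center_iff.1 s.2) x).symm
      have e : cent s.1 ≃* G := (MulEquiv.subgroupCongr hc).trans Subgroup.topEquiv
      rw [wt, Nat.card_congr e.toEquiv, cl_congr e, div_self (by exact_mod_cast Nat.card_pos.ne'), one_smul]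
    simp only [hw, Finset.sum_const, Finset.card_univ]
    rw [← Nat.cast_smul_eq_nsmul ℚ, ← Nat.card_eq_fintype_card]
    congr 2
    exact Nat.card_congr
      { toFun := fun s => ⟨s.1.1 0, s.2⟩
        invFun := fun g => ⟨⟨fun _ => g.1, Function.injective_of_subsingleton _, fun _ _ => Commute.refl _⟩, g.2⟩
        left_inv := fun s => Subtype.ext (Subtype.ext (funext fun i => congrArg s.1.1 (Subsingleton.elim _ _)))
        right_inv := fun g => rfl }
  rw [h1, add_sub_cancel_left]
  refine Submodule.sum_mem _ fun ⟨s, hs⟩ _ => Submodule.smul_mem _ _ ?_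
  refine Finsupp.single_mem_supported ℚ _ ?_
  obtain ⟨ha, hb⟩ := card_congr_rep (cent s)
  simp only [Set.mem_ofPred_eq, ha, hb]
  have hmem : s.1 0 ∈ cent s := Subgroup.mem_centralizer_iff.2 (by rintro _ ⟨i, rfl⟩; exact (s.2.2 i 0).eq)
  have hZ : Subgroup.center G ≤ cent s := fun x hx => Subgroup.mem_centralizer_iff.2 fun a _ => Subgroup.mem_center_iff.1 hx a
  have key : Subgroup.center G < (Subgroup.center (cent s)).map (cent s).subtype := by
    refine lt_of_le_of_ne (fun x hx => ⟨⟨x, hZ hx⟩, Subgroup.mem_center_iff.2 fun y => Subtype.ext (Subgroup.mem_center_iff.1 hx y.1), rfl⟩) fun he => hs ?_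
    rw [he]
    refine ⟨⟨_, hmem⟩, Subgroup.mem_center_iff.2 fun y => Subtype.ext ?_, rfl⟩
    exact (Subgroup.mem_centralizer_iff.1 y.2 _ ⟨0, rfl⟩).symm
  constructor
  · rw [Nat.card_congr ((Subgroup.center (cent s)).equivMapOfInjective _ (cent s).subtype_injective).toEquiv]
    by_contra hle
    exact key.ne (Subgroup.eq_of_le_of_card_ge key.le (not_lt.1 hle))
  · by_contra hle
    have htop : cent s = ⊤ := Subgroup.eq_top_of_le_card _ (not_lt.1 hle)
    refine hs (Subgroup.mem_center_iff.2 fun x => ?_)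
    have hx : x ∈ cent s := by rw [htop]; trivial
    exact (Subgroup.mem_centralizer_iff.1 hx _ ⟨0, rfl⟩).symm

end triangular

theorem inertia_sub_mem_single (i : Idx) :
    inertia (Finsupp.single i 1) - (i.centerCard : ℚ) • Finsupp.single i 1 ∈ better i.centerCard i.card := by
  rw [← cl_rep]; exact inertia_sub_mem i.rep

theorem inertia_single_mem_Kle {i : Idx} {n : ℕ} (h : i.card ≤ n) : inertia (Finsupp.single i 1) ∈ Kle n := by
  have h0 := inertia_sub_mem_single i
  rw [← sub_add_cancel (inertia (Finsupp.single i 1)) ((i.centerCard : ℚ) • Finsupp.single i 1)]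
  refine add_mem (Finsupp.supported_mono (fun j hj => ?_) h0) (Submodule.smul_mem _ _ (Finsupp.single_mem_supported ℚ _ h))
  exact hj.2.le.trans h

theorem inertia_mapsTo_Kle (n : ℕ) (v : K) (hv : v ∈ Kle n) : inertia v ∈ Kle n := by
  rw [Kle, Finsupp.supported_eq_span_single] at hv
  induction hv using Submodule.span_induction with
  | mem x hx => obtain ⟨i, hi, rfl⟩ := hx; exact inertia_single_mem_Kle hi
  | zero => simp
  | add x y _ _ hx hy => rw [map_add]; exact add_mem hx hy
  | smul a x _ hx => rw [map_smul]; exact Submodule.smul_mem _ a hx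

theorem inertia_sub_mem_Kge (k : ℕ) (v : K) (hv : v ∈ Kge k) : inertia v - (k : ℚ) • v ∈ Kge (k + 1) := by
  rw [Kge, Finsupp.supported_eq_span_single] at hv
  induction hv using Submodule.span_induction with
  | mem x hx =>
    obtain ⟨i, hi, rfl⟩ := hx
    have hi' : k ≤ i.centerCard := hi
    have h0 : inertia (Finsupp.single i 1) - (i.centerCard : ℚ) • Finsupp.single i 1 ∈ Kge (k + 1) :=
      Finsupp.supported_mono (fun j hj => show k + 1 ≤ j.centerCard from le_trans (by omega) (Nat.succ_le_of_lt hj.1))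
        (inertia_sub_mem_single i)
    rcases eq_or_lt_of_le hi' with h | h
    · rw [h] at h0 ⊢; exact h0
    · have e : inertia (Finsupp.single i 1) - (k : ℚ) • Finsupp.single i 1 =
          (inertia (Finsupp.single i 1) - (i.centerCard : ℚ) • Finsupp.single i 1) +
            ((i.centerCard : ℚ) - k) • Finsupp.single i 1 := by rw [sub_smul]; abel
      rw [e]
      exact add_mem h0 (Submodule.smul_mem _ _ (Finsupp.single_mem_supported ℚ _ h))
  | zero => simp
  | add x y _ _ hx hy =>
    have e : inertia (x + y) - (k : ℚ) • (x + y) = (inertia x - (k : ℚ) • x) + (inertia y - (k : ℚ) • y) := by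
      rw [map_add, smul_add]; abel
    rw [e]; exact add_mem hx hy
  | smul a x _ hx =>
    rw [map_smul, smul_comm, ← smul_sub]; exact Submodule.smul_mem _ a hx

theorem inertiaR_succ_apply (r : ℕ) (v : K) : inertiaR (r + 1) v = inertia (inertiaR r v) - (r : ℚ) • inertiaR r v := by
  rw [inertiaR_succ, Module.End.mul_apply, LinearMap.sub_apply, Module.algebraMap_end_apply]

theorem cast_descFactorial_succ (k r : ℕ) :
    ((k.descFactorial (r + 1) : ℕ) : ℚ) = ((k : ℚ) - r) * (k.descFactorial r : ℕ) := by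
  rcases lt_or_ge k r with h | h
  · simp [Nat.descFactorial_eq_zero_iff_lt.2 h, Nat.descFactorial_eq_zero_iff_lt.2 (h.trans (Nat.lt_succ_self r))]
  · rw [Nat.descFactorial_succ, Nat.cast_mul, Nat.cast_sub h]

theorem inertiaR_sub_smul_mem (r k : ℕ) (v : K) (hv : v ∈ Kge k) :
    inertiaR r v - ((r.factorial * k.choose r : ℕ) : ℚ) • v ∈ Kge (k + 1) := by
  rw [← Nat.descFactorial_eq_factorial_mul_choose]
  induction r with
  | zero => simp [inertiaR_zero]
  | succ r ih =>
    set w := inertiaR r v - ((k.descFactorial r : ℕ) : ℚ) • v with hw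
    have hwk : w ∈ Kge k := Finsupp.supported_mono (fun j hj => show k ≤ j.centerCard from Nat.le_of_succ_le hj) ih
    have h1 : inertia w - (k : ℚ) • w ∈ Kge (k + 1) := inertia_sub_mem_Kge k w hwk
    have h2 := inertia_sub_mem_Kge k v hv
    have e : inertiaR (r + 1) v - ((k.descFactorial (r + 1) : ℕ) : ℚ) • v =
        (inertia w - (k : ℚ) • w) + ((k : ℚ) - r) • w + ((k.descFactorial r : ℕ) : ℚ) • (inertia v - (k : ℚ) • v) := by
      rw [inertiaR_succ_apply, cast_descFactorial_succ, hw]
      simp only [map_sub, map_smul]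
      module
    rw [e]
    exact add_mem (add_mem h1 (Submodule.smul_mem _ _ ih)) (Submodule.smul_mem _ _ h2)

noncomputable abbrev E (k : ℕ) : Submodule ℚ K := Module.End.eigenspace inertia (k : ℚ)

theorem inertiaR_eigen (k r : ℕ) {v : K} (hv : v ∈ E k) :
    inertiaR r v = ((r.factorial * k.choose r : ℕ) : ℚ) • v := by
  rw [← Nat.descFactorial_eq_factorial_mul_choose]
  induction r with
  | zero => simp [inertiaR_zero]
  | succ r ih =>
    rw [inertiaR_succ_apply, ih, map_smul, Module.End.mem_eigenspace_iff.1 hv, cast_descFactorial_succ]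
    module

theorem sub_surjective_on (c : ℕ) {y : K} (hy : y ∈ ⨆ (k : ℕ) (_ : c < k), E k) :
    ∃ x ∈ ⨆ (k : ℕ) (_ : c < k), E k, inertia x - (c : ℚ) • x = y := by
  induction hy using Submodule.iSup_induction' with
  | mem k x hx =>
    rw [iSup_eq_if] at hx
    by_cases hk : c < k
    · rw [if_pos hk] at hx
      have hne : (k : ℚ) - c ≠ 0 := sub_ne_zero.2 (by exact_mod_cast hk.ne')
      refine ⟨((k : ℚ) - c)⁻¹ • x, Submodule.smul_mem _ _ (Submodule.mem_iSup_of_mem k (Submodule.mem_iSup_of_mem hk hx)), ?_⟩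
      rw [map_smul, Module.End.mem_eigenspace_iff.1 hx, smul_comm, ← sub_smul, smul_smul, mul_inv_cancel₀ hne, one_smul]
    · rw [if_neg hk, Submodule.mem_bot] at hx
      exact ⟨0, zero_mem _, by simp [hx]⟩
  | zero => exact ⟨0, zero_mem _, by simp⟩
  | add a b _ _ ha hb =>
    obtain ⟨x, hx, rfl⟩ := ha
    obtain ⟨x', hx', rfl⟩ := hb
    exact ⟨x + x', add_mem hx hx', by rw [map_add, smul_add]; abel⟩

theorem single_mem_eigen (i : Idx) : Finsupp.single i (1 : ℚ) ∈ ⨆ (k : ℕ) (_ : i.centerCard ≤ k), E k := by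
  induction hn : i.card using Nat.strong_induction_on generalizing i with
  | _ n ih =>
    have hsub : better i.centerCard i.card ≤ ⨆ (k : ℕ) (_ : i.centerCard < k), E k := by
      rw [better, Finsupp.supported_eq_span_single, Submodule.span_le]
      rintro _ ⟨j, hj, rfl⟩
      exact (iSup_mono fun k => iSup_const_mono fun hk => lt_of_lt_of_le hj.1 hk : _ ≤ ⨆ (k : ℕ) (_ : i.centerCard < k), E k)
        (ih j.card (hn ▸ hj.2) j rfl)
    obtain ⟨x, hx, hx'⟩ := sub_surjective_on i.centerCard (hsub (inertia_sub_mem_single i))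
    rw [← sub_add_cancel (Finsupp.single i (1 : ℚ)) x]
    refine add_mem (Submodule.mem_iSup_of_mem i.centerCard (Submodule.mem_iSup_of_mem le_rfl ?_))
      ((iSup_mono fun k => iSup_const_mono fun hk => le_of_lt hk : _ ≤ ⨆ (k : ℕ) (_ : i.centerCard ≤ k), E k) hx)
    rw [Module.End.mem_eigenspace_iff, map_sub, smul_sub, sub_eq_sub_iff_sub_eq_sub]
    exact hx'.symm

theorem iSup_pos_eigen_eq_top : (⨆ (k : ℕ) (_ : 0 < k), E k) = ⊤ := by
  rw [eq_top_iff]
  intro v _
  induction v using Finsupp.induction_linear with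
  | zero => simp
  | add a b ha hb => exact add_mem (ha trivial) (hb trivial)
  | single i b =>
    rw [← mul_one b, ← smul_eq_mul, ← Finsupp.smul_single]
    exact Submodule.smul_mem _ _ ((iSup_mono fun k => iSup_const_mono fun hk => lt_of_lt_of_le (centerCard_pos i) hk :
      _ ≤ ⨆ (k : ℕ) (_ : 0 < k), E k) (single_mem_eigen i))

theorem iSup_eigen_eq_top : (⨆ k : ℕ, E k) = ⊤ :=
  top_le_iff.1 (iSup_pos_eigen_eq_top ▸ iSup_mono fun k => iSup_const_le)

theorem eigenvalue_iff (μ : ℚ) : Module.End.HasEigenvalue inertia μ ↔ ∃ n : ℕ, 0 < n ∧ μ = (n : ℚ) := by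
  constructor
  · intro h
    by_contra hc
    push Not at hc
    refine h ?_
    have hd := (Module.End.eigenspaces_iSupIndep inertia) μ
    have hle : (⊤ : Submodule ℚ K) ≤ ⨆ (ν : ℚ) (_ : ν ≠ μ), Module.End.eigenspace inertia ν := by
      rw [← iSup_pos_eigen_eq_top]
      refine iSup₂_le fun k hk => ?_
      exact le_iSup₂_of_le (k : ℚ) (fun e => hc k hk e.symm) le_rfl
    exact disjoint_self.1 (hd.mono_right (le_top.trans hle))
  · rintro ⟨n, hn, rfl⟩
    have : NeZero n := ⟨hn.ne'⟩
    refine Module.End.hasEigenvalue_of_hasEigenvector (x := cl (Multiplicative (ZMod n))) ⟨?_, ?_⟩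
    · rw [Module.End.mem_eigenspace_iff, inertia, inertiaR_cl, inertiaROf_eq_sum]
      have hw : ∀ s : CommTuple (Multiplicative (ZMod n)) 1, wt s = cl (Multiplicative (ZMod n)) := fun s => by
        have hc : cent s = ⊤ := (Subgroup.eq_top_iff' _).2 fun x => Subgroup.mem_centralizer_iff.2 fun a _ => mul_comm a x
        have e : cent s ≃* Multiplicative (ZMod n) := (MulEquiv.subgroupCongr hc).trans Subgroup.topEquiv
        rw [wt, Nat.card_congr e.toEquiv, cl_congr e, div_self (by exact_mod_cast Nat.card_pos.ne'), one_smul]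
      simp only [hw, Finset.sum_const, Finset.card_univ]
      rw [← Nat.cast_smul_eq_nsmul ℚ, ← Nat.card_eq_fintype_card]
      congr 2
      rw [Nat.card_congr
        ({ toFun := fun s => s.1 0
           invFun := fun g => ⟨fun _ => g, Function.injective_of_subsingleton _, fun _ _ => Commute.refl _⟩
           left_inv := fun s => Subtype.ext (funext fun i => congrArg s.1 (Subsingleton.elim _ _))
           right_inv := fun g => rfl } : CommTuple (Multiplicative (ZMod n)) 1 ≃ Multiplicative (ZMod n))]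
      simp
    · simp [cl]

theorem exists_decomp (v : K) : ∃ f : ℕ →₀ K, (∀ k, f k ∈ E k) ∧ (f.sum fun _ x => x) = v :=
  (Submodule.mem_iSup_iff_exists_finsupp E v).1 (iSup_eigen_eq_top ▸ Submodule.mem_top)

theorem E_indep : iSupIndep E :=
  (Module.End.eigenspaces_iSupIndep inertia).comp (fun a b h => by exact_mod_cast h)

theorem ker_inertiaR (r : ℕ) : LinearMap.ker (inertiaR r) = ⨆ k ∈ Finset.range r, E k := by
  refine le_antisymm (fun v hv => ?_) (iSup₂_le fun k hk v hv => ?_)
  · obtain ⟨f, hf, rfl⟩ := exists_decomp v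
    rw [LinearMap.mem_ker, Finsupp.sum, map_sum] at hv
    refine Submodule.sum_mem _ fun k hk => ?_
    by_cases hkr : k < r
    · exact Submodule.mem_iSup_of_mem k (Submodule.mem_iSup_of_mem (Finset.mem_range.2 hkr) (hf k))
    · rw [Finset.sum_congr rfl fun j _ => inertiaR_eigen j r (hf j)] at hv
      have h0 := iSupIndep_iff_finsetSum_eq_zero_imp_eq_zero E |>.1 E_indep f.support
        (fun j => ((r.factorial * j.choose r : ℕ) : ℚ) • f j) (fun j _ => Submodule.smul_mem _ _ (hf j)) hv k hk
      rcases smul_eq_zero.1 h0 with h | h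
      · exfalso
        rw [Nat.cast_eq_zero, mul_eq_zero] at h
        exact h.elim (Nat.factorial_pos r).ne' (fun h => (Nat.choose_pos (not_lt.1 hkr)).ne' h)
      · simp [h]
  · rw [LinearMap.mem_ker, inertiaR_eigen k r hv, Nat.choose_eq_zero_of_lt (Finset.mem_range.1 hk)]
    simp

/-- coefficient of the projection -/
noncomputable def co (k r : ℕ) : ℚ := ((-1 : ℚ) ^ (r + k)) / (r.factorial : ℚ) * (r.choose k : ℚ)

theorem co_sum (k n : ℕ) :
    ∑ r ∈ Finset.range (n + 1), co k r * ((r.factorial * n.choose r : ℕ) : ℚ) = if k = n then 1 else 0 := by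
  have hterm : ∀ r, co k r * ((r.factorial * n.choose r : ℕ) : ℚ) = (-1 : ℚ) ^ (r + k) * (r.choose k * n.choose r : ℕ) := fun r => by
    have : (r.factorial : ℚ) ≠ 0 := by exact_mod_cast (Nat.factorial_pos r).ne'
    rw [co]; push_cast; field_simp
  simp only [hterm]
  rcases lt_or_ge n k with h | h
  · rw [if_neg h.ne', Finset.sum_eq_zero]
    intro r hr
    rw [Nat.choose_eq_zero_of_lt (lt_of_le_of_lt (Nat.le_of_lt_succ (Finset.mem_range.1 hr)) h)]
    simp
  obtain ⟨m, rfl⟩ := Nat.exists_eq_add_of_le h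
  rw [show k + m + 1 = k + (m + 1) by omega, Finset.sum_range_add]
  rw [Finset.sum_eq_zero (fun r hr => by rw [Nat.choose_eq_zero_of_lt (Finset.mem_range.1 hr)]; simp), zero_add]
  have hj : ∀ j ∈ Finset.range (m + 1), (-1 : ℚ) ^ (k + j + k) * (((k + j).choose k * (k + m).choose (k + j) : ℕ) : ℚ) =
      ((k + m).choose k : ℚ) * (((-1 : ℤ) ^ j * (m.choose j : ℤ) : ℤ) : ℚ) := by
    intro j hj
    have hjm : j ≤ m := Nat.le_of_lt_succ (Finset.mem_range.1 hj)
    rw [mul_comm ((k + j).choose k), Nat.choose_mul (n := k + m) (k := k + j) (by omega)]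
    rw [show k + m - k = m by omega, show k + j - k = j by omega, show k + j + k = j + 2 * k by omega, pow_add, pow_mul]
    push_cast
    simp; ring
  rw [Finset.sum_congr rfl hj, ← Finset.mul_sum, ← Int.cast_sum, Int.alternating_sum_range_choose]
  rcases Nat.eq_zero_or_pos m with hm | hm
  · subst hm; simp
  · rw [if_neg hm.ne', if_neg (by omega)]; simp

theorem eventually_zero (v : K) : ∃ N, ∀ r, N ≤ r → inertiaR r v = 0 := by
  obtain ⟨f, hf, rfl⟩ := exists_decomp v
  refine ⟨f.support.sup id + 1, fun r hr => ?_⟩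
  rw [Finsupp.sum, map_sum, Finset.sum_eq_zero]
  intro k hk
  rw [inertiaR_eigen k r (hf k), Nat.choose_eq_zero_of_lt (lt_of_le_of_lt (show k ≤ f.support.sup id from Finset.le_sup (f := id) hk) hr)]
  simp

theorem proj_formula (v : K) :
    (∀ k : ℕ, (∑ᶠ r : ℕ, co k r • inertiaR r v) ∈ E k) ∧ (∑ᶠ k : ℕ, ∑ᶠ r : ℕ, co k r • inertiaR r v) = v := by
  classical
  obtain ⟨f, hf, rfl⟩ := exists_decomp v
  have hP : ∀ k, (∑ᶠ r : ℕ, co k r • inertiaR r (f.sum fun _ x => x)) = f k := by
    intro k
    let N := f.support.sup id + 1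
    have hsupp : (Function.support fun r => co k r • inertiaR r (f.sum fun _ x => x)) ⊆ Finset.range N := by
      intro r hr
      simp only [Finset.coe_range, Set.mem_Iio]
      by_contra hle
      apply hr
      show co k r • inertiaR r (f.sum fun _ x => x) = 0
      rw [Finsupp.sum, map_sum, Finset.sum_eq_zero, smul_zero]
      intro j hj
      rw [inertiaR_eigen j r (hf j), Nat.choose_eq_zero_of_lt (lt_of_le_of_lt (show j ≤ f.support.sup id from Finset.le_sup (f := id) hj) (not_lt.1 hle))]
      simp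
    rw [finsum_eq_sum_of_support_subset _ hsupp]
    have e : ∀ j ∈ f.support, ∑ r ∈ Finset.range N, co k r • inertiaR r (f j) = if k = j then f j else 0 := by
      intro j hj
      simp only [inertiaR_eigen j _ (hf j), smul_smul, ← Finset.sum_smul]
      rw [← Finset.sum_subset (Finset.range_mono (Nat.succ_le_succ (show j ≤ f.support.sup id from Finset.le_sup (f := id) hj))), co_sum]
      · split_ifs <;> simp
      · intro r _ hr
        rw [Finset.mem_range, not_lt] at hr
        rw [Nat.choose_eq_zero_of_lt (show j < r from hr)]; simp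
    simp only [Finsupp.sum, map_sum, Finset.smul_sum]
    rw [Finset.sum_comm, Finset.sum_congr rfl e, Finset.sum_ite_eq]
    split_ifs with hk
    · rfl
    · exact (Finsupp.notMem_support_iff.1 hk).symm
  refine ⟨fun k => by rw [hP]; exact hf k, ?_⟩
  rw [finsum_congr hP, finsum_eq_sum_of_support_subset _ (s := f.support) (fun k hk => Finsupp.mem_support_iff.2 hk)]
  rfl

end Groth.Agent.H5Inertia
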