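import Groth.Agent.Lib.H5TopCoh
import Groth.Agent.S0453
import Mathlib.CategoryTheory.Sites.EpiMono

universe u

namespace Groth.Agent.H5IrredConst
open CategoryTheory Limits Opposite TopologicalSpace
open Groth.Agent

variable (X : TopCat.{u}) [IrreducibleSpace X] (A : Type u) [AddCommGroup A]

/-- index: one point iff the open is nonempty -/
abbrev NE (U : Opens X) : Type u := {_p : PUnit.{u + 1} // U ≠ ⊥}

variable {X}

lemma ne_mono {U V : Opens X} (h : V ≤ U) (hV : V ≠ ⊥) : U ≠ ⊥ := fun hU => hV (le_bot_iff.1 (hU ▸ h))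

lemma inter_ne {U V : Opens X} (hU : U ≠ ⊥) (hV : V ≠ ⊥) : U ⊓ V ≠ ⊥ := by
  obtain ⟨x, hx⟩ := (Opens.ne_bot_iff_nonempty U).1 hU
  obtain ⟨y, hy⟩ := (Opens.ne_bot_iff_nonempty V).1 hV
  obtain ⟨z, hz⟩ := nonempty_preirreducible_inter U.2 V.2 ⟨x, hx⟩ ⟨y, hy⟩
  intro h
  have : z ∈ U ⊓ V := hz
  rw [h] at this
  exact this

variable (X)

/-- the constant sheaf on an irreducible space -/
def P : TopCat.Presheaf AddCommGrpCat.{u} X where
  obj U := AddCommGrpCat.of (NE X U.unop → A)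
  map {U V} i := AddCommGrpCat.ofHom
    { toFun := fun s p => s ⟨p.1, ne_mono (leOfHom i.unop) p.2⟩
      map_zero' := rfl
      map_add' := fun _ _ => rfl }

theorem isSheaf_P : (P X A).IsSheaf := by
  rw [TopCat.Presheaf.isSheaf_iff_isSheafUniqueGluing]
  intro ι U sf hsf
  by_cases h : ∃ i, U i ≠ ⊥
  · obtain ⟨i, hi⟩ := h
    let a : A := sf i ⟨PUnit.unit, hi⟩
    refine ⟨fun _ => a, fun j => funext fun p => ?_, fun s hs => funext fun p => ?_⟩
    · have hij := inter_ne hi p.2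
      exact congrFun (hsf i j) ⟨PUnit.unit, hij⟩
    · exact congrFun (hs i) ⟨PUnit.unit, hi⟩
  · push_neg at h
    have : IsEmpty (NE X (iSup U)) := ⟨fun p => p.2 (iSup_eq_bot.2 h)⟩
    refine ⟨fun p => isEmptyElim p, fun j => funext fun p => absurd (h j) p.2, fun s _ => funext fun p => isEmptyElim p⟩

/-- constants -/
def η : (Functor.const (Opens X)ᵒᵖ).obj (AddCommGrpCat.of A) ⟶ P X A where
  app U := AddCommGrpCat.ofHom { toFun := fun a _ => a, map_zero' := rfl, map_add' := fun _ _ => rfl }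

lemma W_η : (Opens.grothendieckTopology X).W (η X A) := by
  rw [GrothendieckTopology.W_iff_isLocallyBijective]
  refine ⟨⟨fun {U} x y h => ?_⟩, ?_⟩
  · intro p hp
    refine ⟨U.unop, 𝟙 _, ?_, hp⟩
    exact congrFun h ⟨PUnit.unit, fun hb => by rw [hb] at hp; exact hp⟩
  · refine Presheaf.isLocallySurjective_of_surjective _ _ fun U s => ?_
    by_cases h : U.unop ≠ ⊥
    · exact ⟨s ⟨PUnit.unit, h⟩, funext fun p => rfl⟩
    · exact ⟨0, funext fun p => absurd p.2 h⟩

/-- the sheaf -/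
def Psh : CohTop.Ab X := ⟨P X A, isSheaf_P X A⟩

theorem flasque_P : TopCat.Sheaf.IsFlasque (Psh X A) := by
  refine ⟨fun {U V} i => ?_⟩
  rw [AddCommGrpCat.epi_iff_surjective]
  intro s
  by_cases h : V.unop ≠ ⊥
  · exact ⟨fun _ => s ⟨PUnit.unit, h⟩, funext fun p => rfl⟩
  · exact ⟨0, funext fun p => absurd p.2 h⟩

theorem acyclic_const (p : ℕ) : Subsingleton (CohTop.H (CohTop.const X A) (p + 1)) := by
  have hη : IsIso ((presheafToSheaf (Opens.grothendieckTopology X) AddCommGrpCat.{u}).map (η X A)) :=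
    (GrothendieckTopology.W_iff _ _).1 (W_η X A)
  let e : CohTop.const X A ≅ Psh X A :=
    @asIso _ _ _ _ ((presheafToSheaf (Opens.grothendieckTopology X) AddCommGrpCat.{u}).map (η X A)) hη ≪≫
      (sheafificationIso (Psh X A)).symm
  have := flasque_P X A
  have : Subsingleton (CohTop.H (Psh X A) (p + 1)) := S0453.result (Psh X A) p
  exact H5SiteCoh.subsingleton_congr e.symm

end Groth.Agent.H5IrredConst
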