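import Mathlib

open CategoryTheory CategoryTheory.Limits Opposite

namespace Groth.Agent.H5JBang

universe v u

theorem over_ff {C : Type u} [Category.{v} C] (U : C) (hU : ∀ V : C, Subsingleton (V ⟶ U)) :
    (Over.forget U).Full ∧ (Over.forget U).Faithful :=
  ⟨⟨fun {X Y} f => ⟨Over.homMk f ((hU X.left).elim _ _), rfl⟩⟩, inferInstance⟩

theorem unit_iso {C : Type u} [Category.{v} C] (J : GrothendieckTopology C) (U : C)
    (hU : ∀ V : C, Subsingleton (V ⟶ U)) (A : Type*) [Category.{max u v} A] [∀ X : Cᵒᵖ, HasLimitsOfShape (StructuredArrow X (Over.forget U).op) A]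
    [HasWeakSheafify J A] [∀ (P : (Over U)ᵒᵖ ⥤ A), (Over.forget U).op.HasLeftKanExtension P]
    (F : Sheaf (J.over U) A) :
    IsIso (((Over.forget U).sheafAdjunctionContinuous A (J.over U) J).unit.app F) := by
  obtain ⟨_, _⟩ := over_ff U hU
  let adj2 := (Over.forget U).sheafAdjunctionCocontinuous A (J.over U) J
  have h2 : ∀ G, IsIso (adj2.counit.app G) := fun G => by
    have : IsIso ((sheafToPresheaf (J.over U) A).map (adj2.counit.app G)) := by
      change IsIso (adj2.counit.app G).hom
      simp only [adj2, Functor.sheafAdjunctionCocontinuous_counit_app_hom]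
      haveI : (Over.forget U).op.Full := inferInstance
      haveI : (Over.forget U).op.Faithful := inferInstance
      haveI := Functor.reflective' (Over.forget U).op (H := A)
      exact NatIso.isIso_app_of_isIso _ _
    exact isIso_of_fully_faithful (sheafToPresheaf _ _) _
  have : IsIso adj2.counit := NatIso.isIso_of_isIso_app _
  let t : Adjunction.Triple _ _ _ := ⟨(Over.forget U).sheafAdjunctionContinuous A (J.over U) J, adj2⟩
  have : IsIso t.adj₁.unit := t.isIso_unit_iff_isIso_counit.2 ‹_›
  exact NatIso.isIso_app_of_isIso _ F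

theorem unit_iso_ab {C : Type u} [Category.{v} C] (J : GrothendieckTopology C) (U : C)
    (hU : ∀ V : C, Subsingleton (V ⟶ U))
    [HasWeakSheafify J AddCommGrpCat.{max u v}]
    [∀ (P : (Over U)ᵒᵖ ⥤ AddCommGrpCat.{max u v}), (Over.forget U).op.HasLeftKanExtension P]
    (F : Sheaf (J.over U) AddCommGrpCat.{max u v}) :
    IsIso (((Over.forget U).sheafAdjunctionContinuous AddCommGrpCat.{max u v} (J.over U) J).unit.app F) :=
  unit_iso J U hU _ F

theorem unit_iso_ty {C : Type u} [Category.{v} C] (J : GrothendieckTopology C) (U : C)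
    (hU : ∀ V : C, Subsingleton (V ⟶ U))
    [HasWeakSheafify J (Type (max u v))]
    [∀ (P : (Over U)ᵒᵖ ⥤ (Type (max u v))), (Over.forget U).op.HasLeftKanExtension P]
    (F : Sheaf (J.over U) (Type (max u v))) :
    IsIso (((Over.forget U).sheafAdjunctionContinuous (Type (max u v)) (J.over U) J).unit.app F) :=
  unit_iso J U hU _ F

end Groth.Agent.H5JBang
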