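import Groth.Agent.Lib.H5TenCx
import Groth.Agent.Lib.H5BrownGroth
import Groth.Prelude.Def_KFlatSite

universe w v v' v'' u u' u''

namespace Groth.Agent.H5KFlat
open CategoryTheory Limits Category HomologicalComplex Pretriangulated MonoidalCategory Opposite
open scoped ZeroObject
open Groth.Agent Groth.Agent.H5TenCx

section general

lemma acyclic_of_iso {D : Type u} [Category.{v} D] [Abelian D] {K L : CochainComplex D ℤ}
    (e : K ≅ L) (h : K.Acyclic) : L.Acyclic := fun n => (h n).of_iso e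

lemma acyclic_shift {D : Type u} [Category.{v} D] [Abelian D] {K : CochainComplex D ℤ}
    (h : K.Acyclic) (a : ℤ) : (K⟦a⟧).Acyclic := fun n => by
  rw [exactAt_iff_isZero_homology]
  exact ((h (a + n)).isZero_homology).of_iso
    (((HomologicalComplex.homologyFunctor D (ComplexShape.up ℤ) 0).shiftIso a n (a + n) rfl).app K)

lemma acyclic_X₂ {D : Type u} [Category.{v} D] [Abelian D] {S : ShortComplex (CochainComplex D ℤ)}
    (hS : S.ShortExact) (h₁ : S.X₁.Acyclic) (h₃ : S.X₃.Acyclic) : S.X₂.Acyclic := fun n => by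
  rw [exactAt_iff_isZero_homology]
  exact (hS.homology_exact₂ n).isZero_of_both_zeros ((h₁ n).isZero_homology.eq_of_src _ _)
    ((h₃ n).isZero_homology.eq_of_tgt _ _)

variable {A : Type u} [Category.{v} A] [Abelian A] {B : Type u'} [Category.{v'} B] [Abelian B]
  {D : Type u''} [Category.{v''} D] [Abelian D]
  (F : A ⥤ B ⥤ D) [F.Additive] [∀ X, (F.obj X).Additive] [HasCountableCoproducts D]
  [∀ (K₁ : Cx A) (K₂ : Cx B), HasMapBifunctor K₁ K₂ F (.up ℤ)]

lemma kflat_of_iso {K K' : Cx B} (e : K ≅ K') (h : KFlat₂ F K) : KFlat₂ F K' := fun L hL =>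
  acyclic_of_iso ((T₂ F L).mapIso e) (h L hL)

lemma kflat_of_contractible {K : Cx B} (h : Homotopy (𝟙 K) 0) : KFlat₂ F K := fun L _ => by
  obtain ⟨h'⟩ := (good₂ F L).hom _ _ ⟨h⟩
  exact acyclic_of_homotopy_id ((Homotopy.ofEq ((T₂ F L).map_id K).symm).trans
    (h'.trans (Homotopy.ofEq (Functor.map_zero _ _ _))))

lemma kflat_X₂ (S : ShortComplex (Cx B)) (σ : ∀ n, Nonempty (S.map (eval B _ n)).Splitting)
    (h₁ : KFlat₂ F S.X₁) (h₃ : KFlat₂ F S.X₃) : KFlat₂ F S.X₂ := fun L hL =>
  acyclic_X₂ ((good₂ F L).split S σ (by rw [← Functor.map_comp, S.zero, Functor.map_zero]))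
    (h₁ L hL) (h₃ L hL)

lemma kflat_shift {K : Cx B} (h : KFlat₂ F K) (a : ℤ) : KFlat₂ F (K⟦a⟧) := fun L hL =>
  acyclic_of_iso (((F.map₂CochainComplex.obj L).commShiftIso a).app K).symm
    (acyclic_shift (h L hL) a)

lemma kflat_cone {K K' : Cx B} (φ : K ⟶ K') (h : KFlat₂ F K) (h' : KFlat₂ F K') :
    KFlat₂ F (CochainComplex.mappingCone φ) :=
  kflat_X₂ F (CochainComplex.mappingCone.triangleRotateShortComplex φ)
    (fun n => ⟨CochainComplex.mappingCone.triangleRotateShortComplexSplitting φ n⟩)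
    h' (kflat_shift F h 1)

lemma kflat_isColimit {J : Type*} [Category J] [∀ X, PreservesColimitsOfShape J (F.obj X)]
    [HasColimitsOfShape J B] [HasColimitsOfShape J D] [HasExactColimitsOfShape J D]
    {G : J ⥤ Cx B} {c : Cocone G} (hc : IsColimit c) (h : ∀ j, KFlat₂ F (G.obj j)) :
    KFlat₂ F c.pt := fun L hL => by
  have := preservesColimitsOfShape₂ F (J := J) L
  exact H5KInj.acyclic_of_isColimit (G ⋙ T₂ F L) (fun j => h j L hL)
    (isColimitOfPreserves (T₂ F L) hc)

end general

section kproj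

variable {A : Type u} [Category.{v} A] [Abelian A]

lemma isKProjective_cone {K K' : CochainComplex A ℤ} (φ : K ⟶ K') (h : K.IsKProjective)
    (h' : K'.IsKProjective) : (CochainComplex.mappingCone φ).IsKProjective := by
  rw [CochainComplex.isKProjective_iff_leftOrthogonal] at h h' ⊢
  exact ObjectProperty.ext_of_isTriangulatedClosed₃ _ _
    (HomotopyCategory.mappingCone_triangleh_distinguished φ) h h'

lemma isKProjective_sigma [IsGrothendieckAbelian.{v} A] {T : Type v} (K : T → CochainComplex A ℤ)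
    (h : ∀ t, (K t).IsKProjective) : (∐ K).IsKProjective :=
  ⟨fun f hL => H5KApps.homotopy_sigma K f 0 fun t =>
    ⟨((h t).nonempty_homotopy_zero (Sigma.ι K t ≫ f) hL).some.trans
      (Homotopy.ofEq comp_zero.symm)⟩⟩

end kproj

section rings

variable (R : Type v) [CommRing R]


lemma isKFlat_iff (K : CochainComplex (ModuleCat.{v} R) ℤ) :
    DRing.IsKFlat R K ↔ KFlat₂ (curriedTensor (ModuleCat.{v} R)) K := by
  constructor
  · intro h L hL n
    rw [exactAt_iff_isZero_homology]
    exact h L (fun i => (hL i).isZero_homology) n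
  · intro h L hL n
    exact (h L (fun i => (exactAt_iff_isZero_homology _ _).2 (hL i)) n).isZero_homology

instance tensorLeft_preserves {J : Type*} [Category J] (X : (ModuleCat.{v} R)) :
    PreservesColimitsOfShape J ((curriedTensor (ModuleCat.{v} R)).obj X) :=
  inferInstanceAs (PreservesColimitsOfShape J (MonoidalCategory.tensorLeft X))

lemma kflat_unit : KFlat₂ (curriedTensor (ModuleCat.{v} R)) (H5BrownGroth.RS R 0) := fun L hL =>
  acyclic_of_iso (ρ_ L).symm hL

/-- complexes which are K-projective, K-flat and have projective terms -/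
structure Nice (K : CochainComplex (ModuleCat.{v} R) ℤ) : Prop where
  kproj : K.IsKProjective
  kflat : KFlat₂ (curriedTensor (ModuleCat.{v} R)) K
  proj : ∀ n, Projective (K.X n)

lemma nice_RS (n : ℤ) : Nice R (H5BrownGroth.RS R n) where
  kproj := inferInstance
  kflat := by
    have e : (H5BrownGroth.RS R 0)⟦-n⟧ ≅ H5BrownGroth.RS R n :=
      ((CochainComplex.singleFunctors (ModuleCat.{v} R)).shiftIso (-n) n 0 (by omega)).app (ModuleCat.of R R)
    exact kflat_of_iso _ e (kflat_shift _ (kflat_unit R) _)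
  proj m := by
    by_cases h : m = n
    · subst h
      exact Projective.of_iso (HomologicalComplex.singleObjXSelf (ComplexShape.up ℤ) m _).symm
        inferInstance
    · exact ⟨fun _ _ _ => ⟨0, (HomologicalComplex.isZero_single_obj_X _ _ _ _ h).eq_of_src _ _⟩⟩

variable {R}

lemma Nice.cone {K K' : CochainComplex (ModuleCat.{v} R) ℤ} (φ : K ⟶ K') (h : Nice R K) (h' : Nice R K') :
    Nice R (CochainComplex.mappingCone φ) where
  kproj := isKProjective_cone φ h.kproj h'.kproj
  kflat := kflat_cone _ φ h.kflat h'.kflat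
  proj n := by
    have := h.proj (n + 1)
    have := h'.proj n
    exact Projective.of_iso
      (HomologicalComplex.homotopyCofiber.XIsoBiprod φ n (n + 1) rfl).symm inferInstance

lemma Nice.sigma {T : Type v} (K : T → CochainComplex (ModuleCat.{v} R) ℤ) (h : ∀ t, Nice R (K t)) :
    Nice R (∐ K) where
  kproj := isKProjective_sigma K fun t => (h t).kproj
  kflat := kflat_isColimit _ (coproductIsCoproduct K) fun j => (h j.as).kflat
  proj n := by
    have : ∀ t, Projective ((K t).X n) := fun t => (h t).proj n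
    exact Projective.of_iso
      ((coproductIsCoproduct fun t => (K t).X n).coconePointUniqueUpToIso
        (isColimitCofanMkObjOfIsColimit (HomologicalComplex.eval (ModuleCat.{v} R) (ComplexShape.up ℤ) n) _ _
          (coproductIsCoproduct K))) (inferInstanceAs (Projective (∐ fun t => (K t).X n)))

theorem exists_nice_resolution (M : CochainComplex (ModuleCat.{v} R) ℤ) :
    ∃ (K : CochainComplex (ModuleCat.{v} R) ℤ) (f : K ⟶ M), Nice R K ∧ QuasiIso f := by
  obtain ⟨inst⟩ := H5BrownGroth.exists_hasDerivedCategory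
    (H5KApps.enoughKInj_of_grothendieck (A := (ModuleCat.{v} R)))
  have : HasCoproducts.{v} (DerivedCategory (ModuleCat.{v} R)) := H5KApps.hasCoproducts_derived
  have : HasColimitsOfShape (Discrete ℕ) (DerivedCategory (ModuleCat.{v} R)) :=
    hasColimitsOfShape_of_equivalence (Discrete.equivalence Equiv.ulift.{v, 0})
  let Pr : DerivedCategory (ModuleCat.{v} R) → Prop :=
    fun X => ∃ K, Nice R K ∧ Nonempty (DerivedCategory.Q.obj K ≅ X)
  have hQ : ∀ {T : Type v} (X : T → DerivedCategory (ModuleCat.{v} R)), (∀ t, Pr (X t)) → Pr (∐ X) := by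
    intro T X hX
    choose K hK e using hX
    refine ⟨∐ K, Nice.sigma K hK, ⟨?_⟩⟩
    exact ((H5BrownGroth.sigma_Q K).some.coconePointUniqueUpToIso (coproductIsCoproduct _)) ≪≫
      Limits.Sigma.mapIso fun t => (e t).some
  have hcl : H5Brown.Closed (fun p : ULift.{v} ℤ × ULift.{v} ℤ =>
      (DerivedCategory.Q.obj (H5BrownGroth.RS R p.1.down))⟦p.2.down⟧) Pr := by
    refine ⟨fun p => ?_, hQ, fun X hX => ?_, fun T hT h₁ h₂ => ?_⟩
    · exact ⟨H5BrownGroth.RS R (p.1.down - p.2.down), nice_RS R _,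
        ⟨DerivedCategory.Q.mapIso
          (((CochainComplex.singleFunctors (ModuleCat.{v} R)).shiftIso p.2.down (p.1.down - p.2.down) p.1.down
            (by omega)).app (ModuleCat.of R R)).symm ≪≫
          (DerivedCategory.Q.commShiftIso p.2.down).app _⟩⟩
    · obtain ⟨K, hK, ⟨e⟩⟩ := hQ (fun k : ULift.{v} ℕ => X k.down) fun k => hX k.down
      exact ⟨K, hK, ⟨e ≪≫ Sigma.reindex Equiv.ulift X⟩⟩
    · obtain ⟨K, hK, ⟨e⟩⟩ := h₁
      obtain ⟨K', hK', ⟨e'⟩⟩ := h₂
      have := hK.kproj
      let q := DerivedCategory.quotientCompQhIso (ModuleCat.{v} R)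
      obtain ⟨φ', hφ'⟩ := (CochainComplex.IsKProjective.Qh_map_bijective K
        ((HomotopyCategory.quotient _ _).obj K')).surjective
          (q.hom.app K ≫ e.hom ≫ T.mor₁ ≫ e'.inv ≫ q.inv.app K')
      obtain ⟨φ, rfl⟩ := (HomotopyCategory.quotient _ _).map_surjective φ'
      have hQφ : DerivedCategory.Q.map φ = e.hom ≫ T.mor₁ ≫ e'.inv := by
        have hn := q.hom.naturality φ
        simp only [Functor.comp_map] at hn
        rw [hφ', assoc, assoc, assoc, assoc, Iso.inv_hom_id_app] at hn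
        rw [← cancel_epi (q.hom.app K)]
        exact (hn.symm.trans (congrArg (fun t => q.hom.app K ≫ e.hom ≫ T.mor₁ ≫ t) (comp_id _)))
      refine ⟨_, hK.cone φ hK', ⟨Triangle.π₃.mapIso
        (isoTriangleOfIso₁₂ (DerivedCategory.Q.mapTriangle.obj (CochainComplex.mappingCone.triangle φ))
          T ((DerivedCategory.mem_distTriang_iff _).2 ⟨K, K', φ, ⟨Iso.refl _⟩⟩) hT e e' ?_)⟩⟩
      change DerivedCategory.Q.map φ ≫ e'.hom = e.hom ≫ T.mor₁
      simp [hQφ]
  obtain ⟨K, hK, ⟨e⟩⟩ := H5Brown.mem_of_closed (H5BrownGroth.perfect_RS (R := R)) hcl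
    (fun e h => by obtain ⟨K, hK, ⟨e'⟩⟩ := h; exact ⟨K, hK, ⟨e' ≪≫ e⟩⟩) (DerivedCategory.Q.obj M)
  have := hK.kproj
  let q := DerivedCategory.quotientCompQhIso (ModuleCat.{v} R)
  obtain ⟨f', hf'⟩ := (CochainComplex.IsKProjective.Qh_map_bijective K
    ((HomotopyCategory.quotient _ _).obj M)).surjective (q.hom.app K ≫ e.hom ≫ q.inv.app M)
  obtain ⟨f, rfl⟩ := (HomotopyCategory.quotient _ _).map_surjective f'
  refine ⟨K, f, hK, ?_⟩
  rw [← DerivedCategory.isIso_Q_map_iff_quasiIso]
  have hn := q.hom.naturality f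
  simp only [Functor.comp_map] at hn
  rw [hf', assoc, assoc, Iso.inv_hom_id_app] at hn
  have : DerivedCategory.Q.map f = e.hom := by
    rw [← cancel_epi (q.hom.app K)]
    exact (hn.symm.trans (congrArg (fun t => q.hom.app K ≫ t) (comp_id _)))
  rw [this]; infer_instance

end rings

end Groth.Agent.H5KFlat
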