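import Groth.Agent.Lib.H5KFlat
import Groth.Prelude.Def_DTen
import Groth.Prelude.Def_DRing4

universe v u u'

namespace Groth.Agent.H5KFlatApps
open CategoryTheory Limits Category HomologicalComplex Pretriangulated MonoidalCategory
open scoped ZeroObject
open Groth.Agent Groth.Agent.H5TenCx Groth.Agent.H5KFlat

section general

variable {A : Type u} [Category.{v} A] [Abelian A] {B : Type u'} [Category.{v} B] [Abelian B]
  {D : Type u} [Category.{v} D] [Abelian D]
  (F : A ⥤ B ⥤ D) [F.Additive] [∀ X, (F.obj X).Additive] [HasCountableCoproducts D]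
  [∀ (K₁ : Cx A) (K₂ : Cx B), HasMapBifunctor K₁ K₂ F (.up ℤ)]

lemma kflat_of_homotopyEquiv {K K' : Cx B} (e : HomotopyEquiv K K') (h : KFlat₂ F K) :
    KFlat₂ F K' := fun L hL => by
  obtain ⟨h₁⟩ := (good₂ F L).hom _ _ ⟨e.homotopyHomInvId⟩
  obtain ⟨h₂⟩ := (good₂ F L).hom _ _ ⟨e.homotopyInvHomId⟩
  let e' : HomotopyEquiv ((T₂ F L).obj K) ((T₂ F L).obj K') :=
    { hom := (T₂ F L).map e.hom, inv := (T₂ F L).map e.inv
      homotopyHomInvId := (Homotopy.ofEq ((T₂ F L).map_comp _ _).symm).trans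
        (h₁.trans (Homotopy.ofEq ((T₂ F L).map_id _)))
      homotopyInvHomId := (Homotopy.ofEq ((T₂ F L).map_comp _ _).symm).trans
        (h₂.trans (Homotopy.ofEq ((T₂ F L).map_id _))) }
  have hq : QuasiIso e'.hom := homotopyEquivalences_le_quasiIso _ _ _ ⟨e', rfl⟩
  intro n
  exact (quasiIsoAt_iff_exactAt e'.hom n (h L hL n)).1 ((quasiIso_iff _).1 hq n)

lemma kflat_of_iso_quotient {K K' : Cx B}
    (e : (HomotopyCategory.quotient B (.up ℤ)).obj K ≅ (HomotopyCategory.quotient B (.up ℤ)).obj K')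
    (h : KFlat₂ F K) : KFlat₂ F K' :=
  kflat_of_homotopyEquiv F (HomotopyCategory.homotopyEquivOfIso e) h

lemma kflat_obj₃ (T : Triangle (HomotopyCategory B (.up ℤ))) (hT : T ∈ distTriang _)
    (h₁ : KFlat₂ F T.obj₁.as) (h₂ : KFlat₂ F T.obj₂.as) : KFlat₂ F T.obj₃.as := by
  obtain ⟨K, L, φ, ⟨e⟩⟩ := hT
  exact kflat_of_iso_quotient F (Triangle.π₃.mapIso e).symm
    (kflat_cone F φ (kflat_of_iso_quotient F (Triangle.π₁.mapIso e) h₁)
      (kflat_of_iso_quotient F (Triangle.π₂.mapIso e) h₂))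

lemma kflat_shift_iff (X : HomotopyCategory B (.up ℤ)) (a : ℤ) :
    KFlat₂ F (X⟦a⟧).as ↔ KFlat₂ F X.as := by
  have key : ∀ (X : HomotopyCategory B (.up ℤ)) (a : ℤ), KFlat₂ F X.as → KFlat₂ F (X⟦a⟧).as :=
    fun X a h => kflat_of_iso_quotient F
      (((HomotopyCategory.quotient B (.up ℤ)).commShiftIso a).app X.as) (kflat_shift F h a)
  refine ⟨fun h => ?_, key X a⟩
  exact kflat_of_iso_quotient F ((shiftFunctorCompIsoId _ a (-a) (by omega)).app X) (key _ (-a) h)

theorem kflat_two_out_of_three (T : Triangle (HomotopyCategory B (.up ℤ))) (hT : T ∈ distTriang _) :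
    (KFlat₂ F T.obj₁.as → KFlat₂ F T.obj₂.as → KFlat₂ F T.obj₃.as) ∧
    (KFlat₂ F T.obj₁.as → KFlat₂ F T.obj₃.as → KFlat₂ F T.obj₂.as) ∧
    (KFlat₂ F T.obj₂.as → KFlat₂ F T.obj₃.as → KFlat₂ F T.obj₁.as) :=
  ⟨kflat_obj₃ F T hT,
    fun h₁ h₃ => kflat_obj₃ F T.invRotate (inv_rot_of_distTriang T hT)
      ((kflat_shift_iff F T.obj₃ (-1)).2 h₃) h₁,
    fun h₂ h₃ => (kflat_shift_iff F T.obj₁ 1).1 (kflat_obj₃ F T.rotate (rot_of_distTriang T hT) h₂ h₃)⟩

end general

section rings

variable (R : Type v) [CommRing R]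

abbrev KFl (K : DRing.Cx R) : Prop := KFlat₂ (curriedTensor (ModuleCat.{v} R)) K

variable {R}

lemma quasiIso_tensor_right {K L₁ L₂ : DRing.Cx R} (hK : KFl R K) (f : L₁ ⟶ L₂) [QuasiIso f] :
    QuasiIso (f ▷ K) :=
  (good₁ (curriedTensor (ModuleCat.{v} R)) K).quasiIso_map f (fun L hL => hK L hL)

lemma acyclic_tensor_left {N C : DRing.Cx R} (hN : KFl R N) (hC : C.Acyclic) : (N ⊗ C).Acyclic :=
  acyclic_of_iso (DTen.braidCx C N) (hN C hC)

lemma quasiIso_tensor_left {N P Q : DRing.Cx R} (hN : KFl R N) (α : P ⟶ Q) [QuasiIso α] :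
    QuasiIso (N ◁ α) :=
  (good₂ (curriedTensor (ModuleCat.{v} R)) N).quasiIso_map α (fun _ hC => acyclic_tensor_left hN hC)

theorem quasiIso_tensor {P Q : DRing.Cx R} (hP : KFl R P) (hQ : KFl R Q) (α : P ⟶ Q) [QuasiIso α]
    (L : DRing.Cx R) : QuasiIso (L ◁ α) := by
  obtain ⟨N, f, hN, hf⟩ := exists_nice_resolution L
  have := quasiIso_tensor_right hP f
  have := quasiIso_tensor_right hQ f
  have := quasiIso_tensor_left hN.kflat α
  have : QuasiIso (f ▷ P ≫ L ◁ α) := by rw [← whisker_exchange]; infer_instance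
  exact quasiIso_of_comp_left (f ▷ P) (L ◁ α)

theorem exists_surjective_resolution (M : DRing.Cx R) :
    ∃ (K : DRing.Cx R) (f : K ⟶ M), KFl R K ∧ (∀ n, Projective (K.X n)) ∧ QuasiIso f ∧
      ∀ i : ℤ, Function.Surjective (f.f i) := by
  obtain ⟨K, f, hK, hf⟩ := exists_nice_resolution M
  let S : DRing.Cx R :=
    { X := fun p => Projective.over (M.X (p - 1))
      d := fun _ _ => 0
      shape := fun _ _ _ => rfl
      d_comp_d' := fun _ _ _ _ _ => comp_zero }
  let α : CochainComplex.HomComplex.Cochain S M (-1) :=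
    CochainComplex.HomComplex.Cochain.mk fun p q hpq =>
      Projective.π (M.X (p - 1)) ≫ eqToHom (by rw [show p - 1 = q by omega])
  let β : S ⟶ M := (CochainComplex.HomComplex.Cocycle.mk
    (CochainComplex.HomComplex.δ (-1) 0 α) 1 (by omega)
      (CochainComplex.HomComplex.δ_δ (-1) 0 1 α)).homOf
  let g : CochainComplex.mappingCone (𝟙 S) ⟶ M :=
    CochainComplex.mappingCone.desc (𝟙 S) α β (by simp [β])
  let C := CochainComplex.mappingCone (𝟙 S)
  let h : Homotopy (𝟙 C) 0 := coneIdHomotopy S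
  let e : HomotopyEquiv (K ⊞ C) K :=
    { hom := biprod.fst, inv := biprod.inl
      homotopyHomInvId := by
        refine (Homotopy.ofEq ?_).trans ((Homotopy.add (Homotopy.refl
          (biprod.fst ≫ biprod.inl)) ((h.symm.compLeft
            (biprod.snd : K ⊞ C ⟶ C)).compRight biprod.inr)).trans
            (Homotopy.ofEq (by rw [comp_id]; exact biprod.total)))
        simp
      homotopyInvHomId := Homotopy.ofEq biprod.inl_fst }
  refine ⟨K ⊞ C, biprod.desc f g, kflat_of_homotopyEquiv _ e.symm hK.kflat, fun n => ?_, ?_,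
    fun i => ?_⟩
  · have := hK.proj n
    have : ∀ p, Projective (S.X p) := fun p => inferInstanceAs (Projective (Projective.over _))
    have : Projective (C.X n) := Projective.of_iso
      (HomologicalComplex.homotopyCofiber.XIsoBiprod (𝟙 S) n (n + 1) rfl).symm inferInstance
    exact Projective.of_iso (HomologicalComplex.biprodXIso K C n).symm inferInstance
  · have : QuasiIso (biprod.inl : K ⟶ K ⊞ C) :=
      homotopyEquivalences_le_quasiIso _ _ _ ⟨e.symm, rfl⟩
    have : QuasiIso ((biprod.inl : K ⟶ K ⊞ C) ≫ biprod.desc f g) := by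
      rw [biprod.inl_desc]; exact hf
    exact quasiIso_of_comp_left biprod.inl (biprod.desc f g)
  · rw [← ModuleCat.epi_iff_surjective]
    have : Epi (g.f i) := by
      have h1 : (CochainComplex.mappingCone.inl (𝟙 S)).v (i + 1) i (by omega) ≫ g.f i =
          α.v (i + 1) i (by omega) := CochainComplex.mappingCone.inl_v_desc_f _ _ _ _ _ _ _
      have : Epi (α.v (i + 1) i (by omega)) := by
        simp only [α, CochainComplex.HomComplex.Cochain.mk_v]; infer_instance
      exact epi_of_epi_fac h1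
    exact epi_of_epi_fac (show (biprod.inr : C ⟶ K ⊞ C).f i ≫ (biprod.desc f g).f i = g.f i by
      rw [← comp_f, biprod.inr_desc])

theorem kflat_colimit (J : Type v) [SmallCategory J] [IsFiltered J] (G : J ⥤ DRing.Cx R)
    (h : ∀ j, KFl R (G.obj j)) : KFl R (colimit G) :=
  kflat_isColimit _ (colimit.isColimit G) h

end rings

end Groth.Agent.H5KFlatApps
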