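import Mathlib

/-! # Enough K-injective complexes in a Grothendieck abelian category -/

universe v u

namespace Groth.Agent.H5KInj
open CategoryTheory Limits MorphismProperty HomologicalComplex
open scoped ZeroObject

variable {A : Type u} [Category.{v} A] [Abelian A]

/-- trivial cofibrations: monomorphisms which are quasi-isomorphisms -/
def tc : MorphismProperty (CochainComplex A ℤ) :=
  monomorphisms _ ⊓ HomologicalComplex.quasiIso A (ComplexShape.up ℤ)

lemma acyclic_iff_isZero_homology (K : CochainComplex A ℤ) :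
    K.Acyclic ↔ ∀ n, IsZero (K.homology n) :=
  ⟨fun h n => (h n).isZero_homology, fun h n => (exactAt_iff_isZero_homology _ _).2 (h n)⟩

lemma quasiIso_of_acyclic_X₃ {S : ShortComplex (CochainComplex A ℤ)} (hS : S.ShortExact)
    (h : S.X₃.Acyclic) : QuasiIso S.f := by
  rw [quasiIso_iff]
  intro i
  rw [quasiIsoAt_iff_isIso_homologyMap]
  have h1 : Epi (homologyMap S.f i) :=
    (hS.homology_exact₂ i).epi_f ((h i).isZero_homology.eq_of_tgt _ _)
  have h2 : Mono (homologyMap S.f i) :=
    (hS.homology_exact₁ (i - 1) i (by simp)).mono_g ((h (i-1)).isZero_homology.eq_of_src _ _)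
  exact isIso_of_mono_of_epi _

lemma tc_iff {X Y : CochainComplex A ℤ} (f : X ⟶ Y) :
    tc f ↔ Mono f ∧ (cokernel f).Acyclic := by
  constructor
  · rintro ⟨h1, h2⟩
    have : Mono f := h1
    let S := ShortComplex.mk f (cokernel.π f) (cokernel.condition f)
    have hS : S.ShortExact :=
      { exact := ShortComplex.exact_of_g_is_cokernel _ (cokernelIsCokernel f) }
    exact ⟨this, hS.acyclic_X₃ h2⟩
  · rintro ⟨h1, h2⟩
    let S := ShortComplex.mk f (cokernel.π f) (cokernel.condition f)
    have hS : S.ShortExact :=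
      { exact := ShortComplex.exact_of_g_is_cokernel _ (cokernelIsCokernel f) }
    exact ⟨h1, quasiIso_of_acyclic_X₃ hS h2⟩

section colim

lemma exact_of_evaluation {J : Type*} [Category J] (S : ShortComplex (J ⥤ A))
    (h : ∀ j, (S.map ((evaluation J A).obj j)).Exact) : S.Exact := by
  rw [ShortComplex.exact_iff_isZero_homology]
  refine Functor.isZero _ (fun j => ?_)
  exact ((ShortComplex.exact_iff_isZero_homology _).1 (h j)).of_iso
    (S.mapHomologyIso ((evaluation J A).obj j)).symm

variable {J : Type*} [Category J] [HasColimitsOfShape J A] [HasExactColimitsOfShape J A]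

/-- the differential as a natural transformation -/
@[simps]
def dNat (F : J ⥤ CochainComplex A ℤ) (i j : ℤ) : F ⋙ eval A _ i ⟶ F ⋙ eval A _ j where
  app k := (F.obj k).d i j
  naturality k l f := (F.map f).comm i j

lemma acyclic_of_isColimit (F : J ⥤ CochainComplex A ℤ) (hF : ∀ j, (F.obj j).Acyclic)
    {c : Cocone F} (hc : IsColimit c) : c.pt.Acyclic := by
  intro n
  rw [exactAt_iff]
  let S : ShortComplex (J ⥤ A) := ShortComplex.mk (dNat F ((ComplexShape.up ℤ).prev n) n)
    (dNat F n ((ComplexShape.up ℤ).next n)) (by ext k; exact (F.obj k).d_comp_d _ _ _)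
  have hS : S.Exact := exact_of_evaluation S (fun k => (exactAt_iff _ _).1 (hF k n))
  exact colim.exact_mapShortComplex hS
    (isColimitOfPreserves (eval A _ ((ComplexShape.up ℤ).prev n)) hc)
    (c₂ := (eval A _ n).mapCocone c) (isColimitOfPreserves (eval A _ n) hc)
    (c₃ := (eval A _ ((ComplexShape.up ℤ).next n)).mapCocone c)
    (isColimitOfPreserves (eval A _ ((ComplexShape.up ℤ).next n)) hc)
    (c.pt.d _ _) (c.pt.d _ _) (fun k => (c.ι.app k).comm _ _) (fun k => (c.ι.app k).comm _ _)

lemma tc_stableUnderColimitsOfShape : (tc (A := A)).IsStableUnderColimitsOfShape J := by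
  refine ⟨fun X₁ X₂ c₁ c₂ hc₁ hc₂ f hf φ hφ => ?_⟩
  have hf' : ∀ j, Mono (f.app j) ∧ (cokernel (f.app j)).Acyclic := fun j => (tc_iff _).1 (hf j)
  have : ∀ j, Mono (f.app j) := fun j => (hf' j).1
  have : Mono f := NatTrans.mono_of_mono_app f
  rw [tc_iff]
  refine ⟨colim.map_mono' f hc₁ hc₂ φ (fun j => hφ j), ?_⟩
  have hQ : ∀ j, ((cokernel f).obj j).Acyclic := fun j n =>
    ((hf' j).2 n).of_iso (PreservesCokernel.iso ((evaluation J _).obj j) f).symm
  let e : colimit (cokernel f) ≅ cokernel φ :=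
    PreservesCokernel.iso colim f ≪≫
      cokernel.mapIso (colim.map f) φ ((colimit.isColimit _).coconePointUniqueUpToIso hc₁)
        ((colimit.isColimit _).coconePointUniqueUpToIso hc₂)
        (colimit.hom_ext fun j => by
          simp only [colim_map, ι_colimMap_assoc, colimit.comp_coconePointUniqueUpToIso_hom]
          rw [← Category.assoc, colimit.comp_coconePointUniqueUpToIso_hom]
          exact (hφ j).symm)
  exact fun n => (acyclic_of_isColimit _ hQ (colimit.isColimit _) n).of_iso e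

end colim

section stab

instance : (tc (A := A)).IsMultiplicative := by
  unfold tc; infer_instance

instance : (tc (A := A)).IsStableUnderRetracts := by
  unfold tc; infer_instance

instance : (tc (A := A)).RespectsIso := inferInstance

lemma tc_pushouts {X Y X' Y' : CochainComplex A ℤ} {t : X ⟶ Y} {l : X ⟶ X'} {r : Y ⟶ Y'}
    {b : X' ⟶ Y'} (sq : IsPushout t l r b) (h : tc t) : tc b := by
  obtain ⟨h1, h2⟩ := (tc_iff _).1 h
  rw [tc_iff]
  refine ⟨Abelian.mono_inr_of_isColimit (f := t) (g := l) sq.isColimit, ?_⟩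
  have := isIso_cokernel_map_of_isPushout sq
  exact fun n => (h2 n).of_iso (asIso (cokernel.map _ _ _ _ sq.w))

instance : (tc (A := A)).IsStableUnderCobaseChange where
  of_isPushout sq h := tc_pushouts sq.flip h

lemma tc_cancel {X B Y : CochainComplex A ℤ} (f : X ⟶ B) (g : B ⟶ Y) [Mono g] (h : tc (f ≫ g))
    (hf : tc f) : tc g := by
  refine ⟨‹Mono g›, ?_⟩
  exact quasiIso_of_comp_left f g (hφ := hf.2) (hφφ' := h.2)

variable [IsGrothendieckAbelian.{v} A]

instance (ι : Type v) : (tc (A := A)).IsStableUnderCoproductsOfShape ι := by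
  exact tc_stableUnderColimitsOfShape

instance : IsStableUnderCoproducts.{v} (tc (A := A)) where

instance (J : Type v) [LinearOrder J] [SuccOrder J] [OrderBot J] [WellFoundedLT J] :
    (tc (A := A)).IsStableUnderTransfiniteCompositionOfShape J :=
  .of_isStableUnderColimitsOfShape (fun _ _ _ _ _ => tc_stableUnderColimitsOfShape)

instance : IsStableUnderTransfiniteComposition.{v} (tc (A := A)) where

end stab

section small

variable {G : A}

open scoped Classical in
/-- Representative of an element `w` with `w ≫ f = z ≫ y` and `image z = U`. -/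
noncomputable def repW {X Y : A} (f : X ⟶ Y) (y : G ⟶ Y) (U : Subobject G) : G ⟶ X :=
  if h : ∃ (z : G ⟶ G) (w : G ⟶ X), w ≫ f = z ≫ y ∧ imageSubobject z = U then
    h.choose_spec.choose else 0

open scoped Classical in
noncomputable def repZ {X Y : A} (f : X ⟶ Y) (y : G ⟶ Y) (U : Subobject G) : G ⟶ G :=
  if h : ∃ (z : G ⟶ G) (w : G ⟶ X), w ≫ f = z ≫ y ∧ imageSubobject z = U then
    h.choose else 0

lemma rep_comm {X Y : A} (f : X ⟶ Y) (y : G ⟶ Y) (U : Subobject G) :
    repW f y U ≫ f = repZ f y U ≫ y := by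
  unfold repW repZ
  split
  · next h => exact h.choose_spec.choose_spec.1
  · simp

lemma rep_jointly_epi (hG : IsSeparator G) {X Y : A} (f : X ⟶ Y) (y : G ⟶ Y)
    (href : ∃ (P : A) (π : P ⟶ G) (_ : Epi π) (x : P ⟶ X), π ≫ y = x ≫ f)
    {T : A} (h : G ⟶ T) (hh : ∀ U, repZ f y U ≫ h = 0) : h = 0 := by
  obtain ⟨P, π, _, x, hx⟩ := href
  rw [← cancel_epi π, comp_zero]
  refine hG.def _ _ (fun b => ?_)
  rw [comp_zero]
  let U := imageSubobject (b ≫ π)
  have hex : ∃ (z : G ⟶ G) (w : G ⟶ X), w ≫ f = z ≫ y ∧ imageSubobject z = U :=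
    ⟨b ≫ π, b ≫ x, by rw [Category.assoc, Category.assoc, hx], rfl⟩
  have hU : imageSubobject (repZ f y U) = U := by
    unfold repZ; rw [dif_pos hex]; exact hex.choose_spec.choose_spec.2
  have h0 := hh U
  rw [← imageSubobject_arrow_comp (repZ f y U), Category.assoc, ← comp_zero] at h0
  have h1 := (cancel_epi _).1 h0
  have h2 : (imageSubobject (b ≫ π)).arrow ≫ h = 0 := by
    rw [← Subobject.ofLE_arrow (le_of_eq hU.symm), Category.assoc, h1, comp_zero]
  rw [← Category.assoc, ← imageSubobject_arrow_comp (b ≫ π), Category.assoc, h2, comp_zero]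

lemma exists_ne_zero (hG : IsSeparator G) {X : A} (h : ¬ IsZero X) : ∃ g : G ⟶ X, g ≠ 0 := by
  by_contra! hc
  exact h ((IsZero.iff_id_eq_zero X).2 (hG.def _ _ (fun g => by simp [hc g])))

variable [IsGrothendieckAbelian.{v} A]

instance hasExactColimitsNat : HasExactColimitsOfShape ℕ A := by
  have : HasFilteredColimitsOfSize.{0, 0} A := hasFilteredColimitsOfSize_of_univLE.{0, 0, v, v}
  have : AB5OfSize.{0, 0} A := AB5OfSize_of_univLE.{0, 0, v, v} A
  infer_instance

variable (Q : CochainComplex A ℤ)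

section subcx

variable {ι : Type v} (a : ∀ n : ℤ, ι → (G ⟶ Q.X n))

noncomputable def gen (n : ℤ) : (∐ fun _ : ι => G) ⟶ Q.X n := Sigma.desc (a n)

/-- the stability of the family under the differential -/
def DClosed : Prop :=
  ∀ (i j : ℤ) (x : ι), i + 1 = j → a i x ≫ Q.d i j ≫ cokernel.π (image.ι (gen Q a j)) = 0

variable {Q a}

@[reassoc (attr := simp)]
lemma ι_gen (n : ℤ) (x : ι) : Sigma.ι (fun _ : ι => G) x ≫ gen Q a n = a n x :=
  Sigma.ι_desc _ _

lemma a_eq (n : ℤ) (x : ι) :
    (Sigma.ι (fun _ : ι => G) x ≫ factorThruImage (gen Q a n)) ≫ image.ι (gen Q a n) = a n x := by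
  rw [Category.assoc, image.fac, ι_gen]

variable (Q a) in
noncomputable def subCxD (h : DClosed Q a) (i j : ℤ) : image (gen Q a i) ⟶ image (gen Q a j) :=
  Abelian.monoLift (image.ι (gen Q a j)) (image.ι (gen Q a i) ≫ Q.d i j) (by
    by_cases hij : i + 1 = j
    · rw [← cancel_epi (factorThruImage (gen Q a i)), comp_zero, Category.assoc, image.fac_assoc]
      ext x
      rw [comp_zero]; simpa using h i j x hij
    · rw [Q.shape i j hij]; simp)

@[reassoc (attr := simp)]
lemma subCxD_ι (h : DClosed Q a) (i j : ℤ) :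
    subCxD Q a h i j ≫ image.ι (gen Q a j) = image.ι (gen Q a i) ≫ Q.d i j :=
  Abelian.monoLift_comp _ _ _

variable (Q a) in
/-- the subcomplex generated by a d-closed family -/
@[simps]
noncomputable def subCx (h : DClosed Q a) : CochainComplex A ℤ where
  X n := image (gen Q a n)
  d := subCxD Q a h
  shape i j hij := by rw [← cancel_mono (image.ι (gen Q a j))]; simp [Q.shape i j hij]
  d_comp_d' i j k _ _ := by rw [← cancel_mono (image.ι (gen Q a k))]; simp

variable (Q a) in
@[simps]
noncomputable def subCxι (h : DClosed Q a) : subCx Q a h ⟶ Q where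
  f n := image.ι (gen Q a n)
  comm' i j _ := (subCxD_ι h i j).symm

instance (h : DClosed Q a) : Mono (subCxι Q a h) :=
  HomologicalComplex.mono_of_mono_f _ (fun n => inferInstanceAs (Mono (image.ι (gen Q a n))))

end subcx

variable (G)

/-- index types -/
def Idx : ℕ → Type v
  | 0 => PUnit
  | k + 1 => Idx k ⊕ Idx k ⊕ ((G ⟶ ∐ fun _ : Idx k => G) × Shrink.{v} (Subobject G))

variable {G} (g₀ : ∀ n : ℤ, G ⟶ Q.X n)

noncomputable def fam : ∀ (k : ℕ) (n : ℤ), Idx G k → (G ⟶ Q.X n)
  | 0, n => fun _ => g₀ n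
  | k + 1, n => Sum.elim (fam k n) (Sum.elim (fun x => fam k (n - 1) x ≫ Q.d (n - 1) n)
      (fun zU => repW (Q.d n (n + 1)) (zU.1 ≫ Sigma.desc (fam k (n + 1)))
        ((equivShrink _).symm zU.2)))

/-- inclusions -/
def Idx.old {k : ℕ} (x : Idx G k) : Idx G (k + 1) := Sum.inl x
def Idx.dd {k : ℕ} (x : Idx G k) : Idx G (k + 1) := Sum.inr (Sum.inl x)
noncomputable def Idx.lf {k : ℕ} (z : G ⟶ ∐ fun _ : Idx G k => G) (U : Subobject G) : Idx G (k + 1) :=
  Sum.inr (Sum.inr (z, equivShrink.{v} _ U))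

@[simp] lemma fam_old (k : ℕ) (n : ℤ) (x : Idx G k) :
    fam Q g₀ (k+1) n x.old = fam Q g₀ k n x := rfl

@[simp] lemma fam_dd (k : ℕ) (n : ℤ) (x : Idx G k) :
    fam Q g₀ (k+1) n x.dd = fam Q g₀ k (n - 1) x ≫ Q.d (n - 1) n := rfl

@[simp] lemma fam_lf (k : ℕ) (n : ℤ) (z : G ⟶ ∐ fun _ : Idx G k => G) (U : Subobject G) :
    fam Q g₀ (k+1) n (Idx.lf z U) =
      repW (Q.d n (n + 1)) (z ≫ Sigma.desc (fam Q g₀ k (n + 1))) U := by
  simp [fam, Idx.lf]

variable (G) in
abbrev IdxAll : Type v := Σ k, Idx G k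

noncomputable def famAll (n : ℤ) : IdxAll G → (G ⟶ Q.X n) := fun x => fam Q g₀ x.1 n x.2

lemma fam_factors (k : ℕ) (n : ℤ) (x : Idx G k) :
    fam Q g₀ k n x ≫ cokernel.π (image.ι (gen Q (famAll Q g₀) n)) = 0 := by
  rw [show fam Q g₀ k n x = famAll Q g₀ n ⟨k, x⟩ from rfl,
    ← a_eq (Q := Q) (a := famAll Q g₀) n ⟨k, x⟩, Category.assoc, cokernel.condition, comp_zero]

lemma fam_dclosed : DClosed Q (famAll Q g₀) := by
  rintro i j ⟨k, x⟩ hij
  obtain rfl : i = j - 1 := by omega
  have := fam_factors Q g₀ (k+1) j x.dd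
  simpa [famAll] using this

/-- the chain of free objects -/
noncomputable def chain : ℕ ⥤ A :=
  Functor.ofSequence (X := fun k => ∐ fun _ : Idx G k => G)
    (fun k => Sigma.map' (Idx.old (k := k)) (fun _ => 𝟙 G))

noncomputable def toImg (n : ℤ) (k : ℕ) :
    (∐ fun _ : Idx G k => G) ⟶ image (gen Q (famAll Q g₀) n) :=
  Sigma.map' (fun x : Idx G k => (⟨k, x⟩ : IdxAll G)) (fun _ => 𝟙 G) ≫
    factorThruImage (gen Q (famAll Q g₀) n)

@[reassoc (attr := simp)]
lemma toImg_ι (n : ℤ) (k : ℕ) :
    toImg Q g₀ n k ≫ image.ι (gen Q (famAll Q g₀) n) = Sigma.desc (fam Q g₀ k n) := by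
  refine Sigma.hom_ext _ _ (fun x => ?_)
  simp [toImg, famAll]

lemma map'_old_toImg (n : ℤ) (k : ℕ) :
    Sigma.map' (Idx.old (G := G) (k := k)) (fun _ => 𝟙 G) ≫ toImg Q g₀ n (k+1) =
      toImg Q g₀ n k := by
  rw [← cancel_mono (image.ι (gen Q (famAll Q g₀) n))]
  refine Sigma.hom_ext _ _ (fun x => ?_)
  simp

noncomputable def chainCocone (n : ℤ) : Cocone (chain (G := G)) where
  pt := image (gen Q (famAll Q g₀) n)
  ι := NatTrans.ofSequence (toImg Q g₀ n)
    (fun k => by
      dsimp only [chain]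
      rw [Functor.ofSequence_map_homOfLE_succ]
      exact (map'_old_toImg Q g₀ n k).trans (Category.comp_id _).symm)

lemma chainCocone_app (n : ℤ) (k : ℕ) : (chainCocone Q g₀ n).ι.app k = toImg Q g₀ n k := rfl

@[reassoc]
lemma chainCocone_ι (n : ℤ) (k : ℕ) :
    (chainCocone Q g₀ n).ι.app k ≫ image.ι (gen Q (famAll Q g₀) n) =
      Sigma.desc (fam Q g₀ k n) := toImg_ι Q g₀ n k

noncomputable def qMap (n : ℤ) : colimit (chain (G := G)) ⟶ image (gen Q (famAll Q g₀) n) :=
  colimit.desc _ (chainCocone Q g₀ n)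

/-- inclusion in the colimit of the chain -/
noncomputable def ιC (k : ℕ) : (∐ fun _ : Idx G k => G) ⟶ colimit (chain (G := G)) :=
  colimit.ι (chain (G := G)) k

@[reassoc (attr := simp)]
lemma ιC_qMap (n : ℤ) (k : ℕ) : ιC k ≫ qMap Q g₀ n = toImg Q g₀ n k :=
  colimit.ι_desc (chainCocone Q g₀ n) k

instance (n : ℤ) : Epi (qMap Q g₀ n) := by
  have : Sigma.desc (fun x : IdxAll G =>
      Sigma.ι (fun _ : Idx G x.1 => G) x.2 ≫ ιC x.1) ≫ qMap Q g₀ n =
      factorThruImage (gen Q (famAll Q g₀) n) := by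
    refine Sigma.hom_ext _ _ (fun x => ?_)
    simp [toImg]
  exact epi_of_epi_fac this

lemma sub_acyclic (hG : IsSeparator G) (hQ : Q.Acyclic) :
    (subCx Q (famAll Q g₀) (fam_dclosed Q g₀)).Acyclic := by
  intro m
  obtain ⟨n, rfl⟩ : ∃ n, m = n + 1 := ⟨m - 1, by omega⟩
  rw [exactAt_iff' _ n (n+1) (n+1+1) (by simp) (by simp),
    ShortComplex.exact_iff_kernel_ι_comp_cokernel_π_zero]
  change kernel.ι (subCxD Q (famAll Q g₀) (fam_dclosed Q g₀) (n+1) (n+1+1)) ≫
    cokernel.π (subCxD Q (famAll Q g₀) (fam_dclosed Q g₀) n (n+1)) = 0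
  set D1 := subCxD Q (famAll Q g₀) (fam_dclosed Q g₀) (n+1) (n+1+1) with hD1
  set D0 := subCxD Q (famAll Q g₀) (fam_dclosed Q g₀) n (n+1) with hD0
  set q := qMap Q g₀ (n+1)
  -- reduce to the kernel of `q ≫ D1`
  suffices key : kernel.ι (q ≫ D1) ≫ q ≫ cokernel.π D0 = 0 by
    rw [← cancel_epi (pullback.fst (kernel.ι D1) q), comp_zero]
    have : pullback.snd (kernel.ι D1) q ≫ q ≫ D1 = 0 := by
      rw [← pullback.condition_assoc, kernel.condition, comp_zero]
    rw [pullback.condition_assoc, ← kernel.lift_ι (q ≫ D1) _ this, Category.assoc, key, comp_zero]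
  let φ : chain (G := G) ⟶ (Functor.const ℕ).obj (image (gen Q (famAll Q g₀) (n+1+1))) :=
    { app := fun k => (chainCocone Q g₀ (n+1)).ι.app k ≫ D1
      naturality := fun k l f => (reassoc_of% (chainCocone Q g₀ (n+1)).w f) D1 |>.trans (Category.comp_id _).symm }
  have hS : (ShortComplex.mk _ _ (kernel.condition φ)).Exact :=
    ShortComplex.exact_of_f_is_kernel _ (kernelIsKernel φ)
  have hE := colim.exact_mapShortComplex hS (colimit.isColimit _)
    (c₂ := colimit.cocone _) (colimit.isColimit _)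
    (c₃ := constCocone ℕ (image (gen Q (famAll Q g₀) (n+1+1)))) (isColimitConstCocone _ _)
    (colim.map (kernel.ι φ)) (q ≫ D1) (fun k => ι_colimMap _ _) (fun k => (colimit.ι_desc_assoc _ _ _).trans (Category.comp_id _).symm)
  obtain ⟨hw, hEpi⟩ : ∃ hw, Epi (kernel.lift (q ≫ D1) (colim.map (kernel.ι φ)) hw) :=
    ⟨_, (ShortComplex.exact_iff_epi_kernel_lift _).1 hE⟩
  rw [← cancel_epi (kernel.lift (q ≫ D1) (colim.map (kernel.ι φ)) hw), comp_zero,
    kernel.lift_ι_assoc]
  refine colimit.hom_ext (fun k => ?_)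
  simp only [colim_map, ι_colimMap_assoc, comp_zero]
  refine hG.def _ _ (fun z' => ?_)
  rw [comp_zero]
  let z : G ⟶ ∐ fun _ : Idx G k => G := z' ≫ (kernel.ι φ).app k
  have hz : z ≫ toImg Q g₀ (n+1) k ≫ D1 = 0 :=
    (Category.assoc _ _ _).trans
      ((congrArg (z' ≫ ·) (congr_app (kernel.condition φ) k)).trans comp_zero)
  have hcyc : (z ≫ Sigma.desc (fam Q g₀ k (n+1))) ≫ Q.d (n+1) (n+1+1) = 0 := by
    simp only [Category.assoc, ← toImg_ι, ← subCxD_ι (fam_dclosed Q g₀)]
    rw [reassoc_of% hz, zero_comp]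
  have key : z ≫ toImg Q g₀ (n+1) k ≫ cokernel.π D0 = 0 := by
    refine rep_jointly_epi hG (Q.d n (n+1)) (z ≫ Sigma.desc (fam Q g₀ k (n+1))) ?_ _ (fun U => ?_)
    · exact ((exactAt_iff' _ n (n+1) (n+1+1) (by simp) (by simp)).1
        (hQ (n+1))).exact_up_to_refinements _ hcyc
    · let x : IdxAll G := ⟨k + 1, Idx.lf z U⟩
      have : repZ (Q.d n (n+1)) (z ≫ Sigma.desc (fam Q g₀ k (n+1))) U ≫ z ≫
          toImg Q g₀ (n+1) k =
          (Sigma.ι (fun _ : IdxAll G => G) x ≫ factorThruImage (gen Q (famAll Q g₀) n)) ≫ D0 := by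
        rw [← cancel_mono (image.ι (gen Q (famAll Q g₀) (n+1)))]
        simp only [Category.assoc, toImg_ι, D0, subCxD_ι]
        rw [← rep_comm, image.fac_assoc]
        simp [famAll, x]
      rw [reassoc_of% this]; simp
  calc z' ≫ (kernel.ι φ).app k ≫ colimit.ι (chain (G := G)) k ≫ q ≫ cokernel.π D0
      = z ≫ (ιC k ≫ q) ≫ cokernel.π D0 := by
          exact (Category.assoc _ _ _).symm.trans (congrArg (z ≫ ·) (Category.assoc _ _ _).symm)
    _ = 0 := by simp only [q, ιC_qMap, key]

end small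

section gens

variable [IsGrothendieckAbelian.{v} A] (G : A)

/-- index type for lifted generators -/
abbrev BIdx : Type v :=
  (IdxAll G × Shrink.{v} (Subobject G)) ⊕ (IdxAll G × Shrink.{v} (Subobject G))

/-- the free object covering all small complexes degreewise -/
noncomputable abbrev big : A := ∐ fun _ : BIdx G => G

noncomputable def smallObj (K : ℤ → Shrink.{v} (Subobject (big G))) (n : ℤ) : A :=
  cokernel ((equivShrink _).symm (K n)).arrow

/-- a small family of complexes -/
def CxIdx : Type v :=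
  Σ (K : ℤ → Shrink.{v} (Subobject (big G))),
    { d : ∀ i j, smallObj G K i ⟶ smallObj G K j //
      (∀ i j, i + 1 ≠ j → d i j = 0) ∧ ∀ i j k, d i j ≫ d j k = 0 }

noncomputable def cx (s : CxIdx G) : CochainComplex A ℤ where
  X := smallObj G s.1
  d := s.2.1
  shape i j h := s.2.2.1 i j h
  d_comp_d' i j k _ _ := s.2.2.2 i j k

noncomputable def genArrow (x : Σ s : CxIdx G, Shrink.{v} (Subobject (cx G s))) :
    (((equivShrink (Subobject (cx G x.1))).symm x.2 : Subobject (cx G x.1)) :
      CochainComplex A ℤ) ⟶ cx G x.1 :=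
  ((equivShrink _).symm x.2).arrow

/-- the generating trivial cofibrations -/
noncomputable def gens : MorphismProperty (CochainComplex A ℤ) :=
  MorphismProperty.ofHoms
    (fun (x : { x : Σ s : CxIdx G, Shrink.{v} (Subobject (cx G s)) // tc (genArrow G x) }) =>
      genArrow G x.1)

instance : MorphismProperty.IsSmall.{v} (gens G) := by
  unfold gens; infer_instance

lemma gens_le_tc : gens G ≤ tc := by
  rintro _ _ _ ⟨x⟩; exact x.2

variable {G}

noncomputable def cokernelIsoOfEpi {X Y : A} (q : X ⟶ Y) [Epi q] (S : Subobject X)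
    (hS : S = kernelSubobject q) : cokernel S.arrow ≅ Y :=
  cokernelIsoOfEq (show S.arrow = (Subobject.isoOfEq _ _ hS).hom ≫ (kernelSubobject q).arrow by simp) ≪≫
    cokernelEpiComp _ _ ≪≫
    cokernelIsoOfEq (kernelSubobject_arrow q).symm ≪≫
    cokernelEpiComp _ _ ≪≫
    (cokernelIsCokernel (kernel.ι q)).coconePointUniqueUpToIso
      (Abelian.epiIsCokernelOfKernel (KernelFork.ofι (kernel.ι q) (kernel.condition q)) (kernelIsKernel q))

lemma exists_gens_aux {U B : CochainComplex A ℤ} (i : U ⟶ B) (hi : tc i)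
    (s : CxIdx G) (ε : cx G s ≅ B) :
    ∃ (U' B' : CochainComplex A ℤ) (i' : U' ⟶ B'), gens G i' ∧
      Nonempty (CategoryTheory.Arrow.mk i' ≅ CategoryTheory.Arrow.mk i) := by
  have : Mono i := hi.1
  let sh : Shrink.{v} (Subobject (cx G s)) := equivShrink _ (Subobject.mk (i ≫ ε.inv))
  have hV : (equivShrink (Subobject (cx G s))).symm sh = Subobject.mk (i ≫ ε.inv) :=
    Equiv.symm_apply_apply _ _
  obtain ⟨u⟩ : Nonempty
      (CategoryTheory.Arrow.mk ((equivShrink (Subobject (cx G s))).symm sh).arrow ≅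
        CategoryTheory.Arrow.mk i) := by
    rw [hV]
    refine ⟨CategoryTheory.Arrow.isoMk (Subobject.underlyingIso (i ≫ ε.inv)) ε ?_⟩
    rw [← cancel_mono ε.inv]
    simp
  have h : tc ((equivShrink (Subobject (cx G s))).symm sh).arrow :=
    (MorphismProperty.arrow_mk_iso_iff tc u).2 hi
  refine ⟨_, _, genArrow G ⟨s, sh⟩, ?_, ?_⟩
  · exact MorphismProperty.ofHoms.mk (f := fun x : { x : Σ s : CxIdx G, Shrink.{v} (Subobject (cx G s)) // tc (genArrow G x) } => genArrow G x.1) ⟨⟨s, sh⟩, h⟩
  · exact ⟨u⟩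

lemma exists_gens_of_small {U B : CochainComplex A ℤ} (i : U ⟶ B) (hi : tc i)
    (hB : ∀ n, ∃ q : big G ⟶ B.X n, Epi q) :
    ∃ (U' B' : CochainComplex A ℤ) (i' : U' ⟶ B'), gens G i' ∧
      Nonempty (CategoryTheory.Arrow.mk i' ≅ CategoryTheory.Arrow.mk i) := by
  choose q hq using hB
  let K : ℤ → Shrink.{v} (Subobject (big G)) := fun n => equivShrink _ (kernelSubobject (q n))
  let e : ∀ n, smallObj G K n ≅ B.X n := fun n =>
    cokernelIsoOfEpi (q n) _ ((equivShrink _).symm_apply_apply _)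
  let s : CxIdx G := ⟨K, fun i j => (e i).hom ≫ B.d i j ≫ (e j).inv,
    fun i j h => by simp [B.shape i j h], fun i j k => by simp⟩
  exact exists_gens_aux i hi s
    (HomologicalComplex.Hom.isoOfComponents e (fun i j _ => by simp [cx, s]))

end gens

section exists_pushouts

variable [IsGrothendieckAbelian.{v} A] {G : A} {Y Q : CochainComplex A ℤ} (π : Y ⟶ Q)

noncomputable def bRep (e : ∀ n : ℤ, IdxAll G → (G ⟶ Q.X n)) (n : ℤ)
    (x : IdxAll G × Shrink.{v} (Subobject G)) : G ⟶ Y.X n :=
  repW (π.f n) (e n x.1) ((equivShrink _).symm x.2)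

noncomputable def bFam (e : ∀ n : ℤ, IdxAll G → (G ⟶ Q.X n)) (n : ℤ) :
    BIdx G → (G ⟶ Y.X n) :=
  Sum.elim (bRep π e n) (fun x => bRep π e (n - 1) x ≫ Y.d (n - 1) n)

lemma bFam_dclosed (e : ∀ n : ℤ, IdxAll G → (G ⟶ Q.X n)) : DClosed Y (bFam π e) := by
  rintro i j (x | x) hij
  · obtain rfl : i = j - 1 := by omega
    rw [← Category.assoc, show bFam π e (j - 1) (Sum.inl x) ≫ Y.d (j - 1) j =
      bFam π e j (Sum.inr x) from rfl, ← a_eq (Q := Y) (a := bFam π e) j (Sum.inr x),
      Category.assoc, cokernel.condition, comp_zero]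
  · simp [bFam]

variable (g₀ : ∀ n : ℤ, G ⟶ Q.X n)

noncomputable abbrev eCx : CochainComplex A ℤ := subCx Q (famAll Q g₀) (fam_dclosed Q g₀)
noncomputable abbrev eι : eCx g₀ ⟶ Q := subCxι Q (famAll Q g₀) (fam_dclosed Q g₀)
noncomputable abbrev bCx : CochainComplex A ℤ := subCx Y (bFam π (famAll Q g₀)) (bFam_dclosed π _)
noncomputable abbrev bι : bCx π g₀ ⟶ Y := subCxι Y (bFam π (famAll Q g₀)) (bFam_dclosed π _)

lemma famAll_coker (n : ℤ) (x : IdxAll G) :
    famAll Q g₀ n x ≫ (cokernel.π (eι g₀)).f n = 0 := by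
  have h : (eι g₀).f n ≫ (cokernel.π (eι g₀)).f n = 0 := by
    rw [← HomologicalComplex.comp_f, cokernel.condition, HomologicalComplex.zero_f]
  rw [← a_eq (Q := Q) (a := famAll Q g₀) n x, Category.assoc]
  exact (congrArg (fun t => (Sigma.ι (fun _ : IdxAll G => G) x ≫
    factorThruImage (gen Q (famAll Q g₀) n)) ≫ t) h).trans comp_zero

lemma bι_π_coker : (bι π g₀ ≫ π) ≫ cokernel.π (eι g₀) = 0 := by
  ext n
  change (image.ι (gen Y (bFam π (famAll Q g₀)) n) ≫ π.f n) ≫ _ = 0
  rw [← cancel_epi (factorThruImage (gen Y (bFam π (famAll Q g₀)) n)), comp_zero]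
  refine Sigma.hom_ext _ _ (fun x => ?_)
  simp only [Category.assoc, image.fac_assoc, ι_gen_assoc, comp_zero]
  have hr : ∀ (m : ℤ) (y : IdxAll G × Shrink.{v} (Subobject G)),
      bRep π (famAll Q g₀) m y ≫ π.f m ≫ (cokernel.π (eι g₀)).f m = 0 := fun m y => by
    rw [← Category.assoc, bRep, rep_comm, Category.assoc, famAll_coker, comp_zero]
  rcases x with y | y
  · simpa [bFam] using hr n y
  · simp only [bFam, Sum.elim_inr, Category.assoc]
    rw [← π.comm_assoc, ← (cokernel.π (eι g₀)).comm, reassoc_of% hr (n-1) y, zero_comp]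

noncomputable def β : bCx π g₀ ⟶ eCx g₀ :=
  Abelian.monoLift (eι g₀) (bι π g₀ ≫ π) (bι_π_coker π g₀)

lemma β_ι : β π g₀ ≫ eι g₀ = bι π g₀ ≫ π := Abelian.monoLift_comp _ _ _

lemma epi_β (hG : IsSeparator G) [Epi π] : Epi (β π g₀) := by
  refine HomologicalComplex.epi_of_epi_f _ (fun n => ⟨fun {T} u w huw => ?_⟩)
  rw [← sub_eq_zero] at huw ⊢
  rw [← Preadditive.comp_sub] at huw
  generalize u - w = h at huw ⊢
  refine (cancel_epi (factorThruImage (gen Q (famAll Q g₀) n))).1 (Eq.trans ?_ comp_zero.symm)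
  refine Sigma.hom_ext _ _ (fun x => ?_)
  rw [comp_zero]
  refine rep_jointly_epi hG (π.f n) (famAll Q g₀ n x) ?_ _ (fun U => ?_)
  · exact surjective_up_to_refinements_of_epi (π.f n) _
  · let y : BIdx G := Sum.inl (x, equivShrink _ U)
    let b' : image (gen Y (bFam π (famAll Q g₀)) n) ⟶ image (gen Q (famAll Q g₀) n) :=
      (β π g₀).f n
    have hb : b' ≫ image.ι (gen Q (famAll Q g₀) n) =
        image.ι (gen Y (bFam π (famAll Q g₀)) n) ≫ π.f n :=
      congr_arg (fun (t : bCx π g₀ ⟶ Q) => t.f n) (β_ι π g₀)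
    let h' : image (gen Q (famAll Q g₀) n) ⟶ T := h
    have hb0 : b' ≫ h' = 0 := huw
    have : repZ (π.f n) (famAll Q g₀ n x) U ≫ Sigma.ι (fun _ : IdxAll G => G) x ≫
        factorThruImage (gen Q (famAll Q g₀) n) =
        Sigma.ι (fun _ : BIdx G => G) y ≫
          factorThruImage (gen Y (bFam π (famAll Q g₀)) n) ≫ b' := by
      rw [← cancel_mono (image.ι (gen Q (famAll Q g₀) n))]
      simp only [Category.assoc, image.fac, ι_gen, hb]
      rw [image.fac_assoc, ι_gen_assoc]
      simp [y, bFam, bRep, rep_comm]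
    change repZ (π.f n) (famAll Q g₀ n x) U ≫ Sigma.ι (fun _ : IdxAll G => G) x ≫
      factorThruImage (gen Q (famAll Q g₀) n) ≫ h' = 0
    rw [reassoc_of% this, hb0, comp_zero, comp_zero]

lemma exists_pushouts (hG : IsSeparator G) {X Y : CochainComplex A ℤ} (p : X ⟶ Y) (hp : tc p)
    (hp' : ¬ IsIso p) :
    ∃ (X' : CochainComplex A ℤ) (i : X ⟶ X') (p' : X' ⟶ Y) (_ : (gens G).pushouts i)
      (_ : ¬ IsIso i) (_ : tc p'), i ≫ p' = p := by
  obtain ⟨hpm, hQ⟩ := (tc_iff p).1 hp
  let π := cokernel.π p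
  -- a nonzero element of the cokernel
  obtain ⟨m, hm⟩ : ∃ m, ¬ IsZero ((cokernel p).X m) := by
    by_contra! hc
    have : IsZero (cokernel p) := by
      rw [IsZero.iff_id_eq_zero]
      ext n
      exact (hc n).eq_of_src _ _
    have : Epi p := Preadditive.epi_of_cokernel_zero (this.eq_of_tgt _ _)
    exact hp' (isIso_of_mono_of_epi p)
  obtain ⟨g, hg⟩ := exists_ne_zero hG hm
  classical
  let g₀ : ∀ n : ℤ, G ⟶ (cokernel p).X n := Function.update (fun _ => 0) m g
  have hE : (eCx g₀).Acyclic := sub_acyclic _ g₀ hG hQ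
  have hE0 : eι g₀ ≠ 0 := fun h0 => by
    have h1 : (eι g₀).f m = 0 := by rw [h0]; rfl
    have h2 := a_eq (Q := cokernel p) (a := famAll _ g₀) m ⟨0, PUnit.unit⟩
    rw [show image.ι (gen (cokernel p) (famAll _ g₀) m) = 0 from h1, comp_zero] at h2
    exact hg (by simpa [famAll, fam, g₀] using h2.symm)
  have := epi_β π g₀ hG
  let i := kernel.ι (β π g₀)
  have hi : tc i := by
    refine ⟨inferInstanceAs (Mono (kernel.ι (β π g₀))), ?_⟩
    exact quasiIso_of_acyclic_X₃ (S := ShortComplex.mk _ _ (kernel.condition (β π g₀)))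
      { exact := ShortComplex.exact_of_f_is_kernel _ (kernelIsKernel _) } hE
  have hz : (i ≫ bι π g₀) ≫ π = 0 := by
    rw [Category.assoc, ← β_ι, kernel.condition_assoc, zero_comp]
  let t := Abelian.monoLift p (i ≫ bι π g₀) hz
  have ht : t ≫ p = i ≫ bι π g₀ := Abelian.monoLift_comp _ _ _
  have sq : IsPullback t i p (bι π g₀) := ⟨⟨ht⟩, ⟨PullbackCone.IsLimit.mk _
    (fun s => kernel.lift (β π g₀) s.snd (by
      rw [← cancel_mono (eι g₀), zero_comp, Category.assoc, β_ι, ← s.condition_assoc,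
        cokernel.condition, comp_zero]))
    (fun s => by rw [← cancel_mono p, Category.assoc, ht, kernel.lift_ι_assoc, s.condition])
    (fun s => kernel.lift_ι _ _ _)
    (fun s l _ hl => by rw [← cancel_mono i, hl]; exact (kernel.lift_ι _ _ _).symm)⟩⟩
  have po := IsPushout.of_hasPushout t i
  obtain ⟨U', B', i', hi', ⟨e⟩⟩ := exists_gens_of_small i hi (fun n =>
    ⟨factorThruImage (gen Y (bFam π (famAll _ g₀)) n),
      inferInstanceAs (Epi (factorThruImage (gen Y (bFam π (famAll _ g₀)) n)))⟩)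
  have htc : tc (pushout.inl t i) := tc_pushouts po.flip hi
  have hp'm : Mono (pushout.desc p (bι π g₀) ht) :=
    po.mono_of_isPullback_of_mono sq _ (pushout.inl_desc _ _ _) (pushout.inr_desc _ _ _)
  refine ⟨_, pushout.inl t i, pushout.desc p (bι π g₀) ht, ?_, ?_,
    tc_cancel _ _ (by rwa [pushout.inl_desc]) htc, pushout.inl_desc _ _ _⟩
  · let eU : U' ≅ kernel (β π g₀) := CategoryTheory.Arrow.leftFunc.mapIso e
    let eB : B' ≅ bCx π g₀ := CategoryTheory.Arrow.rightFunc.mapIso e
    have he : eU.hom ≫ i = i' ≫ eB.hom := e.hom.w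
    exact ⟨_, _, i', eU.hom ≫ t, eB.hom ≫ pushout.inr t i, hi',
      po.of_iso eU.symm (Iso.refl _) eB.symm (Iso.refl _) (by simp)
        (by rw [← cancel_mono eB.hom, Category.assoc, Category.assoc]; simp [← he]) (by simp) (by simp)⟩
  · intro hiso
    have : pushout.inr t i ≫ inv (pushout.inl t i) ≫ p = bι π g₀ := by
      rw [(IsIso.inv_comp_eq (pushout.inl t i)).2 (pushout.inl_desc p (bι π g₀) ht).symm,
        pushout.inr_desc]
    have h0 : β π g₀ ≫ eι g₀ = 0 := by
      rw [β_ι, ← this]; simp [π]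
    exact hE0 ((cancel_epi (β π g₀)).1 (h0.trans comp_zero.symm))

end exists_pushouts

section iteration

variable [IsGrothendieckAbelian.{v} A] {G : A}

lemma isomorphisms_le_pushouts_gens :
    MorphismProperty.isomorphisms (CochainComplex A ℤ) ≤ (gens G).pushouts := by
  obtain ⟨U', B', i', hi', he⟩ := exists_gens_of_small (G := G) (𝟙 (0 : CochainComplex A ℤ))
    (tc.id_mem _) (fun n => ⟨0, ⟨fun {T} a b _ => (Functor.map_isZero
      (HomologicalComplex.eval A (ComplexShape.up ℤ) n) (isZero_zero _)).eq_of_src a b⟩⟩)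
  have : IsIso i' := by
    obtain ⟨e⟩ := he
    exact ((MorphismProperty.isomorphisms _).arrow_mk_iso_iff e).2 (inferInstanceAs (IsIso (𝟙 _)))
  exact MorphismProperty.isomorphisms_le_pushouts _ (fun _ => ⟨_, _, i', hi', 0, inferInstance⟩)

variable {Y : CochainComplex A ℤ}

lemma exists_larger (hG : IsSeparator G) (S : Subobject Y) (hS : tc S.arrow) (hT : S ≠ ⊤) :
    ∃ (S' : Subobject Y) (h : S < S'),
      (gens G).pushouts (Subobject.ofLE S S' h.le) ∧ tc S'.arrow := by
  induction S using Subobject.ind with | _ f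
  have hf : tc f := (MorphismProperty.arrow_mk_iso_iff tc
    (CategoryTheory.Arrow.isoMk (Subobject.underlyingIso f) (Iso.refl _))).1 hS
  obtain ⟨X', i, p', hi, hi', hp', fac⟩ := exists_pushouts hG f hf
    (by simpa only [Subobject.isIso_iff_mk_eq_top] using hT)
  have : Mono p' := hp'.1
  refine ⟨Subobject.mk p', Subobject.mk_lt_mk_of_comm i fac hi',
    (MorphismProperty.arrow_mk_iso_iff _ ?_).2 hi, (MorphismProperty.arrow_mk_iso_iff _ ?_).2 hp'⟩
  · refine CategoryTheory.Arrow.isoMk (Subobject.underlyingIso f) (Subobject.underlyingIso p') ?_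
    dsimp
    simp only [← cancel_mono p', Category.assoc, fac,
      Subobject.underlyingIso_hom_comp_eq_mk, Subobject.ofLE_arrow]
  · exact CategoryTheory.Arrow.isoMk (Subobject.underlyingIso p') (Iso.refl _)

variable (G) in
open scoped Classical in
/-- the next step of the transfinite iteration -/
noncomputable def larger (S : Subobject Y) : Subobject Y :=
  if h : ∃ (S' : Subobject Y) (h : S < S'),
      (gens G).pushouts (Subobject.ofLE S S' h.le) ∧ tc S'.arrow then h.choose else ⊤

lemma lt_larger (S : Subobject Y) (hS : S ≠ ⊤) : S < larger G S := by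
  rw [larger]; split
  · next h => exact h.choose_spec.choose
  · exact hS.lt_top

lemma le_larger (S : Subobject Y) : S ≤ larger G S := by
  by_cases h : S = ⊤
  · subst h
    rw [larger, dif_neg (fun ⟨S', h, _⟩ => not_top_lt h)]
  · exact (lt_larger S h).le

set_option backward.isDefEq.respectTransparency false in
lemma larger_spec (hG : IsSeparator G) (S : Subobject Y) (hS : tc S.arrow) :
    (gens G).pushouts (Subobject.ofLE S (larger G S) (le_larger (G := G) S)) ∧
      tc (larger G S).arrow := by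
  by_cases hT : S = ⊤
  · subst hT
    have e : larger G (⊤ : Subobject Y) = ⊤ := by
      rw [larger, dif_neg (fun ⟨S', h, _⟩ => not_top_lt h)]
    have := (Subobject.isIso_arrow_iff_eq_top (larger G (⊤ : Subobject Y))).2 e
    have := (Subobject.isIso_arrow_iff_eq_top (⊤ : Subobject Y)).2 rfl
    refine ⟨(MorphismProperty.arrow_mk_iso_iff _
      (CategoryTheory.Arrow.isoMk (asIso (⊤ : Subobject Y).arrow) (asIso (larger G (⊤ : Subobject Y)).arrow)
        (by simp))).2
        (isomorphisms_le_pushouts_gens (𝟙 Y) (inferInstanceAs (IsIso (𝟙 Y)))), ?_⟩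
    exact (MorphismProperty.arrow_mk_iso_iff tc (CategoryTheory.Arrow.isoMk (asIso (larger G (⊤ : Subobject Y)).arrow)
      (Iso.refl _))).2 (tc.id_mem Y)
  · have h := exists_larger hG S hS hT
    have e : larger G S = h.choose := by rw [larger, dif_pos h]
    obtain ⟨h1, h2⟩ := h.choose_spec.choose_spec
    refine ⟨(MorphismProperty.arrow_mk_iso_iff _ ?_).1 h1, by rwa [e]⟩
    exact CategoryTheory.Arrow.isoMk (Iso.refl _) (Subobject.isoOfEq _ _ e.symm)

variable (G) (S₀ : Subobject Y) (J : Type v) [LinearOrder J] [OrderBot J] [SuccOrder J]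
  [WellFoundedLT J]

@[simps]
noncomputable def functorToMonoOver : J ⥤ MonoOver Y where
  obj j := MonoOver.mk (transfiniteIterate (larger G) j S₀).arrow
  map {j j'} f := MonoOver.homMk (Subobject.ofLE _ _
      (monotone_transfiniteIterate _ _ (le_larger) (leOfHom f)))

noncomputable abbrev itFunctor : J ⥤ CochainComplex A ℤ :=
  functorToMonoOver G S₀ J ⋙ MonoOver.forget _ ⋙ Over.forget _

set_option backward.defeqAttrib.useBackward true in
instance itFunctor_continuous : (itFunctor G S₀ J).IsWellOrderContinuous where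
  nonempty_isColimit m hm := ⟨by
    have := hm.nonempty_Iio.to_subtype
    let c := (Set.principalSegIio m).cocone (functorToMonoOver G S₀ J ⋙ MonoOver.forget _)
    have : Mono c.pt.hom := by dsimp [c]; infer_instance
    apply IsGrothendieckAbelian.isColimitMapCoconeOfSubobjectMkEqISup
      ((Set.principalSegIio m).monotone.functor ⋙ functorToMonoOver G S₀ J) c
    dsimp [c]
    simp only [Subobject.mk_arrow]
    exact transfiniteIterate_limit (larger G) S₀ m hm⟩

variable {G J}

lemma itFunctor_map_arrow {j k : J} (f : j ⟶ k) :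
    (itFunctor G S₀ J).map f ≫ (transfiniteIterate (larger G) k S₀).arrow =
      (transfiniteIterate (larger G) j S₀).arrow :=
  Subobject.ofLE_arrow _

lemma tc_iterate (hG : IsSeparator G) (hS₀ : tc S₀.arrow) (j : J) :
    tc (transfiniteIterate (larger G) j S₀).arrow := by
  induction j using SuccOrder.limitRecOn with
  | isMin j hj =>
    obtain rfl := hj.eq_bot
    rwa [transfiniteIterate_bot]
  | succ j hj hj' =>
    rw [transfiniteIterate_succ _ _ _ hj]
    exact (larger_spec hG _ hj').2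
  | isSuccLimit j hj hj' =>
    have hbot : tc (transfiniteIterate (larger G) (⊥ : J) S₀).arrow := by
      rwa [transfiniteIterate_bot]
    let : OrderBot (Set.Iio j) :=
      { bot := ⟨⊥, Order.IsSuccLimit.bot_lt hj⟩
        bot_le k := bot_le }
    have : IsFiltered (Set.Iio j) := isFiltered_of_directed_le_nonempty _
    have hcol : (tc (A := A)).IsStableUnderColimitsOfShape (Set.Iio j) :=
      tc_stableUnderColimitsOfShape
    have hm : tc ((itFunctor G S₀ J).map (homOfLE (bot_le : ⊥ ≤ j))) :=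
      MorphismProperty.colimitsOfShape_le _
        (.of_isColimit ((itFunctor G S₀ J).isColimitOfIsWellOrderContinuous j hj) (fun k => by
          refine ⟨?_, quasiIso_of_comp_right _ (transfiniteIterate (larger G) k.1 S₀).arrow
            (hφ := (hj' k.1 k.2).2) (hφφ' := ?_)⟩
          · exact inferInstanceAs (Mono (Subobject.ofLE _ _ (monotone_transfiniteIterate (larger G) S₀
              (le_larger (G := G)) (bot_le : ⊥ ≤ k.1))))
          · have := itFunctor_map_arrow (G := G) S₀ (homOfLE (bot_le : ⊥ ≤ k.1))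
            exact this.symm ▸ hbot.2))
    exact tc_cancel _ _ ((itFunctor_map_arrow S₀ (homOfLE (bot_le : ⊥ ≤ j))).symm ▸ hbot) hm

set_option backward.isDefEq.respectTransparency.types false in
set_option backward.isDefEq.respectTransparency false in
set_option backward.defeqAttrib.useBackward true in
variable (G) in
noncomputable def transfiniteOfTC (hG : IsSeparator G) (hS₀ : tc S₀.arrow) (j : J) :
    (gens G).pushouts.TransfiniteCompositionOfShape (Set.Iic j)
    ((itFunctor G S₀ J).map (homOfLE bot_le : ⊥ ⟶ j)) where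
  F := (Set.initialSegIic j).monotone.functor ⋙ itFunctor G S₀ J
  isoBot := Iso.refl _
  incl :=
    { app k := (itFunctor G S₀ J).map (homOfLE k.2)
      naturality k k' h := by simp [MonoOver.forget] }
  isColimit := colimitOfDiagramTerminal isTerminalTop _
  map_mem k hk := by
    dsimp [MonoOver.forget]
    convert! (larger_spec hG (transfiniteIterate (larger G) k.1 S₀)
      (tc_iterate S₀ hG hS₀ k.1)).1 using 2
    all_goals
      rw [Set.Iic.succ_eq_of_not_isMax hk,
        transfiniteIterate_succ _ _ _ (Set.not_isMax_coe _ hk)]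

set_option backward.defeqAttrib.useBackward true in
set_option backward.isDefEq.respectTransparency false in
lemma gens_rlp (hG : IsSeparator G) : (gens G).rlp = (tc (A := A)).rlp := by
  apply le_antisymm
  · intro X Z p hp U V i hi
    have : Mono i := hi.1
    let κ := Order.succ (Cardinal.mk (Shrink.{v} (Subobject V)))
    have : Nonempty κ.ord.ToType := by simp [κ]
    have := WellFoundedLT.toOrderBot κ.ord.ToType
    have hcard : HasCardinalLT (Subobject V) (Cardinal.mk κ.ord.ToType) :=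
      lt_of_lt_of_le (Order.lt_succ _) (by simp [κ])
    obtain ⟨j, hj⟩ := top_mem_range_transfiniteIterate (larger G) (Subobject.mk i)
      lt_larger (by rw [larger, dif_neg (fun ⟨S', h, _⟩ => not_top_lt h)])
      (fun h ↦ by simpa [hasCardinalLT_iff_cardinal_mk_lt] using hcard.of_injective _ h)
      (J := κ.ord.ToType)
    have hS₀ : tc (Subobject.mk i).arrow :=
      (MorphismProperty.arrow_mk_iso_iff tc
        (CategoryTheory.Arrow.isoMk (Subobject.underlyingIso i) (Iso.refl _))).2 hi
    have h := MorphismProperty.transfiniteCompositionsOfShape_le_llp_rlp (gens G).pushouts (Set.Iic j) _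
      (transfiniteOfTC G (Subobject.mk i) hG hS₀ j).mem
    simp only [MorphismProperty.rlp_pushouts] at h
    have := (Subobject.isIso_arrow_iff_eq_top _).2 hj
    have h2 : (gens G).rlp.llp i := by
      refine (MorphismProperty.arrow_mk_iso_iff _ ?_).2 h
      refine (CategoryTheory.Arrow.isoMk
        (Subobject.isoOfEq _ _ (transfiniteIterate_bot _ _) ≪≫ Subobject.underlyingIso i)
        (asIso (transfiniteIterate (larger G) j (Subobject.mk i)).arrow) ?_).symm
      dsimp [MonoOver.forget]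
      rw [Category.assoc, Subobject.underlyingIso_hom_comp_eq_mk, Subobject.ofLE_arrow,
        Subobject.ofLE_arrow]
    exact h2 _ hp
  · exact MorphismProperty.antitone_rlp (gens_le_tc G)

instance : MorphismProperty.HasSmallObjectArgument.{v} (gens G) := by
  obtain ⟨κ, hκ', hκ⟩ := HasCardinalLT.exists_regular_cardinal.{v}
    (Σ s : CxIdx G, Shrink.{v} (Subobject (cx G s)))
  have : Fact κ.IsRegular := ⟨hκ'⟩
  have : Nonempty κ.ord.ToType := by simpa using hκ'.ne_zero
  have := WellFoundedLT.toOrderBot κ.ord.ToType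
  exact ⟨κ, inferInstance, inferInstance,
    { preservesColimit {U B X Z} i hi f hf := by
        let hf' : (MorphismProperty.monomorphisms (CochainComplex A ℤ)).TransfiniteCompositionOfShape κ.ord.ToType f :=
          { toTransfiniteCompositionOfShape := hf.toTransfiniteCompositionOfShape
            map_mem j hj := by
              have := (hf.attachCells j hj).pushouts_coproducts
              refine (?_ : _ ≤ MorphismProperty.monomorphisms _) _ this
              simp only [MorphismProperty.pushouts_le_iff, MorphismProperty.coproducts_le_iff]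
              intro U' B' i' hi'
              rw [MorphismProperty.ofHoms_homFamily] at hi'
              exact (gens_le_tc G _ hi').1 }
        have (j j' : κ.ord.ToType) (φ : j ⟶ j') : Mono (hf'.F.map φ) := hf'.mem_map φ
        apply IsGrothendieckAbelian.preservesColimit_coyoneda_obj_of_mono (Y := hf'.F) (κ := κ)
        obtain ⟨x⟩ := hi
        have hB : HasCardinalLT (Subobject (cx G x.1.1)) κ :=
          hκ.of_injective (fun V => ⟨x.1.1, equivShrink _ V⟩) (fun V W h => by simpa using h)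
        have : Mono (genArrow G x.1) := inferInstanceAs (Mono ((equivShrink _).symm x.1.2).arrow)
        exact Subobject.hasCardinalLT_of_mono hB (genArrow G x.1) }⟩

end iteration

section main

variable [IsGrothendieckAbelian.{v} A]

theorem exists_tc_rlp (M : CochainComplex A ℤ) :
    ∃ (I : CochainComplex A ℤ) (f : M ⟶ I), tc f ∧
      (tc (A := A)).rlp (0 : I ⟶ 0) := by
  have hG := isSeparator_separator A
  let fac := MorphismProperty.factorizationData (gens (separator A)).rlp.llp (gens (separator A)).rlp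
    (0 : M ⟶ (0 : CochainComplex A ℤ))
  refine ⟨fac.Z, fac.i, ?_, ?_⟩
  · have h := le_of_eq (MorphismProperty.llp_rlp_of_hasSmallObjectArgument.{v} (gens (separator A))) _ fac.hi
    refine (?_ : _ ≤ tc) _ h
    refine le_trans ?_ (MorphismProperty.retracts_le_iff.2 le_rfl : tc.retracts ≤ tc)
    apply MorphismProperty.retracts_monotone
    refine le_trans ?_ (MorphismProperty.transfiniteCompositions_le.{v} tc)
    apply MorphismProperty.transfiniteCompositions_monotone
    simp only [MorphismProperty.pushouts_le_iff, MorphismProperty.coproducts_le_iff]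
    exact gens_le_tc _
  · rw [← gens_rlp hG, ← (isZero_zero _).eq_of_tgt fac.p 0]
    exact fac.hp

variable {I : CochainComplex A ℤ}

omit [IsGrothendieckAbelian.{v} A] in
lemma extend_of_rlp (hI : (tc (A := A)).rlp (0 : I ⟶ 0)) {X Z : CochainComplex A ℤ} (i : X ⟶ Z)
    (hi : tc i) (f : X ⟶ I) : ∃ g : Z ⟶ I, i ≫ g = f := by
  have := hI i hi
  have sq : CommSq f i (0 : I ⟶ 0) 0 := ⟨by simp⟩
  exact ⟨sq.lift, sq.fac_left⟩

omit [IsGrothendieckAbelian.{v} A] in
lemma acyclic_mappingCone_id (K : CochainComplex A ℤ) :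
    (CochainComplex.mappingCone (𝟙 K)).Acyclic := by
  rw [← HomotopyCategory.quotient_obj_mem_subcategoryAcyclic_iff_acyclic]
  have h : IsZero ((HomotopyCategory.quotient A (ComplexShape.up ℤ)).obj
      (CochainComplex.mappingCone (𝟙 K))) :=
    Pretriangulated.Triangle.isZero₃_of_isIso₁ _
      (HomotopyCategory.mappingCone_triangleh_distinguished (𝟙 K))
      (inferInstanceAs (IsIso ((HomotopyCategory.quotient A (ComplexShape.up ℤ)).map (𝟙 K))))
  exact ObjectProperty.prop_of_isZero _ h

omit [IsGrothendieckAbelian.{v} A] in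
lemma isKInjective_of_rlp (hI : (tc (A := A)).rlp (0 : I ⟶ 0)) : I.IsKInjective := by
  refine ⟨fun {K} f hK => ?_⟩
  have hi : tc (CochainComplex.mappingCone.inr (𝟙 K)) := by
    refine ⟨?_, ?_⟩
    · exact HomologicalComplex.mono_of_mono_f _ (fun n =>
        mono_of_mono_fac (CochainComplex.mappingCone.inr_f_snd_v (𝟙 K) n))
    · change QuasiIso _
      rw [quasiIso_iff]
      intro n
      rw [quasiIsoAt_iff_exactAt _ _ (hK n)]
      exact acyclic_mappingCone_id K n
  obtain ⟨g, hg⟩ := extend_of_rlp hI _ hi f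
  refine ⟨(Homotopy.ofEq hg.symm).trans ((Homotopy.compRight
    ((CochainComplex.HomComplex.Cochain.equivHomotopy _ _).symm
      ⟨CochainComplex.mappingCone.inl (𝟙 K), by simp⟩ :
        Homotopy (CochainComplex.mappingCone.inr (𝟙 K)) 0) g).trans
      (Homotopy.ofEq zero_comp))⟩

omit [IsGrothendieckAbelian.{v} A] in
lemma acyclic_double_id (U : A) (n : ℤ) :
    (HomologicalComplex.double (𝟙 U) (show (ComplexShape.up ℤ).Rel n (n+1) from rfl)).Acyclic := by
  intro k
  set D := HomologicalComplex.double (𝟙 U) (show (ComplexShape.up ℤ).Rel n (n+1) from rfl)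
  have hne : n ≠ n + 1 := by omega
  rw [exactAt_iff' _ (k-1) k (k+1) (by simp) (by simp)]
  have hd : IsIso (D.d n (n+1)) := by
    rw [double_d _ _ hne]; infer_instance
  by_cases h0 : k = n
  · subst h0
    refine (ShortComplex.exact_iff_mono _ ?_).2 (inferInstanceAs (Mono (D.d k (k+1))))
    exact double_d_eq_zero₁ (𝟙 U) (show (ComplexShape.up ℤ).Rel k (k+1) from rfl) _ _ (by omega)
  by_cases h1 : k = n + 1
  · subst h1
    refine (ShortComplex.exact_iff_epi _ ?_).2 ?_
    · exact double_d_eq_zero₀ (𝟙 U) (show (ComplexShape.up ℤ).Rel n (n+1) from rfl) _ _ (by omega)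
    · simp only [HomologicalComplex.sc']
      change Epi (D.d (n + 1 - 1) (n + 1))
      rw [add_sub_cancel_right]; infer_instance
  exact ShortComplex.exact_of_isZero_X₂ _
    (isZero_double_X (𝟙 U) (show (ComplexShape.up ℤ).Rel n (n+1) from rfl) k h0 h1)

omit [IsGrothendieckAbelian.{v} A] in
lemma injective_of_rlp (hI : (tc (A := A)).rlp (0 : I ⟶ 0)) (n : ℤ) : Injective (I.X n) := by
  refine ⟨fun {U V} f a _ => ?_⟩
  have hne : n ≠ n + 1 := by omega
  have hR : (ComplexShape.up ℤ).Rel n (n+1) := rfl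
  let D (W : A) := HomologicalComplex.double (𝟙 W) hR
  let eU := evalCompCoyonedaCorepresentableByDoubleId hR hne U
  let eV := evalCompCoyonedaCorepresentableByDoubleId hR hne V
  let m : D U ⟶ D V := mkHomFromDouble hR hne (a ≫ (doubleXIso₀ (𝟙 V) hR).inv)
    (a ≫ (doubleXIso₁ (𝟙 V) hR hne).inv)
    (by simp [D, double_d _ _ hne]) (fun k hk => by
      rw [Category.assoc, double_d_eq_zero₀ _ _ _ _ hne.symm, comp_zero, comp_zero])
  have hm : tc m := by
    refine ⟨HomologicalComplex.mono_of_mono_f _ (fun k => ?_), ?_⟩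
    · by_cases h0 : k = n
      · subst h0; simp only [m, mkHomFromDouble_f₀]; infer_instance
      by_cases h1 : k = n + 1
      · subst h1; simp only [m, mkHomFromDouble_f₁]; infer_instance
      exact ⟨fun {T} u w _ => (isZero_double_X _ hR k h0 h1).eq_of_tgt u w⟩
    · change QuasiIso _
      rw [quasiIso_iff]
      intro k
      rw [quasiIsoAt_iff_exactAt _ _ (acyclic_double_id U n k)]
      exact acyclic_double_id V n k
  obtain ⟨g, hg⟩ := extend_of_rlp hI m hm (eU.homEquiv.symm f)
  refine ⟨(doubleXIso₀ (𝟙 V) hR).inv ≫ g.f n, ?_⟩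
  have h := congr_arg (fun (t : D U ⟶ I) => (doubleXIso₀ (𝟙 U) hR).inv ≫ t.f n) hg
  simpa [m, eU, evalCompCoyonedaCorepresentableByDoubleId] using h

theorem exists_kInjective (M : CochainComplex A ℤ) :
    ∃ (I : CochainComplex A ℤ) (f : M ⟶ I), I.IsKInjective ∧ QuasiIso f ∧ (∀ n, Mono (f.f n)) ∧
      ∀ n, Injective (I.X n) := by
  obtain ⟨I, f, ⟨hf1, hf2⟩, hI⟩ := exists_tc_rlp M
  have : Mono f := hf1
  exact ⟨I, f, isKInjective_of_rlp hI, hf2, fun n => inferInstance, injective_of_rlp hI⟩

end main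

end Groth.Agent.H5KInj
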