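import Mathlib

open CategoryTheory CategoryTheory.Limits CategoryTheory.Pretriangulated HomotopyCategory

namespace Groth.Agent.H5KMinus

universe v u

open scoped ZeroObject

variable {V : Type u} [Category.{v} V] [Preadditive V] [HasZeroObject V] [HasBinaryBiproducts V]

theorem minus_tri :
    (ObjectProperty.IsTriangulated (fun K : HomotopyCategory V (ComplexShape.up ℤ) => ∃ n : ℤ, CochainComplex.IsStrictlyLE K.as n)) ∧
    (ObjectProperty.IsTriangulated (fun K : HomotopyCategory V (ComplexShape.up ℤ) =>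
      ∃ a b : ℤ, CochainComplex.IsStrictlyGE K.as a ∧ CochainComplex.IsStrictlyLE K.as b)) := by
  let P : ObjectProperty (HomotopyCategory V (ComplexShape.up ℤ)) := fun K => ∃ n : ℤ, CochainComplex.IsStrictlyLE K.as n
  let B : ObjectProperty (HomotopyCategory V (ComplexShape.up ℤ)) := fun K => ∃ a b : ℤ, CochainComplex.IsStrictlyGE K.as a ∧ CochainComplex.IsStrictlyLE K.as b
  have shLE : ∀ (K : CochainComplex V ℤ) (q n : ℤ) [K.IsStrictlyLE q], (K⟦n⟧).IsStrictlyLE (q - n) :=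
    fun K q n _ => K.isStrictlyLE_shift q n (q - n) (by lia)
  have shGE : ∀ (K : CochainComplex V ℤ) (q n : ℤ) [K.IsStrictlyGE q], (K⟦n⟧).IsStrictlyGE (q - n) :=
    fun K q n _ => K.isStrictlyGE_shift q n (q - n) (by lia)
  have coneLE : ∀ {K L : CochainComplex V ℤ} (f : K ⟶ L) (n₁ n₂ : ℤ) [K.IsStrictlyLE n₁] [L.IsStrictlyLE n₂],
      (CochainComplex.mappingCone f).IsStrictlyLE (max n₁ n₂) := by
    intro K L f n₁ n₂ _ _
    rw [CochainComplex.isStrictlyLE_iff]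
    intro i hi
    simp only [CochainComplex.mappingCone.isZero_X_iff]
    exact ⟨K.isZero_of_isStrictlyLE n₁ _ (by omega), L.isZero_of_isStrictlyLE n₂ _ (by omega)⟩
  have sh : ∀ (n : ℤ) (K : CochainComplex V ℤ), ((quotient V _).obj K)⟦n⟧ = (quotient V _).obj (K⟦n⟧) :=
    fun n K => by rw [shift_quotient_obj]
  have z : ∀ n : ℤ, (0 : CochainComplex V ℤ).IsStrictlyLE n ∧ (0 : CochainComplex V ℤ).IsStrictlyGE n :=
    fun n => ⟨inferInstance, inferInstance⟩
  have : P.IsTriangulatedClosed₃ := ⟨fun T hT h₁ h₂ => by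
    obtain ⟨n₁, _⟩ := h₁
    obtain ⟨n₂, _⟩ := h₂
    obtain ⟨f : T.obj₁.as ⟶ T.obj₂.as, hf⟩ := (quotient _ _).map_surjective T.mor₁
    refine ⟨_, ?_, ⟨Triangle.π₃.mapIso (isoTriangleOfIso₁₂ T _ hT (mappingCone_triangleh_distinguished f)
        (Iso.refl _) (Iso.refl _) (by erw [Category.comp_id, Category.id_comp]; exact hf.symm))⟩⟩
    exact ⟨_, coneLE f n₁ n₂⟩⟩
  have : B.IsTriangulatedClosed₃ := ⟨fun T hT h₁ h₂ => by
    obtain ⟨a₁, n₁, _, _⟩ := h₁
    obtain ⟨a₂, n₂, _, _⟩ := h₂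
    obtain ⟨f : T.obj₁.as ⟶ T.obj₂.as, hf⟩ := (quotient _ _).map_surjective T.mor₁
    refine ⟨_, ?_, ⟨Triangle.π₃.mapIso (isoTriangleOfIso₁₂ T _ hT (mappingCone_triangleh_distinguished f)
        (Iso.refl _) (Iso.refl _) (by erw [Category.comp_id, Category.id_comp]; exact hf.symm))⟩⟩
    exact ⟨_, _, CochainComplex.isStrictlyGE_mappingCone f a₁ a₂ (min (a₁ - 1) a₂) (by omega) (by omega), coneLE f n₁ n₂⟩⟩
  have : P.ContainsZero := ⟨⟨(quotient _ _).obj 0, Functor.map_isZero _ (isZero_zero _), 0, (z 0).1⟩⟩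
  have : B.ContainsZero := ⟨⟨(quotient _ _).obj 0, Functor.map_isZero _ (isZero_zero _), 0, 0, (z 0).2, (z 0).1⟩⟩
  have : P.IsStableUnderShift ℤ := ⟨fun n => ⟨fun K hK => by
    obtain ⟨(K : CochainComplex V ℤ), rfl⟩ := K.quotient_obj_surjective
    obtain ⟨q, hq⟩ := hK
    have : CochainComplex.IsStrictlyLE K q := hq
    rw [ObjectProperty.prop_shift_iff, sh]
    exact ⟨_, shLE K q n⟩⟩⟩
  have : B.IsStableUnderShift ℤ := ⟨fun n => ⟨fun K hK => by
    obtain ⟨(K : CochainComplex V ℤ), rfl⟩ := K.quotient_obj_surjective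
    obtain ⟨a, q, ha, hq⟩ := hK
    have : CochainComplex.IsStrictlyGE K a := ha
    have : CochainComplex.IsStrictlyLE K q := hq
    rw [ObjectProperty.prop_shift_iff, sh]
    exact ⟨_, _, shGE K a n, shLE K q n⟩⟩⟩
  exact ⟨{ toIsTriangulatedClosed₂ := .of_isTriangulatedClosed₃ (P := P) },
    { toIsTriangulatedClosed₂ := .of_isTriangulatedClosed₃ (P := B) }⟩

end Groth.Agent.H5KMinus
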