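import Mathlib
universe v u
namespace Groth.Agent.H5Karoubi
open CategoryTheory Limits Pretriangulated

theorem coprod_case {D : Type u} [Category.{v} D] [Preadditive D] [HasZeroObject D] [HasShift D ℤ]
    [∀ n : ℤ, (shiftFunctor D n).Additive] [Pretriangulated D] [HasColimitsOfShape (Discrete ℕ) D] :
    IsIdempotentComplete D := by
  refine ⟨fun X e he => ?_⟩
  let ι' : ℕ → (X ⟶ ∐ fun _ : ℕ => X) := Sigma.ι (fun _ : ℕ => X)
  let a : (∐ fun _ : ℕ => X) ⟶ ∐ fun _ : ℕ => X := Sigma.desc fun n => ι' n - e ≫ ι' (n + 1)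
  -- a is a split monomorphism
  let c : ℕ → (X ⟶ ∐ fun _ : ℕ => X) := Nat.rec 0 fun n z => z - e ≫ ι' n
  let g : ℕ → (X ⟶ ∐ fun _ : ℕ => X) := fun n => (ι' n - e ≫ ι' n) + e ≫ c n
  have hr : a ≫ Sigma.desc g = 𝟙 _ := by
    refine Sigma.hom_ext _ _ fun n => ?_
    have e1 : ∀ {T : D} (f : X ⟶ T), e ≫ e ≫ f = e ≫ f := fun f => by rw [← Category.assoc, he]
    rw [Sigma.ι_desc_assoc, Preadditive.sub_comp, Category.assoc, Category.comp_id]
    simp only [ι', Sigma.ι_desc, g, c, Preadditive.comp_add, Preadditive.comp_sub, e1]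
    abel
  haveI : Mono a := SplitMono.mono ⟨_, hr⟩
  obtain ⟨Y, p, δ, hT⟩ := distinguished_cocone_triangle a
  haveI : Epi p := (Triangle.mk a p δ).epi₂ hT ((Triangle.mk a p δ).mor₃_eq_zero_of_mono₁ hT ‹Mono a›)
  have hap : a ≫ p = 0 := comp_distTriang_mor_zero₁₂ _ hT
  have hrel : ∀ n, ι' n ≫ p = e ≫ ι' (n + 1) ≫ p := fun n => by
    have h := congrArg (fun z => ι' n ≫ z) hap
    simp only [a, ι', Sigma.ι_desc_assoc, Preadditive.sub_comp, Category.assoc, comp_zero, sub_eq_zero] at h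
    exact h
  have hfix : ∀ n, e ≫ ι' n ≫ p = ι' n ≫ p := fun n => by
    rw [hrel n, ← Category.assoc e e, he]
  have hconst : ∀ n, ι' n ≫ p = ι' 0 ≫ p := by
    intro n
    induction n with
    | zero => rfl
    | succ n ih => rw [← ih, hrel n, hfix]
  obtain ⟨s, hs⟩ : ∃ s : Y ⟶ X, Sigma.desc (fun _ : ℕ => e) = p ≫ s :=
    Triangle.yoneda_exact₂ _ hT (Sigma.desc fun _ : ℕ => e) (by
      refine Sigma.hom_ext _ _ fun n => ?_
      change Sigma.ι (fun _ : ℕ => X) n ≫ a ≫ Sigma.desc (fun _ : ℕ => e) = _ ≫ 0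
      simp only [a, ι', Sigma.ι_desc_assoc, Preadditive.sub_comp, Category.assoc, Sigma.ι_desc, he, comp_zero, sub_self])
  refine ⟨Y, s, ι' 0 ≫ p, ?_, ?_⟩
  · rw [← cancel_epi p]
    refine Sigma.hom_ext _ _ fun n => ?_
    rw [← Category.assoc p, ← hs, Sigma.ι_desc_assoc, Category.comp_id]
    exact (hfix 0).trans (hconst n).symm
  · rw [Category.assoc, ← hs]
    exact Sigma.ι_desc _ _

theorem main {D : Type u} [Category.{v} D] [Preadditive D] [HasZeroObject D] [HasShift D ℤ]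
    [∀ n : ℤ, (shiftFunctor D n).Additive] [Pretriangulated D]
    (h : HasColimitsOfShape (Discrete ℕ) D ∨ HasLimitsOfShape (Discrete ℕ) D) : IsIdempotentComplete D := by
  rcases h with h | h
  · exact coprod_case
  · rw [← Idempotents.isIdempotentComplete_iff_opposite]
    haveI : HasColimitsOfShape (Discrete ℕ) Dᵒᵖ :=
      haveI : HasLimitsOfShape (Discrete ℕ)ᵒᵖ D := hasLimitsOfShape_of_equivalence (Discrete.opposite ℕ).symm
      hasColimitsOfShape_op_of_hasLimitsOfShape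
    open Pretriangulated.Opposite in exact coprod_case

end Groth.Agent.H5Karoubi
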