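import Mathlib

open CategoryTheory CategoryTheory.Limits CategoryTheory.Pretriangulated

namespace Groth.Agent.H5Sat

universe v u v' u'

theorem isZero_map_equiv {A : Type u} [Category.{v} A] {B : Type u'} [Category.{v'} B] (F : A ⥤ B)
    [F.IsEquivalence] {Z : A} (h : IsZero Z) : IsZero (F.obj Z) := by
  have hf := Functor.FullyFaithful.ofFullyFaithful F
  refine ⟨fun W => ⟨⟨⟨F.map (h.to_ (F.objPreimage W)) ≫ (F.objObjPreimageIso W).hom⟩, fun g => ?_⟩⟩,
    fun W => ⟨⟨⟨(F.objObjPreimageIso W).inv ≫ F.map (h.from_ (F.objPreimage W))⟩, fun g => ?_⟩⟩⟩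
  · rw [← cancel_mono (F.objObjPreimageIso W).inv]
    simp only [Category.assoc, Iso.hom_inv_id, Category.comp_id]
    exact hf.homEquiv.symm.injective (h.eq_of_src _ _)
  · rw [← cancel_epi (F.objObjPreimageIso W).hom]
    simp only [Iso.hom_inv_id_assoc]
    exact hf.homEquiv.symm.injective (h.eq_of_tgt _ _)

theorem sat {D : Type u} [Category.{v} D] [Preadditive D] [HasZeroObject D] [HasShift D ℤ]
    [∀ n : ℤ, (shiftFunctor D n).Additive] [Pretriangulated D] [IsTriangulated D]
    (S : MorphismProperty D) [S.HasLeftCalculusOfFractions] [S.IsCompatibleWithTriangulation]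
    {E : Type u'} [Category.{v'} E] (Q : D ⥤ E) [Q.IsLocalization S] {X Y : D} (f : X ⟶ Y) :
    ObjectProperty.trW (fun Z : D => IsZero (Q.obj Z)) f ↔ IsIso (Q.map f) := by
  let e := Localization.compUniqFunctor S.Q Q S
  have hz : ∀ Z : D, IsZero (Q.obj Z) ↔ IsZero (S.Q.obj Z) := fun Z => by
    constructor
    · intro h
      have := h.of_iso ((Localization.compUniqFunctor S.Q Q S).app Z)
      exact (isZero_map_equiv (Localization.uniq S.Q Q S).inverse this).of_iso ((Localization.uniq S.Q Q S).unitIso.app _)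
    · intro h
      exact (isZero_map_equiv (Localization.uniq S.Q Q S).functor h).of_iso (e.app Z).symm
  have hi : IsIso (Q.map f) ↔ IsIso (S.Q.map f) := by
    rw [← NatIso.isIso_map_iff e f]
    exact isIso_iff_of_reflects_iso (S.Q.map f) (Localization.uniq S.Q Q S).functor
  rw [hi]
  constructor
  · rintro ⟨Z, g, h, hT, hZ⟩
    exact (Triangle.isZero₃_iff_isIso₁ _ (S.Q.map_distinguished _ hT)).1 ((hz Z).1 hZ)
  · intro hiso
    obtain ⟨Z, g, h, hT⟩ := distinguished_cocone_triangle f
    exact ⟨Z, g, h, hT, (hz Z).2 ((Triangle.isZero₃_iff_isIso₁ _ (S.Q.map_distinguished _ hT)).2 hiso)⟩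

end Groth.Agent.H5Sat
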