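import Mathlib
import Groth.Agent.Lib.H5Sat

open CategoryTheory CategoryTheory.Limits CategoryTheory.Pretriangulated

namespace Groth.Agent.H5LocZero

universe v u v' u'

theorem loc_zero {D : Type u} [Category.{v} D] [Preadditive D] [HasZeroObject D] [HasShift D ℤ]
    [∀ n : ℤ, (shiftFunctor D n).Additive] [Pretriangulated D]
    (S : MorphismProperty D) [S.HasLeftCalculusOfFractions] [S.HasRightCalculusOfFractions]
    [S.IsCompatibleWithTriangulation]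
    {E : Type u'} [Category.{v'} E] (Q : D ⥤ E) [Q.IsLocalization S] (Z : D) :
    (IsZero (Q.obj Z) ↔ ∃ Z' : D, S (0 : Z ⟶ Z')) ∧
    (IsZero (Q.obj Z) ↔ ∃ Z' : D, S (0 : Z' ⟶ Z)) ∧
    (IsZero (Q.obj Z) ↔ ∃ (Z' X Y : D) (f : X ⟶ Y) (g : Y ⟶ Z ⊞ Z') (h : Z ⊞ Z' ⟶ (shiftFunctor D (1 : ℤ)).obj X),
      Triangle.mk f g h ∈ distinguishedTriangles ∧ S f) := by
  have hz : IsZero (Q.obj Z) ↔ IsZero (S.Q.obj Z) := by
    refine ⟨fun h => ?_, fun h => ?_⟩
    · exact (Groth.Agent.H5Sat.isZero_map_equiv (Localization.uniq S.Q Q S).inverse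
        (h.of_iso ((Localization.compUniqFunctor S.Q Q S).app Z))).of_iso ((Localization.uniq S.Q Q S).unitIso.app _)
    · exact (Groth.Agent.H5Sat.isZero_map_equiv (Localization.uniq S.Q Q S).functor h).of_iso
        ((Localization.compUniqFunctor S.Q Q S).app Z).symm
  have a1 : (∃ Z' : D, S (0 : Z ⟶ Z')) → IsZero (S.Q.obj Z) := by
    rintro ⟨Z', h⟩
    have := Localization.inverts S.Q S _ h
    rw [IsZero.iff_id_eq_zero, ← cancel_mono (S.Q.map (0 : Z ⟶ Z'))]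
    simp
  have a2 : (∃ Z' : D, S (0 : Z' ⟶ Z)) → IsZero (S.Q.obj Z) := by
    rintro ⟨Z', h⟩
    have := Localization.inverts S.Q S _ h
    rw [IsZero.iff_id_eq_zero, ← cancel_epi (S.Q.map (0 : Z' ⟶ Z))]
    simp
  have b1 : IsZero (S.Q.obj Z) → ∃ Z' : D, S (0 : Z ⟶ Z') := fun h => by
    obtain ⟨Z', s, hs, e⟩ := (MorphismProperty.map_eq_iff_postcomp S.Q S (𝟙 Z) 0).1 (h.eq_of_src _ _)
    exact ⟨Z', by simpa [show s = 0 by simpa using e] using hs⟩
  have b2 : IsZero (S.Q.obj Z) → ∃ Z' : D, S (0 : Z' ⟶ Z) := fun h => by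
    obtain ⟨Z', s, hs, e⟩ := (MorphismProperty.map_eq_iff_precomp S.Q S (𝟙 Z) 0).1 (h.eq_of_src _ _)
    exact ⟨Z', by simpa [show s = 0 by simpa using e] using hs⟩
  refine ⟨⟨fun h => b1 (hz.1 h), fun h => hz.2 (a1 h)⟩, ⟨fun h => b2 (hz.1 h), fun h => hz.2 (a2 h)⟩, fun h => ?_, ?_⟩
  · obtain ⟨Z', hs⟩ := b2 (hz.1 h)
    obtain ⟨W, g, w, hT⟩ := distinguished_cocone_triangle (0 : Z' ⟶ Z)
    obtain ⟨e, -, -⟩ := exists_iso_binaryBiproduct_of_distTriang _ (rot_of_distTriang _ hT)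
      (by change -((shiftFunctor D (1 : ℤ)).map (0 : Z' ⟶ Z)) = 0; simp)
    let e' : W ≅ Z ⊞ (Z'⟦(1 : ℤ)⟧) := e
    refine ⟨_, Z', Z, 0, g ≫ e'.hom, e'.inv ≫ w, ?_, hs⟩
    exact isomorphic_distinguished _ hT _
      (Triangle.isoMk _ _ (Iso.refl _) (Iso.refl _) e'.symm (by erw [Category.comp_id, Category.id_comp]; rfl)
        (by erw [Category.assoc, e'.hom_inv_id, Category.comp_id, Category.id_comp]; rfl)
        (by erw [CategoryTheory.Functor.map_id, Category.comp_id]; rfl))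
  · rintro ⟨Z', X, Y, f, g, h, hT, hf⟩
    have := Localization.inverts S.Q S f hf
    have h0 : IsZero (S.Q.obj (Z ⊞ Z')) :=
      (Triangle.isZero₃_iff_isIso₁ _ (S.Q.map_distinguished _ hT)).2 this
    refine hz.2 ?_
    rw [IsZero.iff_id_eq_zero, ← S.Q.map_id, ← biprod.inl_fst (X := Z) (Y := Z'), S.Q.map_comp,
      h0.eq_of_src (S.Q.map biprod.fst) 0, comp_zero]

end Groth.Agent.H5LocZero
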