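import Mathlib
import Groth.Agent.Lib.H5LocZero

open CategoryTheory CategoryTheory.Limits CategoryTheory.Pretriangulated

namespace Groth.Agent.H5KerQ

universe v u v' u'

theorem kerQ {D : Type u} [Category.{v} D] [Preadditive D] [HasZeroObject D] [HasShift D ℤ]
    [∀ n : ℤ, (shiftFunctor D n).Additive] [Pretriangulated D] [IsTriangulated D]
    (B : ObjectProperty D) [B.IsTriangulated]
    {E : Type u'} [Category.{v'} E] (Q : D ⥤ E) [Q.IsLocalization B.trW] (Z : D) :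
    IsZero (Q.obj Z) ↔ ∃ (Z' Y : D), B Y ∧ Nonempty (Z ⊞ Z' ≅ Y) := by
  obtain ⟨h1, -, h3⟩ := Groth.Agent.H5LocZero.loc_zero B.trW Q Z
  constructor
  · intro h
    obtain ⟨Z', X, Y, f, g, k, hT, W, g', k', hT', hW⟩ := h3.1 h
    exact ⟨Z', W, hW, ⟨Triangle.π₃.mapIso (isoTriangleOfIso₁₂ _ _ hT hT' (Iso.refl _) (Iso.refl _)
      (by erw [Category.comp_id, Category.id_comp]; rfl))⟩⟩
  · rintro ⟨Z', W, hW, ⟨e⟩⟩
    refine h3.2 ?_
    obtain ⟨X, f, k, hT⟩ := distinguished_cocone_triangle₂ (0 : W ⟶ W⟦(1 : ℤ)⟧)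
    refine ⟨Z', _, _, f, k ≫ e.inv, e.hom ≫ 0, ?_, ⟨W, k, 0, hT, hW⟩⟩
    exact isomorphic_distinguished _ hT _
      (Triangle.isoMk _ _ (Iso.refl _) (Iso.refl _) e
        (by erw [Category.comp_id, Category.id_comp]; rfl)
        (by erw [Category.assoc, e.inv_hom_id, Category.comp_id, Category.id_comp]; rfl)
        (by erw [CategoryTheory.Functor.map_id, Category.comp_id]; rfl))

end Groth.Agent.H5KerQ
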