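import Mathlib
import Groth.Prelude

universe v u

open CategoryTheory CategoryTheory.Limits Opposite

namespace Groth.Agent.H5LanMono

variable {C : Type u} [SmallCategory C] {C' : Type u} [SmallCategory C'] (u : C ⥤ C') [u.Faithful]

open Classical in
noncomputable def rVal (H : Cᵒᵖ ⥤ Type u) (X : C) (f : CostructuredArrow u.op (op (u.obj X)))
    (y : H.obj f.left) : Option (H.obj (op X)) :=
  if h : ∃ b : X ⟶ f.left.unop, u.map b = f.hom.unop then some (H.map h.choose.op y) else none

lemma rVal_some (H : Cᵒᵖ ⥤ Type u) (X : C) (f : CostructuredArrow u.op (op (u.obj X)))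
    (y : H.obj f.left) (b : X ⟶ f.left.unop) (hb : u.map b = f.hom.unop) :
    rVal u H X f y = some (H.map b.op y) := by
  have h : ∃ b : X ⟶ f.left.unop, u.map b = f.hom.unop := ⟨b, hb⟩
  rw [rVal, dif_pos h, show h.choose = b from u.map_injective (h.choose_spec.trans hb.symm)]

variable (hu : ∀ X : C, (Over.post (X := X) u).Full)

include hu in
lemma rVal_naturality (H : Cᵒᵖ ⥤ Type u) (X : C) {f₁ f₂ : CostructuredArrow u.op (op (u.obj X))}
    (φ : f₁ ⟶ f₂) (y : H.obj f₁.left) :
    rVal u H X f₂ (H.map φ.left y) = rVal u H X f₁ y := by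
  have w : f₂.hom.unop ≫ u.map φ.left.unop = f₁.hom.unop := congrArg (·.unop) (CostructuredArrow.w φ)
  by_cases h : ∃ b : X ⟶ f₂.left.unop, u.map b = f₂.hom.unop
  · obtain ⟨b, hb⟩ := h
    rw [rVal_some u H X f₂ _ b hb, rVal_some u H X f₁ _ (b ≫ φ.left.unop) (by rw [u.map_comp, hb, w])]
    simp
  · rw [rVal, dif_neg h, rVal, dif_neg]
    rintro ⟨b', hb'⟩
    have := hu f₁.left.unop
    obtain ⟨t, ht⟩ := (Over.post (X := f₁.left.unop) u).map_surjective
      (Over.homMk f₂.hom.unop (w.trans hb'.symm) :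
        (Over.post u).obj (Over.mk b') ⟶ (Over.post u).obj (Over.mk φ.left.unop))
    exact h ⟨t.left, congrArg (·.left) ht⟩

noncomputable def isPW (H : Cᵒᵖ ⥤ Type u) :
    (Functor.LeftExtension.mk _ (u.op.leftKanExtensionUnit H)).IsPointwiseLeftKanExtension :=
  Functor.isPointwiseLeftKanExtensionLeftKanExtensionUnit u.op H

include hu in
theorem exists_retraction (H : Cᵒᵖ ⥤ Type u) (X : C) :
    ∃ r : (u.op.lan.obj H).obj (op (u.obj X)) → Option (H.obj (op X)),
      ∀ (f : CostructuredArrow u.op (op (u.obj X))) (y : H.obj f.left),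
        r ((u.op.lan.obj H).map f.hom ((u.op.lanUnit.app H).app f.left y)) = rVal u H X f y := by
  let c : Cocone (CostructuredArrow.proj u.op (op (u.obj X)) ⋙ H) :=
    { pt := Option (H.obj (op X))
      ι :=
        { app := fun f => ↾(rVal u H X f)
          naturality := fun f₁ f₂ φ => by
            ext y
            exact rVal_naturality u hu H X φ y } }
  exact ⟨(isPW u H (op (u.obj X))).desc c, fun f y =>
    ConcreteCategory.congr_hom ((isPW u H (op (u.obj X))).fac c f) y⟩

theorem exists_rep (H : Cᵒᵖ ⥤ Type u) (X : C') (e : (u.op.lan.obj H).obj (op X)) :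
    ∃ (f : CostructuredArrow u.op (op X)) (y : H.obj f.left),
      (u.op.lan.obj H).map f.hom ((u.op.lanUnit.app H).app f.left y) = e :=
  Types.jointly_surjective_of_isColimit (isPW u H (op X)) e

include hu in
theorem main :
    (u.op.lan : (Cᵒᵖ ⥤ Type u) ⥤ (C'ᵒᵖ ⥤ Type u)).Faithful ∧
    (∀ H : Cᵒᵖ ⥤ Type u, Mono ((u.op.lanAdjunction (Type u)).unit.app H)) ∧
    ∀ (H K : Cᵒᵖ ⥤ Type u) (α : H ⟶ K),
      IsPullback ((u.op.lanAdjunction (Type u)).unit.app H) α
        (((Functor.whiskeringLeft Cᵒᵖ C'ᵒᵖ (Type u)).obj u.op).map (u.op.lan.map α))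
        ((u.op.lanAdjunction (Type u)).unit.app K) := by
  choose r hr using exists_retraction u hu
  have hr0 : ∀ (H : Cᵒᵖ ⥤ Type u) (X : C) (y : H.obj (op X)),
      r H X ((u.op.lanUnit.app H).app (op X) y) = some y := by
    intro H X y
    let f : CostructuredArrow u.op (op (u.obj X)) :=
      CostructuredArrow.mk (S := u.op) (Y := op X) (𝟙 (op (u.obj X)))
    have := hr H X f y
    rw [rVal_some u H X f y (𝟙 X) (by simp [f])] at this
    simpa [f] using this
  have hinj : ∀ (H : Cᵒᵖ ⥤ Type u) (V : Cᵒᵖ), Function.Injective ((u.op.lanUnit.app H).app V) := by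
    intro H V a b hab
    have := congrArg (r H V.unop) hab
    exact Option.some_injective _ ((hr0 H V.unop a).symm.trans (this.trans (hr0 H V.unop b)))
  have hmono : ∀ H : Cᵒᵖ ⥤ Type u, Mono ((u.op.lanAdjunction (Type u)).unit.app H) := by
    intro H
    rw [Functor.lanAdjunction_unit]
    have : ∀ V, Mono ((u.op.lanUnit.app H).app V) := fun V => (mono_iff_injective _).2 (hinj H V)
    exact NatTrans.mono_of_mono_app _
  refine ⟨(u.op.lanAdjunction (Type u)).faithful_L_of_mono_unit_app, hmono, fun H K α => ?_⟩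
  rw [Functor.lanAdjunction_unit]
  have w := (u.op.lanUnit.naturality α).symm
  refine ⟨⟨w⟩, ⟨evaluationJointlyReflectsLimits _ fun V =>
    (isLimitMapConePullbackConeEquiv _ _).symm (IsPullback.isLimit ?_)⟩⟩
  rw [Types.isPullback_iff]
  refine ⟨congr_app w V, fun a b hab => hinj H V hab.1, fun e k hek => ?_⟩
  obtain ⟨X⟩ := V
  obtain ⟨f, y, rfl⟩ := exists_rep u H (u.obj X) e
  have h1 : (u.op.lan.map α).app (op (u.obj X)) ((u.op.lan.obj H).map f.hom ((u.op.lanUnit.app H).app f.left y))
      = (u.op.lan.obj K).map f.hom ((u.op.lanUnit.app K).app f.left (α.app f.left y)) := by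
    rw [NatTrans.naturality_apply]
    exact congrArg _ (ConcreteCategory.congr_hom (congr_app (u.op.lanUnit.naturality α) f.left) y).symm
  have h2 : rVal u K X f (α.app f.left y) = some k := by
    rw [← hr K X f, ← h1]
    exact (congrArg (r K X) hek).trans (hr0 K X k)
  by_cases h : ∃ b : X ⟶ f.left.unop, u.map b = f.hom.unop
  · obtain ⟨b, hb⟩ := h
    rw [rVal_some u K X f _ b hb] at h2
    refine ⟨H.map b.op y, ?_, ?_⟩
    · refine (NatTrans.naturality_apply (u.op.lanUnit.app H) b.op y).trans ?_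
      change (u.op.lan.obj H).map (u.map b).op _ = _
      rw [hb]
      rfl
    · exact (NatTrans.naturality_apply α b.op y).trans (Option.some_injective _ h2)
  · rw [rVal, dif_neg h] at h2
    cases h2

end Groth.Agent.H5LanMono
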