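import Groth.Agent.Lib.H5Compare

universe u

namespace Groth.Agent.H5Leray
open CategoryTheory Limits Opposite Abelian
open Groth.Agent Groth.Agent.H5Cech

variable {C : Type u} [SmallCategory C] [HasPullbacks C] {J : GrothendieckTopology C} {U : C} {ι : Type u} (Y : ι → Over U)

/-- restriction of a section to the members -/
noncomputable def σ (F : Sheaf J AddCommGrpCat.{u}) : F.obj.obj (op U) ⟶ (cplx Y F.obj).X 0 :=
  AddCommGrpCat.ofHom (AddMonoidHom.mk' (fun s => H5Cech.mk Y F.obj fun a => F.obj.map (W Y a).hom.op s)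
    (fun s t => coord_ext Y F.obj fun a => by rw [coord_mk]; erw [map_add, map_add, coord_mk, coord_mk]))

lemma coord_σ (F : Sheaf J AddCommGrpCat.{u}) (s : F.obj.obj (op U)) (a : Fin 1 → ι) :
    coord Y F.obj a (σ Y F s) = F.obj.map (W Y a).hom.op s := coord_mk Y F.obj _ a

lemma σ_d (F : Sheaf J AddCommGrpCat.{u}) : σ Y F ≫ (cplx Y F.obj).d 0 1 = 0 := by
  ext s
  refine coord_ext Y F.obj fun a => ?_
  change coord Y F.obj a ((cplx Y F.obj).d 0 1 (σ Y F s)) = coord Y F.obj a 0
  rw [coord_d, map_zero, Fin.sum_univ_two]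
  have e : ∀ j : Fin 2, F.obj.map (face Y a j).op (coord Y F.obj (a ∘ j.succAbove) (σ Y F s)) =
      F.obj.map (W Y a).hom.op s := fun j => by
    rw [coord_σ, ← ConcreteCategory.comp_apply, ← Functor.map_comp, ← op_comp]
    exact congrArg (fun l : (W Y a).left ⟶ U => F.obj.map l.op s)
      (Over.w (Pi.lift (f := Y ∘ (a ∘ j.succAbove)) (fun k => Pi.π (Y ∘ a) (j.succAbove k))))
  rw [e 0, e 1]
  simp

lemma σ_nat {F G : Sheaf J AddCommGrpCat.{u}} (g : F ⟶ G) :
    g.hom.app (op U) ≫ σ Y G = σ Y F ≫ ((ΦC Y).map g.hom).f 0 := by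
  ext s
  refine coord_ext Y G.obj fun a => ?_
  change coord Y G.obj a (σ Y G (g.hom.app (op U) s)) = coord Y G.obj a (((ΦC Y).map g.hom).f 0 (σ Y F s))
  erw [coord_map]
  rw [coord_σ, coord_σ]
  exact (NatTrans.naturality_apply g.hom (W Y a).hom.op s).symm

/-- diagonal -/
noncomputable def diag (i : ι) : (Y i).left ⟶ (W Y (fun _ : Fin 1 => i)).left :=
  lft Y (fun _ : Fin 1 => i) (Y i).hom (fun _ => 𝟙 _) (fun _ => Category.id_comp _)

variable (hY : Sieve.ofArrows (fun i => (Y i).left) (fun i => (Y i).hom) ∈ J U)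

include hY in
lemma σ_injective (F : Sheaf J AddCommGrpCat.{u}) : Function.Injective (σ Y F) := by
  intro s t h
  obtain ⟨w, -, hw⟩ := glue Y F hY (fun i => F.obj.map (Y i).hom.op s) (fun i j Z gi gj hij => by
    rw [← ConcreteCategory.comp_apply, ← ConcreteCategory.comp_apply, ← Functor.map_comp, ← Functor.map_comp,
      ← op_comp, ← op_comp, hij])
  refine (hw s fun i => rfl).trans (hw t fun i => ?_).symm
  have h1 := congrArg (fun c => F.obj.map (diag Y i).op (coord Y F.obj (fun _ : Fin 1 => i) c)) h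
  simp only [coord_σ, ← ConcreteCategory.comp_apply, ← Functor.map_comp, ← op_comp] at h1
  have e : diag Y i ≫ (W Y (fun _ : Fin 1 => i)).hom = (Y i).hom := by
    rw [← pr_hom Y (fun _ : Fin 1 => i) 0, ← Category.assoc, diag, lft_pr, Category.id_comp]
  rw [e] at h1
  exact h1.symm

include hY in
lemma σ_exact (F : Sheaf J AddCommGrpCat.{u}) (c : (cplx Y F.obj).X 0) (hc : (cplx Y F.obj).d 0 1 c = 0) :
    ∃ s, σ Y F s = c := by
  let x : ∀ i, F.obj.obj (op (Y i).left) := fun i => F.obj.map (diag Y i).op (coord Y _ (fun _ : Fin 1 => i) c)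
  have ev : ∀ {Z : C} (k : ι) (gk : Z ⟶ (Y k).left) (q : Smp Y 0 Z), q.pt 0 = ⟨k, gk⟩ →
      F.obj.map gk.op (x k) = evS Y F.obj c q := by
    intro Z k gk q hq
    change F.obj.map gk.op (F.obj.map _ _) = F.obj.map _ _
    rw [← ConcreteCategory.comp_apply, ← Functor.map_comp, ← op_comp]
    refine evS_congr Y _ c (funext fun z => by fin_cases z; exact (congrArg Sigma.fst hq).symm) _ _ fun z => ?_
    rw [Category.assoc, diag, lft_pr, Category.comp_id, Smp.cls, lft_pr]
    fin_cases z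
    exact (congr_arg_heq Sigma.snd hq).symm
  have hx : ∀ i j (Z : C) (gi : Z ⟶ (Y i).left) (gj : Z ⟶ (Y j).left), gi ≫ (Y i).hom = gj ≫ (Y j).hom →
      F.obj.map gi.op (x i) = F.obj.map gj.op (x j) := by
    intro i j Z gi gj hij
    let s₂ : Smp Y 1 Z :=
      { g := gi ≫ (Y i).hom
        pt := ![⟨i, gi⟩, ⟨j, gj⟩]
        w := fun k => by fin_cases k <;> simp [hij] }
    have h0 := evS_d Y F.obj c s₂
    rw [hc, Fin.sum_univ_two] at h0
    rw [show evS Y F.obj (0 : (cplx Y F.obj).X 1) s₂ = 0 by simp [evS]] at h0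
    norm_num at h0
    rw [← sub_eq_add_neg, eq_comm, sub_eq_zero] at h0
    rw [ev i gi (s₂.δ 1) rfl, ev j gj (s₂.δ 0) rfl, h0]
  obtain ⟨s, hs, -⟩ := glue Y F hY x hx
  refine ⟨s, coord_ext Y F.obj fun a => ?_⟩
  rw [coord_σ, ← pr_hom Y a 0, op_comp, Functor.map_comp, ConcreteCategory.comp_apply, hs (a 0)]
  refine (ev (a 0) (pr Y a 0) (univS Y a) rfl).trans ?_
  exact evS_univ Y F.obj c a

/-- sections in Cech degree zero -/
noncomputable def β (F : Sheaf J AddCommGrpCat.{u}) : F.obj.obj (op U) ⟶ CohCx.cechH F.obj Y 0 :=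
  (cplx Y F.obj).liftCycles (σ Y F) 1 (by simp) (σ_d Y F) ≫ (cplx Y F.obj).homologyπ 0

lemma β_nat {F G : Sheaf J AddCommGrpCat.{u}} (g : F ⟶ G) :
    g.hom.app (op U) ≫ β Y G = β Y F ≫ HomologicalComplex.homologyMap ((ΦC Y).map g.hom) 0 := by
  rw [β, β, Category.assoc]
  erw [HomologicalComplex.homologyπ_naturality]
  rw [← Category.assoc, ← Category.assoc]
  congr 1
  erw [HomologicalComplex.liftCycles_comp_cyclesMap]
  rw [← cancel_mono ((cplx Y G.obj).iCycles 0), Category.assoc]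
  erw [HomologicalComplex.liftCycles_i, HomologicalComplex.liftCycles_i]
  exact σ_nat Y g

include hY in
lemma β_bijective (F : Sheaf J AddCommGrpCat.{u}) : Function.Bijective (β Y F) := by
  have hk : Function.Bijective ((cplx Y F.obj).liftCycles (σ Y F) 1 (by simp) (σ_d Y F)) := by
    have hi : Function.Injective ((cplx Y F.obj).iCycles 0) := (AddCommGrpCat.mono_iff_injective _).1 inferInstance
    have e : ∀ s, (cplx Y F.obj).iCycles 0 ((cplx Y F.obj).liftCycles (σ Y F) 1 (by simp) (σ_d Y F) s) = σ Y F s :=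
      fun s => by rw [← ConcreteCategory.comp_apply, HomologicalComplex.liftCycles_i]
    refine ⟨fun s t h => σ_injective Y hY F (by rw [← e s, ← e t, h]), fun z => ?_⟩
    obtain ⟨s, hs⟩ := σ_exact Y hY F ((cplx Y F.obj).iCycles 0 z)
      (by rw [← ConcreteCategory.comp_apply, HomologicalComplex.iCycles_d]; rfl)
    exact ⟨s, hi (by rw [e, hs])⟩
  exact (CategoryTheory.ConcreteCategory.bijective_of_isIso ((cplx Y F.obj).homologyπ 0)).comp hk

variable (J) in
/-- acyclicity on the fibre products -/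
def Good (F : Sheaf J AddCommGrpCat.{u}) : Prop :=
  ∀ (p : ℕ) (a : Fin (p + 1) → ι) (q : ℕ), Subsingleton (CohSite.HU F (q + 1) (W Y a).left)

include hY in
/-- Leray's comparison for an acyclic covering -/
theorem cech_eq : ∀ (p : ℕ) (F : Sheaf J AddCommGrpCat.{u}), Good J Y F →
    Nonempty (CohCx.cechH F.obj Y p ≃+ CohSite.HU F p U) := by
  intro p
  induction p with
  | zero =>
    intro F _
    exact ⟨((AddEquiv.ofBijective (β Y F).hom (β_bijective Y hY F)).symm.trans (H5Compare.eqvAdd U F).symm).trans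
      Ext.addEquiv₀.symm⟩
  | succ p ih =>
    intro F hF
    let S := H5SiteCoh.injSeq F
    have hS := H5SiteCoh.injSeq_shortExact F
    have hW : ∀ (n : ℕ) (a : Fin (n + 1) → ι),
        Function.Surjective (S.g.hom.app (op (W Y a).left)) := fun n a =>
      (H5SiteCoh.surj_fU S.g).1 (H5SiteCoh.acyc_injective_middle S hS (fun q => hF n a q) inferInstance).2
    have hC := cplx_shortExact Y S hS hW
    have hI : ∀ q, IsZero (CohCx.cechH S.X₂.obj Y (q + 1)) := fun q => isZero_cechH_injective Y S.X₂ q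
    cases p with
    | zero =>
      let d : CohCx.cechH S.X₃.obj Y 0 →+ CohCx.cechH S.X₁.obj Y 1 := (hC.δ 0 1 (by simp)).hom
      let ψ : (H5SiteCoh.fU J U ⟶ S.X₃) →+ CohCx.cechH S.X₁.obj Y 1 :=
        (d.comp (β Y S.X₃).hom).comp (H5Compare.eqvAdd U S.X₃).toAddMonoidHom
      have hd : Function.Surjective d := fun z =>
        (ShortComplex.ab_exact_iff _).1 (hC.homology_exact₁ 0 1 (by simp)) z
          ((AddCommGrpCat.subsingleton_of_isZero (hI 0)).elim _ _)
      have hψ : Function.Surjective ψ :=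
        (hd.comp (β_bijective Y hY S.X₃).2).comp (H5Compare.eqvAdd U S.X₃).surjective
      haveI : Subsingleton (Ext.{u} (H5SiteCoh.fU J U) S.X₂ 1) := H5SiteCoh.subsingleton_ext_injective _ _ 0
      have hker : ψ.ker = (H5Compare.δ₁ (H5SiteCoh.fU J U) hS).ker := by
        ext φ
        rw [AddMonoidHom.mem_ker, AddMonoidHom.mem_ker, H5Compare.δ₁_eq_zero_iff]
        constructor
        · intro h
          obtain ⟨y, hy⟩ := (ShortComplex.ab_exact_iff _).1 (hC.homology_exact₃ 0 1 (by simp)) _ h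
          obtain ⟨t, rfl⟩ := (β_bijective Y hY S.X₂).2 y
          refine ⟨(H5Compare.eqvAdd U S.X₂).symm t, (H5Compare.eqvAdd U S.X₃).injective ((β_bijective Y hY S.X₃).1 ?_)⟩
          rw [H5Compare.eqvAdd_comp, AddEquiv.apply_symm_apply]
          exact (ConcreteCategory.congr_hom (β_nat Y S.g) t).trans hy
        · rintro ⟨χ, rfl⟩
          change d (β Y S.X₃ (H5Compare.eqvAdd U S.X₃ (χ ≫ S.g))) = 0
          rw [H5Compare.eqvAdd_comp]
          refine (congrArg d (ConcreteCategory.congr_hom (β_nat Y S.g) (H5Compare.eqvAdd U S.X₂ χ))).trans ?_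
          exact ConcreteCategory.congr_hom (hC.comp_δ 0 1 (by simp)) _
      exact ⟨((QuotientAddGroup.quotientKerEquivOfSurjective ψ hψ).symm.trans
        (QuotientAddGroup.quotientAddEquivOfEq hker)).trans
          (QuotientAddGroup.quotientKerEquivOfSurjective (H5Compare.δ₁ (H5SiteCoh.fU J U) hS)
            (H5Compare.δ₁_surjective _ hS))⟩
    | succ m =>
      obtain ⟨e⟩ := ih S.X₃ (fun n a q => H5SiteCoh.acyc_quotient (fun q => hF n a q) q)
      haveI : Subsingleton (Ext.{u} (H5SiteCoh.fU J U) S.X₂ (m + 1)) := H5SiteCoh.subsingleton_ext_injective _ _ _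
      haveI : Subsingleton (Ext.{u} (H5SiteCoh.fU J U) S.X₂ (m + 2)) := H5SiteCoh.subsingleton_ext_injective _ _ _
      exact ⟨((hC.δIso (m + 1) (m + 2) (by simp) (hI m) (hI (m + 1))).addCommGroupIsoToAddEquiv.symm.trans e).trans
        (AddEquiv.ofBijective _ (H5Compare.shift_bijective (H5SiteCoh.fU J U) hS m))⟩

end Groth.Agent.H5Leray
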