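import Groth.Agent.Lib.H5Cech
import Groth.Agent.Lib.H5Compare
import Groth.Agent.Lib.H5KInjApps
import Groth.Agent.Lib.H5GrpSheaf
import Groth.Prelude.Def_CohCx
import Groth.Prelude.Def_CohTop

universe w u

namespace Groth.Agent.H5NegVan
open CategoryTheory Limits Opposite Abelian
open Groth.Agent

section site
variable {C : Type u} [SmallCategory C] {J : GrothendieckTopology C}

/-- cocycles in degree zero -/
def Z0 (I : CochainComplex (Sheaf J AddCommGrpCat.{u}) ℤ) (U : C) : AddSubgroup ((I.X 0).obj.obj (op U)) :=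
  ((I.d 0 1).hom.app (op U)).hom.ker

/-- coboundary in degree zero -/
def Bd (I : CochainComplex (Sheaf J AddCommGrpCat.{u}) ℤ) (U : C) (x : (I.X 0).obj.obj (op U)) : Prop :=
  ∃ y, (I.d (-1) 0).hom.app (op U) y = x

lemma mem_Z0 (I : CochainComplex (Sheaf J AddCommGrpCat.{u}) ℤ) (U : C) (x : (I.X 0).obj.obj (op U)) :
    x ∈ Z0 I U ↔ (I.d 0 1).hom.app (op U) x = 0 := Iff.rfl

lemma Z0_res (I : CochainComplex (Sheaf J AddCommGrpCat.{u}) ℤ) {U V : C} (a : V ⟶ U) (x : Z0 I U) :
    (I.X 0).obj.map a.op x.1 ∈ Z0 I V := by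
  rw [mem_Z0, NatTrans.naturality_apply, (mem_Z0 I U x.1).1 x.2, map_zero]

lemma eqv_symm_add (U : C) (F : Sheaf J AddCommGrpCat.{u}) (x y : F.obj.obj (op U)) :
    (H5SiteCoh.eqv U F).symm (x + y) = (H5SiteCoh.eqv U F).symm x + (H5SiteCoh.eqv U F).symm y := by
  obtain ⟨φ, rfl⟩ := (H5SiteCoh.eqv U F).surjective x
  obtain ⟨χ, rfl⟩ := (H5SiteCoh.eqv U F).surjective y
  rw [Equiv.symm_apply_apply, Equiv.symm_apply_apply, Equiv.symm_apply_eq]
  exact (map_add (H5Compare.eqvAdd U F) φ χ).symm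

/-- the chain map of a cocycle -/
noncomputable def φhom (I : CochainComplex (Sheaf J AddCommGrpCat.{u}) ℤ) (U : C) (x : Z0 I U) :
    (CochainComplex.singleFunctor _ 0).obj (H5SiteCoh.fU J U) ⟶ I :=
  HomologicalComplex.mkHomFromSingle ((H5SiteCoh.eqv U (I.X 0)).symm x.1) (fun k hk => by
    obtain rfl : (1 : ℤ) = k := by simpa using hk
    apply (H5SiteCoh.eqv U (I.X 1)).injective
    rw [H5SiteCoh.eqv_comp, Equiv.apply_symm_apply, (mem_Z0 I U x.1).1 x.2]
    exact (map_zero (H5Compare.eqvAdd U (I.X 1))).symm)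

lemma φhom_f (I : CochainComplex (Sheaf J AddCommGrpCat.{u}) ℤ) (U : C) (x : Z0 I U) :
    (φhom I U x).f 0 =
      (HomologicalComplex.singleObjXSelf (ComplexShape.up ℤ) 0 _).hom ≫ (H5SiteCoh.eqv U (I.X 0)).symm x.1 :=
  HomologicalComplex.mkHomFromSingle_f _ _

variable [HasDerivedCategory.{w} (Sheaf J AddCommGrpCat.{u})]

/-- the class of a cocycle -/
noncomputable def ψ (I : CochainComplex (Sheaf J AddCommGrpCat.{u}) ℤ) (U : C) :
    Z0 I U →+ ((DerivedCategory.singleFunctor _ 0).obj (H5SiteCoh.fU J U) ⟶ DerivedCategory.Q.obj I) :=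
  AddMonoidHom.mk' (fun x => (DerivedCategory.singleFunctorIsoCompQ _ 0).hom.app _ ≫ DerivedCategory.Q.map (φhom I U x))
    (fun x y => by
      have e : φhom I U (x + y) = φhom I U x + φhom I U y := HomologicalComplex.from_single_hom_ext (by
        rw [HomologicalComplex.add_f_apply, φhom_f, φhom_f, φhom_f, AddSubgroup.coe_add, eqv_symm_add]
        erw [Preadditive.comp_add]
        rfl)
      rw [e, Functor.map_add, Preadditive.comp_add])

lemma ψ_nat (I : CochainComplex (Sheaf J AddCommGrpCat.{u}) ℤ) {U V : C} (a : V ⟶ U) (x : Z0 I U) :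
    (DerivedCategory.singleFunctor _ 0).map (H5SiteCoh.fMap J a) ≫ ψ I U x =
      ψ I V ⟨_, Z0_res I a x⟩ := by
  change _ ≫ _ ≫ _ = _ ≫ _
  rw [← Category.assoc, (DerivedCategory.singleFunctorIsoCompQ _ 0).hom.naturality, Category.assoc, Functor.comp_map,
    ← Functor.map_comp]
  congr 2
  refine HomologicalComplex.from_single_hom_ext ?_
  rw [HomologicalComplex.comp_f, φhom_f, φhom_f]
  erw [HomologicalComplex.single_map_f_self, Category.assoc, Category.assoc, Iso.inv_hom_id_assoc]
  congr 1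
  rw [Equiv.eq_symm_apply, H5SiteCoh.eqv_fMap, Equiv.apply_symm_apply]

variable (I : CochainComplex (Sheaf J AddCommGrpCat.{u}) ℤ) [I.IsKInjective] (U : C)

lemma ψ_surjective : Function.Surjective (ψ I U) := by
  intro f
  obtain ⟨g, hg⟩ := (CochainComplex.IsKInjective.Qh_map_bijective
      ((HomotopyCategory.quotient _ _).obj _) I).surjective
      ((DerivedCategory.quotientCompQhIso _).hom.app _ ≫
        ((DerivedCategory.singleFunctorIsoCompQ _ 0).inv.app (H5SiteCoh.fU J U) ≫ f) ≫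
        (DerivedCategory.quotientCompQhIso _).inv.app I)
  obtain ⟨g, rfl⟩ := (HomotopyCategory.quotient _ _).map_surjective g
  have h1 := (DerivedCategory.quotientCompQhIso (Sheaf J AddCommGrpCat.{u})).hom.naturality g
  simp only [Functor.comp_map] at h1
  rw [hg] at h1
  simp only [Category.assoc, Iso.inv_hom_id_app, cancel_epi] at h1
  erw [Category.comp_id] at h1
  let s := (HomologicalComplex.singleObjXSelf (ComplexShape.up ℤ) 0 (H5SiteCoh.fU J U)).inv ≫ g.f 0
  have hs : H5SiteCoh.eqv U (I.X 0) s ∈ Z0 I U := by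
    rw [mem_Z0, ← H5SiteCoh.eqv_comp, show s ≫ I.d 0 1 = 0 by
      have h01 : ((CochainComplex.singleFunctor (Sheaf J AddCommGrpCat.{u}) 0).obj (H5SiteCoh.fU J U)).d 0 1 = 0 :=
        HomologicalComplex.single_obj_d _ _ _ _ _
      have hg0 : g.f 0 ≫ I.d 0 1 = 0 := by rw [g.comm 0 1, h01, zero_comp]
      exact (Category.assoc _ _ _).trans ((congrArg
        (fun z => (HomologicalComplex.singleObjXSelf (ComplexShape.up ℤ) 0 (H5SiteCoh.fU J U)).inv ≫ z) hg0).trans comp_zero)]
    exact map_zero (H5Compare.eqvAdd U (I.X 1))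
  refine ⟨⟨_, hs⟩, ?_⟩
  have e : φhom I U ⟨_, hs⟩ = g := HomologicalComplex.from_single_hom_ext (by
    rw [φhom_f, Equiv.symm_apply_apply]
    erw [Iso.hom_inv_id_assoc])
  change _ ≫ DerivedCategory.Q.map (φhom I U _) = f
  rw [e, ← h1]
  simp

lemma ψ_eq_zero_iff (x : Z0 I U) : ψ I U x = 0 ↔ Bd I U x.1 := by
  have h0 : ψ I U x = 0 ↔ Nonempty (Homotopy (φhom I U x) 0) := by
    change _ ≫ _ = 0 ↔ _
    constructor
    · intro h
      have h2 : DerivedCategory.Q.map (φhom I U x) = DerivedCategory.Q.map 0 := by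
        rw [Functor.map_zero, ← cancel_epi ((DerivedCategory.singleFunctorIsoCompQ _ 0).hom.app (H5SiteCoh.fU J U))]
        exact h.trans comp_zero.symm
      exact ⟨HomotopyCategory.homotopyOfEq _ _ (H5KApps.homotopic_of_Q_map_eq h2)⟩
    · rintro ⟨h⟩
      rw [DerivedCategory.Q_map_eq_of_homotopy _ h, Functor.map_zero, comp_zero]
  rw [h0]
  constructor
  · rintro ⟨h⟩
    refine ⟨H5SiteCoh.eqv U _ ((HomologicalComplex.singleObjXSelf (ComplexShape.up ℤ) 0 _).inv ≫ h.hom 0 (-1)), ?_⟩
    have hh := h.comm 0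
    rw [dNext_eq h.hom (show (ComplexShape.up ℤ).Rel 0 1 by simp), prevD_eq h.hom (show (ComplexShape.up ℤ).Rel (-1) 0 by simp)] at hh
    rw [show ((CochainComplex.singleFunctor (Sheaf J AddCommGrpCat.{u}) 0).obj (H5SiteCoh.fU J U)).d 0 1 = 0 from
        HomologicalComplex.single_obj_d _ _ _ _ _] at hh
    simp only [zero_comp, zero_add, HomologicalComplex.zero_f, add_zero, φhom_f] at hh
    rw [← H5SiteCoh.eqv_comp, ← Equiv.eq_symm_apply]
    exact (Category.assoc _ _ _).trans ((congrArg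
      (fun z => (HomologicalComplex.singleObjXSelf (ComplexShape.up ℤ) 0 (H5SiteCoh.fU J U)).inv ≫ z) hh.symm).trans
        (Iso.inv_hom_id_assoc _ _))
  · rintro ⟨y, hy⟩
    let hom : ∀ i j, (ComplexShape.up ℤ).Rel j i →
        (((HomologicalComplex.single _ (ComplexShape.up ℤ) 0).obj (H5SiteCoh.fU J U)).X i ⟶ I.X j) :=
      fun i j hij => if h : i = 0 then
          eqToHom (by subst h; rfl) ≫ (HomologicalComplex.singleObjXSelf (ComplexShape.up ℤ) 0 _).hom ≫
            (H5SiteCoh.eqv U (I.X (-1))).symm y ≫ eqToHom (by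
              subst h
              obtain rfl : j = -1 := by simp at hij; omega
              rfl)
        else 0
    refine ⟨(Homotopy.ofEq ?_).trans (Homotopy.nullHomotopy' hom)⟩
    refine HomologicalComplex.from_single_hom_ext ?_
    rw [Homotopy.nullHomotopicMap'_f (show (ComplexShape.up ℤ).Rel (-1) 0 by simp) (show (ComplexShape.up ℤ).Rel 0 1 by simp),
      HomologicalComplex.single_obj_d, zero_comp, zero_add, φhom_f]
    simp only [hom, dif_pos, eqToHom_refl, Category.id_comp, Category.comp_id, Category.assoc]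
    congr 1
    rw [Equiv.symm_apply_eq, H5SiteCoh.eqv_comp, Equiv.apply_symm_apply, hy]

lemma bd_of_subsingleton [Subsingleton ((DerivedCategory.singleFunctor _ 0).obj (H5SiteCoh.fU J U) ⟶ DerivedCategory.Q.obj I)]
    (x : Z0 I U) : Bd I U x.1 := (ψ_eq_zero_iff I U x).1 (Subsingleton.elim _ _)

lemma subsingleton_of_bd (h : ∀ x : Z0 I U, Bd I U x.1) :
    Subsingleton ((DerivedCategory.singleFunctor _ 0).obj (H5SiteCoh.fU J U) ⟶ DerivedCategory.Q.obj I) :=
  subsingleton_of_forall_eq 0 fun f => by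
    obtain ⟨x, rfl⟩ := ψ_surjective I U f
    exact (ψ_eq_zero_iff I U x).2 (h x)

end site

section heart
variable {A : Type*} [Category A] [Abelian A] [HasDerivedCategory.{w} A]
open DerivedCategory

/-- maps from the heart into a coconnective object are representable -/
lemma exists_repr_of_isGE (Y : DerivedCategory A) [Y.IsGE 0] :
    ∃ (S : A) (σ : (singleFunctor A 0).obj S ⟶ Y),
      ∀ M : A, Function.Bijective (fun g : M ⟶ S => (singleFunctor A 0).map g ≫ σ) := by
  haveI : ((TStructure.t.truncLE 0).obj Y).IsGE 0 := by infer_instance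
  haveI : ((TStructure.t.truncLE 0).obj Y).IsLE 0 := by infer_instance
  obtain ⟨S, ⟨e⟩⟩ := exists_iso_singleFunctor_obj_of_isGE_of_isLE ((TStructure.t.truncLE 0).obj Y) 0
  refine ⟨S, e.inv ≫ (TStructure.t.truncLEι 0).app Y, fun M => ⟨fun a b h => ?_, fun f => ?_⟩⟩
  · apply (singleFunctor A 0).map_injective
    rw [← cancel_mono e.inv]
    refine TStructure.t.to_truncLE_obj_ext ?_
    simpa using h
  · obtain ⟨g, hg⟩ := (singleFunctor A 0).map_surjective (TStructure.t.liftTruncLE f 0 ≫ e.hom)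
    exact ⟨g, by simp [hg]⟩

end heart

section top
open TopologicalSpace
variable {X Y : TopCat.{u}} (f : X ⟶ Y)

instance : PreservesFiniteLimits (CohTop.pull f) := by
  haveI : RepresentablyFlat (Opens.map f) := inferInstance
  haveI : (Opens.map f).IsContinuous (Opens.grothendieckTopology Y) (Opens.grothendieckTopology X) := inferInstance
  exact Functor.sheafPullbackConstruction.preservesFiniteLimits (Opens.map f) AddCommGrpCat.{u} _ _

instance : PreservesFiniteColimits (CohTop.pull f) :=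
  haveI : PreservesColimitsOfSize.{0, 0} (CohTop.pull f) :=
    (TopCat.Sheaf.pullbackPushforwardAdjunction AddCommGrpCat.{u} f).leftAdjoint_preservesColimits
  inferInstance

instance : (CohTop.pull f).Additive := by
  haveI : PreservesBinaryBiproducts (CohTop.pull f) := preservesBinaryBiproducts_of_preservesBinaryCoproducts _
  exact Functor.additive_of_preservesBinaryBiproducts _

instance : (TopCat.Sheaf.pullback AddCommGrpCat.{u} f).Additive := inferInstanceAs (CohTop.pull f).Additive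
instance : PreservesFiniteLimits (TopCat.Sheaf.pullback AddCommGrpCat.{u} f) :=
  inferInstanceAs (PreservesFiniteLimits (CohTop.pull f))
instance : PreservesFiniteColimits (TopCat.Sheaf.pullback AddCommGrpCat.{u} f) :=
  inferInstanceAs (PreservesFiniteColimits (CohTop.pull f))

instance : (TopCat.Sheaf.pushforward AddCommGrpCat.{u} f).Additive := inferInstanceAs (CohTop.push f).Additive

/-- direct image of a complex -/
noncomputable abbrev pushC (I : CochainComplex (CohTop.Ab X) ℤ) : CochainComplex (CohTop.Ab Y) ℤ :=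
  ((CohTop.push f).mapHomologicalComplex (ComplexShape.up ℤ)).obj I

lemma isKInjective_pushC (I : CochainComplex (CohTop.Ab X) ℤ) [h : I.IsKInjective] : (pushC f I).IsKInjective :=
  H5KApps.isKInjective_map_rightAdjoint (TopCat.Sheaf.pullbackPushforwardAdjunction AddCommGrpCat.{u} f) I h

lemma exactAt_zero (B : Set (Opens Y)) (hB : Opens.IsBasis B) (L : CochainComplex (CohTop.Ab Y) ℤ)
    (h : ∀ V ∈ B, ∀ x : Z0 L V, Bd L V x.1) : L.ExactAt 0 := by
  rw [L.exactAt_iff' (-1) 0 1 (by simp) (by simp), ShortComplex.exact_iff_epi_toCycles]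
  let S := L.sc' (-1) 0 1
  refine (TopCat.Sheaf.isLocallySurjective_iff_epi (X := Y) S.toCycles).1 ?_
  rw [TopCat.Presheaf.isLocallySurjective_iff]
  intro U s p hp
  obtain ⟨V, hV, hpV, hVU⟩ := Opens.isBasis_iff_nbhd.1 hB hp
  let x : (L.X 0).obj.obj (op V) := (L.X 0).obj.map (homOfLE hVU).op (S.iCycles.hom.app (op U) s)
  have hx : x ∈ Z0 L V := by
    refine Z0_res L (homOfLE hVU) ⟨S.iCycles.hom.app (op U) s, ?_⟩
    change (S.iCycles ≫ S.g).hom.app (op U) s = 0
    rw [S.iCycles_g]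
    rfl
  obtain ⟨y, hy⟩ := h V hV ⟨x, hx⟩
  refine ⟨V, hVU, ⟨y, ?_⟩, hpV⟩
  apply H5Cech.app_injective S.iCycles V
  change (S.toCycles ≫ S.iCycles).hom.app (op V) y = S.iCycles.hom.app (op V) (S.cycles.obj.map (homOfLE hVU).op s)
  rw [S.toCycles_i]
  erw [NatTrans.naturality_apply]
  exact hy

variable [HasDerivedCategory.{u} (CohTop.Ab X)]

set_option maxHeartbeats 1000000 in
theorem main (B : Set (Opens Y)) (hB : Opens.IsBasis B) (K : DerivedCategory (CohTop.Ab X))
    (h : ∀ V ∈ B, ∀ i : ℤ, i < 0 → Subsingleton (CohCx.HDU K i ((Opens.map f).obj V))) :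
    (∀ (V : Opens Y) (i : ℤ), i < 0 → Subsingleton (CohCx.HDU K i ((Opens.map f).obj V))) ∧
    Presheaf.IsSheaf (Opens.grothendieckTopology Y) ((Opens.map f).op ⋙ CohCx.HDUPresheaf K 0) := by
  letI := HasDerivedCategory.standard (CohTop.Ab Y)
  obtain ⟨I, hI, ⟨eI⟩⟩ := H5KApps.exists_kInj_iso H5KApps.enoughKInj_of_grothendieck K
  have eSh : ∀ i : ℤ, DerivedCategory.Q.obj (I⟦i⟧) ≅ (shiftFunctor (DerivedCategory (CohTop.Ab X)) i).obj K := fun i =>
    (DerivedCategory.Q.commShiftIso i).app I ≪≫ (shiftFunctor _ i).mapIso eI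
  let Jc := pushC f I
  haveI := isKInjective_pushC f I
  haveI : ∀ i : ℤ, (pushC f ((shiftFunctor (CochainComplex (CohTop.Ab X) ℤ) i).obj I)).IsKInjective := fun i => isKInjective_pushC f _
  have eJ : ∀ i : ℤ, pushC f ((shiftFunctor (CochainComplex (CohTop.Ab X) ℤ) i).obj I) ≅ (shiftFunctor (CochainComplex (CohTop.Ab Y) ℤ) i).obj Jc := fun i =>
    (((CohTop.push f).mapHomologicalComplex (ComplexShape.up ℤ)).commShiftIso i).app I
  -- cohomology sheaves vanish in negative degrees
  have hex : ∀ i : ℤ, i < 0 → (pushC f ((shiftFunctor (CochainComplex (CohTop.Ab X) ℤ) i).obj I)).ExactAt 0 := fun i hi =>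
    exactAt_zero B hB _ fun V hV x => by
      haveI := h V hV i hi
      haveI : Subsingleton ((DerivedCategory.singleFunctor _ 0).obj
          (H5SiteCoh.fU (Opens.grothendieckTopology X) ((Opens.map f).obj V)) ⟶ DerivedCategory.Q.obj (I⟦i⟧)) :=
        ((eSh i).homToEquiv).subsingleton
      exact bd_of_subsingleton (I⟦i⟧) ((Opens.map f).obj V) x
  haveI hGE : (DerivedCategory.Q.obj Jc).IsGE 0 := by
    rw [DerivedCategory.isGE_Q_obj_iff, CochainComplex.isGE_iff]
    intro i hi
    rw [HomologicalComplex.exactAt_iff_isZero_homology]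
    exact ((HomologicalComplex.exactAt_iff_isZero_homology _ _).1 (hex i hi)).of_iso
      (((CochainComplex.ShiftSequence.shiftIso _ i 0 i (add_zero i)).app Jc).symm ≪≫
        (HomologicalComplex.homologyFunctor _ _ 0).mapIso (eJ i).symm)
  refine ⟨fun V i hi => ?_, ?_⟩
  · let Ji : CochainComplex (CohTop.Ab Y) ℤ := pushC f ((shiftFunctor (CochainComplex (CohTop.Ab X) ℤ) i).obj I)
    haveI : DerivedCategory.IsGE (DerivedCategory.Q.obj Ji) (-i) := by
      haveI : DerivedCategory.TStructure.t.IsGE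
          ((DerivedCategory.Q ⋙ shiftFunctor (DerivedCategory (CohTop.Ab Y)) i).obj Jc) (-i) :=
        DerivedCategory.TStructure.t.isGE_shift (DerivedCategory.Q.obj Jc) 0 i (-i)
      exact DerivedCategory.TStructure.t.isGE_of_iso
        (((DerivedCategory.Q.commShiftIso i).app Jc).symm ≪≫ DerivedCategory.Q.mapIso (eJ i).symm) (-i)
    haveI := subsingleton_of_bd (I⟦i⟧) ((Opens.map f).obj V) fun x => by
      haveI : Subsingleton ((DerivedCategory.singleFunctor _ 0).obj (H5SiteCoh.fU (Opens.grothendieckTopology Y) V) ⟶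
          DerivedCategory.Q.obj (pushC f ((shiftFunctor (CochainComplex (CohTop.Ab X) ℤ) i).obj I))) :=
        subsingleton_of_forall_eq 0 fun g => DerivedCategory.TStructure.t.zero_of_isLE_of_isGE g 0 (-i) (by omega)
          inferInstance inferInstance
      exact bd_of_subsingleton (pushC f ((shiftFunctor (CochainComplex (CohTop.Ab X) ℤ) i).obj I)) V x
    exact ((eSh i).homToEquiv).symm.subsingleton
  · let e0 : DerivedCategory.Q.obj I ≅ (shiftFunctor (DerivedCategory (CohTop.Ab X)) (0 : ℤ)).obj K :=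
      eI ≪≫ ((shiftFunctorZero _ ℤ).app K).symm
    obtain ⟨S, σ, hσ⟩ := exists_repr_of_isGE (DerivedCategory.Q.obj Jc)
    let δ : ∀ V : Opens Y, ((DerivedCategory.singleFunctor _ 0).obj (H5SiteCoh.fU (Opens.grothendieckTopology Y) V) ⟶
        DerivedCategory.Q.obj Jc) →+
        ((DerivedCategory.singleFunctor _ 0).obj (H5SiteCoh.fU (Opens.grothendieckTopology X) ((Opens.map f).obj V)) ⟶
          DerivedCategory.Q.obj I) := fun V =>
      (ψ Jc V).liftOfSurjective (ψ_surjective Jc V) ⟨ψ I ((Opens.map f).obj V), fun x hx =>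
        (ψ_eq_zero_iff I ((Opens.map f).obj V) x).2 ((ψ_eq_zero_iff Jc V x).1 hx)⟩
    have hδ : ∀ V x, δ V (ψ Jc V x) = ψ I ((Opens.map f).obj V) x := fun V x =>
      AddMonoidHom.liftOfRightInverse_comp_apply _ _ _ _ x
    have hδb : ∀ V, Function.Bijective (δ V) := fun V => by
      refine ⟨(injective_iff_map_eq_zero _).2 fun g hg => ?_, fun g => ?_⟩
      · obtain ⟨x, rfl⟩ := ψ_surjective Jc V g
        rw [hδ] at hg
        exact (ψ_eq_zero_iff Jc V x).2 ((ψ_eq_zero_iff I ((Opens.map f).obj V) x).1 hg)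
      · obtain ⟨x, rfl⟩ := ψ_surjective I ((Opens.map f).obj V) g
        exact ⟨ψ Jc V x, hδ V x⟩
    let τ : ∀ V : Opens Y, S.obj.obj (op V) →+ CohCx.HDU K 0 ((Opens.map f).obj V) := fun V =>
      ((Preadditive.rightComp _ e0.hom).comp (δ V)).comp
        (((Preadditive.rightComp _ σ).comp (DerivedCategory.singleFunctor _ 0).mapAddHom).comp
          (H5Compare.eqvAdd V S).symm.toAddMonoidHom)
    have hτb : ∀ V, Function.Bijective (τ V) := fun V =>
      ((e0.homToEquiv).bijective.comp (hδb V)).comp ((hσ _).comp (H5Compare.eqvAdd V S).symm.bijective)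
    haveI : ∀ V : Opens Y, IsIso (C := AddCommGrpCat.{u}) (AddCommGrpCat.ofHom (τ V)) := fun V =>
      (ConcreteCategory.isIso_iff_bijective _).2 (hτb V)
    refine (Presheaf.isSheaf_of_iso_iff (NatIso.ofComponents
      (fun V => @asIso _ _ _ _ (AddCommGrpCat.ofHom (τ V.unop)) (this V.unop)) (fun {V W} a => ?_))).1 S.property
    ext s
    change τ W.unop (S.obj.map a s) =
      (DerivedCategory.singleFunctor _ 0).map (H5SiteCoh.fMap _ ((Opens.map f).map a.unop)) ≫ τ V.unop s
    change δ W.unop ((DerivedCategory.singleFunctor _ 0).map ((H5SiteCoh.eqv _ S).symm (S.obj.map a s)) ≫ σ) ≫ e0.hom =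
      _ ≫ δ V.unop ((DerivedCategory.singleFunctor _ 0).map ((H5SiteCoh.eqv _ S).symm s) ≫ σ) ≫ e0.hom
    rw [← Category.assoc]
    congr 1
    obtain ⟨x, hx⟩ := ψ_surjective Jc V.unop ((DerivedCategory.singleFunctor _ 0).map ((H5SiteCoh.eqv _ S).symm s) ≫ σ)
    have e : (H5SiteCoh.eqv W.unop S).symm (S.obj.map a s) = H5SiteCoh.fMap _ a.unop ≫ (H5SiteCoh.eqv V.unop S).symm s := by
      rw [Equiv.symm_apply_eq, H5SiteCoh.eqv_fMap, Equiv.apply_symm_apply]
      rfl
    rw [e, Functor.map_comp, Category.assoc, ← hx, ψ_nat, hδ, hδ]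
    exact (ψ_nat I ((Opens.map f).map a.unop) x).symm

end top

end Groth.Agent.H5NegVan
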