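import Groth.Agent.Lib.H5Leray63
import Groth.Agent.Lib.H5HomExt
import Groth.Agent.Lib.H5SiteCoh
import Groth.Agent.Lib.H5NegVan
import Mathlib.CategoryTheory.Preadditive.Yoneda.Limits

universe u
namespace Groth.Agent.H5Leray62
open CategoryTheory CategoryTheory.Limits Opposite
open Groth.Agent

variable {C D : Type u} [SmallCategory C] [SmallCategory D] (J : GrothendieckTopology C) (K : GrothendieckTopology D)
  (u : D ⥤ C) [u.IsContinuous K J]

/-- sections of a direct image -/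
noncomputable def secIso (V : D) :
    CohSite.push J K u ⋙ preadditiveCoyoneda.obj (op (H5SiteCoh.fU K V)) ≅
      preadditiveCoyoneda.obj (op (H5SiteCoh.fU J (u.obj V))) :=
  NatIso.ofComponents
    (fun F => AddEquiv.toAddCommGrpIso (AddEquiv.mk'
      (((H5SiteCoh.eqv V ((CohSite.push J K u).obj F)).trans (H5SiteCoh.eqv (u.obj V) F).symm))
      (fun x y => by
        obtain ⟨a, rfl⟩ := (H5SiteCoh.eqv V ((CohSite.push J K u).obj F)).symm.surjective x
        obtain ⟨b, rfl⟩ := (H5SiteCoh.eqv V ((CohSite.push J K u).obj F)).symm.surjective y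
        change (H5SiteCoh.eqv (u.obj V) F).symm (H5SiteCoh.eqv V _ ((H5SiteCoh.eqv V _).symm a + (H5SiteCoh.eqv V _).symm b)) =
          (H5SiteCoh.eqv (u.obj V) F).symm (H5SiteCoh.eqv V _ ((H5SiteCoh.eqv V _).symm a)) +
            (H5SiteCoh.eqv (u.obj V) F).symm (H5SiteCoh.eqv V _ ((H5SiteCoh.eqv V _).symm b))
        rw [← H5NegVan.eqv_symm_add]
        simp only [Equiv.apply_symm_apply]
        exact H5NegVan.eqv_symm_add (u.obj V) F a b)))
    (fun {F G} g => by
      ext x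
      apply (H5SiteCoh.eqv (u.obj V) G).injective
      change H5SiteCoh.eqv (u.obj V) G ((H5SiteCoh.eqv (u.obj V) G).symm
          (H5SiteCoh.eqv V _ (x ≫ (CohSite.push J K u).map g))) =
        H5SiteCoh.eqv (u.obj V) G ((H5SiteCoh.eqv (u.obj V) F).symm (H5SiteCoh.eqv V _ x) ≫ g)
      rw [Equiv.apply_symm_apply, H5SiteCoh.eqv_comp, H5SiteCoh.eqv_comp, Equiv.apply_symm_apply]
      rfl)

theorem leray [PreservesFiniteLimits (u.sheafPullback (Type u) K J)] (M : Sheaf J AddCommGrpCat.{u}) (V : D) :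
    ∃ (E : E₂CohomologicalSpectralSequence AddCommGrpCat.{u})
      (a : SpSeq.Abutment E (fun n : ℤ =>
        if 0 ≤ n then AddCommGrpCat.of (CohSite.HU M n.toNat (u.obj V)) else AddCommGrpCat.of PUnit.{u + 1})),
      (∀ n, a.IsFinite n) ∧ SpSeq.IsBounded E ∧
      ∀ p q : ℤ, Nonempty ((E.page 2 le_rfl).X (p, q) ≅
        (if 0 ≤ p ∧ 0 ≤ q then AddCommGrpCat.of (CohSite.HU ((CohSite.Rpush J K u q.toNat).obj M) p.toNat V)
         else AddCommGrpCat.of PUnit.{u + 1})) := by
  let S := preadditiveCoyoneda.obj (op (H5SiteCoh.fU K V))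
  haveI : PreservesLimits S := preservesLimits_preadditiveCoyoneda_obj _
  haveI : PreservesFiniteLimits S := PreservesLimits.preservesFiniteLimits _
  obtain ⟨E, a, h1, h2, h3, h4⟩ := H5GrothSS.grothendieck (CohSite.push J K u) S
    (fun Q hQ q hq => by
      obtain ⟨m, rfl⟩ : ∃ m, q = m + 1 := ⟨q - 1, by omega⟩
      haveI := H5Leray63.push_injective J K u Q
      exact S.isZero_rightDerived_obj_injective_succ m _) M
    (fun n : ℤ => if 0 ≤ n then AddCommGrpCat.of (CohSite.HU M n.toNat (u.obj V)) else AddCommGrpCat.of PUnit.{u + 1})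
    (fun n hn => by rw [if_neg (by omega)]; exact AddCommGrpCat.isZero_of_subsingleton _)
    (fun n => ⟨(H5HomExt.nonempty_rightDerived_iso_ext _ M (secIso J K u V) n).some ≪≫
      eqToIso (by rw [if_pos (Int.natCast_nonneg n), Int.toNat_natCast]; rfl)⟩)
  refine ⟨E, a, h1, h2, fun p q => ?_⟩
  by_cases h : 0 ≤ p ∧ 0 ≤ q
  · rw [if_pos h]
    obtain ⟨e₂⟩ := h4 p.toNat q.toNat
    rw [Int.toNat_of_nonneg h.1, Int.toNat_of_nonneg h.2] at e₂
    exact ⟨e₂ ≪≫ (H5HomExt.nonempty_rightDerived_iso_ext _ _ (Iso.refl S) p.toNat).some⟩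
  · rw [if_neg h]
    exact ⟨(h3 p q (by omega)).iso (AddCommGrpCat.isZero_of_subsingleton _)⟩

end Groth.Agent.H5Leray62
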