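import Groth.Agent.Lib.H5GrothSS
import Groth.Agent.Lib.H5GrpSheaf
import Groth.Prelude.Def_CohSite
import Groth.Prelude.Def_RDer

universe u
namespace Groth.Agent.H5Leray63
open CategoryTheory CategoryTheory.Limits
open scoped ZeroObject

variable {C D : Type u} [SmallCategory C] [SmallCategory D] (J : GrothendieckTopology C) (K : GrothendieckTopology D)
  (u : D ⥤ C) [u.IsContinuous K J]

lemma push_finLim : PreservesFiniteLimits (CohSite.push J K u) := by
  have := (u.sheafAdjunctionContinuous AddCommGrpCat.{u} K J).rightAdjoint_preservesLimits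
  exact PreservesLimits.preservesFiniteLimits _

lemma push_injective [PreservesFiniteLimits (u.sheafPullback (Type u) K J)]
    (Q : Sheaf J AddCommGrpCat.{u}) [Injective Q] : Injective ((CohSite.push J K u).obj Q) := by
  have := Groth.Agent.H5GrpSheaf.preservesFiniteLimits_pullback (J := J) K u
  exact Injective.injective_of_adjoint (u.sheafAdjunctionContinuous AddCommGrpCat.{u} K J) Q

theorem relative_leray {B : Type u} [SmallCategory B] (L : GrothendieckTopology B)
    [PreservesFiniteLimits (u.sheafPullback (Type u) K J)]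
    (w : B ⥤ D) [w.IsContinuous L K] [(w ⋙ u).IsContinuous L J] (M : Sheaf J AddCommGrpCat.{u}) :
    ∃ (E : E₂CohomologicalSpectralSequence (Sheaf L AddCommGrpCat.{u}))
      (a : SpSeq.Abutment E (fun n : ℤ =>
        if 0 ≤ n then (CohSite.Rpush J L (w ⋙ u) n.toNat).obj M else 0)),
      (∀ n, a.IsFinite n) ∧ SpSeq.IsBounded E ∧
      ∀ p q : ℤ, Nonempty ((E.page 2 le_rfl).X (p, q) ≅
        (if 0 ≤ p ∧ 0 ≤ q then (CohSite.Rpush K L w p.toNat).obj ((CohSite.Rpush J K u q.toNat).obj M) else 0)) := by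
  haveI := push_finLim K L w
  let e : CohSite.push J K u ⋙ CohSite.push K L w ≅ CohSite.push J L (w ⋙ u) :=
    Functor.sheafPushforwardContinuousComp w u AddCommGrpCat.{u} L K J
  obtain ⟨E, a, h1, h2, h3, h4⟩ := Groth.Agent.H5GrothSS.grothendieck (CohSite.push J K u) (CohSite.push K L w)
    (fun Q hQ q hq => by
      obtain ⟨m, rfl⟩ : ∃ m, q = m + 1 := ⟨q - 1, by omega⟩
      haveI := push_injective J K u Q
      exact (CohSite.push K L w).isZero_rightDerived_obj_injective_succ m _) M
    (fun n : ℤ => if 0 ≤ n then (CohSite.Rpush J L (w ⋙ u) n.toNat).obj M else 0)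
    (fun n hn => by rw [if_neg (by omega)]; exact isZero_zero _)
    (fun n => ⟨(RDer.rightDerivedIso e n).app M ≪≫ eqToIso (by rw [if_pos (Int.natCast_nonneg n), Int.toNat_natCast])⟩)
  refine ⟨E, a, h1, h2, fun p q => ?_⟩
  by_cases h : 0 ≤ p ∧ 0 ≤ q
  · rw [if_pos h]
    obtain ⟨e₂⟩ := h4 p.toNat q.toNat
    rw [Int.toNat_of_nonneg h.1, Int.toNat_of_nonneg h.2] at e₂
    exact ⟨e₂⟩
  · rw [if_neg h]
    exact ⟨(h3 p q (by omega)).iso (isZero_zero _)⟩

end Groth.Agent.H5Leray63
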