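import Groth.Agent.Lib.H5LerayDeg
import Groth.Agent.Lib.H5SiteCoh
import Groth.Agent.Lib.H5Compare
import Mathlib.Algebra.Homology.ShortComplex.Ab
import Mathlib.CategoryTheory.Abelian.Images
import Groth.Agent.Lib.H5HomExt

universe w v u

namespace Groth.Agent.H5LerayBase
open CategoryTheory Limits Opposite Abelian HomologicalComplex
set_option maxHeartbeats 800000

section abs
variable {A : Type u} [Category.{v} A] [Abelian A] [HasExt.{w} A] (Z : A)

/-- acyclic for maps out of `Z` -/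
def Acy (X : A) : Prop := ∀ m : ℕ, Subsingleton (Ext.{w} Z X (m + 1))

variable {Z}

lemma acy_iso {X Y : A} (e : X ≅ Y) (h : Acy.{w} Z X) : Acy.{w} Z Y := fun m => by
  haveI := h m
  exact H5SiteCoh.subsingleton_congr e

lemma acy₃ {S : ShortComplex A} (hS : S.ShortExact) (h1 : Acy.{w} Z S.X₁) (h2 : Acy.{w} Z S.X₂) : Acy.{w} Z S.X₃ :=
  fun m => ⟨fun x y => by
    haveI := h1 (m + 1)
    haveI := h2 m
    suffices ∀ x : Ext.{w} Z S.X₃ (m + 1), x = 0 by rw [this x, this y]
    intro x
    obtain ⟨x₂, rfl⟩ := Ext.covariant_sequence_exact₃ Z hS x (rfl : m + 1 + 1 = m + 2) (Subsingleton.elim _ _)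
    rw [Subsingleton.elim x₂ 0, Ext.zero_comp]⟩

lemma acy₂ {S : ShortComplex A} (hS : S.ShortExact) (h1 : Acy.{w} Z S.X₁) (h3 : Acy.{w} Z S.X₃) : Acy.{w} Z S.X₂ :=
  fun m => ⟨fun x y => by
    haveI := h1 m
    haveI := h3 m
    suffices ∀ x : Ext.{w} Z S.X₂ (m + 1), x = 0 by rw [this x, this y]
    intro x
    obtain ⟨x₁, rfl⟩ := Ext.covariant_sequence_exact₂ Z hS x (Subsingleton.elim _ _)
    rw [Subsingleton.elim x₁ 0, Ext.zero_comp]⟩

lemma lift_of_acy {S : ShortComplex A} (hS : S.ShortExact) (h1 : Acy.{w} Z S.X₁) (φ : Z ⟶ S.X₃) : ∃ ψ, ψ ≫ S.g = φ := by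
  haveI := h1 0
  exact (H5Compare.δ₁_eq_zero_iff Z hS φ).1 (Subsingleton.elim _ _)

variable (K : CochainComplex A ℕ)

/-- boundaries in degree `n + 1` -/
noncomputable abbrev Bd (n : ℕ) : A := Limits.image (K.toCycles n (n + 1))

/-- cycles, cochains, boundaries -/
noncomputable abbrev seq₁ (n : ℕ) : ShortComplex A :=
  ShortComplex.mk (K.iCycles n) (Limits.factorThruImage (K.toCycles n (n + 1))) (by
    rw [← cancel_mono (Limits.image.ι (K.toCycles n (n + 1))), Category.assoc, Limits.image.fac, zero_comp,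
      ← cancel_mono (K.iCycles (n + 1)), Category.assoc, toCycles_i, zero_comp, iCycles_d])

lemma seq₁_shortExact (n : ℕ) : (seq₁ K n).ShortExact := by
  refine { exact := ?_, mono_f := inferInstance, epi_g := inferInstance }
  apply ShortComplex.exact_of_f_is_kernel
  refine Fork.IsLimit.mk _ (fun s => K.liftCycles s.ι (n + 1) (by simp) ?_) (fun s => by simp)
    (fun s m hm => by rw [← cancel_mono (K.iCycles n), liftCycles_i]; exact hm)
  have h : s.ι ≫ Limits.factorThruImage (K.toCycles n (n + 1)) = 0 := by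
    simpa using s.condition
  have h' : s.ι ≫ K.toCycles n (n + 1) = 0 := by
    rw [← Limits.image.fac (K.toCycles n (n + 1)), reassoc_of% h, zero_comp]
  rw [← K.toCycles_i n (n + 1), reassoc_of% h', zero_comp]

/-- boundaries, cycles, cohomology -/
noncomputable abbrev seq₂ (n : ℕ) : ShortComplex A :=
  ShortComplex.mk (Limits.image.ι (K.toCycles n (n + 1))) (K.homologyπ (n + 1)) (by
    rw [← cancel_epi (Limits.factorThruImage (K.toCycles n (n + 1))), Limits.image.fac_assoc, comp_zero,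
      toCycles_comp_homologyπ])

lemma seq₂_shortExact (n : ℕ) : (seq₂ K n).ShortExact := by
  refine { exact := ?_, mono_f := inferInstanceAs (Mono (Limits.image.ι _)), epi_g := inferInstanceAs (Epi (K.homologyπ (n + 1))) }
  have h : (ShortComplex.mk (K.toCycles n (n + 1)) (K.homologyπ (n + 1)) (by simp)).Exact :=
    ShortComplex.exact_of_g_is_cokernel _ (K.homologyIsCokernel n (n + 1) (by simp))
  let φ : ShortComplex.mk (K.toCycles n (n + 1)) (K.homologyπ (n + 1)) (by simp) ⟶ seq₂ K n :=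
    { τ₁ := Limits.factorThruImage (K.toCycles n (n + 1)), τ₂ := 𝟙 _, τ₃ := 𝟙 _
      comm₁₂ := (Limits.image.fac _).trans (Category.comp_id _).symm
      comm₂₃ := (Category.id_comp _).trans (Category.comp_id _).symm }
  haveI : Epi φ.τ₁ := inferInstanceAs (Epi (Limits.factorThruImage (K.toCycles n (n + 1))))
  haveI : IsIso φ.τ₂ := inferInstanceAs (IsIso (𝟙 _))
  haveI : Mono φ.τ₃ := inferInstanceAs (Mono (𝟙 _))
  exact (ShortComplex.exact_iff_of_epi_of_isIso_of_mono φ).1 h

variable (hX : ∀ n, Acy.{w} Z (K.X n)) (hH : ∀ n, Acy.{w} Z (K.homology n))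

include hX hH in
lemma acy_cycles : ∀ n, Acy.{w} Z (K.cycles n) ∧ Acy.{w} Z (Bd K n)
  | 0 => by
    have h0 : Acy.{w} Z (K.cycles 0) := acy_iso (CochainComplex.isoHomologyπ₀ K).symm (hH 0)
    exact ⟨h0, acy₃ (seq₁_shortExact K 0) h0 (hX 0)⟩
  | n + 1 => by
    have h : Acy.{w} Z (K.cycles (n + 1)) := acy₂ (seq₂_shortExact K n) (acy_cycles n).2 (hH (n + 1))
    exact ⟨h, acy₃ (seq₁_shortExact K (n + 1)) h (hX (n + 1))⟩

include hX hH in
theorem homology_hom (n : ℕ) :
    Nonempty ((((preadditiveCoyoneda.obj (op Z)).mapHomologicalComplex (ComplexShape.up ℕ)).obj K).homology n ≅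
      AddCommGrpCat.of (Z ⟶ K.homology n)) := by
  let KK := ((preadditiveCoyoneda.obj (op Z)).mapHomologicalComplex (ComplexShape.up ℕ)).obj K
  let S := KK.sc' ((ComplexShape.up ℕ).prev n) n (n + 1)
  let φ : AddMonoidHom.ker S.g.hom →+ (Z ⟶ K.homology n) :=
    AddMonoidHom.mk' (fun f => K.liftCycles f.1 (n + 1) (by simp) f.2 ≫ K.homologyπ n) (fun f g => by
      rw [← Preadditive.add_comp]
      congr 1
      rw [← cancel_mono (K.iCycles n), Preadditive.add_comp, liftCycles_i, liftCycles_i, liftCycles_i]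
      rfl)
  have hφ : Function.Surjective φ := fun χ => by
    have : ∃ ζ : Z ⟶ K.cycles n, ζ ≫ K.homologyπ n = χ := by
      cases n with
      | zero => exact ⟨χ ≫ (CochainComplex.isoHomologyπ₀ K).inv, (Category.assoc _ _ _).trans ((congrArg (fun t => χ ≫ t) (CochainComplex.isoHomologyπ₀ K).inv_hom_id).trans (Category.comp_id _))⟩
      | succ m => exact lift_of_acy (seq₂_shortExact K m) (acy_cycles K hX hH m).2 χ
    obtain ⟨ζ, rfl⟩ := this
    refine ⟨⟨ζ ≫ K.iCycles n, ?_⟩, ?_⟩
    · change (ζ ≫ K.iCycles n) ≫ K.d n (n + 1) = 0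
      simp
    · change K.liftCycles (ζ ≫ K.iCycles n) (n + 1) _ _ ≫ K.homologyπ n = _
      congr 1
      rw [← cancel_mono (K.iCycles n), liftCycles_i]
  have hker : φ.ker = S.abToCycles.range := by
    ext ⟨f, hf⟩
    change K.liftCycles f (n + 1) _ hf ≫ K.homologyπ n = 0 ↔ ∃ g, S.abToCycles g = ⟨f, hf⟩
    constructor
    · intro h
      cases n with
      | zero =>
        refine ⟨0, Subtype.ext ?_⟩
        have h' : K.liftCycles f (0 + 1) (by simp) hf = 0 := by
          rw [← cancel_mono (CochainComplex.isoHomologyπ₀ K).hom, zero_comp]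
          exact h
        have := congrArg (fun t => t ≫ K.iCycles 0) h'
        simp only [liftCycles_i, zero_comp] at this
        exact (map_zero S.f.hom).trans this.symm
      | succ m =>
        obtain ⟨β, hβ⟩ : ∃ β : Z ⟶ Bd K m, β ≫ Limits.image.ι (K.toCycles m (m + 1)) = K.liftCycles f (m + 1 + 1) (by simp) hf :=
          haveI := (seq₂_shortExact K m).mono_f
          (seq₂_shortExact K m).exact.lift' _ h
        haveI := (seq₂_shortExact K m).mono_f
        obtain ⟨g, hg⟩ := lift_of_acy (seq₁_shortExact K m) (acy_cycles K hX hH m).1 β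
        have hi : (ComplexShape.up ℕ).prev (m + 1) = m := by simp
        have e : g ≫ K.d m (m + 1) = f := by
          rw [← K.toCycles_i m (m + 1), ← Limits.image.fac (K.toCycles m (m + 1)), Category.assoc, ← Category.assoc g]
          erw [hg]
          rw [← Category.assoc, hβ, liftCycles_i]
        obtain ⟨g', hg'⟩ := (H5HomExt.exists_d_congr K f hi).1 ⟨g, e⟩
        exact ⟨g', Subtype.ext hg'⟩
    · rintro ⟨g, hg⟩
      have h : g ≫ K.d ((ComplexShape.up ℕ).prev n) n = f := congrArg Subtype.val hg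
      exact K.liftCycles_homologyπ_eq_zero_of_boundary _ _ (by simp) g h.symm
  exact ⟨KK.homologyIsoSc' ((ComplexShape.up ℕ).prev n) n (n + 1) rfl (by simp) ≪≫ S.abHomologyIso ≪≫
    ((QuotientAddGroup.quotientAddEquivOfEq hker.symm).trans
      (QuotientAddGroup.quotientKerEquivOfSurjective φ hφ)).toAddCommGrpIso⟩

end abs

section top
open TopologicalSpace

variable {Y : TopCat.{u}}

/-- global sections, corepresented -/
noncomputable def secIso :
    preadditiveCoyoneda.obj (op ((constantSheaf (Opens.grothendieckTopology Y) AddCommGrpCat.{u}).obj (AddCommGrpCat.of (ULift.{u} ℤ)))) ≅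
      sheafToPresheaf (Opens.grothendieckTopology Y) AddCommGrpCat.{u} ⋙
        (evaluation (Opens Y)ᵒᵖ AddCommGrpCat.{u}).obj (op ⊤) :=
  let adj := constantSheafAdj (Opens.grothendieckTopology Y) AddCommGrpCat.{u} (T := ⊤) isTerminalTop
  NatIso.ofComponents (fun G => ((adj.homAddEquiv _ G).trans (AddCommGrpCat.uliftZMultiplesAddEquiv _)).toAddCommGrpIso)
    (fun {G G'} g => ConcreteCategory.hom_ext _ _ fun φ =>
      congrArg (AddCommGrpCat.uliftZMultiplesAddEquiv _) (adj.homEquiv_naturality_right φ g))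

theorem leray_acyclic_base {X : TopCat.{u}} (f : X ⟶ Y) (F : CohTop.Ab X)
    (h : ∀ p q : ℕ, Subsingleton (CohTop.H ((CohTop.Rpush f q).obj F) (p + 1))) (q : ℕ) :
    Nonempty (CohTop.H F q ≃+ ((CohTop.Rpush f q).obj F).obj.obj (op ⊤)) := by
  let R := injectiveResolution F
  let K := ((CohTop.push f).mapHomologicalComplex (ComplexShape.up ℕ)).obj R.cocomplex
  let Z := (constantSheaf (Opens.grothendieckTopology Y) AddCommGrpCat.{u}).obj (AddCommGrpCat.of (ULift.{u} ℤ))
  have hX : ∀ n, Acy.{u} Z (K.X n) := fun n m => by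
    haveI : Injective ((CohTop.push f).obj (R.cocomplex.X n)) := H5TopCoh.injective_push f _
    exact H5SiteCoh.subsingleton_ext_injective Z ((CohTop.push f).obj (R.cocomplex.X n)) m
  have eH : ∀ n, (CohTop.Rpush f n).obj F ≅ K.homology n := fun n => R.isoRightDerivedObj (CohTop.push f) n
  have hH : ∀ n, Acy.{u} Z (K.homology n) := fun n => acy_iso (eH n) (fun m => h m n)
  obtain ⟨e⟩ := homology_hom K hX hH q
  let eK : ((preadditiveCoyoneda.obj (op Z)).mapHomologicalComplex (ComplexShape.up ℕ)).obj K ≅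
      ((sheafToPresheaf (Opens.grothendieckTopology Y) AddCommGrpCat.{u} ⋙
        (evaluation (Opens Y)ᵒᵖ AddCommGrpCat.{u}).obj (op ⊤)).mapHomologicalComplex (ComplexShape.up ℕ)).obj K :=
    (NatIso.mapHomologicalComplex (secIso (Y := Y)) (ComplexShape.up ℕ)).app K
  obtain ⟨a⟩ := H5LerayDeg.H_equiv_HU_top F q
  obtain ⟨b⟩ := H5LerayDeg.HU_equiv_sec R ⊤ q
  let c : (((sheafToPresheaf (Opens.grothendieckTopology Y) AddCommGrpCat.{u} ⋙
        (evaluation (Opens Y)ᵒᵖ AddCommGrpCat.{u}).obj (op ⊤)).mapHomologicalComplex (ComplexShape.up ℕ)).obj K).homology q ≅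
      AddCommGrpCat.of (((CohTop.Rpush f q).obj F).obj.obj (op ⊤)) :=
    ((HomologicalComplex.homologyFunctor _ _ q).mapIso eK).symm ≪≫ e ≪≫
      (preadditiveCoyoneda.obj (op Z)).mapIso (eH q).symm ≪≫ (secIso (Y := Y)).app ((CohTop.Rpush f q).obj F)
  exact ⟨(a.trans b).trans c.addCommGroupIsoToAddEquiv⟩

end top

end Groth.Agent.H5LerayBase
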