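import Groth.Agent.Lib.LCartan
import Mathlib.CategoryTheory.Sites.SheafCohomology.MayerVietoris
import Mathlib.Topology.Sheaves.MayerVietoris
import Mathlib.Algebra.Category.Grp.ForgetCorepresentable

set_option autoImplicit false
universe u

open CategoryTheory Limits TopologicalSpace Opposite Abelian

namespace Groth.Agent.LCech

variable {X : TopCat.{u}}

/-- the sheaf corepresenting sections over an open -/
noncomputable abbrev freeSh (V : Opens X) : Shf X :=
  (presheafToSheaf (Opens.grothendieckTopology X) AddCommGrpCat.{u}).obj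
    (yoneda.obj V ⋙ AddCommGrpCat.free)

/-- maps out of `freeSh V` are sections over `V` -/
noncomputable def freeShEquiv (V : Opens X) (F : Shf X) :
    (freeSh V ⟶ F) ≃ F.obj.obj (op V) :=
  ((sheafificationAdjunction (Opens.grothendieckTopology X) AddCommGrpCat.{u}).homEquiv _ F).trans
    (((AddCommGrpCat.adj.{u}.whiskerRight (Opens X)ᵒᵖ).homEquiv (yoneda.obj V) F.obj).trans
      yonedaEquiv)

lemma freeShEquiv_comp {V : Opens X} {F G : Shf X} (φ : freeSh V ⟶ F) (g : F ⟶ G) :
    freeShEquiv V G (φ ≫ g) = g.hom.app (op V) (freeShEquiv V F φ) := by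
  simp only [freeShEquiv, Equiv.trans_apply]
  erw [Adjunction.homEquiv_naturality_right, Adjunction.homEquiv_naturality_right, yonedaEquiv_comp]

variable [HasExt.{u} (Shf X)]

theorem subsingleton_ext_succ (S : CovSys X) {V : Opens X} (hV : V ∈ S.B) :
    ∀ (n : ℕ) (F : Shf X), S.Good F.obj → Subsingleton (Ext (freeSh V) F (n + 1))
  | 0, F, hF => by
    refine subsingleton_of_forall_eq 0 fun x => ?_
    obtain ⟨x₃, rfl⟩ := Ext.covariant_sequence_exact₁ _ (injSeq_shortExact F) x
      (Ext.eq_zero_of_injective _) (zero_add 1)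
    obtain ⟨φ, rfl⟩ := (Ext.mk₀_bijective _ _).2 x₃
    obtain ⟨b, hb⟩ := surjective_of_good S _ (injSeq_shortExact F) hF hV (freeShEquiv V _ φ)
    have : φ = (freeShEquiv V _).symm b ≫ (injSeq F).g := by
      apply (freeShEquiv V _).injective
      rw [freeShEquiv_comp, Equiv.apply_symm_apply]
      exact hb.symm
    rw [this, ← Ext.mk₀_comp_mk₀, Ext.comp_assoc_of_second_deg_zero,
      ShortComplex.ShortExact.comp_extClass, Ext.comp_zero]
  | n + 1, F, hF => by
    have := subsingleton_ext_succ S hV n _ (good_injSeq S F hF)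
    refine subsingleton_of_forall_eq 0 fun x => ?_
    obtain ⟨x₃, rfl⟩ := Ext.covariant_sequence_exact₁ _ (injSeq_shortExact F) x
      (Ext.eq_zero_of_injective _) (rfl : n + 1 + 1 = n + 2)
    rw [Subsingleton.elim x₃ 0, Ext.zero_comp]

/-- Mayer–Vietoris for vanishing -/
theorem subsingleton_ext_sup (U V : Opens X) (F : Shf X) (n : ℕ)
    (hU : Subsingleton (Ext (freeSh U) F (n + 1))) (hV : Subsingleton (Ext (freeSh V) F (n + 1)))
    (hI : Subsingleton (Ext (freeSh (U ⊓ V)) F n)) :
    Subsingleton (Ext (freeSh (U ⊔ V)) F (n + 1)) := by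
  let S := Opens.mayerVietorisSquare U V
  refine subsingleton_of_forall_eq 0 fun x => ?_
  let x' : Ext S.shortComplex.X₃ F (n + 1) := x
  have h0 : (Ext.mk₀ S.shortComplex.g).comp x' (zero_add _) = 0 := by
    apply Ext.biprodAddEquiv.injective
    have : Subsingleton (Ext ((freeSh U)) F (n + 1) × Ext (freeSh V) F (n + 1)) := inferInstance
    exact this.elim _ _
  obtain ⟨x₁, hx₁⟩ := Ext.contravariant_sequence_exact₃ S.shortComplex_shortExact F x' h0
    (by omega : 1 + n = n + 1)
  have hI' : Subsingleton (Ext S.shortComplex.X₁ F n) := hI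
  rw [Subsingleton.elim x₁ 0, Ext.comp_zero] at hx₁
  exact hx₁.symm

/-- the corepresenting objects of global sections agree -/
theorem exists_iso_freeSh_top :
    Nonempty (freeSh (⊤ : Opens X) ≅
      (constantSheaf (Opens.grothendieckTopology X) AddCommGrpCat.{u}).obj
        (AddCommGrpCat.of (ULift.{u} ℤ))) := by
  let Z := (constantSheaf (Opens.grothendieckTopology X) AddCommGrpCat.{u}).obj
    (AddCommGrpCat.of (ULift.{u} ℤ))
  let T : IsTerminal (⊤ : Opens X) := isTerminalTop
  let e : ∀ F : Shf X, (Z ⟶ F) ≃ F.obj.obj (op ⊤) := fun F =>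
    ((constantSheafAdj (Opens.grothendieckTopology X) AddCommGrpCat.{u} T).homEquiv _ F).trans
      (AddCommGrpCat.uliftZMultiplesAddEquiv _).toEquiv
  have he : ∀ {F G : Shf X} (φ : Z ⟶ F) (g : F ⟶ G), e G (φ ≫ g) = g.hom.app (op ⊤) (e F φ) := by
    intro F G φ g
    simp only [e, Equiv.trans_apply]
    rw [Adjunction.homEquiv_naturality_right]
    rfl
  refine ⟨⟨(freeShEquiv ⊤ Z).symm (e Z (𝟙 Z)), (e _).symm (freeShEquiv ⊤ _ (𝟙 _)), ?_, ?_⟩⟩
  · apply (freeShEquiv ⊤ _).injective
    rw [freeShEquiv_comp, Equiv.apply_symm_apply, ← he, Category.id_comp, Equiv.apply_symm_apply]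
  · apply (e Z).injective
    rw [he, Equiv.apply_symm_apply, ← freeShEquiv_comp, Category.id_comp, Equiv.apply_symm_apply]

theorem subsingleton_H_of_ext_top (F : Shf X) (n : ℕ)
    (h : Subsingleton (Ext (freeSh (⊤ : Opens X)) F n)) : Subsingleton (Sheaf.H F n) := by
  obtain ⟨i⟩ := exists_iso_freeSh_top (X := X)
  refine subsingleton_of_forall_eq 0 fun x => ?_
  have := congrArg (fun y => (Ext.mk₀ i.inv).comp y (zero_add n))
    (Subsingleton.elim ((Ext.mk₀ i.hom).comp x (zero_add n)) 0)
  simp only [Ext.mk₀_comp_mk₀_assoc, Iso.inv_hom_id, Ext.mk₀_id_comp, Ext.comp_zero] at this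
  exact this

/-- vanishing above the number of members of a covering by members of `S` with closed intersections -/
theorem subsingleton_ext_finite_sup (S : CovSys X) (F : Shf X) (hF : S.Good F.obj)
    (B : Set (Opens X)) (hB : B ⊆ S.B) (hinf : ∀ U ∈ B, ∀ V ∈ B, U ⊓ V ∈ B) :
    ∀ (k : ℕ) (U : Fin (k + 1) → Opens X), (∀ i, U i ∈ B) → ∀ n : ℕ,
      Subsingleton (Ext (freeSh (iSup U)) F (n + k + 1))
  | 0, U, hU, n => by
    have : iSup U = U 0 := le_antisymm (iSup_le fun i => (Fin.eq_zero i) ▸ le_rfl) (le_iSup U 0)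
    rw [this]
    exact subsingleton_ext_succ S (hB (hU 0)) n F hF
  | k + 1, U, hU, n => by
    have hsplit : iSup U = (⨆ i : Fin (k + 1), U i.castSucc) ⊔ U (Fin.last _) := by
      refine le_antisymm (iSup_le fun i => ?_) (sup_le (iSup_le fun i => le_iSup U _) (le_iSup U _))
      exact Fin.lastCases le_sup_right
        (fun j => (le_iSup (fun i : Fin (k + 1) => U i.castSucc) j).trans le_sup_left) i
    rw [hsplit, show n + (k + 1) + 1 = (n + k + 1) + 1 from by omega]
    refine subsingleton_ext_sup _ _ F (n + k + 1) ?_ ?_ ?_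
    · rw [show n + k + 1 + 1 = (n + 1) + k + 1 from by omega]
      exact subsingleton_ext_finite_sup S F hF B hB hinf k _ (fun i => hU _) _
    · exact subsingleton_ext_succ S (hB (hU _)) _ F hF
    · rw [iSup_inf_eq]
      exact subsingleton_ext_finite_sup S F hF B hB hinf k _
        (fun i => hinf _ (hU _) _ (hU _)) n

end Groth.Agent.LCech
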