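import Groth.Agent.Lib.H5CohPresheaf
import Groth.Agent.Lib.H5TopCoh
import Groth.Agent.Lib.LHOn

universe u w v

namespace Groth.Agent.H5LerayDeg
open CategoryTheory Limits Opposite Abelian TopologicalSpace HomologicalComplex
open Groth.Agent

section abs
variable {A : Type v} [Category.{w} A] [Abelian A] {B : Type v} [Category.{w} B] [Abelian B] [EnoughInjectives A]

/-- image of an injective resolution of an acyclic object -/
theorem resolution_map (G : A ⥤ B) [G.Additive] [PreservesFiniteLimits G]
    (hI : ∀ I : A, Injective I → Injective (G.obj I)) {F : A} (R : InjectiveResolution F)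
    (h : ∀ q : ℕ, IsZero ((G.rightDerived (q + 1)).obj F)) :
    ∃ R' : InjectiveResolution (G.obj F),
      R'.cocomplex = (G.mapHomologicalComplex (ComplexShape.up ℕ)).obj R.cocomplex := by
  let e := (HomologicalComplex.singleMapHomologicalComplex G (ComplexShape.up ℕ) 0).app F
  let ι' := e.inv ≫ (G.mapHomologicalComplex (ComplexShape.up ℕ)).map R.ι
  refine ⟨{ cocomplex := (G.mapHomologicalComplex _).obj R.cocomplex
            injective := fun n => hI _ inferInstance
            ι := ι'
            quasiIso := ?_ }, rfl⟩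
  suffices QuasiIso ((G.mapHomologicalComplex (ComplexShape.up ℕ)).map R.ι) from quasiIso_comp _ _
  rw [quasiIso_iff]
  intro n
  cases n with
  | succ q =>
    rw [quasiIsoAt_iff_exactAt]
    · rw [HomologicalComplex.exactAt_iff' _ q (q + 1) (q + 2) (by simp) (by simp),
        ShortComplex.exact_iff_isZero_homology]
      refine IsZero.of_iso ?_ (((G.mapHomologicalComplex _).obj R.cocomplex).homologyIsoSc' q (q + 1) (q + 2)
        (by simp) (by simp)).symm
      exact (h q).of_iso (R.isoRightDerivedObj G (q + 1)).symm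
    · exact (CochainComplex.exactAt_succ_single_obj (G.obj F) q).of_iso e.symm
  | zero =>
    rw [CochainComplex.quasiIsoAt₀_iff, ShortComplex.quasiIso_iff_of_zeros]
    rotate_left
    · change G.map (((CochainComplex.single₀ A).obj F).d 0 0) = 0
      simp
      try exact G.map_zero _ _
    · change G.map (((CochainComplex.single₀ A).obj F).d 0 1) = 0
      simp
      try exact G.map_zero _ _
    · change G.map (R.cocomplex.d 0 0) = 0
      simp
      try exact G.map_zero _ _
    refine ⟨?_, inferInstanceAs (Mono (G.map (R.ι.f 0)))⟩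
    exact R.exact₀.map_of_mono_of_preservesKernel G (inferInstanceAs (Mono (R.ι.f 0))) inferInstance

end abs

section top
variable {X : TopCat.{u}}

/-- `H^n(X,F)` as cohomology over the whole space -/
theorem H_equiv_HU_top (F : CohTop.Ab X) (n : ℕ) : Nonempty (CohTop.H F n ≃+ CohTop.HU F n ⊤) := by
  obtain ⟨i⟩ := LCech.exists_iso_freeSh_top (X := X)
  exact ⟨{ toFun := fun x => (Ext.mk₀ i.hom).comp x (zero_add n)
           invFun := fun x => (Ext.mk₀ i.inv).comp x (zero_add n)
           left_inv := fun x => by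
             change (Ext.mk₀ i.inv).comp ((Ext.mk₀ i.hom).comp x (zero_add n)) (zero_add n) = x
             rw [Ext.mk₀_comp_mk₀_assoc, Iso.inv_hom_id, Ext.mk₀_id_comp]
           right_inv := fun x => by
             exact (Ext.mk₀_comp_mk₀_assoc i.hom i.inv (x : Ext.{u} _ F n)).trans
               ((congrArg (fun z => (Ext.mk₀ z).comp (x : Ext.{u} _ F n) (zero_add n)) i.hom_inv_id).trans (Ext.mk₀_id_comp _))
           map_add' := fun x y => Ext.comp_add _ _ _ _ }⟩

/-- cohomology over an open as homology of sections of a resolution -/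
theorem HU_equiv_sec {F : CohTop.Ab X} (R : InjectiveResolution F) (U : Opens X) (n : ℕ) :
    Nonempty (CohTop.HU F n U ≃+ ((((evaluation (Opens X)ᵒᵖ AddCommGrpCat.{u}).obj (op U)).mapHomologicalComplex _).obj
      (H5CohPresheaf.secCx R)).homology n) := by
  obtain ⟨e⟩ := H5CohPresheaf.cohPresheaf_iso R n
  exact ⟨(e.app (op U) ≪≫
    (ShortComplex.mapHomologyIso ((H5CohPresheaf.secCx R).sc n) ((evaluation (Opens X)ᵒᵖ AddCommGrpCat.{u}).obj (op U))).symm).addCommGroupIsoToAddEquiv⟩

theorem leray_degenerate {Y : TopCat.{u}} (f : X ⟶ Y) (F : CohTop.Ab X)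
    (h : ∀ q : ℕ, IsZero ((CohTop.Rpush f (q + 1)).obj F)) (p : ℕ) :
    Nonempty (CohTop.H F p ≃+ CohTop.H ((CohTop.push f).obj F) p) := by
  have : PreservesLimitsOfSize.{0, 0} (CohTop.push f) :=
    (TopCat.Sheaf.pullbackPushforwardAdjunction AddCommGrpCat.{u} f).rightAdjoint_preservesLimits
  have : PreservesFiniteLimits (CohTop.push f) := PreservesLimitsOfSize.preservesFiniteLimits _
  let R := injectiveResolution F
  obtain ⟨R', hR'⟩ := resolution_map (CohTop.push f) (fun I hI => H5TopCoh.injective_push f I) R h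
  obtain ⟨a⟩ := H_equiv_HU_top F p
  obtain ⟨b⟩ := HU_equiv_sec R ⊤ p
  obtain ⟨a'⟩ := H_equiv_HU_top ((CohTop.push f).obj F) p
  obtain ⟨b'⟩ := HU_equiv_sec R' ⊤ p
  have e : ((((evaluation (Opens Y)ᵒᵖ AddCommGrpCat.{u}).obj (op ⊤)).mapHomologicalComplex _).obj
      (H5CohPresheaf.secCx R')) =
      ((((evaluation (Opens X)ᵒᵖ AddCommGrpCat.{u}).obj (op ((Opens.map f).obj ⊤))).mapHomologicalComplex _).obj
      (H5CohPresheaf.secCx R)) := by
    unfold H5CohPresheaf.secCx
    rw [hR']
    rfl
  exact ⟨a.trans (b.trans ((eqToIso (congrArg (fun K : CochainComplex AddCommGrpCat.{u} ℕ => K.homology p) e)).symm.addCommGroupIsoToAddEquiv.trans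
    (b'.symm.trans a'.symm)))⟩

end top

end Groth.Agent.H5LerayDeg
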