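import Mathlib

set_option autoImplicit false
universe u

open CategoryTheory Limits TopologicalSpace Opposite TopCat

namespace Groth.Agent.LCech

variable {X : TopCat.{u}} {ι : Type u} (U : ι → Opens X)

noncomputable abbrev inter {n : ℕ} (x : Fin n → ι) : Opens X := ∏ᶜ (U ∘ x)

lemma le_inter_iff {n : ℕ} (x : Fin n → ι) (V : Opens X) :
    V ≤ inter U x ↔ ∀ j, V ≤ U (x j) :=
  ⟨fun h j => h.trans (leOfHom (Pi.π (U ∘ x) j)), fun h => leOfHom (Pi.lift fun j => homOfLE (h j))⟩

lemma inter_le {n : ℕ} (x : Fin n → ι) (j : Fin n) : inter U x ≤ U (x j) :=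
  (le_inter_iff U x _).1 le_rfl j

lemma inter_eq_iInf {n : ℕ} (x : Fin n → ι) : inter U x = ⨅ j, U (x j) :=
  le_antisymm (le_iInf fun j => inter_le U x j) ((le_inter_iff U x _).2 fun j => iInf_le _ j)

lemma mem_inter_iff {n : ℕ} (x : Fin n → ι) (p : X) : p ∈ inter U x ↔ ∀ j, p ∈ U (x j) := by
  refine ⟨fun h j => inter_le U x j h, fun h => ?_⟩
  have : (⨅ j, U (x j) : Opens X) = inter U x := (inter_eq_iInf U x).symm
  rw [← this, ← SetLike.mem_coe, Opens.coe_iInf]
  simpa [interior_eq_iff_isOpen.2 (isOpen_iInter_of_finite fun j => (U (x j)).2)] using h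

lemma inter_succAbove {n : ℕ} (x : Fin (n + 1) → ι) (j : Fin (n + 1)) :
    inter U x ≤ inter U (x ∘ j.succAbove) :=
  (le_inter_iff U _ _).2 fun k => inter_le U x (j.succAbove k)

noncomputable abbrev cplx (P : TopCat.Presheaf AddCommGrpCat.{u} X) :
    CochainComplex AddCommGrpCat.{u} ℕ :=
  (cechComplexFunctor (A := AddCommGrpCat.{u}) U).obj P

variable (P : TopCat.Presheaf AddCommGrpCat.{u} X)

/-- restriction -/
noncomputable abbrev rs {V W : Opens X} (h : W ≤ V) (s : P.obj (op V)) : P.obj (op W) :=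
  P.map (homOfLE h).op s

lemma rs_rs {V W Z : Opens X} (h : W ≤ V) (h' : Z ≤ W) (s : P.obj (op V)) :
    rs P h' (rs P h s) = rs P (h'.trans h) s := by
  simp only [rs, ← ConcreteCategory.comp_apply, ← P.map_comp, ← op_comp, homOfLE_comp]

lemma rs_self {V : Opens X} (h : V ≤ V) (s : P.obj (op V)) : rs P h s = s := by
  simp [rs]

/-- a component of a cochain -/
noncomputable def coord {n : ℕ} (x : Fin (n + 1) → ι) :
    (cplx U P).X n →+ P.obj (op (inter U x)) :=
  (Pi.π (fun i : Fin (n + 1) → ι => P.obj (op (inter U i))) x).hom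

lemma coord_ext {n : ℕ} {c c' : (cplx U P).X n} (h : ∀ x, coord U P x c = coord U P x c') :
    c = c' :=
  Concrete.limit_ext (F := Discrete.functor (fun i : Fin (n + 1) → ι => P.obj (op (inter U i))))
    c c' (fun x => h x.as)

noncomputable def mk {n : ℕ} (f : ∀ x : Fin (n + 1) → ι, P.obj (op (inter U x))) : (cplx U P).X n :=
  (Concrete.productEquiv (fun i : Fin (n + 1) → ι => P.obj (op (inter U i)))).symm f

@[simp] lemma coord_mk {n : ℕ} (f : ∀ x : Fin (n + 1) → ι, P.obj (op (inter U x)))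
    (x : Fin (n + 1) → ι) : coord U P x (mk U P f) = f x :=
  Concrete.productEquiv_symm_apply_π _ f x

/-- `hom`, as an additive map -/
noncomputable def homAdd (A B : AddCommGrpCat.{u}) : (A ⟶ B) →+ (A →+ B) where
  toFun := AddCommGrpCat.Hom.hom
  map_zero' := rfl
  map_add' _ _ := rfl

lemma coord_d {n : ℕ} (c : (cplx U P).X n) (x : Fin (n + 2) → ι) :
    coord U P x ((cplx U P).d n (n + 1) c) =
      ∑ j : Fin (n + 2), ((-1 : ℤ) ^ (j : ℕ)) •
        rs P (inter_succAbove U x j) (coord U P (x ∘ j.succAbove) c) := by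
  have hd : (cplx U P).d n (n + 1) = AlgebraicTopology.AlternatingCofaceMapComplex.objD
      ((FormalCoproduct.cosimplicialObjectFunctor (FormalCoproduct.mk _ U).cech).obj P) n := by
    simp only [cplx, cechComplexFunctor, FormalCoproduct.cochainComplexFunctor, Functor.comp_obj]
    dsimp [AlgebraicTopology.alternatingCofaceMapComplex, AlgebraicTopology.AlternatingCofaceMapComplex.obj, CochainComplex.of]
    rw [CochainComplex.of_d]
    rfl
  rw [hd]
  let π' : (cplx U P).X (n + 1) ⟶ P.obj (op (inter U x)) :=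
    Pi.π (fun i : Fin (n + 2) → ι => P.obj (op (inter U i))) x
  change (AlgebraicTopology.AlternatingCofaceMapComplex.objD
      ((FormalCoproduct.cosimplicialObjectFunctor (FormalCoproduct.mk _ U).cech).obj P) n ≫ π').hom c = _
  rw [AlgebraicTopology.AlternatingCofaceMapComplex.objD]
  erw [Preadditive.sum_comp]
  change homAdd _ _ (∑ j : Fin (n + 2), _) c = _
  erw [map_sum, AddMonoidHom.finsetSum_apply]
  refine Finset.sum_congr rfl fun j _ => ?_
  erw [Preadditive.zsmul_comp, map_zsmul]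
  rw [AddMonoidHom.smul_apply]
  congr 1
  change AddCommGrpCat.Hom.hom (_ ≫ π') c = AddCommGrpCat.Hom.hom
    (Pi.π (fun i : Fin (n + 1) → ι => P.obj (op (inter U i))) (x ∘ j.succAbove) ≫
      P.map (homOfLE (inter_succAbove U x j)).op) c
  congr 2
  exact Limits.Pi.lift_π _ _

lemma d_d {n : ℕ} (c : (cplx U P).X n) :
    (cplx U P).d (n + 1) (n + 2) ((cplx U P).d n (n + 1) c) = 0 := by
  rw [← ConcreteCategory.comp_apply, HomologicalComplex.d_comp_d]
  rfl

variable {P} {P' : TopCat.Presheaf AddCommGrpCat.{u} X}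

lemma coord_map (φ : P ⟶ P') {n : ℕ} (c : (cplx U P).X n) (x : Fin (n + 1) → ι) :
    coord U P' x (((cechComplexFunctor (A := AddCommGrpCat.{u}) U).map φ).f n c) =
      φ.app (op (inter U x)) (coord U P x c) := by
  change ((Pi.π (fun i : Fin (n + 1) → ι => P'.obj (op (inter U i))) x).hom) _ = _
  erw [Pi.map_π_apply]
  rfl

variable (P)

/-- Cech cohomology vanishes in positive degrees. -/
def Acyclic : Prop :=
  ∀ n : ℕ, (cplx U P).ExactAt (n + 1)

lemma exactAt_succ_iff (n : ℕ) : (cplx U P).ExactAt (n + 1) ↔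
    ∀ c : (cplx U P).X (n + 1), (cplx U P).d (n + 1) (n + 2) c = 0 →
      ∃ b, (cplx U P).d n (n + 1) b = c := by
  rw [(cplx U P).exactAt_iff' n (n + 1) (n + 2) (by simp) (by simp), ShortComplex.ab_exact_iff]
  rfl

lemma Acyclic.retract {P' : TopCat.Presheaf AddCommGrpCat.{u} X} (h : Acyclic U P)
    (s : P' ⟶ P) (r : P ⟶ P') (hsr : s ≫ r = 𝟙 P') : Acyclic U P' := by
  intro n
  have h0 := (HomologicalComplex.exactAt_iff_isZero_homology _ _).1 (h n)
  rw [HomologicalComplex.exactAt_iff_isZero_homology, IsZero.iff_id_eq_zero]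
  let F := cechComplexFunctor (A := AddCommGrpCat.{u}) U ⋙
    HomologicalComplex.homologyFunctor _ _ (n + 1)
  change 𝟙 (F.obj P') = 0
  rw [← F.map_id, ← hsr, F.map_comp, show F.map s = 0 from h0.eq_of_tgt _ _, zero_comp]

/-- Extend a cocycle by a point-wise contraction. -/
lemma exists_b_of_contraction {n : ℕ} (c : (cplx U P).X (n + 1))
    (hc : (cplx U P).d (n + 1) (n + 2) c = 0) (i : ι) (x : Fin (n + 2) → ι) {V : Opens X}
    (hV : V ≤ inter U x) (hi : V ≤ U i) :
    rs P hV (coord U P x c) =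
      ∑ j : Fin (n + 2), ((-1 : ℤ) ^ (j : ℕ)) •
        rs P ((le_inter_iff U (Fin.cons i (x ∘ j.succAbove)) V).2
          (Fin.cases (by simpa using hi) fun k => by
            simpa using hV.trans (inter_le U x (j.succAbove k))))
          (coord U P (Fin.cons i (x ∘ j.succAbove)) c) := by
  have hle : V ≤ inter U (Fin.cons i x) :=
    (le_inter_iff U _ V).2 (Fin.cases (by simpa using hi) fun k => by
      simpa using hV.trans (inter_le U x k))
  have h := congrArg (fun t => rs P hle (coord U P (Fin.cons i x) t)) hc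
  simp only [coord_d, map_zero, rs] at h
  rw [Fin.sum_univ_succ] at h
  simp only [map_add, map_sum, map_zsmul] at h
  rw [add_eq_zero_iff_eq_neg] at h
  have key : ∀ (y y' : Fin (n + 2) → ι) (e : y = y') (hy : V ≤ inter U y) (hy' : V ≤ inter U y'),
      rs P hy (coord U P y c) = rs P hy' (coord U P y' c) := by rintro y _ rfl _ _; rfl
  simp only [Fin.val_zero, pow_zero, one_smul, Fin.val_succ] at h
  rw [key x (Fin.cons i x ∘ (0 : Fin (n + 3)).succAbove) (by ext k; simp) hV
    (hle.trans (inter_succAbove U _ _))]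
  refine ((rs_rs P (inter_succAbove U (Fin.cons i x) 0) hle _).symm.trans h).trans ?_
  rw [← Finset.sum_neg_distrib]
  refine Finset.sum_congr rfl fun j _ => ?_
  rw [pow_succ, mul_neg_one, neg_smul, neg_neg]
  congr 1
  refine (rs_rs P (inter_succAbove U _ _) hle _).trans (key _ _ ?_ _ _)
  ext k
  refine Fin.cases ?_ ?_ k <;> simp [Fin.succ_succAbove_succ]

/-- Localisation criterion for Cech acyclicity. -/
theorem acyclic_of_localization [Finite ι] {R : Type*} [CommRing R] (f : ι → R)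
    (hf : Ideal.span (Set.range f) = ⊤) (V₀ : Opens X) (hU : ∀ i, U i ≤ V₀)
    (ρ : ∀ W : Opens X, W ≤ V₀ → R →+* AddMonoid.End (P.obj (op W)))
    (hρ : ∀ (r : R) (V W : Opens X) (hV : V ≤ V₀) (hW : W ≤ V₀) (h : W ≤ V) (s : P.obj (op V)),
      rs P h (ρ V hV r s) = ρ W hW r (rs P h s))
    (hsurj : ∀ (m : ℕ) (x : Fin (m + 1) → ι) (i : ι) (c : P.obj (op (inter U x ⊓ U i))),
      ∃ (N : ℕ) (y : P.obj (op (inter U x))),
        rs P inf_le_left y = ρ _ (inf_le_right.trans (hU i)) (f i ^ N) c)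
    (hinj : ∀ (m : ℕ) (x : Fin (m + 1) → ι) (i : ι) (y : P.obj (op (inter U x))),
      rs P (V := inter U x) (W := inter U x ⊓ U i) inf_le_left y = 0 →
        ∃ N : ℕ, ρ _ ((inter_le U x 0).trans (hU _)) (f i ^ N) y = 0) :
    Acyclic U P := by
  intro n
  rw [exactAt_succ_iff]
  intro c hc
  have := Fintype.ofFinite ι
  classical
  have h0 : ∀ {m : ℕ} (x : Fin (m + 1) → ι), inter U x ≤ V₀ := fun x => (inter_le U x 0).trans (hU _)
  have h1 : ∀ {m : ℕ} (x : Fin (m + 1) → ι) (i : ι), inter U x ⊓ U i ≤ V₀ :=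
    fun x i => inf_le_right.trans (hU i)
  have hmul : ∀ {W : Opens X} (hW : W ≤ V₀) (r r' : R) (s : P.obj (op W)),
      ρ W hW (r * r') s = ρ W hW r (ρ W hW r' s) := by
    intro W hW r r' s; rw [map_mul]; rfl
  have hle : ∀ (i : ι) (x : Fin (n + 1) → ι), inter U x ⊓ U i ≤ inter U (Fin.cons i x) := fun i x =>
    (le_inter_iff U _ _).2 (Fin.cases (by simp) fun k => by
      simpa using inf_le_left.trans (inter_le U x k))
  choose N₀ y₀ hy₀ using fun (p : ι × (Fin (n + 1) → ι)) =>
    hsurj n p.2 p.1 (rs P (hle p.1 p.2) (coord U P (Fin.cons p.1 p.2) c))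
  let N := Finset.univ.sup N₀
  let y : ι → (x : Fin (n + 1) → ι) → P.obj (op (inter U x)) :=
    fun i x => ρ _ (h0 x) (f i ^ (N - N₀ (i, x))) (y₀ (i, x))
  have hy : ∀ i x, rs P inf_le_left (y i x) =
      ρ _ (h1 x i) (f i ^ N) (rs P (hle i x) (coord U P (Fin.cons i x) c)) := by
    intro i x
    refine (hρ _ _ _ (h0 x) (h1 x i) inf_le_left _).trans ?_
    rw [hy₀, ← hmul, ← pow_add, Nat.sub_add_cancel (Finset.le_sup (Finset.mem_univ _))]
  let z : ι → (x : Fin (n + 2) → ι) → P.obj (op (inter U x)) := fun i x =>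
    (∑ j : Fin (n + 2), ((-1 : ℤ) ^ (j : ℕ)) • rs P (inter_succAbove U x j) (y i (x ∘ j.succAbove)))
      - ρ _ (h0 x) (f i ^ N) (coord U P x c)
  have hz : ∀ i x, rs P (V := inter U x) (W := inter U x ⊓ U i) inf_le_left (z i x) = 0 := by
    intro i x
    change (P.map _).hom (_ - _) = 0
    rw [map_sub, map_sum, sub_eq_zero]
    change _ = rs P _ (ρ _ _ _ _)
    rw [hρ _ _ _ _ (h1 x i),
      exists_b_of_contraction U P c hc i x (V := inter U x ⊓ U i) inf_le_left inf_le_right, map_sum]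
    refine Finset.sum_congr rfl fun j _ => ?_
    rw [map_zsmul, map_zsmul]
    congr 1
    change rs P inf_le_left (rs P _ _) = _
    have h2 : inter U x ⊓ U i ≤ inter U (x ∘ j.succAbove) ⊓ U i :=
      inf_le_inf_right _ (inter_succAbove U x j)
    rw [rs_rs, ← rs_rs P inf_le_left h2, hy, hρ _ _ _ _ (h1 x i), rs_rs]
  choose M₀ hM₀ using fun (p : ι × (Fin (n + 2) → ι)) => hinj (n + 1) p.2 p.1 (z p.1 p.2) (hz _ _)
  let M := Finset.univ.sup M₀
  have hM : ∀ i x, ρ _ (h0 x) (f i ^ M) (z i x) = 0 := by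
    intro i x
    have : M = (M - M₀ (i, x)) + M₀ (i, x) :=
      (Nat.sub_add_cancel (Finset.le_sup (Finset.mem_univ _))).symm
    rw [this, pow_add, hmul]
    exact (congrArg _ (hM₀ (i, x))).trans (map_zero _)
  have hone : (1 : R) ∈ Ideal.span (Set.range fun i => f i ^ (M + N)) := by
    have := Ideal.span_pow_eq_top _ hf (M + N)
    rw [← Set.range_comp] at this
    exact this.ge trivial
  obtain ⟨g, hg⟩ := (Ideal.mem_span_range_iff_exists_fun).1 hone
  refine ⟨mk U P fun x => ∑ i, ρ _ (h0 x) (g i * f i ^ M) (y i x), coord_ext U P fun x => ?_⟩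
  have hz' : ∀ i, ∑ j : Fin (n + 2), ((-1 : ℤ) ^ (j : ℕ)) •
      ρ _ (h0 x) (g i * f i ^ M) (rs P (inter_succAbove U x j) (y i (x ∘ j.succAbove))) =
      ρ _ (h0 x) (g i * f i ^ (M + N)) (coord U P x c) := by
    intro i
    have h0' : ρ _ (h0 x) (g i * f i ^ M) (z i x) = 0 := by rw [hmul, hM, map_zero]
    rw [map_sub, map_sum, sub_eq_zero] at h0'
    simp only [map_zsmul] at h0'
    rw [h0', ← hmul, mul_assoc, ← pow_add]
  rw [coord_d]
  simp only [coord_mk, rs, map_sum, Finset.smul_sum]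
  rw [Finset.sum_comm]
  calc _ = ∑ i, ρ _ (h0 x) (g i * f i ^ (M + N)) (coord U P x c) := by
        refine Finset.sum_congr rfl fun i _ => ?_
        rw [← hz' i]
        refine Finset.sum_congr rfl fun j _ => ?_
        congr 1
        exact hρ _ _ _ _ _ _ _
    _ = coord U P x c := by
        refine (AddMonoidHom.finsetSum_apply (ι := ι) (fun i => ρ _ (h0 x) (g i * f i ^ (M + N))) Finset.univ _).symm.trans ?_
        change (∑ i, ρ _ (h0 x) (g i * f i ^ (M + N))) _ = _
        rw [← map_sum, hg, map_one]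
        rfl

end Groth.Agent.LCech
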