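import Groth.Agent.Lib.H5Leray
import Groth.Agent.Lib.LCech
import Groth.Prelude.Def_CohTop
import Groth.Prelude.Def_CechEdge

universe u

namespace Groth.Agent.H5LerayTop
open CategoryTheory Limits Opposite Abelian TopologicalSpace
open Groth.Agent

variable {X : TopCat.{u}} {ι : Type u} (U : ι → Opens X) (P : (Opens X)ᵒᵖ ⥤ AddCommGrpCat.{u})

lemma W_left_eq {n : ℕ} (a : Fin (n + 1) → ι) :
    (H5Cech.W (CechEdge.opensFam U) a).left = LCech.inter U a :=
  le_antisymm ((LCech.le_inter_iff U a _).2 fun j => leOfHom (H5Cech.pr (CechEdge.opensFam U) a j))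
    (leOfHom (H5Cech.lft (CechEdge.opensFam U) a
      (homOfLE ((LCech.inter_le U a 0).trans (le_iSup U (a 0))))
      (fun k => homOfLE (LCech.inter_le U a k)) (fun k => Subsingleton.elim _ _)))

noncomputable def toTop (n : ℕ) : (H5Cech.cplx (CechEdge.opensFam U) P).X n →+ (LCech.cplx U P).X n :=
  AddMonoidHom.mk' (fun c => LCech.mk U P fun a =>
      P.map (homOfLE (W_left_eq U a).ge).op (H5Cech.coord (CechEdge.opensFam U) P a c))
    (fun c c' => LCech.coord_ext U P fun a => by simp)

lemma coord_toTop {n : ℕ} (c) (a : Fin (n + 1) → ι) :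
    LCech.coord U P a (toTop U P n c) =
      P.map (homOfLE (W_left_eq U a).ge).op (H5Cech.coord (CechEdge.opensFam U) P a c) :=
  LCech.coord_mk U P _ a

lemma toTop_bijective (n : ℕ) : Function.Bijective (toTop U P n) := by
  refine ⟨fun c c' h => H5Cech.coord_ext _ P fun a => ?_, fun c => ⟨H5Cech.mk _ P fun a =>
    P.map (homOfLE (W_left_eq U a).le).op (LCech.coord U P a c), LCech.coord_ext U P fun a => ?_⟩⟩
  · have h1 := congrArg (fun z => P.map (homOfLE (W_left_eq U a).le).op (LCech.coord U P a z)) h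
    simp only [coord_toTop, ← ConcreteCategory.comp_apply, ← Functor.map_comp] at h1
    rwa [Subsingleton.elim ((homOfLE (W_left_eq U a).ge).op ≫ (homOfLE (W_left_eq U a).le).op) (𝟙 _), P.map_id] at h1
  · rw [coord_toTop, H5Cech.coord_mk, ← ConcreteCategory.comp_apply, ← Functor.map_comp,
      Subsingleton.elim ((homOfLE (W_left_eq U a).le).op ≫ (homOfLE (W_left_eq U a).ge).op) (𝟙 _), P.map_id]
    rfl

noncomputable def iso : H5Cech.cplx (CechEdge.opensFam U) P ≅ LCech.cplx U P :=
  HomologicalComplex.Hom.isoOfComponents (fun n => (AddEquiv.ofBijective _ (toTop_bijective U P n)).toAddCommGrpIso) (fun i j hij => by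
    obtain rfl : i + 1 = j := hij
    ext c
    refine LCech.coord_ext U P fun a => ?_
    change LCech.coord U P a ((LCech.cplx U P).d i (i + 1) (toTop U P i c)) =
      LCech.coord U P a (toTop U P (i + 1) ((H5Cech.cplx (CechEdge.opensFam U) P).d i (i + 1) c))
    rw [LCech.coord_d, coord_toTop, H5Cech.coord_d]
    erw [map_sum]
    refine Finset.sum_congr rfl fun j _ => ?_
    erw [map_zsmul]
    rw [coord_toTop, LCech.rs, ← ConcreteCategory.comp_apply, ← Functor.map_comp,
      ← ConcreteCategory.comp_apply, ← Functor.map_comp]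
    rfl)

/-- Leray for a family of opens -/
theorem cech_eq (F : CohTop.Ab X)
    (h : ∀ (p : ℕ) (a : Fin (p + 1) → ι) (q : ℕ), Subsingleton (CohTop.HU F (q + 1) (iInf fun k => U (a k))))
    (p : ℕ) : Nonempty (CohTop.cechH F.obj U p ≃+ CohTop.HU F p (iSup U)) := by
  obtain ⟨e⟩ := H5Leray.cech_eq (J := Opens.grothendieckTopology X) (CechEdge.opensFam U) (fun x hx => by
      obtain ⟨i, hi⟩ := Opens.mem_iSup.1 hx
      exact ⟨U i, homOfLE (le_iSup U i), Sieve.le_generate _ _ _ ⟨i⟩, hi⟩) p F (fun n a q => by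
      change Subsingleton (CohTop.HU F (q + 1) (H5Cech.W (CechEdge.opensFam U) a).left)
      rw [W_left_eq, LCech.inter_eq_iInf]
      exact h n a q)
  exact ⟨((HomologicalComplex.homologyFunctor _ _ p).mapIso (iso U F.obj)).addCommGroupIsoToAddEquiv.symm.trans e⟩

end Groth.Agent.H5LerayTop
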