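import Mathlib
import Groth.Prelude
universe u
open CategoryTheory CategoryTheory.Limits Opposite
namespace Groth.Agent.H5LexRefl
set_option maxHeartbeats 600000

variable {C : Type u} [SmallCategory C] (P : ObjectProperty (Cᵒᵖ ⥤ Type u))
    [Reflective P.ι] [PreservesFiniteLimits (reflector P.ι)]

local notation "L" => reflector P.ι

lemma isIso_of_mono_of_epi' {A B : P.FullSubcategory} (m : A ⟶ B) [Mono m] [Epi m] : IsIso m := by
  let adj := reflectorAdjunction P.ι
  let w := (P.ι).map m
  haveI : Mono w := inferInstanceAs (Mono ((P.ι).map m))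
  have hpb : IsPullback w w (pushout.inl w w) (pushout.inr w w) :=
    Adhesive.isPullback_of_isPushout_of_mono_left (IsPushout.of_hasPushout w w)
  have hL := hpb.map L
  haveI : IsIso adj.counit := inferInstance
  have e : (L).map w ≫ adj.counit.app B = adj.counit.app A ≫ m := adj.counit.naturality m
  haveI : Epi ((L).map w) := by
    have h2 : (L).map w = adj.counit.app A ≫ m ≫ inv (adj.counit.app B) := by rw [← reassoc_of% e, IsIso.hom_inv_id, Category.comp_id]
    rw [h2]
    infer_instance
  have heq : (L).map (pushout.inl w w) = (L).map (pushout.inr w w) := by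
    rw [← cancel_epi ((L).map w)]; exact hL.w
  obtain ⟨h, hh, -⟩ : ∃ h, h ≫ (L).map w = 𝟙 _ ∧ h ≫ (L).map w = 𝟙 _ :=
    ⟨hL.lift (𝟙 _) (𝟙 _) (by rw [heq]), hL.lift_fst _ _ _, hL.lift_snd _ _ _⟩
  haveI : IsSplitEpi ((L).map w) := ⟨⟨⟨h, hh⟩⟩⟩
  haveI : Mono ((L).map w) := inferInstance
  haveI : IsIso ((L).map w) := isIso_of_mono_of_isSplitEpi _
  haveI : IsIso (adj.counit.app A ≫ m) := by rw [← e]; infer_instance
  exact IsIso.of_isIso_comp_left (adj.counit.app A) m

/-- sieve covering -/
def Cov {X : C} (S : Sieve X) : Prop := IsIso ((L).map S.functorInclusion)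

lemma cov_of {X : C} (S : Sieve X) {W : Cᵒᵖ ⥤ Type u} (w : W ⟶ yoneda.obj X) [hw : IsIso ((L).map w)]
    (h : ∀ (V : C) (x : W.obj (op V)), S.arrows (w.app (op V) x)) : Cov P S := by
  let l : W ⟶ S.functor :=
    { app := fun V => ↾fun x => ⟨w.app V x, h V.unop x⟩
      naturality := fun V V' f => by
        ext x
        apply Subtype.ext
        exact NatTrans.naturality_apply w f x }
  have hl : l ≫ S.functorInclusion = w := by ext V x; rfl
  haveI : IsSplitEpi ((L).map S.functorInclusion) :=
    ⟨⟨⟨inv ((L).map w) ≫ (L).map l, by rw [Category.assoc, ← Functor.map_comp, hl, IsIso.inv_hom_id]⟩⟩⟩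
  haveI : Mono ((L).map S.functorInclusion) := inferInstance
  exact isIso_of_mono_of_isSplitEpi _

lemma cov_top (X : C) : Cov P (⊤ : Sieve X) := by
  haveI : IsIso ((L).map (𝟙 (yoneda.obj X))) := inferInstance
  exact cov_of P _ (𝟙 (yoneda.obj X)) fun V x => trivial

lemma cov_pullback {X Y : C} (f : Y ⟶ X) {S : Sieve X} (hS : Cov P S) : Cov P (S.pullback f) := by
  have hpb := (IsPullback.of_hasPullback S.functorInclusion (yoneda.map f)).map L
  haveI : IsIso ((L).map S.functorInclusion) := hS
  haveI : IsIso ((L).map (pullback.snd S.functorInclusion (yoneda.map f))) := hpb.isIso_snd_of_isIso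
  refine cov_of P _ (pullback.snd S.functorInclusion (yoneda.map f)) fun V x => ?_
  have e := ConcreteCategory.congr_hom (congr_app (pullback.condition (f := S.functorInclusion) (g := yoneda.map f)) (op V)) x
  change S.arrows ((pullback.snd S.functorInclusion (yoneda.map f)).app (op V) x ≫ f)
  have := ((pullback.fst S.functorInclusion (yoneda.map f)).app (op V) x).2
  exact Eq.mp (congrArg (fun q : V ⟶ X => S.arrows q) e) this

lemma cov_trans {X : C} {S : Sieve X} (hS : Cov P S) (R : Sieve X)
    (h : ∀ ⦃Y⦄ ⦃f : Y ⟶ X⦄, S f → Cov P (R.pullback f)) : Cov P R := by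
  haveI : IsIso ((L).map S.functorInclusion) := hS
  haveI : Mono ((L).map R.functorInclusion) := inferInstance
  haveI : Epi ((L).map R.functorInclusion) := by
    refine ⟨fun {Z} a b hab => ?_⟩
    let adj := reflectorAdjunction P.ι
    let a' := adj.homEquiv _ _ a
    let b' := adj.homEquiv _ _ b
    have hab' : R.functorInclusion ≫ a' = R.functorInclusion ≫ b' := by
      simp only [a', b', ← Adjunction.homEquiv_naturality_left, hab]
    have hS' : S.functorInclusion ≫ a' = S.functorInclusion ≫ b' := by
      ext ⟨Y⟩ ⟨f, hf⟩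
      have hf' : yoneda.map f ≫ a' = yoneda.map f ≫ b' := by
        haveI : IsIso ((L).map (R.pullback f).functorInclusion) := h hf
        have hcomp : (R.pullback f).functorInclusion ≫ yoneda.map f ≫ a' = (R.pullback f).functorInclusion ≫ yoneda.map f ≫ b' := by
          ext ⟨Z⟩ ⟨g, hg⟩
          exact ConcreteCategory.congr_hom (congr_app hab' (op Z)) ⟨g ≫ f, hg⟩
        apply (adj.homEquiv _ _).symm.injective
        refine (cancel_epi ((L).map (R.pullback f).functorInclusion)).1 ?_
        exact (adj.homEquiv_naturality_left_symm _ _).symm.trans ((congrArg _ hcomp).trans (adj.homEquiv_naturality_left_symm _ _))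
      have := ConcreteCategory.congr_hom (congr_app hf' (op Y)) (𝟙 Y)
      simp only [NatTrans.comp_app, ConcreteCategory.comp_apply] at this
      have e : (yoneda.map f).app (op Y) (𝟙 Y) = f := Category.id_comp f
      rw [e] at this
      exact this
    have h2 := congrArg (adj.homEquiv _ _).symm hS'
    rw [Adjunction.homEquiv_naturality_left_symm, Adjunction.homEquiv_naturality_left_symm] at h2
    simpa [a', b'] using (cancel_epi _).1 h2
  exact isIso_of_mono_of_epi' P _

/-- the topology -/
def top : GrothendieckTopology C where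
  sieves X := {S | Cov P S}
  top_mem' X := cov_top P X
  pullback_stable' _ _ _ f hS := cov_pullback P f hS
  transitive' _ _ hS R h := cov_trans P hS R h

theorem exists_topology [P.IsClosedUnderIsomorphisms] :
    ∃ J : GrothendieckTopology C,
      (∀ (X : C) (S : Sieve X), S ∈ J X ↔ IsIso ((L).map S.functorInclusion)) ∧
      ∀ F : Cᵒᵖ ⥤ Type u, P F ↔ Presieve.IsSheaf J F := by
  refine ⟨top P, fun X S => Iff.rfl, fun F => ?_⟩
  let adj := reflectorAdjunction P.ι
  have sheaf : ∀ G : Cᵒᵖ ⥤ Type u, P G → Presieve.IsSheaf (top P) G := by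
    intro G hG X S hS
    rw [Presieve.isSheafFor_iff_yonedaSheafCondition]
    intro f
    haveI : IsIso ((L).map S.functorInclusion) := hS
    let Z : P.FullSubcategory := ⟨G, hG⟩
    refine ⟨adj.homEquiv _ Z (inv ((L).map S.functorInclusion) ≫ (adj.homEquiv _ Z).symm f), ?_, fun g hg => ?_⟩
    · change S.functorInclusion ≫ adj.homEquiv _ Z _ = f
      rw [← Adjunction.homEquiv_naturality_left, IsIso.hom_inv_id_assoc, Equiv.apply_symm_apply]
    · have : (adj.homEquiv _ Z).symm f = (L).map S.functorInclusion ≫ (adj.homEquiv _ Z).symm g := by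
        rw [← Adjunction.homEquiv_naturality_left_symm]; exact congrArg _ hg.symm
      rw [this, IsIso.inv_hom_id_assoc, Equiv.apply_symm_apply]
  refine ⟨sheaf F, fun hF => ?_⟩
  let η := adj.unit.app F
  haveI hLη : IsIso ((L).map η) := by
    haveI : IsIso (adj.counit.app ((L).obj F)) := inferInstance
    have := adj.left_triangle_components F
    haveI : IsIso ((L).map η ≫ adj.counit.app ((L).obj F)) := by rw [this]; exact IsIso.id _
    exact IsIso.of_isIso_comp_right _ (adj.counit.app ((L).obj F))
  let Fs : Sheaf (top P) (Type u) := ⟨F, (isSheaf_iff_isSheaf_of_type _ _).2 hF⟩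
  let Gs : Sheaf (top P) (Type u) := ⟨P.ι.obj ((L).obj F), (isSheaf_iff_isSheaf_of_type _ _).2 (sheaf _ ((L).obj F).2)⟩
  let ηs : Fs ⟶ Gs := ⟨η⟩
  have hinj : Sheaf.IsLocallyInjective ηs := ⟨fun {W} a b hab => by
    obtain ⟨W⟩ := W
    let a' : yoneda.obj W ⟶ F := yonedaEquiv.symm a
    let b' : yoneda.obj W ⟶ F := yonedaEquiv.symm b
    have he : (L).map a' = (L).map b' := by
      rw [← cancel_mono ((L).map η), ← Functor.map_comp, ← Functor.map_comp]
      congr 1
      apply yonedaEquiv.injective
      rw [yonedaEquiv_comp, yonedaEquiv_comp, Equiv.apply_symm_apply, Equiv.apply_symm_apply]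
      exact hab
    have hl := isLimitForkMapOfIsLimit (L) _ (equalizerIsEqualizer a' b')
    haveI : IsIso ((L).map (equalizer.ι a' b')) :=
      isIso_limit_cone_parallelPair_of_eq he hl
    refine cov_of P _ (equalizer.ι a' b') fun V x => ?_
    exact ConcreteCategory.congr_hom (congr_app (equalizer.condition a' b') (op V)) x⟩
  have hsurj : Sheaf.IsLocallySurjective ηs := ⟨fun {W} t => by
    let t' : yoneda.obj W ⟶ P.ι.obj ((L).obj F) := yonedaEquiv.symm t
    have hpb := (IsPullback.of_hasPullback η t').map L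
    haveI : IsIso ((L).map (pullback.snd η t')) := hpb.isIso_snd_of_isIso
    refine cov_of P _ (pullback.snd η t') fun V x => ?_
    refine ⟨(pullback.fst η t').app (op V) x, ?_⟩
    exact ConcreteCategory.congr_hom (congr_app (pullback.condition (f := η) (g := t')) (op V)) x⟩
  haveI : IsIso ηs := (Sheaf.isLocallyBijective_iff_isIso ηs).1 ⟨hinj, hsurj⟩
  haveI : IsIso η := inferInstanceAs (IsIso ((sheafToPresheaf _ _).map ηs))
  exact P.prop_of_iso (asIso η).symm ((L).obj F).2

end Groth.Agent.H5LexRefl
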