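import Mathlib
set_option autoImplicit false
universe u
open Pointwise

namespace Groth.Agent.H5LocProf

/-- maximal subgroup avoiding a nonzero element of a finitely generated abelian group has finite index -/
theorem exists_finiteIndex_notMem {A : Type u} [AddCommGroup A] [AddGroup.FG A] {b : A} (hb : b ≠ 0) :
    ∃ H : AddSubgroup A, H.FiniteIndex ∧ b ∉ H := by
  classical
  have : Module.Finite ℤ A := Module.Finite.iff_addGroup_fg.2 inferInstance
  have : IsNoetherian ℤ A := inferInstance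
  obtain ⟨N, hN, hmax⟩ := set_has_maximal_iff_noetherian.2 this {N : Submodule ℤ A | b ∉ N}
    ⟨⊥, by simpa using hb⟩
  have hbq : N.mkQ b ≠ 0 := fun h => hN ((Submodule.Quotient.mk_eq_zero N).1 h)
  have key : ∀ y : A ⧸ N, y ≠ 0 → N.mkQ b ∈ Submodule.span ℤ {y} := by
    intro y hy
    by_contra hc
    obtain ⟨a, rfl⟩ := N.mkQ_surjective y
    have hlt : N < Submodule.comap N.mkQ (Submodule.span ℤ {N.mkQ a}) := by
      refine lt_of_le_of_ne (fun x hx => ?_) fun e => hy ?_
      · show N.mkQ x ∈ Submodule.span ℤ {N.mkQ a}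
        rw [show N.mkQ x = 0 from (Submodule.Quotient.mk_eq_zero N).2 hx]
        exact zero_mem (Submodule.span ℤ {N.mkQ a})
      · have : a ∈ N := by rw [e]; exact Submodule.subset_span rfl
        exact (Submodule.Quotient.mk_eq_zero N).2 this
    exact hmax _ hc hlt
  have htb : IsOfFinAddOrder (N.mkQ b) := by
    rw [isOfFinAddOrder_iff_zsmul_eq_zero]
    by_cases h2 : (2 : ℤ) • N.mkQ b = 0
    · exact ⟨2, by norm_num, h2⟩
    · obtain ⟨c, hc⟩ := Submodule.mem_span_singleton.1 (key _ h2)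
      refine ⟨2 * c - 1, by omega, ?_⟩
      rw [sub_smul, one_smul, mul_comm, mul_smul, hc, sub_self]
  have htor : IsAddTorsion (A ⧸ N) := by
    intro y
    by_cases hy : y = 0
    · subst hy; exact IsOfFinAddOrder.zero
    obtain ⟨c, hc⟩ := Submodule.mem_span_singleton.1 (key y hy)
    obtain ⟨n, hn, hn0⟩ := isOfFinAddOrder_iff_zsmul_eq_zero.1 htb
    refine isOfFinAddOrder_iff_zsmul_eq_zero.2 ⟨n * c, mul_ne_zero hn ?_, by rw [mul_smul, hc, hn0]⟩
    rintro rfl
    exact hbq (by rw [← hc, zero_smul])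
  have : AddGroup.FG (A ⧸ N) := Module.Finite.iff_addGroup_fg.1 inferInstance
  have : Finite (A ⧸ N) := AddCommGroup.finite_of_fg_isAddTorsion _ htor
  have : Finite (A ⧸ N.toAddSubgroup) := this
  exact ⟨N.toAddSubgroup, AddSubgroup.finiteIndex_of_finite_quotient, hN⟩

theorem exists_open_finiteIndex {B : Type u} [AddCommGroup B] [TopologicalSpace B] [IsTopologicalAddGroup B]
    [T2Space B] [LocallyCompactSpace B] [TotallyDisconnectedSpace B]
    (hcg : ∃ K : Set B, IsCompact K ∧ AddSubgroup.closure K = ⊤) (b : B) (hb : b ≠ 0) :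
    ∃ B' : AddSubgroup B, IsOpen (B' : Set B) ∧ B'.FiniteIndex ∧ b ∉ B' := by
  obtain ⟨S, hS, h0S, hSb⟩ := exists_compact_subset (isOpen_compl_singleton (x := b)) (show (0 : B) ∈ ({b}ᶜ : Set B) from hb.symm)
  obtain ⟨C, hCc, h0C, hCS⟩ := loc_compact_Haus_tot_disc_of_zero_dim.exists_subset_of_mem_open h0S isOpen_interior
  have hC : IsCompact C ∧ IsClopen C := ⟨hS.of_isClosed_subset hCc.1 (hCS.trans interior_subset), hCc⟩
  have hbC : b ∉ C := fun h => hSb (interior_subset (hCS h)) rfl
  obtain ⟨V, hV, hCV⟩ := compact_open_separated_add_right hC.1 hC.2.isOpen (subset_refl (C : Set B))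
  let U : AddSubgroup B := AddAction.stabilizer B (C : Set B)
  have hU : IsOpen (U : Set B) := by
    refine U.isOpen_of_mem_nhds (g := 0) ?_
    refine Filter.mem_of_superset (Filter.inter_mem hV (neg_mem_nhds_zero B hV)) ?_
    intro v hv
    show v +ᵥ (C : Set B) = C
    refine Set.Subset.antisymm ?_ ?_
    · rintro _ ⟨c, hc, rfl⟩; exact hCV ⟨c, hc, v, hv.1, add_comm c v⟩
    · intro c hc
      exact ⟨c + -v, hCV ⟨c, hc, -v, hv.2, rfl⟩, by simp⟩
  have hbU : b ∉ U := fun h => hbC (by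
    have : b +ᵥ (C : Set B) = C := h
    rw [← this]; exact ⟨0, h0C, add_zero b⟩)
  obtain ⟨K, hK, hKt⟩ := hcg
  have : DiscreteTopology (B ⧸ U) := QuotientAddGroup.discreteTopology hU
  have hfin : (QuotientAddGroup.mk '' K : Set (B ⧸ U)).Finite :=
    (hK.image continuous_quotient_mk').finite_of_discrete
  have : AddGroup.FG (B ⧸ U) := AddGroup.fg_iff.2 ⟨_, by
    have := AddMonoidHom.map_closure (QuotientAddGroup.mk' U) K
    rw [hKt, AddSubgroup.map_top_of_surjective _ (QuotientAddGroup.mk'_surjective U)] at this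
    exact this.symm, hfin⟩
  obtain ⟨H, hH, hbH⟩ := exists_finiteIndex_notMem (A := B ⧸ U) (b := (b : B ⧸ U))
    (fun h => hbU ((QuotientAddGroup.eq_zero_iff b).1 h))
  refine ⟨H.comap (QuotientAddGroup.mk' U), ?_, ?_, hbH⟩
  · exact (isOpen_discrete (H : Set (B ⧸ U))).preimage continuous_quotient_mk'
  · exact ⟨by rw [AddSubgroup.index_comap_of_surjective _ (QuotientAddGroup.mk'_surjective U)]; exact hH.index_ne_zero⟩

end Groth.Agent.H5LocProf
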