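import Mathlib

open CategoryTheory CategoryTheory.Limits CategoryTheory.Pretriangulated

namespace Groth.Agent.H5MS2

universe v u

theorem ms2 {D : Type u} [Category.{v} D] [Preadditive D] [HasZeroObject D] [HasShift D ℤ]
    [∀ n : ℤ, (shiftFunctor D n).Additive] [Pretriangulated D]
    (S : MorphismProperty D) [S.IsMultiplicative] [S.IsCompatibleWithTriangulation] :
    (∀ {X Y X' : D} (f : X ⟶ Y) (t : X ⟶ X'), S t →
      ∃ (Y' : D) (f' : X' ⟶ Y') (s' : Y ⟶ Y'), S s' ∧ f ≫ s' = t ≫ f') ∧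
    (∀ {X Y Y' : D} (f : X ⟶ Y) (s : Y' ⟶ Y), S s →
      ∃ (X' : D) (f' : X' ⟶ Y') (t' : X' ⟶ X), S t' ∧ t' ≫ f = f' ≫ s) := by
  constructor
  · intro X Y X' f t ht
    obtain ⟨C, c, h, hT⟩ := distinguished_cocone_triangle₁ f
    obtain ⟨Y', f', h', hT'⟩ := distinguished_cocone_triangle (c ≫ t)
    obtain ⟨s', hs', e, -⟩ := S.compatible_with_triangulation _ _ hT hT' (𝟙 C) t (S.id_mem C) ht
      (by exact (Category.id_comp _).symm)
    exact ⟨Y', f', s', hs', e⟩
  · intro X Y Y' f s hs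
    obtain ⟨C, g, h, hT⟩ := distinguished_cocone_triangle f
    obtain ⟨X', f', h', hT'⟩ := distinguished_cocone_triangle₁ (s ≫ g)
    obtain ⟨c, hc, -, e⟩ := S.compatible_with_triangulation _ _ (rot_of_distTriang _ hT')
      (rot_of_distTriang _ hT) s (𝟙 C) hs (S.id_mem C) (by exact Category.comp_id _)
    obtain ⟨t', ht'⟩ := (shiftFunctor D (1 : ℤ)).map_surjective c
    replace e : (-(shiftFunctor D (1 : ℤ)).map f') ≫ (shiftFunctor D (1 : ℤ)).map s =
        c ≫ (-(shiftFunctor D (1 : ℤ)).map f) := e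
    refine ⟨X', f', t', (MorphismProperty.IsCompatibleWithShift.iff S t' (1 : ℤ)).1 (by erw [ht']; exact hc), ?_⟩
    apply (shiftFunctor D (1 : ℤ)).map_injective
    rw [Functor.map_comp, Functor.map_comp]
    erw [ht']
    exact neg_injective ((Preadditive.comp_neg _ _).symm.trans (e.symm.trans (Preadditive.neg_comp _ _)))

end Groth.Agent.H5MS2
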