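import Mathlib
import Groth.Prelude.Def_W4c3perfectstacksMV

open CategoryTheory CategoryTheory.Limits CategoryTheory.Pretriangulated
open W4c3perfectstacks W4c3perfectstacks.MVSq

namespace Groth.Agent.H5MVBij

universe v u

theorem mv_bij
    (S S' R R' : Type u) [Category.{v} S] [Category.{v} S'] [Category.{v} R] [Category.{v} R']
    [Preadditive S] [Preadditive S'] [Preadditive R] [Preadditive R']
    [HasZeroObject S] [HasZeroObject S'] [HasZeroObject R] [HasZeroObject R']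
    [HasShift S ℤ] [HasShift S' ℤ] [HasShift R ℤ] [HasShift R' ℤ]
    [∀ n : ℤ, (shiftFunctor S n).Additive] [∀ n : ℤ, (shiftFunctor S' n).Additive]
    [∀ n : ℤ, (shiftFunctor R n).Additive] [∀ n : ℤ, (shiftFunctor R' n).Additive]
    [Pretriangulated S] [Pretriangulated S'] [Pretriangulated R] [Pretriangulated R']
    (q : W4c3perfectstacks.MVSq S S' R R')
    [q.jst.CommShift ℤ] [q.fst.CommShift ℤ] [q.jpst.CommShift ℤ] [q.gst.CommShift ℤ]
    [q.jst.IsTriangulated] [q.fst.IsTriangulated] [q.jpst.IsTriangulated] [q.gst.IsTriangulated]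
    (hq : q.IsMV) (M : S') (hM : IsZero (q.jpst.obj M)) (N : S) :
    Function.Bijective (fun g : q.fls.obj M ⟶ N => q.fst.map g) := by
  have := q.adjG.right_adjoint_additive
  have := hq.isIso_counitJ
  have := hq.isIso_bcApp M
  let K := q.fls.obj M
  have hK : IsZero (q.jst.obj K) := (q.gls.map_isZero hM).of_iso (asIso (q.bcApp M))
  have hfK : IsZero (q.jpst.obj (q.fst.obj K)) :=
    (q.gst.map_isZero hK).of_iso (q.e.app K).symm
  obtain ⟨N', i, h, hT⟩ := distinguished_cocone_triangle₁ (q.adjJ.unit.app N)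
  have hη : IsIso (q.jst.map (q.adjJ.unit.app N)) := by
    rw [show q.jst.map (q.adjJ.unit.app N) = inv (q.adjJ.counit.app (q.jst.obj N)) from IsIso.eq_inv_of_inv_hom_id (q.adjJ.left_triangle_components N)]
    infer_instance
  have hN' : IsZero (q.jst.obj N') :=
    (Triangle.isZero₁_iff_isIso₂ _ (q.jst.map_distinguished _ hT)).2 hη
  have := hq.isIso_unitF N' hN'
  have hbij : ∀ ψ : q.fst.obj K ⟶ q.fst.obj N', ∃! φ : K ⟶ N', q.fst.map φ = ψ := by
    intro ψ
    refine ⟨q.adjF.homEquiv _ _ ψ ≫ inv (q.adjF.unit.app N'), ?_, ?_⟩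
    · apply (q.adjF.homEquiv _ _).injective
      simp [Adjunction.homEquiv_unit, ← Functor.map_comp]
    · rintro φ rfl
      simp [Adjunction.homEquiv_unit]
  -- orthogonality
  have := hq.isIso_bc2App (q.jst.obj N)
  have orth : ∀ (A : S'), IsZero (q.jpst.obj A) →
      ∀ a : A ⟶ q.fst.obj (q.jls.obj (q.jst.obj N)), a = 0 := by
    intro A hA a
    rw [← cancel_mono (q.bc2App (q.jst.obj N)), zero_comp]
    exact (q.adjJp.homEquiv _ _).symm.injective (hA.eq_of_src _ _)
  have hTf := q.fst.map_distinguished _ hT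
  have orth1 : ∀ a : q.fst.obj K ⟶ (q.fst.obj (q.jls.obj (q.jst.obj N)))⟦(-1 : ℤ)⟧, a = 0 := by
    intro a
    apply (shiftFunctor S' (1 : ℤ)).map_injective
    have hA : IsZero (q.jpst.obj ((q.fst.obj K)⟦(1 : ℤ)⟧)) :=
      ((shiftFunctor R' (1 : ℤ)).map_isZero hfK).of_iso ((q.jpst.commShiftIso (1 : ℤ)).app _)
    refine (cancel_mono ((shiftEquiv S' (1 : ℤ)).counitIso.app (q.fst.obj (q.jls.obj (q.jst.obj N)))).hom).1 ?_
    exact (orth _ hA _).trans (orth _ hA _).symm
  constructor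
  · intro g₁ g₂ hg
    rw [← sub_eq_zero]
    set g := g₁ - g₂ with hgdef
    have hfg : q.fst.map g = 0 := by simp [g]; simpa [sub_eq_zero] using hg
    obtain ⟨φ, hφ⟩ := Triangle.coyoneda_exact₂ _ hT g ((q.adjJ.homEquiv _ _).symm.injective (hK.eq_of_src _ _))
    have hz : q.fst.map φ = 0 := by
      obtain ⟨a, ha⟩ := Triangle.coyoneda_exact₂ _ (inv_rot_of_distTriang _ hTf) (q.fst.map φ) (by
        change q.fst.map φ ≫ q.fst.map i = 0
        have e : g = φ ≫ i := hφ
        rw [← Functor.map_comp, ← e, hfg])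
      rw [ha, orth1 a]
      exact zero_comp
    have : φ = 0 := (hbij 0).unique hz (q.fst.map_zero _ _)
    rw [hφ, this]
    exact zero_comp
  · intro ψ
    obtain ⟨ψ', hψ⟩ := Triangle.coyoneda_exact₂ _ hTf ψ (orth _ hfK _)
    obtain ⟨φ, hφ, -⟩ := hbij ψ'
    refine ⟨φ ≫ i, ?_⟩
    change q.fst.map (φ ≫ i) = ψ
    rw [Functor.map_comp, hφ, hψ]
    rfl

end Groth.Agent.H5MVBij
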