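import Mathlib
import Groth.Prelude.Def_W4c3perfectstacksMV

open CategoryTheory CategoryTheory.Limits CategoryTheory.Pretriangulated
open W4c3perfectstacks W4c3perfectstacks.MVSq

namespace Groth.Agent.H5MVNat

universe v u

theorem mv_nat
    (S S' R R' : Type u) [Category.{v} S] [Category.{v} S'] [Category.{v} R] [Category.{v} R']
    [Preadditive S] [Preadditive S'] [Preadditive R] [Preadditive R']
    [HasZeroObject S] [HasZeroObject S']
    [HasShift S ℤ] [HasShift S' ℤ]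
    [∀ n : ℤ, (shiftFunctor S n).Additive] [∀ n : ℤ, (shiftFunctor S' n).Additive]
    [Pretriangulated S] [Pretriangulated S'] [IsTriangulated S]
    (q : W4c3perfectstacks.MVSq S S' R R')
    [q.fst.CommShift ℤ]
    (N₁ N₂ : S) (φ : N₁ ⟶ N₂)
    (d₁ : q.fls.obj (q.fst.obj (q.jls.obj (q.jst.obj N₁))) ⟶ N₁⟦(1 : ℤ)⟧)
    (d₂ : q.fls.obj (q.fst.obj (q.jls.obj (q.jst.obj N₂))) ⟶ N₂⟦(1 : ℤ)⟧)
    (h₁ : Triangle.mk (biprod.lift (q.adjJ.unit.app N₁) (q.adjF.unit.app N₁))
        (biprod.desc (q.adjF.unit.app (q.jls.obj (q.jst.obj N₁)))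
          (-(q.fls.map (q.fst.map (q.adjJ.unit.app N₁))))) d₁ ∈ distTriang S)
    (h₂ : Triangle.mk (biprod.lift (q.adjJ.unit.app N₂) (q.adjF.unit.app N₂))
        (biprod.desc (q.adjF.unit.app (q.jls.obj (q.jst.obj N₂)))
          (-(q.fls.map (q.fst.map (q.adjJ.unit.app N₂))))) d₂ ∈ distTriang S) :
    d₁ ≫ (shiftFunctor S (1 : ℤ)).map φ = q.fls.map (q.fst.map (q.jls.map (q.jst.map φ))) ≫ d₂ := by
  have comm2 : biprod.desc (q.adjF.unit.app (q.jls.obj (q.jst.obj N₁)))
          (-(q.fls.map (q.fst.map (q.adjJ.unit.app N₁)))) ≫ q.fls.map (q.fst.map (q.jls.map (q.jst.map φ)))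
        = biprod.map (q.jls.map (q.jst.map φ)) (q.fls.map (q.fst.map φ)) ≫
          biprod.desc (q.adjF.unit.app (q.jls.obj (q.jst.obj N₂)))
          (-(q.fls.map (q.fst.map (q.adjJ.unit.app N₂)))) := by
    ext
    · simp only [biprod.inl_desc_assoc, biprod.inl_map_assoc, biprod.inl_desc]
      exact (q.adjF.unit.naturality _).symm
    · simp only [biprod.inr_desc_assoc, biprod.inr_map_assoc, biprod.inr_desc, Preadditive.neg_comp,
        Preadditive.comp_neg, ← Functor.map_comp]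
      congr 3
      exact (q.adjJ.unit.naturality φ).symm
  obtain ⟨(a : N₁ ⟶ N₂), ha1, ha2⟩ := complete_distinguished_triangle_morphism₁ _ _ h₁ h₂
    (biprod.map (q.jls.map (q.jst.map φ)) (q.fls.map (q.fst.map φ))) _ comm2
  dsimp at a ha1 ha2
  have key : d₁ ≫ (shiftFunctor S (1 : ℤ)).map (a - φ) = 0 := by
    have hz : (a - φ) ≫ biprod.lift (q.adjJ.unit.app N₂) (q.adjF.unit.app N₂) = 0 := by
      have ha1' : biprod.lift (q.adjJ.unit.app N₁) (q.adjF.unit.app N₁) ≫
          biprod.map (q.jls.map (q.jst.map φ)) (q.fls.map (q.fst.map φ)) =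
          a ≫ biprod.lift (q.adjJ.unit.app N₂) (q.adjF.unit.app N₂) := ha1
      rw [Preadditive.sub_comp, ← ha1']
      ext
      · simp
      · simp
    obtain ⟨g, hg⟩ := Triangle.coyoneda_exact₁ _ h₂ ((shiftFunctor S (1 : ℤ)).map (a - φ)) (by
      change (shiftFunctor S (1 : ℤ)).map (a - φ) ≫ (shiftFunctor S (1 : ℤ)).map
        (biprod.lift (q.adjJ.unit.app N₂) (q.adjF.unit.app N₂)) = 0
      rw [← Functor.map_comp, hz, Functor.map_zero])
    replace hg : (shiftFunctor S (1 : ℤ)).map (a - φ) = g ≫ d₂ := hg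
    let ψ := (q.adjF.homEquiv _ _).symm g
    let Q := q.fls.obj (q.fst.obj N₁)
    let r : Q⟦(1:ℤ)⟧ ⟶ q.fls.obj (q.fst.obj (q.jls.obj (q.jst.obj N₂))) :=
      q.adjF.unit.app _ ≫ q.fls.map ((q.fst.commShiftIso (1:ℤ)).hom.app _ ≫
        (shiftFunctor S' (1:ℤ)).map (q.adjF.counit.app _) ≫
        (q.fst.commShiftIso (1:ℤ)).inv.app _ ≫ ψ)
    have hr : (shiftFunctor S (1:ℤ)).map (q.adjF.unit.app N₁) ≫ r = g := by
      have nat := (q.fst.commShiftIso (1:ℤ)).hom.naturality (q.adjF.unit.app N₁)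
      dsimp at nat
      simp only [r]
      refine (q.adjF.unit.naturality_assoc _ _).trans ?_
      dsimp
      rw [← Functor.map_comp, reassoc_of% nat, ← Functor.map_comp_assoc,
        Adjunction.left_triangle_components]
      simp [ψ, Adjunction.homEquiv_counit]
    have z := comp_distTriang_mor_zero₃₁ _ h₁
    replace z : d₁ ≫ (shiftFunctor S (1 : ℤ)).map (biprod.lift (q.adjJ.unit.app N₁) (q.adjF.unit.app N₁)) = 0 := z
    rw [hg, ← hr, ← biprod.lift_snd (q.adjJ.unit.app N₁) (q.adjF.unit.app N₁), Functor.map_comp]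
    erw [Category.assoc, Category.assoc]
    exact (Category.assoc _ _ _).symm.trans ((z =≫ _).trans zero_comp)
  rw [Functor.map_sub, Preadditive.comp_sub, sub_eq_zero] at key
  rw [← key]
  exact ha2

end Groth.Agent.H5MVNat
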