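import Mathlib
set_option autoImplicit false
universe u v w u₁ v₁ u₂ v₂
open CategoryTheory CategoryTheory.Limits

namespace Groth.Agent.H5Misc

theorem pb_po {A : Type u} [Category.{v} A] [Abelian A] {w x y z : A} (f : w ⟶ y) (g : w ⟶ x) (h : y ⟶ z) (k : x ⟶ z) (sq : IsPullback f g h k) [Epi k] : IsPushout f g h k ∧ Epi f := by
  have hepi : Epi f := Abelian.epi_fst_of_isLimit h k sq.isLimit
  have : Epi sq.shortComplex'.g := by
    have : Epi (biprod.inr ≫ biprod.desc h (-k)) := by
      rw [biprod.inr_desc]; infer_instance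
    exact epi_of_epi biprod.inr (biprod.desc h (-k))
  have hc := sq.exact_shortComplex'.gIsCokernel
  have key : ∀ {T : A} (a : y ⟶ T) (b : x ⟶ T), f ≫ a = g ≫ b → ∃ d : z ⟶ T, h ≫ d = a ∧ k ≫ d = b := by
    intro T a b hab
    have hz : biprod.lift f g ≫ biprod.desc a (-b) = 0 := by simp [hab]
    obtain ⟨d, hd⟩ : ∃ d : z ⟶ T, biprod.desc h (-k) ≫ d = biprod.desc a (-b) :=
      ⟨_, (CokernelCofork.IsColimit.desc' hc (biprod.desc a (-b)) hz).2⟩
    refine ⟨d, ?_, ?_⟩
    · simpa using biprod.inl ≫= hd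
    · simpa using biprod.inr ≫= hd
  refine ⟨⟨⟨sq.w⟩, ⟨PushoutCocone.IsColimit.mk sq.w
    (fun s => (key s.inl s.inr s.condition).choose)
    (fun s => (key s.inl s.inr s.condition).choose_spec.1)
    (fun s => (key s.inl s.inr s.condition).choose_spec.2)
    (fun s m _ h2 => (cancel_epi k).1 (h2.trans (key s.inl s.inr s.condition).choose_spec.2.symm))⟩⟩, hepi⟩

theorem po_pb {A : Type u} [Category.{v} A] [Abelian A] {w x y z : A} (f : w ⟶ y) (g : w ⟶ x) (h : y ⟶ z) (k : x ⟶ z) (sq : IsPushout f g h k) [Mono g] : IsPullback f g h k ∧ Mono h := by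
  have hmono : Mono h := Abelian.mono_inl_of_isColimit f g sq.isColimit
  have : Mono sq.shortComplex.f := by
    have : Mono (biprod.lift f (-g) ≫ biprod.snd) := by
      rw [biprod.lift_snd]; infer_instance
    exact mono_of_mono (biprod.lift f (-g)) biprod.snd
  have hc := sq.exact_shortComplex.fIsKernel
  have key : ∀ {T : A} (a : T ⟶ y) (b : T ⟶ x), a ≫ h = b ≫ k → ∃ d : T ⟶ w, d ≫ f = a ∧ d ≫ g = b := by
    intro T a b hab
    have hz : biprod.lift a (-b) ≫ biprod.desc h k = 0 := by simp [hab]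
    obtain ⟨d, hd⟩ : ∃ d : T ⟶ w, d ≫ biprod.lift f (-g) = biprod.lift a (-b) :=
      ⟨_, (KernelFork.IsLimit.lift' hc (biprod.lift a (-b)) hz).2⟩
    refine ⟨d, ?_, ?_⟩
    · simpa using hd =≫ biprod.fst
    · simpa using hd =≫ biprod.snd
  refine ⟨⟨⟨sq.w⟩, ⟨PullbackCone.IsLimit.mk sq.w
    (fun s => (key s.fst s.snd s.condition).choose)
    (fun s => (key s.fst s.snd s.condition).choose_spec.1)
    (fun s => (key s.fst s.snd s.condition).choose_spec.2)
    (fun s m _ h2 => (cancel_mono g).1 (h2.trans (key s.fst s.snd s.condition).choose_spec.2.symm))⟩⟩, hmono⟩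

theorem topGen {C : Type u₁} [Category.{v₁} C] (J : GrothendieckTopology C) (G : ObjectProperty C)
    (hG : ∀ X : C, Sieve.generate (fun Y => {_f : Y ⟶ X | G Y}) ∈ J X)
    {X : C} (S : Sieve X) (hS : S ∈ J X) :
    Sieve.generate (fun Y => {f : Y ⟶ X | G Y ∧ S.arrows f}) ∈ J X := by
  refine J.transitive hS _ fun Y f hf => ?_
  refine J.superset_covering ?_ (hG Y)
  rintro Z q ⟨W, a, b, hb, rfl⟩
  exact ⟨W, a, b ≫ f, ⟨hb, S.downward_closed hf b⟩, by simp⟩

theorem cosep {E : Type u₁} [Category.{v₁} E] {C D : ObjectProperty E} (hC : C.IsSeparating) :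
    D.IsCoseparating ↔
      ∀ (T X : E), C T → ∀ (u v : T ⟶ X), u ≠ v →
        ∃ (I : E) (_ : D I) (w : X ⟶ I), u ≫ w ≠ v ≫ w := by
  constructor
  · intro hD T X _ u v hne
    by_contra h
    push Not at h
    exact hne (hD _ _ fun I hI w => h I hI w)
  · intro h Y X u v huv
    refine hC _ _ fun T hT t => ?_
    by_contra hne
    obtain ⟨I, hI, w, hw⟩ := h T X hT _ _ hne
    exact hw (by rw [Category.assoc, Category.assoc, huv I hI w])

theorem zig {I : Type u} [Category.{v} I]
    (h : ∀ ⦃x y z : I⦄ (f : x ⟶ y) (g : x ⟶ z), ∃ (w : I) (a : y ⟶ w) (b : z ⟶ w), f ≫ a = g ≫ b)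
    (x y : I) :
    Zigzag x y ↔ ∃ z : I, Nonempty (x ⟶ z) ∧ Nonempty (y ⟶ z) := by
  constructor
  · intro hz
    induction hz with
    | refl => exact ⟨x, ⟨𝟙 x⟩, ⟨𝟙 x⟩⟩
    | tail _ hab ih =>
      obtain ⟨z, ⟨f⟩, ⟨g⟩⟩ := ih
      rcases hab with ⟨⟨k⟩⟩ | ⟨⟨k⟩⟩
      · obtain ⟨w, a, b, -⟩ := h g k
        exact ⟨w, ⟨f ≫ a⟩, ⟨b⟩⟩
      · exact ⟨z, ⟨f⟩, ⟨k ≫ g⟩⟩
  · rintro ⟨z, ⟨f⟩, ⟨g⟩⟩
    exact (Zigzag.of_hom f).trans (Zigzag.of_hom g).symm

section
variable {A : Type u} [AddCommGroup A] (a : A) (ha : a ≠ 0) (h : ∀ B : AddSubgroup A, B ≠ ⊥ → a ∈ B)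
include ha h

theorem mem_zmultiples_of_prime {q : ℕ} (hq : q.Prime) {y : A} (hy : q • y = 0) :
    y = 0 ∨ (addOrderOf a = q ∧ y ∈ AddSubgroup.zmultiples a) := by
  by_cases hy0 : y = 0
  · exact Or.inl hy0
  refine Or.inr ?_
  have := Fact.mk hq
  have hoy : addOrderOf y = q := addOrderOf_eq_prime hy hy0
  have hay : a ∈ AddSubgroup.zmultiples y := h _ (by simpa using hy0)
  obtain ⟨k, rfl⟩ := AddSubgroup.mem_zmultiples_iff.1 hay
  have hqa : q • (k • y) = 0 := by rw [smul_comm, hy, smul_zero]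
  have hoa : addOrderOf (k • y) = q := addOrderOf_eq_prime hqa ha
  refine ⟨hoa, ?_⟩
  have hle : AddSubgroup.zmultiples (k • y) ≤ AddSubgroup.zmultiples y := by
    simpa using hay
  have hfin : (AddSubgroup.zmultiples y : Set A).Finite := by
    have : Finite (AddSubgroup.zmultiples y) := Nat.finite_of_card_ne_zero (by simpa [Nat.card_zmultiples, hoy] using hq.ne_zero)
    exact Set.toFinite _
  have := Set.eq_of_subset_of_ncard_le hle (le_of_eq (by
    rw [← Nat.card_coe_set_eq, ← Nat.card_coe_set_eq]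
    exact (Nat.card_zmultiples y).trans (hoy.trans (hoa.symm.trans (Nat.card_zmultiples (k • y)).symm)))) hfin
  exact (Set.ext_iff.1 this y).2 (AddSubgroup.mem_zmultiples y)

theorem torsion_small : ∀ n : ℕ, n ≠ 0 → ({y : A | n • y = 0}).Finite ∧ ({y : A | n • y = 0}).ncard ≤ n := by
  intro n
  induction n using Nat.recOnMul with
  | zero => intro h; exact absurd rfl h
  | one => intro _; simp
  | prime q hq =>
    intro _
    by_cases hc : addOrderOf a = q
    · have hsub : {y : A | q • y = 0} ⊆ (AddSubgroup.zmultiples a : Set A) := by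
        intro y hy
        rcases mem_zmultiples_of_prime a ha h hq hy with rfl | ⟨-, h2⟩
        · exact zero_mem _
        · exact h2
      have hcard : Nat.card (AddSubgroup.zmultiples a) = q := by rw [Nat.card_zmultiples, hc]
      have : Finite (AddSubgroup.zmultiples a) := Nat.finite_of_card_ne_zero (hcard ▸ hq.ne_zero)
      refine ⟨(Set.toFinite _).subset hsub, ?_⟩
      exact (Set.ncard_le_ncard hsub (Set.toFinite _)).trans (le_of_eq ((Nat.card_coe_set_eq _).symm.trans hcard))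
    · have hsub : {y : A | q • y = 0} ⊆ {0} := by
        intro y hy
        rcases mem_zmultiples_of_prime a ha h hq hy with rfl | ⟨h1, -⟩
        · rfl
        · exact absurd h1 hc
      exact ⟨(Set.finite_singleton _).subset hsub,
        (Set.ncard_le_ncard hsub).trans (by rw [Set.ncard_singleton]; exact hq.one_le)⟩
  | mul m n ihm ihn =>
    intro hmn
    obtain ⟨hfm, hcm⟩ := ihm (left_ne_zero_of_mul hmn)
    obtain ⟨hfn, hcn⟩ := ihn (right_ne_zero_of_mul hmn)
    classical
    let Q : A →+ A := nsmulAddMonoidHom n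
    let Km : AddSubgroup A := (nsmulAddMonoidHom m : A →+ A).ker
    let Kn : AddSubgroup A := Q.ker
    let K : AddSubgroup A := (nsmulAddMonoidHom (m * n) : A →+ A).ker
    have e1 : ∀ r : ℕ, {y : A | r • y = 0} = ((nsmulAddMonoidHom r : A →+ A).ker : Set A) := fun r => rfl
    rw [e1] at hfm hfn hcm hcn ⊢
    let φ : K →+ Km := (Q.comp K.subtype).codRestrict Km fun y => by
      show m • n • (y : A) = 0
      rw [← mul_smul]; exact y.2
    have hker : Nat.card φ.ker ≤ Nat.card Kn := by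
      have : Finite Kn := hfn.to_subtype
      exact Nat.card_le_card_of_injective (fun y => (⟨y.1.1, congrArg Subtype.val y.2⟩ : Kn))
        (fun p q hpq => Subtype.ext (Subtype.ext (congrArg Subtype.val hpq :)))
    have : Finite Km := hfm.to_subtype
    have hKfin : Finite K := by
      have : Finite Kn := hfn.to_subtype
      have : Finite φ.ker := Finite.of_injective (fun y => (⟨y.1.1, congrArg Subtype.val y.2⟩ : Kn))
        (fun p q hpq => Subtype.ext (Subtype.ext (congrArg Subtype.val hpq :)))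
      have : Finite (K ⧸ φ.ker) := Finite.of_injective _ (QuotientAddGroup.kerLift_injective φ)
      exact φ.ker.finite_iff_finite_and_finiteIndex.2 ⟨inferInstance, AddSubgroup.finiteIndex_of_finite_quotient⟩
    refine ⟨Set.toFinite (K : Set A), ?_⟩
    show (K : Set A).ncard ≤ m * n
    rw [← Nat.card_coe_set_eq]
    show Nat.card K ≤ m * n
    rw [← AddSubgroup.card_mul_index φ.ker, AddSubgroup.index_ker, mul_comm m n]
    refine Nat.mul_le_mul (hker.trans ((Nat.card_coe_set_eq _).le.trans hcn)) ?_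
    exact (AddSubgroup.card_le_card_addGroup _).trans ((Nat.card_coe_set_eq _).le.trans hcm)

theorem finite_of_exponent (hA : AddMonoid.exponent A ≠ 0) : Finite A := by
  have h1 := (torsion_small a ha h _ hA).1
  rw [show {y : A | AddMonoid.exponent A • y = 0} = Set.univ from Set.eq_univ_of_forall fun y => AddMonoid.exponent_nsmul_eq_zero y] at h1
  exact Set.finite_univ_iff.1 h1

theorem cyclic_pp [Finite A] : ∃ p n : ℕ, p.Prime ∧ Nonempty (A ≃+ ZMod (p ^ n)) := by
  classical
  have := Fintype.ofFinite A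
  have hc : IsAddCyclic A := by
    refine isAddCyclic_of_card_nsmul_eq_zero_le fun n hn => ?_
    have := (torsion_small a ha h n hn.ne').2
    rwa [← Set.ncard_coe_finset, Finset.coe_filter, show {x : A | x ∈ Finset.univ ∧ n • x = 0} = {x : A | n • x = 0} by ext; simp]
  have hne : Nat.card A ≠ 1 := fun h1 => ha (by
    have := (Nat.card_eq_one_iff_unique.1 h1).1
    exact Subsingleton.elim _ _)
  have hprime : ∀ {q : ℕ}, q.Prime → q ∣ Nat.card A → q = addOrderOf a := by
    intro q hq hdiv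
    have := Fact.mk hq
    obtain ⟨y, hy⟩ := exists_prime_addOrderOf_dvd_card' q hdiv
    rcases mem_zmultiples_of_prime a ha h hq (y := y) (hy ▸ addOrderOf_nsmul_eq_zero y) with rfl | ⟨h1, -⟩
    · simp at hy; exact absurd hy.symm hq.ne_one
    · exact h1.symm
  refine ⟨(Nat.card A).minFac, (Nat.card A).primeFactorsList.length, Nat.minFac_prime hne, ?_⟩
  have hpow : Nat.card A = (Nat.card A).minFac ^ (Nat.card A).primeFactorsList.length :=
    Nat.eq_prime_pow_of_unique_prime_dvd Nat.card_pos.ne' fun {d} hd hdd =>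
      (hprime hd hdd).trans (hprime (Nat.minFac_prime hne) (Nat.minFac_dvd _)).symm
  exact ⟨(zmodAddCyclicAddEquiv hc).symm.trans (ZMod.ringEquivCongr hpow).toAddEquiv⟩

end

section PtDeg
variable {A : Type u} {G : Type v} [AddCommGroup A] [AddCommGroup G]
    (f : A → G) (hf : ∀ x y z : A, f (x + y + z) + f x + f y + f z = f (x + y) + f (x + z) + f (y + z))
include hf

theorem pd_zero : f 0 = 0 := by
  have := hf 0 0 0
  simp only [add_zero] at this
  simpa [add_assoc] using this

theorem pd_rec (x : A) (n : ℤ) :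
    f ((n + 1) • x) + f ((n - 1) • x) = f (n • x) + f (n • x) + (f x + f (-x)) := by
  have := hf (n • x) x (-x)
  rw [add_neg_cancel_right, ← sub_eq_add_neg, add_neg_cancel, pd_zero f hf, add_zero] at this
  rw [add_smul, sub_smul, one_smul, ← this]; abel

theorem pd_formula_two (x : A) : ∀ n : ℤ, ∀ a b : ℤ, 2 * a = n * (n + 1) → 2 * b = n * (n - 1) →
    f (n • x) = a • f x + b • f (-x) := by
  let g : ℤ → G := fun n => (n * (n + 1) / 2) • f x + (n * (n - 1) / 2) • f (-x)
  have e1 : ∀ n : ℤ, (n + 1) * (n + 1 + 1) / 2 = n * (n + 1) / 2 + (n + 1) := fun n => by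
    rw [show (n + 1) * (n + 1 + 1) = n * (n + 1) + (n + 1) * 2 by ring, Int.add_mul_ediv_right _ _ two_ne_zero]
  have e2 : ∀ n : ℤ, (n + 1) * (n + 1 - 1) / 2 = n * (n - 1) / 2 + n := fun n => by
    rw [show (n + 1) * (n + 1 - 1) = n * (n - 1) + n * 2 by ring, Int.add_mul_ediv_right _ _ two_ne_zero]
  have step : ∀ n : ℤ, g (n + 1) = g n + ((n + 1) • f x + n • f (-x)) := fun n => by
    simp only [g, e1, e2, add_smul]; abel
  have main : ∀ n : ℤ, f (n • x) = g n ∧ f ((n + 1) • x) = g (n + 1) := by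
    intro n
    induction n using Int.induction_on with
    | zero => simp [g, pd_zero f hf]
    | succ i ih =>
      refine ⟨ih.2, ?_⟩
      have hr := pd_rec f hf x ((i : ℤ) + 1)
      rw [add_sub_cancel_right, ih.1, ih.2] at hr
      rw [eq_sub_of_add_eq hr, step ((i : ℤ) + 1), step (i : ℤ)]
      simp only [add_smul, one_smul]; abel
    | pred i ih =>
      have h0 : (-(i : ℤ) - 1 + 1) = -(i : ℤ) := by ring
      rw [h0]
      refine ⟨?_, ih.1⟩
      have hr := pd_rec f hf x (-(i : ℤ))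
      rw [ih.2, ih.1, add_comm] at hr
      rw [eq_sub_of_add_eq hr, step (-(i : ℤ))]
      have h1 := step (-(i : ℤ) - 1)
      rw [h0] at h1
      rw [h1]
      simp only [sub_smul, add_smul, one_smul]; abel
  intro n a b ha hb
  rw [(main n).1]
  simp only [g, ← ha, ← hb, Int.mul_ediv_cancel_left _ two_ne_zero]

theorem pd_formula (n : ℤ) (x : A) :
    f (n • x) = (n * (n + 1) / 2) • f x + (n * (n - 1) / 2) • f (-x) := by
  refine pd_formula_two f hf x n _ _ ?_ ?_ <;> apply Int.mul_ediv_cancel'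
  · exact (Int.even_mul_succ_self n).two_dvd
  · exact (Int.even_mul_pred_self n).two_dvd

theorem pd_torsion (n : ℤ) (hn : ∀ x : A, n • x = 0) :
    (∀ x : A, (2 * n) • f x = 0) ∧ (Odd n → ∀ x : A, n • f x = 0) := by
  have key : ∀ x : A, n • f x + n • f (-x) = 0 ∧
      (n * (n + 1) / 2) • f x + (n * (n - 1) / 2) • f (-x) = 0 := by
    intro x
    have h1 : (n * (n + 1) / 2) • f x + (n * (n - 1) / 2) • f (-x) = 0 := by
      rw [← pd_formula f hf, hn, pd_zero f hf]
    refine ⟨?_, h1⟩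
    have h2 := pd_rec f hf x n
    rw [show (n + 1) • x = x by rw [add_smul, hn, zero_add, one_smul],
      show (n - 1) • x = -x by rw [sub_smul, hn, zero_sub, one_smul], hn, pd_zero f hf] at h2
    have h3 : f ((n + 1) • x) = f x := by rw [add_smul, hn, zero_add, one_smul]
    rw [pd_formula f hf] at h3
    have e1 : (n + 1) * (n + 1 + 1) / 2 = n * (n + 1) / 2 + (n + 1) := by
      rw [show (n + 1) * (n + 1 + 1) = n * (n + 1) + (n + 1) * 2 by ring, Int.add_mul_ediv_right _ _ two_ne_zero]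
    have e2 : (n + 1) * (n + 1 - 1) / 2 = n * (n - 1) / 2 + n := by
      rw [show (n + 1) * (n + 1 - 1) = n * (n - 1) + n * 2 by ring, Int.add_mul_ediv_right _ _ two_ne_zero]
    rw [e1, e2] at h3
    linear_combination (norm := (simp only [add_smul, one_smul]; abel)) h3 - h1
  constructor
  · intro x
    obtain ⟨h1, h2⟩ := key x
    obtain ⟨c, hc⟩ : (2 : ℤ) ∣ n * (n + 1) := (Int.even_mul_succ_self n).two_dvd
    obtain ⟨d, hd⟩ : (2 : ℤ) ∣ n * (n - 1) := (Int.even_mul_pred_self n).two_dvd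
    rw [hc, hd, Int.mul_ediv_cancel_left _ two_ne_zero, Int.mul_ediv_cancel_left _ two_ne_zero] at h2
    have h3 : ((2 * c) • f x + (2 * d) • f (-x)) - (n - 1) • (n • f x + n • f (-x)) = 0 := by
      rw [h1, smul_zero, sub_zero, mul_smul, mul_smul, ← smul_add, h2, smul_zero]
    rw [← hc, ← hd] at h3
    rw [← h3]
    match_scalars <;> ring
  · rintro ⟨k, hk⟩ x
    obtain ⟨h1, h2⟩ := key x
    rw [show n * (n + 1) / 2 = n * (k + 1) by rw [show n * (n + 1) = n * (k + 1) * 2 by rw [hk]; ring, Int.mul_ediv_cancel _ two_ne_zero],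
      show n * (n - 1) / 2 = n * k by rw [show n * (n - 1) = n * k * 2 by rw [hk]; ring, Int.mul_ediv_cancel _ two_ne_zero]] at h2
    have h3 : k • (n • f x + n • f (-x)) = 0 := by rw [h1, smul_zero]
    linear_combination (norm := (match_scalars <;> ring)) h2 - h3

theorem pd_quadratic (n : ℤ) (hn : ∀ x : A, (2 * n ^ 2) • x = 0)
    (heven : ∀ x : A, f (-x) = f x) (x : A) : f ((2 * n) • x) = 0 := by
  rw [pd_formula f hf, heven, ← add_smul,
    show (2 * n) * (2 * n + 1) = n * (2 * n + 1) * 2 by ring, show (2 * n) * (2 * n - 1) = n * (2 * n - 1) * 2 by ring,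
    Int.mul_ediv_cancel _ two_ne_zero, Int.mul_ediv_cancel _ two_ne_zero,
    show n * (2 * n + 1) + n * (2 * n - 1) = 2 * (2 * n ^ 2) by ring]
  exact (pd_torsion f hf _ hn).1 x

end PtDeg

theorem deviation {A : Type u} {G : Type v} [AddCommGroup A] [AddCommGroup G]
    (f : A → G) (n : ℕ) (hn : 1 ≤ n) (x : Fin n → A) (i : Fin n) (hx : x i = 0) :
    ∑ I ∈ ((Finset.univ : Finset (Fin n)).powerset.erase ∅), ((-1 : ℤ) ^ (n + I.card)) • f (∑ j ∈ I, x j) =
      ((-1 : ℤ) ^ (n + 1)) • f 0 := by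
  rw [Finset.sum_erase_eq_sub (Finset.empty_mem_powerset _)]
  have h0 : ∑ I ∈ (Finset.univ : Finset (Fin n)).powerset, ((-1 : ℤ) ^ (n + I.card)) • f (∑ j ∈ I, x j) = 0 := by
    rw [← Finset.insert_erase (Finset.mem_univ i), Finset.sum_powerset_insert (Finset.notMem_erase i _), ← Finset.sum_add_distrib]
    refine Finset.sum_eq_zero fun I hI => ?_
    have hiI : i ∉ I := fun hh => Finset.notMem_erase i _ (Finset.mem_powerset.1 hI hh)
    rw [Finset.card_insert_of_notMem hiI, Finset.sum_insert hiI, hx, zero_add, ← add_assoc, pow_succ]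
    simp
  rw [h0]; simp [pow_succ]

end Groth.Agent.H5Misc
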