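import Groth.Agent.Lib.H5ModGood
import Groth.Agent.Lib.H5LocExt
import Groth.Agent.Lib.H5Compare
import Groth.Agent.Lib.H5SiteApps

universe u

namespace Groth.Agent.H5ModAb
open CategoryTheory Limits Abelian Opposite
set_option maxHeartbeats 800000

variable {C : Type u} [SmallCategory C] {J : GrothendieckTopology C} (R : Sheaf J RingCat.{u})

lemma E_natR {K : Cᵒᵖ ⥤ Type u} {G G' : SheafOfModules.{u} R} (g : G ⟶ G')
    (x : (H5Flasque.L1 J).obj K ⟶ (SheafOfModules.toSheaf R).obj G) :
    H5ModGood.E R G' K (x ≫ (SheafOfModules.toSheaf R).map g) = H5ModGood.E R G K x ≫ g := by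
  change ((H5ModGood.adjL R).homEquiv K G').symm ((H5Flasque.adj1 J).homEquiv K _ (x ≫ (SheafOfModules.toSheaf R).map g)) =
    ((H5ModGood.adjL R).homEquiv K G).symm ((H5Flasque.adj1 J).homEquiv K _ x) ≫ g
  let y : K ⟶ (H5ModGood.R R).obj G := (H5Flasque.adj1 J).homEquiv K _ x
  have h : ((H5Flasque.adj1 J).homEquiv K _ (x ≫ (SheafOfModules.toSheaf R).map g) : K ⟶ (H5ModGood.R R).obj G') =
      y ≫ (H5ModGood.R R).map g := (H5Flasque.adj1 J).homEquiv_naturality_right x _
  exact (congrArg ((H5ModGood.adjL R).homEquiv K G').symm h).trans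
    ((H5ModGood.adjL R).homEquiv_naturality_right_symm y g)

lemma ptIso_aux {V W : Cᵒᵖ} (g : V ⟶ W) :
    (Finsupp.uniqueLinearEquiv (R.obj.obj W) (R.obj.obj W) PUnit.unit.{u + 1})
        (Finsupp.single PUnit.unit.{u + 1} (1 : R.obj.obj W)) =
      (R.obj.map g).hom
        ((Finsupp.uniqueLinearEquiv (R.obj.obj V) (R.obj.obj V) PUnit.unit.{u + 1})
          (Finsupp.single PUnit.unit.{u + 1} (1 : R.obj.obj V))) := by
  simp

/-- the free module on a point is the unit -/
noncomputable def ptIso : (H5ModGood.L R).obj H5LocExt.pt ≅ SheafOfModules.unit R :=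
  (H5ModGood.sh R).mapIso
      (PresheafOfModules.isoMk (fun V => (Finsupp.uniqueLinearEquiv (R.obj.obj V) (R.obj.obj V) PUnit.unit).toModuleIso)
          (fun V W g => by
            apply ModuleCat.free_hom_ext
            intro x
            refine Eq.trans ?_ (ptIso_aux R g)
            exact congrArg (Finsupp.uniqueLinearEquiv (R.obj.obj W) (R.obj.obj W) PUnit.unit)
              (ModuleCat.freeDesc_apply _ x)) :
          (PresheafOfModules.free R.obj).obj H5LocExt.pt ≅ PresheafOfModules.unit R.obj) ≪≫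
    (asIso (PresheafOfModules.sheafificationAdjunction.{u} (𝟙 R.obj)).counit).app (SheafOfModules.unit R)

noncomputable def extIso {A : Type*} [Category A] [Abelian A] [HasExt.{u} A] {X X' : A} (i : X ≅ X') (Y : A) (n : ℕ) :
    Ext.{u} X Y n ≃+ Ext.{u} X' Y n :=
  AddEquiv.ofBijective ((Ext.mk₀ i.inv).precomp Y (zero_add n))
    ⟨Function.LeftInverse.injective (g := (Ext.mk₀ i.hom).precomp Y (zero_add n)) fun x => by
        simp,
      Function.RightInverse.surjective (g := (Ext.mk₀ i.hom).precomp Y (zero_add n)) fun x => by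
        simp⟩

theorem eq_ab [HasExt.{u} (SheafOfModules.{u} R)] (M : SheafOfModules.{u} R) (n : ℕ) :
    Nonempty (Ext (SheafOfModules.unit R) M n ≃+ Sheaf.H.{u} ((SheafOfModules.toSheaf R).obj M) n) := by
  haveI : EnoughInjectives (SheafOfModules.{u} R) := H5SiteApps.enoughInjectives_modules R
  haveI := H5ModFree.toSheaf_preservesLimits R
  haveI := H5ModFree.toSheaf_preservesColimits R
  haveI : PreservesFiniteLimits (SheafOfModules.toSheaf R) := PreservesLimits.preservesFiniteLimits _
  haveI : PreservesFiniteColimits (SheafOfModules.toSheaf R) := PreservesColimits.preservesFiniteColimits _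
  haveI : (SheafOfModules.toSheaf R).Additive := Functor.additive_of_preserves_binary_products _
  obtain ⟨e⟩ := H5Compare.compare.{_, _, _, _, u} (SheafOfModules.toSheaf R) (fun S hS => hS.map_of_exact _)
    ((H5Flasque.L1 J).obj H5LocExt.pt) ((H5ModGood.L R).obj H5LocExt.pt)
    (fun G => (H5ModGood.E R G H5LocExt.pt).symm)
    (fun {F G} φ g => by
      apply (H5ModGood.E R G H5LocExt.pt).injective
      rw [E_natR, AddEquiv.apply_symm_apply, AddEquiv.apply_symm_apply])
    (fun I hI n => H5ModGood.totallyAcyclic_toSheaf R I (H5LocExt.ptSh J) n) n M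
  exact ⟨((extIso (ptIso R) M n).symm.trans e).trans (extIso (H5LocExt.zIso J) _ n)⟩

end Groth.Agent.H5ModAb
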