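import Groth.Agent.Lib.H5Flasque

universe u

namespace Groth.Agent.H5ModGood
open CategoryTheory Limits Abelian Opposite MonoidalCategory
open H5Flasque (L1 R1 adj1 ev ev_add exact_of_eval)
set_option maxHeartbeats 800000

variable {C : Type u} [SmallCategory C] {J : GrothendieckTopology C} (O : Sheaf J RingCat.{u})

/-- presheaves of modules -/
abbrev PO : Type (u + 1) := PresheafOfModules.{u} O.obj

/-- `K ↦ O[K] ⊗ N` -/
noncomputable abbrev preL : (Cᵒᵖ ⥤ Type u) ⥤ PO O :=
  PresheafOfModules.free O.obj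

/-- sheafification -/
noncomputable abbrev sh : PO O ⥤ SheafOfModules.{u} O := PresheafOfModules.sheafification.{u} (𝟙 O.obj)

lemma preL_exact {K' K : Sheaf J (Type u)} (f : K' ⟶ K) (n : ℕ) :
    (AlgebraicTopology.AlternatingFaceMapComplex.obj
      (((SimplicialObject.whiskering _ _).obj (preL O)).obj (H5CechNerve.Y f).left)).ExactAt (n + 1) := by
  let U := ((SimplicialObject.Augmented.whiskering _ _).obj (preL O)).obj (H5CechNerve.Y f)
  rw [HomologicalComplex.exactAt_iff' _ (n + 2) (n + 1) n (by simp) (by simp),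
    ← ShortComplex.exact_map_iff_of_faithful _ (PresheafOfModules.toPresheaf _)]
  refine exact_of_eval _ fun V => ?_
  let Fv : Type u ⥤ ModuleCat.{u} (O.obj.obj V) := ModuleCat.free _
  let X₀ := ((SimplicialObject.Augmented.whiskering _ _).obj ((evaluation Cᵒᵖ (Type u)).obj V)).obj (H5CechNerve.Y f)
  let h := ((H5CechNerve.ed f V).map Fv).homotopyEquiv
  have : QuasiIso h.hom := inferInstance
  have hx : ((SimplicialObject.Augmented.drop ⋙ AlgebraicTopology.alternatingFaceMapComplex _).obj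
      (((SimplicialObject.Augmented.whiskering _ _).obj Fv).obj X₀)).ExactAt (n + 1) :=
    (quasiIsoAt_iff_exactAt' h.hom (n + 1) (ChainComplex.exactAt_succ_single_obj _ n)).1 inferInstance
  let G : PO O ⥤ ModuleCat.{u} (O.obj.obj V) :=
    PresheafOfModules.evaluation (O.obj) V
  have hG : G.Additive := inferInstanceAs (PresheafOfModules.evaluation (O.obj) V).Additive
  have hy : ((G.mapHomologicalComplex _).obj (AlgebraicTopology.AlternatingFaceMapComplex.obj
      (((SimplicialObject.whiskering _ _).obj (preL O)).obj (H5CechNerve.Y f).left))).ExactAt (n + 1) :=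
    HomologicalComplex.ExactAt.of_iso hx (H5CechNerve.altIso G
      (((SimplicialObject.whiskering _ _).obj (preL O)).obj (H5CechNerve.Y f).left)).symm
  rw [HomologicalComplex.exactAt_iff' _ (n + 2) (n + 1) n (by simp) (by simp)] at hy
  exact hy.map (forget₂ (ModuleCat.{u} (O.obj.obj V)) AddCommGrpCat.{u})

/-- `K ↦ O[K] ⊗ F`, sheafified -/
noncomputable abbrev L : (Cᵒᵖ ⥤ Type u) ⥤ SheafOfModules.{u} O :=
  preL O ⋙ (sh O)

lemma L_exact {K' K : Sheaf J (Type u)} (f : K' ⟶ K) (n : ℕ) :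
    (AlgebraicTopology.AlternatingFaceMapComplex.obj
      (((SimplicialObject.whiskering _ _).obj (L O)).obj (H5CechNerve.Y f).left)).ExactAt (n + 1) := by
  let adj : (sh O) ⊣ (SheafOfModules.forget _ ⋙ PresheafOfModules.restrictScalars (𝟙 O.obj)) :=
    PresheafOfModules.sheafificationAdjunction.{u} (𝟙 O.obj)
  haveI : ((sh O)).IsLeftAdjoint := adj.isLeftAdjoint
  haveI : PreservesFiniteLimits ((sh O)) :=
    inferInstanceAs (PreservesFiniteLimits (PresheafOfModules.sheafification.{u} (𝟙 O.obj)))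
  haveI : ((sh O)).Additive := Functor.additive_of_preserves_binary_products _
  let P := AlgebraicTopology.AlternatingFaceMapComplex.obj
      (((SimplicialObject.whiskering _ _).obj (preL O)).obj
        (H5CechNerve.Y f).left)
  have h := preL_exact O f n
  have hm : ((((sh O)).mapHomologicalComplex _).obj P).ExactAt (n + 1) := by
    rw [HomologicalComplex.exactAt_iff' _ (n + 2) (n + 1) n (by simp) (by simp)] at h ⊢
    exact h.map ((sh O))
  exact hm.of_iso (H5CechNerve.altIso _ _)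


/-- sets underlying the internal hom -/
noncomputable abbrev R : SheafOfModules.{u} O ⥤ (Cᵒᵖ ⥤ Type u) :=
  (SheafOfModules.forget _ ⋙ PresheafOfModules.restrictScalars (𝟙 O.obj)) ⋙
    (PresheafOfModules.toPresheaf (O.obj) ⋙
      (Functor.whiskeringRight _ _ _).obj (forget AddCommGrpCat.{u}))

/-- the adjunction -/
noncomputable def adjL : L O ⊣ R O :=
  (PresheafOfModules.freeAdjunction O.obj).comp
      (PresheafOfModules.sheafificationAdjunction.{u} (𝟙 O.obj) : (sh O) ⊣ _)

variable (G : SheafOfModules.{u} O)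

/-- the comparison of hom groups -/
noncomputable def E (K : Cᵒᵖ ⥤ Type u) :
    ((L1 J).obj K ⟶ (SheafOfModules.toSheaf O).obj G) ≃+ ((L O).obj K ⟶ G) :=
  AddEquiv.symm
  { toEquiv := ((adjL O).homEquiv K G).trans ((adj1 J).homEquiv K ((SheafOfModules.toSheaf O).obj G)).symm
    map_add' := fun a b => by
      apply ((adj1 J).homEquiv K _).injective
      simp only [Equiv.toFun_as_coe, Equiv.trans_apply, Equiv.apply_symm_apply]
      ext V x
      refine Eq.trans ?_ (ev_add K _ _ _ V x).symm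
      refine Eq.trans ?_ (congrArg₂ (fun p q => ev p V x + ev q V x)
        (((adj1 J).homEquiv K ((SheafOfModules.toSheaf O).obj G)).apply_symm_apply ((adjL O).homEquiv K G a))
        (((adj1 J).homEquiv K ((SheafOfModules.toSheaf O).obj G)).apply_symm_apply ((adjL O).homEquiv K G b))).symm
      erw [Equiv.apply_symm_apply]
      change ev (A := (SheafOfModules.toSheaf O).obj G) ((adjL O).homEquiv K G (a + b)) V x =
        ev (A := (SheafOfModules.toSheaf O).obj G) ((adjL O).homEquiv K G a) V x +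
          ev (A := (SheafOfModules.toSheaf O).obj G) ((adjL O).homEquiv K G b) V x
      rw [Adjunction.homEquiv_unit, Adjunction.homEquiv_unit, Adjunction.homEquiv_unit]
      rfl }

lemma E_nat {K K' : Cᵒᵖ ⥤ Type u} (g : K ⟶ K') (φ : (L1 J).obj K' ⟶ (SheafOfModules.toSheaf O).obj G) :
    E O G K ((L1 J).map g ≫ φ) = (L O).map g ≫ E O G K' φ := by
  change ((adjL O).homEquiv K G).symm ((adj1 J).homEquiv K _ ((L1 J).map g ≫ φ)) =
    (L O).map g ≫ ((adjL O).homEquiv K' G).symm ((adj1 J).homEquiv K' _ φ)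
  refine (congrArg ((adjL O).homEquiv K G).symm ((adj1 J).homEquiv_naturality_left g φ)).trans ?_
  exact (adjL O).homEquiv_naturality_left_symm g _

lemma E_d (S : SimplicialObject (Cᵒᵖ ⥤ Type u)) (m : ℕ)
    (χ : (L1 J).obj (S.obj (op ⟨m⟩)) ⟶ (SheafOfModules.toSheaf O).obj G) :
    E O G (S.obj (op ⟨m + 1⟩))
        ((∑ i : Fin (m + 2), (-1 : ℤ) ^ (i : ℕ) • (L1 J).map (S.δ i)) ≫ χ) =
      (∑ i : Fin (m + 2), (-1 : ℤ) ^ (i : ℕ) • (L O).map (S.δ i)) ≫ E O G (S.obj (op ⟨m⟩)) χ := by
  rw [Preadditive.sum_comp, Preadditive.sum_comp, map_sum]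
  refine Finset.sum_congr rfl fun i _ => ?_
  rw [Preadditive.zsmul_comp, Preadditive.zsmul_comp, map_zsmul]
  exact congrArg (fun t => (-1 : ℤ) ^ (i : ℕ) • t) (E_nat O G (S.δ i) χ)

lemma alt_d {A : Type (u + 1)} [Category.{u} A] [Preadditive A] (Φ : (Cᵒᵖ ⥤ Type u) ⥤ A)
    (S : SimplicialObject (Cᵒᵖ ⥤ Type u)) (m : ℕ) :
    (AlgebraicTopology.AlternatingFaceMapComplex.obj (((SimplicialObject.whiskering _ _).obj Φ).obj S)).d (m + 1) m =
      ∑ i : Fin (m + 2), (-1 : ℤ) ^ (i : ℕ) • Φ.map (S.δ i) :=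
  AlgebraicTopology.AlternatingFaceMapComplex.obj_d_eq _ _

lemma good_aux [Injective G] (S : SimplicialObject (Cᵒᵖ ⥤ Type u))
    (hS : ∀ n, (AlgebraicTopology.AlternatingFaceMapComplex.obj
      (((SimplicialObject.whiskering _ _).obj (L O)).obj S)).ExactAt (n + 1)) (n : ℕ)
    (φ : (AlgebraicTopology.AlternatingFaceMapComplex.obj (((SimplicialObject.whiskering _ _).obj (L1 J)).obj S)).X (n + 1)
      ⟶ (SheafOfModules.toSheaf O).obj G)
    (hφ : (AlgebraicTopology.AlternatingFaceMapComplex.obj (((SimplicialObject.whiskering _ _).obj (L1 J)).obj S)).d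
      (n + 2) (n + 1) ≫ φ = 0) :
    ∃ ψ, (AlgebraicTopology.AlternatingFaceMapComplex.obj (((SimplicialObject.whiskering _ _).obj (L1 J)).obj S)).d
      (n + 1) n ≫ ψ = φ := by
  have h := hS n
  rw [HomologicalComplex.exactAt_iff' _ (n + 2) (n + 1) n (by simp) (by simp)] at h
  let φ' : (L1 J).obj (S.obj (op ⟨n + 1⟩)) ⟶ (SheafOfModules.toSheaf O).obj G := φ
  have h0 : (AlgebraicTopology.AlternatingFaceMapComplex.obj (((SimplicialObject.whiskering _ _).obj (L O)).obj S)).d
      (n + 2) (n + 1) ≫ E O G (S.obj (op ⟨n + 1⟩)) φ' = 0 := by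
    rw [alt_d]
    refine (E_d O G S (n + 1) φ').symm.trans ?_
    rw [← alt_d]
    exact (congrArg (E O G (S.obj (op ⟨n + 2⟩))) hφ).trans (map_zero _)
  let ψ' : (L O).obj (S.obj (op ⟨n⟩)) ⟶ G := h.descToInjective (E O G (S.obj (op ⟨n + 1⟩)) φ') h0
  refine ⟨(E O G (S.obj (op ⟨n⟩))).symm ψ', ?_⟩
  apply (E O G (S.obj (op ⟨n + 1⟩))).injective
  rw [alt_d]
  refine (E_d O G S n _).trans ?_
  rw [AddEquiv.apply_symm_apply, ← alt_d]
  exact h.comp_descToInjective _ h0

theorem totallyAcyclic_toSheaf [Injective G] : CohCx.IsTotallyAcyclic ((SheafOfModules.toSheaf O).obj G) :=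
  H5Flasque.totallyAcyclic_of_good _ fun _ _ f _ n φ hφ => good_aux O G (H5CechNerve.Y f).left (fun m => L_exact O f m) n φ hφ

end Groth.Agent.H5ModGood
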