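import Groth.Agent.Lib.H5ModGood
import Groth.Agent.Lib.H5ExtSupp86
import Groth.Agent.Lib.H5Compare
import Groth.Prelude.Def_SpSeq

universe u

namespace Groth.Agent.H5ModSupp
open CategoryTheory Limits Abelian Opposite
set_option maxHeartbeats 600000

variable {C : Type u} [SmallCategory C] {J : GrothendieckTopology C} (U : C)

/-- the part over `U` -/
def sub (K : Cᵒᵖ ⥤ Type u) : Cᵒᵖ ⥤ Type u where
  obj W := {_k : K.obj W // Nonempty (W.unop ⟶ U)}
  map g := TypeCat.ofHom fun k => ⟨K.map g k.1, k.2.map (g.unop ≫ ·)⟩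
  map_id W := by ext k; exact ConcreteCategory.congr_hom (K.map_id W) k.1
  map_comp a b := by ext k; exact ConcreteCategory.congr_hom (K.map_comp a b) k.1

/-- its inclusion -/
def ι (K : Cᵒᵖ ⥤ Type u) : sub U K ⟶ K where
  app _ := TypeCat.ofHom fun k => k.1
  naturality _ _ _ := rfl

variable (J) in
/-- free sheaf modulo the part over `U` -/
noncomputable abbrev ck (K : Cᵒᵖ ⥤ Type u) : Sheaf J AddCommGrpCat.{u} :=
  cokernel ((H5Flasque.L1 J).map (ι U K))

lemma acyc_ck {X : Sheaf J AddCommGrpCat.{u}} (hX : CohCx.IsTotallyAcyclic X) (K : Cᵒᵖ ⥤ Type u) (q : ℕ) :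
    Subsingleton (Ext.{u} (ck J U K) X (q + 1)) := by
  let S := presheafToSheaf J AddCommGrpCat.{u}
  let W := (Functor.whiskeringRight Cᵒᵖ (Type u) AddCommGrpCat.{u}).obj AddCommGrpCat.free.{u}
  let g := ι U K
  have hg : ∀ V, Function.Injective (g.app V) := fun V _ _ e => Subtype.ext e
  have hi : Mono (W.map g) := by
    rw [NatTrans.mono_iff_mono_app]
    intro V
    rw [AddCommGrpCat.mono_iff_injective]
    exact H5TotAcyc.free_map_injective _ (hg V)
  have hm : Mono ((H5Flasque.L1 J).map g) := inferInstanceAs (Mono (S.map (W.map g)))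
  let T : ShortComplex (Sheaf J AddCommGrpCat.{u}) := ShortComplex.mk ((H5Flasque.L1 J).map g)
    (cokernel.π _) (cokernel.condition _)
  have hT : T.ShortExact := { exact := ShortComplex.exact_cokernel _ }
  let sh := presheafToSheaf J (Type u)
  have : J.PreservesSheafification AddCommGrpCat.free.{u} :=
    Sheaf.preservesSheafification_of_adjunction J AddCommGrpCat.adj.{u}
  have hη : ∀ P : Cᵒᵖ ⥤ Type u, IsIso ((H5Flasque.L1 J).map (toSheafify J P)) := fun P =>
    (J.W_iff _).1 (J.W_of_preservesSheafification AddCommGrpCat.free.{u} _ (J.W_toSheafify _))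
  have hp : ∀ (P : Cᵒᵖ ⥤ Type u) m, Subsingleton (Ext.{u} ((H5Flasque.L1 J).obj P) X (m + 1)) := fun P m => by
    haveI : Subsingleton (Ext.{u} ((H5TotAcyc.Zf J).obj (sh.obj P)) X (m + 1)) := hX _ m
    haveI := hη P
    exact H5SiteCoh.subsingleton_retract (Z' := (H5TotAcyc.Zf J).obj (sh.obj P))
      ((H5Flasque.L1 J).map (toSheafify J P)) (inv ((H5Flasque.L1 J).map (toSheafify J P))) (IsIso.hom_inv_id _)
  haveI h1 : ∀ m, Subsingleton (Ext.{u} T.X₁ X (m + 1)) := hp _
  haveI h2 : ∀ m, Subsingleton (Ext.{u} T.X₂ X (m + 1)) := hp _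
  change Subsingleton (Ext.{u} T.X₃ X (q + 1))
  cases q with
  | succ m => exact H5TotAcyc.cstep₃ hT (m + 1)
  | zero =>
    refine H5TotAcyc.subsingleton_of_extend hT fun φ => ?_
    haveI : Mono g := by
      rw [NatTrans.mono_iff_mono_app]
      exact fun V => (CategoryTheory.mono_iff_injective _).2 (hg V)
    haveI hm : Mono (sh.map g) :=
      (inferInstance : (presheafToSheaf J (Type u)).PreservesMonomorphisms).preserves _
    haveI := hη (sub U K)
    obtain ⟨ψ, hψ⟩ := H5TotAcyc.restriction_surjective X hX (sh.map g)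
      (inv ((H5Flasque.L1 J).map (toSheafify J (sub U K))) ≫ φ)
    refine ⟨(H5Flasque.L1 J).map (toSheafify J K) ≫ ψ, ?_⟩
    have hψ' : (H5Flasque.L1 J).map (sh.map g).hom ≫ ψ = inv ((H5Flasque.L1 J).map (toSheafify J (sub U K))) ≫ φ := hψ
    change (H5Flasque.L1 J).map g ≫ (H5Flasque.L1 J).map (toSheafify J K) ≫ ψ = φ
    refine (Category.assoc _ _ _).symm.trans ?_
    refine (congrArg (fun t => t ≫ ψ) (((H5Flasque.L1 J).map_comp _ _).symm.trans
      ((congrArg (H5Flasque.L1 J).map (toSheafify_naturality J g)).trans ((H5Flasque.L1 J).map_comp _ _)))).trans ?_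
    refine (Category.assoc _ _ _).trans ?_
    exact (congrArg (fun t => (H5Flasque.L1 J).map (toSheafify J (sub U K)) ≫ t) hψ').trans (IsIso.hom_inv_id_assoc _ _)

variable (O : Sheaf J CommRingCat.{u})

abbrev RR : Sheaf J RingCat.{u} := ModSite.ringSh O

noncomputable abbrev Tm : ModSite.Mod O ⥤ Sheaf J AddCommGrpCat.{u} := SheafOfModules.toSheaf (ModSite.ringSh O)

lemma pfl : PreservesFiniteLimits (Tm O) := by
  haveI : PreservesLimitsOfSize.{u, u} (Tm O) := H5ModFree.toSheaf_preservesLimits (ModSite.ringSh O)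
  exact PreservesLimits.preservesFiniteLimits _

lemma pfc : PreservesFiniteColimits (Tm O) := by
  haveI : PreservesColimitsOfSize.{u, u} (Tm O) := H5ModFree.toSheaf_preservesColimits (ModSite.ringSh O)
  exact PreservesColimits.preservesFiniteColimits _

noncomputable abbrev L := H5ModGood.L (RR O)

/-- values of the transpose -/
noncomputable def val {K : Cᵒᵖ ⥤ Type u} {G : ModSite.Mod O} (f : (L O).obj K ⟶ G) (W : Cᵒᵖ) (k : K.obj W) :
    G.val.obj W := ((H5ModGood.adjL (RR O)).homEquiv K G f).app W k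

lemma val_comp {K : Cᵒᵖ ⥤ Type u} {G G' : ModSite.Mod O} (f : (L O).obj K ⟶ G) (g : G ⟶ G') (W : Cᵒᵖ) (k : K.obj W) :
    val O (f ≫ g) W k = g.val.app W (val O f W k) := by
  rw [val, Adjunction.homEquiv_naturality_right]
  rfl

lemma val_zero {K : Cᵒᵖ ⥤ Type u} {G : ModSite.Mod O} (W : Cᵒᵖ) (k : K.obj W) :
    val O (0 : (L O).obj K ⟶ G) W k = 0 := by
  rw [val, Adjunction.homEquiv_unit]
  rfl

lemma val_map {K K' : Cᵒᵖ ⥤ Type u} (a : K ⟶ K') {G : ModSite.Mod O} (f : (L O).obj K' ⟶ G) (W : Cᵒᵖ) (k : K.obj W) :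
    val O ((L O).map a ≫ f) W k = val O f W (a.app W k) := by
  rw [val, Adjunction.homEquiv_naturality_left]
  rfl

lemma val_ext {K : Cᵒᵖ ⥤ Type u} {G : ModSite.Mod O} {f f' : (L O).obj K ⟶ G}
    (h : ∀ W k, val O f W k = val O f' W k) : f = f' :=
  ((H5ModGood.adjL (RR O)).homEquiv K G).injective (by ext W k; exact h W k)

lemma van_of_val {K : Cᵒᵖ ⥤ Type u} {G : ModSite.Mod O} (f : (L O).obj K ⟶ G)
    (h : ∀ W : Cᵒᵖ, Nonempty (W.unop ⟶ U) → ∀ k : K.obj W, val O f W k = 0) : H5QuotOn.Van O U f := by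
  intro W hW
  refine ModuleCat.hom_ext (LinearMap.ext fun s => ?_)
  change f.val.app W s = 0
  let P := (PresheafOfModules.free (RR O).obj).obj K
  let t : P ⟶ _ := (PresheafOfModules.sheafificationAdjunction.{u} (𝟙 (RR O).obj)).homEquiv P G f
  have ht : ∀ V : Cᵒᵖ, Nonempty (V.unop ⟶ U) → t.app V = 0 := fun V hV => by
    apply ModuleCat.free_hom_ext
    intro k
    refine Eq.trans ?_ (h V hV k)
    rfl
  have hsep := (((Presheaf.isSheaf_iff_isSheaf_forget J _ (forget AddCommGrpCat.{u})).1 G.isSheaf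
    |> (isSheaf_iff_isSheaf_of_type J _).1).isSeparated _
      ((inferInstance : Presheaf.IsLocallySurjective J (CategoryTheory.toSheafify J P.presheaf)).imageSieve_mem (U := W.unop) s))
  refine hsep.ext fun W' g hg => ?_
  obtain ⟨p, hp⟩ := hg
  change G.val.map g.op (f.val.app W s) = G.val.map g.op 0
  refine (PresheafOfModules.naturality_apply f.val g.op s).symm.trans ?_
  refine Eq.trans ?_ (map_zero _).symm
  refine (congrArg (f.val.app (op W')) hp.symm).trans ?_
  have : t.app (op W') p = 0 := by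
    rw [ht (op W') (hW.map (g ≫ ·))]; rfl
  exact this

lemma val_of_van {K : Cᵒᵖ ⥤ Type u} {G : ModSite.Mod O} (f : (L O).obj K ⟶ G) (h : H5QuotOn.Van O U f)
    (W : Cᵒᵖ) (hW : Nonempty (W.unop ⟶ U)) (k : K.obj W) : val O f W k = 0 := by
  rw [val, Adjunction.homEquiv_unit]
  change f.val.app W _ = 0
  rw [h W hW]
  rfl

/-- comparison of hom groups -/
noncomputable abbrev E (G : ModSite.Mod O) (K : Cᵒᵖ ⥤ Type u) :
    ((H5Flasque.L1 J).obj K ⟶ (Tm O).obj G) ≃+ ((L O).obj K ⟶ G) := H5ModGood.E (RR O) G K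

lemma E_natR {K : Cᵒᵖ ⥤ Type u} {G G' : ModSite.Mod O} (g : G ⟶ G') (x : (H5Flasque.L1 J).obj K ⟶ (Tm O).obj G) :
    E O G' K (x ≫ (Tm O).map g) = E O G K x ≫ g := by
  change ((H5ModGood.adjL (RR O)).homEquiv K G').symm
      ((H5Flasque.adj1 J).homEquiv K ((Tm O).obj G') (x ≫ (Tm O).map g)) =
    ((H5ModGood.adjL (RR O)).homEquiv K G).symm ((H5Flasque.adj1 J).homEquiv K ((Tm O).obj G) x) ≫ g
  refine (congrArg ((H5ModGood.adjL (RR O)).homEquiv K G').symm ((H5Flasque.adj1 J).homEquiv_naturality_right x _)).trans ?_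
  exact (H5ModGood.adjL (RR O)).homEquiv_naturality_right_symm _ g

/-- cokernels correspond -/
noncomputable def ckEquiv (K : Cᵒᵖ ⥤ Type u) (G : ModSite.Mod O) :
    (ck J U K ⟶ (Tm O).obj G) ≃+ (cokernel ((L O).map (ι U K)) ⟶ G) where
  toFun φ := cokernel.desc _ (E O G K (cokernel.π _ ≫ φ)) (by
    rw [← H5ModGood.E_nat]; erw [cokernel.condition_assoc, zero_comp, map_zero])
  invFun ψ := cokernel.desc _ ((E O G K).symm (cokernel.π _ ≫ ψ)) (by
    apply (E O G (sub U K)).injective
    refine (H5ModGood.E_nat _ _ _ _).trans ?_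
    rw [AddEquiv.apply_symm_apply, cokernel.condition_assoc, zero_comp, map_zero])
  left_inv φ := by
    apply coequalizer.hom_ext
    simp only [cokernel.π_desc, AddEquiv.symm_apply_apply]
  right_inv ψ := by
    apply coequalizer.hom_ext
    simp only [cokernel.π_desc, AddEquiv.apply_symm_apply]
  map_add' a b := by
    apply coequalizer.hom_ext
    simp only [cokernel.π_desc, Preadditive.comp_add, map_add]

/-- as functors -/
noncomputable def ckIso (K : Cᵒᵖ ⥤ Type u) :
    Tm O ⋙ preadditiveCoyoneda.obj (op (ck J U K)) ≅ preadditiveCoyoneda.obj (op (cokernel ((L O).map (ι U K)))) :=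
  NatIso.ofComponents (fun G => (ckEquiv U O K G).toAddCommGrpIso) (fun {G G'} g => by
    refine ConcreteCategory.hom_ext _ _ fun x => ?_
    apply coequalizer.hom_ext
    refine (cokernel.π_desc _ _ _).trans ?_
    refine Eq.trans ?_ ((congrArg (fun t => t ≫ g) (cokernel.π_desc _ _ _).symm).trans (Category.assoc _ _ _))
    refine Eq.trans ?_ (E_natR O g (cokernel.π _ ≫ x))
    exact congrArg (E O G' _) (Category.assoc _ _ _).symm)

lemma ckEquiv_symm_natural (K : Cᵒᵖ ⥤ Type u) {F G : ModSite.Mod O}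
    (φ : cokernel ((L O).map (ι U K)) ⟶ F) (g : F ⟶ G) :
    (ckEquiv U O K G).symm (φ ≫ g) = (ckEquiv U O K F).symm φ ≫ (Tm O).map g :=
  by
  apply (ckEquiv U O K G).injective
  refine ((ckEquiv U O K G).apply_symm_apply _).trans ?_
  apply coequalizer.hom_ext
  change cokernel.π _ ≫ φ ≫ g = cokernel.π _ ≫ (ckEquiv U O K G) ((ckEquiv U O K F).symm φ ≫ (Tm O).map g)
  refine Eq.trans ?_ (cokernel.π_desc _ _ _).symm
  refine Eq.trans ?_ (congrArg (E O G K) (Category.assoc _ _ _))
  rw [E_natR]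
  have h : cokernel.π ((H5Flasque.L1 J).map (ι U K)) ≫ (ckEquiv U O K F).symm φ = (E O F K).symm (cokernel.π _ ≫ φ) :=
    cokernel.π_desc _ _ _
  rw [h, AddEquiv.apply_symm_apply, Category.assoc]

variable [ModSite.HasPushOver O U]

lemma comp_unit_eq_zero_iff {K : Cᵒᵖ ⥤ Type u} {G : ModSite.Mod O} (s : (H5Flasque.L1 J).obj K ⟶ (Tm O).obj G) :
    s ≫ (Tm O).map ((ModSite.restrPushOverAdj O U).unit.app G) = 0 ↔ (H5Flasque.L1 J).map (ι U K) ≫ s = 0 := by
  rw [← (E O _ K).map_eq_zero_iff, E_natR]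
  refine ((H5QuotOn.unit_comp_eq_zero_iff O U _).trans (H5QuotOn.restr_eq_zero_iff O U _)).trans ?_
  rw [← (E O _ (sub U K)).map_eq_zero_iff]
  refine Iff.trans ?_ (Eq.to_iff (congrArg (fun t => t = 0) (H5ModGood.E_nat (RR O) G (ι U K) s).symm))
  constructor
  · intro h
    refine val_ext O fun W k => ?_
    exact (val_map O _ _ W k).trans ((val_of_van U O _ h W k.2 k.1).trans (val_zero O W k).symm)
  · intro h
    refine van_of_val U O _ fun W hW k => ?_
    let f : (L O).obj K ⟶ G := E O G K s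
    have h' : (L O).map (ι U K) ≫ f = 0 := h
    have h'' := val_map O (ι U K) f W (⟨k, hW⟩ : (sub U K).obj W)
    rw [h', val_zero] at h''
    exact h''.symm

/-- sections with supports -/
noncomputable def suppHom (K : Cᵒᵖ ⥤ Type u) (G : ModSite.Mod O)
    (φ : (H5Flasque.L1 J).obj K ⟶ (Tm O).obj ((ModSite.sectOn O U).obj G)) : ck J U K ⟶ (Tm O).obj G :=
  cokernel.desc _ (φ ≫ (Tm O).map ((ModSite.sectOnι O U).app G)) ((comp_unit_eq_zero_iff U O _).1 (by
    refine (Category.assoc _ _ _).trans ((congrArg (fun t => φ ≫ t) ?_).trans comp_zero)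
    refine ((Tm O).map_comp _ _).symm.trans ((congrArg (Tm O).map
      (kernel.condition ((ModSite.restrPushOverAdj O U).unit.app G))).trans ?_)
    exact (Tm O).map_zero _ _))

lemma suppHom_bijective (K : Cᵒᵖ ⥤ Type u) (G : ModSite.Mod O) : Function.Bijective (suppHom U O K G) := by
  haveI := pfl O
  haveI : Mono ((ModSite.sectOnι O U).app G) :=
    inferInstanceAs (Mono (kernel.ι ((ModSite.restrPushOverAdj O U).unit.app G)))
  haveI : Mono ((Tm O).map ((ModSite.sectOnι O U).app G)) := Functor.map_mono _ _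
  constructor
  · intro φ φ' h
    exact (cancel_mono _).1 ((cokernel.π_desc _ _ _).symm.trans
      ((congrArg (fun t => cokernel.π ((H5Flasque.L1 J).map (ι U K)) ≫ t) h).trans (cokernel.π_desc _ _ _)))
  · intro ψ
    let F := KernelFork.ofι ((ModSite.sectOnι O U).app G) (kernel.condition ((ModSite.restrPushOverAdj O U).unit.app G))
    have hF : IsLimit F := kernelIsKernel ((ModSite.restrPushOverAdj O U).unit.app G)
    have hF' := KernelFork.mapIsLimit F hF (Tm O)
    let s := cokernel.π ((H5Flasque.L1 J).map (ι U K)) ≫ ψ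
    have hs : s ≫ (Tm O).map ((ModSite.restrPushOverAdj O U).unit.app G) = 0 :=
      (comp_unit_eq_zero_iff U O _).2 ((Category.assoc _ _ _).symm.trans
        ((congrArg (fun t => t ≫ ψ) (cokernel.condition _)).trans zero_comp))
    obtain ⟨φ, hφ⟩ := KernelFork.IsLimit.lift' hF' s hs
    exact ⟨φ, coequalizer.hom_ext ((cokernel.π_desc _ _ _).trans hφ)⟩

/-- as functors -/
noncomputable def suppIso (K : Cᵒᵖ ⥤ Type u) :
    (ModSite.sectOn O U ⋙ Tm O) ⋙ preadditiveCoyoneda.obj (op ((H5Flasque.L1 J).obj K)) ≅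
      preadditiveCoyoneda.obj (op (cokernel ((L O).map (ι U K)))) :=
  (NatIso.ofComponents (fun G => (AddEquiv.ofBijective (AddMonoidHom.mk' (suppHom U O K G) (fun a b => by
        apply coequalizer.hom_ext
        simp [suppHom])) (suppHom_bijective U O K G)).toAddCommGrpIso) (fun {G G'} g => by
      refine ConcreteCategory.hom_ext _ _ fun φ => ?_
      apply coequalizer.hom_ext
      refine (cokernel.π_desc _ _ _).trans ?_
      refine Eq.trans ?_ ((congrArg (fun t => t ≫ (Tm O).map g) (cokernel.π_desc _ _ _).symm).trans (Category.assoc _ _ _))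
      refine (Category.assoc _ _ _).trans (Eq.trans ?_ (Category.assoc _ _ _).symm)
      exact congrArg (fun t => φ ≫ t) (((Tm O).map_comp _ _).symm.trans
        ((congrArg (Tm O).map ((ModSite.sectOnι O U).naturality g)).trans ((Tm O).map_comp _ _)))) :
      (ModSite.sectOn O U ⋙ Tm O) ⋙ preadditiveCoyoneda.obj (op ((H5Flasque.L1 J).obj K)) ≅
        Tm O ⋙ preadditiveCoyoneda.obj (op (ck J U K))) ≪≫ ckIso U O K

section derived
variable [HasInjectiveResolutions (ModSite.Mod O)] (M : ModSite.Mod O)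

omit [ModSite.HasPushOver O U] in
theorem ext_ck [HasExt.{u} (ModSite.Mod O)] (K : Cᵒᵖ ⥤ Type u) (n : ℕ) :
    Nonempty (Ext.{u} (cokernel ((L O).map (ι U K))) M n ≃+ Ext.{u} (ck J U K) ((Tm O).obj M) n) := by
  haveI := pfl O
  haveI := pfc O
  haveI : (Tm O).Additive := Functor.additive_of_preserves_binary_products _
  haveI := H5GrothSS.enoughInjectives_of_hasInjectiveResolutions (ModSite.Mod O)
  exact H5Compare.compare (Tm O) (fun S hS => hS.map_of_exact _) _ _
    (fun G => (ckEquiv U O K G).symm)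
    (fun {F G} φ g => ckEquiv_symm_natural U O K φ g)
    (fun I hI m => acyc_ck U (H5ModGood.totallyAcyclic_toSheaf (RR O) I) K m) n M

theorem flasque_vanishing (hM : CohCx.IsTotallyAcyclic (ModSite.toAb M)) (q : ℕ) (hq : 1 ≤ q) :
    IsZero ((ModSite.HZsh O U q).obj M) ∧ Subsingleton (ModSite.HZ U M q) := by
  obtain ⟨m, rfl⟩ : ∃ m, q = m + 1 := ⟨q - 1, by omega⟩
  refine ⟨?_, H5ExtSupp86.acyc_quotZ J U hM m⟩
  haveI := pfl O
  haveI := pfc O
  haveI := H5GrothSS.enoughInjectives_of_hasInjectiveResolutions (ModSite.Mod O)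
  haveI : HasExt.{u} (ModSite.Mod O) := hasExt_of_enoughInjectives.{u} _
  haveI : (Tm O).Additive := Functor.additive_of_preserves_binary_products _
  let T := ModSite.sectOn O U ⋙ Tm O
  let T' := T ⋙ sheafToPresheaf J AddCommGrpCat.{u}
  have h' : IsZero ((T'.rightDerived (m + 1)).obj M) := by
    refine Functor.isZero _ fun V => ?_
    let ev := (evaluation Cᵒᵖ AddCommGrpCat.{u}).obj V
    refine IsZero.of_iso ?_ (H5LocExt.rightDerived_comp_exact T' ev (m + 1) M).some.symm
    let e : T' ⋙ ev ≅ preadditiveCoyoneda.obj (op (cokernel ((L O).map (ι U (yoneda.obj V.unop))))) :=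
      (NatIso.ofComponents (fun G => (H5Compare.eqvAdd V.unop (T.obj G)).symm.toAddCommGrpIso) (fun {G G'} g => by
        refine ConcreteCategory.hom_ext _ _ fun x => ?_
        obtain ⟨φ, rfl⟩ := (H5Compare.eqvAdd V.unop (T.obj G)).surjective x
        apply (H5Compare.eqvAdd V.unop (T.obj G')).injective
        refine ((H5Compare.eqvAdd V.unop (T.obj G')).apply_symm_apply _).trans ?_
        refine (H5Compare.eqvAdd_comp φ (T.map g)).symm.trans ?_
        exact congrArg (fun t => H5Compare.eqvAdd V.unop (T.obj G') (t ≫ T.map g))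
          ((H5Compare.eqvAdd V.unop (T.obj G)).symm_apply_apply φ).symm) :
        T' ⋙ ev ≅ T ⋙ preadditiveCoyoneda.obj (op (H5SiteCoh.fU J V.unop))) ≪≫ suppIso U O (yoneda.obj V.unop)
    haveI := acyc_ck U hM (yoneda.obj V.unop) m
    haveI : Subsingleton (Ext.{u} (cokernel ((L O).map (ι U (yoneda.obj V.unop)))) M (m + 1)) :=
      (ext_ck U O M (yoneda.obj V.unop) (m + 1)).some.toEquiv.subsingleton
    exact (AddCommGrpCat.isZero_of_subsingleton _).of_iso
      (H5HomExt.nonempty_rightDerived_iso_ext _ M e (m + 1)).some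
  have hT : IsZero ((T.rightDerived (m + 1)).obj M) := by
    let a := presheafToSheaf J AddCommGrpCat.{u}
    let e : T ≅ T' ⋙ a := (Functor.rightUnitor T).symm ≪≫
      Functor.isoWhiskerLeft T (asIso (sheafificationAdjunction J AddCommGrpCat.{u}).counit).symm
    exact (Functor.map_isZero a h').of_iso ((RDer.rightDerivedIso e (m + 1)).app M ≪≫
      (H5LocExt.rightDerived_comp_exact T' a (m + 1) M).some)
  have h2 := hT.of_iso (H5LocExt.rightDerived_comp_exact (ModSite.sectOn O U) (Tm O) (m + 1) M).some.symm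
  rw [IsZero.iff_id_eq_zero]
  apply (SheafOfModules.toSheaf (ModSite.ringSh O)).map_injective
  exact h2.eq_of_src _ _

theorem supportsSS :
    ∃ (E : E₂CohomologicalSpectralSequence AddCommGrpCat.{u})
      (a : SpSeq.Abutment E (fun n : ℤ =>
        if 0 ≤ n then AddCommGrpCat.of (ModSite.HZ U M n.toNat) else AddCommGrpCat.of PUnit.{u + 1})),
      (∀ n : ℤ, a.IsFinite n) ∧ SpSeq.IsBounded E ∧
      ∀ p q : ℤ, Nonempty ((E.page 2 le_rfl).X (p, q) ≅
        (if 0 ≤ p ∧ 0 ≤ q then AddCommGrpCat.of (ModSite.HC O ((ModSite.HZsh O U q.toNat).obj M) p.toNat)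
          else AddCommGrpCat.of PUnit.{u + 1})) := by
  haveI := pfl O
  haveI := pfc O
  haveI := H5GrothSS.enoughInjectives_of_hasInjectiveResolutions (ModSite.Mod O)
  haveI : HasExt.{u} (ModSite.Mod O) := hasExt_of_enoughInjectives.{u} _
  haveI : (Tm O).Additive := Functor.additive_of_preserves_binary_products _
  let Z := (constantSheaf J AddCommGrpCat.{u}).obj (AddCommGrpCat.of (ULift.{u} ℤ))
  let S := preadditiveCoyoneda.obj (op Z)
  haveI : PreservesLimits S := preservesLimits_preadditiveCoyoneda_obj _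
  haveI : PreservesFiniteLimits S := PreservesLimits.preservesFiniteLimits _
  let eH : (ModSite.sectOn O U ⋙ Tm O) ⋙ S ≅
      preadditiveCoyoneda.obj (op (cokernel ((L O).map (ι U (H5LocExt.pt (C := C)))))) :=
    Functor.isoWhiskerLeft _ (preadditiveCoyoneda.mapIso (H5LocExt.zIso J).op) ≪≫ suppIso U O H5LocExt.pt
  let θ : ck J U (H5LocExt.pt (C := C)) ≅ ToposFin.quotZ (ToposFin.eps J U) := H5ExtSupp86.quotZIso J U
  obtain ⟨E, a, h1, h2, h3, h4⟩ := H5GrothSS.grothendieck (ModSite.sectOn O U ⋙ Tm O) S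
    (fun Q hQ q hq => by
      obtain ⟨m, rfl⟩ : ∃ m, q = m + 1 := ⟨q - 1, by omega⟩
      haveI := H5QuotOn.sectOn_injective O U Q
      exact (@AddCommGrpCat.isZero_of_subsingleton _
        (H5LocExt.acyc_const (H5ModGood.totallyAcyclic_toSheaf (RR O) ((ModSite.sectOn O U).obj Q)) m)).of_iso
        (H5HomExt.nonempty_rightDerived_iso_ext Z _ (Iso.refl S) (m + 1)).some) M
    (fun n : ℤ => if 0 ≤ n then AddCommGrpCat.of (ModSite.HZ U M n.toNat) else AddCommGrpCat.of PUnit.{u + 1})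
    (fun n hn => by rw [if_neg (by omega)]; exact AddCommGrpCat.isZero_of_subsingleton _)
    (fun n => ⟨(H5HomExt.nonempty_rightDerived_iso_ext _ M eH n).some ≪≫
      (ext_ck U O M H5LocExt.pt n).some.toAddCommGrpIso ≪≫
      ((Abelian.extFunctor n).mapIso θ.symm.op).app ((Tm O).obj M) ≪≫
      eqToIso (by rw [if_pos (Int.natCast_nonneg n), Int.toNat_natCast])⟩)
  refine ⟨E, a, h1, h2, fun p q => ?_⟩
  by_cases h : 0 ≤ p ∧ 0 ≤ q
  · rw [if_pos h]
    obtain ⟨e₂⟩ := h4 p.toNat q.toNat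
    rw [Int.toNat_of_nonneg h.1, Int.toNat_of_nonneg h.2] at e₂
    exact ⟨e₂ ≪≫ (S.rightDerived p.toNat).mapIso
      (H5LocExt.rightDerived_comp_exact (ModSite.sectOn O U) (Tm O) q.toNat M).some ≪≫
      (H5HomExt.nonempty_rightDerived_iso_ext _ _ (Iso.refl S) p.toNat).some⟩
  · rw [if_neg h]
    exact ⟨(h3 p q (by omega)).iso (AddCommGrpCat.isZero_of_subsingleton _)⟩

end derived
end Groth.Agent.H5ModSupp
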