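import Mathlib
import Groth.Prelude
universe u v
open CategoryTheory CategoryTheory.Limits CategoryTheory.Pretriangulated
open scoped ZeroObject
namespace Groth.Agent.H5OrthDec

variable {D : Type u} [Category.{v} D] [Preadditive D] [HasZeroObject D] [HasShift D ℤ]
    [∀ n : ℤ, (shiftFunctor D n).Additive] [Pretriangulated D]
    (P : ObjectProperty D)

def Dec : ObjectProperty D := fun X : D => ∃ (A B : D) (f : A ⟶ X) (g : X ⟶ B) (h : B ⟶ (shiftFunctor D (1 : ℤ)).obj A),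
      Triangle.mk f g h ∈ distinguishedTriangles ∧ P A ∧ P.rightOrthogonal B

lemma dec_of_triangle {T : Triangle D} (hT : T ∈ distinguishedTriangles) (hA : P.isoClosure T.obj₁)
    (hB : P.rightOrthogonal T.obj₃) : Dec P T.obj₂ := by
  obtain ⟨A₀, hA₀, ⟨e⟩⟩ := hA
  refine ⟨A₀, T.obj₃, e.inv ≫ T.mor₁, T.mor₂, T.mor₃ ≫ (shiftFunctor D (1 : ℤ)).map e.hom, ?_, hA₀, hB⟩
  refine isomorphic_distinguished _ hT _ ?_
  refine Triangle.isoMk _ _ e.symm (Iso.refl T.obj₂) (Iso.refl T.obj₃) ?_ ?_ ?_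
  · exact Category.comp_id _
  · exact (Category.comp_id _).trans (Category.id_comp _).symm
  · show (T.mor₃ ≫ (shiftFunctor D (1 : ℤ)).map e.hom) ≫ (shiftFunctor D (1 : ℤ)).map e.inv = 𝟙 T.obj₃ ≫ T.mor₃
    rw [Category.assoc, ← Functor.map_comp, e.hom_inv_id, CategoryTheory.Functor.map_id, Category.comp_id, Category.id_comp]

variable [P.IsTriangulated] [IsTriangulated D]

lemma dec_iso {X X' : D} (e : X ≅ X') (h : Dec P X) : Dec P X' := by
  obtain ⟨A, B, f, g, h, hT, hA, hB⟩ := h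
  refine ⟨A, B, f ≫ e.hom, e.inv ≫ g, h, ?_, hA, hB⟩
  refine isomorphic_distinguished _ hT _ (Triangle.isoMk _ _ (Iso.refl A) e.symm (Iso.refl B) ?_ ?_ ?_)
  · show (f ≫ e.hom) ≫ e.inv = 𝟙 A ≫ f
    simp
  · show (e.inv ≫ g) ≫ 𝟙 B = e.inv ≫ g
    simp
  · show h ≫ (shiftFunctor D (1 : ℤ)).map (𝟙 A) = 𝟙 B ≫ h
    simp

lemma dec_shift {X : D} (h : Dec P X) (n : ℤ) : Dec P ((shiftFunctor D n).obj X) := by
  obtain ⟨A, B, f, g, h, hT, hA, hB⟩ := h
  exact dec_of_triangle P (Triangle.shift_distinguished _ hT n)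
    (P.le_isoClosure _ (P.le_shift n _ hA)) (P.rightOrthogonal.le_shift n _ hB)

lemma dec_ext_orth {Y W B : D} (u : Y ⟶ W) (v : W ⟶ B) (w : B ⟶ (shiftFunctor D (1 : ℤ)).obj Y)
    (hT : Triangle.mk u v w ∈ distinguishedTriangles) (hY : Dec P Y) (hB : P.rightOrthogonal B) :
    Dec P W := by
  obtain ⟨A, B', f, g, h, hT', hA, hB'⟩ := hY
  obtain ⟨C, p, q, hC⟩ := distinguished_cocone_triangle (f ≫ u)
  have o := Triangulated.someOctahedron rfl hT' hT hC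
  have hCo : P.rightOrthogonal C :=
    P.rightOrthogonal.ext_of_isTriangulatedClosed₂ _ o.mem hB' hB
  exact dec_of_triangle P hC (P.le_isoClosure _ hA) hCo

lemma dec_ext (T : Triangle D) (hT : T ∈ distinguishedTriangles) (h₁ : Dec P T.obj₁)
    (h₃ : Dec P T.obj₃) : Dec P T.obj₂ := by
  obtain ⟨A₁, B₁, f₁, g₁, k₁, hT₁, hA₁, hB₁⟩ := h₁
  obtain ⟨A₃, B₃, f₃, g₃, k₃, hT₃, hA₃, hB₃⟩ := h₃
  have hS := Triangle.shift_distinguished _ hT₁ (1 : ℤ)
  set S := (CategoryTheory.shiftFunctor (Triangle D) (1 : ℤ)).obj (Triangle.mk f₁ g₁ k₁) with hSdef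
  obtain ⟨l, hl⟩ := Triangle.coyoneda_exact₂ S hS (f₃ ≫ T.mor₃)
    (P.rightOrthogonal.le_shift (1 : ℤ) _ hB₁ _ hA₃)
  obtain ⟨Q, p, q, hQ⟩ := distinguished_cocone_triangle l
  obtain ⟨Y, p', q', hY⟩ := distinguished_cocone_triangle (f₃ ≫ T.mor₃)
  have o₁ := Triangulated.someOctahedron hl.symm hQ hS hY
  have hQP : P.isoClosure Q :=
    P.ext_of_isTriangulatedClosed₃' _ hQ hA₃ (P.le_shift (1 : ℤ) _ hA₁)
  have hYdec : Dec P Y :=
    dec_of_triangle P o₁.mem hQP (P.rightOrthogonal.le_shift (1 : ℤ) _ hB₁)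
  have o₂ := Triangulated.someOctahedron rfl hT₃ (rot_of_distTriang _ (rot_of_distTriang _ hT)) hY
  have hW : Dec P ((shiftFunctor D (1 : ℤ)).obj T.obj₂) :=
    dec_ext_orth P _ _ _ (rot_of_distTriang _ o₂.mem) hYdec
      (P.rightOrthogonal.le_shift (1 : ℤ) _ hB₃)
  exact dec_iso P ((shiftShiftNeg T.obj₂ (1 : ℤ))) (dec_shift P hW (-1))

theorem dec_isTriangulated : (Dec P).IsTriangulated where
  exists_zero := ⟨(0 : D), isZero_zero D, by
    obtain ⟨Z, hZ, hPZ⟩ := P.exists_prop_of_containsZero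
    have hZo : P.rightOrthogonal Z := fun X f _ => hZ.eq_of_tgt _ _
    exact dec_iso P hZ.isoZero (dec_of_triangle P (contractible_distinguished Z) (P.le_isoClosure _ hPZ)
      (fun X f _ => (isZero_zero D).eq_of_tgt _ _))⟩
  isStableUnderShiftBy n := ⟨fun _ h => dec_shift P h n⟩
  ext₂' T hT h₁ h₃ := (Dec P).le_isoClosure _ (dec_ext P T hT h₁ h₃)

end Groth.Agent.H5OrthDec
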