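import Mathlib

open CategoryTheory CategoryTheory.Limits CategoryTheory.Pretriangulated

namespace Groth.Agent.H5OrthEnv

universe v u

theorem orth_iff {D : Type u} [Category.{v} D] [Preadditive D] [HasZeroObject D] [HasShift D ℤ]
    [∀ n : ℤ, (shiftFunctor D n).Additive] [Pretriangulated D] [IsTriangulated D]
    (E K : D) :
    (∀ (i : ℤ) (f : E ⟶ (shiftFunctor D i).obj K), f = 0) ↔
      ∀ (E' : D), (ObjectProperty.singleton E).triangEnvelope E' → ∀ f : E' ⟶ K, f = 0 := by
  constructor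
  · intro hK E' hE' f
    let P : ObjectProperty D := fun Y => ∃ n : ℤ, Nonempty (Y ≅ K⟦n⟧)
    have : P.IsStableUnderShift ℤ := ⟨fun a => ⟨fun Y ⟨n, ⟨e⟩⟩ =>
      ⟨n + a, ⟨(shiftFunctor D a).mapIso e ≪≫ ((shiftFunctorAdd D n a).app K).symm⟩⟩⟩⟩
    have : P.leftOrthogonal.IsStableUnderRetracts := ⟨fun {X Y} r hY Z f hZ => by
      have := hY (r.r ≫ f) hZ
      rw [← Category.id_comp f, ← r.retract, Category.assoc, this, comp_zero]⟩
    have hle : (ObjectProperty.singleton E) ≤ P.leftOrthogonal := by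
      intro X hX
      obtain ⟨⟩ := hX
      rintro Z f ⟨n, ⟨e⟩⟩
      rw [← cancel_mono e.hom, zero_comp]
      exact hK n _
    exact (ObjectProperty.triangEnvelope_le_iff _).2 hle E' hE' f ⟨0, ⟨((shiftFunctorZero D ℤ).app K).symm⟩⟩
  · intro h i f
    have hE : (ObjectProperty.singleton E).triangEnvelope (E⟦-i⟧) :=
      (ObjectProperty.singleton E).triangEnvelope.le_shift (-i) E
        ((ObjectProperty.singleton E).le_triangEnvelope E ⟨⟨⟩⟩)
    apply (shiftFunctor D (-i)).map_injective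
    refine (cancel_mono ((shiftEquiv D i).unitIso.inv.app K)).1 ?_
    exact (h _ hE _).trans (h _ hE _).symm

end Groth.Agent.H5OrthEnv
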