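import Groth.Agent.Lib.H5Compare
import Groth.Agent.Lib.H5OverInj

universe u

namespace Groth.Agent.H5OverCoh
open CategoryTheory Limits Opposite Abelian
set_option maxHeartbeats 800000

variable {C : Type u} [SmallCategory C] {J : GrothendieckTopology C}

theorem HU_over (F : Sheaf J AddCommGrpCat.{u}) (U : C) (n : ℕ) :
    Nonempty (CohSite.HU F n U ≃+ Sheaf.H.{u} (F.over U) n) := by
  let hT := Over.mkIdTerminal (X := U)
  let adj := constantSheafAdj (J.over U) AddCommGrpCat.{u} hT
  let e : ∀ G : Sheaf (J.over U) AddCommGrpCat.{u},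
      ((constantSheaf (J.over U) AddCommGrpCat.{u}).obj (AddCommGrpCat.of (ULift.{u} ℤ)) ⟶ G) ≃+
        G.obj.obj (op (Over.mk (𝟙 U))) := fun G =>
    (adj.homAddEquiv _ G).trans (AddCommGrpCat.uliftZMultiplesAddEquiv _)
  have he : ∀ {G G' : Sheaf (J.over U) AddCommGrpCat.{u}} (φ) (g : G ⟶ G'),
      e G' (φ ≫ g) = g.hom.app (op (Over.mk (𝟙 U))) (e G φ) := fun {G G'} φ g =>
    congrArg (AddCommGrpCat.uliftZMultiplesAddEquiv _) (adj.homEquiv_naturality_right φ g)
  haveI : (J.overPullback AddCommGrpCat.{u} U).PreservesZeroMorphisms :=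
    inferInstanceAs ((CohSite.push J (J.over U) (Over.forget U)).PreservesZeroMorphisms)
  exact H5Compare.compare.{u} (J.overPullback AddCommGrpCat.{u} U)
    (fun S hS => H5Compare.shortExact_pull (Over.forget U) S hS)
    ((constantSheaf (J.over U) AddCommGrpCat.{u}).obj (AddCommGrpCat.of (ULift.{u} ℤ))) (H5SiteCoh.fU J U)
    (fun G => (H5Compare.eqvAdd U G).trans (e ((J.overPullback AddCommGrpCat.{u} U).obj G)).symm)
    (fun {G G'} φ g => by
      apply (e _).injective
      refine ((e _).apply_symm_apply _).trans ?_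
      refine Eq.trans ?_ (he _ _).symm
      refine (H5Compare.eqvAdd_comp φ g).trans ?_
      exact congrArg _ ((e ((J.overPullback AddCommGrpCat.{u} U).obj G)).apply_symm_apply (H5Compare.eqvAdd U G φ)).symm)
    (fun I hI m => by
      haveI : Injective ((J.overPullback AddCommGrpCat.{u} U).obj I) := H5OverInj.injective_over I
      exact H5SiteCoh.subsingleton_ext_injective _ _ m) n F

end Groth.Agent.H5OverCoh
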