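import Mathlib
import Groth.Prelude.Def_PCoh

open CategoryTheory CategoryTheory.Limits

namespace Groth.Agent.H5PCShift

universe w v u

theorem shift_pc {C : Type u} [Category.{v} C] [Abelian C] [HasDerivedCategory.{w} C]
    (P : ObjectProperty C)
    (n : ℤ) (F : DerivedCategory C)
    (hF : (∃ E : CochainComplex C ℤ, PCoh.IsStrictPC P n E ∧ Nonempty (DerivedCategory.Q.obj E ≅ F))) (m : ℤ) :
    (∃ E : CochainComplex C ℤ, PCoh.IsStrictPC P (n - m) E ∧
      Nonempty (DerivedCategory.Q.obj E ≅ ((shiftFunctor (DerivedCategory C) m).obj F))) := by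
  obtain ⟨E, ⟨⟨b, hb⟩, hP⟩, ⟨e⟩⟩ := hF
  refine ⟨(shiftFunctor (CochainComplex C ℤ) m).obj E, ⟨⟨b - m, fun i hi => ?_⟩, fun i hi => ?_⟩,
    ⟨(DerivedCategory.Q.commShiftIso m).app E ≪≫ (shiftFunctor _ m).mapIso e⟩⟩
  · exact hb (i + m) (by omega)
  · exact hP (i + m) (by omega)

end Groth.Agent.H5PCShift
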