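import Mathlib

open CategoryTheory CategoryTheory.Limits Opposite

namespace Groth.Agent.H5PiHtpy

universe w v u

theorem pi_homotopy {C : Type u} [Category.{v} C] {T : Type w} [HasLimitsOfShape (Discrete T) C]
    {X Y : T → SimplicialObject C} (a b : ∀ t, X t ⟶ Y t)
    (h : ∀ t, Nonempty (SimplicialObject.Homotopy (a t) (b t))) :
    Nonempty (SimplicialObject.Homotopy (Limits.Pi.map a) (Limits.Pi.map b)) := by
  let H := fun t => (h t).some
  let G := fun k : SimplexCategoryᵒᵖ => (evaluation SimplexCategoryᵒᵖ C).obj k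
  have ext' : ∀ {k : SimplexCategoryᵒᵖ} {Z : C} (f g : Z ⟶ (∏ᶜ Y : SimplicialObject C).obj k),
      (∀ t, f ≫ (Pi.π Y t).app k = g ≫ (Pi.π Y t).app k) → f = g := fun {k} {Z} f g hfg =>
    (isLimitOfPreserves (G k) (limit.isLimit (Discrete.functor Y))).hom_ext fun ⟨t⟩ => hfg t
  let lift' : ∀ {k : SimplexCategoryᵒᵖ} {Z : C} (_ : ∀ t, Z ⟶ (Y t).obj k),
      Z ⟶ (∏ᶜ Y : SimplicialObject C).obj k := fun {k} {Z} f =>
    (isLimitOfPreserves (G k) (limit.isLimit (Discrete.functor Y))).lift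
      ⟨Z, Discrete.natTrans fun t => f t.as⟩
  have lift_π : ∀ {k : SimplexCategoryᵒᵖ} {Z : C} (f : ∀ t, Z ⟶ (Y t).obj k) (t : T),
      lift' f ≫ (Pi.π Y t).app k = f t := fun {k} {Z} f t =>
    (isLimitOfPreserves (G k) (limit.isLimit (Discrete.functor Y))).fac _ ⟨t⟩
  have mapπ : ∀ (c : ∀ t, X t ⟶ Y t) (k) (t), (Limits.Pi.map c).app k ≫ (Pi.π Y t).app k =
      (Pi.π X t).app k ≫ (c t).app k := fun c k t => by
    rw [← NatTrans.comp_app, Pi.map_π]
    rfl
  refine ⟨{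
    h := fun {n} i => lift' (fun t => (Pi.π X t).app _ ≫ (H t).h i)
    h_zero_comp_δ_zero := fun n => ?_
    h_last_comp_δ_last := fun n => ?_
    h_succ_comp_δ_castSucc_of_lt := fun i j hij => ?_
    h_succ_comp_δ_castSucc_succ := fun j => ?_
    h_castSucc_comp_δ_succ_of_lt := fun i j hij => ?_
    h_comp_σ_castSucc_of_le := fun i j hij => ?_
    h_comp_σ_succ_of_lt := fun i j hij => ?_ }⟩ <;>
    (apply ext'; intro t)
  all_goals simp only [Category.assoc, mapπ, SimplicialObject.δ_naturality, SimplicialObject.σ_naturality,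
    lift_π, reassoc_of% lift_π, SimplicialObject.δ_naturality_assoc, SimplicialObject.σ_naturality_assoc]
  · rw [(H t).h_zero_comp_δ_zero]
  · rw [(H t).h_last_comp_δ_last]
  · rw [(H t).h_succ_comp_δ_castSucc_of_lt i j hij]
  · rw [(H t).h_succ_comp_δ_castSucc_succ]
  · rw [(H t).h_castSucc_comp_δ_succ_of_lt i j hij]
  · rw [(H t).h_comp_σ_castSucc_of_le i j hij]
  · rw [(H t).h_comp_σ_succ_of_lt i j hij]

end Groth.Agent.H5PiHtpy
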