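import Mathlib

open CategoryTheory MonoidalCategory
open CategoryTheory.Functor.LaxMonoidal

namespace Groth.Agent.H5PicEquiv

universe v v' u u'

theorem equiv_of_pic
    {C : Type u} [Category.{v} C] [MonoidalCategory C] [IsGroupoid C]
    {D : Type u'} [Category.{v'} D] [MonoidalCategory D] [IsGroupoid D]
    (hC : ∀ X : C, (tensorLeft X).IsEquivalence)
    (hD : ∀ X : D, (tensorLeft X).IsEquivalence)
    (F : C ⥤ D) [F.LaxMonoidal] [F.EssSurj]
    (h0 : ∀ X Y : C, Nonempty (F.obj X ≅ F.obj Y) → Nonempty (X ≅ Y))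
    (h1 : Function.Bijective (fun φ : 𝟙_ C ⟶ 𝟙_ C => F.map φ)) :
    F.IsEquivalence := by
  have hend : ∀ X : C, Function.Bijective (fun a : X ⟶ X => F.map a) := by
    intro X
    have := hC X
    have := hD (F.obj X)
    let a : (𝟙_ C ⟶ 𝟙_ C) ≃ (X ⟶ X) :=
      ((Functor.FullyFaithful.ofFullyFaithful (tensorLeft X)).homEquiv).trans
        (Iso.homCongr (ρ_ X) (ρ_ X))
    let b : (𝟙_ D ⟶ 𝟙_ D) ≃ (F.obj X ⟶ F.obj X) :=
      ((Functor.FullyFaithful.ofFullyFaithful (tensorLeft (F.obj X))).homEquiv).trans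
        (Iso.homCongr (ρ_ (F.obj X)) (ρ_ (F.obj X)))
    let e : 𝟙_ D ≅ F.obj (𝟙_ C) := asIso (ε F)
    let c : (F.obj (𝟙_ C) ⟶ F.obj (𝟙_ C)) ≃ (𝟙_ D ⟶ 𝟙_ D) := Iso.homCongr e.symm e.symm
    have key : ∀ φ, F.map (a φ) = b (c (F.map φ)) := by
      intro φ
      simp only [a, b, c, e, Equiv.trans_apply, Functor.FullyFaithful.homEquiv_apply,
        Iso.homCongr_apply, curriedTensor_obj_map, Iso.symm_inv, Iso.symm_hom, asIso_hom, asIso_inv,
        MonoidalCategory.whiskerLeft_comp]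
      rw [Functor.map_comp, Functor.map_comp, ← Functor.LaxMonoidal.right_unitality_inv F X,
        Functor.LaxMonoidal.right_unitality F X]
      have hh : ∀ {Z : D} (f : F.obj X ⊗ F.obj (𝟙_ C) ⟶ Z),
          F.obj X ◁ inv (ε F) ≫ F.obj X ◁ ε F ≫ f = f := fun f => by
        rw [← Category.assoc, ← MonoidalCategory.whiskerLeft_comp, IsIso.inv_hom_id,
          MonoidalCategory.whiskerLeft_id, Category.id_comp]
      simp only [Category.assoc, hh, Functor.LaxMonoidal.μ_natural_right_assoc]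
    have hk : (fun x : X ⟶ X => F.map x) = b ∘ c ∘ (fun φ => F.map φ) ∘ a.symm := by
      funext x
      simpa using key (a.symm x)
    rw [hk]
    exact b.bijective.comp (c.bijective.comp (h1.comp a.symm.bijective))
  have hfull : F.Full := ⟨fun {X Y} f => by
    obtain ⟨i⟩ := h0 X Y ⟨asIso f⟩
    obtain ⟨a, ha⟩ := (hend X).2 (f ≫ inv (F.map i.hom))
    refine ⟨a ≫ i.hom, ?_⟩
    change F.map a = _ at ha
    simp [ha]⟩
  have hfaith : F.Faithful := ⟨fun {X Y} f g h => by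
    have : f ≫ inv g = 𝟙 X := (hend X).1 (show F.map (f ≫ inv g) = F.map (𝟙 X) by simp [h])
    simpa using congrArg (· ≫ g) this⟩
  exact { }

end Groth.Agent.H5PicEquiv
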