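import Mathlib

universe w w' v v' u u'

namespace Groth.Agent.H5PlusLES
open CategoryTheory Limits Category Pretriangulated

variable {C : Type u} [Category.{v} C] [Abelian C] [HasDerivedCategory.{w} C]
  [EnoughInjectives C] {D : Type u'} [Category.{v'} D] [Abelian D] [HasDerivedCategory.{w'} D]
  (F : C ⥤ D) [F.Additive]

omit [HasDerivedCategory.{w} C] in
lemma exists_inj_res (K : CochainComplex.Plus C) :
    ∃ (J : CochainComplex.Plus C) (i : K ⟶ J), (∀ n, Injective (J.obj.X n)) ∧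
      CochainComplex.Plus.quasiIso C i := by
  obtain ⟨n, hn⟩ := K.property
  have : K.obj.IsStrictlyGE n := hn
  obtain ⟨L, _, i, hi⟩ := CochainComplex.Plus.exists_quasiIso_injective K n
  exact ⟨(InjectiveObject.ι C).mapCochainComplexPlus.obj L, i,
    fun m => inferInstanceAs (Injective ((InjectiveObject.ι C).obj (L.obj.X m))), hi⟩

/-- the functor computing `H^i ∘ RF` on complexes -/
noncomputable abbrev Φ (i : ℤ) : CochainComplex.Plus C ⥤ D :=
  HomotopyCategory.Plus.quotient C ⋙ DerivedCategory.Plus.Qh ⋙ F.rightDerivedFunctorPlus ⋙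
      DerivedCategory.Plus.ι ⋙ DerivedCategory.homologyFunctor D i

/-- the functor `H^i ∘ F` on complexes -/
noncomputable abbrev M (i : ℤ) : CochainComplex.Plus C ⥤ D :=
  HomotopyCategory.Plus.quotient C ⋙ F.mapHomotopyCategoryPlus ⋙ DerivedCategory.Plus.Qh ⋙
      DerivedCategory.Plus.ι ⋙ DerivedCategory.homologyFunctor D i

theorem longExact {X₁ X₂ X₃ : CochainComplex.Plus C} (f : X₁ ⟶ X₂) (g : X₂ ⟶ X₃)
    (w : f.hom ≫ g.hom = 0) (hS : (ShortComplex.mk f.hom g.hom w).ShortExact) (i : ℤ) :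
    kernelSubobject ((Φ F i).map g) = imageSubobject ((Φ F i).map f) ∧
      ∃ δ : (Φ F i).obj X₃ ⟶ (Φ F (i + 1)).obj X₁,
        kernelSubobject δ = imageSubobject ((Φ F i).map g) ∧
          kernelSubobject ((Φ F (i + 1)).map f) = imageSubobject δ := by
  obtain ⟨J₁, i₁, hJ₁, hi₁⟩ := exists_inj_res X₁
  obtain ⟨J₂, i₂, hJ₂, hi₂⟩ := exists_inj_res X₂
  let q := HomotopyCategory.Plus.quotient C
  have he : ∀ {X J : CochainComplex.Plus C} (j : X ⟶ J), CochainComplex.Plus.quasiIso C j →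
      IsIso (DerivedCategory.Plus.Qh.map (q.map j)) := fun j hj =>
    Localization.inverts DerivedCategory.Plus.Qh (HomotopyCategory.Plus.quasiIso C) _
      ((HomotopyCategory.quotient_map_mem_quasiIso_iff _).2 hj)
  have he₁ := he i₁ hi₁
  have he₂ := he i₂ hi₂
  have hK : CochainComplex.IsKInjective ((q.obj J₂).obj.as) := by
    obtain ⟨n, hn⟩ := J₂.property
    have : ∀ m, Injective (J₂.obj.X m) := hJ₂
    have : J₂.obj.IsStrictlyGE n := hn
    exact CochainComplex.isKInjective_of_injective J₂.obj n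
  obtain ⟨φ', hφ'⟩ := (DerivedCategory.Plus.Qh_map_bijective_of_isKInjective (q.obj J₁) _ hK).surjective
    (inv (DerivedCategory.Plus.Qh.map (q.map i₁)) ≫ DerivedCategory.Plus.Qh.map (q.map f) ≫
      DerivedCategory.Plus.Qh.map (q.map i₂))
  obtain ⟨φ, rfl⟩ := q.map_surjective φ'
  -- the cone
  let Cn : CochainComplex.Plus C := ⟨CochainComplex.mappingCone φ.hom, by
    obtain ⟨n₁, h₁⟩ := J₁.property
    obtain ⟨n₂, h₂⟩ := J₂.property
    have : J₁.obj.IsStrictlyGE n₁ := h₁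
    have : J₂.obj.IsStrictlyGE n₂ := h₂
    exact ⟨min (n₁ - 1) n₂, CochainComplex.isStrictlyGE_mappingCone φ.hom n₁ n₂ _⟩⟩
  let j : J₂ ⟶ Cn := ObjectProperty.homMk (CochainComplex.mappingCone.inr φ.hom)
  have hCn : ∀ n, Injective (Cn.obj.X n) := fun n =>
    Injective.of_iso (HomologicalComplex.homotopyCofiber.XIsoBiprod φ.hom n (n + 1) rfl).symm
      inferInstance
  -- triangles
  let L := HomotopyCategory.quotient C (ComplexShape.up ℤ) ⋙ DerivedCategory.Qh
  let e := DerivedCategory.quotientCompQhIso C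
  let T : Triangle (DerivedCategory C) := Triangle.mk (L.map f.hom) (L.map g.hom)
    (e.hom.app _ ≫ (DerivedCategory.triangleOfSES hS).mor₃ ≫ (e.inv.app _)⟦(1 : ℤ)⟧')
  have hT : T ∈ distTriang _ := isomorphic_distinguished _ (DerivedCategory.triangleOfSES_distinguished hS) _
    (Triangle.isoMk _ _ (e.app _) (e.app _) (e.app _) (e.hom.naturality f.hom)
      (e.hom.naturality g.hom) (by
        show (_ ≫ _ ≫ _) ≫ _ = _
        erw [Category.assoc, Category.assoc, ← Functor.map_comp, Iso.inv_hom_id_app, CategoryTheory.Functor.map_id,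
          Category.comp_id]
        rfl))
  let T' := DerivedCategory.Qh.mapTriangle.obj (CochainComplex.mappingCone.triangleh φ.hom)
  have hT' : T' ∈ distTriang _ := DerivedCategory.Qh.map_distinguished _
    (HomotopyCategory.mappingCone_triangleh_distinguished φ.hom)
  let e₁ : T.obj₁ ⟶ T'.obj₁ := L.map i₁.hom
  let e₂ : T.obj₂ ⟶ T'.obj₂ := L.map i₂.hom
  have comm : T.mor₁ ≫ e₂ = e₁ ≫ T'.mor₁ := by
    have h := congrArg DerivedCategory.Plus.ι.map
      ((IsIso.eq_inv_comp _).1 hφ')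
    simp only [Functor.map_comp] at h
    exact h.symm
  obtain ⟨a, ha, ha'⟩ := complete_distinguished_triangle_morphism T T' hT hT' e₁ e₂ comm
  have : IsIso (DerivedCategory.Plus.ι.map (DerivedCategory.Plus.Qh.map (q.map i₁))) := inferInstance
  have : IsIso (DerivedCategory.Plus.ι.map (DerivedCategory.Plus.Qh.map (q.map i₂))) := inferInstance
  have hai : IsIso a := isIso₃_of_isIso₁₂ (Triangle.homMk T T' e₁ e₂ a comm ha ha') hT hT'
    ‹IsIso (DerivedCategory.Plus.ι.map (DerivedCategory.Plus.Qh.map (q.map i₁)))›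
    ‹IsIso (DerivedCategory.Plus.ι.map (DerivedCategory.Plus.Qh.map (q.map i₂)))›
  let E₁ := asIso (DerivedCategory.Plus.Qh.map (q.map i₁))
  let E₂ := asIso (DerivedCategory.Plus.Qh.map (q.map i₂))
  let E₃ : DerivedCategory.Plus.Qh.obj (q.obj X₃) ≅ DerivedCategory.Plus.Qh.obj (q.obj Cn) :=
    DerivedCategory.Plus.ι.preimageIso (@asIso _ _ _ _ a hai)
  have cf : DerivedCategory.Plus.Qh.map (q.map f) ≫ E₂.hom =
      E₁.hom ≫ DerivedCategory.Plus.Qh.map (q.map φ) := DerivedCategory.Plus.ι.map_injective comm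
  have cg : DerivedCategory.Plus.Qh.map (q.map g) ≫ E₃.hom =
      E₂.hom ≫ DerivedCategory.Plus.Qh.map (q.map j) := by
    apply DerivedCategory.Plus.ι.map_injective
    rw [Functor.map_comp, Functor.map_comp]
    simp only [E₃, Functor.preimageIso_hom, Functor.map_preimage]
    exact ha
  let α := F.rightDerivedFunctorPlusUnit
  have hα : ∀ (J : CochainComplex.Plus C), (∀ n, Injective (J.obj.X n)) → IsIso (α.app (q.obj J)) := by
    intro J hJ
    have : ∀ n, Injective ((q.obj J).obj.as.X n) := hJ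
    infer_instance
  let G := fun n => DerivedCategory.Plus.ι ⋙ DerivedCategory.homologyFunctor D n
  let b : ∀ (n : ℤ) {X J : CochainComplex.Plus C}, (∀ m, Injective (J.obj.X m)) →
      (DerivedCategory.Plus.Qh.obj (q.obj X) ≅ DerivedCategory.Plus.Qh.obj (q.obj J)) →
      ((Φ F n).obj X ≅ (M F n).obj J) := fun n X J hJ E =>
    (F.rightDerivedFunctorPlus ⋙ G n).mapIso E ≪≫ (G n).mapIso (@asIso _ _ _ _ _ (hα J hJ)).symm
  have sq : ∀ (n : ℤ) {X Y J K : CochainComplex.Plus C} (hJ : ∀ m, Injective (J.obj.X m))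
      (hK : ∀ m, Injective (K.obj.X m))
      (E : DerivedCategory.Plus.Qh.obj (q.obj X) ≅ DerivedCategory.Plus.Qh.obj (q.obj J))
      (E' : DerivedCategory.Plus.Qh.obj (q.obj Y) ≅ DerivedCategory.Plus.Qh.obj (q.obj K))
      (h : X ⟶ Y) (k : J ⟶ K) (_ : DerivedCategory.Plus.Qh.map (q.map h) ≫ E'.hom =
        E.hom ≫ DerivedCategory.Plus.Qh.map (q.map k)),
      (b n hJ E).hom ≫ (M F n).map k = (Φ F n).map h ≫ (b n hK E').hom := by
    intro n X Y J K hJ hK E E' h k hk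
    have := hα J hJ
    have := hα K hK
    have hn := congrArg (G n).map (α.naturality (q.map k))
    have hk' := congrArg (F.rightDerivedFunctorPlus ⋙ G n).map hk
    simp only [Functor.map_comp] at hn hk'
    dsimp only [b, Iso.trans_hom, Functor.mapIso_hom, Iso.symm_hom, asIso_inv]
    rw [← cancel_mono ((G n).map (α.app (q.obj K)))]
    simp only [Category.assoc]
    erw [hn, ← Functor.map_comp_assoc, IsIso.inv_hom_id, CategoryTheory.Functor.map_id,
      Category.id_comp]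
    erw [← (G n).map_comp (inv (α.app (q.obj K))), IsIso.inv_hom_id, CategoryTheory.Functor.map_id,
      Category.comp_id]
    exact hk'.symm
  -- the triangle of `F`
  let T₃ := DerivedCategory.Qh.mapTriangle.obj ((F.mapHomotopyCategory (ComplexShape.up ℤ)).mapTriangle.obj
    (CochainComplex.mappingCone.triangleh φ.hom))
  have hT₃ : T₃ ∈ distTriang _ := DerivedCategory.Qh.map_distinguished _
    ((F.mapHomotopyCategory (ComplexShape.up ℤ)).map_distinguished _
      (HomotopyCategory.mappingCone_triangleh_distinguished φ.hom))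
  let δ' : (M F i).obj Cn ⟶ (M F (i + 1)).obj J₁ :=
    DerivedCategory.HomologySequence.δ T₃ i (i + 1) rfl
  have hz₂ : (M F i).map φ ≫ (M F i).map j = 0 :=
    (ShortComplex.mk ((DerivedCategory.homologyFunctor D i).map T₃.mor₁)
      ((DerivedCategory.homologyFunctor D i).map T₃.mor₂)
      (by rw [← Functor.map_comp, comp_distTriang_mor_zero₁₂ _ hT₃, Functor.map_zero])).zero
  have hz₃ : (M F i).map j ≫ δ' = 0 := DerivedCategory.HomologySequence.comp_δ T₃ hT₃ i (i + 1) rfl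
  have hz₁ : δ' ≫ (M F (i + 1)).map φ = 0 := DerivedCategory.HomologySequence.δ_comp T₃ hT₃ i (i + 1) rfl
  have hx₂ : (ShortComplex.mk _ _ hz₂).Exact := DerivedCategory.HomologySequence.exact₂ T₃ hT₃ i
  have hx₃ : (ShortComplex.mk _ _ hz₃).Exact := DerivedCategory.HomologySequence.exact₃ T₃ hT₃ i (i + 1) rfl
  have hx₁ : (ShortComplex.mk _ _ hz₁).Exact := DerivedCategory.HomologySequence.exact₁ T₃ hT₃ i (i + 1) rfl
  let a₁ := fun n => b n hJ₁ E₁
  let a₂ := fun n => b n hJ₂ E₂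
  let a₃ := fun n => b n hCn E₃
  have s₁ : ∀ n, (a₁ n).hom ≫ (M F n).map φ = (Φ F n).map f ≫ (a₂ n).hom := fun n =>
    sq n hJ₁ hJ₂ E₁ E₂ f φ cf
  have s₂ : ∀ n, (a₂ n).hom ≫ (M F n).map j = (Φ F n).map g ≫ (a₃ n).hom := fun n =>
    sq n hJ₂ hCn E₂ E₃ g j cg
  have tr : ∀ {A₁ A₂ A₃ B₁ B₂ B₃ : D} {p : A₁ ⟶ A₂} {p' : A₂ ⟶ A₃} {r : B₁ ⟶ B₂} {r' : B₂ ⟶ B₃}
      (u₁ : A₁ ≅ B₁) (u₂ : A₂ ≅ B₂) (u₃ : A₃ ≅ B₃) (hz : r ≫ r' = 0)
      (_ : (ShortComplex.mk r r' hz).Exact) (_ : u₁.hom ≫ r = p ≫ u₂.hom)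
      (_ : u₂.hom ≫ r' = p' ≫ u₃.hom), kernelSubobject p' = imageSubobject p := by
    intro A₁ A₂ A₃ B₁ B₂ B₃ p p' r r' u₁ u₂ u₃ hz hx h h'
    have hz' : p ≫ p' = 0 := by
      rw [← cancel_mono u₃.hom, Category.assoc, ← h', ← Category.assoc, ← h, Category.assoc, hz,
        comp_zero, zero_comp]
    have hx' := (ShortComplex.exact_iff_of_iso (ShortComplex.isoMk (S₁ := ShortComplex.mk p p' hz')
      (S₂ := ShortComplex.mk r r' hz) u₁ u₂ u₃ h h')).2 hx
    exact ((ShortComplex.exact_iff_image_eq_kernel _).1 hx').symm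
  refine ⟨tr (a₁ i) (a₂ i) (a₃ i) hz₂ hx₂ (s₁ i) (s₂ i), (a₃ i).hom ≫ δ' ≫ (a₁ (i + 1)).inv, ?_, ?_⟩
  · exact tr (a₂ i) (a₃ i) (a₁ (i + 1)) hz₃ hx₃ (s₂ i) (by simp)
  · exact tr (a₃ i) (a₁ (i + 1)) (a₂ (i + 1)) hz₁ hx₁ (by simp) (s₁ (i + 1))

end Groth.Agent.H5PlusLES
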