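import Mathlib
import Groth.Prelude

universe v u

open CategoryTheory CategoryTheory.Limits Opposite

namespace Groth.Agent.H5PointsLocal

theorem hasEnoughPoints_of_coversTop {C : Type u} [SmallCategory C] (J : GrothendieckTopology C) {ι : Type u}
    (X : ι → C) (hX : J.CoversTop X) (h : ∀ i, GrothendieckTopology.HasEnoughPoints.{u} (J.over (X i))) :
    GrothendieckTopology.HasEnoughPoints.{u} J := by
  choose P hPs hP using fun i => (h i).exists_objectProperty
  have : ∀ i, Small.{u} (Subtype (P i)) := hPs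
  let pts : (Σ i, Subtype (P i)) → GrothendieckTopology.Point.{u} J :=
    fun q => q.2.1.map (Over.forget (X q.1)) J
  refine ⟨⟨ObjectProperty.ofObj pts, inferInstance,
    ObjectProperty.IsConservativeFamilyOfPoints.mk' fun Y S hS => ?_⟩⟩
  refine J.transitive (hX Y) S fun W f hf => ?_
  obtain ⟨i, ⟨a⟩⟩ := hf
  let S' := (Sieve.overEquiv (Over.mk a)).symm (S.pullback f)
  suffices hS' : S' ∈ J.over (X i) (Over.mk a) by
    rw [GrothendieckTopology.mem_over_iff, OrderIso.apply_symm_apply] at hS'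
    exact hS'
  obtain ⟨κ, Z, g, hg⟩ := S'.exists_eq_ofArrows
  rw [hg, (hP i).jointly_reflect_ofArrows_mem_of_small]
  intro Φ x
  let p := CategoryOfElements.π Φ.obj.fiber ⋙ Over.forget (X i)
  let u₀ : Φ.obj.fiber.Elements := Φ.obj.fiber.elementsMk _ x
  obtain ⟨Y', g', hg', y, hy⟩ := hS ⟨_, ObjectProperty.ofObj_apply pts ⟨i, ⟨Φ.obj, Φ.property⟩⟩⟩
    (GrothendieckTopology.Point.ofIsCofiltered.fiberMk (p := p) (U := u₀) f)
  obtain ⟨v, k, rfl⟩ := GrothendieckTopology.Point.ofIsCofiltered.fiberMk_jointly_surjective y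
  have hy' : GrothendieckTopology.Point.ofIsCofiltered.fiberMk (p := p) (U := v) (k ≫ g') =
      GrothendieckTopology.Point.ofIsCofiltered.fiberMk (p := p) (U := u₀) f :=
    (GrothendieckTopology.Point.ofIsCofiltered.fiber_map_fiberMk p k g').symm.trans hy
  let w := IsCofiltered.min u₀ v
  let q : w ⟶ u₀ := IsCofiltered.minToLeft _ _
  let r : w ⟶ v := IsCofiltered.minToRight _ _
  obtain ⟨V, t, ht⟩ := GrothendieckTopology.Point.ofIsCofiltered.exists_of_fiberMk_eq_fiberMk
    (p := p) (U := w) (f₁ := p.map r ≫ k ≫ g') (f₂ := p.map q ≫ f) (by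
      rw [GrothendieckTopology.Point.ofIsCofiltered.fiberMk_map_comp,
        GrothendieckTopology.Point.ofIsCofiltered.fiberMk_map_comp, hy'])
  have hmem : S' ((t ≫ q).1 : V.1 ⟶ Over.mk a) := by
    rw [Sieve.overEquiv_symm_iff]
    show S ((t ≫ q).1.left ≫ f)
    have e : (t ≫ q).1.left ≫ f = (p.map t ≫ p.map r ≫ k) ≫ g' := by
      simp only [Category.assoc]
      rw [ht, ← Category.assoc, ← p.map_comp]
      rfl
    rw [e]
    exact S.downward_closed hg' _
  rw [hg] at hmem
  obtain ⟨_, b, _, ⟨l⟩, hb⟩ := hmem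
  refine ⟨l, Φ.obj.fiber.map b V.2, ?_⟩
  refine (ConcreteCategory.congr_hom (Φ.obj.fiber.map_comp b (g l)) V.2).symm.trans ?_
  rw [hb]
  exact (t ≫ q).2

end Groth.Agent.H5PointsLocal
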