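import Mathlib
import Groth.Prelude
universe u v
open CategoryTheory CategoryTheory.Limits CategoryTheory.Pretriangulated
namespace Groth.Agent.H5Postnikov

theorem postnikov_unique {D : Type u} [Category.{v} D] [Preadditive D] [HasZeroObject D] [HasShift D ℤ]
    [∀ n : ℤ, (shiftFunctor D n).Additive] [Pretriangulated D]
    (X X' : ChainComplex D ℕ) (φ : X ⟶ X') (n : ℕ)
    (Y : ℕ → D) (a : ∀ k, Y k ⟶ X.X k) (b : ∀ k, X.X (k + 1) ⟶ Y k)
    (c : ∀ k, Y k ⟶ (shiftFunctor D (1 : ℤ)).obj (Y (k + 1)))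
    (hP : ∀ k, k < n → Triangle.mk (a (k + 1)) (b k) (c k) ∈ distinguishedTriangles)
    (qY : ℕ → D) (qa : ∀ k, qY k ⟶ X'.X k)
    (qc : ∀ k, qY k ⟶ (shiftFunctor D (1 : ℤ)).obj (qY (k + 1)))
    (qh0 : IsIso (qa 0))
    (hv : ∀ i : ℕ, 1 ≤ i → i ≤ n → ∀ ψ : (shiftFunctor D (i : ℤ)).obj (X.X i) ⟶ (shiftFunctor D (n : ℤ)).obj (qY n), ψ = 0)
    (y z : ∀ k, Y k ⟶ qY k)
    (hy0 : y 0 ≫ qa 0 = a 0 ≫ φ.f 0) (hz0 : z 0 ≫ qa 0 = a 0 ≫ φ.f 0)
    (hy : ∀ k, k < n → c k ≫ (shiftFunctor D (1 : ℤ)).map (y (k + 1)) = y k ≫ qc k)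
    (hz : ∀ k, k < n → c k ≫ (shiftFunctor D (1 : ℤ)).map (z (k + 1)) = z k ≫ qc k) :
    y n = z n := by
  have key : ∀ k, k ≤ n → ∀ g : (shiftFunctor D (k : ℤ)).obj (qY k) ⟶ (shiftFunctor D (n : ℤ)).obj (qY n),
      (shiftFunctor D (k : ℤ)).map (y k - z k) ≫ g = 0 := by
    intro k
    induction k with
    | zero =>
      intro _ g
      have h : y 0 - z 0 = 0 := by
        rw [sub_eq_zero, ← cancel_mono (qa 0), hy0, hz0]
      rw [h, Functor.map_zero, zero_comp]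
    | succ k ih =>
      intro hk g
      have hkn : k < n := by omega
      have hh : (1 : ℤ) + (k : ℤ) = ((k + 1 : ℕ) : ℤ) := by omega
      let e := shiftFunctorAdd' D (1 : ℤ) (k : ℤ) ((k + 1 : ℕ) : ℤ) hh
      set ψ := (shiftFunctor D (k : ℤ)).map ((shiftFunctor D (1 : ℤ)).map (y (k + 1) - z (k + 1))) ≫
        e.inv.app (qY (k + 1)) ≫ g with hψ
      have h0 : (shiftFunctor D (k : ℤ)).map (c k) ≫ ψ = 0 := by
        have hc : c k ≫ (shiftFunctor D (1 : ℤ)).map (y (k + 1) - z (k + 1)) = (y k - z k) ≫ qc k := by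
          rw [Functor.map_sub, Preadditive.comp_sub, Preadditive.sub_comp, hy k hkn, hz k hkn]
        rw [hψ, ← Functor.map_comp_assoc, hc, Functor.map_comp, Category.assoc]
        exact ih hkn.le _
      have hT' := Triangle.shift_distinguished _
        (rot_of_distTriang _ (rot_of_distTriang _ (hP k hkn))) (k : ℤ)
      obtain ⟨g', hg'⟩ := Triangle.yoneda_exact₂ _ hT' ψ (by
        show ((k : ℤ).negOnePow • (shiftFunctor D (k : ℤ)).map (c k)) ≫ ψ = 0
        rw [Units.smul_def, Preadditive.zsmul_comp, h0, smul_zero])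
      have hg0 : g' = 0 :=
        (cancel_epi (e.hom.app (X.X (k + 1)))).1 ((hv (k + 1) (by omega) hk _).trans comp_zero.symm)
      have hψ0 : ψ = 0 := by subst hg0; exact hg'.trans comp_zero
      rw [hψ] at hψ0
      rw [← cancel_epi (e.inv.app (Y (k + 1))), comp_zero]
      erw [← Category.assoc, ← NatTrans.naturality, Category.assoc]
      exact hψ0
  have h := key n le_rfl (𝟙 _)
  rw [Category.comp_id] at h
  exact sub_eq_zero.1 ((shiftFunctor D (n : ℤ)).map_injective (h.trans (Functor.map_zero _ _ _).symm))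

end Groth.Agent.H5Postnikov
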