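import Groth.Agent.Lib.H5PostnikovEx
universe u v
open CategoryTheory CategoryTheory.Limits CategoryTheory.Pretriangulated
namespace Groth.Agent.H5Postnikov2

variable {D : Type u} [Category.{v} D] [Preadditive D] [HasZeroObject D] [HasShift D ℤ]
    [∀ n : ℤ, (shiftFunctor D n).Additive] [Pretriangulated D]

lemma zero_shift {Z T : D} (a b s : ℤ) (h : a + b = s)
    (hz : ∀ ψ : (shiftFunctor D s).obj Z ⟶ T, ψ = 0)
    (ψ : (shiftFunctor D b).obj ((shiftFunctor D a).obj Z) ⟶ T) : ψ = 0 :=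
  (cancel_epi ((shiftFunctorAdd' D a b s h).hom.app Z)).1 ((hz _).trans comp_zero.symm)

lemma zero_shift' {Z T : D} (a b s : ℤ) (h : a + b = s)
    (hz : ∀ ψ : T ⟶ (shiftFunctor D s).obj Z, ψ = 0)
    (ψ : T ⟶ (shiftFunctor D b).obj ((shiftFunctor D a).obj Z)) : ψ = 0 :=
  (cancel_mono ((shiftFunctorAdd' D a b s h).inv.app Z)).1 ((hz _).trans zero_comp.symm)

theorem postnikov_unique' (X X' : ChainComplex D ℕ) (φ : X ⟶ X') (n : ℕ)
    (Y : ℕ → D) (a : ∀ k, Y k ⟶ X.X k) (b : ∀ k, X.X (k + 1) ⟶ Y k)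
    (c : ∀ k, Y k ⟶ (shiftFunctor D (1 : ℤ)).obj (Y (k + 1)))
    (h0 : IsIso (a 0))
    (hP : ∀ k, k < n → Triangle.mk (a (k + 1)) (b k) (c k) ∈ distinguishedTriangles)
    (qY : ℕ → D) (qa : ∀ k, qY k ⟶ X'.X k) (qb : ∀ k, X'.X (k + 1) ⟶ qY k)
    (qc : ∀ k, qY k ⟶ (shiftFunctor D (1 : ℤ)).obj (qY (k + 1)))
    (qh0 : IsIso (qa 0))
    (qhP : ∀ k, k < n → Triangle.mk (qa (k + 1)) (qb k) (qc k) ∈ distinguishedTriangles)
    (hv : ∀ i j : ℕ, 0 < i → i ≤ j → j ≤ n →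
      (∀ ψ : (shiftFunctor D (1 - (i : ℤ))).obj (X.X (j - i)) ⟶ X'.X j, ψ = 0) ∧
      (∀ ψ : X.X j ⟶ (shiftFunctor D (-(i : ℤ))).obj (X'.X (j - i)), ψ = 0))
    (y z : ∀ k, Y k ⟶ qY k)
    (hy : (∀ k, k ≤ n → y k ≫ qa k = a k ≫ φ.f k) ∧
      (∀ k, k < n → c k ≫ (shiftFunctor D (1 : ℤ)).map (y (k + 1)) = y k ≫ qc k))
    (hz : (∀ k, k ≤ n → z k ≫ qa k = a k ≫ φ.f k) ∧
      (∀ k, k < n → c k ≫ (shiftFunctor D (1 : ℤ)).map (z (k + 1)) = z k ≫ qc k))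
    (k : ℕ) (hk : k ≤ n) : y k = z k := by
  have hA' : ∀ m j : ℕ, m < j → j ≤ n → ∀ ψ : (shiftFunctor D ((m : ℤ) + 1 - j)).obj (X.X m) ⟶ X'.X j, ψ = 0 := by
    intro m j hm hj
    have := (hv (j - m) j (by omega) (by omega) hj).1
    rw [show j - (j - m) = m by omega, show 1 - ((j - m : ℕ) : ℤ) = (m : ℤ) + 1 - j by omega] at this
    exact this
  have hB' : ∀ m j : ℕ, m < j → j ≤ n → ∀ ψ : X.X j ⟶ (shiftFunctor D ((m : ℤ) - j)).obj (X'.X m), ψ = 0 := by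
    intro m j hm hj
    have := (hv (j - m) j (by omega) (by omega) hj).2
    rw [show j - (j - m) = m by omega, show -((j - m : ℕ) : ℤ) = (m : ℤ) - j by omega] at this
    exact this
  have keyA : ∀ k j : ℕ, k < j → j ≤ n → ∀ ψ : (shiftFunctor D ((k : ℤ) + 1 - j)).obj (Y k) ⟶ X'.X j, ψ = 0 := by
    intro k
    induction k with
    | zero =>
      intro j hj hjn ψ
      exact (cancel_epi ((shiftFunctor D _).map (inv (a 0)))).1 ((hA' 0 j hj hjn _).trans comp_zero.symm)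
    | succ k ih =>
      intro j hj hjn ψ
      have hT := Triangle.shift_distinguished _ (inv_rot_of_distTriang _ (hP k (by omega))) (((k + 1 : ℕ) : ℤ) + 1 - j)
      obtain ⟨t, ht⟩ := Triangle.yoneda_exact₂ _ hT ψ
        (zero_shift (-1) _ ((k : ℤ) + 1 - j) (by push_cast; ring) (ih j (by omega) hjn) _)
      rw [ht, hA' (k + 1) j hj hjn t]
      exact comp_zero
  have keyB : ∀ k j : ℕ, k < j → j ≤ n → ∀ ψ : X.X j ⟶ (shiftFunctor D ((k : ℤ) - j)).obj (qY k), ψ = 0 := by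
    intro k
    induction k with
    | zero =>
      intro j hj hjn ψ
      exact (cancel_mono ((shiftFunctor D _).map (qa 0))).1 ((hB' 0 j hj hjn _).trans zero_comp.symm)
    | succ k ih =>
      intro j hj hjn ψ
      have hT := Triangle.shift_distinguished _ (inv_rot_of_distTriang _ (qhP k (by omega))) (((k + 1 : ℕ) : ℤ) - j)
      obtain ⟨t, ht⟩ := Triangle.coyoneda_exact₂ _ hT ψ (hB' (k + 1) j hj hjn _)
      rw [ht, zero_shift' (-1) _ ((k : ℤ) - j) (by push_cast; ring) (ih j (by omega) hjn) t]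
      exact zero_comp
  induction k with
  | zero => rw [← cancel_mono (qa 0), hy.1 0 hk, hz.1 0 hk]
  | succ k ih =>
    have hkn : k < n := by omega
    have hyz := ih hkn.le
    let d := y (k + 1) - z (k + 1)
    have hd1 : d ≫ qa (k + 1) = 0 := by rw [Preadditive.sub_comp, hy.1 _ hk, hz.1 _ hk, sub_self]
    have hd2 : c k ≫ (shiftFunctor D (1 : ℤ)).map d = 0 := by
      rw [Functor.map_sub, Preadditive.comp_sub, hy.2 k hkn, hz.2 k hkn, hyz, sub_self]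
    obtain ⟨u', hu'⟩ := Triangle.yoneda_exact₂ _ (rot_of_distTriang _ (rot_of_distTriang _ (hP k hkn))) _ hd2
    obtain ⟨v, rfl⟩ : ∃ v : X.X (k + 1) ⟶ qY (k + 1), (shiftFunctor D (1 : ℤ)).map v = u' :=
      (shiftFunctor D (1 : ℤ)).map_surjective u'
    have hd : d = a (k + 1) ≫ (-v) := by
      apply (shiftFunctor D (1 : ℤ)).map_injective
      rw [Functor.map_comp, Functor.map_neg, Preadditive.comp_neg]
      exact hu'.trans (Preadditive.neg_comp _ _)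
    have hv0 : (-v) ≫ qa (k + 1) = 0 := by
      obtain ⟨w, hw⟩ := Triangle.yoneda_exact₂ _ (hP k hkn) ((-v) ≫ qa (k + 1)) (by
        exact (Category.assoc _ _ _).symm.trans ((congrArg (· ≫ qa (k + 1)) hd.symm).trans hd1))
      have e : (((k : ℕ) : ℤ) + 1 - ((k + 1 : ℕ) : ℤ)) = 0 := by push_cast; ring
      have hw0 : w = 0 := (cancel_epi ((shiftFunctorZero' D _ e).hom.app (Y k))).1
        ((keyA k (k + 1) (by omega) hk _).trans comp_zero.symm)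
      exact hw.trans ((congrArg _ hw0).trans comp_zero)
    obtain ⟨t, ht⟩ := Triangle.coyoneda_exact₂ _ (inv_rot_of_distTriang _ (qhP k hkn)) (-v) hv0
    have e' : ((k : ℤ) - ((k + 1 : ℕ) : ℤ)) = -1 := by push_cast; ring
    have ht0 : t = 0 := by
      have := keyB k (k + 1) (by omega) hk
      rw [e'] at this
      exact this t
    rw [← sub_eq_zero]
    change d = 0
    rw [hd, ht, ht0]
    exact (congrArg (a (k + 1) ≫ ·) zero_comp).trans comp_zero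

theorem exists_postnikov (X : ChainComplex D ℕ) (n : ℕ)
    (hX : ∀ i j : ℕ, j + 2 < i → i ≤ n → ∀ φ : (shiftFunctor D ((i : ℤ) - j - 2)).obj (X.X i) ⟶ X.X j, φ = 0) :
    ∃ (Y : ℕ → D) (a : ∀ k, Y k ⟶ X.X k) (b : ∀ k, X.X (k + 1) ⟶ Y k) (c : ∀ k, Y k ⟶ (shiftFunctor D (1 : ℤ)).obj (Y (k + 1))),
      IsIso (a 0) ∧ ∀ k, k < n → Triangle.mk (a (k + 1)) (b k) (c k) ∈ distinguishedTriangles ∧ b k ≫ a k = X.d (k + 1) k := by
  let Inv := fun (k : ℕ) (Z : D) (a : Z ⟶ X.X k) =>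
    (k < n → ∃ b : X.X (k + 1) ⟶ Z, b ≫ a = X.d (k + 1) k) ∧
    (k + 2 ≤ n → ∀ e : X.X (k + 2) ⟶ Z, e ≫ a = 0 → e = 0) ∧
    (∀ i, k + 2 < i → i ≤ n → ∀ ψ : (shiftFunctor D ((i : ℤ) - k - 2)).obj (X.X i) ⟶ Z, ψ = 0)
  let St := fun k : ℕ => {x : (Z : D) × (Z ⟶ X.X k) // Inv k x.1 x.2}
  have step : ∀ k (x : St k), ∃ (b : X.X (k + 1) ⟶ x.1.1) (x' : St (k + 1)) (c : x.1.1 ⟶ (shiftFunctor D (1 : ℤ)).obj x'.1.1),
      Triangle.mk x'.1.2 b c ∈ distinguishedTriangles ∧ (k < n → b ≫ x.1.2 = X.d (k + 1) k) := by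
    intro k x
    obtain ⟨b, hb⟩ : ∃ b : X.X (k + 1) ⟶ x.1.1, k < n → b ≫ x.1.2 = X.d (k + 1) k := by
      by_cases hk : k < n
      · obtain ⟨b, hb⟩ := x.2.1 hk; exact ⟨b, fun _ => hb⟩
      · exact ⟨0, fun h => absurd h hk⟩
    obtain ⟨Z, a', c, hT⟩ := distinguished_cocone_triangle₁ b
    have hvan : ∀ i, k + 1 + 2 < i → i ≤ n →
        ∀ ψ : (shiftFunctor D ((i : ℤ) - (k + 1 : ℕ) - 2)).obj (X.X i) ⟶ Z, ψ = 0 := fun i hi hin ψ =>
      H5PostnikovEx.zero_step hT ψ (hX i (k + 1) hi hin _)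
        (zero_shift _ 1 ((i : ℤ) - k - 2) (by push_cast; ring) (x.2.2.2 i (by omega) hin))
    refine ⟨b, ⟨⟨Z, a'⟩, ⟨fun hk => ?_, fun hk e he => ?_, hvan⟩⟩, c, hT, hb⟩
    · have he : X.d (k + 2) (k + 1) ≫ b = 0 := by
        refine x.2.2.1 (by omega) _ ?_
        rw [Category.assoc, hb (by omega), X.d_comp_d]
      obtain ⟨b', hb'⟩ := Triangle.coyoneda_exact₂ _ hT (X.d (k + 2) (k + 1)) he
      exact ⟨b', hb'.symm⟩
    · refine H5PostnikovEx.zero_step hT e he fun ψ => ?_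
      have := x.2.2.2 (k + 1 + 2) (by omega) hk
      rw [show ((k + 1 + 2 : ℕ) : ℤ) - k - 2 = 1 by push_cast; ring] at this
      exact this ψ
  choose b nx c hT hb using step
  let S : ∀ k, St k := fun k => Nat.rec (motive := St)
    ⟨⟨X.X 0, 𝟙 _⟩, ⟨fun _ => ⟨X.d 1 0, Category.comp_id _⟩, fun _ e he => (Category.comp_id e).symm.trans he,
      fun i hi hin ψ => hX i 0 hi hin ψ⟩⟩ (fun k x => nx k x) k
  exact ⟨fun k => (S k).1.1, fun k => (S k).1.2, fun k => b k (S k), fun k => c k (S k),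
    inferInstanceAs (IsIso (𝟙 (X.X 0))), fun k hk => ⟨hT k (S k), hb k (S k) hk⟩⟩

end Groth.Agent.H5Postnikov2
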