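import Mathlib
import Groth.Prelude
universe u v
open CategoryTheory CategoryTheory.Limits CategoryTheory.Pretriangulated
namespace Groth.Agent.H5PostnikovEx

lemma zero_step {D : Type u} [Category.{v} D] [Preadditive D] [HasZeroObject D] [HasShift D ℤ]
    [∀ n : ℤ, (shiftFunctor D n).Additive] [Pretriangulated D]
    {A B C Z : D} {f : A ⟶ B} {g : B ⟶ C} {h : C ⟶ (shiftFunctor D (1 : ℤ)).obj A}
    (hT : Triangle.mk f g h ∈ distinguishedTriangles) (ψ : Z ⟶ A) (hψ : ψ ≫ f = 0)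
    (hz : ∀ ψ' : (shiftFunctor D (1 : ℤ)).obj Z ⟶ C, ψ' = 0) : ψ = 0 := by
  obtain ⟨t, ht⟩ := Triangle.coyoneda_exact₂ _ (inv_rot_of_distTriang _ hT) ψ hψ
  have ht0 : t = 0 := by
    apply (shiftFunctor D (1 : ℤ)).map_injective
    rw [Functor.map_zero]
    exact (cancel_mono (shiftNegShift C (1 : ℤ)).hom).1 ((hz _).trans zero_comp.symm)
  rw [ht, ht0]
  exact zero_comp

theorem postnikov_exists {D : Type u} [Category.{v} D] [Preadditive D] [HasZeroObject D] [HasShift D ℤ]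
    [∀ n : ℤ, (shiftFunctor D n).Additive] [Pretriangulated D]
    (X X' : ChainComplex D ℕ) (φ : X ⟶ X') (n : ℕ)
    (Y : ℕ → D) (a : ∀ k, Y k ⟶ X.X k) (b : ∀ k, X.X (k + 1) ⟶ Y k)
    (c : ∀ k, Y k ⟶ (shiftFunctor D (1 : ℤ)).obj (Y (k + 1)))
    (hP : ∀ k, k < n → Triangle.mk (a (k + 1)) (b k) (c k) ∈ distinguishedTriangles ∧ b k ≫ a k = X.d (k + 1) k)
    (qY : ℕ → D) (qa : ∀ k, qY k ⟶ X'.X k) (qb : ∀ k, X'.X (k + 1) ⟶ qY k)
    (qc : ∀ k, qY k ⟶ (shiftFunctor D (1 : ℤ)).obj (qY (k + 1)))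
    (qh0 : IsIso (qa 0))
    (qhP : ∀ k, k < n → Triangle.mk (qa (k + 1)) (qb k) (qc k) ∈ distinguishedTriangles ∧ qb k ≫ qa k = X'.d (k + 1) k)
    (hX : ∀ i j : ℕ, j + 1 < i → i ≤ n → ∀ ψ : (shiftFunctor D ((i : ℤ) - j - 1)).obj (X.X i) ⟶ X'.X j, ψ = 0) :
    ∃ y : ∀ k, Y k ⟶ qY k,
      (∀ k, k ≤ n → y k ≫ qa k = a k ≫ φ.f k) ∧
      (∀ k, k < n → b k ≫ y k = φ.f (k + 1) ≫ qb k ∧ c k ≫ (shiftFunctor D (1 : ℤ)).map (y (k + 1)) = y k ≫ qc k) := by
  have key : ∀ j i : ℕ, j + 1 < i → i ≤ n →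
      ∀ ψ : (shiftFunctor D ((i : ℤ) - j - 1)).obj (X.X i) ⟶ qY j, ψ = 0 := by
    intro j
    induction j with
    | zero =>
      intro i hi hin ψ
      rw [← cancel_mono (qa 0), zero_comp]
      exact hX i 0 hi hin _
    | succ j ih =>
      intro i hi hin ψ
      refine zero_step (qhP j (by omega)).1 ψ (hX i (j + 1) hi hin _) fun ψ' => ?_
      exact (cancel_epi ((shiftFunctorAdd' D ((i : ℤ) - ((j + 1 : ℕ) : ℤ) - 1) 1 ((i : ℤ) - j - 1)
        (by push_cast; ring)).hom.app (X.X i))).1 ((ih i (by omega) hin _).trans comp_zero.symm)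
  have step : ∀ k, ∀ y : Y k ⟶ qY k, ∃ y' : Y (k + 1) ⟶ qY (k + 1),
      k < n → y ≫ qa k = a k ≫ φ.f k →
        y' ≫ qa (k + 1) = a (k + 1) ≫ φ.f (k + 1) ∧ b k ≫ y = φ.f (k + 1) ≫ qb k ∧
          c k ≫ (shiftFunctor D (1 : ℤ)).map y' = y ≫ qc k := by
    intro k y
    by_cases hk : k < n
    swap; · exact ⟨0, fun h => absurd h hk⟩
    by_cases hy : y ≫ qa k = a k ≫ φ.f k
    swap; · exact ⟨0, fun _ h => absurd h hy⟩
    have he0 : (b k ≫ y - φ.f (k + 1) ≫ qb k) ≫ qa k = 0 := by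
      rw [Preadditive.sub_comp, Category.assoc, Category.assoc, hy, (qhP k hk).2, reassoc_of% (hP k hk).2,
        φ.comm, sub_self]
    have he : b k ≫ y = φ.f (k + 1) ≫ qb k := by
      rw [← sub_eq_zero]
      rcases k with _ | k'
      · exact (cancel_mono (qa 0)).1 (he0.trans zero_comp.symm)
      · refine zero_step (qhP k' (by omega)).1 _ he0 fun ψ' => ?_
        exact (cancel_epi (eqToHom (C := D) (congrArg (fun s : ℤ => (shiftFunctor D s).obj (X.X (k' + 1 + 1)))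
          (show ((k' + 1 + 1 : ℕ) : ℤ) - k' - 1 = 1 by push_cast; ring)))).1
            ((key k' (k' + 1 + 1) (by omega) (by omega) _).trans comp_zero.symm)
    obtain ⟨y', h₁, h₃⟩ := complete_distinguished_triangle_morphism₁ _ _ (hP k hk).1 (qhP k hk).1 (φ.f (k + 1)) y he
    exact ⟨y', fun _ _ => ⟨h₁.symm, he, h₃⟩⟩
  choose next hnext using step
  let y : ∀ k, Y k ⟶ qY k := fun k => Nat.rec (motive := fun k => Y k ⟶ qY k) (a 0 ≫ φ.f 0 ≫ inv (qa 0)) next k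
  have inv' : ∀ k, k ≤ n → y k ≫ qa k = a k ≫ φ.f k := by
    intro k
    induction k with
    | zero => intro _; simp [y]
    | succ k ih => intro hk; exact (hnext k (y k) (by omega) (ih (by omega))).1
  exact ⟨y, inv', fun k hk => (hnext k (y k) hk (inv' k hk.le)).2⟩

end Groth.Agent.H5PostnikovEx
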