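import Groth.Agent.Lib.H5GrothSS
import Groth.Agent.Lib.H5HomExt
import Groth.Agent.Lib.H5CohPresheaf
import Groth.Agent.Lib.H5LocExt
import Groth.Prelude.Def_SpSeq
import Mathlib.CategoryTheory.Sites.PreservesSheafification
import Mathlib.CategoryTheory.Sites.Adjunction
import Mathlib.CategoryTheory.Preadditive.Injective.Preserves

universe u
namespace Groth.Agent.H5PresheafSS
open CategoryTheory Limits Opposite
open Groth.Agent
set_option maxHeartbeats 600000

variable {C : Type u} [SmallCategory C] (J : GrothendieckTopology C) (R : Cᵒᵖ ⥤ Type u)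

/-- presheaves as sheaves for the trivial topology -/
noncomputable abbrev Inv : (Cᵒᵖ ⥤ AddCommGrpCat.{u}) ⥤ Sheaf (⊥ : GrothendieckTopology C) AddCommGrpCat.{u} :=
  (sheafBotEquivalence AddCommGrpCat.{u}).inverse

noncomputable abbrev fR : Sheaf (⊥ : GrothendieckTopology C) AddCommGrpCat.{u} :=
  (presheafToSheaf ⊥ AddCommGrpCat.{u}).obj (R ⋙ AddCommGrpCat.free.{u})

/-- homs out of the free presheaf -/
noncomputable def homEq (G : Sheaf J AddCommGrpCat.{u}) :
    (fR R ⟶ Inv.obj G.obj) ≃+ ((presheafToSheaf J AddCommGrpCat.{u}).obj (R ⋙ AddCommGrpCat.free.{u}) ⟶ G) :=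
  ((sheafificationAdjunction ⊥ AddCommGrpCat.{u}).homAddEquiv _ _).trans
    ((sheafificationAdjunction J AddCommGrpCat.{u}).homAddEquiv _ G).symm

theorem spectral (M : Sheaf J AddCommGrpCat.{u}) :
    ∃ (E : E₂CohomologicalSpectralSequence AddCommGrpCat.{u})
      (a : SpSeq.Abutment E (fun n : ℤ =>
        if 0 ≤ n then AddCommGrpCat.of (CohCx.HK ((presheafToSheaf J (Type u)).obj R) M n.toNat)
        else AddCommGrpCat.of PUnit.{u + 1})),
      (∀ n, a.IsFinite n) ∧ SpSeq.IsBounded E ∧
      ∀ p q : ℤ, Nonempty ((E.page 2 le_rfl).X (p, q) ≅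
        (if 0 ≤ p ∧ 0 ≤ q then
          AddCommGrpCat.of (CohCx.HK (J := (⊥ : GrothendieckTopology C)) ⟨R, Presheaf.isSheaf_bot _⟩
            ⟨M.cohomologyPresheaf q.toNat, Presheaf.isSheaf_bot _⟩ p.toNat)
         else AddCommGrpCat.of PUnit.{u + 1})) := by
  haveI : (Inv (C := C)).IsEquivalence := inferInstance
  haveI : (Inv (C := C)).Additive := Functor.additive_of_preserves_binary_products _
  haveI : (Inv (C := C)).PreservesHomology := inferInstance
  let S := preadditiveCoyoneda.obj (op (fR R))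
  have : PreservesLimits S := preservesLimits_preadditiveCoyoneda_obj _
  have : PreservesFiniteLimits S := PreservesLimits.preservesFiniteLimits _
  haveI : J.PreservesSheafification AddCommGrpCat.free.{u} :=
    haveI := AddCommGrpCat.adj.{u}.isLeftAdjoint; inferInstance
  let w := (presheafToSheafCompComposeAndSheafifyIso J AddCommGrpCat.free.{u}).app R
  let eH : (sheafToPresheaf J AddCommGrpCat.{u} ⋙ Inv) ⋙ S ≅
      preadditiveCoyoneda.obj (op ((presheafToSheaf J AddCommGrpCat.{u}).obj (((presheafToSheaf J (Type u)).obj R).obj ⋙ AddCommGrpCat.free.{u}))) :=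
    (NatIso.ofComponents (fun G => (homEq J R G).toAddCommGrpIso) (fun {G G'} g => by
      refine ConcreteCategory.hom_ext _ _ fun x => ?_
      change (homEq J R G') (x ≫ Inv.map g.hom) = (homEq J R G) x ≫ g
      refine Eq.trans ?_ ((sheafificationAdjunction J AddCommGrpCat.{u}).homEquiv_naturality_right_symm _ _)
      exact congrArg ((sheafificationAdjunction J AddCommGrpCat.{u}).homEquiv _ G').symm
        ((sheafificationAdjunction ⊥ AddCommGrpCat.{u}).homEquiv_naturality_right x (Inv.map g.hom))) :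
      _ ≅ preadditiveCoyoneda.obj (op ((presheafToSheaf J AddCommGrpCat.{u}).obj (R ⋙ AddCommGrpCat.free.{u})))) ≪≫
    preadditiveCoyoneda.mapIso w.op
  obtain ⟨E, a, h1, h2, h3, h4⟩ := H5GrothSS.grothendieck (sheafToPresheaf J AddCommGrpCat.{u} ⋙ Inv) S
    (fun Q hQ q hq => by
      obtain ⟨m, rfl⟩ : ∃ m, q = m + 1 := ⟨q - 1, by omega⟩
      have : (presheafToSheaf J AddCommGrpCat.{u}).PreservesMonomorphisms := inferInstance
      haveI : Injective ((sheafToPresheaf J AddCommGrpCat.{u}).obj Q) :=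
        Injective.injective_of_adjoint (sheafificationAdjunction J AddCommGrpCat.{u}) Q
      haveI : Injective ((sheafToPresheaf J AddCommGrpCat.{u} ⋙ Inv).obj Q) :=
        (sheafBotEquivalence AddCommGrpCat.{u}).toAdjunction.map_injective _ inferInstance
      exact S.isZero_rightDerived_obj_injective_succ m _) M
    (fun n : ℤ => if 0 ≤ n then AddCommGrpCat.of (CohCx.HK ((presheafToSheaf J (Type u)).obj R) M n.toNat)
      else AddCommGrpCat.of PUnit.{u + 1})
    (fun n hn => by rw [if_neg (by omega)]; exact AddCommGrpCat.isZero_of_subsingleton _)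
    (fun n => ⟨(H5HomExt.nonempty_rightDerived_iso_ext _ M eH n).some ≪≫
      eqToIso (by rw [if_pos (Int.natCast_nonneg n), Int.toNat_natCast])⟩)
  refine ⟨E, a, h1, h2, fun p q => ?_⟩
  by_cases h : 0 ≤ p ∧ 0 ≤ q
  · rw [if_pos h]
    obtain ⟨e₂⟩ := h4 p.toNat q.toNat
    rw [Int.toNat_of_nonneg h.1, Int.toNat_of_nonneg h.2] at e₂
    exact ⟨e₂ ≪≫ (S.rightDerived p.toNat).mapIso
      ((H5LocExt.rightDerived_comp_exact (sheafToPresheaf J AddCommGrpCat.{u}) Inv q.toNat M).some ≪≫
        Inv.mapIso (H5CohPresheaf.rightDerived_sheafToPresheaf M q.toNat).some) ≪≫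
      (H5HomExt.nonempty_rightDerived_iso_ext _ _ (Iso.refl S) p.toNat).some⟩
  · rw [if_neg h]
    exact ⟨(h3 p q (by omega)).iso (AddCommGrpCat.isZero_of_subsingleton _)⟩

end Groth.Agent.H5PresheafSS
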