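import Mathlib
import Groth.Prelude.Def_DerCA

open CategoryTheory CategoryTheory.Limits CategoryTheory.Pretriangulated Opposite

namespace Groth.Agent.H5ProIso

universe v u

theorem proiso {D : Type u} [Category.{v} D] [Preadditive D] [HasZeroObject D] [HasShift D ℤ]
    [∀ n : ℤ, (shiftFunctor D n).Additive] [Pretriangulated D]
    (X Y Z : ARSys.PS D) (f : X ⟶ Y) (g : Y ⟶ Z) (h : Z ⟶ X ⋙ shiftFunctor D (1 : ℤ))
    (hT : ∀ n : ℕ, Triangle.mk (f.app (op n)) (g.app (op n)) (h.app (op n)) ∈ distTriang D)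
    (hZ : DerCA.IsProZero Z) :
    DerCA.IsProIso f := by
  intro n
  obtain ⟨n1, hn1, z1⟩ := hZ n
  obtain ⟨m, hm, z2⟩ := hZ n1
  have nf : ∀ {a b : ℕ} (hab : a ≤ b), f.app (op b) ≫ ARSys.tr Y hab = ARSys.tr X hab ≫ f.app (op a) :=
    fun hab => (f.naturality _).symm
  have ng : ARSys.tr Y hm ≫ g.app (op n1) = 0 := by
    have : ARSys.tr Y hm ≫ g.app (op n1) = g.app (op m) ≫ ARSys.tr Z hm := g.naturality _
    rw [this, z2, comp_zero]
  obtain ⟨(b : Y.obj (op m) ⟶ X.obj (op n1)), hb⟩ := Triangle.coyoneda_exact₂ _ (hT n1) (ARSys.tr Y hm) ng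
  replace hb : ARSys.tr Y hm = b ≫ f.app (op n1) := hb
  let δ : X.obj (op m) ⟶ X.obj (op n1) := f.app (op m) ≫ b - ARSys.tr X hm
  have hδ : δ ≫ f.app (op n1) = 0 := by
    simp only [δ, Preadditive.sub_comp, Category.assoc, ← hb, nf hm, sub_self]
  obtain ⟨c, hc⟩ := Triangle.coyoneda_exact₁ _ (hT n1) ((shiftFunctor D (1 : ℤ)).map δ) (by
    change (shiftFunctor D (1 : ℤ)).map δ ≫ (shiftFunctor D (1 : ℤ)).map (f.app (op n1)) = 0
    rw [← Functor.map_comp, hδ, Functor.map_zero])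
  have hc' : (shiftFunctor D (1 : ℤ)).map δ = c ≫ h.app (op n1) := hc
  have hd : δ ≫ ARSys.tr X hn1 = 0 := by
    apply (shiftFunctor D (1 : ℤ)).map_injective
    have e : h.app (op n1) ≫ (shiftFunctor D (1 : ℤ)).map (ARSys.tr X hn1) = ARSys.tr Z hn1 ≫ h.app (op n) :=
      (h.naturality _).symm
    rw [Functor.map_comp, hc', Category.assoc, Functor.map_zero]
    erw [e, z1, zero_comp, comp_zero]
  have trc : ∀ (W : ARSys.PS D), ARSys.tr W (hn1.trans hm) = ARSys.tr W hm ≫ ARSys.tr W hn1 := by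
    intro W
    simp only [ARSys.tr, ← Functor.map_comp]
    rfl
  refine ⟨m, hn1.trans hm, b ≫ ARSys.tr X hn1, ?_, ?_⟩
  · rw [trc, ← sub_eq_zero, ← Category.assoc, ← Preadditive.sub_comp]
    exact hd
  · rw [trc, hb, Category.assoc, Category.assoc, nf hn1]

end Groth.Agent.H5ProIso
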