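import Groth.Agent.Lib.H5ModGood
import Groth.Agent.Lib.H5CechPull
import Groth.Agent.Lib.H5Compare
import Groth.Agent.Lib.H5OverInj
import Mathlib.CategoryTheory.Limits.Shapes.WidePullbacks
import Mathlib.CategoryTheory.Limits.Preserves.Shapes.Pullbacks

universe u v w
namespace Groth.Agent.H5PullGood
open CategoryTheory Limits Opposite
set_option maxHeartbeats 600000

section nerve
variable {A : Type w} [Category.{v} A] [HasFiniteWidePullbacks A] {B : Type w} [Category.{v} B] [HasFiniteWidePullbacks B]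
variable {Y X : A} (f : Y ⟶ X)

attribute [local simp] WidePullback.lift_π WidePullback.lift_base WidePullback.lift_π_assoc WidePullback.lift_base_assoc

noncomputable abbrev W (n : ℕ) : A := widePullback.{0} X (fun _ : Fin (n + 1) => Y) fun _ => f

/-- forget the last factor -/
noncomputable def drop (n : ℕ) : W f (n + 1) ⟶ W f n :=
  WidePullback.lift (WidePullback.base _) (fun i : Fin (n + 1) => WidePullback.π _ i.castSucc)
    (fun i => WidePullback.π_arrow (fun _ : Fin (n + 1 + 1) => f) i.castSucc)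

lemma isPullback_drop (n : ℕ) :
    IsPullback (drop f n) (WidePullback.π (fun _ : Fin (n + 1 + 1) => f) (Fin.last (n + 1)))
      (WidePullback.base (fun _ : Fin (n + 1) => f)) f := by
  have w : drop f n ≫ WidePullback.base (fun _ : Fin (n + 1) => f) =
      WidePullback.π (fun _ : Fin (n + 1 + 1) => f) (Fin.last (n + 1)) ≫ f := by
    rw [drop, WidePullback.lift_base, WidePullback.π_arrow]
  refine ⟨⟨w⟩, ⟨PullbackCone.IsLimit.mk w
    (fun s => WidePullback.lift (s.fst ≫ WidePullback.base _)
      (fun i => Fin.lastCases (motive := fun _ => s.pt ⟶ Y) s.snd (fun j => s.fst ≫ WidePullback.π _ j) i)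
      (fun i => ?_)) (fun s => ?_) (fun s => ?_) (fun s m h1 h2 => ?_)⟩⟩
  · induction i using Fin.lastCases with
    | last => simp only [Fin.lastCases_last]; exact s.condition.symm
    | cast j => simp only [Fin.lastCases_castSucc, Category.assoc, WidePullback.π_arrow]
  · apply WidePullback.hom_ext
    · intro j
      simp [drop]
    · simp [drop]
  · simp
  · apply WidePullback.hom_ext
    · intro j
      rw [WidePullback.lift_π]
      induction j using Fin.lastCases with
      | last => simp only [Fin.lastCases_last]; exact h2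
      | cast k =>
        simp only [Fin.lastCases_castSucc]
        rw [← h1, Category.assoc, drop, WidePullback.lift_π]
    · rw [WidePullback.lift_base, ← h1, Category.assoc, drop, WidePullback.lift_base]

variable (F : A ⥤ B) [PreservesLimitsOfShape WalkingCospan F]

/-- comparison -/
noncomputable def cmp (n : ℕ) : F.obj (W f n) ⟶ W (F.map f) n :=
  WidePullback.lift (F.map (WidePullback.base _)) (fun i => F.map (WidePullback.π _ i))
    (fun i => by rw [← F.map_comp, WidePullback.π_arrow])

instance isIso_cmp : ∀ n, IsIso (cmp f F n)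
  | 0 => by
    have key : ∀ {A' : Type w} [Category.{v} A'] [HasFiniteWidePullbacks A'] {Y' X' : A'} (g : Y' ⟶ X'),
        IsIso (WidePullback.π (fun _ : Fin (0 + 1) => g) 0) := fun {A'} _ _ {Y' X'} g =>
      ⟨WidePullback.lift g (fun _ => 𝟙 Y') (fun _ => Category.id_comp g), by
        apply WidePullback.hom_ext
        · intro j; rw [Fin.eq_zero j]; simp
        · simp, by simp⟩
    haveI := key f
    haveI := key (F.map f)
    have h : cmp f F 0 ≫ WidePullback.π (fun _ : Fin (0 + 1) => F.map f) 0 = F.map (WidePullback.π (fun _ : Fin (0 + 1) => f) 0) :=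
      WidePullback.lift_π _ _ _ _ _
    exact IsIso.of_isIso_fac_right h
  | n + 1 => by
    haveI := isIso_cmp n
    have h1 := (isPullback_drop f n).map F
    have h2 := isPullback_drop (F.map f) n
    have h1' : IsPullback (F.map (drop f n) ≫ cmp f F n) (F.map (WidePullback.π (fun _ : Fin (n + 1 + 1) => f) (Fin.last (n + 1))))
        (WidePullback.base (fun _ : Fin (n + 1) => F.map f)) (F.map f) :=
      h1.of_iso (Iso.refl _) (asIso (cmp f F n)) (Iso.refl _) (Iso.refl _) (by simp) (by simp)
        (by simp [cmp]) (by simp)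
    have he : cmp f F (n + 1) = (h1'.isoIsPullback _ _ h2).hom := by
      apply h2.hom_ext
      · rw [IsPullback.isoIsPullback_hom_fst]
        apply WidePullback.hom_ext
        · intro j
          simp [cmp, drop, ← F.map_comp]
        · simp [cmp, drop, ← F.map_comp]
      · rw [IsPullback.isoIsPullback_hom_snd]
        simp [cmp]
    rw [he]
    infer_instance

/-- functors preserving fibre products preserve nerves -/
noncomputable def nerveIso :
    ((SimplicialObject.whiskering A B).obj F).obj (Arrow.mk f).cechNerve ≅ (Arrow.mk (F.map f)).cechNerve :=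
  NatIso.ofComponents (fun n => @asIso _ _ _ _ (cmp f F n.unop.len) (isIso_cmp f F _)) (fun {n m} g => by
    change F.map ((Arrow.mk f).cechNerve.map g) ≫ cmp f F m.unop.len = cmp f F n.unop.len ≫ (Arrow.mk (F.map f)).cechNerve.map g
    apply WidePullback.hom_ext
    · intro j
      simp only [cmp, Category.assoc]
      erw [WidePullback.lift_π, WidePullback.lift_π, WidePullback.lift_π, ← F.map_comp, WidePullback.lift_π]
      rfl
    · simp only [cmp, Category.assoc]
      erw [WidePullback.lift_base, WidePullback.lift_base, WidePullback.lift_base, ← F.map_comp, WidePullback.lift_base]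
      rfl)

end nerve

section pull
variable {C D : Type u} [SmallCategory C] [SmallCategory D] {J : GrothendieckTopology C} {K : GrothendieckTopology D}
  (u : C ⥤ D) [u.IsContinuous J K]

noncomputable abbrev g : Sheaf J (Type u) ⥤ Sheaf K (Type u) := u.sheafPullback (Type u) J K

/-- precomposition with an isomorphism -/
noncomputable def pre {E : Type*} [Category E] [Preadditive E] {X X' : E} (e : X ≅ X') (A : E) : (X ⟶ A) ≃+ (X' ⟶ A) where
  toFun x := e.inv ≫ x
  invFun y := e.hom ≫ y
  left_inv x := by simp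
  right_inv y := by simp
  map_add' x y := Preadditive.comp_add _ _ _ _ _ _

lemma pullAdditive : (u.sheafPullback AddCommGrpCat.{u} J K).Additive :=
  (u.sheafAdjunctionContinuous AddCommGrpCat.{u} J K).left_adjoint_additive

/-- maps into restrictions -/
noncomputable def T (A : Sheaf K AddCommGrpCat.{u}) (L : Sheaf J (Type u)) :
    ((H5TotAcyc.Zf J).obj L ⟶ (CohSite.push K J u).obj A) ≃+ ((H5TotAcyc.Zf K).obj ((g u).obj L) ⟶ A) :=
  haveI := pullAdditive (J := J) (K := K) u
  ((u.sheafAdjunctionContinuous AddCommGrpCat.{u} J K).homAddEquiv _ A).symm.trans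
    (pre ((H5TotAcyc.pullFreeIso (J := K) J u).app L) A)

lemma T_nat (A : Sheaf K AddCommGrpCat.{u}) {L L' : Sheaf J (Type u)} (a : L ⟶ L')
    (φ : (H5TotAcyc.Zf J).obj L' ⟶ (CohSite.push K J u).obj A) :
    T u A L ((H5TotAcyc.Zf J).map a ≫ φ) = (H5TotAcyc.Zf K).map ((g u).map a) ≫ T u A L' φ := by
  change ((H5TotAcyc.pullFreeIso (J := K) J u).app L).inv ≫
      ((u.sheafAdjunctionContinuous AddCommGrpCat.{u} J K).homEquiv _ A).symm ((H5TotAcyc.Zf J).map a ≫ φ) =
    (H5TotAcyc.Zf K).map ((g u).map a) ≫ ((H5TotAcyc.pullFreeIso (J := K) J u).app L').inv ≫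
      ((u.sheafAdjunctionContinuous AddCommGrpCat.{u} J K).homEquiv _ A).symm φ
  rw [Adjunction.homEquiv_naturality_left_symm, ← Category.assoc, ← Category.assoc]
  exact congrArg (fun t => t ≫ ((u.sheafAdjunctionContinuous AddCommGrpCat.{u} J K).homEquiv _ A).symm φ)
    ((H5TotAcyc.pullFreeIso (J := K) J u).inv.naturality a).symm

lemma T_natR {A A' : Sheaf K AddCommGrpCat.{u}} (a : A ⟶ A') {L : Sheaf J (Type u)}
    (φ : (H5TotAcyc.Zf K).obj ((g u).obj L) ⟶ A) :
    (T u A' L).symm (φ ≫ a) = (T u A L).symm φ ≫ (CohSite.push K J u).map a := by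
  change (u.sheafAdjunctionContinuous AddCommGrpCat.{u} J K).homEquiv _ A' (((H5TotAcyc.pullFreeIso (J := K) J u).app L).hom ≫ φ ≫ a) =
    (u.sheafAdjunctionContinuous AddCommGrpCat.{u} J K).homEquiv _ A (((H5TotAcyc.pullFreeIso (J := K) J u).app L).hom ≫ φ) ≫ _
  rw [← Category.assoc]
  exact (u.sheafAdjunctionContinuous AddCommGrpCat.{u} J K).homEquiv_naturality_right _ a

variable (hfib : PreservesLimitsOfShape WalkingCospan (g (J := J) (K := K) u))
include hfib

theorem good_push (A : Sheaf K AddCommGrpCat.{u}) (hA : H5Flasque.Good A) :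
    H5Flasque.Good ((CohSite.push K J u).obj A) := by
  intro L' L f hf n φ hφ
  haveI := (u.sheafAdjunctionContinuous (Type u) J K).isLeftAdjoint
  haveI : Epi ((g (J := J) (K := K) u).map f) := inferInstance
  let f' := (g (J := J) (K := K) u).map f
  let ν := nerveIso f (g (J := J) (K := K) u)
  let Sx : ℕ → Sheaf J (Type u) := fun m => (Arrow.mk f).cechNerve.obj (op ⟨m⟩)
  let Ψ : ∀ m, ((H5TotAcyc.Pn f).X m ⟶ (CohSite.push K J u).obj A) ≃+ ((H5TotAcyc.Pn f').X m ⟶ A) := fun m =>
    (T u A (Sx m)).trans (pre ((H5TotAcyc.Zf K).mapIso (ν.app (op ⟨m⟩))) A)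
  have hΨ : ∀ m (χ : (H5TotAcyc.Pn f).X m ⟶ (CohSite.push K J u).obj A),
      Ψ (m + 1) ((H5TotAcyc.Pn f).d (m + 1) m ≫ χ) = (H5TotAcyc.Pn f').d (m + 1) m ≫ Ψ m χ := fun m χ => by
    rw [show (H5TotAcyc.Pn f).d (m + 1) m = _ from AlgebraicTopology.AlternatingFaceMapComplex.obj_d_eq _ _,
      show (H5TotAcyc.Pn f').d (m + 1) m = _ from AlgebraicTopology.AlternatingFaceMapComplex.obj_d_eq _ _,
      Preadditive.sum_comp, Preadditive.sum_comp, map_sum]
    refine Finset.sum_congr rfl fun i _ => ?_
    rw [Preadditive.zsmul_comp, Preadditive.zsmul_comp, map_zsmul]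
    congr 1
    change ((H5TotAcyc.Zf K).mapIso (ν.app (op ⟨m + 1⟩))).inv ≫ T u A (Sx (m + 1)) ((H5TotAcyc.Zf J).map ((Arrow.mk f).cechNerve.δ i) ≫ χ) =
      (H5TotAcyc.Zf K).map ((Arrow.mk f').cechNerve.δ i) ≫ ((H5TotAcyc.Zf K).mapIso (ν.app (op ⟨m⟩))).inv ≫ T u A (Sx m) χ
    refine (congrArg (fun t => ((H5TotAcyc.Zf K).mapIso (ν.app (op ⟨m + 1⟩))).inv ≫ t) (T_nat u A ((Arrow.mk f).cechNerve.δ i) χ)).trans ?_
    refine (Category.assoc _ _ _).symm.trans (Eq.trans ?_ (Category.assoc _ _ _))
    refine congrArg (fun t => t ≫ T u A (Sx m) χ) ?_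
    exact ((H5TotAcyc.Zf K).map_comp _ _).symm.trans
      ((congrArg (H5TotAcyc.Zf K).map (ν.inv.naturality (SimplexCategory.δ i).op).symm).trans ((H5TotAcyc.Zf K).map_comp _ _))
  obtain ⟨ψ, hψ⟩ := hA _ _ f' inferInstance n (Ψ (n + 1) φ)
    ((hΨ (n + 1) φ).symm.trans ((congrArg (Ψ (n + 2)) hφ).trans (map_zero _)))
  refine ⟨(Ψ n).symm ψ, (Ψ (n + 1)).injective ?_⟩
  rw [hΨ, AddEquiv.apply_symm_apply]
  exact hψ

theorem totallyAcyclic_pull (O : Sheaf K RingCat.{u}) (I : SheafOfModules.{u} O) [Injective I] :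
    CohCx.IsTotallyAcyclic ((CohSite.push K J u).obj ((SheafOfModules.toSheaf O).obj I)) :=
  H5Flasque.totallyAcyclic_of_good _ (good_push u hfib _
    fun _ _ f _ n φ hφ => H5ModGood.good_aux O I (H5CechNerve.Y f).left (fun m => H5ModGood.L_exact O f m) n φ hφ)

end pull

theorem totallyAcyclic_over {C : Type u} [SmallCategory C] (J : GrothendieckTopology C) (X : C)
    (F : Sheaf J AddCommGrpCat.{u}) (hF : CohCx.IsTotallyAcyclic F) :
    CohCx.IsTotallyAcyclic (((Over.forget X).sheafPushforwardContinuous AddCommGrpCat.{u} (J.over X) J).obj F) := by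
  intro L p
  let v : Over X ⥤ C := Over.forget X
  let Z' := (H5TotAcyc.Zf J).obj ((g (J := J.over X) (K := J) v).obj L)
  have he := H5Compare.compare (CohSite.push J (J.over X) v) (H5Compare.shortExact_pull v)
    ((H5TotAcyc.Zf (J.over X)).obj L) Z'
    (fun A => (T v A L).symm) (fun {A A'} φ a => T_natR v a φ)
    (fun I hI n => @H5SiteCoh.subsingleton_ext_injective _ _ _ _ _ _ (H5OverInj.injective_over (X := X) I) n) (p + 1) F
  have h0 : Subsingleton (Abelian.Ext.{u} Z' F (p + 1)) := hF ((g (J := J.over X) (K := J) v).obj L) p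
  exact @Equiv.subsingleton _ _ he.some.symm.toEquiv h0

end Groth.Agent.H5PullGood
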