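import Groth.Agent.Lib.H5LocExt
import Groth.Prelude.Def_ExtSupp

universe u

namespace Groth.Agent.H5QuotOn
open CategoryTheory Limits Abelian Opposite MonoidalCategory
open Groth.Agent

variable {C : Type u} [SmallCategory C] {J : GrothendieckTopology C} (O : Sheaf J CommRingCat.{u}) (U : C)

/-- presheaves of modules -/
abbrev PO : Type (u + 1) := H5Flasque.PO O

/-- the objects over `U` -/
def sU : Cᵒᵖ ⥤ Type u where
  obj V := {_x : PUnit.{u + 1} // Nonempty (V.unop ⟶ U)}
  map g := TypeCat.ofHom fun x => ⟨x.1, x.2.map (g.unop ≫ ·)⟩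

/-- its inclusion into the point -/
def sι : sU (C := C) U ⟶ H5LocExt.pt where
  app _ := TypeCat.ofHom fun x => x.1
  naturality _ _ _ := rfl

/-- the free module on a point is the unit -/
noncomputable def ptUnit :
    (PresheafOfModules.free (O.obj ⋙ forget₂ CommRingCat.{u} RingCat.{u})).obj H5LocExt.pt ≅ 𝟙_ (PO O) :=
  PresheafOfModules.isoMk (fun V => (Finsupp.uniqueLinearEquiv (O.obj.obj V) (O.obj.obj V) PUnit.unit).toModuleIso)
    (fun V W g => by
      apply ModuleCat.free_hom_ext
      intro x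
      refine Eq.trans ?_ (H5LocExt.ptIso_aux O g)
      exact congrArg (Finsupp.uniqueLinearEquiv (O.obj.obj W) (O.obj.obj W) PUnit.unit)
        (ModuleCat.freeDesc_apply _ x))

/-- functions over `U` -/
noncomputable def j :
    (PresheafOfModules.free (O.obj ⋙ forget₂ CommRingCat.{u} RingCat.{u})).obj (sU U) ⟶ 𝟙_ (PO O) :=
  (PresheafOfModules.free _).map (sι U) ≫ (ptUnit O).hom

/-- `O` modulo functions over `U` -/
noncomputable def Oz : PO O := cokernel (j O U)

lemma j_app_iso (V : Cᵒᵖ) (h : Nonempty (V.unop ⟶ U)) : IsIso ((j O U).app V) := by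
  have : IsIso ((sι U).app V) := by
    rw [isIso_iff_bijective]
    exact ⟨fun a b e => Subtype.ext e, fun x => ⟨⟨x, h⟩, rfl⟩⟩
  have h1 : IsIso (((PresheafOfModules.free (O.obj ⋙ forget₂ CommRingCat.{u} RingCat.{u})).map (sι U)).app V) :=
    inferInstanceAs (IsIso ((ModuleCat.free _).map ((sι U).app V)))
  have h2 : IsIso ((ptUnit O).hom.app V) :=
    inferInstanceAs (IsIso ((Finsupp.uniqueLinearEquiv (O.obj.obj V) (O.obj.obj V) PUnit.unit).toModuleIso).hom)
  exact @IsIso.comp_isIso _ _ _ _ _ _ _ h1 h2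

/-- evaluation -/
noncomputable abbrev evP (V : Cᵒᵖ) : PO O ⥤ ModuleCat.{u} (O.obj.obj V) :=
  PresheafOfModules.evaluation (O.obj ⋙ forget₂ CommRingCat.{u} RingCat.{u}) V

lemma π_app_epi (V : Cᵒᵖ) : Epi ((cokernel.π (j O U)).app V) :=
  inferInstanceAs (Epi ((PresheafOfModules.evaluation (O.obj ⋙ forget₂ CommRingCat.{u} RingCat.{u}) V).map (cokernel.π (j O U))))

lemma π_app_zero (V : Cᵒᵖ) (h : Nonempty (V.unop ⟶ U)) : (cokernel.π (j O U)).app V = 0 := by
  have := j_app_iso O U V h
  rw [← cancel_epi ((j O U).app V), comp_zero]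
  exact congrArg (fun t => t.app V) (cokernel.condition (j O U))

lemma j_app_zero (V : Cᵒᵖ) (h : ¬ Nonempty (V.unop ⟶ U)) : (j O U).app V = 0 := by
  apply ModuleCat.free_hom_ext
  intro x
  exact absurd x.2 h

/-- the projection at an object -/
noncomputable def πV (V : Cᵒᵖ) : 𝟙_ (ModuleCat.{u} (O.obj.obj V)) ⟶ (Oz O U).obj V := (cokernel.π (j O U)).app V

lemma π_app_iso (V : Cᵒᵖ) (h : ¬ Nonempty (V.unop ⟶ U)) : IsIso (πV O U V) := by
  let E := PresheafOfModules.evaluation (O.obj ⋙ forget₂ CommRingCat.{u} RingCat.{u}) V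
  have hc := isColimitCoforkMapOfIsColimit' E (cokernel.condition (j O U)) (cokernelIsCokernel (j O U))
  obtain ⟨r, hr⟩ := CokernelCofork.IsColimit.desc' hc (𝟙 _) (by
    change (j O U).app V ≫ _ = 0
    rw [j_app_zero O U V h]
    exact zero_comp)
  have : IsSplitMono (πV O U V) := ⟨⟨⟨r, hr⟩⟩⟩
  have : Epi (πV O U V) := π_app_epi O U V
  exact isIso_of_epi_of_isSplitMono _

lemma whisk_iso (V : Cᵒᵖ) (h : ¬ Nonempty (V.unop ⟶ U)) (X : ModuleCat.{u} (O.obj.obj V)) :
    IsIso ((MonoidalCategoryStruct.rightUnitor X).inv ≫ MonoidalCategory.whiskerLeft X (πV O U V)) := by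
  have := π_app_iso O U V h
  infer_instance

/-- `A ↦ A ⊗ O_Z`, sheafified -/
noncomputable def T : ModSite.Mod O ⥤ ModSite.Mod O :=
  (SheafOfModules.forget _ ⋙ PresheafOfModules.restrictScalars (𝟙 (ModSite.ringSh O).obj)) ⋙
    tensorRight (C := PO O) (Oz O U) ⋙ H5ModTensor.sh O

/-- the projection on presheaves -/
noncomputable def q (P : PO O) : P ⟶ P ⊗ Oz O U := (ρ_ P).inv ≫ P ◁ cokernel.π (j O U)

lemma q_nat {P Q : PO O} (f : P ⟶ Q) : q O U P ≫ f ▷ Oz O U = f ≫ q O U Q := by
  simp only [q, Category.assoc]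
  rw [rightUnitor_inv_naturality_assoc, whisker_exchange]

lemma q_app_zero (P : PO O) (V : Cᵒᵖ) (h : Nonempty (V.unop ⟶ U)) : (q O U P).app V = 0 := by
  change (ρ_ (P.obj V)).inv ≫ P.obj V ◁ (cokernel.π (j O U)).app V = 0
  rw [π_app_zero O U V h]
  erw [MonoidalPreadditive.whiskerLeft_zero, comp_zero]

lemma q_app_epi (P : PO O) (V : Cᵒᵖ) : Epi ((q O U P).app V) := by
  by_cases h : Nonempty (V.unop ⟶ U)
  · have h0 : IsZero ((Oz O U).obj V) := by
      have := π_app_epi O U V
      rw [IsZero.iff_id_eq_zero]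
      apply (cancel_epi ((cokernel.π (j O U)).app V)).1
      rw [π_app_zero O U V h]
      exact zero_comp.trans zero_comp.symm
    have hz : IsZero (MonoidalCategory.tensorObj (C := ModuleCat.{u} (O.obj.obj V)) (P.obj V) ((Oz O U).obj V)) :=
      Functor.map_isZero (tensorLeft (C := ModuleCat.{u} (O.obj.obj V)) (P.obj V)) h0
    exact ⟨fun a b _ => hz.eq_of_src a b⟩
  · exact @IsIso.epi_of_iso _ _ _ _ _ (whisk_iso O U V h (P.obj V))

lemma mono_whisker {P Q : PO O} (f : P ⟶ Q) (hf : ∀ V, Mono (f.app V)) : Mono (f ▷ Oz O U) := by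
  refine ⟨fun a b e => ?_⟩
  ext1 V
  have e' := congrArg (fun t => t.app V) e
  by_cases h : Nonempty (V.unop ⟶ U)
  · have := q_app_epi O U P V
    have h0 : IsZero ((P ⊗ Oz O U : PO O).obj V) := by
      rw [IsZero.iff_id_eq_zero, ← cancel_epi ((q O U P).app V), q_app_zero O U P V h]
      simp
    exact h0.eq_of_tgt _ _
  · have := hf V
    have hn : (q O U P).app V ≫ (f ▷ Oz O U).app V = f.app V ≫ (q O U Q).app V :=
      congrArg (fun t => t.app V) (q_nat O U f)
    have hi : ∀ R : PO O, IsIso ((q O U R).app V) := fun R => whisk_iso O U V h (R.obj V)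
    have := hi P
    have := hi Q
    have : Mono ((f ▷ Oz O U).app V) := by
      rw [(IsIso.eq_inv_comp _).2 hn]
      infer_instance
    exact (cancel_mono ((f ▷ Oz O U).app V)).1 e'

instance T_preservesMono : (T O U).PreservesMonomorphisms where
  preserves {A B} f _ := by
    let R : ModSite.Mod O ⥤ PO O := SheafOfModules.forget _ ⋙ PresheafOfModules.restrictScalars (𝟙 (ModSite.ringSh O).obj)
    let adj : H5ModTensor.sh O ⊣ R := PresheafOfModules.sheafificationAdjunction.{u} (𝟙 (ModSite.ringSh O).obj)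
    have : R.IsRightAdjoint := adj.isRightAdjoint
    have : Mono (R.map f) := inferInstance
    have : ∀ V, Mono ((R.map f).app V) := fun V =>
      inferInstanceAs (Mono ((PresheafOfModules.evaluation (O.obj ⋙ forget₂ CommRingCat.{u} RingCat.{u}) V).map (R.map f)))
    have := mono_whisker O U (R.map f) this
    haveI : PreservesFiniteLimits (H5ModTensor.sh O) :=
      inferInstanceAs (PreservesFiniteLimits (PresheafOfModules.sheafification.{u} (𝟙 (ModSite.ringSh O).obj)))
    exact inferInstanceAs (Mono ((H5ModTensor.sh O).map (R.map f ▷ Oz O U)))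

/-- sheaves as presheaves of modules -/
noncomputable abbrev shR : ModSite.Mod O ⥤ PO O :=
  SheafOfModules.forget _ ⋙ PresheafOfModules.restrictScalars (𝟙 (ModSite.ringSh O).obj)

/-- sheafification -/
noncomputable def adjSh : H5ModTensor.sh O ⊣ shR O :=
  PresheafOfModules.sheafificationAdjunction.{u} (𝟙 (ModSite.ringSh O).obj)

/-- the projection -/
noncomputable def p (A : ModSite.Mod O) : A ⟶ (T O U).obj A :=
  ⟨q O U ((shR O).obj A) ≫ (adjSh O).unit.app _⟩

/-- vanishing over `U` -/
def Van {A G : ModSite.Mod O} (f : A ⟶ G) : Prop := ∀ V : Cᵒᵖ, Nonempty (V.unop ⟶ U) → f.val.app V = 0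

lemma restr_eq_zero_iff {A G : ModSite.Mod O} (f : A ⟶ G) : (ModSite.restr O U).map f = 0 ↔ Van O U f := by
  constructor
  · rintro h V ⟨g⟩
    exact congrArg (fun ψ : (ModSite.restr O U).obj A ⟶ (ModSite.restr O U).obj G => ψ.val.app (op (Over.mk g))) h
  · intro h
    ext1
    ext1 Y
    exact h (op Y.unop.left) ⟨Y.unop.hom⟩

lemma p_van (A : ModSite.Mod O) : Van O U (p O U A) := by
  intro V h
  change (q O U ((shR O).obj A)).app V ≫ ((adjSh O).unit.app _).app V = 0
  rw [q_app_zero O U _ V h]
  exact zero_comp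

lemma q_epi (P : PO O) : Epi (q O U P) := by
  have := q_app_epi O U P
  exact ⟨fun a b e => by ext1 V; exact (cancel_epi _).1 (congrArg (fun t => t.app V) e)⟩

lemma p_cancel (A : ModSite.Mod O) {G : ModSite.Mod O} (g : (T O U).obj A ⟶ G) :
    (shR O).map (p O U A ≫ g) = q O U ((shR O).obj A) ≫ (adjSh O).homEquiv _ G g := by
  rw [Adjunction.homEquiv_unit]
  rfl

lemma p_epi (A : ModSite.Mod O) : Epi (p O U A) := by
  refine ⟨fun a b e => ((adjSh O).homEquiv _ _).injective ?_⟩
  have := q_epi O U ((shR O).obj A)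
  exact (cancel_epi (q O U ((shR O).obj A))).1
    ((p_cancel O U A a).symm.trans ((congrArg (shR O).map e).trans (p_cancel O U A b)))

lemma van_factor {A G : ModSite.Mod O} (f : A ⟶ G) (hf : Van O U f) : ∃ g, p O U A ≫ g = f := by
  let P : PO O := (shR O).obj A
  let f' : P ⟶ (shR O).obj G := (shR O).map f
  have hz : P ◁ j O U ≫ (ρ_ P).hom ≫ f' = 0 := by
    ext1 V
    by_cases h : Nonempty (V.unop ⟶ U)
    · change _ ≫ _ ≫ f.val.app V = 0
      rw [hf V h]
      erw [comp_zero]
    · change MonoidalCategory.whiskerLeft (C := ModuleCat.{u} (O.obj.obj V)) (P.obj V) ((j O U).app V) ≫ _ = 0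
      rw [j_app_zero O U V h]
      simp
  have : PreservesColimitsOfSize.{u, u} (tensorRight P) := H5ModTensor.preservesColimits_tensorRight O.obj P
  have : PreservesColimitsOfShape WalkingParallelPair (tensorLeft P) :=
    preservesColimitsOfShape_of_natIso (BraidedCategory.tensorLeftIsoTensorRight (C := PO O) P).symm
  have hc := isColimitCoforkMapOfIsColimit' (tensorLeft P) (cokernel.condition (j O U)) (cokernelIsCokernel (j O U))
  obtain ⟨g₀, hg₀⟩ := CokernelCofork.IsColimit.desc' hc ((ρ_ P).hom ≫ f') hz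
  refine ⟨((adjSh O).homEquiv _ G).symm g₀, ?_⟩
  apply (shR O).map_injective
  rw [p_cancel]
  refine (congrArg (fun t => q O U P ≫ t) (Equiv.apply_symm_apply _ _)).trans ?_
  refine (Category.assoc _ _ _).trans ((congrArg (fun t => (ρ_ P).inv ≫ t) hg₀).trans ?_)
  exact Iso.inv_hom_id_assoc _ _

lemma quotOnπ_van [ModSite.HasPushOver O U] (A : ModSite.Mod O) : Van O U ((ModSite.quotOnπ O U).app A) := by
  rw [← restr_eq_zero_iff]
  exact (ExtSupp.isNullOn_quotOn O U A).eq_of_tgt _ _

/-- `quotOn` is `- ⊗ O_Z` -/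
lemma quotOn_iso [ModSite.HasPushOver O U] (A : ModSite.Mod O) :
    ∃ e : (ModSite.quotOn O U).obj A ≅ (T O U).obj A, (ModSite.quotOnπ O U).app A ≫ e.hom = p O U A := by
  have h1 : (ModSite.extZeroAdj O U).counit.app A ≫ p O U A = 0 := by
    apply ((ModSite.extZeroAdj O U).homEquiv _ _).injective
    rw [Adjunction.homEquiv_unit, Adjunction.homEquiv_unit, Functor.map_comp, (restr_eq_zero_iff O U _).2 (p_van O U A)]
    simp
  let a : (ModSite.quotOn O U).obj A ⟶ (T O U).obj A := cokernel.desc _ (p O U A) h1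
  have ha : (ModSite.quotOnπ O U).app A ≫ a = p O U A := cokernel.π_desc _ _ _
  obtain ⟨b, hb⟩ := van_factor O U _ (quotOnπ_van O U A)
  have := p_epi O U A
  have : Epi ((ModSite.quotOnπ O U).app A) := (ExtSupp.openSeq_exact U A).2
  have hb' : p O U A ≫ b = (ModSite.quotOnπ O U).app A := hb
  exact ⟨⟨a, b, (cancel_epi ((ModSite.quotOnπ O U).app A)).1
      (((Category.assoc _ _ _).symm.trans (congrArg (fun t => t ≫ b) ha)).trans (hb'.trans (Category.comp_id _).symm)),
    (cancel_epi (p O U A)).1
      (((Category.assoc _ _ _).symm.trans (congrArg (fun t => t ≫ a) hb')).trans (ha.trans (Category.comp_id _).symm))⟩, ha⟩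

instance quotOn_preservesMono [ModSite.HasPushOver O U] : (ModSite.quotOn O U).PreservesMonomorphisms where
  preserves {A B} f _ := by
    obtain ⟨eA, hA⟩ := quotOn_iso O U A
    obtain ⟨eB, hB⟩ := quotOn_iso O U B
    have : Epi ((ModSite.quotOnπ O U).app A) := (ExtSupp.openSeq_exact U A).2
    have hp : p O U A ≫ (T O U).map f = f ≫ p O U B := by
      apply (shR O).map_injective
      rw [p_cancel]
      refine (congrArg (fun t => q O U _ ≫ t) ((adjSh O).homEquiv_unit (f := (T O U).map f))).trans ?_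
      refine (congrArg (fun t => q O U _ ≫ t) ((adjSh O).unit.naturality ((shR O).map f ▷ Oz O U)).symm).trans ?_
      refine ((Category.assoc _ _ _).symm.trans (congrArg (fun t => t ≫ _) (q_nat O U ((shR O).map f)))).trans ?_
      exact Category.assoc _ _ _
    have hA' : (ModSite.quotOnπ O U).app A ≫ eA.hom ≫ (T O U).map f = f ≫ p O U B :=
      ((Category.assoc _ _ _).symm.trans (congrArg (fun t => t ≫ (T O U).map f) hA)).trans hp
    have hB' : (ModSite.quotOnπ O U).app A ≫ (ModSite.quotOn O U).map f ≫ eB.hom = f ≫ p O U B :=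
      (Category.assoc _ _ _).symm.trans ((congrArg (fun t => t ≫ eB.hom) ((ModSite.quotOnπ O U).naturality f).symm).trans
        ((Category.assoc _ _ _).trans (congrArg (fun t => f ≫ t) hB)))
    have e : (ModSite.quotOn O U).map f = eA.hom ≫ (T O U).map f ≫ eB.inv := by
      have h := (cancel_epi ((ModSite.quotOnπ O U).app A)).1 (hB'.trans hA'.symm)
      rw [← reassoc_of% h]
      simp
    rw [e]
    infer_instance

lemma unit_comp_eq_zero_iff [ModSite.HasPushOver O U] {X G : ModSite.Mod O} (g : X ⟶ G) :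
    g ≫ (ModSite.restrPushOverAdj O U).unit.app G = 0 ↔ (ModSite.restr O U).map g = 0 := by
  constructor
  · intro h
    have h' := congrArg (ModSite.restr O U).map h
    rw [Functor.map_comp, Functor.map_zero] at h'
    have h'' := congrArg (fun t => t ≫ (ModSite.restrPushOverAdj O U).counit.app ((ModSite.restr O U).obj G)) h'
    refine Eq.trans ?_ (h''.trans zero_comp)
    exact ((Category.assoc _ _ _).trans ((congrArg (fun t => (ModSite.restr O U).map g ≫ t)
      ((ModSite.restrPushOverAdj O U).left_triangle_components G)).trans (Category.comp_id _))).symm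
  · intro h
    have := (ModSite.restrPushOverAdj O U).right_adjoint_additive
    refine ((ModSite.restrPushOverAdj O U).unit.naturality g).trans ?_
    change _ ≫ (ModSite.pushOver O U).map ((ModSite.restr O U).map g) = 0
    rw [h, Functor.map_zero, comp_zero]

/-- `quotOn ⊣ sectOn` -/
noncomputable def quotSectAdj [ModSite.HasPushOver O U] : ModSite.quotOn O U ⊣ ModSite.sectOn O U :=
  Adjunction.mkOfHomEquiv
    { homEquiv := fun A G =>
        { toFun := fun g => kernel.lift ((ModSite.restrPushOverAdj O U).unit.app G) ((ModSite.quotOnπ O U).app A ≫ g)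
            ((unit_comp_eq_zero_iff O U _).2 (by
              rw [Functor.map_comp, (restr_eq_zero_iff O U _).2 (quotOnπ_van O U A), zero_comp]))
          invFun := fun h => cokernel.desc _ (h ≫ (ModSite.sectOnι O U).app G) (by
            apply ((ModSite.extZeroAdj O U).homEquiv _ _).injective
            have h0 : (ModSite.restr O U).map ((ModSite.sectOnι O U).app G) = 0 :=
              (unit_comp_eq_zero_iff O U _).1 (kernel.condition ((ModSite.restrPushOverAdj O U).unit.app G))
            rw [Adjunction.homEquiv_unit, Adjunction.homEquiv_unit, Functor.map_comp, Functor.map_comp, h0]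
            simp)
          left_inv := fun g => coequalizer.hom_ext (by
            refine (cokernel.π_desc _ _ _).trans ?_
            exact kernel.lift_ι _ _ _)
          right_inv := fun h => equalizer.hom_ext (by
            refine (kernel.lift_ι _ _ _).trans ?_
            exact cokernel.π_desc _ _ _) }
      homEquiv_naturality_left_symm := fun {A A' G} f g => coequalizer.hom_ext (by
        refine (cokernel.π_desc _ _ _).trans ?_
        refine Eq.trans ?_ (Eq.trans (Category.assoc _ _ _) (congrArg (fun t => t ≫ _) ((ModSite.quotOnπ O U).naturality f)))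
        simp only [Functor.id_map, Category.assoc]
        erw [cokernel.π_desc])
      homEquiv_naturality_right := fun {A G G'} f g => equalizer.hom_ext (by
        refine (kernel.lift_ι _ _ _).trans ?_
        have hn := (ModSite.sectOnι O U).naturality g
        refine Eq.trans ?_ (Eq.trans (congrArg (fun t => kernel.lift _ _ _ ≫ t) hn.symm) (Category.assoc _ _ _).symm)
        simp only [Functor.id_map]
        erw [kernel.lift_ι_assoc]
        rw [Category.assoc]) }

lemma sectOn_injective [ModSite.HasPushOver O U] (Q : ModSite.Mod O) [Injective Q] :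
    Injective ((ModSite.sectOn O U).obj Q) :=
  Injective.injective_of_adjoint (quotSectAdj O U) Q

end Groth.Agent.H5QuotOn
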