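import Mathlib
import Groth.Agent.Lib.H5RDer

open CategoryTheory CategoryTheory.Limits HomologicalComplex

namespace Groth.Agent.H5R0

universe v u v' u'

theorem r0_leftExact {A : Type u} [Category.{v} A] [Abelian A] [EnoughInjectives A]
    {B : Type u'} [Category.{v'} B] [Abelian B] (F : A ⥤ B) [F.Additive] :
    PreservesFiniteLimits (F.rightDerived 0) ∧ (IsIso F.toRightDerivedZero ↔ PreservesFiniteLimits F) := by
  have h0 : PreservesFiniteLimits (F.rightDerived 0) := by
    refine ((Functor.preservesFiniteLimits_tfae (F.rightDerived 0)).out 0 3).1 fun S hS => ?_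
    obtain ⟨L⟩ := Groth.Agent.H5RDer.nonempty_derivedLES (F := F)
    obtain ⟨T⟩ := Groth.Agent.H5RDer.exists_sesRes S hS
    refine ⟨L.exact₂ S hS 0, ?_⟩
    let m := (F.mapHomologicalComplex (ComplexShape.up ℕ)).map T.f
    have hm : Mono m := (T.map_shortExact F).mono_f
    have : Mono (cyclesMap m 0) := by
      have : Mono (cyclesMap m 0 ≫ iCycles _ 0) := by rw [cyclesMap_i]; exact mono_comp _ _
      exact mono_of_mono (cyclesMap m 0) (iCycles _ 0)
    have : Mono (homologyMap m 0) := by
      have e := homologyπ_naturality m 0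
      have : homologyMap m 0 = (CochainComplex.isoHomologyπ₀ _).inv ≫ cyclesMap m 0 ≫ (CochainComplex.isoHomologyπ₀ _).hom := by
        rw [Iso.eq_inv_comp]
        exact e
      rw [this]
      infer_instance
    have hn := InjectiveResolution.isoRightDerivedObj_hom_naturality S.f T.I₁ T.I₂ T.f
      (by simpa using HomologicalComplex.congr_hom T.ι_f 0) F 0
    have : Mono ((F.rightDerived 0).map S.f ≫ (T.I₂.isoRightDerivedObj F 0).hom) := by
      rw [hn]
      exact @mono_comp _ _ _ _ _ _ inferInstance _ ‹Mono (homologyMap m 0)›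
    exact mono_of_mono _ (T.I₂.isoRightDerivedObj F 0).hom
  refine ⟨h0, fun h => preservesFiniteLimits_of_natIso (asIso F.toRightDerivedZero).symm, fun h => inferInstance⟩

end Groth.Agent.H5R0
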