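import Groth.Agent.Lib.H5RPlus
import Mathlib.CategoryTheory.Abelian.Injective.Extend
import Mathlib.CategoryTheory.Abelian.RightDerived
import Mathlib.Algebra.Homology.DerivedCategory.SingleTriangle
import Mathlib.Algebra.Homology.Embedding.ExtendHomology
import Mathlib.Algebra.Homology.HomotopyCategory.MappingCone

universe w v u v' u'

namespace Groth.Agent.H5RAcy

open CategoryTheory Category Limits Pretriangulated Groth.Agent.H5RPlus

variable {A : Type u} [Category.{v} A] [Abelian A] {B : Type u'} [Category.{v'} B] [Abelian B]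
  (S : A ⥤ B) [S.Additive]

/-- components -/
noncomputable def cIso (K : CochainComplex A ℕ) (n : ℤ) (k : ℕ) (h : ComplexShape.embeddingUpNat.f k = n) :
    S.obj ((K.extend ComplexShape.embeddingUpNat).X n) ≅
      (((S.mapHomologicalComplex (.up ℕ)).obj K).extend ComplexShape.embeddingUpNat).X n :=
  S.mapIso (K.extendXIso ComplexShape.embeddingUpNat h) ≪≫
    (((S.mapHomologicalComplex (.up ℕ)).obj K).extendXIso ComplexShape.embeddingUpNat h).symm

/-- components -/
noncomputable def compIso (K : CochainComplex A ℕ) (n : ℤ) :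
    S.obj ((K.extend ComplexShape.embeddingUpNat).X n) ≅
      (((S.mapHomologicalComplex (.up ℕ)).obj K).extend ComplexShape.embeddingUpNat).X n :=
  if h : 0 ≤ n then cIso S K n n.toNat (Int.toNat_of_nonneg h)
  else (S.map_isZero (K.isZero_extend_X _ _ (fun i hi => h (by rw [← hi]; exact Int.natCast_nonneg i)))).iso
    (HomologicalComplex.isZero_extend_X _ _ _ (fun i hi => h (by rw [← hi]; exact Int.natCast_nonneg i)))

lemma compIso_eq (K : CochainComplex A ℕ) (n : ℤ) (k : ℕ) (h : ComplexShape.embeddingUpNat.f k = n) :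
    compIso S K n = cIso S K n k h := by
  obtain rfl : k = n.toNat := by subst h; simp
  rw [compIso, dif_pos (h ▸ Int.natCast_nonneg _)]

/-- an additive functor commutes with extension by zero -/
noncomputable def mapExtendIso (K : CochainComplex A ℕ) :
    (S.mapHomologicalComplex (.up ℤ)).obj (K.extend ComplexShape.embeddingUpNat) ≅
      ((S.mapHomologicalComplex (.up ℕ)).obj K).extend ComplexShape.embeddingUpNat :=
  HomologicalComplex.Hom.isoOfComponents (compIso S K)
    (fun i j hij => by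
      by_cases hi : 0 ≤ i
      · obtain ⟨k, rfl⟩ := Int.eq_ofNat_of_zero_le hi
        have e1 : ComplexShape.embeddingUpNat.f k = (k : ℤ) := rfl
        have e2 : ComplexShape.embeddingUpNat.f (k + 1) = j := by
          obtain rfl : (k : ℤ) + 1 = j := hij
          simp
        change (compIso S K _).hom ≫ _ = S.map ((K.extend ComplexShape.embeddingUpNat).d _ _) ≫ (compIso S K _).hom
        rw [compIso_eq S K _ _ e1, compIso_eq S K _ _ e2, HomologicalComplex.extend_d_eq _ _ e1 e2,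
          K.extend_d_eq _ e1 e2]
        have hc : ∀ (n : ℤ) (l : ℕ) (h : ComplexShape.embeddingUpNat.f l = n),
            (cIso S K n l h).hom = S.map (K.extendXIso ComplexShape.embeddingUpNat h).hom ≫
              (((S.mapHomologicalComplex (.up ℕ)).obj K).extendXIso ComplexShape.embeddingUpNat h).inv :=
          fun _ _ _ => rfl
        rw [hc, hc]
        simp only [Functor.map_comp, assoc, Functor.mapHomologicalComplex_obj_d]
        erw [Iso.inv_hom_id_assoc, Iso.map_inv_hom_id_assoc]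
        rfl
      · exact (S.map_isZero (K.isZero_extend_X _ _ (fun k hk => hi (by rw [← hk]; exact Int.natCast_nonneg k)))).eq_of_src _ _)

/-- homology of `S` of the integral complex of a resolution -/
noncomputable def homologyResolutionIso [HasInjectiveResolutions A] {Y : A} (R : InjectiveResolution Y) (n : ℕ) :
    ((S.mapHomologicalComplex (.up ℤ)).obj R.cochainComplex).homology (n : ℤ) ≅ (S.rightDerived n).obj Y :=
  HomologicalComplex.homologyMapIso (mapExtendIso S R.cocomplex) _ ≪≫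
    HomologicalComplex.extendHomologyIso _ _ (j := n) rfl ≪≫ (R.isoRightDerivedObj S n).symm

/-- `S`-acyclic objects -/
def Acy [HasInjectiveResolutions A] (Y : A) : Prop := ∀ n : ℕ, 0 < n → IsZero ((S.rightDerived n).obj Y)

lemma acy_of_isZero [HasInjectiveResolutions A] {Y : A} (h : IsZero Y) : Acy S Y :=
  fun n hn => by
    obtain ⟨m, rfl⟩ : ∃ m, n = m + 1 := ⟨n - 1, by omega⟩
    haveI := h.injective
    exact S.isZero_rightDerived_obj_injective_succ m Y

lemma epi_map_of_acy [EnoughInjectives A] [PreservesFiniteLimits S] (T : ShortComplex A) (hT : T.ShortExact)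
    (h₁ : Acy S T.X₁) : Epi (S.map T.g) := by
  haveI := hT.mono_f
  haveI := hT.epi_g
  let R := injectiveResolution T.X₁
  have hex : ((S.mapHomologicalComplex _).obj R.cocomplex).ExactAt 1 := by
    rw [HomologicalComplex.exactAt_iff_isZero_homology]
    exact (h₁ 1 one_pos).of_iso (R.isoRightDerivedObj S 1).symm
  rw [HomologicalComplex.exactAt_iff' _ 0 1 2 (by simp) (by simp)] at hex
  let ι₀ : T.X₁ ⟶ R.cocomplex.X 0 := R.ι.f 0
  obtain ⟨c, hc⟩ : ∃ c : T.X₂ ⟶ R.cocomplex.X 0, T.f ≫ c = ι₀ :=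
    ⟨Injective.factorThru ι₀ T.f, Injective.comp_factorThru ι₀ T.f⟩
  have hι : ι₀ ≫ R.cocomplex.d 0 1 = 0 := R.ι_f_zero_comp_complex_d
  let z : T.X₃ ⟶ R.cocomplex.X 1 := hT.exact.desc (c ≫ R.cocomplex.d 0 1) (by rw [reassoc_of% hc, hι])
  have hz : T.g ≫ z = c ≫ R.cocomplex.d 0 1 := hT.exact.g_desc _ _
  have hzd : z ≫ R.cocomplex.d 1 2 = 0 := by
    rw [← cancel_epi T.g, reassoc_of% hz, R.cocomplex.d_comp_d, comp_zero, comp_zero]
  let φ : T.X₂ ⟶ T.X₃ ⊞ R.cocomplex.X 0 := biprod.lift T.g c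
  let ψ : T.X₃ ⊞ R.cocomplex.X 0 ⟶ R.cocomplex.X 1 := biprod.desc z (-R.cocomplex.d 0 1)
  have hφψ : φ ≫ ψ = 0 := by simp [φ, ψ, hz]
  haveI : Mono φ := by
    refine Preadditive.mono_of_cancel_zero _ fun {W} x hx => ?_
    have h1 : x ≫ T.g = 0 := by simpa [φ] using hx =≫ biprod.fst
    have h2 : x ≫ c = 0 := by simpa [φ] using hx =≫ biprod.snd
    have h3 := hT.exact.lift_f x h1
    have h4 : hT.exact.lift x h1 ≫ ι₀ = 0 := by rw [← hc, ← assoc, h3, h2]
    haveI : Mono ι₀ := inferInstanceAs (Mono (R.ι.f 0))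
    rw [← h3, zero_of_comp_mono _ h4, zero_comp]
  have hφ : (ShortComplex.mk φ ψ hφψ).Exact := by
    rw [ShortComplex.exact_iff_exact_up_to_refinements]
    intro W x hx
    change W ⟶ T.X₃ ⊞ R.cocomplex.X 0 at x
    change x ≫ ψ = 0 at hx
    obtain ⟨W₁, π₁, _, x₂, hx₂⟩ := surjective_up_to_refinements_of_epi T.g (x ≫ biprod.fst)
    have h5 : (π₁ ≫ x ≫ biprod.snd - x₂ ≫ c) ≫ R.cocomplex.d 0 1 = 0 := by
      have hx' : x ≫ biprod.fst ≫ z = x ≫ biprod.snd ≫ R.cocomplex.d 0 1 := by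
        have : x ≫ (biprod.fst ≫ z + biprod.snd ≫ (-R.cocomplex.d 0 1)) = 0 := by
          rwa [← biprod.desc_eq]
        simpa [sub_eq_zero, ← sub_eq_add_neg] using this
      rw [Preadditive.sub_comp, assoc, assoc, assoc, sub_eq_zero, ← hx', ← hz]
      simp only [← assoc] at hx₂ ⊢
      rw [hx₂]
    obtain ⟨W₂, π₂, _, x₁, hx₁⟩ : ∃ (W₂ : A) (π₂ : W₂ ⟶ W₁) (_ : Epi π₂) (x₁ : W₂ ⟶ T.X₁),
        π₂ ≫ (π₁ ≫ x ≫ biprod.snd - x₂ ≫ c) = x₁ ≫ ι₀ :=
      (R.exact₀).exact_up_to_refinements _ h5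
    refine ⟨W₂, π₂ ≫ π₁, inferInstance, π₂ ≫ x₂ + x₁ ≫ T.f, ?_⟩
    apply biprod.hom_ext
    · simp [φ, hx₂]
    · simp only [φ, assoc, biprod.lift_snd, Preadditive.add_comp, hc, ← hx₁, Preadditive.comp_sub]
      abel
  have hSφ : ((ShortComplex.mk φ ψ hφψ).map S).Exact :=
    hφ.map_of_mono_of_preservesKernel S inferInstance inferInstance
  rw [epi_iff_surjective_up_to_refinements]
  intro W x
  obtain ⟨W₁, π₁, _, y, hy⟩ : ∃ (W₁ : B) (π₁ : W₁ ⟶ W) (_ : Epi π₁) (y : W₁ ⟶ S.obj (R.cocomplex.X 0)),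
      π₁ ≫ x ≫ S.map z = y ≫ S.map (R.cocomplex.d 0 1) :=
    hex.exact_up_to_refinements (x ≫ S.map z) (by
      change (x ≫ S.map z) ≫ S.map (R.cocomplex.d 1 2) = 0
      rw [assoc, ← S.map_comp, hzd, S.map_zero, comp_zero])
  obtain ⟨W₂, π₂, _, x₂, hx₂⟩ : ∃ (W₂ : B) (π₂ : W₂ ⟶ W₁) (_ : Epi π₂) (x₂ : W₂ ⟶ S.obj T.X₂),
      π₂ ≫ (π₁ ≫ x ≫ S.map biprod.inl + y ≫ S.map biprod.inr) = x₂ ≫ S.map φ :=
    hSφ.exact_up_to_refinements _ (by
      change (π₁ ≫ x ≫ S.map biprod.inl + y ≫ S.map biprod.inr) ≫ S.map ψ = 0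
      simp [ψ, ← S.map_comp, Preadditive.add_comp, hy])
  refine ⟨W₂, π₂ ≫ π₁, inferInstance, x₂, ?_⟩
  have := congrArg (fun t => t ≫ S.map biprod.fst) hx₂
  simpa [φ, ← S.map_comp, Preadditive.add_comp] using this

variable [EnoughInjectives A] [HasDerivedCategory.{w} A]

variable (A) in
/-- an object in degree zero of `D⁺` -/
noncomputable abbrev sgl : A ⥤ DerivedCategory.Plus A := DerivedCategory.Plus.singleFunctor A 0

/-- the object of a resolution -/
noncomputable def sglResolutionIso {Y : A} (R : InjectiveResolution Y) :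
    (sgl A).obj Y ≅ QP R.cochainComplex 0 :=
  DerivedCategory.Plus.ι.preimageIso
    ((DerivedCategory.singleFunctorIsoCompQ A 0).app Y ≪≫ @asIso _ _ _ _ (DerivedCategory.Q.map R.ι') ((DerivedCategory.isIso_Q_map_iff_quasiIso _ R.ι').2 inferInstance))

/-- `Rⁿ S` on objects -/
noncomputable def shiftSglIso (Y : A) (n : ℕ) :
    ((R0 S).shift (n : ℤ)).obj ((sgl A).obj Y) ≅ (S.rightDerived n).obj Y :=
  ((R0 S).shift (n : ℤ)).mapIso (sglResolutionIso (injectiveResolution Y)) ≪≫
    shiftQPIso S _ 0 _ ≪≫ homologyResolutionIso S (injectiveResolution Y) n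

lemma isZero_shift_sgl (Y : A) (n : ℤ) (hn : n < 0) : IsZero (((R0 S).shift n).obj ((sgl A).obj Y)) :=
  isZero_shift_of_isGE S _ 0 n inferInstance hn

lemma acy_of_shortExact (T : ShortComplex A) (hT : T.ShortExact) (h₁ : Acy S T.X₁) (h₂ : Acy S T.X₂) :
    Acy S T.X₃ := by
  intro n hn
  let Δ : Triangle (DerivedCategory.Plus A) := Triangle.mk ((sgl A).map T.f) ((sgl A).map T.g)
    (DerivedCategory.Plus.ι.preimage (show DerivedCategory.Plus.ι.obj ((sgl A).obj T.X₃) ⟶ _ from
      hT.singleδ ≫ (DerivedCategory.Plus.ι.commShiftIso (1 : ℤ)).inv.app ((sgl A).obj T.X₁)))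
  have hΔ : Δ ∈ distTriang _ := by
    rw [← DerivedCategory.Plus.ι.map_distinguished_iff]
    refine isomorphic_distinguished _ hT.singleTriangle_distinguished _
      (Triangle.isoMk _ _ (Iso.refl _) (Iso.refl _) (Iso.refl _) ?_ ?_ ?_)
    · exact (comp_id _).trans (id_comp _).symm
    · exact (comp_id _).trans (id_comp _).symm
    · refine (congrArg (fun t => (DerivedCategory.Plus.ι.mapTriangle.obj Δ).mor₃ ≫ t)
        (CategoryTheory.Functor.map_id _ _)).trans ?_
      refine (comp_id _).trans (Eq.trans ?_ (id_comp _).symm)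
      change DerivedCategory.Plus.ι.map (DerivedCategory.Plus.ι.preimage (X := (sgl A).obj T.X₃) (Y := ((sgl A).obj T.X₁)⟦(1 : ℤ)⟧) _) ≫
        (DerivedCategory.Plus.ι.commShiftIso (1 : ℤ)).hom.app ((sgl A).obj T.X₁) = hT.singleδ
      rw [Functor.map_preimage]
      refine (assoc _ _ _).trans ?_
      erw [Iso.inv_hom_id_app]
      exact comp_id _
  have := ((R0 S).homologySequence_exact₃ Δ hΔ (n : ℤ) ((n + 1 : ℕ) : ℤ) (by simp)).isZero_of_both_zeros
    (((h₂ n hn).of_iso (shiftSglIso S T.X₂ n)).eq_of_src _ _)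
    (((h₁ (n + 1) (by omega)).of_iso (shiftSglIso S T.X₁ (n + 1))).eq_of_tgt _ _)
  exact this.of_iso (shiftSglIso S T.X₃ n).symm

lemma acy_biprod {X Y : A} (hX : Acy S X) (hY : Acy S Y) : Acy S (X ⊞ Y) := by
  intro n hn
  refine IsZero.of_iso ?_ (shiftSglIso S (X ⊞ Y) n).symm
  let G := sgl A ⋙ (R0 S).shift (n : ℤ)
  change IsZero (G.obj (X ⊞ Y))
  have h1 : IsZero (G.obj X) := (hX n hn).of_iso (shiftSglIso S X n)
  have h2 : IsZero (G.obj Y) := (hY n hn).of_iso (shiftSglIso S Y n)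
  rw [IsZero.iff_id_eq_zero, ← CategoryTheory.Functor.map_id, ← biprod.total, Functor.map_add, Functor.map_comp,
    Functor.map_comp, h1.eq_of_tgt (G.map biprod.fst) 0, h2.eq_of_tgt (G.map biprod.snd) 0, zero_comp, zero_comp, add_zero]

lemma acy_of_iso {X Y : A} (e : X ≅ Y) (hX : Acy S X) : Acy S Y :=
  fun n hn => (hX n hn).of_iso ((S.rightDerived n).mapIso e.symm)

variable [PreservesFiniteLimits S]

lemma exactAt_map_of_acy (C : CochainComplex A ℤ) (m : ℤ) [C.IsStrictlyGE m] (hC : ∀ i, C.ExactAt i)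
    (h : ∀ i, Acy S (C.X i)) : ∀ i, ((S.mapHomologicalComplex (.up ℤ)).obj C).ExactAt i := by
  have hT : ∀ n, ∀ (w : C.iCycles n ≫ C.toCycles n (n + 1) = 0),
      (ShortComplex.mk (C.iCycles n) (C.toCycles n (n + 1)) w).ShortExact := fun n w => by
    haveI : Epi (C.toCycles n (n + 1)) := by
      have := (C.sc (n + 1)).exact_iff_epi_toCycles.1 (hC (n + 1))
      have h2 := C.exactAt_iff_isZero_homology (n + 1) |>.1 (hC (n + 1))
      exact (ShortComplex.exact_of_g_is_cokernel (ShortComplex.mk (C.toCycles n (n + 1)) (C.homologyπ (n + 1)) (by simp))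
        (C.homologyIsCokernel n (n + 1) (by simp))).epi_f (h2.eq_of_tgt _ _)
    refine ShortComplex.ShortExact.mk' ?_ inferInstance inferInstance
    rw [ShortComplex.exact_iff_exact_up_to_refinements]
    intro W x hx
    change W ⟶ C.X n at x
    change x ≫ C.toCycles n (n + 1) = 0 at hx
    refine ⟨W, 𝟙 W, inferInstance, C.liftCycles x (n + 1) (by simp) ?_, ?_⟩
    · rw [← C.toCycles_i n (n + 1), ← assoc, hx, zero_comp]
    · simp
  have w : ∀ n, C.iCycles n ≫ C.toCycles n (n + 1) = 0 := fun n => by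
    rw [← cancel_mono (C.iCycles (n + 1)), assoc, C.toCycles_i, C.iCycles_d, zero_comp]
  have hZ : ∀ (k : ℕ) (n : ℤ), n ≤ m + k → Acy S (C.cycles n) := by
    intro k
    induction k with
    | zero =>
      intro n hn
      obtain ⟨l, rfl⟩ : ∃ l, n = l + 1 := ⟨n - 1, by omega⟩
      refine acy_of_isZero S ?_
      haveI : Epi (C.toCycles l (l + 1)) := (hT l (w l)).epi_g
      exact IsZero.of_epi (C.toCycles l (l + 1)) (C.isZero_of_isStrictlyGE m _ (by push_cast at hn; omega))
    | succ k ih =>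
      intro n hn
      obtain ⟨l, rfl⟩ : ∃ l, n = l + 1 := ⟨n - 1, by omega⟩
      exact acy_of_shortExact S _ (hT l (w l)) (ih l (by push_cast at hn; omega)) (h l)
  intro i
  obtain ⟨l, rfl⟩ : ∃ l, i = l + 1 := ⟨i - 1, by omega⟩
  haveI : Epi (S.map (C.toCycles l (l + 1))) :=
    epi_map_of_acy S _ (hT l (w l)) (hZ (l - m).toNat l (by omega))
  have hk : (ShortComplex.mk (C.iCycles (l + 1)) (C.d (l + 1) (l + 1 + 1)) (C.iCycles_d _ _)).Exact :=
    ShortComplex.exact_of_f_is_kernel _ (C.cyclesIsKernel (l + 1) (l + 1 + 1) (by simp))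
  have hSk := hk.map_of_mono_of_preservesKernel S inferInstance inferInstance
  rw [HomologicalComplex.exactAt_iff' _ l (l + 1) (l + 1 + 1) (by simp) (by simp),
    ShortComplex.exact_iff_exact_up_to_refinements]
  intro W x hx
  change W ⟶ S.obj (C.X (l + 1)) at x
  obtain ⟨W₁, π₁, _, y, hy⟩ : ∃ (W₁ : B) (π₁ : W₁ ⟶ W) (_ : Epi π₁) (y : W₁ ⟶ S.obj (C.cycles (l + 1))),
      π₁ ≫ x = y ≫ S.map (C.iCycles (l + 1)) := hSk.exact_up_to_refinements x hx
  obtain ⟨W₂, π₂, _, z, hz⟩ := surjective_up_to_refinements_of_epi (S.map (C.toCycles l (l + 1))) y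
  refine ⟨W₂, π₂ ≫ π₁, inferInstance, z, ?_⟩
  change (π₂ ≫ π₁) ≫ x = z ≫ S.map (C.d l (l + 1))
  rw [assoc, hy, ← assoc, hz, assoc, ← S.map_comp, C.toCycles_i]

open CochainComplex in
lemma acy_mappingCone_X {K J : CochainComplex A ℤ} (i : K ⟶ J) (n : ℤ) (hK : Acy S (K.X (n + 1)))
    (hJ : Acy S (J.X n)) : Acy S ((mappingCone i).X n) :=
  acy_of_iso S
    { hom := biprod.desc ((mappingCone.inl i).v (n + 1) n (by omega)) ((mappingCone.inr i).f n)
      inv := biprod.lift ((mappingCone.fst i).1.v n (n + 1) rfl) ((mappingCone.snd i).v n n (add_zero n))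
      hom_inv_id := by apply biprod.hom_ext' <;> apply biprod.hom_ext <;> simp
      inv_hom_id := by
        rw [biprod.lift_desc]
        exact (mappingCone.id_X i n (n + 1) rfl) }
    (acy_biprod S hK hJ)

lemma acy_of_injective {Y : A} [Injective Y] : Acy S Y := fun n hn => by
  obtain ⟨m, rfl⟩ : ∃ m, n = m + 1 := ⟨n - 1, by omega⟩
  exact S.isZero_rightDerived_obj_injective_succ m Y

open CochainComplex HomotopyCategory in
/-- `RS` on bounded below complexes of acyclic objects -/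
theorem nonempty_shiftQPIso_of_acy (K : CochainComplex A ℤ) (m : ℤ) [K.IsStrictlyGE m]
    (h : ∀ i, Acy S (K.X i)) (n : ℤ) :
    Nonempty (((R0 S).shift n).obj (QP K m) ≅ ((S.mapHomologicalComplex (.up ℤ)).obj K).homology n) := by
  obtain ⟨L, hL, i', hi⟩ := CochainComplex.Plus.exists_quasiIso_injective
    (⟨K, m, inferInstance⟩ : CochainComplex.Plus A) m
  let J : CochainComplex A ℤ := ((InjectiveObject.ι A).mapHomologicalComplex (.up ℤ)).obj L.obj
  haveI : J.IsStrictlyGE m := inferInstanceAs (CochainComplex.IsStrictlyGE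
    (((InjectiveObject.ι A).mapHomologicalComplex (.up ℤ)).obj L.obj) m)
  haveI : ∀ j, Injective (J.X j) := fun j => (L.obj.X j).property
  let i : K ⟶ J := i'.hom
  haveI hq : QuasiIso i := hi
  haveI : CochainComplex.IsStrictlyGE (mappingCone i) (m - 1) :=
    CochainComplex.isStrictlyGE_mappingCone i m m (m - 1) (by omega) (by omega)
  have hC : ∀ j, (mappingCone i).ExactAt j := by
    have h1 : HomotopyCategory.quasiIso A (ComplexShape.up ℤ) ((HomotopyCategory.quotient _ _).map i) :=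
      (HomotopyCategory.quotient_map_mem_quasiIso_iff i).2 (by rw [HomologicalComplex.mem_quasiIso_iff]; exact hq)
    rw [HomotopyCategory.quasiIso_eq_trW_subcategoryAcyclic] at h1
    replace h1 := ((HomotopyCategory.subcategoryAcyclic A).trW_iff_of_distinguished _
      (HomotopyCategory.mappingCone_triangleh_distinguished i)).1 h1
    exact fun j => (HomotopyCategory.quotient_obj_mem_subcategoryAcyclic_iff_exactAt _).1 h1 j
  haveI : QuasiIso ((S.mapHomologicalComplex (.up ℤ)).map i) := by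
    rw [← HomologicalComplex.mem_quasiIso_iff, ← HomotopyCategory.quotient_map_mem_quasiIso_iff,
      HomotopyCategory.quasiIso_eq_trW_subcategoryAcyclic]
    refine ((HomotopyCategory.subcategoryAcyclic B).trW_iff_of_distinguished _
        (HomotopyCategory.mappingCone_triangleh_distinguished ((S.mapHomologicalComplex (.up ℤ)).map i))).2 ?_
    refine (HomotopyCategory.quotient_obj_mem_subcategoryAcyclic_iff_exactAt _).2 fun j => ?_
    exact (exactAt_map_of_acy S (mappingCone i) (m - 1) hC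
      (fun l => acy_mappingCone_X S i l (h _) (acy_of_injective S)) j).of_iso
      (mappingCone.mapHomologicalComplexIso i S)
  refine ⟨((R0 S).shift n).mapIso (DerivedCategory.Plus.ι.preimageIso (X := QP K m) (Y := QP J m)
      (@asIso _ _ _ _ (DerivedCategory.Q.map i) ((DerivedCategory.isIso_Q_map_iff_quasiIso _ i).2 hq))) ≪≫
    shiftQPIso S J m n ≪≫ (asIso (HomologicalComplex.homologyMap ((S.mapHomologicalComplex (.up ℤ)).map i) n)).symm⟩

end Groth.Agent.H5RAcy
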