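import Groth.Agent.Lib.H5HomolSS
import Mathlib.Algebra.Homology.DerivedCategory.DerivabilityStructureInjectives
import Mathlib.CategoryTheory.Triangulated.Adjunction
import Mathlib.Algebra.Homology.HomotopyCategory.ShiftSequence
import Mathlib.Algebra.Homology.DerivedCategory.KInjective

universe w v u v' u'

namespace Groth.Agent.H5RPlus

open CategoryTheory Category Limits Pretriangulated

variable (A : Type u) [Category.{v} A] [Abelian A] [EnoughInjectives A] [HasDerivedCategory.{w} A]
  {B : Type u'} [Category.{v'} B] [Abelian B]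

/-- bounded below complexes of injectives up to homotopy, to the derived category -/
noncomputable def Φ : HomotopyCategory.Plus (InjectiveObject A) ⥤ DerivedCategory.Plus A :=
  (InjectiveObject.ι A).mapHomotopyCategoryPlus ⋙ DerivedCategory.Plus.Qh

noncomputable instance : (Φ A).CommShift ℤ := by dsimp [Φ]; infer_instance

instance : (Φ A).IsTriangulated := by dsimp [Φ]; infer_instance

instance : (Φ A).EssSurj := by dsimp [Φ]; infer_instance

omit [EnoughInjectives A] in
lemma map_bijective (K L : HomotopyCategory.Plus (InjectiveObject A)) :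
    Function.Bijective ((Φ A).map : (K ⟶ L) → _) := by
  obtain ⟨L, rfl⟩ := HomotopyCategory.Plus.quotient_obj_surjective L
  exact (DerivedCategory.Plus.Qh_map_bijective_of_isKInjective _
      ((InjectiveObject.ι A).mapHomotopyCategoryPlus.obj ((HomotopyCategory.Plus.quotient _).obj L))
      (inferInstanceAs (CochainComplex.IsKInjective
        (((InjectiveObject.ι A).mapHomologicalComplex (.up ℤ)).obj L.obj)))).comp
    ⟨(InjectiveObject.ι A).mapHomotopyCategoryPlus.map_injective,
      (InjectiveObject.ι A).mapHomotopyCategoryPlus.map_surjective⟩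

instance : (Φ A).Full := ⟨fun {K L} => (map_bijective A K L).2⟩

instance : (Φ A).Faithful := ⟨fun {K L} => @(map_bijective A K L).1⟩

instance : (Φ A).IsEquivalence where

/-- the equivalence `K⁺(Inj) ≌ D⁺` -/
noncomputable def eqv : HomotopyCategory.Plus (InjectiveObject A) ≌ DerivedCategory.Plus A :=
  (Φ A).asEquivalence

noncomputable instance : (eqv A).functor.CommShift ℤ := inferInstanceAs ((Φ A).CommShift ℤ)

instance : (eqv A).functor.IsTriangulated := inferInstanceAs ((Φ A).IsTriangulated)

noncomputable instance : (eqv A).inverse.CommShift ℤ := (eqv A).commShiftInverse ℤ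

instance : (eqv A).inverse.IsTriangulated :=
  haveI : (eqv A).CommShift ℤ := (eqv A).commShift_of_functor ℤ
  (eqv A).toAdjunction.isTriangulated_rightAdjoint

variable {A} (S : A ⥤ B) [S.Additive]

/-- the triangulated functor underlying `RS` -/
noncomputable def RL : DerivedCategory.Plus A ⥤ HomotopyCategory B (.up ℤ) :=
  (eqv A).inverse ⋙ (InjectiveObject.ι A ⋙ S).mapHomotopyCategoryPlus ⋙ HomotopyCategory.Plus.ι B

noncomputable instance : (RL S).CommShift ℤ := by dsimp [RL]; infer_instance

instance : (RL S).IsTriangulated := by dsimp [RL]; infer_instance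

/-- `H⁰ ∘ RS` -/
noncomputable def R0 : DerivedCategory.Plus A ⥤ B :=
  RL S ⋙ HomotopyCategory.homologyFunctor B (.up ℤ) 0

instance : (R0 S).IsHomological := by dsimp [R0]; infer_instance

noncomputable instance : (R0 S).ShiftSequence ℤ := Functor.ShiftSequence.tautological _ _

/-- computation on complexes of injective objects -/
noncomputable def shiftΦIso (K : CochainComplex.Plus (InjectiveObject A)) (n : ℤ) :
    ((R0 S).shift n).obj ((Φ A).obj ((HomotopyCategory.Plus.quotient _).obj K)) ≅
      (((InjectiveObject.ι A ⋙ S).mapHomologicalComplex (.up ℤ)).obj K.obj).homology n :=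
  (HomotopyCategory.homologyFunctor B (.up ℤ) 0).mapIso
      (((RL S).commShiftIso n).app _ ≪≫ (shiftFunctor _ n).mapIso
        (((InjectiveObject.ι A ⋙ S).mapHomotopyCategoryPlus ⋙ HomotopyCategory.Plus.ι B).mapIso
          ((eqv A).unitIso.app ((HomotopyCategory.Plus.quotient _).obj K)).symm)) ≪≫
    ((HomotopyCategory.homologyFunctor B (.up ℤ) 0).isoShift n).app _ ≪≫
    (HomotopyCategory.homologyFunctorFactors B (.up ℤ) n).app _

/-- object of `D⁺` of a bounded below complex -/
noncomputable def QP (K : CochainComplex A ℤ) (m : ℤ) [K.IsStrictlyGE m] : DerivedCategory.Plus A :=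
  DerivedCategory.Plus.Q.obj ⟨K, m, inferInstance⟩

/-- `RⁿS` on a bounded below complex of injectives -/
noncomputable def shiftQPIso (K : CochainComplex A ℤ) (m : ℤ) [K.IsStrictlyGE m]
    [∀ i, Injective (K.X i)] (n : ℤ) :
    ((R0 S).shift n).obj (QP K m) ≅ ((S.mapHomologicalComplex (.up ℤ)).obj K).homology n :=
  shiftΦIso S ⟨HomologicalComplex.liftObjectProperty _ K (fun _ => inferInstanceAs (Injective _)),
    m, (CochainComplex.isStrictlyGE_mapHomologicalComplex_obj_iff _ (InjectiveObject.ι A) _).1
      (inferInstanceAs (K.IsStrictlyGE m))⟩ n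

lemma isZero_shift_of_isGE (Y : DerivedCategory.Plus A) (m n : ℤ) (h : Y.IsGE m) (hn : n < m) :
    IsZero (((R0 S).shift n).obj Y) := by
  obtain ⟨L, hL, ⟨e⟩⟩ := Y.exists_injective_nonempty_iso m
  refine IsZero.of_iso ?_ (((R0 S).shift n).mapIso e.symm ≪≫ shiftΦIso S L n)
  haveI : CochainComplex.IsStrictlyGE (((InjectiveObject.ι A ⋙ S).mapHomologicalComplex (.up ℤ)).obj L.obj) m :=
    inferInstance
  exact CochainComplex.isZero_of_isGE _ m n hn

end Groth.Agent.H5RPlus
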