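import Groth.Prelude.Def_CohCx
universe v u
namespace Groth.Agent.H5RlimSeq
open CategoryTheory CategoryTheory.Limits Pretriangulated

variable {T : Type u} [Category.{v} T] [Preadditive T] [HasZeroObject T] [HasShift T ℤ]
  [∀ n : ℤ, (shiftFunctor T n).Additive] [Pretriangulated T]
  {K : ℕ → T} {t : ∀ n, K (n + 1) ⟶ K n} [HasProduct K] {L : T} {a : ∀ n, L ⟶ K n}

lemma lift0 (hL : CohCx.IsRlimVia K t L a) {Q : T} (x : ∀ n, Q ⟶ K n) (hx : ∀ n, x (n + 1) ≫ t n = x n) :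
    ∃ y : Q ⟶ L, ∀ n, y ≫ a n = x n := by
  obtain ⟨c, hc⟩ := hL
  obtain ⟨y, hy⟩ := Triangle.coyoneda_exact₂ _ hc (Pi.lift x) (by
    show Pi.lift x ≫ Pi.lift _ = 0
    refine Pi.hom_ext _ _ fun n => ?_
    simp [hx])
  refine ⟨y, fun n => ?_⟩
  have := hy =≫ Pi.π K n
  simp at this
  rw [this]
  exact ((Category.assoc _ _ _).trans (congrArg (y ≫ ·) (Pi.lift_π (fun n => a n) n))).symm

lemma uniq0 (hL : CohCx.IsRlimVia K t L a) {Q : T}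
    (hsur : ∀ g : ∀ n, Q⟦(1 : ℤ)⟧ ⟶ K n, ∃ b : ∀ n, Q⟦(1 : ℤ)⟧ ⟶ K n, ∀ n, b n - b (n + 1) ≫ t n = g n)
    (y : Q ⟶ L) (hy : ∀ n, y ≫ a n = 0) : y = 0 := by
  obtain ⟨c, hc⟩ := hL
  obtain ⟨g, hg⟩ := Triangle.coyoneda_exact₁ _ hc (y⟦(1 : ℤ)⟧') (by
    show y⟦(1 : ℤ)⟧' ≫ (Pi.lift a)⟦(1 : ℤ)⟧' = 0
    rw [← Functor.map_comp]
    have : y ≫ Pi.lift a = 0 := Pi.hom_ext _ _ fun n => by simp [hy]
    rw [this, Functor.map_zero])
  obtain ⟨b, hb⟩ := hsur fun n => g ≫ Pi.π K n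
  have hgb : g = Pi.lift b ≫ Pi.lift (fun n => Pi.π K n - Pi.π K (n + 1) ≫ t n) :=
    Pi.hom_ext _ _ fun n => by
      refine (hb n).symm.trans ?_
      erw [Category.assoc, Pi.lift_π, Preadditive.comp_sub, Pi.lift_π, ← Category.assoc, Pi.lift_π]
  have h0 := comp_distTriang_mor_zero₂₃ _ hc
  apply (shiftFunctor T (1 : ℤ)).map_injective
  erw [hg, hgb, Functor.map_zero]
  show (Pi.lift b ≫ Pi.lift _) ≫ c = 0
  rw [Category.assoc]
  simp only [Triangle.mk_mor₂, Triangle.mk_mor₃] at h0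
  erw [h0, comp_zero]

theorem result (hL : CohCx.IsRlimVia K t L a) (P : T) (m : ℤ) :
    (∀ x : ∀ n, P ⟶ (K n)⟦m⟧, (∀ n, x (n + 1) ≫ (shiftFunctor T m).map (t n) = x n) →
      ∃ y : P ⟶ L⟦m⟧, ∀ n, y ≫ (shiftFunctor T m).map (a n) = x n) ∧
    ((∀ g : ∀ n, P ⟶ (K n)⟦m - 1⟧, ∃ b : ∀ n, P ⟶ (K n)⟦m - 1⟧,
        ∀ n, b n - b (n + 1) ≫ (shiftFunctor T (m - 1)).map (t n) = g n) →
      ∀ y : P ⟶ L⟦m⟧, (∀ n, y ≫ (shiftFunctor T m).map (a n) = 0) → y = 0) := by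
  let e : P ≅ (P⟦-m⟧)⟦m⟧ := ((shiftFunctorCompIsoId T (-m) m (neg_add_cancel m)).app P).symm
  refine ⟨fun x hx => ?_, fun hs y hy => ?_⟩
  · obtain ⟨y, hy⟩ := lift0 hL (fun n => (shiftFunctor T m).preimage (e.inv ≫ x n)) (fun n =>
      (shiftFunctor T m).map_injective (by simp [hx n]))
    refine ⟨e.hom ≫ (shiftFunctor T m).map y, fun n => ?_⟩
    rw [Category.assoc, ← Functor.map_comp, hy n]
    simp
  · let Q := P⟦-m⟧
    let e₁ : P ≅ (Q⟦(1 : ℤ)⟧)⟦m - 1⟧ :=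
      e ≪≫ (shiftFunctorAdd' T (1 : ℤ) (m - 1) m (by abel)).app Q
    have h := uniq0 hL (Q := Q) (fun g => ?_) ((shiftFunctor T m).preimage (e.inv ≫ y)) (fun n =>
      (shiftFunctor T m).map_injective (by simp [hy n]))
    · have h' := congrArg (shiftFunctor T m).map h
      rw [Functor.map_preimage, Functor.map_zero] at h'
      rw [← cancel_epi e.inv, h', comp_zero]
    · obtain ⟨b, hb⟩ := hs fun n => e₁.hom ≫ (shiftFunctor T (m - 1)).map (g n)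
      refine ⟨fun n => (shiftFunctor T (m - 1)).preimage (e₁.inv ≫ b n),
        fun n => (shiftFunctor T (m - 1)).map_injective ?_⟩
      rw [Functor.map_sub, Functor.map_comp, Functor.map_preimage, Functor.map_preimage, Category.assoc,
        ← Preadditive.comp_sub, hb n, Iso.inv_hom_id_assoc]

end Groth.Agent.H5RlimSeq
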