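import Mathlib.Algebra.Homology.DerivedCategory.Fractions

universe w v u

namespace Groth.Agent.H5Roofs
open CategoryTheory Limits HomologicalComplex DerivedCategory
set_option maxHeartbeats 800000

variable {A : Type u} [Category.{v} A] [Abelian A]

/-- homotopies descend to a truncation -/
theorem homotopy_of_comp {K N M : CochainComplex A ℤ} (f g : K ⟶ N) (ι : N ⟶ M) (B : ℤ)
    [∀ i, Mono (ι.f i)] (hι : ∀ j, j < B → IsIso (ι.f j)) (hK : ∀ i, B < i → IsZero (K.X i))
    (h : Homotopy (f ≫ ι) (g ≫ ι)) : Nonempty (Homotopy f g) := by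
  classical
  refine ⟨{ hom := fun i j => if hj : j < B then h.hom i j ≫ @inv _ _ _ _ (ι.f j) (hι j hj) else 0
            zero := fun i j hij => by split_ifs <;> simp [h.zero i j hij]
            comm := fun i => ?_ }⟩
  by_cases hi : B < i
  · exact (hK i hi).eq_of_src _ _
  rw [dNext_eq _ (show (ComplexShape.up ℤ).Rel i (i + 1) by simp),
    prevD_eq _ (show (ComplexShape.up ℤ).Rel (i - 1) i by simp), ← cancel_mono (ι.f i)]
  have hc := h.comm i
  rw [dNext_eq _ (show (ComplexShape.up ℤ).Rel i (i + 1) by simp),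
    prevD_eq _ (show (ComplexShape.up ℤ).Rel (i - 1) i by simp)] at hc
  simp only [HomologicalComplex.comp_f] at hc
  rw [Preadditive.add_comp, Preadditive.add_comp, hc]
  congr 1
  congr 1
  · by_cases hb : i < B
    · simp [hb]
    · simp [(hK (i + 1) (by omega)).eq_of_src (h.hom (i + 1) i) 0, hb]
  · have hb : i - 1 < B := by omega
    haveI := hι _ hb
    simp [hb]
    rw [← ι.comm (i - 1) i, IsIso.inv_hom_id_assoc]

/-- the truncation agrees below its bound -/
theorem isIso_ι_f (M : CochainComplex A ℤ) (B j : ℤ) (hj : j < B) : IsIso ((CochainComplex.ιTruncLE M B).f j) := by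
  obtain ⟨m, hm⟩ : ∃ m : ℕ, j = B - (m + 1 : ℕ) := ⟨(B - j - 1).toNat, by omega⟩
  let e := ComplexShape.embeddingUpIntLE B
  have hb : ¬ e.op.BoundaryGE (m + 1) := by
    intro h
    exact h.2 m (by simp [e]; omega)
  change IsIso (((M.op).πTruncGE e.op).f j).unop
  suffices IsIso (((M.op).πTruncGE e.op).f j) by infer_instance
  dsimp only [HomologicalComplex.πTruncGE]
  refine (ComplexShape.Embedding.isIso_liftExtend_f_iff (C := Aᵒᵖ) e.op ((HomologicalComplex.op M).restrictionToTruncGE' e.op) _ (i := m + 1) (show e.f (m + 1) = j by simp [e]; omega)).2 ?_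
  exact M.op.isIso_restrictionToTruncGE' e.op (m + 1) hb

variable [HasDerivedCategory.{w} A]

theorem roofs_left (K L : HomotopyCategory A (ComplexShape.up ℤ)) (a b : ℤ) [CochainComplex.IsStrictlyLE K.as a]
    [CochainComplex.IsStrictlyLE L.as b] :
    (∀ φ : DerivedCategory.Qh.obj K ⟶ DerivedCategory.Qh.obj L,
      ∃ (K' : HomotopyCategory A (ComplexShape.up ℤ)) (n : ℤ) (_ : CochainComplex.IsStrictlyLE K'.as n) (s : K' ⟶ K) (f : K' ⟶ L),
        HomotopyCategory.quasiIso A (ComplexShape.up ℤ) s ∧ DerivedCategory.Qh.map s ≫ φ = DerivedCategory.Qh.map f) ∧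
    (∀ f₁ f₂ : K ⟶ L, DerivedCategory.Qh.map f₁ = DerivedCategory.Qh.map f₂ →
      ∃ (K' : HomotopyCategory A (ComplexShape.up ℤ)) (n : ℤ) (_ : CochainComplex.IsStrictlyLE K'.as n) (s : K' ⟶ K),
        HomotopyCategory.quasiIso A (ComplexShape.up ℤ) s ∧ s ≫ f₁ = s ≫ f₂) := by
  refine ⟨fun φ => ?_, fun f₁ f₂ h => ?_⟩
  · obtain ⟨X', hX', s, hs, g, hg⟩ := right_fac_of_isStrictlyLE (X := K.as) (Y := L.as) φ a
    refine ⟨(HomotopyCategory.quotient _ _).obj X', a, hX', (HomotopyCategory.quotient _ _).map s,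
      (HomotopyCategory.quotient _ _).map g, (isIso_Qh_map_iff _).1 hs, ?_⟩
    haveI := hs
    change Q.map s ≫ φ = Q.map g
    exact (congrArg (fun t => Q.map s ≫ t) hg).trans (IsIso.hom_inv_id_assoc _ _)
  · obtain ⟨X', s, hs, hfac⟩ := (MorphismProperty.map_eq_iff_precomp Qh (HomotopyCategory.quasiIso A (ComplexShape.up ℤ)) f₁ f₂).1 h
    obtain ⟨X', rfl⟩ := HomotopyCategory.quotient_obj_surjective X'
    obtain ⟨s, rfl⟩ := (HomotopyCategory.quotient _ _).map_surjective s
    have hs' : IsIso (Q.map s) := (isIso_Qh_map_iff _).2 hs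
    haveI : QuasiIso s := (isIso_Q_map_iff_quasiIso _ s).1 hs'
    haveI : CochainComplex.IsLE K.as a := inferInstance
    haveI : CochainComplex.IsLE X' a := (CochainComplex.isLE_iff _ _).2 fun i hi => (exactAt_iff_of_quasiIsoAt s i).2 (CochainComplex.exactAt_of_isLE K.as a i hi)
    refine ⟨(HomotopyCategory.quotient _ _).obj (CochainComplex.truncLE X' a), a, inferInstanceAs (CochainComplex.IsStrictlyLE (CochainComplex.truncLE X' a) a),
      (HomotopyCategory.quotient _ _).map (CochainComplex.ιTruncLE X' a) ≫ (HomotopyCategory.quotient _ _).map s, ?_, ?_⟩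
    · refine (isIso_Qh_map_iff _).1 ?_
      haveI : IsIso (Q.map (CochainComplex.ιTruncLE X' a)) := (isIso_Q_map_iff_quasiIso _ _).2 inferInstance
      rw [Functor.map_comp]
      exact IsIso.comp_isIso' (inferInstanceAs (IsIso (Q.map (CochainComplex.ιTruncLE X' a)))) hs'
    · rw [Category.assoc, Category.assoc, hfac]

theorem roofs_bounded (K L : HomotopyCategory A (ComplexShape.up ℤ)) (a b a' b' : ℤ) [CochainComplex.IsStrictlyGE K.as a]
    [CochainComplex.IsStrictlyLE K.as b]
    [CochainComplex.IsStrictlyGE L.as a'] [CochainComplex.IsStrictlyLE L.as b'] :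
    (∀ φ : DerivedCategory.Qh.obj K ⟶ DerivedCategory.Qh.obj L,
      ∃ (L' : HomotopyCategory A (ComplexShape.up ℤ)) (m n : ℤ) (_ : CochainComplex.IsStrictlyGE L'.as m) (_ : CochainComplex.IsStrictlyLE L'.as n) (f : K ⟶ L') (t : L ⟶ L'),
        HomotopyCategory.quasiIso A (ComplexShape.up ℤ) t ∧ φ ≫ DerivedCategory.Qh.map t = DerivedCategory.Qh.map f) ∧
    (∀ f₁ f₂ : K ⟶ L, DerivedCategory.Qh.map f₁ = DerivedCategory.Qh.map f₂ →
      ∃ (L' : HomotopyCategory A (ComplexShape.up ℤ)) (m n : ℤ) (_ : CochainComplex.IsStrictlyGE L'.as m) (_ : CochainComplex.IsStrictlyLE L'.as n) (t : L ⟶ L'),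
        HomotopyCategory.quasiIso A (ComplexShape.up ℤ) t ∧ f₁ ≫ t = f₂ ≫ t) := by
  haveI : CochainComplex.IsStrictlyLE K.as (max b b') := CochainComplex.isStrictlyLE_of_le K.as b _ (le_max_left _ _)
  haveI : CochainComplex.IsStrictlyLE L.as (max b b') := CochainComplex.isStrictlyLE_of_le L.as b' _ (le_max_right _ _)
  refine ⟨fun φ => ?_, fun f₁ f₂ h => ?_⟩
  · obtain ⟨Y', h1, h2, g, s, hs, hg⟩ := left_fac_of_isStrictlyLE_of_isStrictlyGE (X := K.as) (Y := L.as) a' (max b b') φ
    refine ⟨(HomotopyCategory.quotient _ _).obj Y', a', max b b', h1, h2, (HomotopyCategory.quotient _ _).map g,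
      (HomotopyCategory.quotient _ _).map s, (isIso_Qh_map_iff _).1 hs, ?_⟩
    haveI := hs
    change φ ≫ Q.map s = Q.map g
    exact (congrArg (fun t => t ≫ Q.map s) hg).trans ((Category.assoc _ _ _).trans
      ((congrArg (fun t => Q.map g ≫ t) (IsIso.inv_hom_id _)).trans (Category.comp_id _)))
  · obtain ⟨Y', t, ht, hfac⟩ := (MorphismProperty.map_eq_iff_postcomp Qh (HomotopyCategory.quasiIso A (ComplexShape.up ℤ)) f₁ f₂).1 h
    obtain ⟨Y', rfl⟩ := HomotopyCategory.quotient_obj_surjective Y'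
    obtain ⟨t, rfl⟩ := (HomotopyCategory.quotient _ _).map_surjective t
    haveI : QuasiIso t := (isIso_Q_map_iff_quasiIso _ t).1 ((isIso_Qh_map_iff _).2 ht)
    haveI : CochainComplex.IsLE L.as (max b b') := inferInstance
    haveI : CochainComplex.IsGE L.as a' := inferInstance
    haveI : CochainComplex.IsGE Y' a' := (CochainComplex.isGE_iff _ _).2 fun i hi => (exactAt_iff_of_quasiIsoAt t i).1 (CochainComplex.exactAt_of_isGE L.as a' i hi)
    let M : CochainComplex A ℤ := CochainComplex.truncGE Y' a'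
    let t₁ : L.as ⟶ M := t ≫ CochainComplex.πTruncGE Y' a'
    haveI : QuasiIso t₁ := quasiIso_comp _ _
    haveI : CochainComplex.IsLE M (max b b') := (CochainComplex.isLE_iff _ _).2 fun i hi => (exactAt_iff_of_quasiIsoAt t₁ i).1 (CochainComplex.exactAt_of_isLE L.as _ i hi)
    haveI : QuasiIso (CochainComplex.truncLEMap t₁ (max b b')) := by
      rw [CochainComplex.quasiIso_truncLEMap_iff]; intro i _; infer_instance
    let t₂ : L.as ⟶ CochainComplex.truncLE M (max b b') := inv (CochainComplex.ιTruncLE L.as (max b b')) ≫ CochainComplex.truncLEMap t₁ (max b b')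
    have e : t₂ ≫ CochainComplex.ιTruncLE M (max b b') = t₁ := by
      simp only [t₂, Category.assoc, CochainComplex.ιTruncLE_naturality, IsIso.inv_hom_id_assoc]
    haveI : QuasiIso t₂ := quasiIso_comp _ _
    obtain ⟨g₁, rfl⟩ := (HomotopyCategory.quotient _ _).map_surjective (X := K.as) (Y := L.as) f₁
    obtain ⟨g₂, rfl⟩ := (HomotopyCategory.quotient _ _).map_surjective (X := K.as) (Y := L.as) f₂
    have hh : Homotopy ((g₁ ≫ t₂) ≫ CochainComplex.ιTruncLE M (max b b')) ((g₂ ≫ t₂) ≫ CochainComplex.ιTruncLE M (max b b')) := by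
      rw [Category.assoc g₁, Category.assoc g₂, e]
      refine HomotopyCategory.homotopyOfEq _ _ ?_
      simp only [t₁, Functor.map_comp]
      rw [← Category.assoc, ← Category.assoc]
      exact congrArg (fun z => z ≫ _) hfac
    haveI : ∀ i, Mono ((CochainComplex.ιTruncLE M (max b b')).f i) := fun i =>
      inferInstanceAs (Mono ((HomologicalComplex.ιTruncLE M (ComplexShape.embeddingUpIntLE (max b b'))).f i))
    obtain ⟨H⟩ := homotopy_of_comp (g₁ ≫ t₂) (g₂ ≫ t₂) (CochainComplex.ιTruncLE M (max b b')) (max b b')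
      (fun j hj => isIso_ι_f M _ j hj) (fun i hi => CochainComplex.isZero_of_isStrictlyLE K.as (max b b') i hi) hh
    refine ⟨(HomotopyCategory.quotient _ _).obj (CochainComplex.truncLE M (max b b')), a', max b b',
      inferInstanceAs (CochainComplex.IsStrictlyGE (CochainComplex.truncLE M (max b b')) a'),
      inferInstanceAs (CochainComplex.IsStrictlyLE (CochainComplex.truncLE M (max b b')) _), (HomotopyCategory.quotient _ _).map t₂,
      (isIso_Qh_map_iff _).1 ((isIso_Q_map_iff_quasiIso _ t₂).2 inferInstance), ?_⟩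
    exact (((HomotopyCategory.quotient _ _).map_comp g₁ t₂).symm.trans (HomotopyCategory.eq_of_homotopy _ _ H)).trans
      ((HomotopyCategory.quotient _ _).map_comp g₂ t₂)

end Groth.Agent.H5Roofs
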