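import Mathlib

open CategoryTheory CategoryTheory.Limits Opposite

namespace Groth.Agent.H5SAFT

universe v u

theorem representable_iff {A : Type u} [Category.{v} A] [Abelian A]
    [IsGrothendieckAbelian.{v} A] (F : Aᵒᵖ ⥤ Type v) :
    F.IsRepresentable ↔ PreservesLimitsOfSize.{v, v} F := by
  constructor
  · intro h
    exact preservesLimits_of_natIso F.reprW
  · intro h
    have hs : ObjectProperty.IsCoseparating (ObjectProperty.singleton (op (separator A))) := by
      exact (isCoseparator_op_iff _).2 (isSeparator_separator A)
    have : F.IsRightAdjoint := isRightAdjoint_of_preservesLimits_of_isCoseparating.{v} hs F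
    let adj := Adjunction.ofIsRightAdjoint F
    let e : F.CorepresentableBy (F.leftAdjoint.obj PUnit.{v+1}) :=
      { homEquiv := fun {X} => (adj.homEquiv _ _).trans
          { toFun := fun φ => (ConcreteCategory.hom φ) PUnit.unit
            invFun := fun x => TypeCat.ofHom (fun _ => x)
            left_inv := fun φ => by ext ⟨⟩; rfl
            right_inv := fun x => rfl }
        homEquiv_comp := fun g f => by
          simp [Adjunction.homEquiv_naturality_right] }
    exact Functor.RepresentableBy.isRepresentable (Y := (F.leftAdjoint.obj PUnit.{v+1}).unop)
      { homEquiv := fun {X} => (opEquiv _ (op X)).symm.trans e.homEquiv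
        homEquiv_comp := fun f g => by
          exact e.homEquiv_comp f.op g.op }

end Groth.Agent.H5SAFT
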