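import Groth.Prelude.Def_Hyper
set_option backward.isDefEq.respectTransparency false
universe u
namespace Groth.Agent.H5SRCov
open CategoryTheory CategoryTheory.Limits

variable {C : Type u} [SmallCategory C] {J : GrothendieckTopology C}

lemma comp_cov {K L M : FormalCoproduct.{u} C} (f : K ⟶ L) (g : L ⟶ M)
    (hf : Hyper.IsSRCovering J f) (hg : Hyper.IsSRCovering J g) : Hyper.IsSRCovering J (f ≫ g) := by
  intro k
  refine J.transitive (hg k) _ ?_
  rintro W h ⟨Z, a, b, ⟨⟨j, rfl⟩⟩, rfl⟩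
  rw [Sieve.pullback_comp]
  refine J.pullback_stable _ (J.superset_covering ?_ (hf j))
  rintro V q ⟨Z', c, d, ⟨⟨i, rfl⟩⟩, rfl⟩
  refine (Sieve.mem_ofArrows_iff _ _ _).2 ⟨⟨i, rfl⟩, c, ?_⟩
  simp

lemma base_change [HasPullbacks C] {K L L' : FormalCoproduct.{u} C} (f : K ⟶ L) (g : L' ⟶ L)
    (hf : Hyper.IsSRCovering J f) : HasPullback g f ∧ ∀ [HasPullback g f], Hyper.IsSRCovering J (pullback.fst g f) := by
  refine ⟨FormalCoproduct.hasPullback_of_pullbackCone g f (fun i => pullback.cone _ _)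
    (fun i => pullback.isLimit _ _), fun {_} j' => ?_⟩
  refine J.superset_covering ?_ (J.pullback_stable (g.φ j') (hf (g.f j')))
  rintro W h ⟨Z, s, b, ⟨⟨i, hi⟩⟩, e⟩
  have hc : FormalCoproduct.Hom.fromIncl j' h ≫ g = FormalCoproduct.Hom.fromIncl i s ≫ f := by
    refine FormalCoproduct.hom_ext (funext fun _ => hi.symm) (fun _ => ?_)
    show (h ≫ g.φ j') ≫ eqToHom _ = s ≫ f.φ i
    rw [← e]
    simp
  let m := pullback.lift _ _ hc
  have hm : m ≫ pullback.fst g f = FormalCoproduct.Hom.fromIncl j' h := pullback.lift_fst _ _ _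
  obtain ⟨h₁, h₂⟩ := (FormalCoproduct.hom_ext_iff _ _).1 hm
  refine (Sieve.mem_ofArrows_iff _ _ _).2 ⟨⟨m.f PUnit.unit, congrFun h₁ PUnit.unit⟩, m.φ PUnit.unit, ?_⟩
  have := h₂ PUnit.unit
  simpa using this.symm

end Groth.Agent.H5SRCov
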