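import Mathlib
set_option autoImplicit false
universe u
open CategoryTheory TopologicalSpace

namespace Groth.Agent.H5SectSupp

variable {X : TopCat.{u}} [T0Space X] [QuasiSober X]

theorem exists_section_iff (hX : ∀ x : X, ∃ U : Opens X, x ∈ U ∧ NoetherianSpace U)
    (F : TopCat.Sheaf AddCommGrpCat.{u} X) (x : X) (s : F.presheaf.stalk x) :
    (∃ (U : Opens X) (hx : x ∈ U) (t : F.presheaf.obj (Opposite.op U)),
        F.presheaf.germ U x hx t = s ∧
          ∀ (u : X) (hu : u ∈ U), F.presheaf.germ U u hu t ≠ 0 → u ∈ closure ({x} : Set X)) ↔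
      ∀ (y : X) (h : y ⤳ x), y ≠ x → F.presheaf.stalkSpecializes h s = 0 := by
  constructor
  · rintro ⟨U, hx, t, rfl, ht⟩ y h hy
    by_contra hne
    rw [← ConcreteCategory.comp_apply, TopCat.Presheaf.germ_stalkSpecializes] at hne
    exact hy ((specializes_iff_mem_closure.2 (ht y _ hne)).antisymm h).eq.symm
  · intro hs
    obtain ⟨U₀, hxU₀, hN⟩ := hX x
    obtain ⟨U₁, hxU₁, t₁, ht₁⟩ := F.presheaf.germ_exist s
    let U : Opens X := U₀ ⊓ U₁
    have hxU : x ∈ U := ⟨hxU₀, hxU₁⟩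
    let t := F.presheaf.map (homOfLE (inf_le_right : U ≤ U₁)).op t₁
    have ht : F.presheaf.germ U x hxU t = s := by
      rw [← ht₁]; exact F.presheaf.germ_res_apply (homOfLE inf_le_right) x hxU t₁
    have : NoetherianSpace U :=
      (Topology.IsEmbedding.inclusion (inf_le_left : U ≤ U₀)).isInducing.noetherianSpace
    have hcl : IsClosed {u : U | F.presheaf.germ U u.1 u.2 t ≠ 0} := by
      rw [← isOpen_compl_iff, isOpen_iff_forall_mem_open]
      intro u hu
      have hu0 : F.presheaf.germ U u.1 u.2 t = F.presheaf.germ U u.1 u.2 0 := by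
        rw [map_zero]; exact not_not.1 hu
      obtain ⟨W, hW, i₁, i₂, e⟩ := F.presheaf.germ_eq u.1 u.2 u.2 t 0 hu0
      refine ⟨(Subtype.val : U → X) ⁻¹' W, fun v hv => ?_, W.isOpen.preimage continuous_subtype_val, hW⟩
      simp only [Set.mem_compl_iff, Set.mem_ofPred_eq, not_not]
      rw [← F.presheaf.germ_res_apply i₁ v.1 hv t, e, F.presheaf.germ_res_apply i₂ v.1 hv, map_zero]
    obtain ⟨S, hS, hScl, hSi, hSu⟩ := NoetherianSpace.exists_finite_set_isClosed_irreducible hcl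
    let bad : Set U := ⋃ Z ∈ {Z ∈ S | (⟨x, hxU⟩ : U) ∉ Z}, Z
    have hbad : IsClosed bad := (hS.subset (fun Z hZ => hZ.1)).isClosed_biUnion fun Z hZ => hScl Z hZ.1
    let V : Opens X := ⟨Subtype.val '' badᶜ, U.isOpen.isOpenMap_subtype_val _ hbad.isOpen_compl⟩
    have hVU : V ≤ U := by rintro _ ⟨v, _, rfl⟩; exact v.2
    have hxV : x ∈ V := ⟨⟨x, hxU⟩, fun h => by
      obtain ⟨Z, hZ, hxZ⟩ := Set.mem_iUnion₂.1 h
      exact hZ.2 hxZ, rfl⟩
    refine ⟨V, hxV, F.presheaf.map (homOfLE hVU).op t, ?_, fun u hu hne => ?_⟩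
    · rw [F.presheaf.germ_res_apply (homOfLE hVU) x hxV t]; exact ht
    rw [F.presheaf.germ_res_apply (homOfLE hVU) u hu t] at hne
    obtain ⟨v, hv, rfl⟩ := hu
    have hmem : v ∈ {u : U | F.presheaf.germ U u.1 u.2 t ≠ 0} := hne
    rw [hSu, Set.mem_sUnion] at hmem
    obtain ⟨Z, hZS, hvZ⟩ := hmem
    have hxZ : (⟨x, hxU⟩ : U) ∈ Z := by
      by_contra hn
      exact hv (Set.mem_iUnion₂.2 ⟨Z, ⟨hZS, hn⟩, hvZ⟩)
    have hirr : IsIrreducible (Subtype.val '' Z) := (hSi Z hZS).image _ continuous_subtype_val.continuousOn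
    obtain ⟨η, hη⟩ := QuasiSober.sober hirr.closure isClosed_closure
    have hηx : η ⤳ x := hη.specializes (subset_closure ⟨_, hxZ, rfl⟩)
    have hηU : η ∈ U := hηx.mem_open U.isOpen hxU
    have hηZ : (⟨η, hηU⟩ : U) ∈ Z := by
      have h1 : η ∈ closure (Subtype.val '' Z) := hη.mem
      have h2 : (⟨η, hηU⟩ : U) ∈ closure Z := closure_subtype.2 h1
      rwa [(hScl Z hZS).closure_eq] at h2
    have hη0 : F.presheaf.germ U η hηU t ≠ 0 := by
      have : (⟨η, hηU⟩ : U) ∈ {u : U | F.presheaf.germ U u.1 u.2 t ≠ 0} := by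
        rw [hSu, Set.mem_sUnion]; exact ⟨Z, hZS, hηZ⟩
      exact this
    have hηeq : η = x := by
      by_contra hne'
      have := hs η hηx hne'
      rw [← ht, ← ConcreteCategory.comp_apply, TopCat.Presheaf.germ_stalkSpecializes] at this
      exact hη0 this
    rw [← hηeq]
    exact specializes_iff_mem_closure.1 (hη.specializes (subset_closure ⟨v, hvZ, rfl⟩))

end Groth.Agent.H5SectSupp
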