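import Mathlib.CategoryTheory.Sites.Closed
import Mathlib.CategoryTheory.Sites.LocallyBijective
import Mathlib.CategoryTheory.Sites.LeftExact
import Mathlib.CategoryTheory.Generator.Basic
universe u
namespace Groth.Agent.H5ShSmall
open CategoryTheory CategoryTheory.Limits Opposite

variable {C : Type u} [SmallCategory C] (J : GrothendieckTopology C)

/-- sections = maps -/
noncomputable def secEquiv (X : C) (F : Sheaf J (Type u)) :
    ((presheafToSheaf J (Type u)).obj (yoneda.obj X) ⟶ F) ≃ F.obj.obj (op X) :=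
  ((sheafificationAdjunction J (Type u)).homEquiv _ _).trans yonedaEquiv

lemma secEquiv_comp (X : C) {F G : Sheaf J (Type u)} (h : (presheafToSheaf J (Type u)).obj (yoneda.obj X) ⟶ F) (f : F ⟶ G) :
    secEquiv J X G (h ≫ f) = f.hom.app (op X) (secEquiv J X F h) := by
  simp only [secEquiv, Equiv.trans_apply]
  rw [Adjunction.homEquiv_naturality_right, yonedaEquiv_comp]
  rfl

theorem detecting (G : Set C)
    (hG : ∀ X : C, ∃ (ι : Type u) (Y : ι → C) (f : ∀ i, Y i ⟶ X), Sieve.ofArrows Y f ∈ J X ∧ ∀ i, Y i ∈ G) :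
    (ObjectProperty.ofObj fun X : G => (presheafToSheaf J (Type u)).obj (yoneda.obj (X : C))).IsDetecting := by
  intro F F' f hf
  have hb : ∀ X ∈ G, Function.Bijective (f.hom.app (op X)) := by
    intro X hX
    have h1 : ∀ y : F'.obj.obj (op X), ∃! x : F.obj.obj (op X), f.hom.app (op X) x = y := by
      intro y
      obtain ⟨h', hh', huniq⟩ := hf _ (ObjectProperty.ofObj_apply _ (⟨X, hX⟩ : G)) ((secEquiv J X F').symm y)
      refine ⟨secEquiv J X F h', ?_, fun x hx => ?_⟩
      · show f.hom.app (op X) (secEquiv J X F h') = y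
        rw [← secEquiv_comp, hh', Equiv.apply_symm_apply]
      · rw [← huniq ((secEquiv J X F).symm x) ?_, Equiv.apply_symm_apply]
        apply (secEquiv J X F').injective
        rw [secEquiv_comp, Equiv.apply_symm_apply, Equiv.apply_symm_apply, hx]
    exact Function.bijective_iff_existsUnique _ |>.2 h1
  rw [← Sheaf.isLocallyBijective_iff_isIso f]
  constructor
  · constructor
    intro X x y e
    obtain ⟨ι, Y, g, hg, hY⟩ := hG X.unop
    refine J.superset_covering ?_ hg
    rintro W _ ⟨V, a, b, ⟨i⟩, rfl⟩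
    show F.obj.map (a ≫ g i).op x = F.obj.map (a ≫ g i).op y
    have : F.obj.map (g i).op x = F.obj.map (g i).op y := (hb _ (hY i)).1 (by
      rw [NatTrans.naturality_apply, NatTrans.naturality_apply, e])
    simp [this]
  · constructor
    intro U s
    obtain ⟨ι, Y, g, hg, hY⟩ := hG U
    refine J.superset_covering ?_ hg
    rintro W _ ⟨V, a, b, ⟨i⟩, rfl⟩
    obtain ⟨t, ht⟩ := (hb _ (hY i)).2 (F'.obj.map (g i).op s)
    refine ⟨F.obj.map a.op t, ?_⟩
    rw [NatTrans.naturality_apply, ht]
    simp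

theorem initial_iff (X : C) :
    Nonempty (IsInitial ((presheafToSheaf J (Type u)).obj (yoneda.obj X))) ↔ (⊥ : Sieve X) ∈ J X := by
  constructor
  · rintro ⟨h⟩
    let Ω : Sheaf J (Type u) := ⟨(Functor.closedSieves J).toFunctor, (isSheaf_iff_isSheaf_of_type _ _).2 (classifier_isSheaf J)⟩
    have : Subsingleton (Ω.obj.obj (op X)) := by
      have : Subsingleton ((presheafToSheaf J (Type u)).obj (yoneda.obj X) ⟶ Ω) := ⟨fun a b => h.hom_ext a b⟩
      exact (secEquiv J X Ω).symm.subsingleton
    rw [← J.close_eq_top_iff_mem]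
    exact congrArg Subtype.val (Subsingleton.elim (α := Ω.obj.obj (op X))
      (⟨J.close ⊥, J.close_isClosed _⟩ : { S : Sieve X // J.IsClosed S })
      (⟨⊤, fun Y f _ => trivial⟩ : { S : Sieve X // J.IsClosed S }))
  · intro hX
    refine ⟨IsInitial.ofUniqueHom (fun F => (secEquiv J X F).symm ?_) ?_⟩
    · exact (((isSheaf_iff_isSheaf_of_type _ _).1 F.property) _ hX).amalgamate (fun _ _ h => h.elim) (fun _ _ _ _ _ _ _ h => h.elim)
    · intro F m
      apply (secEquiv J X F).injective
      exact (((isSheaf_iff_isSheaf_of_type _ _).1 F.property) _ hX).isSeparatedFor.ext (fun _ _ h => h.elim)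

end Groth.Agent.H5ShSmall
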