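import Groth.Prelude.Def_SpSeq
import Mathlib.Algebra.Homology.SpectralObject.SpectralSequence
import Mathlib.Algebra.Homology.SpectralObject.FirstPage
import Mathlib.Algebra.Homology.SpectralObject.EpiMono
import Mathlib.CategoryTheory.Abelian.Refinements
import Mathlib.Data.Int.Interval

universe v u

namespace Groth.Agent.H5SpObj

open CategoryTheory Category Limits ComposableArrows Abelian SpectralObject

variable {C : Type u} [Category.{v} C] [Abelian C] (Y : Abelian.SpectralObject C EInt)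

/-- the total object in degree `n` -/
noncomputable abbrev tot (n : ℤ) : C := (Y.H n).obj (mk₁ (homOfLE (le_top : (⊥ : EInt) ≤ ⊤)))

/-- transition to the total object -/
noncomputable abbrev toTot (n : ℤ) (b : EInt) :
    (Y.H n).obj (mk₁ (homOfLE (bot_le : (⊥ : EInt) ≤ b))) ⟶ tot Y n :=
  (Y.H n).map (twoδ₂Toδ₁' (⊥ : EInt) b ⊤ bot_le le_top)

variable {H : ℤ → C} (e : ∀ n, tot Y n ≅ H n)

/-- the filtration indexed by `EInt` -/
noncomputable def F (n : ℤ) (b : EInt) : Subobject (H n) := imageSubobject (toTot Y n b ≫ (e n).hom)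

lemma F_mono (n : ℤ) {a b : EInt} (h : a ≤ b) : F Y e n a ≤ F Y e n b := by
  refine SpSeq.FilCx.imageSubobject_le_of_fac ((Y.H n).map (twoδ₂Toδ₁' (⊥ : EInt) a b bot_le h)) ?_
  rw [← assoc, ← Functor.map_comp]
  congr 2

/-- the projection to a step of the filtration -/
noncomputable def fac (n : ℤ) (b : EInt) :
    (Y.H n).obj (mk₁ (homOfLE (bot_le : (⊥ : EInt) ≤ b))) ⟶ (F Y e n b : C) :=
  factorThruImageSubobject (toTot Y n b ≫ (e n).hom)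

instance (n : ℤ) (b : EInt) : Epi (fac Y e n b) :=
  inferInstanceAs (Epi (factorThruImageSubobject (toTot Y n b ≫ (e n).hom)))

@[reassoc]
lemma fac_arrow (n : ℤ) (b : EInt) : fac Y e n b ≫ (F Y e n b).arrow = toTot Y n b ≫ (e n).hom :=
  imageSubobject_arrow_comp _

lemma exists_graded_iso {n : ℤ} (a b : EInt) (h : a ≤ b) :
    Nonempty (Y.E (homOfLE (bot_le : (⊥ : EInt) ≤ a)) (homOfLE h) (homOfLE (le_top : b ≤ ⊤)) (n - 1) n (n + 1) ≅
      cokernel (Subobject.ofLE (F Y e n a) (F Y e n b) (F_mono Y e n h))) := by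
  let f₁ := homOfLE (bot_le : (⊥ : EInt) ≤ a)
  let f₂ := homOfLE h
  let f₃ := homOfLE (le_top : b ≤ ⊤)
  let f₁₂ := homOfLE (bot_le : (⊥ : EInt) ≤ b)
  have h₁₂ : f₁ ≫ f₂ = f₁₂ := rfl
  let x : (Y.H n).obj (mk₁ f₁₂) ⟶ cokernel (Subobject.ofLE (F Y e n a) (F Y e n b) (F_mono Y e n h)) :=
    fac Y e n b ≫ cokernel.π _
  let m := (Y.H n).map (twoδ₂Toδ₁ f₁ f₂ f₁₂ h₁₂)
  have hm : m ≫ toTot Y n b = toTot Y n a := by
    rw [← Functor.map_comp]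
    congr 1
  have hx₁ : m ≫ x = 0 := by
    have : m ≫ fac Y e n b = fac Y e n a ≫ Subobject.ofLE _ _ (F_mono Y e n h) := by
      rw [← cancel_mono (F Y e n b).arrow, assoc, assoc, fac_arrow, Subobject.ofLE_arrow, fac_arrow,
        ← assoc, hm]
    dsimp only [x]
    rw [← assoc, this, assoc, cokernel.condition, comp_zero]
  have hδ : Y.δ f₁₂ f₃ (n - 1) n ≫ toTot Y n b = 0 :=
    Y.zero₁ f₁₂ f₃ (homOfLE (le_top : (⊥ : EInt) ≤ ⊤)) rfl (n - 1) n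
  have hx₂ : Y.δ f₁₂ f₃ (n - 1) n ≫ x = 0 := by
    have : Y.δ f₁₂ f₃ (n - 1) n ≫ fac Y e n b = 0 := by
      rw [← cancel_mono (F Y e n b).arrow, assoc, fac_arrow, ← assoc, hδ, zero_comp, zero_comp]
    dsimp only [x]
    rw [← assoc, this, zero_comp]
  let φ := Y.descE f₁ f₂ f₃ f₁₂ h₁₂ (n - 1) n (n + 1) x hx₁ (by omega) hx₂ (by omega)
  let g := Y.toCycles f₁ f₂ f₁₂ h₁₂ n ≫ Y.πE f₁ f₂ f₃ (n - 1) n (n + 1)
  have hg : g ≫ φ = x := by
    simp only [g, φ, assoc]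
    exact Y.toCycles_πE_descE f₁ f₂ f₃ f₁₂ h₁₂ (n - 1) n (n + 1) x hx₁ (by omega) hx₂ (by omega)
  haveI : Epi g := inferInstanceAs (Epi (Y.cokernelSequenceE f₁ f₂ f₃ f₁₂ h₁₂ (n - 1) n (n + 1)).g)
  haveI : Epi x := epi_comp _ _
  haveI : Epi φ := by
    haveI : Epi (g ≫ φ) := by rw [hg]; infer_instance
    exact epi_of_epi g φ
  haveI : Mono φ := by
    refine Preadditive.mono_of_cancel_zero _ fun {T} z hz => ?_
    obtain ⟨T₁, π₁, _, y, hy⟩ := surjective_up_to_refinements_of_epi g z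
    have hyx : y ≫ x = 0 := by rw [← hg, ← assoc, ← hy, assoc, hz, comp_zero]
    obtain ⟨T₂, π₂, _, c, hc⟩ : ∃ (T₂ : C) (π₂ : T₂ ⟶ T₁) (_ : Epi π₂)
        (c : T₂ ⟶ (F Y e n a : C)),
        π₂ ≫ y ≫ fac Y e n b = c ≫ Subobject.ofLE _ _ (F_mono Y e n h) :=
      (ShortComplex.exact_cokernel (Subobject.ofLE _ _ (F_mono Y e n h))).exact_up_to_refinements _
        (show (y ≫ fac Y e n b) ≫ cokernel.π _ = 0 by rw [assoc]; exact hyx)
    obtain ⟨T₃, π₃, _, y', hy'⟩ :=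
      surjective_up_to_refinements_of_epi (fac Y e n a) c
    have key : (π₃ ≫ π₂ ≫ y - y' ≫ m) ≫ toTot Y n b = 0 := by
      rw [← cancel_mono (e n).hom, zero_comp, Preadditive.sub_comp, Preadditive.sub_comp, assoc,
        assoc, assoc, assoc, assoc, sub_eq_zero, ← assoc m, hm]
      have h1 := congrArg (fun t => π₃ ≫ t ≫ (F Y e n b).arrow) hc
      have h2 := congrArg (fun t => t ≫ (F Y e n a).arrow) hy'
      simp only [assoc, Subobject.ofLE_arrow, fac_arrow] at h1 h2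
      exact h1.trans h2
    obtain ⟨T₄, π₄, _, d, hd⟩ : ∃ (T₄ : C) (π₄ : T₄ ⟶ T₃) (_ : Epi π₄) (d : T₄ ⟶ (Y.H (n - 1)).obj (mk₁ f₃)),
        π₄ ≫ (π₃ ≫ π₂ ≫ y - y' ≫ m) = d ≫ Y.δ f₁₂ f₃ (n - 1) n :=
      (Y.exact₁ f₁₂ f₃ (homOfLE (le_top : (⊥ : EInt) ≤ ⊤)) rfl (n - 1) n).exact_up_to_refinements
        (π₃ ≫ π₂ ≫ y - y' ≫ m) key
    have hmg : m ≫ g = 0 := by
      have := (Y.cokernelSequenceE f₁ f₂ f₃ f₁₂ h₁₂ (n - 1) n (n + 1)).zero
      have := congrArg (fun t => biprod.inl ≫ t) this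
      simpa [g, m] using this
    have hδg : Y.δ f₁₂ f₃ (n - 1) n ≫ g = 0 := by
      have := (Y.cokernelSequenceE f₁ f₂ f₃ f₁₂ h₁₂ (n - 1) n (n + 1)).zero
      have := congrArg (fun t => biprod.inr ≫ t) this
      simpa [g] using this
    have h3 := congrArg (fun t => t ≫ g) hd
    simp only [Preadditive.sub_comp, Preadditive.comp_sub, assoc, hmg, hδg, comp_zero, sub_zero, ← hy] at h3
    rw [← cancel_epi (π₄ ≫ π₃ ≫ π₂ ≫ π₁), comp_zero]
    simpa only [assoc] using h3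
  haveI := isIso_of_mono_of_epi φ
  exact ⟨asIso φ⟩

variable [Y.IsFirstQuadrant]

lemma subquot_congr {X : C} {Z B Z' B' : Subobject X} (hZ : Z = Z') (hB : B = B') (h : B ≤ Z) (h' : B' ≤ Z') :
    Nonempty (SpSeq.subquot Z B h ≅ SpSeq.subquot Z' B' h') := by
  subst hZ hB; exact ⟨Iso.refl _⟩

lemma exists_E_iso (p q : ℤ) (r : ℤ) (hr : 2 ≤ r) (h0 : q - r + 2 ≤ 0) (h3 : p + q < q + r - 1) :
    Nonempty ((Y.E₂SpectralSequence.page r hr).X (p, q) ≅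
      Y.E (homOfLE (bot_le : (⊥ : EInt) ≤ (q : ℤ))) (homOfLE (by simp : ((q : ℤ) : EInt) ≤ ((q + 1 : ℤ) :)))
        (homOfLE (le_top : (((q + 1 : ℤ) :) : EInt) ≤ ⊤)) (p + q - 1) (p + q) (p + q + 1)) := by
  let i₀ : EInt := ((q - r + 2 : ℤ) :)
  let i₁ : EInt := ((q : ℤ) :)
  let i₂ : EInt := ((q + 1 : ℤ) :)
  let i₃ : EInt := ((q + r - 1 : ℤ) :)
  have h₀₁ : i₀ ≤ i₁ := by simp [i₀, i₁]; omega
  have h₁₂ : i₁ ≤ i₂ := by simp [i₁, i₂]
  have h₂₃ : i₂ ≤ i₃ := by simp [i₂, i₃]; omega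
  let e₀ := Y.spectralSequencePageXIso coreE₂Cohomological r hr (p, q) i₀ i₁ i₂ i₃ rfl rfl rfl rfl
    (p + q - 1) (p + q) (p + q + 1) rfl
  let f₁ := homOfLE h₀₁
  let f₂ := homOfLE h₁₂
  let f₃ := homOfLE h₂₃
  let g₁ := homOfLE (bot_le : (⊥ : EInt) ≤ i₁)
  let g₃ := homOfLE (le_top : i₂ ≤ ⊤)
  let α : mk₃ g₁ f₂ f₃ ⟶ mk₃ f₁ f₂ f₃ :=
    homMk₃ (homOfLE bot_le) (𝟙 _) (𝟙 _) (𝟙 _)
  let β : mk₃ g₁ f₂ f₃ ⟶ mk₃ g₁ f₂ g₃ :=
    homMk₃ (𝟙 _) (𝟙 _) (𝟙 _) (homOfLE le_top)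
  have hz₀ : ∀ m, IsZero ((Y.H m).obj (mk₁ (homOfLE (bot_le : (⊥ : EInt) ≤ i₀)))) := fun m =>
    Y.isZero₁_of_isFirstQuadrant _ _ _ (by simp [i₀]; omega) m
  have hz₃ : ∀ m, m ≤ p + q → IsZero ((Y.H m).obj (mk₁ (homOfLE (le_top : i₃ ≤ ⊤)))) := fun m hm =>
    Y.isZero₂_of_isFirstQuadrant _ _ _ m (by simp [i₃]; omega)
  have hid : ∀ (m : ℤ) {a b : EInt} (g : a ⟶ b) (φ : mk₁ g ⟶ mk₁ g), IsIso ((Y.H m).map φ) := fun m a b g φ => by
    obtain rfl : φ = 𝟙 _ := by apply ComposableArrows.hom_ext₁ <;> apply Subsingleton.elim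
    infer_instance
  have hA : IsIso ((Y.H (p + q + 1)).map ((functorArrows EInt 0 1 3).map α)) := by
    have := Y.isIso_H_map_twoδ₁Toδ₀' (p + q + 1) (p + q + 1 + 1) rfl ⊥ i₀ i₁ bot_le h₀₁ (hz₀ _) (hz₀ _)
    have key : ∀ φ : mk₁ g₁ ⟶ mk₁ f₁, IsIso ((Y.H (p + q + 1)).map φ) := fun φ => by
      convert this using 2
      apply ComposableArrows.hom_ext₁ <;> apply Subsingleton.elim
    exact key _
  have hB : IsIso ((Y.H (p + q - 1)).map ((functorArrows EInt 2 3 3).map β)) := by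
    let c := Y.composableArrows₅ f₃ (homOfLE (le_top : i₃ ≤ ⊤)) g₃ rfl (p + q - 2) (p + q - 1) (by omega)
    have hmono : Mono ((Y.H (p + q - 1)).map (twoδ₂Toδ₁ f₃ (homOfLE (le_top : i₃ ≤ ⊤)) g₃ rfl)) :=
      (Y.exact₁ f₃ (homOfLE (le_top : i₃ ≤ ⊤)) g₃ rfl (p + q - 2) (p + q - 1) (by omega)).mono_g
        ((hz₃ _ (by omega)).eq_of_src _ _)
    have hepi : Epi ((Y.H (p + q - 1)).map (twoδ₂Toδ₁ f₃ (homOfLE (le_top : i₃ ≤ ⊤)) g₃ rfl)) :=
      (Y.exact₂ f₃ (homOfLE (le_top : i₃ ≤ ⊤)) g₃ rfl (p + q - 1)).epi_f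
        ((hz₃ _ (by omega)).eq_of_tgt _ _)
    have := isIso_of_mono_of_epi ((Y.H (p + q - 1)).map (twoδ₂Toδ₁ f₃ (homOfLE (le_top : i₃ ≤ ⊤)) g₃ rfl))
    have key : ∀ φ : mk₁ f₃ ⟶ mk₁ g₃, IsIso ((Y.H (p + q - 1)).map φ) := fun φ => by
      convert this using 2
      apply ComposableArrows.hom_ext₁ <;> apply Subsingleton.elim
    exact key _
  have hα : IsIso (Y.map g₁ f₂ f₃ f₁ f₂ f₃ α (p + q - 1) (p + q) (p + q + 1)) :=
    Y.isIso_map _ _ _ _ _ _ α _ _ _ (hid _ _ _) (hid _ _ _) hA (by omega) (by omega)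
  have hβ : IsIso (Y.map g₁ f₂ f₃ g₁ f₂ g₃ β (p + q - 1) (p + q) (p + q + 1)) :=
    Y.isIso_map _ _ _ _ _ _ β _ _ _ hB (hid _ _ _) (hid _ _ _) (by omega) (by omega)
  exact ⟨e₀ ≪≫ (@asIso _ _ _ _ _ hα).symm ≪≫ @asIso _ _ _ _ _ hβ⟩

lemma isZero_page (p q r : ℤ) (hr : 2 ≤ r) (h : p < 0 ∨ q < 0) :
    IsZero ((Y.E₂SpectralSequence.page r hr).X (p, q)) := by
  obtain h | h := h
  · exact isZero_spectralSequence_page_X_of_isZero_H' _ _ _ hr _
      (Y.isZero₂_of_isFirstQuadrant _ _ _ _ (by simp; omega))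
  · exact isZero_spectralSequence_page_X_of_isZero_H' _ _ _ hr _
      (Y.isZero₁_of_isFirstQuadrant _ _ _ (by simp; omega) _)

include e in
/-- the spectral sequence of a first quadrant spectral object with its abutment -/
theorem exists_spectralSequence :
    ∃ (E : E₂CohomologicalSpectralSequence C) (a : SpSeq.Abutment E H),
      (∀ n, a.IsFinite n) ∧ SpSeq.IsBounded E ∧
      (∀ p q : ℤ, p < 0 ∨ q < 0 → IsZero ((E.page 2 le_rfl).X (p, q))) ∧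
      ∀ p q : ℤ, Nonempty ((E.page 2 le_rfl).X (p, q) ≅
        (Y.H (p + q)).obj (mk₁ (homOfLE (by simp : ((q : ℤ) : EInt) ≤ ((q + 1 : ℤ) :))))) := by
  let E := Y.E₂SpectralSequence
  let rk : ℤ × ℤ → ℤ := fun pq => 3 + (pq.1.natAbs : ℤ) + (pq.2.natAbs : ℤ)
  let fil : ∀ n : ℤ, ℤ → Subobject (H n) := fun n p => F Y e n ((n - p + 1 : ℤ) :)
  have anti : ∀ n, Antitone (fil n) := fun n p p' hpp' => F_mono Y e n (by simp; omega)
  have stat : ∀ pq, SpSeq.StationaryAt E pq (rk pq) := fun pq => by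
    refine ⟨by simp only [rk]; omega, fun r h₀ hr => ⟨?_, ?_⟩⟩
    · obtain ⟨p, q⟩ := pq
      exact (isZero_page Y (p - r) (q - (1 - r)) r h₀ (Or.inl (by simp only [rk] at hr; omega))).eq_of_src _ _
    · obtain ⟨p, q⟩ := pq
      exact (isZero_page Y (p + r) (q + (1 - r)) r h₀ (Or.inr (by simp only [rk] at hr; omega))).eq_of_tgt _ _
  have β : ∀ pq : ℤ × ℤ, Nonempty ((E.page (rk pq) (stat pq).1).X pq ≅
      SpSeq.grPiece (fil (pq.1 + pq.2)) (anti (pq.1 + pq.2)) pq.1) := by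
    rintro ⟨p, q⟩
    obtain ⟨e₁⟩ := exists_E_iso Y p q (rk (p, q)) (stat (p, q)).1 (by simp only [rk]; omega) (by simp only [rk]; omega)
    obtain ⟨e₂⟩ := exists_graded_iso Y e (n := p + q) ((q : ℤ) :) ((q + 1 : ℤ) :) (by simp)
    obtain ⟨e₃⟩ := subquot_congr (Z := F Y e (p + q) ((q + 1 : ℤ) :)) (B := F Y e (p + q) ((q : ℤ) :))
      (Z' := fil (p + q) p) (B' := fil (p + q) (p + 1))
      (by simp only [fil]; congr 2; omega) (by simp only [fil]; congr 2; omega)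
      (F_mono Y e _ (by simp)) (anti _ (by omega))
    exact ⟨e₁ ≪≫ e₂ ≪≫ e₃⟩
  refine ⟨E, ⟨fil, anti, rk, stat, fun pq => (β pq).some⟩, fun n => ⟨⟨0, ?_⟩, ⟨n + 1, ?_⟩⟩, fun n => ?_,
    fun p q h => isZero_page Y p q 2 le_rfl h, fun p q => ?_⟩
  · change imageSubobject (toTot Y n _ ≫ (e n).hom) = ⊤
    haveI : Epi (toTot Y n ((n - 0 + 1 : ℤ) :)) :=
      (Y.exact₂ _ _ _ rfl n).epi_f ((Y.isZero₂_of_isFirstQuadrant _ _ _ n (by simp)).eq_of_tgt _ _)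
    haveI : Epi (imageSubobject (toTot Y n ((n - 0 + 1 : ℤ) :) ≫ (e n).hom)).arrow := by
      haveI : Epi (factorThruImageSubobject (toTot Y n ((n - 0 + 1 : ℤ) :) ≫ (e n).hom) ≫
          (imageSubobject (toTot Y n ((n - 0 + 1 : ℤ) :) ≫ (e n).hom)).arrow) := by
        rw [imageSubobject_arrow_comp]; infer_instance
      exact epi_of_epi (factorThruImageSubobject _) _
    haveI := isIso_of_mono_of_epi (imageSubobject (toTot Y n ((n - 0 + 1 : ℤ) :) ≫ (e n).hom)).arrow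
    exact Subobject.eq_top_of_isIso_arrow _
  · change imageSubobject (toTot Y n _ ≫ (e n).hom) = ⊥
    have : toTot Y n ((n - (n + 1) + 1 : ℤ) :) = 0 :=
      (Y.isZero₁_of_isFirstQuadrant _ _ _ (by simp) n).eq_of_src _ _
    simp only [this, zero_comp, imageSubobject_zero]
  · refine (Set.finite_Icc 0 n).subset fun p hp => ?_
    by_contra h
    simp only [Set.mem_Icc, not_and_or, not_le] at h
    exact hp (isZero_page Y p (n - p) 2 le_rfl (h.imp id (fun h => by omega)))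
  · exact ⟨Y.spectralSequenceFirstPageXIso coreE₂Cohomological (p, q) _ _ rfl rfl (p + q) rfl⟩

end Groth.Agent.H5SpObj
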