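import Mathlib

open CategoryTheory CategoryTheory.Limits CochainComplex CochainComplex.HomComplex

namespace Groth.Agent.H5SplitHtpy

universe v u

variable {C : Type u} [Category.{v} C] [Preadditive C] [HasBinaryBiproducts C]
  (S : ShortComplex (CochainComplex C ℤ))

theorem split_diff {A B D : C} {f : A ⟶ B} {g : B ⟶ D} {s s' : D ⟶ B} {r r' : B ⟶ A}
    (fr : f ≫ r = 𝟙 A) (h : r ≫ f + g ≫ s = 𝟙 B) (h' : r' ≫ f + g ≫ s' = 𝟙 B)
    (sg : s ≫ g = 𝟙 D) (sg' : s' ≫ g = 𝟙 D) :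
    s = s' + ((s - s') ≫ r') ≫ f ∧ r = r' - g ≫ (s - s') ≫ r' := by
  have e : s = s' + ((s - s') ≫ r') ≫ f := by
    rw [Category.assoc, eq_sub_of_add_eq h']
    simp [reassoc_of% sg, reassoc_of% sg']
  refine ⟨e, ?_⟩
  have : Mono f := mono_of_mono_fac fr
  rw [← cancel_mono f, eq_sub_of_add_eq h, Preadditive.sub_comp, eq_sub_of_add_eq h',
    Category.assoc]
  conv_lhs => rw [e]
  simp only [Category.assoc, Preadditive.comp_add]
  abel

theorem twist {A B D A' B' D' : C} {f : A ⟶ B} {g : B ⟶ D} {f' : A' ⟶ B'} {g' : B' ⟶ D'}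
    {dA : A ⟶ A'} {dB : B ⟶ B'} {dD : D ⟶ D'} {s : D ⟶ B} {r' : B' ⟶ A'}
    (k : D ⟶ A) (k' : D' ⟶ A')
    (c1 : f ≫ dB = dA ≫ f') (c2 : dB ≫ g' = g ≫ dD) (z : f ≫ g = 0)
    (fr : f' ≫ r' = 𝟙 A') (sg : s ≫ g = 𝟙 D) :
    (s + k ≫ f) ≫ dB ≫ (r' - g' ≫ k') = (k ≫ dA + (-(dD ≫ k'))) + s ≫ dB ≫ r' := by
  simp only [Preadditive.comp_sub, Preadditive.add_comp, Category.assoc, reassoc_of% c1,
    reassoc_of% c2, reassoc_of% z, fr, reassoc_of% sg, zero_comp, comp_zero, Category.comp_id,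
    sub_zero]
  abel

theorem homotopic (σ σ' : ∀ n : ℤ, (S.map (HomologicalComplex.eval C (ComplexShape.up ℤ) n)).Splitting) :
    Nonempty (Homotopy (homOfDegreewiseSplit S σ) (homOfDegreewiseSplit S σ')) := by
  let k : ∀ p : ℤ, S.X₃.X p ⟶ S.X₁.X p := fun p => ((σ p).s - (σ' p).s) ≫ (σ' p).r
  let K : Cochain S.X₃ S.X₁ 0 := Cochain.ofHoms k
  have hd := fun p => split_diff (f := S.f.f p) (g := S.g.f p) (σ p).f_r (σ p).id (σ' p).id
    (σ p).s_g (σ' p).s_g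
  have key : (cocycleOfDegreewiseSplit S σ).1 =
      δ 0 1 K + (cocycleOfDegreewiseSplit S σ').1 := by
    ext p q hpq
    obtain rfl : q = p + 1 := hpq.symm
    simp only [Cochain.add_v, δ_zero_cochain_v, K, Cochain.ofHoms_v]
    have t := twist (k p) (k (p+1)) (s := (σ' p).s) (r' := (σ' (p+1)).r)
      (S.f.comm p (p+1)) (S.g.comm p (p+1)).symm
      (S.map (HomologicalComplex.eval C (ComplexShape.up ℤ) p)).zero
      (σ' (p+1)).f_r (σ' p).s_g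
    refine (congrArg₂ (fun (a : S.X₃.X p ⟶ S.X₂.X p) (b : S.X₂.X (p+1) ⟶ S.X₁.X (p+1)) =>
      a ≫ S.X₂.d p (p+1) ≫ b) (hd p).1 (hd (p+1)).2).trans ?_
    exact t.trans (by simp [sub_eq_add_neg]; rfl)
  have e : ∀ τ, Cochain.ofHom (homOfDegreewiseSplit S τ) =
      (cocycleOfDegreewiseSplit S τ).1.rightShift 1 0 (zero_add 1) := by
    intro τ
    ext p
    simp only [Cochain.ofHom_v, homOfDegreewiseSplit_f]
    simp [Cochain.rightShift_v _ _ _ _ _ _ _ _ rfl]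
    exact (Category.comp_id _).symm
  refine ⟨(Cochain.equivHomotopy _ _).symm ⟨-(K.rightShift 1 (-1) (by lia)), ?_⟩⟩
  rw [e, e, δ_neg, Cochain.δ_rightShift K 1 (-1) 0 (by lia) 1 (by lia), key, Cochain.rightShift_add]
  simp

end Groth.Agent.H5SplitHtpy
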