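import Groth.Agent.Lib.H5TopCoh
import Groth.Agent.Lib.H5GrothSS
import Groth.Agent.Lib.H5HomExt
import Groth.Agent.Lib.H5LocExt
import Groth.Prelude.Def_LocCohZ
import Groth.Prelude.Def_SpSeq

universe u

namespace Groth.Agent.H5SuppSS
open CategoryTheory Limits Opposite TopologicalSpace
set_option maxHeartbeats 600000

variable {X : TopCat.{u}}

abbrev JX (X : TopCat.{u}) := Opens.grothendieckTopology X

/-- sections killed on the smaller open -/
noncomputable def zqHom {W V : Opens X} (h : W ≤ V) (F : CohTop.Ab X) :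
    (LocCohZ.zq h ⟶ F) →+ F.obj.obj (op V) :=
  AddMonoidHom.mk' (fun x => CohFree.evalGen (JX X) V F (cokernel.π _ ≫ x)) (fun x y => by
    rw [Preadditive.comp_add, map_add])

lemma zqHom_comp {W V : Opens X} (h : W ≤ V) {F G : CohTop.Ab X} (x : LocCohZ.zq h ⟶ F) (g : F ⟶ G) :
    zqHom h G (x ≫ g) = g.hom.app (op V) (zqHom h F x) := rfl

lemma zqHom_mem {W V : Opens X} (h : W ≤ V) {F : CohTop.Ab X} (x : LocCohZ.zq h ⟶ F) :
    zqHom h F x ∈ LocCohZ.sectZ F h := by
  change (F.obj.map (homOfLE h).op).hom (CohFree.evalGen (JX X) V F (cokernel.π _ ≫ x)) = 0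
  rw [← CohFree.evalGen_freeSheafMap_comp]
  erw [cokernel.condition_assoc, zero_comp, map_zero]

lemma free_ext {V : Opens X} {F : CohTop.Ab X} {a b : CohCx.freeSheaf (JX X) V ⟶ F}
    (h : CohFree.evalGen (JX X) V F a = CohFree.evalGen (JX X) V F b) : a = b := by
  rw [← CohFree.ofSect_evalGen (JX X) V F a, h, CohFree.ofSect_evalGen]

/-- as an equivalence -/
noncomputable def zqEquiv {W V : Opens X} (h : W ≤ V) (F : CohTop.Ab X) :
    (LocCohZ.zq h ⟶ F) ≃+ LocCohZ.sectZ F h :=
  AddEquiv.ofBijective (AddMonoidHom.mk' (fun x => ⟨zqHom h F x, zqHom_mem h x⟩) (fun x y => Subtype.ext (map_add (zqHom h F) x y)))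
    ⟨fun x y e => coequalizer.hom_ext (free_ext (congrArg Subtype.val e)),
     fun s => by
      have hc : CohCx.freeSheafMap (JX X) (homOfLE h) ≫ CohFree.ofSect (JX X) V F s.1 = 0 := free_ext (by
        rw [CohFree.evalGen_freeSheafMap_comp, CohFree.evalGen_ofSect, map_zero]
        exact s.2)
      refine ⟨cokernel.desc _ _ hc, Subtype.ext ?_⟩
      exact (congrArg (CohFree.evalGen (JX X) V F) (cokernel.π_desc _ _ hc)).trans (CohFree.evalGen_ofSect _ _ _ _)⟩

/-- direct images -/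
noncomputable def pushIso {Y : TopCat.{u}} (f : X ⟶ Y) (V : Opens Y) :
    CohTop.push f ⋙ preadditiveCoyoneda.obj (op (LocCohZ.zq (le_top : V ≤ ⊤))) ≅
      preadditiveCoyoneda.obj (op (LocCohZ.zq (le_top : (Opens.map f).obj V ≤ ⊤))) :=
  NatIso.ofComponents (fun G => ((zqEquiv (le_top : V ≤ ⊤) ((CohTop.push f).obj G)).trans
      ({ toFun := fun s => ⟨(s.1 : G.obj.obj (op ⊤)), s.2⟩
         invFun := fun s => ⟨(s.1 : G.obj.obj (op ((Opens.map f).obj ⊤))), s.2⟩
         left_inv := fun _ => rfl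
         right_inv := fun _ => rfl
         map_add' := fun _ _ => rfl } :
        LocCohZ.sectZ ((CohTop.push f).obj G) (le_top : V ≤ ⊤) ≃+
          LocCohZ.sectZ G (le_top : (Opens.map f).obj V ≤ ⊤))).trans
      (zqEquiv (le_top : (Opens.map f).obj V ≤ ⊤) G).symm |>.toAddCommGrpIso)
    (fun {G G'} g => by
      refine ConcreteCategory.hom_ext _ _ fun x => ?_
      apply (zqEquiv (le_top : (Opens.map f).obj V ≤ ⊤) G').injective
      refine ((zqEquiv _ G').apply_symm_apply _).trans (Subtype.ext ?_)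
      change zqHom (le_top : V ≤ ⊤) _ (x ≫ (CohTop.push f).map g) = zqHom (le_top : (Opens.map f).obj V ≤ ⊤) G' (_ ≫ g)
      refine Eq.trans ?_ (zqHom_comp _ _ g).symm
      refine (zqHom_comp _ x _).trans (congrArg (g.hom.app (op ⊤)) ?_)
      exact (congrArg Subtype.val ((zqEquiv (le_top : (Opens.map f).obj V ≤ ⊤) G).apply_symm_apply
        ⟨(zqHom (le_top : V ≤ ⊤) ((CohTop.push f).obj G) x : G.obj.obj (op ⊤)), zqHom_mem (le_top : V ≤ ⊤) x⟩)).symm)

theorem supportsLeray {Y : TopCat.{u}} (f : X ⟶ Y) (V : Opens Y) (F : CohTop.Ab X) :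
    ∃ (E : E₂CohomologicalSpectralSequence AddCommGrpCat.{u})
      (a : SpSeq.Abutment E (fun n : ℤ =>
        if 0 ≤ n then AddCommGrpCat.of (LocCohZ.HZc F n.toNat ((Opens.map f).obj V))
          else AddCommGrpCat.of PUnit.{u + 1})),
      (∀ n : ℤ, a.IsFinite n) ∧ SpSeq.IsBounded E ∧
      ∀ p q : ℤ, Nonempty ((E.page 2 le_rfl).X (p, q) ≅
        (if 0 ≤ p ∧ 0 ≤ q then AddCommGrpCat.of (LocCohZ.HZc ((CohTop.Rpush f q.toNat).obj F) p.toNat V)
          else AddCommGrpCat.of PUnit.{u + 1})) := by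
  let S := preadditiveCoyoneda.obj (op (LocCohZ.zq (le_top : V ≤ ⊤)))
  have : PreservesLimits S := preservesLimits_preadditiveCoyoneda_obj _
  have : PreservesFiniteLimits S := PreservesLimits.preservesFiniteLimits _
  obtain ⟨E, a, h1, h2, h3, h4⟩ := H5GrothSS.grothendieck (CohTop.push f) S
    (fun Q hQ q hq => by
      obtain ⟨m, rfl⟩ : ∃ m, q = m + 1 := ⟨q - 1, by omega⟩
      haveI := H5TopCoh.injective_push f Q
      exact S.isZero_rightDerived_obj_injective_succ m _) F
    (fun n : ℤ => if 0 ≤ n then AddCommGrpCat.of (LocCohZ.HZc F n.toNat ((Opens.map f).obj V))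
      else AddCommGrpCat.of PUnit.{u + 1})
    (fun n hn => by rw [if_neg (by omega)]; exact AddCommGrpCat.isZero_of_subsingleton _)
    (fun n => ⟨(H5HomExt.nonempty_rightDerived_iso_ext _ F (pushIso f V) n).some ≪≫
      eqToIso (by rw [if_pos (Int.natCast_nonneg n), Int.toNat_natCast])⟩)
  refine ⟨E, a, h1, h2, fun p q => ?_⟩
  by_cases h : 0 ≤ p ∧ 0 ≤ q
  · rw [if_pos h]
    obtain ⟨e₂⟩ := h4 p.toNat q.toNat
    rw [Int.toNat_of_nonneg h.1, Int.toNat_of_nonneg h.2] at e₂
    exact ⟨e₂ ≪≫ (H5HomExt.nonempty_rightDerived_iso_ext _ _ (Iso.refl S) p.toNat).some⟩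
  · rw [if_neg h]
    exact ⟨(h3 p q (by omega)).iso (AddCommGrpCat.isZero_of_subsingleton _)⟩

/-! ### sections with supports -/
section supp
variable (U : Opens X) (F : CohTop.Ab X)

/-- extensions of restrictions -/
noncomputable def jj : CohTop.Ab X := (CohTop.push (CohCx.incl U)).obj (CohTop.restr F U)

lemma image_le (V : Opens X) : U.isOpenEmbedding.isOpenMap.functor.obj ((Opens.map (CohCx.incl U)).obj V) ≤ V := by
  rintro _ ⟨z, hz, rfl⟩; exact hz

/-- restriction to `U` -/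
noncomputable def φ : F ⟶ jj U F :=
  ⟨{ app := fun V => F.obj.map (homOfLE (image_le U V.unop)).op
     naturality := fun V W a => by
      refine (F.obj.map_comp _ _).symm.trans ((congrArg F.obj.map (Subsingleton.elim _ _)).trans (F.obj.map_comp _ _)) }⟩

lemma φ_injective {W : Opens X} (hW : W ≤ U) : Function.Injective ((φ U F).hom.app (op W)) := by
  have hle : W ≤ U.isOpenEmbedding.isOpenMap.functor.obj ((Opens.map (CohCx.incl U)).obj W) :=
    fun x hx => ⟨⟨x, hW hx⟩, hx, rfl⟩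
  intro a b h
  have h' := congrArg (F.obj.map (homOfLE hle).op) h
  have e : F.obj.map (homOfLE (image_le U W)).op ≫ F.obj.map (homOfLE hle).op = 𝟙 _ :=
    (F.obj.map_comp _ _).symm.trans ((congrArg F.obj.map (Subsingleton.elim _ (𝟙 _))).trans (F.obj.map_id _))
  exact (ConcreteCategory.congr_hom e a).symm.trans (h'.trans (ConcreteCategory.congr_hom e b))

noncomputable abbrev η : F ⟶ (CohTop.push (CohCx.incl U)).obj ((CohTop.pull (CohCx.incl U)).obj F) :=
  (TopCat.Sheaf.pullbackPushforwardAdjunction AddCommGrpCat.{u} (CohCx.incl U)).unit.app F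

lemma η_injective {W : Opens X} (hW : W ≤ U) : Function.Injective ((η U F).hom.app (op W)) := by
  let adj := TopCat.Sheaf.pullbackPushforwardAdjunction AddCommGrpCat.{u} (CohCx.incl U)
  let ψ := (adj.homEquiv F (CohTop.restr F U)).symm (φ U F)
  have h : η U F ≫ (CohTop.push (CohCx.incl U)).map ψ = φ U F :=
    (adj.homEquiv_unit F (CohTop.restr F U) ψ).symm.trans (Equiv.apply_symm_apply _ _)
  intro a b e
  refine φ_injective U F hW ?_
  have hh := fun s => ConcreteCategory.congr_hom (congr_app (congrArg (fun t => InducedCategory.Hom.hom t) h) (op W)) s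
  exact (hh a).symm.trans ((congrArg (((CohTop.push (CohCx.incl U)).map ψ).hom.app (op W)) e).trans (hh b))

theorem η_eq_zero_iff {V : Opens X} (s : F.obj.obj (op V)) :
    (η U F).hom.app (op V) s = 0 ↔ F.obj.map (homOfLE (inf_le_left : V ⊓ U ≤ V)).op s = 0 := by
  have hn := NatTrans.naturality_apply (η U F).hom (homOfLE (inf_le_left : V ⊓ U ≤ V)).op s
  constructor
  · intro h
    apply η_injective U F inf_le_right
    refine hn.trans (Eq.trans ?_ (map_zero ((η U F).hom.app (op (V ⊓ U))).hom).symm)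
    rw [h, map_zero]
  · intro h
    have h0 := ((congrArg ((η U F).hom.app (op (V ⊓ U))) h).trans (map_zero _)).symm.trans hn
    let G := (CohTop.pull (CohCx.incl U)).obj F
    have hle : (Opens.map (CohCx.incl U)).obj V ≤ (Opens.map (CohCx.incl U)).obj (V ⊓ U) := fun x hx => ⟨hx, x.2⟩
    have e : G.obj.map ((Opens.map (CohCx.incl U)).map (homOfLE (inf_le_left : V ⊓ U ≤ V))).op ≫ G.obj.map (homOfLE hle).op = 𝟙 _ :=
      (G.obj.map_comp _ _).symm.trans ((congrArg G.obj.map (Subsingleton.elim _ (𝟙 _))).trans (G.obj.map_id _))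
    exact (ConcreteCategory.congr_hom e _).symm.trans ((congrArg (G.obj.map (homOfLE hle).op) h0.symm).trans (map_zero _))

lemma ι_injective (V : Opens X) : Function.Injective ((kernel.ι (η U F)).hom.app (op V)) := by
  let E := sheafToPresheaf (JX X) AddCommGrpCat.{u} ⋙ (evaluation (Opens X)ᵒᵖ AddCommGrpCat.{u}).obj (op V)
  exact (AddCommGrpCat.mono_iff_injective _).1 (inferInstanceAs (Mono (E.map (kernel.ι (η U F)))))

lemma mem_image_iff {V : Opens X} (a : F.obj.obj (op V)) :
    (∃ s, (kernel.ι (η U F)).hom.app (op V) s = a) ↔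
      F.obj.map (homOfLE (inf_le_left : V ⊓ U ≤ V)).op a = 0 := by
  rw [← η_eq_zero_iff]
  constructor
  · rintro ⟨s, rfl⟩
    exact ConcreteCategory.congr_hom (congr_app (congrArg (fun t => InducedCategory.Hom.hom t) (kernel.condition (η U F))) (op V)) s
  · intro h
    let E := sheafToPresheaf (JX X) AddCommGrpCat.{u} ⋙ (evaluation (Opens X)ᵒᵖ AddCommGrpCat.{u}).obj (op V)
    let T := ShortComplex.mk (kernel.ι (η U F)) (η U F) (kernel.condition _)
    have hT : T.Exact := ShortComplex.exact_of_f_is_kernel _ (kernelIsKernel _)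
    have hT' := hT.map_of_mono_of_preservesKernel E (inferInstanceAs (Mono (kernel.ι (η U F)))) inferInstance
    exact (ShortComplex.ab_exact_iff _).1 hT' a h

theorem flasque_sectSupp (Q : CohTop.Ab X) [Injective Q] : TopCat.Sheaf.IsFlasque ((LocCohZ.sectSuppF U).obj Q) := by
  refine ⟨fun {V W} i => ?_⟩
  rw [AddCommGrpCat.epi_iff_surjective]
  intro s
  let a : Q.obj.obj W := (kernel.ι (η U Q)).hom.app W s
  have ha : Q.obj.map (homOfLE (inf_le_left : W.unop ⊓ U ≤ W.unop)).op a = 0 := (mem_image_iff U Q a).1 ⟨s, rfl⟩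
  let T : ULift.{u} Bool → Opens X := fun b => cond b.down W.unop (V.unop ⊓ U)
  let sf : ∀ b, Q.obj.obj (op (T b)) := fun b => match b with
    | ⟨true⟩ => a
    | ⟨false⟩ => 0
  have hWV : W.unop ≤ V.unop := i.unop.le
  have hc : TopCat.Presheaf.IsCompatible Q.obj T sf := by
    rintro ⟨_ | _⟩ ⟨_ | _⟩
    · exact congrArg (fun t => Q.obj.map t (0 : Q.obj.obj (op (V.unop ⊓ U)))) (Subsingleton.elim _ _)
    · refine (map_zero _).trans ?_
      have hle : (V.unop ⊓ U) ⊓ W.unop ≤ W.unop ⊓ U := le_inf inf_le_right (inf_le_left.trans inf_le_right)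
      refine Eq.trans ?_ (congrArg (fun t => Q.obj.map t a) (Subsingleton.elim ((homOfLE (inf_le_left : W.unop ⊓ U ≤ W.unop)).op ≫ (homOfLE hle).op) _))
      rw [Functor.map_comp, ConcreteCategory.comp_apply, ha, map_zero]
    · refine Eq.trans ?_ (map_zero _).symm
      have hle : W.unop ⊓ (V.unop ⊓ U) ≤ W.unop ⊓ U := le_inf inf_le_left (inf_le_right.trans inf_le_right)
      refine (congrArg (fun t => Q.obj.map t a) (Subsingleton.elim _ ((homOfLE (inf_le_left : W.unop ⊓ U ≤ W.unop)).op ≫ (homOfLE hle).op))).trans ?_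
      rw [Functor.map_comp, ConcreteCategory.comp_apply, ha, map_zero]
    · exact congrArg (fun t => Q.obj.map t a) (Subsingleton.elim _ _)
  let V' := iSup T
  have hV' : V' ≤ V.unop := iSup_le fun b => by rcases b with ⟨_ | _⟩; exacts [inf_le_left, hWV]
  obtain ⟨t, ht, -⟩ := TopCat.Sheaf.existsUnique_gluing' Q T V' (fun b => homOfLE (le_iSup T b)) le_rfl sf hc
  obtain ⟨b, hb⟩ := (AddCommGrpCat.epi_iff_surjective _).1 ((H5TopCoh.flasque_injective Q).epi (homOfLE hV').op) t
  have hb0 : Q.obj.map (homOfLE (inf_le_left : V.unop ⊓ U ≤ V.unop)).op b = 0 := by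
    refine (congrArg (fun m => Q.obj.map m b) (Subsingleton.elim _ ((homOfLE hV').op ≫ (homOfLE (le_iSup T ⟨false⟩)).op))).trans ?_
    rw [Functor.map_comp, ConcreteCategory.comp_apply, hb]
    exact ht ⟨false⟩
  obtain ⟨r, hr⟩ := (mem_image_iff U Q b).2 hb0
  refine ⟨r, ι_injective U Q W.unop ?_⟩
  refine (NatTrans.naturality_apply (kernel.ι (η U Q)).hom i r).trans ?_
  rw [hr]
  refine (congrArg (fun m => Q.obj.map m b) (Subsingleton.elim _ ((homOfLE hV').op ≫ (homOfLE (le_iSup T ⟨true⟩)).op))).trans ?_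
  rw [Functor.map_comp, ConcreteCategory.comp_apply, hb]
  exact ht ⟨true⟩

/-- global sections with supports -/
noncomputable def suppHom (x : CohCx.freeSheaf (JX X) ⊤ ⟶ (LocCohZ.sectSuppF U).obj F) :
    LocCohZ.zq (le_top : U ≤ ⊤) ⟶ F :=
  cokernel.desc _ (x ≫ kernel.ι (η U F)) (free_ext (by
    rw [CohFree.evalGen_freeSheafMap_comp, map_zero]
    have h := (mem_image_iff U F (CohFree.evalGen (JX X) ⊤ F (x ≫ kernel.ι (η U F)))).1 ⟨CohFree.evalGen (JX X) ⊤ _ x, rfl⟩
    have h' := (congrArg (F.obj.map (homOfLE (le_inf le_top le_rfl : U ≤ ⊤ ⊓ U)).op) h).trans (map_zero _)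
    rw [← ConcreteCategory.comp_apply, ← Functor.map_comp] at h'
    exact h'))

lemma suppHom_bijective : Function.Bijective (suppHom U F) := by
  constructor
  · intro x y e
    have e' := congrArg (fun t => cokernel.π _ ≫ t) e
    simp only [suppHom, cokernel.π_desc] at e'
    have hm : Mono (kernel.ι (η U F)) := equalizer.ι_mono
    exact hm.right_cancellation x y e'
  · intro ψ
    let s := cokernel.π _ ≫ ψ
    have hs : s ≫ η U F = 0 := free_ext (by
      rw [map_zero]
      refine (η_eq_zero_iff U F (CohFree.evalGen (JX X) ⊤ F s)).2 ?_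
      have h0 : (F.obj.map (homOfLE (le_top : U ≤ ⊤)).op).hom (CohFree.evalGen (JX X) ⊤ F s) = 0 := zqHom_mem _ ψ
      refine (congrArg (fun m => F.obj.map m (CohFree.evalGen (JX X) ⊤ F s))
        (Subsingleton.elim _ ((homOfLE (le_top : U ≤ ⊤)).op ≫ (homOfLE (inf_le_right : ⊤ ⊓ U ≤ U)).op))).trans ?_
      rw [Functor.map_comp, ConcreteCategory.comp_apply]
      exact (congrArg _ h0).trans (map_zero _))
    exact ⟨kernel.lift _ s hs, coequalizer.hom_ext ((cokernel.π_desc _ _ _).trans (kernel.lift_ι _ _ _))⟩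

/-- as functors -/
noncomputable def suppIso :
    LocCohZ.sectSuppF U ⋙ preadditiveCoyoneda.obj (op (CohCx.freeSheaf (JX X) ⊤)) ≅
      preadditiveCoyoneda.obj (op (LocCohZ.zq (le_top : U ≤ ⊤))) :=
  NatIso.ofComponents (fun F => (AddEquiv.ofBijective (AddMonoidHom.mk' (suppHom U F) (fun a b => by
      apply coequalizer.hom_ext
      simp [suppHom])) (suppHom_bijective U F)).toAddCommGrpIso) (fun {F F'} g => by
    refine ConcreteCategory.hom_ext _ _ fun x => ?_
    apply coequalizer.hom_ext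
    refine (cokernel.π_desc _ _ _).trans ?_
    refine Eq.trans ?_ ((congrArg (fun t => t ≫ g) (cokernel.π_desc _ _ _).symm).trans (Category.assoc _ _ _))
    refine (Category.assoc _ _ _).trans (Eq.trans ?_ (Category.assoc _ _ _).symm)
    exact congrArg (fun t => x ≫ t) (kernel.lift_ι _ _ _))

theorem supportsSS :
    ∃ (E : E₂CohomologicalSpectralSequence AddCommGrpCat.{u})
      (a : SpSeq.Abutment E (fun n : ℤ =>
        if 0 ≤ n then AddCommGrpCat.of (LocCohZ.HZc F n.toNat U) else AddCommGrpCat.of PUnit.{u + 1})),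
      (∀ n : ℤ, a.IsFinite n) ∧ SpSeq.IsBounded E ∧
      ∀ p q : ℤ, Nonempty ((E.page 2 le_rfl).X (p, q) ≅
        (if 0 ≤ p ∧ 0 ≤ q then AddCommGrpCat.of (CohTop.HU ((LocCohZ.HZsh U q.toNat).obj F) p.toNat ⊤)
          else AddCommGrpCat.of PUnit.{u + 1})) := by
  let Z := CohCx.freeSheaf (JX X) ⊤
  let S := preadditiveCoyoneda.obj (op Z)
  have : PreservesLimits S := preservesLimits_preadditiveCoyoneda_obj _
  have : PreservesFiniteLimits S := PreservesLimits.preservesFiniteLimits _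
  obtain ⟨E, a, h1, h2, h3, h4⟩ := H5GrothSS.grothendieck (LocCohZ.sectSuppF U) S
    (fun Q hQ q hq => by
      obtain ⟨m, rfl⟩ : ∃ m, q = m + 1 := ⟨q - 1, by omega⟩
      exact (@AddCommGrpCat.isZero_of_subsingleton _
        (H5TopCoh.flasque_acyclic _ (flasque_sectSupp U Q) ⊤ m)).of_iso
        (H5HomExt.nonempty_rightDerived_iso_ext Z _ (Iso.refl S) (m + 1)).some) F
    (fun n : ℤ => if 0 ≤ n then AddCommGrpCat.of (LocCohZ.HZc F n.toNat U) else AddCommGrpCat.of PUnit.{u + 1})
    (fun n hn => by rw [if_neg (by omega)]; exact AddCommGrpCat.isZero_of_subsingleton _)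
    (fun n => ⟨(H5HomExt.nonempty_rightDerived_iso_ext _ F (suppIso U) n).some ≪≫
      eqToIso (by rw [if_pos (Int.natCast_nonneg n), Int.toNat_natCast])⟩)
  refine ⟨E, a, h1, h2, fun p q => ?_⟩
  by_cases h : 0 ≤ p ∧ 0 ≤ q
  · rw [if_pos h]
    obtain ⟨e₂⟩ := h4 p.toNat q.toNat
    rw [Int.toNat_of_nonneg h.1, Int.toNat_of_nonneg h.2] at e₂
    exact ⟨e₂ ≪≫ (H5HomExt.nonempty_rightDerived_iso_ext _ _ (Iso.refl S) p.toNat).some⟩
  · rw [if_neg h]
    exact ⟨(h3 p q (by omega)).iso (AddCommGrpCat.isZero_of_subsingleton _)⟩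

end supp
end Groth.Agent.H5SuppSS
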