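import Groth.Prelude.Def_KZero2
import Mathlib.CategoryTheory.Limits.Preserves.Shapes.Products
universe v u
namespace Groth.Agent.H5Swindle
open CategoryTheory CategoryTheory.Limits CategoryTheory.Pretriangulated KZero
open scoped ZeroObject

variable {C : Type u} [Category.{v} C] [Preadditive C] [HasZeroObject C]
    [HasShift C ℤ] [∀ n : ℤ, (shiftFunctor C n).Additive] [Pretriangulated C]

lemma cl_tri (T : Triangle C) (hT : T ∈ distinguishedTriangles) :
    clTri T.obj₂ = clTri T.obj₁ + clTri T.obj₃ := by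
  have h : (FreeAbelianGroup.of (⟨T.obj₂, trivial⟩ : Subtype (⊤ : ObjectProperty C)) -
      FreeAbelianGroup.of ⟨T.obj₁, trivial⟩ - FreeAbelianGroup.of ⟨T.obj₃, trivial⟩) ∈ relTr (⊤ : ObjectProperty C) :=
    AddSubgroup.subset_closure ⟨T, trivial, trivial, trivial, hT, rfl⟩
  have h' := (QuotientAddGroup.eq_zero_iff _).2 h
  rw [QuotientAddGroup.mk_sub, QuotientAddGroup.mk_sub, sub_sub, sub_eq_zero] at h'
  exact h'

lemma cl_zero {Z : C} (hZ : IsZero Z) : clTri Z = 0 := by
  have h := cl_tri _ (contractible_distinguished Z)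
  simp only [contractibleTriangle_obj₁, contractibleTriangle_obj₂, contractibleTriangle_obj₃] at h
  have hz : clTri (0 : C) = 0 := by
    have h0 := cl_tri _ (contractible_distinguished (0 : C))
    simpa using h0
  obtain e : Z ≅ 0 := hZ.iso (isZero_zero C)
  have h2 := cl_tri (Triangle.mk e.hom (0 : (0 : C) ⟶ 0) 0)
    (isomorphic_distinguished _ (contractible_distinguished Z) _
      (Triangle.isoMk _ _ (Iso.refl _) e.symm (Iso.refl _) (e.hom_inv_id.trans (Category.id_comp _).symm) ((isZero_zero C).eq_of_tgt _ _) ((isZero_zero C).eq_of_src _ _)))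
  simpa [hz] using h2.symm

lemma cl_iso {X Y : C} (e : X ≅ Y) : clTri X = clTri Y := by
  have h := cl_tri (Triangle.mk e.hom (0 : Y ⟶ 0) 0)
    (isomorphic_distinguished _ (contractible_distinguished X) _
      (Triangle.isoMk _ _ (Iso.refl _) e.symm (Iso.refl _) (e.hom_inv_id.trans (Category.id_comp _).symm) ((isZero_zero C).eq_of_tgt _ _) ((isZero_zero C).eq_of_src _ _)))
  simpa [cl_zero (isZero_zero C)] using h.symm

lemma cl_shift_one (X : C) : clTri (X⟦(1 : ℤ)⟧) = - clTri X := by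
  have h := cl_tri _ (rot_of_distTriang _ (contractible_distinguished X))
  simp [cl_zero (isZero_zero C)] at h
  exact eq_neg_of_add_eq_zero_right h.symm

lemma cl_shift (X : C) (n : ℤ) : clTri (X⟦n⟧) = (n.negOnePow : ℤ) • clTri X := by
  induction n using Int.induction_on with
  | zero => simpa using cl_iso ((shiftFunctorZero C ℤ).app X)
  | succ k ih =>
    rw [cl_iso ((shiftFunctorAdd' C (k : ℤ) 1 (k + 1) rfl).app X)]
    show clTri ((X⟦(k : ℤ)⟧)⟦(1 : ℤ)⟧) = _
    rw [cl_shift_one, ih, Int.negOnePow_succ]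
    simp
  | pred k ih =>
    have h : clTri (X⟦(-(k : ℤ))⟧) = - clTri (X⟦(-(k : ℤ) - 1)⟧) := by
      rw [cl_iso ((shiftFunctorAdd' C (-(k : ℤ) - 1) 1 (-(k : ℤ)) (by abel)).app X)]
      exact cl_shift_one _
    rw [ih] at h
    rw [← neg_neg (clTri (X⟦(-(k : ℤ) - 1)⟧)), ← h, Int.negOnePow_sub, Int.negOnePow_one]
    simp

lemma cl_biprod (A B : C) : clTri (A ⊞ B) = clTri A + clTri B :=
  cl_tri _ (binaryBiproductTriangle_distinguished A B)

theorem swindle (L : C) (n : ℤ) [HasCoproduct (fun i : ℕ => (shiftFunctor C (2 * n * (i : ℤ))).obj L)] :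
    clTri L = 0 := by
  let f := fun i : ℕ => (shiftFunctor C (2 * n * (i : ℤ))).obj L
  let M := ∐ f
  let e0 : L ≅ f 0 := ((shiftFunctorZero' C (2 * n * ((0 : ℕ) : ℤ)) (by simp)).app L).symm
  let ι' : ∀ i : ℕ, (f i)⟦2 * n⟧ ≅ f (i + 1) := fun i =>
    ((shiftFunctorAdd' C (2 * n * (i : ℤ)) (2 * n) (2 * n * ((i + 1 : ℕ) : ℤ)) (by rw [Nat.cast_succ, mul_add, mul_one])).app L).symm
  -- structure maps
  have hs : IsColimit (Cofan.mk (M⟦2 * n⟧) (fun i => (Sigma.ι f i)⟦2 * n⟧')) :=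
    (isColimitMapCoconeCofanMkEquiv (shiftFunctor C (2 * n)) f (Sigma.ι f))
      (isColimitOfPreserves (shiftFunctor C (2 * n)) (coproductIsCoproduct f))
  let a : L ⟶ M := e0.hom ≫ Sigma.ι f 0
  let b : M⟦2 * n⟧ ⟶ M := Cofan.IsColimit.desc hs (fun i => (ι' i).hom ≫ Sigma.ι f (i + 1))
  let back : M ⟶ L ⊞ M⟦2 * n⟧ := Sigma.desc (fun i => match i with
    | 0 => e0.inv ≫ biprod.inl
    | (k + 1) => (ι' k).inv ≫ (Sigma.ι f k)⟦2 * n⟧' ≫ biprod.inr)
  have hb : ∀ i, (Sigma.ι f i)⟦2 * n⟧' ≫ b = (ι' i).hom ≫ Sigma.ι f (i + 1) := fun i =>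
    Cofan.IsColimit.fac hs _ i
  have e : M ≅ L ⊞ M⟦2 * n⟧ :=
    { hom := back
      inv := biprod.desc a b
      hom_inv_id := by
        refine Sigma.hom_ext _ _ fun i => ?_
        rcases i with _ | k <;> simp [back, a, hb] <;> exact (Category.comp_id _).symm
      inv_hom_id := by
        apply biprod.hom_ext'
        · simp [back, a]
        · simp only [biprod.inr_desc_assoc, Category.comp_id]
          refine Cofan.IsColimit.hom_ext hs _ _ fun i => ?_
          show (Sigma.ι f i)⟦2 * n⟧' ≫ b ≫ back = (Sigma.ι f i)⟦2 * n⟧' ≫ biprod.inr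
          rw [reassoc_of% (hb i)]
          simp [back] }
  have h := cl_iso e
  rw [cl_biprod, cl_shift, show ((2 * n).negOnePow : ℤ) = 1 by rw [Int.negOnePow_two_mul]; rfl, one_smul] at h
  exact add_eq_right.1 h.symm

end Groth.Agent.H5Swindle
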