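import Mathlib

universe v v' v'' u u' u''

namespace Groth.Agent.H5TenCx
open CategoryTheory Limits Category HomologicalComplex
open scoped ZeroObject

variable {A : Type u} [Category.{v} A] [Abelian A] {B : Type u'} [Category.{v'} B] [Abelian B]
  {D : Type u''} [Category.{v''} D] [Abelian D]

abbrev Cx (C : Type*) [Category C] [Preadditive C] := CochainComplex C ℤ

/-- functor on complexes behaving like tensoring with a fixed complex -/
structure Good (Φ : Cx A ⥤ Cx D) : Prop where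
  hom : ∀ {K L : Cx A} (f g : K ⟶ L), Nonempty (Homotopy f g) → Nonempty (Homotopy (Φ.map f) (Φ.map g))
  add : Φ.Additive
  split : ∀ (S : ShortComplex (Cx A)), (∀ n, Nonempty (S.map (eval A _ n)).Splitting) →
    ∀ (h : Φ.map S.f ≫ Φ.map S.g = 0),
      (ShortComplex.mk (Φ.map S.f) (Φ.map S.g) h).ShortExact

lemma splitting_shortExact (S : ShortComplex (Cx A)) (σ : ∀ n, Nonempty (S.map (eval A _ n)).Splitting) :
    S.ShortExact :=
  shortExact_of_degreewise_shortExact _ fun n => (σ n).some.shortExact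

lemma acyclic_of_homotopy_id {K : Cx A} (h : Homotopy (𝟙 K) 0) : K.Acyclic := fun n => by
  rw [exactAt_iff_isZero_homology, IsZero.iff_id_eq_zero, ← homologyMap_id, h.homologyMap_eq n,
    homologyMap_zero]

/-- the cone of the identity is contractible -/
noncomputable def coneIdHomotopy (K : Cx A) :
    Homotopy (𝟙 (CochainComplex.mappingCone (𝟙 K))) 0 :=
  CochainComplex.mappingCone.homotopyToZeroOfId K

lemma Good.quasiIso_map {Φ : Cx A ⥤ Cx D} (hΦ : Good Φ)
    {L₁ L₂ : Cx A} (f : L₁ ⟶ L₂) [QuasiIso f]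
    (hac : ∀ K : Cx A, K.Acyclic → (Φ.obj K).Acyclic) : QuasiIso (Φ.map f) := by
  have := hΦ.add
  let M := CochainComplex.mappingCone (𝟙 L₁)
  let i : L₁ ⟶ L₂ ⊞ M := biprod.lift f (CochainComplex.mappingCone.inr (𝟙 L₁))
  let S := ShortComplex.mk i (cokernel.π i) (cokernel.condition i)
  have σ : ∀ n, Nonempty (S.map (eval A _ n)).Splitting := fun n => by
    let r : (L₂ ⊞ M).X n ⟶ L₁.X n :=
      (biprod.snd : L₂ ⊞ M ⟶ M).f n ≫ (CochainComplex.mappingCone.snd (𝟙 L₁)).v n n (add_zero n)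
    have hr : (S.map (eval A _ n)).f ≫ r = 𝟙 _ := by
      show i.f n ≫ (biprod.snd : L₂ ⊞ M ⟶ M).f n ≫ _ = _
      rw [← comp_f_assoc, biprod.lift_snd, CochainComplex.mappingCone.inr_f_snd_v]
      rfl
    have : Epi (S.map (eval A _ n)).g := inferInstanceAs (Epi ((eval A _ n).map (cokernel.π i)))
    exact ⟨ShortComplex.Splitting.ofExactOfRetraction _
      ((ShortComplex.exact_of_g_is_cokernel _ (cokernelIsCokernel i)).map (eval A _ n)) r hr this⟩
  have hS := splitting_shortExact S σ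
  have hp : QuasiIso (biprod.fst : L₂ ⊞ M ⟶ L₂) :=
    let e : HomotopyEquiv (L₂ ⊞ M) L₂ :=
      { hom := biprod.fst, inv := biprod.inl
        homotopyHomInvId := by
          refine (Homotopy.ofEq ?_).trans ((Homotopy.add (Homotopy.refl
            (biprod.fst ≫ biprod.inl)) (((coneIdHomotopy L₁).symm.compLeft
              (biprod.snd : L₂ ⊞ M ⟶ M)).compRight biprod.inr)).trans
              (Homotopy.ofEq (by rw [comp_id]; exact biprod.total)))
          simp
          rfl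
        homotopyInvHomId := Homotopy.ofEq biprod.inl_fst }
    homotopyEquivalences_le_quasiIso _ _ _ ⟨e, rfl⟩
  have hi : i ≫ biprod.fst = f := biprod.lift_fst _ _
  have : QuasiIso (i ≫ biprod.fst) := hi.symm ▸ ‹QuasiIso f›
  have hqi : QuasiIso i := quasiIso_of_comp_right i biprod.fst
  have hC : (cokernel i).Acyclic := hS.acyclic_X₃ hqi
  have w : Φ.map S.f ≫ Φ.map S.g = 0 := by rw [← Φ.map_comp, S.zero, Φ.map_zero]
  have hS' := hΦ.split S σ w
  have h1 : QuasiIso (Φ.map i) := by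
    rw [quasiIso_iff]
    intro n
    rw [quasiIsoAt_iff_isIso_homologyMap]
    have h2 := hac _ hC
    have : Epi (homologyMap (Φ.map i) n) :=
      (hS'.homology_exact₂ n).epi_f ((h2 n).isZero_homology.eq_of_tgt _ _)
    have : Mono (homologyMap (Φ.map i) n) :=
      (hS'.homology_exact₁ (n - 1) n (by simp)).mono_g ((h2 (n-1)).isZero_homology.eq_of_src _ _)
    exact isIso_of_mono_of_epi _
  have h2 : QuasiIso (Φ.map (biprod.fst : L₂ ⊞ M ⟶ L₂)) := by
    obtain ⟨h⟩ := hΦ.hom _ _ ⟨(coneIdHomotopy L₁)⟩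
    let e : HomotopyEquiv (Φ.obj (L₂ ⊞ M)) (Φ.obj L₂) :=
      { hom := Φ.map biprod.fst, inv := Φ.map biprod.inl
        homotopyHomInvId := by
          refine (Homotopy.ofEq ?_).trans ((Homotopy.add (Homotopy.refl
            (Φ.map (biprod.fst : L₂ ⊞ M ⟶ L₂) ≫ Φ.map biprod.inl)) ((h.symm.compLeft
              (Φ.map (biprod.snd : L₂ ⊞ M ⟶ M))).compRight (Φ.map biprod.inr))).trans
              (Homotopy.ofEq ?_))
          · simp
            rfl
          · simp only [← Φ.map_comp, ← Φ.map_add, comp_id]; rw [biprod.total, Φ.map_id]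
        homotopyInvHomId := Homotopy.ofEq (by rw [← Φ.map_comp, biprod.inl_fst, Φ.map_id]) }
    exact homotopyEquivalences_le_quasiIso _ _ _ ⟨e, rfl⟩
  rw [← hi, Φ.map_comp]
  infer_instance

section bifunctor

variable (F : A ⥤ B ⥤ D) [F.Additive] [∀ X, (F.obj X).Additive] [HasCountableCoproducts D]

noncomputable abbrev T₁ [∀ (K₁ : Cx A) (K₂ : Cx B), HasMapBifunctor K₁ K₂ F (.up ℤ)] (K : Cx B) : Cx A ⥤ Cx D :=
  F.map₂CochainComplex.flip.obj K

noncomputable abbrev T₂ [∀ (K₁ : Cx A) (K₂ : Cx B), HasMapBifunctor K₁ K₂ F (.up ℤ)] (K : Cx A) : Cx B ⥤ Cx D :=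
  F.map₂CochainComplex.obj K

variable [∀ (K₁ : Cx A) (K₂ : Cx B), HasMapBifunctor K₁ K₂ F (.up ℤ)]

instance (K : Cx B) : (T₁ F K).Additive where
  map_add {L L' f g} := by
    refine hom_ext _ _ fun n => mapBifunctor.hom_ext fun p q h => ?_
    dsimp [T₁]
    erw [ι_mapBifunctorMap, Preadditive.comp_add, ι_mapBifunctorMap, ι_mapBifunctorMap]
    simp
    rfl

instance (K : Cx A) : (T₂ F K).Additive where
  map_add {L L' f g} := by
    refine hom_ext _ _ fun n => mapBifunctor.hom_ext fun p q h => ?_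
    dsimp [T₂]
    erw [ι_mapBifunctorMap, Preadditive.comp_add, ι_mapBifunctorMap, ι_mapBifunctorMap]
    simp
    rfl

omit [HasCountableCoproducts D] in
@[reassoc (attr := simp)]
lemma ι_map₁ {X Y : Cx A} (φ : X ⟶ Y) (K : Cx B) (p q n : ℤ)
    (h : ComplexShape.π (.up ℤ) (.up ℤ) (.up ℤ) (p, q) = n) :
    ιMapBifunctor X K F (.up ℤ) p q n h ≫ (mapBifunctorMap φ (𝟙 K) F (.up ℤ)).f n =
      (F.map (φ.f p)).app (K.X q) ≫ ιMapBifunctor Y K F (.up ℤ) p q n h := by
  simp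

omit [HasCountableCoproducts D] in
@[reassoc (attr := simp)]
lemma ι_map₂ {X Y : Cx B} (φ : X ⟶ Y) (K : Cx A) (p q n : ℤ)
    (h : ComplexShape.π (.up ℤ) (.up ℤ) (.up ℤ) (p, q) = n) :
    ιMapBifunctor K X F (.up ℤ) p q n h ≫ (mapBifunctorMap (𝟙 K) φ F (.up ℤ)).f n =
      (F.obj (K.X p)).map (φ.f q) ≫ ιMapBifunctor K Y F (.up ℤ) p q n h := by
  simp

lemma good₁ (K : Cx B) : Good (T₁ F K) where
  hom f g := fun ⟨h⟩ => ⟨mapBifunctorMapHomotopy₁ h (𝟙 K) F _⟩
  add := inferInstance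
  split S σ h := by
    refine splitting_shortExact _ fun n => ?_
    let r : ∀ p, S.X₂.X p ⟶ S.X₁.X p := fun p => (σ p).some.r
    let s : ∀ p, S.X₃.X p ⟶ S.X₂.X p := fun p => (σ p).some.s
    have e1 : ∀ p, S.f.f p ≫ r p = 𝟙 _ := fun p => (σ p).some.f_r
    have e2 : ∀ p, s p ≫ S.g.f p = 𝟙 _ := fun p => (σ p).some.s_g
    have e3 : ∀ p, r p ≫ S.f.f p + S.g.f p ≫ s p = 𝟙 _ := fun p => (σ p).some.id
    let r' : (mapBifunctor S.X₂ K F (.up ℤ)).X n ⟶ (mapBifunctor S.X₁ K F (.up ℤ)).X n :=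
      mapBifunctorDesc fun p q h => (F.map (r p)).app (K.X q) ≫ ιMapBifunctor S.X₁ K F _ p q n h
    let s' : (mapBifunctor S.X₃ K F (.up ℤ)).X n ⟶ (mapBifunctor S.X₂ K F (.up ℤ)).X n :=
      mapBifunctorDesc fun p q h => (F.map (s p)).app (K.X q) ≫ ιMapBifunctor S.X₂ K F _ p q n h
    have f1 : (mapBifunctorMap S.f (𝟙 K) F _).f n ≫ r' = 𝟙 _ := mapBifunctor.hom_ext fun p q h => by
      rw [comp_id, ι_map₁_assoc, ι_mapBifunctorDesc, ← assoc, ← NatTrans.comp_app, ← F.map_comp, e1, F.map_id, NatTrans.id_app, id_comp]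
    have f2 : s' ≫ (mapBifunctorMap S.g (𝟙 K) F _).f n = 𝟙 _ := mapBifunctor.hom_ext fun p q h => by
      rw [comp_id, ι_mapBifunctorDesc_assoc, assoc, ι_map₁, ← assoc, ← NatTrans.comp_app, ← F.map_comp, e2, F.map_id, NatTrans.id_app, id_comp]
    have f3 : r' ≫ (mapBifunctorMap S.f (𝟙 K) F _).f n + (mapBifunctorMap S.g (𝟙 K) F _).f n ≫ s' = 𝟙 _ :=
      mapBifunctor.hom_ext fun p q h => by
        rw [Preadditive.comp_add, comp_id, ι_mapBifunctorDesc_assoc, assoc, ι_map₁, ι_map₁_assoc,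
          ι_mapBifunctorDesc, ← assoc, ← assoc, ← NatTrans.comp_app, ← NatTrans.comp_app, ← F.map_comp, ← F.map_comp, ← Preadditive.add_comp, ← NatTrans.app_add, ← F.map_add, e3, F.map_id, NatTrans.id_app,
          id_comp]
    exact ⟨{ r := r', s := s', f_r := f1, s_g := f2, id := f3 }⟩

lemma good₂ (K : Cx A) : Good (T₂ F K) where
  hom f g := fun ⟨h⟩ => ⟨mapBifunctorMapHomotopy₂ (𝟙 K) h F _⟩
  add := inferInstance
  split S σ h := by
    refine splitting_shortExact _ fun n => ?_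
    let r : ∀ p, S.X₂.X p ⟶ S.X₁.X p := fun p => (σ p).some.r
    let s : ∀ p, S.X₃.X p ⟶ S.X₂.X p := fun p => (σ p).some.s
    have e1 : ∀ p, S.f.f p ≫ r p = 𝟙 _ := fun p => (σ p).some.f_r
    have e2 : ∀ p, s p ≫ S.g.f p = 𝟙 _ := fun p => (σ p).some.s_g
    have e3 : ∀ p, r p ≫ S.f.f p + S.g.f p ≫ s p = 𝟙 _ := fun p => (σ p).some.id
    let r' : (mapBifunctor K S.X₂ F (.up ℤ)).X n ⟶ (mapBifunctor K S.X₁ F (.up ℤ)).X n :=
      mapBifunctorDesc fun p q h => (F.obj (K.X p)).map (r q) ≫ ιMapBifunctor K S.X₁ F _ p q n h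
    let s' : (mapBifunctor K S.X₃ F (.up ℤ)).X n ⟶ (mapBifunctor K S.X₂ F (.up ℤ)).X n :=
      mapBifunctorDesc fun p q h => (F.obj (K.X p)).map (s q) ≫ ιMapBifunctor K S.X₂ F _ p q n h
    have f1 : (mapBifunctorMap (𝟙 K) S.f F _).f n ≫ r' = 𝟙 _ := mapBifunctor.hom_ext fun p q h => by
      rw [comp_id, ι_map₂_assoc, ι_mapBifunctorDesc, ← assoc, ← Functor.map_comp, e1, CategoryTheory.Functor.map_id, id_comp]
    have f2 : s' ≫ (mapBifunctorMap (𝟙 K) S.g F _).f n = 𝟙 _ := mapBifunctor.hom_ext fun p q h => by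
      rw [comp_id, ι_mapBifunctorDesc_assoc, assoc, ι_map₂, ← assoc, ← Functor.map_comp, e2, CategoryTheory.Functor.map_id, id_comp]
    have f3 : r' ≫ (mapBifunctorMap (𝟙 K) S.f F _).f n + (mapBifunctorMap (𝟙 K) S.g F _).f n ≫ s' = 𝟙 _ :=
      mapBifunctor.hom_ext fun p q h => by
        rw [Preadditive.comp_add, comp_id, ι_mapBifunctorDesc_assoc, assoc, ι_map₂, ι_map₂_assoc,
          ι_mapBifunctorDesc, ← assoc, ← assoc, ← Functor.map_comp, ← Functor.map_comp, ← Preadditive.add_comp, ← Functor.map_add, e3, CategoryTheory.Functor.map_id,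
          id_comp]
    exact ⟨{ r := r', s := s', f_r := f1, s_g := f2, id := f3 }⟩

/-- K-flatness with respect to `F`, in the second variable -/
def KFlat₂ (K : Cx B) : Prop := ∀ L : Cx A, L.Acyclic → ((T₁ F K).obj L).Acyclic

variable {J : Type*} [Category J] [∀ X, PreservesColimitsOfShape J (F.obj X)]
  [HasColimitsOfShape J B] [HasColimitsOfShape J D]

lemma preservesColimitsOfShape₂ (K : Cx A) : PreservesColimitsOfShape J (T₂ F K) := by
  refine ⟨fun {G} => ⟨fun {c} hc => ⟨isColimitOfEval _ _ fun n => ?_⟩⟩⟩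
  have hq := fun p q => isColimitOfPreserves (F.obj (K.X p)) (isColimitOfPreserves (eval B _ q) hc)
  refine
    { desc := fun s => mapBifunctorDesc fun p q h => (hq p q).desc
        ⟨s.pt, { app := fun j => ιMapBifunctor K (G.obj j) F _ p q n h ≫ s.ι.app j
                 naturality := fun j j' φ => ?_ }⟩
      fac := fun s j => mapBifunctor.hom_ext fun p q h => ?_
      uniq := fun s m hm => mapBifunctor.hom_ext fun p q h => ?_ }
  · have hw : (mapBifunctorMap (𝟙 K) (G.map φ) F (.up ℤ)).f n ≫ s.ι.app j' = s.ι.app j :=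
      s.w φ
    show (F.obj (K.X p)).map ((G.map φ).f q) ≫ ιMapBifunctor K (G.obj j') F _ p q n h ≫
      s.ι.app j' = (ιMapBifunctor K (G.obj j) F _ p q n h ≫ s.ι.app j) ≫ 𝟙 _
    rw [comp_id, ← hw]
    exact ((assoc _ _ _).symm.trans ((congrArg (· ≫ _) (ι_map₂ F (G.map φ) K p q n h)).trans (assoc _ _ _))).symm
  · show ιMapBifunctor K (G.obj j) F _ p q n h ≫ (mapBifunctorMap (𝟙 K) (c.ι.app j) F _).f n ≫
      mapBifunctorDesc _ = ιMapBifunctor K (G.obj j) F _ p q n h ≫ s.ι.app j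
    erw [ι_map₂_assoc, ι_mapBifunctorDesc]
    exact (hq p q).fac _ j
  · erw [ι_mapBifunctorDesc]
    refine (hq p q).hom_ext fun j => ?_
    rw [(hq p q).fac]
    have hw : (mapBifunctorMap (𝟙 K) (c.ι.app j) F (.up ℤ)).f n ≫ m = s.ι.app j := hm j
    show (F.obj (K.X p)).map ((c.ι.app j).f q) ≫ ιMapBifunctor K c.pt F _ p q n h ≫ m =
      ιMapBifunctor K (G.obj j) F _ p q n h ≫ s.ι.app j
    rw [← hw]
    exact ((assoc _ _ _).symm.trans ((congrArg (· ≫ m) (ι_map₂ F (c.ι.app j) K p q n h)).trans (assoc _ _ _))).symm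

end bifunctor

end Groth.Agent.H5TenCx
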