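import Mathlib

open CategoryTheory CategoryTheory.Limits

namespace Groth.Agent.H5ToSheafColim

universe u

theorem toSheaf_colims {C : Type u} [SmallCategory C] {J : GrothendieckTopology C} (R : Sheaf J RingCat.{u}) :
    PreservesColimitsOfSize.{u, u} (SheafOfModules.toSheaf.{u} R : SheafOfModules.{u} R ⥤ Sheaf J AddCommGrpCat.{u}) := by
  let L := PresheafOfModules.sheafification.{u} (𝟙 R.obj)
  let G := SheafOfModules.forget R ⋙ PresheafOfModules.restrictScalars.{u} (𝟙 R.obj)
  let adj : L ⊣ G := PresheafOfModules.sheafificationAdjunction (𝟙 R.obj)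
  have : PreservesColimitsOfSize.{u, u} L := adj.leftAdjoint_preservesColimits
  have hc : PreservesColimitsOfSize.{u, u} (L ⋙ SheafOfModules.toSheaf R) :=
    preservesColimits_of_natIso (PresheafOfModules.sheafificationCompToSheaf (𝟙 R.obj)).symm
  refine ⟨fun {I} _ => ⟨fun {K} => ?_⟩⟩
  let P := K ⋙ G
  have hP : PreservesColimit (P ⋙ L) (SheafOfModules.toSheaf R) :=
    preservesColimit_of_preserves_colimit_cocone (isColimitOfPreserves L (colimit.isColimit P))
      (isColimitOfPreserves (L ⋙ SheafOfModules.toSheaf R) (colimit.isColimit P))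
  exact preservesColimit_of_iso_diagram _
    (Functor.associator _ _ _ ≪≫ Functor.isoWhiskerLeft K (asIso adj.counit) ≪≫ K.rightUnitor : P ⋙ L ≅ K)

end Groth.Agent.H5ToSheafColim
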