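import Mathlib
set_option autoImplicit false
universe u v w
open Topology TopologicalSpace

namespace Groth.Agent.H5Top

theorem isRetrocompact_of_isConstructible {X : Type u} [TopologicalSpace X] {s : Set X}
    (hs : Topology.IsConstructible s) : IsRetrocompact s := by
  induction s, hs using BooleanSubalgebra.closure_sdiff_sup_induction with
  | isSublattice =>
    exact ⟨fun s hs t ht ↦ ⟨hs.1.union ht.1, hs.2.union ht.2⟩,
      fun s hs t ht ↦ ⟨hs.1.inter ht.1, hs.2.inter_isOpen ht.2 ht.1⟩⟩
  | bot_mem => exact ⟨isOpen_empty, .empty⟩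
  | top_mem => exact ⟨isOpen_univ, .univ⟩
  | sdiff U hU V hV =>
    intro W hWc hWo
    have : U \ V ∩ W = (U ∩ W) \ V := by ext; simp; tauto
    rw [this]
    exact (hU.2 hWc hWo).diff hV.1
  | sup s _ t _ hs' ht' => exact hs'.union ht'

theorem exists_locallyClosed {X : Type u} [TopologicalSpace X] {s : Set X}
    (hs : Topology.IsConstructible s) :
    ∃ (n : ℕ) (Z : Fin n → Set X), (∀ i, IsLocallyClosed (Z i)) ∧ s = ⋃ i, Z i := by
  induction s, hs using BooleanSubalgebra.closure_sdiff_sup_induction with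
  | isSublattice =>
    exact ⟨fun s hs t ht ↦ ⟨hs.1.union ht.1, hs.2.union ht.2⟩,
      fun s hs t ht ↦ ⟨hs.1.inter ht.1, hs.2.inter_isOpen ht.2 ht.1⟩⟩
  | bot_mem => exact ⟨isOpen_empty, .empty⟩
  | top_mem => exact ⟨isOpen_univ, .univ⟩
  | sdiff U hU V hV =>
    refine ⟨1, fun _ => U \ V, fun _ => ⟨U, Vᶜ, hU.1, hV.1.isClosed_compl, rfl⟩, by rw [Set.iUnion_const]⟩
  | sup s _ t _ hs' ht' =>
    obtain ⟨n, Z, hZ, rfl⟩ := hs'
    obtain ⟨m, W, hW, rfl⟩ := ht'
    refine ⟨n + m, Fin.append Z W, fun i => ?_, ?_⟩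
    · refine Fin.addCases (fun j => ?_) (fun j => ?_) i <;> simp [hZ, hW]
    · ext x
      simp only [Set.mem_union, Set.mem_iUnion]
      constructor
      · rintro (h | h)
        · obtain ⟨i, hi⟩ := Set.mem_iUnion.1 h
          exact ⟨Fin.castAdd m i, by simpa using hi⟩
        · obtain ⟨i, hi⟩ := Set.mem_iUnion.1 h
          exact ⟨Fin.natAdd n i, by simpa using hi⟩
      · rintro ⟨i, hi⟩
        revert hi
        refine Fin.addCases (fun j => ?_) (fun j => ?_) i <;> simp <;> grind

theorem isConstructible_iff_noetherian {X : Type u} [TopologicalSpace X]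
    [NoetherianSpace X] (s : Set X) :
    Topology.IsConstructible s ↔
      ∃ (n : ℕ) (Z : Fin n → Set X), (∀ i, IsLocallyClosed (Z i)) ∧ s = ⋃ i, Z i := by
  refine ⟨exists_locallyClosed, ?_⟩
  rintro ⟨n, Z, hZ, rfl⟩
  refine IsConstructible.iUnion fun i => ?_
  obtain ⟨U, V, hU, hV, h⟩ := hZ i
  rw [h]
  exact ((NoetherianSpace.isCompact U).isConstructible hU).inter
    (isConstructible_compl.1 ((NoetherianSpace.isCompact Vᶜ).isConstructible hV.isOpen_compl))

theorem dense_iff {X : Type u} [TopologicalSpace X]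
    [NoetherianSpace X] [IrreducibleSpace X] {E : Set X}
    (hE : Topology.IsConstructible E) :
    Dense E ↔ ∃ U : Set X, IsOpen U ∧ U.Nonempty ∧ U ⊆ E := by
  constructor
  · intro hd
    obtain ⟨n, Z, hZ, rfl⟩ := exists_locallyClosed hE
    by_cases h : ∃ i, Dense (Z i)
    · obtain ⟨i, hi⟩ := h
      obtain ⟨U, V, hU, hV, hUV⟩ := hZ i
      have hVu : V = Set.univ := by
        rw [Set.eq_univ_iff_forall]
        intro x
        have := hi.mono (show Z i ⊆ V from hUV ▸ Set.inter_subset_right)
        simpa [hV.closure_eq] using this x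
      have hne : (Z i).Nonempty := hi.nonempty
      refine ⟨U, hU, ?_, ?_⟩
      · rw [hUV] at hne; exact hne.mono Set.inter_subset_left
      · intro x hx; exact Set.mem_iUnion.2 ⟨i, by rw [hUV, hVu]; exact ⟨hx, trivial⟩⟩
    · exfalso
      push Not at h
      have : ∀ s : Finset (Fin n), closure (⋃ i ∈ s, Z i) ≠ Set.univ := by
        intro s
        induction s using Finset.induction_on with
        | empty => simp; exact Set.empty_ne_univ
        | insert a s ha ih =>
          rw [Finset.set_biUnion_insert, closure_union]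
          intro he
          rcases isPreirreducible_iff_isClosed_union_isClosed.1 (IrreducibleSpace.isIrreducible_univ (X := X)).2 _ _ isClosed_closure isClosed_closure (le_of_eq he.symm) with h1 | h1
          · exact h a (dense_iff_closure_eq.2 (Set.univ_subset_iff.1 h1))
          · exact ih (Set.univ_subset_iff.1 h1)
      apply this Finset.univ
      simpa using hd.closure_eq
  · rintro ⟨U, hU, hne, hsub⟩
    exact (hU.dense hne).mono hsub

theorem nowhere {X : Type u} [TopologicalSpace X] {ι : Type u}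
    (U : ι → Set X) (hU : ∀ i, IsOpen (U i)) (hcov : ⋃ i, U i = Set.univ) (T : Set X)
    (hT : ∀ i, IsNowhereDense ((Subtype.val : U i → X) ⁻¹' T)) :
    IsNowhereDense T := by
  rw [IsNowhereDense, Set.eq_empty_iff_forall_notMem]
  intro x hx
  obtain ⟨i, hi⟩ := Set.mem_iUnion.1 (hcov ▸ Set.mem_univ x)
  have h2 := hT i
  rw [IsNowhereDense, ← (hU i).isOpenEmbedding_subtypeVal.isOpenMap.preimage_closure_eq_closure_preimage continuous_subtype_val,
    ← (hU i).isOpenEmbedding_subtypeVal.isOpenMap.preimage_interior_eq_interior_preimage continuous_subtype_val] at h2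
  exact Set.eq_empty_iff_forall_notMem.1 h2 ⟨x, hi⟩ hx

theorem surjEndo {X : Type u} [TopologicalSpace X] [T2Space X]
    (f : X → X) (hf : Continuous f) (hsurj : Function.Surjective f) (hne : f ≠ id) :
    ∃ E : Set X, IsClosed E ∧ E ≠ Set.univ ∧ E ∪ f '' E = Set.univ := by
  obtain ⟨x, hx⟩ := Function.ne_iff.1 hne
  obtain ⟨U, V, hU, hV, hfU, hxV, hd⟩ := t2_separation hx
  let W := V ∩ f ⁻¹' U
  have hW : IsOpen W := hV.inter (hU.preimage hf)
  refine ⟨Wᶜ, hW.isClosed_compl, ?_, ?_⟩
  · intro h
    have hxW : x ∈ W := ⟨hxV, hfU⟩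
    exact (h.symm ▸ Set.mem_univ x : x ∈ Wᶜ) hxW
  · rw [Set.eq_univ_iff_forall]
    intro y
    by_cases hy : y ∈ W
    · obtain ⟨z, rfl⟩ := hsurj y
      refine Or.inr ⟨z, fun hz => ?_, rfl⟩
      exact Set.disjoint_left.1 hd hz.2 hy.1
    · exact Or.inl hy

theorem card_le {X Y : Type u} [TopologicalSpace X] [TopologicalSpace Y] [T2Space Y]
    (f : X → Y) (hf : Continuous f) (hd : DenseRange f) :
    Cardinal.mk Y ≤ (2 : Cardinal.{u}) ^ ((2 : Cardinal.{u}) ^ Cardinal.mk X) := by
  let g : Y → Set (Set X) := fun y => {A | y ∈ closure (f '' A)}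
  have hg : Function.Injective g := by
    intro a b hab
    by_contra hne
    obtain ⟨U, V, hU, hV, haU, hbV, hdis⟩ := t2_separation hne
    have h1 : f ⁻¹' U ∈ g a := by
      show a ∈ closure (f '' (f ⁻¹' U))
      rw [Set.image_preimage_eq_inter_range]
      exact hd.open_subset_closure_inter hU haU
    rw [hab] at h1
    have : b ∈ closure U := closure_mono (Set.image_preimage_subset _ _) h1
    obtain ⟨z, hz⟩ := mem_closure_iff.1 this V hV hbV
    exact Set.disjoint_left.1 hdis hz.2 hz.1
  calc Cardinal.mk Y ≤ Cardinal.mk (Set (Set X)) := Cardinal.mk_le_of_injective hg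
    _ = _ := by rw [Cardinal.mk_set, Cardinal.mk_set]

theorem irrComp {X Y : Type u} [TopologicalSpace X] [TopologicalSpace Y]
    (f : X → Y) (hf : Continuous f) (hs : Function.Surjective f) (hfin : (irreducibleComponents X).Finite) :
    (irreducibleComponents Y).Finite ∧ (irreducibleComponents Y).ncard ≤ (irreducibleComponents X).ncard := by
  have key : irreducibleComponents Y ⊆ (fun C => closure (f '' C)) '' irreducibleComponents X := by
    intro D hD
    have hirr : IsIrreducible D := hD.1
    have hcl : IsClosed D := isClosed_of_mem_irreducibleComponents _ hD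
    have hsub : D ⊆ ⋃₀ ((fun C => closure (f '' C)) '' irreducibleComponents X) := by
      intro y _
      obtain ⟨x, rfl⟩ := hs y
      exact ⟨_, ⟨_, irreducibleComponent_mem_irreducibleComponents x, rfl⟩,
        subset_closure ⟨x, mem_irreducibleComponent, rfl⟩⟩
    obtain ⟨t, ht, hDt⟩ := isIrreducible_iff_sUnion_isClosed.1 hirr (hfin.image fun C => closure (f '' C)).toFinset (by simp [isClosed_closure]) (by simpa using hsub)
    simp only [Set.Finite.mem_toFinset] at ht
    obtain ⟨C, hC, rfl⟩ := ht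
    exact ⟨C, hC, (subset_antisymm hDt (hD.2 ((hC.1.image f hf.continuousOn).closure) hDt)).symm⟩
  refine ⟨(hfin.image _).subset key, ?_⟩
  exact (Set.ncard_le_ncard key (hfin.image _)).trans (Set.ncard_image_le hfin)

theorem pi0 (X : Type u) [TopologicalSpace X] [CompactSpace X]
    (h : ∀ x : X, connectedComponent x = ⋂₀ {Z : Set X | IsClopen Z ∧ x ∈ Z}) :
    T2Space (ConnectedComponents X) := by
  constructor
  intro a b hab
  obtain ⟨x, rfl⟩ := ConnectedComponents.surjective_coe a
  obtain ⟨y, rfl⟩ := ConnectedComponents.surjective_coe b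
  rw [ne_eq, ConnectedComponents.coe_eq_coe'] at hab
  have hab' : y ∉ connectedComponent x := fun h' => hab (by rw [← connectedComponent_eq h']; exact mem_connectedComponent)
  rw [h x] at hab'
  simp only [Set.mem_sInter, Set.mem_ofPred_eq, not_forall] at hab'
  obtain ⟨Z, ⟨hZ, hxZ⟩, hyZ⟩ := hab'
  have hpre : ConnectedComponents.mk ⁻¹' (ConnectedComponents.mk '' Z) = Z := by
    rw [connectedComponents_preimage_image]
    exact hZ.biUnion_connectedComponent_eq
  have hpre' : ConnectedComponents.mk ⁻¹' (ConnectedComponents.mk '' Z)ᶜ = Zᶜ := by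
    rw [Set.preimage_compl, hpre]
  refine ⟨ConnectedComponents.mk '' Z, (ConnectedComponents.mk '' Z)ᶜ, ?_, ?_, ⟨x, hxZ, rfl⟩, ?_, disjoint_compl_right⟩
  · rw [← ConnectedComponents.isQuotientMap_coe.isOpen_preimage, hpre]; exact hZ.2
  · rw [← ConnectedComponents.isQuotientMap_coe.isOpen_preimage, hpre']; exact hZ.1.isOpen_compl
  · intro hy
    have : y ∈ ConnectedComponents.mk ⁻¹' (ConnectedComponents.mk '' Z) := hy
    rw [hpre] at this; exact hyZ this

end Groth.Agent.H5Top
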