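import Mathlib
import Groth.Agent.Lib.H5TopBasics
set_option autoImplicit false
universe u v w
open Topology TopologicalSpace

namespace Groth.Agent.H5Top
variable {X : Type u} [TopologicalSpace X]

theorem generic_iff_core {Z : Set X} (hZ : IsIrreducible Z)
    {n : ℕ} (L : Fin n → Set X) (hL : ∀ i, IsLocallyClosed (L i))
    (h : Z ⊆ closure ((⋃ i, L i) ∩ Z)) :
    ∃ U : Set X, IsOpen U ∧ (U ∩ Z).Nonempty ∧ U ∩ Z ⊆ ⋃ i, L i := by
  classical
  rw [Set.iUnion_inter, closure_iUnion_of_finite] at h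
  obtain ⟨t, ht, hZt⟩ := isIrreducible_iff_sUnion_isClosed.1 hZ (Finset.univ.image fun i => closure (L i ∩ Z))
    (by simp [isClosed_closure]) (by rw [Finset.coe_image, Finset.coe_univ, Set.image_univ, Set.sUnion_range]; exact h)
  simp only [Finset.mem_image, Finset.mem_univ, true_and] at ht
  obtain ⟨i, rfl⟩ := ht
  obtain ⟨U, C, hU, hC, hUC⟩ := hL i
  have hZC : Z ⊆ C := hZt.trans ((closure_mono (Set.inter_subset_left.trans (hUC ▸ Set.inter_subset_right))).trans hC.closure_eq.subset)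
  refine ⟨U, hU, ?_, fun x hx => Set.mem_iUnion.2 ⟨i, hUC ▸ ⟨hx.1, hZC hx.2⟩⟩⟩
  obtain ⟨z, hz⟩ := hZ.nonempty
  obtain ⟨y, hy⟩ : (L i ∩ Z).Nonempty := closure_nonempty_iff.1 ⟨z, hZt hz⟩
  exact ⟨y, (hUC ▸ hy.1).1, hy.2⟩

theorem irr_dense_of_open {Z U : Set X} (hZ : IsIrreducible Z) (hU : IsOpen U) (hne : (U ∩ Z).Nonempty) :
    Z ⊆ closure (U ∩ Z) := by
  have := subset_closure_inter_of_isPreirreducible_of_isOpen hZ.2 hU (Set.inter_comm U Z ▸ hne)
  rwa [Set.inter_comm]

theorem locallyClosed_dense_iff (Z : Set X) (hZ : IsIrreducible Z)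
    {n : ℕ} (L : Fin n → Set X) (hL : ∀ i, IsLocallyClosed (L i)) (E : Set X) (hE : E = ⋃ i, L i) :
    (Z ⊆ closure (E ∩ Z) ↔ ∃ U : Set X, IsOpen U ∧ U ∩ Z ⊆ E ∧ Z ⊆ closure (U ∩ Z)) ∧
    (∀ ξ : X, ξ ∈ Z → Z ⊆ closure {ξ} → (Z ⊆ closure (E ∩ Z) ↔ ξ ∈ E)) := by
  subst hE
  constructor
  · constructor
    · intro h
      obtain ⟨U, hU, hne, hsub⟩ := generic_iff_core hZ L hL h
      exact ⟨U, hU, hsub, irr_dense_of_open hZ hU hne⟩
    · rintro ⟨U, -, hsub, h⟩
      exact h.trans (closure_mono (Set.subset_inter hsub Set.inter_subset_right))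
  · intro ξ hξ hgen
    constructor
    · intro h
      obtain ⟨U, hU, ⟨z, hzU, hzZ⟩, hsub⟩ := generic_iff_core hZ L hL h
      exact hsub ⟨(specializes_iff_mem_closure.2 (hgen hzZ)).mem_open hU hzU, hξ⟩
    · intro h
      refine hgen.trans (closure_mono (Set.singleton_subset_iff.2 ⟨h, hξ⟩))

theorem constructible_dense {E : Set X} (hE : IsConstructible E) {Z : Set X} (hZ : IsIrreducible Z)
    (h : Z ⊆ closure (E ∩ Z)) : ∃ U : Set X, IsOpen U ∧ (U ∩ Z).Nonempty ∧ U ∩ Z ⊆ E := by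
  obtain ⟨n, L, hL, rfl⟩ := Groth.Agent.H5Top.exists_locallyClosed hE
  exact generic_iff_core hZ L hL h

theorem constructible_generic {E : Set X} (hE : IsConstructible E) {Z : Set X} (hZ : IsIrreducible Z)
    (h : Z ⊆ closure (E ∩ Z)) {ξ : X} (hξ : IsGenericPoint ξ Z) : ξ ∈ E := by
  obtain ⟨n, L, hL, rfl⟩ := Groth.Agent.H5Top.exists_locallyClosed hE
  exact ((locallyClosed_dense_iff Z hZ L hL _ rfl).2 ξ hξ.mem hξ.symm.subset).1 h

section Noeth
variable [NoetherianSpace X]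

theorem closed_induction {P : Set X → Prop}
    (irred : ∀ Y, IsClosed Y → IsIrreducible Y → (∀ Z, IsClosed Z → Z ⊂ Y → P Z) → P Y)
    (union : ∀ Y₁ Y₂, IsClosed Y₁ → IsClosed Y₂ → P Y₁ → P Y₂ → P (Y₁ ∪ Y₂))
    (empty : P ∅) : ∀ Y, IsClosed Y → P Y := by
  intro Y hY
  obtain ⟨S, hSf, hSc, hSi, rfl⟩ := NoetherianSpace.exists_finite_set_isClosed_irreducible hY
  have hirr : ∀ Z : Closeds X, IsIrreducible (Z : Set X) → P Z := by
    intro Z
    apply wellFounded_lt.induction Z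
    intro Z ih hZ
    refine irred Z Z.2 hZ fun W hW hlt => ?_
    obtain ⟨T, hTf, hTc, hTi, rfl⟩ := NoetherianSpace.exists_finite_set_isClosed_irreducible hW
    have hsub : ∀ t ∈ T, P t := fun t ht => ih ⟨t, hTc t ht⟩
      (show (t : Set X) ⊂ (Z : Set X) from lt_of_le_of_lt (Set.subset_sUnion_of_mem ht) hlt) (hTi t ht)
    clear hlt hW
    induction T, hTf using Set.Finite.induction_on with
    | empty => simpa using empty
    | @insert a T' ha hT' ih' =>
      rw [Set.sUnion_insert]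
      exact union _ _ (hTc a (Set.mem_insert _ _))
        (Set.sUnion_eq_biUnion ▸ Set.Finite.isClosed_biUnion hT' fun t ht => hTc t (Set.mem_insert_of_mem _ ht))
        (hsub a (Set.mem_insert _ _))
        (ih' (fun t ht => hTc t (Set.mem_insert_of_mem _ ht)) (fun t ht => hTi t (Set.mem_insert_of_mem _ ht)) fun t ht => hsub t (Set.mem_insert_of_mem _ ht))
  clear hY
  induction S, hSf using Set.Finite.induction_on with
  | empty => simpa using empty
  | @insert a T' ha hT' ih' =>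
    rw [Set.sUnion_insert]
    exact union _ _ (hSc a (Set.mem_insert _ _))
      (Set.sUnion_eq_biUnion ▸ Set.Finite.isClosed_biUnion hT' fun t ht => hSc t (Set.mem_insert_of_mem _ ht))
      (hirr ⟨a, hSc a (Set.mem_insert _ _)⟩ (hSi a (Set.mem_insert _ _)))
      (ih' (fun t ht => hSc t (Set.mem_insert_of_mem _ ht)) (fun t ht => hSi t (Set.mem_insert_of_mem _ ht)))

theorem isConstructible_of_isOpen {U : Set X} (hU : IsOpen U) : IsConstructible U :=
  (NoetherianSpace.isCompact U).isConstructible hU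

theorem isConstructible_of_isClosed {C : Set X} (hC : IsClosed C) : IsConstructible C :=
  isConstructible_compl.1 (isConstructible_of_isOpen hC.isOpen_compl)

theorem diff_ssubset {Y U : Set X} (hne : (U ∩ Y).Nonempty) : Y \ U ⊂ Y := by
  obtain ⟨x, hxU, hxY⟩ := hne
  exact ⟨Set.sdiff_subset, fun h => (h hxY).2 hxU⟩

theorem open_criterion (E : Set X) :
    IsOpen E ↔
      ∀ Y : Set X, IsClosed Y → IsIrreducible Y → (E ∩ Y).Nonempty →
        ∃ U : Set X, IsOpen U ∧ (U ∩ Y).Nonempty ∧ U ∩ Y ⊆ E := by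
  refine ⟨fun h Y _ _ hne => ⟨E, h, hne, Set.inter_subset_left⟩, fun h => ?_⟩
  have key : ∀ Y : Set X, IsClosed Y → IsClosed (Y \ E) := by
    refine closed_induction (fun Y hY hYi ih => ?_) (fun A B _ _ hA hB => ?_) (by simp)
    · by_cases hne : (E ∩ Y).Nonempty
      · obtain ⟨U, hU, hne', hsub⟩ := h Y hY hYi hne
        have : Y \ E = (Y \ U) \ E := by
          ext x; constructor
          · exact fun hx => ⟨⟨hx.1, fun hxU => hx.2 (hsub ⟨hxU, hx.1⟩)⟩, hx.2⟩
          · exact fun hx => ⟨hx.1.1, hx.2⟩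
        rw [this]
        exact ih _ (hY.sdiff hU) (diff_ssubset hne')
      · have : Y \ E = Y := by
          ext x; exact ⟨fun hx => hx.1, fun hx => ⟨hx, fun hxE => hne ⟨x, hxE, hx⟩⟩⟩
        rwa [this]
    · rw [Set.union_sdiff_distrib]; exact hA.union hB
  have := key Set.univ isClosed_univ
  rw [← Set.compl_eq_univ_sdiff] at this
  exact isClosed_compl_iff.1 this

theorem nowhereDense_trace {Y E : Set X} (hY : IsClosed Y) (hYi : IsIrreducible Y)
    (h : ¬ Y ⊆ closure (E ∩ Y)) : IsNowhereDense (Subtype.val ⁻¹' E : Set Y) := by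
  have : PreirreducibleSpace Y := isPreirreducible_iff_preirreducibleSpace.1 hYi.2
  by_contra hn
  rw [IsNowhereDense, ← ne_eq, ← Set.nonempty_iff_ne_empty] at hn
  have hd : Dense (interior (closure (Subtype.val ⁻¹' E : Set Y))) := isOpen_interior.dense hn
  have hd' : Dense (Subtype.val ⁻¹' E : Set Y) :=
    dense_closure.1 (hd.mono interior_subset)
  apply h
  rw [Subtype.dense_iff] at hd'
  simpa [Set.inter_comm] using hd'

theorem constructible_criterion (E : Set X) :
    IsConstructible E ↔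
      ∀ Y : Set X, IsClosed Y → IsIrreducible Y →
        IsNowhereDense (Subtype.val ⁻¹' E : Set Y) ∨
          ∃ U : Set X, IsOpen U ∧ (U ∩ Y).Nonempty ∧ U ∩ Y ⊆ E := by
  constructor
  · intro hE Y hY hYi
    by_cases h : Y ⊆ closure (E ∩ Y)
    · exact Or.inr (constructible_dense hE hYi h)
    · exact Or.inl (nowhereDense_trace hY hYi h)
  · intro h
    have key : ∀ Y : Set X, IsClosed Y → IsConstructible (E ∩ Y) := by
      refine closed_induction (fun Y hY hYi ih => ?_) (fun A B _ _ hA hB => ?_) (by simp)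
      · rcases h Y hY hYi with hn | ⟨U, hU, hne, hsub⟩
        · have hss : closure (E ∩ Y) ⊂ Y := by
            refine ⟨closure_minimal Set.inter_subset_right hY, fun hsup => ?_⟩
            have : Dense (Subtype.val ⁻¹' E : Set Y) := by
              rw [Subtype.dense_iff]; simpa [Set.inter_comm] using hsup
            rw [IsNowhereDense, this.closure_eq, interior_univ] at hn
            obtain ⟨y, hy⟩ := hYi.nonempty
            exact Set.eq_empty_iff_forall_notMem.1 hn ⟨y, hy⟩ trivial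
          have : E ∩ Y = E ∩ closure (E ∩ Y) := by
            ext x; exact ⟨fun hx => ⟨hx.1, subset_closure hx⟩, fun hx => ⟨hx.1, hss.1 hx.2⟩⟩
          rw [this]; exact ih _ isClosed_closure hss
        · have : E ∩ Y = (U ∩ Y) ∪ (E ∩ (Y \ U)) := by
            ext x; constructor
            · intro hx
              by_cases hxU : x ∈ U
              · exact Or.inl ⟨hxU, hx.2⟩
              · exact Or.inr ⟨hx.1, hx.2, hxU⟩
            · rintro (hx | hx)
              · exact ⟨hsub hx, hx.2⟩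
              · exact ⟨hx.1, hx.2.1⟩
          rw [this]
          exact ((isConstructible_of_isOpen hU).inter (isConstructible_of_isClosed hY)).union
            (ih _ (hY.sdiff hU) (diff_ssubset hne))
      · rw [Set.inter_union_distrib_left]; exact hA.union hB
    simpa using key Set.univ isClosed_univ

theorem exists_irreducible_of_mem_closure {S : Set X} {x : X} (hx : x ∈ closure S) :
    ∃ Y, IsClosed Y ∧ IsIrreducible Y ∧ x ∈ Y ∧ Y ⊆ closure (S ∩ Y) := by
  obtain ⟨T, hTf, hTc, hTi, hTU⟩ := NoetherianSpace.exists_finite_set_isClosed_irreducible (isClosed_univ (X := S))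
  have hS : S = ⋃ t ∈ T, Subtype.val '' t := by
    rw [← Set.image_iUnion₂, ← Set.sUnion_eq_biUnion, ← hTU, Set.image_univ, Subtype.range_coe]
  rw [hS, hTf.closure_biUnion, Set.mem_iUnion₂] at hx
  obtain ⟨t, ht, hxt⟩ := hx
  refine ⟨_, isClosed_closure, ((hTi t ht).image _ continuous_subtype_val.continuousOn).closure, hxt,
    closure_mono (Set.subset_inter (Subtype.coe_image_subset S t) subset_closure)⟩

theorem nhds_criterion (x : X) {E : Set X} (hE : IsConstructible E) :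
    E ∈ nhds x ↔
      ∀ Y : Set X, IsClosed Y → IsIrreducible Y → x ∈ Y → Dense (Subtype.val ⁻¹' E : Set Y) := by
  constructor
  · intro h Y _ hYi hxY
    rw [Subtype.dense_iff]
    have := irr_dense_of_open hYi isOpen_interior ⟨x, mem_interior_iff_mem_nhds.2 h, hxY⟩
    refine this.trans (closure_mono ?_)
    rintro y ⟨hy, hyY⟩
    exact ⟨⟨y, hyY⟩, show y ∈ E from interior_subset hy, rfl⟩
  · intro h
    rw [← mem_interior_iff_mem_nhds, ← compl_compl E, interior_compl, Set.mem_compl_iff]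
    intro hx
    obtain ⟨Y, hY, hYi, hxY, hd⟩ := exists_irreducible_of_mem_closure hx
    obtain ⟨U, hU, hUne, hUsub⟩ := constructible_dense (isConstructible_compl.2 hE) hYi hd
    have hd' := h Y hY hYi hxY
    rw [Subtype.dense_iff] at hd'
    have hd'' : Y ⊆ closure (E ∩ Y) := by simpa [Set.inter_comm] using hd'
    obtain ⟨z, hzU, hzY⟩ := hUne
    obtain ⟨w, hwU, hwE, hwY⟩ := mem_closure_iff.1 (hd'' hzY) U hU hzU
    exact hUsub ⟨hwU, hwY⟩ hwE

theorem isClosed_of_stable [QuasiSober X] {E : Set X} (hE : IsConstructible E)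
    (hs : StableUnderSpecialization E) : IsClosed E := by
  refine isClosed_of_closure_subset fun x hx => ?_
  obtain ⟨Y, hY, hYi, hxY, hd⟩ := exists_irreducible_of_mem_closure hx
  obtain ⟨ξ, hξ⟩ := QuasiSober.sober hYi hY
  exact hs (hξ.specializes hxY) (constructible_generic hE hYi hd hξ)

theorem isOpen_of_stable [QuasiSober X] {E : Set X} (hE : IsConstructible E)
    (hs : StableUnderGeneralization E) : IsOpen E :=
  isClosed_compl_iff.1 (isClosed_of_stable (isConstructible_compl.2 hE) hs.compl)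

theorem dense_fibre {T : Type v} (h : X → T) {Y : Set X} (hYi : IsIrreducible Y)
    (hfin : (h '' Y).Finite) (hc : ∀ t, IsConstructible (h ⁻¹' {t})) :
    ∃ t, ∃ U : Set X, IsOpen U ∧ (U ∩ Y).Nonempty ∧ U ∩ Y ⊆ h ⁻¹' {t} := by
  classical
  have hcov : Y ⊆ ⋃₀ ↑(hfin.toFinset.image fun t => closure (h ⁻¹' {t} ∩ Y)) := by
    intro y hy
    simp only [Finset.coe_image, Set.Finite.coe_toFinset, Set.mem_sUnion, Set.mem_image]
    exact ⟨_, ⟨h y, ⟨y, hy, rfl⟩, rfl⟩, subset_closure ⟨rfl, hy⟩⟩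
  obtain ⟨s, hs, hsub⟩ := isIrreducible_iff_sUnion_isClosed.1 hYi _ (by simp [isClosed_closure]) hcov
  simp only [Finset.mem_image] at hs
  obtain ⟨t, -, rfl⟩ := hs
  exact ⟨t, constructible_dense (hc t) hYi hsub⟩

theorem finite_range_of_locConst {T : Type v} (h : X → T)
    (hh : ∀ Y : Set X, IsClosed Y → IsIrreducible Y →
        ∃ U : Set X, IsOpen U ∧ (U ∩ Y).Nonempty ∧ ∀ a ∈ U ∩ Y, ∀ b ∈ U ∩ Y, h a = h b) :
    (Set.range h).Finite := by
  have key : ∀ Y : Set X, IsClosed Y → (h '' Y).Finite := by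
    refine closed_induction (fun Y hY hYi ih => ?_) (fun A B _ _ hA hB => ?_) (by simp)
    · obtain ⟨U, hU, ⟨a, ha⟩, hconst⟩ := hh Y hY hYi
      refine ((Set.finite_singleton (h a)).union (ih _ (hY.sdiff hU) (diff_ssubset ⟨a, ha⟩))).subset ?_
      rintro _ ⟨y, hy, rfl⟩
      by_cases hyU : y ∈ U
      · exact Or.inl (hconst y ⟨hyU, hy⟩ a ha)
      · exact Or.inr ⟨y, ⟨hy, hyU⟩, rfl⟩
    · rw [Set.image_union]; exact hA.union hB
  simpa [Set.image_univ] using key Set.univ isClosed_univ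

theorem constructible_fun_iff {T : Type v} (h : X → T) :
    ((∀ t, IsConstructible (h ⁻¹' {t})) ∧ (Set.range h).Finite) ↔
      ∀ Y : Set X, IsClosed Y → IsIrreducible Y →
        ∃ U : Set X, IsOpen U ∧ (U ∩ Y).Nonempty ∧ ∀ a ∈ U ∩ Y, ∀ b ∈ U ∩ Y, h a = h b := by
  constructor
  · rintro ⟨hc, hfin⟩ Y _ hYi
    obtain ⟨t, U, hU, hne, hsub⟩ := dense_fibre h hYi (hfin.subset (Set.image_subset_range _ _)) hc
    exact ⟨U, hU, hne, fun a ha b hb => (hsub ha).trans (hsub hb).symm⟩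
  · intro hh
    refine ⟨fun t => ?_, finite_range_of_locConst h hh⟩
    rw [constructible_criterion]
    intro Y hY hYi
    obtain ⟨U, hU, ⟨a, ha⟩, hconst⟩ := hh Y hY hYi
    by_cases hat : h a = t
    · exact Or.inr ⟨U, hU, ⟨a, ha⟩, fun y hy => (hconst y hy a ha).trans hat⟩
    · refine Or.inl (nowhereDense_trace hY hYi fun hd => ?_)
      obtain ⟨y, hyU, hyt, hyY⟩ := mem_closure_iff.1 (hd ha.2) U hU ha.1
      exact hat ((hconst a ha y ⟨hyU, hyY⟩).trans hyt)

theorem finite_range_sober [QuasiSober X] {T : Type v} (h : X → T)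
    (hfib : ∀ t, IsConstructible (h ⁻¹' {t})) : (Set.range h).Finite := by
  refine finite_range_of_locConst h fun Y hY hYi => ?_
  obtain ⟨ξ, hξ⟩ := QuasiSober.sober hYi hY
  obtain ⟨U, hU, hne, hsub⟩ := constructible_dense (hfib (h ξ)) hYi
    (hξ.symm.subset.trans (closure_mono (Set.singleton_subset_iff.2 ⟨rfl, hξ.mem⟩)))
  exact ⟨U, hU, hne, fun a ha b hb => (hsub ha).trans (hsub hb).symm⟩

theorem usc_iff [QuasiSober X] {T : Type v} [LinearOrder T] (h : X → T)
    (hc : (∀ t, IsConstructible (h ⁻¹' {t})) ∧ (Set.range h).Finite) :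
    UpperSemicontinuous h ↔ ∀ x x' : X, x' ⤳ x → h x' ≤ h x := by
  rw [upperSemicontinuous_iff_isOpen_preimage]
  constructor
  · intro ho x x' hsp
    by_contra hlt
    exact lt_irrefl _ (hsp.mem_open (ho (h x')) (not_le.1 hlt) : h x' < h x')
  · intro hh t
    refine isOpen_of_stable ?_ fun a b hab ha => lt_of_le_of_lt (hh a b hab) ha
    have : h ⁻¹' Set.Iio t = ⋃ s ∈ Set.range h ∩ Set.Iio t, h ⁻¹' {s} := by
      ext x; simp
    rw [this]
    exact IsConstructible.biUnion (hc.2.inter_of_left _) fun s _ => hc.1 s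

theorem directed_cover {ι : Type v} [Preorder ι] [IsDirected ι (· ≤ ·)] [Nonempty ι]
    (E : ι → Set X) (hmono : Monotone E) (hE : ∀ a, IsConstructible (E a))
    (hcov : ⋃ a, E a = Set.univ)
    (hirr : ∀ Y : Set X, IsClosed Y → IsIrreducible Y → ∃ a, Y ⊆ closure (E a ∩ Y)) :
    ∃ a, E a = Set.univ := by
  have key : ∀ Y : Set X, IsClosed Y → ∃ a, Y ⊆ E a := by
    refine closed_induction (fun Y hY hYi ih => ?_) (fun A B _ _ hA hB => ?_) ⟨Classical.arbitrary ι, Set.empty_subset _⟩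
    · obtain ⟨a, ha⟩ := hirr Y hY hYi
      obtain ⟨U, hU, hne, hsub⟩ := constructible_dense (hE a) hYi ha
      obtain ⟨b, hb⟩ := ih _ (hY.sdiff hU) (diff_ssubset hne)
      obtain ⟨c, hac, hbc⟩ := exists_ge_ge a b
      refine ⟨c, fun y hy => ?_⟩
      by_cases hyU : y ∈ U
      · exact hmono hac (hsub ⟨hyU, hy⟩)
      · exact hmono hbc (hb ⟨hy, hyU⟩)
    · obtain ⟨a, ha⟩ := hA
      obtain ⟨b, hb⟩ := hB
      obtain ⟨c, hac, hbc⟩ := exists_ge_ge a b
      exact ⟨c, Set.union_subset (ha.trans (hmono hac)) (hb.trans (hmono hbc))⟩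
  obtain ⟨a, ha⟩ := key Set.univ isClosed_univ
  exact ⟨a, Set.univ_subset_iff.1 ha⟩

theorem directed_cover_sober [QuasiSober X] {ι : Type v} [Preorder ι] [IsDirected ι (· ≤ ·)]
    [Nonempty ι] (E : ι → Set X) (hmono : Monotone E) (hE : ∀ a, IsConstructible (E a))
    (hcov : ⋃ a, E a = Set.univ) : ∃ a, E a = Set.univ := by
  refine directed_cover E hmono hE hcov fun Y hY hYi => ?_
  obtain ⟨ξ, hξ⟩ := QuasiSober.sober hYi hY
  obtain ⟨a, ha⟩ := Set.mem_iUnion.1 (hcov.symm.subset (Set.mem_univ ξ))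
  exact ⟨a, hξ.symm.subset.trans (closure_mono (Set.singleton_subset_iff.2 ⟨ha, hξ.mem⟩))⟩

end Noeth

theorem closedMap_lc {X Y : Type u} [TopologicalSpace X] [TopologicalSpace Y]
    (f : X → Y) (hf : Continuous f) (hc : IsClosedMap f) (hs : Function.Surjective f) (T : Set Y) :
    closure T = f '' closure (f ⁻¹' T) ∧ (IsLocallyClosed T ↔ IsLocallyClosed (f ⁻¹' T)) := by
  have h1 : closure T = f '' closure (f ⁻¹' T) := by
    rw [← hc.closure_image_eq_of_continuous hf, Set.image_preimage_eq T hs]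
  refine ⟨h1, fun h => h.preimage hf, fun h => ?_⟩
  rw [isLocallyClosed_iff_isOpen_coborder, coborder, isOpen_compl_iff] at h ⊢
  have : closure T \ T = f '' (closure (f ⁻¹' T) \ f ⁻¹' T) := by
    rw [h1]; ext y; constructor
    · rintro ⟨⟨x, hx, rfl⟩, hy⟩; exact ⟨x, ⟨hx, hy⟩, rfl⟩
    · rintro ⟨x, ⟨hx, hxT⟩, rfl⟩; exact ⟨⟨x, hx, rfl⟩, hxT⟩
  rw [this]
  exact hc _ h

theorem components {n : ℕ} (Z : Fin n → Set X) (hZ : ∀ i, IsIrreducible (Z i) ∧ IsClosed (Z i))
    (hcov : ⋃ i, Z i = Set.univ) (hirr : ∀ i, ¬ Z i ⊆ ⋃ j ∈ ({i}ᶜ : Set (Fin n)), Z j) :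
    irreducibleComponents X = Set.range Z := by
  classical
  have hsub : ∀ S : Set X, IsIrreducible S → ∃ i, S ⊆ Z i := by
    intro S hS
    obtain ⟨t, ht, hSt⟩ := isIrreducible_iff_sUnion_isClosed.1 hS (Finset.univ.image Z)
      (by simp only [Finset.mem_image, Finset.mem_univ, true_and]; rintro _ ⟨i, rfl⟩; exact (hZ i).2)
      (by simp [hcov])
    simp only [Finset.mem_image, Finset.mem_univ, true_and] at ht
    obtain ⟨i, rfl⟩ := ht
    exact ⟨i, hSt⟩
  have hij : ∀ i j, Z i ⊆ Z j → i = j := fun i j h => by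
    by_contra hne
    exact hirr i (h.trans (Set.subset_biUnion_of_mem (u := fun j => Z j) (Ne.symm hne : j ≠ i)))
  have hmax : ∀ i, Maximal IsIrreducible (Z i) := fun i => ⟨(hZ i).1, fun S hS hle => by
    obtain ⟨j, hj⟩ := hsub S hS
    exact hij i j (hle.trans hj) ▸ hj⟩
  ext S; constructor
  · intro hS
    obtain ⟨i, hi⟩ := hsub S hS.1
    exact ⟨i, hi.antisymm' (hS.2 (hZ i).1 hi)⟩
  · rintro ⟨i, rfl⟩; exact hmax i

end Groth.Agent.H5Top
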