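import Mathlib
import Groth.Agent.Lib.H5TopBasics
set_option autoImplicit false
universe u v w
open Topology TopologicalSpace

namespace Groth.Agent.H5Top
variable {X : Type u} [TopologicalSpace X]

/-- closed in the constructible topology -/
abbrev PClosed (s : Set X) : Prop := @IsClosed X (constructibleTopology X) s
abbrev POpen (s : Set X) : Prop := @IsOpen X (constructibleTopology X) s

theorem patch_le [PrespectralSpace X] : constructibleTopology X ≤ ‹TopologicalSpace X› := by
  intro s hs
  obtain ⟨S, hS, rfl⟩ := PrespectralSpace.isTopologicalBasis.open_eq_sUnion hs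
  exact @isOpen_sUnion X (constructibleTopology X) S fun W hW =>
    (hS hW).2.isOpen_constructibleTopology_of_isOpen (hS hW).1

theorem pclosed_of_isClosed [PrespectralSpace X] {s : Set X} (h : IsClosed s) : PClosed s := h.mono patch_le
theorem popen_of_isOpen [PrespectralSpace X] {s : Set X} (h : IsOpen s) : POpen s := h.mono patch_le

theorem popen_compactOpen {U : Set X} (hU : IsOpen U) (hc : IsCompact U) : POpen U :=
  hc.isOpen_constructibleTopology_of_isOpen hU

theorem pclosed_compactOpen {U : Set X} (hU : IsOpen U) (hc : IsCompact U) : PClosed U :=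
  @IsClosed.mk X (constructibleTopology X) U
    (IsCompact.isOpen_constructibleTopology_of_isClosed (by rwa [compl_compl]) hU.isClosed_compl)

section spectralish
variable [CompactSpace X] [QuasiSober X] [PrespectralSpace X] [QuasiSeparatedSpace X]

theorem patch_compactSpace : @CompactSpace X (constructibleTopology X) := by
  letI ins : TopologicalSpace X := constructibleTopology X
  refine ⟨?_⟩
  have h := (isCompact_univ (X := WithTopology X ins)).image (WithTopology.continuous_ofTopology ins)
  rwa [Set.image_univ, Set.range_eq_univ.2 (WithTopology.ofTopology_surjective ins)] at h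

theorem patch_iInter_nonempty {ι : Type w} (K : ι → Set X) (hK : ∀ i, PClosed (K i))
    (h : ∀ s : Finset ι, (⋂ i ∈ s, K i).Nonempty) : (⋂ i, K i).Nonempty := by
  have := @CompactSpace.isCompact_univ X (constructibleTopology X) patch_compactSpace
  by_contra hc
  rw [Set.not_nonempty_iff_eq_empty] at hc
  obtain ⟨s, hs⟩ := @IsCompact.elim_finite_subfamily_closed X (constructibleTopology X) _ ι this K hK
    (by rw [Set.univ_inter]; exact hc)
  exact (h s).ne_empty (by rwa [Set.univ_inter] at hs)

theorem isCompact_of_pclosed {E : Set X} (hE : PClosed E) : IsCompact E := by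
  have h1 : @IsCompact X (constructibleTopology X) E :=
    @IsClosed.isCompact X (constructibleTopology X) E patch_compactSpace hE
  simpa using @IsCompact.image X X (constructibleTopology X) _ E id h1 (continuous_id_of_le patch_le)

theorem isClopen_of_isConstructible {E : Set X} (hE : IsConstructible E) : PClosed E ∧ POpen E := by
  induction hE using IsConstructible.empty_union_induction with
  | open_retrocompact U hUo hUc => exact ⟨pclosed_compactOpen hUo hUc.isCompact, popen_of_isOpen hUo⟩
  | union s _ t _ hs ht => exact ⟨@IsClosed.union X s t (constructibleTopology X) hs.1 ht.1,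
      @IsOpen.union X s t (constructibleTopology X) hs.2 ht.2⟩
  | compl s _ hs => exact ⟨@IsOpen.isClosed_compl X (constructibleTopology X) s hs.2,
      (@isOpen_compl_iff X s (constructibleTopology X)).2 hs.1⟩

theorem exists_specializes {E : Set X} (hE : PClosed E) {x : X} (hx : x ∈ closure E) :
    ∃ e ∈ E, e ⤳ x := by
  let I := {W : Set X // IsOpen W ∧ IsCompact W ∧ x ∈ W}
  obtain ⟨e, he⟩ := patch_iInter_nonempty (fun o : Option I => o.elim E (fun i => i.1))
    (by rintro (_ | i); exacts [hE, pclosed_compactOpen i.2.1 i.2.2.1]) (by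
      intro s
      classical
      have : ∃ W : Set X, IsOpen W ∧ x ∈ W ∧ W ∩ E ⊆ ⋂ o ∈ s, o.elim E (fun i : I => i.1) := by
        induction s using Finset.induction_on with
        | empty => exact ⟨Set.univ, isOpen_univ, trivial, by simp⟩
        | insert o s _ ih =>
          obtain ⟨W, hW, hxW, hsub⟩ := ih
          cases o with
          | none => exact ⟨W, hW, hxW, by rw [Finset.set_biInter_insert]; exact fun y hy => ⟨hy.2, hsub hy⟩⟩
          | some i => exact ⟨W ∩ i.1, hW.inter i.2.1, ⟨hxW, i.2.2.2⟩, by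
              rw [Finset.set_biInter_insert]; exact fun y hy => ⟨hy.1.2, hsub ⟨hy.1.1, hy.2⟩⟩⟩
      obtain ⟨W, hW, hxW, hsub⟩ := this
      exact (mem_closure_iff.1 hx W hW hxW).mono hsub)
  rw [Set.mem_iInter] at he
  refine ⟨e, he none, ?_⟩
  rw [PrespectralSpace.isTopologicalBasis.nhds_hasBasis.specializes_iff]
  exact fun W hW => he (some ⟨W, hW.1.1, hW.1.2, hW.2⟩)

theorem isClosed_of_pclosed {E : Set X} (hE : PClosed E) (hs : StableUnderSpecialization E) : IsClosed E :=
  isClosed_of_closure_subset fun _ hx => let ⟨_, he, hsp⟩ := exists_specializes hE hx; hs hsp he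

theorem isOpen_of_popen {E : Set X} (hE : POpen E) (hs : StableUnderGeneralization E) : IsOpen E :=
  isClosed_compl_iff.1 (isClosed_of_pclosed (@IsOpen.isClosed_compl X (constructibleTopology X) E hE) hs.compl)

theorem nhds_of_iInter {I : Type v} [Nonempty I] (U : I → Set X) (hU : ∀ i, IsOpen (U i) ∧ IsCompact (U i))
    (hdir : ∀ i j, ∃ k, U k ⊆ U i ∩ U j) :
    ∀ V : Set X, IsOpen V → (⋂ i, U i) ⊆ V → ∃ i, U i ⊆ V := by
  intro V hV hsub
  by_contra hne
  push Not at hne
  have hfin : ∀ s : Finset I, ∃ k, U k ⊆ ⋂ i ∈ s, U i := by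
    classical
    intro s
    induction s using Finset.induction_on with
    | empty => exact ⟨Classical.arbitrary I, by simp⟩
    | insert a s _ ih =>
      obtain ⟨k, hk⟩ := ih
      obtain ⟨m, hm⟩ := hdir a k
      exact ⟨m, by rw [Finset.set_biInter_insert]; exact fun y hy => ⟨(hm hy).1, hk (hm hy).2⟩⟩
  obtain ⟨y, hy⟩ := patch_iInter_nonempty (fun i => U i ∩ Vᶜ)
    (fun i => @IsClosed.inter X (U i) Vᶜ (constructibleTopology X) (pclosed_compactOpen (hU i).1 (hU i).2)
      (pclosed_of_isClosed hV.isClosed_compl)) (fun s => by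
      obtain ⟨k, hk⟩ := hfin s
      obtain ⟨y, hy, hyV⟩ := Set.not_subset.1 (hne k)
      exact ⟨y, Set.mem_iInter₂.2 fun i hi => ⟨Set.mem_iInter₂.1 (hk hy) i hi, hyV⟩⟩)
  rw [Set.mem_iInter] at hy
  exact (hy (Classical.arbitrary I)).2 (hsub (Set.mem_iInter.2 fun i => (hy i).1))

end spectralish

theorem patch_t2 [SpectralSpace X] : @T2Space X (constructibleTopology X) := by
  refine @T2Space.mk X (constructibleTopology X) fun a b hab => ?_
  obtain ⟨U, hU, hx⟩ := exists_isOpen_xor_mem hab
  have key : ∀ p q : X, p ∈ U → q ∉ U → ∃ A B : Set X, POpen A ∧ POpen B ∧ p ∈ A ∧ q ∈ B ∧ Disjoint A B := by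
    intro p q hp hq
    obtain ⟨W, ⟨hWo, hWc⟩, hpW, hWU⟩ := PrespectralSpace.isTopologicalBasis.exists_subset_of_mem_open hp hU
    exact ⟨W, Wᶜ, popen_compactOpen hWo hWc,
      (@isOpen_compl_iff X W (constructibleTopology X)).2 (pclosed_compactOpen hWo hWc), hpW,
      fun h => hq (hWU h), disjoint_compl_right⟩
  rcases hx with ⟨h1, h2⟩ | ⟨h1, h2⟩
  · exact key a b h1 h2
  · obtain ⟨A, B, hA, hB, hb, ha, hd⟩ := key b a h1 h2
    exact ⟨B, A, hB, hA, ha, hb, hd.symm⟩

theorem isSpectralMap_iff_patch {Y : Type u} [TopologicalSpace Y] [SpectralSpace X] [SpectralSpace Y]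
    (f : X → Y) (hf : Continuous f) :
    IsSpectralMap f ↔ @Continuous X Y (constructibleTopology X) (constructibleTopology Y) f := by
  constructor
  · intro h
    refine continuous_generateFrom_iff.2 ?_
    rintro s (⟨hso, hsc⟩ | ⟨hsc, hsk⟩)
    · exact popen_compactOpen (hso.preimage hf) (h.2 hso hsc)
    · refine IsCompact.isOpen_constructibleTopology_of_isClosed ?_ (hsc.preimage hf)
      rw [← Set.preimage_compl]; exact h.2 hsc.isOpen_compl hsk
  · intro h
    exact ⟨hf, fun s hso hsc => isCompact_of_pclosed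
      (@IsClosed.preimage X Y (constructibleTopology X) (constructibleTopology Y) f h s (pclosed_compactOpen hso hsc))⟩

theorem spectralMap_props {Y : Type u} [TopologicalSpace Y] [SpectralSpace X] [SpectralSpace Y]
    (f : X → Y) (hf : IsSpectralMap f) :
    @Continuous X Y (constructibleTopology X) (constructibleTopology Y) f ∧
    (∀ y : Y, IsCompact (f ⁻¹' {y})) ∧
    @IsClosed Y (constructibleTopology Y) (Set.range f) := by
  have h := (isSpectralMap_iff_patch f hf.continuous).1 hf
  refine ⟨h, fun y => isCompact_of_pclosed ?_, ?_⟩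
  · exact @IsClosed.preimage X Y (constructibleTopology X) (constructibleTopology Y) f h {y}
      (@isClosed_singleton Y (constructibleTopology Y) (@T2Space.t1Space Y (constructibleTopology Y) patch_t2) y)
  · exact @IsCompact.isClosed Y (constructibleTopology Y) patch_t2 _
      (@isCompact_range X Y (constructibleTopology X) (constructibleTopology Y) patch_compactSpace f h)

theorem spectral_subspace [SpectralSpace X] (E : Set X) (hE : PClosed E) : SpectralSpace E := by
  have hc : IsCompact E := isCompact_of_pclosed hE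
  have := isCompact_iff_compactSpace.1 hc
  have hsp : IsSpectralMap (Subtype.val : E → X) := by
    refine ⟨continuous_subtype_val, fun s hso hsc => ?_⟩
    rw [Subtype.isCompact_iff, Subtype.image_preimage_coe]
    exact isCompact_of_pclosed (@IsClosed.inter X E s (constructibleTopology X) hE (pclosed_compactOpen hso hsc))
  have : PrespectralSpace E := .of_isInducing _ IsInducing.subtypeVal hsp
  have : QuasiSeparatedSpace E := by
    refine QuasiSeparatedSpace.of_isTopologicalBasis (b := fun U : {U : Set X // IsOpen U ∧ IsCompact U} =>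
      (Subtype.val ⁻¹' U.1 : Set E)) ?_ (fun U V => ?_)
    · convert (PrespectralSpace.isTopologicalBasis (X := X)).isInducing (IsInducing.subtypeVal (t := E))
      ext s; constructor
      · rintro ⟨U, rfl⟩; exact ⟨U.1, U.2, rfl⟩
      · rintro ⟨U, hU, rfl⟩; exact ⟨⟨U, hU⟩, rfl⟩
    · rw [← Set.preimage_inter]
      exact hsp.2 (U.2.1.inter V.2.1) (U.2.2.inter_of_isOpen V.2.2 U.2.1 V.2.1)
  have : QuasiSober E := by
    refine ⟨fun {Z} hZ hZc => ?_⟩
    have hirr : IsIrreducible (Subtype.val '' Z) := hZ.image _ continuous_subtype_val.continuousOn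
    obtain ⟨ξ, hξ⟩ := QuasiSober.sober hirr.closure isClosed_closure
    obtain ⟨C, hC, rfl⟩ := isClosed_induced_iff.1 hZc
    have hP : PClosed (Subtype.val '' (Subtype.val ⁻¹' C : Set E)) := by
      rw [Subtype.image_preimage_coe]
      exact @IsClosed.inter X E C (constructibleTopology X) hE (pclosed_of_isClosed hC)
    obtain ⟨e, he, hsp⟩ := exists_specializes hP hξ.mem
    have hξe : ξ = e := ((hξ.specializes (subset_closure he)).antisymm hsp).eq
    subst hξe
    obtain ⟨e, heZ, rfl⟩ := he
    refine ⟨e, ?_⟩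
    change closure {e} = _
    rw [IsInducing.subtypeVal.closure_eq_preimage_closure_image, Set.image_singleton, hξ]
    ext y
    constructor
    · intro hy
      have hsub : closure (Subtype.val '' (Subtype.val ⁻¹' C : Set E)) ⊆ C :=
        closure_minimal (by rintro _ ⟨z, hz, rfl⟩; exact hz) hC
      exact hsub hy
    · exact fun hy => subset_closure ⟨y, hy, rfl⟩
  exact { }

theorem spectral_specializing_locus [SpectralSpace X] (E : Set X) (hE : IsConstructible E) :
    SpectralSpace ↥({x : X | ∃ e ∈ E, x ⤳ e} \ E) := by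
  obtain ⟨h1, h2⟩ := isClopen_of_isConstructible hE
  refine spectral_subspace _ (@IsClosed.sdiff X _ _ (constructibleTopology X) ?_ h2)
  have hc := isCompact_of_pclosed h1
  have : {x : X | ∃ e ∈ E, x ⤳ e} = ⋂ U : {U : Set X // IsOpen U ∧ IsCompact U ∧ E ⊆ U}, U.1 := by
    ext x
    simp only [Set.mem_ofPred_eq, Set.mem_iInter]
    constructor
    · rintro ⟨e, he, hxe⟩ U; exact hxe.mem_open U.2.1 (U.2.2.2 he)
    · intro h
      by_contra hne
      push Not at hne
      have : E ⊆ (closure {x})ᶜ := fun e he hex => hne e he (specializes_iff_mem_closure.2 hex)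
      obtain ⟨W, hWc, hWo, hEW, hW⟩ := PrespectralSpace.exists_isCompact_and_isOpen_between hc isClosed_closure.isOpen_compl this
      exact hW (h ⟨W, hWo, hWc, hEW⟩) (subset_closure rfl)
  rw [this]
  exact @isClosed_iInter X _ (constructibleTopology X) _ fun U => pclosed_compactOpen U.2.1 U.2.2.1

theorem bijective_homeo {Y : Type u} [TopologicalSpace Y] [SpectralSpace X] [SpectralSpace Y]
    (f : X → Y) (hf : IsSpectralMap f) (hb : Function.Bijective f)
    (hlift : GeneralizingMap f ∨ SpecializingMap f) : IsHomeomorph f := by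
  refine ⟨hf.continuous, fun U hU => ?_, hb⟩
  obtain ⟨S, hS, rfl⟩ := PrespectralSpace.isTopologicalBasis.open_eq_sUnion hU
  rw [Set.image_sUnion]
  refine isOpen_sUnion ?_
  rintro _ ⟨U, hUS, rfl⟩
  obtain ⟨hUo, hUc⟩ := hS hUS
  refine isOpen_of_popen ?_ ?_
  · have hcl : PClosed (f '' Uᶜ) := @IsCompact.isClosed Y (constructibleTopology Y) patch_t2 _
      (@IsCompact.image X Y (constructibleTopology X) (constructibleTopology Y) _ f
        (@IsClosed.isCompact X (constructibleTopology X) _ patch_compactSpace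
          (pclosed_of_isClosed hUo.isClosed_compl)) ((spectralMap_props f hf).1))
    rw [Set.image_compl_eq hb] at hcl
    simpa using @IsClosed.isOpen_compl Y (constructibleTopology Y) _ hcl
  · rintro y y' hy'y ⟨x, hx, rfl⟩
    obtain ⟨x', rfl⟩ := hb.2 y'
    rcases hlift with hg | hs
    · obtain ⟨z, hz, hfz⟩ := hg hy'y
      exact ⟨z, Specializes.mem_open hz hUo hx, hfz⟩
    · obtain ⟨z, hz, hfz⟩ := hs hy'y
      obtain rfl := hb.1 hfz
      exact ⟨x', Specializes.mem_open hz hUo hx, rfl⟩

theorem spectral_prod (X Y : Type u) [TopologicalSpace X] [TopologicalSpace Y]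
    [SpectralSpace X] [SpectralSpace Y] : SpectralSpace (X × Y) := by
  let b : {p : Set X × Set Y // (IsOpen p.1 ∧ IsCompact p.1) ∧ IsOpen p.2 ∧ IsCompact p.2} → Set (X × Y) :=
    fun p => p.1.1 ×ˢ p.1.2
  have hb : IsTopologicalBasis (Set.range b) := by
    convert (PrespectralSpace.isTopologicalBasis (X := X)).prod (PrespectralSpace.isTopologicalBasis (X := Y))
    ext s; constructor
    · rintro ⟨⟨⟨U, V⟩, hU, hV⟩, rfl⟩; exact ⟨U, hU, V, hV, rfl⟩
    · rintro ⟨U, hU, V, hV, rfl⟩; exact ⟨⟨⟨U, V⟩, hU, hV⟩, rfl⟩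
  have : PrespectralSpace (X × Y) := .of_isTopologicalBasis' hb fun p => p.2.1.2.prod p.2.2.2
  have : QuasiSeparatedSpace (X × Y) := by
    refine QuasiSeparatedSpace.of_isTopologicalBasis hb fun p q => ?_
    simp only [b, Set.prod_inter_prod]
    exact (p.2.1.2.inter_of_isOpen q.2.1.2 p.2.1.1 q.2.1.1).prod (p.2.2.2.inter_of_isOpen q.2.2.2 p.2.2.1 q.2.2.1)
  have : QuasiSober (X × Y) := by
    refine ⟨fun {Z} hZ hZc => ?_⟩
    obtain ⟨ξ, hξ⟩ := QuasiSober.sober (hZ.image Prod.fst continuous_fst.continuousOn).closure isClosed_closure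
    obtain ⟨η, hη⟩ := QuasiSober.sober (hZ.image Prod.snd continuous_snd.continuousOn).closure isClosed_closure
    refine ⟨(ξ, η), subset_antisymm (closure_minimal (Set.singleton_subset_iff.2 ?_) hZc) fun z hz => ?_⟩
    · rw [← hZc.closure_eq, mem_closure_iff_nhds_basis hb.nhds_hasBasis]
      rintro s ⟨⟨p, rfl⟩, hp⟩
      have h1 : (Z ∩ Prod.fst ⁻¹' p.1.1).Nonempty := by
        obtain ⟨_, hy, z, hz, rfl⟩ := mem_closure_iff.1 hξ.mem p.1.1 p.2.1.1 hp.1
        exact ⟨z, hz, hy⟩
      have h2 : (Z ∩ Prod.snd ⁻¹' p.1.2).Nonempty := by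
        obtain ⟨_, hy, z, hz, rfl⟩ := mem_closure_iff.1 hη.mem p.1.2 p.2.2.1 hp.2
        exact ⟨z, hz, hy⟩
      obtain ⟨z, hz, hzp⟩ := hZ.2 _ _ (p.2.1.1.preimage continuous_fst) (p.2.2.1.preimage continuous_snd) h1 h2
      exact ⟨z, hz, hzp⟩
    · rw [← specializes_iff_mem_closure]
      exact (hξ.specializes (subset_closure ⟨z, hz, rfl⟩)).prod (hη.specializes (subset_closure ⟨z, hz, rfl⟩))
  exact { }

/-! constructible subsets and subspaces -/

theorem exists_compactOpen_trace [PrespectralSpace X] {T : Set X} {V : Set T} (hVo : IsOpen V) (hVc : IsCompact V) :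
    ∃ W : Set X, IsOpen W ∧ IsCompact W ∧ Subtype.val ⁻¹' W = V := by
  obtain ⟨O, hO, rfl⟩ := isOpen_induced_iff.1 hVo
  obtain ⟨W, hWc, hWo, hsub, hWO⟩ := PrespectralSpace.exists_isCompact_and_isOpen_between
    (hVc.image continuous_subtype_val) hO (Set.image_preimage_subset _ _)
  exact ⟨W, hWo, hWc, subset_antisymm (Set.preimage_mono hWO) fun y hy => hsub ⟨y, hy, rfl⟩⟩

theorem retrocompact_trace [PrespectralSpace X] {T s : Set X} (hT : IsRetrocompact T)
    (hso : IsOpen s) (hs : IsRetrocompact s) : IsRetrocompact (Subtype.val ⁻¹' s : Set T) := by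
  intro V hVc hVo
  obtain ⟨W, hWo, hWc, rfl⟩ := exists_compactOpen_trace hVo hVc
  rw [← Set.preimage_inter, Subtype.isCompact_iff, Subtype.image_preimage_coe]
  exact hT (hs hWc hWo) (hso.inter hWo)

theorem constructible_trace [PrespectralSpace X] (T : Set X) (hT : IsRetrocompact T) (E : Set X)
    (hE : IsConstructible E) : IsConstructible ((Subtype.val : T → X) ⁻¹' E) :=
  hE.preimage continuous_subtype_val fun _ hso hs => retrocompact_trace hT hso hs

theorem constructible_image [PrespectralSpace X] (E : Set X) (hE : IsConstructible E) (F : Set E)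
    (hF : IsConstructible F) : IsConstructible ((Subtype.val : E → X) '' F) := by
  induction hF using IsConstructible.empty_union_induction with
  | open_retrocompact F hFo hFc =>
    suffices ∀ L : Set X, IsConstructible L → L ⊆ E → IsConstructible (Subtype.val '' F ∩ L) by
      have h := this E hE subset_rfl
      rwa [Set.inter_eq_left.2 (Subtype.coe_image_subset E F)] at h
    intro L hL
    induction L, hL using BooleanSubalgebra.closure_sdiff_sup_induction with
    | isSublattice =>
      exact ⟨fun s hs t ht ↦ ⟨hs.1.union ht.1, hs.2.union ht.2⟩,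
        fun s hs t ht ↦ ⟨hs.1.inter ht.1, hs.2.inter_isOpen ht.2 ht.1⟩⟩
    | bot_mem => exact ⟨isOpen_empty, .empty⟩
    | top_mem => exact ⟨isOpen_univ, .univ⟩
    | sup s _ t _ hs' ht' =>
      intro hst
      change IsConstructible (_ ∩ (s ∪ t))
      rw [Set.inter_union_distrib_left]
      exact (hs' (Set.union_subset_iff.1 hst).1).union (ht' (Set.union_subset_iff.1 hst).2)
    | sdiff U hU V hV =>
      intro hsub
      obtain ⟨O, hO, rfl⟩ := isOpen_induced_iff.1 hFo
      rw [Subtype.image_preimage_coe]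
      have e1 : E ∩ O ∩ (U \ V) = Subtype.val '' (Subtype.val ⁻¹' (O ∩ (U \ V)) : Set U) := by
        rw [Subtype.image_preimage_coe]
        ext x; constructor
        · exact fun hx => ⟨hx.2.1, hx.1.2, hx.2⟩
        · exact fun hx => ⟨⟨hsub hx.2.2, hx.2.1⟩, hx.2.2⟩
      rw [e1]
      refine IsConstructible.image_of_isOpenEmbedding hU.1.isOpenEmbedding_subtypeVal (by simpa using hU.2) ?_
      set ι : ↥(U \ V) → U := Set.inclusion Set.sdiff_subset
      have hι : IsClosedEmbedding ι :=
        ⟨IsEmbedding.inclusion _, by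
          have hr : Set.range ι = (Subtype.val ⁻¹' Vᶜ : Set U) := by
            rw [Set.range_inclusion]; ext x; exact ⟨fun h => h.2, fun h => ⟨x.2, h⟩⟩
          rw [hr]; exact (isClosed_compl_iff.2 hV.1).preimage continuous_subtype_val⟩
      have e2 : (Subtype.val ⁻¹' (O ∩ (U \ V)) : Set U) = ι '' (Subtype.val ⁻¹' O : Set ↥(U \ V)) := by
        ext ⟨x, hx⟩; constructor
        · exact fun h => ⟨⟨x, h.2⟩, h.1, rfl⟩
        · rintro ⟨⟨y, hy⟩, hyO, heq⟩
          obtain rfl : y = x := congrArg Subtype.val heq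
          exact ⟨hyO, hy⟩
      rw [e2]
      refine IsConstructible.image_of_isClosedEmbedding hι ?_ ?_
      · have e3 : (Set.range ι)ᶜ = (Subtype.val ⁻¹' V : Set U) := by
          ext ⟨x, hx⟩
          simp [ι, Set.range_inclusion, hx]
        rw [e3]
        exact retrocompact_trace hU.2 hV.1 hV.2
      · refine IsRetrocompact.isConstructible (hO.preimage continuous_subtype_val) ?_
        intro W hWc hWo
        obtain ⟨W', hW'o, hW'c, rfl⟩ := exists_compactOpen_trace hWo hWc
        rw [← Set.preimage_inter, Subtype.isCompact_iff, Subtype.image_preimage_coe]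
        have hEW : IsCompact (Subtype.val ⁻¹' W' : Set E) := by
          rw [Subtype.isCompact_iff, Subtype.image_preimage_coe]
          exact Groth.Agent.H5Top.isRetrocompact_of_isConstructible hE hW'c hW'o
        have h1 := (hFc hEW (hW'o.preimage continuous_subtype_val)).image continuous_subtype_val
        rw [← Set.preimage_inter, Subtype.image_preimage_coe] at h1
        have h2 : IsCompact ((E ∩ (O ∩ W')) ∩ U ∩ Vᶜ) := by
          obtain ⟨W'', hW''c, hW''o, hsub', hW''⟩ := PrespectralSpace.exists_isCompact_and_isOpen_between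
            h1 (hO.inter hW'o) Set.inter_subset_right
          have : E ∩ (O ∩ W') = E ∩ W'' := subset_antisymm (fun x hx => ⟨hx.1, hsub' hx⟩) fun x hx => ⟨hx.1, hW'' hx.2⟩
          rw [this, Set.inter_assoc E W'' U, Set.inter_comm W'' U]
          exact (Groth.Agent.H5Top.isRetrocompact_of_isConstructible hE (hU.2 hW''c hW''o) (hU.1.inter hW''o)).inter_right hV.1.isClosed_compl
        convert h2 using 1
        ext x; constructor
        · exact fun hx => ⟨⟨⟨hsub hx.1, hx.2⟩, hx.1.1⟩, hx.1.2⟩
        · exact fun hx => ⟨⟨hx.1.2, hx.2⟩, hx.1.1.2⟩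
  | union s _ t _ hs ht => rw [Set.image_union]; exact hs.union ht
  | compl s _ hs =>
    rw [Set.compl_eq_univ_sdiff, Set.image_sdiff Subtype.val_injective, Set.image_univ, Subtype.range_coe]
    exact hE.sdiff hs

theorem constructible_glue [PrespectralSpace X] {m : ℕ} (C : Fin m → Set X) (hC : ∀ j, IsConstructible (C j))
    (hcov : ⋃ j, C j = Set.univ) (E : Set X) :
    IsConstructible E ↔ ∀ j, IsConstructible ((Subtype.val : C j → X) ⁻¹' E) := by
  refine ⟨fun hE j => constructible_trace _ (Groth.Agent.H5Top.isRetrocompact_of_isConstructible (hC j)) _ hE, fun h => ?_⟩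
  have : E = ⋃ j, Subtype.val '' ((Subtype.val : C j → X) ⁻¹' E) := by
    simp only [Subtype.image_preimage_coe]
    rw [← Set.iUnion_inter, hcov, Set.univ_inter]
  rw [this]
  exact IsConstructible.iUnion fun j => constructible_image _ (hC j) _ (h j)

theorem constructible_of_locallyClosed [CompactSpace X] [PrespectralSpace X] [QuasiSeparatedSpace X]
    (T : Set X) (hT : IsLocallyClosed T) (hTc : IsCompact T) (hTr : IsRetrocompact Tᶜ) : IsConstructible T := by
  obtain ⟨U, C, hU, hC, rfl⟩ := hT
  obtain ⟨W, hWc, hWo, hTW, hWU⟩ := PrespectralSpace.exists_isCompact_and_isOpen_between hTc hU Set.inter_subset_left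
  have e : (U ∩ C)ᶜ ∩ W = W \ C := by
    ext x; constructor
    · exact fun hx => ⟨hx.2, fun hxC => hx.1 ⟨hWU hx.2, hxC⟩⟩
    · exact fun hx => ⟨fun h => hx.2 h.2, hx.1⟩
  have h1 := hTr hWc hWo
  rw [e] at h1
  have e2 : U ∩ C = W \ (W \ C) := by
    ext x; constructor
    · exact fun hx => ⟨hTW hx, fun h => h.2 hx.2⟩
    · exact fun hx => ⟨hWU hx.1, by_contra fun h => hx.2 ⟨hx.1, h⟩⟩
  rw [e2]
  exact (hWc.isConstructible hWo).sdiff (h1.isConstructible (hWo.sdiff hC))

theorem locallyConstructible_retrocompact {B : Set (Set X)} (hB : IsTopologicalBasis B)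
    (hBr : ∀ U ∈ B, IsRetrocompact U) {T : Set X} (hT : IsLocallyConstructible T) : IsRetrocompact T := by
  intro W hWc hWo
  have : ∀ x ∈ W, ∃ b, IsOpen b ∧ x ∈ b ∧ b ⊆ W ∧ IsCompact (T ∩ b) := by
    intro x hx
    obtain ⟨U, hUx, hUo, hUT⟩ := hT x
    obtain ⟨b, hb, hxb, hbsub⟩ := hB.exists_subset_of_mem_open (show x ∈ W ∩ U from ⟨hx, mem_of_mem_nhds hUx⟩) (hWo.inter hUo)
    refine ⟨b, hB.isOpen hb, hxb, fun y hy => (hbsub hy).1, ?_⟩
    have hbc : IsCompact b := by
      have := hBr b hb hWc hWo
      rwa [Set.inter_eq_left.2 (fun y hy => (hbsub hy).1)] at this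
    have hbU : IsCompact (Subtype.val ⁻¹' b : Set U) := by
      rw [Subtype.isCompact_iff, Subtype.image_preimage_coe, Set.inter_eq_right.2 (fun y hy => (hbsub hy).2)]
      exact hbc
    have h2 := (Groth.Agent.H5Top.isRetrocompact_of_isConstructible hUT hbU ((hB.isOpen hb).preimage continuous_subtype_val)).image continuous_subtype_val
    rwa [← Set.preimage_inter, Subtype.image_preimage_coe, Set.inter_eq_right.2 (fun y hy => (hbsub hy.2).2)] at h2
  choose! b hbo hxb hbW hbT using this
  obtain ⟨s, hsW, hs⟩ := hWc.elim_nhds_subcover b fun x hx => (hbo x hx).mem_nhds (hxb x hx)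
  have : T ∩ W = ⋃ x ∈ s, T ∩ b x := by
    rw [← Set.inter_iUnion₂]
    exact subset_antisymm (Set.inter_subset_inter_right _ hs) (Set.inter_subset_inter_right _ (Set.iUnion₂_subset fun x hx => hbW x (hsW x hx)))
  rw [this]
  exact s.finite_toSet.isCompact_biUnion fun x hx => hbT x (hsW x hx)

theorem quotient_profinite {A : Type u} [AddCommGroup A] [TopologicalSpace A]
    [IsTopologicalAddGroup A] [CompactSpace A] [T2Space A] [TotallyDisconnectedSpace A]
    (B : AddSubgroup A) (hB : IsCompact (B : Set A)) :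
    CompactSpace (A ⧸ B) ∧ T2Space (A ⧸ B) ∧ TotallyDisconnectedSpace (A ⧸ B) := by
  have : IsClosed (B : Set A) := hB.isClosed
  have : NonarchimedeanAddGroup (A ⧸ B) := by
    refine ⟨fun U hU => ?_⟩
    have hc := QuotientAddGroup.continuous_mk (N := B)
    have hU' : ((↑) : A → A ⧸ B) ⁻¹' U ∈ nhds (0 : A) := hc.continuousAt.preimage_mem_nhds hU
    obtain ⟨V, hV, hV0, hVsub⟩ := compact_exists_isClopen_in_isOpen (isOpen_interior) (mem_interior_iff_mem_nhds.2 hU')
    obtain ⟨H, hH⟩ := IsTopologicalAddGroup.exist_openAddSubgroup_sub_clopen_nhds_of_zero hV hV0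
    refine ⟨⟨(H : AddSubgroup A).map (QuotientAddGroup.mk' B), QuotientAddGroup.isOpenMap_coe _ H.isOpen⟩, ?_⟩
    rintro _ ⟨a, ha, rfl⟩
    exact (interior_subset (hVsub (hH ha)) :)
  exact ⟨inferInstance, inferInstance, inferInstance⟩

theorem char_finiteIndex {B : Type u} [AddCommGroup B] [TopologicalSpace B] [IsTopologicalAddGroup B]
    (hcg : ∃ K : Set B, IsCompact K ∧ AddSubgroup.closure K = ⊤)
    (χ : B →+ ℚ ⧸ AddSubgroup.zmultiples (1 : ℚ)) (hχ : IsOpen (χ.ker : Set B)) : χ.ker.FiniteIndex := by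
  obtain ⟨K, hK, hgen⟩ := hcg
  obtain ⟨s, hs⟩ := hK.elim_finite_subcover (fun b : B => (fun y => y - b) ⁻¹' (χ.ker : Set B))
    (fun b => hχ.preimage (continuous_id.sub continuous_const))
    (fun x _ => Set.mem_iUnion.2 ⟨x, by simp⟩)
  have htors : ∀ q : ℚ ⧸ AddSubgroup.zmultiples (1 : ℚ), IsOfFinAddOrder q := by
    intro q
    obtain ⟨r, rfl⟩ := QuotientAddGroup.mk_surjective q
    refine isOfFinAddOrder_iff_nsmul_eq_zero.2 ⟨r.den, r.den_pos, ?_⟩
    rw [← QuotientAddGroup.mk_nsmul, QuotientAddGroup.eq_zero_iff, nsmul_eq_mul]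
    exact ⟨r.num, by simp [mul_comm, Rat.mul_den_eq_num]⟩
  have hfg : χ.range = AddSubgroup.closure (χ '' ↑s) := by
    refine le_antisymm ?_ ((AddSubgroup.closure_le _).2 fun _ ⟨b, _, h⟩ => ⟨b, h⟩)
    rw [AddMonoidHom.range_eq_map, ← hgen, AddMonoidHom.map_closure, AddSubgroup.closure_le]
    rintro _ ⟨x, hx, rfl⟩
    obtain ⟨b, hb, hxb⟩ := Set.mem_iUnion₂.1 (hs hx)
    have : χ x = χ b := sub_eq_zero.1 (by rw [← map_sub]; exact hxb)
    rw [this]
    exact AddSubgroup.subset_closure ⟨b, hb, rfl⟩
  have : Finite χ.range := by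
    have : AddGroup.FG χ.range := (AddGroup.fg_iff_addSubgroup_fg _).2 ⟨s.image χ, by rw [hfg, Finset.coe_image]⟩
    refine AddCommGroup.finite_of_fg_isAddTorsion _ fun q => ?_
    exact (isOfFinAddOrder_iff_nsmul_eq_zero.2 (by obtain ⟨n, hn, h⟩ := isOfFinAddOrder_iff_nsmul_eq_zero.1 (htors q.1); exact ⟨n, hn, Subtype.ext (by simpa using h)⟩))
  have : Finite (B ⧸ χ.ker) := Finite.of_equiv _ (QuotientAddGroup.quotientKerEquivRange χ).symm.toEquiv
  exact AddSubgroup.finiteIndex_of_finite_quotient

end Groth.Agent.H5Top
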