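import Mathlib
set_option autoImplicit false
universe u v w
open Topology TopologicalSpace

namespace Groth.Agent.H5Top
variable {X : Type u} [TopologicalSpace X]

theorem isClopen_constructible_of_compactOpen {U : Set X} (hU : IsOpen U) (hc : IsCompact U) :
    @IsClosed X (constructibleTopology X) U ∧ @IsOpen X (constructibleTopology X) U :=
  ⟨@IsClosed.mk X (constructibleTopology X) U
    (IsCompact.isOpen_constructibleTopology_of_isClosed (by rwa [compl_compl]) hU.isClosed_compl),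
    hc.isOpen_constructibleTopology_of_isOpen hU⟩

theorem t2_totDisc (X : Type u) [TopologicalSpace X] [SpectralSpace X] :
    T2Space (WithConstructibleTopology X) ∧ TotallyDisconnectedSpace (WithConstructibleTopology X) := by
  have : TotallySeparatedSpace (WithConstructibleTopology X) := by
    rw [totallySeparatedSpace_iff_exists_isClopen]
    intro a b hab
    have hne : WithTopology.ofTopology a ≠ WithTopology.ofTopology b := fun h => hab (by cases a; cases b; cases h; rfl)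
    obtain ⟨U, hU, hx⟩ := exists_isOpen_xor_mem hne
    have key : ∀ p q : WithConstructibleTopology X, WithTopology.ofTopology p ∈ U →
        WithTopology.ofTopology q ∉ U → ∃ V : Set (WithConstructibleTopology X), IsClopen V ∧ p ∈ V ∧ q ∉ V := by
      intro p q hp hq
      obtain ⟨W, ⟨hWo, hWc⟩, hpW, hWU⟩ := PrespectralSpace.isTopologicalBasis.exists_subset_of_mem_open hp hU
      refine ⟨WithTopology.ofTopology ⁻¹' W, ⟨?_, ?_⟩, hpW, fun h => hq (hWU h)⟩
      · rw [WithConstructibleTopology.isClosed_iff]; exact (isClopen_constructible_of_compactOpen hWo hWc).1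
      · rw [WithConstructibleTopology.isOpen_iff]; exact (isClopen_constructible_of_compactOpen hWo hWc).2
    rcases hx with ⟨h1, h2⟩ | ⟨h1, h2⟩
    · obtain ⟨V, hV, ha, hb⟩ := key a b h1 h2
      exact ⟨V, hV, ha, hb⟩
    · obtain ⟨V, hV, ha, hb⟩ := key b a h1 h2
      exact ⟨Vᶜ, hV.compl, hb, not_not_intro ha⟩
  exact ⟨inferInstance, inferInstance⟩

theorem exists_generization_or_disjoint [SpectralSpace X] (x y : X) :
    (∃ z : X, z ⤳ x ∧ z ⤳ y) ∨
    (∃ U V : Set X, IsOpen U ∧ IsOpen V ∧ x ∈ U ∧ y ∈ V ∧ Disjoint U V) := by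
  refine or_iff_not_imp_right.2 fun h => ?_
  let I := {W : Set X // IsOpen W ∧ IsCompact W ∧ (x ∈ W ∨ y ∈ W)}
  let K : I → Set (WithConstructibleTopology X) := fun i => WithTopology.ofTopology ⁻¹' i.1
  have hcl : ∀ i, IsClosed (K i) := fun i => by
    rw [WithConstructibleTopology.isClosed_iff]
    exact (isClopen_constructible_of_compactOpen i.2.1 i.2.2.1).1
  have hfin : ∀ s : Finset I, (⋂ i ∈ s, K i).Nonempty := by
    classical
    intro s
    let A : Set X := ⋂ i ∈ s.filter (fun i => x ∈ i.1), i.1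
    let B : Set X := ⋂ i ∈ s.filter (fun i => x ∉ i.1), i.1
    have hA : IsOpen A := isOpen_biInter_finset fun i _ => i.2.1
    have hB : IsOpen B := isOpen_biInter_finset fun i _ => i.2.1
    have hxA : x ∈ A := by simp [A]
    have hyB : y ∈ B := by
      simp only [B, Set.mem_iInter, Finset.mem_filter]
      exact fun i hi => i.2.2.2.resolve_left hi.2
    have hne : (A ∩ B).Nonempty := by
      rw [← Set.not_disjoint_iff_nonempty_inter]
      exact fun hd => h ⟨A, B, hA, hB, hxA, hyB, hd⟩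
    obtain ⟨z, hzA, hzB⟩ := hne
    refine ⟨WithTopology.toTopology _ z, ?_⟩
    simp only [A, B, Set.mem_iInter, Finset.mem_filter] at hzA hzB
    simp only [Set.mem_iInter, K, Set.mem_preimage]
    intro i hi
    by_cases hxi : x ∈ i.1
    · exact hzA i ⟨hi, hxi⟩
    · exact hzB i ⟨hi, hxi⟩
  have hne : (⋂ i, K i).Nonempty := by
    by_contra hc
    rw [Set.not_nonempty_iff_eq_empty] at hc
    obtain ⟨s, hs⟩ := (isCompact_univ (X := WithConstructibleTopology X)).elim_finite_subfamily_closed K hcl (by rw [Set.univ_inter]; exact hc)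
    exact (hfin s).ne_empty (by rwa [Set.univ_inter] at hs)
  obtain ⟨w, hw⟩ := hne
  simp only [Set.mem_iInter] at hw
  refine ⟨WithTopology.ofTopology w, ?_, ?_⟩ <;>
    rw [PrespectralSpace.isTopologicalBasis.nhds_hasBasis.specializes_iff]
  · exact fun W hW => hw ⟨W, hW.1.1, hW.1.2, Or.inl hW.2⟩
  · exact fun W hW => hw ⟨W, hW.1.1, hW.1.2, Or.inr hW.2⟩

theorem connectedComponent_eq_sInter [CompactSpace X] [PrespectralSpace X] [QuasiSeparatedSpace X] (x : X) :
    connectedComponent x = ⋂₀ {Z : Set X | IsClopen Z ∧ x ∈ Z} := by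
  classical
  refine subset_antisymm (Set.subset_sInter fun Z hZ => hZ.1.connectedComponent_subset hZ.2) ?_
  set S := ⋂₀ {Z : Set X | IsClopen Z ∧ x ∈ Z} with hS
  have hxS : x ∈ S := Set.mem_sInter.2 fun Z hZ => hZ.2
  have hScl : IsClosed S := isClosed_sInter fun Z hZ => hZ.1.1
  -- a compact set missing `S` misses some clopen around `x`
  have sep : ∀ K : Set X, IsCompact K → K ∩ S = ∅ → ∃ Z, IsClopen Z ∧ x ∈ Z ∧ K ∩ Z = ∅ := by
    intro K hK hKS
    let I := {Z : Set X // IsClopen Z ∧ x ∈ Z}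
    obtain ⟨s, hs⟩ := hK.elim_finite_subfamily_closed (fun i : I => i.1) (fun i => i.2.1.1)
      (by rwa [show (⋂ i : I, i.1) = S from by rw [hS, Set.sInter_eq_iInter]; rfl])
    exact ⟨⋂ i ∈ s, i.1, isClopen_biInter_finset fun i _ => i.2.1, by simp only [Set.mem_iInter]; exact fun i _ => i.2.2, hs⟩
  refine IsPreconnected.subset_connectedComponent ?_ hxS
  rw [isPreconnected_closed_iff]
  intro a b ha hb hab hSa hSb
  by_contra hne
  rw [Set.not_nonempty_iff_eq_empty] at hne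
  have hAa : S ∩ a ⊆ bᶜ := fun p hp hpb => Set.eq_empty_iff_forall_notMem.1 hne p ⟨hp.1, hp.2, hpb⟩
  have hBb : S ∩ b ⊆ aᶜ := fun p hp hpa => Set.eq_empty_iff_forall_notMem.1 hne p ⟨hp.1, hpa, hp.2⟩
  obtain ⟨U, hUc, hUo, hAU, hUb⟩ := PrespectralSpace.exists_isCompact_and_isOpen_between
    ((hScl.inter ha).isCompact) hb.isOpen_compl hAa
  obtain ⟨V, hVc, hVo, hBV, hVa⟩ := PrespectralSpace.exists_isCompact_and_isOpen_between
    ((hScl.inter hb).isCompact) ha.isOpen_compl hBb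
  have h1 : U ∩ V ∩ S = ∅ := by
    rw [Set.eq_empty_iff_forall_notMem]
    rintro p ⟨⟨hpU, hpV⟩, hpS⟩
    rcases hab hpS with h | h
    · exact hVa hpV h
    · exact hUb hpU h
  have h2 : (U ∪ V)ᶜ ∩ S = ∅ := by
    rw [Set.eq_empty_iff_forall_notMem]
    rintro p ⟨hp, hpS⟩
    rcases hab hpS with h | h
    · exact hp (Or.inl (hAU ⟨hpS, h⟩))
    · exact hp (Or.inr (hBV ⟨hpS, h⟩))
  obtain ⟨Z₁, hZ₁, hx₁, hd₁⟩ := sep _ (hUc.inter_of_isOpen hVc hUo hVo) h1
  obtain ⟨Z₂, hZ₂, hx₂, hd₂⟩ := sep _ ((hUo.union hVo).isClosed_compl.isCompact) h2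
  set Z := Z₁ ∩ Z₂
  have hZ : IsClopen Z := hZ₁.inter hZ₂
  have hsub : Z ⊆ U ∪ V := fun p hp => by_contra fun h => Set.eq_empty_iff_forall_notMem.1 hd₂ p ⟨h, hp.2⟩
  have hdis : ∀ p ∈ Z, p ∈ U → p ∉ V := fun p hp hpU hpV =>
    Set.eq_empty_iff_forall_notMem.1 hd₁ p ⟨⟨hpU, hpV⟩, hp.1⟩
  have hclU : IsClopen (Z ∩ U) := by
    refine ⟨?_, hZ.2.inter hUo⟩
    rw [show Z ∩ U = Z ∩ Vᶜ from by
      ext p; constructor
      · exact fun hp => ⟨hp.1, hdis p hp.1 hp.2⟩
      · exact fun hp => ⟨hp.1, (hsub hp.1).resolve_right hp.2⟩]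
    exact hZ.1.inter hVo.isClosed_compl
  have hclV : IsClopen (Z ∩ V) := by
    refine ⟨?_, hZ.2.inter hVo⟩
    rw [show Z ∩ V = Z ∩ Uᶜ from by
      ext p; constructor
      · exact fun hp => ⟨hp.1, fun h => hdis p hp.1 h hp.2⟩
      · exact fun hp => ⟨hp.1, (hsub hp.1).resolve_left hp.2⟩]
    exact hZ.1.inter hUo.isClosed_compl
  rcases hsub (⟨hx₁, hx₂⟩ : x ∈ Z) with h | h
  · obtain ⟨p, hpS, hpb⟩ := hSb
    exact hUb (Set.sInter_subset_of_mem (show Z ∩ U ∈ {Z' : Set X | IsClopen Z' ∧ x ∈ Z'} from ⟨hclU, ⟨hx₁, hx₂⟩, h⟩) hpS).2 hpb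
  · obtain ⟨p, hpS, hpa⟩ := hSa
    exact hVa (Set.sInter_subset_of_mem (show Z ∩ V ∈ {Z' : Set X | IsClopen Z' ∧ x ∈ Z'} from ⟨hclV, ⟨hx₁, hx₂⟩, h⟩) hpS).2 hpa

theorem inter_clopen_iff [CompactSpace X] [PrespectralSpace X] [QuasiSeparatedSpace X] (T : Set X) :
    (∃ S : Set (Set X), (∀ Z ∈ S, IsClopen Z) ∧ T = ⋂₀ S) ↔
      (IsClosed T ∧ ∀ x ∈ T, connectedComponent x ⊆ T) := by
  constructor
  · rintro ⟨S, hS, rfl⟩
    exact ⟨isClosed_sInter fun Z hZ => (hS Z hZ).1, fun x hx => Set.subset_sInter fun Z hZ =>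
      (hS Z hZ).connectedComponent_subset (hx Z hZ)⟩
  · rintro ⟨hT, hcomp⟩
    refine ⟨{Z | IsClopen Z ∧ T ⊆ Z}, fun Z hZ => hZ.1, subset_antisymm (Set.subset_sInter fun Z hZ => hZ.2) ?_⟩
    intro y hy
    by_contra hyT
    let I := {Z : Set X // IsClopen Z ∧ y ∈ Z}
    have hd : T ∩ ⋂ i : I, i.1 = ∅ := by
      rw [Set.eq_empty_iff_forall_notMem]
      rintro p ⟨hpT, hp⟩
      have : p ∈ connectedComponent y := by
        rw [connectedComponent_eq_sInter]; exact fun Z hZ => Set.mem_iInter.1 hp ⟨Z, hZ⟩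
      exact hyT (hcomp p hpT (connectedComponent_eq this ▸ mem_connectedComponent))
    obtain ⟨s, hs⟩ := hT.isCompact.elim_finite_subfamily_closed (fun i : I => i.1) (fun i => i.2.1.1) hd
    have := hy _ (show (⋂ i ∈ s, i.1)ᶜ ∈ _ from ⟨(isClopen_biInter_finset fun (i : I) _ => i.2.1).compl,
      fun p hp hp' => Set.eq_empty_iff_forall_notMem.1 hs p ⟨hp, hp'⟩⟩)
    exact this (Set.mem_iInter₂.2 fun i _ => i.2.2)

theorem nonJacobson [T0Space X] [PrespectralSpace X] (hX : ¬ JacobsonSpace X) :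
    ∃ x : X, ¬ IsClosed ({x} : Set X) ∧ IsLocallyClosed ({x} : Set X) := by
  rw [jacobsonSpace_iff_locallyClosed] at hX
  push Not at hX
  obtain ⟨Z, ⟨x, hx⟩, ⟨U, C, hU, hC, rfl⟩, hZ⟩ := hX
  obtain ⟨V, ⟨hVo, hVc⟩, hxV, hVU⟩ := PrespectralSpace.isTopologicalBasis.exists_subset_of_mem_open hx.1 hU
  have hc : IsCompact (V ∩ C) := hVc.inter_right hC
  have : CompactSpace ↥(V ∩ C) := isCompact_iff_compactSpace.1 hc
  obtain ⟨y, -, hy⟩ := (isClosed_univ (X := ↥(V ∩ C))).exists_closed_singleton ⟨⟨x, hxV, hx.2⟩, trivial⟩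
  refine ⟨y.1, fun h => ?_, ?_⟩
  · exact Set.eq_empty_iff_forall_notMem.1 hZ y.1 ⟨⟨hVU y.2.1, y.2.2⟩, h⟩
  · have := hy.isLocallyClosed.image (IsInducing.subtypeVal (t := V ∩ C))
      (by rw [Subtype.range_coe_subtype, Set.ofPred_mem_eq]; exact ⟨V, C, hVo, hC, rfl⟩)
    simpa using this

theorem openGeneralizing {X Y : Type u} [TopologicalSpace X] [TopologicalSpace Y]
    [NoetherianSpace X] [QuasiSober X] [T0Space Y]
    (f : X → Y) (hf : Continuous f) (hfo : IsOpenMap f) :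
    GeneralizingMap f := by
  intro x y' hy'
  change y' ⤳ f x at hy'
  set S := f ⁻¹' {y'} with hSdef
  have hx : x ∈ closure S := by
    rw [mem_closure_iff]
    intro U hU hxU
    obtain ⟨z, hz, hfz⟩ := hy'.mem_open (hfo U hU) ⟨x, hxU, rfl⟩
    exact ⟨z, hz, hfz⟩
  obtain ⟨T, hTf, hTc, hTi, hTU⟩ := NoetherianSpace.exists_finite_set_isClosed_irreducible (isClosed_univ (X := S))
  have hS : S = ⋃ t ∈ T, Subtype.val '' t := by
    rw [← Set.image_iUnion₂, ← Set.sUnion_eq_biUnion, ← hTU, Set.image_univ, Subtype.range_coe]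
  rw [hS, hTf.closure_biUnion, Set.mem_iUnion₂] at hx
  obtain ⟨t, ht, hxt⟩ := hx
  have hirr : IsIrreducible (Subtype.val '' t) := (hTi t ht).image _ continuous_subtype_val.continuousOn
  obtain ⟨ξ, hξ⟩ := QuasiSober.sober hirr.closure isClosed_closure
  refine ⟨ξ, hξ.specializes hxt, ?_⟩
  obtain ⟨_, z, hz, rfl⟩ := (hTi t ht).nonempty.image Subtype.val
  have h1 : f ξ ⤳ y' := by
    have := (hξ.specializes (subset_closure ⟨z, hz, rfl⟩)).map hf
    rwa [show f z.1 = y' from z.2] at this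
  have h2 : y' ⤳ f ξ := by
    rw [specializes_iff_mem_closure]
    have hξS : ξ ∈ closure S := closure_mono (Subtype.coe_image_subset S t) hξ.mem
    exact map_mem_closure hf hξS (fun p hp => hp)
  exact (h1.antisymm h2).eq

theorem locNoethImage {X Y : Type u} [TopologicalSpace X] [TopologicalSpace Y]
    (f : X → Y) (hf : Continuous f) (hfo : IsOpenMap f)
    (hX : ∀ x : X, ∃ E ∈ nhds x, NoetherianSpace E) :
    ∀ y : Set.range f, ∃ E : Set (Set.range f), E ∈ nhds y ∧ NoetherianSpace E := by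
  rintro ⟨_, x, rfl⟩
  obtain ⟨E, hE, hN⟩ := hX x
  let g := Set.rangeFactorization f
  have hg : IsOpenMap g := hfo.subtype_mk _
  refine ⟨g '' E, hg.image_mem_nhds hE, ?_⟩
  rw [noetherianSpace_set_iff]
  intro t ht
  rw [Set.subset_image_iff] at ht
  obtain ⟨s, hs, rfl⟩ := ht
  exact ((noetherianSpace_set_iff E).1 hN s hs).image (hf.subtype_mk _)

theorem jacobsonUnion [JacobsonSpace X] {ι : Type u} (T : ι → Set X) (hT : ∀ i, IsLocallyClosed (T i)) :
    JacobsonSpace ↥(⋃ i, T i) ∧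
      closedPoints ↥(⋃ i, T i) ⊆ (Subtype.val : ↥(⋃ i, T i) → X) ⁻¹' closedPoints X := by
  constructor
  · rw [jacobsonSpace_iff_locallyClosed]
    rintro Z ⟨⟨z, hz⟩, hzZ⟩ hZ
    obtain ⟨W, hW, rfl⟩ := IsInducing.subtypeVal.isLocallyClosed_iff.1 hZ
    obtain ⟨i, hi⟩ := Set.mem_iUnion.1 hz
    obtain ⟨p, ⟨hpW, hpT⟩, hp⟩ := nonempty_inter_closedPoints (Z := W ∩ T i) ⟨z, hzZ, hi⟩ (hW.inter (hT i))
    exact ⟨⟨p, Set.mem_iUnion.2 ⟨i, hpT⟩⟩, hpW,
      preimage_closedPoints_subset Subtype.val_injective continuous_subtype_val hp⟩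
  · rintro ⟨p, hp⟩ hcl
    obtain ⟨i, hi⟩ := Set.mem_iUnion.1 hp
    obtain ⟨C, hC, hCp⟩ := isClosed_induced_iff.1 hcl
    refine isClosed_singleton_of_isLocallyClosed_singleton ?_
    have : ({p} : Set X) = C ∩ T i := by
      ext q; constructor
      · intro hq
        obtain rfl : q = p := hq
        exact ⟨(Set.ext_iff.1 hCp ⟨q, hp⟩).2 rfl, hi⟩
      · rintro ⟨hqC, hqi⟩
        exact congrArg Subtype.val ((Set.ext_iff.1 hCp ⟨q, Set.mem_iUnion.2 ⟨i, hqi⟩⟩).1 hqC)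
    rw [this]
    exact hC.isLocallyClosed.inter (hT i)

end Groth.Agent.H5Top
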