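import Groth.Agent.Lib.H5CechNerve
import Groth.Agent.Lib.H5SiteCoh
import Groth.Agent.Lib.H5SiteApps
import Groth.Agent.Lib.H5GrpSheaf
import Mathlib.CategoryTheory.Functor.Flat
import Groth.Agent.Lib.H5Cech

universe w v u

namespace Groth.Agent.H5TotAcyc
open CategoryTheory Limits Opposite AlgebraicTopology Simplicial Abelian
open Groth.Agent

section generic
variable {C : Type v} [Category.{w} C] [Abelian C] [HasExt.{u} C] {F : C} {S : ShortComplex C}
  (hS : S.ShortExact)

include hS in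
lemma cstep₁ (n : ℕ) [Subsingleton (Ext S.X₂ F n)] [Subsingleton (Ext S.X₃ F (n + 1))] :
    Subsingleton (Ext S.X₁ F n) := by
  refine subsingleton_of_forall_eq 0 fun x => ?_
  obtain ⟨x₂, rfl⟩ := Ext.contravariant_sequence_exact₁ hS F x (add_comm 1 n) (Subsingleton.elim _ _)
  rw [Subsingleton.elim x₂ 0, Ext.comp_zero]

include hS in
lemma cstep₃ (n : ℕ) [Subsingleton (Ext S.X₁ F n)] [Subsingleton (Ext S.X₂ F (n + 1))] :
    Subsingleton (Ext S.X₃ F (n + 1)) := by
  refine subsingleton_of_forall_eq 0 fun x => ?_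
  obtain ⟨x₁, rfl⟩ := Ext.contravariant_sequence_exact₃ hS F x (Subsingleton.elim _ _) (add_comm 1 n)
  rw [Subsingleton.elim x₁ 0, Ext.comp_zero]

include hS in
lemma extend_of_subsingleton [Subsingleton (Ext S.X₃ F 1)] (φ : S.X₁ ⟶ F) : ∃ ψ : S.X₂ ⟶ F, S.f ≫ ψ = φ := by
  obtain ⟨y, hy⟩ := Ext.contravariant_sequence_exact₁ hS F (Ext.mk₀ φ) (add_zero 1) (Subsingleton.elim _ _)
  obtain ⟨ψ, rfl⟩ := (Ext.mk₀_bijective _ _).2 y
  rw [Ext.mk₀_comp_mk₀] at hy
  exact ⟨ψ, (Ext.mk₀_bijective _ _).1 hy⟩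

include hS in
lemma subsingleton_of_extend [Subsingleton (Ext S.X₂ F 1)] (h : ∀ φ : S.X₁ ⟶ F, ∃ ψ : S.X₂ ⟶ F, S.f ≫ ψ = φ) :
    Subsingleton (Ext S.X₃ F 1) := by
  refine subsingleton_of_forall_eq 0 fun x => ?_
  obtain ⟨x₁, rfl⟩ := Ext.contravariant_sequence_exact₃ hS F x (Subsingleton.elim _ _) (add_zero 1)
  obtain ⟨φ, rfl⟩ := (Ext.mk₀_bijective _ _).2 x₁
  obtain ⟨ψ, rfl⟩ := h φ
  rw [← Ext.mk₀_comp_mk₀, ← Ext.comp_assoc_of_second_deg_zero, ShortComplex.ShortExact.extClass_comp, Ext.zero_comp]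

variable (F) in
lemma acyc_coproduct {I : Type*} (A : I → C) [HasCoproduct A] [EnoughInjectives C]
    (h : ∀ i (n : ℕ), Subsingleton (Ext (A i) F (n + 1))) (n : ℕ) : Subsingleton (Ext (∐ A) F (n + 1)) :=
  H5SiteCoh.acyc_of_good (fun G => ∀ i, H5SiteCoh.Acyc C (A i) G) (∐ A)
    (fun G hG => ⟨fun i => H5SiteCoh.acyc_quotient (hG i), fun φ => by
      have hs : ∀ i, H5SiteCoh.Surj (A i) (H5SiteCoh.injSeq G).g := fun i =>
        haveI := hG i 0; H5SiteCoh.surj_of_subsingleton (H5SiteCoh.injSeq_shortExact G)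
      choose ψ hψ using fun i => hs i (Sigma.ι A i ≫ φ)
      exact ⟨Sigma.desc ψ, Sigma.hom_ext _ _ fun i => by rw [Sigma.ι_desc_assoc, hψ]⟩⟩)
    n F (fun i => h i)

end generic

section resolution
variable {C : Type v} [Category.{w} C] [Abelian C]
  (P : ChainComplex C ℕ) {A : C} (ε : P ⟶ (ChainComplex.single₀ C).obj A) [QuasiIso ε]

/-- cycles -/
noncomputable def cyc (n : ℕ) : C :=
  match n with
  | 0 => kernel (ε.f 0)
  | n + 1 => kernel (P.d (n + 1) n)

/-- inclusion of cycles -/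
noncomputable def cycι (n : ℕ) : cyc P ε n ⟶ P.X n :=
  match n with
  | 0 => kernel.ι (ε.f 0)
  | n + 1 => kernel.ι (P.d (n + 1) n)

omit [QuasiIso ε] in
lemma d_ε : P.d 1 0 ≫ ε.f 0 = 0 := by
  rw [← ε.comm 1 0]
  simp
  exact comp_zero

/-- boundary to cycles -/
noncomputable def toCyc (n : ℕ) : P.X (n + 1) ⟶ cyc P ε n :=
  match n with
  | 0 => kernel.lift (ε.f 0) (P.d 1 0) (d_ε P ε)
  | n + 1 => kernel.lift (P.d (n + 1) n) (P.d (n + 2) (n + 1)) (P.d_comp_d _ _ _)

omit [QuasiIso ε] in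
lemma toCyc_ι (n : ℕ) : toCyc P ε n ≫ cycι P ε n = P.d (n + 1) n :=
  match n with
  | 0 => kernel.lift_ι _ _ _
  | n + 1 => kernel.lift_ι _ _ _

omit [QuasiIso ε] in
lemma cycι_mono (n : ℕ) : Mono (cycι P ε n) :=
  match n with
  | 0 => inferInstanceAs (Mono (kernel.ι _))
  | n + 1 => inferInstanceAs (Mono (kernel.ι _))

include ε in
lemma exact_succ (n : ℕ) : P.ExactAt (n + 1) :=
  (quasiIsoAt_iff_exactAt' ε (n + 1) (ChainComplex.exactAt_succ_single_obj A n)).1 inferInstance

include ε in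
lemma exact_zero : (ShortComplex.mk (P.d 1 0) (ε.f 0) (d_ε P ε)).Exact ∧ Epi (ε.f 0) := by
  have h := (ChainComplex.quasiIsoAt₀_iff ε).1 inferInstance
  rw [ShortComplex.quasiIso_iff_of_zeros'] at h
  rotate_left
  · simp; rfl
  · simp; rfl
  · simp; rfl
  exact h

/-- the short exact sequences of a resolution -/
noncomputable def seq₀ : ShortComplex C := ShortComplex.mk (cycι P ε 0) (ε.f 0) (kernel.condition _)

lemma seq₀_shortExact : (seq₀ P ε).ShortExact where
  exact := ShortComplex.exact_of_f_is_kernel _ (kernelIsKernel _)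
  mono_f := cycι_mono P ε 0
  epi_g := (exact_zero P ε).2

omit [QuasiIso ε] in
lemma cyc_zero (n : ℕ) : cycι P ε (n + 1) ≫ toCyc P ε n = 0 := by
  have := cycι_mono P ε n
  rw [← cancel_mono (cycι P ε n), Category.assoc, toCyc_ι, zero_comp]
  exact kernel.condition _

/-- the short exact sequences of a resolution -/
noncomputable def seqS (n : ℕ) : ShortComplex C := ShortComplex.mk (cycι P ε (n + 1)) (toCyc P ε n) (cyc_zero P ε n)

lemma seqS_shortExact (n : ℕ) : (seqS P ε n).ShortExact where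
  exact := by
    have := cycι_mono P ε n
    let φ : seqS P ε n ⟶ ShortComplex.mk (cycι P ε (n + 1)) (P.d (n + 1) n) (kernel.condition _) :=
      { τ₁ := 𝟙 _
        τ₂ := 𝟙 _
        τ₃ := cycι P ε n
        comm₁₂ := (Category.id_comp _).trans (Category.comp_id _).symm
        comm₂₃ := (Category.id_comp _).trans (toCyc_ι P ε n).symm }
    haveI : Epi φ.τ₁ := inferInstanceAs (Epi (𝟙 _))
    haveI : IsIso φ.τ₂ := inferInstanceAs (IsIso (𝟙 _))
    haveI : Mono φ.τ₃ := cycι_mono P ε n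
    exact (ShortComplex.exact_iff_of_epi_of_isIso_of_mono φ).2
      (ShortComplex.exact_of_f_is_kernel _ (kernelIsKernel _))
  mono_f := cycι_mono P ε (n + 1)
  epi_g := by
    cases n with
    | zero => exact (exact_zero P ε).1.epi_kernelLift
    | succ n =>
      exact (((P.exactAt_iff' (n + 2) (n + 1) n (by simp) (by simp))).1 (exact_succ P ε n)).epi_kernelLift

variable [HasExt.{u} C] (F : C)

include ε in
lemma acyc_cyc (hA : ∀ q, Subsingleton (Ext A F (q + 1))) (hP : ∀ n q, Subsingleton (Ext (P.X n) F (q + 1))) :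
    ∀ n q, Subsingleton (Ext (cyc P ε n) F (q + 1)) := by
  intro n
  induction n with
  | zero =>
    intro q
    haveI : Subsingleton (Ext (seq₀ P ε).X₂ F (q + 1)) := hP 0 q
    haveI : Subsingleton (Ext (seq₀ P ε).X₃ F (q + 1 + 1)) := hA (q + 1)
    exact cstep₁ (seq₀_shortExact P ε) (q + 1)
  | succ n ih =>
    intro q
    haveI : Subsingleton (Ext (seqS P ε n).X₂ F (q + 1)) := hP (n + 1) q
    haveI : Subsingleton (Ext (seqS P ε n).X₃ F (q + 1 + 1)) := ih (q + 1)
    exact cstep₁ (seqS_shortExact P ε n) (q + 1)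

include ε in
/-- exactness of the dual complex -/
theorem dual_exact (hA : ∀ q, Subsingleton (Ext A F (q + 1))) (hP : ∀ n q, Subsingleton (Ext (P.X n) F (q + 1)))
    (n : ℕ) (φ : P.X (n + 1) ⟶ F) (hφ : P.d (n + 2) (n + 1) ≫ φ = 0) :
    ∃ ψ : P.X n ⟶ F, P.d (n + 1) n ≫ ψ = φ := by
  have h0 : (seqS P ε n).f ≫ φ = 0 := by
    have : Epi (toCyc P ε (n + 1)) := (seqS_shortExact P ε (n + 1)).epi_g
    change cycι P ε (n + 1) ≫ φ = 0
    rw [← cancel_epi (toCyc P ε (n + 1)), comp_zero, ← Category.assoc]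
    exact (congrArg (fun t => t ≫ φ) (toCyc_ι P ε (n + 1))).trans hφ
  have := (seqS_shortExact P ε n).epi_g
  let φb : cyc P ε n ⟶ F := (seqS_shortExact P ε n).exact.desc φ h0
  have hb : toCyc P ε n ≫ φb = φ := (seqS_shortExact P ε n).exact.g_desc φ h0
  suffices ∃ ψ : P.X n ⟶ F, cycι P ε n ≫ ψ = φb by
    obtain ⟨ψ, hψ⟩ := this
    exact ⟨ψ, by rw [← toCyc_ι P ε n, Category.assoc, hψ, hb]⟩
  cases n with
  | zero =>
    haveI : Subsingleton (Ext (seq₀ P ε).X₃ F 1) := hA 0
    exact extend_of_subsingleton (seq₀_shortExact P ε) φb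
  | succ m =>
    haveI : Subsingleton (Ext (seqS P ε m).X₃ F 1) := acyc_cyc P ε F hA hP m 0
    exact extend_of_subsingleton (seqS_shortExact P ε m) φb

include ε in
/-- descent of acyclicity along a resolution -/
theorem acyc_target (hP₀ : ∀ q, Subsingleton (Ext (P.X 0) F (q + 1))) (j : ℕ)
    (hP : ∀ n q, q < j → Subsingleton (Ext (P.X n) F (q + 1)))
    (hdual : ∀ (n : ℕ) (φ : P.X (n + 1) ⟶ F), P.d (n + 2) (n + 1) ≫ φ = 0 → ∃ ψ : P.X n ⟶ F, P.d (n + 1) n ≫ ψ = φ) :
    Subsingleton (Ext A F (j + 1)) := by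
  have hext : ∀ n (φb : cyc P ε n ⟶ F), ∃ ψ : P.X n ⟶ F, cycι P ε n ≫ ψ = φb := fun n φb => by
    obtain ⟨ψ, hψ⟩ := hdual n (toCyc P ε n ≫ φb) (by
      rw [← Category.assoc, ← toCyc_ι P ε (n + 1), Category.assoc _ (cycι P ε (n + 1)), cyc_zero, comp_zero,
        zero_comp])
    refine ⟨ψ, ?_⟩
    have : Epi (toCyc P ε n) := (seqS_shortExact P ε n).epi_g
    rw [← cancel_epi (toCyc P ε n), ← Category.assoc, toCyc_ι, hψ]
  have hcyc : ∀ q, q < j → ∀ n, Subsingleton (Ext (cyc P ε n) F (q + 1)) := by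
    intro q
    induction q with
    | zero =>
      intro hq n
      haveI : Subsingleton (Ext (seqS P ε n).X₂ F 1) := hP (n + 1) 0 hq
      exact subsingleton_of_extend (seqS_shortExact P ε n) (hext (n + 1))
    | succ q ih =>
      intro hq n
      haveI : Subsingleton (Ext (seqS P ε n).X₁ F (q + 1)) := ih (by omega) (n + 1)
      haveI : Subsingleton (Ext (seqS P ε n).X₂ F (q + 1 + 1)) := hP (n + 1) (q + 1) hq
      exact cstep₃ (seqS_shortExact P ε n) (q + 1)
  cases j with
  | zero =>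
    haveI : Subsingleton (Ext (seq₀ P ε).X₂ F 1) := hP₀ 0
    exact subsingleton_of_extend (seq₀_shortExact P ε) (hext 0)
  | succ j =>
    haveI : Subsingleton (Ext (seq₀ P ε).X₁ F (j + 1)) := hcyc j (by omega) 0
    haveI : Subsingleton (Ext (seq₀ P ε).X₂ F (j + 1 + 1)) := hP₀ (j + 1)
    exact cstep₃ (seq₀_shortExact P ε) (j + 1)

end resolution

section nerve
variable {C : Type u} [SmallCategory C] {J : GrothendieckTopology C} (F : Sheaf J AddCommGrpCat.{u})
  {K' K : Sheaf J (Type u)} (f : K' ⟶ K)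

/-- free abelian sheaf -/
noncomputable abbrev Zf (J : GrothendieckTopology C) : Sheaf J (Type u) ⥤ Sheaf J AddCommGrpCat.{u} :=
  Sheaf.composeAndSheafify J AddCommGrpCat.free.{u}

/-- the free nerve -/
noncomputable abbrev Xn : SimplicialObject.Augmented (Sheaf J AddCommGrpCat.{u}) :=
  ((SimplicialObject.Augmented.whiskering _ _).obj (Zf J)).obj (Arrow.mk f).augmentedCechNerve

/-- the free nerve complex -/
noncomputable abbrev Pn : ChainComplex (Sheaf J AddCommGrpCat.{u}) ℕ := AlternatingFaceMapComplex.obj (Xn f).left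

lemma nerveCx_d (n : ℕ) (φ : (Pn f).X n ⟶ F) :
    (CohCx.cechNerveCx F f).d n (n + 1) φ = (Pn f).d (n + 1) n ≫ φ := by
  have hd : (CohCx.cechNerveCx F f).d n (n + 1) = ∑ i : Fin (n + 2), (-1 : ℤ) ^ (i : ℕ) •
      CosimplicialObject.δ ((Arrow.mk f).cechNerve.rightOp ⋙ CohCx.HK0Functor J F) i := by
    simp only [CohCx.cechNerveCx]
    dsimp [AlgebraicTopology.alternatingCofaceMapComplex, AlgebraicTopology.AlternatingCofaceMapComplex.obj, CochainComplex.of]
    rw [CochainComplex.of_d]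
    rfl
  rw [hd, AlternatingFaceMapComplex.obj_d_eq,
    Preadditive.sum_comp]
  change H5Cech.homAdd ((CohCx.cechNerveCx F f).X n) ((CohCx.cechNerveCx F f).X (n + 1)) (∑ j : Fin (n + 2), _) φ = _
  erw [map_sum, AddMonoidHom.finsetSum_apply]
  refine Finset.sum_congr rfl fun j _ => ?_
  erw [map_zsmul, AddMonoidHom.smul_apply]
  rw [Preadditive.zsmul_comp]
  rfl

theorem cechNerve_acyclic (hF : CohCx.IsTotallyAcyclic F) [Epi f] (q : ℕ) :
    IsZero ((CohCx.cechNerveCx F f).homology (q + 1)) := by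
  have : QuasiIso (AlternatingFaceMapComplex.ε.app (Xn f)) := H5CechNerve.quasiIso_free f
  rw [← HomologicalComplex.exactAt_iff_isZero_homology,
    (CohCx.cechNerveCx F f).exactAt_iff' q (q + 1) (q + 2) (by simp) (by simp), ShortComplex.ab_exact_iff]
  intro φ hφ
  obtain ⟨ψ, hψ⟩ := dual_exact (Pn f) (AlternatingFaceMapComplex.ε.app (Xn f)) F
    (fun p => hF K p) (fun n p => hF _ p) q φ ((nerveCx_d F f (q + 1) φ).symm.trans hφ)
  exact ⟨ψ, (nerveCx_d F f q ψ).trans hψ⟩

/-- the sections indexing a cover by representables -/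
abbrev Idx (K : Sheaf J (Type u)) : Type u := Σ V : C, K.obj.obj (op V)

/-- the representable sheaves of a cover -/
noncomputable abbrev repFam (K : Sheaf J (Type u)) (i : Idx K) : Sheaf J (Type u) := H5SiteCoh.ySh J i.1

/-- the classifying map -/
noncomputable def repMap (K : Sheaf J (Type u)) (i : Idx K) : repFam K i ⟶ K :=
  ⟨sheafifyLift J (yonedaEquiv.symm i.2) K.property⟩

lemma epi_desc (K : Sheaf J (Type u)) : Epi (Sigma.desc (repMap K)) := by
  rw [← Sheaf.isLocallySurjective_iff_epi]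
  refine Presheaf.isLocallySurjective_of_surjective J _ fun V x => ?_
  refine ⟨(Sigma.ι (repFam K) ⟨V.unop, x⟩).hom.app V
    ((toSheafify J (yoneda.obj V.unop)).app V (𝟙 V.unop)), ?_⟩
  have h1 := congrArg (fun t => t.hom.app V ((toSheafify J (yoneda.obj V.unop)).app V (𝟙 V.unop)))
    (Sigma.ι_desc (repMap K) ⟨V.unop, x⟩)
  refine h1.trans ?_
  have h2 := congrArg (fun t => t.app V (𝟙 V.unop))
    (toSheafify_sheafifyLift J (yonedaEquiv.symm x) K.property)
  refine h2.trans ?_
  exact (yonedaEquiv_apply (yonedaEquiv.symm x)).symm.trans (yonedaEquiv.apply_symm_apply x)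

lemma acyc_ySh (hF : ∀ (U : C) (p : ℕ), Subsingleton (CohSite.HU F (p + 1) U)) (U : C) (p : ℕ) :
    Subsingleton (Ext.{u} ((Zf J).obj (H5SiteCoh.ySh J U)) F (p + 1)) := by
  have : IsIso ((presheafToSheaf J AddCommGrpCat.{u}).map
      (Functor.whiskerRight (toSheafify J (yoneda.obj U)) AddCommGrpCat.free.{u})) := by
    have : J.PreservesSheafification AddCommGrpCat.free.{u} :=
      Sheaf.preservesSheafification_of_adjunction J AddCommGrpCat.adj.{u}
    exact (J.W_iff _).1 (J.W_of_preservesSheafification AddCommGrpCat.free.{u} _ (J.W_toSheafify _))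
  let e := asIso ((presheafToSheaf J AddCommGrpCat.{u}).map
      (Functor.whiskerRight (toSheafify J (yoneda.obj U)) AddCommGrpCat.free.{u}))
  have : Subsingleton (Ext.{u} (H5SiteCoh.fU J U) F (p + 1)) := hF U p
  exact H5SiteCoh.subsingleton_retract e.inv e.hom e.inv_hom_id

/-- the nerve in degree zero -/
noncomputable def nerve0Iso {L' L : Sheaf J (Type u)} (g : L' ⟶ L) :
    widePullback L (fun _ : Fin 1 => L') (fun _ => g) ≅ L' where
  hom := WidePullback.π (fun _ : Fin 1 => g) 0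
  inv := WidePullback.lift g (fun _ => 𝟙 _) (fun _ => Category.id_comp _)
  hom_inv_id := WidePullback.hom_ext _ _ _ (fun k => by
      fin_cases k
      rw [Category.assoc, WidePullback.lift_π, Category.comp_id, Category.id_comp]; rfl)
    (by rw [Category.assoc, WidePullback.lift_base, WidePullback.π_arrow, Category.id_comp])
  inv_hom_id := WidePullback.lift_π _ _ _ _ _

theorem totallyAcyclic_of_cech_exact (h1 : ∀ (U : C) (p : ℕ), Subsingleton (CohSite.HU F (p + 1) U))
    (h2 : ∀ (K' K : Sheaf J (Type u)) (f : K' ⟶ K), Epi f →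
      ∀ p : ℕ, IsZero ((CohCx.cechNerveCx F f).homology (p + 1))) :
    CohCx.IsTotallyAcyclic F := by
  intro K j
  induction j using Nat.strong_induction_on generalizing K with
  | _ j ih =>
    let f := Sigma.desc (repMap K)
    have : Epi f := epi_desc K
    have : QuasiIso (AlternatingFaceMapComplex.ε.app (Xn f)) := H5CechNerve.quasiIso_free f
    refine acyc_target (Pn f) (AlternatingFaceMapComplex.ε.app (Xn f)) F (fun q => ?_) j
      (fun n q hq => ih q hq _) (fun n φ hφ => ?_)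
    · have : PreservesColimitsOfSize.{u, u} (Zf J) := (Sheaf.adjunction J AddCommGrpCat.adj.{u}).leftAdjoint_preservesColimits
      let e : (Pn f).X 0 ≅ ∐ fun i => (Zf J).obj (repFam K i) :=
        (Zf J).mapIso (nerve0Iso f) ≪≫ (PreservesCoproduct.iso (Zf J) (repFam K))
      have : Subsingleton (Ext.{u} (∐ fun i => (Zf J).obj (repFam K i)) F (q + 1)) :=
        acyc_coproduct F _ (fun i p => acyc_ySh F h1 i.1 p) q
      exact H5SiteCoh.subsingleton_retract e.hom e.inv e.hom_inv_id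
    · have h := h2 _ _ f inferInstance n
      rw [← HomologicalComplex.exactAt_iff_isZero_homology,
        (CohCx.cechNerveCx F f).exactAt_iff' n (n + 1) (n + 2) (by simp) (by simp), ShortComplex.ab_exact_iff] at h
      obtain ⟨ψ, hψ⟩ := h φ ((nerveCx_d F f (n + 1) φ).trans hφ)
      exact ⟨ψ, (nerveCx_d F f n ψ).symm.trans hψ⟩

/-- one step for products -/
theorem pi_step {T : Type u} (G : T → Sheaf J AddCommGrpCat.{u}) (hG : ∀ t, CohCx.IsTotallyAcyclic (G t)) :
    ∃ S : ShortComplex (Sheaf J AddCommGrpCat.{u}), S.ShortExact ∧ Injective S.X₂ ∧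
      ∃ (_ : S.X₁ ≅ ∏ᶜ G) (_ : S.X₃ ≅ ∏ᶜ fun t => (H5SiteCoh.injSeq (G t)).X₃),
        ∀ K : Sheaf J (Type u), H5SiteCoh.Surj ((Zf J).obj K) S.g := by
  let I : T → Sheaf J AddCommGrpCat.{u} := fun t => (H5SiteCoh.injSeq (G t)).X₂
  let Q : T → Sheaf J AddCommGrpCat.{u} := fun t => (H5SiteCoh.injSeq (G t)).X₃
  let S : ShortComplex (Sheaf J AddCommGrpCat.{u}) :=
    ShortComplex.mk (Limits.Pi.map fun t => (H5SiteCoh.injSeq (G t)).f) (Limits.Pi.map fun t => (H5SiteCoh.injSeq (G t)).g)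
      (Limits.Pi.hom_ext _ _ fun t => by
        rw [Category.assoc, Limits.Pi.map_π, Limits.Pi.map_π_assoc, zero_comp]
        simp [H5SiteCoh.injSeq])
  have hs : ∀ (K : Sheaf J (Type u)) t, H5SiteCoh.Surj ((Zf J).obj K) (H5SiteCoh.injSeq (G t)).g := fun K t =>
    haveI : Subsingleton (Ext.{u} ((Zf J).obj K) (H5SiteCoh.injSeq (G t)).X₁ 1) := hG t K 0
    H5SiteCoh.surj_of_subsingleton (H5SiteCoh.injSeq_shortExact (G t))
  have hsurj : ∀ K : Sheaf J (Type u), H5SiteCoh.Surj ((Zf J).obj K) S.g := fun K φ => by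
    choose ψ hψ using fun t => hs K t (φ ≫ Limits.Pi.π _ t)
    refine ⟨Limits.Pi.lift ψ, Limits.Pi.hom_ext _ _ fun t => ?_⟩
    rw [Category.assoc, Limits.Pi.map_π, Limits.Pi.lift_π_assoc, hψ]
  have hexact : S.Exact := by
    refine ShortComplex.exact_of_f_is_kernel _ (KernelFork.IsLimit.ofι' _ _ fun {W} k hk =>
      ⟨Limits.Pi.lift fun t => (H5SiteCoh.injSeq_shortExact (G t)).exact.lift (k ≫ Limits.Pi.π _ t) (by
        have e : S.g ≫ Limits.Pi.π _ t = Limits.Pi.π _ t ≫ (H5SiteCoh.injSeq (G t)).g := by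
          exact Limits.Pi.map_π (fun t => (H5SiteCoh.injSeq (G t)).g) t
        rw [Category.assoc, ← e, ← Category.assoc, hk, zero_comp]), ?_⟩)
    refine Limits.Pi.hom_ext _ _ fun t => ?_
    rw [Category.assoc, Limits.Pi.map_π, Limits.Pi.lift_π_assoc, ShortComplex.Exact.lift_f]
  have hmono : Mono S.f := by
    have : ∀ t, Mono (H5SiteCoh.injSeq (G t)).f := fun t => (H5SiteCoh.injSeq_shortExact (G t)).mono_f
    exact inferInstanceAs (Mono (Limits.Pi.map fun t => (H5SiteCoh.injSeq (G t)).f))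
  have hepi : Epi S.g := by
    have : Epi S.g.hom := by
      rw [NatTrans.epi_iff_epi_app]
      intro V
      rw [AddCommGrpCat.epi_iff_surjective]
      refine (H5SiteCoh.surj_fU (U := V.unop) S.g).1 fun φ => ?_
      obtain ⟨i, r, hir⟩ := H5SiteCoh.retract_fU (J := J) V.unop
      obtain ⟨ψ, hψ⟩ := hsurj (H5SiteCoh.ySh J V.unop) (r ≫ φ)
      exact ⟨i ≫ ψ, by rw [Category.assoc, hψ, ← Category.assoc, hir, Category.id_comp]⟩
    exact (sheafToPresheaf J AddCommGrpCat.{u}).epi_of_epi_map this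
  have hS : S.ShortExact := ⟨hexact⟩
  have hI : Injective S.X₂ := inferInstanceAs (Injective (∏ᶜ I))
  exact ⟨S, hS, hI, Iso.refl _, Iso.refl _, hsurj⟩

theorem totallyAcyclic_pi {T : Type u} (G : T → Sheaf J AddCommGrpCat.{u}) (hG : ∀ t, CohCx.IsTotallyAcyclic (G t)) :
    CohCx.IsTotallyAcyclic (∏ᶜ G) := by
  intro K j
  induction j generalizing G K with
  | zero =>
    obtain ⟨S, hS, hI, e₁, -, hsurj⟩ := pi_step G hG
    have : Subsingleton (Ext.{u} ((Zf J).obj K) S.X₂ 1) := H5SiteCoh.subsingleton_ext_injective _ _ 0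
    have : Subsingleton (Ext.{u} ((Zf J).obj K) S.X₁ 1) := H5SiteCoh.subsingleton_one hS (hsurj K)
    exact H5SiteCoh.subsingleton_congr (Z := (Zf J).obj K) e₁
  | succ n ih =>
    obtain ⟨S, hS, hI, e₁, e₃, -⟩ := pi_step G hG
    have : Subsingleton (Ext.{u} ((Zf J).obj K) (∏ᶜ fun t => (H5SiteCoh.injSeq (G t)).X₃) (n + 1)) :=
      ih _ (fun t L p => H5SiteCoh.acyc_quotient (fun p => hG t L p) p) K
    have : Subsingleton (Ext.{u} ((Zf J).obj K) S.X₃ (n + 1)) := H5SiteCoh.subsingleton_congr e₃.symm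
    have : Subsingleton (Ext.{u} ((Zf J).obj K) S.X₂ (n + 1 + 1)) := H5SiteCoh.subsingleton_ext_injective _ _ _
    have := H5SiteCoh.step₁ (Z := (Zf J).obj K) hS (n + 1)
    exact H5SiteCoh.subsingleton_congr (Z := (Zf J).obj K) e₁

end nerve

section push
variable {C D : Type u} [SmallCategory C] [SmallCategory D] {J : GrothendieckTopology C}
  (K : GrothendieckTopology D) (u : D ⥤ C) [u.IsContinuous K J]

/-- pullback of free sheaves -/
noncomputable def pullFreeIso :
    Zf K ⋙ u.sheafPullback AddCommGrpCat.{u} K J ≅ u.sheafPullback (Type u) K J ⋙ Zf J :=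
  ((Sheaf.adjunction K AddCommGrpCat.adj.{u}).comp (u.sheafAdjunctionContinuous AddCommGrpCat.{u} K J)).leftAdjointUniq
    (((u.sheafAdjunctionContinuous (Type u) K J).comp (Sheaf.adjunction J AddCommGrpCat.adj.{u})).ofNatIsoRight
      (NatIso.ofComponents (fun _ => Iso.refl _) (fun f => by ext; rfl)))

/-- direct images of injective resolutions -/
theorem push_step (adj : u.sheafPullback AddCommGrpCat.{u} K J ⊣ CohSite.push J K u)
    [PreservesFiniteLimits (u.sheafPullback AddCommGrpCat.{u} K J)]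
    [PreservesFiniteLimits (CohSite.push J K u)]
    (F : Sheaf J AddCommGrpCat.{u}) (hF : CohCx.IsTotallyAcyclic F) :
    ((H5SiteCoh.injSeq F).map (CohSite.push J K u)).ShortExact ∧
      Injective ((H5SiteCoh.injSeq F).map (CohSite.push J K u)).X₂ := by
  let S := H5SiteCoh.injSeq F
  have hS := H5SiteCoh.injSeq_shortExact F
  refine ⟨?_, Injective.injective_of_adjoint adj S.X₂⟩
  have hep : Epi ((CohSite.push J K u).map S.g) := by
    have : Epi ((CohSite.push J K u).map S.g).hom := by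
      rw [NatTrans.epi_iff_epi_app]
      intro W
      rw [AddCommGrpCat.epi_iff_surjective]
      exact (H5SiteCoh.surj_fU S.g).1 (H5SiteCoh.acyc_injective_middle S hS
        (fun n => H5SiteCoh.HU_of_totally F hF (u.obj W.unop) n) inferInstance).2
    exact (sheafToPresheaf K AddCommGrpCat.{u}).epi_of_epi_map this
  have := hS.mono_f
  exact ShortComplex.ShortExact.mk' (hS.exact.map_of_mono_of_preservesKernel _ this inferInstance)
    (inferInstanceAs (Mono ((CohSite.push J K u).map S.f))) hep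

theorem totallyAcyclic_push [PreservesFiniteLimits (u.sheafPullback (Type u) K J)]
    (F : Sheaf J AddCommGrpCat.{u}) (hF : CohCx.IsTotallyAcyclic F) :
    CohCx.IsTotallyAcyclic ((CohSite.push J K u).obj F) := by
  have := H5GrpSheaf.preservesFiniteLimits_pullback (J := J) K u
  have adj : u.sheafPullback AddCommGrpCat.{u} K J ⊣ CohSite.push J K u :=
    u.sheafAdjunctionContinuous AddCommGrpCat.{u} K J
  have := adj.rightAdjoint_preservesLimits
  have : PreservesFiniteLimits (CohSite.push J K u) := PreservesLimits.preservesFiniteLimits _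
  intro L j
  induction j generalizing F with
  | zero =>
    obtain ⟨hS, hI⟩ := push_step K u adj F hF
    exact main adj F hF L hS hI
  | succ n ih =>
    obtain ⟨hS, hI⟩ := push_step K u adj F hF
    have : Subsingleton (Ext.{u} ((Zf K).obj L) ((H5SiteCoh.injSeq F).map (CohSite.push J K u)).X₃ (n + 1)) :=
      ih _ (fun L p => H5SiteCoh.acyc_quotient (fun p => hF L p) p)
    have : Subsingleton (Ext.{u} ((Zf K).obj L) ((H5SiteCoh.injSeq F).map (CohSite.push J K u)).X₂ (n + 1 + 1)) :=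
      H5SiteCoh.subsingleton_ext_injective _ _ _
    exact H5SiteCoh.step₁ (Z := (Zf K).obj L) hS (n + 1)
where
  main (adj : u.sheafPullback AddCommGrpCat.{u} K J ⊣ CohSite.push J K u)
    [PreservesFiniteLimits (CohSite.push J K u)]
    (F : Sheaf J AddCommGrpCat.{u}) (hF : CohCx.IsTotallyAcyclic F) (L : Sheaf K (Type u))
    (hS : ((H5SiteCoh.injSeq F).map (CohSite.push J K u)).ShortExact)
    (hI : Injective ((H5SiteCoh.injSeq F).map (CohSite.push J K u)).X₂) :
    Subsingleton (CohCx.HK L ((CohSite.push J K u).obj F) 1) := by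
    have : Subsingleton (Ext.{u} ((Zf K).obj L) ((H5SiteCoh.injSeq F).map (CohSite.push J K u)).X₂ 1) :=
      H5SiteCoh.subsingleton_ext_injective _ _ 0
    refine H5SiteCoh.subsingleton_one (Z := (Zf K).obj L) hS fun φ => ?_
    have : Subsingleton (Ext.{u} ((Zf J).obj ((u.sheafPullback (Type u) K J).obj L)) (H5SiteCoh.injSeq F).X₁ 1) := hF _ 0
    let e := (pullFreeIso (J := J) K u).app L
    obtain ⟨ψ, hψ⟩ := H5SiteCoh.surj_of_subsingleton (Z := (Zf J).obj ((u.sheafPullback (Type u) K J).obj L))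
      (H5SiteCoh.injSeq_shortExact F) (e.inv ≫ (adj.homEquiv ((Zf K).obj L) _).symm φ)
    refine ⟨adj.homEquiv ((Zf K).obj L) (H5SiteCoh.injSeq F).X₂ (e.hom ≫ ψ), ?_⟩
    refine (adj.homEquiv_naturality_right (e.hom ≫ ψ) (H5SiteCoh.injSeq F).g).symm.trans ?_
    rw [Category.assoc, hψ, Iso.hom_inv_id_assoc]
    exact Equiv.apply_symm_apply _ _

end push

section sub
variable {C : Type u} [SmallCategory C] {J : GrothendieckTopology C}

lemma free_map_injective {A B : Type u} (g : A → B) (hg : Function.Injective g) :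
    Function.Injective (FreeAbelianGroup.map g) := by
  rcases isEmpty_or_nonempty A with hA | hA
  · intro a b _
    exact Subsingleton.elim a b
  · obtain ⟨r, hr⟩ := hg.hasLeftInverse
    intro a b h
    have := congrArg (FreeAbelianGroup.map r) h
    rwa [← FreeAbelianGroup.map_comp_apply, ← FreeAbelianGroup.map_comp_apply, show r ∘ g = id from funext hr,
      FreeAbelianGroup.map_id_apply, FreeAbelianGroup.map_id_apply] at this

theorem restriction_surjective (F : Sheaf J AddCommGrpCat.{u}) (hF : CohCx.IsTotallyAcyclic F)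
    {Y X : Sheaf J (Type u)} (ι : Y ⟶ X) [Mono ι] :
    Function.Surjective ((CohCx.HK0Functor J F).map ι.op) := by
  intro (φ : (Zf J).obj Y ⟶ F)
  let W := (Functor.whiskeringRight Cᵒᵖ (Type u) AddCommGrpCat.{u}).obj AddCommGrpCat.free.{u}
  let adjW := AddCommGrpCat.adj.{u}.whiskerRight Cᵒᵖ
  let S := presheafToSheaf J AddCommGrpCat.{u}
  have hm : Mono (W.map ι.hom) := by
    have hι : ∀ V, Mono (ι.hom.app V) :=
      (NatTrans.mono_iff_mono_app _).1 (inferInstanceAs (Mono ((sheafToPresheaf J (Type u)).map ι)))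
    rw [NatTrans.mono_iff_mono_app]
    intro V
    rw [AddCommGrpCat.mono_iff_injective]
    exact free_map_injective _ ((CategoryTheory.mono_iff_injective _).1 (hι V))
  let T : ShortComplex (Cᵒᵖ ⥤ AddCommGrpCat.{u}) := ShortComplex.mk (W.map ι.hom) (cokernel.π (W.map ι.hom)) (cokernel.condition _)
  have hT : T.ShortExact := { exact := ShortComplex.exact_cokernel _ }
  let star : Cᵒᵖ ⥤ Type u := (Functor.const Cᵒᵖ).obj PUnit.{u + 1}
  let tX : X.obj ⟶ star := { app := fun _ => TypeCat.ofHom fun _ => PUnit.unit }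
  let tY : Y.obj ⟶ star := { app := fun _ => TypeCat.ofHom fun _ => PUnit.unit }
  let P : Cᵒᵖ ⥤ Type u := pushout ι.hom tY
  let zr : star ⟶ T.X₃ ⋙ forget AddCommGrpCat.{u} :=
    { app := fun V => TypeCat.ofHom fun _ => (0 : T.X₃.obj V)
      naturality := fun V V' a => by ext p; exact (map_zero (T.X₃.map a).hom).symm }
  let r : W.obj P ⟶ T.X₃ := (adjW.homEquiv P T.X₃).symm (pushout.desc (adjW.homEquiv X.obj T.X₃ T.g) zr (by
    refine (adjW.homEquiv_naturality_left ι.hom T.g).symm.trans ?_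
    rw [show W.map ι.hom ≫ T.g = 0 from T.zero]
    ext V y
    rw [Adjunction.homEquiv_unit]
    rfl))
  let i : T.X₃ ⟶ W.obj P := cokernel.desc (W.map ι.hom) (W.map (pushout.inl ι.hom tY) - W.map (tX ≫ pushout.inr ι.hom tY)) (by
    rw [Preadditive.comp_sub, ← W.map_comp, ← W.map_comp, sub_eq_zero, pushout.condition]
    exact congrArg W.map (congrArg (fun t => t ≫ pushout.inr ι.hom tY) (show tY = ι.hom ≫ tX by ext; rfl)))
  have hir : i ≫ r = 𝟙 _ := by
    have h1 : W.map (pushout.inl ι.hom tY) ≫ r = T.g := by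
      rw [← adjW.homEquiv_naturality_left_symm, pushout.inl_desc, Equiv.symm_apply_apply]
    have h2 : W.map (tX ≫ pushout.inr ι.hom tY) ≫ r = 0 := by
      rw [← adjW.homEquiv_naturality_left_symm, Category.assoc, pushout.inr_desc, Equiv.symm_apply_eq,
        Adjunction.homEquiv_unit]
      ext V y
      rfl
    rw [← cancel_epi (cokernel.π (W.map ι.hom)), cokernel.π_desc_assoc, Preadditive.sub_comp, h1, h2, sub_zero]
    exact (Category.comp_id _).symm
  have hq : Subsingleton (Ext.{u} (S.obj T.X₃) F 1) := by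
    have : IsIso (S.map (W.map (toSheafify J P))) := by
      have : J.PreservesSheafification AddCommGrpCat.free.{u} :=
        Sheaf.preservesSheafification_of_adjunction J AddCommGrpCat.adj.{u}
      exact (J.W_iff _).1 (J.W_of_preservesSheafification AddCommGrpCat.free.{u} _ (J.W_toSheafify _))
    have : Subsingleton (Ext.{u} ((Zf J).obj ((presheafToSheaf J (Type u)).obj P)) F 1) := hF _ 0
    refine H5SiteCoh.subsingleton_retract (Z' := (Zf J).obj ((presheafToSheaf J (Type u)).obj P))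
      (S.map (i ≫ W.map (toSheafify J P))) (inv (S.map (W.map (toSheafify J P))) ≫ S.map r) ?_
    rw [S.map_comp]
    erw [Category.assoc, IsIso.hom_inv_id_assoc]
    rw [← S.map_comp, hir, S.map_id]
  have : S.Additive := inferInstance
  have hS := hT.map_of_exact S
  haveI : Subsingleton (Ext.{u} (T.map S).X₃ F 1) := hq
  obtain ⟨ψ, hψ⟩ := extend_of_subsingleton.{u} hS (F := F) φ
  exact ⟨ψ, hψ⟩

end sub

end Groth.Agent.H5TotAcyc
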