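import Mathlib

open CategoryTheory CategoryTheory.Limits CategoryTheory.Pretriangulated

namespace Groth.Agent.H5TriKer

universe v v' u u'

theorem equiv_of_ker {D : Type u} [Category.{v} D] [Preadditive D] [HasZeroObject D] [HasShift D ℤ]
    [∀ n : ℤ, (shiftFunctor D n).Additive] [Pretriangulated D]
    {D' : Type u'} [Category.{v'} D'] [Preadditive D'] [HasZeroObject D'] [HasShift D' ℤ]
    [∀ n : ℤ, (shiftFunctor D' n).Additive] [Pretriangulated D']
    (F : D ⥤ D') (G : D' ⥤ D) [G.CommShift ℤ] [G.IsTriangulated]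
    (adj : F ⊣ G) [F.Full] [F.Faithful] (hG : ∀ X : D', IsZero (G.obj X) → IsZero X) :
    F.IsEquivalence := by
  have h : F.EssSurj := ⟨fun Y => by
    obtain ⟨Z, g, h, hT⟩ := distinguished_cocone_triangle (adj.counit.app Y)
    have hiso : IsIso (G.map (adj.counit.app Y)) := by
      rw [show G.map (adj.counit.app Y) = inv (adj.unit.app (G.obj Y)) from
        IsIso.eq_inv_of_hom_inv_id (adj.right_triangle_components Y)]
      infer_instance
    have hZ : IsZero (G.obj Z) :=
      (Triangle.isZero₃_iff_isIso₁ _ (G.map_distinguished _ hT)).2 hiso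
    have : IsIso (adj.counit.app Y) := (Triangle.isZero₃_iff_isIso₁ _ hT).1 (hG Z hZ)
    exact ⟨G.obj Y, ⟨asIso (adj.counit.app Y)⟩⟩⟩
  exact { }

theorem ker_tri {D : Type u} [Category.{v} D] [Preadditive D] [HasZeroObject D] [HasShift D ℤ]
    [∀ n : ℤ, (shiftFunctor D n).Additive] [Pretriangulated D]
    {D' : Type u'} [Category.{v'} D'] [Preadditive D'] [HasZeroObject D'] [HasShift D' ℤ]
    [∀ n : ℤ, (shiftFunctor D' n).Additive] [Pretriangulated D']
    (F : D ⥤ D') [F.Additive] [F.CommShift ℤ] [F.IsTriangulated] :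
    (ObjectProperty.IsTriangulated (fun X : D => IsZero (F.obj X))) ∧
    (ObjectProperty.IsClosedUnderIsomorphisms (fun X : D => IsZero (F.obj X))) ∧
    (∀ X Y : D, IsZero (F.obj (X ⊞ Y)) → IsZero (F.obj X) ∧ IsZero (F.obj Y)) := by
  have hiso : ObjectProperty.IsClosedUnderIsomorphisms (fun X : D => IsZero (F.obj X)) :=
    ⟨fun e h => h.of_iso (F.mapIso e).symm⟩
  refine ⟨?_, hiso, fun X Y h => ⟨?_, ?_⟩⟩
  · exact
      { exists_zero := ⟨_, isZero_zero D, F.map_isZero (isZero_zero D)⟩
        isStableUnderShiftBy := fun a => ⟨fun X hX =>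
          ((shiftFunctor D' a).map_isZero hX).of_iso ((F.commShiftIso a).app X)⟩
        ext₂' := fun T hT h1 h3 => ObjectProperty.le_isoClosure _ _
          (Triangle.isZero₂_of_isZero₁₃ _ (F.map_distinguished _ hT) h1 h3) }
  · rw [IsZero.iff_id_eq_zero, ← F.map_id, ← biprod.inl_fst (X := X) (Y := Y), F.map_comp,
      h.eq_of_src (F.map biprod.fst) 0, comp_zero]
  · rw [IsZero.iff_id_eq_zero, ← F.map_id, ← biprod.inr_snd (X := X) (Y := Y), F.map_comp,
      h.eq_of_src (F.map biprod.snd) 0, comp_zero]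

end Groth.Agent.H5TriKer
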