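import Groth.Prelude.Def_CohDer
import Mathlib.CategoryTheory.Triangulated.Generators
universe w v u
namespace Groth.Agent.H5TriSmall
open CategoryTheory CategoryTheory.Limits CategoryTheory.Pretriangulated

section
variable {D : Type u} [Category.{v} D] [Preadditive D] [HasZeroObject D] [HasShift D ℤ]
  [∀ n : ℤ, (shiftFunctor D n).Additive] [Pretriangulated D]

theorem tri_unique
    (T T' : Triangle D) (hT : T ∈ distinguishedTriangles) (hT' : T' ∈ distinguishedTriangles)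
    (φ ψ : T ⟶ T') (h₁ : φ.hom₁ = ψ.hom₁) (h₃ : φ.hom₃ = ψ.hom₃)
    (hc : (∀ u : T.obj₂ ⟶ T'.obj₁, u = 0) ∨ (∀ u : T.obj₃ ⟶ T'.obj₂, u = 0) ∨
      ((∀ u : T.obj₁ ⟶ T'.obj₁, u = 0) ∧ (∀ u : T.obj₃ ⟶ T'.obj₁, u = 0)) ∨
      ((∀ u : T.obj₃ ⟶ T'.obj₁, u = 0) ∧ (∀ u : T.obj₃ ⟶ T'.obj₃, u = 0)) ∨
      ((∀ u : (shiftFunctor D (1 : ℤ)).obj T.obj₁ ⟶ T'.obj₃, u = 0) ∧ (∀ u : T.obj₃ ⟶ T'.obj₁, u = 0))) :
    φ.hom₂ = ψ.hom₂ := by
  have h1 : T.mor₁ ≫ (φ.hom₂ - ψ.hom₂) = 0 := by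
    rw [Preadditive.comp_sub, φ.comm₁, ψ.comm₁, h₁, sub_self]
  have h2 : (φ.hom₂ - ψ.hom₂) ≫ T'.mor₂ = 0 := by
    rw [Preadditive.sub_comp, ← φ.comm₂, ← ψ.comm₂, h₃, sub_self]
  rw [← sub_eq_zero]
  obtain ⟨a, ha⟩ := Triangle.coyoneda_exact₂ _ hT' _ h2
  obtain ⟨b, hb⟩ := Triangle.yoneda_exact₂ _ hT _ h1
  have key : (∀ c : T.obj₃ ⟶ T'.obj₁, c = 0) → (∀ b' : T.obj₃ ⟶ T'.obj₂, b' ≫ T'.mor₂ = 0) →
      φ.hom₂ - ψ.hom₂ = 0 := by
    intro hc hz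
    obtain ⟨c, hc'⟩ := Triangle.coyoneda_exact₂ _ hT' b (hz b)
    rw [hb, hc', hc c, zero_comp, comp_zero]
  rcases hc with h | h | ⟨h, h'⟩ | ⟨h, h'⟩ | ⟨h, h'⟩
  · rw [ha, h a, zero_comp]
  · rw [hb, h b, comp_zero]
  · obtain ⟨c, hc⟩ := Triangle.yoneda_exact₂ _ hT a (h _)
    rw [ha, hc, h' c, comp_zero, zero_comp]
  · exact key h (fun b' => h' _)
  · have e : T.mor₂ ≫ (b ≫ T'.mor₂) = 0 := by rw [← Category.assoc, ← hb, h2]
    obtain ⟨c, hc⟩ := Triangle.yoneda_exact₃ _ hT _ e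
    obtain ⟨d, hd⟩ := Triangle.coyoneda_exact₂ _ hT' b (by rw [hc, h c, comp_zero])
    rw [hb, hd, h' d, zero_comp, comp_zero]

theorem bij
    (T T' : Triangle D) (hT : T ∈ distinguishedTriangles) (hT' : T' ∈ distinguishedTriangles)
    (hXZ : ∀ u : T.obj₁ ⟶ T'.obj₃, u = 0)
    (hXZ' : ∀ u : T.obj₁ ⟶ (shiftFunctor D (-1 : ℤ)).obj T'.obj₃, u = 0) :
    Function.Bijective (fun u : T.obj₁ ⟶ T'.obj₁ => u ≫ T'.mor₁) ∧
      Function.Bijective (fun w : T.obj₃ ⟶ T'.obj₃ => T.mor₂ ≫ w) := by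
  refine ⟨⟨?_, ?_⟩, ⟨?_, ?_⟩⟩
  · intro a b hab
    rw [← sub_eq_zero]
    obtain ⟨c, hc⟩ := Triangle.coyoneda_exact₂ _ (inv_rot_of_distTriang _ hT') (a - b)
      (by show (a - b) ≫ T'.mor₁ = 0; rw [Preadditive.sub_comp]; exact sub_eq_zero.2 hab)
    rw [hc, hXZ' c]; exact zero_comp
  · intro v
    obtain ⟨a, ha⟩ := Triangle.coyoneda_exact₂ _ hT' v (hXZ _)
    exact ⟨a, ha.symm⟩
  · intro a b hab
    rw [← sub_eq_zero]
    obtain ⟨c, hc⟩ := Triangle.yoneda_exact₃ _ hT (a - b)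
      (by rw [Preadditive.comp_sub]; exact sub_eq_zero.2 hab)
    have : c = 0 := by
      have h0 := hXZ' (((shiftFunctorCompIsoId D (1 : ℤ) (-1) (by norm_num)).app T.obj₁).inv ≫
        (shiftFunctor D (-1 : ℤ)).map c)
      refine (shiftFunctor D (-1 : ℤ)).map_injective ?_
      rw [Functor.map_zero]
      exact (cancel_epi ((shiftFunctorCompIsoId D (1 : ℤ) (-1) (by norm_num)).app T.obj₁).inv).1
        (h0.trans comp_zero.symm)
    rw [hc, this, comp_zero]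
  · intro v
    obtain ⟨a, ha⟩ := Triangle.yoneda_exact₂ _ hT v (hXZ _)
    exact ⟨a, ha.symm⟩

theorem isIso_iff_gen {ι : Type w} (S : ι → D) (hS : CohDer.Generates S) {X Y : D} (f : X ⟶ Y) :
    IsIso f ↔ ∀ (i : ι) (n : ℤ), Function.Bijective (fun g : S i ⟶ (shiftFunctor D n).obj X => g ≫ (shiftFunctor D n).map f) := by
  constructor
  · intro h i n
    exact ⟨fun a b hab => (cancel_mono ((shiftFunctor D n).map f)).1 hab,
      fun c => ⟨c ≫ inv ((shiftFunctor D n).map f), by simp⟩⟩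
  · intro h
    obtain ⟨Z, g, e, hT⟩ := distinguished_cocone_triangle f
    refine (Triangle.isZero₃_iff_isIso₁ _ hT).1 (hS Z fun i n x => ?_)
    have hT' := Triangle.shift_distinguished _ hT n
    have h0 : x ≫ ((Triangle.shiftFunctor D n).obj (Triangle.mk f g e)).mor₃ = 0 := by
      let d : (shiftFunctor D n).obj ((shiftFunctor D (1 : ℤ)).obj X) ≅ (shiftFunctor D (n + 1)).obj X := ((shiftFunctorAdd' D (1 : ℤ) n (n + 1) (by abel)).app X).symm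
      have hi := (h i (n + 1)).1
      have hz : (x ≫ (e)⟦n⟧') ≫ d.hom = 0 := by
        apply hi
        show ((x ≫ e⟦n⟧') ≫ d.hom) ≫ f⟦n + 1⟧' = 0 ≫ f⟦n + 1⟧'
        have : d.hom ≫ f⟦n + 1⟧' = (f⟦(1 : ℤ)⟧')⟦n⟧' ≫ ((shiftFunctorAdd' D (1 : ℤ) n (n + 1) (by abel)).app Y).inv :=
          ((shiftFunctorAdd' D (1 : ℤ) n (n + 1) (by abel)).inv.naturality f).symm
        have h31 : e ≫ f⟦(1 : ℤ)⟧' = 0 := comp_distTriang_mor_zero₃₁ _ hT
        rw [Category.assoc, this, Category.assoc, ← Functor.map_comp_assoc, h31]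
        simp
      have hz' : x ≫ e⟦n⟧' = 0 := (cancel_mono d.hom).1 (hz.trans zero_comp.symm)
      show x ≫ (n.negOnePow • (e⟦n⟧' ≫ (shiftFunctorComm D 1 n).hom.app X)) = 0
      rw [Linear.comp_units_smul, ← Category.assoc, hz', zero_comp, smul_zero]
    obtain ⟨y, hy⟩ := Triangle.coyoneda_exact₃ _ hT' x h0
    obtain ⟨a, ha⟩ := (h i n).2 y
    rw [hy, ← ha]
    have h12 : f ≫ g = 0 := comp_distTriang_mor_zero₁₂ _ hT
    show (a ≫ f⟦n⟧') ≫ (n.negOnePow • g⟦n⟧') = 0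
    rw [Linear.comp_units_smul, Category.assoc, ← Functor.map_comp, h12, Functor.map_zero, comp_zero, smul_zero]

end

end Groth.Agent.H5TriSmall
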