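import Mathlib
import Groth.Prelude
universe w u v
open CategoryTheory CategoryTheory.Limits CategoryTheory.Pretriangulated
open DerivedCategory DerivedCategory.TStructure
namespace Groth.Agent.H5TruncFactor

variable {A : Type u} [Category.{v} A] [Abelian A] [HasDerivedCategory.{w} A]

lemma zero_of_homologyMap_zero {X Z : DerivedCategory A} (f : X ⟶ Z) (m : ℤ) [X.IsLE m] [Z.IsGE m]
    (hf : (homologyFunctor A m).map f = 0) : f = 0 := by
  have hT := t.triangleLEGE_distinguished (m - 1) m (by omega) X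
  set T := (t.triangleLEGE (m - 1) m (by omega)).obj X with hTdef
  have h1 : T.obj₁.IsLE (m - 1) := t.isLE_truncLE_obj X (m - 1) (m - 1)
  have h3 : T.obj₃.IsGE m := by
    show t.IsGE ((t.truncGE m).obj X) m
    infer_instance
  have h3' : T.obj₃.IsLE m := by
    show t.IsLE ((t.truncGE m).obj X) m
    infer_instance
  obtain ⟨g, hg⟩ := Triangle.yoneda_exact₂ T hT f (t.zero_of_isLE_of_isGE _ (m - 1) m (by omega) h1 inferInstance)
  have hS := t.triangleLEGE_distinguished m (m + 1) rfl Z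
  set S := (t.triangleLEGE m (m + 1) rfl).obj Z with hSdef
  have k1 : S.obj₁.IsLE m := t.isLE_truncLE_obj Z m m
  have k1' : S.obj₁.IsGE m := by
    show t.IsGE ((t.truncLE m).obj Z) m
    infer_instance
  have k3 : S.obj₃.IsGE (m + 1) := by
    show t.IsGE ((t.truncGE (m + 1)).obj Z) (m + 1)
    infer_instance
  obtain ⟨g', hg'⟩ := Triangle.coyoneda_exact₂ S hS g (t.zero_of_isLE_of_isGE _ m (m + 1) (by omega) h3' k3)
  have e1 : Epi ((homologyFunctor A m).map T.mor₂) :=
    (HomologySequence.epi_homologyMap_mor₂_iff T hT m (m + 1) rfl).2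
      ((T.obj₁.isZero_of_isLE (m - 1) (m + 1) (by omega)).eq_of_tgt _ _)
  have e2 : Mono ((homologyFunctor A m).map S.mor₁) :=
    (HomologySequence.mono_homologyMap_mor₁_iff S hS (m - 1) m (by omega)).2
      ((S.obj₃.isZero_of_isGE (m + 1) (m - 1) (by omega)).eq_of_src _ _)
  have hg0 : (homologyFunctor A m).map g' = 0 := by
    have h : (homologyFunctor A m).map T.mor₂ ≫ (homologyFunctor A m).map g' ≫ (homologyFunctor A m).map S.mor₁ = 0 := by
      rw [← Functor.map_comp, ← Functor.map_comp]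
      refine Eq.trans ?_ hf
      exact congrArg (homologyFunctor A m).map ((congrArg (T.mor₂ ≫ ·) hg'.symm).trans hg.symm)
    rw [← cancel_epi ((homologyFunctor A m).map T.mor₂), ← cancel_mono ((homologyFunctor A m).map S.mor₁),
      Category.assoc, h, comp_zero, zero_comp]
  obtain ⟨M, ⟨eM⟩⟩ := exists_iso_singleFunctor_obj_of_isGE_of_isLE T.obj₃ m
  obtain ⟨N, ⟨eN⟩⟩ := exists_iso_singleFunctor_obj_of_isGE_of_isLE S.obj₁ m
  obtain ⟨a, ha⟩ := (singleFunctor A m).map_surjective (eM.inv ≫ g' ≫ eN.hom)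
  have ha0 : a = 0 := by
    have h0 : (homologyFunctor A m).map ((singleFunctor A m).map a) = 0 := by
      rw [ha, Functor.map_comp, Functor.map_comp, hg0, zero_comp, comp_zero]
    have e := (singleFunctorCompHomologyFunctorIso A m).hom.naturality a
    rw [Functor.comp_map, h0] at e
    exact (cancel_epi ((singleFunctorCompHomologyFunctorIso A m).hom.app M)).1
      ((e.symm.trans zero_comp).trans comp_zero.symm)
  have hg'0 : g' = 0 := by
    rw [← cancel_epi eM.inv, ← cancel_mono eN.hom, Category.assoc, ← ha, ha0, Functor.map_zero,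
      comp_zero, zero_comp]
  have hgz : g = 0 := by rw [hg', hg'0]; exact zero_comp
  rw [hg, hgz]
  exact comp_zero

lemma hmap_Q_zero {K L : CochainComplex A ℤ} (u : K ⟶ L) (m : ℤ)
    (h : HomologicalComplex.homologyMap u m = 0) : (homologyFunctor A m).map (Q.map u) = 0 := by
  rw [← cancel_mono ((homologyFunctorFactors A m).hom.app L), homologyFunctorFactors_hom_naturality, h]
  exact comp_zero.trans zero_comp.symm

lemma isLE_Q (K : CochainComplex A ℤ) (m : ℤ) (h : ∀ i : ℤ, m < i → IsZero (K.homology i)) :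
    (Q.obj K).IsLE m :=
  (isLE_iff _ _).2 fun i hi => (h i hi).of_iso ((homologyFunctorFactors A i).app K)

lemma isGE_Q (K : CochainComplex A ℤ) (m : ℤ) (h : ∀ i : ℤ, i < m → IsZero (K.homology i)) :
    (Q.obj K).IsGE m :=
  (isGE_iff _ _).2 fun i hi => (h i hi).of_iso ((homologyFunctorFactors A i).app K)

lemma factor_truncLE (L : CochainComplex A ℤ) {X : DerivedCategory A} (f : X ⟶ Q.obj L) (m m' : ℤ)
    (hm : m + 1 = m')
    (h : ∀ {C : DerivedCategory A} [C.IsGE m'] (p : Q.obj L ⟶ C), f ≫ p = 0) :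
    ∃ φ : X ⟶ Q.obj (L.truncLE m), φ ≫ Q.map (L.ιTruncLE m) = f := by
  have hS := L.shortComplexTruncLE_shortExact m
  let π := L.shortComplexTruncLEX₃ToTruncGE m m' hm
  have : (Q.obj (L.shortComplexTruncLE m).X₃).IsGE m' :=
    t.isGE_of_iso (asIso (Q.map π)).symm m'
  haveI : (triangleOfSES hS).obj₃.IsGE m' := this
  obtain ⟨φ, hφ⟩ := Triangle.coyoneda_exact₂ _ (triangleOfSES_distinguished hS) f (h _)
  exact ⟨φ, hφ.symm⟩

lemma factor_truncGE (L : CochainComplex A ℤ) {X : DerivedCategory A} (f : Q.obj L ⟶ X) (m m' : ℤ)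
    (hm : m' + 1 = m)
    (h : ∀ {C : DerivedCategory A} [C.IsLE m'] (i : C ⟶ Q.obj L), i ≫ f = 0) :
    ∃ φ : Q.obj (L.truncGE m) ⟶ X, Q.map (L.πTruncGE m) ≫ φ = f := by
  have hS := L.shortComplexTruncLE_shortExact m'
  let π := L.shortComplexTruncLEX₃ToTruncGE m' m hm
  have : (Q.obj (L.shortComplexTruncLE m').X₁).IsLE m' :=
    inferInstanceAs ((Q.obj (L.truncLE m')).IsLE m')
  haveI : (triangleOfSES hS).obj₁.IsLE m' := this
  obtain ⟨φ, hφ⟩ := Triangle.yoneda_exact₂ _ (triangleOfSES_distinguished hS) f (h _)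
  refine ⟨inv (Q.map π) ≫ φ, ?_⟩
  have e : Q.map (L.shortComplexTruncLE m').g ≫ Q.map π = Q.map (L.πTruncGE m) :=
    (Q.map_comp _ _).symm.trans (congrArg Q.map (CochainComplex.g_shortComplexTruncLEX₃ToTruncGE L m' m hm))
  refine ((congrArg (· ≫ inv (Q.map π) ≫ φ) e.symm).trans ?_)
  exact (Category.assoc _ _ _).trans ((congrArg (Q.map (L.shortComplexTruncLE m').g ≫ ·) (IsIso.hom_inv_id_assoc (Q.map π) φ)).trans hφ.symm)

lemma kmap_succ (K : ℕ ⥤ CochainComplex A ℤ) (j : ℕ) :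
    Q.map (K.map (homOfLE (Nat.zero_le j))) ≫ Q.map (K.map (homOfLE (Nat.le_succ j))) =
      Q.map (K.map (homOfLE (Nat.zero_le (j + 1)))) := by
  rw [← Q.map_comp, ← K.map_comp]
  rfl

lemma kmap_succ' (K : ℕᵒᵖ ⥤ CochainComplex A ℤ) (j : ℕ) :
    Q.map (K.map (homOfLE (Nat.le_succ j)).op) ≫ Q.map (K.map (homOfLE (Nat.zero_le j)).op) =
      Q.map (K.map (homOfLE (Nat.zero_le (j + 1))).op) := by
  rw [← Q.map_comp, ← K.map_comp]
  rfl

theorem s982 (K : ℕ ⥤ CochainComplex A ℤ) (n : ℕ)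
    (h0 : ∀ i : ℤ, 0 < i → IsZero ((K.obj 0).homology i))
    (hz : ∀ j : ℕ, j < n → HomologicalComplex.homologyMap (K.map (homOfLE (Nat.le_succ j))) (-(j : ℤ)) = 0) :
    ∃ φ : DerivedCategory.Q.obj (K.obj 0) ⟶ DerivedCategory.Q.obj ((K.obj n).truncLE (-(n : ℤ))),
      φ ≫ DerivedCategory.Q.map ((K.obj n).ιTruncLE (-(n : ℤ))) = DerivedCategory.Q.map (K.map (homOfLE (Nat.zero_le n))) := by
  induction n with
  | zero =>
    refine factor_truncLE _ _ _ 1 (by omega) fun {C} hC p => ?_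
    have := isLE_Q (K.obj 0) 0 h0
    exact t.zero_of_isLE_of_isGE _ 0 1 (by omega) this hC
  | succ j ih =>
    obtain ⟨φ, hφ⟩ := ih (fun i hi => hz i (by omega))
    refine factor_truncLE _ _ _ (-(j : ℤ)) (by omega) fun {C} hC p => ?_
    have h := zero_of_homologyMap_zero
      (Q.map ((K.obj j).ιTruncLE (-(j : ℤ))) ≫ Q.map (K.map (homOfLE (Nat.le_succ j))) ≫ p) (-(j : ℤ))
      (by rw [Functor.map_comp, Functor.map_comp, hmap_Q_zero _ _ (hz j (by omega)), zero_comp, comp_zero])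
    rw [← kmap_succ K j, ← hφ]
    simp only [Category.assoc]
    rw [h, comp_zero]

theorem s1113 (K : ℕᵒᵖ ⥤ CochainComplex A ℤ) (n : ℕ)
    (h0 : ∀ i : ℤ, i < 0 → IsZero ((K.obj (Opposite.op 0)).homology i))
    (hz : ∀ j : ℕ, j < n → HomologicalComplex.homologyMap (K.map (homOfLE (Nat.le_succ j)).op) (j : ℤ) = 0) :
    ∃ φ : DerivedCategory.Q.obj ((K.obj (Opposite.op n)).truncGE (n : ℤ)) ⟶ DerivedCategory.Q.obj (K.obj (Opposite.op 0)),
      DerivedCategory.Q.map ((K.obj (Opposite.op n)).πTruncGE (n : ℤ)) ≫ φ = DerivedCategory.Q.map (K.map (homOfLE (Nat.zero_le n)).op) := by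
  induction n with
  | zero =>
    refine factor_truncGE _ _ _ (-1) (by omega) fun {C} hC p => ?_
    have := isGE_Q (K.obj (Opposite.op 0)) 0 h0
    exact t.zero_of_isLE_of_isGE _ (-1) 0 (by omega) hC this
  | succ j ih =>
    obtain ⟨φ, hφ⟩ := ih (fun i hi => hz i (by omega))
    refine factor_truncGE _ _ _ (j : ℤ) (by omega) fun {C} hC p => ?_
    have h := zero_of_homologyMap_zero
      (p ≫ Q.map (K.map (homOfLE (Nat.le_succ j)).op) ≫ Q.map ((K.obj (Opposite.op j)).πTruncGE (j : ℤ))) (j : ℤ)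
      (by rw [Functor.map_comp, Functor.map_comp, hmap_Q_zero _ _ (hz j (by omega)), zero_comp, comp_zero])
    rw [← kmap_succ' K j, ← hφ]
    have h' := congrArg (· ≫ φ) h
    simpa only [Category.assoc, zero_comp] using h'

end Groth.Agent.H5TruncFactor
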