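import Groth.Agent.Lib.H5TruncFactor
universe w u v
open CategoryTheory CategoryTheory.Limits CategoryTheory.Pretriangulated
open DerivedCategory DerivedCategory.TStructure
namespace Groth.Agent.H5TruncMap
set_option maxHeartbeats 600000

variable {C : Type u} [Category.{v} C] [Abelian C] [HasDerivedCategory.{w} C]

local notation "H" => homologyFunctor C

lemma isIso_Hπ (W : DerivedCategory C) (n i : ℤ) (h : n ≤ i) : IsIso ((H i).map ((t.truncGEπ n).app W)) := by
  have hT := t.triangleLTGE_distinguished n W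
  set T := (t.triangleLTGE n).obj W with hTdef
  have h1 : T.obj₁.IsLE (n - 1) := inferInstanceAs (t.IsLE ((t.truncLT n).obj W) (n - 1))
  have : Mono ((H i).map T.mor₂) := (HomologySequence.mono_homologyMap_mor₂_iff T hT i).2
    ((T.obj₁.isZero_of_isLE (n - 1) i (by omega)).eq_of_src _ _)
  have : Epi ((H i).map T.mor₂) := (HomologySequence.epi_homologyMap_mor₂_iff T hT i (i + 1) rfl).2
    ((T.obj₁.isZero_of_isLE (n - 1) (i + 1) (by omega)).eq_of_tgt _ _)
  exact isIso_of_mono_of_epi ((H i).map T.mor₂)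

lemma isIso_Hι (W : DerivedCategory C) (n i : ℤ) (h : i < n) : IsIso ((H i).map ((t.truncLTι n).app W)) := by
  have hT := t.triangleLTGE_distinguished n W
  set T := (t.triangleLTGE n).obj W with hTdef
  have h3 : T.obj₃.IsGE n := inferInstanceAs (t.IsGE ((t.truncGE n).obj W) n)
  have : Epi ((H i).map T.mor₁) := (HomologySequence.epi_homologyMap_mor₁_iff T hT i).2
    ((T.obj₃.isZero_of_isGE n i (by omega)).eq_of_tgt _ _)
  have : Mono ((H i).map T.mor₁) := (HomologySequence.mono_homologyMap_mor₁_iff T hT (i - 1) i (by omega)).2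
    ((T.obj₃.isZero_of_isGE n (i - 1) (by omega)).eq_of_src _ _)
  exact isIso_of_mono_of_epi ((H i).map T.mor₁)

theorem existsUnique_truncMap {K K' : DerivedCategory C} (f : K ⟶ K') (q : ℤ)
    (h₁ : (H (q - 1)).map f = 0) (h₂ : (H q).map f = 0) :
    ∃! L : ((t (C := C)).truncGELT q (q + 1)).obj K ⟶ ((t (C := C)).truncGELT (q - 1) q).obj K',
      ((t (C := C)).truncGELT (q - 1) (q + 1)).map f =
        ((t (C := C)).natTransTruncGEOfLE (q - 1) q (sub_one_lt q).le).app (((t (C := C)).truncLT (q + 1)).obj K) ≫ L ≫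
          ((t (C := C)).truncGE (q - 1)).map (((t (C := C)).natTransTruncLTOfLE q (q + 1) (lt_add_one q).le).app K') := by
  let W := (t (C := C)).truncLT (q + 1) |>.obj K
  let W' := (t (C := C)).truncLT (q + 1) |>.obj K'
  let V' := (t (C := C)).truncLT q |>.obj K'
  let M := (t (C := C)).truncGE (q - 1) |>.obj W
  let B := (t (C := C)).truncGE q |>.obj W
  let M' := (t (C := C)).truncGE (q - 1) |>.obj W'
  let A' := (t (C := C)).truncGE (q - 1) |>.obj V'
  let l := (t (C := C)).truncLT (q + 1) |>.map f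
  let g : M ⟶ M' := (t (C := C)).truncGE (q - 1) |>.map l
  let p : M ⟶ B := ((t (C := C)).natTransTruncGEOfLE (q - 1) q (sub_one_lt q).le).app W
  let jV : V' ⟶ W' := ((t (C := C)).natTransTruncLTOfLE q (q + 1) (lt_add_one q).le).app K'
  let j : A' ⟶ M' := (t (C := C)).truncGE (q - 1) |>.map jV
  haveI hB1 : B.IsGE q := inferInstanceAs (t.IsGE ((t.truncGE q).obj W) q)
  haveI hW : W.IsLE q := inferInstanceAs (t.IsLE ((t.truncLT (q + 1)).obj K) q)
  haveI hV : V'.IsLE (q - 1) := inferInstanceAs (t.IsLE ((t.truncLT q).obj K') (q - 1))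
  haveI hM : M'.IsGE (q - 1) := inferInstanceAs (t.IsGE ((t.truncGE (q - 1)).obj W') (q - 1))
  haveI hA1 : A'.IsGE (q - 1) := inferInstanceAs (t.IsGE ((t.truncGE (q - 1)).obj V') (q - 1))
  have hB2 : B.IsLE q := inferInstanceAs (t.IsLE ((t.truncGE q).obj W) q)
  have hA2 : A'.IsLE (q - 1) := inferInstanceAs (t.IsLE ((t.truncGE (q - 1)).obj V') (q - 1))
  have hl : ∀ i, i < q + 1 → (H i).map f = 0 → (H i).map l = 0 := by
    intro i hi h0
    haveI := isIso_Hι K' (q + 1) i hi
    rw [← cancel_mono ((H i).map ((t.truncLTι (q + 1)).app K')), zero_comp, ← Functor.map_comp]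
    have e : l ≫ (t.truncLTι (q + 1)).app K' = (t.truncLTι (q + 1)).app K ≫ f := (t.truncLTι (q + 1)).naturality f
    rw [e, Functor.map_comp, h0, comp_zero]
  have hg : ∀ i, q - 1 ≤ i → i < q + 1 → (H i).map f = 0 → (H i).map g = 0 := by
    intro i hi hi' h0
    haveI := isIso_Hπ W (q - 1) i hi
    rw [← cancel_epi ((H i).map ((t.truncGEπ (q - 1)).app W)), comp_zero, ← Functor.map_comp]
    have e : (t.truncGEπ (q - 1)).app W ≫ g = l ≫ (t.truncGEπ (q - 1)).app W' := ((t.truncGEπ (q - 1)).naturality l).symm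
    rw [e, Functor.map_comp, hl i hi' h0, zero_comp]
  have hp : ∀ i, q ≤ i → IsIso ((H i).map p) := by
    intro i hi
    haveI := isIso_Hπ W (q - 1) i (by omega)
    haveI := isIso_Hπ W q i hi
    have e : (t.truncGEπ (q - 1)).app W ≫ p = (t.truncGEπ q).app W := t.π_natTransTruncGEOfLE_app (q - 1) q (sub_one_lt q).le W
    have e' := congrArg (H i).map e
    rw [Functor.map_comp] at e'
    haveI : IsIso ((H i).map ((t.truncGEπ (q - 1)).app W) ≫ (H i).map p) := by rw [e']; infer_instance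
    exact IsIso.of_isIso_comp_left ((H i).map ((t.truncGEπ (q - 1)).app W)) _
  have hj : ∀ i, i < q → IsIso ((H i).map j) := by
    intro i hi
    by_cases hi' : q - 1 ≤ i
    · haveI := isIso_Hπ V' (q - 1) i hi'
      haveI := isIso_Hπ W' (q - 1) i hi'
      haveI := isIso_Hι K' q i hi
      haveI := isIso_Hι K' (q + 1) i (by omega)
      have e₁ : jV ≫ (t.truncLTι (q + 1)).app K' = (t.truncLTι q).app K' := t.natTransTruncLTOfLE_ι_app q (q + 1) (lt_add_one q).le K'
      have e₁' := congrArg (H i).map e₁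
      rw [Functor.map_comp] at e₁'
      haveI : IsIso ((H i).map jV ≫ (H i).map ((t.truncLTι (q + 1)).app K')) := by rw [e₁']; infer_instance
      haveI : IsIso ((H i).map jV) := IsIso.of_isIso_comp_right _ ((H i).map ((t.truncLTι (q + 1)).app K'))
      have e₂ : (t.truncGEπ (q - 1)).app V' ≫ j = jV ≫ (t.truncGEπ (q - 1)).app W' := ((t.truncGEπ (q - 1)).naturality jV).symm
      have e₂' := congrArg (H i).map e₂
      rw [Functor.map_comp, Functor.map_comp] at e₂'
      haveI : IsIso ((H i).map ((t.truncGEπ (q - 1)).app V') ≫ (H i).map j) := by rw [e₂']; infer_instance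
      exact IsIso.of_isIso_comp_left ((H i).map ((t.truncGEπ (q - 1)).app V')) _
    · exact ⟨0, (A'.isZero_of_isGE (q - 1) i (by omega)).eq_of_src _ _, (M'.isZero_of_isGE (q - 1) i (by omega)).eq_of_src _ _⟩
  obtain ⟨A, a, d, hT⟩ := distinguished_cocone_triangle₁ p
  obtain ⟨B', b, d', hT'⟩ := distinguished_cocone_triangle j
  have hA : A.IsLE (q - 1) := by
    rw [isLE_iff]
    intro i hi
    haveI := hp i (by omega)
    refine (HomologySequence.exact₁ _ hT (i - 1) i (by omega)).isZero_X₂ ?_ ?_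
    · refine (HomologySequence.epi_homologyMap_mor₂_iff _ hT (i - 1) i (by omega)).1 ?_
      by_cases hq : q ≤ i - 1
      · haveI := hp (i - 1) hq; exact inferInstanceAs (Epi ((H (i - 1)).map p))
      · exact ⟨fun _ _ _ => (B.isZero_of_isGE q (i - 1) (by omega)).eq_of_src _ _⟩
    · exact (HomologySequence.mono_homologyMap_mor₂_iff _ hT i).1 (inferInstanceAs (Mono ((H i).map p)))
  have hB' : B'.IsGE q := by
    rw [isGE_iff]
    intro i hi
    haveI := hj i hi
    refine (HomologySequence.exact₃ _ hT' i (i + 1) rfl).isZero_X₂ ?_ ?_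
    · exact (HomologySequence.epi_homologyMap_mor₁_iff _ hT' i).1 (inferInstanceAs (Epi ((H i).map j)))
    · refine (HomologySequence.mono_homologyMap_mor₁_iff _ hT' i (i + 1) rfl).1 ?_
      by_cases hq : i + 1 < q
      · haveI := hj (i + 1) hq; exact inferInstanceAs (Mono ((H (i + 1)).map j))
      · exact ⟨fun _ _ _ => (A'.isZero_of_isLE (q - 1) (i + 1) (by omega)).eq_of_tgt _ _⟩
  obtain ⟨g₁, hg₁⟩ : ∃ g₁, g = p ≫ g₁ := Triangle.yoneda_exact₂ _ hT g
    (H5TruncFactor.zero_of_homologyMap_zero (a ≫ g) (q - 1)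
      (by rw [Functor.map_comp, hg (q - 1) le_rfl (by omega) h₁, comp_zero]))
  have hg₁0 : (H q).map g₁ = 0 := by
    haveI := hp q le_rfl
    rw [← cancel_epi ((H q).map p), comp_zero, ← Functor.map_comp, ← hg₁, hg q (by omega) (by omega) h₂]
  obtain ⟨L, hL⟩ : ∃ L, g₁ = L ≫ j := Triangle.coyoneda_exact₂ _ hT' g₁
    (H5TruncFactor.zero_of_homologyMap_zero (g₁ ≫ b) q (by rw [Functor.map_comp, hg₁0, zero_comp]))
  have h1 : g = p ≫ L ≫ j := by rw [hg₁, hL]
  refine ⟨L, h1, fun L' hL' => ?_⟩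
  change (B ⟶ A') at L'
  change g = p ≫ L' ≫ j at hL'
  have h2 : p ≫ (L' - L) ≫ j = 0 := by
    rw [Preadditive.sub_comp, Preadditive.comp_sub, sub_eq_zero]
    exact hL'.symm.trans h1
  obtain ⟨u', hu'⟩ := Triangle.yoneda_exact₂ _ (rot_of_distTriang _ hT) ((L' - L) ≫ j) h2
  have hu0 : u' = 0 := t.zero_of_isLE_of_isGE u' (q - 2) (q - 1) (by omega) (t.isLE_shift A (q - 1) 1 (q - 2) (by omega)) hM
  have h3 : (L' - L) ≫ j = 0 := hu'.trans ((congrArg _ hu0).trans comp_zero)
  obtain ⟨v, hv⟩ := Triangle.coyoneda_exact₂ _ (inv_rot_of_distTriang _ hT') (L' - L) h3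
  have hv0 : v = 0 := t.zero_of_isLE_of_isGE v q (q + 1) (by omega) hB2 (t.isGE_shift B' q (-1) (q + 1) (by omega))
  exact sub_eq_zero.1 (hv.trans ((congrArg (fun x => x ≫ _) hv0).trans zero_comp))

end Groth.Agent.H5TruncMap
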