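import Groth.Agent.Lib.H5DCRes
import Mathlib.Algebra.Homology.DerivedCategory.Linear

universe u

namespace Groth.Agent.H5TwoTerm
open CategoryTheory Limits Category Pretriangulated HomologicalComplex
open Groth.Agent Groth.Agent.H5DComp
open CochainComplex.HomComplex

attribute [local instance] HasDerivedCategory.standard

variable {R : Type u} [CommRing R]

/-- modules in degree zero -/
noncomputable abbrev sgF (R : Type u) [CommRing R] := DerivedCategory.singleFunctor (ModuleCat.{u} R) 0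
/-- cohomology -/
noncomputable abbrev hF (R : Type u) [CommRing R] (i : ℤ) := DerivedCategory.homologyFunctor (ModuleCat.{u} R) i

/-- cohomology in degrees `-1`, `0` -/
def Two (K : Dual.D R) : Prop := ∀ i : ℤ, i ≠ -1 → i ≠ 0 → Subsingleton (Dual.HD R K i)

lemma Two.isZero {K : Dual.D R} (h : Two K) (i : ℤ) (h1 : i ≠ -1) (h0 : i ≠ 0) : IsZero ((hF R i).obj K) :=
  have := h i h1 h0; ModuleCat.isZero_of_subsingleton _

lemma Two.isGE {K : Dual.D R} (h : Two K) : DerivedCategory.IsGE K (-1) :=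
  (DerivedCategory.isGE_iff _ _).2 fun i hi => h.isZero i (by omega) (by omega)

lemma Two.isLE {K : Dual.D R} (h : Two K) : DerivedCategory.IsLE K 0 :=
  (DerivedCategory.isLE_iff _ _).2 fun i hi => h.isZero i (by omega) (by omega)

lemma isZero_H_Sg (M : ModuleCat.{u} R) (i : ℤ) (hi : i ≠ 0) : IsZero ((hF R i).obj ((sgF R).obj M)) :=
  have := isZero_HD_inD (A := R) M i hi
  ModuleCat.isZero_of_subsingleton _

lemma hom_Sg_shift_eq_zero (F N : ModuleCat.{u} R) [Projective F] (x : (sgF R).obj F ⟶ ((sgF R).obj N)⟦(1 : ℤ)⟧) :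
    x = 0 := by
  refine (ev_bijective F _).1 ?_
  refine IsZero.eq_of_tgt (IsZero.of_iso (isZero_H_Sg N 1 one_ne_zero) ?_) _ _
  exact ((hF R 0).shiftIso (1 : ℤ) 0 1 (by omega)).app _

/-- a presentation by modules in degree zero -/
structure Pres (K : Dual.D R) where
  M : ModuleCat.{u} R
  F : ModuleCat.{u} R
  proj : Module.Projective R F
  u : M ⟶ F
  g : (sgF R).obj F ⟶ K
  δ : K ⟶ ((sgF R).obj M)⟦(1 : ℤ)⟧
  dist : Triangle.mk ((sgF R).map u) g δ ∈ distinguishedTriangles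

lemma Two.exists_pres_of_surj {K : Dual.D R} (h : Two K) (F : ModuleCat.{u} R) (hP : Module.Projective R F)
    (e : F ⟶ (hF R 0).obj K) (he : Epi e) : ∃ P : Pres K, P.F = F := by
  have : Projective F := ModuleCat.projective_of_categoryTheory_projective _
  obtain ⟨φ, hφ⟩ := (ev_bijective F K).2 e
  have hepi : Epi ((hF R 0).map φ) := by
    have : Epi (cIso.inv.app F ≫ (hF R 0).map φ) := by
      have h2 : cIso.inv.app F ≫ (hF R 0).map φ = e := hφ
      rw [h2]; exact he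
    exact epi_of_epi (cIso.inv.app F) _
  obtain ⟨Z, a, δ, hT⟩ := distinguished_cocone_triangle₁ φ
  let T := Triangle.mk a φ δ
  have hZ : ∀ i, i ≠ 0 → IsZero ((hF R i).obj Z) := fun i hi => by
    have h1 : (hF R i).map a = 0 := (isZero_H_Sg F i hi).eq_of_tgt _ _
    have ex := DerivedCategory.HomologySequence.exact₁ T hT (i - 1) i
    refine ex.isZero_X₂ ?_ h1
    by_cases hi1 : i = 1
    · subst hi1
      exact (DerivedCategory.HomologySequence.epi_homologyMap_mor₂_iff T hT (1 - 1) 1).1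
        (by rw [show (1 : ℤ) - 1 = 0 from rfl]; exact hepi)
    · exact (h.isZero (i - 1) (by omega) (by omega)).eq_of_src _ _
  have : DerivedCategory.IsGE Z 0 := (DerivedCategory.isGE_iff _ _).2 fun i hi => hZ i (by omega)
  have : DerivedCategory.IsLE Z 0 := (DerivedCategory.isLE_iff _ _).2 fun i hi => hZ i (by omega)
  obtain ⟨M, ⟨i⟩⟩ := DerivedCategory.exists_iso_singleFunctor_obj_of_isGE_of_isLE Z 0
  obtain ⟨u, hu⟩ := (sgF R).map_surjective (i.inv ≫ a)
  refine ⟨⟨M, F, hP, u, φ, δ ≫ i.hom⟦(1 : ℤ)⟧', isomorphic_distinguished _ hT _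
    (Triangle.isoMk _ _ i.symm (Iso.refl _) (Iso.refl _) ?_ ?_ ?_)⟩, rfl⟩
  · change (sgF R).map u ≫ 𝟙 _ = i.inv ≫ a
    rw [comp_id, hu]
  · change φ ≫ 𝟙 _ = 𝟙 _ ≫ φ
    exact (comp_id _).trans (id_comp _).symm
  · change (δ ≫ i.hom⟦(1 : ℤ)⟧') ≫ i.inv⟦(1 : ℤ)⟧' = 𝟙 _ ≫ δ
    refine ((assoc _ _ _).trans ?_).trans (id_comp _).symm
    rw [← Functor.map_comp, Iso.hom_inv_id, CategoryTheory.Functor.map_id]
    exact comp_id _

lemma Two.exists_pres_free {K : Dual.D R} (h : Two K) : ∃ P : Pres K, Module.Free R P.F := by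
  let F : ModuleCat.{u} R := ModuleCat.of R (Dual.HD R K 0 →₀ R)
  let e : F ⟶ (hF R 0).obj K := ModuleCat.ofHom (Finsupp.linearCombination R (id : Dual.HD R K 0 → Dual.HD R K 0))
  obtain ⟨P, hP⟩ := h.exists_pres_of_surj F inferInstance e ((ModuleCat.epi_iff_surjective _).2 fun x =>
    ⟨Finsupp.single x 1, (Finsupp.linearCombination_single R 1 x).trans (one_smul R x)⟩)
  refine ⟨P, ?_⟩
  rw [hP]
  change Module.Free R (Dual.HD R K 0 →₀ R)
  infer_instance

lemma Two.exists_pres {K : Dual.D R} (h : Two K) : Nonempty (Pres K) :=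
  h.exists_pres_free.elim fun P _ => ⟨P⟩

namespace Pres

variable {K : Dual.D R} (P : Pres K)

/-- `H⁰` of the presentation -/
noncomputable def p : P.F ⟶ (hF R 0).obj K := ev P.g

/-- connecting map -/
noncomputable def δH : (hF R (-1)).obj K ⟶ (hF R 0).obj ((sgF R).obj P.M) :=
  DerivedCategory.HomologySequence.δ (Triangle.mk ((sgF R).map P.u) P.g P.δ) (-1) 0

/-- connecting map -/
noncomputable def d : (hF R (-1)).obj K ⟶ P.M := P.δH ≫ cIso.hom.app P.M

lemma δH_u : P.δH ≫ (hF R 0).map ((sgF R).map P.u) = 0 :=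
  DerivedCategory.HomologySequence.δ_comp (Triangle.mk ((sgF R).map P.u) P.g P.δ) P.dist (-1) 0

lemma fac₃ {Y : Dual.D R} (ξ : K ⟶ Y) (h : P.g ≫ ξ = 0) : ∃ w, ξ = P.δ ≫ w :=
  Triangle.yoneda_exact₃ _ P.dist ξ h

lemma fac₄ {Y : Dual.D R} (x : ((sgF R).obj P.M)⟦(1 : ℤ)⟧ ⟶ Y) (h : P.δ ≫ x = 0) :
    ∃ y, x = (-((sgF R).map P.u)⟦(1 : ℤ)⟧') ≫ y :=
  Triangle.yoneda_exact₃ _ (rot_of_distTriang _ P.dist) x h

lemma δ_u : P.δ ≫ ((sgF R).map P.u)⟦(1 : ℤ)⟧' = 0 := comp_distTriang_mor_zero₃₁ _ P.dist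

lemma g_zero : (sgF R).map P.u ≫ P.g = 0 := comp_distTriang_mor_zero₁₂ _ P.dist

lemma u_conj : cIso.hom.app P.M ≫ P.u = (hF R 0).map ((sgF R).map P.u) ≫ cIso.hom.app P.F :=
  (cIso.hom.naturality P.u).symm

lemma mono_d : Mono P.d := by
  let T : Triangle (Dual.D R) := Triangle.mk ((sgF R).map P.u) P.g P.δ
  have h0 : (hF R (-1)).map P.g = 0 := (isZero_H_Sg P.F (-1) (by omega)).eq_of_src _ _
  have : Mono P.δH :=
    (DerivedCategory.HomologySequence.exact₃ T P.dist (-1) 0).mono_g h0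
  exact ⟨fun a b h => (cancel_mono P.δH).1 ((cIso.app P.M).cancel_iso_hom_right _ _ |>.1 (by simpa [d] using h))⟩

lemma epi_p : Epi P.p := by
  let T := Triangle.mk ((sgF R).map P.u) P.g P.δ
  have : Epi ((hF R 0).map P.g) :=
    (DerivedCategory.HomologySequence.epi_homologyMap_mor₂_iff T P.dist 0 1).2
      ((isZero_H_Sg P.M 1 one_ne_zero).eq_of_tgt _ _)
  exact epi_comp (cIso.inv.app P.F) ((hF R 0).map P.g)

lemma d_u (x : (hF R (-1)).obj K) : P.u.hom (P.d.hom x) = 0 := by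
  have h : P.d ≫ P.u = 0 := by
    rw [d, assoc, P.u_conj, ← assoc, P.δH_u, zero_comp]
  exact congrArg (fun t : (hF R (-1)).obj K ⟶ P.F => t.hom x) h

lemma exists_d {m : P.M} (hm : P.u.hom m = 0) : ∃ x, P.d.hom x = m := by
  let T := Triangle.mk ((sgF R).map P.u) P.g P.δ
  have ex := (ShortComplex.moduleCat_exact_iff _).1 (DerivedCategory.HomologySequence.exact₁ T P.dist (-1) 0)
  have h0 : ((hF R 0).map ((sgF R).map P.u)).hom ((cIso.inv.app P.M).hom m) = 0 := by
    have h := congrArg (fun t : P.M ⟶ _ => t.hom m) (cIso.inv.naturality P.u)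
    exact h.symm.trans ((congrArg (cIso.inv.app P.F).hom hm).trans (map_zero _))
  obtain ⟨x, hx⟩ := ex _ h0
  refine ⟨x, ?_⟩
  exact (congrArg (cIso.hom.app P.M).hom hx).trans
    (congrArg (fun t : P.M ⟶ P.M => t.hom m) (cIso.inv_hom_id_app P.M))

lemma p_u (m : P.M) : P.p.hom (P.u.hom m) = 0 := by
  have h : P.u ≫ P.p = 0 := by
    rw [p, ← ev_pre, P.g_zero]
    simp [ev]
  exact congrArg (fun t : P.M ⟶ _ => t.hom m) h

lemma exists_u {x : P.F} (hx : P.p.hom x = 0) : ∃ m, P.u.hom m = x := by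
  let T := Triangle.mk ((sgF R).map P.u) P.g P.δ
  obtain ⟨y, hy⟩ := (ShortComplex.moduleCat_exact_iff _).1
    (DerivedCategory.HomologySequence.exact₂ T P.dist 0) ((cIso.inv.app P.F).hom x) hx
  refine ⟨(cIso.hom.app P.M).hom y, ?_⟩
  exact ((congrArg (fun t : _ ⟶ P.F => t.hom y) P.u_conj).trans (congrArg (cIso.hom.app P.F).hom hy)).trans
    (congrArg (fun t : P.F ⟶ P.F => t.hom x) (cIso.inv_hom_id_app P.F))

theorem ann_iff (a : R) :
    (∀ (N : ModuleCat.{u} R) (ξ : K ⟶ ((sgF R).obj N)⟦(1 : ℤ)⟧), a • ξ = 0) ↔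
      ∃ h : P.F ⟶ P.M, P.u ≫ h = a • 𝟙 P.M := by
  constructor
  · intro H
    obtain ⟨y, hy⟩ := P.fac₄ (a • 𝟙 (((sgF R).obj P.M)⟦(1 : ℤ)⟧)) (by
      rw [Linear.comp_smul, comp_id]; exact H P.M P.δ)
    obtain ⟨y', rfl⟩ := (shiftFunctor (Dual.D R) (1 : ℤ)).map_surjective y
    obtain ⟨h, rfl⟩ := (sgF R).map_surjective y'
    refine ⟨-h, (sgF R).map_injective ((shiftFunctor (Dual.D R) (1 : ℤ)).map_injective ?_)⟩
    simp only [Functor.map_comp, Functor.map_neg, Functor.map_smul, Preadditive.comp_neg, CategoryTheory.Functor.map_id]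
    rw [hy, Preadditive.neg_comp]
  · rintro ⟨h, hh⟩ N ξ
    have := P.proj
    have : Projective P.F := ModuleCat.projective_of_categoryTheory_projective _
    obtain ⟨w, rfl⟩ := P.fac₃ ξ (hom_Sg_shift_eq_zero _ _ _)
    obtain ⟨w', rfl⟩ := (shiftFunctor (Dual.D R) (1 : ℤ)).map_surjective w
    obtain ⟨θ, rfl⟩ := (sgF R).map_surjective w'
    have hθ : a • θ = P.u ≫ h ≫ θ := by rw [← assoc, hh, Linear.smul_comp, id_comp]
    rw [← Linear.comp_smul, ← Functor.map_smul, ← Functor.map_smul, hθ, Functor.map_comp, Functor.map_comp]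
    rw [← assoc, P.δ_u, zero_comp]

include P in
theorem twoTerm (hF : Module.Free R P.F) : ∃ E : DRing.Cx R, DRing.VanishesOutside E (-1) 0 ∧ Module.Free R (E.X 0) ∧
    Nonempty (E.X 0 ≅ P.F) ∧ Nonempty (E.X (-1) ≅ P.M) ∧ Nonempty (DRing.toD E ≅ K) := by
  let φ := (single (ModuleCat.{u} R) (ComplexShape.up ℤ) 0).map P.u
  let E := CochainComplex.mappingCone φ
  have hd : DerivedCategory.Q.mapTriangle.obj (CochainComplex.mappingCone.triangle φ) ∈ distinguishedTriangles :=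
    (DerivedCategory.mem_distTriang_iff _).2 ⟨_, _, φ, ⟨Iso.refl _⟩⟩
  let eT := isoTriangleOfIso₁₂ _ _ hd P.dist
    ((DerivedCategory.singleFunctorIsoCompQ _ 0).symm.app P.M) ((DerivedCategory.singleFunctorIsoCompQ _ 0).symm.app P.F)
    (by simp [φ, DerivedCategory.singleFunctorIsoCompQ]; rfl)
  have i0 : IsIso ((CochainComplex.mappingCone.inr φ).f 0) := by
    refine ⟨(CochainComplex.mappingCone.snd φ).v 0 0 (add_zero 0), by simp, ?_⟩
    refine CochainComplex.mappingCone.ext_from φ 1 0 rfl ?_ ?_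
    · exact (isZero_single_obj_X _ _ _ _ (by omega)).eq_of_src _ _
    · simp
  have i1 : IsIso ((CochainComplex.mappingCone.inl φ).v 0 (-1) (by omega)) := by
    refine ⟨(CochainComplex.mappingCone.fst φ).1.v (-1) 0 (by omega), by simp, ?_⟩
    refine CochainComplex.mappingCone.ext_from φ 0 (-1) rfl ?_ ?_
    · simp
    · exact (isZero_single_obj_X _ _ _ _ (by omega)).eq_of_src _ _
  refine ⟨E, fun i hi => ?_, ?_, ⟨(asIso ((CochainComplex.mappingCone.inr φ).f 0)).symm ≪≫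
      singleObjXSelf (ComplexShape.up ℤ) 0 P.F⟩,
    ⟨(asIso ((CochainComplex.mappingCone.inl φ).v 0 (-1) _)).symm ≪≫
      singleObjXSelf (ComplexShape.up ℤ) 0 P.M⟩, ⟨Triangle.π₃.mapIso eT⟩⟩
  · refine (IsZero.iff_id_eq_zero _).2 (CochainComplex.mappingCone.ext_from φ (i + 1) i rfl ?_ ?_)
    · exact (isZero_single_obj_X _ _ _ _ (by omega)).eq_of_src _ _
    · exact (isZero_single_obj_X _ _ _ _ (by omega)).eq_of_src _ _
  · exact Module.Free.of_equiv ((singleObjXSelf (ComplexShape.up ℤ) 0 P.F).symm ≪≫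
      asIso ((CochainComplex.mappingCone.inr φ).f 0)).toLinearEquiv

/-- annihilation of `H⁻¹` -/
lemma ann_neg_one (a : R) (hh : ∃ h : P.F ⟶ P.M, P.u ≫ h = a • 𝟙 P.M) (x : (hF R (-1)).obj K) : a • x = 0 := by
  obtain ⟨h, hh⟩ := hh
  have := P.mono_d
  apply (ModuleCat.mono_iff_injective P.d).1 inferInstance
  have h1 := congrArg (fun t : P.M ⟶ P.M => t.hom (P.d.hom x)) hh
  change h.hom (P.u.hom (P.d.hom x)) = a • P.d.hom x at h1
  rw [P.d_u, map_zero] at h1
  rw [map_smul, map_zero, ← h1]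

/-- the short exact sequence `0 → im u → F → H⁰ → 0` -/
noncomputable def pres₀ : Pres ((sgF R).obj ((hF R 0).obj K)) :=
  let S : ShortComplex (ModuleCat.{u} R) := ShortComplex.mk (ModuleCat.ofHom (LinearMap.range P.u.hom).subtype) P.p
    (ModuleCat.hom_ext (LinearMap.ext fun ⟨x, m, hm⟩ => by
      change P.p.hom x = 0
      rw [← hm]; exact P.p_u m))
  have hS : S.ShortExact :=
    { exact := (ShortComplex.moduleCat_exact_iff _).2 fun x hx =>
        let ⟨m, hm⟩ := P.exists_u hx; ⟨⟨x, m, hm⟩, rfl⟩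
      mono_f := (ModuleCat.mono_iff_injective _).2 (Submodule.injective_subtype _)
      epi_g := P.epi_p }
  { M := ModuleCat.of R (LinearMap.range P.u.hom)
    F := P.F
    proj := P.proj
    u := S.f
    g := (sgF R).map P.p
    δ := hS.singleδ
    dist := hS.singleTriangle_distinguished }

theorem pair_iff (a b : R) :
    (∀ x : (hF R (-1)).obj K, a • x = 0) → (∃ h : P.F ⟶ P.pres₀.M, P.pres₀.u ≫ h = b • 𝟙 _) →
      ∃ h : P.F ⟶ P.M, P.u ≫ h = (a * b) • 𝟙 P.M := by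
  rintro ha ⟨h, hh⟩
  have := P.proj
  have : Projective P.F := ModuleCat.projective_of_categoryTheory_projective _
  let q : P.M ⟶ P.pres₀.M := ModuleCat.ofHom P.u.hom.rangeRestrict
  have : Epi q := (ModuleCat.epi_iff_surjective _).2 (LinearMap.surjective_rangeRestrict P.u.hom)
  let h' := Projective.factorThru h q
  refine ⟨a • h', ModuleCat.hom_ext (LinearMap.ext fun m => ?_)⟩
  have h1 : q.hom (h'.hom (P.u.hom m)) = h.hom (P.u.hom m) :=
    congrArg (fun t : P.F ⟶ P.pres₀.M => t.hom (P.u.hom m)) (Projective.factorThru_comp h q)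
  have h2 : h.hom (P.u.hom m) = b • (q.hom m) :=
    congrArg (fun t : P.pres₀.M ⟶ P.pres₀.M => t.hom (q.hom m)) hh
  obtain ⟨x, hx⟩ := P.exists_d (m := h'.hom (P.u.hom m) - b • m) (by
    rw [map_sub, map_smul, sub_eq_zero]
    exact congrArg Subtype.val (h1.trans h2))
  change a • h'.hom (P.u.hom m) = (a * b) • m
  rw [mul_smul, ← sub_eq_zero, ← smul_sub, ← hx, ← map_smul, ha, map_zero]

theorem ann₀ (a : R) (hh : ∃ h : P.F ⟶ P.M, P.u ≫ h = a • 𝟙 P.M) :
    ∃ h : P.pres₀.F ⟶ P.pres₀.M, P.pres₀.u ≫ h = a • 𝟙 _ := by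
  obtain ⟨h, hh⟩ := hh
  refine ⟨h ≫ ModuleCat.ofHom P.u.hom.rangeRestrict, ModuleCat.hom_ext (LinearMap.ext fun ⟨x, m, hm⟩ => ?_)⟩
  refine Subtype.ext ?_
  change P.u.hom (h.hom x) = a • x
  have h1 := congrArg (fun t : P.M ⟶ P.M => t.hom m) hh
  change h.hom (P.u.hom m) = a • m at h1
  rw [← hm, h1, map_smul]

end Pres

theorem ext_one_iff {K : Dual.D R} (h : Two K) :
    (Subsingleton (Dual.HD R K (-1)) ∧ Module.Projective R (Dual.HD R K 0)) ↔
      ∀ (M : Type u) [AddCommGroup M] [Module R M], Subsingleton (K ⟶ (Dual.inD R M)⟦(1 : ℤ)⟧) := by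
  obtain ⟨P⟩ := h.exists_pres
  have := P.proj
  constructor
  · rintro ⟨h1, h0⟩ M _ _
    have hu : Function.Injective P.u.hom := (injective_iff_map_eq_zero _).2 fun m hm => by
      obtain ⟨x, rfl⟩ := P.exists_d hm
      rw [Subsingleton.elim x 0, map_zero]
    obtain ⟨s, hs⟩ := Module.projective_lifting_property P.p.hom LinearMap.id ((ModuleCat.epi_iff_surjective _).1 P.epi_p)
    have hx : ∀ x : P.F, ∃ m, P.u.hom m = x - s (P.p.hom x) := fun x => P.exists_u (by
      rw [map_sub, ← LinearMap.comp_apply P.p.hom s, hs]; simp)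
    choose r hr using hx
    let r' : P.F →ₗ[R] P.M :=
      { toFun := r
        map_add' := fun x y => hu (by simp only [map_add, hr]; abel)
        map_smul' := fun c x => hu (by simp only [RingHom.id_apply, map_smul, hr, smul_sub]) }
    have hh : ∃ h : P.F ⟶ P.M, P.u ≫ h = (1 : R) • 𝟙 P.M := ⟨ModuleCat.ofHom r',
      ModuleCat.hom_ext (LinearMap.ext fun m => hu (by
        change P.u.hom (r (P.u.hom m)) = P.u.hom ((1 : R) • m)
        rw [hr, P.p_u, map_zero, sub_zero, one_smul]))⟩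
    exact ⟨fun x y => by
      have e := (P.ann_iff 1).2 hh (ModuleCat.of R M)
      rw [← one_smul R x, ← one_smul R y, e, e]⟩
  · intro H
    have hh := (P.ann_iff 1).1 (fun N ξ => (H N).elim _ _)
    refine ⟨⟨fun x y => ?_⟩, ?_⟩
    · rw [← one_smul R x, ← one_smul R y, P.ann_neg_one 1 hh, P.ann_neg_one 1 hh]
    · obtain ⟨r, hr⟩ := hh
      have hl : ∀ m, r.hom (P.u.hom m) = m := fun m => by
        have := congrArg (fun t : P.M ⟶ P.M => t.hom m) hr
        exact this.trans (one_smul R m)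
      have hw : ∀ y : Dual.HD R K 0, ∃ x : P.F, P.p.hom x = y ∧ r.hom x = 0 := fun y => by
        obtain ⟨x, rfl⟩ := (ModuleCat.epi_iff_surjective _).1 P.epi_p y
        exact ⟨x - P.u.hom (r.hom x), by rw [map_sub, P.p_u, sub_zero], by rw [map_sub, hl, sub_self]⟩
      choose w hw1 hw2 using hw
      have huniq : ∀ x x' : P.F, P.p.hom x = P.p.hom x' → r.hom x = r.hom x' → x = x' := fun x x' h1 h2 => by
        obtain ⟨m, hm⟩ := P.exists_u (x := x - x') (by rw [map_sub, h1, sub_self])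
        have := hl m
        rw [hm, map_sub, h2, sub_self] at this
        rw [← this, map_zero] at hm
        exact sub_eq_zero.1 hm.symm
      refine Module.Projective.of_split
        { toFun := w
          map_add' := fun a b => huniq _ _ (by simp [hw1]) (by simp [hw2])
          map_smul' := fun c a => huniq _ _ (by simp [hw1]) (by simp [hw2]) }
        P.p.hom (LinearMap.ext hw1)

theorem exists_twoTerm_free {K : Dual.D R} (h : Two K) :
    ∃ E : DRing.Cx R, DRing.VanishesOutside E (-1) 0 ∧ Module.Free R (E.X 0) ∧ Nonempty (DRing.toD E ≅ K) :=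
  h.exists_pres_free.elim fun P hP => (P.twoTerm hP).elim fun E ⟨h1, h2, _, _, h3⟩ => ⟨E, h1, h2, h3⟩

/-- the ideal of elements killing `Ext¹` -/
theorem pow_ann_iff (I : Ideal R) {K : Dual.D R} (h : Two K) :
    (∃ c : ℕ, ∀ (N : Type u) [AddCommGroup N] [Module R N] (a : R), a ∈ I ^ c →
        ∀ ξ : K ⟶ (Dual.inD R N)⟦(1 : ℤ)⟧, a • ξ = 0) ↔
      ∃ c : ℕ, (∀ a : R, a ∈ I ^ c → ∀ x : Dual.HD R K (-1), a • x = 0) ∧
        ∀ (N : Type u) [AddCommGroup N] [Module R N] (a : R), a ∈ I ^ c →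
          ∀ ξ : Dual.inD R (Dual.HD R K 0) ⟶ (Dual.inD R N)⟦(1 : ℤ)⟧, a • ξ = 0 := by
  obtain ⟨P⟩ := h.exists_pres
  constructor
  · rintro ⟨c, hc⟩
    have hh := fun a ha => (P.ann_iff a).1 (fun N => hc N a ha)
    exact ⟨c, fun a ha => P.ann_neg_one a (hh a ha),
      fun N _ _ a ha => (P.pres₀.ann_iff a).2 (P.ann₀ a (hh a ha)) (ModuleCat.of R N)⟩
  · rintro ⟨c, h1, h0⟩
    refine ⟨c + c, fun N _ _ a ha => ?_⟩
    suffices hh : ∃ h : P.F ⟶ P.M, P.u ≫ h = a • 𝟙 P.M from (P.ann_iff a).2 hh (ModuleCat.of R N)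
    rw [pow_add] at ha
    refine Submodule.mul_induction_on ha (fun x hx y hy => ?_) (fun x y ⟨g, hg⟩ ⟨g', hg'⟩ => ?_)
    · exact P.pair_iff x y (h1 x hx) ((P.pres₀.ann_iff y).1 (fun N => h0 N y hy))
    · exact ⟨g + g', by rw [Preadditive.comp_add, hg, hg', add_smul]⟩

/-- `H⁰`-iso and `H⁻¹`-epi: precomposition is injective into objects `≥ -1` -/
theorem eq_zero_of_precomp {K K' Y : Dual.D R} (α : K ⟶ K') (h : Two K) (h' : Two K')
    (h0 : IsIso ((hF R 0).map α)) (h1 : Epi ((hF R (-1)).map α)) [DerivedCategory.IsGE Y (-1)]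
    (x : K' ⟶ Y) (hx : α ≫ x = 0) : x = 0 := by
  obtain ⟨C, g, δ, hT⟩ := distinguished_cocone_triangle α
  obtain ⟨y, rfl⟩ := Triangle.yoneda_exact₂ _ hT x hx
  have : DerivedCategory.IsLE C (-2) := (DerivedCategory.isLE_iff _ _).2 fun i hi => by
    let T := Triangle.mk α g δ
    refine (DerivedCategory.HomologySequence.exact₃ T hT i (i + 1)).isZero_X₂ ?_ ?_
    · have : Epi ((hF R i).map T.mor₁) := by
        by_cases e : i = -1
        · subst e; exact h1
        by_cases e' : i = 0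
        · subst e'; exact h0.epi_of_iso
        exact ⟨fun _ _ _ => (h'.isZero i e e').eq_of_src _ _⟩
      exact (DerivedCategory.HomologySequence.epi_homologyMap_mor₁_iff T hT i).1 this
    · have : Mono ((hF R (i + 1)).map T.mor₁) := by
        by_cases e : i + 1 = 0
        · rw [e]; exact h0.mono_of_iso
        exact ⟨fun _ _ _ => (h.isZero (i + 1) (by omega) e).eq_of_tgt _ _⟩
      exact (DerivedCategory.HomologySequence.mono_homologyMap_mor₁_iff T hT i (i + 1)).1 this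
  have hy : (y : C ⟶ Y) = 0 := DerivedCategory.TStructure.t.zero (X := C) (Y := Y) _ (-2) (-1)
  exact (congrArg (fun t => g ≫ t) hy).trans comp_zero

theorem smul_id_eq_zero {K K' : Dual.D R} (α : K ⟶ K') (h : Two K) (h' : Two K')
    (h0 : IsIso ((hF R 0).map α)) (h1 : Epi ((hF R (-1)).map α)) (f : R) (hf : f • 𝟙 K = 0) : f • 𝟙 K' = 0 := by
  have := h'.isGE
  refine eq_zero_of_precomp α h h' h0 h1 _ ?_
  rw [Linear.comp_smul, comp_id, ← id_comp α, ← Linear.smul_comp, hf, zero_comp]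

theorem ext_ann_of_surj (I : Ideal R) {K K' : Dual.D R} (α : K ⟶ K') (h : Two K) (h' : Two K')
    (h0 : IsIso ((hF R 0).map α)) (h1 : Epi ((hF R (-1)).map α))
    (hI : ∀ (N : Type u) [AddCommGroup N] [Module R N] (a : R), a ∈ I →
        ∀ ξ : K ⟶ (Dual.inD R N)⟦(1 : ℤ)⟧, a • ξ = 0)
    (N : Type u) [AddCommGroup N] [Module R N] (a : R) (ha : a ∈ I) (ξ : K' ⟶ (Dual.inD R N)⟦(1 : ℤ)⟧) :
    a • ξ = 0 := by
  have : DerivedCategory.IsGE ((Dual.inD R N)⟦(1 : ℤ)⟧) (-1) :=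
    DerivedCategory.TStructure.t.isGE_shift _ 0 1 (-1) (by omega)
  refine eq_zero_of_precomp α h h' h0 h1 _ ?_
  rw [Linear.comp_smul]; exact hI N a ha _

lemma eq_zero_of_H0 {X Y : Dual.D R} (hX : DerivedCategory.IsLE X 0) (hY : DerivedCategory.IsGE Y 0)
    (f : X ⟶ Y) (hf : (hF R 0).map f = 0) : f = 0 := by
  let F : ModuleCat.{u} R := ModuleCat.of R (Dual.HD R X 0 →₀ R)
  let e : F ⟶ (hF R 0).obj X := ModuleCat.ofHom (Finsupp.linearCombination R (id : Dual.HD R X 0 → Dual.HD R X 0))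
  have : Projective F := ModuleCat.projective_of_categoryTheory_projective _
  have he : Epi e := (ModuleCat.epi_iff_surjective _).2 fun x =>
    ⟨Finsupp.single x 1, (Finsupp.linearCombination_single R 1 x).trans (one_smul R x)⟩
  obtain ⟨φ, hφ⟩ := (ev_bijective F X).2 e
  have hepi : Epi ((hF R 0).map φ) := by
    have : Epi (cIso.inv.app F ≫ (hF R 0).map φ) := by
      have h2 : cIso.inv.app F ≫ (hF R 0).map φ = e := hφ
      rw [h2]; exact he
    exact epi_of_epi (cIso.inv.app F) _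
  have h0 : φ ≫ f = 0 := (ev_bijective F Y).1 (by
    change ev (φ ≫ f) = ev 0
    rw [ev_comp]
    simp [ev, hf])
  obtain ⟨C, g, δ, hT⟩ := distinguished_cocone_triangle φ
  obtain ⟨y, rfl⟩ := Triangle.yoneda_exact₂ _ hT f h0
  let T := Triangle.mk φ g δ
  have : DerivedCategory.IsLE C (-1) := (DerivedCategory.isLE_iff _ _).2 fun i hi => by
    refine (DerivedCategory.HomologySequence.exact₃ T hT i (i + 1)).isZero_X₂ ?_ ?_
    · refine (DerivedCategory.HomologySequence.epi_homologyMap_mor₁_iff T hT i).1 ?_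
      by_cases e' : i = 0
      · subst e'; exact hepi
      exact ⟨fun _ _ _ => ((DerivedCategory.isZero_of_isLE X 0 i (by omega))).eq_of_src _ _⟩
    · exact (isZero_H_Sg F (i + 1) (by omega)).eq_of_tgt _ _
  have hy : (y : C ⟶ Y) = 0 := DerivedCategory.TStructure.t.zero (X := C) (Y := Y) _ (-1) 0
  exact (congrArg (fun t => g ≫ t) hy).trans comp_zero

/-- a presentation from a two-term complex -/
theorem exists_pres_of_complex {K : Dual.D R} (E : DRing.Cx R) (hE : DRing.VanishesOutside E (-1) 0)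
    (hP : Module.Projective R (E.X 0)) (e : DRing.toD E ≅ K) :
    ∃ (P : Pres K) (eM : E.X (-1) ≅ P.M) (eF : E.X 0 ≅ P.F), E.d (-1) 0 ≫ eF.hom = eM.hom ≫ P.u := by
  let φ := (single (ModuleCat.{u} R) (ComplexShape.up ℤ) 0).map (E.d (-1) 0)
  let S1 := (single (ModuleCat.{u} R) (ComplexShape.up ℤ) 0).obj (E.X (-1))
  let α : CochainComplex.HomComplex.Cochain S1 E (-1) :=
    CochainComplex.HomComplex.Cochain.mk fun p q hpq =>
      if hp : p = 0 then eqToHom (by rw [hp]) ≫ (singleObjXSelf (ComplexShape.up ℤ) 0 (E.X (-1))).hom ≫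
        eqToHom (congrArg E.X (by omega)) else 0
  let β : (single (ModuleCat.{u} R) (ComplexShape.up ℤ) 0).obj (E.X 0) ⟶ E :=
    mkHomFromSingle (𝟙 _) (fun j hj => (hE j (Or.inr (by simp at hj; omega))).eq_of_tgt _ _)
  have eq : δ (-1) 0 α = Cochain.ofHom (φ ≫ β) := by
    refine Cochain.ext _ _ fun p q hpq => ?_
    obtain rfl : p = q := by omega
    by_cases hp : p = 0
    · subst hp
      rw [δ_v (-1) 0 rfl _ 0 0 _ (-1) 1 (by omega) (by omega)]
      simp [α, β, φ, single_map_f_self]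
    · exact (isZero_single_obj_X _ _ _ _ hp).eq_of_src _ _
  let F := CochainComplex.mappingCone.desc φ α β eq
  have : ∀ n, IsIso (F.f n) := fun n => by
    by_cases hn : n = 0
    · subst hn
      refine ⟨(singleObjXSelf (ComplexShape.up ℤ) 0 (E.X 0)).inv ≫ (CochainComplex.mappingCone.inr φ).f 0, ?_, ?_⟩
      · refine CochainComplex.mappingCone.ext_from φ 1 0 rfl ?_ ?_
        · exact (isZero_single_obj_X _ _ _ _ (by omega)).eq_of_src _ _
        · simp [F, β]
      · simp [F, β]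
    by_cases hn' : n = -1
    · subst hn'
      refine ⟨(singleObjXSelf (ComplexShape.up ℤ) 0 (E.X (-1))).inv ≫
        (CochainComplex.mappingCone.inl φ).v 0 (-1) (by omega), ?_, ?_⟩
      · refine CochainComplex.mappingCone.ext_from φ 0 (-1) rfl ?_ ?_
        · simp [F, α]
        · exact (isZero_single_obj_X _ _ _ _ (by omega)).eq_of_src _ _
      · simp [F, α]
    · have hc : IsZero ((CochainComplex.mappingCone φ).X n) :=
        (IsZero.iff_id_eq_zero _).2 (CochainComplex.mappingCone.ext_from φ (n + 1) n rfl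
          ((isZero_single_obj_X _ _ _ _ (by omega)).eq_of_src _ _)
          ((isZero_single_obj_X _ _ _ _ hn).eq_of_src _ _))
      exact ⟨0, hc.eq_of_src _ _, (hE n (by omega)).eq_of_src _ _⟩
  have : IsIso F := Hom.isIso_of_components F
  let T := DerivedCategory.Q.mapTriangle.obj (CochainComplex.mappingCone.triangle φ)
  have hd : T ∈ distinguishedTriangles := (DerivedCategory.mem_distTriang_iff _).2 ⟨_, _, φ, ⟨Iso.refl _⟩⟩
  let i := DerivedCategory.Q.mapIso (asIso F) ≪≫ e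
  refine ⟨⟨E.X (-1), E.X 0, hP, E.d (-1) 0, T.mor₂ ≫ i.hom, i.inv ≫ T.mor₃,
    isomorphic_distinguished _ hd _ (Triangle.isoMk _ _ (Iso.refl _) (Iso.refl _) i.symm ?_ ?_ ?_)⟩,
    Iso.refl _, Iso.refl _, (comp_id _).trans (id_comp _).symm⟩
  · exact (comp_id _).trans (id_comp _).symm
  · change (T.mor₂ ≫ i.hom) ≫ i.inv = 𝟙 _ ≫ T.mor₂
    exact ((assoc _ _ _).trans ((congrArg (T.mor₂ ≫ ·) i.hom_inv_id).trans (comp_id _))).trans (id_comp _).symm
  · change (i.inv ≫ T.mor₃) ≫ (𝟙 T.obj₁)⟦(1 : ℤ)⟧' = i.inv ≫ T.mor₃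
    rw [CategoryTheory.Functor.map_id, comp_id]

theorem ann_complex_iff (I : Ideal R) {K : Dual.D R} (h : Two K) :
    (∀ (N : Type u) [AddCommGroup N] [Module R N] (a : R), a ∈ I →
        ∀ ξ : K ⟶ (Dual.inD R N)⟦(1 : ℤ)⟧, a • ξ = 0) ↔
      ∀ (E : DRing.Cx R), DRing.VanishesOutside E (-1) 0 → Module.Projective R (E.X 0) →
        Nonempty (DRing.toD E ≅ K) → ∀ a : R, a ∈ I →
          ∃ h : E.X 0 ⟶ E.X (-1), E.d (-1) 0 ≫ h = a • 𝟙 (E.X (-1)) := by
  constructor
  · rintro H E hE hP ⟨e⟩ a ha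
    obtain ⟨P, eM, eF, hc⟩ := exists_pres_of_complex E hE hP e
    obtain ⟨k, hk⟩ := (P.ann_iff a).1 (fun N => H N a ha)
    refine ⟨eF.hom ≫ k ≫ eM.inv, ?_⟩
    rw [reassoc_of% hc, reassoc_of% hk]
    simp
  · intro H N _ _ a ha ξ
    obtain ⟨E, hE, hF, ⟨e⟩⟩ := exists_twoTerm_free h
    have : Module.Projective R (E.X 0) := Module.Projective.of_free
    obtain ⟨P, eM, eF, hc⟩ := exists_pres_of_complex E hE this e
    obtain ⟨k, hk⟩ := H E hE this ⟨e⟩ a ha
    refine (P.ann_iff a).2 ⟨eF.inv ≫ k ≫ eM.hom, ?_⟩ (ModuleCat.of R N) ξ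
    rw [← cancel_epi eM.hom, ← reassoc_of% hc, Iso.hom_inv_id_assoc, reassoc_of% hk]
    simp

theorem comp_eq_zero {K₁ K₂ K₃ : Dual.D R} (φ : K₁ ⟶ K₂) (ψ : K₂ ⟶ K₃) (h₁ : Two K₁) (h₂ : Two K₂) (h₃ : Two K₃)
    (hφ : (hF R 0).map φ = 0) (hψ : (hF R (-1)).map ψ = 0) : φ ≫ ψ = 0 := by
  obtain ⟨X, Y, hX, hY, f, g, h, hT⟩ := DerivedCategory.TStructure.t.exists_triangle K₂ (-1) 0 (by omega)
  have : DerivedCategory.IsLE X (-1) := ⟨hX⟩
  have : DerivedCategory.IsGE Y 0 := ⟨hY⟩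
  have h0 : φ ≫ g = 0 := eq_zero_of_H0 h₁.isLE inferInstance _ (by rw [Functor.map_comp, hφ, zero_comp])
  obtain ⟨φ', rfl⟩ : ∃ φ', φ = φ' ≫ f := Triangle.coyoneda_exact₂ _ hT φ h0
  suffices f ≫ ψ = 0 by rw [assoc, this, comp_zero]
  apply (shiftFunctor (Dual.D R) (-1 : ℤ)).map_injective
  rw [Functor.map_zero]
  have := h₃.isGE
  refine eq_zero_of_H0 (DerivedCategory.TStructure.t.isLE_shift X (-1) (-1) 0 (by omega))
    (DerivedCategory.TStructure.t.isGE_shift K₃ (-1) (-1) 0 (by omega)) _ ?_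
  let e := (hF R 0).shiftIso (-1 : ℤ) 0 (-1) (by omega)
  have hn := e.hom.naturality (f ≫ ψ)
  refine ((e.app K₃).cancel_iso_hom_right _ _).1 ?_
  refine hn.trans (Eq.trans ?_ zero_comp.symm)
  have : (hF R (-1)).map (f ≫ ψ) = 0 := by rw [Functor.map_comp, hψ, comp_zero]
  exact (congrArg (fun t => _ ≫ t) this).trans comp_zero

theorem exists_twoTerm_finite [IsNoetherianRing R] {K : Dual.D R} (h : Two K)
    (h1 : Module.Finite R (Dual.HD R K (-1))) (h0 : Module.Finite R (Dual.HD R K 0)) :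
    ∃ E : DRing.Cx R, DRing.VanishesOutside E (-1) 0 ∧ Module.Free R (E.X 0) ∧ Module.Finite R (E.X 0) ∧
      Module.Finite R (E.X (-1)) ∧ Nonempty (DRing.toD E ≅ K) := by
  obtain ⟨n, f, hf⟩ := Module.Finite.exists_fin' R (Dual.HD R K 0)
  obtain ⟨P, hP⟩ := h.exists_pres_of_surj (ModuleCat.of R (Fin n → R))
    (show Module.Projective R (Fin n → R) from inferInstance) (ModuleCat.ofHom f)
    ((ModuleCat.epi_iff_surjective _).2 hf)
  have hFfree : Module.Free R P.F := by rw [hP]; change Module.Free R (Fin n → R); infer_instance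
  have hFfin : Module.Finite R P.F := by rw [hP]; change Module.Finite R (Fin n → R); infer_instance
  have hM : Module.Finite R P.M := by
    rw [Module.finite_def]
    refine Submodule.fg_of_fg_map_of_fg_inf_ker P.u.hom (IsNoetherian.noetherian _) ?_
    rw [top_inf_eq, show LinearMap.ker P.u.hom = LinearMap.range P.d.hom from ?_]
    · exact Module.Finite.iff_fg.1 inferInstance
    · ext m
      exact ⟨fun hm => P.exists_d hm, by rintro ⟨x, rfl⟩; exact P.d_u x⟩
  obtain ⟨E, hE, hfree, ⟨i0⟩, ⟨i1⟩, he⟩ := P.twoTerm hFfree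
  exact ⟨E, hE, hfree, Module.Finite.equiv i0.symm.toLinearEquiv, Module.Finite.equiv i1.symm.toLinearEquiv, he⟩

end Groth.Agent.H5TwoTerm
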