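import Mathlib
import Groth.Agent.Lib.H5JBang

open CategoryTheory CategoryTheory.Limits Opposite

namespace Groth.Agent.H5WC

universe v u

theorem wc {C : Type u} [Category.{v} C] (J : GrothendieckTopology C) (U : C)
    (hU : ∀ W : C, Subsingleton (W ⟶ U))
    [HasWeakSheafify J (Type (max u v))]
    [∀ (P : (Over U)ᵒᵖ ⥤ Type (max u v)), (Over.forget U).op.HasLeftKanExtension P]
    (V : C) (hV : (∀ (A B : Sheaf J (Type (max u v))) (ψ : A ⟶ B), Epi ψ → Function.Surjective (ψ.hom.app (op V)))) (a : V ⟶ U) :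
    ∀ (A B : Sheaf (J.over U) (Type (max u v))) (ψ : A ⟶ B), Epi ψ →
      Function.Surjective (ψ.hom.app (op (Over.mk a))) := by
  intro A B ψ hψ y
  let adj := (Over.forget U).sheafAdjunctionContinuous (Type (max u v)) (J.over U) J
  let L := (Over.forget U).sheafPullback (Type (max u v)) (J.over U) J
  have : L.IsLeftAdjoint := adj.isLeftAdjoint
  have := Groth.Agent.H5JBang.unit_iso_ty J U hU A
  have := Groth.Agent.H5JBang.unit_iso_ty J U hU B
  let eA := asIso (adj.unit.app A)
  let eB := asIso (adj.unit.app B)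
  obtain ⟨x, hx⟩ := hV _ _ (L.map ψ) inferInstance (eB.hom.hom.app (op (Over.mk a)) y)
  refine ⟨eA.inv.hom.app (op (Over.mk a)) x, ?_⟩
  have n : eA.inv ≫ ψ = ((Over.forget U).sheafPushforwardContinuous (Type (max u v)) (J.over U) J).map (L.map ψ) ≫ eB.inv := by
    rw [Iso.inv_comp_eq, ← Category.assoc, Iso.eq_comp_inv]
    exact adj.unit.naturality ψ
  have n' := ConcreteCategory.congr_hom (NatTrans.congr_app (congrArg (fun k => InducedCategory.Hom.hom k) n) (op (Over.mk a))) x
  refine n'.trans ?_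
  change eB.inv.hom.app (op (Over.mk a)) ((L.map ψ).hom.app (op V) x) = y
  rw [hx]
  exact ConcreteCategory.congr_hom (NatTrans.congr_app (congrArg (fun k => InducedCategory.Hom.hom k) eB.hom_inv_id) (op (Over.mk a))) y

end Groth.Agent.H5WC
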