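import Mathlib
import Groth.Prelude.Def_SpSeq

open CategoryTheory CategoryTheory.Limits HomologicalComplex SpSeq

namespace Groth.Agent.H5ZeroPage

universe v u

variable {C : Type u} [Category.{v} C] [Abelian C] {r₀ : ℤ} (E : CohomologicalSpectralSequence C r₀)

theorem page_zero_iff (pq : ℤ × ℤ) (k : ℤ) (hk : r₀ ≤ k) :
    IsZero ((E.page k hk).X pq) → IsZero ((E.page (k+1) (by omega)).X pq) := by
  intro h
  exact IsZero.of_iso ((E.page k hk).exactAt_iff_isZero_homology pq |>.1
    (ShortComplex.exact_of_isZero_X₂ _ h)) (E.iso k (k+1) pq rfl).symm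

theorem back (pq : ℤ × ℤ) (r : ℤ) (hs : StationaryAt E pq r) (k : ℤ) (hk : r ≤ k)
    (h : IsZero ((E.page (k+1) (le_trans (le_trans hs.1 hk) (by omega))).X pq)) :
    IsZero ((E.page k (le_trans hs.1 hk)).X pq) := by
  have hk0 := le_trans hs.1 hk
  obtain ⟨h1, h2⟩ := hs.2 k hk0 hk
  let K := E.page k hk0
  have hex : (K.sc pq).Exact := (K.exactAt_iff_isZero_homology pq).2 (h.of_iso (E.iso k (k+1) pq rfl))
  have f0 : ∀ i, K.d i pq = 0 := by
    intro i
    by_cases hr : (ComplexShape.up' ((k, 1 - k) : ℤ × ℤ)).Rel i pq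
    · have : i = pq - (k, 1 - k) := eq_sub_of_add_eq hr
      rw [this]; exact h1
    · exact K.shape _ _ hr
  have g0 : ∀ j, K.d pq j = 0 := by
    intro j
    by_cases hr : (ComplexShape.up' ((k, 1 - k) : ℤ × ℤ)).Rel pq j
    · have : j = pq + (k, 1 - k) := hr.symm
      rw [this]; exact h2
    · exact K.shape _ _ hr
  have : Mono (K.sc pq).g := hex.mono_g (f0 _)
  refine (IsZero.iff_id_eq_zero _).2 (this.right_cancellation _ _ ?_)
  rw [show (K.sc pq).g = 0 from g0 _, comp_zero, comp_zero]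

theorem zero_pages (r : ℤ) (hr : r₀ ≤ r) (pq : ℤ × ℤ) (h : IsZero ((E.page r hr).X pq)) :
    (∀ (k : ℤ) (hk : r ≤ k), IsZero ((E.page k (hr.trans hk)).X pq)) ∧
      ∀ (H : ℤ → C) (a : SpSeq.Abutment E H),
        IsZero (SpSeq.grPiece (a.fil (pq.1 + pq.2)) (a.anti (pq.1 + pq.2)) pq.1) := by
  have up : ∀ (m : ℕ), IsZero ((E.page (r + m) (by omega)).X pq) := by
    intro m
    induction m with
    | zero =>
      have : ∀ k (e : r = k) (hk : r₀ ≤ k), IsZero ((E.page k hk).X pq) := by rintro k rfl hk; exact h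
      exact this _ (by simp) _
    | succ m ih =>
      have h2 := page_zero_iff E pq (r + m) (by omega) ih
      have : ∀ k (e : r + m + 1 = k) (hk : r₀ ≤ k), IsZero ((E.page k hk).X pq) := by rintro k rfl hk; exact h2
      exact this _ (by push_cast; ring) _
  have up' : ∀ (k : ℤ) (hk : r ≤ k), IsZero ((E.page k (hr.trans hk)).X pq) := by
    intro k hk
    obtain ⟨m, rfl⟩ : ∃ m : ℕ, k = r + m := ⟨(k - r).toNat, by omega⟩
    exact up m
  refine ⟨up', fun H a => ?_⟩
  refine IsZero.of_iso ?_ (a.β pq).symm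
  have hs := a.stat pq
  have down : ∀ (m : ℕ) (k : ℤ) (hk : a.rk pq ≤ k), r ≤ k + m → IsZero ((E.page k (le_trans hs.1 hk)).X pq) := by
    intro m
    induction m with
    | zero => exact fun k hk hm => up' k (by omega)
    | succ m ih => exact fun k hk hm => back E pq _ hs k hk (ih (k+1) (by omega) (by omega))
  exact down (r - a.rk pq).toNat (a.rk pq) le_rfl (by omega)

end Groth.Agent.H5ZeroPage
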