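import Groth.Agent.Lib.H7Stalk
import Mathlib

/-! Stalk functors are exact, commute with colimits and jointly reflect isomorphisms. -/

universe u
open CategoryTheory Limits AlgebraicGeometry TopologicalSpace Opposite

namespace Groth.Agent.H7StalkDetect
open H7Stalk

variable {X : Scheme.{u}}

lemma stalk_map_injective (x : X) {M N : X.Modules} (φ : M ⟶ N) [Mono φ] :
    Function.Injective ((DerSch.stalkFunctor X x).map φ).hom := by
  have hinj : ∀ U : X.Opens, Function.Injective (φ.app U) := fun U => by
    have : Mono ((Scheme.Modules.toPresheaf X).map φ) := inferInstance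
    have : Mono (((Scheme.Modules.toPresheaf X).map φ).app (op U)) := inferInstance
    exact (AddCommGrpCat.mono_iff_injective (φ.app U)).1 this
  intro a b hab
  obtain ⟨U, hU, m, rfl⟩ := M.presheaf.exists_germ_eq (x := x) a
  obtain ⟨V, hV, n, rfl⟩ := M.presheaf.exists_germ_eq (x := x) b
  erw [DerSch.stalkFunctor_map_germ, DerSch.stalkFunctor_map_germ] at hab
  obtain ⟨W, hW, i, j, e⟩ := N.presheaf.germ_eq x hU hV _ _ hab
  refine M.presheaf.germ_ext W hW i j (hinj W ?_)
  have h1 := ConcreteCategory.congr_hom ((Scheme.Modules.Hom.mapPresheaf φ).naturality i.op) m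
  have h2 := ConcreteCategory.congr_hom ((Scheme.Modules.Hom.mapPresheaf φ).naturality j.op) n
  exact h1.trans (e.trans h2.symm)

instance preservesMono_stalk (x : X) : (DerSch.stalkFunctor X x).PreservesMonomorphisms :=
  ⟨fun φ hφ => (ModuleCat.mono_iff_injective _).2 (stalk_map_injective x φ)⟩

instance preservesHomology_stalk (x : X) : (DerSch.stalkFunctor X x).PreservesHomology :=
  Functor.preservesHomology_of_preservesMonos_and_cokernels _

instance preservesFiniteLimits_stalk (x : X) : PreservesFiniteLimits (DerSch.stalkFunctor X x) :=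
  Functor.preservesFiniteLimits_of_preservesHomology _

instance preservesFiniteColimits_stalk (x : X) : PreservesFiniteColimits (DerSch.stalkFunctor X x) :=
  PreservesColimitsOfSize.preservesFiniteColimits.{u, u} _

lemma jointly (X : Scheme.{u}) : JointlyReflectIsomorphisms (fun x : X => DerSch.stalkFunctor X x) where
  isIso {M N} φ h := by
    have hb : ∀ x : X, Function.Bijective ((DerSch.stalkFunctor X x).map φ).hom := fun x =>
      ConcreteCategory.bijective_of_isIso ((DerSch.stalkFunctor X x).map φ)
    let ψ : (⟨M.presheaf, M.isSheaf⟩ : TopCat.Sheaf Ab.{u} X) ⟶ ⟨N.presheaf, N.isSheaf⟩ :=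
      ⟨Scheme.Modules.Hom.mapPresheaf φ⟩
    have : ∀ x : X, IsIso ((TopCat.Presheaf.stalkFunctor Ab x).map ψ.hom) := fun x =>
      (ConcreteCategory.isIso_iff_bijective _).2 (hb x)
    have hψ := TopCat.Presheaf.isIso_of_stalkFunctor_map_iso ψ
    have : IsIso ((Scheme.Modules.toPresheaf X).map φ) :=
      @Functor.map_isIso _ _ _ _ _ _ (TopCat.Sheaf.forget Ab.{u} X) ψ hψ
    exact isIso_of_reflects_iso φ (Scheme.Modules.toPresheaf X)

lemma isZero_of_stalks {M : X.Modules} (h : ∀ x : X, IsZero ((DerSch.stalkFunctor X x).obj M)) : IsZero M :=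
  (jointly X).isZero_iff.2 h

/-- colimits in O-modules are detected on stalks -/
lemma preservesColimitsOfShape_of_stalks {A : Type*} [Category A] {J : Type*} [Category J]
    [HasColimitsOfShape J A] [HasColimitsOfShape J X.Modules]
    [∀ x : X, PreservesColimitsOfShape J (DerSch.stalkFunctor X x)]
    (H : A ⥤ X.Modules) (hH : ∀ x : X, PreservesColimitsOfShape J (H ⋙ DerSch.stalkFunctor X x)) :
    PreservesColimitsOfShape J H := by
  refine ⟨fun {K} => ?_⟩
  have : IsIso (colimit.post K H) := by
    refine @JointlyReflectIsomorphisms.isIso _ _ _ _ _ _ (jointly X) _ _ _ (fun x => ?_)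
    have := hH x
    have e : colimit.post (K ⋙ H) (DerSch.stalkFunctor X x) ≫ (DerSch.stalkFunctor X x).map (colimit.post K H) =
        colimit.post K (H ⋙ DerSch.stalkFunctor X x) := colimit.post_post K H _
    have h1 : IsIso (colimit.post K (H ⋙ DerSch.stalkFunctor X x)) := inferInstance
    rw [← e] at h1
    exact IsIso.of_isIso_comp_left (colimit.post (K ⋙ H) (DerSch.stalkFunctor X x)) _
  exact preservesColimit_of_isIso_post H K

end Groth.Agent.H7StalkDetect
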