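import Groth.Prelude.Def_DerSch
import Groth.Prelude.Def_FlatMod2
import Mathlib

/-! Stalks of O-modules: skyscraper modules and the adjunction `stalk ⊣ skyscraper`. -/

universe u
open CategoryTheory Limits AlgebraicGeometry TopologicalSpace Opposite

namespace Groth.Agent.H7Stalk

variable {X : Scheme.{u}}

/-- sections of the skyscraper module -/
abbrev SkSec (x : X) (L : ModuleCat.{u} (X.presheaf.stalk x)) (U : X.Opens) : Type u :=
  PLift (x ∈ U) → L

noncomputable instance skSecModule (x : X) (L : ModuleCat.{u} (X.presheaf.stalk x)) (U : X.Opens) :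
    Module (X.presheaf.obj (op U)) (SkSec x L U) where
  smul r s := fun h => (X.presheaf.germ U x h.down).hom r • s h
  one_smul s := funext fun h => by
    show (X.presheaf.germ U x h.down).hom 1 • s h = s h
    rw [map_one, one_smul]
  mul_smul r r' s := funext fun h => by
    show (X.presheaf.germ U x h.down).hom (r * r') • s h = _
    rw [map_mul, mul_smul]
    rfl
  smul_zero r := funext fun h => smul_zero _
  smul_add r s s' := funext fun h => smul_add _ _ _
  add_smul r r' s := funext fun h => by
    show (X.presheaf.germ U x h.down).hom (r + r') • s h = _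
    rw [map_add, add_smul]
    rfl
  zero_smul s := funext fun h => by
    show (X.presheaf.germ U x h.down).hom 0 • s h = 0
    rw [map_zero, zero_smul]

lemma skSec_smul_apply (x : X) (L : ModuleCat.{u} (X.presheaf.stalk x)) (U : X.Opens)
    (r : X.presheaf.obj (op U)) (s : SkSec x L U) (h : PLift (x ∈ U)) :
    (r • s) h = (X.presheaf.germ U x h.down).hom r • s h := rfl

/-- the abelian presheaf underlying the skyscraper -/
noncomputable def skAb (x : X) (L : ModuleCat.{u} (X.presheaf.stalk x)) : TopCat.Presheaf Ab.{u} X where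
  obj U := AddCommGrpCat.of (SkSec x L U.unop)
  map {U V} i := AddCommGrpCat.ofHom
    { toFun := fun s h => s ⟨i.unop.le h.down⟩
      map_zero' := rfl
      map_add' := fun _ _ => rfl }

noncomputable instance skAbModule (x : X) (L : ModuleCat.{u} (X.presheaf.stalk x)) (U : (Opens X)ᵒᵖ) :
    Module (X.ringCatSheaf.obj.obj U) ((skAb x L).obj U) :=
  skSecModule x L U.unop

lemma skAb_map_smul (x : X) (L : ModuleCat.{u} (X.presheaf.stalk x)) ⦃U V : (Opens X)ᵒᵖ⦄ (i : U ⟶ V)
    (r : X.ringCatSheaf.obj.obj U) (m : (skAb x L).obj U) :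
    (skAb x L).map i (r • m) = X.ringCatSheaf.obj.map i r • (skAb x L).map i m := by
  funext h
  show (X.presheaf.germ U.unop x (i.unop.le h.down)).hom r • m ⟨i.unop.le h.down⟩ =
    (X.presheaf.germ V.unop x h.down).hom ((X.presheaf.map i).hom r) • m ⟨i.unop.le h.down⟩
  have : (X.presheaf.germ V.unop x h.down).hom ((X.presheaf.map i).hom r) =
      (X.presheaf.germ U.unop x (i.unop.le h.down)).hom r :=
    TopCat.Presheaf.germ_res_apply X.presheaf i.unop x h.down r
  rw [this]

lemma skAb_isSheaf (x : X) (L : ModuleCat.{u} (X.presheaf.stalk x)) :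
    TopCat.Presheaf.IsSheaf (skAb x L) := by
  classical
  rw [TopCat.Presheaf.isSheaf_iff_isSheafUniqueGluing]
  intro ι U sf hsf
  refine ⟨fun h => sf (Opens.mem_iSup.mp h.down).choose ⟨(Opens.mem_iSup.mp h.down).choose_spec⟩,
    fun i => ?_, fun s hs => ?_⟩
  · funext h
    show sf _ ⟨_⟩ = sf i h
    have hi : x ∈ U i := h.down
    have hx : x ∈ iSup U := Opens.mem_iSup.mpr ⟨i, hi⟩
    exact congrFun (hsf (Opens.mem_iSup.mp hx).choose i) ⟨⟨(Opens.mem_iSup.mp hx).choose_spec, hi⟩⟩
  · funext h
    exact congrFun (hs (Opens.mem_iSup.mp h.down).choose) ⟨(Opens.mem_iSup.mp h.down).choose_spec⟩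

/-- the skyscraper module at `x` -/
noncomputable def skObj (x : X) (L : ModuleCat.{u} (X.presheaf.stalk x)) : X.Modules :=
  (SheafOfModules.mk (PresheafOfModules.ofPresheaf (R := X.ringCatSheaf.obj) (skAb x L)
    (skAb_map_smul x L)) (skAb_isSheaf x L) : SheafOfModules.{u} X.ringCatSheaf)

/-- a family of maps commuting with restriction and scalars gives a morphism of O-modules -/
noncomputable def mkHom {M N : X.Modules} (f : ∀ U : X.Opens, M.presheaf.obj (op U) →+ N.presheaf.obj (op U))
    (hnat : ∀ (U V : X.Opens) (i : V ⟶ U) (m : M.presheaf.obj (op U)),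
      f V (M.presheaf.map i.op m) = N.presheaf.map i.op (f U m))
    (hsmul : ∀ (U : X.Opens) (r : X.presheaf.obj (op U)) (m : M.presheaf.obj (op U)),
      f U (r • m) = r • f U m) : M ⟶ N :=
  (⟨PresheafOfModules.homMk (M₁ := M.val) (M₂ := N.val)
      { app := fun U => AddCommGrpCat.ofHom (f U.unop)
        naturality := fun U V i => by
          ext m
          exact hnat U.unop V.unop i.unop m }
      (fun U r m => hsmul U.unop r m)⟩ : SheafOfModules.Hom M N)

lemma mkHom_app {M N : X.Modules} (f : ∀ U : X.Opens, M.presheaf.obj (op U) →+ N.presheaf.obj (op U))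
    (hnat : ∀ (U V : X.Opens) (i : V ⟶ U) (m : M.presheaf.obj (op U)),
      f V (M.presheaf.map i.op m) = N.presheaf.map i.op (f U m))
    (hsmul : ∀ (U : X.Opens) (r : X.presheaf.obj (op U)) (m : M.presheaf.obj (op U)),
      f U (r • m) = r • f U m) (U : X.Opens) (m : M.presheaf.obj (op U)) :
    (mkHom f hnat hsmul).app U m = f U m := rfl

lemma hom_ext_elem {M N : X.Modules} {φ ψ : M ⟶ N}
    (h : ∀ (U : X.Opens) (m : M.presheaf.obj (op U)), φ.app U m = ψ.app U m) : φ = ψ :=
  Scheme.Modules.hom_ext _ _ fun U => by ext m; exact h U m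

/-- the skyscraper functor -/
noncomputable def sk (x : X) : ModuleCat.{u} (X.presheaf.stalk x) ⥤ X.Modules where
  obj L := skObj x L
  map {L L'} g := mkHom
    (fun U => AddMonoidHom.mk' (fun (s : SkSec x L U) => (fun h => g.hom (s h) : SkSec x L' U))
      fun a b => funext fun h => map_add g.hom (a h) (b h))
    (fun U V i m => rfl)
    (fun U r m => funext fun h => map_smul g.hom _ _)
  map_id L := hom_ext_elem fun U m => rfl
  map_comp f g := hom_ext_elem fun U m => rfl

lemma sk_map_app (x : X) {L L' : ModuleCat.{u} (X.presheaf.stalk x)} (g : L ⟶ L') (U : X.Opens)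
    (s : SkSec x L U) (h : PLift (x ∈ U)) :
    ((((sk x).map g).app U s : ((sk x).obj L').presheaf.obj (op U)) : SkSec x L' U) h = g.hom (s h) := rfl

lemma germ_smul' {M : X.Modules} (x : X) (U : X.Opens) (hx : x ∈ U) (r : X.presheaf.obj (op U))
    (m : M.presheaf.obj (op U)) :
    M.presheaf.germ U x hx (r • m) = (X.presheaf.germ U x hx).hom r • M.presheaf.germ U x hx m :=
  PresheafOfModules.germ_smul (R := X.presheaf)
    (show PresheafOfModules (X.presheaf ⋙ forget₂ CommRingCat RingCat) from M.val) x U hx r m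

/-- transpose: from a map out of the stalk to a map into the skyscraper -/
noncomputable def toSk {x : X} {M : X.Modules} {L : ModuleCat.{u} (X.presheaf.stalk x)}
    (g : (DerSch.stalkFunctor X x).obj M ⟶ L) : M ⟶ (sk x).obj L :=
  mkHom (fun U => AddMonoidHom.mk'
      (fun m => (fun h => g.hom (M.presheaf.germ U x h.down m) : SkSec x L U))
      fun a b => funext fun h => by
        show g.hom (M.presheaf.germ U x h.down (a + b)) = _
        rw [map_add]
        exact map_add g.hom _ _)
    (fun U V i m => funext fun h => by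
      show g.hom (M.presheaf.germ V x h.down (M.presheaf.map i.op m)) =
        g.hom (M.presheaf.germ U x (i.le h.down) m)
      rw [TopCat.Presheaf.germ_res_apply])
    (fun U r m => funext fun h => by
      show g.hom (M.presheaf.germ U x h.down (r • m)) = (X.presheaf.germ U x h.down).hom r • g.hom _
      rw [germ_smul']
      exact map_smul g.hom _ _)

lemma toSk_app {x : X} {M : X.Modules} {L : ModuleCat.{u} (X.presheaf.stalk x)}
    (g : (DerSch.stalkFunctor X x).obj M ⟶ L) (U : X.Opens) (m : M.presheaf.obj (op U))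
    (h : PLift (x ∈ U)) :
    (((toSk g).app U m : ((sk x).obj L).presheaf.obj (op U)) : SkSec x L U) h =
      g.hom (M.presheaf.germ U x h.down m) := rfl

/-- evaluation at `x` of a map into the skyscraper, on the stalk -/
noncomputable def fromSkAb {x : X} {M : X.Modules} {L : ModuleCat.{u} (X.presheaf.stalk x)}
    (f : M ⟶ (sk x).obj L) : M.presheaf.stalk x ⟶ AddCommGrpCat.of L :=
  colimit.desc ((OpenNhds.inclusion x).op ⋙ M.presheaf)
    { pt := AddCommGrpCat.of L
      ι :=
        { app := fun U => AddCommGrpCat.ofHom (AddMonoidHom.mk'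
            (fun m => ((f.app ((OpenNhds.inclusion x).obj U.unop) m : ((sk x).obj L).presheaf.obj (op ((OpenNhds.inclusion x).obj U.unop))) :
              SkSec x L ((OpenNhds.inclusion x).obj U.unop)) ⟨U.unop.2⟩)
            (fun a b => congrFun (map_add (f.app ((OpenNhds.inclusion x).obj U.unop)).hom a b) _))
          naturality := fun U V i => by
            ext m
            have := (Scheme.Modules.Hom.mapPresheaf f).naturality ((OpenNhds.inclusion x).op.map i)
            have := congrFun (ConcreteCategory.congr_hom this m) ⟨V.unop.2⟩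
            exact this } }

lemma fromSkAb_germ {x : X} {M : X.Modules} {L : ModuleCat.{u} (X.presheaf.stalk x)}
    (f : M ⟶ (sk x).obj L) (U : X.Opens) (hx : x ∈ U) (m : M.presheaf.obj (op U)) :
    (fromSkAb f).hom (M.presheaf.germ U x hx m) =
      ((f.app U m : ((sk x).obj L).presheaf.obj (op U)) : SkSec x L U) ⟨hx⟩ :=
  (ConcreteCategory.congr_hom
    (colimit.ι_desc (F := (OpenNhds.inclusion x).op ⋙ M.presheaf) _ (op (⟨U, hx⟩ : OpenNhds x))) m :)

noncomputable def fromSk {x : X} {M : X.Modules} {L : ModuleCat.{u} (X.presheaf.stalk x)}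
    (f : M ⟶ (sk x).obj L) : (DerSch.stalkFunctor X x).obj M ⟶ L :=
  ModuleCat.ofHom
    { toFun := fun z => (fromSkAb f).hom z
      map_add' := map_add _
      map_smul' := fun r z => by
        obtain ⟨V, hV, a, rfl⟩ := X.presheaf.exists_germ_eq (x := x) r
        obtain ⟨W, hW, m, rfl⟩ := M.presheaf.exists_germ_eq (x := x) z
        have h1 := TopCat.Presheaf.germ_res_apply X.presheaf (homOfLE (inf_le_left : V ⊓ W ≤ V)) x ⟨hV, hW⟩ a
        have h2 := TopCat.Presheaf.germ_res_apply M.presheaf (homOfLE (inf_le_right : V ⊓ W ≤ W)) x ⟨hV, hW⟩ m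
        rw [← h1, ← h2]
        show (fromSkAb f).hom (_ • M.presheaf.germ (V ⊓ W) x ⟨hV, hW⟩ _) = _ • _
        erw [← germ_smul', fromSkAb_germ, fromSkAb_germ, Scheme.Modules.Hom.app_smul]
        rfl }

lemma fromSk_germ {x : X} {M : X.Modules} {L : ModuleCat.{u} (X.presheaf.stalk x)}
    (f : M ⟶ (sk x).obj L) (U : X.Opens) (hx : x ∈ U) (m : M.presheaf.obj (op U)) :
    (fromSk f).hom (M.presheaf.germ U x hx m) =
      ((f.app U m : ((sk x).obj L).presheaf.obj (op U)) : SkSec x L U) ⟨hx⟩ :=
  fromSkAb_germ f U hx m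

lemma stalkHom_ext {x : X} {M : X.Modules} {L : ModuleCat.{u} (X.presheaf.stalk x)}
    {g g' : (DerSch.stalkFunctor X x).obj M ⟶ L}
    (h : ∀ (U : X.Opens) (hx : x ∈ U) (m : M.presheaf.obj (op U)),
      g.hom (M.presheaf.germ U x hx m) = g'.hom (M.presheaf.germ U x hx m)) : g = g' := by
  ext z
  obtain ⟨U, hU, m, rfl⟩ := M.presheaf.exists_germ_eq (x := x) z
  exact h U hU m

/-- stalk ⊣ skyscraper -/
noncomputable def adj (x : X) : DerSch.stalkFunctor X x ⊣ sk x :=
  Adjunction.mkOfHomEquiv
    { homEquiv := fun M L =>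
        { toFun := toSk
          invFun := fromSk
          left_inv := fun g => stalkHom_ext fun U hx m => by rw [fromSk_germ, toSk_app]
          right_inv := fun f => hom_ext_elem fun U m => funext fun h => by
            rw [toSk_app, fromSk_germ] }
      homEquiv_naturality_left_symm := fun {M M' L} f g => stalkHom_ext fun U hx m => by
        show (fromSk (f ≫ g)).hom _ = (fromSk g).hom ((DerSch.stalkFunctor X x).map f _)
        erw [fromSk_germ, DerSch.stalkFunctor_map_germ, fromSk_germ]
        rfl
      homEquiv_naturality_right := fun {M L L'} f g => rfl }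

instance isLeftAdjoint_stalk (x : X) : (DerSch.stalkFunctor X x).IsLeftAdjoint := (adj x).isLeftAdjoint

end Groth.Agent.H7Stalk
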