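import Groth.Agent.Lib.LQAff

set_option autoImplicit false
universe u

open CategoryTheory Limits TopologicalSpace Opposite AlgebraicGeometry

namespace Groth.Agent.LQcoh

variable {X Y : Scheme.{u}}

lemma exists_affine_cover (W : X.Opens) (hW : IsCompact (W : Set X)) :
    ∃ (ι : Type u) (_ : Finite ι) (A : ι → X.Opens), (∀ i, IsAffineOpen (A i)) ∧ iSup A = W := by
  obtain ⟨S, hS, hWS⟩ := Opens.isBasis_iff_cover.mp X.isBasis_affineOpens W
    |> fun h => (⟨h.choose, h.choose_spec.1, h.choose_spec.2⟩ : ∃ S ⊆ X.affineOpens, W = sSup S)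
  obtain ⟨t, ht⟩ := hW.elim_finite_subcover (fun A : S => (A.1 : Set X)) (fun A => A.1.2)
    (fun x hx => by
      rw [hWS] at hx
      obtain ⟨A, hA, hxA⟩ := Opens.mem_sSup.1 hx
      exact Set.mem_iUnion.2 ⟨⟨A, hA⟩, hxA⟩)
  refine ⟨t, inferInstance, fun A => A.1.1, fun A => hS A.1.2, le_antisymm ?_ ?_⟩
  · exact iSup_le fun A => hWS ▸ le_sSup A.1.2
  · intro x hx
    obtain ⟨A, hA, hxA⟩ := Set.mem_iUnion₂.1 (ht hx)
    exact Opens.mem_iSup.2 ⟨⟨A, hA⟩, hxA⟩

lemma eq_of_cover (M : X.Modules) {ι : Type u} {W : X.Opens} (A : ι → X.Opens) (hA : iSup A = W)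
    {s t : Γ(M, W)} (h : ∀ i, res M ((le_iSup A i).trans hA.le) s =
      res M ((le_iSup A i).trans hA.le) t) : s = t :=
  TopCat.Sheaf.eq_of_locally_eq' ((toShf X).obj M) A W (fun i => homOfLE ((le_iSup A i).trans hA.le))
    hA.ge s t h

lemma exists_glue (M : X.Modules) {ι : Type u} {W : X.Opens} (A : ι → X.Opens) (hA : iSup A = W)
    (s : ∀ i, Γ(M, A i))
    (h : ∀ i j, res M (inf_le_left (b := A j)) (s i) = res M (inf_le_right (a := A i)) (s j)) :
    ∃ y : Γ(M, W), ∀ i, res M ((le_iSup A i).trans hA.le) y = s i := by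
  obtain ⟨y, hy, -⟩ := TopCat.Sheaf.existsUnique_gluing' ((toShf X).obj M) A W
    (fun i => homOfLE ((le_iSup A i).trans hA.le)) hA.ge s (fun i j => h i j)
  exact ⟨y, hy⟩

/-- sections over a compact open killed on `D(g)` are killed by a power of `g` -/
theorem exists_pow_kill (M : X.Modules) [M.IsQuasicoherent] {W : X.Opens}
    (hW : IsCompact (W : Set X)) (g : Γ(X, W)) (y : Γ(M, W))
    (hy : res M (basicOpen_le_open g) y = 0) : ∃ N : ℕ, g ^ N • y = 0 := by
  obtain ⟨ι, hι, A, hA, hcov⟩ := exists_affine_cover W hW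
  have hle : ∀ i, A i ≤ W := fun i => (le_iSup A i).trans hcov.le
  have : ∀ i, ∃ N : ℕ, resO (hle i) g ^ N • res M (hle i) y = 0 := fun i => by
    refine (exists_pow_of_affine (hA i) M (resO (hle i) g)).2 _ ?_
    have hb : X.basicOpen (resO (hle i) g) ≤ X.basicOpen g :=
      ((Scheme.basicOpen_res _ g _).le).trans inf_le_right
    refine ((res_res M (hle i) _ y).trans (res_res M (basicOpen_le_open g) hb y).symm).trans ?_
    exact (congrArg _ hy).trans (map_zero _)
  choose N hN using this
  obtain ⟨K, hK⟩ := Finite.exists_le N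
  refine ⟨K, eq_of_cover M A hcov fun i => ?_⟩
  rw [res_smul]
  obtain ⟨d, hd⟩ := Nat.exists_eq_add_of_le (hK i)
  have h : resO (hle i) g ^ K • res M (hle i) y = 0 := by
    rw [hd, add_comm, pow_add, mul_smul, hN i, smul_zero]
  exact ((congrArg (· • res M (hle i) y) (map_pow (X.presheaf.map _).hom g K)).trans h).trans
    (map_zero _).symm

/-- sections on `D(g)` extend, up to powers of `g`, to a quasi-compact quasi-separated open -/
theorem locAt_of_qcqs (M : X.Modules) [M.IsQuasicoherent] {W : X.Opens}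
    (hW : IsCompact (W : Set X))
    (hqs : ∀ A B : X.Opens, IsAffineOpen A → IsAffineOpen B → A ≤ W → B ≤ W →
      IsCompact ((A ⊓ B : X.Opens) : Set X)) : LocAt M W := by
  intro g
  refine ⟨fun c => ?_, fun y hy => exists_pow_kill M hW g y hy⟩
  obtain ⟨ι, hι, A, hA, hcov⟩ := exists_affine_cover W hW
  have hle : ∀ i, A i ≤ W := fun i => (le_iSup A i).trans hcov.le
  have hb : ∀ i, X.basicOpen (resO (hle i) g) ≤ X.basicOpen g := fun i =>
    ((Scheme.basicOpen_res _ g _).le).trans inf_le_right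
  choose N y hy using fun i =>
    (exists_pow_of_affine (hA i) M (resO (hle i) g)).1 (res M (hb i) c)
  obtain ⟨K, hK⟩ := Finite.exists_le N
  let z : ∀ i, Γ(M, A i) := fun i => resO (hle i) g ^ (K - N i) • y i
  have hz : ∀ i, res M (basicOpen_le_open _) (z i) =
      resO ((basicOpen_le_open _).trans (hle i)) (g ^ K) • res M (hb i) c := fun i => by
    simp only [z]
    rw [res_smul, hy i, smul_smul]
    congr 1
    rw [← map_pow, ← map_pow, ← map_mul, ← map_mul, ← pow_add, Nat.sub_add_cancel (hK i)]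
    exact resO_resO _ _ _
  have : ∀ p : ι × ι, ∃ L : ℕ, resO (inf_le_left.trans (hle p.1) : A p.1 ⊓ A p.2 ≤ W) g ^ L •
      (res M (inf_le_left (b := A p.2)) (z p.1) - res M (inf_le_right (a := A p.1)) (z p.2)) = 0 := by
    rintro ⟨i, j⟩
    refine exists_pow_kill M (hqs _ _ (hA i) (hA j) (hle i) (hle j)) _ _ ?_
    change (M.presheaf.map _).hom (_ - _) = 0
    rw [map_sub, sub_eq_zero]
    change res M _ _ = res M _ _
    have hij : X.basicOpen (resO (inf_le_left.trans (hle i) : A i ⊓ A j ≤ W) g) ≤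
        X.basicOpen (resO (hle i) g) := by
      erw [Scheme.basicOpen_res, Scheme.basicOpen_res]
      exact inf_le_inf_right _ inf_le_left
    have hji : X.basicOpen (resO (inf_le_left.trans (hle i) : A i ⊓ A j ≤ W) g) ≤
        X.basicOpen (resO (hle j) g) := by
      erw [Scheme.basicOpen_res, Scheme.basicOpen_res]
      exact inf_le_inf_right _ inf_le_right
    rw [res_res, res_res, ← res_res M (basicOpen_le_open (resO (hle i) g)) hij,
      ← res_res M (basicOpen_le_open (resO (hle j) g)) hji, hz, hz, res_smul, res_smul,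
      res_res, res_res]
    congr 1
    rw [resO_resO, resO_resO]
  choose L hL using this
  obtain ⟨K', hK'⟩ := Finite.exists_le L
  obtain ⟨v, hv⟩ := exists_glue M A hcov (fun i => resO (hle i) g ^ K' • z i) (fun i j => by
    obtain ⟨d, hd⟩ := Nat.exists_eq_add_of_le (hK' (i, j))
    have h1 := congrArg (fun a => resO (inf_le_left.trans (hle i) : A i ⊓ A j ≤ W) g ^ d • a)
      (hL (i, j))
    simp only [smul_zero, smul_smul, ← pow_add, smul_sub, sub_eq_zero, add_comm d] at h1
    rw [← hd] at h1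
    refine (res_smul M _ _ _).trans (Eq.trans ?_ (res_smul M _ _ _).symm)
    rw [← map_pow, ← map_pow, resO_resO, resO_resO]
    rw [← map_pow] at h1
    exact h1)
  refine ⟨K' + K, v, eq_of_cover M (fun i => X.basicOpen (resO (hle i) g)) ?_ fun i => ?_⟩
  · erw [iSup_congr fun i => Scheme.basicOpen_res X g (homOfLE (hle i)).op]
    rw [← iSup_inf_eq, hcov, inf_eq_right]
    exact basicOpen_le_open g
  · rw [res_res, ← res_res M (hle i) (basicOpen_le_open (resO (hle i) g)), hv, res_smul, hz,
      res_smul, smul_smul]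
    congr 1
    rw [← map_pow, resO_resO, resO_resO, ← map_mul, ← pow_add]

/-- compactness conditions for preimages of affine opens -/
theorem qcqs_preimage (f : X ⟶ Y) [QuasiCompact f] [QuasiSeparated f] {V : Y.Opens}
    (hV : IsAffineOpen V) (A B : X.Opens) (hA : IsAffineOpen A) (hB : IsAffineOpen B)
    (hAV : A ≤ f ⁻¹ᵁ V) (hBV : B ≤ f ⁻¹ᵁ V) : IsCompact ((A ⊓ B : X.Opens) : Set X) := by
  have h : IsQuasiSeparated ((f ⁻¹ᵁ V : X.Opens) : Set X) :=
    f.isQuasiSeparated_preimage hV.isQuasiSeparated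
  exact h _ _ hAV A.2 hA.isCompact hBV B.2 hB.isCompact

/-- direct images of quasi-coherent modules along qcqs morphisms -/
theorem isQuasicoherent_push (f : X ⟶ Y) [QuasiCompact f] [QuasiSeparated f] (M : X.Modules)
    [M.IsQuasicoherent] : ((Scheme.Modules.pushforward f).obj M).IsQuasicoherent := by
  refine isQuasicoherent_of_forall_locAt _ fun V hV g => ?_
  have h := locAt_of_qcqs M (f.isCompact_preimage hV.isCompact)
    (qcqs_preimage f hV) (f.app V g)
  have hD : X.basicOpen (f.app V g) = f ⁻¹ᵁ Y.basicOpen g := (f.preimage_basicOpen g).symm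
  constructor
  · intro c
    obtain ⟨N, y, hy⟩ := h.1 (res M hD.le c)
    refine ⟨N, y, ?_⟩
    have := congrArg (res M hD.ge) hy
    erw [res_res, res_smul, res_res, resO_resO] at this
    rw [show res M (hD.le.trans' hD.ge) c = c from LCech.rs_self M.presheaf le_rfl c] at this
    refine this.trans ?_
    refine congrArg (· • (show Γ(M, f ⁻¹ᵁ Y.basicOpen g) from c)) ?_
    rw [← map_pow]
    exact (congr($(f.naturality (homOfLE (basicOpen_le_open g)).op) (g ^ N))).symm
  · intro y hy
    obtain ⟨N, hN⟩ := h.2 y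
      ((res_res M (f.preimage_mono (basicOpen_le_open g)) hD.le y).symm.trans
        ((congrArg (res M hD.le) hy).trans (map_zero _)))
    exact ⟨N, by rw [← map_pow] at hN; exact hN⟩

end Groth.Agent.LQcoh
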