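/-
N-1/N-2 and localisation; power series over normal domains
-/
import Mathlib
import Groth.Prelude.Def_Found

universe u

namespace Groth.Agent.JapaneseBasic


theorem intcl_finite_of_equiv {R : Type u} [CommRing R] {L L' : Type u} [CommRing L] [CommRing L'] [Algebra R L]
    [Algebra R L'] (e : L ≃ₐ[R] L') (h : Module.Finite R (integralClosure R L)) :
    Module.Finite R (integralClosure R L') :=
  Module.Finite.equiv (e.mapIntegralClosure).toLinearEquiv

theorem intcl_finite_localization {R S L : Type u} [CommRing R] [CommRing S] [CommRing L] [Algebra R S] [Algebra R L]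
    [Algebra S L] [IsScalarTower R S L] (M : Submonoid R) [IsLocalization M S]
    (h : Module.Finite R (integralClosure R L)) : Module.Finite S (integralClosure S L) := by
  obtain ⟨G, hG⟩ := h.fg_top
  let ι : integralClosure R L →ₗ[R] integralClosure S L :=
    { toFun := fun x => ⟨x.1, (x.2 : IsIntegral R x.1).tower_top⟩
      map_add' := fun x y => rfl
      map_smul' := fun r x => rfl }
  refine ⟨Submodule.fg_def.mpr ⟨ι '' G, G.finite_toSet.image ι, ?_⟩⟩
  rw [Submodule.eq_top_iff']
  rintro ⟨x, hx⟩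
  obtain ⟨m, hm⟩ := IsIntegral.exists_multiple_integral_of_isLocalization M x hx
  have hmem : ι ⟨m • x, hm⟩ ∈ Submodule.span S (ι '' G) := by
    have h1 : ι ⟨m • x, hm⟩ ∈ (Submodule.span R (G : Set (integralClosure R L))).map ι :=
      Submodule.mem_map_of_mem (hG ▸ Submodule.mem_top)
    rw [Submodule.map_span] at h1
    exact Submodule.span_le_restrictScalars R S _ h1
  obtain ⟨u, hu⟩ := IsLocalization.map_units S m
  have : (⟨x, hx⟩ : integralClosure S L) = (↑u⁻¹ : S) • ι ⟨m • x, hm⟩ := Subtype.ext (by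
    show x = (↑u⁻¹ : S) • ((m : R) • x)
    rw [← algebraMap_smul S (m : R) x, ← hu, smul_smul, Units.inv_mul, one_smul])
  rw [this]
  exact Submodule.smul_mem _ _ hmem

theorem fractionRing_restrict {R S T : Type u} [CommRing R] [IsDomain R] [CommRing S] [IsDomain S] [Field T]
    [Algebra R S] [Algebra R T] [Algebra S T] [IsScalarTower R S T] (M : Submonoid R) [IsLocalization M S]
    [IsFractionRing S T] : IsFractionRing R T := by
  have h0 : (0 : R) ∉ M := fun h => by
    have := IsLocalization.map_units S ⟨0, h⟩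
    simp at this
  have hM : M ≤ nonZeroDivisors R := le_nonZeroDivisors_of_noZeroDivisors h0
  have hinj : Function.Injective (algebraMap R T) := by
    rw [IsScalarTower.algebraMap_eq R S T]
    exact (IsFractionRing.injective S T).comp (IsLocalization.injective S hM)
  refine (isLocalization_iff _ _).mpr ⟨fun y => IsUnit.mk0 _ ?_, fun z => ?_, fun {x y} h => ⟨1, by rw [hinj h]⟩⟩
  · exact fun h => nonZeroDivisors.coe_ne_zero y (hinj (by rw [h, map_zero]))
  obtain ⟨⟨a, b⟩, hab⟩ := IsLocalization.surj (nonZeroDivisors S) z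
  obtain ⟨⟨ra, ma⟩, ha⟩ := IsLocalization.surj M a
  obtain ⟨⟨rb, mb⟩, hb⟩ := IsLocalization.surj M (b : S)
  have hrb : rb ≠ 0 := by
    intro h
    rw [h, map_zero] at hb
    exact mul_ne_zero (nonZeroDivisors.coe_ne_zero b) (IsLocalization.map_units S mb).ne_zero hb
  refine ⟨(ra * mb, ⟨rb * ma, mem_nonZeroDivisors_of_ne_zero (mul_ne_zero hrb (nonZeroDivisors.coe_ne_zero ⟨_, hM ma.2⟩))⟩), ?_⟩
  simp only [map_mul, IsScalarTower.algebraMap_apply R S T] at hab ⊢
  rw [← ha, ← hb, map_mul, map_mul, ← hab]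
  ring

theorem coeff_integral {R : Type u} [CommRing R] [IsDomain R] [IsNoetherianRing R] [IsIntegrallyClosed R]
    {F : PowerSeries (FractionRing R)} {d : PowerSeries R} (hd : d ≠ 0)
    (hF : ∀ n : ℕ, ∃ w : PowerSeries R, PowerSeries.map (algebraMap R (FractionRing R)) w =
      PowerSeries.map (algebraMap R (FractionRing R)) d * F ^ n)
    {k : ℕ} (hk : ∀ i < k, PowerSeries.coeff i F = 0) :
    ∃ r : R, algebraMap R (FractionRing R) r = PowerSeries.coeff k F := by
  obtain ⟨G, rfl⟩ : PowerSeries.X ^ k ∣ F := PowerSeries.X_pow_dvd_iff.mpr hk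
  have hc : PowerSeries.coeff k (PowerSeries.X ^ k * G) = PowerSeries.constantCoeff G := by
    rw [PowerSeries.coeff_X_pow_mul', if_pos le_rfl, Nat.sub_self, PowerSeries.coeff_zero_eq_constantCoeff]
  rw [hc]
  obtain ⟨j, hj⟩ : ∃ j, PowerSeries.coeff j d ≠ 0 := PowerSeries.exists_coeff_ne_zero_iff_ne_zero.mpr hd
  classical
  let m := Nat.find (p := fun j => PowerSeries.coeff j d ≠ 0) ⟨j, hj⟩
  have hm : PowerSeries.coeff m d ≠ 0 := Nat.find_spec (p := fun j => PowerSeries.coeff j d ≠ 0) ⟨j, hj⟩
  obtain ⟨D, hD⟩ : PowerSeries.X ^ m ∣ d := PowerSeries.X_pow_dvd_iff.mpr fun i hi =>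
    not_not.mp (Nat.find_min (p := fun j => PowerSeries.coeff j d ≠ 0) ⟨j, hj⟩ hi)
  have hm' : PowerSeries.coeff m d = PowerSeries.constantCoeff D := by
    rw [hD, PowerSeries.coeff_X_pow_mul', if_pos le_rfl, Nat.sub_self, PowerSeries.coeff_zero_eq_constantCoeff]
  have halm : IsAlmostIntegral R (PowerSeries.constantCoeff G) := by
    refine ⟨PowerSeries.coeff m d, mem_nonZeroDivisors_of_ne_zero hm, fun n => ?_⟩
    obtain ⟨w, hw⟩ := hF n
    refine ⟨PowerSeries.coeff (m + k * n) w, ?_⟩
    have := congrArg (PowerSeries.coeff (m + k * n)) hw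
    rw [PowerSeries.coeff_map] at this
    rw [this, hD, map_mul (PowerSeries.map _), map_pow (PowerSeries.map _), PowerSeries.map_X, mul_pow, ← pow_mul]
    rw [show PowerSeries.X ^ m * PowerSeries.map (algebraMap R (FractionRing R)) D * (PowerSeries.X ^ (k * n) * G ^ n) =
        PowerSeries.X ^ (m + k * n) * (PowerSeries.map (algebraMap R (FractionRing R)) D * G ^ n) by ring]
    rw [PowerSeries.coeff_X_pow_mul', if_pos le_rfl, Nat.sub_self, PowerSeries.coeff_zero_eq_constantCoeff,
      map_mul, map_pow, ← PowerSeries.coeff_zero_eq_constantCoeff_apply, PowerSeries.coeff_map, PowerSeries.coeff_zero_eq_constantCoeff_apply, ← hm', hD, Algebra.smul_def]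
  exact IsIntegrallyClosed.algebraMap_eq_of_integral halm.isIntegral

theorem series_in {R : Type u} [CommRing R] [IsDomain R] [IsNoetherianRing R] [IsIntegrallyClosed R]
    {F : PowerSeries (FractionRing R)}
    (hF : ∃ d : PowerSeries R, d ≠ 0 ∧ ∀ n : ℕ, ∃ w : PowerSeries R, PowerSeries.map (algebraMap R (FractionRing R)) w =
      PowerSeries.map (algebraMap R (FractionRing R)) d * F ^ n) :
    ∀ k, ∃ r : R, algebraMap R (FractionRing R) r = PowerSeries.coeff k F := by
  obtain ⟨d, hd, hF⟩ := hF
  intro k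
  induction k using Nat.strong_induction_on with
  | _ k ih =>
    choose r hr using ih
    let y : PowerSeries R := PowerSeries.mk fun i => if h : i < k then r i h else 0
    let φ := PowerSeries.map (algebraMap R (FractionRing R))
    have hy : ∀ i < k, PowerSeries.coeff i (F - φ y) = 0 := fun i hi => by
      simp [φ, y, hi, hr]
    have hF' : ∀ n : ℕ, ∃ w : PowerSeries R, φ w = φ d * (F - φ y) ^ n := by
      intro n
      choose w hw using hF
      refine ⟨∑ i ∈ Finset.range (n + 1), w i * (-y) ^ (n - i) * (n.choose i : PowerSeries R), ?_⟩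
      rw [sub_eq_add_neg, add_pow, Finset.mul_sum, map_sum]
      refine Finset.sum_congr rfl fun i _ => ?_
      simp only [φ, map_mul, map_pow, map_neg, map_natCast, hw i]
      ring
    obtain ⟨s, hs⟩ := coeff_integral hd hF' hy
    refine ⟨s, ?_⟩
    rw [hs, map_sub]
    simp [φ, y]

end Groth.Agent.JapaneseBasic
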