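/-
universally Japanese / Nagata: locality
-/
import Mathlib
import Groth.Prelude.Def_Found
import Groth.Agent.Lib.JapaneseBasic
import Groth.Agent.S9392

open Groth.Agent.JapaneseBasic

universe u

namespace Groth.Agent.JapaneseLocal


theorem n2_apply {R : Type u} [CommRing R] [IsDomain R] (h : CAlg.IsN2 R) (K : Type u) [Field K] [Algebra R K]
    [IsFractionRing R K] (L : Type u) [Field L] [Algebra R L] [Algebra K L] [IsScalarTower R K L]
    [hfin : FiniteDimensional K L] : Module.Finite R (integralClosure R L) := by
  let e := FractionRing.algEquiv R K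
  letI : Algebra (FractionRing R) L := Algebra.compHom L (e.toRingEquiv : FractionRing R →+* K)
  haveI : IsScalarTower R (FractionRing R) L := IsScalarTower.of_algebraMap_eq' (RingHom.ext fun r => by
    show algebraMap R L r = algebraMap K L (e (algebraMap R _ r))
    rw [e.commutes, ← IsScalarTower.algebraMap_apply R K L])
  haveI : FiniteDimensional (FractionRing R) L := by
    obtain ⟨G, hG⟩ := hfin.fg_top
    refine ⟨⟨G, Submodule.eq_top_iff'.mpr fun x => ?_⟩⟩
    have hx : x ∈ Submodule.span K (G : Set L) := hG ▸ Submodule.mem_top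
    induction hx using Submodule.span_induction with
    | mem y hy => exact Submodule.subset_span hy
    | zero => exact zero_mem _
    | add y z _ _ hy hz => exact add_mem hy hz
    | smul c y _ hy =>
      have : c • y = e.symm c • y := by
        rw [Algebra.smul_def, Algebra.smul_def]
        show algebraMap K L c * y = algebraMap K L (e (e.symm c)) * y
        rw [e.apply_symm_apply]
      rw [this]
      exact Submodule.smul_mem _ _ hy
  exact h L inferInstance

theorem n2_of_n1_extensions {R : Type u} [CommRing R]
    (h : ∀ (S : Type u) [CommRing S] [IsDomain S] [Algebra R S], Algebra.FiniteType R S → CAlg.IsN1 S)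
    (S : Type u) [CommRing S] [IsDomain S] [Algebra R S] [Algebra.FiniteType R S] : CAlg.IsN2 S := by
  classical
  intro L _ _ _ _ hfin
  haveI := hfin
  letI : Algebra R L := Algebra.compHom L (algebraMap R S)
  haveI : IsScalarTower R S L := IsScalarTower.of_algebraMap_eq' rfl
  obtain ⟨s, b, hb⟩ := FiniteDimensional.exists_is_basis_integral (A := S) (K := FractionRing S) (L := L)
  let S' := Algebra.adjoin S (Set.range b)
  haveI : Module.Finite S S' := Module.Finite.iff_fg.mpr
    (fg_adjoin_of_finite (Set.finite_range b) (fun x hx => by obtain ⟨i, rfl⟩ := hx; exact hb i))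
  haveI : Algebra.FiniteType S S' := inferInstance
  have hN : CAlg.IsN1 S' := h S' (Algebra.FiniteType.trans (S := S) inferInstance inferInstance)
  have hinjS : Function.Injective (algebraMap S L) := by
    rw [IsScalarTower.algebraMap_eq S (FractionRing S) L]
    exact (algebraMap (FractionRing S) L).injective.comp (IsFractionRing.injective S (FractionRing S))
  haveI : IsFractionRing S' L := by
    refine (isLocalization_iff _ _).mpr ⟨fun y => IsUnit.mk0 _ fun h0 => ?_, fun z => ?_, fun {x y} h0 => ⟨1, by rw [Subtype.ext h0]⟩⟩
    · exact nonZeroDivisors.coe_ne_zero y (Subtype.ext h0)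
    obtain ⟨d, hd⟩ := IsLocalization.exist_integer_multiples_of_finite (nonZeroDivisors S) (fun i => b.repr z i)
    choose a ha using hd
    have hdz : algebraMap S L d * z = ∑ i, algebraMap S L (a i) * b i := by
      conv_lhs => rw [← b.sum_repr z, Finset.mul_sum]
      refine Finset.sum_congr rfl fun i _ => ?_
      rw [IsScalarTower.algebraMap_apply S (FractionRing S) L (a i), ha i, Algebra.smul_def,
        Algebra.smul_def, map_mul, ← IsScalarTower.algebraMap_apply S (FractionRing S) L]
      ring
    refine ⟨(⟨∑ i, algebraMap S L (a i) * b i, Subalgebra.sum_mem _ fun i _ =>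
      mul_mem (Subalgebra.algebraMap_mem _ _) (Algebra.subset_adjoin ⟨i, rfl⟩)⟩, ⟨algebraMap S S' d,
        mem_nonZeroDivisors_of_ne_zero fun h0 => nonZeroDivisors.coe_ne_zero d (hinjS ?_)⟩), ?_⟩
    · rw [map_zero]; exact congrArg Subtype.val h0
    · show z * algebraMap S L d = ∑ i, algebraMap S L (a i) * b i
      rw [mul_comm, hdz]
  haveI : Module.Finite S' (integralClosure S' L) := intcl_finite_of_equiv (FractionRing.algEquiv S' L) hN
  have hfg := Submodule.FG.restrictScalars (R := S)
    (Module.Finite.iff_fg.mp ‹Module.Finite S' (integralClosure S' L)› : ((integralClosure S' L).toSubmodule).FG)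
  have heq : ((integralClosure S' L).toSubmodule).restrictScalars S = (integralClosure S L).toSubmodule := by
    ext x
    exact ⟨fun hx => isIntegral_trans x hx, fun hx => (show IsIntegral S x from hx).tower_top⟩
  rw [heq] at hfg
  exact Module.Finite.iff_fg.mpr hfg

theorem n2_of_cover {S : Type u} [CommRing S] [IsDomain S] {ι : Type u} [Finite ι] (g : ι → S)
    (hg : Ideal.span (Set.range g) = ⊤) (h : ∀ i, g i ≠ 0 → ∀ [IsDomain (Localization.Away (g i))], CAlg.IsN2 (Localization.Away (g i))) :
    CAlg.IsN2 S := by
  classical
  intro L _ _ _ _ hfin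
  let N := (integralClosure S L).toSubmodule
  have hinjS : Function.Injective (algebraMap S L) := by
    rw [IsScalarTower.algebraMap_eq S (FractionRing S) L]
    exact (algebraMap (FractionRing S) L).injective.comp (IsFractionRing.injective S (FractionRing S))
  have key : ∀ i, ∃ G : Finset L, (G : Set L) ⊆ N ∧ ∀ x ∈ N, ∃ k : ℕ, g i ^ k • x ∈ Submodule.span S (G : Set L) := by
    intro i
    by_cases hi : g i = 0
    · exact ⟨∅, by simp, fun x _ => ⟨1, by simp [hi]⟩⟩
    have hM : Submonoid.powers (g i) ≤ nonZeroDivisors S := powers_le_nonZeroDivisors_of_noZeroDivisors hi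
    let A := Localization.Away (g i)
    haveI : IsDomain A := IsLocalization.isDomain_localization hM
    let K := FractionRing S
    letI : Algebra A K := (IsLocalization.lift (M := Submonoid.powers (g i)) (S := A) (g := algebraMap S K)
      (fun y => IsLocalization.map_units K ⟨y.1, hM y.2⟩)).toAlgebra
    haveI : IsScalarTower S A K := IsScalarTower.of_algebraMap_eq' (IsLocalization.lift_comp _).symm
    haveI : IsFractionRing A K := IsFractionRing.isFractionRing_of_isDomain_of_isLocalization (Submonoid.powers (g i)) A K
    letI : Algebra A L := ((algebraMap K L).comp (algebraMap A K)).toAlgebra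
    haveI : IsScalarTower A K L := IsScalarTower.of_algebraMap_eq' rfl
    haveI : IsScalarTower S A L := IsScalarTower.of_algebraMap_eq' (RingHom.ext fun s => by
      show algebraMap S L s = algebraMap K L (algebraMap A K (algebraMap S A s))
      rw [← IsScalarTower.algebraMap_apply S A K, ← IsScalarTower.algebraMap_apply S K L])
    haveI := hfin
    haveI := n2_apply (h i hi) K L
    obtain ⟨G0, hG0⟩ := (Module.Finite.iff_fg.mp ‹Module.Finite A (integralClosure A L)› : ((integralClosure A L).toSubmodule).FG)
    have hG0' : ∀ y ∈ G0, IsIntegral A y := fun y hy => show y ∈ (integralClosure A L).toSubmodule from hG0 ▸ Submodule.subset_span hy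
    choose m hm using fun y : G0 => IsIntegral.exists_multiple_integral_of_isLocalization (Submonoid.powers (g i)) y.1 (hG0' _ y.2)
    let P : S := ∏ y, (m y : S)
    have hP : P ∈ Submonoid.powers (g i) := prod_mem fun y _ => (m y).2
    refine ⟨Finset.univ.image (fun y : G0 => P • y.1), ?_, ?_⟩
    · intro z hz
      obtain ⟨y, -, rfl⟩ := Finset.mem_image.mp hz
      obtain ⟨c, hc⟩ := Finset.dvd_prod_of_mem (fun y : G0 => (m y : S)) (Finset.mem_univ y)
      show IsIntegral S (P • y.1)
      rw [show P = _ from hc, mul_comm, mul_smul]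
      exact (hm y).smul c
    · intro x hx
      have hx' : x ∈ Submodule.span A (G0 : Set L) := hG0 ▸ (show IsIntegral A x from (show IsIntegral S x from hx).tower_top)
      have : ∀ x ∈ Submodule.span A (G0 : Set L), ∃ t ∈ Submonoid.powers (g i),
          t • x ∈ Submodule.span S ((Finset.univ.image (fun y : G0 => P • y.1) : Finset L) : Set L) := by
        intro x hx
        induction hx using Submodule.span_induction with
        | mem y hy => exact ⟨P, hP, Submodule.subset_span (Finset.mem_image.mpr ⟨⟨y, hy⟩, Finset.mem_univ _, rfl⟩)⟩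
        | zero => exact ⟨1, one_mem _, by simp⟩
        | add y z _ _ hy hz =>
          obtain ⟨t, ht, hy⟩ := hy
          obtain ⟨t', ht', hz⟩ := hz
          refine ⟨t * t', mul_mem ht ht', ?_⟩
          rw [smul_add]
          refine add_mem ?_ ?_
          · rw [mul_comm, mul_smul]; exact Submodule.smul_mem _ _ hy
          · rw [mul_smul]; exact Submodule.smul_mem _ _ hz
        | smul c y _ hy =>
          obtain ⟨t, ht, hy⟩ := hy
          obtain ⟨⟨a, u⟩, hau⟩ := IsLocalization.surj (Submonoid.powers (g i)) c
          refine ⟨u * t, mul_mem u.2 ht, ?_⟩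
          have : ((u : S) * t) • (c • y) = a • (t • y) := by
            rw [← algebraMap_smul A ((u : S) * t), ← algebraMap_smul A a, ← algebraMap_smul A t, smul_smul, smul_smul,
              map_mul, ← hau]
            congr 1; ring
          rw [this]
          exact Submodule.smul_mem _ _ hy
      obtain ⟨t, ⟨k, rfl⟩, ht⟩ := this x hx'
      exact ⟨k, ht⟩
  choose G hGN hG using key
  haveI := Fintype.ofFinite ι
  refine Module.Finite.iff_fg.mpr (Submodule.fg_def.mpr ⟨⋃ i, (G i : Set L), Set.finite_iUnion fun i => (G i).finite_toSet,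
    le_antisymm (Submodule.span_le.mpr (Set.iUnion_subset hGN)) fun x hx => ?_⟩)
  refine Submodule.mem_of_span_eq_top_of_smul_pow_mem _ _ hg x ?_
  rintro ⟨_, i, rfl⟩
  obtain ⟨k, hk⟩ := hG i x hx
  exact ⟨k, Submodule.span_mono (Set.subset_iUnion (fun i => (G i : Set L)) i) hk⟩


theorem n2_of_ringEquiv {A B : Type u} [CommRing A] [CommRing B] [IsDomain A] [IsDomain B] (e : A ≃+* B)
    (h : CAlg.IsN2 A) : CAlg.IsN2 B := by
  letI : Algebra A B := e.toRingHom.toAlgebra
  haveI : IsLocalization (⊥ : Submonoid A) B := (isLocalization_iff _ _).mpr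
    ⟨fun y => by rw [Submonoid.mem_bot.mp y.2, map_one]; exact isUnit_one,
      fun z => ⟨(e.symm z, 1), by simp [RingHom.algebraMap_toAlgebra]⟩,
      fun {x y} hxy => ⟨1, by simpa using e.injective hxy⟩⟩
  exact Groth.Agent.S9392.result A ⊥ B h

end Groth.Agent.JapaneseLocal
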