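/-
purely inseparable criterion for N-2
-/
import Mathlib
import Groth.Prelude.Def_Found

universe u

namespace Groth.Agent.JapanesePurelyInsep


theorem pi_fixed {K M : Type u} [Field K] [Field M] [Algebra K M] [Normal K M] [FiniteDimensional K M] :
    IsPurelyInseparable K (IntermediateField.fixedField (⊤ : Subgroup (M ≃ₐ[K] M))) := by
  refine isPurelyInseparable_iff.mpr fun x => ⟨(Algebra.IsIntegral.isIntegral x), fun hsep => ?_⟩
  rw [← minpoly.natDegree_eq_one_iff]
  have hint : IsIntegral K (x : M) := Algebra.IsIntegral.isIntegral _
  have hmin : minpoly K (x : M) = minpoly K x := minpoly.algebraMap_eq (B' := M) (RingHom.injective _) x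
  have hsplit : ((minpoly K (x : M)).map (algebraMap K M)).Splits := Normal.splits inferInstance _
  have hs : (minpoly K (x : M)).Separable := hmin ▸ hsep
  have hcard := Polynomial.card_rootSet_eq_natDegree hs hsplit
  have huniq : (minpoly K (x : M)).rootSet M = {(x : M)} := by
    ext y
    rw [Polynomial.mem_rootSet_of_ne (minpoly.ne_zero hint), Set.mem_singleton_iff]
    refine ⟨fun hy => ?_, fun hy => hy ▸ minpoly.aeval K _⟩
    obtain ⟨σ, hσ⟩ := minpoly.exists_algEquiv_of_root' hint.isAlgebraic hy
    rw [← hσ]
    exact (IntermediateField.mem_fixedField_iff _ _).mp x.2 σ trivial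
  rw [← hmin, ← hcard]
  simp [huniq]

theorem intcl_finite_tower {A : Type u} [CommRing A] [IsDomain A] [IsNoetherianRing A] (K F M : Type u) [Field K] [Field F]
    [Field M] [Algebra A K] [IsFractionRing A K] [Algebra K F] [Algebra A F] [IsScalarTower A K F] [FiniteDimensional K F]
    [Algebra F M] [Algebra A M] [IsScalarTower A F M] [FiniteDimensional F M] [Algebra.IsSeparable F M]
    (h : Module.Finite A (integralClosure A F)) : Module.Finite A (integralClosure A M) := by
  let B := integralClosure A F
  haveI : IsFractionRing B F := IsIntegralClosure.isFractionRing_of_finite_extension A K F B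
  haveI : IsIntegrallyClosed B := integralClosure.isIntegrallyClosedOfFiniteExtension K
  haveI : IsNoetherianRing B := IsNoetherianRing.of_finite A B
  haveI : IsScalarTower B F M := IsScalarTower.of_algebraMap_eq' rfl
  haveI : IsScalarTower A B M := IsScalarTower.of_algebraMap_eq' (RingHom.ext fun r =>
    IsScalarTower.algebraMap_apply A F M r)
  have hB : Module.Finite B (integralClosure B M) := IsIntegralClosure.finite B F M (integralClosure B M)
  have hfg := Submodule.FG.restrictScalars (R := A)
    (Module.Finite.iff_fg.mp hB : ((integralClosure B M).toSubmodule).FG)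
  have heq : ((integralClosure B M).toSubmodule).restrictScalars A = (integralClosure A M).toSubmodule := by
    ext x
    exact ⟨fun hx => isIntegral_trans x hx, fun hx => (show IsIntegral A x from hx).tower_top⟩
  rw [heq] at hfg
  exact Module.Finite.iff_fg.mpr hfg

end Groth.Agent.JapanesePurelyInsep
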