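import Groth.Agent.Lib.H7KFlatSheaf
import Mathlib

/-! The stalk of a pullback of O-modules is the base change of the stalk; base change of K-flat complexes. -/

universe u v
open CategoryTheory Limits AlgebraicGeometry TopologicalSpace Opposite MonoidalCategory HomologicalComplex

namespace Groth.Agent.H7StalkPull
open scoped ChangeOfRings
open Groth.Agent H7Stalk H5TenCx H7KFlatMod H7KFlatSheaf

section sheaf

variable {X Y : Scheme.{u}} (f : X ⟶ Y) (x : X)

lemma push_smul (L : ModuleCat.{u} (X.presheaf.stalk x)) (U : Y.Opens) (r : Y.presheaf.obj (op U))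
    (s : SkSec x L (f ⁻¹ᵁ U)) (h : PLift (x ∈ f ⁻¹ᵁ U)) :
    (show SkSec x L (f ⁻¹ᵁ U) from
      (r • (show ((Scheme.Modules.pushforward f).obj ((sk x).obj L)).presheaf.obj (op U) from s))) h =
      (f.stalkMap x).hom ((Y.presheaf.germ U (f.base x) h.down).hom r) • s h := by
  have h2 : (f.stalkMap x).hom ((Y.presheaf.germ U (f.base x) h.down).hom r) =
      (X.presheaf.germ (f ⁻¹ᵁ U) x h.down).hom ((f.app U).hom r) := Scheme.Hom.germ_stalkMap_apply f U x h.down r
  rw [h2]
  rfl

/-- pushforward of a skyscraper is a skyscraper -/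
noncomputable def pushSkIso :
    ModuleCat.restrictScalars (f.stalkMap x).hom ⋙ sk (f.base x) ≅ sk x ⋙ Scheme.Modules.pushforward f :=
  NatIso.ofComponents
    (fun L =>
      { hom := mkHom
          (fun U => AddMonoidHom.mk'
            (fun (s : SkSec (f.base x) ((ModuleCat.restrictScalars (f.stalkMap x).hom).obj L) U) =>
              (fun h => s ⟨h.down⟩ : SkSec x L (f ⁻¹ᵁ U)))
            fun _ _ => rfl)
          (fun U V i m => rfl)
          (fun U r m => funext fun h => (push_smul f x L U r (fun h => m ⟨h.down⟩) h).symm)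
        inv := mkHom
          (fun U => AddMonoidHom.mk'
            (fun (s : SkSec x L (f ⁻¹ᵁ U)) =>
              (fun h => s ⟨h.down⟩ : SkSec (f.base x) ((ModuleCat.restrictScalars (f.stalkMap x).hom).obj L) U))
            fun _ _ => rfl)
          (fun U V i m => rfl)
          (fun U r m => funext fun h => push_smul f x L U r m ⟨h.down⟩)
        hom_inv_id := hom_ext_elem fun U m => rfl
        inv_hom_id := hom_ext_elem fun U m => rfl })
    fun {L L'} g => hom_ext_elem fun U m => rfl

/-- the stalk of a pullback -/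
noncomputable def pullStalkIso :
    Scheme.Modules.pullback f ⋙ DerSch.stalkFunctor X x ≅
      DerSch.stalkFunctor Y (f.base x) ⋙ ModuleCat.extendScalars.{u, u, u} (f.stalkMap x).hom :=
  ((Scheme.Modules.pullbackPushforwardAdjunction f).comp (adj x)).leftAdjointUniq
    (((adj (f.base x)).comp (ModuleCat.extendRestrictScalarsAdj.{u, u, u} (f.stalkMap x).hom)).ofNatIsoRight
      (pushSkIso f x))

end sheaf

section baseChange

variable {A B : Type u} [CommRing A] [CommRing B] (φ : A →+* B)

/-- `L ⊗_B (B ⊗_A K) ≅ L ⊗_A K` -/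
noncomputable def cancelIso (L : ModuleCat.{u} B) (K : ModuleCat.{u} A) :
    (ModuleCat.restrictScalars φ).obj (L ⊗ (ModuleCat.extendScalars φ).obj K) ≅
      (ModuleCat.restrictScalars φ).obj L ⊗ K :=
  letI := φ.toAlgebra
  letI : Module A L := Module.compHom L φ
  haveI : IsScalarTower A B L := IsScalarTower.of_algebraMap_smul fun r x => rfl
  LinearEquiv.toModuleIso
    ({ (TensorProduct.AlgebraTensorModule.cancelBaseChange A B B L K).toAddEquiv with
      map_smul' := fun r t => (TensorProduct.AlgebraTensorModule.cancelBaseChange A B B L K).map_smul (φ r) t |>.trans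
        (algebraMap_smul B r _) } :
      ((ModuleCat.restrictScalars φ).obj (L ⊗ (ModuleCat.extendScalars φ).obj K) : ModuleCat A) ≃ₗ[A]
        ((ModuleCat.restrictScalars φ).obj L ⊗ K : ModuleCat A))

/-- the base-changed tensor bifunctor -/
noncomputable abbrev tensorExt : ModuleCat.{u} B ⥤ ModuleCat.{u} A ⥤ ModuleCat.{u} B :=
  curriedTensor (ModuleCat.{u} B) ⋙ (Functor.whiskeringLeft _ _ _).obj (ModuleCat.extendScalars φ)

instance additive_extend : (ModuleCat.extendScalars.{u, u, u} φ).Additive :=
  (ModuleCat.extendRestrictScalarsAdj.{u, u, u} φ).left_adjoint_additive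

instance additive_tensorExt_obj (L : ModuleCat.{u} B) : ((tensorExt φ).obj L).Additive :=
  inferInstanceAs (ModuleCat.extendScalars.{u, u, u} φ ⋙ MonoidalCategory.tensorLeft L).Additive

/-- a pure tensor in the base change -/
noncomputable def emk {K : ModuleCat.{u} A} (b : B) (k : K) : (ModuleCat.extendScalars φ).obj K := b ⊗ₜ[A, φ] k

/-- a pure tensor in `L ⊗_B (B ⊗_A K)` -/
noncomputable def tmk {L : ModuleCat.{u} B} {K : ModuleCat.{u} A} (l : L) (y : (ModuleCat.extendScalars φ).obj K) :
    (ModuleCat.restrictScalars φ).obj (L ⊗ (ModuleCat.extendScalars φ).obj K) :=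
  let t : (L ⊗ (ModuleCat.extendScalars φ).obj K : ModuleCat.{u} B) := l ⊗ₜ[B] y
  t

lemma tmk_zero {L : ModuleCat.{u} B} {K : ModuleCat.{u} A} (l : L) : tmk φ (K := K) l 0 = 0 :=
  TensorProduct.tmul_zero _ l

lemma tmk_add {L : ModuleCat.{u} B} {K : ModuleCat.{u} A} (l : L) (y z : (ModuleCat.extendScalars φ).obj K) :
    tmk φ l (y + z) = tmk φ l y + tmk φ l z := TensorProduct.tmul_add l y z

lemma ext_tensorExt (L : ModuleCat.{u} B) (K : ModuleCat.{u} A) {M : ModuleCat.{u} A}
    {g g' : (ModuleCat.restrictScalars φ).obj (L ⊗ (ModuleCat.extendScalars φ).obj K) ⟶ M}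
    (h : ∀ (l : L) (b : B) (k : K),
        g.hom ((tmk φ l (emk φ b k))) =
          g'.hom ((tmk φ l (emk φ b k)))) : g = g' := by
  letI := φ.toAlgebra
  ext t
  induction t using TensorProduct.induction_on with
  | zero => exact (map_zero g.hom).trans (map_zero g'.hom).symm
  | add a b ha hb => exact (map_add g.hom a b).trans ((congrArg₂ (· + ·) ha hb).trans (map_add g'.hom a b).symm)
  | tmul l y => exact key l y
where
  key (l : L) (y : (ModuleCat.extendScalars φ).obj K) : g.hom (tmk φ l y) = g'.hom (tmk φ l y) := by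
    induction y using TensorProduct.induction_on with
    | zero =>
      exact (congrArg g.hom (tmk_zero φ l)).trans
        ((map_zero g.hom).trans ((map_zero g'.hom).symm.trans (congrArg g'.hom (tmk_zero φ l)).symm))
    | tmul b k => exact h l b k
    | add a b ha hb =>
      exact (congrArg g.hom (tmk_add φ l a b)).trans ((map_add g.hom _ _).trans
        ((congrArg₂ (· + ·) ha hb).trans ((map_add g'.hom _ _).symm.trans
          (congrArg g'.hom (tmk_add φ l a b)).symm)))

/-- the comparison, naturally in both variables -/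
noncomputable def cancelNatIso :
    tensorExt φ ⋙ (Functor.whiskeringRight _ _ _).obj (ModuleCat.restrictScalars φ) ≅
      ModuleCat.restrictScalars φ ⋙ curriedTensor (ModuleCat.{u} A) ⋙
        (Functor.whiskeringLeft _ _ _).obj (𝟭 (ModuleCat.{u} A)) :=
  NatIso.ofComponents
    (fun L => NatIso.ofComponents (fun K => cancelIso φ L K) fun {K K'} g => ext_tensorExt φ L K fun l b k => rfl)
    fun {L L'} g => by
      ext K : 2
      refine ext_tensorExt φ L K fun l b k => ?_
      exact congrArg (fun z : (ModuleCat.restrictScalars φ).obj L' => z ⊗ₜ[A] k)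
        (show b • g.hom l = g.hom (b • l) from (map_smul g.hom b l).symm)

set_option maxHeartbeats 2000000 in
theorem kflat_extendScalars (K : CochainComplex (ModuleCat.{u} A) ℤ) (hK : KF A K) :
    KF B (((ModuleCat.extendScalars φ).mapHomologicalComplex _).obj K) := fun L hL => by
  have : ∀ J : Type, PreservesColimitsOfShape (Discrete J) (ModuleCat.restrictScalars.{u} φ) := fun J =>
    (ModuleCat.restrictCoextendScalarsAdj.{u, u, u} φ).leftAdjoint_preservesColimits.{0, 0}.preservesColimitsOfShape
  let e₁ := H7MapTotal.iso (tensorExt φ) (curriedTensor (ModuleCat.{u} B)) (𝟭 _) (ModuleCat.extendScalars φ) (𝟭 _)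
    (Iso.refl _) L K
  let e₂ := H7MapTotal.iso (tensorExt φ) (curriedTensor (ModuleCat.{u} A)) (ModuleCat.restrictScalars φ) (𝟭 _)
    (ModuleCat.restrictScalars φ) (cancelNatIso φ) L K
  have hL' : (((ModuleCat.restrictScalars φ).mapHomologicalComplex _).obj L).Acyclic := fun n =>
    ShortComplex.Exact.map (hL n) (ModuleCat.restrictScalars φ)
  have h2 := H5KFlat.acyclic_of_iso e₂.symm (hK _ hL')
  intro n
  have h1 : (mapBifunctor L K (tensorExt φ) (ComplexShape.up ℤ)).ExactAt n :=
    (ShortComplex.exact_map_iff_of_faithful _ (ModuleCat.restrictScalars φ)).1 (h2 n)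
  exact h1.of_iso e₁

end baseChange

/-- stalks of the pullback of a complex -/
noncomputable def stCxPullIso {X Y : Scheme.{u}} (f : X ⟶ Y) (x : X) (K : CochainComplex Y.Modules ℤ) :
    (stCx x).obj (((Scheme.Modules.pullback f).mapHomologicalComplex (ComplexShape.up ℤ)).obj K) ≅
      ((ModuleCat.extendScalars (f.stalkMap x).hom).mapHomologicalComplex (ComplexShape.up ℤ)).obj
        ((stCx (f.base x)).obj K) :=
  Hom.isoOfComponents (fun n => (pullStalkIso f x).app (K.X n))
    fun i j _ => ((pullStalkIso f x).hom.naturality (K.d i j)).symm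

theorem skf_pullback {X Y : Scheme.{u}} (f : X ⟶ Y) {K : CochainComplex Y.Modules ℤ} (hK : SKF K) :
    SKF (((Scheme.Modules.pullback f).mapHomologicalComplex (ComplexShape.up ℤ)).obj K) := fun x =>
  H5KFlat.kflat_of_iso _ (stCxPullIso f x K).symm (kflat_extendScalars _ _ (hK (f.base x)))

end Groth.Agent.H7StalkPull
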