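import Groth.Agent.Lib.LQFP
import Groth.Agent.Lib.LQcqs
import Mathlib.AlgebraicGeometry.Morphisms.Finite
import Groth.Prelude.Def_Coh

set_option autoImplicit false
universe u

open CategoryTheory Limits TopologicalSpace Opposite AlgebraicGeometry

namespace Groth.Agent.LQcoh

variable {X Y : Scheme.{u}}

/-- a morphism of modules on the sections over an open, as a linear map -/
noncomputable def appLin {M N : X.Modules} (φ : M ⟶ N) (V : X.Opens) :
    Γ(M, V) →ₗ[Γ(X, V)] Γ(N, V) where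
  toFun := φ.app V
  map_add' := map_add _
  map_smul' r x := Scheme.Modules.Hom.app_smul φ r x

theorem isCoh_iff_finite (M : X.Modules) :
    Coh.IsCoh M ↔ M.IsQuasicoherent ∧
      ∀ V : X.Opens, IsAffineOpen V → Module.Finite Γ(X, V) Γ(M, V) := by
  constructor
  · rintro ⟨h, h'⟩
    haveI := h
    haveI := h'
    exact ⟨h, fun V hV => finite_sections M hV⟩
  · rintro ⟨h, h'⟩
    haveI := h
    exact ⟨h, isFiniteType_of_finite M (fun V : X.affineOpens => V.1) (fun V => V.2)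
      (iSup_affineOpens_eq_top X) (fun V => h' V.1 V.2)⟩

theorem isCoh_of_mono [IsLocallyNoetherian X] {M N : X.Modules} (i : N ⟶ M) [Mono i]
    (hM : Coh.IsCoh M) (hN : N.IsQuasicoherent) : Coh.IsCoh N := by
  refine (isCoh_iff_finite N).2 ⟨hN, fun V hV => ?_⟩
  haveI : IsNoetherianRing Γ(X, V) := IsLocallyNoetherian.component_noetherian ⟨V, hV⟩
  haveI := ((isCoh_iff_finite M).1 hM).2 V hV
  exact Module.Finite.of_injective (appLin i V)
    (LCech.app_injective (X := X.toTopCat) ((toShf X).map i) V)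

theorem finite_of_shortExact {T : ShortComplex X.Modules} (hT : T.ShortExact)
    [T.X₁.IsQuasicoherent] {V : X.Opens} (hV : IsAffineOpen V)
    (h : Module.Finite Γ(X, V) Γ(T.X₂, V)) : Module.Finite Γ(X, V) Γ(T.X₃, V) :=
  Module.Finite.of_surjective (appLin T.g V) (app_surjective hT hV)

theorem isCoh_X₃ {T : ShortComplex X.Modules} (hT : T.ShortExact) (h₁ : T.X₁.IsQuasicoherent)
    (h₂ : Coh.IsCoh T.X₂) : Coh.IsCoh T.X₃ := by
  haveI := h₁
  obtain ⟨h, h'⟩ := (isCoh_iff_finite _).1 h₂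
  haveI := h
  exact (isCoh_iff_finite _).2 ⟨isQuasicoherent_X₃ hT, fun V hV => finite_of_shortExact hT hV (h' V hV)⟩

theorem isCoh_kernel [IsLocallyNoetherian X] {M N : X.Modules} (φ : M ⟶ N)
    (hM : Coh.IsCoh M) (hN : N.IsQuasicoherent) : Coh.IsCoh (kernel φ) :=
  haveI := hM.1
  haveI := hN
  isCoh_of_mono (kernel.ι φ) hM (isQuasicoherent_kernel φ)

theorem isCoh_cokernel {M N : X.Modules} (φ : M ⟶ N)
    (hM : M.IsQuasicoherent) (hN : Coh.IsCoh N) : Coh.IsCoh (cokernel φ) := by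
  haveI := hM
  haveI := hN.1
  haveI : (cokernel φ).IsQuasicoherent := isQuasicoherent_cokernel φ
  exact isCoh_X₃ (T := ShortComplex.mk (kernel.ι (cokernel.π φ)) (cokernel.π φ) (kernel.condition _))
    { exact := ShortComplex.exact_of_f_is_kernel _ (kernelIsKernel _) }
    (isQuasicoherent_kernel (cokernel.π φ)) hN

theorem isCoh_push_of_isFinite (f : X ⟶ Y) [IsFinite f] (M : X.Modules) (hM : Coh.IsCoh M) :
    Coh.IsCoh ((Scheme.Modules.pushforward f).obj M) := by
  obtain ⟨h, h'⟩ := (isCoh_iff_finite M).1 hM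
  haveI := h
  refine (isCoh_iff_finite _).2 ⟨isQuasicoherent_push f M, fun V hV => ?_⟩
  have hW := hV.preimage f
  haveI := h' _ hW
  letI := (f.app V).hom.toAlgebra
  letI : Module Γ(Y, V) Γ(M, f ⁻¹ᵁ V) := Module.compHom _ (f.app V).hom
  haveI : IsScalarTower Γ(Y, V) Γ(X, f ⁻¹ᵁ V) Γ(M, f ⁻¹ᵁ V) :=
    IsScalarTower.of_algebraMap_smul fun _ _ => rfl
  haveI : Module.Finite Γ(Y, V) Γ(X, f ⁻¹ᵁ V) := f.finite_app V hV
  have hf : Module.Finite Γ(Y, V) Γ(M, f ⁻¹ᵁ V) := Module.Finite.trans Γ(X, f ⁻¹ᵁ V) _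
  exact hf

end Groth.Agent.LQcoh
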