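import Groth.Agent.Lib.LQcoh
import Groth.Agent.Lib.H5ModFree

set_option autoImplicit false
universe u

open CategoryTheory Limits TopologicalSpace Opposite AlgebraicGeometry

namespace Groth.Agent.LQcoh

variable {X : Scheme.{u}}

/-- the abelian sheaf underlying a module -/
noncomputable abbrev toShf (X : Scheme.{u}) : X.Modules ⥤ LCech.Shf X.toTopCat :=
  SheafOfModules.toSheaf X.ringCatSheaf

instance toShf_preservesFiniteColimits (X : Scheme.{u}) : PreservesFiniteColimits (toShf X) :=
  haveI : PreservesColimitsOfSize.{u, u} (toShf X) := H5ModFree.toSheaf_preservesColimits X.ringCatSheaf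
  PreservesColimitsOfSize.preservesFiniteColimits.{u, u} _

instance toShf_preservesFiniteLimits (X : Scheme.{u}) : PreservesFiniteLimits (toShf X) :=
  inferInstanceAs (PreservesFiniteLimits (SheafOfModules.toSheaf X.ringCatSheaf))

instance toShf_additive (X : Scheme.{u}) : (toShf X).Additive where

instance toShf_zero (X : Scheme.{u}) : (toShf X).PreservesZeroMorphisms :=
  Functor.preservesZeroMorphisms_of_additive _

lemma toShf_shortExact {T : ShortComplex X.Modules} (hT : T.ShortExact) :
    (T.map (toShf X)).ShortExact :=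
  hT.map_of_exact _

/-- short exact sequences with quasi-coherent kernel are exact on affine opens -/
theorem app_surjective {T : ShortComplex X.Modules} (hT : T.ShortExact) [T.X₁.IsQuasicoherent]
    {V : X.Opens} (hV : IsAffineOpen V) : Function.Surjective (T.g.app V) :=
  surjective_app T.X₁ _ (toShf_shortExact hT) rfl hV

theorem app_exact {T : ShortComplex X.Modules} (hT : T.ShortExact) (V : X.Opens) :
    Function.Injective (T.f.app V) ∧
      ∀ s, T.g.app V s = 0 → ∃ t, T.f.app V t = s := by
  haveI := (toShf_shortExact hT).mono_f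
  exact ⟨LCech.app_injective (X := X.toTopCat) (T.map (toShf X)).f V,
    fun s hs => TopCat.Sheaf.sections_exact_of_left_exact (toShf_shortExact hT).exact
      (toShf_shortExact hT).mono_f s hs⟩

/-- restriction condition -/
def LocAt (M : X.Modules) (V : X.Opens) : Prop :=
  ∀ g : Γ(X, V), (∀ c : Γ(M, X.basicOpen g), ∃ (N : ℕ) (y : Γ(M, V)),
      res M (basicOpen_le_open g) y = resO (basicOpen_le_open g) (g ^ N) • c) ∧
    (∀ y : Γ(M, V), res M (basicOpen_le_open g) y = 0 → ∃ N : ℕ, g ^ N • y = 0)

lemma locAt_of_qcoh (M : X.Modules) [M.IsQuasicoherent] {V : X.Opens} (hV : IsAffineOpen V) :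
    LocAt M V :=
  exists_pow_of_affine hV M

set_option backward.isDefEq.respectTransparency false in
lemma isUnit_resO (V : X.Opens) (g : Γ(X, V)) :
    IsUnit (resO (basicOpen_le_open g) g) :=
  RingedSpace.isUnit_res_basicOpen X.toRingedSpace g

lemma isIso_fromTildeΓ_of_locAt (M : X.Modules) {V : X.Opens} (hV : IsAffineOpen V)
    (h : LocAt M V) : IsIso (M.restrict hV.fromSpec).fromTildeΓ := by
  rw [isIso_fromTildeΓ_iff_isLocalizing]
  intro g
  have hD : hV.fromSpec ''ᵁ PrimeSpectrum.basicOpen g = X.basicOpen g :=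
    hV.fromSpec_image_basicOpen g
  have hT : hV.fromSpec ''ᵁ ⊤ = V :=
    hV.fromSpec.image_top_eq_opensRange.trans hV.opensRange_fromSpec
  refine ⟨?_, ?_, ?_⟩
  · rintro ⟨_, N, rfl⟩
    rw [map_pow]
    exact (Scheme.Modules.isUnit_algebraMap_end_of_le_basicOpen
      (M := M.restrict hV.fromSpec) g le_rfl).pow N
  · intro c
    obtain ⟨N, y, hy⟩ := (h g).1 (res M hD.ge c)
    refine ⟨⟨res M hT.le y, ⟨g ^ N, N, rfl⟩⟩, ?_⟩
    refine (smul_restrict hV M (PrimeSpectrum.basicOpen g) (g ^ N) c).trans ?_
    have := congrArg (res M hD.le) hy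
    erw [res_smul, res_res, resO_resO] at this
    rw [show res M hD.le (res M hD.ge c) = c from (res_res M _ _ c).trans
      (LCech.rs_self M.presheaf le_rfl c)] at this
    refine this.symm.trans ?_
    exact (res_res M hT.le (Scheme.Hom.image_mono _ le_top) y).symm
  · intro y₁ y₂ hy
    let a₁ : Γ(M, hV.fromSpec ''ᵁ ⊤) := y₁
    let a₂ : Γ(M, hV.fromSpec ''ᵁ ⊤) := y₂
    let z : Γ(M, hV.fromSpec ''ᵁ ⊤) := a₁ - a₂
    have hz : res M (Scheme.Hom.image_mono hV.fromSpec
        (le_top : (PrimeSpectrum.basicOpen g : (Spec Γ(X, V)).Opens) ≤ ⊤)) z = 0 := by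
      refine (map_sub (M.presheaf.map (homOfLE (Scheme.Hom.image_mono hV.fromSpec
        (le_top : (PrimeSpectrum.basicOpen g : (Spec Γ(X, V)).Opens) ≤ ⊤))).op).hom a₁ a₂).trans ?_
      exact sub_eq_zero.2 hy
    obtain ⟨N, hN⟩ := (h g).2 (res M hT.ge z) (by
      refine (res_res M _ _ z).trans ?_
      refine ((res_res M (Scheme.Hom.image_mono hV.fromSpec
        (le_top : (PrimeSpectrum.basicOpen g : (Spec Γ(X, V)).Opens) ≤ ⊤)) hD.ge z).symm.trans ?_)
      exact (congrArg (res M hD.ge) hz).trans (map_zero _))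
    refine ⟨⟨g ^ N, N, rfl⟩, sub_eq_zero.1 ?_⟩
    refine (smul_sub (g ^ N) y₁ y₂).symm.trans ?_
    refine (smul_restrict hV M ⊤ (g ^ N) z).trans ?_
    have := congrArg (res M hT.le) hN
    erw [res_smul, res_res] at this
    refine Eq.trans ?_ (this.trans (map_zero _))
    refine congrArg (resO (image_le hV ⊤) (g ^ N) • ·) ?_
    exact (LCech.rs_self M.presheaf le_rfl z).symm

lemma nonempty_presentation_tilde {R : CommRingCat.{u}} (N : ModuleCat.{u} R) :
    Nonempty (SheafOfModules.Presentation.{u} (tilde N)) :=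
  ⟨presentationTilde N .univ (by simp) (LinearMap.ker (Finsupp.linearCombination R
    (fun s : (Set.univ : Set N) ↦ (s : N)))) (Submodule.span_eq _)⟩

set_option backward.isDefEq.respectTransparency false in
lemma nonempty_presentation_over (M : X.Modules) {V : X.Opens} (hV : IsAffineOpen V)
    (h : LocAt M V) : Nonempty (SheafOfModules.Presentation.{u} (M.over V)) := by
  haveI := isIso_fromTildeΓ_of_locAt M hV h
  let N := (modulesSpecToSheaf.obj (M.restrict hV.fromSpec)).presheaf.obj (op ⊤)
  obtain ⟨p₀⟩ := nonempty_presentation_tilde N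
  let p₁ : (M.restrict hV.fromSpec).Presentation :=
    SheafOfModules.Presentation.ofIsIso.{u, u, u}
      (asIso (M.restrict hV.fromSpec).fromTildeΓ).hom p₀
  let p₂ := Scheme.Modules.presentationRestrict hV.isoSpec.hom p₁
  let p₃ : (M.restrict V.ι).Presentation :=
    SheafOfModules.Presentation.ofIsIso.{u, u, u}
      (((Scheme.Modules.restrictFunctorComp hV.isoSpec.hom hV.fromSpec).symm ≪≫
        Scheme.Modules.restrictFunctorCongr (IsAffineOpen.isoSpec_hom_fromSpec hV)).app M).hom p₂
  let e := Scheme.Modules.overEquiv V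
  haveI : PreservesColimitsOfSize.{u, u} e.inverse := inferInstance
  let η : e.inverse.obj (SheafOfModules.unit _) ≅ SheafOfModules.unit (X.ringCatSheaf.over V) :=
    e.inverse.mapIso ((Scheme.Modules.restrictUnitIso V.ι).symm ≪≫
      ((Scheme.Modules.overFunctorEquiv V).app _).symm) ≪≫
      (e.unitIso.app _).symm
  exact ⟨SheafOfModules.Presentation.ofIsIso.{u, u, u}
    (e.inverse.mapIso ((Scheme.Modules.overFunctorEquiv V).app M).symm ≪≫
      (e.unitIso.app _).symm).hom (p₃.map e.inverse η.symm)⟩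

/-- quasi-coherence from the localisation property on an affine covering -/
theorem isQuasicoherent_of_locAt (M : X.Modules) {I : Type u} (V : I → X.Opens)
    (hV : ∀ i, IsAffineOpen (V i)) (hcov : iSup V = ⊤) (h : ∀ i, LocAt M (V i)) :
    M.IsQuasicoherent := by
  have : ∀ i, SheafOfModules.IsQuasicoherent.{u} (M.over (V i)) := fun i =>
    (nonempty_presentation_over M (hV i) (h i)).some.isQuasicoherent
  exact SheafOfModules.IsQuasicoherent.of_coversTop M V ((Opens.coversTop_iff _ _).2 hcov)

/-- kernels of maps of quasi-coherent modules -/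
theorem locAt_of_leftExact {T : ShortComplex X.Modules} (V : X.Opens) (hV : IsAffineOpen V)
    (hinj : ∀ W, Function.Injective (T.f.app W))
    (hex : ∀ W s, T.g.app W s = 0 → ∃ t, T.f.app W t = s)
    (h₂ : T.X₂.IsQuasicoherent) (h₃ : T.X₃.IsQuasicoherent) : LocAt T.X₁ V := by
  intro g
  have hnat : ∀ {A B : X.Modules} (φ : A ⟶ B) {U W : X.Opens} (h : W ≤ U) (a : Γ(A, U)),
      φ.app W (res A h a) = res B h (φ.app U a) := fun φ _ _ h a =>
    (NatTrans.naturality_apply ((toShf X).map φ).hom (homOfLE h).op a)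
  constructor
  · intro c
    obtain ⟨N, y, hy⟩ := (exists_pow_of_affine hV T.X₂ g).1 (T.f.app _ c)
    obtain ⟨M', hM'⟩ := (exists_pow_of_affine hV T.X₃ g).2 (T.g.app V y) (by
      rw [← hnat, hy, Scheme.Modules.Hom.app_smul]
      have : T.g.app _ (T.f.app _ c) = 0 := by
        change (T.f ≫ T.g).app _ c = 0
        rw [T.zero]; rfl
      rw [this, smul_zero])
    obtain ⟨t, ht⟩ := hex V (g ^ M' • y) (by rw [Scheme.Modules.Hom.app_smul, hM'])
    refine ⟨M' + N, t, hinj _ ?_⟩
    rw [hnat, ht, res_smul, hy, Scheme.Modules.Hom.app_smul, smul_smul, pow_add]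
    simp only [resO, map_mul]
  · intro y hy
    obtain ⟨N, hN⟩ := (exists_pow_of_affine hV T.X₂ g).2 (T.f.app V y) (by
      rw [← hnat, hy, map_zero])
    refine ⟨N, hinj _ ?_⟩
    rw [Scheme.Modules.Hom.app_smul, hN, map_zero]

/-- middle terms of short exact sequences -/
theorem locAt_extension {T : ShortComplex X.Modules} (hT : T.ShortExact) (V : X.Opens)
    (hV : IsAffineOpen V) [T.X₁.IsQuasicoherent] [T.X₃.IsQuasicoherent] : LocAt T.X₂ V := by
  intro g
  have hnat : ∀ {A B : X.Modules} (φ : A ⟶ B) {U W : X.Opens} (h : W ≤ U) (a : Γ(A, U)),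
      φ.app W (res A h a) = res B h (φ.app U a) := fun φ _ _ h a =>
    (NatTrans.naturality_apply ((toShf X).map φ).hom (homOfLE h).op a)
  constructor
  · intro c
    obtain ⟨N, y, hy⟩ := (exists_pow_of_affine hV T.X₃ g).1 (T.g.app _ c)
    obtain ⟨b, hb⟩ := app_surjective hT hV y
    obtain ⟨a, ha⟩ := (app_exact hT _).2 (resO (basicOpen_le_open g) (g ^ N) • c -
        res T.X₂ (basicOpen_le_open g) b) (by
      rw [map_sub, Scheme.Modules.Hom.app_smul, hnat, hb, hy, sub_self])
    obtain ⟨M', z, hz⟩ := (exists_pow_of_affine hV T.X₁ g).1 a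
    refine ⟨M' + N, T.f.app V z + g ^ M' • b, ?_⟩
    change (T.X₂.presheaf.map _).hom (_ + _) = _
    rw [map_add]
    change res T.X₂ _ _ + res T.X₂ _ _ = _
    rw [← hnat, hz, Scheme.Modules.Hom.app_smul, ha, res_smul, smul_sub, smul_smul, sub_add_cancel,
      pow_add]
    simp only [resO, map_mul]
  · intro y hy
    obtain ⟨N, hN⟩ := (exists_pow_of_affine hV T.X₃ g).2 (T.g.app V y) (by
      rw [← hnat, hy, map_zero])
    obtain ⟨a, ha⟩ := (app_exact hT V).2 (g ^ N • y) (by rw [Scheme.Modules.Hom.app_smul, hN])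
    obtain ⟨M', hM'⟩ := (exists_pow_of_affine hV T.X₁ g).2 a (by
      refine (app_exact hT _).1 ?_
      rw [hnat, ha, res_smul, hy, smul_zero, map_zero])
    refine ⟨M' + N, ?_⟩
    rw [pow_add, mul_smul, ← ha, ← Scheme.Modules.Hom.app_smul, hM', map_zero]

/-- cokernels -/
theorem locAt_quotient {T : ShortComplex X.Modules} (hT : T.ShortExact) (V : X.Opens)
    (hV : IsAffineOpen V) [T.X₁.IsQuasicoherent] [T.X₂.IsQuasicoherent] : LocAt T.X₃ V := by
  intro g
  have hnat : ∀ {A B : X.Modules} (φ : A ⟶ B) {U W : X.Opens} (h : W ≤ U) (a : Γ(A, U)),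
      φ.app W (res A h a) = res B h (φ.app U a) := fun φ _ _ h a =>
    (NatTrans.naturality_apply ((toShf X).map φ).hom (homOfLE h).op a)
  constructor
  · intro c
    obtain ⟨b, rfl⟩ := app_surjective hT (hV.basicOpen g) c
    obtain ⟨N, y, hy⟩ := (exists_pow_of_affine hV T.X₂ g).1 b
    exact ⟨N, T.g.app V y, by rw [← hnat, hy, Scheme.Modules.Hom.app_smul]⟩
  · intro y hy
    obtain ⟨b, rfl⟩ := app_surjective hT hV y
    obtain ⟨a, ha⟩ := (app_exact hT _).2 (res T.X₂ (basicOpen_le_open g) b) (by rw [hnat, hy])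
    obtain ⟨N, z, hz⟩ := (exists_pow_of_affine hV T.X₁ g).1 a
    obtain ⟨M', hM'⟩ := (exists_pow_of_affine hV T.X₂ g).2 (g ^ N • b - T.f.app V z) (by
      change (T.X₂.presheaf.map _).hom (_ - _) = 0
      rw [map_sub, sub_eq_zero]
      change res T.X₂ _ _ = res T.X₂ _ _
      rw [res_smul, ← hnat, hz, Scheme.Modules.Hom.app_smul, ha])
    refine ⟨M' + N, ?_⟩
    have h0 : T.g.app V (T.f.app V z) = 0 := by
      change (T.f ≫ T.g).app _ z = 0
      rw [T.zero]; rfl
    have := congrArg (T.g.app V) hM'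
    rw [Scheme.Modules.Hom.app_smul, map_sub, Scheme.Modules.Hom.app_smul, h0, sub_zero,
      map_zero, smul_smul, ← pow_add] at this
    exact this

/-- quasi-coherence can be checked on all affine opens -/
theorem isQuasicoherent_of_forall_locAt (M : X.Modules)
    (h : ∀ V : X.Opens, IsAffineOpen V → LocAt M V) : M.IsQuasicoherent := by
  refine isQuasicoherent_of_locAt M (fun V : X.affineOpens => (V : X.Opens)) (fun V => V.2) ?_
    (fun V => h V V.2)
  exact AlgebraicGeometry.iSup_affineOpens_eq_top X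

theorem leftExact_app (T : ShortComplex X.Modules) (hT : T.Exact) (hm : Mono T.f) :
    (∀ W, Function.Injective (T.f.app W)) ∧
      ∀ W s, T.g.app W s = 0 → ∃ t, T.f.app W t = s := by
  have h := ((Functor.preservesFiniteLimits_tfae (toShf X)).out 1 3 rfl rfl).mpr inferInstance T ⟨hT, hm⟩
  haveI := h.2
  exact ⟨fun W => LCech.app_injective (X := X.toTopCat) ((toShf X).map T.f) W,
    fun W s hs => TopCat.Sheaf.sections_exact_of_left_exact h.1 h.2 s hs⟩

theorem isQuasicoherent_kernel {M N : X.Modules} [hM : M.IsQuasicoherent] [hN : N.IsQuasicoherent]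
    (φ : M ⟶ N) : (kernel φ).IsQuasicoherent := by
  refine isQuasicoherent_of_forall_locAt _ fun V hV => ?_
  have h := leftExact_app (ShortComplex.mk (kernel.ι φ) φ (kernel.condition φ))
    (ShortComplex.exact_of_f_is_kernel _ (kernelIsKernel φ)) (inferInstanceAs (Mono (kernel.ι φ)))
  exact locAt_of_leftExact (T := ShortComplex.mk (kernel.ι φ) φ (kernel.condition φ)) V hV h.1 h.2 hM hN

theorem isQuasicoherent_X₃ {T : ShortComplex X.Modules} (hT : T.ShortExact)
    [T.X₁.IsQuasicoherent] [T.X₂.IsQuasicoherent] : T.X₃.IsQuasicoherent :=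
  isQuasicoherent_of_forall_locAt _ fun V hV => locAt_quotient hT V hV

theorem isQuasicoherent_X₂ {T : ShortComplex X.Modules} (hT : T.ShortExact)
    [T.X₁.IsQuasicoherent] [T.X₃.IsQuasicoherent] : T.X₂.IsQuasicoherent :=
  isQuasicoherent_of_forall_locAt _ fun V hV => locAt_extension hT V hV

theorem isQuasicoherent_cokernel {M N : X.Modules} [hM : M.IsQuasicoherent]
    [hN : N.IsQuasicoherent] (φ : M ⟶ N) : (cokernel φ).IsQuasicoherent := by
  haveI hK : (kernel φ).IsQuasicoherent := isQuasicoherent_kernel φ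
  let T₁ := ShortComplex.mk (kernel.ι φ) (cokernel.π (kernel.ι φ)) (cokernel.condition _)
  have h₁ : T₁.ShortExact := { exact := ShortComplex.exact_cokernel _ }
  haveI : T₁.X₁.IsQuasicoherent := hK
  haveI : T₁.X₂.IsQuasicoherent := hM
  have hI : T₁.X₃.IsQuasicoherent := isQuasicoherent_X₃ h₁
  have hw : Abelian.factorThruCoimage φ ≫ cokernel.π φ = 0 := by
    rw [← cancel_epi (Abelian.coimage.π φ), ← Category.assoc, Abelian.coimage.fac,
      cokernel.condition, comp_zero]
  let T₂ := ShortComplex.mk (Abelian.factorThruCoimage φ) (cokernel.π φ) hw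
  have h₂ : T₂.ShortExact :=
    { exact := by
        let F : (ShortComplex.mk φ (cokernel.π φ) (cokernel.condition φ)) ⟶ T₂ :=
          { τ₁ := Abelian.coimage.π φ, τ₂ := 𝟙 _, τ₃ := 𝟙 _
            comm₁₂ := (Abelian.coimage.fac φ).trans (Category.comp_id _).symm
            comm₂₃ := (Category.id_comp _).trans (Category.comp_id _).symm }
        have : Epi F.τ₁ := inferInstanceAs (Epi (Abelian.coimage.π φ))
        have : IsIso F.τ₂ := IsIso.id _
        have : Mono F.τ₃ := inferInstanceAs (Mono (𝟙 _))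
        exact (ShortComplex.exact_iff_of_epi_of_isIso_of_mono F).1 (ShortComplex.exact_cokernel φ) }
  haveI : T₂.X₁.IsQuasicoherent := hI
  haveI : T₂.X₂.IsQuasicoherent := hN
  exact isQuasicoherent_X₃ h₂

end Groth.Agent.LQcoh

namespace Groth.Agent.LQcoh

open AlgebraicGeometry

theorem preservesFiniteLimits_tilde (R : CommRingCat.{u}) :
    PreservesFiniteLimits (tilde.functor R) := by
  haveI : (tilde.functor R).Additive := inferInstance
  haveI : (tilde.functor R).PreservesMonomorphisms := ⟨fun {M N} f hf => by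
    haveI := isQuasicoherent_kernel ((tilde.functor R).map f)
    haveI : IsIso (Scheme.Modules.fromTildeΓ (kernel ((tilde.functor R).map f))) :=
      Scheme.Modules.isIso_fromTildeΓ_of_isQuasicoherent _
    refine Preadditive.mono_of_kernel_zero ?_
    haveI : PreservesLimitsOfSize.{0, 0} (moduleSpecΓFunctor (R := R)) :=
      tilde.adjunction.rightAdjoint_preservesLimits
    haveI : Mono ((moduleSpecΓFunctor (R := R)).map ((tilde.functor R).map f)) := by
      have h := tilde.adjunction.unit.naturality (X := M) (Y := N) f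
      rw [Functor.id_map, Functor.comp_map, ← IsIso.inv_comp_eq] at h
      rw [← h]
      infer_instance
    have hz : IsZero ((moduleSpecΓFunctor (R := R)).obj (kernel ((tilde.functor R).map f))) :=
      IsZero.of_iso (isZero_kernel_of_mono _) (PreservesKernel.iso _ _)
    have h0 : IsZero (kernel ((tilde.functor R).map f)) :=
      IsZero.of_iso ((tilde.functor R).map_isZero hz)
        (asIso (Scheme.Modules.fromTildeΓ (kernel ((tilde.functor R).map f)))).symm
    exact h0.eq_of_src _ _⟩
  haveI : PreservesFiniteColimits (tilde.functor R) :=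
    PreservesColimitsOfSize.preservesFiniteColimits.{0, 0} _
  refine (((Functor.exact_tfae (tilde.functor R)).out 0 3 rfl rfl).1 fun T hT => ?_).1
  haveI := hT.mono_f
  haveI := hT.epi_g
  refine { exact := ?_, mono_f := inferInstanceAs (Mono ((tilde.functor R).map T.f)),
           epi_g := inferInstanceAs (Epi ((tilde.functor R).map T.g)) }
  exact hT.exact.map_of_epi_of_preservesCokernel _ hT.epi_g inferInstance

end Groth.Agent.LQcoh

namespace Groth.Agent.LQcoh

open AlgebraicGeometry

theorem preservesFiniteColimits_tilde (R : CommRingCat.{u}) :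
    PreservesFiniteColimits (tilde.functor R) :=
  PreservesColimitsOfSize.preservesFiniteColimits.{0, 0} _

/-- colimits of quasi-coherent modules on an affine scheme -/
theorem isQuasicoherent_colimit {R : CommRingCat.{u}} {J : Type u} [SmallCategory J]
    (F : J ⥤ (Spec R).Modules) (hF : ∀ j, (F.obj j).IsQuasicoherent) :
    (colimit F).IsQuasicoherent := by
  have hε : IsIso (Functor.whiskerLeft F (tilde.adjunction (R := R)).counit) := by
    rw [NatTrans.isIso_iff_isIso_app]
    intro j
    exact @Scheme.Modules.isIso_fromTildeΓ_of_isQuasicoherent _ (F.obj j) (hF j)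
  let e : (F ⋙ moduleSpecΓFunctor) ⋙ tilde.functor R ≅ F :=
    Functor.associator _ _ _ ≪≫
      asIso (Functor.whiskerLeft F (tilde.adjunction (R := R)).counit) ≪≫ F.rightUnitor
  haveI : PreservesColimitsOfSize.{u, u} (tilde.functor R) :=
    tilde.adjunction.leftAdjoint_preservesColimits
  let d : (tilde.functor R).obj (colimit (F ⋙ moduleSpecΓFunctor)) ≅ colimit F :=
    preservesColimitIso (tilde.functor R) (F ⋙ moduleSpecΓFunctor) ≪≫ HasColimit.isoOfNatIso e
  exact (SheafOfModules.isQuasicoherent (Spec R).ringCatSheaf).prop_of_iso d (inferInstanceAs ((tilde.functor R).obj (colimit (F ⋙ moduleSpecΓFunctor))).IsQuasicoherent)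

end Groth.Agent.LQcoh
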