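import Groth.Agent.Lib.LInv
import Groth.Agent.Lib.LQcqs
import Groth.Agent.Lib.LQAff
import Groth.Agent.Lib.H7Cartier
import Groth.Prelude.Def_ClSub2
import Groth.Prelude.Def_BlowUp2
import Mathlib

/-! The module of an ideal sheaf. -/

set_option autoImplicit false
universe u
open CategoryTheory Limits AlgebraicGeometry Opposite TopologicalSpace

namespace Groth.Agent.LIdeal

open Groth.Agent.LQcoh Groth.Agent.LInv

variable {X : Scheme.{u}} (I : X.IdealSheafData)

theorem isQuasicoherent_structure (Y : Scheme.{u}) : (Coh.structureModule Y).IsQuasicoherent :=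
  isQuasicoherent_of_isInvertible (isInvertible_structureModule Y)

theorem isQuasicoherent_idealMod : (ClSub.idealMod I).IsQuasicoherent := by
  haveI := isQuasicoherent_structure X
  haveI := isQuasicoherent_structure I.subscheme
  haveI : ((Scheme.Modules.pushforward I.subschemeι).obj (Coh.structureModule I.subscheme)).IsQuasicoherent :=
    isQuasicoherent_push I.subschemeι _
  exact isQuasicoherent_kernel _

/-- a section of the ideal module as a function -/
noncomputable def fn {W : X.Opens} (s : Γ(ClSub.idealMod I, W)) : Γ(X, W) :=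
  (ClSub.idealModι I).app W s

lemma fn_smul {W : X.Opens} (r : Γ(X, W)) (s : Γ(ClSub.idealMod I, W)) : fn I (r • s) = r * fn I s :=
  Scheme.Modules.Hom.app_smul (ClSub.idealModι I) r s

lemma fn_res {W V : X.Opens} (h : V ≤ W) (s : Γ(ClSub.idealMod I, W)) :
    fn I (res _ h s) = resO h (fn I s) :=
  NatTrans.naturality_apply ((Scheme.Modules.toPresheaf _).map (ClSub.idealModι I)) (homOfLE h).op s

theorem fn_injective (W : X.Opens) : Function.Injective (fn I (W := W)) :=
  (leftExact_app (ShortComplex.mk (ClSub.idealModι I) (ClSub.toSubscheme I) (kernel.condition _))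
    (ShortComplex.exact_of_f_is_kernel _ (kernelIsKernel _)) (inferInstanceAs (Mono (kernel.ι _)))).1 W

theorem exists_fn_iff {W : X.Opens} (a : Γ(X, W)) :
    (∃ s, fn I s = a) ↔ I.subschemeι.app W a = 0 := by
  refine ⟨?_, fun h => (leftExact_app (ShortComplex.mk (ClSub.idealModι I) (ClSub.toSubscheme I) (kernel.condition _))
    (ShortComplex.exact_of_f_is_kernel _ (kernelIsKernel _)) (inferInstanceAs (Mono (kernel.ι _)))).2 W a h⟩
  rintro ⟨s, rfl⟩
  exact congrArg (fun φ => Scheme.Modules.Hom.app φ W s) (kernel.condition (ClSub.toSubscheme I))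

theorem exists_fn_iff_mem {U : X.affineOpens} (a : Γ(X, U.1)) : (∃ s, fn I s = a) ↔ a ∈ I.ideal U := by
  rw [exists_fn_iff, ← I.ker_subschemeι_app U, RingHom.mem_ker]

theorem genOn_of_principal {U : X.affineOpens} {f : Γ(X, U.1)} (hf : f ∈ nonZeroDivisors Γ(X, U.1))
    (hI : I.ideal U = Ideal.span {f}) {σ : Γ(ClSub.idealMod I, U.1)} (hσ : fn I σ = f) :
    GenOn (ClSub.idealMod I) U.1 σ := by
  intro W h
  have hD : ∀ x ∈ W, ∃ g : Γ(X, U.1), x ∈ X.basicOpen g ∧ X.basicOpen g ≤ W := fun x hx =>
    let ⟨g, hg, hxg⟩ := U.2.exists_basicOpen_le (V := W) ⟨x, hx⟩ (h hx)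
    ⟨g, hxg, hg⟩
  choose g hxg hg using fun x : W => hD x.1 x.2
  have hcov : iSup (fun x : W => X.basicOpen (g x)) = W :=
    le_antisymm (iSup_le hg) fun x hx => Opens.mem_iSup.2 ⟨⟨x, hx⟩, hxg ⟨x, hx⟩⟩
  have hnzd' : ∀ (c : Γ(X, U.1)) (V : X.Opens) (hV : V ≤ U.1), V = X.basicOpen c →
      resO hV f ∈ nonZeroDivisors Γ(X, V) := by
    rintro c V hV rfl
    have := U.2.isLocalization_basicOpen c
    have hfl : (algebraMap Γ(X, U.1) Γ(X, X.basicOpen c)).Flat :=
      RingHom.flat_algebraMap_iff.mpr (IsLocalization.flat _ (Submonoid.powers c))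
    exact H7Cartier.nzd_map_of_flat _ hfl hf
  have hnzd : ∀ x : W, resO (basicOpen_le_open (g x)) f ∈ nonZeroDivisors Γ(X, X.basicOpen (g x)) :=
    fun x => hnzd' (g x) _ _ rfl
  have hfn : ∀ (V : X.Opens) (hV : V ≤ U.1) (r : Γ(X, V)), fn I (r • res _ hV σ) = r * resO hV f := fun V hV r => by
    rw [fn_smul, fn_res, hσ]
  constructor
  · intro r r' e
    have e' := (hfn W h r).symm.trans ((congrArg (fn I) e).trans (hfn W h r'))
    refine eq_of_cover (Coh.structureModule X) _ hcov (s := r) (t := r') fun x => ?_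
    have e2 := congrArg (resO (hg x)) e'
    simp only [resO, map_mul] at e2
    have e3 : resO (hg x) (resO h f) = resO (basicOpen_le_open (g x)) f := resO_resO _ _ _
    simp only [resO] at e3
    rw [e3] at e2
    exact (mul_cancel_right_mem_nonZeroDivisors (hnzd x)).1 e2
  · intro s
    have hloc : ∀ x : W, ∃ r : Γ(X, X.basicOpen (g x)),
        r * resO (basicOpen_le_open (g x)) f = resO (hg x) (fn I s) := fun x => by
      let D : X.affineOpens := ⟨X.basicOpen (g x), U.2.basicOpen (g x)⟩
      have hmem : resO (hg x) (fn I s) ∈ I.ideal D :=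
        (exists_fn_iff_mem I _).1 ⟨res _ (hg x) s, fn_res I (hg x) s⟩
      rw [← I.map_ideal (U := D) (V := U) (X.basicOpen_le _), hI, Ideal.map_span, Set.image_singleton,
        Ideal.mem_span_singleton'] at hmem
      exact hmem
    choose r hr using hloc
    obtain ⟨R, hR⟩ := exists_glue (Coh.structureModule X) _ hcov (fun x => (r x : Γ(X, X.basicOpen (g x)))) fun a b => by
      have hb : X.basicOpen (g a) ⊓ X.basicOpen (g b) = X.basicOpen (g a * g b) := (X.basicOpen_mul _ _).symm
      have hn : resO (inf_le_left.trans (basicOpen_le_open (g a))) f ∈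
          nonZeroDivisors Γ(X, X.basicOpen (g a) ⊓ X.basicOpen (g b)) := hnzd' (g a * g b) _ _ hb
      have ea := congrArg (resO (inf_le_left : X.basicOpen (g a) ⊓ X.basicOpen (g b) ≤ _)) (hr a)
      have eb := congrArg (resO (inf_le_right : X.basicOpen (g a) ⊓ X.basicOpen (g b) ≤ _)) (hr b)
      rw [resO_resO] at ea eb
      have ea' := (congrArg (· = _) (map_mul (X.presheaf.map (homOfLE (inf_le_left : X.basicOpen (g a) ⊓ X.basicOpen (g b) ≤ _)).op).hom _ _)).mp ea
      have eb' := (congrArg (· = _) (map_mul (X.presheaf.map (homOfLE (inf_le_right : X.basicOpen (g a) ⊓ X.basicOpen (g b) ≤ _)).op).hom _ _)).mp eb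
      have := ea'.trans eb'.symm
      show resO inf_le_left (r a) = resO inf_le_right (r b)
      exact (mul_cancel_right_mem_nonZeroDivisors hn).1 (Eq.trans
        (congrArg (_ * ·) (resO_resO (basicOpen_le_open (g a)) inf_le_left f).symm)
        (this.trans (congrArg (_ * ·) (resO_resO (basicOpen_le_open (g b)) inf_le_right f))))
    refine ⟨R, fn_injective I W ((hfn W h R).trans ?_)⟩
    refine eq_of_cover (Coh.structureModule X) _ hcov fun x => ?_
    show resO (hg x) ((show Γ(X, W) from R) * resO h f) = resO (hg x) (fn I s)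
    rw [← hr x]
    refine (map_mul (X.presheaf.map (homOfLE (hg x)).op).hom _ _).trans ?_
    exact congrArg₂ (· * ·) (hR x) (resO_resO _ _ f)

theorem isInvertible_idealMod_iff : PicF.IsInvertible (ClSub.idealMod I) ↔ BlowUp.IsEffCartierIdeal I := by
  constructor
  · intro h x
    obtain ⟨V, σ, hxV, -, hV, hσ⟩ := exists_affine_gen h (V := ⊤) (x := x) trivial
    refine ⟨⟨V, hV⟩, hxV, fn I σ, mem_nonZeroDivisors_iff_right.2 fun r hr => ?_, ?_⟩
    · have h0 : r • res _ le_rfl σ = (0 : Γ(X, V)) • res _ le_rfl σ := by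
        rw [zero_smul]
        refine fn_injective I V ?_
        rw [fn_smul, fn_res, resO_self, hr]
        exact (map_zero ((ClSub.idealModι I).app V).hom).symm
      exact (hσ V le_rfl).1 h0
    · refine le_antisymm (fun a ha => ?_) ((Ideal.span_singleton_le_iff_mem _).2 ((exists_fn_iff_mem I _).1 ⟨σ, rfl⟩))
      obtain ⟨s, rfl⟩ := (exists_fn_iff_mem I a).2 ha
      obtain ⟨r, rfl⟩ := (hσ V le_rfl).2 s
      refine Ideal.mem_span_singleton'.2 ⟨r, ?_⟩
      rw [fn_smul, fn_res, resO_self]
  · intro h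
    refine (isInvertible_iff _).2 fun x => ?_
    obtain ⟨U, hxU, f, hf, hI⟩ := h x
    obtain ⟨σ, hσ⟩ := (exists_fn_iff_mem I f).2 (hI ▸ Ideal.mem_span_singleton_self f)
    exact ⟨U.1, σ, hxU, genOn_of_principal I hf hI hσ⟩

end Groth.Agent.LIdeal
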