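import Groth.Agent.Lib.LAmple
import Groth.Prelude.Def_PicLoc
import Mathlib

/-! Pullback of sections and of invertible modules. -/

set_option autoImplicit false
universe u
open CategoryTheory Limits AlgebraicGeometry Opposite TopologicalSpace

namespace Groth.Agent.LPullInv

open Groth.Agent.LQcoh Groth.Agent.LInv

variable {X Y : Scheme.{u}} (g : X ⟶ Y)

/-- inverse image of a section -/
noncomputable def pullSect (L : Y.Modules) (U : Y.Opens) (σ : Γ(L, U)) :
    Γ((Scheme.Modules.pullback g).obj L, g ⁻¹ᵁ U) :=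
  ((Scheme.Modules.pullbackPushforwardAdjunction g).unit.app L).app U σ

lemma pullSect_map (L : Y.Modules) {U V : Y.Opens} (h : V ≤ U) (σ : Γ(L, U)) :
    pullSect g L V (res L h σ) = res _ (g.preimage_mono h) (pullSect g L U σ) :=
  NatTrans.naturality_apply
    ((Scheme.Modules.toPresheaf _).map ((Scheme.Modules.pullbackPushforwardAdjunction g).unit.app L))
    (homOfLE h).op σ

lemma pullSect_smul (L : Y.Modules) (U : Y.Opens) (r : Γ(Y, U)) (σ : Γ(L, U)) :
    pullSect g L U (r • σ) = g.app U r • pullSect g L U σ :=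
  Scheme.Modules.Hom.app_smul ((Scheme.Modules.pullbackPushforwardAdjunction g).unit.app L) r σ

lemma pullSect_natural {L M : Y.Modules} (φ : L ⟶ M) (U : Y.Opens) (σ : Γ(L, U)) :
    pullSect g M U (φ.app U σ) = ((Scheme.Modules.pullback g).map φ).app (g ⁻¹ᵁ U) (pullSect g L U σ) :=
  congrArg (fun (ψ : L ⟶ (Scheme.Modules.pushforward g).obj ((Scheme.Modules.pullback g).obj M)) => ψ.app U σ)
    ((Scheme.Modules.pullbackPushforwardAdjunction g).unit.naturality φ)

lemma pullbackStructureIso_pullSect (U : Y.Opens) (r : Γ(Y, U)) :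
    (PicLoc.pullbackStructureIso g).hom.app (g ⁻¹ᵁ U) (pullSect g (Coh.structureModule Y) U r) =
      (show Γ(Coh.structureModule X, g ⁻¹ᵁ U) from g.app U r) := by
  have := (Scheme.Modules.pullbackPushforwardAdjunction g).homEquiv_unit (Coh.structureModule Y) (Coh.structureModule X)
    (PicLoc.pullbackStructureIso g).hom
  have h2 : (Scheme.Modules.pullbackPushforwardAdjunction g).homEquiv _ _ (PicLoc.pullbackStructureIso g).hom =
      SheafOfModules.unitToPushforwardObjUnit g.toRingCatSheafHom :=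
    Equiv.apply_symm_apply _ _
  exact congrArg (fun (ψ : Coh.structureModule Y ⟶ (Scheme.Modules.pushforward g).obj (Coh.structureModule X)) => ψ.app U r)
    (this.symm.trans h2)

theorem genOn_pull_top {L : Y.Modules} {σ : Γ(L, ⊤)} (hσ : GenOn L ⊤ σ) :
    GenOn ((Scheme.Modules.pullback g).obj L) (g ⁻¹ᵁ ⊤) (pullSect g L ⊤ σ) := by
  have : IsIso (LAmple.homTop σ) := by
    rw [Scheme.Modules.Hom.isIso_iff_isIso_app]
    intro W
    rw [ConcreteCategory.isIso_iff_bijective]
    have e : ⇑((LAmple.homTop σ).app W) = fun r : Γ(Y, W) => r • res L le_top σ := by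
      funext r
      rw [app_eq_smul_val, LAmple.val_homTop]
      rfl
    rw [e]
    exact hσ W le_top
  let e := (PicLoc.pullbackStructureIso g).symm ≪≫ (Scheme.Modules.pullback g).mapIso (asIso (LAmple.homTop σ))
  have he := genOn_of_iso e (genOn_structureModule X)
  have : e.hom.app ⊤ (1 : Γ(X, ⊤)) = pullSect g L ⊤ σ := by
    have h1 : (PicLoc.pullbackStructureIso g).inv.app ⊤ (1 : Γ(X, ⊤)) = pullSect g (Coh.structureModule Y) ⊤ (1 : Γ(Y, ⊤)) := by
      apply ((ConcreteCategory.isIso_iff_bijective _).1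
        (inferInstance : IsIso ((PicLoc.pullbackStructureIso g).hom.app ⊤))).1
      refine Eq.trans ?_ (pullbackStructureIso_pullSect g ⊤ (1 : Γ(Y, ⊤))).symm
      refine (congrArg (fun (φ : Coh.structureModule X ⟶ Coh.structureModule X) => φ.app ⊤ (1 : Γ(X, ⊤)))
        (PicLoc.pullbackStructureIso g).inv_hom_id).trans ?_
      exact (map_one (g.app ⊤).hom).symm
    show ((Scheme.Modules.pullback g).map (LAmple.homTop σ)).app ⊤ ((PicLoc.pullbackStructureIso g).inv.app ⊤ _) = _
    rw [h1]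
    refine (pullSect_natural g (LAmple.homTop σ) ⊤ (1 : Γ(Y, ⊤))).symm.trans ?_
    exact congrArg (pullSect g L ⊤) ((LAmple.val_homTop σ ⊤).trans (LCech.rs_self L.presheaf le_rfl σ))
  exact this ▸ he

theorem genOn_pull_eq {L : Y.Modules} {U : Y.Opens} (hU : U = ⊤) {σ : Γ(L, U)} (hσ : GenOn L U σ) :
    GenOn ((Scheme.Modules.pullback g).obj L) (g ⁻¹ᵁ U) (pullSect g L U σ) := by
  subst hU
  exact genOn_pull_top g hσ

theorem genOn_image (j : X ⟶ Y) [IsOpenImmersion j] {M : Y.Modules} {V : X.Opens} {τ : Γ(M.restrict j, V)}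
    (hτ : GenOn (M.restrict j) V τ) : GenOn M (j ''ᵁ V) (τ : Γ(M, j ''ᵁ V)) := by
  intro W h
  obtain ⟨W, rfl⟩ : ∃ W' : X.Opens, j ''ᵁ W' = W := ⟨j ⁻¹ᵁ W, by
    rw [Scheme.Hom.image_preimage_eq_opensRange_inf]
    exact inf_eq_right.2 (h.trans (j.image_le_opensRange V))⟩
  have hWV : W ≤ V := fun x hx => by
    obtain ⟨x', hx', e⟩ := h ⟨x, hx, rfl⟩
    exact j.isOpenEmbedding.injective e ▸ hx'
  have : (fun r : Γ(Y, j ''ᵁ W) => r • res M h (τ : Γ(M, j ''ᵁ V))) =
      (fun r : Γ(X, W) => r • res (M.restrict j) hWV τ) ∘ (fun r => (j.appIso W).hom r) := funext fun r =>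
    congrArg (fun a : Γ(Y, j ''ᵁ W) => a • res M h (τ : Γ(M, j ''ᵁ V))) ((j.appIso W).hom_inv_id_apply r).symm
  rw [this]
  exact (hτ W hWV).comp ((ConcreteCategory.isIso_iff_bijective _).1 (inferInstance : IsIso (j.appIso W).hom))

/-- inverse image of a generator is a generator -/
theorem genOn_pull {L : Y.Modules} {U : Y.Opens} {σ : Γ(L, U)} (hσ : GenOn L U σ) :
    GenOn ((Scheme.Modules.pullback g).obj L) (g ⁻¹ᵁ U) (pullSect g L U σ) := by
  let ι' := (g ⁻¹ᵁ U).ι
  let g' : (g ⁻¹ᵁ U).toScheme ⟶ U.toScheme := g ∣_ U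
  have hg' : g' ≫ U.ι = ι' ≫ g := morphismRestrict_ι g U
  let adjA := (Scheme.Modules.pullbackPushforwardAdjunction g).comp (Scheme.Modules.restrictAdjunction ι')
  let iso := Scheme.Modules.pushforwardComp g' U.ι ≪≫ Scheme.Modules.pushforwardCongr hg' ≪≫
    (Scheme.Modules.pushforwardComp ι' g).symm
  let adjB := ((Scheme.Modules.restrictAdjunction U.ι).comp (Scheme.Modules.pullbackPushforwardAdjunction g')).ofNatIsoRight iso
  let e := (adjB.leftAdjointUniq adjA).app L
  have hu := congrArg (fun (ψ : L ⟶ (Scheme.Modules.pushforward g).obj ((Scheme.Modules.pushforward ι').obj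
      (((Scheme.Modules.pullback g).obj L).restrict ι'))) => ψ.app U σ)
    (Adjunction.unit_leftAdjointUniq_hom_app adjB adjA L)
  have hB : adjB.unit.app L =
      ((Scheme.Modules.restrictAdjunction U.ι).comp (Scheme.Modules.pullbackPushforwardAdjunction g')).unit.app L ≫
        iso.hom.app _ := by
    rw [← adjB.homEquiv_id, Adjunction.homEquiv_ofNatIsoRight_apply, Adjunction.homEquiv_id]
  have h0 := genOn_pull_eq g' U.ι_preimage_self (genOn_restrict U.ι hσ)
  have h1 : GenOn ((Scheme.Modules.pullback g').obj (L.restrict U.ι)) (ι' ⁻¹ᵁ (g ⁻¹ᵁ U))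
      (res _ (le_of_eq (by rw [← Scheme.Hom.comp_preimage, ← hg', Scheme.Hom.comp_preimage]))
        (pullSect g' (L.restrict U.ι) (U.ι ⁻¹ᵁ U) (res L (U.ι.image_preimage_le U) σ))) := h0.mono _
  have h2 := genOn_image ι' (genOn_of_iso e h1)
  have h3 : (e.hom.app (ι' ⁻¹ᵁ (g ⁻¹ᵁ U)) (res _ (le_of_eq (by rw [← Scheme.Hom.comp_preimage, ← hg', Scheme.Hom.comp_preimage]))
        (pullSect g' (L.restrict U.ι) (U.ι ⁻¹ᵁ U) (res L (U.ι.image_preimage_le U) σ))) :
        Γ((Scheme.Modules.pullback g).obj L, ι' ''ᵁ (ι' ⁻¹ᵁ (g ⁻¹ᵁ U)))) =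
      res _ (ι'.image_preimage_le (g ⁻¹ᵁ U)) (pullSect g L U σ) := by
    have hB' := congrArg (fun (ψ : L ⟶ (Scheme.Modules.pushforward g).obj ((Scheme.Modules.pushforward ι').obj
      ((Scheme.Modules.pullback g').obj (L.restrict U.ι)))) => ψ.app U σ) hB
    refine Eq.trans ?_ hu
    refine congrArg (e.hom.app (ι' ⁻¹ᵁ (g ⁻¹ᵁ U))) ?_
    exact hB'.symm
  have h4 := (Eq.mp (congrArg (GenOn ((Scheme.Modules.pullback g).obj L) (ι' ''ᵁ (ι' ⁻¹ᵁ (g ⁻¹ᵁ U)))) h3) h2).mono
    (V := g ⁻¹ᵁ U) (image_ι_preimage le_rfl).ge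
  rw [res_res] at h4
  exact (LCech.rs_self _ _ (pullSect g L U σ)) ▸ h4

theorem genLocus_iso_comp {L : X.Modules} (φ : Coh.structureModule X ≅ Coh.structureModule X)
    (s : Coh.structureModule X ⟶ L) : CohB1.genLocus L (φ.hom ≫ s) = CohB1.genLocus L s := by
  have : ∀ W : X.Opens, Function.Bijective ((φ.hom ≫ s).app W) ↔ Function.Bijective (s.app W) := fun W => by
    rw [Scheme.Modules.Hom.comp_app, ConcreteCategory.coe_comp]
    exact Function.Bijective.of_comp_iff (f := ⇑(s.app W))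
      ((ConcreteCategory.isIso_iff_bijective _).1 (inferInstance : IsIso (φ.hom.app W)))
  ext x
  exact mem_genLocus_iff.trans ((exists_congr fun V => and_congr_right fun _ =>
    forall_congr' fun W => imp_congr_right fun _ => this W).trans mem_genLocus_iff.symm)

/-- inverse image of a global section -/
noncomputable def pullHom {L : Y.Modules} (s : Coh.structureModule Y ⟶ L) :
    Coh.structureModule X ⟶ (Scheme.Modules.pullback g).obj L :=
  (PicLoc.pullbackStructureIso g).inv ≫ (Scheme.Modules.pullback g).map s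

theorem val_pullHom {L : Y.Modules} (s : Coh.structureModule Y ⟶ L) (U : Y.Opens) :
    (SecTwist.val (pullHom g s) (g ⁻¹ᵁ U) : Γ((Scheme.Modules.pullback g).obj L, g ⁻¹ᵁ U)) =
      pullSect g L U (SecTwist.val s U : Γ(L, U)) := by
  have h1 : (PicLoc.pullbackStructureIso g).inv.app (g ⁻¹ᵁ U) (1 : Γ(X, g ⁻¹ᵁ U)) =
      pullSect g (Coh.structureModule Y) U (1 : Γ(Y, U)) := by
    apply ((ConcreteCategory.isIso_iff_bijective _).1
      (inferInstance : IsIso ((PicLoc.pullbackStructureIso g).hom.app (g ⁻¹ᵁ U)))).1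
    refine Eq.trans ?_ (pullbackStructureIso_pullSect g U (1 : Γ(Y, U))).symm
    refine (congrArg (fun (φ : Coh.structureModule X ⟶ Coh.structureModule X) => φ.app (g ⁻¹ᵁ U) (1 : Γ(X, g ⁻¹ᵁ U)))
      (PicLoc.pullbackStructureIso g).inv_hom_id).trans ?_
    exact (map_one (g.app U).hom).symm
  refine Eq.trans ?_ (pullSect_natural g s U (1 : Γ(Y, U))).symm
  exact congrArg (((Scheme.Modules.pullback g).map s).app (g ⁻¹ᵁ U)) h1

theorem genLocus_pullHom {L : Y.Modules} (hL : PicF.IsInvertible L) (s : Coh.structureModule Y ⟶ L) :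
    CohB1.genLocus _ (pullHom g s) = g ⁻¹ᵁ CohB1.genLocus L s := by
  refine eq_of_inf_eq fun x => ?_
  obtain ⟨U, σ, hx, -, -, hσ⟩ := exists_affine_gen hL (V := ⊤) (x := g x) trivial
  refine ⟨g ⁻¹ᵁ U, hx, ?_⟩
  have hc := coeff_spec hσ (SecTwist.val s U : Γ(L, U))
  rw [genLocus_inf (genOn_pull g hσ) (pullHom g s) (f := g.app U (coeff hσ (SecTwist.val s U : Γ(L, U))))
    (by rw [val_pullHom, ← pullSect_smul, hc])]
  exact (g.preimage_basicOpen _).symm.trans (congrArg (g ⁻¹ᵁ ·) (genLocus_inf hσ s hc).symm)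

end Groth.Agent.LPullInv
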