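import Groth.Prelude.Def_SecTwist
import Groth.Agent.Lib.H5ModTensor
import Mathlib

/-! Tensor product of O-modules: universal property, functoriality, symmetry, associativity, restriction. -/

universe u
open CategoryTheory AlgebraicGeometry Opposite TensorProduct MonoidalCategory TopologicalSpace

namespace Groth.Agent.LTensor

variable {X : Scheme.{u}}

/-- the sheafification adjunction -/
noncomputable abbrev adj (X : Scheme.{u}) :=
  PresheafOfModules.sheafificationAdjunction.{u, u, u, u}
    (J := Opens.grothendieckTopology X) (𝟙 X.ringCatSheaf.obj)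

theorem tmul_add_left (M N : X.Modules) (U : X.Opens) (m m' : M.val.obj (op U)) (n : N.val.obj (op U)) :
    SecTwist.tmul M N U (m + m') n = SecTwist.tmul M N U m n + SecTwist.tmul M N U m' n :=
  H5ModTensor.bf_addl (R := X.sheaf.obj) (A := CohB1.toPMod M) (N := CohB1.toPMod N) (SecTwist.toTensor M N) (op U) m m' n

theorem tmul_add_right (M N : X.Modules) (U : X.Opens) (m : M.val.obj (op U)) (n n' : N.val.obj (op U)) :
    SecTwist.tmul M N U m (n + n') = SecTwist.tmul M N U m n + SecTwist.tmul M N U m n' :=
  H5ModTensor.bf_addr (R := X.sheaf.obj) (A := CohB1.toPMod M) (N := CohB1.toPMod N) (SecTwist.toTensor M N) (op U) m n n'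

theorem tmul_smul_left (M N : X.Modules) (U : X.Opens) (r : X.ringCatSheaf.obj.obj (op U))
    (m : M.val.obj (op U)) (n : N.val.obj (op U)) :
    SecTwist.tmul M N U (r • m) n = r • SecTwist.tmul M N U m n :=
  H5ModTensor.bf_smull (R := X.sheaf.obj) (A := CohB1.toPMod M) (N := CohB1.toPMod N) (SecTwist.toTensor M N) (op U) r m n

theorem tmul_smul_right (M N : X.Modules) (U : X.Opens) (r : X.ringCatSheaf.obj.obj (op U))
    (m : M.val.obj (op U)) (n : N.val.obj (op U)) :
    SecTwist.tmul M N U m (r • n) = r • SecTwist.tmul M N U m n :=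
  H5ModTensor.bf_smulr (R := X.sheaf.obj) (A := CohB1.toPMod M) (N := CohB1.toPMod N) (SecTwist.toTensor M N) (op U) r m n

theorem homEquiv_app {A : X.PresheafOfModules} {P : X.Modules}
    (f : (CohB1.sheafifyMod X).obj A ⟶ P) (U : X.Opens) (a : A.obj (op U)) :
    ((((adj X).homEquiv A P) f).app (op U)).hom a =
      (f.val.app (op U)).hom ((((adj X).unit.app A).app (op U)).hom a) := by
  have : (adj X).homEquiv A P f = (adj X).unit.app A ≫
      (SheafOfModules.forget _ ⋙ PresheafOfModules.restrictScalars (𝟙 X.ringCatSheaf.obj)).map f :=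
    Adjunction.homEquiv_unit ..
  rw [this]
  rfl

/-- two morphisms out of a tensor product agree if they agree on pure tensors -/
theorem hom_ext {M N P : X.Modules} {φ ψ : CohB1.tensorMod M N ⟶ P}
    (h : ∀ (U : X.Opens) (m : M.val.obj (op U)) (n : N.val.obj (op U)),
      (φ.val.app (op U)).hom (SecTwist.tmul M N U m n) = (ψ.val.app (op U)).hom (SecTwist.tmul M N U m n)) :
    φ = ψ := by
  apply ((adj X).homEquiv _ P).injective
  refine PresheafOfModules.Hom.ext (funext fun V => ?_)
  refine ModuleCat.MonoidalCategory.tensor_ext (fun m n => ?_)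
  exact (homEquiv_app φ V.unop _).trans ((h V.unop m n).trans (homEquiv_app ψ V.unop _).symm)

section lift

variable {M N P : X.Modules}
  (β : ∀ U : X.Opens, M.val.obj (op U) → N.val.obj (op U) → P.val.obj (op U))
  (hal : ∀ U m m' n, β U (m + m') n = β U m n + β U m' n)
  (hsl : ∀ U (r : X.ringCatSheaf.obj.obj (op U)) m n, β U (r • m) n = r • β U m n)
  (har : ∀ U m n n', β U m (n + n') = β U m n + β U m n')
  (hsr : ∀ U (r : X.ringCatSheaf.obj.obj (op U)) m n, β U m (r • n) = r • β U m n)
  (hnat : ∀ (U V : X.Opens) (i : V ⟶ U) m n,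
    P.val.map i.op (β U m n) = β V (M.val.map i.op m) (N.val.map i.op n))

/-- the presheaf morphism out of the sectionwise tensor product defined by a bilinear family -/
noncomputable def liftPre :
    (CohB1.tensorPre M N : CohB1.PMod X) ⟶
      ((PresheafOfModules.restrictScalars (𝟙 X.ringCatSheaf.obj)).obj P.val : CohB1.PMod X) where
  app V := ModuleCat.MonoidalCategory.tensorLift (fun m n => β V.unop m n)
    (fun m m' n => hal V.unop m m' n) (fun r m n => hsl V.unop r m n)
    (fun m n n' => har V.unop m n n') (fun r m n => hsr V.unop r m n)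
  naturality {V W} g := ModuleCat.MonoidalCategory.tensor_ext (fun m n => (hnat V.unop W.unop g.unop m n).symm)

/-- the morphism out of the tensor product defined by a bilinear family -/
noncomputable def lift : CohB1.tensorMod M N ⟶ P :=
  ((adj X).homEquiv (CohB1.tensorPre M N : X.PresheafOfModules) P).symm (liftPre β hal hsl har hsr hnat)

theorem lift_tmul (U : X.Opens) (m : M.val.obj (op U)) (n : N.val.obj (op U)) :
    ((lift β hal hsl har hsr hnat).val.app (op U)).hom (SecTwist.tmul M N U m n) = β U m n := by
  refine (homEquiv_app (lift β hal hsl har hsr hnat) U (m ⊗ₜ n)).symm.trans ?_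
  unfold lift
  rw [Equiv.apply_symm_apply]
  rfl

end lift

/-- functoriality of the tensor product -/
noncomputable def tmap {M M' N N' : X.Modules} (f : M ⟶ M') (g : N ⟶ N') :
    CohB1.tensorMod M N ⟶ CohB1.tensorMod M' N' :=
  lift (fun U m n => SecTwist.tmul M' N' U ((f.val.app (op U)).hom m) ((g.val.app (op U)).hom n))
    (fun U m m' n => by rw [map_add, tmul_add_left])
    (fun U r m n => by rw [map_smul, tmul_smul_left])
    (fun U m n n' => by rw [map_add, tmul_add_right])
    (fun U r m n => by rw [map_smul, tmul_smul_right])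
    (fun U V i m n => (SecTwist.map_tmul M' N' i _ _).trans
      (congrArg₂ (SecTwist.tmul M' N' V) (PresheafOfModules.naturality_apply f.val i.op m).symm
        (PresheafOfModules.naturality_apply g.val i.op n).symm))

theorem tmap_tmul {M M' N N' : X.Modules} (f : M ⟶ M') (g : N ⟶ N') (U : X.Opens)
    (m : M.val.obj (op U)) (n : N.val.obj (op U)) :
    ((tmap f g).val.app (op U)).hom (SecTwist.tmul M N U m n) =
      SecTwist.tmul M' N' U ((f.val.app (op U)).hom m) ((g.val.app (op U)).hom n) :=
  lift_tmul _ _ _ _ _ _ U m n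

theorem tmap_id (M N : X.Modules) : tmap (𝟙 M) (𝟙 N) = 𝟙 (CohB1.tensorMod M N) :=
  hom_ext fun U m n => tmap_tmul _ _ U m n

theorem tmap_comp {M M' M'' N N' N'' : X.Modules} (f : M ⟶ M') (f' : M' ⟶ M'') (g : N ⟶ N') (g' : N' ⟶ N'') :
    tmap (f ≫ f') (g ≫ g') = tmap f g ≫ tmap f' g' :=
  hom_ext fun U m n => (tmap_tmul _ _ U m n).trans
    (((congrArg _ (tmap_tmul f g U m n)).trans (tmap_tmul f' g' U _ _)).symm)

/-- the tensor product of two isomorphisms -/
noncomputable def mapIso {M M' N N' : X.Modules} (e : M ≅ M') (e' : N ≅ N') :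
    CohB1.tensorMod M N ≅ CohB1.tensorMod M' N' where
  hom := tmap e.hom e'.hom
  inv := tmap e.inv e'.inv
  hom_inv_id := by rw [← tmap_comp, e.hom_inv_id, e'.hom_inv_id, tmap_id]
  inv_hom_id := by rw [← tmap_comp, e.inv_hom_id, e'.inv_hom_id, tmap_id]

/-- symmetry -/
noncomputable def commHom (M N : X.Modules) : CohB1.tensorMod M N ⟶ CohB1.tensorMod N M :=
  lift (fun U m n => SecTwist.tmul N M U n m)
    (fun U m m' n => tmul_add_right N M U n m m') (fun U r m n => tmul_smul_right N M U r n m)
    (fun U m n n' => tmul_add_left N M U n n' m) (fun U r m n => tmul_smul_left N M U r n m)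
    (fun U V i m n => SecTwist.map_tmul N M i n m)

theorem commHom_tmul (M N : X.Modules) (U : X.Opens) (m : M.val.obj (op U)) (n : N.val.obj (op U)) :
    ((commHom M N).val.app (op U)).hom (SecTwist.tmul M N U m n) = SecTwist.tmul N M U n m := by
  unfold commHom
  exact lift_tmul _ _ _ _ _ _ U m n

theorem commHom_commHom (M N : X.Modules) : commHom M N ≫ commHom N M = 𝟙 _ :=
  hom_ext fun U m n => (congrArg ((commHom N M).val.app (op U)).hom (commHom_tmul M N U m n)).trans
    (commHom_tmul N M U n m)

noncomputable def comm (M N : X.Modules) : CohB1.tensorMod M N ≅ CohB1.tensorMod N M :=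
  ⟨commHom M N, commHom N M, commHom_commHom M N, commHom_commHom N M⟩

theorem comm_tmul (M N : X.Modules) (U : X.Opens) (m : M.val.obj (op U)) (n : N.val.obj (op U)) :
    ((comm M N).hom.val.app (op U)).hom (SecTwist.tmul M N U m n) = SecTwist.tmul N M U n m :=
  commHom_tmul M N U m n

/-- left unit -/
noncomputable def unitorL (F : X.Modules) : CohB1.tensorMod (Coh.structureModule X) F ≅ F :=
  comm _ _ ≪≫ SecTwist.unitorR F

theorem W_toTensor (M N : X.Modules) :
    (Opens.grothendieckTopology X).W
      ((PresheafOfModules.toPresheaf _).map (SecTwist.toTensor M N)) :=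
  H5ModTensor.W_unit X.sheaf (CohB1.tensorPre M N)

/-- associativity -/
theorem assoc (M N P : X.Modules) :
    Nonempty (CohB1.tensorMod (CohB1.tensorMod M N) P ≅ CohB1.tensorMod M (CohB1.tensorMod N P)) := by
  let S := H5ModTensor.sh X.sheaf
  let A : CohB1.PMod X := CohB1.tensorPre M N
  let B : CohB1.PMod X := CohB1.tensorPre N P
  let A' : CohB1.PMod X := CohB1.toPMod (CohB1.tensorMod M N)
  let B' : CohB1.PMod X := CohB1.toPMod (CohB1.tensorMod N P)
  let η : A ⟶ A' := SecTwist.toTensor M N
  let η' : B ⟶ B' := SecTwist.toTensor N P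
  have h1 : IsIso (S.map (η ▷ CohB1.toPMod P)) :=
    H5ModTensor.isIso_sheafify_whiskerRight X.sheaf η (W_toTensor M N) _
  have h2 : IsIso (S.map (CohB1.toPMod M ◁ η')) :=
    H5ModTensor.isIso_sheafify_whiskerLeft X.sheaf η' (W_toTensor N P) _
  exact ⟨(@asIso _ _ _ _ _ h1).symm ≪≫ S.mapIso (α_ (CohB1.toPMod M) (CohB1.toPMod N) (CohB1.toPMod P)) ≪≫
    (@asIso _ _ _ _ _ h2)⟩

section restrict

variable {Y : Scheme.{u}} (j : Y ⟶ X) [IsOpenImmersion j] (M N : X.Modules)

/-- the comparison map for restriction to an open -/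
noncomputable def restrictHom :
    CohB1.tensorMod (M.restrict j) (N.restrict j) ⟶ (CohB1.tensorMod M N).restrict j :=
  lift (fun W m n => SecTwist.tmul M N (j ''ᵁ W) m n)
    (fun W m m' n => tmul_add_left M N (j ''ᵁ W) m m' n)
    (fun W r m n => tmul_smul_left M N (j ''ᵁ W) ((j.appIso W).inv r) m n)
    (fun W m n n' => tmul_add_right M N (j ''ᵁ W) m n n')
    (fun W r m n => tmul_smul_right M N (j ''ᵁ W) ((j.appIso W).inv r) m n)
    (fun W W' i m n => SecTwist.map_tmul M N (j.opensFunctor.map i) m n)

theorem restrictHom_tmul (W : Y.Opens) (m : M.val.obj (op (j ''ᵁ W))) (n : N.val.obj (op (j ''ᵁ W))) :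
    ((restrictHom j M N).val.app (op W)).hom (SecTwist.tmul (M.restrict j) (N.restrict j) W m n) =
      SecTwist.tmul M N (j ''ᵁ W) m n := by
  unfold restrictHom
  exact lift_tmul (M := M.restrict j) (N := N.restrict j) (P := (CohB1.tensorMod M N).restrict j) _ _ _ _ _ _ W m n

/-- sectionwise comparison of the tensor products over the two (isomorphic) rings -/
noncomputable def g (W : Y.Opens) :
    (CohB1.tensorPre (M.restrict j) (N.restrict j)).obj (op W) →+
      (CohB1.tensorPre M N).obj (op (j ''ᵁ W)) :=
  TensorProduct.liftAddHom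
    { toFun := fun m =>
        { toFun := fun n =>
            ((show (CohB1.toPMod M).obj (op (j ''ᵁ W)) from m) ⊗ₜ (show (CohB1.toPMod N).obj (op (j ''ᵁ W)) from n) :
              (CohB1.tensorPre M N).obj (op (j ''ᵁ W)))
          map_zero' := TensorProduct.tmul_zero _ _
          map_add' := fun n n' => TensorProduct.tmul_add _ _ _ }
      map_zero' := AddMonoidHom.ext fun n => TensorProduct.zero_tmul _ _
      map_add' := fun m m' => AddMonoidHom.ext fun n => TensorProduct.add_tmul _ _ _ }
    (fun r m n => TensorProduct.smul_tmul (R := (X.sheaf.obj ⋙ forget₂ CommRingCat.{u} RingCat.{u}).obj (op (j ''ᵁ W)))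
      (R' := (X.sheaf.obj ⋙ forget₂ CommRingCat.{u} RingCat.{u}).obj (op (j ''ᵁ W))) ((j.appIso W).inv r)
      (show (CohB1.toPMod M).obj (op (j ''ᵁ W)) from m) (show (CohB1.toPMod N).obj (op (j ''ᵁ W)) from n))

/-- its inverse -/
noncomputable def g' (W : Y.Opens) :
    (CohB1.tensorPre M N).obj (op (j ''ᵁ W)) →+
      (CohB1.tensorPre (M.restrict j) (N.restrict j)).obj (op W) :=
  TensorProduct.liftAddHom
    { toFun := fun m =>
        { toFun := fun n =>
            ((show (CohB1.toPMod (M.restrict j)).obj (op W) from m) ⊗ₜ (show (CohB1.toPMod (N.restrict j)).obj (op W) from n) :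
              (CohB1.tensorPre (M.restrict j) (N.restrict j)).obj (op W))
          map_zero' := TensorProduct.tmul_zero _ _
          map_add' := fun n n' => TensorProduct.tmul_add _ _ _ }
      map_zero' := AddMonoidHom.ext fun n => TensorProduct.zero_tmul _ _
      map_add' := fun m m' => AddMonoidHom.ext fun n => TensorProduct.add_tmul _ _ _ }
    (fun r m n => by
      let R' := (Y.sheaf.obj ⋙ forget₂ CommRingCat.{u} RingCat.{u}).obj (op W)
      have hm : ∀ (K : X.Modules) (k : (CohB1.toPMod K).obj (op (j ''ᵁ W))),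
          r • k = ((j.appIso W).inv ((j.appIso W).hom r)) • k := fun K k =>
        congrArg (· • k) ((j.appIso W).hom_inv_id_apply r).symm
      rw [hm M m, hm N n]
      exact TensorProduct.smul_tmul (R := R') (R' := R') ((j.appIso W).hom r)
        (show (CohB1.toPMod (M.restrict j)).obj (op W) from m) (show (CohB1.toPMod (N.restrict j)).obj (op W) from n))

theorem g_g' (W : Y.Opens) (t) : g j M N W (g' j M N W t) = t := by
  induction t using TensorProduct.induction_on with
  | zero => exact (congrArg _ (map_zero _)).trans (map_zero _)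
  | tmul m n => rfl
  | add a b ha hb => exact (congrArg _ (map_add _ a b)).trans ((map_add _ _ _).trans (congrArg₂ _ ha hb))

theorem g'_g (W : Y.Opens) (t) : g' j M N W (g j M N W t) = t := by
  induction t using TensorProduct.induction_on with
  | zero => exact (congrArg _ (map_zero _)).trans (map_zero _)
  | tmul m n => rfl
  | add a b ha hb => exact (congrArg _ (map_add _ a b)).trans ((map_add _ _ _).trans (congrArg₂ _ ha hb))

theorem g_map {W W' : Y.Opens} (i : W' ⟶ W) (t) :
    g j M N W' ((CohB1.tensorPre (M.restrict j) (N.restrict j)).map i.op t) =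
      (CohB1.tensorPre M N).map (j.opensFunctor.map i).op (g j M N W t) := by
  induction t using TensorProduct.induction_on with
  | zero =>
      exact (congrArg _ (map_zero _)).trans ((map_zero _).trans ((congrArg _ (map_zero _)).trans (map_zero _)).symm)
  | tmul m n => rfl
  | add a b ha hb =>
      exact (congrArg _ (map_add _ a b)).trans ((map_add _ _ _).trans ((congrArg₂ _ ha hb).trans
        ((congrArg _ (map_add _ a b)).trans (map_add _ _ _)).symm))

/-- the composite of `toTensor` with the comparison map -/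
noncomputable abbrev pre :=
  SecTwist.toTensor (M.restrict j) (N.restrict j) ≫
    (PresheafOfModules.restrictScalars (𝟙 Y.ringCatSheaf.obj)).map (restrictHom j M N).val

theorem pre_eq (W : Y.Opens) (t) :
    (((pre j M N).app (op W)).hom t) =
      ((SecTwist.toTensor M N).app (op (j ''ᵁ W))).hom (g j M N W t) := by
  induction t using TensorProduct.induction_on with
  | zero => exact (map_zero _).trans ((congrArg _ (map_zero _)).trans (map_zero _)).symm
  | tmul m n => exact restrictHom_tmul j M N W m n
  | add a b ha hb =>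
      exact (map_add _ _ _).trans ((congrArg₂ _ ha hb).trans ((congrArg _ (map_add _ a b)).trans (map_add _ _ _)).symm)

theorem pre_isLocallySurjective :
    Presheaf.IsLocallySurjective (Opens.grothendieckTopology Y) ((PresheafOfModules.toPresheaf _).map (pre j M N)) where
  imageSieve_mem {W} t := by
    haveI : Presheaf.IsLocallySurjective (Opens.grothendieckTopology X)
        ((PresheafOfModules.toPresheaf _).map (SecTwist.toTensor M N)) :=
      (((Opens.grothendieckTopology X).W_iff_isLocallyBijective _).1 (W_toTensor M N)).2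
    intro y hy
    obtain ⟨V, i, ⟨p, hp⟩, hyV⟩ := Presheaf.imageSieve_mem (Opens.grothendieckTopology X)
      ((PresheafOfModules.toPresheaf _).map (SecTwist.toTensor M N)) (U := op (j ''ᵁ W)) t (j y) ⟨y, hy, rfl⟩
    have hle : j ⁻¹ᵁ V ≤ W := fun z hz => by
      obtain ⟨z', hz', e⟩ := i.le hz
      exact j.isOpenEmbedding.injective e ▸ hz'
    refine ⟨j ⁻¹ᵁ V, homOfLE hle, ⟨g' j M N (j ⁻¹ᵁ V)
      ((CohB1.tensorPre M N).map (homOfLE (j.image_preimage_le V)).op p), ?_⟩, hyV⟩
    refine (pre_eq j M N _ _).trans ?_
    rw [g_g']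
    refine (PresheafOfModules.naturality_apply (SecTwist.toTensor M N) (homOfLE (j.image_preimage_le V)).op p).trans ?_
    refine (congrArg ((CohB1.tensorMod M N).val.map (homOfLE (j.image_preimage_le V)).op) hp).trans ?_
    exact (PresheafOfModules.map_comp_apply (CohB1.tensorMod M N).val i.op (homOfLE (j.image_preimage_le V)).op t).symm

theorem pre_isLocallyInjective :
    Presheaf.IsLocallyInjective (Opens.grothendieckTopology Y) ((PresheafOfModules.toPresheaf _).map (pre j M N)) where
  equalizerSieve_mem {W} a b h := by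
    haveI : Presheaf.IsLocallyInjective (Opens.grothendieckTopology X)
        ((PresheafOfModules.toPresheaf _).map (SecTwist.toTensor M N)) :=
      (((Opens.grothendieckTopology X).W_iff_isLocallyBijective _).1 (W_toTensor M N)).1
    intro y hy
    have h' := (pre_eq j M N W.unop a).symm.trans (h.trans (pre_eq j M N W.unop b))
    obtain ⟨V, i, hV, hyV⟩ := Presheaf.equalizerSieve_mem (Opens.grothendieckTopology X)
      ((PresheafOfModules.toPresheaf _).map (SecTwist.toTensor M N))
      (X := op (j ''ᵁ W.unop)) (g j M N W.unop a) (g j M N W.unop b) h' (j y) ⟨y, hy, rfl⟩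
    have hle : j ⁻¹ᵁ V ≤ W.unop := fun z hz => by
      obtain ⟨z', hz', e⟩ := i.le hz
      exact j.isOpenEmbedding.injective e ▸ hz'
    refine ⟨j ⁻¹ᵁ V, homOfLE hle, ?_, hyV⟩
    have key : ∀ t, g j M N (j ⁻¹ᵁ V) ((CohB1.tensorPre (M.restrict j) (N.restrict j)).map (homOfLE hle).op t) =
        (CohB1.tensorPre M N).map (homOfLE (j.image_preimage_le V)).op
          ((CohB1.tensorPre M N).map i.op (g j M N W.unop t)) := fun t =>
      (g_map j M N (homOfLE hle) t).trans (PresheafOfModules.map_comp_apply (CohB1.tensorPre M N) i.op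
        (homOfLE (j.image_preimage_le V)).op _)
    have e : (CohB1.tensorPre M N).map i.op (g j M N W.unop a) =
        (CohB1.tensorPre M N).map i.op (g j M N W.unop b) := hV
    have h2 := (key a).trans ((congrArg _ e).trans (key b).symm)
    exact (g'_g j M N _ _).symm.trans ((congrArg (g' j M N (j ⁻¹ᵁ V)) h2).trans (g'_g j M N _ _))

instance isIso_restrictHom : IsIso (restrictHom j M N) := by
  have hW := W_toTensor (M.restrict j) (N.restrict j)
  obtain ⟨i1, i2⟩ := ((Opens.grothendieckTopology Y).W_iff_isLocallyBijective _).1 hW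
  let φ := (PresheafOfModules.toPresheaf _).map (SecTwist.toTensor (M.restrict j) (N.restrict j))
  let ψ := (PresheafOfModules.toPresheaf _).map
    ((PresheafOfModules.restrictScalars (𝟙 Y.ringCatSheaf.obj)).map (restrictHom j M N).val)
  have hcomp : (Opens.grothendieckTopology Y).W (φ ≫ ψ) := by
    rw [show φ ≫ ψ = (PresheafOfModules.toPresheaf _).map (pre j M N) from (Functor.map_comp _ _ _).symm]
    exact ((Opens.grothendieckTopology Y).W_iff_isLocallyBijective _).2
      ⟨pre_isLocallyInjective j M N, pre_isLocallySurjective j M N⟩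
  have hψ : (Opens.grothendieckTopology Y).W ψ :=
    (Opens.grothendieckTopology Y).W.of_precomp φ ψ hW hcomp
  let ψ' : (⟨_, (CohB1.tensorMod (M.restrict j) (N.restrict j)).isSheaf⟩ : Sheaf (Opens.grothendieckTopology Y) AddCommGrpCat.{u}) ⟶
      ⟨_, ((CohB1.tensorMod M N).restrict j).isSheaf⟩ := ⟨(restrictHom j M N).mapPresheaf⟩
  have : IsIso ψ' := ((Opens.grothendieckTopology Y).W_sheafToPresheaf_map_iff_isIso ψ').1 hψ
  have : IsIso ((Scheme.Modules.toPresheaf Y).map (restrictHom j M N)) :=
    inferInstanceAs (IsIso ((sheafToPresheaf _ _).map ψ'))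
  exact isIso_of_reflects_iso _ (Scheme.Modules.toPresheaf Y)

/-- restriction to an open commutes with the tensor product -/
noncomputable def restrictIso :
    CohB1.tensorMod (M.restrict j) (N.restrict j) ≅ (CohB1.tensorMod M N).restrict j :=
  asIso (restrictHom j M N)

end restrict

end Groth.Agent.LTensor
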