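import Groth.Agent.Lib.H7StalkPull
import Groth.Agent.Lib.LTensor
import Groth.Agent.Lib.LPullInv
import Mathlib

/-! Pullback commutes with tensor products of O-modules. -/

universe u v
open CategoryTheory Limits AlgebraicGeometry TopologicalSpace Opposite MonoidalCategory

namespace Groth.Agent.H7PullTensor
open scoped ChangeOfRings
open Groth.Agent H7Stalk H7StalkTensor H7StalkPull LPullInv

variable {X Y : Scheme.{u}} (f : X ⟶ Y)

/-- the stalk of a pullback on germs of pulled back sections -/
lemma pullStalk_germ (x : X) (M : Y.Modules) (U : Y.Opens) (hx : f.base x ∈ U) (m : Γ(M, U)) :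
    ((pullStalkIso f x).hom.app M).hom
        (((Scheme.Modules.pullback f).obj M).presheaf.germ (f ⁻¹ᵁ U) x hx (pullSect f M U m)) =
      emk (f.stalkMap x).hom 1 (M.presheaf.germ U (f.base x) hx m) := by
  have h := Adjunction.unit_leftAdjointUniq_hom_app ((Scheme.Modules.pullbackPushforwardAdjunction f).comp (adj x))
    (((adj (f.base x)).comp (ModuleCat.extendRestrictScalarsAdj.{u, u, u} (f.stalkMap x).hom)).ofNatIsoRight
      (pushSkIso f x)) M
  exact congrArg
    (fun t : M ⟶ (Scheme.Modules.pushforward f).obj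
        ((sk x).obj ((ModuleCat.extendScalars (f.stalkMap x).hom).obj ((DerSch.stalkFunctor Y (f.base x)).obj M))) =>
      (show SkSec x ((ModuleCat.extendScalars (f.stalkMap x).hom).obj ((DerSch.stalkFunctor Y (f.base x)).obj M))
        (f ⁻¹ᵁ U) from t.app U m) ⟨hx⟩) h

variable (M N : Y.Modules)

/-- the bilinear family defining the comparison -/
noncomputable def beta : CohB1.tensorMod M N ⟶ (Scheme.Modules.pushforward f).obj
    (CohB1.tensorMod ((Scheme.Modules.pullback f).obj M) ((Scheme.Modules.pullback f).obj N)) :=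
  let P := CohB1.tensorMod ((Scheme.Modules.pullback f).obj M) ((Scheme.Modules.pullback f).obj N)
  LTensor.lift (fun U m n => (show Γ((Scheme.Modules.pushforward f).obj P, U) from
      SecTwist.tmul _ _ (f ⁻¹ᵁ U) (pullSect f M U m) (pullSect f N U n)))
    (fun U m m' n => (congrArg (fun a => SecTwist.tmul _ _ (f ⁻¹ᵁ U) a (pullSect f N U n))
      (map_add ((((Scheme.Modules.pullbackPushforwardAdjunction f).unit.app M)).app U).hom m m')).trans
      (LTensor.tmul_add_left _ _ _ _ _ _))
    (fun U r m n => (congrArg (fun a => SecTwist.tmul _ _ (f ⁻¹ᵁ U) a (pullSect f N U n))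
      (pullSect_smul f M U r m)).trans (LTensor.tmul_smul_left _ _ _ (f.app U r) _ _))
    (fun U m n n' => (congrArg (fun a => SecTwist.tmul _ _ (f ⁻¹ᵁ U) (pullSect f M U m) a)
      (map_add ((((Scheme.Modules.pullbackPushforwardAdjunction f).unit.app N)).app U).hom n n')).trans
      (LTensor.tmul_add_right _ _ _ _ _ _))
    (fun U r m n => (congrArg (fun a => SecTwist.tmul _ _ (f ⁻¹ᵁ U) (pullSect f M U m) a)
      (pullSect_smul f N U r n)).trans (LTensor.tmul_smul_right _ _ _ (f.app U r) _ _))
    (fun U V i m n => (SecTwist.map_tmul _ _ (homOfLE (f.preimage_mono i.le)) _ _).trans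
      (congrArg₂ (SecTwist.tmul _ _ (f ⁻¹ᵁ V)) (pullSect_map f M i.le m).symm (pullSect_map f N i.le n).symm))

lemma beta_tmul (U : Y.Opens) (m : Γ(M, U)) (n : Γ(N, U)) :
    (beta f M N).app U (SecTwist.tmul M N U m n) =
      SecTwist.tmul _ _ (f ⁻¹ᵁ U) (pullSect f M U m) (pullSect f N U n) :=
  LTensor.lift_tmul _ _ _ _ _ _ U m n

/-- the comparison `f^*(M ⊗ N) ⟶ f^*M ⊗ f^*N` -/
noncomputable def theta : (Scheme.Modules.pullback f).obj (CohB1.tensorMod M N) ⟶
    CohB1.tensorMod ((Scheme.Modules.pullback f).obj M) ((Scheme.Modules.pullback f).obj N) :=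
  ((Scheme.Modules.pullbackPushforwardAdjunction f).homEquiv _ _).symm (beta f M N)

lemma theta_pullSect (U : Y.Opens) (m : Γ(M, U)) (n : Γ(N, U)) :
    (theta f M N).app (f ⁻¹ᵁ U) (pullSect f (CohB1.tensorMod M N) U (SecTwist.tmul M N U m n)) =
      SecTwist.tmul _ _ (f ⁻¹ᵁ U) (pullSect f M U m) (pullSect f N U n) := by
  have := congrArg (fun ψ : CohB1.tensorMod M N ⟶ (Scheme.Modules.pushforward f).obj
      (CohB1.tensorMod ((Scheme.Modules.pullback f).obj M) ((Scheme.Modules.pullback f).obj N)) =>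
        ψ.app U (SecTwist.tmul M N U m n))
    (((Scheme.Modules.pullbackPushforwardAdjunction f).homEquiv_unit _ _ (theta f M N)).symm.trans
      (Equiv.apply_symm_apply _ (beta f M N)))
  exact this.trans (beta_tmul f M N U m n)

/-- base change distributes over tensor products -/
noncomputable def distribIso {A B : Type u} [CommRing A] [CommRing B] (φ : A →+* B) (P Q : ModuleCat.{u} A) :
    (ModuleCat.extendScalars φ).obj (P ⊗ Q) ≅ (ModuleCat.extendScalars φ).obj P ⊗ (ModuleCat.extendScalars φ).obj Q :=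
  letI := φ.toAlgebra
  (TensorProduct.AlgebraTensorModule.distribBaseChange A B P Q).toModuleIso

lemma distribIso_emk {A B : Type u} [CommRing A] [CommRing B] (φ : A →+* B) {P Q : ModuleCat.{u} A} (p : P) (q : Q) :
    (distribIso φ P Q).hom.hom (emk φ (1 : B) (show (P ⊗ Q : ModuleCat.{u} A) from p ⊗ₜ[A] q)) =
      (emk φ (1 : B) p) ⊗ₜ[B] (emk φ (1 : B) q) := rfl

lemma stalk_theta (x : X) :
    ((pullStalkIso f x).app (CohB1.tensorMod M N)).inv ≫ (DerSch.stalkFunctor X x).map (theta f M N) ≫
        (H7StalkTensor.iso x _ _).hom ≫ ((pullStalkIso f x).hom.app M ⊗ₘ (pullStalkIso f x).hom.app N) =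
      (ModuleCat.extendScalars (f.stalkMap x).hom).map (H7StalkTensor.iso (f.base x) M N).hom ≫
        (distribIso (f.stalkMap x).hom _ _).hom := by
  apply ((ModuleCat.extendRestrictScalarsAdj.{u, u, u} (f.stalkMap x).hom).homEquiv _ _).injective
  refine stalk_tensor_ext (f.base x) fun U hx m n => ?_
  have e1 := pullStalk_germ f x (CohB1.tensorMod M N) U hx (SecTwist.tmul M N U m n)
  show ((H7StalkTensor.iso x _ _).hom ≫ ((pullStalkIso f x).hom.app M ⊗ₘ (pullStalkIso f x).hom.app N)).hom
      (((DerSch.stalkFunctor X x).map (theta f M N)).hom (((pullStalkIso f x).app (CohB1.tensorMod M N)).inv.hom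
        (emk (f.stalkMap x).hom 1 (gt M N U hx m n)))) =
    (distribIso (f.stalkMap x).hom _ _).hom.hom (emk (f.stalkMap x).hom 1
      ((phi (f.base x) M N).hom (gt M N U hx m n)))
  rw [phi_gt]
  refine Eq.trans ?_ (distribIso_emk (f.stalkMap x).hom _ _).symm
  unfold gt
  rw [← e1]
  erw [Iso.hom_inv_id_apply, DerSch.stalkFunctor_map_germ, theta_pullSect]
  show ((pullStalkIso f x).hom.app M ⊗ₘ (pullStalkIso f x).hom.app N).hom
    ((phi x _ _).hom (gt _ _ (f ⁻¹ᵁ U) hx (pullSect f M U m) (pullSect f N U n))) = _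
  rw [phi_gt]
  exact congrArg₂ (fun a b => a ⊗ₜ[X.presheaf.stalk x] b) (pullStalk_germ f x M U hx m) (pullStalk_germ f x N U hx n)

instance isIso_theta : IsIso (theta f M N) := by
  refine ((H7StalkDetect.jointly X).isIso_iff (theta f M N)).2 fun x => ?_
  have h := stalk_theta f M N x
  have h2 : IsIso (((pullStalkIso f x).app (CohB1.tensorMod M N)).inv ≫ (DerSch.stalkFunctor X x).map (theta f M N) ≫
      (H7StalkTensor.iso x _ _).hom ≫ ((pullStalkIso f x).hom.app M ⊗ₘ (pullStalkIso f x).hom.app N)) :=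
    h ▸ inferInstance
  have := IsIso.of_isIso_comp_left ((pullStalkIso f x).app (CohB1.tensorMod M N)).inv
    ((DerSch.stalkFunctor X x).map (theta f M N) ≫ (H7StalkTensor.iso x _ _).hom ≫
      ((pullStalkIso f x).hom.app M ⊗ₘ (pullStalkIso f x).hom.app N))
  exact IsIso.of_isIso_comp_right ((DerSch.stalkFunctor X x).map (theta f M N))
    ((H7StalkTensor.iso x _ _).hom ≫ ((pullStalkIso f x).hom.app M ⊗ₘ (pullStalkIso f x).hom.app N))

lemma theta_natural {M M' N N' : Y.Modules} (a : M ⟶ M') (b : N ⟶ N') :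
    (Scheme.Modules.pullback f).map (LTensor.tmap a b) ≫ theta f M' N' =
      theta f M N ≫ LTensor.tmap ((Scheme.Modules.pullback f).map a) ((Scheme.Modules.pullback f).map b) := by
  unfold theta
  rw [← Adjunction.homEquiv_naturality_left_symm, ← Adjunction.homEquiv_naturality_right_symm]
  refine congrArg _ (LTensor.hom_ext fun U m n => ?_)
  show (beta f M' N').app U ((LTensor.tmap a b).app U (SecTwist.tmul M N U m n)) =
    (LTensor.tmap ((Scheme.Modules.pullback f).map a) ((Scheme.Modules.pullback f).map b)).app (f ⁻¹ᵁ U)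
      ((beta f M N).app U (SecTwist.tmul M N U m n))
  rw [beta_tmul]
  refine (congrArg ((beta f M' N').app U) (LTensor.tmap_tmul a b U m n)).trans ?_
  refine (beta_tmul f M' N' U _ _).trans ?_
  refine Eq.trans ?_ (LTensor.tmap_tmul _ _ (f ⁻¹ᵁ U) _ _).symm
  exact congrArg₂ (SecTwist.tmul _ _ (f ⁻¹ᵁ U)) (pullSect_natural f a U m) (pullSect_natural f b U n)

lemma tensorBi_map {Z : Scheme.{u}} {M M' : Z.Modules} (a : M ⟶ M') (N : Z.Modules) :
    ((DCoh.tensorBi (X := Z)).map a).app N = LTensor.tmap a (𝟙 N) :=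
  LTensor.hom_ext fun U m n => (H7StalkTensor.map_app_tmul a N U m n).trans (LTensor.tmap_tmul a (𝟙 N) U m n).symm

lemma tensorBi_obj_map {Z : Scheme.{u}} (M : Z.Modules) {N N' : Z.Modules} (b : N ⟶ N') :
    ((DCoh.tensorBi (X := Z)).obj M).map b = LTensor.tmap (𝟙 M) b :=
  LTensor.hom_ext fun U m n => (H7StalkTensor.obj_map_tmul M b U m n).trans (LTensor.tmap_tmul (𝟙 M) b U m n).symm

/-- `f^*(M ⊗ N) ≅ f^*M ⊗ f^*N`, naturally -/
noncomputable def natIso :
    (DCoh.tensorBi (X := Y)) ⋙ (Functor.whiskeringRight _ _ _).obj (Scheme.Modules.pullback f) ≅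
      Scheme.Modules.pullback f ⋙ (DCoh.tensorBi (X := X)) ⋙
        (Functor.whiskeringLeft _ _ _).obj (Scheme.Modules.pullback f) :=
  NatIso.ofComponents
    (fun M => NatIso.ofComponents (fun N => @asIso _ _ _ _ (theta f M N) (isIso_theta f M N)) fun {N N'} b => by
      show (Scheme.Modules.pullback f).map (((DCoh.tensorBi (X := Y)).obj M).map b) ≫ theta f M N' =
        theta f M N ≫ ((DCoh.tensorBi (X := X)).obj _).map ((Scheme.Modules.pullback f).map b)
      rw [tensorBi_obj_map, tensorBi_obj_map]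
      have h := theta_natural f (𝟙 M) b
      rw [CategoryTheory.Functor.map_id] at h
      exact h)
    fun {M M'} a => by
      refine NatTrans.ext (funext fun N => ?_)
      show (Scheme.Modules.pullback f).map (((DCoh.tensorBi (X := Y)).map a).app N) ≫ theta f M' N =
        theta f M N ≫ ((DCoh.tensorBi (X := X)).map ((Scheme.Modules.pullback f).map a)).app _
      rw [tensorBi_map, tensorBi_map]
      have h := theta_natural f a (𝟙 N)
      rw [CategoryTheory.Functor.map_id] at h
      exact h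

end Groth.Agent.H7PullTensor
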