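import Groth.Agent.Lib.H7LTensorMod
import Groth.Agent.Lib.H5DTenMix
import Groth.Agent.Lib.H7PullTensor
import Mathlib

/-! The derived tensor product with a complex, on complexes with K-flat stalks. -/

universe u v w
open CategoryTheory Limits AlgebraicGeometry HomologicalComplex MonoidalCategory

namespace Groth.Agent.H7LTensorCx
open Groth.Agent H5TenCx H7KFlatMod H7KFlatSheaf H7KFlatResolution H7KFlatResFun H7HasLpull H7LpullCalc

attribute [local instance] HasDerivedCategory.standard

variable {X Y : Scheme.{u}}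

/-- tensoring on the left with a complex with K-flat stalks preserves quasi-isomorphisms -/
theorem quasiIso_tensor_left {N E E' : CochainComplex X.Modules ℤ} (hN : SKF N) (α : E ⟶ E') [QuasiIso α] :
    QuasiIso ((DCoh.tensorCx.obj N).map α) := (H7KFlatSheaf.quasiIso_iff _).2 fun x => by
  have hα : QuasiIso ((stCx x).map α) := (H7KFlatSheaf.quasiIso_iff α).1 inferInstance x
  have h := H5KFlatApps.quasiIso_tensor_left (hN x) ((stCx x).map α)
  have h' : QuasiIso (mapBifunctorMap ((stCx x).map (𝟙 N)) ((stCx x).map α)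
      (curriedTensor (ModuleCat.{u} (X.presheaf.stalk x))) (ComplexShape.up ℤ)) := by
    rw [CategoryTheory.Functor.map_id]
    exact h
  have e := stTensor_map x (𝟙 N) α
  exact (quasiIso_iff_comp_right _ _).1 (show QuasiIso ((stCx x).map ((DCoh.tensorCx.obj N).map α) ≫
      (stTensorIso x N E').hom) by
    change QuasiIso ((stCx x).map (mapBifunctorMap (𝟙 N) α (DCoh.tensorBi (X := X)) (ComplexShape.up ℤ)) ≫ _)
    rw [e]
    exact (quasiIso_iff_comp_left (stTensorIso x N E).hom _).2 h')

/-- quasi-isomorphisms between complexes with K-flat stalks stay so after tensoring with any complex -/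
theorem quasiIso_tensorCx {K L : CochainComplex X.Modules ℤ} (hK : SKF K) (hL : SKF L) (g : K ⟶ L) [QuasiIso g]
    (E : CochainComplex X.Modules ℤ) : QuasiIso ((DCoh.tensorCx.flip.obj E).map g) := by
  have := quasiIso_resNat E
  have := quasiIso_tensor_left hK (resNat.app E)
  have := quasiIso_tensor_left hL (resNat.app E)
  have := H7KFlatSheaf.quasiIso_tensor_right (skf_resFunctor E).isKFlat g
  have h : QuasiIso ((DCoh.tensorCx.obj K).map (resNat.app E) ≫ (DCoh.tensorCx.flip.obj E).map g) := by
    have e := (DCoh.tensorCx.map g).naturality (resNat.app E)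
    show QuasiIso ((DCoh.tensorCx.obj K).map (resNat.app E) ≫ (DCoh.tensorCx.map g).app E)
    rw [show (DCoh.tensorCx.obj K).map (resNat.app E) ≫ (DCoh.tensorCx.map g).app E = _ from e]
    exact quasiIso_comp _ _
  exact quasiIso_of_comp_left ((DCoh.tensorCx.obj K).map (resNat.app E)) _

lemma isIso_tensorCxQ {K L : CochainComplex X.Modules ℤ} (E : CochainComplex X.Modules ℤ) (g : K ⟶ L)
    (hg : QuasiIso ((DCoh.tensorCx.flip.obj E).map g)) : IsIso ((DCoh.tensorCxQ E).map g) :=
  (DerivedCategory.isIso_Q_map_iff_quasiIso _ _).2 hg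

instance whiskeringLeft_id_full {C H : Type*} [Category C] [Category H] :
    ((Functor.whiskeringLeft C C H).obj (𝟭 C)).Full :=
  Functor.Full.of_iso (Functor.whiskeringLeftObjIdIso (C := C) (E := H)).symm

instance whiskeringLeft_id_faithful {C H : Type*} [Category C] [Category H] :
    ((Functor.whiskeringLeft C C H).obj (𝟭 C)).Faithful :=
  Functor.Faithful.of_iso (Functor.whiskeringLeftObjIdIso (C := C) (E := H)).symm

variable (E : CochainComplex X.Modules ℤ)

theorem hasLTensorCx : DCoh.HasLTensorCx E := by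
  have : (𝟭 _ ⋙ (DerivedCategory.Q : CochainComplex X.Modules ℤ ⥤ _)).IsLocalization
      (HomologicalComplex.quasiIso X.Modules (ComplexShape.up ℤ)) :=
    inferInstanceAs ((DerivedCategory.Q : CochainComplex X.Modules ℤ ⥤ _).IsLocalization _)
  refine H7LeftDerived.hasLeftDerived (𝟭 _) DerivedCategory.Q
    (HomologicalComplex.quasiIso X.Modules (ComplexShape.up ℤ))
    (HomologicalComplex.quasiIso X.Modules (ComplexShape.up ℤ)) (DCoh.tensorCxQ E) resFunctor resNat
    (fun K => quasiIso_resNat K) (fun K L g hg => isIso_tensorCxQ E _ ?_) (fun K => isIso_tensorCxQ E _ ?_)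
  · have := resFunctor_quasiIso g hg
    exact quasiIso_tensorCx (skf_resFunctor K) (skf_resFunctor L) (resFunctor.map g) E
  · have := quasiIso_resNat (resFunctor.obj K)
    exact quasiIso_tensorCx (skf_resFunctor _) (skf_resFunctor K) (resNat.app (resFunctor.obj K)) E

variable [DCoh.HasLTensorCx E]

theorem isIso_counit {K : CochainComplex X.Modules ℤ} (hK : SKF K) :
    IsIso (((DCoh.tensorCxQ E).totalLeftDerivedCounit DerivedCategory.Q
      (HomologicalComplex.quasiIso X.Modules (ComplexShape.up ℤ))).app K) := by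
  have : (𝟭 _ ⋙ (DerivedCategory.Q : CochainComplex X.Modules ℤ ⥤ _)).IsLocalization
      (HomologicalComplex.quasiIso X.Modules (ComplexShape.up ℤ)) :=
    inferInstanceAs ((DerivedCategory.Q : CochainComplex X.Modules ℤ ⥤ _).IsLocalization _)
  refine H7LeftDerived.isIso_counit (𝟭 _) DerivedCategory.Q
    (HomologicalComplex.quasiIso X.Modules (ComplexShape.up ℤ))
    (HomologicalComplex.quasiIso X.Modules (ComplexShape.up ℤ)) (DCoh.tensorCxQ E) resFunctor resNat
    (fun K => quasiIso_resNat K) (fun K L g hg => isIso_tensorCxQ E _ ?_) (fun K => isIso_tensorCxQ E _ ?_) _ _ K ?_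
  · have := resFunctor_quasiIso g hg
    exact quasiIso_tensorCx (skf_resFunctor K) (skf_resFunctor L) (resFunctor.map g) E
  · have := quasiIso_resNat (resFunctor.obj K)
    exact quasiIso_tensorCx (skf_resFunctor _) (skf_resFunctor K) (resNat.app (resFunctor.obj K)) E
  · have := quasiIso_resNat K
    exact isIso_tensorCxQ E _ (quasiIso_tensorCx (skf_resFunctor _) hK (resNat.app K) E)

/-- `Q K ⊗ᴸ E ≅ Q (K ⊗ E)` for `K` with K-flat stalks -/
noncomputable def ltenCxIso {K : CochainComplex X.Modules ℤ} (hK : SKF K) :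
    (DCoh.LTensorCx E).obj (DerivedCategory.Q.obj K) ≅ DerivedCategory.Q.obj ((DCoh.tensorCx.obj K).obj E) :=
  @asIso _ _ _ _ _ (isIso_counit E hK)

omit [DCoh.HasLTensorCx E] in
/-- tensor products of complexes with K-flat stalks have K-flat stalks -/
theorem skf_tensor {K L : CochainComplex X.Modules ℤ} (hK : SKF K) (hL : SKF L) :
    SKF ((DCoh.tensorCx.obj K).obj L) := fun x =>
  H5KFlat.kflat_of_iso _ (stTensorIso x K L).symm (H5DTenMix.kflat_tensor (hK x) (hL x))

omit [DCoh.HasLTensorCx E] in
/-- pullback of a tensor product of complexes -/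
noncomputable def pullTensorIso (f : X ⟶ Y) (K L : CochainComplex Y.Modules ℤ) :
    (pullCx f).obj ((DCoh.tensorCx.obj K).obj L) ≅ (DCoh.tensorCx.obj ((pullCx f).obj K)).obj ((pullCx f).obj L) :=
  have : ∀ J : Type, PreservesColimitsOfShape (Discrete J) (Scheme.Modules.pullback f) := fun J =>
    (Scheme.Modules.pullbackPushforwardAdjunction f).leftAdjoint_preservesColimits.{0, 0}.preservesColimitsOfShape
  H7MapTotal.iso (DCoh.tensorBi (X := Y)) (DCoh.tensorBi (X := X)) (Scheme.Modules.pullback f)
    (Scheme.Modules.pullback f) (Scheme.Modules.pullback f) (H7PullTensor.natIso f) K L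

omit [DCoh.HasLTensorCx E] in
/-- the second variable of the tensor product may be replaced inside the derived category -/
theorem tensorQIso_right {K L L' : CochainComplex X.Modules ℤ} (hK : SKF K) (e : DerivedCategory.Q.obj L ≅ DerivedCategory.Q.obj L') :
    Nonempty (DerivedCategory.Q.obj ((DCoh.tensorCx.obj K).obj L) ≅ DerivedCategory.Q.obj ((DCoh.tensorCx.obj K).obj L')) := by
  obtain ⟨N, s, hs, g, hg⟩ := DerivedCategory.right_fac e.hom
  have hg' : IsIso (DerivedCategory.Q.map g) := by
    have : IsIso (inv (DerivedCategory.Q.map s) ≫ DerivedCategory.Q.map g) := hg ▸ inferInstance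
    exact IsIso.of_isIso_comp_left (inv (DerivedCategory.Q.map s)) _
  have := (DerivedCategory.isIso_Q_map_iff_quasiIso _ _).1 hs
  have := (DerivedCategory.isIso_Q_map_iff_quasiIso _ _).1 hg'
  have h1 := (DerivedCategory.isIso_Q_map_iff_quasiIso _ _).2 (quasiIso_tensor_left hK s)
  have h2 := (DerivedCategory.isIso_Q_map_iff_quasiIso _ _).2 (quasiIso_tensor_left hK g)
  exact ⟨(@asIso _ _ _ _ _ h1).symm ≪≫ @asIso _ _ _ _ _ h2⟩

end Groth.Agent.H7LTensorCx
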