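import Groth.Agent.Lib.H7LpullCalc
import Groth.Agent.Lib.H7LTensorCx
import Groth.Agent.Lib.H5KInjApps
import Mathlib

/-! Coproducts in `D(O_X)`; derived pullback and derived tensor product commute with them. -/

universe u w w₂ v₁ u₁
open CategoryTheory Limits AlgebraicGeometry MonoidalCategory HomologicalComplex

namespace Groth.Agent.H7Coprod
open Groth.Agent H5TenCx H7KFlatMod H7KFlatSheaf H7HasLpull

attribute [local instance] HasDerivedCategory.standard

section generic

variable {A : Type u₁} [Category.{v₁} A] [Abelian A] [IsGrothendieckAbelian.{v₁} A] [HasDerivedCategory.{w} A]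

open H5KApps in
/-- `Q` carries coproducts of complexes to coproducts -/
noncomputable def qSigmaIsColimit {T : Type v₁} (K : T → CochainComplex A ℤ) :
    IsColimit (Cofan.mk (DerivedCategory.Q.obj (∐ K)) fun t => DerivedCategory.Q.map (Sigma.ι K t)) :=
  have R := resolving_Q (A := A) H5KApps.enoughKInj_of_grothendieck
  Cofan.IsColimit.mk _
    (fun s => DerivedCategory.Q.map (Sigma.desc fun t => R.lift (R.res_mem s.pt) (s.inj t ≫ (R.resIso s.pt).inv)) ≫
      (R.resIso s.pt).hom)
    (fun s t => by
      simp [Cofan.mk, Cofan.inj, ← Functor.map_comp_assoc])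
    (fun s m hm => by
      have : (R.res s.pt).IsKInjective := R.res_mem s.pt
      obtain ⟨f, hf⟩ := R.surj _ _ (R.res_mem s.pt) (m ≫ (R.resIso s.pt).inv)
      rw [← Iso.comp_inv_eq, ← hf]
      refine DerivedCategory.Q_map_eq_of_homotopy A (homotopy_sigma K _ _ (fun t =>
        ⟨HomotopyCategory.homotopyOfEq _ _ (homotopic_of_Q_map_eq ?_)⟩)).some
      rw [Functor.map_comp, Sigma.ι_desc, R.map_lift, hf, ← hm t]
      simp [Cofan.mk, Cofan.inj])

instance preserves_Q (T : Type v₁) :
    PreservesColimitsOfShape (Discrete T) (DerivedCategory.Q : CochainComplex A ℤ ⥤ _) := by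
  have : ∀ K : T → CochainComplex A ℤ, PreservesColimit (Discrete.functor K) DerivedCategory.Q := fun K =>
    preservesColimit_of_preserves_colimit_cocone (coproductIsCoproduct K)
      ((isColimitMapCoconeCofanMkEquiv _ _ _).symm (qSigmaIsColimit K))
  exact ⟨fun {F} => preservesColimit_of_iso_diagram _ (Discrete.natIsoFunctor (F := F)).symm⟩

/-- a functor on `D` computed termwise on a class closed under coproducts preserves coproducts -/
theorem preservesColimit_of_computed {B : Type u₁} [Category.{v₁} B] [Abelian B] [IsGrothendieckAbelian.{v₁} B]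
    [HasDerivedCategory.{w₂} B] (H : DerivedCategory A ⥤ DerivedCategory B)
    (P : CochainComplex A ℤ ⥤ CochainComplex B ℤ) (α : DerivedCategory.Q ⋙ H ⟶ P ⋙ DerivedCategory.Q)
    (good : CochainComplex A ℤ → Prop) (hα : ∀ K, good K → IsIso (α.app K))
    (ess : ∀ Y : DerivedCategory A, ∃ K, good K ∧ Nonempty (DerivedCategory.Q.obj K ≅ Y))
    {T : Type v₁} (hsig : ∀ K : T → CochainComplex A ℤ, (∀ t, good (K t)) → good (∐ K))
    [PreservesColimitsOfShape (Discrete T) P] (C : T → DerivedCategory A) :
    PreservesColimit (Discrete.functor C) H := by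
  choose K hK e using fun t => ess (C t)
  have he : Discrete.functor C ≅ Discrete.functor (fun t => DerivedCategory.Q.obj (K t)) :=
    Discrete.natIso fun t => (e t.as).some.symm
  suffices h : PreservesColimit (Discrete.functor fun t => DerivedCategory.Q.obj (K t)) H from
    preservesColimit_of_iso_diagram H he.symm
  refine preservesColimit_of_preserves_colimit_cocone (qSigmaIsColimit K) ?_
  refine (isColimitMapCoconeCofanMkEquiv _ _ _).symm ?_
  have hc := isColimitCofanMkObjOfIsColimit (P ⋙ DerivedCategory.Q) _ _ (coproductIsCoproduct K)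
  have := fun t => hα _ (hK t)
  have := hα _ (hsig K hK)
  let η : Discrete.functor (fun t => H.obj (DerivedCategory.Q.obj (K t))) ≅
      Discrete.functor (fun t => (P ⋙ DerivedCategory.Q).obj (K t)) :=
    Discrete.natIso fun t => asIso (α.app (K t.as))
  refine IsColimit.ofIsoColimit ((IsColimit.precomposeHomEquiv η (Cofan.mk _ fun t => (P ⋙ DerivedCategory.Q).map (Sigma.ι K t))).invFun hc)
    (Cofan.ext (by exact (asIso (α.app (∐ K))).symm) fun t => ?_)
  show (α.app (K t) ≫ (P ⋙ DerivedCategory.Q).map (Sigma.ι K t)) ≫ inv (α.app (∐ K)) = _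
  rw [← α.naturality (Sigma.ι K t), Category.assoc, IsIso.hom_inv_id, Category.comp_id]
  rfl

end generic

variable {X Y : Scheme.{u}}

instance grothendieck_modules : IsGrothendieckAbelian.{u} X.Modules :=
  H5KApps.isGrothendieckAbelian_sheafOfModules _ X.ringCatSheaf

instance stCx_coprod (x : X) (T : Type u) : PreservesColimitsOfShape (Discrete T) (stCx x) :=
  ⟨fun {G} => ⟨fun {c} hc => ⟨isColimitOfEval (G ⋙ stCx x) ((stCx x).mapCocone c) fun n =>
    isColimitOfPreserves (DerSch.stalkFunctor X x) (isColimitOfPreserves (eval X.Modules _ n) hc)⟩⟩⟩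

set_option maxHeartbeats 2000000 in
theorem skf_sigma {T : Type u} {K : T → CochainComplex X.Modules ℤ} (h : ∀ t, SKF (K t)) : SKF (∐ K) := fun x =>
  H5KFlat.kflat_isColimit _ (isColimitOfPreserves (stCx x) (coproductIsCoproduct K)) fun t => h t.as x

theorem preserves_Lpull (f : X ⟶ Y) [DCoh.HasLpull f] {T : Type u} (C : T → DCoh.D Y) :
    PreservesColimit (Discrete.functor C) (DCoh.Lpull f) := by
  have : PreservesColimitsOfShape (Discrete T) (pullCx f) :=
    ⟨fun {G} => ⟨fun {c} hc => ⟨isColimitOfEval (G ⋙ pullCx f) ((pullCx f).mapCocone c) fun n =>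
      isColimitOfPreserves (Scheme.Modules.pullback f) (isColimitOfPreserves (eval Y.Modules _ n) hc)⟩⟩⟩
  refine preservesColimit_of_computed (DCoh.Lpull f) (pullCx f)
    { app := fun K => (DCoh.Lpull f).map ((DerivedCategory.quotientCompQhIso Y.Modules).inv.app K) ≫
        H7LpullCalc.counit f K ≫ (DerivedCategory.quotientCompQhIso X.Modules).hom.app ((pullCx f).obj K)
      naturality := fun K L g => ?_ }
    SKF (fun K hK => ?_) (fun E => ?_) (fun K h => skf_sigma h) C
  · have h1 := ((DCoh.pullKh f).totalLeftDerivedCounit DerivedCategory.Qh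
      (HomotopyCategory.quasiIso Y.Modules (ComplexShape.up ℤ))).naturality ((HomotopyCategory.quotient _ _).map g)
    have h2 := (DerivedCategory.quotientCompQhIso Y.Modules).inv.naturality g
    have h3 := (DerivedCategory.quotientCompQhIso X.Modules).hom.naturality ((pullCx f).map g)
    dsimp at h1 h2 h3
    show (DCoh.Lpull f).map _ ≫ (DCoh.Lpull f).map _ ≫ _ = (_ ≫ _ ≫ _) ≫ _
    rw [← Functor.map_comp_assoc, h2, Functor.map_comp_assoc]
    simp only [Category.assoc]
    refine congrArg _ ?_
    erw [reassoc_of% h1, h3]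
    rfl
  · exact (H7LpullCalc.lpullIso f hK).isIso_hom
  · obtain ⟨K, hK, -, he⟩ := H7LpullCalc.exists_skf E
    exact ⟨K, hK, he⟩

/-- preservation of coproducts is detected on stalks -/
lemma preservesCoprod_of_stalks {C : Type (u + 1)} [Category.{u} C] {T : Type u}
    [HasColimitsOfShape (Discrete T) C] (P : C ⥤ CochainComplex X.Modules ℤ)
    [hPx : ∀ x : X, PreservesColimitsOfShape (Discrete T) (P ⋙ stCx x)] :
    PreservesColimitsOfShape (Discrete T) P := by
  suffices ∀ K : T → C, PreservesColimit (Discrete.functor K) P from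
    ⟨fun {F} => preservesColimit_of_iso_diagram _ (Discrete.natIsoFunctor (F := F)).symm⟩
  intro K
  have hiso : ∀ x : X, IsIso ((stCx x).map (sigmaComparison P K)) := fun x => by
    have h1 : sigmaComparison (stCx x) (fun t => P.obj (K t)) ≫ (stCx x).map (sigmaComparison P K) =
        sigmaComparison (P ⋙ stCx x) K := by
      refine Sigma.hom_ext _ _ fun t => ?_
      rw [ι_comp_sigmaComparison_assoc, ← Functor.map_comp, ι_comp_sigmaComparison]
      exact (ι_comp_sigmaComparison (P ⋙ stCx x) K t).symm
    have : IsIso (sigmaComparison (stCx x) (fun t => P.obj (K t)) ≫ (stCx x).map (sigmaComparison P K)) := by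
      rw [h1]; infer_instance
    exact IsIso.of_isIso_comp_left (sigmaComparison (stCx x) (fun t => P.obj (K t))) _
  have : IsIso (sigmaComparison P K) := by
    have : ∀ n : ℤ, IsIso ((sigmaComparison P K).f n) := fun n =>
      have : ∀ x : X, IsIso ((DerSch.stalkFunctor X x).map ((sigmaComparison P K).f n)) := fun x =>
        have := hiso x
        inferInstanceAs (IsIso (((stCx x).map (sigmaComparison P K)).f n))
      (H7StalkDetect.jointly X).isIso _
    exact HomologicalComplex.Hom.isIso_of_components _
  exact PreservesCoproduct.of_iso_comparison P K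

set_option maxHeartbeats 1000000 in
/-- `L ↦ L ⊗ E` preserves coproducts -/
lemma preserves_tensorCx (E : CochainComplex X.Modules ℤ) (T : Type u) :
    PreservesColimitsOfShape (Discrete T) ((DCoh.tensorCx (X := X)).flip.obj E) := by
  let P := (DCoh.tensorCx (X := X)).flip.obj E
  have hPx : ∀ x : X, PreservesColimitsOfShape (Discrete T) (P ⋙ stCx x) := fun x => by
    let R := X.presheaf.stalk x
    let m := (stCx x).obj E
    have := preservesColimitsOfShape₂ (curriedTensor (ModuleCat.{u} R)) (J := Discrete T) m
    have : PreservesColimitsOfShape (Discrete T) (T₁ (curriedTensor (ModuleCat.{u} R)) m) :=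
      preservesColimitsOfShape_of_natIso (NatIso.ofComponents (fun K => DTen.braidCx m K)
        (fun {K K'} f => by
          have h := DTen.braidCx_naturality (𝟙 m) f
          rw [id_tensorHom, tensorHom_id] at h
          exact h) : T₂ (curriedTensor (ModuleCat.{u} R)) m ≅ T₁ (curriedTensor (ModuleCat.{u} R)) m)
    exact preservesColimitsOfShape_of_natIso
      (NatIso.ofComponents (fun L => (stTensorIso x L E).symm) (fun {L L'} f => by
        have h := stTensor_map x f (𝟙 E)
        rw [CategoryTheory.Functor.map_id] at h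
        exact (Iso.eq_inv_comp _).2 ((Category.assoc _ _ _).symm.trans ((Iso.comp_inv_eq _).2 h.symm))) :
        stCx x ⋙ T₁ (curriedTensor (ModuleCat.{u} R)) m ≅ P ⋙ stCx x)
  exact @preservesCoprod_of_stalks _ _ _ _ _ P hPx

theorem preserves_LTensorCx (E : CochainComplex X.Modules ℤ) [DCoh.HasLTensorCx E] {T : Type u}
    (C : T → DCoh.D X) : PreservesColimit (Discrete.functor C) (DCoh.LTensorCx E) := by
  have := preserves_tensorCx E T
  refine preservesColimit_of_computed (DCoh.LTensorCx E) ((DCoh.tensorCx (X := X)).flip.obj E)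
    ((DCoh.tensorCxQ E).totalLeftDerivedCounit DerivedCategory.Q
      (HomologicalComplex.quasiIso X.Modules (ComplexShape.up ℤ)))
    SKF (fun K hK => H7LTensorCx.isIso_counit E hK) (fun Y => ?_) (fun K h => skf_sigma h) C
  obtain ⟨K, hK, -, he⟩ := H7LpullCalc.exists_skf Y
  exact ⟨K, hK, he⟩

end Groth.Agent.H7Coprod
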