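import Groth.Agent.Lib.H7LocLift
import Mathlib

/-! Perfect objects form a triangulated subcategory. -/

universe u v w
open CategoryTheory Limits AlgebraicGeometry Opposite TopologicalSpace HomologicalComplex CategoryTheory.Pretriangulated

namespace Groth.Agent.H7PerfTri
open Groth.Agent H7KFlatSheaf H7PerfPull H7FinFree H7LocLift

attribute [local instance] HasDerivedCategory.standard

variable {X Y Z : Scheme.{u}}

/-- restriction of derived categories -/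
noncomputable abbrev rD (j : Y ⟶ X) [IsOpenImmersion j] : DCoh.D X ⥤ DCoh.D Y :=
  (Scheme.Modules.restrictFunctor j).mapDerivedCategory

/-- restriction on representatives -/
noncomputable def rQ (j : Y ⟶ X) [IsOpenImmersion j] (F : CochainComplex X.Modules ℤ) :
    (rD j).obj (DerivedCategory.Q.obj F) ≅ DerivedCategory.Q.obj ((rst j).obj F) :=
  (Scheme.Modules.restrictFunctor j).mapDerivedCategoryFactors.app F

/-- restricting twice -/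
noncomputable def rDComp (f : Z ⟶ Y) (g : Y ⟶ X) (h : Z ⟶ X) [IsOpenImmersion f] [IsOpenImmersion g]
    [IsOpenImmersion h] (e : f ≫ g = h) (E : DCoh.D X) : (rD f).obj ((rD g).obj E) ≅ (rD h).obj E :=
  let eF := DerivedCategory.Q.objObjPreimageIso E
  (rD f).mapIso ((rD g).mapIso eF.symm ≪≫ rQ g _) ≪≫ rQ f _ ≪≫
    DerivedCategory.Q.mapIso ((rstComp f g h e).app _) ≪≫ (rQ h _).symm ≪≫ (rD h).mapIso eF

lemma finLocFree_rst (j : Y ⟶ X) [IsOpenImmersion j] {M : X.Modules} (h : FlatMod.IsFinLocFree M) :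
    FlatMod.IsFinLocFree ((Scheme.Modules.restrictFunctor j).obj M) :=
  finLocFree_of_iso ((Scheme.Modules.restrictFunctorIsoPullback j).app M).symm (finLocFree_pullback j h)

lemma strictlyPerfect_rst (j : Y ⟶ X) [IsOpenImmersion j] {P : CochainComplex X.Modules ℤ}
    (hP : DCoh.IsStrictlyPerfect P) : DCoh.IsStrictlyPerfect ((rst j).obj P) := by
  obtain ⟨⟨a, b, hab⟩, hf⟩ := hP
  exact ⟨⟨a, b, fun k hk => (Scheme.Modules.restrictFunctor j).map_isZero (hab k hk)⟩, fun k => finLocFree_rst j (hf k)⟩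

lemma strictlyPerfect_cone {E F : CochainComplex X.Modules ℤ} (φ : E ⟶ F) (hE : DCoh.IsStrictlyPerfect E)
    (hF : DCoh.IsStrictlyPerfect F) : DCoh.IsStrictlyPerfect (CochainComplex.mappingCone φ) := by
  obtain ⟨⟨a, b, hab⟩, hfE⟩ := hE
  obtain ⟨⟨c, d, hcd⟩, hfF⟩ := hF
  refine ⟨⟨min a c - 1, max b d, fun k hk => (CochainComplex.mappingCone.isZero_X_iff φ k).2
    ⟨hab _ (by omega), hcd k (by omega)⟩⟩, fun k => ?_⟩
  have := HomologicalComplex.HasHomotopyCofiber.hasBinaryBiproduct φ k (k + 1) rfl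
  exact finLocFree_of_iso
    ((biprod.isoCoprod (E.X (k + 1)) (F.X k)).symm ≪≫ (homotopyCofiber.XIsoBiprod φ k (k + 1) rfl).symm)
    (finLocFree_sigma (fun j : WalkingPair => WalkingPair.casesOn (motive := fun _ => X.Modules) j (E.X (k + 1)) (F.X k))
      (fun j => by cases j; exacts [hfE _, hfF _]))

lemma strictlyPerfect_shift {P : CochainComplex X.Modules ℤ} (hP : DCoh.IsStrictlyPerfect P) (n : ℤ) :
    DCoh.IsStrictlyPerfect (P⟦n⟧) := by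
  obtain ⟨⟨a, b, hab⟩, hf⟩ := hP
  exact ⟨⟨a - n, b - n, fun k hk => hab (k + n) (by omega)⟩, fun k => hf (k + n)⟩

/-- perfection through restriction functors -/
theorem isPerfect_iff (E : DCoh.D X) : DCoh.IsPerfect E ↔ ∀ x : X, ∃ (W : Scheme.{u}) (j : W ⟶ X) (_ : IsOpenImmersion j)
    (P : CochainComplex W.Modules ℤ), x ∈ Set.range j.base ∧ DCoh.IsStrictlyPerfect P ∧
      Nonempty ((rD j).obj E ≅ DerivedCategory.Q.obj P) := by
  constructor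
  · intro h x
    obtain ⟨V, hx, hV⟩ := h x
    obtain ⟨P, hP, ⟨e⟩⟩ := hV _ ⟨DerivedCategory.Q.objObjPreimageIso E⟩
    exact ⟨V, V.ι, inferInstance, P, ⟨⟨x, hx⟩, rfl⟩, hP,
      ⟨(rD V.ι).mapIso (DerivedCategory.Q.objObjPreimageIso E).symm ≪≫ rQ V.ι _ ≪≫ e⟩⟩
  · intro h x
    obtain ⟨W, j, _, P, hx, hP, ⟨e⟩⟩ := h x
    refine ⟨j.opensRange, hx, fun F ⟨eF⟩ => ⟨(rst j.isoOpensRange.inv).obj P, strictlyPerfect_rst _ hP,
      ⟨(rQ j.opensRange.ι F).symm ≪≫ (rD j.opensRange.ι).mapIso eF ≪≫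
        (rDComp j.isoOpensRange.inv j j.opensRange.ι j.isoOpensRange_inv_comp E).symm ≪≫
          (rD j.isoOpensRange.inv).mapIso e ≪≫ rQ _ P⟩⟩⟩

theorem isPerfect_shift {E : DCoh.D X} (h : DCoh.IsPerfect E) (n : ℤ) : DCoh.IsPerfect (E⟦n⟧) := by
  rw [isPerfect_iff] at h ⊢
  intro x
  obtain ⟨W, j, hj, P, hx, hP, ⟨e⟩⟩ := h x
  exact ⟨W, j, hj, P⟦n⟧, hx, strictlyPerfect_shift hP n,
    ⟨((rD j).commShiftIso n).app E ≪≫ (shiftFunctor _ n).mapIso e ≪≫ ((DerivedCategory.Q.commShiftIso n).app P).symm⟩⟩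

theorem isPerfect_of_iso {E E' : DCoh.D X} (e : E ≅ E') (h : DCoh.IsPerfect E) : DCoh.IsPerfect E' := fun x => by
  obtain ⟨V, hx, hV⟩ := h x
  exact ⟨V, hx, fun F ⟨eF⟩ => hV F ⟨eF ≪≫ e.symm⟩⟩

theorem isPerfect₃ (T : Triangle (DCoh.D X)) (hT : T ∈ distTriang _) (h₁ : DCoh.IsPerfect T.obj₁)
    (h₂ : DCoh.IsPerfect T.obj₂) : DCoh.IsPerfect T.obj₃ := by
  rw [isPerfect_iff]
  intro x
  obtain ⟨V₁, hx₁, hV₁⟩ := h₁ x
  obtain ⟨V₂, hx₂, hV₂⟩ := h₂ x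
  obtain ⟨P₁, hP₁, ⟨e₁⟩⟩ := hV₁ _ ⟨DerivedCategory.Q.objObjPreimageIso T.obj₁⟩
  obtain ⟨P₂, hP₂, ⟨e₂⟩⟩ := hV₂ _ ⟨DerivedCategory.Q.objObjPreimageIso T.obj₂⟩
  let V := V₁ ⊓ V₂
  let θ₁ := X.homOfLE (inf_le_left : V ≤ V₁)
  let θ₂ := X.homOfLE (inf_le_right : V ≤ V₂)
  let f₁ : (rD V.ι).obj T.obj₁ ≅ DerivedCategory.Q.obj ((rst θ₁).obj P₁) :=
    (rDComp θ₁ V₁.ι V.ι (X.homOfLE_ι _) _).symm ≪≫ (rD θ₁).mapIso
      ((rD V₁.ι).mapIso (DerivedCategory.Q.objObjPreimageIso T.obj₁).symm ≪≫ rQ V₁.ι _ ≪≫ e₁) ≪≫ rQ θ₁ P₁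
  let f₂ : (rD V.ι).obj T.obj₂ ≅ DerivedCategory.Q.obj ((rst θ₂).obj P₂) :=
    (rDComp θ₂ V₂.ι V.ι (X.homOfLE_ι _) _).symm ≪≫ (rD θ₂).mapIso
      ((rD V₂.ι).mapIso (DerivedCategory.Q.objObjPreimageIso T.obj₂).symm ≪≫ rQ V₂.ι _ ≪≫ e₂) ≪≫ rQ θ₂ P₂
  obtain ⟨O, hxO, hO⟩ := exists_chain_map (strictlyPerfect_rst θ₁ hP₁) (f₁.inv ≫ (rD V.ι).map T.mor₁ ≫ f₂.hom)
    ⟨x, hx₁, hx₂⟩
  obtain ⟨β, hβ⟩ := hO
  let T' := (rD O.ι).mapTriangle.obj ((rD V.ι).mapTriangle.obj T)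
  have hT' : T' ∈ distTriang _ := Functor.map_distinguished _ _ (Functor.map_distinguished _ _ hT)
  let g₁ : T'.obj₁ ≅ DerivedCategory.Q.obj ((rst O.ι).obj ((rst θ₁).obj P₁)) := (rD O.ι).mapIso f₁ ≪≫ rQ O.ι _
  let g₂ : T'.obj₂ ≅ DerivedCategory.Q.obj ((rst O.ι).obj ((rst θ₂).obj P₂)) := (rD O.ι).mapIso f₂ ≪≫ rQ O.ι _
  let e := isoTriangleOfIso₁₂ T' _ hT' (DerivedCategory.mappingCone_triangle_distinguished β) g₁ g₂ (by
    show (rD O.ι).map ((rD V.ι).map T.mor₁) ≫ ((rD O.ι).map f₂.hom ≫ (rQ O.ι ((rst θ₂).obj P₂)).hom) =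
      ((rD O.ι).map f₁.hom ≫ (rQ O.ι ((rst θ₁).obj P₁)).hom) ≫ DerivedCategory.Q.map β
    have h' : (rD O.ι).map f₁.hom ≫ (rD O.ι).map (f₁.inv ≫ (rD V.ι).map T.mor₁ ≫ f₂.hom) =
        (rD O.ι).map ((rD V.ι).map T.mor₁) ≫ (rD O.ι).map f₂.hom :=
      ((rD O.ι).map_comp _ _).symm.trans ((congrArg (rD O.ι).map (f₁.hom_inv_id_assoc _)).trans ((rD O.ι).map_comp _ _))
    refine (Category.assoc _ _ _).symm.trans ((congrArg (· ≫ (rQ O.ι ((rst θ₂).obj P₂)).hom) h'.symm).trans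
      ((Category.assoc _ _ _).trans ((congrArg ((rD O.ι).map f₁.hom ≫ ·) ?_).trans (Category.assoc _ _ _).symm)))
    refine (congrArg (· ≫ (rQ O.ι ((rst θ₂).obj P₂)).hom) hβ).trans ?_
    refine (Category.assoc _ _ _).trans (congrArg (_ ≫ ·) ((Category.assoc _ _ _).trans ?_))
    exact (congrArg (DerivedCategory.Q.map β ≫ ·)
      ((Scheme.Modules.restrictFunctor O.ι).mapDerivedCategoryFactors.inv_hom_id_app _)).trans (Category.comp_id _))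
  exact ⟨(O : Scheme.{u}), O.ι ≫ V.ι, inferInstance, CochainComplex.mappingCone β, ⟨⟨⟨x, hx₁, hx₂⟩, hxO⟩, rfl⟩,
    strictlyPerfect_cone β (strictlyPerfect_rst _ (strictlyPerfect_rst θ₁ hP₁))
      (strictlyPerfect_rst _ (strictlyPerfect_rst θ₂ hP₂)),
    ⟨(rDComp O.ι V.ι _ rfl T.obj₃).symm ≪≫ Triangle.π₃.mapIso e⟩⟩

theorem isPerfect₂ (T : Triangle (DCoh.D X)) (hT : T ∈ distTriang _) (h₁ : DCoh.IsPerfect T.obj₁)
    (h₃ : DCoh.IsPerfect T.obj₃) : DCoh.IsPerfect T.obj₂ :=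
  isPerfect₃ T.invRotate (inv_rot_of_distTriang _ hT) (isPerfect_shift h₃ (-1)) h₁

theorem isPerfect₁ (T : Triangle (DCoh.D X)) (hT : T ∈ distTriang _) (h₂ : DCoh.IsPerfect T.obj₂)
    (h₃ : DCoh.IsPerfect T.obj₃) : DCoh.IsPerfect T.obj₁ :=
  isPerfect₂ T.invRotate (inv_rot_of_distTriang _ hT) (isPerfect_shift h₃ (-1)) h₂

end Groth.Agent.H7PerfTri
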