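import Groth.Agent.Lib.H7HasLpull
import Mathlib

/-! The derived pullback on complexes with K-flat stalks, and composition. -/

universe u v w
open CategoryTheory Limits AlgebraicGeometry HomologicalComplex MonoidalCategory

namespace Groth.Agent.H7LpullCalc
open Groth.Agent H5TenCx H7KFlatMod H7KFlatSheaf H7KFlatResolution H7KFlatResFun H7HasLpull

attribute [local instance] HasDerivedCategory.standard

section generic

variable {C : Type v} [Category.{w} C] [Abelian C] [HasDerivedCategory C]

lemma isIso_Qh_quotient_map {K L : CochainComplex C ℤ} (g : K ⟶ L) (hg : QuasiIso g) :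
    IsIso (DerivedCategory.Qh.map ((HomotopyCategory.quotient _ _).map g)) :=
  ((MorphismProperty.isomorphisms _).arrow_mk_iso_iff
      (Arrow.isoMk ((DerivedCategory.quotientCompQhIso C).app _)
        ((DerivedCategory.quotientCompQhIso C).app _)
        (DerivedCategory.quotientCompQhIso_hom_naturality g).symm :
        Arrow.mk (DerivedCategory.Qh.map ((HomotopyCategory.quotient _ _).map g)) ≅
          Arrow.mk (DerivedCategory.Q.map g))).2
      ((DerivedCategory.isIso_Q_map_iff_quasiIso _ _).2 hg)

lemma isLocalization_quotient_Qh :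
    ((HomotopyCategory.quotient C (ComplexShape.up ℤ)) ⋙ DerivedCategory.Qh).IsLocalization
      (HomologicalComplex.quasiIso C (ComplexShape.up ℤ)) :=
  Functor.IsLocalization.of_iso (HomologicalComplex.quasiIso C (ComplexShape.up ℤ))
    (DerivedCategory.quotientCompQhIso C).symm

end generic

variable {X Y Z : Scheme.{u}} (f : X ⟶ Y)

lemma resFunctor_quasiIso {K L : CochainComplex Y.Modules ℤ} (g : K ⟶ L) (hg : QuasiIso g) :
    QuasiIso (resFunctor.map g) := by
  have := quasiIso_resNat K
  have := quasiIso_resNat L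
  have h : QuasiIso (resFunctor.map g ≫ resNat.app L) := by
    rw [resNat.naturality]
    exact inferInstanceAs (QuasiIso (resNat.app K ≫ g))
  exact quasiIso_of_comp_right _ (resNat.app L)

/-- the counit of `Lf^*` at a complex with K-flat stalks -/
noncomputable def counit [DCoh.HasLpull f] (K : CochainComplex Y.Modules ℤ) :
    (DCoh.Lpull f).obj (DerivedCategory.Qh.obj ((HomotopyCategory.quotient _ _).obj K)) ⟶
      DerivedCategory.Qh.obj ((HomotopyCategory.quotient _ _).obj ((pullCx f).obj K)) :=
  ((DCoh.pullKh f).totalLeftDerivedCounit DerivedCategory.Qh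
    (HomotopyCategory.quasiIso Y.Modules (ComplexShape.up ℤ))).app ((HomotopyCategory.quotient _ _).obj K)

theorem isIso_counit [DCoh.HasLpull f] {K : CochainComplex Y.Modules ℤ} (hK : SKF K) : IsIso (counit f K) := by
  have := isLocalization_quotient_Qh (C := Y.Modules)
  refine H7LeftDerived.isIso_counit (HomotopyCategory.quotient Y.Modules (ComplexShape.up ℤ)) DerivedCategory.Qh
    (HomotopyCategory.quasiIso Y.Modules (ComplexShape.up ℤ))
    (HomologicalComplex.quasiIso Y.Modules (ComplexShape.up ℤ)) (DCoh.pullKh f) resFunctor resNat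
    (fun K => quasiIso_resNat K) (fun K L g hg => isIso_pullKh f _ ?_) (fun K => isIso_pullKh f _ ?_) _ _ K ?_
  · have := resFunctor_quasiIso g hg
    exact quasiIso_pullback f (skf_resFunctor K) (skf_resFunctor L) _
  · have := quasiIso_resNat (resFunctor.obj K)
    exact quasiIso_pullback f (skf_resFunctor _) (skf_resFunctor K) _
  · have := quasiIso_resNat K
    exact isIso_pullKh f _ (quasiIso_pullback f (skf_resFunctor _) hK _)

/-- `Lf^* Q K ≅ Q (f^* K)` for `K` with K-flat stalks -/
noncomputable def lpullIso [DCoh.HasLpull f] {K : CochainComplex Y.Modules ℤ} (hK : SKF K) :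
    (DCoh.Lpull f).obj (DerivedCategory.Q.obj K) ≅ DerivedCategory.Q.obj ((pullCx f).obj K) :=
  have := isIso_counit f hK
  (DCoh.Lpull f).mapIso ((DerivedCategory.quotientCompQhIso Y.Modules).app K).symm ≪≫ asIso (counit f K) ≪≫
    (DerivedCategory.quotientCompQhIso X.Modules).app _

/-- every object of `D(O_Y)` is represented by a complex with K-flat stalks and flat terms -/
theorem exists_skf (E : DCoh.D Y) : ∃ K : CochainComplex Y.Modules ℤ, SKF K ∧ (∀ n, FlatMod.IsFlat (K.X n)) ∧
    Nonempty (DerivedCategory.Q.obj K ≅ E) := by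
  let K₀ := DerivedCategory.Q.objPreimage E
  have := quasiIso_resNat K₀
  have : IsIso (DerivedCategory.Q.map (resNat.app K₀)) :=
    (DerivedCategory.isIso_Q_map_iff_quasiIso _ _).2 inferInstance
  exact ⟨resFunctor.obj K₀, skf_resFunctor K₀, flat_resFunctor K₀,
    ⟨asIso (DerivedCategory.Q.map (resNat.app K₀)) ≪≫ DerivedCategory.Q.objObjPreimageIso E⟩⟩

section comp

variable (g : Y ⟶ Z)

/-- `f^* g^* ⟶ (gf)^*` on homotopy categories -/
noncomputable def pullCompKh : (Scheme.Modules.pullback g).mapHomotopyCategory (ComplexShape.up ℤ) ⋙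
    (Scheme.Modules.pullback f).mapHomotopyCategory (ComplexShape.up ℤ) ⟶
      (Scheme.Modules.pullback (f ≫ g)).mapHomotopyCategory (ComplexShape.up ℤ) :=
  { app := fun C => (HomotopyCategory.quotient _ _).map
      ((NatTrans.mapHomologicalComplex (Scheme.Modules.pullbackComp f g).hom (ComplexShape.up ℤ)).app C.as)
    naturality := fun C D h => by
      obtain ⟨h', rfl⟩ := (HomotopyCategory.quotient _ _).map_surjective h
      show (HomotopyCategory.quotient _ _).map ((pullCx f).map ((pullCx g).map h')) ≫
          (HomotopyCategory.quotient _ _).map _ =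
        (HomotopyCategory.quotient _ _).map _ ≫ (HomotopyCategory.quotient _ _).map ((pullCx (f ≫ g)).map h')
      rw [← Functor.map_comp, ← Functor.map_comp]
      refine congrArg _ (HomologicalComplex.hom_ext _ _ fun n => ?_)
      exact (Scheme.Modules.pullbackComp f g).hom.naturality (h'.f n) }

variable [DCoh.HasLpull f] [DCoh.HasLpull g] [DCoh.HasLpull (f ≫ g)]

noncomputable def compBeta : DerivedCategory.Qh ⋙ (DCoh.Lpull g ⋙ DCoh.Lpull f) ⟶ DCoh.pullKh (f ≫ g) :=
  Functor.whiskerRight ((DCoh.pullKh g).totalLeftDerivedCounit DerivedCategory.Qh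
      (HomotopyCategory.quasiIso Z.Modules (ComplexShape.up ℤ))) (DCoh.Lpull f) ≫
    Functor.whiskerLeft ((Scheme.Modules.pullback g).mapHomotopyCategory (ComplexShape.up ℤ))
      ((DCoh.pullKh f).totalLeftDerivedCounit DerivedCategory.Qh
        (HomotopyCategory.quasiIso Y.Modules (ComplexShape.up ℤ))) ≫
    Functor.whiskerRight (pullCompKh f g) DerivedCategory.Qh

lemma isIso_compBeta {K : CochainComplex Z.Modules ℤ} (hK : SKF K) :
    IsIso ((compBeta f g).app ((HomotopyCategory.quotient _ _).obj K)) := by
  have h1 : IsIso ((DCoh.Lpull f).map (counit g K)) := by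
    have := isIso_counit g hK
    infer_instance
  have h2 : IsIso (counit f ((pullCx g).obj K)) := isIso_counit f (H7StalkPull.skf_pullback g hK)
  have : IsIso ((NatTrans.mapHomologicalComplex (Scheme.Modules.pullbackComp f g).hom (ComplexShape.up ℤ)).app K) :=
    (inferInstance : IsIso ((NatIso.mapHomologicalComplex (Scheme.Modules.pullbackComp f g) (ComplexShape.up ℤ)).hom.app K))
  have h3 : IsIso (DerivedCategory.Qh.map ((pullCompKh f g).app ((HomotopyCategory.quotient _ _).obj K))) :=
    inferInstanceAs (IsIso (DerivedCategory.Qh.map ((HomotopyCategory.quotient _ _).map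
      ((NatTrans.mapHomologicalComplex (Scheme.Modules.pullbackComp f g).hom (ComplexShape.up ℤ)).app K))))
  have h4 := @IsIso.comp_isIso _ _ _ _ _ _ _ h1 (@IsIso.comp_isIso _ _ _ _ _ _ _ h2 h3)
  exact h4

theorem lpull_comp : Nonempty (DCoh.Lpull g ⋙ DCoh.Lpull f ≅ DCoh.Lpull (f ≫ g)) := by
  let γ := (DCoh.Lpull (f ≫ g)).leftDerivedLift
    ((DCoh.pullKh (f ≫ g)).totalLeftDerivedCounit DerivedCategory.Qh
      (HomotopyCategory.quasiIso Z.Modules (ComplexShape.up ℤ)))
    (HomotopyCategory.quasiIso Z.Modules (ComplexShape.up ℤ)) _ (compBeta f g)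
  have hγ : ∀ (K : CochainComplex Z.Modules ℤ), SKF K →
      IsIso (γ.app (DerivedCategory.Qh.obj ((HomotopyCategory.quotient _ _).obj K))) := fun K hK => by
    have := isIso_compBeta f g hK
    have := isIso_counit (f ≫ g) hK
    have e : γ.app (DerivedCategory.Qh.obj ((HomotopyCategory.quotient _ _).obj K)) ≫ counit (f ≫ g) K =
        (compBeta f g).app ((HomotopyCategory.quotient _ _).obj K) :=
      (DCoh.Lpull (f ≫ g)).leftDerived_fac_app _ (HomotopyCategory.quasiIso Z.Modules (ComplexShape.up ℤ)) _ _ _
    have : IsIso (γ.app (DerivedCategory.Qh.obj ((HomotopyCategory.quotient _ _).obj K)) ≫ counit (f ≫ g) K) :=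
      e.symm ▸ isIso_compBeta f g hK
    exact IsIso.of_isIso_comp_right _ (counit (f ≫ g) K)
  have : ∀ E, IsIso (γ.app E) := fun E => by
    obtain ⟨K, hK, -, ⟨e⟩⟩ := exists_skf E
    have := hγ K hK
    exact (NatTrans.isIso_app_iff_of_iso γ ((DerivedCategory.quotientCompQhIso Z.Modules).app K ≪≫ e)).1 this
  have := NatIso.isIso_of_isIso_app γ
  exact ⟨asIso γ⟩

end comp

end Groth.Agent.H7LpullCalc
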