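import Groth.Agent.Lib.H7PerfPull
import Mathlib

/-! Derived pullback and upper bounds on cohomology; pseudo-coherence. -/

universe u v w
open CategoryTheory Limits AlgebraicGeometry HomologicalComplex Pretriangulated

namespace Groth.Agent.H7PseudoPull
open Groth.Agent H7KFlatMod H7KFlatSheaf H7HasLpull H7LpullCalc H7TorAmp H7PerfPull

attribute [local instance] HasDerivedCategory.standard

lemma hom_to_single_null {C : Type v} [Category.{w} C] [Abelian C] {K : CochainComplex C ℤ} [K.IsKProjective]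
    {N : C} {i : ℤ} (hK : ∀ j, i ≤ j → K.ExactAt j) (φ : K ⟶ (CochainComplex.singleFunctor C i).obj N) :
    Nonempty (Homotopy φ 0) := by
  have hac : (K.truncGE i).Acyclic := fun j => by
    rcases lt_or_ge j i with hj | hj
    · exact CochainComplex.exactAt_of_isGE _ i j hj
    · have := K.quasiIsoAt_πTruncGE i j hj
      exact (exactAt_iff_of_quasiIsoAt (K.πTruncGE i) j).1 (hK j hj)
  obtain ⟨h⟩ := CochainComplex.IsKProjective.nonempty_homotopy_zero (K.πTruncGE i) hac
  have e : φ = K.πTruncGE i ≫ CochainComplex.truncGEMap φ i ≫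
      inv (((CochainComplex.singleFunctor C i).obj N).πTruncGE i) := by
    rw [← Category.assoc, CochainComplex.πTruncGE_naturality, Category.assoc, IsIso.hom_inv_id, Category.comp_id]
  exact ⟨(Homotopy.ofEq e).trans ((h.compRight _).trans (Homotopy.ofEq zero_comp))⟩

lemma exactAt_of_adjunction {C : Type v} [Category.{w} C] [Abelian C] {D : Type*} [Category D] [Abelian D]
    [EnoughInjectives D] {F : C ⥤ D} [F.Additive] {G : D ⥤ C} (adj : F ⊣ G)
    {K : CochainComplex C ℤ} [K.IsKProjective] {m : ℤ} (hK : ∀ j, m ≤ j → K.ExactAt j) (i : ℤ) (hi : m ≤ i) :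
    ((F.mapHomologicalComplex (ComplexShape.up ℤ)).obj K).ExactAt i := by
  rw [exactAt_iff' _ (i - 1) i (i + 1) (by simp) (by simp), ShortComplex.exact_iff_kernel_ι_comp_cokernel_π_zero]
  show kernel.ι (F.map (K.d i (i + 1))) ≫ cokernel.π (F.map (K.d (i - 1) i)) = 0
  let ι := Injective.ι (cokernel (F.map (K.d (i - 1) i)))
  let ψ : K.X i ⟶ G.obj (Injective.under (cokernel (F.map (K.d (i - 1) i)))) :=
    adj.homEquiv _ _ (cokernel.π (F.map (K.d (i - 1) i)) ≫ ι)
  have hψ : ∀ j, (ComplexShape.up ℤ).Rel j i → K.d j i ≫ ψ = 0 := fun j hj => by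
    have hj' : j + 1 = i := hj
    obtain rfl : j = i - 1 := by omega
    rw [← adj.homEquiv_naturality_left, cokernel.condition_assoc, zero_comp, adj.homEquiv_unit]
    have := adj.right_adjoint_additive
    rw [Functor.map_zero, comp_zero]
  let f : K ⟶ (HomologicalComplex.single C (ComplexShape.up ℤ) i).obj
      (G.obj (Injective.under (cokernel (F.map (K.d (i - 1) i))))) :=
    HomologicalComplex.mkHomToSingle ψ hψ
  obtain ⟨h⟩ : Nonempty (Homotopy f 0) := hom_to_single_null (fun j hj => hK j (hi.trans hj)) f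
  let g := h.hom (i + 1) i ≫ (HomologicalComplex.singleObjXSelf (ComplexShape.up ℤ) i _).hom
  have hf : f.f i ≫ (HomologicalComplex.singleObjXSelf (ComplexShape.up ℤ) i
      (G.obj (Injective.under (cokernel (F.map (K.d (i - 1) i)))))).hom = ψ := by
    simp [f]
  have hg : ψ = K.d i (i + 1) ≫ g := by
    have e := h.comm i
    rw [HomologicalComplex.zero_f, add_zero, dNext_eq _ (show (ComplexShape.up ℤ).Rel i (i + 1) from rfl),
      prevD_eq _ (show (ComplexShape.up ℤ).Rel (i - 1) i by show i - 1 + 1 = i; omega)] at e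
    rw [← hf, e, HomologicalComplex.single_obj_d, comp_zero, add_zero, Category.assoc]
  have hg' : cokernel.π (F.map (K.d (i - 1) i)) ≫ ι = F.map (K.d i (i + 1)) ≫ (adj.homEquiv _ _).symm g := by
    apply (adj.homEquiv _ _).injective
    rw [adj.homEquiv_naturality_left, Equiv.apply_symm_apply]
    exact hg
  rw [← cancel_mono ι, Category.assoc, hg', kernel.condition_assoc, zero_comp, zero_comp]

section ring

variable {A B : Type u} [CommRing A] [CommRing B] (φ : A →+* B)

theorem exactAt_extendScalars {C : CochainComplex (ModuleCat.{u} A) ℤ} (hC : KF A C) {m : ℤ}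
    (hC' : ∀ j, m ≤ j → C.ExactAt j) (i : ℤ) (hi : m ≤ i) :
    (((ModuleCat.extendScalars φ).mapHomologicalComplex (ComplexShape.up ℤ)).obj C).ExactAt i := by
  obtain ⟨P, p, hP, hp⟩ := H5KFlat.exists_nice_resolution C
  have := hP.kproj
  have h1 := exactAt_of_adjunction (ModuleCat.extendRestrictScalarsAdj φ) (K := P) (fun j hj => (exactAt_iff_of_quasiIsoAt p j).2 (hC' j hj)) i hi
  have : QuasiIso (((ModuleCat.extendScalars φ).mapHomologicalComplex (ComplexShape.up ℤ)).map p) := by
    rw [quasiIso_iff_acyclic_cone]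
    exact H5KFlat.acyclic_of_iso (CochainComplex.mappingCone.mapHomologicalComplexIso p (ModuleCat.extendScalars φ))
      (acyclic_extendScalars φ (H5KFlat.kflat_cone _ p hP.kflat hC) ((quasiIso_iff_acyclic_cone p).1 inferInstance))
  exact (exactAt_iff_of_quasiIsoAt (((ModuleCat.extendScalars φ).mapHomologicalComplex (ComplexShape.up ℤ)).map p) i).1 h1

end ring

variable {X Y : Scheme.{u}}

theorem exactAt_pullback (f : X ⟶ Y) {C : CochainComplex Y.Modules ℤ} (hC : SKF C) {m : ℤ}
    (h : ∀ j, m ≤ j → C.ExactAt j) (i : ℤ) (hi : m ≤ i) : ((pullCx f).obj C).ExactAt i :=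
  ((H7StalkDetect.jointly X).exactAt_iff _ i).2 fun x =>
    (exactAt_extendScalars (f.stalkMap x).hom (hC (f.base x))
      (fun j hj => ((H7StalkDetect.jointly Y).exactAt_iff C j).1 (h j hj) (f.base x)) i hi).of_iso
      (H7StalkPull.stCxPullIso f x C).symm

lemma isZero_HD_Q_iff (C : CochainComplex X.Modules ℤ) (i : ℤ) :
    IsZero (DCoh.HD (DerivedCategory.Q.obj C) i) ↔ C.ExactAt i :=
  (Iso.isZero_iff ((DerivedCategory.homologyFunctorFactors X.Modules i).app C)).trans
    (exactAt_iff_isZero_homology _ _).symm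

/-- `φ` is iso on `H^i`, `i > m`, and epi on `H^m` -/
def MIso {A B : DCoh.D X} (m : ℤ) (α : A ⟶ B) : Prop :=
  (∀ i : ℤ, m < i → IsIso ((DerivedCategory.homologyFunctor X.Modules i).map α)) ∧
    Epi ((DerivedCategory.homologyFunctor X.Modules m).map α)

lemma MIso.comp_iso {A A' B B' : DCoh.D X} {m : ℤ} {α : A ⟶ B} (h : MIso m α) (e : A' ≅ A) (e' : B ≅ B') :
    MIso m (e.hom ≫ α ≫ e'.hom) := by
  refine ⟨fun i hi => ?_, ?_⟩
  · have := h.1 i hi
    rw [Functor.map_comp, Functor.map_comp]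
    infer_instance
  · have := h.2
    rw [Functor.map_comp, Functor.map_comp]
    infer_instance

lemma mIso_iff (T : Triangle (DCoh.D X)) (hT : T ∈ distinguishedTriangles) (m : ℤ) :
    MIso m T.mor₁ ↔ ∀ i, m ≤ i → IsZero (DCoh.HD T.obj₃ i) := by
  have hepi := fun i => DerivedCategory.HomologySequence.epi_homologyMap_mor₁_iff T hT i
  have hmono := fun i => DerivedCategory.HomologySequence.mono_homologyMap_mor₁_iff T hT i (i + 1) rfl
  constructor
  · intro h i hi
    have he : Epi ((DerivedCategory.homologyFunctor X.Modules i).map T.mor₁) := by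
      rcases hi.eq_or_lt with rfl | hlt
      · exact h.2
      · have := h.1 i hlt; infer_instance
    have hm : Mono ((DerivedCategory.homologyFunctor X.Modules (i + 1)).map T.mor₁) := by
      have := h.1 (i + 1) (by omega); infer_instance
    exact (DerivedCategory.HomologySequence.exact₃ T hT i (i + 1)).isZero_X₂ ((hepi i).1 he) ((hmono i).1 hm)
  · intro h
    have he : ∀ i, m ≤ i → Epi ((DerivedCategory.homologyFunctor X.Modules i).map T.mor₁) := fun i hi =>
      (hepi i).2 ((h i hi).eq_of_tgt _ _)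
    refine ⟨fun i hi => ?_, he m le_rfl⟩
    have hm : Mono ((DerivedCategory.homologyFunctor X.Modules (i - 1 + 1)).map T.mor₁) :=
      (hmono (i - 1)).2 ((h (i - 1) (by omega)).eq_of_src _ _)
    rw [show i - 1 + 1 = i by omega] at hm
    have := he i hi.le
    exact isIso_of_mono_of_epi _

/-- pullback preserves `m`-isomorphisms between complexes with K-flat stalks -/
theorem exists_mIso_pullback (f : X ⟶ Y) {P K : CochainComplex Y.Modules ℤ} (hP : SKF P) (hK : SKF K) {m : ℤ}
    {α : DerivedCategory.Q.obj P ⟶ DerivedCategory.Q.obj K} (hα : MIso m α) :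
    ∃ β : DerivedCategory.Q.obj ((pullCx f).obj P) ⟶ DerivedCategory.Q.obj ((pullCx f).obj K), MIso m β := by
  obtain ⟨Z, g, δ, hT⟩ := Pretriangulated.distinguished_cocone_triangle α
  obtain ⟨R, S, φ, hR, hS, ⟨e⟩⟩ := exists_skf_cone _ hT
  have hz := (mIso_iff _ hT m).1 hα
  have hc : ∀ j, m ≤ j → (CochainComplex.mappingCone φ).ExactAt j := fun j hj =>
    (isZero_HD_Q_iff _ j).1
      ((hz j hj).of_iso ((DerivedCategory.homologyFunctor Y.Modules j).mapIso (Triangle.π₃.mapIso e)).symm)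
  have hβ : MIso m (DerivedCategory.Q.map ((pullCx f).map φ)) :=
    (mIso_iff (DerivedCategory.Q.mapTriangle.obj (CochainComplex.mappingCone.triangle ((pullCx f).map φ)))
      ((DerivedCategory.mem_distTriang_iff _).2 ⟨_, _, _, ⟨Iso.refl _⟩⟩) m).2 fun i hi =>
      (isZero_HD_Q_iff _ i).2 ((exactAt_pullback f (skf_cone φ hR hS) hc i hi).of_iso
        (CochainComplex.mappingCone.mapHomologicalComplexIso φ (Scheme.Modules.pullback f)))
  exact ⟨_, hβ.comp_iso (pullQIso f hP hR (Triangle.π₁.mapIso e)) (pullQIso f hS hK (Triangle.π₂.mapIso e).symm)⟩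

theorem isPseudoCoherent_lpull (f : X ⟶ Y) [DCoh.HasLpull f] {m : ℤ} {E : DCoh.D Y}
    (hE : DCoh.IsPseudoCoherentD m E) : DCoh.IsPseudoCoherentD m ((DCoh.Lpull f).obj E) := fun x => by
  obtain ⟨V, hxV, hV⟩ := hE (f.base x)
  obtain ⟨K, hK, -, ⟨eK⟩⟩ := exists_skf E
  obtain ⟨P, α, hP, h1, h2⟩ := hV K ⟨eK⟩
  refine ⟨f ⁻¹ᵁ V, hxV, fun F' ⟨eF⟩ => ?_⟩
  obtain ⟨β, hβ⟩ := exists_mIso_pullback (f ∣_ V) (skf_of_strictlyPerfect hP) (skf_restrict hK V) (α := α) ⟨h1, h2⟩
  let e : DerivedCategory.Q.obj ((pullCx (f ∣_ V)).obj ((DCoh.restrictCx V).obj K)) ≅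
      DerivedCategory.Q.obj ((DCoh.restrictCx (f ⁻¹ᵁ V)).obj F') :=
    (DerivedCategory.Q.mapIso (cxPullRestrictIso f _ (f ∣_ V) (morphismRestrict_ι f V) K)).symm ≪≫
      (restrictQIso _ (eF ≪≫ (DCoh.Lpull f).mapIso eK.symm ≪≫ lpullIso f hK)).symm
  have := hβ.comp_iso (Iso.refl _) e
  exact ⟨_, _, strictlyPerfect_pullback _ hP, this.1, this.2⟩

end Groth.Agent.H7PseudoPull
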