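/-
pseudo-coherence and derived base change
-/
import Mathlib
import Groth.Prelude.Def_DRing2
import Groth.Prelude.Def_DDual2
import Groth.Agent.Lib.H5DTenMix
import Groth.Agent.Lib.H5Perf
import Groth.Agent.Lib.H7PseudoPull

universe u v w

open CategoryTheory Limits Pretriangulated HomologicalComplex Groth.Agent

namespace Groth.Agent.PseudoCoherentBaseChange


attribute [local instance] HasDerivedCategory.standard

theorem mIso_iff_cone {C : Type v} [Category.{w} C] [Abelian C] [HasDerivedCategory C]
    {E P : CochainComplex C ℤ} (f : E ⟶ P) (m : ℤ) :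
    ((∀ i : ℤ, m < i → IsIso ((DerivedCategory.homologyFunctor C i).map (DerivedCategory.Q.map f))) ∧
      Epi ((DerivedCategory.homologyFunctor C m).map (DerivedCategory.Q.map f))) ↔
    ∀ i, m ≤ i → (CochainComplex.mappingCone f).ExactAt i := by
  let T := DerivedCategory.Q.mapTriangle.obj (CochainComplex.mappingCone.triangle f)
  have hT : T ∈ distTriang _ := (DerivedCategory.mem_distTriang_iff _).2 ⟨_, _, _, ⟨Iso.refl _⟩⟩
  have hz : ∀ i, IsZero ((DerivedCategory.homologyFunctor C i).obj T.obj₃) ↔ (CochainComplex.mappingCone f).ExactAt i :=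
    fun i => (Iso.isZero_iff ((DerivedCategory.homologyFunctorFactors C i).app _)).trans
      (exactAt_iff_isZero_homology _ _).symm
  have hepi := fun i => DerivedCategory.HomologySequence.epi_homologyMap_mor₁_iff T hT i
  have hmono := fun i => DerivedCategory.HomologySequence.mono_homologyMap_mor₁_iff T hT i (i + 1) rfl
  constructor
  · intro h i hi
    rw [← hz]
    have he : Epi ((DerivedCategory.homologyFunctor C i).map T.mor₁) := by
      rcases hi.eq_or_lt with rfl | hlt
      · exact h.2
      · have := h.1 i hlt
        exact IsIso.epi_of_iso ((DerivedCategory.homologyFunctor C i).map (DerivedCategory.Q.map f))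
    have hm : Mono ((DerivedCategory.homologyFunctor C (i + 1)).map T.mor₁) := by
      have := h.1 (i + 1) (by omega)
      exact IsIso.mono_of_iso ((DerivedCategory.homologyFunctor C (i + 1)).map (DerivedCategory.Q.map f))
    exact (DerivedCategory.HomologySequence.exact₃ T hT i (i + 1)).isZero_X₂ ((hepi i).1 he) ((hmono i).1 hm)
  · intro h
    have he : ∀ i, m ≤ i → Epi ((DerivedCategory.homologyFunctor C i).map T.mor₁) := fun i hi =>
      (hepi i).2 (((hz i).2 (h i hi)).eq_of_tgt _ _)
    refine ⟨fun i hi => ?_, he m le_rfl⟩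
    have hm : Mono ((DerivedCategory.homologyFunctor C (i - 1 + 1)).map T.mor₁) :=
      (hmono (i - 1)).2 (((hz (i-1)).2 (h (i - 1) (by omega))).eq_of_src _ _)
    rw [show i - 1 + 1 = i by omega] at hm
    have := he i hi.le
    exact isIso_of_mono_of_epi ((DerivedCategory.homologyFunctor C i).map T.mor₁)

section

variable {A B : Type u} [CommRing A] [CommRing B] (φ : A →+* B)

theorem lResolving_Qh : H5DTen.LResolving (DerivedCategory.Qh (C := ModuleCat.{u} A))
    (fun X : HomotopyCategory (ModuleCat.{u} A) (ComplexShape.up ℤ) => CochainComplex.IsKProjective X.as) where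
  surj I X hI ψ := by
    obtain ⟨K, rfl⟩ := HomotopyCategory.quotient_obj_surjective I
    have : CochainComplex.IsKProjective K := hI
    exact (CochainComplex.IsKProjective.Qh_map_bijective K X).surjective ψ
  ess Y := by
    obtain ⟨K, f, hK, hf⟩ := H5KFlat.exists_nice_resolution (DerivedCategory.Q.objPreimage Y)
    exact ⟨(HomotopyCategory.quotient _ _).obj K, hK.kproj,
      ⟨(DerivedCategory.quotientCompQhIso _).app K ≪≫ asIso (DerivedCategory.Q.map f) ≪≫
        DerivedCategory.Q.objObjPreimageIso Y⟩⟩

theorem lCompat_baseChange : H5DTen.LCompat (DerivedCategory.Qh (C := ModuleCat.{u} A))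
    (fun X : HomotopyCategory (ModuleCat.{u} A) (ComplexShape.up ℤ) => CochainComplex.IsKProjective X.as)
    (DRing.baseChangeKh φ) := by
  intro I X hI f g h
  obtain ⟨K, rfl⟩ := HomotopyCategory.quotient_obj_surjective I
  have : CochainComplex.IsKProjective K := hI
  rw [(CochainComplex.IsKProjective.Qh_map_bijective K X).injective h]

theorem lBaseChange_iso [DRing.HasLBaseChange φ] (K : DRing.Cx A) [hK : CochainComplex.IsKProjective K] :
    Nonempty ((DRing.LBaseChange φ).obj (DRing.toD K) ≅
      DRing.toD (((ModuleCat.extendScalars.{u, u, u} φ).mapHomologicalComplex (ComplexShape.up ℤ)).obj K)) := by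
  let c := (DRing.baseChangeKh φ).totalLeftDerivedCounit DerivedCategory.Qh
    (HomotopyCategory.quasiIso (ModuleCat.{u} A) (ComplexShape.up ℤ))
  have h := lResolving_Qh.isIso_counit (lCompat_baseChange φ) (HomotopyCategory.quasiIso (ModuleCat.{u} A) (ComplexShape.up ℤ))
    (DRing.LBaseChange φ) c ((HomotopyCategory.quotient _ _).obj K) hK
  exact ⟨(DRing.LBaseChange φ).mapIso ((DerivedCategory.quotientCompQhIso _).app K).symm ≪≫
    @asIso _ _ _ _ (c.app ((HomotopyCategory.quotient _ _).obj K)) h ≪≫
    (DerivedCategory.quotientCompQhIso _).app _⟩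

theorem finite_free_extend (M : ModuleCat.{u} A) [Module.Finite A M] [Module.Free A M] :
    Module.Finite B ((ModuleCat.extendScalars.{u, u, u} φ).obj M) ∧
      Module.Free B ((ModuleCat.extendScalars.{u, u, u} φ).obj M) := by
  letI := φ.toAlgebra
  exact ⟨inferInstanceAs (Module.Finite B (TensorProduct A B M)), inferInstanceAs (Module.Free B (TensorProduct A B M))⟩

theorem projective_finite_free (M : ModuleCat.{u} A) (h : Module.Finite A M ∧ Module.Free A M) :
    Module.Finite A M ∧ Module.Projective A M := by
  haveI := h.2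
  exact ⟨h.1, inferInstance⟩

end

end Groth.Agent.PseudoCoherentBaseChange
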