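import Groth.Agent.Lib.H7TildeKFlat
import Groth.Agent.Lib.H7LpullCalc
import Groth.Agent.Lib.H5DTenMix
import Groth.Agent.Lib.PseudoCoherentBaseChange
import Groth.Prelude.Def_DDual2
import Groth.Prelude.Def_DCoh2
import Mathlib

/-! Derived base change of modules corresponds to derived pullback of the associated sheaves. -/

universe u v₁ v₂ v₃ u₁ u₂ u₃
open CategoryTheory Limits AlgebraicGeometry Opposite

namespace Groth.Agent.H7TildeBC
open Groth.Agent

attribute [local instance] HasDerivedCategory.standard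

section generic

variable {C : Type u₁} [Category.{v₁} C] {D : Type u₂} [Category.{v₂} D] {E : Type u₃} [Category.{v₃} E]

/-- two functors computed by the same functor on a resolving class are isomorphic -/
theorem nonempty_iso {L : C ⥤ D} {P : ObjectProperty C} (hR : H5DTen.LResolving L P) {F : C ⥤ E}
    {H G : D ⥤ E} (α : L ⋙ H ⟶ F) (β : L ⋙ G ⟶ F) (hα : ∀ I, P I → IsIso (α.app I))
    (hβ : ∀ I, P I → IsIso (β.app I)) : Nonempty (H ≅ G) := by
  have := fun Y => hα _ (hR.res_mem Y)
  have := fun Y => hβ _ (hR.res_mem Y)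
  let e : ∀ Y, H.obj (L.obj (hR.res Y)) ≅ G.obj (L.obj (hR.res Y)) := fun Y =>
    asIso (α.app (hR.res Y)) ≪≫ (asIso (β.app (hR.res Y))).symm
  refine ⟨NatIso.ofComponents
    (fun Y => H.mapIso (hR.resIso Y).symm ≪≫ e Y ≪≫ G.mapIso (hR.resIso Y)) fun {Y Y'} h => ?_⟩
  have hg : L.map (hR.mapRes h) = (hR.resIso Y).hom ≫ h ≫ (hR.resIso Y').inv :=
    H5DTen.LResolving.map_lift _ _ _
  have key : H.map (L.map (hR.mapRes h)) ≫ (e Y').hom = (e Y).hom ≫ G.map (L.map (hR.mapRes h)) := by
    have h1 := α.naturality (hR.mapRes h)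
    have h2 := β.naturality (hR.mapRes h)
    dsimp at h1 h2
    simp only [e, Iso.trans_hom, asIso_hom, Iso.symm_hom, asIso_inv, Category.assoc]
    rw [← cancel_mono (β.app (hR.res Y')), Category.assoc, Category.assoc, IsIso.inv_hom_id, Category.comp_id,
      Category.assoc, Category.assoc, h2, IsIso.inv_hom_id_assoc, h1]
  rw [hg] at key
  simp only [Functor.map_comp, Category.assoc] at key
  show H.map h ≫ (H.map (hR.resIso Y').inv ≫ (e Y').hom ≫ G.map (hR.resIso Y').hom) =
    (H.map (hR.resIso Y).inv ≫ (e Y).hom ≫ G.map (hR.resIso Y).hom) ≫ G.map h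
  rw [← cancel_epi (H.map (hR.resIso Y).hom), reassoc_of% key]
  simp [← Functor.map_comp, ← Functor.map_comp_assoc]

end generic

instance tilde_additive (A : Type u) [CommRing A] : (tilde.functor (CommRingCat.of A)).Additive :=
  (inferInstance : ∀ R : CommRingCat.{u}, (tilde.functor R).Additive) (CommRingCat.of A)

instance tilde_finCol (A : Type u) [CommRing A] : PreservesFiniteColimits (tilde.functor (CommRingCat.of A)) :=
  (inferInstance : ∀ R : CommRingCat.{u}, PreservesFiniteColimits (tilde.functor R)) (CommRingCat.of A)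

variable {A B : Type u} [CommRing A] [CommRing B] (φ : A →+* B)

/-- global sections of a pushforward -/
noncomputable def pushΓIso :
    Scheme.Modules.pushforward (Spec.map (CommRingCat.ofHom φ)) ⋙ moduleSpecΓFunctor (R := CommRingCat.of A) ≅
      moduleSpecΓFunctor (R := CommRingCat.of B) ⋙ ModuleCat.restrictScalars.{u} φ :=
  NatIso.ofComponents
    (fun M => LinearEquiv.toModuleIso
      (show ((Scheme.Modules.pushforward (Spec.map (CommRingCat.ofHom φ)) ⋙
            moduleSpecΓFunctor (R := CommRingCat.of A)).obj M : ModuleCat.{u} A) ≃ₗ[A]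
          ((moduleSpecΓFunctor (R := CommRingCat.of B) ⋙ ModuleCat.restrictScalars.{u} φ).obj M : ModuleCat.{u} A) from
      { toFun := fun s => s
        invFun := fun s => s
        map_add' := fun _ _ => rfl
        map_smul' := fun r s => congrArg (fun t : Γ(Spec (CommRingCat.of B), ⊤) =>
          t • (show M.presheaf.obj (op ⊤) from s))
          (ConcreteCategory.congr_hom (Scheme.ΓSpecIso_inv_naturality (CommRingCat.ofHom φ)).symm r)
        left_inv := fun _ => rfl
        right_inv := fun _ => rfl }))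
    fun _ => rfl

/-- pullback of `M~` -/
noncomputable def pullTildeIso :
    tilde.functor (CommRingCat.of A) ⋙ Scheme.Modules.pullback (Spec.map (CommRingCat.ofHom φ)) ≅
      ModuleCat.extendScalars.{u, u, u} φ ⋙ tilde.functor (CommRingCat.of B) :=
  ((tilde.adjunction (R := CommRingCat.of A)).comp
      (Scheme.Modules.pullbackPushforwardAdjunction _)).leftAdjointUniq
    (((ModuleCat.extendRestrictScalarsAdj.{u, u, u} φ).comp
      (tilde.adjunction (R := CommRingCat.of B))).ofNatIsoRight (pushΓIso φ).symm)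

/-- `f^*(K~) ≅ (B ⊗ K)~` on homotopy categories -/
noncomputable def pullTildeKh :
    (tilde.functor (CommRingCat.of A)).mapHomotopyCategory (ComplexShape.up ℤ) ⋙
        (Scheme.Modules.pullback (Spec.map (CommRingCat.ofHom φ))).mapHomotopyCategory (ComplexShape.up ℤ) ≅
      (ModuleCat.extendScalars.{u, u, u} φ).mapHomotopyCategory (ComplexShape.up ℤ) ⋙
        (tilde.functor (CommRingCat.of B)).mapHomotopyCategory (ComplexShape.up ℤ) :=
  NatIso.ofComponents
    (fun C => (HomotopyCategory.quotient _ _).mapIso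
      (HomologicalComplex.Hom.isoOfComponents (fun n => (pullTildeIso φ).app (C.as.X n))
        fun i j _ => ((pullTildeIso φ).hom.naturality (C.as.d i j)).symm))
    fun {C D} h => by
      obtain ⟨h', rfl⟩ := (HomotopyCategory.quotient _ _).map_surjective h
      exact ((HomotopyCategory.quotient _ _).map_comp _ _).symm.trans
        ((congrArg _ (HomologicalComplex.hom_ext _ _ fun n => (pullTildeIso φ).hom.naturality (h'.f n))).trans
          ((HomotopyCategory.quotient _ _).map_comp _ _))

variable [PreservesFiniteLimits (tilde.functor (CommRingCat.of A))]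
  [PreservesFiniteLimits (tilde.functor (CommRingCat.of B))]
  [DRing.HasLBaseChange φ] [DCoh.HasLpull (Spec.map (CommRingCat.ofHom φ))]

noncomputable def alpha :
    DerivedCategory.Qh ⋙ (DCoh.tildeD (CommRingCat.of A) ⋙ DCoh.Lpull (Spec.map (CommRingCat.ofHom φ))) ⟶
      (ModuleCat.extendScalars.{u, u, u} φ).mapHomotopyCategory (ComplexShape.up ℤ) ⋙
        ((tilde.functor (CommRingCat.of B)).mapHomotopyCategory (ComplexShape.up ℤ) ⋙ DerivedCategory.Qh) :=
  Functor.whiskerRight (tilde.functor (CommRingCat.of A)).mapDerivedCategoryFactorsh.hom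
      (DCoh.Lpull (Spec.map (CommRingCat.ofHom φ))) ≫
    Functor.whiskerLeft ((tilde.functor (CommRingCat.of A)).mapHomotopyCategory (ComplexShape.up ℤ))
      ((DCoh.pullKh (Spec.map (CommRingCat.ofHom φ))).totalLeftDerivedCounit DerivedCategory.Qh
        (HomotopyCategory.quasiIso (Spec (CommRingCat.of A)).Modules (ComplexShape.up ℤ))) ≫
    Functor.whiskerRight (pullTildeKh φ).hom DerivedCategory.Qh

noncomputable def beta :
    DerivedCategory.Qh ⋙ (DRing.LBaseChange φ ⋙ DCoh.tildeD (CommRingCat.of B)) ⟶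
      (ModuleCat.extendScalars.{u, u, u} φ).mapHomotopyCategory (ComplexShape.up ℤ) ⋙
        ((tilde.functor (CommRingCat.of B)).mapHomotopyCategory (ComplexShape.up ℤ) ⋙ DerivedCategory.Qh) :=
  Functor.whiskerRight ((DRing.baseChangeKh φ).totalLeftDerivedCounit DerivedCategory.Qh
      (HomotopyCategory.quasiIso (ModuleCat.{u} A) (ComplexShape.up ℤ))) (DCoh.tildeD (CommRingCat.of B)) ≫
    Functor.whiskerLeft ((ModuleCat.extendScalars.{u, u, u} φ).mapHomotopyCategory (ComplexShape.up ℤ))
      (tilde.functor (CommRingCat.of B)).mapDerivedCategoryFactorsh.hom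

theorem lpull_tildeD :
    Nonempty (DRing.LBaseChange φ ⋙ DCoh.tildeD (CommRingCat.of B) ≅
      DCoh.tildeD (CommRingCat.of A) ⋙ DCoh.Lpull (Spec.map (CommRingCat.ofHom φ))) := by
  refine nonempty_iso PseudoCoherentBaseChange.lResolving_Qh (beta φ) (alpha φ) (fun I hI => ?_) (fun I hI => ?_)
  · have h := PseudoCoherentBaseChange.lResolving_Qh.isIso_counit (PseudoCoherentBaseChange.lCompat_baseChange φ)
      (HomotopyCategory.quasiIso (ModuleCat.{u} A) (ComplexShape.up ℤ)) (DRing.LBaseChange φ)
      ((DRing.baseChangeKh φ).totalLeftDerivedCounit DerivedCategory.Qh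
        (HomotopyCategory.quasiIso (ModuleCat.{u} A) (ComplexShape.up ℤ))) I hI
    exact @IsIso.comp_isIso _ _ _ _ _ _ _ ((DCoh.tildeD (CommRingCat.of B)).map_isIso _)
      ((tilde.functor (CommRingCat.of B)).mapDerivedCategoryFactorsh.app _).isIso_hom
  · obtain ⟨K, rfl⟩ := HomotopyCategory.quotient_obj_surjective I
    have : CochainComplex.IsKProjective K := hI
    have h2 := H7LpullCalc.isIso_counit (Spec.map (CommRingCat.ofHom φ))
      (H7TildeKFlat.skf_tilde (R := CommRingCat.of A) K (H5DTenMix.kflat_of_kproj K))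
    exact @IsIso.comp_isIso _ _ _ _ _ _ _
      ((DCoh.Lpull _).map_isIso ((tilde.functor (CommRingCat.of A)).mapDerivedCategoryFactorsh.hom.app _))
      (@IsIso.comp_isIso _ _ _ _ _ _ _ h2 (DerivedCategory.Qh.map_isIso ((pullTildeKh φ).hom.app _)))

end Groth.Agent.H7TildeBC
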