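import Groth.Agent.Lib.H7TildeEquiv
import Groth.Agent.Lib.H7TildeBC
import Groth.Agent.Lib.H7PerfTri
import Groth.Agent.Lib.H7Coprod
import Groth.Agent.Lib.LQAff
import Mathlib

/-! Quasi-coherence is local; `D_QCoh` is stable under coproducts and derived pullback. -/

universe u v₁ u₁
open CategoryTheory Limits AlgebraicGeometry Opposite

namespace Groth.Agent.H7QCoh
open Groth.Agent H7PerfTri H7LocLift H7KFlatSheaf

attribute [local instance] HasDerivedCategory.standard

variable {X Y : Scheme.{u}}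

set_option backward.isDefEq.respectTransparency false in
/-- a presentation over an affine open on which the module is quasi-coherent -/
lemma nonempty_presentation_over (M : X.Modules) {V : X.Opens} (hV : IsAffineOpen V)
    (h : (M.restrict hV.fromSpec).IsQuasicoherent) : Nonempty (SheafOfModules.Presentation.{u} (M.over V)) := by
  haveI := h
  haveI : IsIso (M.restrict hV.fromSpec).fromTildeΓ :=
    Scheme.Modules.isIso_fromTildeΓ_of_isQuasicoherent _
  let N := (modulesSpecToSheaf.obj (M.restrict hV.fromSpec)).presheaf.obj (op ⊤)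
  obtain ⟨p₀⟩ := LQcoh.nonempty_presentation_tilde N
  let p₁ : (M.restrict hV.fromSpec).Presentation :=
    SheafOfModules.Presentation.ofIsIso.{u, u, u}
      (asIso (M.restrict hV.fromSpec).fromTildeΓ).hom p₀
  let p₂ := Scheme.Modules.presentationRestrict hV.isoSpec.hom p₁
  let p₃ : (M.restrict V.ι).Presentation :=
    SheafOfModules.Presentation.ofIsIso.{u, u, u}
      (((Scheme.Modules.restrictFunctorComp hV.isoSpec.hom hV.fromSpec).symm ≪≫
        Scheme.Modules.restrictFunctorCongr (IsAffineOpen.isoSpec_hom_fromSpec hV)).app M).hom p₂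
  let e := Scheme.Modules.overEquiv V
  haveI : PreservesColimitsOfSize.{u, u} e.inverse := inferInstance
  let η : e.inverse.obj (SheafOfModules.unit _) ≅ SheafOfModules.unit (X.ringCatSheaf.over V) :=
    e.inverse.mapIso ((Scheme.Modules.restrictUnitIso V.ι).symm ≪≫
      ((Scheme.Modules.overFunctorEquiv V).app _).symm) ≪≫
      (e.unitIso.app _).symm
  exact ⟨SheafOfModules.Presentation.ofIsIso.{u, u, u}
    (e.inverse.mapIso ((Scheme.Modules.overFunctorEquiv V).app M).symm ≪≫
      (e.unitIso.app _).symm).hom (p₃.map e.inverse η.symm)⟩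

set_option backward.isDefEq.respectTransparency false in
/-- quasi-coherence is local -/
theorem isQCoh_of_local (M : X.Modules) (h : ∀ x : X, ∃ (R : CommRingCat.{u}) (j : Spec R ⟶ X) (_ : IsOpenImmersion j),
    x ∈ Set.range j.base ∧ Coh.IsQCoh ((Scheme.Modules.restrictFunctor j).obj M)) : Coh.IsQCoh M := by
  choose R j hj hx hq using h
  have := hj
  let V : X → X.Opens := fun x => (j x).opensRange
  have hV : ∀ x, IsAffineOpen (V x) := fun x => isAffineOpen_opensRange (j x)
  have : ∀ x, SheafOfModules.IsQuasicoherent.{u} (M.over (V x)) := fun x => by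
    have hr : Set.range (hV x).fromSpec.base ⊆ Set.range (j x).base := by
      rw [(hV x).range_fromSpec]; exact le_rfl
    let e := IsOpenImmersion.lift (j x) (hV x).fromSpec hr
    have he : e ≫ j x = (hV x).fromSpec := IsOpenImmersion.lift_fac _ _ _
    haveI : IsOpenImmersion (hV x).fromSpec := IsAffineOpen.isOpenImmersion_fromSpec (hV x)
    haveI : IsOpenImmersion (e ≫ j x) := he ▸ inferInstance
    haveI : IsOpenImmersion e := IsOpenImmersion.of_comp e (j x)
    haveI hq' : ((Scheme.Modules.restrictFunctor (j x)).obj M).IsQuasicoherent := hq x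
    have h2 : Coh.IsQCoh ((Scheme.Modules.restrictFunctor (hV x).fromSpec).obj M) :=
      H7AffineD.qcoh_of_iso (((Scheme.Modules.restrictFunctorComp e (j x)).symm ≪≫
        Scheme.Modules.restrictFunctorCongr he).app M)
        (Scheme.Modules.isQuasicoherent_restrictFunctor e ((Scheme.Modules.restrictFunctor (j x)).obj M))
    exact (nonempty_presentation_over M (hV x) h2).some.isQuasicoherent
  exact SheafOfModules.IsQuasicoherent.of_coversTop M V ((Opens.coversTop_iff _ _).2
    (eq_top_iff.2 fun x _ => TopologicalSpace.Opens.mem_iSup.2 ⟨x, hx x⟩))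

lemma isQCoh_restrict (j : Y ⟶ X) [IsOpenImmersion j] {M : X.Modules} (h : Coh.IsQCoh M) :
    Coh.IsQCoh ((Scheme.Modules.restrictFunctor j).obj M) :=
  have : M.IsQuasicoherent := h
  Scheme.Modules.isQuasicoherent_restrictFunctor j M

/-- cohomology of a restriction -/
noncomputable def hdRestrict (j : Y ⟶ X) [IsOpenImmersion j] (E : DCoh.D X) (i : ℤ) :
    DCoh.HD ((rD j).obj E) i ≅ (Scheme.Modules.restrictFunctor j).obj (DCoh.HD E i) :=
  (H5WayOut.mapDerived_H (Scheme.Modules.restrictFunctor j) E i).some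

theorem isQCohD_restrict (j : Y ⟶ X) [IsOpenImmersion j] {E : DCoh.D X} (h : DCoh.IsQCohD E) :
    DCoh.IsQCohD ((rD j).obj E) := fun i =>
  H7AffineD.qcoh_of_iso (hdRestrict j E i).symm (isQCoh_restrict j (h i))

/-- `D_QCoh` is local -/
theorem isQCohD_of_local (E : DCoh.D X) (h : ∀ x : X, ∃ (R : CommRingCat.{u}) (j : Spec R ⟶ X) (_ : IsOpenImmersion j),
    x ∈ Set.range j.base ∧ DCoh.IsQCohD ((rD j).obj E)) : DCoh.IsQCohD E := fun i => isQCoh_of_local _ fun x => by
  obtain ⟨R, j, hj, hx, hq⟩ := h x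
  exact ⟨R, j, hj, hx, H7AffineD.qcoh_of_iso (hdRestrict j E i) (hq i)⟩

/-- affine open immersions around a point, inside a given open -/
lemma exists_affine (x : X) (U : X.Opens) (hx : x ∈ U) : ∃ (R : CommRingCat.{u}) (j : Spec R ⟶ X) (_ : IsOpenImmersion j),
    x ∈ Set.range j.base ∧ Set.range j.base ⊆ (U : Set X) := by
  obtain ⟨_, ⟨V, hV, rfl⟩, hxV, hVU⟩ := X.isBasis_affineOpens.exists_subset_of_mem_open hx U.2
  refine ⟨Γ(X, V), hV.fromSpec, IsAffineOpen.isOpenImmersion_fromSpec hV, ?_, ?_⟩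
  · rw [hV.range_fromSpec]; exact hxV
  · rw [hV.range_fromSpec]; exact hVU

/-- coproducts of quasi-coherent modules -/
theorem isQCoh_sigma {T : Type u} (M : T → X.Modules) (h : ∀ t, Coh.IsQCoh (M t)) : Coh.IsQCoh (∐ M) := by
  refine isQCoh_of_local _ fun x => ?_
  obtain ⟨R, j, hj, hx, -⟩ := exists_affine x ⊤ trivial
  have : PreservesColimitsOfSize.{u, u} (Scheme.Modules.restrictFunctor j) :=
    (Scheme.Modules.restrictAdjunction j).leftAdjoint_preservesColimits
  exact ⟨R, j, hj, hx, H7AffineD.qcoh_of_iso (PreservesCoproduct.iso (Scheme.Modules.restrictFunctor j) M).symm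
    (LQcoh.isQuasicoherent_colimit _ fun t => isQCoh_restrict j (h t.as))⟩

section homology

variable {A : Type u₁} [Category.{v₁} A] [Abelian A] {T : Type v₁} [HasColimitsOfShape (Discrete T) A]
  [HasExactColimitsOfShape (Discrete T) A]

/-- homology commutes with exact coproducts -/
theorem homology_sigma (K : T → CochainComplex A ℤ) (i : ℤ) :
    Nonempty ((∐ K).homology i ≅ ∐ fun t => (K t).homology i) := by
  let K' : CochainComplex (Discrete T ⥤ A) ℤ :=
    { X := fun n => Discrete.functor fun t => (K t).X n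
      d := fun n m => Discrete.natTrans fun t => (K t.as).d n m
      shape := fun n m h => by ext t; exact (K t.as).shape n m h
      d_comp_d' := fun n m k _ _ => by ext t; exact (K t.as).d_comp_d n m k }
  haveI : PreservesColimitsOfSize.{0, 0} (colim (J := Discrete T) (C := A)) :=
    colimConstAdj.leftAdjoint_preservesColimits.{0, 0}
  haveI : (colim (J := Discrete T) (C := A)).Additive :=
    have := preservesBinaryBiproducts_of_preservesBinaryCoproducts (colim (J := Discrete T) (C := A))
    Functor.additive_of_preservesBinaryBiproducts _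
  let hc := fun n => isColimitCofanMkObjOfIsColimit (HomologicalComplex.eval A (ComplexShape.up ℤ) n) _ _ (coproductIsCoproduct K)
  let en : ∀ n, (∐ K).X n ≅ colim.obj (K'.X n) := fun n =>
    (hc n).coconePointUniqueUpToIso (colimit.isColimit (Discrete.functor fun t => (K t).X n))
  have hen : ∀ n t, (Sigma.ι K t).f n ≫ (en n).hom = colimit.ι (K'.X n) ⟨t⟩ := fun n t =>
    (hc n).comp_coconePointUniqueUpToIso_hom _ ⟨t⟩
  let e₁ : ∐ K ≅ ((colim (J := Discrete T) (C := A)).mapHomologicalComplex (ComplexShape.up ℤ)).obj K' :=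
    HomologicalComplex.Hom.isoOfComponents en (fun n m _ => Cofan.IsColimit.hom_ext (hc n) _ _ fun t => by
      show (Sigma.ι K t).f n ≫ (en n).hom ≫ colim.map (K'.d n m) = (Sigma.ι K t).f n ≫ (∐ K).d n m ≫ (en m).hom
      rw [reassoc_of% (hen n t), HomologicalComplex.Hom.comm_assoc, hen]
      exact colimit.ι_map _ _)
  let ev : ∀ t : Discrete T, (K'.homology i).obj t ≅ (K t.as).homology i := fun t =>
    ((K'.sc i).mapHomologyIso ((evaluation (Discrete T) A).obj t)).symm ≪≫
      ((HomologicalComplex.homologyFunctor A (ComplexShape.up ℤ) i).mapIso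
        (HomologicalComplex.Hom.isoOfComponents (fun n => Iso.refl _) (fun n m _ => (Category.id_comp _).trans (Category.comp_id _).symm) :
          ((((evaluation (Discrete T) A).obj t)).mapHomologicalComplex (ComplexShape.up ℤ)).obj K' ≅ K t.as))
  exact ⟨(HomologicalComplex.homologyFunctor A (ComplexShape.up ℤ) i).mapIso e₁ ≪≫
    (K'.sc i).mapHomologyIso colim ≪≫ colim.mapIso (Discrete.natIso fun t => ev t)⟩

end homology

theorem isQCohD_sigma {T : Type u} (E : T → DCoh.D X) [HasCoproduct E] (h : ∀ t, DCoh.IsQCohD (E t)) :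
    DCoh.IsQCohD (∐ E) := fun i => by
  let K := fun t => DerivedCategory.Q.objPreimage (E t)
  let e : ∀ t, DerivedCategory.Q.obj (K t) ≅ E t := fun t => DerivedCategory.Q.objObjPreimageIso _
  haveI : HasCoproduct fun t => DerivedCategory.Q.obj (K t) :=
    hasColimit_of_iso (F := Discrete.functor E) (Discrete.natIso fun t => e t.as)
  let eS : ∐ E ≅ DerivedCategory.Q.obj (∐ K) :=
    (HasColimit.isoOfNatIso (Discrete.natIso fun t => e t.as :
      Discrete.functor (fun t => DerivedCategory.Q.obj (K t)) ≅ Discrete.functor E)).symm ≪≫ (coproductIsCoproduct _).coconePointUniqueUpToIso (H7Coprod.qSigmaIsColimit K)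
  obtain ⟨eH⟩ := homology_sigma K i
  refine H7AffineD.qcoh_of_iso ((DerivedCategory.homologyFunctor _ i).mapIso eS ≪≫
    (DerivedCategory.homologyFunctorFactors _ i).app _ ≪≫ eH).symm (isQCoh_sigma _ fun t => ?_)
  exact H7AffineD.qcoh_of_iso (((DerivedCategory.homologyFunctor _ i).mapIso (e t)).symm ≪≫
    (DerivedCategory.homologyFunctorFactors _ i).app _) (h t i)

section pullback

variable {A B : CommRingCat.{u}}

theorem isQCohD_lpull_spec (φ : A ⟶ B) [DCoh.HasLpull (Spec.map φ)] {E : DCoh.D (Spec A)} (hE : DCoh.IsQCohD E) :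
    DCoh.IsQCohD ((DCoh.Lpull (Spec.map φ)).obj E) := fun i => by
  haveI := LQcoh.preservesFiniteLimits_tilde A
  haveI := LQcoh.preservesFiniteLimits_tilde B
  haveI : PreservesFiniteLimits (tilde.functor (CommRingCat.of A)) := LQcoh.preservesFiniteLimits_tilde A
  haveI : PreservesFiniteLimits (tilde.functor (CommRingCat.of B)) := LQcoh.preservesFiniteLimits_tilde B
  haveI : DRing.HasLBaseChange φ.hom :=
    PseudoCoherentBaseChange.lResolving_Qh.hasLeftDerived (PseudoCoherentBaseChange.lCompat_baseChange φ.hom) _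
  haveI : DCoh.HasLpull (Spec.map (CommRingCat.ofHom φ.hom)) := inferInstanceAs (DCoh.HasLpull (Spec.map φ))
  obtain ⟨M, ⟨e⟩⟩ := H7TildeEquiv.mem_essImage (R := A) E hE
  obtain ⟨c⟩ := H7TildeBC.lpull_tildeD φ.hom
  exact H7AffineD.qcoh_of_iso ((DerivedCategory.homologyFunctor _ i).mapIso
    (c.app M ≪≫ (DCoh.Lpull (Spec.map φ)).mapIso e)) (H7TildeEquiv.isQCohD_tildeD (R := B) _ i)

end pullback

open H7HasLpull H7LpullCalc in
theorem isQCohD_lpull (f : X ⟶ Y) [DCoh.HasLpull f] {E : DCoh.D Y} (hE : DCoh.IsQCohD E) :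
    DCoh.IsQCohD ((DCoh.Lpull f).obj E) := by
  refine isQCohD_of_local _ fun x => ?_
  obtain ⟨A, jV, hjV, hfx, -⟩ := exists_affine (f.base x) ⊤ trivial
  obtain ⟨B, jW, hjW, hx, hWV⟩ := exists_affine x (f ⁻¹ᵁ jV.opensRange) hfx
  refine ⟨B, jW, hjW, hx, ?_⟩
  have hr : Set.range (jW ≫ f).base ⊆ Set.range jV.base := by
    rintro _ ⟨w, rfl⟩
    exact hWV ⟨w, rfl⟩
  obtain ⟨φ, hφ⟩ := Spec.map_surjective (IsOpenImmersion.lift jV (jW ≫ f) hr)
  have hsq : Spec.map φ ≫ jV = jW ≫ f := by rw [hφ, IsOpenImmersion.lift_fac]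
  obtain ⟨K, hK, -, ⟨eK⟩⟩ := exists_skf E
  let sq : Scheme.Modules.pullback f ⋙ Scheme.Modules.restrictFunctor jW ≅
      Scheme.Modules.restrictFunctor jV ⋙ Scheme.Modules.pullback (Spec.map φ) :=
    Functor.isoWhiskerLeft _ (Scheme.Modules.restrictFunctorIsoPullback jW) ≪≫
      Scheme.Modules.pullbackComp jW f ≪≫ eqToIso (by rw [hsq]) ≪≫ (Scheme.Modules.pullbackComp (Spec.map φ) jV).symm ≪≫
        Functor.isoWhiskerRight (Scheme.Modules.restrictFunctorIsoPullback jV).symm _
  let ec : (rst jW).obj ((pullCx f).obj K) ≅ (pullCx (Spec.map φ)).obj ((rst jV).obj K) :=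
    HomologicalComplex.Hom.isoOfComponents (fun n => sq.app (K.X n))
      fun i j _ => (sq.hom.naturality (K.d i j)).symm
  have hK' : SKF ((rst jV).obj K) :=
    skf_of_iso (H7PerfPull.cxIso (Scheme.Modules.restrictFunctorIsoPullback jV) K).symm (H7StalkPull.skf_pullback jV hK)
  haveI := hasLpull (Spec.map φ)
  have hV : DCoh.IsQCohD (DerivedCategory.Q.obj ((rst jV).obj K)) := fun i =>
    H7AffineD.qcoh_of_iso ((DerivedCategory.homologyFunctor _ i).mapIso ((rD jV).mapIso eK.symm ≪≫ rQ jV K))
      (isQCohD_restrict jV hE i)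
  intro i
  exact H7AffineD.qcoh_of_iso ((DerivedCategory.homologyFunctor _ i).mapIso
    (lpullIso (Spec.map φ) hK' ≪≫ DerivedCategory.Q.mapIso ec.symm ≪≫ (rQ jW _).symm ≪≫
      (rD jW).mapIso ((lpullIso f hK).symm ≪≫ (DCoh.Lpull f).mapIso eK)))
    (isQCohD_lpull_spec φ hV i)

end Groth.Agent.H7QCoh
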