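import Groth.Agent.Lib.H7KFlatRes
import Mathlib

/-! The functorial resolution is K-flat, has flat terms, is a quasi-isomorphism and a degreewise epimorphism. -/

universe u v
open CategoryTheory Limits AlgebraicGeometry HomologicalComplex

namespace Groth.Agent.H7KFlatResMain
open Groth.Agent H7StalkDetect H7KFlatSheaf H7KFlatRes H7KFlatMod H7FlatCover

section colimit

instance preservesNat_forget {R : Type u} [CommRing R] :
    PreservesColimitsOfShape ℕ (CategoryTheory.forget (ModuleCat.{u} R)) :=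
  (preservesFilteredColimitsOfSize_shrink.{0, u, 0, u} (CategoryTheory.forget (ModuleCat.{u} R))).preserves_filtered_colimits ℕ

lemma flat_prod {R : Type u} [CommRing R] {M N : Type u} [AddCommGroup M] [Module R M] [AddCommGroup N] [Module R N]
    [Module.Flat R M] [Module.Flat R N] : Module.Flat R (M × N) := by
  rw [Module.Flat.iff_rTensor_preserves_injective_linearMap]
  intro A B _ _ _ _ f hf
  have h : Function.Injective (Prod.map (f.rTensor M) (f.rTensor N)) :=
    (Module.Flat.rTensor_preserves_injective_linearMap f hf).prodMap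
      (Module.Flat.rTensor_preserves_injective_linearMap f hf)
  have e : (TensorProduct.prodRight R R B M N).toLinearMap ∘ₗ f.rTensor (M × N) =
      (f.rTensor M).prodMap (f.rTensor N) ∘ₗ (TensorProduct.prodRight R R A M N).toLinearMap := by
    ext <;> simp
  intro a b hab
  apply (TensorProduct.prodRight R R A M N).injective
  apply h
  have ha := LinearMap.congr_fun e a
  have hb := LinearMap.congr_fun e b
  simp only [LinearMap.coe_comp, Function.comp_apply, LinearEquiv.coe_coe] at ha hb
  exact ha.symm.trans ((congrArg _ hab).trans hb)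

lemma flat_isColimit_nat {R : Type u} [CommRing R] {G : ℕ ⥤ ModuleCat.{u} R} {c : Cocone G} (hc : IsColimit c)
    (h : ∀ n, Module.Flat R (G.obj n)) : Module.Flat R c.pt := by
  rw [Module.Flat.iff_forall_isTrivialRelation]
  intro l f x hx
  choose n y hy using fun i => Concrete.isColimit_exists_rep G hc (x i)
  obtain ⟨N, hN⟩ : ∃ N, ∀ i, n i ≤ N := ⟨Finset.univ.sup n, fun i => Finset.le_sup (Finset.mem_univ i)⟩
  let z : Fin l → G.obj N := fun i => (G.map (homOfLE (hN i))).hom (y i)
  have hz : ∀ i, (c.ι.app N).hom (z i) = x i := fun i => by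
    refine Eq.trans ?_ (hy i)
    exact ConcreteCategory.congr_hom (c.w (homOfLE (hN i))) (y i)
  have h0 : (c.ι.app N).hom (∑ i, f i • z i) = (c.ι.app N).hom 0 := by
    rw [map_sum, map_zero, ← hx]
    simp [hz]
  obtain ⟨k, p, q, hk⟩ := (Concrete.isColimit_rep_eq_iff_exists G hc _ _).1 h0
  rw [map_zero] at hk
  have hrel : ∑ i, f i • (G.map p).hom (z i) = 0 := by
    rw [← hk]
    simp
  obtain ⟨m, a, w, h1, h2⟩ := Module.Flat.iff_forall_isTrivialRelation.1 (h k) hrel
  refine ⟨m, a, fun j => (c.ι.app k).hom (w j), fun i => ?_, h2⟩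
  have := congrArg (c.ι.app k).hom (h1 i)
  rw [map_sum] at this
  simp only [map_smul] at this
  rw [← this, ← hz i]
  exact (ConcreteCategory.congr_hom (c.w p) (z i)).symm

end colimit

variable {X : Scheme.{u}}

instance preservesNat_stalk (x : X) : PreservesColimitsOfShape ℕ (DerSch.stalkFunctor X x) :=
  (H7Stalk.adj x).leftAdjoint_preservesColimits.{0, 0}.preservesColimitsOfShape

/-- the stalk of a sequential colimit of complexes, degree by degree -/
noncomputable def stalkIsColimit {G : ℕ ⥤ CochainComplex X.Modules ℤ} {c : Cocone G} (hc : IsColimit c) (x : X) (n : ℤ) :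
    IsColimit ((eval X.Modules (ComplexShape.up ℤ) n ⋙ DerSch.stalkFunctor X x).mapCocone c) :=
  isColimitOfPreserves (DerSch.stalkFunctor X x) (isColimitOfPreserves (eval X.Modules _ n) hc)

set_option maxHeartbeats 2000000 in
lemma skf_isColimit_nat {G : ℕ ⥤ CochainComplex X.Modules ℤ} {c : Cocone G} (hc : IsColimit c)
    (h : ∀ j, SKF (G.obj j)) : SKF c.pt := fun x => by
  have : HasExactColimitsOfShape ℕ (ModuleCat.{u} (X.presheaf.stalk x)) :=
    (AB5OfSize_shrink.{0, 0, u, u} (ModuleCat.{u} (X.presheaf.stalk x))).ofShape ℕ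
  exact H5KFlat.kflat_isColimit _ (HomologicalComplex.isColimitOfEval (G ⋙ stCx x) ((stCx x).mapCocone c)
    fun n => stalkIsColimit hc x n) fun j => h j x

variable {K L : CochainComplex X.Modules ℤ} (f : K ⟶ L)

lemma skf_killS : SKF (killS f) := skf_zero_d _ (fun _ _ => rfl) fun _ => flat_cov _

lemma skf_initK (hK : SKF K) : SKF (initK K L) :=
  skf_biprod (skf_biprod hK (skf_zero_d _ (fun _ _ => rfl) fun _ => flat_cov _))
    (skf_cone _ (skf_zero_d _ (fun _ _ => rfl) fun _ => flat_cov _) (skf_zero_d _ (fun _ _ => rfl) fun _ => flat_cov _))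

lemma skf_stage (hK : SKF K) : ∀ n, SKF (stage f n).left
  | 0 => skf_initK hK
  | n + 1 => skf_cone _ (skf_killS _) (skf_stage hK n)

theorem skf_resK (hK : SKF K) : SKF (resK f) :=
  skf_isColimit_nat (colimit.isColimit (chain f)) fun n => skf_stage f hK n

lemma isFlat_biprod {M N : X.Modules} (hM : FlatMod.IsFlat M) (hN : FlatMod.IsFlat N) : FlatMod.IsFlat (M ⊞ N) :=
  fun x => by
  have : Module.Flat (X.presheaf.stalk x) ((DerSch.stalkFunctor X x).obj M) := hM x
  have : Module.Flat (X.presheaf.stalk x) ((DerSch.stalkFunctor X x).obj N) := hN x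
  have : PreservesBinaryBiproducts (DerSch.stalkFunctor X x) := preservesBinaryBiproducts_of_preservesBiproducts _
  have hp : Module.Flat (X.presheaf.stalk x)
      ((DerSch.stalkFunctor X x).obj M × (DerSch.stalkFunctor X x).obj N) := flat_prod
  exact @Module.Flat.of_linearEquiv _ _ _ _ _ _ _ _ hp
    ((DerSch.stalkFunctor X x).mapBiprod M N ≪≫ ModuleCat.biprodIsoProd _ _).toLinearEquiv

lemma flat_cone {A B : CochainComplex X.Modules ℤ} (g : A ⟶ B) (hA : ∀ n, FlatMod.IsFlat (A.X n))
    (hB : ∀ n, FlatMod.IsFlat (B.X n)) (n : ℤ) : FlatMod.IsFlat ((CochainComplex.mappingCone g).X n) :=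
  isFlat_of_iso (HomologicalComplex.homotopyCofiber.XIsoBiprod g n (n + 1) rfl).symm
    (isFlat_biprod (hA (n + 1)) (hB n))

lemma flat_biprodCx {A B : CochainComplex X.Modules ℤ} (hA : ∀ n, FlatMod.IsFlat (A.X n))
    (hB : ∀ n, FlatMod.IsFlat (B.X n)) (n : ℤ) : FlatMod.IsFlat ((A ⊞ B).X n) :=
  isFlat_of_iso (HomologicalComplex.biprodXIso A B n).symm (isFlat_biprod (hA n) (hB n))

lemma flat_stage (hK : ∀ n, FlatMod.IsFlat (K.X n)) : ∀ (j : ℕ) (n : ℤ), FlatMod.IsFlat ((stage f j).left.X n)
  | 0 => flat_biprodCx (flat_biprodCx hK fun _ => flat_cov _) (flat_cone _ (fun _ => flat_cov _) fun _ => flat_cov _)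
  | j + 1 => flat_cone _ (fun _ => flat_cov _) (flat_stage hK j)

theorem flat_resK (hK : ∀ n, FlatMod.IsFlat (K.X n)) (n : ℤ) : FlatMod.IsFlat ((resK f).X n) := fun x =>
  flat_isColimit_nat (stalkIsColimit (colimit.isColimit (chain f)) x n) fun j => flat_stage f hK j n x

/-- the stalk of a morphism, as a linear map -/
noncomputable abbrev st (x : X) {M N : X.Modules} (φ : M ⟶ N) :
    (DerSch.stalkFunctor X x).obj M →ₗ[X.presheaf.stalk x] (DerSch.stalkFunctor X x).obj N :=
  ((DerSch.stalkFunctor X x).map φ).hom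

lemma st_comp (x : X) {M N P : X.Modules} (φ : M ⟶ N) (ψ : N ⟶ P) (a) : st x ψ (st x φ a) = st x (φ ≫ ψ) a := by
  simp [st]

lemma st_comp_eq (x : X) {M N P : X.Modules} {φ : M ⟶ N} {ψ : N ⟶ P} {χ : M ⟶ P} (h : φ ≫ ψ = χ) (a) :
    st x ψ (st x φ a) = st x χ a := by rw [st_comp, h]

lemma exists_kernel (x : X) {M N : X.Modules} (φ : M ⟶ N) (b) (hb : st x φ b = 0) :
    ∃ a, st x (kernel.ι φ) a = b :=
  ((ShortComplex.moduleCat_exact_iff _).1
    ((ShortComplex.exact_of_f_is_kernel (ShortComplex.mk (kernel.ι φ) φ (kernel.condition φ))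
      (kernelIsKernel φ)).map (DerSch.stalkFunctor X x)) b hb)

lemma biprod_eq_zero (x : X) {M N : X.Modules} (a : (DerSch.stalkFunctor X x).obj (M ⊞ N))
    (h1 : st x biprod.fst a = 0) (h2 : st x biprod.snd a = 0) : a = 0 := by
  have h : a = st x (biprod.fst ≫ biprod.inl + biprod.snd ≫ biprod.inr : M ⊞ N ⟶ M ⊞ N) a := by
    rw [biprod.total]; simp [st]
  rw [h]
  simp only [st, Functor.map_add, Functor.map_comp, ModuleCat.hom_add, ModuleCat.hom_comp, LinearMap.add_apply,
    LinearMap.comp_apply] at h1 h2 ⊢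
  rw [h1, h2, map_zero, map_zero, add_zero]

lemma exists_kill (x : X) (n : ℤ) (z : (DerSch.stalkFunctor X x).obj (K.X n))
    (w : (DerSch.stalkFunctor X x).obj (L.X (n - 1))) (hz : st x (K.d n (n + 1)) z = 0)
    (hw : st x (f.f n) z = st x (L.d (n - 1) n) w) :
    ∃ c : (DerSch.stalkFunctor X x).obj ((killS f).X n), st x ((killG f).f n) c = z := by
  have hv : st x (phi f n) (st x biprod.inl z + st x biprod.inr w) = 0 := by
    rw [map_add, st_comp, st_comp]
    refine biprod_eq_zero x _ ?_ ?_ <;> rw [map_add, st_comp, st_comp]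
    · rw [show (biprod.inl ≫ phi f n) ≫ biprod.fst = K.d n (n + 1) by simp [phi],
        show (biprod.inr ≫ phi f n) ≫ biprod.fst = 0 by simp [phi], hz]
      simp [st]
    · rw [show (biprod.inl ≫ phi f n) ≫ biprod.snd = f.f n by simp [phi],
        show (biprod.inr ≫ phi f n) ≫ biprod.snd = -(L.d (n - 1) n) by simp [phi], hw]
      simp [st]
  obtain ⟨a, ha⟩ := exists_kernel x (phi f n) _ hv
  obtain ⟨c, rfl⟩ : ∃ c : (DerSch.stalkFunctor X x).obj ((killS f).X n), st x (killπ f n) c = a :=
    covπ_stalk_surjective (pairs f n) x a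
  refine ⟨c, ?_⟩
  show st x (killπ f n ≫ kernel.ι (phi f n) ≫ biprod.fst) c = z
  rw [← st_comp, ← st_comp]
  show st x biprod.fst (st x (kernel.ι (phi f n)) (st x (killπ f n) c)) = z
  rw [show st x (kernel.ι (phi f n)) (st x (killπ f n) c) = _ from ha, map_add, st_comp, st_comp,
    biprod.inl_fst, biprod.inr_fst]
  simp [st]

lemma quasiIso_of_stalk_elements {A B : CochainComplex X.Modules ℤ} (g : A ⟶ B)
    (hs : ∀ (x : X) (i : ℤ) (y : (DerSch.stalkFunctor X x).obj (B.X i)), st x (B.d i (i + 1)) y = 0 →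
      ∃ (a : (DerSch.stalkFunctor X x).obj (A.X i)) (w : (DerSch.stalkFunctor X x).obj (B.X (i - 1))),
        st x (A.d i (i + 1)) a = 0 ∧ st x (g.f i) a - y = st x (B.d (i - 1) i) w)
    (hi : ∀ (x : X) (i : ℤ) (a : (DerSch.stalkFunctor X x).obj (A.X i))
      (w : (DerSch.stalkFunctor X x).obj (B.X (i - 1))), st x (A.d i (i + 1)) a = 0 →
        st x (g.f i) a = st x (B.d (i - 1) i) w → ∃ v, st x (A.d (i - 1) i) v = a) : QuasiIso g :=
  (quasiIso_iff _).2 fun x => ⟨fun i => quasiIsoAt_of_elements _ i (i - 1) (i + 1) (by omega) rfl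
    (fun y hy => hs x i y hy) (fun a w ha hw => hi x i a w ha hw)⟩

theorem quasiIso_resF : QuasiIso (resF f) := by
  refine quasiIso_of_stalk_elements _ (fun x i y hy => ?_) (fun x i a w ha hw => ?_)
  · obtain ⟨b, hb⟩ := exists_kernel x (L.d i (i + 1)) y hy
    obtain ⟨c, rfl⟩ : ∃ c : (DerSch.stalkFunctor X x).obj ((cycS L).X i), st x (cycπ L i) c = b :=
      covπ_stalk_surjective (kernel (L.d i (i + 1))) x b
    let ι : cycS L ⟶ resK f := biprod.inr ≫ biprod.inl ≫ resι₀ f
    have hι : ι ≫ resF f = cycMap L := by simp [ι, resι₀_resF, initF]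
    refine ⟨st x (ι.f i) c, 0, ?_, ?_⟩
    · show st x ((resK f).d i (i + 1)) (st x (ι.f i) c) = 0
      rw [st_comp, ι.comm, show (cycS L).d i (i + 1) = 0 from rfl, zero_comp]
      simp [st]
    · have h1 : st x ((resF f).f i) (st x (ι.f i) c) = y := by
        rw [st_comp, ← comp_f, hι]
        show st x (cycπ L i ≫ kernel.ι _) c = y
        rw [← st_comp]
        exact hb
      show st x ((resF f).f i) (st x (ι.f i) c) - y = st x (L.d (i - 1) i) 0
      rw [h1, sub_self, map_zero]
  · have ha' : st x ((resK f).d i (i + 1)) a = 0 := ha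
    let γ : ∀ j, (chain f).obj j ⟶ resK f := colimit.ι (chain f)
    obtain ⟨j, b, hb'⟩ : ∃ (j : ℕ) (b : (DerSch.stalkFunctor X x).obj (((chain f).obj j).X i)),
        st x ((γ j).f i) b = a :=
      Concrete.isColimit_exists_rep _ (stalkIsColimit (colimit.isColimit (chain f)) x i) a
    have hdb : st x ((γ j).f (i + 1)) (st x (((chain f).obj j).d i (i + 1)) b) = st x ((γ j).f (i + 1)) 0 := by
      rw [map_zero, st_comp_eq x ((γ j).comm i (i + 1)).symm b, ← st_comp, hb', ha']
    obtain ⟨k, p, q, hk⟩ := (Concrete.isColimit_rep_eq_iff_exists _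
      (stalkIsColimit (colimit.isColimit (chain f)) x (i + 1)) _ _).1 hdb
    have hk' : st x (((chain f).map p).f (i + 1)) (st x (((chain f).obj j).d i (i + 1)) b) = 0 :=
      hk.trans (map_zero _)
    let b' : (DerSch.stalkFunctor X x).obj (((chain f).obj k).X i) := st x (((chain f).map p).f i) b
    have hw0 : (chain f).map p ≫ γ k = γ j := colimit.w (chain f) p
    have hb'' : st x ((γ k).f i) b' = a :=
      (st_comp_eq x (congrArg (fun t => Hom.f t i) hw0) b).trans hb'
    have h1 : st x (((chain f).obj k).d i (i + 1)) b' = 0 :=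
      ((st_comp_eq x (((chain f).map p).comm i (i + 1)) b).trans (st_comp x _ _ b).symm).trans hk'
    have h2 : st x ((stage f k).hom.f i) b' = st x (L.d (i - 1) i) w :=
      ((st_comp_eq x (congrArg (fun t => Hom.f t i) (resι_resF f k)) b').symm.trans
        (congrArg (st x ((resF f).f i)) hb'')).trans hw
    obtain ⟨c, hc⟩ := exists_kill (stage f k).hom x i b' w h1 h2
    let g := killG (stage f k).hom
    have hd : (CochainComplex.mappingCone.inl g).v i (i - 1) (by omega) ≫
        (CochainComplex.mappingCone g).d (i - 1) i =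
        g.f i ≫ (CochainComplex.mappingCone.inr g).f i := by
      rw [CochainComplex.mappingCone.inl_v_d g i (i - 1) (i + 1) (by omega) (by omega),
        show (killS (stage f k).hom).d i (i + 1) = 0 from rfl, zero_comp, sub_zero]
    let v' : (DerSch.stalkFunctor X x).obj (((chain f).obj (k + 1)).X (i - 1)) :=
      st x ((CochainComplex.mappingCone.inl g).v i (i - 1) (by omega)) c
    refine ⟨st x ((γ (k + 1)).f (i - 1)) v', ?_⟩
    have h3 : st x (((chain f).obj (k + 1)).d (i - 1) i) v' = st x ((step f k).f i) b' :=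
      ((st_comp x _ _ c).trans ((congrArg (fun t => st x t c) hd).trans (st_comp x _ _ c).symm)).trans
        (congrArg (st x ((step f k).f i)) hc)
    have hw1 : step f k ≫ γ (k + 1) = γ k := by
      have := colimit.w (chain f) (homOfLE (Nat.le_succ k))
      rw [Functor.ofSequence_map_homOfLE_succ] at this
      exact this
    exact ((st_comp_eq x ((γ (k + 1)).comm (i - 1) i) v').trans (st_comp x _ _ v').symm).trans
      ((congrArg (st x ((γ (k + 1)).f i)) h3).trans
        ((st_comp_eq x (congrArg (fun t => Hom.f t i) hw1) b').trans hb''))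

theorem epi_resF (n : ℤ) : Epi ((resF f).f n) := by
  let S := termS L
  let ι : (termS L).X (n + 1) ⟶ (resK f).X n :=
    (CochainComplex.mappingCone.inl (𝟙 (termS L))).v (n + 1) n (by omega) ≫
      ((biprod.inr : diskK L ⟶ initK K L) ≫ resι₀ f).f n
  have h : ι ≫ (resF f).f n = H7FlatCover.covπ.app (L.X (n + 1 - 1)) ≫ eqToHom (by rw [add_sub_cancel_right]; rfl) := by
    rw [Category.assoc, ← comp_f, Category.assoc, resι₀_resF, initF, biprod.inr_desc]
    simp only [diskMap, CochainComplex.mappingCone.inl_v_desc_f, termα, CochainComplex.HomComplex.Cochain.mk_v]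
    rfl
  have h' : Epi (H7FlatCover.covπ.app (L.X (n + 1 - 1)) ≫
      (eqToHom (by rw [add_sub_cancel_right]; rfl) : (𝟭 X.Modules).obj (L.X (n + 1 - 1)) ⟶ L.X n)) := @epi_comp _ _ _ _ _ _ (epi_covπ _) _ inferInstance
  exact @epi_of_epi_fac _ _ _ _ _ _ _ _ h' h

end Groth.Agent.H7KFlatResMain
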