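import Groth.Agent.Lib.H7PseudoPull
import Groth.Agent.Lib.UnivInjective
import Mathlib

/-! Flatness of kernels and cokernels from vanishing of Tor. -/

universe u v w
open CategoryTheory Limits AlgebraicGeometry HomologicalComplex MonoidalCategory TensorProduct

namespace Groth.Agent.H7TorFlat
open Groth.Agent H5TenCx H7KFlatMod H7KFlatSheaf H7HasLpull H7LpullCalc H7TorAmp H7LTensorMod H7PseudoPull

attribute [local instance] HasDerivedCategory.standard

section ring

variable {R : Type u} [CommRing R]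

/-- `P ⊗ N` termwise -/
noncomputable abbrev tenN (P : CochainComplex (ModuleCat.{u} R) ℤ) (N : ModuleCat.{u} R) :
    CochainComplex (ModuleCat.{u} R) ℤ :=
  (((curriedTensor (ModuleCat.{u} R)).flip.obj N).mapHomologicalComplex (ComplexShape.up ℤ)).obj P

lemma tenN_exact_elem {P : CochainComplex (ModuleCat.{u} R) ℤ} {N : ModuleCat.{u} R} {i j k : ℤ}
    (hij : i + 1 = j) (hjk : j + 1 = k) (h : (tenN P N).ExactAt j) (z : P.X j ⊗[R] N)
    (hz : (P.d j k).hom.rTensor N z = 0) : ∃ w : P.X i ⊗[R] N, (P.d i j).hom.rTensor N w = z := by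
  rw [exactAt_iff' _ i j k (by simp; omega) (by simp; omega), ShortComplex.moduleCat_exact_iff] at h
  exact h z hz

lemma flat_ker_surjective {M N : Type u} [AddCommGroup M] [Module R M] [AddCommGroup N] [Module R N]
    [Module.Flat R M] [Module.Flat R N] (f : M →ₗ[R] N) (hf : Function.Surjective f) :
    Module.Flat R (LinearMap.ker f) :=
  (UI.flat_of_flat_middle (LinearMap.ker f).subtype f (LinearMap.exact_subtype_ker_map f) hf
    (UI.of_flat_cokernel _ f (LinearMap.ker f).injective_subtype (LinearMap.exact_subtype_ker_map f) hf)).1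

theorem flat_coker {P : CochainComplex (ModuleCat.{u} R) ℤ} {j k : ℤ} (hjk : j + 1 = k)
    [Module.Flat R (P.X k)] (hex : ∀ N, (tenN P N).ExactAt j) :
    Module.Flat R ((P.X k : Type u) ⧸ LinearMap.range (P.d j k).hom) := by
  rw [Module.Flat.iff_lTensor_preserves_injective_linearMap]
  intro N₁ N₂ _ _ _ _ ι hι
  let d := (P.d j k).hom
  let d' := (P.d (j - 1) j).hom
  let π := (LinearMap.range d).mkQ
  let p := (LinearMap.range ι).mkQ
  have hπ : Function.Exact d π := LinearMap.exact_map_mkQ_range d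
  have hp : Function.Exact ι p := LinearMap.exact_map_mkQ_range ι
  rw [injective_iff_map_eq_zero]
  intro x hx
  obtain ⟨y, rfl⟩ := LinearMap.rTensor_surjective N₁ (LinearMap.range d).mkQ_surjective x
  have h1 : π.rTensor N₂ (ι.lTensor (P.X k) y) = 0 := by
    refine Eq.trans ?_ hx
    rw [← LinearMap.comp_apply, ← LinearMap.comp_apply, LinearMap.rTensor_comp_lTensor, LinearMap.lTensor_comp_rTensor]
  obtain ⟨z, hz⟩ := (rTensor_exact N₂ hπ (LinearMap.range d).mkQ_surjective _).1 h1
  have h2 : d.rTensor (N₂ ⧸ LinearMap.range ι) (p.lTensor (P.X j) z) = 0 := by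
    rw [← LinearMap.comp_apply, LinearMap.rTensor_comp_lTensor, ← LinearMap.lTensor_comp_rTensor,
      LinearMap.comp_apply, hz, ← LinearMap.comp_apply, ← LinearMap.lTensor_comp, hp.linearMap_comp_eq_zero,
      LinearMap.lTensor_zero, LinearMap.zero_apply]
  obtain ⟨w', hw'⟩ := tenN_exact_elem (P := P) (i := j - 1) (by omega) hjk (hex (ModuleCat.of R (N₂ ⧸ LinearMap.range ι)))
    (p.lTensor (P.X j) z) h2
  obtain ⟨w, rfl⟩ := LinearMap.lTensor_surjective (P.X (j - 1)) (LinearMap.range ι).mkQ_surjective w'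
  have h3 : p.lTensor (P.X j) (z - d'.rTensor N₂ w) = 0 := by
    rw [map_sub, sub_eq_zero]
    refine hw'.symm.trans ?_
    show d'.rTensor _ (p.lTensor _ w) = p.lTensor _ (d'.rTensor _ w)
    rw [← LinearMap.comp_apply, ← LinearMap.comp_apply, LinearMap.rTensor_comp_lTensor, LinearMap.lTensor_comp_rTensor]
  obtain ⟨z₁, hz₁⟩ := (lTensor_exact (P.X j) hp (LinearMap.range ι).mkQ_surjective _).1 h3
  have h4 : ι.lTensor (P.X k) (d.rTensor N₁ z₁) = ι.lTensor (P.X k) y := by
    rw [← LinearMap.comp_apply, LinearMap.lTensor_comp_rTensor, ← LinearMap.rTensor_comp_lTensor,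
      LinearMap.comp_apply, hz₁, map_sub, hz, ← LinearMap.rTensor_comp_apply,
      show d ∘ₗ d' = 0 from congrArg ModuleCat.Hom.hom (P.d_comp_d (j - 1) j k), LinearMap.rTensor_zero,
      LinearMap.zero_apply, sub_zero]
  rw [← Module.Flat.lTensor_preserves_injective_linearMap ι hι h4, ← LinearMap.rTensor_comp_apply,
    hπ.linearMap_comp_eq_zero, LinearMap.rTensor_zero, LinearMap.zero_apply]

lemma range_eq_ker_of_exact {P : CochainComplex (ModuleCat.{u} R) ℤ} {i j k : ℤ} (hij : i + 1 = j) (hjk : j + 1 = k)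
    (h : P.ExactAt j) : LinearMap.range (P.d i j).hom = LinearMap.ker (P.d j k).hom := by
  rw [exactAt_iff' _ i j k (by simp; omega) (by simp; omega), ShortComplex.moduleCat_exact_iff_range_eq_ker] at h
  exact h

/-- the cycles above an acyclicity bound are flat -/
theorem flat_cycles {P : CochainComplex (ModuleCat.{u} R) ℤ} (hflat : ∀ n, Module.Flat R (P.X n)) {b : ℤ}
    (hexact : ∀ i, b < i → P.ExactAt i) (hex : ∀ N i, b < i → (tenN P N).ExactAt i) :
    Module.Flat R (LinearMap.ker (P.d b (b + 1)).hom) := by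
  have step : ∀ i j, i + 1 = j → Module.Flat R (LinearMap.range (P.d i j).hom) →
      Module.Flat R (LinearMap.ker (P.d i j).hom) := fun i j _ h => by
    have := flat_ker_surjective (P.d i j).hom.rangeRestrict (P.d i j).hom.surjective_rangeRestrict
    rwa [LinearMap.ker_rangeRestrict] at this
  have e1 : Module.Flat R (LinearMap.range (P.d (b + 1) (b + 1 + 1)).hom) := by
    have := flat_coker (P := P) (j := b + 1) (k := b + 1 + 1) rfl fun N => hex N _ (by omega)
    have := flat_ker_surjective (LinearMap.range (P.d (b + 1) (b + 1 + 1)).hom).mkQ (Submodule.mkQ_surjective _)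
    rwa [Submodule.ker_mkQ] at this
  refine step b (b + 1) rfl ?_
  rw [range_eq_ker_of_exact rfl rfl (hexact (b + 1) (by omega))]
  exact step (b + 1) (b + 1 + 1) rfl e1

theorem exactAt_tenN_of_kflat {P : CochainComplex (ModuleCat.{u} R) ℤ} (hP : KF R P) {m : ℤ}
    (hm : ∀ j, m ≤ j → P.ExactAt j) (N : ModuleCat.{u} R) (i : ℤ) (hi : m ≤ i) : (tenN P N).ExactAt i := by
  obtain ⟨C, p, hC, hp⟩ := H5KFlat.exists_nice_resolution P
  have := hC.kproj
  let e : (curriedTensor (ModuleCat.{u} R)).flip.obj N ≅ tensorLeft N :=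
    NatIso.ofComponents (fun M => β_ M N) fun {M M'} f => BraidedCategory.braiding_naturality_left f N
  have h0 := exactAt_of_adjunction (ihom.adjunction N) (K := C)
    (fun j hj => (exactAt_iff_of_quasiIsoAt p j).2 (hm j hj)) i hi
  have h1 : (tenN C N).ExactAt i := h0.of_iso (H7PerfPull.cxIso e C).symm
  have hac : (tenN (CochainComplex.mappingCone p) N).Acyclic :=
    acyclic_flip_tensor (H5KFlat.kflat_cone _ p hC.kflat hP) ((quasiIso_iff_acyclic_cone p).1 inferInstance) N
  have hqi : QuasiIso ((((curriedTensor (ModuleCat.{u} R)).flip.obj N).mapHomologicalComplex (ComplexShape.up ℤ)).map p) := by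
    rw [quasiIso_iff_acyclic_cone]
    exact H5KFlat.acyclic_of_iso
      (CochainComplex.mappingCone.mapHomologicalComplexIso p ((curriedTensor (ModuleCat.{u} R)).flip.obj N)) hac
  have := hqi.quasiIsoAt i
  exact (exactAt_iff_of_quasiIsoAt
    ((((curriedTensor (ModuleCat.{u} R)).flip.obj N).mapHomologicalComplex (ComplexShape.up ℤ)).map p) i).1 h1

lemma exactAt_of_tenN {P : CochainComplex (ModuleCat.{u} R) ℤ} {i : ℤ}
    (h : (tenN P (ModuleCat.of R R)).ExactAt i) : P.ExactAt i := by
  let e : (curriedTensor (ModuleCat.{u} R)).flip.obj (ModuleCat.of R R) ≅ 𝟭 _ :=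
    NatIso.ofComponents (fun M => ρ_ M) fun {M M'} f => rightUnitor_naturality f
  exact h.of_iso (H7PerfPull.cxIso e P ≪≫ (Functor.mapHomologicalComplexIdIso _ _).app P)

end ring

section sheaf

variable {X : Scheme.{u}}

/-- `K ⊗ G` computed at stalks, `G` a skyscraper -/
noncomputable def stTenSkIso (K : CochainComplex X.Modules ℤ) (x : X) (N : ModuleCat.{u} (X.presheaf.stalk x)) :
    (stCx x).obj ((tenCx ((H7Stalk.sk x).obj N)).obj K) ≅ tenN ((stCx x).obj K) N :=
  stTenIso _ x K ≪≫ H7PerfPull.cxIso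
    ((curriedTensor (ModuleCat.{u} (X.presheaf.stalk x))).flip.mapIso ((asIso (H7Stalk.adj x).counit).app N)) _

/-- vanishing of the tensor products of a K-flat complex, at the stalks -/
theorem tenN_exact_of_torAmp {K : CochainComplex X.Modules ℤ} (hK : SKF K) {a b : ℤ}
    (h : DCoh.HasTorAmplitudeIn a b (DerivedCategory.Q.obj K)) (x : X)
    (N : ModuleCat.{u} (X.presheaf.stalk x)) (i : ℤ) (hi : i < a ∨ b < i) :
    (tenN ((stCx x).obj K) N).ExactAt i := by
  have := H7LTensorMod.hasLTensorMod ((H7Stalk.sk x).obj N)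
  have h1 := (isZero_HD_Q_iff _ i).1 (isZero_HD_of_iso (ltenIso _ hK).symm (h ((H7Stalk.sk x).obj N) i hi))
  exact (((H7StalkDetect.jointly X).exactAt_iff _ i).1 h1 x).of_iso (stTenSkIso K x N)

theorem exactAt_of_tenN_stalks {K : CochainComplex X.Modules ℤ} {i : ℤ}
    (h : ∀ x, ∀ N, (tenN ((stCx x).obj K) N).ExactAt i) : K.ExactAt i :=
  ((H7StalkDetect.jointly X).exactAt_iff K i).2 fun x => exactAt_of_tenN (h x _)

lemma flat_kernel {M N : X.Modules} (f : M ⟶ N)
    (h : ∀ x, Module.Flat (X.presheaf.stalk x) (LinearMap.ker ((DerSch.stalkFunctor X x).map f).hom)) :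
    FlatMod.IsFlat (kernel f) := fun x =>
  have := h x
  Module.Flat.of_linearEquiv
    ((PreservesKernel.iso (DerSch.stalkFunctor X x) f) ≪≫ ModuleCat.kernelIsoKer _).toLinearEquiv

lemma flat_cokernel {M N : X.Modules} (f : M ⟶ N)
    (h : ∀ x, Module.Flat (X.presheaf.stalk x)
      (((DerSch.stalkFunctor X x).obj N : Type u) ⧸ LinearMap.range ((DerSch.stalkFunctor X x).map f).hom)) :
    FlatMod.IsFlat (cokernel f) := fun x =>
  have := h x
  Module.Flat.of_linearEquiv
    ((PreservesCokernel.iso (DerSch.stalkFunctor X x) f) ≪≫ ModuleCat.cokernelIsoRangeQuotient _).toLinearEquiv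

theorem flat_cokernel_d {K : CochainComplex X.Modules ℤ} {j k : ℤ} (hjk : j + 1 = k) (hflat : FlatMod.IsFlat (K.X k))
    (hex : ∀ x, ∀ N, (tenN ((stCx x).obj K) N).ExactAt j) : FlatMod.IsFlat (cokernel (K.d j k)) :=
  flat_cokernel _ fun x =>
    have : Module.Flat (X.presheaf.stalk x) (((stCx x).obj K).X k) := hflat x
    flat_coker (P := (stCx x).obj K) hjk (hex x)

theorem flat_kernel_d {K : CochainComplex X.Modules ℤ} (hflat : ∀ n, FlatMod.IsFlat (K.X n)) {b : ℤ}
    (hexact : ∀ i, b < i → K.ExactAt i) (hex : ∀ x, ∀ N i, b < i → (tenN ((stCx x).obj K) N).ExactAt i) :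
    FlatMod.IsFlat (kernel (K.d b (b + 1))) :=
  flat_kernel _ fun x => flat_cycles (P := (stCx x).obj K) (fun n => hflat n x)
    (fun i hi => ((H7StalkDetect.jointly X).exactAt_iff K i).1 (hexact i hi) x) (hex x)

/-- truncating a K-flat complex with flat terms to a bounded flat representative -/
theorem flatAmp_of_exact {K : CochainComplex X.Modules ℤ} (hK : SKF K) (hflat : ∀ n, FlatMod.IsFlat (K.X n))
    {a b : ℤ} (hab : a ≤ b) (hexact : ∀ i, (i < a ∨ b < i) → K.ExactAt i)
    (hgt : ∀ x, ∀ N i, b < i → (tenN ((stCx x).obj K) N).ExactAt i)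
    (hlow : ∀ x, ∀ N, (tenN ((stCx x).obj K) N).ExactAt (a - 1)) :
    DCoh.HasFlatAmplitudeIn a b (DerivedCategory.Q.obj K) := by
  have : K.IsLE b := (K.isLE_iff b).2 fun i hi => hexact i (Or.inr hi)
  let K₁ := K.truncLE b
  have hflat₁ : ∀ n, FlatMod.IsFlat (K₁.X n) := fun n => by
    rcases lt_trichotomy n b with hn | rfl | hn
    · exact H7FlatCover.isFlat_of_iso (K.truncLEXIso b n hn).symm (hflat n)
    · exact H7FlatCover.isFlat_of_iso (K.truncLEXIsoCycles n ≪≫
        (K.cyclesIsKernel n (n + 1) (by simp)).conePointUniqueUpToIso (kernelIsKernel _)).symm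
          (flat_kernel_d hflat (fun i hi => hexact i (Or.inr hi)) hgt)
    · exact fun x => by
        have : Subsingleton ((DerSch.stalkFunctor X x).obj (K₁.X n)) :=
          ModuleCat.subsingleton_of_isZero (Functor.map_isZero _ (K₁.isZero_of_isStrictlyLE b n hn))
        show Module.Flat (X.presheaf.stalk x) ((DerSch.stalkFunctor X x).obj (K₁.X n))
        infer_instance
  have hK₁ : SKF K₁ := fun x => H7KFlatBounded.kflat_of_boundedAbove _ b
    (fun i hi => Functor.map_isZero (DerSch.stalkFunctor X x) (K₁.isZero_of_isStrictlyLE b i hi))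
    (fun n => hflat₁ n x)
  have hlow₁ : ∀ x, ∀ N, (tenN ((stCx x).obj K₁) N).ExactAt (a - 1) := fun x N => by
    let G := (curriedTensor (ModuleCat.{u} (X.presheaf.stalk x))).flip.obj N
    have hq : QuasiIso ((stCx x).map (K.ιTruncLE b)) := (H7KFlatSheaf.quasiIso_iff _).1 inferInstance x
    have hqi : QuasiIso ((G.mapHomologicalComplex _).map ((stCx x).map (K.ιTruncLE b))) := by
      rw [quasiIso_iff_acyclic_cone]
      exact H5KFlat.acyclic_of_iso (CochainComplex.mappingCone.mapHomologicalComplexIso _ G)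
        (acyclic_flip_tensor (H5KFlat.kflat_cone _ _ (hK₁ x) (hK x)) ((quasiIso_iff_acyclic_cone _).1 hq) N)
    have := hqi.quasiIsoAt (a - 1)
    exact (exactAt_iff_of_quasiIsoAt ((G.mapHomologicalComplex _).map ((stCx x).map (K.ιTruncLE b))) (a - 1)).2 (hlow x N)
  have : K₁.IsGE a := (K₁.isGE_iff a).2 fun i hi => (exactAt_iff_of_quasiIsoAt (K.ιTruncLE b) i).2 (hexact i (Or.inl hi))
  have hflat₂ : ∀ n, FlatMod.IsFlat ((K₁.truncGE a).X n) := fun n => by
    rcases lt_trichotomy n a with hn | rfl | hn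
    · exact fun x => by
        have : Subsingleton ((DerSch.stalkFunctor X x).obj ((K₁.truncGE a).X n)) :=
          ModuleCat.subsingleton_of_isZero (Functor.map_isZero _ ((K₁.truncGE a).isZero_of_isStrictlyGE a n hn))
        show Module.Flat (X.presheaf.stalk x) ((DerSch.stalkFunctor X x).obj ((K₁.truncGE a).X n))
        infer_instance
    · exact H7FlatCover.isFlat_of_iso (K₁.truncGEXIsoOpcycles n ≪≫
        (K₁.opcyclesIsCokernel (n - 1) n (by simp)).coconePointUniqueUpToIso (cokernelIsCokernel _)).symm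
          (flat_cokernel_d (by omega) (hflat₁ n) hlow₁)
    · exact H7FlatCover.isFlat_of_iso (K₁.truncGEXIso a n hn).symm (hflat₁ n)
  have hv : DCoh.VanishesOutside (K₁.truncGE a) a b := fun i hi => by
    rcases hi with hi | hi
    · exact (K₁.truncGE a).isZero_of_isStrictlyGE a i hi
    · exact IsZero.of_iso (K₁.isZero_of_isStrictlyLE b i hi) (K₁.truncGEXIso a i (by omega))
  have : IsIso (DerivedCategory.Q.map (K.ιTruncLE b)) :=
    (DerivedCategory.isIso_Q_map_iff_quasiIso _ _).2 inferInstance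
  have : IsIso (DerivedCategory.Q.map (K₁.πTruncGE a)) :=
    (DerivedCategory.isIso_Q_map_iff_quasiIso _ _).2 inferInstance
  exact ⟨_, hv, hflat₂, ⟨(asIso (DerivedCategory.Q.map (K₁.πTruncGE a))).symm ≪≫
    asIso (DerivedCategory.Q.map (K.ιTruncLE b))⟩⟩

lemma torAmp_of_iso {E E' : DCoh.D X} (e : E ≅ E') {a b : ℤ} (h : DCoh.HasTorAmplitudeIn a b E) :
    DCoh.HasTorAmplitudeIn a b E' :=
  torAmp_of_retract e.inv e.hom (Iso.inv_hom_id e) h

theorem flatAmp_of_torAmp {E : DCoh.D X} {a b : ℤ} (hab : a ≤ b) (h : DCoh.HasTorAmplitudeIn a b E) :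
    DCoh.HasFlatAmplitudeIn a b E := by
  obtain ⟨K, hK, hflat, ⟨e⟩⟩ := exists_skf E
  have hten := tenN_exact_of_torAmp hK (torAmp_of_iso e.symm h)
  obtain ⟨L, hL, hL', ⟨eL⟩⟩ := flatAmp_of_exact hK hflat hab
    (fun i hi => exactAt_of_tenN_stalks fun x N => hten x N i hi)
    (fun x N i hi => hten x N i (Or.inr hi)) (fun x N => hten x N _ (Or.inl (by omega)))
  exact ⟨L, hL, hL', ⟨eL ≪≫ e⟩⟩

theorem skf_of_isStrictlyLE {E : CochainComplex X.Modules ℤ} (n : ℤ) [E.IsStrictlyLE n]
    (hflat : ∀ i, FlatMod.IsFlat (E.X i)) : SKF E := fun x =>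
  H7KFlatBounded.kflat_of_boundedAbove _ n
    (fun i hi => Functor.map_isZero (DerSch.stalkFunctor X x) (E.isZero_of_isStrictlyLE n i hi)) (fun i => hflat i x)

/-- a module with vanishing first Tor is flat -/
theorem flat_of_tor_one (F : X.Modules)
    (h : ∀ (G : X.Modules) [DCoh.HasLTensorMod G],
      IsZero (DCoh.HD ((DCoh.LTensorMod G).obj (DCoh.inD X F)) (-1))) : FlatMod.IsFlat F := by
  let S := (CochainComplex.singleFunctor X.Modules 0).obj F
  let e0 : DerivedCategory.Q.obj S ≅ DCoh.inD X F := (DerivedCategory.singleFunctorIsoCompQ X.Modules 0).symm.app F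
  obtain ⟨K, hK, hflat, ⟨e⟩⟩ := exists_skf (DerivedCategory.Q.obj S)
  have hexact : ∀ i : ℤ, (i < 0 ∨ 0 < i) → K.ExactAt i := fun i hi => by
    rw [← isZero_HD_Q_iff]
    refine isZero_HD_of_iso e (isZero_HD_Q i ?_)
    exact HomologicalComplex.isZero_single_obj_X _ _ _ _ (by omega)
  obtain ⟨L, hL, hLflat, ⟨eL⟩⟩ := flatAmp_of_exact hK hflat le_rfl hexact
    (fun x N i hi => exactAt_tenN_of_kflat (hK x) (m := 1)
      (fun j hj => ((H7StalkDetect.jointly X).exactAt_iff K j).1 (hexact j (Or.inr (by omega))) x) N i (by omega))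
    (fun x N => by
      have := H7LTensorMod.hasLTensorMod ((H7Stalk.sk x).obj N)
      have h1 := (isZero_HD_Q_iff _ _).1 (isZero_HD_of_iso
        ((ltenIso _ hK).symm ≪≫ (DCoh.LTensorMod _).mapIso (e ≪≫ e0)) (h ((H7Stalk.sk x).obj N)))
      exact (((H7StalkDetect.jointly X).exactAt_iff _ _).1 h1 x).of_iso (stTenSkIso K x N))
  have : L.IsStrictlyLE 0 := (CochainComplex.isStrictlyLE_iff L 0).2 fun i hi => hL i (Or.inr hi)
  have : L.IsStrictlyGE 0 := (CochainComplex.isStrictlyGE_iff L 0).2 fun i hi => hL i (Or.inl hi)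
  obtain ⟨M, ⟨eM⟩⟩ := CochainComplex.exists_iso_single L 0
  let eD : (DerivedCategory.singleFunctor X.Modules 0).obj M ≅ (DerivedCategory.singleFunctor X.Modules 0).obj F :=
    (DerivedCategory.singleFunctorIsoCompQ X.Modules 0).app M ≪≫ DerivedCategory.Q.mapIso eM.symm ≪≫ eL ≪≫ e ≪≫ e0
  have eMF : M ≅ F := (DerivedCategory.singleFunctorCompHomologyFunctorIso X.Modules 0).symm.app M ≪≫
    (DerivedCategory.homologyFunctor X.Modules 0).mapIso eD ≪≫
      (DerivedCategory.singleFunctorCompHomologyFunctorIso X.Modules 0).app F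
  exact H7FlatCover.isFlat_of_iso ((HomologicalComplex.eval X.Modules (ComplexShape.up ℤ) 0).mapIso eM ≪≫
    HomologicalComplex.singleObjXSelf (ComplexShape.up ℤ) 0 M ≪≫ eMF) (hLflat 0)

theorem tor_one_of_flat (F : X.Modules) (hF : FlatMod.IsFlat F) (G : X.Modules) [DCoh.HasLTensorMod G] :
    IsZero (DCoh.HD ((DCoh.LTensorMod G).obj (DCoh.inD X F)) (-1)) := by
  have h : DCoh.HasFlatAmplitudeIn 0 0 (DCoh.inD X F) := by
    refine ⟨(CochainComplex.singleFunctor X.Modules 0).obj F,
      fun i hi => HomologicalComplex.isZero_single_obj_X _ _ _ _ (by omega), fun i => ?_,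
      ⟨(DerivedCategory.singleFunctorIsoCompQ X.Modules 0).symm.app F⟩⟩
    by_cases hi : i = 0
    · subst hi
      exact H7FlatCover.isFlat_of_iso (HomologicalComplex.singleObjXSelf (ComplexShape.up ℤ) 0 F).symm hF
    · exact fun x => by
        have : Subsingleton ((DerSch.stalkFunctor X x).obj (((CochainComplex.singleFunctor X.Modules 0).obj F).X i)) :=
          ModuleCat.subsingleton_of_isZero
            (Functor.map_isZero _ (HomologicalComplex.isZero_single_obj_X _ _ _ _ hi))
        show Module.Flat (X.presheaf.stalk x) ((DerSch.stalkFunctor X x).obj _)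
        infer_instance
  exact torAmp_of_flatAmp h G (-1) (Or.inl (by omega))

end sheaf

end Groth.Agent.H7TorFlat
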