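import Groth.Agent.Lib.H7CokerFree
import Groth.Agent.Lib.H7PseudoSummand
import Groth.Agent.Lib.H7TorFlat
import Groth.Agent.Lib.H7KFlatResMain
import Mathlib

/-! Pseudo-coherent objects of finite tor amplitude are perfect. -/

universe u v w
open CategoryTheory Limits AlgebraicGeometry Opposite TopologicalSpace HomologicalComplex CategoryTheory.Pretriangulated CochainComplex

namespace Groth.Agent.H7PerfAmp
open Groth.Agent H7KFlatSheaf H7PerfPull H7FinFree H7LocLift H7PerfTri H7PseudoPull H7PseudoTri H7TorAmp H7TorFlat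

attribute [local instance] HasDerivedCategory.standard

variable {X : Scheme.{u}}

lemma finLocFree_zero {M : X.Modules} (h : IsZero M) : FlatMod.IsFinLocFree M :=
  (isFinLocFree_iff _).2 fun _ => ⟨⊤, trivial, H7Betti.isFree_of_isZero ((Scheme.Modules.pullback _).map_isZero h)⟩

lemma strictlyPerfect_trunc {R : CochainComplex X.Modules ℤ} (hR : DCoh.IsStrictlyPerfect R) (m : ℤ) :
    DCoh.IsStrictlyPerfect (H7StupidGE.trunc R m) := by
  obtain ⟨⟨a, b, hab⟩, hf⟩ := hR
  refine ⟨⟨a, b, fun k hk => ?_⟩, fun k => ?_⟩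
  · by_cases h : m ≤ k
    · exact (hab k hk).of_iso (eqToIso (H7StupidGE.X_eq h))
    · exact H7StupidGE.isZero_below (by omega)
  · by_cases h : m ≤ k
    · exact finLocFree_of_iso (eqToIso (H7StupidGE.X_eq h)).symm (hf k)
    · exact finLocFree_zero (H7StupidGE.isZero_below (by omega))

lemma flat_rst {Y : Scheme.{u}} (j : Y ⟶ X) [IsOpenImmersion j] {M : X.Modules} (h : FlatMod.IsFlat M) :
    FlatMod.IsFlat ((Scheme.Modules.restrictFunctor j).obj M) :=
  H7FlatCover.isFlat_of_iso ((Scheme.Modules.restrictFunctorIsoPullback j).app M).symm (flat_pullback j h)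

set_option maxHeartbeats 1000000 in
/-- the cokernel at the bottom of the model is flat -/
lemma flat_coker_model {P K : CochainComplex X.Modules ℤ} (β : P ⟶ K) {a b : ℤ} (hP : DCoh.IsStrictlyPerfect P)
    (hK : DCoh.VanishesOutside K a b) (hflat : ∀ i, FlatMod.IsFlat (K.X i))
    (hex : ∀ k, a - 1 ≤ k → (mappingCone β).ExactAt k) : FlatMod.IsFlat (cokernel (P.d (a - 1) a)) := by
  let C := mappingCone β
  have hCflat : ∀ i, FlatMod.IsFlat (C.X i) := fun i => by
    have := HomologicalComplex.HasHomotopyCofiber.hasBinaryBiproduct β i (i + 1) rfl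
    exact H7FlatCover.isFlat_of_iso (homotopyCofiber.XIsoBiprod β i (i + 1) rfl).symm
      (Groth.Agent.H7KFlatResMain.isFlat_biprod (flat_of_finLocFree (hP.2 _)) (hflat i))
  obtain ⟨⟨p, q, hpq⟩, _⟩ := hP
  have hCb : ∀ k, max q b < k → IsZero (C.X k) := fun k hk =>
    (mappingCone.isZero_X_iff β k).2 ⟨hpq _ (by omega), hK k (by omega)⟩
  have hCv : DCoh.VanishesOutside C (min (p - 1) a) (max q b) := fun k hk =>
    (mappingCone.isZero_X_iff β k).2 ⟨hpq _ (by omega), hK k (by omega)⟩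
  have hCskf : SKF C := skf_of_vanishes hCv hCflat
  have hk : FlatMod.IsFlat (kernel (C.d a (a + 1))) :=
    flat_kernel_d hCflat (fun i hi => hex i (by omega)) fun x N i hi =>
      exactAt_tenN_of_kflat (hCskf x) (m := a) (fun j hj => ((H7StalkDetect.jointly X).exactAt_iff C j).1 (hex j (by omega)) x)
        N i (by omega)
  -- the cokernel below is the kernel above
  have h₁ := hex (a - 1) le_rfl
  have h₂ := hex a (by omega)
  rw [exactAt_iff' _ (a - 1 - 1) (a - 1) a (by simp) (by simp)] at h₁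
  rw [exactAt_iff' _ (a - 1) a (a + 1) (by simp) (by simp)] at h₂
  let τ : cokernel (C.d (a - 1 - 1) (a - 1)) ⟶ kernel (C.d a (a + 1)) :=
    kernel.lift _ (cokernel.desc _ (C.d (a - 1) a) (C.d_comp_d _ _ _))
      (by rw [← cancel_epi (cokernel.π (C.d (a - 1 - 1) (a - 1))), cokernel.π_desc_assoc, C.d_comp_d, comp_zero])
  have : Mono τ := by
    have : Mono (τ ≫ kernel.ι _) := by rw [kernel.lift_ι]; exact h₁.mono_cokernelDesc
    exact mono_of_mono τ (kernel.ι _)
  have : Epi τ := by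
    have e : cokernel.π (C.d (a - 1 - 1) (a - 1)) ≫ τ = kernel.lift (C.d a (a + 1)) (C.d (a - 1) a) (C.d_comp_d _ _ _) := by
      rw [← cancel_mono (kernel.ι _), Category.assoc, kernel.lift_ι, kernel.lift_ι, cokernel.π_desc]
    have : Epi (kernel.lift (C.d a (a + 1)) (C.d (a - 1) a) (C.d_comp_d _ _ _)) :=
      (ShortComplex.exact_iff_epi_kernel_lift _).1 h₂
    exact epi_of_epi_fac e
  have : IsIso τ := isIso_of_mono_of_epi τ
  -- comparison with the model
  have hz₁ : IsZero (K.X (a - 1)) := hK _ (by omega)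
  have hz₂ : IsZero (K.X (a - 1 - 1)) := hK _ (by omega)
  have hv : ∀ (i j : ℤ) (h : i + (-1) = j), IsZero (K.X j) → IsIso ((mappingCone.inl β).v i j h) := fun i j h hz =>
    ⟨(mappingCone.fst β).1.v j i (by omega), mappingCone.inl_v_fst_v β _ _ _, by
      refine Eq.trans ?_ (mappingCone.id_X β j i (by omega))
      rw [show (mappingCone.inr β).f j = 0 from hz.eq_of_src _ _, comp_zero, add_zero]⟩
  have := hv (a - 1) (a - 1 - 1) (by omega) hz₂
  have := hv a (a - 1) (by omega) hz₁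
  let e₁ : P.X (a - 1) ≅ C.X (a - 1 - 1) := asIso ((mappingCone.inl β).v (a - 1) (a - 1 - 1) _)
  let e₂ : P.X a ≅ C.X (a - 1) :=
    { hom := -(mappingCone.inl β).v a (a - 1) (by omega)
      inv := -inv ((mappingCone.inl β).v a (a - 1) _)
      hom_inv_id := by simp
      inv_hom_id := by simp }
  have comm : P.d (a - 1) a ≫ e₂.hom = e₁.hom ≫ C.d (a - 1 - 1) (a - 1) := by
    refine Eq.symm ((mappingCone.inl_v_d β (a - 1) (a - 1 - 1) a (by omega) (by omega)).trans ?_)
    show _ = P.d (a - 1) a ≫ (-(mappingCone.inl β).v a (a - 1) _)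
    rw [show β.f (a - 1) = 0 from hz₁.eq_of_tgt _ _, zero_comp, zero_sub, Preadditive.comp_neg]
  exact H7FlatCover.isFlat_of_iso (cokernel.mapIso _ _ e₁ e₂ comm ≪≫ asIso τ).symm hk

theorem perfect_of_model {P K : CochainComplex X.Modules ℤ} (β : P ⟶ K) {a b : ℤ} (hP : DCoh.IsStrictlyPerfect P)
    (hK : DCoh.VanishesOutside K a b) (hflat : ∀ i, FlatMod.IsFlat (K.X i))
    (hex : ∀ k, a - 1 ≤ k → (mappingCone β).ExactAt k) : DCoh.IsPerfect (DerivedCategory.Q.obj K) := by
  have : K.IsStrictlyGE a := (CochainComplex.isStrictlyGE_iff K a).2 fun i hi => hK i (Or.inl hi)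
  have hβ : MIso (a - 1) (DerivedCategory.Q.map β) :=
    mIso_mor₁ _ (DerivedCategory.mappingCone_triangle_distinguished β) fun k hk => (isZero_HD_Q_iff _ k).2 (hex k hk)
  have : QuasiIso (truncGEMap β a) := (quasiIso_truncGEMap_iff β a).2 fun i hi =>
    (quasiIsoAt_iff_isIso_homologyMap β i).2
      ((NatIso.isIso_map_iff (DerivedCategory.homologyFunctorFactors _ i) β).1 (hβ.1 i (by omega)))
  let e : DerivedCategory.Q.obj K ≅ DerivedCategory.Q.obj (P.truncGE a) :=
    asIso (DerivedCategory.Q.map (K.πTruncGE a)) ≪≫ (asIso (DerivedCategory.Q.map (truncGEMap β a))).symm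
  refine isPerfect_of_iso e.symm ((isPerfect_iff _).2 fun x => ?_)
  let eM : (P.truncGE a).X a ≅ cokernel (P.d (a - 1) a) :=
    P.truncGEXIsoOpcycles a ≪≫
      IsColimit.coconePointUniqueUpToIso (P.opcyclesIsCokernel (a - 1) a (by simp)) (colimit.isColimit _)
  obtain ⟨V, hxV, hfree⟩ := H7CokerFree.coker_free_near (hP.2 (a - 1)) (hP.2 a) (P.d (a - 1) a) x
    (flat_coker_model β hP hK hflat hex x)
  obtain ⟨⟨p, q, hpq⟩, hf⟩ := hP
  refine ⟨V, V.ι, inferInstance, (rst V.ι).obj (P.truncGE a), ⟨⟨x, hxV⟩, rfl⟩, ⟨⟨a, max a q, fun k hk => ?_⟩, fun k => ?_⟩,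
    ⟨rQ V.ι _⟩⟩
  · apply (Scheme.Modules.restrictFunctor V.ι).map_isZero
    rcases hk with hk | hk
    · exact (P.truncGE a).isZero_of_isStrictlyGE a k hk
    · exact (hpq k (Or.inr (by omega))).of_iso (P.truncGEXIso a k (by omega))
  · show FlatMod.IsFinLocFree ((Scheme.Modules.restrictFunctor V.ι).obj ((P.truncGE a).X k))
    rcases lt_trichotomy k a with hk | rfl | hk
    · exact finLocFree_zero ((Scheme.Modules.restrictFunctor V.ι).map_isZero
        ((P.truncGE a).isZero_of_isStrictlyGE a k hk))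
    · exact (isFinLocFree_iff _).2 fun _ => ⟨⊤, trivial, (hfree.of_iso
        (((Scheme.Modules.restrictFunctorIsoPullback V.ι).app _).symm ≪≫
          (Scheme.Modules.restrictFunctor V.ι).mapIso eM.symm)).pullback _⟩
    · exact finLocFree_rst _ (finLocFree_of_iso (P.truncGEXIso a k hk).symm (hf k))

theorem isPerfect_local {E : DCoh.D X}
    (h : ∀ x : X, ∃ (W : Scheme.{u}) (j : W ⟶ X) (_ : IsOpenImmersion j), x ∈ Set.range j.base ∧ DCoh.IsPerfect ((rD j).obj E)) :
    DCoh.IsPerfect E := by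
  rw [isPerfect_iff]
  intro x
  obtain ⟨W, j, _, ⟨w, rfl⟩, hW⟩ := h x
  obtain ⟨W', j', _, P, ⟨w', rfl⟩, hP, ⟨e⟩⟩ := (isPerfect_iff _).1 hW w
  exact ⟨W', j' ≫ j, inferInstance, P, ⟨w', rfl⟩, hP, ⟨(rDComp j' j (j' ≫ j) rfl E).symm ≪≫ e⟩⟩

theorem isPerfect_of_flatAmp {E : DCoh.D X} {a b : ℤ} (h1 : DCoh.HasFlatAmplitudeIn a b E)
    (h2 : DCoh.IsPseudoCoherentD (a - 1) E) : DCoh.IsPerfect E := by
  obtain ⟨K, hK, hflat, ⟨eK⟩⟩ := h1
  refine isPerfect_local fun x => ?_
  obtain ⟨W, j, _, R, α, ⟨w, rfl⟩, hR, hα⟩ := (isPseudo_iff _ _).1 h2 x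
  -- truncate the model
  let P := H7StupidGE.trunc R (a - 1)
  have hι : MIso (a - 1) (DerivedCategory.Q.map (H7StupidGE.ι R (a - 1))) :=
    ⟨fun i hi => (NatIso.isIso_map_iff (DerivedCategory.homologyFunctorFactors _ i) _).2 (H7StupidGE.homologyMap_iso hi),
      ((MorphismProperty.epimorphisms _).arrow_mk_iso_iff (((Functor.mapArrowFunctor _ _).mapIso
        (DerivedCategory.homologyFunctorFactors _ (a - 1))).app (Arrow.mk (H7StupidGE.ι R (a - 1))))).2
          H7StupidGE.homologyMap_epi⟩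
  have hP := strictlyPerfect_trunc hR (a - 1)
  have hγ := MIso.comp_iso (mIso_comp hι hα) (Iso.refl _) ((rD j).mapIso eK.symm ≪≫ rQ j K)
  generalize ((Iso.refl (DerivedCategory.Q.obj P)).hom ≫ _ ≫ _) = γ at hγ
  obtain ⟨O, hwO, hO⟩ := exists_chain_map hP γ w
  obtain ⟨β, hβ⟩ := hO
  have hQβ : MIso (a - 1) (DerivedCategory.Q.map β) := by
    have h0 := MIso.comp_iso (mIso_rD O.ι hγ)
      ((Scheme.Modules.restrictFunctor O.ι).mapDerivedCategoryFactors.app P).symm
      ((Scheme.Modules.restrictFunctor O.ι).mapDerivedCategoryFactors.app ((rst j).obj K))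
    rw [show (rD O.ι).map γ = _ from hβ] at h0
    refine Eq.mp (congrArg (MIso (a - 1)) ?_) h0
    let Φ := (Scheme.Modules.restrictFunctor O.ι).mapDerivedCategoryFactors
    show (Φ.app P).inv ≫ ((Φ.app P).hom ≫ DerivedCategory.Q.map β ≫ (Φ.app ((rst j).obj K)).inv) ≫
      (Φ.app ((rst j).obj K)).hom = DerivedCategory.Q.map β
    simp only [Category.assoc, Iso.inv_hom_id_assoc, Iso.inv_hom_id]
    exact Category.comp_id _
  refine ⟨O, O.ι ≫ j, inferInstance, ⟨⟨w, hwO⟩, rfl⟩, ?_⟩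
  have hp := perfect_of_model β (strictlyPerfect_rst _ hP) (a := a) (b := b)
    (fun k hk => (Scheme.Modules.restrictFunctor O.ι).map_isZero ((Scheme.Modules.restrictFunctor j).map_isZero (hK k hk)))
    (fun k => flat_rst _ (flat_rst j (hflat k)))
    fun k hk => (isZero_HD_Q_iff _ k).1
      ((mIso_iff _ (DerivedCategory.mappingCone_triangle_distinguished β) (a - 1)).1 hQβ k hk)
  exact isPerfect_of_iso ((rQ O.ι _).symm ≪≫ (rD O.ι).mapIso ((rQ j K).symm ≪≫ (rD j).mapIso eK) ≪≫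
    rDComp O.ι j (O.ι ≫ j) rfl E) hp

end Groth.Agent.H7PerfAmp
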