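import Groth.Agent.Lib.H7FPFlat
import Groth.Agent.Lib.H7PerfTri
import Groth.Agent.Lib.H7PerfAmp
import Mathlib

/-! Where all cohomology sheaves of a perfect complex are locally free. -/

universe u v w
open CategoryTheory Limits AlgebraicGeometry Opposite TopologicalSpace HomologicalComplex

namespace Groth.Agent.H7LocFreeLocus
open Groth.Agent H7PerfPull H7FinFree H7LocLift H7PerfTri H7PerfAmp H7FPFlat

attribute [local instance] HasDerivedCategory.standard

variable {X Y : Scheme.{u}}

lemma finite_stalk_of_pullback (j : Y ⟶ X) [IsOpenImmersion j] {F : X.Modules} (y : Y)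
    (h : Module.Finite (Y.presheaf.stalk y) ((DerSch.stalkFunctor Y y).obj ((Scheme.Modules.pullback j).obj F))) :
    Module.Finite (X.presheaf.stalk (j.base y)) ((DerSch.stalkFunctor X (j.base y)).obj F) := by
  let φ := (j.stalkMap y).hom
  letI := φ.toAlgebra
  let e : (DerSch.stalkFunctor Y y).obj ((Scheme.Modules.pullback j).obj F) ≅
      (ModuleCat.extendScalars φ).obj ((DerSch.stalkFunctor X (j.base y)).obj F) := (H7StalkPull.pullStalkIso j y).app F
  have h1 : Module.Finite (Y.presheaf.stalk y)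
      (TensorProduct (X.presheaf.stalk (j.base y)) (Y.presheaf.stalk y) ((DerSch.stalkFunctor X (j.base y)).obj F)) :=
    Module.Finite.equiv e.toLinearEquiv
  have hb : Function.Bijective (algebraMap (X.presheaf.stalk (j.base y)) (Y.presheaf.stalk y)) :=
    (ConcreteCategory.isIso_iff_bijective _).1 (inferInstance : IsIso (j.stalkMap y))
  let eA := LinearEquiv.ofBijective (Algebra.linearMap (X.presheaf.stalk (j.base y)) (Y.presheaf.stalk y)) hb
  have : Module.Finite (X.presheaf.stalk (j.base y)) (Y.presheaf.stalk y) := Module.Finite.equiv eA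
  have h2 : Module.Finite (X.presheaf.stalk (j.base y))
      (TensorProduct (X.presheaf.stalk (j.base y)) (Y.presheaf.stalk y) ((DerSch.stalkFunctor X (j.base y)).obj F)) :=
    Module.Finite.trans (Y.presheaf.stalk y) _
  exact Module.Finite.equiv ((TensorProduct.lid _ _).symm.trans
    (TensorProduct.congr eA (LinearEquiv.refl _ _))).symm

theorem finite_stalk {F : X.Modules} (h : FlatMod.IsFinLocFree F) (x : X) :
    Module.Finite (X.presheaf.stalk x) ((DerSch.stalkFunctor X x).obj F) := by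
  obtain ⟨U, hx, n, ⟨e⟩⟩ := (isFinLocFree_iff F).1 h x
  exact finite_stalk_of_pullback U.ι (⟨x, hx⟩ : (U : Scheme.{u})) (Module.Finite.of_basis ((H7Betti.coords e).basis ⟨x, hx⟩))

/-- finite local freeness is local -/
lemma finLocFree_local {F : X.Modules}
    (h : ∀ x : X, ∃ (W : Scheme.{u}) (j : W ⟶ X) (_ : IsOpenImmersion j), x ∈ Set.range j.base ∧
      FlatMod.IsFinLocFree ((Scheme.Modules.pullback j).obj F)) : FlatMod.IsFinLocFree F := by
  rw [isFinLocFree_iff]
  intro x
  obtain ⟨W, j, _, ⟨w, rfl⟩, hW⟩ := h x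
  obtain ⟨U, hw, hU⟩ := (isFinLocFree_iff _).1 hW w
  let i := U.ι ≫ j
  refine ⟨i.opensRange, ⟨⟨w, hw⟩, rfl⟩, ?_⟩
  exact ((hU.of_iso ((Scheme.Modules.pullbackComp U.ι j).app F)).pullback i.isoOpensRange.inv).of_iso
    ((Scheme.Modules.pullbackComp i.isoOpensRange.inv i).app _ ≪≫ eqToIso (by rw [i.isoOpensRange_inv_comp]))

theorem finLocFree_of_retract {K M : X.Modules} (hM : FlatMod.IsFinLocFree M) (ι : K ⟶ M) (r : M ⟶ K)
    (h : ι ≫ r = 𝟙 K) : FlatMod.IsFinLocFree K := by
  rw [isFinLocFree_iff]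
  intro x
  let g : M ⟶ M := 𝟙 M - r ≫ ι
  have hg : g ≫ r = 0 := by
    simp only [g, Preadditive.sub_comp, Category.id_comp, Category.assoc, h, Category.comp_id, sub_self]
  let eK : cokernel g ≅ K :=
    { hom := cokernel.desc g r hg
      inv := ι ≫ cokernel.π g
      hom_inv_id := by
        rw [← cancel_epi (cokernel.π g), cokernel.π_desc_assoc, Category.comp_id]
        have := cokernel.condition g
        simp only [g, Preadditive.sub_comp, Category.id_comp, Category.assoc, sub_eq_zero] at this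
        exact this.symm
      inv_hom_id := by rw [Category.assoc, cokernel.π_desc, h] }
  have hflat : Module.Flat (X.presheaf.stalk x) ((DerSch.stalkFunctor X x).obj (cokernel g)) := by
    have : Module.Flat (X.presheaf.stalk x) ((DerSch.stalkFunctor X x).obj M) := flat_of_finLocFree hM x
    refine Module.Flat.of_retract ((DerSch.stalkFunctor X x).map (eK.hom ≫ ι)).hom
      ((DerSch.stalkFunctor X x).map (r ≫ eK.inv)).hom ?_
    rw [← ModuleCat.hom_comp, ← Functor.map_comp, Category.assoc, reassoc_of% h]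
    simp
  obtain ⟨V, hxV, hfree⟩ := H7CokerFree.coker_free_near hM hM g x hflat
  exact ⟨V, hxV, hfree.of_iso ((Scheme.Modules.pullback V.ι).mapIso eK)⟩

/-- the kernel of an epimorphism of finite locally free modules -/
theorem finLocFree_kernel {M N : X.Modules} (hM : FlatMod.IsFinLocFree M) (hN : FlatMod.IsFinLocFree N)
    (p : M ⟶ N) [Epi p] : FlatMod.IsFinLocFree (kernel p) := by
  refine finLocFree_local fun x => ?_
  obtain ⟨U, hxU, n, ⟨eN⟩⟩ := (isFinLocFree_iff N).1 hN x
  let F := Scheme.Modules.restrictFunctor U.ι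
  let cN : H7Betti.Coords (F.obj N) n := H7Betti.coords ((Scheme.Modules.restrictFunctorIsoPullback U.ι).app N ≪≫ eN)
  obtain ⟨V, hxV, l, hl⟩ := exists_lift cN (F.map p) (𝟙 (F.obj N)) ⟨x, hxU⟩ fun z => by
    have := Functor.preservesEpimorphisms_of_adjunction (Scheme.Modules.restrictAdjunction U.ι)
    have : Epi (F.map p) := (inferInstance : Epi ((Scheme.Modules.restrictFunctor U.ι).map p))
    have : Function.Surjective ((DerSch.stalkFunctor (U : Scheme.{u}) ⟨x, hxU⟩).map (F.map p)).hom :=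
      (ModuleCat.epi_iff_surjective _).1 (@CategoryTheory.Functor.map_epi _ _ _ _ (DerSch.stalkFunctor (U : Scheme.{u}) ⟨x, hxU⟩) (Functor.preservesEpimorphisms_of_adjunction (H7Stalk.adj _)) _ _ (F.map p) this)
    obtain ⟨y, hy⟩ := this z
    exact ⟨y, by rw [hy, CategoryTheory.Functor.map_id]; rfl⟩
  let G := Scheme.Modules.restrictFunctor V.ι
  rw [CategoryTheory.Functor.map_id] at hl
  let q := G.map (F.map p)
  let r : G.obj (F.obj M) ⟶ kernel q := kernel.lift q (𝟙 _ - q ≫ l) (by
    rw [Preadditive.sub_comp, Category.id_comp, Category.assoc, hl, Category.comp_id, sub_self])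
  have hr : kernel.ι q ≫ r = 𝟙 _ := by
    rw [← cancel_mono (kernel.ι q), Category.assoc, kernel.lift_ι, Preadditive.comp_sub, kernel.condition_assoc,
      zero_comp, sub_zero, Category.comp_id, Category.id_comp]
  have hK : FlatMod.IsFinLocFree (kernel q) :=
    finLocFree_of_retract (finLocFree_rst _ (finLocFree_rst _ hM)) (kernel.ι q) r hr
  refine ⟨V, V.ι ≫ U.ι, inferInstance, ⟨⟨⟨x, hxU⟩, hxV⟩, rfl⟩, finLocFree_of_iso ?_ hK⟩
  exact (PreservesKernel.iso G (F.map p)).symm ≪≫ G.mapIso (PreservesKernel.iso F p).symm ≪≫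
    ((Scheme.Modules.restrictFunctorComp V.ι U.ι).symm.app (kernel p)) ≪≫
      (Scheme.Modules.restrictFunctorIsoPullback (V.ι ≫ U.ι)).app (kernel p)

/-- the step of the descending induction -/
theorem step {P : CochainComplex X.Modules ℤ} (hP : ∀ k, FlatMod.IsFinLocFree (P.X k)) (k : ℤ)
    (hZ : FlatMod.IsFinLocFree (P.cycles k)) (hH : FlatMod.IsFinLocFree (P.homology k)) :
    FlatMod.IsFinLocFree (P.cycles (k - 1)) := by
  let S := ShortComplex.mk (P.toCycles (k - 1) k) (P.homologyπ k) (P.toCycles_comp_homologyπ (k - 1) k)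
  have hS : S.Exact := S.exact_of_g_is_cokernel (P.homologyIsCokernel (k - 1) k (by simp))
  let t := kernel.lift (P.homologyπ k) (P.toCycles (k - 1) k) (P.toCycles_comp_homologyπ (k - 1) k)
  have : Epi t := (ShortComplex.exact_iff_epi_kernel_lift S).1 hS
  have : Epi (P.homologyπ k) := inferInstance
  have hB := finLocFree_kernel hZ hH (P.homologyπ k)
  have hK := finLocFree_kernel (hP (k - 1)) hB t
  have e : P.d (k - 1) k = t ≫ (kernel.ι (P.homologyπ k) ≫ P.iCycles k) := by
    rw [kernel.lift_ι_assoc, toCycles_i]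
  exact finLocFree_of_iso ((kernelCompMono t (kernel.ι (P.homologyπ k) ≫ P.iCycles k)).symm ≪≫
    kernelIsoOfEq e.symm ≪≫
    (IsLimit.conePointUniqueUpToIso (P.cyclesIsKernel (k - 1) k (by simp)) (limit.isLimit _)).symm) hK

theorem locus_aux : ∀ (n : ℕ) {W : Scheme.{u}} (P : CochainComplex W.Modules ℤ) (a : ℤ) (x : W),
    (∀ k, FlatMod.IsFinLocFree (P.X k)) → (∀ k, k < a → IsZero (P.X k)) →
    (∀ k, Module.Flat (W.presheaf.stalk x) ((DerSch.stalkFunctor W x).obj (P.homology k))) →
    FlatMod.IsFinLocFree (P.cycles (a - 1 + n)) →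
    ∃ (W' : Scheme.{u}) (j : W' ⟶ W) (_ : IsOpenImmersion j), x ∈ Set.range j.base ∧
      ∀ k, k ≤ a - 1 + n → FlatMod.IsFinLocFree ((Scheme.Modules.pullback j).obj (P.homology k))
  | 0, W, P, a, x, _, hz, _, _ => ⟨W, 𝟙 W, inferInstance, ⟨x, rfl⟩, fun k hk =>
      finLocFree_zero ((Scheme.Modules.pullback (𝟙 W)).map_isZero
        ((exactAt_iff_isZero_homology _ _).1 (ShortComplex.exact_of_isZero_X₂ _ (hz k (by omega)))))⟩
  | n + 1, W, P, a, x, hP, hz, hflat, hZ => by
    obtain ⟨k, hk⟩ : ∃ k, k = a - 1 + ((n + 1 : ℕ) : ℤ) := ⟨_, rfl⟩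
    rw [← hk] at hZ ⊢
    let eH : cokernel (P.toCycles (k - 1) k) ≅ P.homology k :=
      IsColimit.coconePointUniqueUpToIso (colimit.isColimit _) (P.homologyIsCokernel (k - 1) k (by simp))
    obtain ⟨V, hxV, hV⟩ := H7CokerFree.coker_free_near (hP (k - 1)) hZ (P.toCycles (k - 1) k) x
      (have := hflat k; Module.Flat.of_linearEquiv ((DerSch.stalkFunctor W x).mapIso eH).toLinearEquiv)
    let P' := (rst V.ι).obj P
    have hH' : FlatMod.IsFinLocFree (P'.homology k) :=
      finLocFree_of_iso ((Scheme.Modules.pullback V.ι).mapIso eH ≪≫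
        ((Scheme.Modules.restrictFunctorIsoPullback V.ι).app _).symm ≪≫
          ((P.sc k).mapHomologyIso (Scheme.Modules.restrictFunctor V.ι)).symm)
        ((isFinLocFree_iff _).2 fun _ => ⟨⊤, trivial, hV.pullback _⟩)
    have hZ' : FlatMod.IsFinLocFree (P'.cycles k) :=
      finLocFree_of_iso ((P.sc k).mapCyclesIso (Scheme.Modules.restrictFunctor V.ι)).symm (finLocFree_rst _ hZ)
    have hP' : ∀ l, FlatMod.IsFinLocFree (P'.X l) := fun l => finLocFree_rst _ (hP l)
    have hstep := step hP' k hZ' hH'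
    rw [show k - 1 = a - 1 + (n : ℤ) by omega] at hstep
    have hflat' : ∀ l, Module.Flat ((V : Scheme.{u}).presheaf.stalk ⟨x, hxV⟩)
        ((DerSch.stalkFunctor (V : Scheme.{u}) ⟨x, hxV⟩).obj (P'.homology l)) := fun l => by
      have h1 := flat_stalk_pullback V.ι ⟨x, hxV⟩ (M := P.homology l) (hflat l)
      let e : P'.homology l ≅ (Scheme.Modules.pullback V.ι).obj (P.homology l) :=
        (P.sc l).mapHomologyIso (Scheme.Modules.restrictFunctor V.ι) ≪≫
          (Scheme.Modules.restrictFunctorIsoPullback V.ι).app (P.homology l)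
      exact @Module.Flat.of_linearEquiv _ _ _ _ _ _ _ _ h1
        ((DerSch.stalkFunctor (V : Scheme.{u}) ⟨x, hxV⟩).mapIso e).toLinearEquiv
    obtain ⟨W', j, _, ⟨w, hw⟩, hall⟩ := locus_aux n P' a ⟨x, hxV⟩ hP'
      (fun l hl => (Scheme.Modules.restrictFunctor V.ι).map_isZero (hz l hl)) hflat' hstep
    refine ⟨W', j ≫ V.ι, inferInstance, ⟨w, congrArg V.ι.base hw⟩, fun l hl => ?_⟩
    have hl' : FlatMod.IsFinLocFree ((Scheme.Modules.pullback j).obj (P'.homology l)) := by
      rcases eq_or_lt_of_le hl with h | h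
      · subst h; exact H7PerfPull.finLocFree_pullback j hH'
      · exact hall l (by omega)
    exact finLocFree_of_iso ((Scheme.Modules.pullback j).mapIso
      ((P.sc l).mapHomologyIso (Scheme.Modules.restrictFunctor V.ι) ≪≫
        (Scheme.Modules.restrictFunctorIsoPullback V.ι).app _) ≪≫ (Scheme.Modules.pullbackComp j V.ι).app _) hl'

/-- all cohomology sheaves are free near a point where their stalks are flat -/
theorem exists_nhd {E : DCoh.D X} (hE : DCoh.IsPerfect E) (x : X)
    (hflat : ∀ k, Module.Flat (X.presheaf.stalk x) ((DerSch.stalkFunctor X x).obj (DCoh.HD E k))) :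
    ∃ (W : Scheme.{u}) (j : W ⟶ X) (_ : IsOpenImmersion j), x ∈ Set.range j.base ∧
      ∀ k, FlatMod.IsFinLocFree ((Scheme.Modules.pullback j).obj (DCoh.HD E k)) := by
  obtain ⟨V, hx, hV⟩ := hE x
  let e := DerivedCategory.Q.objObjPreimageIso E
  let F := DerivedCategory.Q.objPreimage E
  obtain ⟨P, ⟨⟨a, b, hab⟩, hf⟩, ⟨eP⟩⟩ := hV F ⟨e⟩
  let eV : ∀ k, (Scheme.Modules.pullback V.ι).obj (DCoh.HD E k) ≅ P.homology k := fun k =>
    ((Scheme.Modules.restrictFunctorIsoPullback V.ι).app _).symm ≪≫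
      (Scheme.Modules.restrictFunctor V.ι).mapIso ((DerivedCategory.homologyFunctor _ k).mapIso e.symm ≪≫
        (DerivedCategory.homologyFunctorFactors _ k).app F) ≪≫
      ((F.sc k).mapHomologyIso (Scheme.Modules.restrictFunctor V.ι)).symm ≪≫
      ((DerivedCategory.homologyFunctorFactors (V : Scheme.{u}).Modules k).app ((DCoh.restrictCx V).obj F)).symm ≪≫
      (DerivedCategory.homologyFunctor _ k).mapIso eP ≪≫ (DerivedCategory.homologyFunctorFactors _ k).app P
  have hflatP : ∀ k, Module.Flat ((V : Scheme.{u}).presheaf.stalk ⟨x, hx⟩)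
      ((DerSch.stalkFunctor (V : Scheme.{u}) ⟨x, hx⟩).obj (P.homology k)) := fun k =>
    have := flat_stalk_pullback V.ι ⟨x, hx⟩ (M := DCoh.HD E k) (hflat k)
    Module.Flat.of_linearEquiv ((DerSch.stalkFunctor (V : Scheme.{u}) ⟨x, hx⟩).mapIso (eV k).symm).toLinearEquiv
  have htop : FlatMod.IsFinLocFree (P.cycles (a - 1 + ((b + 2 - a).toNat : ℤ))) := by
    have hz : IsZero (P.X (a - 1 + ((b + 2 - a).toNat : ℤ))) := hab _ (by omega)
    exact finLocFree_zero ((IsZero.iff_id_eq_zero _).2 (by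
      rw [← cancel_mono (P.iCycles _)]; exact hz.eq_of_tgt _ _))
  obtain ⟨W, j, _, ⟨w, hw⟩, hall⟩ := locus_aux (b + 2 - a).toNat P a ⟨x, hx⟩ hf (fun k hk => hab k (Or.inl hk)) hflatP htop
  refine ⟨W, j ≫ V.ι, inferInstance, ⟨w, congrArg V.ι.base hw⟩, fun k => ?_⟩
  have hk : FlatMod.IsFinLocFree ((Scheme.Modules.pullback j).obj (P.homology k)) := by
    by_cases h : k ≤ a - 1 + ((b + 2 - a).toNat : ℤ)
    · exact hall k h
    · exact finLocFree_zero ((Scheme.Modules.pullback j).map_isZero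
        ((exactAt_iff_isZero_homology _ _).1 (ShortComplex.exact_of_isZero_X₂ _ (hab k (by omega)))))
  exact finLocFree_of_iso ((Scheme.Modules.pullback j).mapIso (eV k).symm ≪≫
    (Scheme.Modules.pullbackComp j V.ι).app _) hk

end Groth.Agent.H7LocFreeLocus
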