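import Groth.Agent.Lib.H7AffineD
import Groth.Agent.Lib.H5DTen
import Groth.Agent.Lib.LQAff
import Groth.Prelude.Def_DCoh2
import Mathlib

/-! `D(R)` is the category of objects of `D(O_{Spec R})` with quasi-coherent cohomology. -/

universe u w v₁ u₁
open CategoryTheory Limits AlgebraicGeometry Opposite Category

namespace Groth.Agent.H7TildeEquiv
open Groth.Agent

section generic

variable {C : Type u₁} [Category.{v₁} C] [Abelian C] [HasDerivedCategory.{w} C]

local notation "H₀" => DerivedCategory.homologyFunctor C 0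
local notation "S₀" => DerivedCategory.singleFunctor C 0

/-- the cycle of a chain map from an object in degree zero -/
noncomputable def cyc {G : C} {J : CochainComplex C ℤ}
    (f : (HomologicalComplex.single C (ComplexShape.up ℤ) 0).obj G ⟶ J) : G ⟶ J.cycles 0 :=
  (HomologicalComplex.singleObjCyclesSelfIso (ComplexShape.up ℤ) 0 G).inv ≫ HomologicalComplex.cyclesMap f 0

/-- the chain map of a cycle -/
noncomputable def ofCyc {G : C} {J : CochainComplex C ℤ} (z : G ⟶ J.cycles 0) :
    (HomologicalComplex.single C (ComplexShape.up ℤ) 0).obj G ⟶ J :=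
  HomologicalComplex.mkHomFromSingle (z ≫ J.iCycles 0) (fun j _ => by simp)

lemma cyc_ofCyc {G : C} {J : CochainComplex C ℤ} (z : G ⟶ J.cycles 0) : cyc (ofCyc z) = z := by
  rw [← cancel_mono (J.iCycles 0)]
  simp [cyc, ofCyc, HomologicalComplex.mkHomFromSingle, HomologicalComplex.singleObjXSelf,
    HomologicalComplex.XIsoOfEq_rfl]

/-- `G` in degree zero, in `D` -/
noncomputable def wIso (G : C) :
    (S₀).obj G ≅ DerivedCategory.Q.obj ((HomologicalComplex.single C (ComplexShape.up ℤ) 0).obj G) :=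
  (DerivedCategory.singleFunctorIsoCompQ C 0).app G

/-- homology in `D` of a complex -/
noncomputable def uIso (J : CochainComplex C ℤ) : (H₀).obj (DerivedCategory.Q.obj J) ≅ J.homology 0 :=
  (DerivedCategory.homologyFunctorFactors C 0).app J

/-- the automorphism relating `psi` and classes of cycles -/
noncomputable def sigma (G : C) : G ≅ G :=
  ((DerivedCategory.singleFunctorCompHomologyFunctorIso C 0).app G).symm ≪≫ (H₀).mapIso (wIso G) ≪≫
    uIso _ ≪≫ HomologicalComplex.singleObjHomologySelfIso (ComplexShape.up ℤ) 0 G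

lemma psi_Q {G : C} {J : CochainComplex C ℤ} (f : (HomologicalComplex.single C (ComplexShape.up ℤ) 0).obj G ⟶ J) :
    H7Unbounded.psi G (DerivedCategory.Q.obj J) ((wIso G).hom ≫ DerivedCategory.Q.map f) =
      (sigma G).hom ≫ cyc f ≫ J.homologyπ 0 ≫ (uIso J).inv := by
  have hn : (H₀).map (DerivedCategory.Q.map f) =
      (uIso _).hom ≫ HomologicalComplex.homologyMap f 0 ≫ (uIso J).inv := by
    have h4 : (H₀).map (DerivedCategory.Q.map f) ≫ (uIso J).hom =
        (uIso _).hom ≫ HomologicalComplex.homologyMap f 0 :=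
      (DerivedCategory.homologyFunctorFactors C 0).hom.naturality f
    rw [← reassoc_of% h4, Iso.hom_inv_id, comp_id]
  have hf : cyc f ≫ J.homologyπ 0 =
      (HomologicalComplex.singleObjHomologySelfIso (ComplexShape.up ℤ) 0 G).inv ≫ HomologicalComplex.homologyMap f 0 := by
    rw [cyc, assoc, ← HomologicalComplex.homologyπ_naturality,
      HomologicalComplex.singleObjCyclesSelfIso_inv_homologyπ_assoc]
  rw [← assoc (cyc f), hf]
  show (DerivedCategory.singleFunctorCompHomologyFunctorIso C 0).inv.app G ≫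
    (H₀).map ((wIso G).hom ≫ DerivedCategory.Q.map f) = _
  simp only [sigma, Iso.trans_hom, Iso.symm_hom, Iso.app_inv, Functor.mapIso_hom, Functor.map_comp, assoc,
    Iso.hom_inv_id_assoc, hn]

variable [IsGrothendieckAbelian.{v₁} C]

lemma Q_surj (X I : CochainComplex C ℤ) [I.IsKInjective] (φ : DerivedCategory.Q.obj X ⟶ DerivedCategory.Q.obj I) :
    ∃ f : X ⟶ I, DerivedCategory.Q.map f = φ :=
  (H5KApps.resolving_Q (A := C) H5KApps.enoughKInj_of_grothendieck).surj X I inferInstance φ

/-- classes in a K-injective complex lift to cycles -/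
theorem exists_cycle {G : C} {J : CochainComplex C ℤ} [J.IsKInjective]
    (h : Function.Bijective (H7Unbounded.psi G (DerivedCategory.Q.obj J))) (g : G ⟶ J.homology 0) :
    ∃ z : G ⟶ J.cycles 0, z ≫ J.homologyπ 0 = g := by
  obtain ⟨e, he⟩ := h.2 ((sigma G).hom ≫ g ≫ (uIso J).inv)
  obtain ⟨f, hf⟩ := Q_surj _ J ((wIso G).inv ≫ e)
  refine ⟨cyc f, ?_⟩
  have h2 := psi_Q f
  rw [hf, Iso.hom_inv_id_assoc, he, cancel_epi, ← assoc (cyc f), cancel_mono] at h2
  exact h2.symm

/-- cycles with zero class are boundaries -/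
theorem exists_boundary {G : C} {J : CochainComplex C ℤ} [J.IsKInjective]
    (h : Function.Bijective (H7Unbounded.psi G (DerivedCategory.Q.obj J))) (z : G ⟶ J.cycles 0)
    (hz : z ≫ J.homologyπ 0 = 0) :
    ∃ y : G ⟶ J.X ((ComplexShape.up ℤ).prev 0), y ≫ J.toCycles ((ComplexShape.up ℤ).prev 0) 0 = z := by
  have h2 := psi_Q (ofCyc z)
  rw [cyc_ofCyc, reassoc_of% hz, zero_comp, comp_zero] at h2
  have h3 : DerivedCategory.Q.map (ofCyc z) = 0 := by
    rw [← cancel_epi (wIso G).hom, comp_zero]
    exact h.1 (h2.trans (map_zero _).symm)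
  rw [← (DerivedCategory.Q).map_zero] at h3
  let hh := HomotopyCategory.homotopyOfEq _ _ (H5KApps.homotopic_of_Q_map_eq h3)
  refine ⟨(HomologicalComplex.singleObjXSelf (ComplexShape.up ℤ) 0 G).inv ≫ hh.hom 0 ((ComplexShape.up ℤ).prev 0), ?_⟩
  rw [← cancel_mono (J.iCycles 0)]
  have h4 := hh.comm 0
  simp only [dNext, prevD, AddMonoidHom.mk'_apply] at h4
  have h5 := congrArg (fun t => (HomologicalComplex.singleObjXSelf (ComplexShape.up ℤ) 0 G).inv ≫ t) h4
  simp [ofCyc, HomologicalComplex.mkHomFromSingle, HomologicalComplex.singleObjXSelf,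
    HomologicalComplex.XIsoOfEq_rfl] at h5 ⊢
  exact h5.symm

end generic

attribute [local instance] HasDerivedCategory.standard

variable {R : CommRingCat.{u}}

open H7FlatCover

instance additive_Γ : (moduleSpecΓFunctor (R := R)).Additive := (tilde.adjunction (R := R)).right_adjoint_additive

/-- global sections preserve the homology of a K-injective complex with quasi-coherent cohomology -/
theorem preservesLeftHomology_Γ (J : CochainComplex (Spec R).Modules ℤ) [J.IsKInjective]
    (hJ : DCoh.IsQCohD (DerivedCategory.Q.obj J)) :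
    (moduleSpecΓFunctor (R := R)).PreservesLeftHomologyOf (J.sc 0) := by
  have hb := H7AffineD.psi_bijective (DerivedCategory.Q.obj J) hJ ⟨⊤, isAffineOpen_top (Spec R)⟩
  have hlift : (J.sc 0).cyclesIsKernel.lift (KernelFork.ofι (J.sc 0).f (J.sc 0).zero) = (J.sc 0).toCycles :=
    (cancel_mono (J.sc 0).iCycles).1 ((Fork.IsLimit.lift_ι (J.sc 0).cyclesIsKernel).trans (J.sc 0).toCycles_i.symm)
  let h : (J.sc 0).LeftHomologyData :=
    { K := (J.sc 0).cycles
      H := (J.sc 0).homology
      i := (J.sc 0).iCycles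
      π := (J.sc 0).homologyπ
      wi := (J.sc 0).iCycles_g
      hi := (J.sc 0).cyclesIsKernel
      wπ := by rw [hlift]; exact (J.sc 0).toCycles_comp_homologyπ
      hπ := IsColimit.ofIsoColimit
        ((IsColimit.precomposeHomEquiv
          (parallelPair.ext (Iso.refl _) (Iso.refl _)
            (((comp_id _).trans hlift).trans (id_comp _).symm) (by simp)) _).symm (J.sc 0).homologyIsCokernel)
        (Cofork.ext (Iso.refl _) ((comp_id _).trans (id_comp _))) }
  have hf' : h.f' = (J.sc 0).toCycles := hlift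
  have : PreservesLimitsOfSize.{0, 0} (moduleSpecΓFunctor (R := R)) :=
    (tilde.adjunction (R := R)).rightAdjoint_preservesLimits.{0, 0}
  let Γ₀ := moduleSpecΓFunctor (R := R)
  have hex : (ShortComplex.mk (Γ₀.map h.f') (Γ₀.map h.π)
      (by rw [← Functor.map_comp, h.f'_π, Functor.map_zero])).Exact := by
    rw [ShortComplex.moduleCat_exact_iff]
    intro m hm
    let m' : Γ(J.cycles 0, ⊤) := m
    have hm' : (J.homologyπ 0).app ⊤ m' = 0 := hm
    obtain ⟨y, hy⟩ := exists_boundary hb ((secEquiv ⊤ (J.cycles 0)).symm m') ((secEquiv ⊤ _).injective (by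
      rw [secEquiv_comp, Equiv.apply_symm_apply, hm', secEquiv_eq]
      rfl))
    refine ⟨secEquiv ⊤ _ y, ?_⟩
    have h2 := congrArg (secEquiv ⊤ (J.cycles 0)) hy
    rw [secEquiv_comp, Equiv.apply_symm_apply] at h2
    exact (congrArg (fun f => (Scheme.Modules.Hom.app f ⊤) _) hf').trans h2
  have hepi : Epi (Γ₀.map h.π) := (ModuleCat.epi_iff_surjective _).2 fun m => by
    let m' : Γ(J.homology 0, ⊤) := m
    obtain ⟨z, hz⟩ := exists_cycle hb ((secEquiv ⊤ (J.homology 0)).symm m')
    refine ⟨secEquiv ⊤ _ z, ?_⟩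
    have h2 := congrArg (secEquiv ⊤ (J.homology 0)) hz
    rw [secEquiv_comp, Equiv.apply_symm_apply] at h2
    exact h2
  have : h.IsPreservedBy Γ₀ :=
    { g := inferInstance
      f' := preservesColimit_of_preserves_colimit_cocone h.hπ'
        ((CokernelCofork.isColimitMapCoconeEquiv _ _).symm hex.gIsCokernel) }
  exact Functor.PreservesLeftHomologyOf.mk' _ h

variable [PreservesFiniteLimits (tilde.functor R)]

/-- the counit on complexes -/
noncomputable def counitCx (I : CochainComplex (Spec R).Modules ℤ) :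
    ((tilde.functor R).mapHomologicalComplex (ComplexShape.up ℤ)).obj
      (((moduleSpecΓFunctor (R := R)).mapHomologicalComplex (ComplexShape.up ℤ)).obj I) ⟶ I :=
  { f := fun n => (tilde.adjunction (R := R)).counit.app (I.X n)
    comm' := fun i j _ => ((tilde.adjunction (R := R)).counit.naturality (I.d i j)).symm }

lemma isIso_counit_app (M : (Spec R).Modules) (hM : Coh.IsQCoh M) :
    IsIso ((tilde.adjunction (R := R)).counit.app M) :=
  have : M.IsQuasicoherent := hM
  (Scheme.Modules.isIso_fromTildeΓ_of_isQuasicoherent M : IsIso M.fromTildeΓ)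

theorem quasiIso_counitCx (I : CochainComplex (Spec R).Modules ℤ) [I.IsKInjective]
    (hI : DCoh.IsQCohD (DerivedCategory.Q.obj I)) : QuasiIso (counitCx I) := by
  refine ⟨fun i => ?_⟩
  let J : CochainComplex (Spec R).Modules ℤ := I⟦i⟧
  have eD : DerivedCategory.Q.obj J ≅ (DerivedCategory.Q.obj I)⟦i⟧ :=
    ((DerivedCategory.Q (C := (Spec R).Modules)).commShiftIso i).app I
  have hJ : DCoh.IsQCohD (DerivedCategory.Q.obj J) := fun j => H7AffineD.qcoh_of_iso
    ((((DerivedCategory.homologyFunctor _ 0).shiftIso i j (i + j) rfl).app (DerivedCategory.Q.obj I)).symm ≪≫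
      (DerivedCategory.homologyFunctor _ j).mapIso eD.symm) (hI _)
  have := preservesLeftHomology_Γ J hJ
  let S := J.sc 0
  let F := moduleSpecΓFunctor (R := R) ⋙ tilde.functor R
  let τ : F ⟶ 𝟭 _ := (tilde.adjunction (R := R)).counit
  have : PreservesLimitsOfSize.{0, 0} (moduleSpecΓFunctor (R := R)) :=
    (tilde.adjunction (R := R)).rightAdjoint_preservesLimits.{0, 0}
  haveI : F.Additive :=
    { map_add := fun {A B f g} => by
        show (tilde.functor R).map ((moduleSpecΓFunctor (R := R)).map (f + g)) = _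
        rw [Functor.map_add, Functor.map_add]
        rfl }
  have hF : F.PreservesLeftHomologyOf S := ⟨fun h =>
    { g := comp_preservesLimit _ _
      f' := by
        haveI : h.IsPreservedBy (moduleSpecΓFunctor (R := R)) := Functor.PreservesLeftHomologyOf.isPreservedBy h
        have := ShortComplex.LeftHomologyData.IsPreservedBy.hf' h (moduleSpecΓFunctor (R := R))
        exact comp_preservesColimit _ _ }⟩
  let h₀ := S.leftHomologyData
  haveI : h₀.IsPreservedBy F := Functor.PreservesLeftHomologyOf.isPreservedBy h₀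
  have hqc : IsIso (τ.app h₀.H) :=
    isIso_counit_app _ (H7AffineD.qcoh_of_iso (uIso J ≪≫ h₀.homologyIso) (hJ 0))
  have hq : ShortComplex.QuasiIso (S.mapNatTrans τ) := by
    rw [(ShortComplex.LeftHomologyMapData.natTransApp h₀ τ).quasiIso_iff]
    exact hqc
  let e : S ≅ I.sc i :=
    (CochainComplex.shiftShortComplexFunctorIso (Spec R).Modules i 0 i (add_zero i)).app I
  have ha : Arrow.mk (S.mapNatTrans τ) ≅ Arrow.mk ((I.sc i).mapNatTrans τ) :=
    Arrow.isoMk (F.mapShortComplex.mapIso e) ((𝟭 (Spec R).Modules).mapShortComplex.mapIso e) (by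
      exact ShortComplex.hom_ext _ _ (τ.naturality _) (τ.naturality _) (τ.naturality _))
  rw [quasiIsoAt_iff]
  exact (ShortComplex.quasiIso_iff_of_arrow_mk_iso _ _ ha).1 hq

/-- the unit on complexes -/
noncomputable def unitCx (L : CochainComplex (ModuleCat.{u} R) ℤ) :
    L ⟶ ((moduleSpecΓFunctor (R := R)).mapHomologicalComplex (ComplexShape.up ℤ)).obj
      (((tilde.functor R).mapHomologicalComplex (ComplexShape.up ℤ)).obj L) :=
  { f := fun n => (tilde.adjunction (R := R)).unit.app (L.X n)
    comm' := fun i j _ => ((tilde.adjunction (R := R)).unit.naturality (L.d i j)).symm }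

set_option backward.isDefEq.respectTransparency false in
lemma qcoh_tilde (N : ModuleCat.{u} R) : Coh.IsQCoh ((tilde.functor R).obj N) :=
  (inferInstance : ((tilde.functor R).obj N).IsQuasicoherent)

theorem isQCohD_tildeD (M : DerivedCategory (ModuleCat.{u} R)) : DCoh.IsQCohD ((DCoh.tildeD R).obj M) := fun i =>
  H7AffineD.qcoh_of_iso (H5WayOut.mapDerived_H (tilde.functor R) M i).some.symm
    (qcoh_tilde _)

/-- the image of a complex -/
noncomputable abbrev fac (L : CochainComplex (ModuleCat.{u} R) ℤ) :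
    (DCoh.tildeD R).obj (DerivedCategory.Q.obj L) ≅
      DerivedCategory.Q.obj (((tilde.functor R).mapHomologicalComplex (ComplexShape.up ℤ)).obj L) :=
  (tilde.functor R).mapDerivedCategoryFactors.app L

theorem exists_kinj (K : DCoh.D (Spec R)) : ∃ I : CochainComplex (Spec R).Modules ℤ,
    I.IsKInjective ∧ Nonempty (DerivedCategory.Q.obj I ≅ K) :=
  H5KApps.exists_kInj_iso H5KApps.enoughKInj_of_grothendieck K

theorem mem_essImage (K : DCoh.D (Spec R)) (hK : DCoh.IsQCohD K) :
    ∃ M, Nonempty ((DCoh.tildeD R).obj M ≅ K) := by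
  obtain ⟨I, hI, ⟨e⟩⟩ := exists_kinj K
  have hIq : DCoh.IsQCohD (DerivedCategory.Q.obj I) := fun i =>
    H7AffineD.qcoh_of_iso ((DerivedCategory.homologyFunctor _ i).mapIso e.symm) (hK i)
  have := (DerivedCategory.isIso_Q_map_iff_quasiIso _ (counitCx I)).2 (quasiIso_counitCx I hIq)
  exact ⟨_, ⟨fac _ ≪≫ @asIso _ _ _ _ (DerivedCategory.Q.map (counitCx I)) this ≪≫ e⟩⟩

theorem full_faithful (M N : DerivedCategory (ModuleCat.{u} R)) :
    Function.Bijective (fun g : M ⟶ N => (DCoh.tildeD R).map g) := by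
  obtain ⟨P, p, hP, hp⟩ := H5KFlat.exists_nice_resolution (DerivedCategory.Q.objPreimage M)
  have := hP.kproj
  let eM : DerivedCategory.Q.obj P ≅ M :=
    @asIso _ _ _ _ (DerivedCategory.Q.map p) ((DerivedCategory.isIso_Q_map_iff_quasiIso _ p).2 hp) ≪≫
      DerivedCategory.Q.objObjPreimageIso M
  let L := DerivedCategory.Q.objPreimage N
  let eN : DerivedCategory.Q.obj L ≅ N := DerivedCategory.Q.objObjPreimageIso N
  suffices h : Function.Bijective (fun g : DerivedCategory.Q.obj P ⟶ DerivedCategory.Q.obj L => (DCoh.tildeD R).map g) by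
    constructor
    · intro g g' hg
      have : eM.hom ≫ g ≫ eN.inv = eM.hom ≫ g' ≫ eN.inv := h.1 (by
        simp only [Functor.map_comp]
        exact congrArg (fun t => (DCoh.tildeD R).map eM.hom ≫ t ≫ (DCoh.tildeD R).map eN.inv) hg)
      exact (cancel_mono eN.inv).1 ((cancel_epi eM.hom).1 this)
    · intro φ
      obtain ⟨g, hg⟩ := h.2 ((DCoh.tildeD R).map eM.hom ≫ φ ≫ (DCoh.tildeD R).map eN.inv)
      refine ⟨eM.inv ≫ g ≫ eN.hom, ?_⟩
      simp only [Functor.map_comp] at hg ⊢
      rw [hg]
      simp [← Functor.map_comp, ← Functor.map_comp_assoc]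
  let T := (tilde.functor R).mapHomologicalComplex (ComplexShape.up ℤ)
  let Γ := (moduleSpecΓFunctor (R := R)).mapHomologicalComplex (ComplexShape.up ℤ)
  obtain ⟨I, j, hI, hj⟩ := H5KApps.enoughKInj_of_grothendieck (T.obj L)
  have hjQ : IsIso (DerivedCategory.Q.map j) := (DerivedCategory.isIso_Q_map_iff_quasiIso _ j).2 hj
  have hIq : DCoh.IsQCohD (DerivedCategory.Q.obj I) := fun i =>
    H7AffineD.qcoh_of_iso ((DerivedCategory.homologyFunctor _ i).mapIso (fac L ≪≫ asIso (DerivedCategory.Q.map j)))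
      (isQCohD_tildeD _ i)
  have hε := quasiIso_counitCx I hIq
  let j' : L ⟶ Γ.obj I := unitCx L ≫ Γ.map j
  have htri : T.map j' ≫ counitCx I = j := by
    refine HomologicalComplex.hom_ext _ _ fun n => ?_
    show (tilde.functor R).map ((tilde.adjunction (R := R)).unit.app (L.X n) ≫
      (moduleSpecΓFunctor (R := R)).map (j.f n)) ≫ (tilde.adjunction (R := R)).counit.app (I.X n) = j.f n
    exact ((tilde.adjunction (R := R)).homEquiv_counit (g := (tilde.adjunction (R := R)).homEquiv _ _ (j.f n))).symm.trans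
      (Equiv.symm_apply_apply _ _)
  have hTj' : QuasiIso (T.map j') := by
    have : QuasiIso (T.map j' ≫ counitCx I) := by rw [htri]; exact hj
    exact quasiIso_of_comp_right (T.map j') (counitCx I)
  have hj' : QuasiIso j' := (HomologicalComplex.quasiIso_map_iff_of_preservesHomology j' (tilde.functor R)).1 hTj'
  have hj'Q : IsIso (DerivedCategory.Q.map j') := (DerivedCategory.isIso_Q_map_iff_quasiIso _ j').2 hj'
  have hnat : ∀ {A B : CochainComplex (ModuleCat.{u} R) ℤ} (f : A ⟶ B),
      (DCoh.tildeD R).map (DerivedCategory.Q.map f) ≫ (fac B).hom =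
        (fac A).hom ≫ DerivedCategory.Q.map (T.map f) := fun f =>
    (tilde.functor R).mapDerivedCategoryFactors.hom.naturality f
  constructor
  · intro g g' hg
    obtain ⟨g₀, rfl⟩ := H5DTen.surj_of_kproj g
    obtain ⟨g₁, rfl⟩ := H5DTen.surj_of_kproj g'
    rw [← cancel_mono (DerivedCategory.Q.map j'), ← Functor.map_comp, ← Functor.map_comp]
    have h2 : DerivedCategory.Q.map (T.map g₀ ≫ j) = DerivedCategory.Q.map (T.map g₁ ≫ j) := by
      rw [← cancel_epi (fac P).hom, Functor.map_comp, Functor.map_comp, ← reassoc_of% (hnat g₀),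
        ← reassoc_of% (hnat g₁)]
      exact congrArg (· ≫ _) hg
    let hh := HomotopyCategory.homotopyOfEq _ _ (H5KApps.homotopic_of_Q_map_eq h2)
    have hmate : ∀ g : P ⟶ L, g ≫ j' = unitCx P ≫ Γ.map (T.map g ≫ j) := fun g => by
      refine HomologicalComplex.hom_ext _ _ fun n => ?_
      show g.f n ≫ (tilde.adjunction (R := R)).unit.app _ ≫ _ = (tilde.adjunction (R := R)).unit.app _ ≫
        (moduleSpecΓFunctor (R := R)).map ((tilde.functor R).map (g.f n) ≫ j.f n)
      exact ((reassoc_of% ((tilde.adjunction (R := R)).unit.naturality (g.f n))) _).trans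
        (congrArg ((tilde.adjunction (R := R)).unit.app _ ≫ ·) ((moduleSpecΓFunctor (R := R)).map_comp _ _).symm)
    rw [hmate, hmate]
    exact DerivedCategory.Q_map_eq_of_homotopy _
      (((moduleSpecΓFunctor (R := R)).mapHomotopy hh).compLeft (unitCx P))
  · intro φ
    obtain ⟨f, hf⟩ := Q_surj (T.obj P) I ((fac P).inv ≫ φ ≫ (fac L).hom ≫ DerivedCategory.Q.map j)
    let f' : P ⟶ Γ.obj I := unitCx P ≫ Γ.map f
    have htri' : T.map f' ≫ counitCx I = f := by
      refine HomologicalComplex.hom_ext _ _ fun n => ?_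
      show (tilde.functor R).map ((tilde.adjunction (R := R)).unit.app (P.X n) ≫
        (moduleSpecΓFunctor (R := R)).map (f.f n)) ≫ (tilde.adjunction (R := R)).counit.app (I.X n) = f.f n
      exact ((tilde.adjunction (R := R)).homEquiv_counit (g := (tilde.adjunction (R := R)).homEquiv _ _ (f.f n))).symm.trans
        (Equiv.symm_apply_apply _ _)
    refine ⟨DerivedCategory.Q.map f' ≫ inv (DerivedCategory.Q.map j'), ?_⟩
    have h1 : (DCoh.tildeD R).map (DerivedCategory.Q.map f') ≫ (fac _).hom ≫ DerivedCategory.Q.map (counitCx I) =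
        φ ≫ (fac L).hom ≫ DerivedCategory.Q.map j := by
      rw [reassoc_of% (hnat f'), ← Functor.map_comp, htri', hf, Iso.hom_inv_id_assoc]
    have h2 : (DCoh.tildeD R).map (DerivedCategory.Q.map j') ≫ (fac _).hom ≫ DerivedCategory.Q.map (counitCx I) =
        (fac L).hom ≫ DerivedCategory.Q.map j := by
      rw [reassoc_of% (hnat j'), ← Functor.map_comp, htri]
    rw [← cancel_mono ((fac L).hom ≫ DerivedCategory.Q.map j)]
    show (DCoh.tildeD R).map _ ≫ _ = _
    rw [← h2, Functor.map_comp, assoc, Functor.map_inv, IsIso.inv_hom_id_assoc, h1, h2]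

end Groth.Agent.H7TildeEquiv
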