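import Groth.Agent.Lib.H7TensorQC
import Groth.Agent.Lib.H7PerfAmp
import Groth.Agent.Lib.H7LocFreeLocus
import Groth.Agent.Lib.H7TildeBC
import Groth.Agent.Lib.H7TildeEquiv
import Groth.Agent.Lib.PseudoCoherentRingMore
import Groth.Agent.S2087
import Groth.Agent.S6960
import Mathlib

/-! Perfect and pseudo-coherent objects of `D(A)` and of `D(Spec A)`. -/

universe u
open CategoryTheory Limits AlgebraicGeometry Pretriangulated

namespace Groth.Agent.H7TildePerf
open Groth.Agent H7PerfTri H7PseudoTri H7PseudoPull H7LocLift H7FinFree H7PerfPull H7PerfAmp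

attribute [local instance] HasDerivedCategory.standard

variable {R : CommRingCat.{u}} [PreservesFiniteLimits (tilde.functor R)]

/-- termwise tilde -/
noncomputable abbrev T : CochainComplex (ModuleCat.{u} R) ℤ ⥤ CochainComplex (Spec R).Modules ℤ :=
  (tilde.functor R).mapHomologicalComplex (ComplexShape.up ℤ)

omit [PreservesFiniteLimits (tilde.functor R)] in
lemma isFree_tilde (N : ModuleCat.{u} R) [Module.Finite R N] [Module.Free R N] :
    IsFree ((tilde.functor R).obj N) := by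
  obtain ⟨⟨ι, b⟩⟩ := Module.Free.exists_basis R N
  obtain ⟨n, ⟨e⟩⟩ : ∃ n : ℕ, Nonempty (ModuleCat.of R (ULift.{u} (Fin n) →₀ R) ≅ N) := by
    obtain ⟨n, ⟨e⟩⟩ : ∃ n : ℕ, Nonempty ((Fin n →₀ R) ≃ₗ[R] N) := by
      rcases subsingleton_or_nontrivial R with h | h
      · haveI : Subsingleton N := Module.subsingleton R N
        exact ⟨0, ⟨LinearEquiv.ofSubsingleton _ _⟩⟩
      · haveI : Finite ι := Module.Finite.finite_basis b
        exact ⟨_, ⟨(Finsupp.domLCongr (Finite.equivFin _).symm) ≪≫ₗ b.repr.symm⟩⟩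
    exact ⟨n, ⟨((Finsupp.domLCongr Equiv.ulift) ≪≫ₗ e).toModuleIso⟩⟩
  refine ⟨n, ⟨(tilde.functor R).mapIso e.symm ≪≫ tildeFinsupp (R := R) (ULift.{u} (Fin n)) ≪≫
    Sigma.whiskerEquiv Equiv.ulift (fun _ => Iso.refl (Coh.structureModule (Spec R)))⟩⟩

omit [PreservesFiniteLimits (tilde.functor R)] in
lemma finLocFree_tilde (N : ModuleCat.{u} R) [Module.Finite R N] [Module.Projective R N] :
    FlatMod.IsFinLocFree ((tilde.functor R).obj N) := by
  obtain ⟨n, f, hf⟩ := Module.Finite.exists_fin' R N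
  obtain ⟨g, hg⟩ := Module.projective_lifting_property f LinearMap.id hf
  let F : ModuleCat.{u} R := ModuleCat.of R (Fin n → R)
  have hF : FlatMod.IsFinLocFree ((tilde.functor R).obj F) := (isFinLocFree_iff _).2 fun x =>
    ⟨⊤, trivial, (isFree_tilde F).pullback _⟩
  refine H7LocFreeLocus.finLocFree_of_retract hF ((tilde.functor R).map (ModuleCat.ofHom g))
    ((tilde.functor R).map (ModuleCat.ofHom f : F ⟶ N)) ?_
  rw [← Functor.map_comp, ← ModuleCat.ofHom_comp, hg]
  exact (tilde.functor R).map_id N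

omit [PreservesFiniteLimits (tilde.functor R)] in
lemma strictlyPerfect_tilde {E : CochainComplex (ModuleCat.{u} R) ℤ} {a b : ℤ}
    (h1 : DRing.VanishesOutside E a b) (h2 : DRing.TermwiseFiniteProjective E) :
    DCoh.IsStrictlyPerfect (T.obj E) :=
  ⟨⟨a, b, fun i hi => (tilde.functor R).map_isZero (h1 i hi)⟩, fun i =>
    have := (h2 i).1; have := (h2 i).2
    finLocFree_tilde (E.X i)⟩

lemma isZero_HD_iff (K : DerivedCategory (ModuleCat.{u} R)) (i : ℤ) :
    IsZero (DCoh.HD ((DCoh.tildeD R).obj K) i) ↔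
      IsZero ((DerivedCategory.homologyFunctor (ModuleCat.{u} R) i).obj K) := by
  rw [Iso.isZero_iff (H5WayOut.mapDerived_H (tilde.functor R) K i).some]
  refine ⟨fun h => ?_, fun h => (tilde.functor R).map_isZero h⟩
  rw [IsZero.iff_id_eq_zero]
  refine (tilde.functor R).map_injective ?_
  rw [CategoryTheory.Functor.map_id, Functor.map_zero]
  exact h.eq_of_src _ _

theorem mIso_tildeD_iff {K L : DerivedCategory (ModuleCat.{u} R)} (g : K ⟶ L) (m : ℤ) :
    MIso m ((DCoh.tildeD R).map g) ↔ PseudoCoherentRing.MI m g := by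
  obtain ⟨C, h, δ, hT⟩ := distinguished_cocone_triangle g
  exact (mIso_iff _ ((DCoh.tildeD R).map_distinguished _ hT) m).trans
    (Iff.trans (forall_congr' fun i => imp_congr_right fun _ => isZero_HD_iff C i)
      (PseudoCoherentRing.mI_iff _ hT m).symm)

/-- a complex with free terms comes from modules -/
theorem exists_model {a b : ℤ} (P : CochainComplex (Spec R).Modules ℤ)
    (h1 : ∀ i, i < a ∨ b < i → IsZero (P.X i)) (h2 : ∀ i, IsFree (P.X i)) :
    ∃ L : CochainComplex (ModuleCat.{u} R) ℤ, DRing.VanishesOutside L a b ∧ DRing.TermwiseFiniteFree L ∧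
      Nonempty (T.obj L ≅ P) := by
  let Γ' := (moduleSpecΓFunctor (R := R)).mapHomologicalComplex (ComplexShape.up ℤ)
  have hfree : ∀ n : ℕ, Nonempty ((tilde.functor R).obj (ModuleCat.of R (ULift.{u} (Fin n) →₀ R)) ≅
      FlatMod.freeMod (Spec R) n) := fun n => ⟨tildeFinsupp (R := R) (ULift.{u} (Fin n)) ≪≫
        Sigma.whiskerEquiv Equiv.ulift (fun _ => Iso.refl (Coh.structureModule (Spec R)))⟩
  have hq : ∀ i, Coh.IsQCoh (P.X i) := fun i => by
    obtain ⟨n, ⟨e⟩⟩ := h2 i
    exact H7AffineD.qcoh_of_iso ((hfree n).some ≪≫ e.symm) (H7TildeEquiv.qcoh_tilde _)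
  have hc : ∀ i, IsIso ((H7TildeEquiv.counitCx P).f i) := fun i => H7TildeEquiv.isIso_counit_app _ (hq i)
  haveI : IsIso (H7TildeEquiv.counitCx P) := HomologicalComplex.Hom.isIso_of_components _
  refine ⟨Γ'.obj P, fun i hi => ?_, fun i => ?_, ⟨asIso (H7TildeEquiv.counitCx P)⟩⟩
  · have := H7TildeEquiv.additive_Γ (R := R)
    exact (moduleSpecΓFunctor (R := R)).map_isZero (h1 i hi)
  · obtain ⟨n, ⟨e⟩⟩ := h2 i
    have := hc i
    let u : (tilde.functor R).obj ((Γ'.obj P).X i) ≅ P.X i := @asIso _ _ _ _ ((H7TildeEquiv.counitCx P).f i) (hc i)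
    let v := ((tilde.functor R).preimageIso (u ≪≫ e ≪≫ (hfree n).some.symm)).toLinearEquiv
    exact ⟨Module.Finite.equiv v.symm, Module.Free.of_equiv v.symm⟩

section away

variable {A : Type u} [CommRing A] [PreservesFiniteLimits (tilde.functor (CommRingCat.of A))]

/-- `Spec A_f → Spec A` -/
noncomputable abbrev jf (f : A) : Spec (CommRingCat.of (Localization.Away f)) ⟶ Spec (CommRingCat.of A) :=
  Spec.map (CommRingCat.ofHom (algebraMap A (Localization.Away f)))

instance isOpenImmersion_jf (f : A) : IsOpenImmersion (jf f) := IsOpenImmersion.of_isLocalization f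

omit [PreservesFiniteLimits (tilde.functor (CommRingCat.of A))] in
/-- restriction of `K~` -/
noncomputable def rstTildeIso (f : A) (K : CochainComplex (ModuleCat.{u} A) ℤ) :
    (rst (jf f)).obj ((T (R := CommRingCat.of A)).obj K) ≅
      (T (R := CommRingCat.of (Localization.Away f))).obj
        ((PseudoCoherentRing.extCx (algebraMap A (Localization.Away f))).obj K) :=
  HomologicalComplex.Hom.isoOfComponents
    (fun n => ((Functor.isoWhiskerLeft (tilde.functor (CommRingCat.of A))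
      (Scheme.Modules.restrictFunctorIsoPullback (jf f))) ≪≫ H7TildeBC.pullTildeIso _).app (K.X n))
    fun i j _ => ((Functor.isoWhiskerLeft (tilde.functor (CommRingCat.of A))
      (Scheme.Modules.restrictFunctorIsoPullback (jf f))) ≪≫ H7TildeBC.pullTildeIso _).hom.naturality (K.d i j) |>.symm

set_option maxHeartbeats 800000 in
omit [PreservesFiniteLimits (tilde.functor (CommRingCat.of A))] in
/-- near a point, a strictly perfect complex on an open is free on a basic open -/
theorem exists_jf {W : Scheme.{u}} (j : W ⟶ Spec (CommRingCat.of A)) [IsOpenImmersion j]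
    {P : CochainComplex W.Modules ℤ} (hP : DCoh.IsStrictlyPerfect P) (w : W) :
    ∃ (f : A) (k : Spec (CommRingCat.of (Localization.Away f)) ⟶ W) (_ : IsOpenImmersion k) (a b : ℤ),
      k ≫ j = jf f ∧ j.base w ∈ PrimeSpectrum.basicOpen f ∧
      (∀ i, i < a ∨ b < i → IsZero (((rst k).obj P).X i)) ∧ ∀ i, IsFree (((rst k).obj P).X i) := by
  obtain ⟨⟨a, b, hab⟩, hflf⟩ := hP
  choose U hw hU using fun i : Set.Icc a b => (isFinLocFree_iff _).1 (hflf i) w
  let O : W.Opens := ⟨⋂ i, (U i : Set W), isOpen_iInter_of_finite fun i => (U i).2⟩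
  obtain ⟨_, ⟨f, rfl⟩, hf, hsub⟩ := PrimeSpectrum.isTopologicalBasis_basic_opens.exists_subset_of_mem_open
    (show j.base w ∈ (j ''ᵁ O : (Spec (CommRingCat.of A)).Opens) from ⟨w, Set.mem_iInter.2 hw, rfl⟩) (j ''ᵁ O).2
  have hr : Set.range (jf f).base ⊆ Set.range (O.ι ≫ j).base := by
    rintro _ ⟨z, rfl⟩
    have hz : (jf f).base z ∈ Set.range (PrimeSpectrum.comap (algebraMap A (Localization.Away f))) := ⟨z, rfl⟩
    erw [PrimeSpectrum.localization_away_comap_range (Localization.Away f) f] at hz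
    obtain ⟨o, ho, he⟩ := hsub hz
    exact ⟨⟨o, ho⟩, he⟩
  let l := IsOpenImmersion.lift (O.ι ≫ j) (jf f) hr
  have hl : l ≫ O.ι ≫ j = jf f := IsOpenImmersion.lift_fac _ _ hr
  haveI : IsOpenImmersion (l ≫ O.ι ≫ j) := hl ▸ inferInstance
  haveI : IsOpenImmersion l := IsOpenImmersion.of_comp l (O.ι ≫ j)
  refine ⟨f, l ≫ O.ι, inferInstance, a, b, by rw [Category.assoc, hl], hf,
    fun i hi => (Scheme.Modules.restrictFunctor (l ≫ O.ι)).map_isZero (hab i hi), fun i => ?_⟩
  by_cases hi : i ∈ Set.Icc a b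
  · have h := hU ⟨i, hi⟩
    exact (((h.mono (show O ≤ U ⟨i, hi⟩ from fun z hz => Set.mem_iInter.1 hz ⟨i, hi⟩)).pullback l).of_iso
      ((Scheme.Modules.pullbackComp l O.ι).app _)).of_iso
        ((Scheme.Modules.restrictFunctorIsoPullback (l ≫ O.ι)).app _).symm
  · have hz : IsZero (P.X i) := hab i (by simp only [Set.mem_Icc] at hi; omega)
    exact ⟨0, ⟨((Scheme.Modules.restrictFunctor (l ≫ O.ι)).map_isZero hz).iso
      ((IsZero.iff_id_eq_zero _).2 (Sigma.hom_ext _ _ fun t => t.elim0))⟩⟩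

variable (M : DerivedCategory (ModuleCat.{u} A))

/-- the restriction of `M~` -/
noncomputable def rDTildeIso (f : A) [PreservesFiniteLimits (tilde.functor (CommRingCat.of (Localization.Away f)))]
    {K : CochainComplex (ModuleCat.{u} A) ℤ} (e : DerivedCategory.Q.obj K ≅ M) :
    (rD (jf f)).obj ((DCoh.tildeD (CommRingCat.of A)).obj M) ≅
      (DCoh.tildeD (CommRingCat.of (Localization.Away f))).obj
        (DerivedCategory.Q.obj ((PseudoCoherentRing.extCx (algebraMap A (Localization.Away f))).obj K)) :=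
  (rD (jf f)).mapIso ((DCoh.tildeD (CommRingCat.of A)).mapIso e.symm ≪≫ H7TildeEquiv.fac (R := CommRingCat.of A) K) ≪≫
    rQ (jf f) _ ≪≫ DerivedCategory.Q.mapIso (rstTildeIso f K) ≪≫
      (H7TildeEquiv.fac (R := CommRingCat.of (Localization.Away f)) _).symm

omit [PreservesFiniteLimits (tilde.functor (CommRingCat.of A))] in
lemma exists_fin_cover {P : A → Prop}
    (h : ∀ x : PrimeSpectrum A, ∃ f : A, x ∈ PrimeSpectrum.basicOpen f ∧ P f) :
    ∃ (r : ℕ) (f : Fin r → A), Ideal.span (Set.range f) = ⊤ ∧ ∀ i, P (f i) := by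
  choose f hf hP using h
  obtain ⟨t, ht⟩ := isCompact_univ.elim_finite_subcover (fun x => (PrimeSpectrum.basicOpen (f x) : Set (PrimeSpectrum A)))
    (fun x => (PrimeSpectrum.basicOpen (f x)).2) fun x _ => Set.mem_iUnion.2 ⟨x, hf x⟩
  refine ⟨t.card, fun i => f (t.equivFin.symm i).1, ?_, fun i => hP _⟩
  rw [← PrimeSpectrum.iSup_basicOpen_eq_top_iff]
  refine eq_top_iff.2 fun x _ => ?_
  obtain ⟨y, hy, hxy⟩ := Set.mem_iUnion₂.1 (ht (Set.mem_univ x))
  exact TopologicalSpace.Opens.mem_iSup.2 ⟨t.equivFin ⟨y, hy⟩, by simpa using hxy⟩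

set_option maxHeartbeats 1000000 in
theorem isPseudo_iff_tildeD (m : ℤ) :
    DCoh.IsPseudoCoherentD m ((DCoh.tildeD (CommRingCat.of A)).obj M) ↔ DRing.IsPseudoCoherent A m M := by
  constructor
  · intro h
    let K := DerivedCategory.Q.objPreimage M
    let eK : DerivedCategory.Q.obj K ≅ M := DerivedCategory.Q.objObjPreimageIso M
    obtain ⟨r, f, hf, hpc⟩ := exists_fin_cover (P := fun f => DRing.IsPseudoCoherent (Localization.Away f) m
        (DRing.toD ((PseudoCoherentRing.extCx (algebraMap A (Localization.Away f))).obj K))) fun x => by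
      obtain ⟨W, j, hj, P, α, ⟨w, hw⟩, hP, hα⟩ := (H7PseudoTri.isPseudo_iff m _).1 h x
      obtain ⟨f, k, hk, a, b, hkj, hwf, hz, hfree⟩ := exists_jf j hP w
      refine ⟨f, hw ▸ hwf, ?_⟩
      haveI : PreservesFiniteLimits (tilde.functor (CommRingCat.of (Localization.Away f))) :=
        LQcoh.preservesFiniteLimits_tilde _
      obtain ⟨L, hL1, hL2, ⟨eL⟩⟩ := exists_model (R := CommRingCat.of (Localization.Away f)) _ hz hfree
      let e₁ := H7TildeEquiv.fac (R := CommRingCat.of (Localization.Away f)) L ≪≫ DerivedCategory.Q.mapIso eL ≪≫ (rQ k P).symm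
      let e₂ := rDComp k j (jf f) hkj _ ≪≫ rDTildeIso M f eK
      have hα' := MIso.comp_iso (mIso_rD k hα) e₁ e₂
      obtain ⟨g, hg⟩ := (H7TildeEquiv.full_faithful (R := CommRingCat.of (Localization.Away f)) _ _).2
        (e₁.hom ≫ (rD k).map α ≫ e₂.hom)
      dsimp only at hg
      have hg' := (mIso_tildeD_iff (R := CommRingCat.of (Localization.Away f)) g m).1 (hg.symm ▸ hα')
      exact ⟨L, a, b, g, hL1, hL2, hg'.1, hg'.2⟩
    exact PseudoCoherentRing.isPseudo_of_iso eK (Groth.Agent.S2087.result f hf K m hpc)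
  · rintro ⟨E, a, b, α, hE1, hE2, hα⟩
    refine (H7PseudoTri.isPseudo_iff m _).2 fun x => ?_
    let X' := Spec (CommRingCat.of A)
    let e1 : ∀ E' : DCoh.D X', (rD (𝟙 X')).obj E' ≅ E' := fun E' =>
      let eF := DerivedCategory.Q.objObjPreimageIso E'
      (rD (𝟙 X')).mapIso eF.symm ≪≫ rQ (𝟙 X') _ ≪≫
        DerivedCategory.Q.mapIso (cxIso Scheme.Modules.restrictFunctorId _ ≪≫
          HomologicalComplex.Hom.isoOfComponents (fun n => Iso.refl _) (fun i j _ => (Category.id_comp _).trans (Category.comp_id _).symm)) ≪≫ eF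
    refine ⟨X', 𝟙 _, inferInstance, T.obj E,
      (H7TildeEquiv.fac (R := CommRingCat.of A) E).inv ≫ (DCoh.tildeD (CommRingCat.of A)).map α ≫ (e1 _).inv,
      ⟨x, rfl⟩, strictlyPerfect_tilde hE1 (fun i => ⟨(hE2 i).1, have := (hE2 i).2; inferInstance⟩),
      MIso.comp_iso ((mIso_tildeD_iff (R := CommRingCat.of A) α m).2 hα) (H7TildeEquiv.fac (R := CommRingCat.of A) E).symm (e1 _).symm⟩

set_option maxHeartbeats 1000000 in
theorem isPerfect_iff_tildeD :
    DCoh.IsPerfect ((DCoh.tildeD (CommRingCat.of A)).obj M) ↔ DRing.IsPerfect A M := by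
  constructor
  · intro h
    let K := DerivedCategory.Q.objPreimage M
    let eK : DerivedCategory.Q.obj K ≅ M := DerivedCategory.Q.objObjPreimageIso M
    obtain ⟨r, f, hf, hpc⟩ := exists_fin_cover (P := fun f => DRing.IsPerfect (Localization.Away f)
        (DRing.toD ((PseudoCoherentRing.extCx (algebraMap A (Localization.Away f))).obj K))) fun x => by
      obtain ⟨W, j, hj, P, ⟨w, hw⟩, hP, ⟨e⟩⟩ := (H7PerfTri.isPerfect_iff _).1 h x
      obtain ⟨f, k, hk, a, b, hkj, hwf, hz, hfree⟩ := exists_jf j hP w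
      refine ⟨f, hw ▸ hwf, ?_⟩
      haveI : PreservesFiniteLimits (tilde.functor (CommRingCat.of (Localization.Away f))) :=
        LQcoh.preservesFiniteLimits_tilde _
      obtain ⟨L, hL1, hL2, ⟨eL⟩⟩ := exists_model (R := CommRingCat.of (Localization.Away f)) _ hz hfree
      let φ := H7TildeEquiv.fac (R := CommRingCat.of (Localization.Away f)) L ≪≫ DerivedCategory.Q.mapIso eL ≪≫ (rQ k P).symm ≪≫ (rD k).mapIso e.symm ≪≫
        rDComp k j (jf f) hkj _ ≪≫ rDTildeIso M f eK
      obtain ⟨g, hg⟩ := (H7TildeEquiv.full_faithful (R := CommRingCat.of (Localization.Away f)) _ _).2 φ.hom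
      obtain ⟨g', hg'⟩ := (H7TildeEquiv.full_faithful (R := CommRingCat.of (Localization.Away f)) _ _).2 φ.inv
      dsimp only at hg hg'
      have h1 : g ≫ g' = 𝟙 _ := (H7TildeEquiv.full_faithful (R := CommRingCat.of (Localization.Away f)) _ _).1 (by
        dsimp only; rw [Functor.map_comp, hg, hg', φ.hom_inv_id]; exact ((DCoh.tildeD _).map_id _).symm)
      have h2 : g' ≫ g = 𝟙 _ := (H7TildeEquiv.full_faithful (R := CommRingCat.of (Localization.Away f)) _ _).1 (by
        dsimp only; rw [Functor.map_comp, hg, hg', φ.inv_hom_id]; exact ((DCoh.tildeD _).map_id _).symm)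
      exact ⟨L, a, b, hL1, fun i => have := (hL2 i).1; have := (hL2 i).2; ⟨inferInstance, inferInstance⟩, ⟨⟨g, g', h1, h2⟩⟩⟩
    exact PseudoCoherentRingMore.isPerfect_of_iso eK (Groth.Agent.S6960.result f hf K hpc)
  · rintro ⟨E, a, b, hE1, hE2, ⟨e⟩⟩
    exact isPerfect_of_iso ((H7TildeEquiv.fac (R := CommRingCat.of A) E).symm ≪≫
      (DCoh.tildeD (CommRingCat.of A)).mapIso e) (isPerfect_Q (strictlyPerfect_tilde hE1 hE2))

end away

end Groth.Agent.H7TildePerf
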