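import Groth.Agent.Lib.H7TorQC
import Groth.Agent.Lib.H7TildePerf
import Mathlib

/-! Tor amplitude of `M~`. -/

universe u
open CategoryTheory Limits AlgebraicGeometry HomologicalComplex

namespace Groth.Agent.H7TildeAmp
open Groth.Agent H5TenCx H7KFlatMod H7KFlatSheaf H7LTensorMod H7LpullCalc H7TorAmp H7TorFlat H7PseudoPull

attribute [local instance] HasDerivedCategory.standard

variable {A : Type u} [CommRing A]

local notation "SpA" => Spec (CommRingCat.of A)

/-- tilde of flat modules are flat -/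
lemma flat_tilde (N : ModuleCat.{u} A) [Module.Flat A N] :
    FlatMod.IsFlat ((tilde.functor (CommRingCat.of A)).obj N) := fun p => by
  letI := (H7TildeKFlat.toSt (R := CommRingCat.of A) p).toAlgebra
  have h2 : Module.Flat ((SpA).presheaf.stalk p)
      ((ModuleCat.extendScalars (H7TildeKFlat.toSt (R := CommRingCat.of A) p)).obj N) :=
    inferInstanceAs (Module.Flat ((SpA).presheaf.stalk p) (TensorProduct A ((SpA).presheaf.stalk p) N))
  exact Module.Flat.of_linearEquiv ((H7TildeKFlat.tildeStalkIso (R := CommRingCat.of A) p).app N).toLinearEquiv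

/-- flatness is checked on tilde -/
lemma flat_of_tilde (N : ModuleCat.{u} A) (h : FlatMod.IsFlat ((tilde.functor (CommRingCat.of A)).obj N)) :
    Module.Flat A N := by
  refine Module.flat_of_localized_maximal N fun P _ => ?_
  let p : PrimeSpectrum A := ⟨P, inferInstance⟩
  letI := (H7TildeKFlat.toSt (R := CommRingCat.of A) p).toAlgebra
  haveI : IsLocalization.AtPrime ((SpA).presheaf.stalk p) P := by
    have h0 := @StructureSheaf.IsLocalization.to_stalk A _ p
    exact h0
  have h2 : Module.Flat ((SpA).presheaf.stalk p) (TensorProduct A ((SpA).presheaf.stalk p) N) :=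
    have : Module.Flat ((SpA).presheaf.stalk p)
        ((tilde.functor (CommRingCat.of A) ⋙ DerSch.stalkFunctor (SpA) p).obj N) := h p
    Module.Flat.of_linearEquiv ((H7TildeKFlat.tildeStalkIso (R := CommRingCat.of A) p).app N).symm.toLinearEquiv
  haveI : Module.Flat A ((SpA).presheaf.stalk p) := IsLocalization.flat _ P.primeCompl
  haveI : Module.Flat A (TensorProduct A ((SpA).presheaf.stalk p) N) := Module.Flat.trans A ((SpA).presheaf.stalk p) _
  exact Module.Flat.of_linearEquiv (IsLocalizedModule.linearEquiv P.primeCompl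
    (LocalizedModule.mkLinearMap P.primeCompl N)
    (TensorProduct.mk A ((SpA).presheaf.stalk p) N 1))

variable [PreservesFiniteLimits (tilde.functor (CommRingCat.of A))]

/-- termwise tilde -/
noncomputable abbrev Tl : CochainComplex (ModuleCat.{u} A) ℤ ⥤ CochainComplex (Spec (CommRingCat.of A)).Modules ℤ :=
  (tilde.functor (CommRingCat.of A)).mapHomologicalComplex (ComplexShape.up ℤ)

set_option maxHeartbeats 1000000 in
theorem amp_iff_of_le (M : DerivedCategory (ModuleCat.{u} A)) {a b : ℤ} (hab : a ≤ b)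
    (h : DCoh.HasFlatAmplitudeIn a b ((DCoh.tildeD (CommRingCat.of A)).obj M)) :
    DRing.HasTorAmplitudeIn A a b M := by
  obtain ⟨P, f, hP, hf⟩ := H5KFlat.exists_nice_resolution (DerivedCategory.Q.objPreimage M)
  let eM : DerivedCategory.Q.obj P ≅ M :=
    @asIso _ _ _ _ (DerivedCategory.Q.map f) ((DerivedCategory.isIso_Q_map_iff_quasiIso _ f).2 hf) ≪≫
      DerivedCategory.Q.objObjPreimageIso M
  have htor : DCoh.HasTorAmplitudeIn a b ((DCoh.tildeD (CommRingCat.of A)).obj M) := torAmp_of_flatAmp h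
  let K := (Tl).obj P
  have hK : SKF K := H7TildeKFlat.skf_tilde (R := CommRingCat.of A) P hP.kflat
  let eK : DerivedCategory.Q.obj K ≅ (DCoh.tildeD (CommRingCat.of A)).obj M :=
    (H7TildeEquiv.fac (R := CommRingCat.of A) P).symm ≪≫ (DCoh.tildeD (CommRingCat.of A)).mapIso eM
  have hten := tenN_exact_of_torAmp hK (torAmp_of_iso eK.symm htor)
  have hexK : ∀ i, (i < a ∨ b < i) → K.ExactAt i := fun i hi => exactAt_of_tenN_stalks fun x N => hten x N i hi
  have hexP : ∀ i, (i < a ∨ b < i) → P.ExactAt i := fun i hi => by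
    have h1 : IsZero ((DerivedCategory.homologyFunctor (ModuleCat.{u} A) i).obj M) :=
      (H7TildePerf.isZero_HD_iff (R := CommRingCat.of A) M i).1
        (isZero_HD_of_iso eK.symm ((isZero_HD_Q_iff K i).2 (hexK i hi)))
    rw [exactAt_iff_isZero_homology]
    exact h1.of_iso (((DerivedCategory.homologyFunctorFactors _ i).app P).symm ≪≫
      (DerivedCategory.homologyFunctor (ModuleCat.{u} A) i).mapIso eM)
  have hflatK : ∀ n, FlatMod.IsFlat (K.X n) := fun n =>
    have := hP.proj n
    have : Module.Projective A (P.X n) := (IsProjective.iff_projective (R := A) (P := P.X n)).2 this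
    flat_tilde (P.X n)
  have : P.IsLE b := (P.isLE_iff b).2 fun i hi => hexP i (Or.inr hi)
  let P₁ := P.truncLE b
  have hflat₁ : ∀ n, Module.Flat A (P₁.X n) := fun n => by
    rcases lt_trichotomy n b with hn | rfl | hn
    · have := hP.proj n
      have : Module.Projective A (P.X n) := (IsProjective.iff_projective (R := A) (P := P.X n)).2 this
      exact Module.Flat.of_linearEquiv (P.truncLEXIso b n hn).toLinearEquiv
    · refine flat_of_tilde _ (H7FlatCover.isFlat_of_iso ?_ (flat_kernel_d hflatK (fun i hi => hexK i (Or.inr hi))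
        (fun x N i hi => hten x N i (Or.inr hi))))
      exact (PreservesKernel.iso (tilde.functor (CommRingCat.of A)) (P.d n (n + 1))).symm ≪≫
        (tilde.functor (CommRingCat.of A)).mapIso ((P.truncLEXIsoCycles n ≪≫
          (P.cyclesIsKernel n (n + 1) (by simp)).conePointUniqueUpToIso (kernelIsKernel _)).symm)
    · have : Subsingleton (P₁.X n) := ModuleCat.subsingleton_of_isZero (P₁.isZero_of_isStrictlyLE b n hn)
      infer_instance
  let K₁ := (Tl).obj P₁
  have : K₁.IsStrictlyLE b := (CochainComplex.isStrictlyLE_iff K₁ b).2 fun i hi =>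
    (tilde.functor (CommRingCat.of A)).map_isZero (P₁.isZero_of_isStrictlyLE b i hi)
  have hflatK₁ : ∀ n, FlatMod.IsFlat (K₁.X n) := fun n => have := hflat₁ n; flat_tilde (P₁.X n)
  have hK₁ : SKF K₁ := skf_of_isStrictlyLE b hflatK₁
  have : IsIso (DerivedCategory.Q.map (P.ιTruncLE b)) :=
    (DerivedCategory.isIso_Q_map_iff_quasiIso _ _).2 inferInstance
  let eM₁ : DerivedCategory.Q.obj P₁ ≅ M := asIso (DerivedCategory.Q.map (P.ιTruncLE b)) ≪≫ eM
  have hten₁ := tenN_exact_of_torAmp hK₁ (torAmp_of_iso ((H7TildeEquiv.fac (R := CommRingCat.of A) P₁).symm ≪≫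
    (DCoh.tildeD (CommRingCat.of A)).mapIso eM₁).symm htor)
  have : P₁.IsGE a := (P₁.isGE_iff a).2 fun i hi =>
    (exactAt_iff_of_quasiIsoAt (P.ιTruncLE b) i).2 (hexP i (Or.inl hi))
  have hflat₂ : ∀ n, Module.Flat A ((P₁.truncGE a).X n) := fun n => by
    rcases lt_trichotomy n a with hn | rfl | hn
    · have : Subsingleton ((P₁.truncGE a).X n) :=
        ModuleCat.subsingleton_of_isZero ((P₁.truncGE a).isZero_of_isStrictlyGE a n hn)
      infer_instance
    · refine flat_of_tilde _ (H7FlatCover.isFlat_of_iso ?_ (flat_cokernel_d (K := K₁) (j := n - 1) (k := n) (by omega) (hflatK₁ n)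
        fun x N => hten₁ x N (n - 1) (Or.inl (by omega))))
      exact (PreservesCokernel.iso (tilde.functor (CommRingCat.of A)) (P₁.d (n - 1) n)).symm ≪≫
        (tilde.functor (CommRingCat.of A)).mapIso (P₁.truncGEXIsoOpcycles n ≪≫
          (P₁.opcyclesIsCokernel (n - 1) n (by simp)).coconePointUniqueUpToIso (cokernelIsCokernel _)).symm
    · have := hflat₁ n
      exact Module.Flat.of_linearEquiv (P₁.truncGEXIso a n hn).toLinearEquiv
  have hv : DRing.VanishesOutside (P₁.truncGE a) a b := fun i hi => by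
    rcases hi with hi | hi
    · exact (P₁.truncGE a).isZero_of_isStrictlyGE a i hi
    · exact IsZero.of_iso (P₁.isZero_of_isStrictlyLE b i hi) (P₁.truncGEXIso a i (by omega))
  have : IsIso (DerivedCategory.Q.map (P₁.πTruncGE a)) :=
    (DerivedCategory.isIso_Q_map_iff_quasiIso _ _).2 inferInstance
  exact ⟨_, hv, hflat₂, ⟨(asIso (DerivedCategory.Q.map (P₁.πTruncGE a))).symm ≪≫ eM₁⟩⟩

open ZeroObject in
theorem amp_iff (M : DerivedCategory (ModuleCat.{u} A)) (a b : ℤ) :
    DCoh.HasFlatAmplitudeIn a b ((DCoh.tildeD (CommRingCat.of A)).obj M) ↔ DRing.HasTorAmplitudeIn A a b M := by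
  constructor
  · intro h
    by_cases hab : a ≤ b
    · exact amp_iff_of_le M hab h
    · obtain ⟨E, hE, -, ⟨e⟩⟩ := h
      let Z : CochainComplex (ModuleCat.{u} A) ℤ := 0
      have hZX : ∀ i, IsZero (Z.X i) := fun i =>
        (HomologicalComplex.eval (ModuleCat.{u} A) (ComplexShape.up ℤ) i).map_isZero (isZero_zero _)
      have hM : ∀ i, IsZero ((DerivedCategory.homologyFunctor (ModuleCat.{u} A) i).obj M) := fun i =>
        (H7TildePerf.isZero_HD_iff (R := CommRingCat.of A) M i).1
          (isZero_HD_of_iso e.symm (isZero_HD_Q i (hE i (by omega))))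
      let L := DerivedCategory.Q.objPreimage M
      have hq : QuasiIso (0 : Z ⟶ L) := by
        refine ⟨fun i => (quasiIsoAt_iff_exactAt (0 : Z ⟶ L) i (ShortComplex.exact_of_isZero_X₂ _ (hZX i))).2 ?_⟩
        rw [exactAt_iff_isZero_homology]
        exact (hM i).of_iso (((DerivedCategory.homologyFunctorFactors _ i).app L).symm ≪≫
          (DerivedCategory.homologyFunctor (ModuleCat.{u} A) i).mapIso (DerivedCategory.Q.objObjPreimageIso M))
      have := (DerivedCategory.isIso_Q_map_iff_quasiIso _ _).2 hq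
      exact ⟨Z, fun i _ => hZX i, fun i => (have := ModuleCat.subsingleton_of_isZero (hZX i); inferInstance),
        ⟨asIso (DerivedCategory.Q.map (0 : Z ⟶ L)) ≪≫ DerivedCategory.Q.objObjPreimageIso M⟩⟩
  · rintro ⟨E, hE, hflat, ⟨e⟩⟩
    exact ⟨(Tl).obj E, fun i hi => (tilde.functor (CommRingCat.of A)).map_isZero (hE i hi),
      fun i => have := hflat i; flat_tilde (E.X i),
      ⟨(H7TildeEquiv.fac (R := CommRingCat.of A) E).symm ≪≫ (DCoh.tildeD (CommRingCat.of A)).mapIso e⟩⟩

end Groth.Agent.H7TildeAmp
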