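import Mathlib

/-! Finite presentation relative to a base ring is independent of the presentation. -/

set_option autoImplicit false
universe u
open MvPolynomial

namespace Groth.Agent.LRelFP

/-- finite presentation can be tested on a finite, finitely presented algebra. -/
theorem iff_of_finite (P Q M : Type u) [CommRing P] [CommRing Q] [Algebra P Q] [Module.FinitePresentation P Q]
    [AddCommGroup M] [Module Q M] [Module P M] [IsScalarTower P Q M] :
    Module.FinitePresentation P M ↔ Module.FinitePresentation Q M := by
  refine ⟨fun h => ?_, fun h => Module.FinitePresentation.trans P M Q⟩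
  haveI : Module.Finite Q M := Module.Finite.of_restrictScalars_finite P Q M
  obtain ⟨n, l, hl⟩ := Module.Finite.exists_fin' Q M
  haveI : Module.Finite P (Fin n → Q) := Module.Finite.trans Q _
  have hk := Module.FinitePresentation.fg_ker (l.restrictScalars P) hl
  rw [LinearMap.ker_restrictScalars] at hk
  exact Module.finitePresentation_of_surjective l hl (Submodule.FG.of_restrictScalars P hk)

theorem main {R A B : Type u} [CommRing R] [CommRing A] [CommRing B]
    [Algebra R A] [Algebra A B] [Algebra R B] [IsScalarTower R A B] [Module.Finite A B]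
    (M : Type u) [AddCommGroup M] [Module B M] [Module A M]
    [IsScalarTower A B M] {n k : ℕ} (α : MvPolynomial (Fin n) R →ₐ[R] A) (hα : Function.Surjective α)
    (β : MvPolynomial (Fin k) R →ₐ[R] B) (hβ : Function.Surjective β) :
    @Module.FinitePresentation (MvPolynomial (Fin n) R) M _ _ (Module.compHom M α.toRingHom) ↔
      @Module.FinitePresentation (MvPolynomial (Fin k) R) M _ _ (Module.compHom M β.toRingHom) := by
  classical
  let Pn := MvPolynomial (Fin n) R
  let Pk := MvPolynomial (Fin k) R
  let T := MvPolynomial (Fin k) Pn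
  let αB : Pn →ₐ[R] B := (IsScalarTower.toAlgHom R A B).comp α
  letI : Algebra Pn B := αB.toRingHom.toAlgebra
  haveI : IsScalarTower R Pn B := IsScalarTower.of_algebraMap_eq fun r => (αB.commutes r).symm
  haveI : Module.Finite Pn B := by
    letI : Algebra Pn A := α.toRingHom.toAlgebra
    haveI : IsScalarTower Pn A B := IsScalarTower.of_algebraMap_eq fun _ => rfl
    haveI : Module.Finite Pn A := Module.Finite.of_surjective (Algebra.linearMap Pn A) hα
    exact Module.Finite.trans A B
  let y : Fin k → B := fun j => β (X j)
  have hy : ∀ j, IsIntegral Pn (y j) := fun j => Algebra.IsIntegral.isIntegral _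
  choose g hgm hg using hy
  let I : Ideal T := Ideal.span (Set.range fun j => Polynomial.aeval (X j) (g j))
  haveI : Algebra.FinitePresentation Pn (T ⧸ I) := Algebra.FinitePresentation.quotient (Submodule.fg_span (Set.finite_range _))
  haveI : Algebra.IsIntegral Pn (T ⧸ I) := by
    refine ⟨fun c => ?_⟩
    obtain ⟨t, rfl⟩ := Ideal.Quotient.mk_surjective c
    induction t using MvPolynomial.induction_on with
    | C a => exact isIntegral_algebraMap
    | add p q hp hq => rw [map_add]; exact IsIntegral.add (A := T ⧸ I) hp hq
    | mul_X p j hp =>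
      rw [map_mul]
      refine IsIntegral.mul (A := T ⧸ I) hp ⟨g j, hgm j, ?_⟩
      have : Ideal.Quotient.mkₐ Pn I (Polynomial.aeval (X j) (g j)) = 0 :=
        Ideal.Quotient.eq_zero_iff_mem.mpr (Ideal.subset_span ⟨j, rfl⟩)
      rw [← Polynomial.aeval_algHom_apply] at this
      exact this
  haveI : Module.Finite Pn (T ⧸ I) := Algebra.IsIntegral.finite (R := Pn) (A := T ⧸ I)
  haveI : Module.FinitePresentation Pn (T ⧸ I) := Module.FinitePresentation.of_finite_of_finitePresentation Pn (T ⧸ I)
  let ev : (T ⧸ I) →ₐ[Pn] B := Ideal.Quotient.liftₐ I (aeval y) fun t ht => by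
    have hle : I ≤ RingHom.ker (aeval y : T →ₐ[Pn] B) := Ideal.span_le.mpr fun _ ⟨j, hj⟩ => by
      subst hj
      show aeval y (Polynomial.aeval (X j) (g j)) = 0
      rw [← Polynomial.aeval_algHom_apply, aeval_X]
      exact hg j
    exact hle ht
  -- the retraction onto the second presentation
  choose u hu using fun i => hβ (αB (X i))
  let θ : T →ₐ[R] Pk :=
    { (eval₂Hom (aeval u : Pn →ₐ[R] Pk).toRingHom (fun j => (X j : Pk))) with
      commutes' := fun r => by
        show eval₂Hom _ _ (C (algebraMap R Pn r)) = _
        rw [eval₂Hom_C]; exact (aeval u).commutes r }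
  have hθC : ∀ p : Pn, θ (MvPolynomial.C p) = aeval u p := fun p => eval₂Hom_C _ _ p
  have hθX : ∀ j, θ (X j) = X j := fun j => eval₂Hom_X' _ _ j
  have hθs : Function.Surjective θ := fun p => by
    refine ⟨rename id (MvPolynomial.map (algebraMap R Pn) p), ?_⟩
    induction p using MvPolynomial.induction_on with
    | C a => simp only [map_C, rename_C, hθC]; exact (aeval u).commutes a
    | add p q hp hq => rw [map_add, map_add, map_add, hp, hq]
    | mul_X p j hp => rw [map_mul, map_mul, map_mul, hp, map_X, rename_X, id_eq, hθX]
  have hβθ : ∀ t : T, β (θ t) = aeval y t := fun t => by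
    induction t using MvPolynomial.induction_on with
    | C a =>
      rw [hθC, aeval_C]
      show (β.comp (aeval u)) a = αB a
      exact AlgHom.congr_fun (MvPolynomial.algHom_ext fun i => by simp [hu]) a
    | add p q hp hq => rw [map_add, map_add, map_add, hp, hq]
    | mul_X p j hp => rw [map_mul, map_mul, map_mul, hp, hθX, aeval_X]
  letI mC : Module (T ⧸ I) M := Module.compHom M ev.toRingHom
  letI mT : Module T M := Module.compHom M (aeval y : T →ₐ[Pn] B).toRingHom
  letI mn : Module Pn M := Module.compHom M α.toRingHom
  letI mk : Module Pk M := Module.compHom M β.toRingHom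
  letI : Algebra T Pk := θ.toRingHom.toAlgebra
  haveI : IsScalarTower Pn (T ⧸ I) M := ⟨fun a c x => by
    show ev (a • c) • x = α a • (ev c • x)
    rw [map_smul, Algebra.smul_def, mul_smul]
    exact algebraMap_smul B (α a) _⟩
  haveI : IsScalarTower T (T ⧸ I) M := ⟨fun a c x => by
    show ev (a • c) • x = (aeval y a) • (ev c • x)
    rw [show a • c = Ideal.Quotient.mk I a * c from Algebra.smul_def (A := T ⧸ I) a c, map_mul, mul_smul]
    rfl⟩
  haveI : IsScalarTower T Pk M := ⟨fun a c x => by
    show β (a • c) • x = (aeval y a) • (β c • x)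
    rw [Algebra.smul_def, map_mul, mul_smul, ← hβθ]
    rfl⟩
  haveI : Module.FinitePresentation T (T ⧸ I) :=
    Module.finitePresentation_of_surjective (Algebra.linearMap T (T ⧸ I)) Ideal.Quotient.mk_surjective (by
      have : LinearMap.ker (Algebra.linearMap T (T ⧸ I)) = I := by
        ext t; exact Ideal.Quotient.eq_zero_iff_mem
      rw [this]; exact Submodule.fg_span (Set.finite_range _))
  haveI : Algebra.FinitePresentation R T := Algebra.FinitePresentation.trans R Pn T
  haveI : Module.FinitePresentation T Pk :=
    Module.finitePresentation_of_surjective (Algebra.linearMap T Pk) hθs (by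
      have : LinearMap.ker (Algebra.linearMap T Pk) = RingHom.ker θ.toRingHom := by
        ext t; rfl
      rw [this]; exact Algebra.FinitePresentation.ker_fG_of_surjective θ hθs)
  exact ((iff_of_finite Pn (T ⧸ I) M).trans (iff_of_finite T (T ⧸ I) M).symm).trans (iff_of_finite T Pk M)

end Groth.Agent.LRelFP
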