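import Groth.Agent.Lib.H7MapTotal
import Groth.Agent.Lib.H5KFlatApps
import Mathlib

/-! K-flat complexes of modules: flat modules in one degree, complexes with zero differential. -/

universe u v

namespace Groth.Agent.H7KFlatMod
open CategoryTheory Limits Category HomologicalComplex MonoidalCategory
open Groth.Agent H5TenCx

/-- a complex with zero differential is the coproduct of its terms -/
noncomputable def isColimitSingles {B : Type u} [Category.{v} B] [Preadditive B] [HasZeroObject B]
    (S : CochainComplex B ℤ) (hd : ∀ i j, S.d i j = 0) :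
    IsColimit (Cofan.mk S (fun i : ULift.{v} ℤ =>
      mkHomFromSingle (𝟙 (S.X i.down)) (fun k _ => by rw [hd, comp_zero])) :
        Cofan fun i : ULift.{v} ℤ => (HomologicalComplex.single B (ComplexShape.up ℤ) i.down).obj (S.X i.down)) := by
  refine Cofan.IsColimit.mk _
    (fun s => { f := fun n => (singleObjXSelf (ComplexShape.up ℤ) n (S.X n)).inv ≫ (s.inj ⟨n⟩).f n
                comm' := fun i j _ => ?_ })
    (fun s ⟨n⟩ => ?_) (fun s m hm => ?_)
  · rw [assoc, (s.inj ⟨i⟩).comm i j, HomologicalComplex.single_obj_d, zero_comp, comp_zero]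
    show _ = S.d i j ≫ _
    rw [hd, zero_comp]
  · apply from_single_hom_ext
    simp [Cofan.mk, Cofan.inj, mkHomFromSingle, singleObjXSelf]
  · ext n
    show m.f n = _ ≫ (s.inj ⟨n⟩).f n
    rw [← hm ⟨n⟩]
    simp [Cofan.mk, Cofan.inj, mkHomFromSingle, singleObjXSelf]

lemma kflat_single_zero_of_exact {A B D : Type*} [Category A] [Category B] [Category D]
    [Abelian A] [Abelian B] [Abelian D] [HasCountableCoproducts D] (F : A ⥤ B ⥤ D) [F.Additive]
    [∀ X, (F.obj X).Additive]
    [∀ (K₁ : CochainComplex A ℤ) (K₂ : CochainComplex B ℤ), HasMapBifunctor K₁ K₂ F (ComplexShape.up ℤ)]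
    (M : B) [PreservesFiniteLimits (F.flip.obj M)] [PreservesFiniteColimits (F.flip.obj M)] :
    KFlat₂ F ((HomologicalComplex.single B (ComplexShape.up ℤ) 0).obj M) := fun L hL =>
  H5KFlat.acyclic_of_iso (H7MapTotal.singleIso F M L).symm fun n =>
    ShortComplex.Exact.map (hL n) (F.flip.obj M)

variable (R : Type v) [CommRing R]

/-- K-flatness of complexes of modules -/
abbrev KF (K : CochainComplex (ModuleCat.{v} R) ℤ) : Prop := KFlat₂ (curriedTensor (ModuleCat.{v} R)) K

variable {R}

set_option maxHeartbeats 2000000 in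
lemma kflat_single_zero (M : ModuleCat.{v} R) [Module.Flat R M] :
    KF R ((HomologicalComplex.single (ModuleCat.{v} R) (ComplexShape.up ℤ) 0).obj M) :=
  have : PreservesFiniteLimits ((curriedTensor (ModuleCat.{v} R)).flip.obj M) :=
    inferInstanceAs (PreservesFiniteLimits (tensorRight M))
  have : PreservesFiniteColimits ((curriedTensor (ModuleCat.{v} R)).flip.obj M) :=
    inferInstanceAs (PreservesFiniteColimits (tensorRight M))
  kflat_single_zero_of_exact (curriedTensor (ModuleCat.{v} R)) M

set_option maxHeartbeats 2000000 in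
lemma kflat_single (M : ModuleCat.{v} R) [Module.Flat R M] (n : ℤ) :
    KF R ((HomologicalComplex.single (ModuleCat.{v} R) (ComplexShape.up ℤ) n).obj M) :=
  H5KFlat.kflat_of_iso _
    (((CochainComplex.singleFunctors (ModuleCat.{v} R)).shiftIso (-n) n 0 (by omega)).app M)
    (H5KFlat.kflat_shift _ (kflat_single_zero M) _)

set_option maxHeartbeats 2000000 in
lemma kflat_zero_d (S : CochainComplex (ModuleCat.{v} R) ℤ) (hd : ∀ i j, S.d i j = 0)
    [∀ n, Module.Flat R (S.X n)] : KF R S :=
  H5KFlat.kflat_isColimit _ (isColimitSingles S hd) fun i => kflat_single _ _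

lemma acyclic_iff_isZero {A : Type*} [Category A] [Abelian A] (K : CochainComplex A ℤ) :
    K.Acyclic ↔ ∀ i, IsZero (K.homology i) :=
  ⟨fun h i => (h i).isZero_homology, fun h i => (exactAt_iff_isZero_homology _ _).2 (h i)⟩

lemma isKFlat_iff (K : CochainComplex (ModuleCat.{v} R) ℤ) : DRing.IsKFlat R K ↔ KF R K :=
  H5KFlat.isKFlat_iff R K

end Groth.Agent.H7KFlatMod
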