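import Groth.Agent.Lib.H7StalkTensor
import Groth.Agent.Lib.H7StalkDetect
import Groth.Agent.Lib.H7KFlatMod
import Groth.Prelude.Def_DCoh4
import Mathlib

/-! K-flat complexes of O-modules: the stalkwise criterion and closure properties. -/

universe u
open CategoryTheory Limits AlgebraicGeometry TopologicalSpace Opposite MonoidalCategory HomologicalComplex

attribute [local instance] HasDerivedCategory.standard

namespace Groth.Agent.H7KFlatSheaf
open Groth.Agent H5TenCx H7Stalk H7StalkDetect H7StalkTensor H7KFlatMod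

variable {X : Scheme.{u}}

/-- the complex of stalks -/
noncomputable abbrev stCx (x : X) :
    CochainComplex X.Modules ℤ ⥤ CochainComplex (ModuleCat.{u} (X.presheaf.stalk x)) ℤ :=
  (DerSch.stalkFunctor X x).mapHomologicalComplex (ComplexShape.up ℤ)

instance preservesColimits_stalk (x : X) : PreservesColimitsOfSize.{u, u} (DerSch.stalkFunctor X x) :=
  (adj x).leftAdjoint_preservesColimits

instance preservesDiscrete₀ (x : X) (J : Type) :
    PreservesColimitsOfShape (Discrete J) (DerSch.stalkFunctor X x) :=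
  (adj x).leftAdjoint_preservesColimits.{0, 0}.preservesColimitsOfShape

lemma acyclic_iff (K : CochainComplex X.Modules ℤ) : K.Acyclic ↔ ∀ x : X, ((stCx x).obj K).Acyclic :=
  ⟨fun h x n => ((jointly X).exactAt_iff K n).1 (h n) x, fun h n => ((jointly X).exactAt_iff K n).2 fun x => h x n⟩

lemma quasiIso_iff {K L : CochainComplex X.Modules ℤ} (f : K ⟶ L) :
    QuasiIso f ↔ ∀ x : X, QuasiIso ((stCx x).map f) :=
  (jointly X).quasiIso_iff f

/-- the stalk of a tensor product of complexes -/
noncomputable def stTensorIso (x : X) (L K : CochainComplex X.Modules ℤ) :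
    (stCx x).obj ((DCoh.tensorCx.obj L).obj K) ≅
      (T₁ (curriedTensor (ModuleCat.{u} (X.presheaf.stalk x))) ((stCx x).obj K)).obj ((stCx x).obj L) :=
  H7MapTotal.iso (DCoh.tensorBi (X := X)) (curriedTensor (ModuleCat.{u} (X.presheaf.stalk x)))
    (DerSch.stalkFunctor X x) (DerSch.stalkFunctor X x) (DerSch.stalkFunctor X x) (natIso x) L K

/-- stalkwise K-flatness -/
def SKF (K : CochainComplex X.Modules ℤ) : Prop := ∀ x : X, KF (X.presheaf.stalk x) ((stCx x).obj K)

lemma isKFlat_iff (K : CochainComplex X.Modules ℤ) :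
    DCoh.IsKFlat K ↔ ∀ L : CochainComplex X.Modules ℤ, L.Acyclic → ((DCoh.tensorCx.obj L).obj K).Acyclic := by
  constructor
  · intro h L hL
    exact (acyclic_iff_isZero _).2 (h L ((acyclic_iff_isZero L).1 hL))
  · intro h L hL
    exact (acyclic_iff_isZero _).1 (h L ((acyclic_iff_isZero L).2 hL))

theorem SKF.isKFlat {K : CochainComplex X.Modules ℤ} (hK : SKF K) : DCoh.IsKFlat K :=
  (isKFlat_iff K).2 fun L hL => (acyclic_iff _).2 fun x =>
    H5KFlat.acyclic_of_iso (stTensorIso x L K).symm (hK x _ ((acyclic_iff L).1 hL x))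

lemma sk_map_zero (x : X) (S : ShortComplex (ModuleCat.{u} (X.presheaf.stalk x))) :
    (sk x).map S.f ≫ (sk x).map S.g = 0 :=
  hom_ext_elem fun U m => funext fun h => by
    show S.g.hom (S.f.hom ((show SkSec x S.X₁ U from m) h)) = 0
    exact LinearMap.congr_fun (congrArg ModuleCat.Hom.hom S.zero) _

instance additive_sk (x : X) : (sk x).Additive := (adj x).right_adjoint_additive

lemma sk_exact (x : X) (S : ShortComplex (ModuleCat.{u} (X.presheaf.stalk x))) (hS : S.Exact) :
    (S.map (sk x)).Exact := by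
  rw [(jointly X).exact_iff]
  intro z
  rw [ShortComplex.moduleCat_exact_iff]
  intro b hb
  obtain ⟨U, hU, s, rfl⟩ := ((sk x).obj S.X₂).presheaf.exists_germ_eq (x := z) b
  have hb' : (DerSch.stalkFunctor X z).map ((sk x).map S.g) (((sk x).obj S.X₂).presheaf.germ U z hU s) =
      ((sk x).obj S.X₃).presheaf.germ U z hU 0 := hb.trans (map_zero _).symm
  erw [DerSch.stalkFunctor_map_germ] at hb'
  obtain ⟨V, hV, i, j, e⟩ := ((sk x).obj S.X₃).presheaf.germ_eq z hU hU _ _ hb'
  have hz : ∀ h : PLift (x ∈ V), S.g.hom ((show SkSec x S.X₂ U from s) ⟨i.le h.down⟩) = 0 := fun h => by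
    have := congrFun e h
    exact this
  choose t ht using fun h : PLift (x ∈ V) => (S.moduleCat_exact_iff.1 hS) _ (hz h)
  refine ⟨((sk x).obj S.X₁).presheaf.germ V z hV (show SkSec x S.X₁ V from t), ?_⟩
  show (DerSch.stalkFunctor X z).map ((sk x).map S.f) _ = _
  erw [DerSch.stalkFunctor_map_germ]
  refine (congrArg (((sk x).obj S.X₂).presheaf.germ V z hV) ?_).trans
    (TopCat.Presheaf.germ_res_apply ((sk x).obj S.X₂).presheaf i z hV s)
  exact funext ht

lemma sk_acyclic (x : X) {L : CochainComplex (ModuleCat.{u} (X.presheaf.stalk x)) ℤ} (hL : L.Acyclic) :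
    (((sk x).mapHomologicalComplex (ComplexShape.up ℤ)).obj L).Acyclic := fun n => sk_exact x _ (hL n)

lemma counit_bijective (x : X) (L : ModuleCat.{u} (X.presheaf.stalk x)) :
    Function.Bijective ((adj x).counit.app L).hom := by
  have hgerm : ∀ (U : X.Opens) (hx : x ∈ U) (s : SkSec x L U),
      ((adj x).counit.app L).hom (((sk x).obj L).presheaf.germ U x hx s) = s ⟨hx⟩ := fun U hx s => by
    show (fromSk (𝟙 ((sk x).obj L))).hom _ = _
    exact (fromSk_germ (𝟙 ((sk x).obj L)) U hx s).trans rfl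
  refine ⟨fun a b hab => ?_, fun l => ⟨((sk x).obj L).presheaf.germ ⊤ x trivial (fun _ => l : SkSec x L ⊤), hgerm _ _ _⟩⟩
  obtain ⟨U, hU, s, rfl⟩ := ((sk x).obj L).presheaf.exists_germ_eq (x := x) a
  obtain ⟨V, hV, t, rfl⟩ := ((sk x).obj L).presheaf.exists_germ_eq (x := x) b
  erw [hgerm, hgerm] at hab
  exact ((sk x).obj L).presheaf.germ_ext (U ⊓ V) ⟨hU, hV⟩ (homOfLE inf_le_left) (homOfLE inf_le_right)
    (funext fun h => hab)

instance isIso_counit (x : X) : IsIso (adj x).counit := by
  have : ∀ L, IsIso ((adj x).counit.app L) := fun L =>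
    (ConcreteCategory.isIso_iff_bijective _).2 (counit_bijective x L)
  exact NatIso.isIso_of_isIso_app _

/-- the stalk at `x` of a skyscraper complex -/
noncomputable def stSkIso (x : X) (L : CochainComplex (ModuleCat.{u} (X.presheaf.stalk x)) ℤ) :
    (stCx x).obj (((sk x).mapHomologicalComplex (ComplexShape.up ℤ)).obj L) ≅ L :=
  Hom.isoOfComponents (fun n => (asIso (adj x).counit).app (L.X n))
    fun i j _ => ((adj x).counit.naturality (L.d i j)).symm

theorem skf_of_isKFlat {K : CochainComplex X.Modules ℤ} (hK : DCoh.IsKFlat K) : SKF K := fun x L hL => by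
  have h1 := (acyclic_iff _).1 ((isKFlat_iff K).1 hK _ (sk_acyclic x hL)) x
  have h2 := H5KFlat.acyclic_of_iso (stTensorIso x _ K) h1
  exact H5KFlat.acyclic_of_iso
    ((T₁ (curriedTensor (ModuleCat.{u} (X.presheaf.stalk x))) ((stCx x).obj K)).mapIso (stSkIso x L)) h2

theorem isKFlat_iff_skf (K : CochainComplex X.Modules ℤ) : DCoh.IsKFlat K ↔ SKF K :=
  ⟨skf_of_isKFlat, SKF.isKFlat⟩

lemma stTensor_map (x : X) {L L' K K' : CochainComplex X.Modules ℤ} (f : L ⟶ L') (g : K ⟶ K') :
    (stCx x).map (mapBifunctorMap f g (DCoh.tensorBi (X := X)) (ComplexShape.up ℤ)) ≫ (stTensorIso x L' K').hom =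
      (stTensorIso x L K).hom ≫ mapBifunctorMap ((stCx x).map f) ((stCx x).map g)
        (curriedTensor (ModuleCat.{u} (X.presheaf.stalk x))) (ComplexShape.up ℤ) :=
  H7MapTotal.iso_naturality (DCoh.tensorBi (X := X)) (curriedTensor (ModuleCat.{u} (X.presheaf.stalk x)))
    (DerSch.stalkFunctor X x) (DerSch.stalkFunctor X x) (DerSch.stalkFunctor X x) (natIso x) L K f g

/-- tensoring a quasi-isomorphism of K-flat complexes with any complex -/
theorem quasiIso_tensor {P Q : CochainComplex X.Modules ℤ} (α : P ⟶ Q) [QuasiIso α]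
    (hP : SKF P) (hQ : SKF Q) (F : CochainComplex X.Modules ℤ) :
    QuasiIso ((DCoh.tensorCx.obj F).map α) := (quasiIso_iff _).2 fun x => by
  have hα : QuasiIso ((stCx x).map α) := (quasiIso_iff α).1 inferInstance x
  have h := H5KFlatApps.quasiIso_tensor (hP x) (hQ x) ((stCx x).map α) ((stCx x).obj F)
  have h' : QuasiIso (mapBifunctorMap ((stCx x).map (𝟙 F)) ((stCx x).map α)
      (curriedTensor (ModuleCat.{u} (X.presheaf.stalk x))) (ComplexShape.up ℤ)) := by
    rw [CategoryTheory.Functor.map_id]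
    exact h
  have e := stTensor_map x (𝟙 F) α
  exact (quasiIso_iff_comp_right _ _).1 (show QuasiIso ((stCx x).map ((DCoh.tensorCx.obj F).map α) ≫
      (stTensorIso x F Q).hom) by
    change QuasiIso ((stCx x).map (mapBifunctorMap (𝟙 F) α (DCoh.tensorBi (X := X)) (ComplexShape.up ℤ)) ≫ _)
    rw [e]
    exact (quasiIso_iff_comp_left (stTensorIso x F P).hom _).2 h')

/-- tensoring a quasi-isomorphism with a K-flat complex -/
theorem quasiIso_tensor_right {K L L' : CochainComplex X.Modules ℤ} (hK : DCoh.IsKFlat K) (f : L ⟶ L')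
    [QuasiIso f] : QuasiIso ((DCoh.tensorCx.map f).app K) :=
  (good₁ (DCoh.tensorBi (X := X)) K).quasiIso_map f (fun M hM => (isKFlat_iff K).1 hK M hM)

lemma skf_of_iso {K K' : CochainComplex X.Modules ℤ} (e : K ≅ K') (h : SKF K) : SKF K' := fun x =>
  H5KFlat.kflat_of_iso _ ((stCx x).mapIso e) (h x)

lemma skf_cone {K K' : CochainComplex X.Modules ℤ} (φ : K ⟶ K') (h : SKF K) (h' : SKF K') :
    SKF (CochainComplex.mappingCone φ) := fun x =>
  H5KFlat.kflat_of_iso _ (CochainComplex.mappingCone.mapHomologicalComplexIso φ (DerSch.stalkFunctor X x)).symm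
    (H5KFlat.kflat_cone _ ((stCx x).map φ) (h x) (h' x))

lemma skf_X₂ (S : ShortComplex (CochainComplex X.Modules ℤ))
    (σ : ∀ n, Nonempty (S.map (eval X.Modules _ n)).Splitting) (h₁ : SKF S.X₁) (h₃ : SKF S.X₃) : SKF S.X₂ :=
  fun x => H5KFlat.kflat_X₂ _ (S.map (stCx x))
    (fun n => ⟨(σ n).some.map (DerSch.stalkFunctor X x)⟩) (h₁ x) (h₃ x)

lemma skf_biprod {K K' : CochainComplex X.Modules ℤ} (h : SKF K) (h' : SKF K') : SKF (K ⊞ K') :=
  skf_X₂ (ShortComplex.mk (biprod.inl : K ⟶ K ⊞ K') (biprod.snd : K ⊞ K' ⟶ K') biprod.inl_snd)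
    (fun n => ⟨(ShortComplex.Splitting.ofHasBinaryBiproduct K K').map (eval X.Modules _ n)⟩) h h'

set_option maxHeartbeats 2000000 in
lemma skf_zero_d (S : CochainComplex X.Modules ℤ) (hd : ∀ i j, S.d i j = 0)
    (hflat : ∀ n, FlatMod.IsFlat (S.X n)) : SKF S := fun x => by
  have : ∀ n, Module.Flat (X.presheaf.stalk x) (((stCx x).obj S).X n) := fun n => hflat n x
  exact kflat_zero_d _ fun i j => by
    show (DerSch.stalkFunctor X x).map (S.d i j) = 0
    rw [hd, Functor.map_zero]

set_option maxHeartbeats 2000000 in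
lemma skf_isColimit {J : Type u} [SmallCategory J] [IsFiltered J] {G : J ⥤ CochainComplex X.Modules ℤ}
    {c : Cocone G} (hc : IsColimit c) (h : ∀ j, SKF (G.obj j)) : SKF c.pt := fun x =>
  H5KFlat.kflat_isColimit _ (HomologicalComplex.isColimitOfEval (G ⋙ stCx x) ((stCx x).mapCocone c)
    fun n => isColimitOfPreserves (DerSch.stalkFunctor X x) (isColimitOfPreserves (eval X.Modules _ n) hc))
    fun j => h j x

end Groth.Agent.H7KFlatSheaf
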