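import Groth.Agent.Lib.H7StalkDetect
import Groth.Agent.Lib.H7KFlatSheaf
import Mathlib

/-! Functorial covers of O-modules by flat O-modules (sums of `j_! O_U`). -/

universe u
open CategoryTheory Limits AlgebraicGeometry TopologicalSpace Opposite

namespace Groth.Agent.H7FlatCover
open H7Stalk H7StalkDetect

variable {X : Scheme.{u}}

/-- the free O-module on the open `U` -/
noncomputable def freeU (U : X.Opens) : X.Modules :=
  (CohB1.sheafifyMod X).obj ((PresheafOfModules.free X.ringCatSheaf.obj).obj (yoneda.obj U))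

/-- maps out of the free module on `U` are sections over `U` -/
noncomputable def secEquiv (U : X.Opens) (M : X.Modules) : (freeU U ⟶ M) ≃ M.presheaf.obj (op U) :=
  ((PresheafOfModules.sheafificationAdjunction.{u, u, u, u}
    (J := Opens.grothendieckTopology X) (𝟙 X.ringCatSheaf.obj)).homEquiv _ M).trans
      (PresheafOfModules.freeYonedaEquiv (X := U))

lemma secEquiv_comp (U : X.Opens) {M N : X.Modules} (f : freeU U ⟶ M) (g : M ⟶ N) :
    secEquiv U N (f ≫ g) = g.app U (secEquiv U M f) := by
  exact (congrArg (PresheafOfModules.freeYonedaEquiv (X := U))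
    ((PresheafOfModules.sheafificationAdjunction.{u, u, u, u}
      (J := Opens.grothendieckTopology X) (𝟙 X.ringCatSheaf.obj)).homEquiv_naturality_right f g)).trans rfl

/-- the universal section -/
noncomputable def usec (U : X.Opens) : (freeU U).presheaf.obj (op U) := secEquiv U (freeU U) (𝟙 _)

lemma secEquiv_eq (U : X.Opens) {M : X.Modules} (f : freeU U ⟶ M) : secEquiv U M f = f.app U (usec U) := by
  conv_lhs => rw [← Category.id_comp f]
  exact secEquiv_comp U _ _

lemma freeU_hom_ext {U : X.Opens} {M : X.Modules} {f g : freeU U ⟶ M}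
    (h : f.app U (usec U) = g.app U (usec U)) : f = g :=
  (secEquiv U M).injective ((secEquiv_eq U f).trans (h.trans (secEquiv_eq U g).symm))

lemma stalk_freeU_ext {x : X} {U : X.Opens} {L : ModuleCat.{u} (X.presheaf.stalk x)}
    {g g' : (DerSch.stalkFunctor X x).obj (freeU U) ⟶ L}
    (h : ∀ hx : x ∈ U, g.hom ((freeU U).presheaf.germ U x hx (usec U)) =
      g'.hom ((freeU U).presheaf.germ U x hx (usec U))) : g = g' := by
  have key : toSk g = toSk g' := freeU_hom_ext (funext fun hh => h hh.down)
  have hg : ∀ k : (DerSch.stalkFunctor X x).obj (freeU U) ⟶ L, fromSk (toSk k) = k :=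
    fun k => stalkHom_ext fun V hx s => by rw [fromSk_germ, toSk_app]
  rw [← hg g, key, hg g']

variable (x : X) (U : X.Opens)

/-- the stalk of a free module on an open -/
noncomputable abbrev freeSt : ModuleCat.{u} (X.presheaf.stalk x) :=
  ModuleCat.of (X.presheaf.stalk x) (PLift (x ∈ U) →₀ X.presheaf.stalk x)

noncomputable def toFree : (DerSch.stalkFunctor X x).obj (freeU U) ⟶ freeSt x U :=
  fromSk ((secEquiv U ((sk x).obj (freeSt x U))).symm
    (fun h => Finsupp.single h 1 : SkSec x (freeSt x U) U))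

lemma toFree_germ (hx : x ∈ U) :
    (toFree x U).hom ((freeU U).presheaf.germ U x hx (usec U)) = Finsupp.single ⟨hx⟩ 1 := by
  unfold toFree
  refine (fromSk_germ _ U hx (usec U)).trans ?_
  exact congrFun (((secEquiv_eq U _).symm).trans ((secEquiv U ((sk x).obj (freeSt x U))).apply_symm_apply _))
    (⟨hx⟩ : PLift (x ∈ U))

noncomputable def ofFree : freeSt x U ⟶ (DerSch.stalkFunctor X x).obj (freeU U) :=
  ModuleCat.ofHom (Finsupp.linearCombination (X.presheaf.stalk x)
    (fun h : PLift (x ∈ U) => ((freeU U).presheaf.germ U x h.down (usec U) :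
      (DerSch.stalkFunctor X x).obj (freeU U))))

lemma ofFree_single (h : PLift (x ∈ U)) :
    (ofFree x U).hom (Finsupp.single h 1) = (freeU U).presheaf.germ U x h.down (usec U) := by
  unfold ofFree
  erw [Finsupp.linearCombination_single]
  exact one_smul _ _

noncomputable def stalkIso : (DerSch.stalkFunctor X x).obj (freeU U) ≅ freeSt x U where
  hom := toFree x U
  inv := ofFree x U
  hom_inv_id := stalk_freeU_ext fun hx => by
    show (ofFree x U).hom ((toFree x U).hom _) = (freeU U).presheaf.germ U x hx (usec U)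
    exact (congrArg (ofFree x U).hom (toFree_germ x U hx)).trans (ofFree_single x U ⟨hx⟩)
  inv_hom_id := ModuleCat.hom_ext (Finsupp.lhom_ext' fun h => LinearMap.ext_ring (by
    show (toFree x U).hom ((ofFree x U).hom (Finsupp.single h 1)) = Finsupp.single h 1
    refine Eq.trans (congrArg (toFree x U).hom (ofFree_single x U h)) ?_
    exact toFree_germ x U h.down))

lemma flat_freeU : FlatMod.IsFlat (freeU U) := fun x =>
  Module.Flat.of_linearEquiv (stalkIso x U).toLinearEquiv

lemma isFlat_iff {M : X.Modules} :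
    FlatMod.IsFlat M ↔ ∀ x : X, Module.Flat (X.presheaf.stalk x) ((DerSch.stalkFunctor X x).obj M) := Iff.rfl

lemma isFlat_of_iso {M N : X.Modules} (e : M ≅ N) (h : FlatMod.IsFlat M) : FlatMod.IsFlat N := fun x => by
  have : Module.Flat (X.presheaf.stalk x) ((DerSch.stalkFunctor X x).obj M) := h x
  exact Module.Flat.of_linearEquiv ((DerSch.stalkFunctor X x).mapIso e).toLinearEquiv.symm

lemma isFlat_sigma {T : Type u} (M : T → X.Modules) (h : ∀ t, FlatMod.IsFlat (M t)) : FlatMod.IsFlat (∐ M) :=
  fun x => by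
  have : ∀ t, Module.Flat (X.presheaf.stalk x) ((DerSch.stalkFunctor X x).obj (M t)) := fun t => h t x
  classical
  exact Module.Flat.of_linearEquiv
    ((PreservesCoproduct.iso (DerSch.stalkFunctor X x) M) ≪≫
      ModuleCat.coprodIsoDirectSum (fun t => (DerSch.stalkFunctor X x).obj (M t))).toLinearEquiv

/-- index set of the cover -/
abbrev CovIx (M : X.Modules) : Type u := Σ U : X.Opens, M.presheaf.obj (op U)

/-- the cover functor -/
noncomputable def cov : X.Modules ⥤ X.Modules where
  obj M := ∐ fun p : CovIx M => freeU p.1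
  map {M N} φ := Sigma.desc fun p => Sigma.ι (fun q : CovIx N => freeU q.1) ⟨p.1, φ.app p.1 p.2⟩
  map_id M := Sigma.hom_ext _ _ fun p => by
    rw [Sigma.ι_desc, Category.comp_id]
    rfl
  map_comp φ ψ := Sigma.hom_ext _ _ fun p => by
    rw [Sigma.ι_desc, Sigma.ι_desc_assoc, Sigma.ι_desc]
    rfl

/-- the covering map -/
noncomputable def covπ : cov (X := X) ⟶ 𝟭 _ where
  app M := Sigma.desc fun p => (secEquiv p.1 M).symm p.2
  naturality {M N} φ := Sigma.hom_ext _ _ fun p => by
    show Sigma.ι _ p ≫ Sigma.desc _ ≫ Sigma.desc _ = Sigma.ι _ p ≫ Sigma.desc _ ≫ φ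
    rw [Sigma.ι_desc_assoc, Sigma.ι_desc, Sigma.ι_desc_assoc]
    apply (secEquiv p.1 N).injective
    rw [secEquiv_comp, Equiv.apply_symm_apply, Equiv.apply_symm_apply]

lemma flat_cov (M : X.Modules) : FlatMod.IsFlat (cov.obj M) := isFlat_sigma _ fun p => flat_freeU p.1

lemma covπ_surjective (M : X.Modules) (U : X.Opens) : Function.Surjective ((covπ.app M).app U) := fun s =>
  ⟨(Sigma.ι (fun p : CovIx M => freeU p.1) ⟨U, s⟩).app U (usec U), by
    have h : Sigma.ι (fun p : CovIx M => freeU p.1) ⟨U, s⟩ ≫ covπ.app M = (secEquiv U M).symm s := Sigma.ι_desc _ _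
    have := congrArg (fun φ => φ.app U (usec U)) h
    exact this.trans ((secEquiv_eq U _).symm.trans ((secEquiv U M).apply_symm_apply s))⟩

lemma covπ_stalk_surjective (M : X.Modules) (x : X) :
    Function.Surjective ((DerSch.stalkFunctor X x).map (covπ.app M)).hom := fun a => by
  obtain ⟨U, hU, s, rfl⟩ := M.presheaf.exists_germ_eq (x := x) a
  obtain ⟨t, rfl⟩ := covπ_surjective M U s
  exact ⟨(cov.obj M).presheaf.germ U x hU t, DerSch.stalkFunctor_map_germ x _ U hU t⟩

instance epi_covπ (M : X.Modules) : Epi (covπ.app M) :=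
  ((jointly X).jointlyReflectEpimorphisms.epi_iff (covπ.app M)).2 fun x =>
    (ModuleCat.epi_iff_surjective _).2 (covπ_stalk_surjective M x)

end Groth.Agent.H7FlatCover
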