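import Groth.Agent.Lib.LInv
import Groth.Agent.Lib.LQcqs
import Mathlib

/-! Loci where sections of invertible modules generate; extension of sections; ample modules. -/

set_option autoImplicit false
universe u
open CategoryTheory Limits AlgebraicGeometry Opposite TopologicalSpace

namespace Groth.Agent.LAmple

open Groth.Agent.LQcoh Groth.Agent.LInv

variable {X Y : Scheme.{u}} {L : X.Modules}

theorem isAffineOpen_genLocus_inf_of_genOn (s : Coh.structureModule X ⟶ L) {U : X.Opens} {σ : Γ(L, U)}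
    (hσ : GenOn L U σ) (hU : IsAffineOpen U) : IsAffineOpen (CohB1.genLocus L s ⊓ U) := by
  rw [genLocus_inf' hσ s]
  exact hU.basicOpen _

theorem isAffineHom_ι (hL : PicF.IsInvertible L) (s : Coh.structureModule X ⟶ L) :
    IsAffineHom (CohB1.genLocus L s).ι := by
  refine isAffineHom_of_forall_exists_isAffineOpen _ fun x => ?_
  obtain ⟨U, σ, hx, -, hU, hσ⟩ := exists_affine_gen hL (V := ⊤) (x := x) trivial
  refine ⟨U, hx, hU, ?_⟩
  rw [← Scheme.Hom.isAffineOpen_iff_of_isOpenImmersion (CohB1.genLocus L s).ι,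
    Scheme.Hom.image_preimage_eq_opensRange_inf, Scheme.Opens.opensRange_ι]
  exact isAffineOpen_genLocus_inf_of_genOn s hσ hU

theorem isAffineOpen_genLocus_inf (hL : PicF.IsInvertible L) (s : Coh.structureModule X ⟶ L)
    {U : X.Opens} (hU : IsAffineOpen U) : IsAffineOpen (CohB1.genLocus L s ⊓ U) := by
  haveI := isAffineHom_ι hL s
  have := hU.preimage (CohB1.genLocus L s).ι
  rw [← Scheme.Hom.isAffineOpen_iff_of_isOpenImmersion (CohB1.genLocus L s).ι,
    Scheme.Hom.image_preimage_eq_opensRange_inf, Scheme.Opens.opensRange_ι] at this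
  exact this

theorem isRetrocompact_genLocus (hL : PicF.IsInvertible L) (s : Coh.structureModule X ⟶ L) :
    IsRetrocompact (X := X) (CohB1.genLocus L s) :=
  haveI := isAffineHom_ι hL s
  IsRetrocompact_iff_isSpectralMap_subtypeVal.mpr (CohB1.genLocus L s).ι.isSpectralMap

/-- a section generates exactly on its locus -/
theorem bijOn_genLocus (s : Coh.structureModule X ⟶ L) : BijOn s (CohB1.genLocus L s) := by
  intro W hW
  let sx := ((toShf X).map s)
  have hst : ∀ x ∈ W, Function.Bijective ((TopCat.Presheaf.stalkFunctor AddCommGrpCat.{u} x).map sx.hom) := by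
    intro x hx
    obtain ⟨V, hxV, hV⟩ := mem_genLocus_iff.1 (hW hx)
    haveI : IsIso ((Scheme.Modules.restrictFunctor V.ι).map s) := (isIso_restrict_iff s V).2 hV
    have : IsIso ((Scheme.Modules.toPresheaf X ⋙ TopCat.Presheaf.stalkFunctor _ (V.ι ⟨x, hxV⟩)).map s) :=
      (NatIso.isIso_map_iff (Scheme.Modules.restrictStalkNatIso V.ι ⟨x, hxV⟩) s).1
        (inferInstanceAs (IsIso ((Scheme.Modules.toPresheaf V.toScheme ⋙
          TopCat.Presheaf.stalkFunctor AddCommGrpCat.{u} (⟨x, hxV⟩ : V)).map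
          ((Scheme.Modules.restrictFunctor V.ι).map s))))
    exact (ConcreteCategory.isIso_iff_bijective _).1 this
  exact TopCat.Presheaf.app_bijective_of_stalkFunctor_map_bijective sx W hst

theorem genOn_val (s : Coh.structureModule X ⟶ L) {V : X.Opens} (hV : V ≤ CohB1.genLocus L s) :
    GenOn L V (SecTwist.val s V : Γ(L, V)) := by
  intro W h
  have : (fun r : Γ(X, W) => r • res L h (SecTwist.val s V : Γ(L, V))) = s.app W := by
    funext r
    rw [app_eq_smul_val, ← SecTwist.map_val s (homOfLE h)]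
    rfl
  rw [this]
  exact bijOn_genLocus s W (h.trans hV)

theorem genOn_pow {U : X.Opens} {σ : Γ(L, U)} (hσ : GenOn L U σ) :
    ∀ n : ℕ, ∃ τ : Γ(CohB1.tensorPow L n, U), GenOn (CohB1.tensorPow L n) U τ ∧
      ∀ (s : Coh.structureModule X ⟶ L) (f : Γ(X, U)), f • σ = (SecTwist.val s U : Γ(L, U)) →
        f ^ n • τ = (SecTwist.pow s n U : Γ(CohB1.tensorPow L n, U))
  | 0 => ⟨(1 : Γ(X, U)), fun W h => by
      have : res (Coh.structureModule X) h (1 : Γ(X, U)) = (1 : Γ(X, W)) :=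
        map_one (X.presheaf.map (homOfLE h).op).hom
      exact this ▸ bij_smul_one, fun _ f _ => by
        exact (mul_one (f ^ 0)).trans (pow_zero f)⟩
  | n + 1 => by
      obtain ⟨τ, hτ, hpow⟩ := genOn_pow hσ n
      refine ⟨SecTwist.tmul _ L U τ σ, genOn_tensor hτ hσ, fun s f hf => ?_⟩
      show _ = SecTwist.tmul _ L U (SecTwist.pow s n U) (SecTwist.val s U)
      rw [pow_succ, mul_smul, ← hpow s f hf, ← hf]
      exact ((LTensor.tmul_smul_left _ L U (f ^ n) τ _).trans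
        (congrArg (f ^ n • ·) (LTensor.tmul_smul_right _ L U f τ σ))).symm

theorem genOn_pow_val (s : Coh.structureModule X ⟶ L) {V : X.Opens} (hV : V ≤ CohB1.genLocus L s) (n : ℕ) :
    GenOn (CohB1.tensorPow L n) V (SecTwist.pow s n V) := by
  obtain ⟨τ, hτ, h⟩ := genOn_pow (genOn_val s hV) n
  have := h s 1 (one_smul _ _)
  rw [one_pow, one_smul] at this
  exact this ▸ hτ

/-- a global section as a morphism out of the structure sheaf -/
noncomputable def homTop (t : Γ(L, ⊤)) : Coh.structureModule X ⟶ L :=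
  L.unitHomEquiv.symm (PresheafOfModules.sectionsMk (fun W => res L le_top t)
    (fun _ _ f => res_res L le_top f.unop.le t))

theorem val_homTop (t : Γ(L, ⊤)) (W : X.Opens) :
    (SecTwist.val (homTop t) W : Γ(L, W)) = res L le_top t :=
  congrArg (fun s => s.val (op W)) (L.unitHomEquiv.apply_symm_apply _)

lemma tmul_zero_left (M N : X.Modules) (W : X.Opens) (n : N.val.obj (op W)) :
    SecTwist.tmul M N W 0 n = 0 := by
  have := LTensor.tmul_add_left M N W 0 0 n
  rw [add_zero] at this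
  exact left_eq_add.1 this

lemma res_smul_pow (s : Coh.structureModule X ⟶ L) (k : ℕ) {V W : X.Opens} (h : W ≤ V) (r : Γ(X, V)) :
    res (CohB1.tensorPow L k) h (r • (SecTwist.pow s k V : Γ(CohB1.tensorPow L k, V))) =
      resO h r • (SecTwist.pow s k W : Γ(CohB1.tensorPow L k, W)) :=
  (res_smul _ h r _).trans (congrArg (resO h r • ·) (SecTwist.map_pow s k (homOfLE h)))

/-- multiplication by a section -/
noncomputable def mulS (s : Coh.structureModule X ⟶ L) (W : X.Opens) (m : ℕ) :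
    (P : ℕ) → (Γ(CohB1.tensorPow L m, W) →+ Γ(CohB1.tensorPow L (m + P), W))
  | 0 => AddMonoidHom.id _
  | P + 1 =>
    { toFun := fun t => SecTwist.tmul (CohB1.tensorPow L (m + P)) L W (mulS s W m P t) (SecTwist.val s W)
      map_zero' := (congrArg (fun c => SecTwist.tmul (CohB1.tensorPow L (m + P)) L W c (SecTwist.val s W))
        (map_zero (mulS s W m P))).trans (tmul_zero_left _ L W _)
      map_add' := fun a b =>
        (congrArg (fun c => SecTwist.tmul (CohB1.tensorPow L (m + P)) L W c (SecTwist.val s W))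
          (map_add (mulS s W m P) a b)).trans (LTensor.tmul_add_left _ L W _ _ _) }

lemma mulS_res (s : Coh.structureModule X ⟶ L) (m : ℕ) {W W' : X.Opens} (h : W' ≤ W) :
    ∀ (P : ℕ) (t : Γ(CohB1.tensorPow L m, W)),
      res (CohB1.tensorPow L (m + P)) h (mulS s W m P t) = mulS s W' m P (res (CohB1.tensorPow L m) h t)
  | 0, t => rfl
  | P + 1, t => (SecTwist.map_tmul _ L (homOfLE h) _ _).trans
      (congrArg₂ (SecTwist.tmul _ L W') (mulS_res s m h P t) (SecTwist.map_val s (homOfLE h)))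

lemma mulS_smul (s : Coh.structureModule X ⟶ L) (W : X.Opens) (m : ℕ) :
    ∀ (P : ℕ) (r : Γ(X, W)) (t : Γ(CohB1.tensorPow L m, W)),
      mulS s W m P (r • t) = r • mulS s W m P t
  | 0, r, t => rfl
  | P + 1, r, t => (congrArg (fun c => SecTwist.tmul (CohB1.tensorPow L (m + P)) L W c (SecTwist.val s W))
      (mulS_smul s W m P r t)).trans (LTensor.tmul_smul_left _ L W r _ _)

lemma mulS_pow (s : Coh.structureModule X ⟶ L) (W : X.Opens) (m : ℕ) :
    ∀ P : ℕ, mulS s W m P (SecTwist.pow s m W) = SecTwist.pow s (m + P) W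
  | 0 => rfl
  | P + 1 => congrArg (fun c => SecTwist.tmul (CohB1.tensorPow L (m + P)) L W c (SecTwist.val s W))
      (mulS_pow s W m P)

lemma mulS_zero_mono (s : Coh.structureModule X ⟶ L) (W : X.Opens) (m : ℕ)
    (t : Γ(CohB1.tensorPow L m, W)) {P Q : ℕ} (h : P ≤ Q) (hP : mulS s W m P t = 0) :
    mulS s W m Q t = 0 := by
  induction h with
  | refl => exact hP
  | @step k _ ih =>
    exact (congrArg (fun c => SecTwist.tmul (CohB1.tensorPow L (m + k)) L W c (SecTwist.val s W)) ih).trans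
      (tmul_zero_left _ L W _)

lemma mulS_gen (s : Coh.structureModule X ⟶ L) {U : X.Opens} {σ : Γ(L, U)} (f : Γ(X, U))
    (hf : f • σ = (SecTwist.val s U : Γ(L, U))) (m : ℕ) (τ : Γ(CohB1.tensorPow L m, U)) :
    ∀ P : ℕ, ∃ τ' : Γ(CohB1.tensorPow L (m + P), U), ∀ r : Γ(X, U),
      mulS s U m P (r • τ) = (r * f ^ P) • τ'
  | 0 => ⟨τ, fun r => by rw [pow_zero, mul_one]; rfl⟩
  | P + 1 => by
      obtain ⟨τ', h⟩ := mulS_gen s f hf m τ P
      refine ⟨SecTwist.tmul _ L U τ' σ, fun r => ?_⟩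
      show SecTwist.tmul _ L U (mulS s U m P (r • τ)) (SecTwist.val s U) = _
      rw [h r, ← hf]
      conv_rhs => rw [pow_succ, ← mul_assoc, mul_smul]
      exact (LTensor.tmul_smul_left _ L U _ τ' _).trans
        (congrArg ((r * f ^ P) • ·) (LTensor.tmul_smul_right _ L U f τ' σ))

theorem exists_mulS_kill_of_gen (s : Coh.structureModule X ⟶ L) {U : X.Opens} {σ : Γ(L, U)}
    (hσ : GenOn L U σ) (hU : IsAffineOpen U) (m : ℕ) (d : Γ(CohB1.tensorPow L m, U))
    (hd : res _ (inf_le_right : CohB1.genLocus L s ⊓ U ≤ U) d = 0) :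
    ∃ P, mulS s U m P d = 0 := by
  obtain ⟨f, hf⟩ : ∃ f, f • σ = (SecTwist.val s U : Γ(L, U)) := ⟨_, coeff_spec hσ _⟩
  obtain ⟨τ, hτ, -⟩ := genOn_pow hσ m
  obtain ⟨r, rfl⟩ : ∃ r, r • τ = d := ⟨_, coeff_spec hτ d⟩
  have hle : X.basicOpen f ≤ CohB1.genLocus L s ⊓ U := (genLocus_inf hσ s hf).ge
  have h0 : resO (X.basicOpen_le f) r = 0 := by
    refine (hτ _ (X.basicOpen_le f)).1 (Eq.trans ?_ (zero_smul _ _).symm)
    refine (res_smul _ (X.basicOpen_le f) r τ).symm.trans ?_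
    exact (res_res _ (inf_le_right : CohB1.genLocus L s ⊓ U ≤ U) hle (r • τ)).symm.trans
      ((congrArg (res (CohB1.tensorPow L m) hle) hd).trans (map_zero _))
  obtain ⟨N, hN⟩ := exists_pow_kill (Coh.structureModule X) hU.isCompact f
    (show Γ(Coh.structureModule X, U) from r) h0
  obtain ⟨τ', h⟩ := mulS_gen s f hf m τ N
  refine ⟨N, (h r).trans ?_⟩
  rw [show r * f ^ N = 0 from (mul_comm _ _).trans hN, zero_smul]

theorem exists_mulS_kill (hL : PicF.IsInvertible L) (s : Coh.structureModule X ⟶ L) {W : X.Opens}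
    (hW : IsCompact (W : Set X)) (m : ℕ) (d : Γ(CohB1.tensorPow L m, W))
    (hd : res _ (inf_le_right : CohB1.genLocus L s ⊓ W ≤ W) d = 0) :
    ∃ P, mulS s W m P d = 0 := by
  choose U σ hx hUW hU hσ using fun x : W => exists_affine_gen hL (V := W) x.2
  obtain ⟨t, ht⟩ := hW.elim_finite_subcover (fun x : W => (U x : Set X)) (fun x => (U x).2)
    (fun x hx' => Set.mem_iUnion.2 ⟨⟨x, hx'⟩, hx ⟨x, hx'⟩⟩)
  have hcov : iSup (fun x : t => U x.1) = W := le_antisymm (iSup_le fun x => hUW _) fun x hx' =>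
    let ⟨i, hi, hxi⟩ := Set.mem_iUnion₂.1 (ht hx')
    Opens.mem_iSup.2 ⟨⟨i, hi⟩, hxi⟩
  choose P hP using fun x : t => exists_mulS_kill_of_gen s (hσ x.1) (hU x.1) m (res _ (hUW x.1) d) (by
    refine (res_res _ (hUW x.1) inf_le_right d).trans ?_
    refine (res_res (CohB1.tensorPow L m) inf_le_right (inf_le_inf_left _ (hUW x.1)) d).symm.trans ?_
    exact (congrArg _ hd).trans (map_zero _))
  obtain ⟨Q, hQ⟩ := Finite.exists_le P
  refine ⟨Q, eq_of_cover _ (fun x : t => U x.1) hcov fun x => ?_⟩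
  rw [mulS_res]
  refine (mulS_zero_mono s _ m _ (hQ x) (hP x)).trans (map_zero _).symm

/-- a function on `X_s` times a high power of `s` extends to a global section -/
theorem extend [CompactSpace X] [QuasiSeparatedSpace X] (hL : PicF.IsInvertible L)
    (s : Coh.structureModule X ⟶ L) (g : Γ(X, CohB1.genLocus L s)) :
    ∃ (k : ℕ) (t : Γ(CohB1.tensorPow L k, ⊤)),
      res _ le_top t = g • (SecTwist.pow s k (CohB1.genLocus L s) : Γ(CohB1.tensorPow L k, CohB1.genLocus L s)) := by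
  generalize hV : CohB1.genLocus L s = V at g
  choose U σ hx _ hU hσ using fun x : X => exists_affine_gen hL (V := ⊤) (x := x) trivial
  obtain ⟨t₀, ht₀⟩ := isCompact_univ.elim_finite_subcover (fun x : X => (U x : Set X)) (fun x => (U x).2)
    (fun x _ => Set.mem_iUnion.2 ⟨x, hx x⟩)
  have hcov : iSup (fun x : t₀ => U x.1) = ⊤ := eq_top_iff.2 fun x hx' =>
    let ⟨i, hi, hxi⟩ := Set.mem_iUnion₂.1 (ht₀ (Set.mem_univ x))
    Opens.mem_iSup.2 ⟨⟨i, hi⟩, hxi⟩
  let f := fun x : t₀ => coeff (hσ x.1) (SecTwist.val s (U x.1) : Γ(L, U x.1))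
  have hf : ∀ x : t₀, f x • σ x.1 = (SecTwist.val s (U x.1) : Γ(L, U x.1)) := fun x => coeff_spec _ _
  have hD : ∀ x : t₀, X.basicOpen (f x) = V ⊓ U x.1 := fun x =>
    (genLocus_inf (hσ x.1) s (hf x)).symm.trans (hV ▸ rfl)
  choose N a ha using fun x : t₀ => (exists_pow_of_affine (hU x.1) (Coh.structureModule X) (f x)).1
    (resO ((hD x).le.trans inf_le_left) g)
  obtain ⟨K, hK⟩ := Finite.exists_le N
  choose τ hτ hτpow using fun x : t₀ => genOn_pow (hσ x.1) K
  let z : ∀ x : t₀, Γ(CohB1.tensorPow L K, U x.1) := fun x =>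
    (f x ^ (K - N x) * (show Γ(X, U x.1) from a x)) • τ x
  have hz : ∀ x : t₀, res _ (inf_le_right : V ⊓ U x.1 ≤ U x.1) (z x) =
      resO (inf_le_left : V ⊓ U x.1 ≤ V) g • (SecTwist.pow s K (V ⊓ U x.1) : Γ(CohB1.tensorPow L K, V ⊓ U x.1)) := by
    intro x
    have hax : resO (inf_le_right : V ⊓ U x.1 ≤ U x.1) (show Γ(X, U x.1) from a x) =
        resO (inf_le_right : V ⊓ U x.1 ≤ U x.1) (f x ^ N x) * resO (inf_le_left : V ⊓ U x.1 ≤ V) g := by
      have := congrArg (resO (hD x).ge) (show resO (basicOpen_le_open (f x)) (show Γ(X, U x.1) from a x) =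
        resO (basicOpen_le_open (f x)) (f x ^ N x) * resO ((hD x).le.trans inf_le_left) g from ha x)
      simpa only [resO, map_mul, ← ConcreteCategory.comp_apply, ← X.presheaf.map_comp, ← op_comp,
        homOfLE_comp] using this
    have hpw : resO (inf_le_right : V ⊓ U x.1 ≤ U x.1) (f x ^ K) •
        res (CohB1.tensorPow L K) inf_le_right (τ x) =
        (SecTwist.pow s K (V ⊓ U x.1) : Γ(CohB1.tensorPow L K, V ⊓ U x.1)) :=
      (res_smul _ _ _ _).symm.trans ((congrArg (res (CohB1.tensorPow L K) inf_le_right) (hτpow x s (f x) (hf x))).trans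
        (SecTwist.map_pow s K _))
    simp only [z]
    rw [res_smul]
    erw [← hpw]
    erw [smul_smul]
    congr 1
    simp only [resO, map_mul] at hax ⊢
    rw [hax, ← mul_assoc, ← map_mul, ← pow_add, Nat.sub_add_cancel (hK x), mul_comm]
  have : ∀ p : t₀ × t₀, ∃ Q, mulS s (U p.1.1 ⊓ U p.2.1) K Q
      (res _ (inf_le_left : U p.1.1 ⊓ U p.2.1 ≤ _) (z p.1) - res _ (inf_le_right : U p.1.1 ⊓ U p.2.1 ≤ _) (z p.2)) = 0 := by
    rintro ⟨x, y⟩
    refine exists_mulS_kill hL s (QuasiSeparatedSpace.inter_isCompact _ _ (U x.1).2 (hU x.1).isCompact (U y.1).2 (hU y.1).isCompact) K _ ?_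
    subst hV
    refine (map_sub ((CohB1.tensorPow L K).presheaf.map (homOfLE _).op).hom _ _).trans (sub_eq_zero.2 ?_)
    change res _ _ (res _ _ (z x)) = res _ _ (res _ _ (z y))
    rw [res_res, res_res, ← res_res _ inf_le_right (inf_le_inf_left _ inf_le_left) (z x),
      ← res_res _ inf_le_right (inf_le_inf_left _ inf_le_right) (z y), hz, hz, res_smul_pow, res_smul_pow,
      resO_resO, resO_resO]
  choose Q hQ using this
  obtain ⟨Q', hQ'⟩ := Finite.exists_le Q
  obtain ⟨t, ht⟩ := exists_glue (CohB1.tensorPow L (K + Q')) (fun x : t₀ => U x.1) hcov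
    (fun x => mulS s _ K Q' (z x)) (fun x y => by
      rw [mulS_res, mulS_res]
      have := mulS_zero_mono s _ K _ (hQ' (x, y)) (hQ (x, y))
      rw [map_sub, sub_eq_zero] at this
      exact this)
  refine ⟨K + Q', t, eq_of_cover _ (fun x : t₀ => V ⊓ U x.1) ?_ fun x => ?_⟩
  · rw [← inf_iSup_eq, hcov, inf_top_eq]
  · rw [res_res, ← res_res _ ((le_iSup (fun x : t₀ => U x.1) x).trans hcov.le) (inf_le_right : V ⊓ U x.1 ≤ _) t,
      ht x, mulS_res, hz, res_smul_pow]
    exact (mulS_smul s _ K Q' _ _).trans (congrArg (_ • ·) (mulS_pow s _ K Q'))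

/-- `(L^a) ⊗ (L^b) ≅ L^(a+b)` -/
theorem tensorPow_add (L : X.Modules) (a : ℕ) :
    ∀ b : ℕ, Nonempty (CohB1.tensorMod (CohB1.tensorPow L a) (CohB1.tensorPow L b) ≅ CohB1.tensorPow L (a + b))
  | 0 => ⟨SecTwist.unitorR _⟩
  | b + 1 =>
    let ⟨e⟩ := tensorPow_add L a b
    let ⟨c⟩ := LTensor.assoc (CohB1.tensorPow L a) (CohB1.tensorPow L b) L
    ⟨c.symm ≪≫ LTensor.mapIso e (Iso.refl L)⟩

/-- `(L^a)^b ≅ L^(a*b)` -/
theorem tensorPow_mul (L : X.Modules) (a : ℕ) :
    ∀ b : ℕ, Nonempty (CohB1.tensorPow (CohB1.tensorPow L a) b ≅ CohB1.tensorPow L (a * b))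
  | 0 => ⟨Iso.refl _⟩
  | b + 1 =>
    let ⟨e⟩ := tensorPow_mul L a b
    let ⟨f⟩ := tensorPow_add L (a * b) a
    ⟨LTensor.mapIso e (Iso.refl _) ≪≫ f⟩

/-- `(L ⊗ M)^n ≅ L^n ⊗ M^n` -/
theorem tensorPow_tensor (L M : X.Modules) :
    ∀ n : ℕ, Nonempty (CohB1.tensorPow (CohB1.tensorMod L M) n ≅
      CohB1.tensorMod (CohB1.tensorPow L n) (CohB1.tensorPow M n))
  | 0 => ⟨(SecTwist.unitorR _).symm⟩
  | n + 1 => by
      obtain ⟨e⟩ := tensorPow_tensor L M n
      let A := CohB1.tensorPow L n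
      let B := CohB1.tensorPow M n
      obtain ⟨a₁⟩ := LTensor.assoc A B (CohB1.tensorMod L M)
      obtain ⟨a₂⟩ := LTensor.assoc B L M
      obtain ⟨a₃⟩ := LTensor.assoc L B M
      obtain ⟨a₄⟩ := LTensor.assoc A L (CohB1.tensorMod B M)
      exact ⟨LTensor.mapIso e (Iso.refl _) ≪≫ a₁ ≪≫
        LTensor.mapIso (Iso.refl A) (a₂.symm ≪≫ LTensor.mapIso (LTensor.comm B L) (Iso.refl M) ≪≫ a₃) ≪≫ a₄.symm⟩

theorem exists_pow_section (hL : PicF.IsInvertible L) (s : Coh.structureModule X ⟶ L) (n : ℕ) :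
    ∃ t : Coh.structureModule X ⟶ CohB1.tensorPow L (n + 1), CohB1.genLocus _ t = CohB1.genLocus L s :=
  ⟨_, genLocus_powHom hL s n⟩

/-- ampleness gives quasi-separatedness -/
theorem qs_of_ample (hL : CohB1.IsAmple L) : QuasiSeparatedSpace X := by
  choose n s hs ha using hL.2.2
  exact .of_isOpenCover (U := fun x : X => CohB1.genLocus _ (s x))
    (eq_top_iff.mpr fun x _ => Opens.mem_iSup.mpr ⟨x, hs x⟩)
    (fun x => isRetrocompact_genLocus (isInvertible_tensorPow hL.1 _) (s x))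
    (fun x => (ha x).isQuasiSeparated)

/-- an open `D(g)` inside `X_s` is of the form `X_t` -/
theorem exists_section_basicOpen [CompactSpace X] [QuasiSeparatedSpace X] (hL : PicF.IsInvertible L) {n : ℕ}
    (s : Coh.structureModule X ⟶ CohB1.tensorPow L (n + 1)) (g : Γ(X, CohB1.genLocus _ s)) :
    ∃ (N : ℕ) (t : Coh.structureModule X ⟶ CohB1.tensorPow L (N + 1)), CohB1.genLocus _ t = X.basicOpen g := by
  have hM := isInvertible_tensorPow hL (n + 1)
  obtain ⟨k, t, ht⟩ := extend hM s g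
  let t' := SecTwist.tmulHom (homTop t) s
  have hloc : CohB1.genLocus _ t' = X.basicOpen g := by
    rw [genLocus_tmulHom (isInvertible_tensorPow hM k) hM]
    refine genLocus_inf (genOn_pow_val s le_rfl k) (homTop t) (f := g) ?_
    exact ht.symm.trans (val_homTop t _).symm
  obtain ⟨e⟩ := tensorPow_mul L (n + 1) (k + 1)
  obtain ⟨N, hN⟩ : ∃ N, (n + 1) * (k + 1) = N + 1 := ⟨_, (Nat.sub_one_add_one (by positivity)).symm⟩
  refine ⟨N, t' ≫ (e ≪≫ eqToIso (congrArg (CohB1.tensorPow L) hN)).hom, ?_⟩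
  rw [genLocus_comp_iso, hloc]

/-- the affine opens `X_s` of an ample module form a basis -/
theorem basis_of_ample (hL : CohB1.IsAmple L) {x : X} {U : X.Opens} (hx : x ∈ U) :
    ∃ (n : ℕ) (s : Coh.structureModule X ⟶ CohB1.tensorPow L (n + 1)),
      x ∈ CohB1.genLocus _ s ∧ CohB1.genLocus _ s ≤ U ∧ IsAffineOpen (CohB1.genLocus _ s) := by
  haveI := hL.2.1
  haveI := qs_of_ample hL
  obtain ⟨n, s, hs, ha⟩ := hL.2.2 x
  obtain ⟨g, hgU, hxg⟩ := ha.exists_basicOpen_le (V := U) ⟨x, hx⟩ hs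
  have hM := isInvertible_tensorPow hL.1 (n + 1)
  obtain ⟨k, t, ht⟩ := extend hM s g
  let t' := SecTwist.tmulHom (homTop t) s
  have hloc : CohB1.genLocus _ t' = X.basicOpen g := by
    rw [genLocus_tmulHom (isInvertible_tensorPow hM k) hM]
    refine genLocus_inf (genOn_pow_val s le_rfl k) (homTop t) (f := g) ?_
    exact ht.symm.trans (val_homTop t _).symm
  obtain ⟨e⟩ := tensorPow_mul L (n + 1) (k + 1)
  obtain ⟨N, hN⟩ : ∃ N, (n + 1) * (k + 1) = N + 1 := ⟨_, (Nat.sub_one_add_one (by positivity)).symm⟩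
  refine ⟨N, t' ≫ (e ≪≫ eqToIso (congrArg (CohB1.tensorPow L) hN)).hom, ?_⟩
  rw [genLocus_comp_iso, hloc]
  exact ⟨hxg, hgU, ha.basicOpen g⟩

theorem isAmple_of_iso {M : X.Modules} (e : L ≅ M) (hL : CohB1.IsAmple L) : CohB1.IsAmple M := by
  refine ⟨isInvertible_of_iso e hL.1, hL.2.1, fun x => ?_⟩
  obtain ⟨n, s, hs, ha⟩ := hL.2.2 x
  have : ∀ m, Nonempty (CohB1.tensorPow L m ≅ CohB1.tensorPow M m) := fun m => by
    induction m with
    | zero => exact ⟨Iso.refl _⟩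
    | succ m ih => obtain ⟨i⟩ := ih; exact ⟨LTensor.mapIso i e⟩
  obtain ⟨i⟩ := this (n + 1)
  refine ⟨n, s ≫ i.hom, ?_⟩
  rw [genLocus_comp_iso]
  exact ⟨hs, ha⟩

theorem isAmple_tensorPow_iff (hL : PicF.IsInvertible L) {n : ℕ} (hn : 0 < n) :
    CohB1.IsAmple (CohB1.tensorPow L n) ↔ CohB1.IsAmple L := by
  obtain ⟨n, rfl⟩ : ∃ m, n = m + 1 := ⟨_, (Nat.sub_one_add_one hn.ne').symm⟩
  constructor
  · intro h
    refine ⟨hL, h.2.1, fun x => ?_⟩
    obtain ⟨k, s, hs, ha⟩ := h.2.2 x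
    obtain ⟨e⟩ := tensorPow_mul L (n + 1) (k + 1)
    obtain ⟨N, hN⟩ : ∃ N, (n + 1) * (k + 1) = N + 1 := ⟨_, (Nat.sub_one_add_one (by positivity)).symm⟩
    refine ⟨N, s ≫ (e ≪≫ eqToIso (congrArg (CohB1.tensorPow L) hN)).hom, ?_⟩
    rw [genLocus_comp_iso]
    exact ⟨hs, ha⟩
  · intro h
    refine ⟨isInvertible_tensorPow hL _, h.2.1, fun x => ?_⟩
    obtain ⟨k, s, hs, ha⟩ := h.2.2 x
    obtain ⟨t, ht⟩ := exists_pow_section (isInvertible_tensorPow hL (k + 1)) s n
    obtain ⟨e⟩ := tensorPow_mul L (k + 1) (n + 1)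
    obtain ⟨e'⟩ := tensorPow_mul L (n + 1) (k + 1)
    refine ⟨k, t ≫ (e ≪≫ eqToIso (congrArg (CohB1.tensorPow L) (mul_comm _ _)) ≪≫ e'.symm).hom, ?_⟩
    rw [genLocus_comp_iso, ht]
    exact ⟨hs, ha⟩

theorem isAmple_tensor {M : X.Modules} (hL : CohB1.IsAmple L) (hM : PicF.IsInvertible M)
    (h : ∀ x : X, ∃ (n : ℕ) (s' : Coh.structureModule X ⟶ CohB1.tensorPow M (n + 1)), x ∈ CohB1.genLocus _ s') :
    CohB1.IsAmple (CohB1.tensorMod L M) := by
  refine ⟨isInvertible_tensorMod hL.1 hM, hL.2.1, fun x => ?_⟩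
  obtain ⟨a, s, hs, ha⟩ := hL.2.2 x
  obtain ⟨b, t, ht⟩ := h x
  obtain ⟨s', hs'⟩ := exists_pow_section (isInvertible_tensorPow hL.1 (a + 1)) s b
  obtain ⟨t', ht'⟩ := exists_pow_section (isInvertible_tensorPow hM (b + 1)) t a
  obtain ⟨e⟩ := tensorPow_mul L (a + 1) (b + 1)
  obtain ⟨e'⟩ := tensorPow_mul M (b + 1) (a + 1)
  obtain ⟨N, hN⟩ : ∃ N, (a + 1) * (b + 1) = N + 1 := ⟨_, (Nat.sub_one_add_one (by positivity)).symm⟩
  obtain ⟨d⟩ := tensorPow_tensor L M (N + 1)
  let i := LTensor.mapIso (e ≪≫ eqToIso (congrArg (CohB1.tensorPow L) hN))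
    (e' ≪≫ eqToIso (congrArg (CohB1.tensorPow M) ((mul_comm _ _).trans hN))) ≪≫ d.symm
  refine ⟨N, SecTwist.tmulHom s' t' ≫ i.hom, ?_⟩
  rw [genLocus_comp_iso, genLocus_tmulHom (isInvertible_tensorPow (isInvertible_tensorPow hL.1 _) _)
    (isInvertible_tensorPow (isInvertible_tensorPow hM _) _), hs', ht']
  refine ⟨⟨hs, ht⟩, ?_⟩
  rw [inf_comm]
  exact isAffineOpen_genLocus_inf (isInvertible_tensorPow hM (b + 1)) t ha

theorem restrictPow (j : Y ⟶ X) [IsOpenImmersion j] (L : X.Modules) :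
    ∀ n : ℕ, Nonempty ((CohB1.tensorPow L n).restrict j ≅ CohB1.tensorPow (L.restrict j) n)
  | 0 => ⟨Scheme.Modules.restrictUnitIso j⟩
  | n + 1 =>
    let ⟨e⟩ := restrictPow j L n
    ⟨(LTensor.restrictIso j (CohB1.tensorPow L n) L).symm ≪≫ LTensor.mapIso e (Iso.refl _)⟩

theorem isAmple_restrict (j : Y ⟶ X) [IsOpenImmersion j] (hL : CohB1.IsAmple L) [CompactSpace Y] :
    CohB1.IsAmple (L.restrict j) := by
  refine ⟨isInvertible_restrict j hL.1, inferInstance, fun y => ?_⟩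
  obtain ⟨n, s, hs, hle, ha⟩ := basis_of_ample hL (U := j.opensRange) (x := j y) ⟨y, rfl⟩
  obtain ⟨e⟩ := restrictPow j L (n + 1)
  refine ⟨n, resHom j s ≫ e.hom, ?_⟩
  rw [genLocus_comp_iso, genLocus_resHom]
  refine ⟨hs, ?_⟩
  rw [← Scheme.Hom.isAffineOpen_iff_of_isOpenImmersion j, Scheme.Hom.image_preimage_eq_opensRange_inf,
    inf_eq_right.2 hle]
  exact ha

end Groth.Agent.LAmple
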