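import Groth.Prelude.Def_ClSub2
import Mathlib.AlgebraicGeometry.Morphisms.Immersion
import Mathlib.AlgebraicGeometry.IdealSheaf.Functorial
import Mathlib.AlgebraicGeometry.PullbackCarrier

set_option autoImplicit false
universe u

open CategoryTheory Limits AlgebraicGeometry TopologicalSpace

namespace Groth.Agent.LClSub

variable {T X Y S : Scheme.{u}}

/-- universal closedness descends along finite jointly surjective families -/
theorem universallyClosed_of_family {ι : Type*} [Finite ι] {R : ι → Scheme.{u}} (g : ∀ i, R i ⟶ T)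
    (h : T ⟶ S) (hsurj : ⋃ i, Set.range (g i) = Set.univ)
    (hcl : ∀ i, UniversallyClosed (g i ≫ h)) : UniversallyClosed h := by
  constructor
  intro T' S' i₁ i₂ h' H F hF
  have hi : ∀ i, IsClosed ((pullback.fst i₁ (g i) ≫ h') '' (pullback.fst i₁ (g i) ⁻¹' F)) := fun i =>
    (hcl i).universally_isClosedMap _ _ _
      ((IsPullback.of_hasPullback i₁ (g i)).paste_horiz H) _ (hF.preimage (Scheme.Hom.continuous _))
  have : h' '' F = ⋃ i, (pullback.fst i₁ (g i) ≫ h') '' (pullback.fst i₁ (g i) ⁻¹' F) := by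
    refine subset_antisymm ?_ (Set.iUnion_subset fun i => ?_)
    · rintro _ ⟨x, hx, rfl⟩
      obtain ⟨i, hi⟩ := Set.mem_iUnion.1 (hsurj.ge (Set.mem_univ (i₁ x)))
      obtain ⟨a, rfl⟩ : x ∈ Set.range (pullback.fst i₁ (g i)) := by
        rw [Scheme.Pullback.range_fst]; exact hi
      exact Set.mem_iUnion.2 ⟨i, a, hx, by simp⟩
    · rintro _ ⟨a, ha, rfl⟩
      exact ⟨_, ha, by simp⟩
  rw [this]
  exact isClosed_iUnion_of_finite hi

/-- separatedness descends along finite jointly surjective families of universally closed maps -/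
theorem isSeparated_of_family {ι : Type*} [Finite ι] {R : ι → Scheme.{u}} (g : ∀ i, R i ⟶ T)
    (h : T ⟶ S) (hsurj : ⋃ i, Set.range (g i) = Set.univ) (hg : ∀ i, UniversallyClosed (g i))
    (hsep : ∀ i, IsSeparated (g i ≫ h)) : IsSeparated h := by
  refine ⟨IsClosedImmersion.of_isPreimmersion _ ?_⟩
  let m := fun i => pullback.map (g i ≫ h) (g i ≫ h) h h (g i) (g i) (𝟙 S) (by simp) (by simp)
  have hm : ∀ i, UniversallyClosed (m i) := fun i =>
    MorphismProperty.pullbackMap (P := @UniversallyClosed) (hg i) (hg i) rfl rfl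
  have hd : ∀ i, pullback.diagonal (g i ≫ h) ≫ m i = g i ≫ pullback.diagonal h := fun i => by
    ext <;> simp only [m, pullback.map, Category.assoc, pullback.lift_fst, pullback.lift_snd,
      pullback.diagonal_fst, pullback.diagonal_snd, pullback.diagonal_fst_assoc,
      pullback.diagonal_snd_assoc, Category.comp_id]
  have : Set.range (pullback.diagonal h) = ⋃ i, m i '' Set.range (pullback.diagonal (g i ≫ h)) := by
    refine subset_antisymm ?_ (Set.iUnion_subset fun i => ?_)
    · rintro _ ⟨x, rfl⟩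
      obtain ⟨i, a, rfl⟩ := Set.mem_iUnion.1 (hsurj.ge (Set.mem_univ x))
      refine Set.mem_iUnion.2 ⟨i, _, ⟨a, rfl⟩, ?_⟩
      rw [← Scheme.Hom.comp_apply, hd, Scheme.Hom.comp_apply]
    · rintro _ ⟨_, ⟨a, rfl⟩, rfl⟩
      refine ⟨g i a, ?_⟩
      rw [← Scheme.Hom.comp_apply, ← Scheme.Hom.comp_apply, hd]
  rw [this]
  refine isClosed_iUnion_of_finite fun i => ?_
  haveI := hm i
  haveI := hsep i
  exact (m i).isClosedMap _ (pullback.diagonal (g i ≫ h)).isClosedEmbedding.isClosed_range

theorem isProper_of_family {ι : Type*} [Finite ι] {R : ι → Scheme.{u}} (g : ∀ i, R i ⟶ T)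
    (h : T ⟶ S) [LocallyOfFiniteType h]
    (hsurj : ⋃ i, Set.range (g i) = Set.univ) (hg : ∀ i, UniversallyClosed (g i))
    (hp : ∀ i, IsProper (g i ≫ h)) : IsProper h :=
  haveI := universallyClosed_of_family g h hsurj (fun i => (hp i).toUniversallyClosed)
  haveI := isSeparated_of_family g h hsurj hg (fun i => (hp i).toIsSeparated)
  {}

theorem isProper_of_surjective {R : Scheme.{u}} (g : R ⟶ T) (h : T ⟶ S) [LocallyOfFiniteType h]
    [Surjective g] [UniversallyClosed g] [IsProper (g ≫ h)] : IsProper h :=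
  isProper_of_family (fun _ : PUnit.{1} => g) h
    (by rw [Set.iUnion_const]; exact Set.range_eq_univ.2 g.surjective) (fun _ => ‹_›) (fun _ => ‹_›)

/-- the reduced subscheme on a closed subset -/
noncomputable abbrev red {Z : Set X} (hZ : IsClosed Z) : X.IdealSheafData :=
  Scheme.IdealSheafData.vanishingIdeal ⟨Z, hZ⟩

lemma range_red {Z : Set X} (hZ : IsClosed Z) : Set.range (red hZ).subschemeι = Z := by
  rw [Scheme.IdealSheafData.range_subschemeι, Scheme.IdealSheafData.coe_support_vanishingIdeal]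
  rfl

/-- the reduced subscheme maps onto any closed subscheme with the same underlying set -/
theorem exists_red_lift {Z : Set X} (hZ : IsClosed Z) (i : T ⟶ X) [IsClosedImmersion i]
    (hi : Set.range i = Z) : ∃ j : (red hZ).subscheme ⟶ T,
      j ≫ i = (red hZ).subschemeι ∧ IsClosedImmersion j ∧ Surjective j := by
  have H : i.ker ≤ (red hZ).subschemeι.ker := by
    rw [Scheme.IdealSheafData.ker_subschemeι,
      ← Scheme.IdealSheafData.le_support_iff_le_vanishingIdeal, ← SetLike.coe_subset_coe,
      Scheme.Hom.support_ker, hi]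
    exact subset_closure
  refine ⟨IsClosedImmersion.lift i _ H, IsClosedImmersion.lift_fac _ _ _, ?_, ⟨fun x => ?_⟩⟩
  · haveI : IsClosedImmersion (IsClosedImmersion.lift i (red hZ).subschemeι H ≫ i) := by
      rw [IsClosedImmersion.lift_fac]; infer_instance
    exact IsClosedImmersion.of_comp _ i
  · obtain ⟨r, hr⟩ : i x ∈ Set.range (red hZ).subschemeι := by
      rw [range_red, ← hi]; exact ⟨x, rfl⟩
    refine ⟨r, i.isClosedEmbedding.injective ?_⟩
    rw [← Scheme.Hom.comp_apply, IsClosedImmersion.lift_fac]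
    exact hr

theorem isProperOver_iff {f : X ⟶ S} [LocallyOfFiniteType f] {Z : Set X} (i : T ⟶ X)
    [IsClosedImmersion i] (hi : Set.range i = Z) :
    ClSub.IsProperOver f Z ↔ IsProper (i ≫ f) := by
  have hZ : IsClosed Z := hi ▸ i.isClosedEmbedding.isClosed_range
  obtain ⟨j, hj, hjc, hjs⟩ := exists_red_lift hZ i hi
  constructor
  · rintro ⟨_, h⟩
    haveI : IsProper (j ≫ i ≫ f) := by
      rw [← Category.assoc, hj]; exact h
    exact isProper_of_surjective j _
  · intro h
    refine ⟨hZ, ?_⟩
    show IsProper ((red hZ).subschemeι ≫ f)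
    rw [← hj, Category.assoc]
    infer_instance

theorem isProperOver_iUnion (f : X ⟶ S) [LocallyOfFiniteType f] {ι : Type*} [Finite ι]
    (Z : ι → Set X) (hZ : ∀ i, ClSub.IsProperOver f (Z i)) :
    ClSub.IsProperOver f (⋃ i, Z i) := by
  choose hc hp using hZ
  have hU : IsClosed (⋃ i, Z i) := isClosed_iUnion_of_finite hc
  refine ⟨hU, ?_⟩
  have H : ∀ i, (red hU).subschemeι.ker ≤ (red (hc i)).subschemeι.ker := fun i => by
    rw [Scheme.IdealSheafData.ker_subschemeι, Scheme.IdealSheafData.ker_subschemeι]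
    exact Scheme.IdealSheafData.vanishingIdeal_antimono (Set.subset_iUnion Z i)
  let g := fun i => IsClosedImmersion.lift (red hU).subschemeι (red (hc i)).subschemeι (H i)
  have hg : ∀ i, g i ≫ (red hU).subschemeι = (red (hc i)).subschemeι := fun i =>
    IsClosedImmersion.lift_fac _ _ _
  refine isProper_of_family g _ ?_ (fun i => ?_) (fun i => ?_)
  · refine Set.eq_univ_of_forall fun x => ?_
    obtain ⟨i, hi⟩ := Set.mem_iUnion.1 ((range_red hU).le ⟨x, rfl⟩)
    obtain ⟨r, hr⟩ : (red hU).subschemeι x ∈ Set.range (red (hc i)).subschemeι := by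
      rw [range_red]; exact hi
    refine Set.mem_iUnion.2 ⟨i, r, (red hU).subschemeι.isClosedEmbedding.injective ?_⟩
    rw [← Scheme.Hom.comp_apply, hg]
    exact hr
  · haveI : IsClosedImmersion (g i ≫ (red hU).subschemeι) := by rw [hg]; infer_instance
    haveI := IsClosedImmersion.of_comp (g i) (red hU).subschemeι
    infer_instance
  · rw [← Category.assoc, hg]
    exact hp i

theorem isProperOver_image (p : X ⟶ S) (q : Y ⟶ S) [LocallyOfFiniteType q] (f : X ⟶ Y)
    (w : f ≫ q = p) {Z : Set X} (hZ : ClSub.IsProperOver p Z)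
    (hf : IsSeparated q ∨ UniversallyClosed f) : ClSub.IsProperOver q (f '' Z) := by
  obtain ⟨hc, hp⟩ := hZ
  let g := (red hc).subschemeι ≫ f
  haveI hg : IsProper (g ≫ q) := by
    simp only [g, Category.assoc, w]; exact hp
  haveI : UniversallyClosed g := by
    rcases hf with h | h
    · exact UniversallyClosed.of_comp_of_isSeparated g q
    · infer_instance
  have hr : Set.range g = f '' Z := by
    conv_rhs => rw [← show Set.range (red hc).subschemeι = Z from range_red hc]
    rw [← Set.range_comp]; rfl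
  have hcl : IsClosed (f '' Z) := hr ▸ g.isClosedMap.isClosed_range
  have hri : Set.range g.imageι = f '' Z := by
    rw [Scheme.IdealSheafData.range_subschemeι, Scheme.Hom.support_ker, hr, hcl.closure_eq]
  rw [isProperOver_iff g.imageι hri]
  haveI : Surjective g.toImage := ⟨fun x => by
    obtain ⟨a, ha⟩ : g.imageι x ∈ Set.range g := by rw [hr, ← hri]; exact ⟨x, rfl⟩
    refine ⟨a, g.imageι.isClosedEmbedding.injective ?_⟩
    rw [← Scheme.Hom.comp_apply, Scheme.Hom.toImage_imageι]
    exact ha⟩
  haveI : IsProper (g.toImage ≫ g.imageι ≫ q) := by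
    rw [Scheme.Hom.toImage_imageι_assoc]; exact hg
  exact isProper_of_surjective g.toImage _

theorem isProperOver_preimage (p : X ⟶ S) (q : Y ⟶ S) [LocallyOfFiniteType p]
    (f : X ⟶ Y) [IsProper f] (w : f ≫ q = p) {Z : Set Y} (hZ : ClSub.IsProperOver q Z) :
    ClSub.IsProperOver p (f ⁻¹' Z) := by
  obtain ⟨hc, hp⟩ := hZ
  let i := pullback.fst f (red hc).subschemeι
  rw [isProperOver_iff i (by rw [Scheme.Pullback.range_fst, range_red])]
  have : i ≫ p = pullback.snd f (red hc).subschemeι ≫ (red hc).subschemeι ≫ q := by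
    rw [← w, pullback.condition_assoc]
  rw [this]
  haveI : IsProper ((red hc).subschemeι ≫ q) := hp
  infer_instance

theorem isProperOver_baseChange {X' S' : Scheme.{u}} (f : X ⟶ S) [LocallyOfFiniteType f]
    (g : S' ⟶ S) (g' : X' ⟶ X) (f' : X' ⟶ S') (sq : IsPullback g' f' f g)
    {Z : Set X} (hZ : ClSub.IsProperOver f Z) : ClSub.IsProperOver f' (g' ⁻¹' Z) := by
  obtain ⟨hc, hp⟩ := hZ
  haveI : LocallyOfFiniteType f' := MorphismProperty.of_isPullback sq ‹_›
  let i := pullback.fst g' (red hc).subschemeι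
  rw [isProperOver_iff i (by rw [Scheme.Pullback.range_fst, range_red])]
  exact MorphismProperty.of_isPullback
    ((IsPullback.of_hasPullback g' (red hc).subschemeι).flip.paste_vert sq) hp

theorem isProperOver_mono {f : X ⟶ S} [LocallyOfFiniteType f] {Z Z' : Set X} (hZ' : IsClosed Z')
    (h : Z' ⊆ Z) (hZ : ClSub.IsProperOver f Z) : ClSub.IsProperOver f Z' := by
  obtain ⟨hc, hp⟩ := hZ
  refine ⟨hZ', ?_⟩
  have H : (red hc).subschemeι.ker ≤ (red hZ').subschemeι.ker := by
    rw [Scheme.IdealSheafData.ker_subschemeι, Scheme.IdealSheafData.ker_subschemeι]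
    exact Scheme.IdealSheafData.vanishingIdeal_antimono h
  let g := IsClosedImmersion.lift (red hc).subschemeι (red hZ').subschemeι H
  have hg : g ≫ (red hc).subschemeι = (red hZ').subschemeι := IsClosedImmersion.lift_fac _ _ _
  haveI : IsClosedImmersion (g ≫ (red hc).subschemeι) := by rw [hg]; infer_instance
  haveI := IsClosedImmersion.of_comp g (red hc).subschemeι
  haveI : IsProper ((red hc).subschemeι ≫ f) := hp
  show IsProper ((red hZ').subschemeι ≫ f)
  rw [← hg, Category.assoc]
  infer_instance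

end Groth.Agent.LClSub
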