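import Groth.Agent.Lib.LQAff
import Groth.Agent.Lib.LQcqs
import Groth.Agent.Lib.LClSub
import Groth.Prelude.Def_Coh
import Mathlib.AlgebraicGeometry.Morphisms.Affine

set_option autoImplicit false
universe u

open CategoryTheory Limits TopologicalSpace Opposite AlgebraicGeometry Abelian

namespace Groth.Agent.LSerre

open Groth.Agent.LQcoh
open Groth.Agent.LClSub (red range_red)

variable {X Y : Scheme.{u}}

/-- finite free modules -/
noncomputable abbrev Fr (X : Scheme.{u}) (n : ℕ) : X.Modules :=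
  ∏ᶜ fun _ : Fin n => Coh.structureModule X

instance isQuasicoherent_structureModule (X : Scheme.{u}) :
    (Coh.structureModule X).IsQuasicoherent := by
  refine isQuasicoherent_of_forall_locAt _ fun V hV g => ?_
  letI := (X.presheaf.map (homOfLE (basicOpen_le_open g)).op).hom.toAlgebra
  haveI : IsLocalization.Away g Γ(X, X.basicOpen g) := hV.isLocalization_basicOpen g
  constructor
  · intro c
    obtain ⟨⟨a, ⟨_, N, rfl⟩⟩, ha⟩ := IsLocalization.surj (Submonoid.powers g)
      (show Γ(X, X.basicOpen g) from c)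
    refine ⟨N, a, ?_⟩
    change resO (basicOpen_le_open g) a = resO (basicOpen_le_open g) (g ^ N) *
      (show Γ(X, X.basicOpen g) from c)
    rw [mul_comm]
    exact ha.symm
  · intro y hy
    obtain ⟨⟨_, N, rfl⟩, hN⟩ := (IsLocalization.map_eq_zero_iff (Submonoid.powers g)
      Γ(X, X.basicOpen g) (show Γ(X, V) from y)).1 hy
    exact ⟨N, hN⟩

lemma app_add' {M N : X.Modules} (φ ψ : M ⟶ N) (V : X.Opens) (a : Γ(M, V)) :
    (φ + ψ).app V a = φ.app V a + ψ.app V a := rfl

lemma app_sum {M N : X.Modules} {ι : Type*} (s : Finset ι) (φ : ι → (M ⟶ N)) (V : X.Opens)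
    (a : Γ(M, V)) : (∑ i ∈ s, φ i).app V a = ∑ i ∈ s, (φ i).app V a :=
  map_sum (AddMonoidHom.mk' (fun ψ : M ⟶ N => ψ.app V a) (fun φ ψ => app_add' φ ψ V a)) φ s

/-- coordinate inclusions -/
noncomputable def inc (X : Scheme.{u}) {n : ℕ} (i : Fin n) : Coh.structureModule X ⟶ Fr X n :=
  Pi.lift fun j => if j = i then 𝟙 _ else 0

lemma inc_π {n : ℕ} (i j : Fin n) :
    inc X i ≫ Pi.π (fun _ : Fin n => Coh.structureModule X) j = if j = i then 𝟙 _ else 0 :=
  Pi.lift_π _ _

lemma sum_π_inc (n : ℕ) :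
    ∑ i, Pi.π (fun _ : Fin n => Coh.structureModule X) i ≫ inc X i = 𝟙 (Fr X n) := by
  refine Pi.hom_ext _ _ fun j => ?_
  simp [Preadditive.sum_comp, inc_π, comp_ite]

instance isQuasicoherent_Fr (X : Scheme.{u}) (n : ℕ) : (Fr X n).IsQuasicoherent := by
  refine isQuasicoherent_of_forall_locAt _ fun V hV g => ?_
  let p := fun i => Pi.π (fun _ : Fin n => Coh.structureModule X) i
  have hdec : ∀ (W : X.Opens) (a : Γ(Fr X n, W)),
      a = ∑ i, (inc X i).app W ((p i).app W a) := fun W a => by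
    have := congrArg (fun φ => Scheme.Modules.Hom.app φ W a) (sum_π_inc (X := X) n)
    simp only [app_sum] at this
    exact this.symm.trans (Finset.sum_congr rfl fun i _ => rfl)
  have hnat : ∀ {A B : X.Modules} (φ : A ⟶ B) {U W : X.Opens} (h : W ≤ U) (a : Γ(A, U)),
      φ.app W (res A h a) = res B h (φ.app U a) := fun φ _ _ h a =>
    (NatTrans.naturality_apply ((toShf X).map φ).hom (homOfLE h).op a)
  constructor
  · intro c
    choose N y hy using fun i =>
      (exists_pow_of_affine hV (Coh.structureModule X) g).1 ((p i).app _ c)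
    obtain ⟨K, hK⟩ := Finite.exists_le N
    refine ⟨K, ∑ i, (inc X i).app V (g ^ (K - N i) • y i), ?_⟩
    conv_rhs => rw [hdec _ c, Finset.smul_sum]
    refine (map_sum ((Fr X n).presheaf.map (homOfLE (basicOpen_le_open g)).op).hom _ _).trans
      (Finset.sum_congr rfl fun i _ => ?_)
    refine (hnat _ _ _).symm.trans ?_
    rw [res_smul, hy i, smul_smul, Scheme.Modules.Hom.app_smul]
    congr 1
    simp only [resO, ← map_mul, ← pow_add, Nat.sub_add_cancel (hK i)]
  · intro y hy
    choose N hN using fun i =>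
      (exists_pow_of_affine hV (Coh.structureModule X) g).2 ((p i).app V y)
        (by rw [← hnat, hy, map_zero])
    obtain ⟨K, hK⟩ := Finite.exists_le N
    refine ⟨K, ?_⟩
    rw [hdec V y, Finset.smul_sum]
    refine Finset.sum_eq_zero fun i _ => ?_
    obtain ⟨d, hd⟩ := Nat.exists_eq_add_of_le' (hK i)
    rw [← Scheme.Modules.Hom.app_smul, hd, pow_add, mul_smul, hN i, smul_zero, map_zero]

/-- multiplication by a global function -/
noncomputable def mulBy (f : Γ(X, ⊤)) : Coh.structureModule X ⟶ Coh.structureModule X :=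
  ⟨PresheafOfModules.homMk
    { app := fun U => AddCommGrpCat.ofHom
        (AddMonoidHom.mulLeft (resO (le_top (a := U.unop)) f) : Γ(X, U.unop) →+ Γ(X, U.unop))
      naturality := fun U V i => by
        ext (a : Γ(X, U.unop))
        change resO (le_top (a := V.unop)) f * X.presheaf.map i a =
          X.presheaf.map i (resO (le_top (a := U.unop)) f * a)
        rw [map_mul]
        congr 1
        exact (resO_resO (le_top (a := U.unop)) i.unop.le f).symm }
    (fun U r s => by
      change resO (le_top (a := U.unop)) f * ((show Γ(X, U.unop) from r) * (show Γ(X, U.unop) from s)) =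
        (show Γ(X, U.unop) from r) * (resO (le_top (a := U.unop)) f * (show Γ(X, U.unop) from s))
      ring)⟩

/-- the linear combination map -/
noncomputable def comb {n : ℕ} (f : Fin n → Γ(X, ⊤)) : Fr X n ⟶ Coh.structureModule X :=
  ∑ i, Pi.π (fun _ : Fin n => Coh.structureModule X) i ≫ mulBy (f i)

lemma comb_mem_span {n : ℕ} (f : Fin n → Γ(X, ⊤)) (z : Γ(Fr X n, ⊤)) :
    (show Γ(X, ⊤) from (comb f).app ⊤ z) ∈ Ideal.span (Set.range f) := by
  rw [show (comb f).app ⊤ z = _ from app_sum _ _ _ _]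
  refine Submodule.sum_mem (R := Γ(X, ⊤)) (Ideal.span (Set.range f)) fun i _ => ?_
  change resO le_rfl (f i) * (show Γ(X, ⊤) from (Pi.π (fun _ : Fin n => Coh.structureModule X) i).app ⊤ z) ∈ _
  rw [resO_self]
  exact Ideal.mul_mem_right _ _ (Ideal.subset_span ⟨i, rfl⟩)

lemma inc_comb {n : ℕ} (f : Fin n → Γ(X, ⊤)) (i : Fin n) : inc X i ≫ comb f = mulBy (f i) := by
  simp [comb, Preadditive.comp_sum, ← Category.assoc, inc_π, ite_comp]

lemma epi_of_locally_surjective {M N : X.Modules} (φ : M ⟶ N)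
    (h : ∀ (V : X.Opens) (s : Γ(N, V)) (x : X), x ∈ V → ∃ (W : X.Opens) (hW : W ≤ V),
      x ∈ W ∧ ∃ t : Γ(M, W), φ.app W t = res N hW s) : Epi φ := by
  haveI : (toShf X).Faithful := inferInstanceAs (SheafOfModules.toSheaf X.ringCatSheaf).Faithful
  haveI : Epi ((toShf X).map φ) := by
    refine (TopCat.Sheaf.isLocallySurjective_iff_epi (X := X.toTopCat) _).1 ?_
    refine (TopCat.Presheaf.isLocallySurjective_iff (X := X.toTopCat) _).2 fun V s x hx => ?_
    obtain ⟨W, hW, hxW, t, ht⟩ := h V s x hx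
    exact ⟨W, hW, ⟨t, ht⟩, hxW⟩
  exact (toShf X).epi_of_epi_map ‹_›

lemma epi_comb {n : ℕ} (f : Fin n → Γ(X, ⊤)) (hf : ⨆ i, X.basicOpen (f i) = ⊤) : Epi (comb f) := by
  refine epi_of_locally_surjective _ fun V s x hx => ?_
  obtain ⟨i, hi⟩ := Opens.mem_iSup.1 (hf.ge (Set.mem_univ x : x ∈ (⊤ : X.Opens)))
  refine ⟨V ⊓ X.basicOpen (f i), inf_le_left, ⟨hx, hi⟩, ?_⟩
  obtain ⟨b, hb⟩ : IsUnit (resO (le_top : V ⊓ X.basicOpen (f i) ≤ ⊤) (f i)) := by
    rw [← resO_resO (basicOpen_le_open (f i)) inf_le_right]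
    exact (isUnit_resO ⊤ (f i)).map _
  let a : Γ(X, V ⊓ X.basicOpen (f i)) :=
    (↑b⁻¹ : Γ(X, V ⊓ X.basicOpen (f i))) * resO inf_le_left (show Γ(X, V) from s)
  refine ⟨(inc X i).app _ a, ?_⟩
  refine (congrArg (fun φ => Scheme.Modules.Hom.app φ (V ⊓ X.basicOpen (f i)) (show Γ(Coh.structureModule X, V ⊓ X.basicOpen (f i)) from a)) (inc_comb f i)).trans ?_
  change resO le_top (f i) * a = resO inf_le_left (show Γ(X, V) from s)
  rw [show resO le_top (f i) = (b : Γ(X, V ⊓ X.basicOpen (f i))) from hb.symm]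
  exact Units.mul_inv_cancel_left b _

lemma exists_fn_of_liftable
    (h : ∀ (T : ShortComplex X.Modules) (n : ℕ) (j : T.X₁ ⟶ Fr X n), T.ShortExact → Mono j →
      T.X₁.IsQuasicoherent → T.X₂.IsQuasicoherent → T.X₃.IsQuasicoherent →
      Function.Surjective (T.g.app ⊤))
    (x : X) (hx : IsClosed ({x} : Set X)) :
    ∃ f : Γ(X, ⊤), x ∈ X.basicOpen f ∧ IsAffineOpen (X.basicOpen f) := by
  obtain ⟨U, hU, hxU, -⟩ := X.isBasis_affineOpens.exists_subset_of_mem_open (Set.mem_univ x) isOpen_univ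
  obtain ⟨U, hUaff, rfl⟩ := hU
  have hc : IsClosed ((U : Set X)ᶜ ∪ {x}) := U.2.isClosed_compl.union hx
  let ι := (red hc).subschemeι
  let φ : Coh.structureModule X ⟶ (Scheme.Modules.pushforward ι).obj (Coh.structureModule (red hc).subscheme) :=
    ClSub.unitToPush ι
  haveI hepi : Epi φ := by
    refine epi_of_locally_surjective _ fun V s p hp => ?_
    obtain ⟨W, hW, hpW, hWV⟩ := X.isBasis_affineOpens.exists_subset_of_mem_open hp V.2
    obtain ⟨W, hWaff, rfl⟩ := hW
    obtain ⟨t, ht⟩ := (red hc).subschemeι_app_surjective ⟨W, hWaff⟩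
      (res ((Scheme.Modules.pushforward ι).obj (Coh.structureModule (red hc).subscheme))
        (fun q hq => hWV hq : W ≤ V) s)
    exact ⟨W, fun q hq => hWV hq, hpW, t, ht⟩
  haveI : ((Scheme.Modules.pushforward ι).obj (Coh.structureModule (red hc).subscheme)).IsQuasicoherent :=
    isQuasicoherent_push ι _
  let T := ShortComplex.mk (kernel.ι φ) φ (kernel.condition φ)
  have hT : T.ShortExact := { exact := ShortComplex.exact_of_f_is_kernel _ (kernelIsKernel φ) }
  have hsurj := h T 1 (kernel.ι φ ≫ inc X 0)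
    hT (by
      haveI : IsSplitMono (inc X (0 : Fin 1)) :=
        ⟨⟨⟨Pi.π (fun _ : Fin 1 => Coh.structureModule X) 0, by rw [inc_π, if_pos rfl]⟩⟩⟩
      infer_instance)
    (isQuasicoherent_kernel φ) (inferInstanceAs (Coh.structureModule X).IsQuasicoherent)
    (inferInstanceAs ((Scheme.Modules.pushforward ι).obj _).IsQuasicoherent)
  let Z := (red hc).subscheme
  let A : Z.Opens := ι ⁻¹ᵁ U
  let B : Z.Opens := ι ⁻¹ᵁ ⟨({x} : Set X)ᶜ, hx.isOpen_compl⟩
  have hr : Set.range ι = (U : Set X)ᶜ ∪ {x} := range_red hc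
  have hAB : A ⊓ B ≤ ⊥ := fun z hz => by
    rcases hr.le ⟨z, rfl⟩ with h' | h'
    · exact h' hz.1
    · exact hz.2 h'
  have hcov : (⊤ : Z.Opens) ≤ ⨆ b : ULift.{u} Bool, bif b.down then A else B := fun z _ => by
    by_cases h' : ι z = x
    · exact Opens.mem_iSup.2 ⟨⟨true⟩, show ι z ∈ U by rw [h']; exact hxU⟩
    · exact Opens.mem_iSup.2 ⟨⟨false⟩, h'⟩
  let O : ULift.{u} Bool → Z.Opens := fun b => bif b.down then A else B
  let sf : ∀ b, Γ(Z, O b) := fun b => match b with
    | ⟨true⟩ => (1 : Γ(Z, A))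
    | ⟨false⟩ => (0 : Γ(Z, B))
  have hsub : ∀ (W : Z.Opens), W ≤ ⊥ → ∀ a c : Γ(Z, W), a = c := fun W hW a c =>
    TopCat.Sheaf.eq_of_locally_eq' Z.sheaf (fun i : PEmpty.{u + 1} => i.elim) W (fun i => i.elim)
      (hW.trans bot_le) a c fun i => i.elim
  obtain ⟨e, he, -⟩ := TopCat.Sheaf.existsUnique_gluing' Z.sheaf O ⊤
    (fun b => homOfLE le_top) hcov sf (by
      rintro ⟨_ | _⟩ ⟨_ | _⟩
      · rfl
      · exact hsub _ (inf_comm _ _ |>.le.trans hAB) _ _
      · exact hsub _ hAB _ _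
      · rfl)
  obtain ⟨f, hf⟩ := hsurj e
  have hpre : ι ⁻¹ᵁ X.basicOpen (show Γ(X, ⊤) from f) = Z.basicOpen e := by
    rw [Scheme.preimage_basicOpen]
    exact congrArg Z.basicOpen hf
  have hA1 : A ≤ Z.basicOpen e := by
    have h1 := Scheme.basicOpen_res Z e (homOfLE (le_top (a := A))).op
    rw [show Z.presheaf.map (homOfLE (le_top (a := A))).op e = (1 : Γ(Z, A)) from he ⟨true⟩,
      Scheme.basicOpen_of_isUnit _ isUnit_one] at h1
    exact h1.le.trans inf_le_right
  have hB0 : B ⊓ Z.basicOpen e ≤ ⊥ := by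
    rw [← Scheme.basicOpen_res Z e (homOfLE (le_top (a := B))).op,
      show Z.presheaf.map (homOfLE (le_top (a := B))).op e = (0 : Γ(Z, B)) from he ⟨false⟩,
      Scheme.basicOpen_zero]
  obtain ⟨z, hz⟩ := hr.ge (Or.inr rfl : x ∈ _)
  have hxf : x ∈ X.basicOpen (show Γ(X, ⊤) from f) := by
    have : z ∈ A := show ι z ∈ U by rw [hz]; exact hxU
    have h2 := hA1 this
    rw [← hpre] at h2
    exact hz ▸ h2
  have hle : X.basicOpen (show Γ(X, ⊤) from f) ≤ U := fun p hp => by
    by_contra hpU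
    obtain ⟨w, rfl⟩ := hr.ge (Or.inl hpU : p ∈ _)
    exact hB0 (x := w) ⟨fun hw : ι w = x => hpU (show ι w ∈ U by rw [hw]; exact hxU), hpre.le hp⟩
  refine ⟨f, hxf, ?_⟩
  have := hUaff.basicOpen (resO (le_top (a := U)) (show Γ(X, ⊤) from f))
  rwa [resO, Scheme.basicOpen_res, inf_eq_right.2 hle] at this

/-- Serre's criterion, sections form -/
theorem isAffine_of_liftable [CompactSpace X]
    (h : ∀ (T : ShortComplex X.Modules) (n : ℕ) (j : T.X₁ ⟶ Fr X n), T.ShortExact → Mono j →
      T.X₁.IsQuasicoherent → T.X₂.IsQuasicoherent → T.X₃.IsQuasicoherent →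
      Function.Surjective (T.g.app ⊤)) : IsAffine X := by
  let G : Set Γ(X, ⊤) := {f | IsAffineOpen (X.basicOpen f)}
  have hcov : ⋃ f : G, (X.basicOpen f.1 : Set X) = Set.univ := by
    by_contra hne
    obtain ⟨x, hx, hxc⟩ := (isOpen_iUnion fun f : G => (X.basicOpen f.1).2).isClosed_compl.exists_closed_singleton
      (Set.nonempty_compl.2 hne)
    obtain ⟨f, hxf, hf⟩ := exists_fn_of_liftable h x hxc
    exact hx (Set.mem_iUnion.2 ⟨⟨f, hf⟩, hxf⟩)
  obtain ⟨t, ht⟩ := isCompact_univ.elim_finite_subcover (fun f : G => (X.basicOpen f.1 : Set X))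
    (fun f => (X.basicOpen f.1).2) hcov.ge
  let f : Fin t.card → Γ(X, ⊤) := fun i => (t.equivFin.symm i).1.1
  have hf : ⨆ i, X.basicOpen (f i) = ⊤ := by
    refine top_le_iff.1 fun x _ => ?_
    obtain ⟨a, ha, hxa⟩ := Set.mem_iUnion₂.1 (ht (Set.mem_univ x))
    refine Opens.mem_iSup.2 ⟨t.equivFin ⟨a, ha⟩, ?_⟩
    simp only [f, Equiv.symm_apply_apply]
    exact hxa
  refine isAffine_of_isAffineOpen_basicOpen (Set.range f) ?_ ?_
  · haveI := epi_comb f hf
    let T := ShortComplex.mk (kernel.ι (comb f)) (comb f) (kernel.condition _)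
    have hT : T.ShortExact := { exact := ShortComplex.exact_of_f_is_kernel _ (kernelIsKernel _) }
    obtain ⟨z, hz⟩ := h T _ (kernel.ι (comb f)) hT inferInstance (isQuasicoherent_kernel _)
      (inferInstanceAs (Fr X _).IsQuasicoherent)
      (inferInstanceAs (Coh.structureModule X).IsQuasicoherent) (1 : Γ(X, ⊤))
    rw [Ideal.eq_top_iff_one]
    have := comb_mem_span f z
    rwa [show (comb f).app ⊤ z = (1 : Γ(X, ⊤)) from hz] at this
  · rintro _ ⟨i, rfl⟩
    exact (t.equivFin.symm i).1.2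

/-- vanishing of `H¹` of the kernel gives lifting of global sections -/
theorem surjective_of_H_one {T : ShortComplex X.Modules} (hT : T.ShortExact)
    [HasExt.{u} (LCech.Shf X.toTopCat)]
    (h : Subsingleton (Sheaf.H ((toShf X).obj T.X₁) 1)) : Function.Surjective (T.g.app ⊤) := by
  intro s
  have hS := toShf_shortExact hT
  let x := (Sheaf.H.equiv₀ ((toShf X).obj T.X₃) isTerminalTop).symm s
  obtain ⟨y, hy⟩ := Ext.covariant_sequence_exact₃ _ hS x (rfl : (0 : ℕ) + 1 = 1) (h.elim _ _)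
  refine ⟨Sheaf.H.equiv₀ ((toShf X).obj T.X₂) isTerminalTop y, ?_⟩
  refine (Sheaf.H.equiv₀_naturality (hT := isTerminalTop) ((toShf X).map T.g) y).trans ?_
  rw [show Sheaf.H.map ((toShf X).map T.g) 0 y = x from hy]
  exact AddEquiv.apply_symm_apply _ _

set_option maxHeartbeats 1000000 in
/-- `H¹` vanishing for submodules of finite free modules -/
theorem subsingleton_H_one_of_ideals [HasExt.{u} (LCech.Shf X.toTopCat)]
    (h : ∀ (I : X.Modules) (i : I ⟶ Coh.structureModule X), Mono i → I.IsQuasicoherent →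
      Subsingleton (Sheaf.H ((toShf X).obj I) 1)) :
    ∀ (n : ℕ) (M : X.Modules) (j : M ⟶ Fr X n), Mono j → M.IsQuasicoherent →
      Subsingleton (Sheaf.H ((toShf X).obj M) 1)
  | 0, M, j, hj, hM => by
    refine h M 0 ⟨fun {W} a b _ => ?_⟩ hM
    refine (cancel_mono j).1 ?_
    exact Pi.hom_ext _ _ fun i => i.elim0
  | n + 1, M, j, hj, hM => by
    let p := j ≫ Pi.π (fun _ : Fin (n + 1) => Coh.structureModule X) (Fin.last n)
    haveI := hM
    let K := kernel p
    haveI hK : K.IsQuasicoherent := isQuasicoherent_kernel p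
    let q : K ⟶ Fr X n :=
      Pi.lift fun i => kernel.ι p ≫ j ≫ Pi.π (fun _ : Fin (n + 1) => Coh.structureModule X) i.castSucc
    haveI : Mono q := ⟨fun {W} a b hab => by
      refine (cancel_mono (kernel.ι p)).1 ((cancel_mono j).1 (Pi.hom_ext _ _ fun i => ?_))
      refine Fin.lastCases ?_ (fun i => ?_) i
      · simp only [Category.assoc]
        rw [show kernel.ι p ≫ j ≫ Pi.π _ (Fin.last n) = 0 from kernel.condition p, comp_zero, comp_zero]
      · have := congrArg (· ≫ Pi.π (fun _ : Fin n => Coh.structureModule X) i) hab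
        simpa [q] using this⟩
    let T := ShortComplex.mk (kernel.ι p) (cokernel.π (kernel.ι p)) (cokernel.condition _)
    have hT : T.ShortExact := { exact := ShortComplex.exact_cokernel _ }
    haveI hL : (cokernel (kernel.ι p)).IsQuasicoherent := isQuasicoherent_cokernel _
    have h₁ := subsingleton_H_one_of_ideals h n K q inferInstance hK
    have h₃ : Subsingleton (Sheaf.H ((toShf X).obj T.X₃) 1) :=
      h _ (Abelian.factorThruCoimage p) inferInstance hL
    refine subsingleton_of_forall_eq 0 fun x => ?_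
    let x' : Ext ((constantSheaf (Opens.grothendieckTopology X.toTopCat) AddCommGrpCat.{u}).obj
      (AddCommGrpCat.of (ULift.{u} ℤ))) (T.map (toShf X)).X₂ 1 := x
    obtain ⟨y, hy⟩ := Ext.covariant_sequence_exact₂.{u, u, u + 1} (C := LCech.Shf X.toTopCat) _
      (toShf_shortExact (T := T) hT) x'
      (by exact @Subsingleton.elim _ h₃ _ _)
    change x' = 0
    rw [← hy, show y = 0 from @Subsingleton.elim _ h₁ _ _, Ext.zero_comp]

end Groth.Agent.LSerre
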