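import Groth.Agent.Lib.LTensor
import Groth.Agent.Lib.LCoh
import Groth.Agent.Lib.LSerre
import Groth.Prelude.Def_Pic
import Mathlib

/-! Invertible modules: generators, tensor products, the loci where sections generate. -/

set_option autoImplicit false
universe u
open CategoryTheory Limits AlgebraicGeometry Opposite TopologicalSpace

namespace Groth.Agent.LInv

open Groth.Agent.LQcoh

variable {X Y : Scheme.{u}}

/-- `σ` freely generates `L` on every open inside `U` -/
def GenOn (L : X.Modules) (U : X.Opens) (σ : Γ(L, U)) : Prop :=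
  ∀ (W : X.Opens) (h : W ≤ U), Function.Bijective (fun r : Γ(X, W) => r • res L h σ)

lemma bij_smul_one {W : X.Opens} :
    Function.Bijective (fun r : Γ(X, W) => r * (1 : Γ(X, W))) := by
  rw [show (fun r : Γ(X, W) => r * 1) = id from funext mul_one]; exact Function.bijective_id

lemma image_ι_preimage {U W : X.Opens} (h : W ≤ U) : U.ι ''ᵁ (U.ι ⁻¹ᵁ W) = W := by
  rw [Scheme.Hom.image_preimage_eq_opensRange_inf, Scheme.Opens.opensRange_ι]
  exact inf_eq_right.2 h

lemma image_ι_top (U : X.Opens) : U.ι ''ᵁ ⊤ = U :=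
  U.ι.image_top_eq_opensRange.trans U.opensRange_ι

/-- global section of the structure module over an open immersion -/
noncomputable abbrev unitSec {U : X.Opens} {L : X.Modules} (e : L.restrict U.ι ≅ Coh.structureModule ↑U) :
    Γ(L, U.ι ''ᵁ ⊤) :=
  e.inv.app ⊤ (1 : Γ(↑U, ⊤))

/-- the generator given by a trivialisation -/
noncomputable def sec {U : X.Opens} {L : X.Modules} (e : L.restrict U.ι ≅ Coh.structureModule ↑U) :
    Γ(L, U) :=
  res L (image_ι_top U).ge (unitSec e)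

lemma inv_app_eq {U : X.Opens} {L : X.Modules} (e : L.restrict U.ι ≅ Coh.structureModule ↑U)
    (W : U.toScheme.Opens) (r : Γ(↑U, W)) :
    (e.inv.app W r : Γ(L, U.ι ''ᵁ W)) =
      (show Γ(X, U.ι ''ᵁ W) from (U.ι.appIso W).inv r) • res L (U.ι.image_mono le_top) (unitSec e) := by
  have h1 : r • (e.inv.app W (1 : Γ(↑U, W))) = e.inv.app W r := by
    rw [← Scheme.Modules.Hom.app_smul]
    exact congrArg (e.inv.app W) (mul_one r)
  have h2 : e.inv.app W (1 : Γ(↑U, W)) = res (L.restrict U.ι) le_top (e.inv.app ⊤ (1 : Γ(↑U, ⊤))) := by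
    refine Eq.trans ?_ (NatTrans.naturality_apply ((Scheme.Modules.toPresheaf _).map e.inv) (homOfLE (le_top (a := W))).op (1 : Γ(↑U, ⊤)))
    exact congrArg (e.inv.app W) (map_one (U.toScheme.presheaf.map (homOfLE (le_top (a := W))).op).hom).symm
  rw [← h1, h2]
  rfl

theorem genOn_sec {U : X.Opens} {L : X.Modules} (e : L.restrict U.ι ≅ Coh.structureModule ↑U) :
    GenOn L U (sec e) := by
  intro W h
  obtain ⟨W, rfl⟩ : ∃ W' : U.toScheme.Opens, U.ι ''ᵁ W' = W := ⟨_, image_ι_preimage h⟩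
  have hb : Function.Bijective (fun r : Γ(↑U, W) => (e.inv.app W r : Γ(L, U.ι ''ᵁ W))) :=
    (ConcreteCategory.isIso_iff_bijective _).1 (inferInstance : IsIso (e.inv.app W))
  have hr : res L h (sec e) = res L (U.ι.image_mono le_top) (unitSec e) :=
    res_res L _ _ _
  have : (fun r : Γ(X, U.ι ''ᵁ W) => r • res L h (sec e)) =
      (fun r => (e.inv.app W r : Γ(L, U.ι ''ᵁ W))) ∘ (fun r => (U.ι.appIso W).hom r) := by
    funext r
    rw [Function.comp_apply, inv_app_eq e W, hr]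
    exact congrArg (· • res L (U.ι.image_mono le_top) (unitSec e)) ((U.ι.appIso W).hom_inv_id_apply r).symm
  rw [this]
  exact hb.comp ((ConcreteCategory.isIso_iff_bijective _).1 (inferInstance : IsIso (U.ι.appIso W).hom))

lemma GenOn.mono {L : X.Modules} {U V : X.Opens} {σ : Γ(L, U)} (hσ : GenOn L U σ) (h : V ≤ U) :
    GenOn L V (res L h σ) := fun W hW => by
  rw [res_res]
  exact hσ W (hW.trans h)

/-- the restricted family of a section -/
noncomputable def homOfSec {U : X.Opens} (L : X.Modules) (σ : Γ(L, U)) :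
    Coh.structureModule ↑U ⟶ L.restrict U.ι :=
  (L.restrict U.ι).unitHomEquiv.symm
    (PresheafOfModules.sectionsMk (fun W => res L (U.ι_image_le W.unop) σ)
      (fun _ _ f => res_res L (U.ι_image_le _) (U.ι.image_mono f.unop.le) σ))

lemma homOfSec_one {U : X.Opens} (L : X.Modules) (σ : Γ(L, U)) (W : U.toScheme.Opens) :
    (homOfSec L σ).app W (1 : Γ(↑U, W)) = res L (U.ι_image_le W) σ :=
  congrArg (fun s => s.val (op W)) ((L.restrict U.ι).unitHomEquiv.apply_symm_apply _)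

lemma homOfSec_app {U : X.Opens} (L : X.Modules) (σ : Γ(L, U)) (W : U.toScheme.Opens) (r : Γ(↑U, W)) :
    ((homOfSec L σ).app W r : Γ(L, U.ι ''ᵁ W)) =
      (show Γ(X, U.ι ''ᵁ W) from (U.ι.appIso W).inv r) • res L (U.ι_image_le W) σ := by
  rw [← homOfSec_one L σ W]
  refine ((congrArg ((homOfSec L σ).app W) (mul_one r).symm).trans ?_)
  exact Scheme.Modules.Hom.app_smul (homOfSec L σ) r (1 : Γ(↑U, W))

theorem isIso_homOfSec {U : X.Opens} {L : X.Modules} {σ : Γ(L, U)} (hσ : GenOn L U σ) :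
    IsIso (homOfSec L σ) := by
  rw [Scheme.Modules.Hom.isIso_iff_isIso_app]
  intro W
  rw [ConcreteCategory.isIso_iff_bijective]
  have : ⇑((homOfSec L σ).app W) = (fun r : Γ(X, U.ι ''ᵁ W) => r • res L (U.ι_image_le W) σ) ∘
      (fun r => (U.ι.appIso W).inv r) := funext fun r => homOfSec_app L σ W r
  rw [this]
  exact (hσ _ (U.ι_image_le W)).comp
    ((ConcreteCategory.isIso_iff_bijective _).1 (inferInstance : IsIso (U.ι.appIso W).inv))

/-- the trivialisation given by a generator -/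
noncomputable def iso {U : X.Opens} {L : X.Modules} {σ : Γ(L, U)} (hσ : GenOn L U σ) :
    L.restrict U.ι ≅ Coh.structureModule ↑U :=
  haveI := isIso_homOfSec hσ
  (asIso (homOfSec L σ)).symm

theorem iso_inv {U : X.Opens} {L : X.Modules} {σ : Γ(L, U)} (hσ : GenOn L U σ) :
    (iso hσ).inv = homOfSec L σ := rfl

theorem isInvertible_iff (L : X.Modules) :
    PicF.IsInvertible L ↔ ∀ x : X, ∃ (U : X.Opens) (σ : Γ(L, U)), x ∈ U ∧ GenOn L U σ :=
  ⟨fun h x => let ⟨U, hU, ⟨e⟩⟩ := h x; ⟨U, sec e, hU, genOn_sec e⟩,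
    fun h x => let ⟨U, _, hU, hσ⟩ := h x; ⟨U, hU, ⟨iso hσ⟩⟩⟩

/-- a trivialisation can be chosen on a small affine neighbourhood -/
theorem exists_affine_gen {L : X.Modules} (hL : PicF.IsInvertible L) {x : X} {V : X.Opens} (hx : x ∈ V) :
    ∃ (U : X.Opens) (σ : Γ(L, U)), x ∈ U ∧ U ≤ V ∧ IsAffineOpen U ∧ GenOn L U σ := by
  obtain ⟨U, σ, hU, hσ⟩ := (isInvertible_iff L).1 hL x
  obtain ⟨W, hW, hxW, hWle⟩ := exists_isAffineOpen_mem_and_subset (U := U ⊓ V) ⟨hU, hx⟩
  exact ⟨W, res L (le_trans hWle inf_le_left) σ, hxW, le_trans hWle inf_le_right, hW, hσ.mono _⟩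

theorem genOn_structureModule (X : Scheme.{u}) :
    GenOn (Coh.structureModule X) ⊤ (1 : Γ(X, ⊤)) := fun W h => by
  have : res (Coh.structureModule X) h (1 : Γ(X, ⊤)) = (1 : Γ(X, W)) := map_one (X.presheaf.map (homOfLE h).op).hom
  rw [this]
  exact bij_smul_one

theorem isInvertible_structureModule (X : Scheme.{u}) : PicF.IsInvertible (Coh.structureModule X) :=
  (isInvertible_iff _).2 fun x => ⟨⊤, _, trivial, genOn_structureModule X⟩

theorem genOn_of_iso {L M : X.Modules} (e : L ≅ M) {U : X.Opens} {σ : Γ(L, U)} (hσ : GenOn L U σ) :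
    GenOn M U (e.hom.app U σ) := fun W h => by
  have : (fun r : Γ(X, W) => r • res M h (e.hom.app U σ)) =
      (fun s => e.hom.app W s) ∘ (fun r : Γ(X, W) => r • res L h σ) := by
    funext r
    simp only [Function.comp_apply, Scheme.Modules.Hom.app_smul]
    exact congrArg (r • ·) (NatTrans.naturality_apply ((Scheme.Modules.toPresheaf _).map e.hom) (homOfLE h).op σ).symm
  rw [this]
  exact ((ConcreteCategory.isIso_iff_bijective _).1 (inferInstance : IsIso (e.hom.app W))).comp (hσ W h)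

theorem isInvertible_of_iso {L M : X.Modules} (e : L ≅ M) (hL : PicF.IsInvertible L) : PicF.IsInvertible M :=
  (isInvertible_iff _).2 fun x => let ⟨U, _, hU, hσ⟩ := (isInvertible_iff _).1 hL x; ⟨U, _, hU, genOn_of_iso e hσ⟩

theorem genOn_restrict (j : Y ⟶ X) [IsOpenImmersion j] {L : X.Modules} {U : X.Opens} {σ : Γ(L, U)}
    (hσ : GenOn L U σ) : GenOn (L.restrict j) (j ⁻¹ᵁ U) (res L (j.image_preimage_le U) σ) := fun W h => by
  have := ((hσ.mono (j.image_preimage_le U)) _ (j.image_mono h)).comp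
    ((ConcreteCategory.isIso_iff_bijective _).1 (inferInstance : IsIso (j.appIso W).inv))
  exact this

theorem isInvertible_restrict (j : Y ⟶ X) [IsOpenImmersion j] {L : X.Modules} (hL : PicF.IsInvertible L) :
    PicF.IsInvertible (L.restrict j) :=
  (isInvertible_iff _).2 fun y =>
    let ⟨U, _, hU, hσ⟩ := (isInvertible_iff _).1 hL (j y)
    ⟨j ⁻¹ᵁ U, _, hU, genOn_restrict j hσ⟩

theorem genOn_tensor {L M : X.Modules} {U : X.Opens} {σ : Γ(L, U)} {τ : Γ(M, U)}
    (hσ : GenOn L U σ) (hτ : GenOn M U τ) :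
    GenOn (CohB1.tensorMod L M) U (SecTwist.tmul L M U σ τ) := by
  let Ψ : (CohB1.tensorMod L M).restrict U.ι ≅ Coh.structureModule ↑U :=
    (LTensor.restrictIso U.ι L M).symm ≪≫ LTensor.mapIso (iso hσ) (iso hτ) ≪≫ SecTwist.unitorR _
  have key : sec Ψ = SecTwist.tmul L M U σ τ := by
    have h0 : (SecTwist.unitorR (Coh.structureModule ↑U)).inv.app ⊤ (1 : Γ(↑U, ⊤)) =
        SecTwist.tmul (Coh.structureModule ↑U) (Coh.structureModule ↑U) ⊤ (1 : Γ(↑U, ⊤)) (1 : Γ(↑U, ⊤)) := by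
      apply ((ConcreteCategory.isIso_iff_bijective _).1
        (inferInstance : IsIso ((SecTwist.unitorR (Coh.structureModule ↑U)).hom.app ⊤))).1
      refine Eq.trans ?_ (SecTwist.unitorR_tmul (Coh.structureModule ↑U) ⊤ (1 : Γ(↑U, ⊤)) (1 : Γ(↑U, ⊤))).symm
      refine (congrArg (fun (φ : Coh.structureModule ↑U ⟶ Coh.structureModule ↑U) => (φ.app ⊤ (1 : Γ(↑U, ⊤)) : Γ(Coh.structureModule ↑U, ⊤))) (SecTwist.unitorR (Coh.structureModule ↑U)).inv_hom_id).trans ?_
      exact (mul_one (1 : Γ(↑U, ⊤))).symm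
    have h1 : (unitSec Ψ : Γ(CohB1.tensorMod L M, U.ι ''ᵁ ⊤)) =
        SecTwist.tmul L M (U.ι ''ᵁ ⊤) (res L (U.ι_image_le ⊤) σ) (res M (U.ι_image_le ⊤) τ) := by
      show (LTensor.restrictHom U.ι L M).app ⊤ ((LTensor.tmap (iso hσ).inv (iso hτ).inv).app ⊤
        ((SecTwist.unitorR (Coh.structureModule ↑U)).inv.app ⊤ (1 : Γ(↑U, ⊤)))) = _
      rw [h0]
      refine (congrArg _ (LTensor.tmap_tmul (iso hσ).inv (iso hτ).inv ⊤ _ _)).trans ?_
      refine (LTensor.restrictHom_tmul U.ι L M ⊤ _ _).trans ?_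
      exact congrArg₂ (SecTwist.tmul L M (U.ι ''ᵁ ⊤)) (homOfSec_one L σ ⊤) (homOfSec_one M τ ⊤)
    refine (congrArg (res (CohB1.tensorMod L M) (image_ι_top U).ge) h1).trans ?_
    refine (SecTwist.map_tmul L M (homOfLE (image_ι_top U).ge) _ _).trans ?_
    exact congrArg₂ (SecTwist.tmul L M U) ((res_res L _ _ σ).trans (LCech.rs_self L.presheaf le_rfl σ))
      ((res_res M _ _ τ).trans (LCech.rs_self M.presheaf le_rfl τ))
  exact key ▸ genOn_sec Ψ

theorem exists_common_gen {L M : X.Modules} (hL : PicF.IsInvertible L) (hM : PicF.IsInvertible M) {x : X}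
    {V : X.Opens} (hx : x ∈ V) :
    ∃ (U : X.Opens) (σ : Γ(L, U)) (τ : Γ(M, U)), x ∈ U ∧ U ≤ V ∧ IsAffineOpen U ∧ GenOn L U σ ∧ GenOn M U τ := by
  obtain ⟨U, σ, hU, hσ⟩ := (isInvertible_iff L).1 hL x
  obtain ⟨W, τ, hxW, hWle, hW, hτ⟩ := exists_affine_gen hM (V := U ⊓ V) ⟨hU, hx⟩
  exact ⟨W, res L (le_trans hWle inf_le_left) σ, τ, hxW, le_trans hWle inf_le_right, hW, hσ.mono _, hτ⟩

theorem isInvertible_tensorMod {L M : X.Modules} (hL : PicF.IsInvertible L) (hM : PicF.IsInvertible M) :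
    PicF.IsInvertible (CohB1.tensorMod L M) :=
  (isInvertible_iff _).2 fun _ =>
    let ⟨U, _, _, hx, _, _, hσ, hτ⟩ := exists_common_gen hL hM (V := ⊤) trivial
    ⟨U, _, hx, genOn_tensor hσ hτ⟩

theorem isInvertible_tensorPow {L : X.Modules} (hL : PicF.IsInvertible L) :
    ∀ n : ℕ, PicF.IsInvertible (CohB1.tensorPow L n)
  | 0 => isInvertible_structureModule X
  | n + 1 => isInvertible_tensorMod (isInvertible_tensorPow hL n) hL

theorem locAt_of_genOn {L : X.Modules} {U : X.Opens} {σ : Γ(L, U)} (hσ : GenOn L U σ)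
    {V : X.Opens} (hV : IsAffineOpen V) (hVU : V ≤ U) : LocAt L V := by
  intro g
  have hg := (basicOpen_le_open g).trans hVU
  constructor
  · intro c
    obtain ⟨r, rfl⟩ := (hσ _ hg).2 c
    obtain ⟨N, y, hy⟩ := (exists_pow_of_affine hV (Coh.structureModule X) g).1 r
    refine ⟨N, (show Γ(X, V) from y) • res L hVU σ, ?_⟩
    rw [res_smul, res_res, smul_smul]
    exact congrArg (fun a : Γ(X, X.basicOpen g) => a • res L hg σ) hy
  · intro y hy
    obtain ⟨r, rfl⟩ := (hσ _ hVU).2 y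
    rw [res_smul, res_res] at hy
    have hr : resO (basicOpen_le_open g) r = 0 := (hσ _ hg).1 (hy.trans (zero_smul _ _).symm)
    obtain ⟨N, hN⟩ := (exists_pow_of_affine hV (Coh.structureModule X) g).2 (show Γ(Coh.structureModule X, V) from r) hr
    refine ⟨N, ?_⟩
    rw [smul_smul]
    exact (congrArg (fun a : Γ(X, V) => a • res L hVU σ) hN).trans (zero_smul _ _)

theorem isQuasicoherent_of_isInvertible {L : X.Modules} (hL : PicF.IsInvertible L) : L.IsQuasicoherent := by
  choose U σ hx _ hU hσ using fun x : X => exists_affine_gen hL (V := ⊤) (x := x) trivial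
  exact isQuasicoherent_of_locAt L U hU (eq_top_iff.2 fun x _ => Opens.mem_iSup.2 ⟨x, hx x⟩)
    (fun x => locAt_of_genOn (hσ x) (hU x) le_rfl)

theorem finite_of_genOn {L : X.Modules} {U : X.Opens} {σ : Γ(L, U)} (hσ : GenOn L U σ) :
    Module.Finite Γ(X, U) Γ(L, U) := by
  refine ⟨⟨{σ}, ?_⟩⟩
  rw [Finset.coe_singleton, eq_top_iff]
  intro y _
  obtain ⟨r, rfl⟩ := (hσ U le_rfl).2 y
  exact Submodule.mem_span_singleton.2 ⟨r, congrArg (r • ·) (LCech.rs_self L.presheaf le_rfl σ).symm⟩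

theorem isFT_of_isInvertible {L : X.Modules} (hL : PicF.IsInvertible L) : CohB1.IsFT L := by
  haveI := isQuasicoherent_of_isInvertible hL
  choose U σ hx _ hU hσ using fun x : X => exists_affine_gen hL (V := ⊤) (x := x) trivial
  exact isFiniteType_of_finite L U hU (eq_top_iff.2 fun x _ => Opens.mem_iSup.2 ⟨x, hx x⟩)
    (fun x => finite_of_genOn (hσ x))

theorem isCoh_of_isInvertible [IsLocallyNoetherian X] {L : X.Modules} (hL : PicF.IsInvertible L) : Coh.IsCoh L :=
  ⟨isQuasicoherent_of_isInvertible hL, isFT_of_isInvertible hL⟩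

/-! ### the locus where a section generates -/

lemma app_eq_smul_val {L : X.Modules} (s : Coh.structureModule X ⟶ L) (W : X.Opens) (r : Γ(X, W)) :
    s.app W r = r • (SecTwist.val s W : Γ(L, W)) :=
  (congrArg (s.app W) (mul_one r).symm).trans (Scheme.Modules.Hom.app_smul s r (1 : Γ(X, W)))

/-- `s` is bijective on all opens inside `V` -/
def BijOn {L : X.Modules} (s : Coh.structureModule X ⟶ L) (V : X.Opens) : Prop :=
  ∀ W : X.Opens, W ≤ V → Function.Bijective (s.app W)

theorem isIso_restrict_iff {L M : X.Modules} (φ : L ⟶ M) (V : X.Opens) :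
    IsIso ((Scheme.Modules.restrictFunctor V.ι).map φ) ↔ ∀ W : X.Opens, W ≤ V → Function.Bijective (φ.app W) := by
  rw [Scheme.Modules.Hom.isIso_iff_isIso_app]
  constructor
  · intro h W hW
    obtain ⟨W, rfl⟩ : ∃ W' : V.toScheme.Opens, V.ι ''ᵁ W' = W := ⟨_, image_ι_preimage hW⟩
    exact (ConcreteCategory.isIso_iff_bijective _).1 (h W)
  · intro h W
    exact (ConcreteCategory.isIso_iff_bijective _).2 (h _ (V.ι_image_le W))

theorem mem_genLocus_iff {L : X.Modules} {s : Coh.structureModule X ⟶ L} {x : X} :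
    x ∈ CohB1.genLocus L s ↔ ∃ V : X.Opens, x ∈ V ∧ BijOn s V := by
  rw [CohB1.genLocus, Opens.mem_sSup]
  exact ⟨fun ⟨V, h, hx⟩ => ⟨V, hx, (isIso_restrict_iff s V).1 h⟩,
    fun ⟨V, hx, h⟩ => ⟨V, (isIso_restrict_iff s V).2 h, hx⟩⟩

/-- the coefficient of a section with respect to a generator -/
noncomputable def coeff {L : X.Modules} {U : X.Opens} {σ : Γ(L, U)} (hσ : GenOn L U σ) (y : Γ(L, U)) :
    Γ(X, U) :=
  ((hσ U le_rfl).2 y).choose

lemma coeff_spec {L : X.Modules} {U : X.Opens} {σ : Γ(L, U)} (hσ : GenOn L U σ) (y : Γ(L, U)) :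
    coeff hσ y • σ = y := by
  exact (congrArg (coeff hσ y • ·) (LCech.rs_self L.presheaf le_rfl σ)).symm.trans ((hσ U le_rfl).2 y).choose_spec

lemma coeff_eq {L : X.Modules} {U : X.Opens} {σ : Γ(L, U)} (hσ : GenOn L U σ) {y : Γ(L, U)} {f : Γ(X, U)}
    (h : f • σ = y) : coeff hσ y = f :=
  (hσ U le_rfl).1 (by
    have e : res L le_rfl σ = σ := LCech.rs_self L.presheaf le_rfl σ
    change coeff hσ y • res L le_rfl σ = f • res L le_rfl σ
    rw [e]
    exact (coeff_spec hσ y).trans h.symm)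

theorem genLocus_inf {L : X.Modules} {U : X.Opens} {σ : Γ(L, U)} (hσ : GenOn L U σ)
    (s : Coh.structureModule X ⟶ L) {f : Γ(X, U)} (hf : f • σ = (SecTwist.val s U : Γ(L, U))) :
    CohB1.genLocus L s ⊓ U = X.basicOpen f := by
  have key : ∀ (W : X.Opens) (h : W ≤ U), ⇑(s.app W) =
      (fun r : Γ(X, W) => r • res L h σ) ∘ (fun r => r * resO h f) := by
    intro W h
    funext r
    rw [app_eq_smul_val, ← SecTwist.map_val s (homOfLE h), Function.comp_apply, mul_smul, ← res_smul, hf]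
    rfl
  have iff1 : ∀ (W : X.Opens) (h : W ≤ U), Function.Bijective (s.app W) ↔ IsUnit (resO h f) := by
    intro W h
    rw [key W h]
    refine (Function.Bijective.of_comp_iff' (hσ W h) _).trans ?_
    constructor
    · intro hb
      obtain ⟨r, hr⟩ := hb.2 1
      exact .of_mul_eq_one_right r hr
    · rintro ⟨v, hv⟩
      rw [← hv]
      exact v.mulRight.bijective
  apply le_antisymm
  · rintro x ⟨hx, hxU⟩
    obtain ⟨V, hxV, hV⟩ := mem_genLocus_iff.1 hx
    have hu := (iff1 (V ⊓ U) inf_le_right).1 (hV _ inf_le_left)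
    have : X.basicOpen (resO (inf_le_right : V ⊓ U ≤ U) f) = V ⊓ U := X.basicOpen_of_isUnit hu
    rw [Scheme.basicOpen_res] at this
    exact (this.ge ⟨hxV, hxU⟩).2
  · refine le_inf (le_sSup ((isIso_restrict_iff s _).2 fun W hW => ?_)) (X.basicOpen_le f)
    refine (iff1 W (hW.trans (X.basicOpen_le f))).2 ?_
    rw [← resO_resO (X.basicOpen_le f) hW f]
    exact (LQcoh.isUnit_resO U f).map (X.presheaf.map (homOfLE hW).op).hom

theorem genLocus_inf' {L : X.Modules} {U : X.Opens} {σ : Γ(L, U)} (hσ : GenOn L U σ)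
    (s : Coh.structureModule X ⟶ L) :
    CohB1.genLocus L s ⊓ U = X.basicOpen (coeff hσ (SecTwist.val s U : Γ(L, U))) :=
  genLocus_inf hσ s (coeff_spec hσ _)

theorem eq_of_inf_eq {A B : X.Opens} (h : ∀ x : X, ∃ U : X.Opens, x ∈ U ∧ A ⊓ U = B ⊓ U) : A = B :=
  le_antisymm (fun x hx => let ⟨_, hU, e⟩ := h x; (e.le ⟨hx, hU⟩).1)
    (fun x hx => let ⟨_, hU, e⟩ := h x; (e.ge ⟨hx, hU⟩).1)

theorem genLocus_tmulHom {L M : X.Modules} (hL : PicF.IsInvertible L) (hM : PicF.IsInvertible M)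
    (a : Coh.structureModule X ⟶ L) (b : Coh.structureModule X ⟶ M) :
    CohB1.genLocus _ (SecTwist.tmulHom a b) = CohB1.genLocus L a ⊓ CohB1.genLocus M b := by
  refine eq_of_inf_eq fun x => ?_
  obtain ⟨U, σ, τ, hx, -, -, hσ, hτ⟩ := exists_common_gen hL hM (x := x) (V := ⊤) trivial
  refine ⟨U, hx, ?_⟩
  have hf := coeff_spec hσ (SecTwist.val a U : Γ(L, U))
  have hg := coeff_spec hτ (SecTwist.val b U : Γ(M, U))
  rw [genLocus_inf (genOn_tensor hσ hτ) (SecTwist.tmulHom a b)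
      (f := coeff hσ (SecTwist.val a U : Γ(L, U)) * coeff hτ (SecTwist.val b U : Γ(M, U))) (by
        rw [SecTwist.val_tmulHom, mul_smul]
        conv_rhs => rw [← hf, ← hg]
        exact ((LTensor.tmul_smul_left L M U _ σ _).trans
          (congrArg (coeff hσ (SecTwist.val a U : Γ(L, U)) • ·) (LTensor.tmul_smul_right L M U _ σ τ))).symm),
    X.basicOpen_mul, ← genLocus_inf hσ a hf, ← genLocus_inf hτ b hg]
  exact (inf_inf_distrib_right _ _ _).symm

theorem genLocus_one (X : Scheme.{u}) : CohB1.genLocus _ (𝟙 (Coh.structureModule X)) = ⊤ :=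
  eq_top_iff.2 fun _ _ => mem_genLocus_iff.2 ⟨⊤, trivial, fun _ _ => Function.bijective_id⟩

theorem genLocus_powHom {L : X.Modules} (hL : PicF.IsInvertible L) (s : Coh.structureModule X ⟶ L) :
    ∀ n : ℕ, CohB1.genLocus _ (SecTwist.powHom s (n + 1)) = CohB1.genLocus L s
  | 0 => (genLocus_tmulHom (isInvertible_structureModule X) hL _ s).trans
      ((congrArg (· ⊓ _) (genLocus_one X)).trans (top_inf_eq _))
  | n + 1 => (genLocus_tmulHom (isInvertible_tensorPow hL (n + 1)) hL _ s).trans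
      ((congrArg (· ⊓ _) (genLocus_powHom hL s n)).trans (inf_idem _))

theorem genLocus_comp_iso {L M : X.Modules} (e : L ≅ M) (s : Coh.structureModule X ⟶ L) :
    CohB1.genLocus M (s ≫ e.hom) = CohB1.genLocus L s := by
  have : ∀ V, BijOn (s ≫ e.hom) V ↔ BijOn s V := fun V =>
    forall_congr' fun W => imp_congr_right fun _ => by
      rw [Scheme.Modules.Hom.comp_app, ConcreteCategory.coe_comp]
      exact Function.Bijective.of_comp_iff'
        ((ConcreteCategory.isIso_iff_bijective _).1 (inferInstance : IsIso (e.hom.app W))) (s.app W)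
  ext x
  exact mem_genLocus_iff.trans ((exists_congr fun V => and_congr_right fun _ => this V).trans mem_genLocus_iff.symm)

/-- the restriction of a section to an open -/
noncomputable def resHom (j : Y ⟶ X) [IsOpenImmersion j] {L : X.Modules} (s : Coh.structureModule X ⟶ L) :
    Coh.structureModule Y ⟶ L.restrict j :=
  (Scheme.Modules.restrictUnitIso j).inv ≫ (Scheme.Modules.restrictFunctor j).map s

theorem genLocus_resHom (j : Y ⟶ X) [IsOpenImmersion j] {L : X.Modules} (s : Coh.structureModule X ⟶ L) :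
    CohB1.genLocus _ (resHom j s) = j ⁻¹ᵁ CohB1.genLocus L s := by
  have hW : ∀ W : Y.Opens, Function.Bijective ((resHom j s).app W) ↔ Function.Bijective (s.app (j ''ᵁ W)) :=
    fun W => Function.Bijective.of_comp_iff (f := ⇑(s.app (j ''ᵁ W)))
      ((ConcreteCategory.isIso_iff_bijective _).1
        (inferInstance : IsIso ((Scheme.Modules.restrictUnitIso j).inv.app W)))
  ext y
  refine mem_genLocus_iff.trans ⟨?_, fun hy => ?_⟩
  · rintro ⟨V, hyV, hV⟩
    refine mem_genLocus_iff.2 ⟨j ''ᵁ V, ⟨y, hyV, rfl⟩, fun W hWle => ?_⟩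
    have e : j ''ᵁ (j ⁻¹ᵁ W) = W := by
      rw [Scheme.Hom.image_preimage_eq_opensRange_inf]
      exact inf_eq_right.2 (hWle.trans (j.image_le_opensRange V))
    have := (hW _).1 (hV (j ⁻¹ᵁ W) ((j.preimage_mono hWle).trans (j.preimage_image_eq V).le))
    rwa [e] at this
  · obtain ⟨V, hyV, hV⟩ := mem_genLocus_iff.1 hy
    exact ⟨j ⁻¹ᵁ V, hyV, fun W hWle => (hW W).2 (hV _ ((j.image_mono hWle).trans (j.image_preimage_le V)))⟩

end Groth.Agent.LInv
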