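import Groth.Agent.Lib.H7StalkDetect
import Groth.Agent.Lib.LInv
import Groth.Agent.Lib.LAmple
import Groth.Prelude.Def_CxOX
import Mathlib

/-! Extension by zero along an open immersion is exact; injective modules restrict to injectives and are flasque. -/

set_option autoImplicit false
universe u
open CategoryTheory Limits AlgebraicGeometry Opposite TopologicalSpace

namespace Groth.Agent.LExtZero

open Groth.Agent.LQcoh Groth.Agent.H7Stalk Groth.Agent.H7StalkDetect

variable {U X : Scheme.{u}} (j : U ⟶ X) [IsOpenImmersion j]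

/-- `j_! ⊣ j^* ⊣ j_*` -/
noncomputable def triple : Adjunction.Triple (CxOX.extZero j) (Scheme.Modules.restrictFunctor j) (Scheme.Modules.pushforward j) :=
  ⟨CxOX.extZeroAdj j, Scheme.Modules.restrictAdjunction j⟩

instance isIso_unit : IsIso (CxOX.extZeroAdj j).unit :=
  (triple j).isIso_unit_iff_isIso_counit.2 (inferInstanceAs (IsIso (Scheme.Modules.restrictAdjunction j).counit))

theorem isZero_stalk_extZero (G : U.Modules) {x : X} (hx : x ∉ Set.range j) :
    IsZero ((DerSch.stalkFunctor X x).obj ((CxOX.extZero j).obj G)) := by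
  rw [IsZero.iff_id_eq_zero]
  apply ((adj x).homEquiv _ _).injective
  apply ((CxOX.extZeroAdj j).homEquiv _ _).injective
  refine hom_ext_elem fun W m => ?_
  have : Subsingleton Γ(((Scheme.Modules.restrictFunctor j).obj ((sk x).obj
      ((DerSch.stalkFunctor X x).obj ((CxOX.extZero j).obj G)))), W) :=
    ⟨fun a b => funext fun h => absurd ((j.image_le_opensRange W) h.down) hx⟩
  exact this.elim _ _

theorem isZero_stalk_of_restrict {K : X.Modules} (hK : IsZero ((Scheme.Modules.restrictFunctor j).obj K))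
    {x : X} (hx : x ∈ Set.range j) : IsZero ((DerSch.stalkFunctor X x).obj K) := by
  obtain ⟨y, rfl⟩ := hx
  haveI : Subsingleton ((DerSch.stalkFunctor X (j y)).obj K) := by
    refine subsingleton_of_forall_eq 0 fun z => ?_
    obtain ⟨V, hV, m, rfl⟩ := K.presheaf.exists_germ_eq (x := j y) z
    have hsub : Subsingleton Γ(K, j ''ᵁ (j ⁻¹ᵁ V)) := by
      refine subsingleton_of_forall_eq 0 fun s => ?_
      exact congrArg (fun φ => Scheme.Modules.Hom.app φ (j ⁻¹ᵁ V) (show Γ((Scheme.Modules.restrictFunctor j).obj K, j ⁻¹ᵁ V) from s))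
        ((IsZero.iff_id_eq_zero _).1 hK)
    have hy : j y ∈ j ''ᵁ (j ⁻¹ᵁ V) := ⟨y, hV, rfl⟩
    rw [← TopCat.Presheaf.germ_res_apply K.presheaf (homOfLE (j.image_preimage_le V)) (j y) hy m,
      hsub.elim (K.presheaf.map (homOfLE (j.image_preimage_le V)).op m) 0, map_zero]
    rfl
  exact ModuleCat.isZero_of_subsingleton _

theorem isZero_of_extZero {K : X.Modules} (hK : IsZero ((Scheme.Modules.restrictFunctor j).obj K)) {G : U.Modules}
    (κ : K ⟶ (CxOX.extZero j).obj G) [Mono κ] : IsZero K := by
  refine isZero_of_stalks fun x => ?_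
  by_cases hx : x ∈ Set.range j
  · exact isZero_stalk_of_restrict j hK hx
  · exact (isZero_stalk_extZero j G hx).of_mono ((DerSch.stalkFunctor X x).map κ)

instance preservesMono_extZero : (CxOX.extZero j).PreservesMonomorphisms := by
  refine ⟨fun {G G'} φ hφ => ?_⟩
  refine Preadditive.mono_of_isZero_kernel _ (isZero_of_extZero j ?_ (kernel.ι ((CxOX.extZero j).map φ)))
  haveI : Mono ((Scheme.Modules.restrictFunctor j).map ((CxOX.extZero j).map φ)) := by
    have h := (CxOX.extZeroAdj j).unit.naturality φ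
    have : (Scheme.Modules.restrictFunctor j).map ((CxOX.extZero j).map φ) =
        inv ((CxOX.extZeroAdj j).unit.app G) ≫ φ ≫ (CxOX.extZeroAdj j).unit.app G' := by
      rw [IsIso.eq_inv_comp]
      exact h.symm
    rw [this]
    infer_instance
  exact (isZero_kernel_of_mono _).of_iso (PreservesKernel.iso (Scheme.Modules.restrictFunctor j) _)

instance preservesHomology_extZero : (CxOX.extZero j).PreservesHomology :=
  Functor.preservesHomology_of_preservesMonos_and_cokernels _

instance preservesFiniteLimits_extZero : PreservesFiniteLimits (CxOX.extZero j) :=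
  Functor.preservesFiniteLimits_of_preservesHomology _

theorem injective_restrict (I : X.Modules) [Injective I] :
    Injective ((Scheme.Modules.restrictFunctor j).obj I) :=
  Injective.injective_of_adjoint (CxOX.extZeroAdj j) I

/-- the inclusion `j_! O_U ⟶ O_X` -/
noncomputable def incl : CxOX.extZeroUnit j ⟶ Coh.structureModule X :=
  ((CxOX.extZeroAdj j).homEquiv _ _).symm (Scheme.Modules.restrictUnitIso j).inv

instance mono_incl : Mono (incl j) := by
  refine Preadditive.mono_of_isZero_kernel _ (isZero_of_extZero j ?_ (kernel.ι (incl j)))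
  have h : (CxOX.extZeroAdj j).unit.app _ ≫ (Scheme.Modules.restrictFunctor j).map (incl j) =
      (Scheme.Modules.restrictUnitIso j).inv :=
    ((CxOX.extZeroAdj j).homEquiv_unit _ _ _).symm.trans (Equiv.apply_symm_apply _ _)
  haveI : IsIso ((Scheme.Modules.restrictFunctor j).map (incl j)) := by
    rw [← IsIso.eq_inv_comp] at h
    rw [h]
    infer_instance
  exact (isZero_kernel_of_mono _).of_iso (PreservesKernel.iso (Scheme.Modules.restrictFunctor j) _)

/-- injective modules are flasque -/
theorem res_surjective_of_injective (I : X.Modules) [Injective I] (V : X.Opens) :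
    Function.Surjective (res I (le_top : V ≤ ⊤)) := by
  intro s
  let φ := LInv.homOfSec (U := V) I s
  let ψ := Injective.factorThru (((CxOX.extZeroAdj V.ι).homEquiv _ _).symm φ) (incl V.ι)
  refine ⟨SecTwist.val ψ ⊤, ?_⟩
  have h1 : (Scheme.Modules.restrictUnitIso V.ι).inv ≫ (Scheme.Modules.restrictFunctor V.ι).map ψ = φ := by
    have h2 := congrArg ((CxOX.extZeroAdj V.ι).homEquiv _ _) (Injective.comp_factorThru
      (((CxOX.extZeroAdj V.ι).homEquiv _ _).symm φ) (incl V.ι))
    rw [Adjunction.homEquiv_naturality_right, Equiv.apply_symm_apply] at h2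
    rw [show ((CxOX.extZeroAdj V.ι).homEquiv _ _) (incl V.ι) = (Scheme.Modules.restrictUnitIso V.ι).inv from
      Equiv.apply_symm_apply _ _] at h2
    exact h2
  have h3 := congrArg (fun χ : Coh.structureModule V.toScheme ⟶ (Scheme.Modules.restrictFunctor V.ι).obj I => Scheme.Modules.Hom.app χ ⊤ (1 : Γ(V.toScheme, ⊤))) h1
  have h4 : φ.app ⊤ (1 : Γ(V.toScheme, ⊤)) = res I (V.ι_image_le ⊤) s := LInv.homOfSec_one I s ⊤
  have h5 : ψ.app (V.ι ''ᵁ ⊤) ((Scheme.Modules.restrictUnitIso V.ι).inv.app ⊤ (1 : Γ(V.toScheme, ⊤))) =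
      res I (V.ι_image_le ⊤) s := h3.trans h4
  have h6 : (Scheme.Modules.restrictUnitIso V.ι).inv.app ⊤ (1 : Γ(V.toScheme, ⊤)) = (1 : Γ(X, V.ι ''ᵁ ⊤)) :=
    map_one (V.ι.appIso ⊤).inv.hom
  rw [h6] at h5
  have h7 := congrArg (res I (LInv.image_ι_top V).ge) h5
  rw [res_res] at h7
  refine Eq.trans ?_ (h7.trans (LCech.rs_self I.presheaf _ s))
  refine (SecTwist.map_val ψ (homOfLE (le_top : V ≤ ⊤))).trans ?_
  exact (SecTwist.map_val ψ (homOfLE (LInv.image_ι_top V).ge)).symm

end Groth.Agent.LExtZero
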