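import Groth.Agent.Lib.H7TorAmp
import Groth.Agent.Lib.H7FlatCover
import Groth.Agent.Lib.LExtZero
import Mathlib

/-! Finite locally free modules: flatness, pullback; pullback and restriction of complexes. -/

universe u v w
open CategoryTheory Limits AlgebraicGeometry Opposite TopologicalSpace

namespace Groth.Agent.H7PerfPull
open Groth.Agent H7KFlatSheaf H7HasLpull H7LpullCalc H7TorAmp H7FlatCover

attribute [local instance] HasDerivedCategory.standard

variable {X Y : Scheme.{u}}

/-- restriction of a section -/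
noncomputable abbrev res (M : X.Modules) (s : Γ(M, ⊤)) (W : X.Opens) : Γ(M, W) :=
  M.presheaf.map (homOfLE (le_top : W ≤ ⊤)).op s

/-- maps out of the structure module are global sections -/
noncomputable def unitEquiv (M : X.Modules) : (Coh.structureModule X ⟶ M) ≃ Γ(M, ⊤) where
  toFun f := f.app ⊤ (1 : Γ(X, ⊤))
  invFun s := M.unitHomEquiv.symm (PresheafOfModules.sectionsMk (fun W => res M s W.unop)
    (fun V W g => (ConcreteCategory.comp_apply _ _ s).symm.trans
      (congrArg (fun h => h s) (M.presheaf.map_comp _ g).symm)))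
  left_inv f := by
    apply M.unitHomEquiv.injective
    rw [Equiv.apply_symm_apply]
    exact Subtype.ext (funext fun W => (M.unitHomEquiv f).property (homOfLE (le_top : W.unop ≤ (⊤ : X.Opens))).op)
  right_inv s := by
    refine (congrArg (fun t => t.val (op (⊤ : X.Opens))) (M.unitHomEquiv.apply_symm_apply _)).trans ?_
    show M.presheaf.map (homOfLE (le_top : (⊤ : X.Opens) ≤ ⊤)).op s = s
    rw [show (homOfLE (le_top : (⊤ : X.Opens) ≤ ⊤)).op = 𝟙 (op ⊤) from rfl, M.presheaf.map_id]
    rfl

lemma unitEquiv_comp {M N : X.Modules} (f : Coh.structureModule X ⟶ M) (g : M ⟶ N) :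
    unitEquiv N (f ≫ g) = g.app ⊤ (unitEquiv M f) := rfl

/-- the structure module is the free module on `⊤` -/
noncomputable def freeTopIso : freeU (⊤ : X.Opens) ≅ Coh.structureModule X where
  hom := (secEquiv ⊤ _).symm (1 : Γ(X, ⊤))
  inv := (unitEquiv _).symm (usec ⊤)
  hom_inv_id := (secEquiv ⊤ (freeU ⊤)).injective (by
    rw [secEquiv_comp, Equiv.apply_symm_apply, secEquiv_eq]
    exact (unitEquiv (freeU (⊤ : X.Opens))).apply_symm_apply (usec ⊤))
  inv_hom_id := (unitEquiv (Coh.structureModule X)).injective (by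
    rw [unitEquiv_comp, Equiv.apply_symm_apply]
    exact ((secEquiv_eq ⊤ _).symm.trans ((secEquiv ⊤ _).apply_symm_apply _)))

lemma flat_structureModule (X : Scheme.{u}) : FlatMod.IsFlat (Coh.structureModule X) :=
  isFlat_of_iso freeTopIso (flat_freeU ⊤)

lemma flat_freeMod (X : Scheme.{u}) (n : ℕ) : FlatMod.IsFlat (FlatMod.freeMod X n) := fun x => by
  have h : ∀ _ : Fin n, Module.Flat (X.presheaf.stalk x) ((DerSch.stalkFunctor X x).obj (Coh.structureModule X)) :=
    fun _ => flat_structureModule X x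
  classical
  exact Module.Flat.of_linearEquiv
    ((PreservesCoproduct.iso (DerSch.stalkFunctor X x) (fun _ : Fin n => Coh.structureModule X)) ≪≫
      ModuleCat.coprodIsoDirectSum.{u, 0} (fun _ : Fin n => (DerSch.stalkFunctor X x).obj (Coh.structureModule X))).toLinearEquiv

section openImm

variable (j : Y ⟶ X) [IsOpenImmersion j]

/-- flatness at a point can be checked on an open -/
lemma flatAt_of_restrict {M : X.Modules} (h : FlatMod.IsFlat (M.restrict j)) (y : Y) :
    Module.Flat (X.presheaf.stalk (j.base y)) ((DerSch.stalkFunctor X (j.base y)).obj M) := by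
  let φ := (j.stalkMap y).hom
  letI := φ.toAlgebra
  let e : (DerSch.stalkFunctor Y y).obj (M.restrict j) ≅
      (ModuleCat.extendScalars φ).obj ((DerSch.stalkFunctor X (j.base y)).obj M) :=
    (DerSch.stalkFunctor Y y).mapIso ((Scheme.Modules.restrictFunctorIsoPullback j).app M) ≪≫
      (H7StalkPull.pullStalkIso j y).app M
  have h1 : Module.Flat (Y.presheaf.stalk y) ((DerSch.stalkFunctor Y y).obj (M.restrict j)) := h y
  have h2 : Module.Flat (Y.presheaf.stalk y)
      (TensorProduct (X.presheaf.stalk (j.base y)) (Y.presheaf.stalk y) ((DerSch.stalkFunctor X (j.base y)).obj M)) :=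
    Module.Flat.of_linearEquiv e.toLinearEquiv.symm
  have hb : Function.Bijective (algebraMap (X.presheaf.stalk (j.base y)) (Y.presheaf.stalk y)) :=
    (ConcreteCategory.isIso_iff_bijective _).1 (inferInstance : IsIso (j.stalkMap y))
  let eA := LinearEquiv.ofBijective (Algebra.linearMap (X.presheaf.stalk (j.base y)) (Y.presheaf.stalk y)) hb
  have : Module.Flat (X.presheaf.stalk (j.base y)) (Y.presheaf.stalk y) := Module.Flat.of_linearEquiv eA.symm
  have h3 := Module.Flat.trans (X.presheaf.stalk (j.base y)) (Y.presheaf.stalk y)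
    (TensorProduct (X.presheaf.stalk (j.base y)) (Y.presheaf.stalk y) ((DerSch.stalkFunctor X (j.base y)).obj M))
  exact Module.Flat.of_linearEquiv ((TensorProduct.lid _ _).symm.trans (TensorProduct.congr eA (LinearEquiv.refl _ _)))

instance preservesFiniteLimits_restrict : PreservesFiniteLimits (Scheme.Modules.restrictFunctor j) :=
  have : PreservesLimitsOfSize.{0, 0} (Scheme.Modules.restrictFunctor j) :=
    (LExtZero.triple j).adj₁.rightAdjoint_preservesLimits
  inferInstance

instance preservesFiniteColimits_restrict : PreservesFiniteColimits (Scheme.Modules.restrictFunctor j) :=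
  have : PreservesColimitsOfSize.{0, 0} (Scheme.Modules.restrictFunctor j) :=
    (Scheme.Modules.restrictAdjunction j).leftAdjoint_preservesColimits
  inferInstance

end openImm

theorem flat_of_finLocFree {M : X.Modules} (h : FlatMod.IsFinLocFree M) : FlatMod.IsFlat M := fun x => by
  obtain ⟨U, n, hx, ⟨e⟩⟩ := h x
  exact flatAt_of_restrict U.ι (isFlat_of_iso e.symm (flat_freeMod _ n)) ⟨x, hx⟩

theorem skf_of_strictlyPerfect {E : CochainComplex X.Modules ℤ} (hE : DCoh.IsStrictlyPerfect E) : SKF E := by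
  obtain ⟨⟨a, b, hab⟩, hf⟩ := hE
  exact skf_of_vanishes hab fun i => flat_of_finLocFree (hf i)

instance final_opensMap (f : X ⟶ Y) : (Opens.map f.base).Final :=
  ⟨fun U => by
    have hT : IsTerminal (StructuredArrow.mk (Y := (⊤ : Y.Opens)) (homOfLE (fun _ _ => trivial) : U ⟶ (Opens.map f.base).obj ⊤)) :=
      IsTerminal.ofUniqueHom (fun A => StructuredArrow.homMk (homOfLE le_top) (Subsingleton.elim _ _))
        (fun A m => StructuredArrow.hom_ext _ _ (Subsingleton.elim _ _))
    exact isConnected_of_isTerminal _ hT⟩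

/-- pullback of the structure module -/
noncomputable def pullStructureIso (f : X ⟶ Y) :
    (Scheme.Modules.pullback f).obj (Coh.structureModule Y) ≅ Coh.structureModule X :=
  have : IsIso (SheafOfModules.pullbackObjUnitToUnit f.toRingCatSheafHom) := inferInstance
  @asIso _ _ _ _ (SheafOfModules.pullbackObjUnitToUnit f.toRingCatSheafHom) this

noncomputable def pullFreeIso (f : X ⟶ Y) (n : ℕ) :
    (Scheme.Modules.pullback f).obj (FlatMod.freeMod Y n) ≅ FlatMod.freeMod X n :=
  PreservesCoproduct.iso (Scheme.Modules.pullback f) _ ≪≫ Sigma.mapIso fun _ => pullStructureIso f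

/-- restriction commutes with pullback -/
noncomputable def pullRestrictIso {U : Y.Opens} (f : X ⟶ Y) (W : X.Opens) (g : (W : Scheme.{u}) ⟶ U)
    (h : g ≫ U.ι = W.ι ≫ f) :
    Scheme.Modules.pullback f ⋙ Scheme.Modules.restrictFunctor W.ι ≅
      Scheme.Modules.restrictFunctor U.ι ⋙ Scheme.Modules.pullback g :=
  Functor.isoWhiskerLeft _ (Scheme.Modules.restrictFunctorIsoPullback W.ι) ≪≫
    Scheme.Modules.pullbackComp W.ι f ≪≫ eqToIso (by rw [h]) ≪≫ (Scheme.Modules.pullbackComp g U.ι).symm ≪≫
      Functor.isoWhiskerRight (Scheme.Modules.restrictFunctorIsoPullback U.ι).symm _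

theorem finLocFree_pullback (f : X ⟶ Y) {M : Y.Modules} (h : FlatMod.IsFinLocFree M) :
    FlatMod.IsFinLocFree ((Scheme.Modules.pullback f).obj M) := fun x => by
  obtain ⟨U, n, hx, ⟨e⟩⟩ := h (f.base x)
  exact ⟨f ⁻¹ᵁ U, n, hx, ⟨(pullRestrictIso f (f ⁻¹ᵁ U) (f ∣_ U) (morphismRestrict_ι f U)).app M ≪≫
    (Scheme.Modules.pullback (f ∣_ U)).mapIso e ≪≫ pullFreeIso (f ∣_ U) n⟩⟩

theorem strictlyPerfect_pullback (f : X ⟶ Y) {E : CochainComplex Y.Modules ℤ} (hE : DCoh.IsStrictlyPerfect E) :
    DCoh.IsStrictlyPerfect ((pullCx f).obj E) := by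
  obtain ⟨⟨a, b, hab⟩, hf⟩ := hE
  exact ⟨⟨a, b, fun i hi => (Scheme.Modules.pullback f).map_isZero (hab i hi)⟩, fun i => finLocFree_pullback f (hf i)⟩

/-- natural isomorphisms of additive functors act on complexes -/
noncomputable def cxIso {A B : Type*} [Category A] [Category B] [Preadditive A] [Preadditive B] {F G : A ⥤ B}
    [F.Additive] [G.Additive] (e : F ≅ G) (K : CochainComplex A ℤ) :
    (F.mapHomologicalComplex (ComplexShape.up ℤ)).obj K ≅ (G.mapHomologicalComplex (ComplexShape.up ℤ)).obj K :=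
  (NatIso.mapHomologicalComplex e (ComplexShape.up ℤ)).app K

/-- restriction of complexes commutes with pullback -/
noncomputable def cxPullRestrictIso {U : Y.Opens} (f : X ⟶ Y) (W : X.Opens) (g : (W : Scheme.{u}) ⟶ U)
    (h : g ≫ U.ι = W.ι ≫ f) (K : CochainComplex Y.Modules ℤ) :
    (DCoh.restrictCx W).obj ((pullCx f).obj K) ≅ (pullCx g).obj ((DCoh.restrictCx U).obj K) :=
  HomologicalComplex.Hom.isoOfComponents (fun n => (pullRestrictIso f W g h).app (K.X n))
    fun i j _ => ((pullRestrictIso f W g h).hom.naturality (K.d i j)).symm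

theorem skf_restrict {K : CochainComplex X.Modules ℤ} (hK : SKF K) (U : X.Opens) :
    SKF ((DCoh.restrictCx U).obj K) :=
  skf_of_iso (cxIso (Scheme.Modules.restrictFunctorIsoPullback U.ι) K).symm (H7StalkPull.skf_pullback U.ι hK)

/-- restriction respects isomorphisms in the derived category -/
noncomputable def restrictQIso (U : X.Opens) {K L : CochainComplex X.Modules ℤ}
    (e : DerivedCategory.Q.obj K ≅ DerivedCategory.Q.obj L) :
    DerivedCategory.Q.obj ((DCoh.restrictCx U).obj K) ≅ DerivedCategory.Q.obj ((DCoh.restrictCx U).obj L) :=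
  ((Scheme.Modules.restrictFunctor U.ι).mapDerivedCategoryFactors.app K).symm ≪≫
    (Scheme.Modules.restrictFunctor U.ι).mapDerivedCategory.mapIso e ≪≫
      (Scheme.Modules.restrictFunctor U.ι).mapDerivedCategoryFactors.app L

/-- pullback of complexes with K-flat stalks respects isomorphisms in the derived category -/
noncomputable def pullQIso (f : X ⟶ Y) {K L : CochainComplex Y.Modules ℤ} (hK : SKF K) (hL : SKF L)
    (e : DerivedCategory.Q.obj K ≅ DerivedCategory.Q.obj L) :
    DerivedCategory.Q.obj ((pullCx f).obj K) ≅ DerivedCategory.Q.obj ((pullCx f).obj L) :=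
  have := H7HasLpull.hasLpull f
  (lpullIso f hK).symm ≪≫ (DCoh.Lpull f).mapIso e ≪≫ lpullIso f hL

theorem isPerfect_lpull (f : X ⟶ Y) [DCoh.HasLpull f] {E : DCoh.D Y} (hE : DCoh.IsPerfect E) :
    DCoh.IsPerfect ((DCoh.Lpull f).obj E) := fun x => by
  obtain ⟨V, hxV, hV⟩ := hE (f.base x)
  obtain ⟨K, hK, -, ⟨eK⟩⟩ := exists_skf E
  obtain ⟨P, hP, ⟨eP⟩⟩ := hV K ⟨eK⟩
  refine ⟨f ⁻¹ᵁ V, hxV, fun F' ⟨eF⟩ => ⟨(pullCx (f ∣_ V)).obj P, strictlyPerfect_pullback _ hP, ⟨?_⟩⟩⟩
  exact restrictQIso _ (eF ≪≫ (DCoh.Lpull f).mapIso eK.symm ≪≫ lpullIso f hK) ≪≫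
    DerivedCategory.Q.mapIso (cxPullRestrictIso f _ (f ∣_ V) (morphismRestrict_ι f V) K) ≪≫
      pullQIso (f ∣_ V) (skf_restrict hK V) (skf_of_strictlyPerfect hP) eP

end Groth.Agent.H7PerfPull
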