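import Groth.Agent.Lib.H7AdamsFil
import Mathlib

/-! Eigenspace decomposition of ℚ ⊗ K under Adams operations. -/

set_option autoImplicit false
universe v
open Finset LambdaRing TensorProduct

namespace Groth.Agent.H7AdamsEigen
open Groth.Agent

section Abstract

variable {V : Type v} [AddCommGroup V] [Module ℚ V] {F : ℕ → Submodule ℚ V} {d : ℕ} {q : ℚ} {Ψ : V →ₗ[ℚ] V}

theorem ne_pow (hq : 1 < q) {i m : ℕ} (h : i ≠ m) : q ^ i - q ^ m ≠ 0 := by
  rw [sub_ne_zero]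
  exact fun e => h ((pow_right_injective₀ (by linarith) (ne_of_gt hq)) e)

variable (hanti : ∀ a b, a ≤ b → F b ≤ F a) (hd : F (d + 1) = ⊥)
  (hq : 1 < q) (hstep : ∀ i, ∀ x ∈ F i, Ψ x - q ^ i • x ∈ F (i + 1))

include hanti hd hq hstep in
theorem eigen_descend (m : ℕ) {v : V} (hv : v ∈ Module.End.eigenspace Ψ (q ^ m)) :
    ∀ i n, v ∈ F i → (∀ k, i ≤ k → k < n → k ≠ m) → v ∈ F n := by
  intro i n hvi hk
  induction n with
  | zero => exact hanti 0 i (Nat.zero_le i) hvi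
  | succ n ih =>
    rcases Nat.lt_or_ge n i with h | h
    · exact hanti (n + 1) i h hvi
    have hn := ih (fun k h1 h2 => hk k h1 (by omega))
    have h1 := hstep n v hn
    rw [Module.End.mem_eigenspace_iff.1 hv, ← sub_smul] at h1
    exact ((F (n + 1)).smul_mem_iff (ne_pow hq (fun e => hk n h (by omega) e.symm))).1 h1

include hanti hd hq hstep in
theorem inf_eq_bot (m : ℕ) : Module.End.eigenspace Ψ (q ^ m) ⊓ F (m + 1) = ⊥ := by
  rw [eq_bot_iff]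
  rintro v ⟨hv, hvm⟩
  rw [← hd]
  exact eigen_descend hanti hd hq hstep m hv (m + 1) (d + 1) hvm (fun k h1 _ => by omega)

include hanti hd hq hstep in
theorem eigen_le (h0 : F 0 = ⊤) (m : ℕ) : Module.End.eigenspace Ψ (q ^ m) ≤ F m := fun v hv =>
  eigen_descend hanti hd hq hstep m hv 0 m (h0 ▸ trivial) (fun k _ h2 => by omega)

include hanti hd hq hstep in
theorem decomp : ∀ k i, d + 1 ≤ i + k → F i ≤ ⨆ m ∈ Finset.Ico i (d + 1), Module.End.eigenspace Ψ (q ^ m) ⊓ F m := by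
  intro k
  induction k with
  | zero => intro i hi; rw [eq_bot_iff.2 ((hanti _ _ (show d + 1 ≤ i by omega)).trans hd.le)]; exact bot_le
  | succ k ih =>
    intro i hi x hx
    rcases Nat.lt_or_ge d i with h | h
    · have : x ∈ F (d + 1) := hanti _ _ h hx
      rw [hd, Submodule.mem_bot] at this
      rw [this]; exact Submodule.zero_mem _
    set W := ⨆ m ∈ Finset.Ico (i + 1) (d + 1), Module.End.eigenspace Ψ (q ^ m) ⊓ F m with hW
    have hw := ih (i + 1) (by omega) (hstep i x hx)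
    have hle : W ≤ F (i + 1) := iSup₂_le fun m hm => inf_le_right.trans (hanti _ _ (Finset.mem_Ico.1 hm).1)
    have hsurj : ∀ w ∈ W, ∃ u ∈ W, Ψ u - q ^ i • u = w := by
      intro w hw
      suffices W ≤ Submodule.map (Ψ - q ^ i • LinearMap.id) W by
        obtain ⟨u, hu, rfl⟩ := Submodule.mem_map.1 (this hw)
        exact ⟨u, hu, rfl⟩
      refine iSup₂_le fun m hm v hv => ⟨(q ^ m - q ^ i)⁻¹ • v, W.smul_mem _ (Submodule.mem_iSup_of_mem m (Submodule.mem_iSup_of_mem hm hv)), ?_⟩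
      have hne := ne_pow hq (show m ≠ i by have := (Finset.mem_Ico.1 hm).1; omega)
      simp only [LinearMap.sub_apply, map_smul, LinearMap.smul_apply, LinearMap.id_apply, Module.End.mem_eigenspace_iff.1 hv.1]
      rw [← sub_smul, smul_smul, inv_mul_cancel₀ hne, one_smul]
    obtain ⟨u, hu, hu'⟩ := hsurj _ hw
    have hxu : x - u ∈ Module.End.eigenspace Ψ (q ^ i) ⊓ F i := by
      refine ⟨Module.End.mem_eigenspace_iff.2 ?_, sub_mem hx (hanti i (i + 1) (Nat.le_succ i) (hle hu))⟩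
      rw [map_sub, smul_sub]
      linear_combination (norm := module) -hu'
    have hmono : W ≤ ⨆ m ∈ Finset.Ico i (d + 1), Module.End.eigenspace Ψ (q ^ m) ⊓ F m :=
      iSup₂_le fun m hm => le_iSup₂_of_le m (Finset.mem_Ico.2 ⟨by have := (Finset.mem_Ico.1 hm).1; omega, (Finset.mem_Ico.1 hm).2⟩) le_rfl
    rw [show x = (x - u) + u by abel]
    exact add_mem (Submodule.mem_iSup_of_mem i (Submodule.mem_iSup_of_mem (Finset.mem_Ico.2 ⟨le_rfl, by omega⟩) hxu)) (hmono hu)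

include hanti hd hq hstep in
theorem sup_eq (h0 : F 0 = ⊤) (m : ℕ) : Module.End.eigenspace Ψ (q ^ m) ⊔ F (m + 1) = F m := by
  refine le_antisymm (sup_le (eigen_le hanti hd hq hstep h0 m) (hanti _ _ (Nat.le_succ m))) ?_
  refine (decomp hanti hd hq hstep (d + 1) m (by omega)).trans (iSup₂_le fun k hk => ?_)
  rcases Nat.eq_or_lt_of_le (Finset.mem_Ico.1 hk).1 with rfl | h
  · exact inf_le_left.trans le_sup_left
  · exact (inf_le_right.trans (hanti _ _ h)).trans le_sup_right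

include hanti hd hq hstep in
theorem eigen_le_other (h0 : F 0 = ⊤) {p : ℚ} {Ψ' : V →ₗ[ℚ] V} (hcomm : ∀ x, Ψ (Ψ' x) = Ψ' (Ψ x))
    (hstep' : ∀ i, ∀ x ∈ F i, Ψ' x - p ^ i • x ∈ F (i + 1)) (m : ℕ) :
    Module.End.eigenspace Ψ (q ^ m) ≤ Module.End.eigenspace Ψ' (p ^ m) := by
  intro v hv
  have h1 := hstep' m v (eigen_le hanti hd hq hstep h0 m hv)
  have h2 : Ψ' v - p ^ m • v ∈ Module.End.eigenspace Ψ (q ^ m) := by
    rw [Module.End.mem_eigenspace_iff, map_sub, map_smul, hcomm, Module.End.mem_eigenspace_iff.1 hv, map_smul, smul_sub,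
      smul_comm (p ^ m)]
  have h3 : Ψ' v - p ^ m • v ∈ (⊥ : Submodule ℚ V) := inf_eq_bot hanti hd hq hstep m ▸ ⟨h2, h1⟩
  rw [Submodule.mem_bot, sub_eq_zero] at h3
  exact Module.End.mem_eigenspace_iff.2 h3

end Abstract

variable {K : Type v} [CommRing K] [LambdaOps K] (P : PosStructure K)

/-- the rational filtration -/
def QF (n : ℕ) : Submodule ℚ (ℚ ⊗[ℤ] K) :=
  Submodule.span ℚ ((fun x : K => (1 : ℚ) ⊗ₜ[ℤ] x) '' (gammaFiltration P n : Set K))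

theorem QF_anti (a b : ℕ) (h : a ≤ b) : QF P b ≤ QF P a :=
  Submodule.span_mono (Set.image_mono fun _ hx => H7AdamsFil.fil_anti P h hx)

theorem QF_zero : QF P 0 = ⊤ := by
  refine eq_top_iff.2 fun z _ => ?_
  induction z using TensorProduct.induction_on with
  | zero => exact Submodule.zero_mem _
  | tmul a x =>
    rw [show a ⊗ₜ[ℤ] x = a • ((1 : ℚ) ⊗ₜ[ℤ] x) by rw [TensorProduct.smul_tmul', smul_eq_mul, mul_one]]
    exact Submodule.smul_mem _ _ (Submodule.subset_span ⟨x, H7AdamsFil.fil_zero P x, rfl⟩)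
  | add a b ha hb => exact add_mem (ha trivial) (hb trivial)

theorem QF_bot {d : ℕ} (hd : gammaFiltration P (d + 1) = ⊥) : QF P (d + 1) = ⊥ := by
  rw [QF, hd, Submodule.span_eq_bot]
  rintro _ ⟨x, hx, rfl⟩
  rw [(show x = 0 from hx)]
  exact TensorProduct.tmul_zero _ _

theorem QF_step (hK : HasSplitting K P) (j : ℕ) (Ψ : ℚ ⊗[ℤ] K →ₗ[ℚ] ℚ ⊗[ℤ] K)
    (hΨ : ∀ x : K, Ψ (1 ⊗ₜ[ℤ] x) = 1 ⊗ₜ[ℤ] adams P j x) (i : ℕ) (z : ℚ ⊗[ℤ] K) (hz : z ∈ QF P i) :
    Ψ z - (j : ℚ) ^ i • z ∈ QF P (i + 1) := by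
  suffices QF P i ≤ (QF P (i + 1)).comap (Ψ - (j : ℚ) ^ i • LinearMap.id) from this hz
  refine Submodule.span_le.2 ?_
  rintro _ ⟨x, hx, rfl⟩
  show Ψ (1 ⊗ₜ[ℤ] x) - (j : ℚ) ^ i • ((1 : ℚ) ⊗ₜ[ℤ] x) ∈ QF P (i + 1)
  refine Submodule.subset_span ⟨_, H7AdamsFil.adams_fil hK j i x hx, ?_⟩
  show (1 : ℚ) ⊗ₜ[ℤ] (adams P j x - (j : K) ^ i * x) = _
  rw [hΨ, TensorProduct.tmul_sub]
  congr 1
  rw [show (j : K) ^ i * x = ((j ^ i : ℕ) : ℤ) • x by rw [zsmul_eq_mul]; push_cast; ring,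
    ← TensorProduct.smul_tmul, TensorProduct.smul_tmul', zsmul_eq_mul, smul_eq_mul]
  push_cast; rfl

theorem comm (hK : HasSplitting K P) {j l : ℕ} {Ψj Ψl : ℚ ⊗[ℤ] K →ₗ[ℚ] ℚ ⊗[ℤ] K}
    (hΨj : ∀ x : K, Ψj (1 ⊗ₜ[ℤ] x) = 1 ⊗ₜ[ℤ] adams P j x)
    (hΨl : ∀ x : K, Ψl (1 ⊗ₜ[ℤ] x) = 1 ⊗ₜ[ℤ] adams P l x) (z : ℚ ⊗[ℤ] K) : Ψj (Ψl z) = Ψl (Ψj z) := by
  induction z using TensorProduct.induction_on with
  | zero => simp
  | tmul a x =>
    rw [show a ⊗ₜ[ℤ] x = a • ((1 : ℚ) ⊗ₜ[ℤ] x) by rw [TensorProduct.smul_tmul', smul_eq_mul, mul_one]]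
    simp only [map_smul, hΨj, hΨl, H7Split.adams_adams P hK, mul_comm j l]
  | add a b ha hb => simp only [map_add, ha, hb]

end Groth.Agent.H7AdamsEigen
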