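import Groth.Prelude.Def_KRR
import Groth.Prelude.Def_LambdaSp
import Groth.Agent.Lib.GammaNewton
import Mathlib

/-! γ-filtration is multiplicative; ψ^k 1. -/

set_option autoImplicit false
universe v
open PowerSeries Finset LambdaRing

namespace Groth.Agent.H7Split5

variable {K : Type v} [CommRing K] [LambdaOps K] (P : PosStructure K)

lemma gamma_one (x : K) : gamma 1 x = x := by simp [gamma, Finset.sum_range_succ, LambdaOps.lam_one]

theorem smul_mem (n : ℕ) (a x : K) (hx : x ∈ gammaFiltration P n) : a * x ∈ gammaFiltration P n := by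
  unfold gammaFiltration at hx ⊢
  split_ifs at hx ⊢ with hn
  · trivial
  induction hx using AddSubgroup.closure_induction with
  | mem y hy =>
    obtain ⟨l, hl, hle, rfl⟩ := hy
    have e : a * (l.map fun p => gamma p.1 p.2).prod = (a - ((P.aug a : ℤ) : K)) * (l.map fun p => gamma p.1 p.2).prod +
        (P.aug a) • (l.map fun p => gamma p.1 p.2).prod := by rw [zsmul_eq_mul]; ring
    rw [e]
    have hmem : (l.map fun p => gamma p.1 p.2).prod ∈ AddSubgroup.closure {y | ∃ (l : List (ℕ × K)),
        (∀ p ∈ l, P.aug p.2 = 0) ∧ n ≤ (l.map Prod.fst).sum ∧ y = (l.map fun p => gamma p.1 p.2).prod} :=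
      AddSubgroup.subset_closure ⟨l, hl, hle, rfl⟩
    refine add_mem (AddSubgroup.subset_closure ?_) (AddSubgroup.zsmul_mem _ hmem _)
    refine ⟨(1, a - ((P.aug a : ℤ) : K)) :: l, ?_, ?_, ?_⟩
    · intro p hp
      rcases List.mem_cons.1 hp with rfl | hp
      · simp
      · exact hl p hp
    · simp only [List.map_cons, List.sum_cons]; omega
    · simp [gamma_one]
  | zero => rw [mul_zero]; exact zero_mem _
  | add x y _ _ hx hy => rw [mul_add]; exact add_mem hx hy
  | neg x _ hx => rw [mul_neg]; exact neg_mem hx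

theorem mul_mem (m n : ℕ) (x y : K) (hx : x ∈ gammaFiltration P m) (hy : y ∈ gammaFiltration P n) :
    x * y ∈ gammaFiltration P (m + n) := by
  rcases Nat.eq_zero_or_pos m with rfl | hm
  · rw [zero_add]; exact smul_mem P n x y hy
  rcases Nat.eq_zero_or_pos n with rfl | hn
  · rw [add_zero, mul_comm]; exact smul_mem P m y x hx
  unfold gammaFiltration at hx hy ⊢
  rw [if_neg (by omega)] at hx hy ⊢
  induction hx using AddSubgroup.closure_induction with
  | mem z hz =>
    induction hy using AddSubgroup.closure_induction with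
    | mem w hw =>
      obtain ⟨l, hl, hle, rfl⟩ := hz
      obtain ⟨l', hl', hle', rfl⟩ := hw
      refine AddSubgroup.subset_closure ⟨l ++ l', fun p hp => (List.mem_append.1 hp).elim (hl p) (hl' p), ?_, by simp⟩
      simp only [List.map_append, List.sum_append]; omega
    | zero => rw [mul_zero]; exact zero_mem _
    | add a b _ _ ha hb => rw [mul_add]; exact add_mem ha hb
    | neg a _ ha => rw [mul_neg]; exact neg_mem ha
  | zero => rw [zero_mul]; exact zero_mem _
  | add a b _ _ ha hb => rw [add_mul]; exact add_mem ha hb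
  | neg a _ ha => rw [neg_mul]; exact neg_mem ha

theorem adamsOp_one (h1 : ∀ n : ℕ, 2 ≤ n → LambdaOps.lam n (1 : K) = 0) (k : ℕ) (hk : 1 ≤ k) :
    adamsOp k (1 : K) = 1 := by
  obtain ⟨k, rfl⟩ : ∃ j, k = j + 1 := ⟨k - 1, by omega⟩
  have hl : lamSeries (1 : K) = 1 + X := by
    ext i
    rw [map_add, PowerSeries.coeff_one, PowerSeries.coeff_X]
    match i with
    | 0 => simp [lamSeries, LambdaOps.lam_zero]
    | 1 => simp [lamSeries, LambdaOps.lam_one]
    | i + 2 => simp [lamSeries, h1 (i + 2) (by omega)]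
  have hmk : (1 + X : K⟦X⟧) * PowerSeries.mk (fun i => (-1 : K) ^ i) = 1 := by
    ext i
    rw [add_mul, one_mul, map_add, PowerSeries.coeff_mk, PowerSeries.coeff_one]
    rcases i with _ | i
    · simp
    · rw [PowerSeries.coeff_succ_X_mul, PowerSeries.coeff_mk, if_neg (by omega), pow_succ']; ring
  have hinv := (1 + X : K⟦X⟧).mul_invOfUnit 1 (by simp)
  rw [adamsOp, logDerivSeries, hl, (IsUnit.of_mul_eq_one _ hinv).mul_left_cancel (hinv.trans hmk.symm)]
  simp [← mul_pow]

end Groth.Agent.H7Split5
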