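import Groth.Agent.Lib.H7Split4
import Groth.Agent.Lib.H7Split5
import Mathlib

/-! ψ^j acts as j^n on the graded ring of the γ-filtration. -/

set_option autoImplicit false
universe v
open Finset LambdaRing MvPolynomial

namespace Groth.Agent.H7AdamsFil
open Groth.Agent H7Split

section Poly

variable (m : ℕ)

noncomputable abbrev Φ : MvPolynomial (Fin m) ℤ →ₐ[ℤ] MvPolynomial (Fin m) ℤ :=
  aeval fun i : Fin m => esymm (Fin m) ℤ (i + 1)

def w (k : Fin m) : ℕ := k + 1

lemma esymm_homog (k : ℕ) : (esymm (Fin m) ℤ k).IsHomogeneous k := by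
  refine IsHomogeneous.sum _ _ _ fun t ht => ?_
  rw [← (Finset.mem_powersetCard.1 ht).2, Finset.card_eq_sum_ones]
  exact IsHomogeneous.prod _ _ _ fun i _ => isHomogeneous_X ℤ i

lemma comp_Φ (n : ℕ) (Q : MvPolynomial (Fin m) ℤ) :
    homogeneousComponent n (Φ m Q) = Φ m (weightedHomogeneousComponent (w m) n Q) := by
  induction Q using MvPolynomial.induction_on' with
  | monomial t a =>
    have hh : (Φ m (monomial t a)).IsHomogeneous (Finsupp.weight (w m) t) := by
      rw [aeval_monomial, Finsupp.prod, Finsupp.weight_apply, Finsupp.sum]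
      have := IsHomogeneous.mul (isHomogeneous_C (Fin m) a) (IsHomogeneous.prod t.support
        (fun i => esymm (Fin m) ℤ (i + 1) ^ t i) (fun i => t i • w m i) fun i _ => by
          rw [smul_eq_mul, mul_comm]; exact (esymm_homog m _).pow _)
      rwa [zero_add] at this
    rw [homogeneousComponent_of_mem hh]
    by_cases hn : n = Finsupp.weight (w m) t
    · rw [if_pos hn, hn, weightedHomogeneousComponent_of_mem (isWeightedHomogeneous_monomial _ _ _ rfl), if_pos rfl]
    · rw [if_neg hn, weightedHomogeneousComponent_of_mem (isWeightedHomogeneous_monomial _ _ _ rfl), if_neg hn, map_zero]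
  | add p q hp hq => simp only [map_add, hp, hq]

theorem exists_poly (r j : ℕ) : ∃ Q : MvPolynomial (Fin m) ℤ,
    Φ m Q = aeval (fun i : Fin m => (1 + X i : MvPolynomial (Fin m) ℤ) ^ j - 1) (esymm (Fin m) ℤ r) -
      (j : MvPolynomial (Fin m) ℤ) ^ r * esymm (Fin m) ℤ r ∧
    ∀ t ∈ Q.support, r + 1 ≤ Finsupp.weight (w m) t := by
  set T : MvPolynomial (Fin m) ℤ := aeval (fun i : Fin m => (1 + X i : MvPolynomial (Fin m) ℤ) ^ j - 1) (esymm (Fin m) ℤ r) -
      (j : MvPolynomial (Fin m) ℤ) ^ r * esymm (Fin m) ℤ r with hT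
  have hsym : T.IsSymmetric := fun e => by
    rw [hT, map_sub, map_mul, map_pow, map_natCast, (esymm_isSymmetric (Fin m) ℤ r) e]
    congr 1
    rw [comp_aeval_apply]
    conv_rhs => rw [← (esymm_isSymmetric (Fin m) ℤ r) e, aeval_rename]
    congr 1
    congr 1
    ext i : 1
    simp [rename_X]
  obtain ⟨Q, hQ⟩ : ∃ Q, esymmAlgHom (Fin m) ℤ m Q = ⟨T, hsym⟩ :=
    esymmAlgHom_surjective ℤ (Fintype.card_fin m).le ⟨T, hsym⟩
  have hQ' : Φ m Q = T := by
    have := congrArg Subtype.val hQ
    rwa [esymmAlgHom_apply] at this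
  refine ⟨Q, hQ', fun t ht => ?_⟩
  have hdeg : T ∈ idealOfVars (Fin m) ℤ ^ (r + 1) := by
    rw [hT, esymm, map_sum, Finset.mul_sum, ← Finset.sum_sub_distrib]
    refine Submodule.sum_mem _ fun s hs => ?_
    have hX : ∀ i : Fin m, (X i : MvPolynomial (Fin m) ℤ) ∈ idealOfVars (Fin m) ℤ := fun i => Ideal.subset_span ⟨i, rfl⟩
    rw [map_prod]
    simp only [aeval_X]
    choose R hR using fun i : Fin m => (show (X i : MvPolynomial (Fin m) ℤ) ∣ (1 + X i) ^ j - 1 by
      have := sub_dvd_pow_sub_pow (1 + X i : MvPolynomial (Fin m) ℤ) 1 j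
      rwa [one_pow, add_sub_cancel_left] at this)
    have hR0 : ∀ i, R i - (j : MvPolynomial (Fin m) ℤ) ∈ idealOfVars (Fin m) ℤ := fun i => by
      have h1 : ∀ k : ℕ, (X i : MvPolynomial (Fin m) ℤ) ^ 2 ∣ (1 + X i) ^ k - 1 - (k : MvPolynomial (Fin m) ℤ) * X i := by
        intro k
        induction k with
        | zero => simp
        | succ k ih =>
          obtain ⟨c, hc⟩ := ih
          refine ⟨c * (1 + X i) + (k : MvPolynomial (Fin m) ℤ), ?_⟩
          rw [pow_succ, Nat.cast_succ]
          linear_combination (1 + X i) * hc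
      obtain ⟨c, hc⟩ := h1 j
      rw [hR i] at hc
      have : R i - (j : MvPolynomial (Fin m) ℤ) = X i * c := by
        have hne : (X i : MvPolynomial (Fin m) ℤ) ≠ 0 := X_ne_zero i
        exact mul_left_cancel₀ hne (by linear_combination hc)
      rw [this]
      exact Ideal.mul_mem_right _ _ (hX i)
    simp only [hR]
    rw [Finset.prod_mul_distrib, mul_comm ((j : MvPolynomial (Fin m) ℤ) ^ r), ← mul_sub, pow_succ]
    refine Ideal.mul_mem_mul ?_ ?_
    · rw [← (Finset.mem_powersetCard.1 hs).2, ← Finset.prod_const]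
      exact Ideal.prod_mem_prod fun i _ => hX i
    · rw [← (Finset.mem_powersetCard.1 hs).2, ← Finset.prod_const, ← Ideal.Quotient.eq_zero_iff_mem, map_sub, map_prod, map_prod,
        Finset.prod_congr rfl (fun i _ => (Ideal.Quotient.eq.2 (hR0 i) : Ideal.Quotient.mk _ (R i) = Ideal.Quotient.mk _ (j : MvPolynomial (Fin m) ℤ))), sub_self]
  by_contra hlt
  push Not at hlt
  set n := Finsupp.weight (w m) t
  have h0 : homogeneousComponent n T = 0 := by
    ext d
    rw [coeff_homogeneousComponent, coeff_zero]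
    split_ifs with hd
    · exact (mem_pow_idealOfVars_iff' (r + 1) T).1 hdeg d (by omega)
    · rfl
  rw [← hQ', comp_Φ] at h0
  have hinj : Function.Injective (esymmAlgHom (Fin m) ℤ m) := esymmAlgHom_injective ℤ (Fintype.card_fin m).ge
  have := hinj (a₁ := weightedHomogeneousComponent (w m) n Q) (a₂ := 0) (Subtype.ext (by rw [esymmAlgHom_apply, map_zero]; exact h0))
  have h2 := congrArg (coeff t) this
  rw [coeff_weightedHomogeneousComponent, if_pos rfl, coeff_zero] at h2
  exact mem_support_iff.1 ht h2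

end Poly

variable {K : Type v} [CommRing K] [LambdaOps K] (P : PosStructure K)

theorem fil_anti {a b : ℕ} (h : a ≤ b) {x : K} (hx : x ∈ gammaFiltration P b) : x ∈ gammaFiltration P a := by
  rcases Nat.eq_zero_or_pos a with rfl | ha
  · unfold gammaFiltration; rw [if_pos rfl]; trivial
  unfold gammaFiltration at hx ⊢
  rw [if_neg (by omega)] at hx ⊢
  refine AddSubgroup.closure_mono ?_ hx
  rintro y ⟨l, h1, h2, h3⟩
  exact ⟨l, h1, h.trans h2, h3⟩

theorem fil_zero (x : K) : x ∈ gammaFiltration P 0 := by unfold gammaFiltration; rw [if_pos rfl]; trivial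

theorem gamma_mem {x : K} (hx : P.aug x = 0) (r : ℕ) : gamma r x ∈ gammaFiltration P r := by
  rcases Nat.eq_zero_or_pos r with rfl | hr
  · exact fil_zero P _
  unfold gammaFiltration
  rw [if_neg (by omega)]
  exact AddSubgroup.subset_closure ⟨[(r, x)], by simpa using hx, by simp, by simp⟩

theorem prod_mem {ι : Type*} (s : Finset ι) (n : ι → ℕ) (f : ι → K) (h : ∀ i ∈ s, f i ∈ gammaFiltration P (n i)) :
    ∏ i ∈ s, f i ∈ gammaFiltration P (∑ i ∈ s, n i) := by
  classical
  induction s using Finset.induction with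
  | empty => simpa using fil_zero P (1 : K)
  | @insert a s ha ih =>
    rw [Finset.prod_insert ha, Finset.sum_insert ha]
    exact H7Split5.mul_mem P _ _ _ _ (h a (Finset.mem_insert_self a s)) (ih fun i hi => h i (Finset.mem_insert_of_mem hi))

theorem gamma_sum_lines {ι : Type*} (u : ι → K) (t : Finset ι) (hu : ∀ i ∈ t, P.IsLine (u i)) :
    GammaN.gammaSeries (∑ i ∈ t, (u i - 1)) =
      ((∏ i ∈ t, (1 + Polynomial.C (u i - 1) * Polynomial.X) : Polynomial K) : PowerSeries K) := by
  classical
  have hadd : ∀ a b : K, GammaN.gammaSeries (a + b) = GammaN.gammaSeries a * GammaN.gammaSeries b := fun a b => by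
    rw [GammaN.gammaSeries, GammaN.gammaSeries, GammaN.gammaSeries, H7LineNilp.lamSeries_add,
      PowerSeries.subst_mul GammaN.hasSubst_sig]
  have h0 : GammaN.gammaSeries (0 : K) = 1 := by
    rw [GammaN.gammaSeries, H7LineNilp.lamSeries_zero, ← PowerSeries.coe_substAlgHom GammaN.hasSubst_sig, map_one]
  induction t using Finset.induction with
  | empty => simp [h0]
  | @insert a t ha ih =>
    rw [Finset.sum_insert ha, Finset.prod_insert ha, hadd, ih (fun i hi => hu i (Finset.mem_insert_of_mem hi)), Polynomial.coe_mul]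
    congr 1
    have h1 : P.IsLine (1 : K) := ⟨by simpa using P.natCast_mem 1 one_pos, map_one _⟩
    have hl := congrArg (PowerSeries.substAlgHom (GammaN.hasSubst_sig (K := K))) (H7LineNilp.lamSeries_add (u a - 1) 1)
    rw [sub_add_cancel, H7LineNilp.lamSeries_line P (hu a (Finset.mem_insert_self a t)), H7LineNilp.lamSeries_line P h1, map_mul] at hl
    simp only [Polynomial.coe_add, Polynomial.coe_mul, Polynomial.coe_one, Polynomial.coe_C, Polynomial.coe_X, map_add, map_mul,
      map_one, one_mul, PowerSeries.substAlgHom_X] at hl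
    rw [show (PowerSeries.C (u a) : PowerSeries K) = algebraMap K (PowerSeries K) (u a) from rfl, AlgHom.commutes,
      PowerSeries.coe_substAlgHom] at hl
    have hsig : GammaN.sig K * (1 - PowerSeries.X) = PowerSeries.X := by
      rw [GammaN.sig, mul_assoc, PowerSeries.mk_one_mul_one_sub_eq_one, mul_one]
    show PowerSeries.subst (GammaN.sig K) (lamSeries (u a - 1)) = _
    rw [Polynomial.coe_add, Polynomial.coe_mul, Polynomial.coe_one, Polynomial.coe_C, Polynomial.coe_X, map_sub, map_one,
      show (PowerSeries.C (u a) : PowerSeries K) = algebraMap K (PowerSeries K) (u a) from rfl]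
    linear_combination (-(1 - PowerSeries.X)) * hl +
      (algebraMap K (PowerSeries K) (u a) - PowerSeries.subst (GammaN.sig K) (lamSeries (u a - 1))) * hsig

theorem gamma_lines {m : ℕ} (u : Fin m → K) (hu : ∀ i, P.IsLine (u i)) (k : ℕ) :
    gamma k (∑ i, (u i - 1)) = aeval (fun i => u i - 1) (esymm (Fin m) ℤ k) := by
  rw [← GammaN.coeff_gammaSeries, gamma_sum_lines P u Finset.univ fun i _ => hu i, Polynomial.coeff_coe, esymm, map_sum,
    Finset.prod_one_add, Polynomial.finsetSum_coeff, Finset.powersetCard_eq_filter, Finset.sum_filter]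
  refine Finset.sum_congr rfl fun t _ => ?_
  rw [Finset.prod_mul_distrib, ← map_prod, Finset.prod_const, Polynomial.coeff_C_mul_X_pow, map_prod]
  simp [eq_comm]

theorem adams_gamma_pos (hK : HasSplitting K P) {e : K} (he : e ∈ P.pos) (j r : ℕ) :
    adams P j (gamma r (e - ((P.aug e).toNat : K))) - (j : K) ^ r * gamma r (e - ((P.aug e).toNat : K)) ∈
      gammaFiltration P (r + 1) := by
  set m := (P.aug e).toNat
  set a := e - (m : K)
  obtain ⟨Q, hQ, hQw⟩ := exists_poly m r j
  have ha : P.aug a = 0 := by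
    have := P.aug_pos e he
    simp only [a, m, map_sub, map_natCast]; omega
  suffices h : adams P j (gamma r a) - (j : K) ^ r * gamma r a = aeval (fun k : Fin m => gamma (k + 1) a) Q by
    rw [h, ← MvPolynomial.support_sum_monomial_coeff Q, map_sum]
    refine sum_mem fun t ht => ?_
    rw [aeval_monomial, algebraMap_int_eq, eq_intCast, ← zsmul_eq_mul]
    refine AddSubgroup.zsmul_mem _ (fil_anti P (hQw t ht) ?_) _
    rw [Finsupp.prod, Finsupp.weight_apply, Finsupp.sum]
    refine prod_mem P _ (fun k => t k • w m k) _ fun k _ => ?_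
    have hp := prod_mem P (Finset.range (t k)) (fun _ => w m k) (fun _ => gamma ((k : ℕ) + 1) a) fun _ _ => gamma_mem P ha _
    simpa using hp
  obtain ⟨C, hC, hsp⟩ := hK
  obtain ⟨L, hL, f, hf, s, hs, hsum⟩ := hsp _ hC e he
  have hlen : m = s.toList.length := by
    have h1 := hf.aug_comp e
    rw [← hsum, map_multiset_sum, Multiset.map_congr rfl (fun u hu => (hs u hu).2), Multiset.map_const',
      Multiset.sum_replicate, nsmul_one] at h1
    show (P.aug e).toNat = _
    rw [← h1, Multiset.length_toList]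
    simp
  let u : Fin m → L.carrier := fun i => s.toList.get (i.cast hlen)
  have hu : ∀ i, L.posStr.IsLine (u i) := fun i => hs _ (Multiset.mem_toList.1 (List.get_mem _ _))
  have hfa : f a = ∑ i, (u i - 1) := by
    rw [map_sub, map_natCast, Finset.sum_sub_distrib]
    simp only [Finset.sum_const, Finset.card_univ, Fintype.card_fin, nsmul_one]
    congr 1
    rw [← hsum, ← Multiset.sum_toList, ← Equiv.sum_comp (finCongr hlen.symm)]
    conv_lhs => rw [← List.ofFn_get s.toList, List.sum_ofFn]
    rfl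
  apply hf.injective
  have hg : ∀ k, f (gamma k a) = aeval (fun i => u i - 1) (esymm (Fin m) ℤ k) := fun k => by
    rw [GammaN.map_gamma f a (f a) (fun n => hf.isLambdaHom n a), hfa, gamma_lines L.posStr u hu]
  obtain ⟨ψ, hψ⟩ := adams_ringHom L.posStr ⟨C, hL, hsp⟩ j
  have h := congrArg (aeval fun i => u i - 1) hQ
  rw [comp_aeval_apply] at h
  simp only [map_sub, map_mul, map_pow, map_natCast] at h
  rw [comp_aeval_apply] at h
  rw [map_sub, map_mul, map_pow, map_natCast, map_adams P hf, hg, ← hψ, show f (aeval (fun k : Fin m => gamma (↑k + 1) a) Q) = f.toIntAlgHom (aeval (fun k : Fin m => gamma (↑k + 1) a) Q) from rfl,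
    comp_aeval_apply]
  simp only [RingHom.toIntAlgHom_apply, hg]
  rw [h]
  congr 1
  show ψ.toIntAlgHom _ = _
  rw [comp_aeval_apply]
  congr 1
  congr 1
  ext i
  simp [hψ, adams_sub, adams_line' _ (hu i), adams_line' _ (⟨by simpa using L.posStr.natCast_mem 1 one_pos, map_one _⟩ : L.posStr.IsLine (1 : L.carrier))]

variable {P}

/-- the congruence predicate -/
def Good (P : PosStructure K) (j : ℕ) (y : K) : Prop :=
  P.aug y = 0 ∧ ∀ r, adams P j (gamma r y) - (j : K) ^ r * gamma r y ∈ gammaFiltration P (r + 1)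

theorem good_sub (hK : HasSplitting K P) {j : ℕ} {a b : K} (ha : Good P j a) (hb : Good P j b) : Good P j (a - b) := by
  obtain ⟨ψ, hψ⟩ := adams_ringHom P hK j
  have hy0 : P.aug (a - b) = 0 := by rw [map_sub, ha.1, hb.1, sub_zero]
  refine ⟨hy0, fun r => ?_⟩
  induction r using Nat.strong_induction_on with
  | _ r ih =>
    have hadd := GammaN.gamma_add r b (a - b)
    rw [add_sub_cancel] at hadd
    rw [Finset.sum_range_succ', GammaN.gamma_zero, one_mul, Nat.sub_zero] at hadd
    have e1 : gamma r (a - b) = gamma r a - ∑ i ∈ Finset.range r, gamma (i + 1) b * gamma (r - (i + 1)) (a - b) := by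
      rw [hadd]; ring
    rw [e1, ← hψ, map_sub, map_sum, mul_sub, Finset.mul_sum,
      show ∀ a b c d : K, a - b - (c - d) = (a - c) - (b - d) from fun a b c d => by ring, ← Finset.sum_sub_distrib]
    refine sub_mem (by rw [hψ]; exact ha.2 r) (sum_mem fun i hi => ?_)
    rw [Finset.mem_range] at hi
    obtain ⟨q, hq⟩ : ∃ q, r = (i + 1) + q := ⟨r - (i + 1), by omega⟩
    have hbi := hb.2 (i + 1)
    have hyq := ih q (by omega)
    rw [show r - (i + 1) = q by omega, map_mul, hψ, hψ, hq]
    rw [show adams P j (gamma (i + 1) b) * adams P j (gamma q (a - b)) - (j : K) ^ (i + 1 + q) * (gamma (i + 1) b * gamma q (a - b)) =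
        (adams P j (gamma (i + 1) b) - (j : K) ^ (i + 1) * gamma (i + 1) b) * ((adams P j (gamma q (a - b)) - (j : K) ^ q * gamma q (a - b)) + (j : K) ^ q * gamma q (a - b)) +
          ((j : K) ^ (i + 1) * gamma (i + 1) b) * (adams P j (gamma q (a - b)) - (j : K) ^ q * gamma q (a - b)) by ring]
    refine add_mem ?_ ?_
    · have := H7Split5.mul_mem P (i + 1 + 1) q _ _ hbi
        (add_mem (fil_anti P (Nat.le_succ q) hyq) (H7Split5.smul_mem P q ((j : K) ^ q) _ (gamma_mem P hy0 q)))
      exact fil_anti P (by omega) this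
    · have := H7Split5.mul_mem P (i + 1) (q + 1) _ _ (H7Split5.smul_mem P (i + 1) ((j : K) ^ (i + 1)) _ (gamma_mem P hb.1 (i + 1))) hyq
      exact fil_anti P (by omega) this

theorem good_of_aug (hK : HasSplitting K P) (j : ℕ) {y : K} (hy : P.aug y = 0) : Good P j y := by
  obtain ⟨e, f, he, hf, rfl⟩ := P.exists_sub y
  rw [map_sub, sub_eq_zero] at hy
  have h : ∀ e ∈ P.pos, Good P j (e - ((P.aug e).toNat : K)) := fun e he => by
    refine ⟨?_, adams_gamma_pos P hK he j⟩
    have := P.aug_pos e he
    simp only [map_sub, map_natCast]; omega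
  rw [show e - f = (e - ((P.aug e).toNat : K)) - (f - ((P.aug f).toNat : K)) by rw [hy]; ring]
  exact good_sub hK (h e he) (h f hf)

theorem adams_fil (hK : HasSplitting K P) (j : ℕ) (n : ℕ) (x : K) (hx : x ∈ gammaFiltration P n) :
    adams P j x - (j : K) ^ n * x ∈ gammaFiltration P (n + 1) := by
  obtain ⟨ψ, hψ⟩ := adams_ringHom P hK j
  have hprod : ∀ l : List (ℕ × K), (∀ p ∈ l, P.aug p.2 = 0) → (l.map fun p => gamma p.1 p.2).prod ∈ gammaFiltration P (l.map Prod.fst).sum ∧
      adams P j (l.map fun p => gamma p.1 p.2).prod - (j : K) ^ (l.map Prod.fst).sum * (l.map fun p => gamma p.1 p.2).prod ∈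
        gammaFiltration P ((l.map Prod.fst).sum + 1) := by
    intro l
    induction l with
    | nil => intro _; simp [← hψ, fil_zero]
    | cons p l ih =>
      intro hl
      obtain ⟨h1, h2⟩ := ih fun q hq => hl q (List.mem_cons_of_mem _ hq)
      have hp := gamma_mem P (hl p (List.mem_cons_self ..)) p.1
      have hp' := (good_of_aug hK j (hl p (List.mem_cons_self ..))).2 p.1
      simp only [List.map_cons, List.prod_cons, List.sum_cons]
      refine ⟨H7Split5.mul_mem P _ _ _ _ hp h1, ?_⟩
      rw [← hψ, map_mul, hψ, hψ]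
      set A := gamma p.1 p.2
      set B := (l.map fun p => gamma p.1 p.2).prod
      set s := (l.map Prod.fst).sum
      rw [show adams P j A * adams P j B - (j : K) ^ (p.1 + s) * (A * B) =
          (adams P j A - (j : K) ^ p.1 * A) * ((adams P j B - (j : K) ^ s * B) + (j : K) ^ s * B) +
            ((j : K) ^ p.1 * A) * (adams P j B - (j : K) ^ s * B) by ring]
      refine add_mem ?_ ?_
      · exact fil_anti P (by omega) (H7Split5.mul_mem P (p.1 + 1) s _ _ hp' (add_mem (fil_anti P (Nat.le_succ s) h2) (H7Split5.smul_mem P s ((j : K) ^ s) _ h1)))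
      · exact fil_anti P (by omega) (H7Split5.mul_mem P p.1 (s + 1) _ _ (H7Split5.smul_mem P p.1 ((j : K) ^ p.1) _ hp) h2)
  rcases Nat.eq_zero_or_pos n with rfl | hn
  · rw [pow_zero, one_mul]
    have h0 : P.aug (adams P j x - x) = 0 := by
      obtain ⟨L, f, hf, hL, hsx⟩ := exists_span P hK [x]
      rw [← hf.aug_comp, map_sub f, map_adams P hf, map_sub]
      suffices ((L.posStr.aug.toAddMonoidHom).comp (adamsHom L.posStr j)) (f x) = L.posStr.aug.toAddMonoidHom (f x) by
        exact sub_eq_zero.2 this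
      refine AddMonoidHom.eqOn_closure ?_ (hsx x (by simp))
      intro u hu
      show L.posStr.aug (adams L.posStr j u) = L.posStr.aug u
      rw [adams_line' _ hu, map_pow, hu.2, one_pow]
    have := gamma_mem P h0 1
    rwa [H7Split5.gamma_one] at this
  conv at hx => unfold gammaFiltration; rw [if_neg (by omega : n ≠ 0)]
  induction hx using AddSubgroup.closure_induction with
  | mem z hz =>
    obtain ⟨l, hl, hle, rfl⟩ := hz
    obtain ⟨h1, h2⟩ := hprod l hl
    rcases Nat.eq_or_lt_of_le hle with h | h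
    · rw [h]; exact h2
    · rw [show adams P j (l.map fun p => gamma p.1 p.2).prod = (adams P j (l.map fun p => gamma p.1 p.2).prod -
          (j : K) ^ (l.map Prod.fst).sum * (l.map fun p => gamma p.1 p.2).prod) + (j : K) ^ (l.map Prod.fst).sum * (l.map fun p => gamma p.1 p.2).prod by ring]
      exact sub_mem (add_mem (fil_anti P (by omega) h2) (fil_anti P h (H7Split5.smul_mem P _ _ _ h1)))
        (fil_anti P h (H7Split5.smul_mem P _ _ _ h1))
  | zero => rw [mul_zero, sub_zero, ← hψ, map_zero]; exact zero_mem _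
  | add a b _ _ ha hb =>
    rw [← hψ, map_add, hψ, hψ, mul_add, show ∀ a b c d : K, a + b - (c + d) = (a - c) + (b - d) from fun a b c d => by ring]
    exact add_mem ha hb
  | neg a _ ha =>
    rw [← hψ, map_neg, hψ, mul_neg, show ∀ a c : K, -a - -c = -(a - c) from fun a c => by ring]
    exact neg_mem ha

theorem adams_congr_descend (hK : HasSplitting K P) (j : ℕ) (hj : 2 ≤ j) (n : ℕ) (x : K)
    (hx : ∃ N : ℕ, 1 ≤ N ∧ (N : K) * (adams P j x - (j : K) ^ n * x) ∈ gammaFiltration P (n + 1)) :
    ∃ N : ℕ, 1 ≤ N ∧ (N : K) * x ∈ gammaFiltration P n := by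
  obtain ⟨N, hN, hmem⟩ := hx
  suffices ∀ i ≤ n, ∃ M : ℕ, 1 ≤ M ∧ (M : K) * x ∈ gammaFiltration P i from this n le_rfl
  obtain ⟨ψ, hψ⟩ := adams_ringHom P hK j
  intro i
  induction i with
  | zero => intro _; exact ⟨1, le_rfl, fil_zero P _⟩
  | succ i ih =>
    intro hi
    obtain ⟨M, hM, hMx⟩ := ih (by omega)
    have h1 := adams_fil hK j i _ hMx
    rw [← hψ, map_mul, map_natCast, hψ] at h1
    have hlt : j ^ i < j ^ n := Nat.pow_lt_pow_right (by omega) (by omega)
    refine ⟨N * M * (j ^ n - j ^ i), ?_, ?_⟩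
    · have := Nat.sub_pos_of_lt hlt
      exact Nat.one_le_iff_ne_zero.2 (by simp only [ne_eq, mul_eq_zero]; omega)
    · rw [Nat.cast_mul, Nat.cast_mul, Nat.cast_sub hlt.le, Nat.cast_pow, Nat.cast_pow,
        show (N : K) * M * ((j : K) ^ n - (j : K) ^ i) * x = (N : K) * ((M : K) * adams P j x - (j : K) ^ i * ((M : K) * x)) -
          (M : K) * ((N : K) * (adams P j x - (j : K) ^ n * x)) by ring]
      exact sub_mem (H7Split5.smul_mem P _ _ _ h1) (H7Split5.smul_mem P _ _ _ (fil_anti P (by omega) hmem))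

end Groth.Agent.H7AdamsFil
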