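import Groth.Agent.Lib.H6.PuncturedDim
import Mathlib

/-! The complement of an open with affine inclusion has codimension at most one. -/

set_option autoImplicit false

universe u
open CategoryTheory CategoryTheory.Limits AlgebraicGeometry TopologicalSpace IsLocalRing

namespace Groth.Agent.H7AffCodim

theorem dim_le_one (X : Scheme.{u}) [IsLocallyNoetherian X] (U : X.Opens) [IsAffineHom U.ι] (ξ : X)
    (hξ : ξ ∉ U) (hgen : ∀ y : X, y ∉ U → y ⤳ ξ → y = ξ) : ringKrullDim (X.presheaf.stalk ξ) ≤ 1 := by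
  let R := X.presheaf.stalk ξ
  let j := X.fromSpecStalk ξ
  haveI : IsAffineHom (j ⁻¹ᵁ U).ι :=
    MorphismProperty.of_isPullback (isPullback_morphismRestrict j U) inferInstance
  have hW : IsAffineOpen (j ⁻¹ᵁ U) := isAffine_of_isAffineHom (j ⁻¹ᵁ U).ι
  have hrange : ∀ p, j p ⤳ ξ := fun p => (X.range_fromSpecStalk (x := ξ) ▸ Set.mem_range_self p : j p ∈ {y | y ⤳ ξ})
  have e : j ⁻¹ᵁ U = LocCoh.puncturedOpen R (maximalIdeal R) := by
    refine TopologicalSpace.Opens.ext ?_
    rw [H6.PuncturedDim.puncturedOpen_carrier]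
    ext p
    show j p ∈ U ↔ p ≠ IsLocalRing.closedPoint R
    refine ⟨fun hp hc => hξ ?_, fun hne => ?_⟩
    · rw [hc] at hp
      exact (Scheme.fromSpecStalk_closedPoint (X := X) (x := ξ)) ▸ hp
    · by_contra hp
      refine hne (j.isEmbedding.injective ?_)
      rw [hgen _ hp (hrange p)]
      exact (Scheme.fromSpecStalk_closedPoint (X := X) (x := ξ)).symm
  rw [e] at hW
  exact H6.PuncturedDim.dim_le_one_of_isAffineOpen R hW

theorem dim_ne_zero (X : Scheme.{u}) [IsLocallyNoetherian X] (U : X.Opens) (ξ : X) (hξ : ξ ∉ U)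
    (hU : Dense (U : Set X)) : ¬ ringKrullDim (X.presheaf.stalk ξ) ≤ 0 := by
  intro h0
  haveI : Ring.KrullDimLE 0 (X.presheaf.stalk ξ) := Ring.krullDimLE_iff.2 (by exact_mod_cast h0)
  have hmax : ∀ y : X, y ⤳ ξ → y = ξ := by
    intro y hy
    obtain ⟨p, rfl⟩ : y ∈ Set.range (X.fromSpecStalk ξ) := by rw [X.range_fromSpecStalk]; exact hy
    rw [show p = IsLocalRing.closedPoint _ from PrimeSpectrum.ext
      (IsLocalRing.eq_maximalIdeal p.2.isMaximal')]
    exact Scheme.fromSpecStalk_closedPoint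
  obtain ⟨V, hV, hξV, -⟩ := exists_isAffineOpen_mem_and_subset (x := ξ) (U := ⊤) trivial
  haveI : IsNoetherianRing Γ(X, V) := IsLocallyNoetherian.component_noetherian ⟨V, hV⟩
  haveI : NoetherianSpace V :=
    noetherianSpace_of_isAffineOpen V hV
  let x : V := ⟨ξ, hξV⟩
  haveI : NoetherianSpace ↥V := noetherianSpace_of_isAffineOpen V hV
  obtain ⟨o, ho, hne, hle⟩ := @TopologicalSpace.NoetherianSpace.exists_isOpen_nonempty_subset_irreducibleComponent V _ (noetherianSpace_of_isAffineOpen V hV)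
    (irreducibleComponent x) (irreducibleComponent_mem_irreducibleComponents x)
  obtain ⟨⟨z, hzV⟩, hz⟩ := hne
  haveI : QuasiSober ↥V := V.2.isOpenEmbedding_subtypeVal.quasiSober
  have hgp := (isIrreducible_irreducibleComponent (x := x)).isGenericPoint_genericPoint
    isClosed_irreducibleComponent
  set η := (isIrreducible_irreducibleComponent (x := x)).genericPoint with hηdef
  have hηx : η.1 ⤳ ξ := (hgp.specializes mem_irreducibleComponent).map continuous_subtype_val
  have hη : η = x := Subtype.ext (hmax _ hηx)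
  let O : Set X := Subtype.val '' o
  have hO : IsOpen O := V.2.isOpenMap_subtype_val o ho
  obtain ⟨w, hwO, hwU⟩ := hU.inter_open_nonempty O hO ⟨z, _, hz, rfl⟩
  obtain ⟨w', hw', rfl⟩ := hwO
  have : x ⤳ w' := hη ▸ hgp.specializes (hle hw')
  exact hξ ((this.map continuous_subtype_val).mem_open U.2 hwU)

end Groth.Agent.H7AffCodim
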