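import Groth.Agent.Lib.H7AffineD
import Groth.Agent.Lib.LQAff
import Mathlib

universe u v w
open CategoryTheory Limits AlgebraicGeometry Pretriangulated

namespace Groth.Agent.H7QCohTri
open Groth.Agent
attribute [local instance] HasDerivedCategory.standard
variable {X : Scheme.{u}}

lemma qcoh_five {E₁ E₂ E₃ E₄ E₅ : X.Modules} (a : E₁ ⟶ E₂) (b : E₂ ⟶ E₃) (c : E₃ ⟶ E₄) (d : E₄ ⟶ E₅)
    (wab : a ≫ b = 0) (wbc : b ≫ c = 0) (wcd : c ≫ d = 0)
    (h₂ : (ShortComplex.mk a b wab).Exact) (h₃ : (ShortComplex.mk b c wbc).Exact) (h₄ : (ShortComplex.mk c d wcd).Exact)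
    (q₁ : Coh.IsQCoh E₁) (q₂ : Coh.IsQCoh E₂) (q₄ : Coh.IsQCoh E₄) (q₅ : Coh.IsQCoh E₅) : Coh.IsQCoh E₃ := by
  let b' := cokernel.desc a b wab
  let c' := kernel.lift d c wcd
  have w' : b' ≫ c' = 0 := by
    apply (cancel_mono (kernel.ι d)).1
    apply (cancel_epi (cokernel.π a)).1
    simp [b', c', wbc]
  have w'' : b' ≫ c = 0 := by
    apply (cancel_epi (cokernel.π a)).1
    simp [b', wbc]
  have e1 : (ShortComplex.mk b' c w'').Exact :=
    (ShortComplex.exact_iff_of_epi_of_isIso_of_mono (S₁ := ShortComplex.mk b c wbc) (S₂ := ShortComplex.mk b' c w'')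
      { τ₁ := cokernel.π a, τ₂ := 𝟙 _, τ₃ := 𝟙 _, comm₁₂ := by simp [b'], comm₂₃ := by simp }).1 h₃
  have e2 : (ShortComplex.mk b' c' w').Exact :=
    (ShortComplex.exact_iff_of_epi_of_isIso_of_mono (S₁ := ShortComplex.mk b' c' w') (S₂ := ShortComplex.mk b' c w'')
      { τ₁ := 𝟙 _, τ₂ := 𝟙 _, τ₃ := kernel.ι d, comm₁₂ := by simp, comm₂₃ := by simp [c'] }).2 e1
  have hT : (ShortComplex.mk b' c' w').ShortExact :=
    { exact := e2
      mono_f := h₂.mono_cokernelDesc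
      epi_g := h₄.epi_kernelLift }
  haveI : (ShortComplex.mk b' c' w').X₁.IsQuasicoherent := @LQcoh.isQuasicoherent_cokernel _ _ _ q₁ q₂ a
  haveI : (ShortComplex.mk b' c' w').X₃.IsQuasicoherent := @LQcoh.isQuasicoherent_kernel _ _ _ q₄ q₅ d
  exact LQcoh.isQuasicoherent_X₂ hT

theorem isQCohD₂ (T : Triangle (DCoh.D X)) (hT : T ∈ distTriang _) (h₁ : DCoh.IsQCohD T.obj₁)
    (h₃ : DCoh.IsQCohD T.obj₃) : DCoh.IsQCohD T.obj₂ := fun i =>
  qcoh_five _ _ _ _ _ _ _ (DerivedCategory.HomologySequence.exact₁ T hT (i - 1) i (by omega))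
    (DerivedCategory.HomologySequence.exact₂ T hT i)
    (DerivedCategory.HomologySequence.exact₃ T hT i (i + 1) rfl) (h₃ (i - 1)) (h₁ i) (h₃ i) (h₁ (i + 1))

theorem isQCohD₃ (T : Triangle (DCoh.D X)) (hT : T ∈ distTriang _) (h₁ : DCoh.IsQCohD T.obj₁)
    (h₂ : DCoh.IsQCohD T.obj₂) : DCoh.IsQCohD T.obj₃ := fun i =>
  qcoh_five _ _ _ _ _ _ _ (DerivedCategory.HomologySequence.exact₂ T hT i)
    (DerivedCategory.HomologySequence.exact₃ T hT i (i + 1) rfl)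
    (DerivedCategory.HomologySequence.exact₁ T hT i (i + 1) rfl) (h₁ i) (h₂ i) (h₁ (i + 1)) (h₂ (i + 1))

end Groth.Agent.H7QCohTri
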