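import Groth.Agent.Lib.H7StalkPull
import Mathlib

/-! The stalk of `M~` is the base change of `M`; `K~` is K-flat for a K-flat complex `K`. -/

universe u
open CategoryTheory Limits AlgebraicGeometry TopologicalSpace Opposite MonoidalCategory HomologicalComplex

namespace Groth.Agent.H7TildeKFlat
open Groth.Agent H7Stalk H7KFlatMod H7KFlatSheaf H7StalkPull

variable {R : CommRingCat.{u}}

/-- `R → O_p` -/
noncomputable def toSt (p : (Spec R : Scheme)) : R →+* (Spec R).presheaf.stalk p :=
  ((Spec R).presheaf.germ ⊤ p trivial).hom.comp (Scheme.ΓSpecIso R).inv.hom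

/-- global sections of a skyscraper -/
noncomputable def skΓIso (p : (Spec R : Scheme)) :
    sk p ⋙ moduleSpecΓFunctor ≅ ModuleCat.restrictScalars.{u} (toSt p) :=
  NatIso.ofComponents
    (fun L => LinearEquiv.toModuleIso
      (show ((sk p ⋙ moduleSpecΓFunctor).obj L : ModuleCat.{u} R) ≃ₗ[R]
          ((ModuleCat.restrictScalars.{u} (toSt p)).obj L : ModuleCat.{u} R) from
      { toFun := fun s => (show SkSec p L ⊤ from s) ⟨trivial⟩
        invFun := fun l => (fun _ => l : SkSec p L ⊤)
        map_add' := fun _ _ => rfl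
        map_smul' := fun _ _ => rfl
        left_inv := fun s => rfl
        right_inv := fun l => rfl }))
    fun g => rfl

/-- the stalk of `M~` -/
noncomputable def tildeStalkIso (p : (Spec R : Scheme)) :
    tilde.functor R ⋙ DerSch.stalkFunctor (Spec R) p ≅ ModuleCat.extendScalars.{u, u, u} (toSt p) :=
  ((tilde.adjunction (R := R)).comp (adj p)).leftAdjointUniq
    ((ModuleCat.extendRestrictScalarsAdj.{u, u, u} (toSt p)).ofNatIsoRight (skΓIso p).symm)

/-- stalks of the complex `K~` -/
noncomputable def stCxTildeIso (p : (Spec R : Scheme)) (K : CochainComplex (ModuleCat.{u} R) ℤ) :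
    (stCx p).obj (((tilde.functor R).mapHomologicalComplex (ComplexShape.up ℤ)).obj K) ≅
      ((ModuleCat.extendScalars (toSt p)).mapHomologicalComplex (ComplexShape.up ℤ)).obj K :=
  Hom.isoOfComponents (fun n => (tildeStalkIso p).app (K.X n))
    fun i j _ => ((tildeStalkIso p).hom.naturality (K.d i j)).symm

theorem skf_tilde (K : CochainComplex (ModuleCat.{u} R) ℤ) (hK : KF R K) :
    SKF (((tilde.functor R).mapHomologicalComplex (ComplexShape.up ℤ)).obj K) := fun p =>
  H5KFlat.kflat_of_iso _ (stCxTildeIso p K).symm (kflat_extendScalars _ _ hK)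

theorem isKFlat_tilde (K : CochainComplex (ModuleCat.{u} R) ℤ) (hK : KF R K) :
    DCoh.IsKFlat (((tilde.functor R).mapHomologicalComplex (ComplexShape.up ℤ)).obj K) :=
  (skf_tilde K hK).isKFlat

end Groth.Agent.H7TildeKFlat
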