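import Groth.Agent.Lib.H7TensorQC
import Groth.Agent.Lib.H7LTensorCx
import Groth.Agent.Lib.H7TildeKFlat
import Mathlib

/-! The derived tensor product preserves quasi-coherence of cohomology. -/

universe u w
open CategoryTheory Limits AlgebraicGeometry

namespace Groth.Agent.H7TensorQCD
open Groth.Agent H7KFlatSheaf H7KFlatResFun H7HasLpull H7LpullCalc H7LTensorCx H7PerfTri H7LocLift

attribute [local instance] HasDerivedCategory.standard

variable {X : Scheme.{u}}

/-- small coproducts of quasi-coherent modules, any small index universe -/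
lemma qcoh_of_cofan {T : Type} {M : T → X.Modules} (c : Cofan M) (hc : IsColimit c)
    (h : ∀ t, Coh.IsQCoh (M t)) : Coh.IsQCoh c.pt :=
  H7AffineD.qcoh_of_iso ((coproductIsCoproduct fun t : ULift.{u} T => M t.down).coconePointUniqueUpToIso
    (Cofan.isColimitEquivOfEquiv Equiv.ulift.{u} c hc))
    (H7QCoh.isQCoh_sigma (fun t : ULift.{u} T => M t.down) fun t => h t.down)

/-- terms of a tensor complex -/
lemma qcoh_tensorCx_X (K L : CochainComplex X.Modules ℤ) (hK : ∀ n, Coh.IsQCoh (K.X n))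
    (hL : ∀ n, Coh.IsQCoh (L.X n)) (n : ℤ) : Coh.IsQCoh (((DCoh.tensorCx.obj K).obj L).X n) :=
  qcoh_of_cofan _ (GradedObject.isColimitCofanMapObj _ _ n) fun p => by
    show Coh.IsQCoh (CohB1.tensorMod (K.X p.1.1) (L.X p.1.2))
    exact H7TensorQC.isQCoh_tensor (hK _) (hL _)

/-- cohomology of a complex of quasi-coherent modules -/
theorem qcoh_homology (K : CochainComplex X.Modules ℤ) (hK : ∀ n, Coh.IsQCoh (K.X n)) (i : ℤ) :
    Coh.IsQCoh (K.homology i) := by
  have hc : Coh.IsQCoh (K.cycles i) :=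
    H7AffineD.qcoh_of_iso ((limit.isLimit (parallelPair (K.d i (i + 1)) 0)).conePointUniqueUpToIso
      (K.cyclesIsKernel i (i + 1) (by simp)))
      (@LQcoh.isQuasicoherent_kernel _ _ _ (hK i) (hK (i + 1)) (K.d i (i + 1)))
  exact H7AffineD.qcoh_of_iso ((colimit.isColimit (parallelPair (K.toCycles (i - 1) i) 0)).coconePointUniqueUpToIso
      (K.homologyIsCokernel (i - 1) i (by simp)))
    (@LQcoh.isQuasicoherent_cokernel _ _ _ (hK (i - 1)) hc (K.toCycles (i - 1) i))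

theorem isQCohD_Q (K : CochainComplex X.Modules ℤ) (hK : ∀ n, Coh.IsQCoh (K.X n)) :
    DCoh.IsQCohD (DerivedCategory.Q.obj K) := fun i =>
  H7AffineD.qcoh_of_iso ((DerivedCategory.homologyFunctorFactors _ i).app K).symm (qcoh_homology K hK i)

variable {R : CommRingCat.{u}}

set_option maxHeartbeats 1000000 in
theorem isQCohD_spec (F : CochainComplex (Spec R).Modules ℤ) (hF : DCoh.IsQCohD (DerivedCategory.Q.obj F))
    [DCoh.HasLTensorCx F] (E : DCoh.D (Spec R)) (hE : DCoh.IsQCohD E) :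
    DCoh.IsQCohD ((DCoh.LTensorCx F).obj E) := by
  haveI : PreservesFiniteLimits (tilde.functor R) := LQcoh.preservesFiniteLimits_tilde R
  obtain ⟨M, ⟨e⟩⟩ := H7TildeEquiv.mem_essImage E hE
  obtain ⟨N, ⟨eN⟩⟩ := H7TildeEquiv.mem_essImage _ hF
  obtain ⟨P, p, hP, hp⟩ := H5KFlat.exists_nice_resolution (DerivedCategory.Q.objPreimage M)
  let eP : DerivedCategory.Q.obj P ≅ M :=
    @asIso _ _ _ _ (DerivedCategory.Q.map p) ((DerivedCategory.isIso_Q_map_iff_quasiIso _ p).2 hp) ≪≫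
      DerivedCategory.Q.objObjPreimageIso M
  let T := (tilde.functor R).mapHomologicalComplex (ComplexShape.up ℤ)
  have hT : SKF (T.obj P) := H7TildeKFlat.skf_tilde P hP.kflat
  let N₀ := DerivedCategory.Q.objPreimage N
  let eF : DerivedCategory.Q.obj F ≅ DerivedCategory.Q.obj (T.obj N₀) :=
    eN.symm ≪≫ (DCoh.tildeD R).mapIso (DerivedCategory.Q.objObjPreimageIso N).symm ≪≫ H7TildeEquiv.fac N₀
  obtain ⟨eT⟩ := tensorQIso_right hT eF
  intro i
  exact H7AffineD.qcoh_of_iso ((DerivedCategory.homologyFunctor _ i).mapIso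
    (eT.symm ≪≫ (ltenCxIso F hT).symm ≪≫ (DCoh.LTensorCx F).mapIso ((H7TildeEquiv.fac P).symm ≪≫
      (DCoh.tildeD R).mapIso eP ≪≫ e)))
    (isQCohD_Q _ (qcoh_tensorCx_X _ _ (fun n => H7TildeEquiv.qcoh_tilde _) (fun n => H7TildeEquiv.qcoh_tilde _)) i)

set_option maxHeartbeats 1000000 in
theorem isQCohD_ltensor (F : CochainComplex X.Modules ℤ) (hF : DCoh.IsQCohD (DerivedCategory.Q.obj F))
    [DCoh.HasLTensorCx F] (E : DCoh.D X) (hE : DCoh.IsQCohD E) :
    DCoh.IsQCohD ((DCoh.LTensorCx F).obj E) := by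
  refine H7QCoh.isQCohD_of_local _ fun x => ?_
  obtain ⟨R, j, hj, hx, -⟩ := H7QCoh.exists_affine x ⊤ trivial
  refine ⟨R, j, hj, hx, ?_⟩
  obtain ⟨K, hK, -, ⟨eK⟩⟩ := exists_skf E
  let c : ∀ L : CochainComplex X.Modules ℤ, (rst j).obj L ≅ (pullCx j).obj L := fun L =>
    H7PerfPull.cxIso (Scheme.Modules.restrictFunctorIsoPullback j) L
  have hK' : SKF ((rst j).obj K) := skf_of_iso (c K).symm (H7StalkPull.skf_pullback j hK)
  haveI := hasLTensorCx ((rst j).obj F)
  let et : (rst j).obj ((DCoh.tensorCx.obj K).obj F) ≅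
      (DCoh.tensorCx.obj ((rst j).obj K)).obj ((rst j).obj F) :=
    c _ ≪≫ pullTensorIso j K F ≪≫ (DCoh.tensorCx.mapIso (c K).symm).app _ ≪≫
      (DCoh.tensorCx.obj ((rst j).obj K)).mapIso (c F).symm
  have hF' : DCoh.IsQCohD (DerivedCategory.Q.obj ((rst j).obj F)) := fun i =>
    H7AffineD.qcoh_of_iso ((DerivedCategory.homologyFunctor _ i).mapIso (rQ j F)) (H7QCoh.isQCohD_restrict j hF i)
  have hKq : DCoh.IsQCohD (DerivedCategory.Q.obj ((rst j).obj K)) := fun i =>
    H7AffineD.qcoh_of_iso ((DerivedCategory.homologyFunctor _ i).mapIso ((rD j).mapIso eK.symm ≪≫ rQ j K))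
      (H7QCoh.isQCohD_restrict j hE i)
  intro i
  exact H7AffineD.qcoh_of_iso ((DerivedCategory.homologyFunctor _ i).mapIso
    (ltenCxIso _ hK' ≪≫ DerivedCategory.Q.mapIso et.symm ≪≫ (rQ j _).symm ≪≫
      (rD j).mapIso ((ltenCxIso F hK).symm ≪≫ (DCoh.LTensorCx F).mapIso eK)))
    (isQCohD_spec _ hF' _ hKq i)

end Groth.Agent.H7TensorQCD
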