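import Groth.Agent.Lib.H7MV
import Groth.Agent.Lib.H7PerfTri
import Groth.Agent.Lib.H7TensorQCD
import Groth.Agent.Lib.H7QCohTri
import Groth.Agent.Lib.LQcqs
import Mathlib

/-! `Rf_*` preserves `D_QCoh` for quasi-compact quasi-separated `f`. -/

universe u v w
open CategoryTheory Limits AlgebraicGeometry Opposite TopologicalSpace Pretriangulated

namespace Groth.Agent.H7RpushQCoh
open Groth.Agent H7PerfTri

attribute [local instance] HasDerivedCategory.standard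

variable {X S : Scheme.{u}}

/-- `E|_X = E` -/
theorem nonempty_rD_id (j : X ⟶ X) [IsOpenImmersion j] (hj : j = 𝟙 X) (E : DCoh.D X) :
    Nonempty ((rD j).obj E ≅ E) := by
  subst hj
  let e := DerivedCategory.Q.objObjPreimageIso E
  exact ⟨(rD (𝟙 X)).mapIso e.symm ≪≫ rQ (𝟙 X) _ ≪≫
    DerivedCategory.Q.mapIso ((NatIso.mapHomologicalComplex Scheme.Modules.restrictFunctorId _).app _ ≪≫
      (Functor.mapHomologicalComplexIdIso _ _).app _) ≪≫ e⟩

/-- on an affine scheme, objects of `D_QCoh` are represented by complexes of quasi-coherent modules -/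
theorem exists_qcohTerms [IsAffine X] (E : DCoh.D X) (hE : DCoh.IsQCohD E) :
    ∃ F : CochainComplex X.Modules ℤ, (∀ n, Coh.IsQCoh (F.X n)) ∧ Nonempty (DerivedCategory.Q.obj F ≅ E) := by
  let R := Γ(X, ⊤)
  haveI := LQcoh.preservesFiniteLimits_tilde R
  obtain ⟨M, ⟨e⟩⟩ := H7TildeEquiv.mem_essImage _ (H7QCoh.isQCohD_restrict X.isoSpec.inv hE)
  let M' := DerivedCategory.Q.objPreimage M
  let e' := (DCoh.tildeD R).mapIso (DerivedCategory.Q.objObjPreimageIso M) ≪≫ e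
  refine ⟨((Scheme.Modules.restrictFunctor X.isoSpec.hom).mapHomologicalComplex (ComplexShape.up ℤ)).obj
    (((tilde.functor R).mapHomologicalComplex (ComplexShape.up ℤ)).obj M'),
    fun n => H7QCoh.isQCoh_restrict X.isoSpec.hom (H7TildeEquiv.qcoh_tilde _), ⟨?_⟩⟩
  exact (rQ X.isoSpec.hom _).symm ≪≫ (rD X.isoSpec.hom).mapIso (((tilde.functor R).mapDerivedCategoryFactors.app M').symm ≪≫ e') ≪≫
    rDComp X.isoSpec.hom X.isoSpec.inv (𝟙 X) X.isoSpec.hom_inv_id E ≪≫ (nonempty_rD_id (𝟙 X) rfl E).some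

/-- the affine case -/
theorem isQCohD_rpush_affine [IsAffine X] (f : X ⟶ S) [IsAffineHom f] [DCoh.HasRpush f] (E : DCoh.D X)
    (hE : DCoh.IsQCohD E) : DCoh.IsQCohD ((DCoh.Rpush f).obj E) := by
  obtain ⟨F, hF, ⟨e⟩⟩ := exists_qcohTerms E hE
  have := H7AffinePush.isIso_beta f hF
  let e' : DerivedCategory.Q.obj ((H7RpushCalc.pushCx f).obj F) ≅ (DCoh.Rpush f).obj E :=
    asIso ((H7RpushCalc.beta f).app F) ≪≫ (DCoh.Rpush f).mapIso e
  exact fun i => H7AffineD.qcoh_of_iso ((DerivedCategory.homologyFunctor _ i).mapIso e')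
    (H7TensorQCD.isQCohD_Q _ (fun n => @LQcoh.isQuasicoherent_push _ _ f _ _ (F.X n) (hF n)) i)

theorem isQCohD_of_iso {E F : DCoh.D X} (e : E ≅ F) (h : DCoh.IsQCohD E) : DCoh.IsQCohD F := fun i =>
  H7AffineD.qcoh_of_iso ((DerivedCategory.homologyFunctor _ i).mapIso e) (h i)

/-- affine base -/
theorem isQCohD_rpush_of_affine_base [IsAffine S] (f : X ⟶ S) [QuasiCompact f] [QuasiSeparated f] [DCoh.HasRpush f]
    (K : DCoh.D X) (hK : DCoh.IsQCohD K) : DCoh.IsQCohD ((DCoh.Rpush f).obj K) := by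
  haveI : CompactSpace X := QuasiCompact.compactSpace_of_compactSpace f
  haveI : QuasiSeparatedSpace X := quasiSeparatedSpace_of_quasiSeparated f
  refine H7MV.mv_induction (fun K => DCoh.IsQCohD ((DCoh.Rpush f).obj K)) (fun e h => isQCohD_of_iso ((DCoh.Rpush f).mapIso e) h)
    (fun T hT h₁ h₃ => ?_) (fun T hT h₂ h₃ => ?_) (fun A _ hA E hE => ?_) K hK
  · obtain ⟨c, hc⟩ := H7RpushAdj.exists_rpush_triangle f T hT
    exact H7QCohTri.isQCohD₂ _ hc h₁ h₃
  · obtain ⟨c, hc⟩ := H7RpushAdj.exists_rpush_triangle f T hT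
    exact H7QCohTri.isQCohD₂ _ (inv_rot_of_distTriang _ hc) (fun i => H7AffineD.qcoh_of_iso
      (((DerivedCategory.homologyFunctor S.Modules 0).shiftIso (-1 : ℤ) i (i - 1) (by ring)).app _).symm (h₃ (i - 1))) h₂
  · haveI : IsAffine A.toScheme := hA
    haveI := H7MV.hasRpush (A.ι ≫ f)
    haveI : IsAffineHom (A.ι ≫ f) := isAffineHom_of_isAffine _
    obtain ⟨e⟩ := H7RpushAdj.rpush_comp A.ι f
    exact isQCohD_of_iso (e.app E).symm (isQCohD_rpush_affine (A.ι ≫ f) E hE)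

theorem isQCohD_rpush (f : X ⟶ S) [QuasiCompact f] [QuasiSeparated f] [DCoh.HasRpush f] (K : DCoh.D X)
    (hK : DCoh.IsQCohD K) : DCoh.IsQCohD ((DCoh.Rpush f).obj K) := by
  refine H7QCoh.isQCohD_of_local _ fun x => ?_
  obtain ⟨V, hV, hxV, -⟩ := exists_isAffineOpen_mem_and_subset (X := S) (x := x) (U := (⊤ : S.Opens)) trivial
  haveI : IsAffine V.toScheme := hV
  haveI := H7MV.hasRpush (f ∣_ V)
  obtain ⟨e⟩ := H7RpushLocal.nonempty_restrict_rpush f V
  have h1 : DCoh.IsQCohD ((rD V.ι).obj ((DCoh.Rpush f).obj K)) :=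
    isQCohD_of_iso (e.app K).symm (isQCohD_rpush_of_affine_base (f ∣_ V) _ (H7QCoh.isQCohD_restrict (f ⁻¹ᵁ V).ι hK))
  refine ⟨_, V.toScheme.isoSpec.inv ≫ V.ι, inferInstance, ⟨V.toScheme.isoSpec.hom.base ⟨x, hxV⟩, ?_⟩, ?_⟩
  · show (V.toScheme.isoSpec.hom ≫ V.toScheme.isoSpec.inv ≫ V.ι) ⟨x, hxV⟩ = x
    rw [Iso.hom_inv_id_assoc]
    rfl
  exact isQCohD_of_iso (rDComp V.toScheme.isoSpec.inv V.ι (V.toScheme.isoSpec.inv ≫ V.ι) rfl _) (H7QCoh.isQCohD_restrict _ h1)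

end Groth.Agent.H7RpushQCoh
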