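import Groth.Agent.Lib.H7BijTri
import Groth.Agent.Lib.H7RpushQCoh
import Groth.Agent.Lib.H7Coprod
import Groth.Agent.Lib.H7TildePerf
import Groth.Agent.Lib.H7PseudoNoeth
import Groth.Agent.Lib.H7TildeBC
import Mathlib

/-! `Rf_*` commutes with coproducts in `D_QCoh`, `f` quasi-compact quasi-separated. -/

universe u v w
open CategoryTheory Limits AlgebraicGeometry Opposite TopologicalSpace Pretriangulated HomologicalComplex

namespace Groth.Agent.H7RpushCoprod
open Groth.Agent H7PerfTri H7BijTri CechOX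

attribute [local instance] HasDerivedCategory.standard

variable {X Y S : Scheme.{u}}

/-- direct image along an isomorphism is an equivalence -/
noncomputable def pushEquiv (e : X ≅ Y) : X.Modules ≌ Y.Modules :=
  CategoryTheory.Equivalence.mk (Scheme.Modules.pushforward e.hom) (Scheme.Modules.pushforward e.inv)
    ((Scheme.Modules.pushforwardComp e.hom e.inv ≪≫ Scheme.Modules.pushforwardCongr e.hom_inv_id ≪≫
      Scheme.Modules.pushforwardId _).symm)
    (Scheme.Modules.pushforwardComp e.inv e.hom ≪≫ Scheme.Modules.pushforwardCongr e.inv_hom_id ≪≫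
      Scheme.Modules.pushforwardId _)

/-- restriction along an isomorphism is direct image along the inverse -/
noncomputable def restrictIsoPush (e : X ≅ Y) :
    Scheme.Modules.restrictFunctor e.hom ≅ Scheme.Modules.pushforward e.inv :=
  (Scheme.Modules.restrictAdjunction e.hom).leftAdjointUniq (pushEquiv e).symm.toAdjunction

/-- complexes `hom^*(N~)` on an affine scheme -/
noncomputable abbrev affTilde (X : Scheme.{u}) [IsAffine X] : ModuleCat.{u} Γ(X, ⊤) ⥤ X.Modules :=
  tilde.functor Γ(X, ⊤) ⋙ Scheme.Modules.restrictFunctor X.isoSpec.hom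

lemma qcoh_affTilde [IsAffine X] (N : ModuleCat.{u} Γ(X, ⊤)) : Coh.IsQCoh ((affTilde X).obj N) :=
  haveI := LQcoh.preservesFiniteLimits_tilde Γ(X, ⊤)
  H7QCoh.isQCoh_restrict X.isoSpec.hom (H7TildeEquiv.qcoh_tilde N)

theorem exists_affTilde [IsAffine X] (E : DCoh.D X) (hE : DCoh.IsQCohD E) :
    ∃ M : CochainComplex (ModuleCat.{u} Γ(X, ⊤)) ℤ,
      Nonempty (DerivedCategory.Q.obj (((affTilde X).mapHomologicalComplex (ComplexShape.up ℤ)).obj M) ≅ E) := by
  let R := Γ(X, ⊤)
  haveI := LQcoh.preservesFiniteLimits_tilde R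
  obtain ⟨M, ⟨e⟩⟩ := H7TildeEquiv.mem_essImage _ (H7QCoh.isQCohD_restrict X.isoSpec.inv hE)
  refine ⟨DerivedCategory.Q.objPreimage M, ⟨?_⟩⟩
  exact DerivedCategory.Q.mapIso ((Functor.mapHomologicalComplexCompIso (Iso.refl (affTilde X)) _).app _).symm ≪≫
    (rQ X.isoSpec.hom _).symm ≪≫ (rD X.isoSpec.hom).mapIso (((tilde.functor R).mapDerivedCategoryFactors.app _).symm ≪≫
      (DCoh.tildeD R).mapIso (DerivedCategory.Q.objObjPreimageIso M) ≪≫ e) ≪≫
    rDComp X.isoSpec.hom X.isoSpec.inv (𝟙 X) X.isoSpec.hom_inv_id E ≪≫ (H7RpushQCoh.nonempty_rD_id (𝟙 X) rfl E).some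

/-- `g_* (N~)` commutes with coproducts -/
theorem preservesColimits_pushTilde [IsAffine X] [IsAffine S] (g : X ⟶ S) :
    PreservesColimitsOfSize.{u, u} (affTilde X ⋙ Scheme.Modules.pushforward g) := by
  let φ := (g.appTop).hom
  obtain ⟨e⟩ : Nonempty (tilde.functor (CommRingCat.of Γ(X, ⊤)) ⋙ Scheme.Modules.pushforward (Spec.map (CommRingCat.ofHom φ)) ≅
      ModuleCat.restrictScalars.{u} φ ⋙ tilde.functor (CommRingCat.of Γ(S, ⊤))) := nonempty_tildePush φ
  have hg : X.isoSpec.inv ≫ g = Spec.map (CommRingCat.ofHom φ) ≫ S.isoSpec.inv := (Scheme.isoSpec_inv_naturality g).symm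
  let i : affTilde X ⋙ Scheme.Modules.pushforward g ≅
      (ModuleCat.restrictScalars.{u} φ ⋙ tilde.functor (CommRingCat.of Γ(S, ⊤))) ⋙ Scheme.Modules.pushforward S.isoSpec.inv :=
    Functor.associator _ _ _ ≪≫
      Functor.isoWhiskerLeft _ (Functor.isoWhiskerRight (restrictIsoPush X.isoSpec) _ ≪≫
        Scheme.Modules.pushforwardComp X.isoSpec.inv g ≪≫ Scheme.Modules.pushforwardCongr hg ≪≫
        (Scheme.Modules.pushforwardComp _ _).symm) ≪≫
      (Functor.associator _ _ _).symm ≪≫ Functor.isoWhiskerRight e _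
  haveI : (Scheme.Modules.pushforward S.isoSpec.inv).IsLeftAdjoint :=
    (pushEquiv S.isoSpec.symm).toAdjunction.isLeftAdjoint
  haveI := (ModuleCat.restrictCoextendScalarsAdj φ).isLeftAdjoint
  exact preservesColimits_of_natIso i.symm
where
  nonempty_tildePush {A B : Type u} [CommRing A] [CommRing B] (φ : A →+* B) :
      Nonempty (tilde.functor (CommRingCat.of B) ⋙ Scheme.Modules.pushforward (Spec.map (CommRingCat.ofHom φ)) ≅
        ModuleCat.restrictScalars.{u} φ ⋙ tilde.functor (CommRingCat.of A)) := by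
    let f := Spec.map (CommRingCat.ofHom φ)
    let G := tilde.functor (CommRingCat.of B) ⋙ Scheme.Modules.pushforward f
    haveI := LQcoh.preservesFiniteLimits_tilde (CommRingCat.of B)
    have : ∀ M, IsIso ((tilde.adjunction (R := CommRingCat.of A)).counit.app (G.obj M)) := fun M =>
      @Scheme.Modules.isIso_fromTildeΓ_of_isQuasicoherent _ (G.obj M)
        (@LQcoh.isQuasicoherent_push _ _ f inferInstance inferInstance
          ((tilde.functor (CommRingCat.of B)).obj M) (H7TildeEquiv.qcoh_tilde M))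
    have : IsIso (Functor.whiskerLeft G (tilde.adjunction (R := CommRingCat.of A)).counit) :=
      @NatIso.isIso_of_isIso_app _ _ _ _ _ _ (Functor.whiskerLeft G (tilde.adjunction (R := CommRingCat.of A)).counit) this
    exact ⟨(G.rightUnitor).symm ≪≫ (asIso (Functor.whiskerLeft G (tilde.adjunction (R := CommRingCat.of A)).counit)).symm ≪≫
      (Functor.associator G _ _).symm ≪≫
      Functor.isoWhiskerRight (Functor.associator _ _ _ ≪≫ Functor.isoWhiskerLeft _ (H7TildeBC.pushΓIso φ) ≪≫
        (Functor.associator _ _ _).symm ≪≫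
        Functor.isoWhiskerRight (@asIso _ _ _ _ (tilde.adjunction (R := CommRingCat.of B)).unit
          ((inferInstance : ∀ R : CommRingCat.{u}, IsIso (tilde.adjunction (R := R)).unit) (CommRingCat.of B))).symm _ ≪≫
        Functor.leftUnitor _) _⟩

theorem preserves_pushTilde [IsAffine X] [IsAffine S] (g : X ⟶ S) (T : Type u) :
    PreservesColimitsOfShape (Discrete T) (affTilde X ⋙ Scheme.Modules.pushforward g) :=
  haveI := preservesColimits_pushTilde g
  inferInstance

lemma preserves_cx {C : Type (u + 1)} [Category.{u} C] [Preadditive C] {D : Type (u + 1)} [Category.{u} D] [Preadditive D]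
    (F : C ⥤ D) [F.Additive] (T : Type u) [PreservesColimitsOfShape (Discrete T) F] [HasColimitsOfShape (Discrete T) C] :
    PreservesColimitsOfShape (Discrete T) (F.mapHomologicalComplex (ComplexShape.up ℤ)) :=
  ⟨fun {G} => ⟨fun {c} hc => ⟨isColimitOfEval (G ⋙ F.mapHomologicalComplex _) ((F.mapHomologicalComplex _).mapCocone c)
    fun n => isColimitOfPreserves F (isColimitOfPreserves (eval C _ n) hc)⟩⟩⟩

/-- the affine case -/
theorem preserves_rpush_affine [IsAffine X] [IsAffine S] (g : X ⟶ S) [DCoh.HasRpush g] {T : Type u} (C : T → DCoh.D X)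
    (hC : ∀ t, DCoh.IsQCohD (C t)) : PreservesColimit (Discrete.functor C) (DCoh.Rpush g) := by
  choose M e using fun t => exists_affTilde (C t) (hC t)
  let AT := (affTilde X).mapHomologicalComplex (ComplexShape.up ℤ)
  let Φ := AT ⋙ DerivedCategory.Q
  haveI : IsAffineHom g := isAffineHom_of_isAffine g
  haveI : (Scheme.Modules.restrictFunctor X.isoSpec.hom).IsLeftAdjoint := inferInstance
  haveI : PreservesColimitsOfShape (Discrete T) (affTilde X) := by
    unfold affTilde; infer_instance
  haveI := preserves_pushTilde g T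
  haveI := preserves_cx (affTilde X) T
  haveI := preserves_cx (affTilde X ⋙ Scheme.Modules.pushforward g) T
  let η : (affTilde X ⋙ Scheme.Modules.pushforward g).mapHomologicalComplex (ComplexShape.up ℤ) ⋙ DerivedCategory.Q ⟶
      Φ ⋙ DCoh.Rpush g :=
    Functor.whiskerRight (Functor.mapHomologicalComplexCompIso (Iso.refl (affTilde X ⋙ Scheme.Modules.pushforward g)) _).inv _ ≫
      (Functor.associator _ _ _).hom ≫ Functor.whiskerLeft AT (H7RpushCalc.beta g) ≫ (Functor.associator _ _ _).inv
  have : ∀ K, IsIso (η.app K) := fun K => by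
    have := H7AffinePush.isIso_beta g (F := AT.obj K) (fun n => qcoh_affTilde _)
    simp only [η, NatTrans.comp_app, Functor.whiskerRight_app, Functor.whiskerLeft_app]
    infer_instance
  haveI : IsIso η := NatIso.isIso_of_isIso_app _
  have h₁ : Bij fun t => (Sigma.ι M t) := (bij_iff _).2 ⟨coproductIsCoproduct M⟩
  have h₂ : Bij fun t => Φ.map (Sigma.ι M t) := bij_map Φ _ h₁
  have h₃ : Bij fun t => (DCoh.Rpush g).map (Φ.map (Sigma.ι M t)) :=
    bij_of_natIso (asIso η) _ (bij_map _ _ h₁)
  suffices h : PreservesColimit (Discrete.functor fun t => Φ.obj (M t)) (DCoh.Rpush g) from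
    preservesColimit_of_iso_diagram (DCoh.Rpush g) (Discrete.natIso fun t => (e t.as).some : Discrete.functor (fun t => Φ.obj (M t)) ≅ Discrete.functor C)
  exact preservesColimit_of_preserves_colimit_cocone ((bij_iff _).1 h₂).some
    ((isColimitMapCoconeCofanMkEquiv _ _ _).symm ((bij_iff _).1 h₃).some)

instance rst_coprod (j : X ⟶ Y) [IsOpenImmersion j] (T : Type u) :
    PreservesColimitsOfShape (Discrete T) ((Scheme.Modules.restrictFunctor j).mapHomologicalComplex (ComplexShape.up ℤ)) :=
  preserves_cx _ T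

theorem preserves_restrictD (j : X ⟶ Y) [IsOpenImmersion j] {T : Type u} (C : T → DCoh.D Y) :
    PreservesColimit (Discrete.functor C) (rD j) :=
  H7Coprod.preservesColimit_of_computed (rD j)
    ((Scheme.Modules.restrictFunctor j).mapHomologicalComplex (ComplexShape.up ℤ))
    (Scheme.Modules.restrictFunctor j).mapDerivedCategoryFactors.hom (fun _ => True) (fun _ _ => inferInstance)
    (fun Z => ⟨_, trivial, ⟨DerivedCategory.Q.objObjPreimageIso Z⟩⟩) (fun _ _ => trivial) C

variable (f : X ⟶ S)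

/-- `I ↦ f_*(j_{W*}(I|W))` in `D(S)` -/
noncomputable abbrev gW (F : X.Modules ⥤ X.Modules) [F.Additive] : CochainComplex X.Modules ℤ ⥤ DCoh.D S :=
  (F ⋙ Scheme.Modules.pushforward f).mapHomologicalComplex (ComplexShape.up ℤ) ⋙ DerivedCategory.Q

variable {F G H : X.Modules ⥤ X.Modules} [F.Additive] [G.Additive] [H.Additive]

/-- `I ↦` the short complex `f_*F(I) → f_*G(I) → f_*H(I)` -/
noncomputable def scF (a : F ⟶ G) (b : G ⟶ H) (hab : ∀ M, a.app M ≫ b.app M = 0) :
    CochainComplex X.Modules ℤ ⥤ ShortComplex (CochainComplex S.Modules ℤ) where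
  obj K := ShortComplex.mk ((NatTrans.mapHomologicalComplex (Functor.whiskerRight a (Scheme.Modules.pushforward f)) _).app K)
    ((NatTrans.mapHomologicalComplex (Functor.whiskerRight b (Scheme.Modules.pushforward f)) _).app K)
    (HomologicalComplex.hom_ext _ _ fun n => by
      show (Scheme.Modules.pushforward f).map _ ≫ (Scheme.Modules.pushforward f).map _ = 0
      rw [← Functor.map_comp, hab, Functor.map_zero])
  map φ :=
    { τ₁ := ((F ⋙ Scheme.Modules.pushforward f).mapHomologicalComplex _).map φ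
      τ₂ := ((G ⋙ Scheme.Modules.pushforward f).mapHomologicalComplex _).map φ
      τ₃ := ((H ⋙ Scheme.Modules.pushforward f).mapHomologicalComplex _).map φ
      comm₁₂ := (NatTrans.mapHomologicalComplex (Functor.whiskerRight a (Scheme.Modules.pushforward f)) _).naturality φ
      comm₂₃ := (NatTrans.mapHomologicalComplex (Functor.whiskerRight b (Scheme.Modules.pushforward f)) _).naturality φ }
  map_id K := ShortComplex.hom_ext _ _ (((F ⋙ Scheme.Modules.pushforward f).mapHomologicalComplex _).map_id K)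
    (((G ⋙ Scheme.Modules.pushforward f).mapHomologicalComplex _).map_id K)
    (((H ⋙ Scheme.Modules.pushforward f).mapHomologicalComplex _).map_id K)
  map_comp φ ψ := ShortComplex.hom_ext _ _ (((F ⋙ Scheme.Modules.pushforward f).mapHomologicalComplex _).map_comp φ ψ)
    (((G ⋙ Scheme.Modules.pushforward f).mapHomologicalComplex _).map_comp φ ψ)
    (((H ⋙ Scheme.Modules.pushforward f).mapHomologicalComplex _).map_comp φ ψ)

variable (a : F ⟶ G) (b : G ⟶ H) (hab : ∀ M, a.app M ≫ b.app M = 0) {T : Type u}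
  {I : T → CochainComplex X.Modules ℤ} {J : CochainComplex X.Modules ℤ} (g : ∀ t, I t ⟶ J)
  (hI : ∀ t n, ((ShortComplex.mk (a.app ((I t).X n)) (b.app ((I t).X n)) (hab _)).map (Scheme.Modules.pushforward f)).ShortExact)
  (hJ : ∀ n, ((ShortComplex.mk (a.app (J.X n)) (b.app (J.X n)) (hab _)).map (Scheme.Modules.pushforward f)).ShortExact)

include hab hI hJ in
theorem bij_tri₁ (h₂ : Bij fun t => (gW f G).map (g t)) (h₃ : Bij fun t => (gW f H).map (g t)) :
    Bij fun t => (gW f F).map (g t) := by
  have hs : ∀ t, ((scF f a b hab).obj (I t)).ShortExact := fun t =>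
    (HomologicalComplex.shortExact_iff_degreewise_shortExact _).2 (hI t)
  have hs' : ((scF f a b hab).obj J).ShortExact := (HomologicalComplex.shortExact_iff_degreewise_shortExact _).2 hJ
  exact bij₁ (fun t => DerivedCategory.triangleOfSES_distinguished (hs t))
    (DerivedCategory.triangleOfSES_distinguished hs')
    (fun t => DerivedCategory.triangleOfSES.map (hs t) hs' ((scF f a b hab).map (g t))) h₂ h₃

include hab hI hJ in
theorem bij_tri₂ (h₁ : Bij fun t => (gW f F).map (g t)) (h₃ : Bij fun t => (gW f H).map (g t)) :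
    Bij fun t => (gW f G).map (g t) := by
  have hs : ∀ t, ((scF f a b hab).obj (I t)).ShortExact := fun t =>
    (HomologicalComplex.shortExact_iff_degreewise_shortExact _).2 (hI t)
  have hs' : ((scF f a b hab).obj J).ShortExact := (HomologicalComplex.shortExact_iff_degreewise_shortExact _).2 hJ
  exact bij₂ (fun t => DerivedCategory.triangleOfSES_distinguished (hs t))
    (DerivedCategory.triangleOfSES_distinguished hs')
    (fun t => DerivedCategory.triangleOfSES.map (hs t) hs' ((scF f a b hab).map (g t))) h₁ h₃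

/-- affine base -/
theorem preserves_rpush_of_affine_base [IsAffine S] [QuasiCompact f] [QuasiSeparated f] [DCoh.HasRpush f]
    {T : Type u} (C : T → DCoh.D X) (hC : ∀ t, DCoh.IsQCohD (C t)) :
    PreservesColimit (Discrete.functor C) (DCoh.Rpush f) := by
  haveI : CompactSpace X := QuasiCompact.compactSpace_of_compactSpace f
  haveI : QuasiSeparatedSpace X := quasiSeparatedSpace_of_quasiSeparated f
  have hR := H5KApps.resolving_Q (A := X.Modules) H5KApps.enoughKInj_of_grothendieck
  have hres : ∀ E : DCoh.D X, ∃ I : CochainComplex X.Modules ℤ, I.IsKInjective ∧ (∀ n, Injective (I.X n)) ∧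
      Nonempty (DerivedCategory.Q.obj I ≅ E) := fun E => by
    obtain ⟨I, f, hI, hf, -, hinj⟩ := H5KInj.exists_kInjective (DerivedCategory.Q.objPreimage E)
    have := (DerivedCategory.isIso_Q_map_iff_quasiIso _ f).2 hf
    exact ⟨I, hI, hinj, ⟨(asIso (DerivedCategory.Q.map f)).symm ≪≫ DerivedCategory.Q.objObjPreimageIso E⟩⟩
  choose I hI hinj e using fun t => hres (C t)
  obtain ⟨J, hJ, hJinj, ⟨eJ⟩⟩ := hres (DerivedCategory.Q.obj (∐ I))
  choose g hg using fun t => hR.surj (I t) J hJ (DerivedCategory.Q.map (Sigma.ι I t) ≫ eJ.inv)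
  have h₀ : Bij fun t => DerivedCategory.Q.map (g t) :=
    bij_of_iso (fun t => Iso.refl _) eJ.symm (fun t => by rw [hg]; simp)
      ((bij_iff _).2 ⟨H7Coprod.qSigmaIsColimit I⟩)
  have hq : ∀ t, DCoh.IsQCohD (DerivedCategory.Q.obj (I t)) := fun t =>
    H7RpushQCoh.isQCohD_of_iso (e t).some.symm (hC t)
  have key : ∀ W : X.Opens, IsCompact (W : Set X) → Bij fun t => (gW f (pushRestr W)).map (g t) := by
    intro W hW
    refine H7QcqsInd.induction (Q := fun W => Bij fun t => (gW f (pushRestr W)).map (g t))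
      (fun A hA => ?_) (fun U V hU hV hUV => ?_) W hW
    · haveI : IsAffine A.toScheme := hA
      haveI := H7MV.hasRpush (A.ι ≫ f)
      haveI := preserves_restrictD A.ι (fun t => DerivedCategory.Q.obj (I t))
      haveI := preserves_rpush_affine (A.ι ≫ f) (fun t => (rD A.ι).obj (DerivedCategory.Q.obj (I t)))
        (fun t => H7QCoh.isQCohD_restrict A.ι (hq t))
      have h₁ : Bij fun t => (DCoh.Rpush (A.ι ≫ f)).map ((rD A.ι).map (DerivedCategory.Q.map (g t))) :=
        bij_map _ _ (bij_map (rD A.ι) _ h₀)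
      let rA := (Scheme.Modules.restrictFunctor A.ι).mapHomologicalComplex (ComplexShape.up ℤ)
      let i : gW f (pushRestr A) ≅ rA ⋙ H7RpushCalc.pushCx (A.ι ≫ f) ⋙ DerivedCategory.Q :=
        Functor.isoWhiskerRight ((Functor.mapHomologicalComplexCompIso ((Functor.associator _ _ _ ≪≫
            Functor.isoWhiskerLeft _ (Scheme.Modules.pushforwardComp A.ι f)).symm :
            Scheme.Modules.restrictFunctor A.ι ⋙ Scheme.Modules.pushforward (A.ι ≫ f) ≅
              pushRestr A ⋙ Scheme.Modules.pushforward f) _).symm) _ ≪≫ Functor.associator _ _ _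
      let η : gW f (pushRestr A) ⟶ (DerivedCategory.Q ⋙ rD A.ι) ⋙ DCoh.Rpush (A.ι ≫ f) :=
        i.hom ≫ Functor.whiskerLeft rA (H7RpushCalc.beta (A.ι ≫ f)) ≫ (Functor.associator _ _ _).inv ≫
          Functor.whiskerRight (Scheme.Modules.restrictFunctor A.ι).mapDerivedCategoryFactors.inv _
      have hη : ∀ K : CochainComplex X.Modules ℤ, K.IsKInjective → IsIso (η.app K) := fun K hK => by
        have := H7RpushCalc.isIso_beta (A.ι ≫ f) (rA.obj K) (H7RpushLocal.isKInjective_restrict A.ι K hK)
        simp only [η, NatTrans.comp_app, Functor.whiskerRight_app, Functor.whiskerLeft_app]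
        infer_instance
      exact bij_of_iso (fun t => (@asIso _ _ _ _ _ (hη (I t) (hI t))).symm) (@asIso _ _ _ _ _ (hη J hJ)).symm
        (fun t => by
          have := hη (I t) (hI t)
          have := hη J hJ
          simp only [Iso.symm_hom, asIso_inv]
          rw [IsIso.inv_comp_eq, ← Category.assoc, IsIso.eq_comp_inv]
          exact η.naturality (g t)) h₁
    · let a : pushRestr U ⟶ H7MV.pair U V :=
        { app := fun M => biprod.inl
          naturality := fun M N φ => (biprod.inl_map _ _).symm }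
      let b : H7MV.pair U V ⟶ pushRestr V :=
        { app := fun M => biprod.snd
          naturality := fun M N φ => biprod.map_snd _ _ }
      have hpair : Bij fun t => (gW f (H7MV.pair U V)).map (g t) := by
        have hsp : ∀ M : X.Modules, ((ShortComplex.mk (a.app M) (b.app M) biprod.inl_snd).map
            (Scheme.Modules.pushforward f)).ShortExact := fun M =>
          ((ShortComplex.Splitting.ofHasBinaryBiproduct ((pushRestr U).obj M) ((pushRestr V).obj M)).map
            (Scheme.Modules.pushforward f)).shortExact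
        exact bij_tri₂ f a b (fun M => biprod.inl_snd) g (fun t n => hsp _) (fun n => hsp _) hU hV
      have hmv : ∀ (K : CochainComplex X.Modules ℤ), (∀ n, Injective (K.X n)) → ∀ n,
          ((ShortComplex.mk ((H7MV.α U V).app (K.X n)) ((H7MV.β U V).app (K.X n)) (H7MV.α_β U V _)).map
            (Scheme.Modules.pushforward f)).ShortExact := fun K hK n =>
        haveI := hK n
        haveI : Injective (ShortComplex.mk ((H7MV.α U V).app (K.X n)) ((H7MV.β U V).app (K.X n)) (H7MV.α_β U V _)).X₁ :=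
          H7MV.injective_pushRestr (U ⊔ V) _
        (((H7MV.shortExact U V (K.X n)).splittingOfInjective).map (Scheme.Modules.pushforward f)).shortExact
      exact bij_tri₁ f (H7MV.α U V) (H7MV.β U V) (H7MV.α_β U V) g (fun t => hmv _ (hinj t)) (hmv _ hJinj) hpair hUV
  have htop := key ⊤ isCompact_univ
  let u : 𝟭 X.Modules ≅ pushRestr (⊤ : X.Opens) :=
    @asIso _ _ _ _ (Scheme.Modules.restrictAdjunction (⊤ : X.Opens).ι).unit
      (@NatIso.isIso_of_isIso_app _ _ _ _ _ _ _ H7MV.isIso_unit_top)
  let i : gW f (pushRestr (⊤ : X.Opens)) ≅ H7RpushCalc.pushCx f ⋙ DerivedCategory.Q :=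
    Functor.isoWhiskerRight (NatIso.mapHomologicalComplex
      (Functor.isoWhiskerRight u.symm _ ≪≫ Functor.leftUnitor _) _) _
  have h₁ := bij_of_natIso i _ htop
  have h₂ : Bij fun t => (DCoh.Rpush f).map (DerivedCategory.Q.map (g t)) :=
    bij_of_iso (fun t => @asIso _ _ _ _ _ (H7RpushCalc.isIso_beta f (I t) (hI t)))
      (@asIso _ _ _ _ _ (H7RpushCalc.isIso_beta f J hJ)) (fun t => ((H7RpushCalc.beta f).naturality (g t)).symm) h₁
  suffices h : PreservesColimit (Discrete.functor fun t => DerivedCategory.Q.obj (I t)) (DCoh.Rpush f) from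
    preservesColimit_of_iso_diagram (DCoh.Rpush f)
      (Discrete.natIso fun t => (e t.as).some : Discrete.functor (fun t => DerivedCategory.Q.obj (I t)) ≅ Discrete.functor C)
  exact preservesColimit_of_preserves_colimit_cocone ((bij_iff _).1 h₀).some
    ((isColimitMapCoconeCofanMkEquiv _ _ _).symm ((bij_iff _).1 h₂).some)

lemma isZero_of_HD (Z : DCoh.D S) (h : ∀ i, IsZero (DCoh.HD Z i)) : IsZero Z := by
  have : IsIso (0 : Z ⟶ Z) := (DerivedCategory.isIso_iff S.Modules (0 : Z ⟶ Z)).2 fun i =>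
    ⟨0, (h i).eq_of_src _ _, (h i).eq_of_src _ _⟩
  rw [IsZero.iff_id_eq_zero, ← IsIso.inv_hom_id (0 : Z ⟶ Z), comp_zero]

/-- isomorphisms in `D` are local -/
theorem isIso_of_local {E F : DCoh.D S} (α : E ⟶ F) (h : ∀ V : S.Opens, IsAffineOpen V → IsIso ((rD V.ι).map α)) :
    IsIso α := by
  obtain ⟨Z, a, c, hT⟩ := distinguished_cocone_triangle α
  refine (Triangle.isZero₃_iff_isIso₁ _ hT).1 (isZero_of_HD Z fun i => ?_)
  refine H7PseudoNoeth.isZero_of_cover fun x => ?_
  obtain ⟨V, hV, hxV, -⟩ := exists_isAffineOpen_mem_and_subset (X := S) (x := x) (U := (⊤ : S.Opens)) trivial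
  haveI : IsAffine V.toScheme := hV
  refine ⟨_, V.toScheme.isoSpec.inv ≫ V.ι, inferInstance, ⟨V.toScheme.isoSpec.hom.base ⟨x, hxV⟩, ?_⟩, ?_⟩
  · show (V.toScheme.isoSpec.hom ≫ V.toScheme.isoSpec.inv ≫ V.ι) ⟨x, hxV⟩ = x
    rw [Iso.hom_inv_id_assoc]
    rfl
  · have h0 : IsZero ((rD V.ι).obj Z) := by
      have hd := (rD V.ι).map_distinguished _ hT
      have : IsIso ((rD V.ι).mapTriangle.obj (Triangle.mk α a c)).mor₁ := h V hV
      exact (Triangle.isZero₃_iff_isIso₁ _ hd).2 this
    have h1 : IsZero ((rD (V.toScheme.isoSpec.inv ≫ V.ι)).obj Z) :=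
      (((rD V.toScheme.isoSpec.inv).map_isZero h0).of_iso (rDComp _ _ _ rfl Z).symm)
    exact ((DerivedCategory.homologyFunctor _ i).map_isZero h1).of_iso (H7QCoh.hdRestrict _ Z i).symm

/-- `Rf_*` commutes with coproducts in `D_QCoh` -/
theorem preserves_rpush [QuasiCompact f] [QuasiSeparated f] [DCoh.HasRpush f] {T : Type u} (C : T → DCoh.D X)
    (hC : ∀ t, DCoh.IsQCohD (C t)) [HasCoproduct C] [HasCoproduct fun t => (DCoh.Rpush f).obj (C t)] :
    IsIso (sigmaComparison (DCoh.Rpush f) C) := by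
  refine isIso_of_local _ fun V hV => ?_
  haveI : IsAffine V.toScheme := hV
  haveI := H7MV.hasRpush (f ∣_ V)
  obtain ⟨e⟩ := H7RpushLocal.nonempty_restrict_rpush f V
  haveI := preserves_restrictD (f ⁻¹ᵁ V).ι C
  haveI := preserves_rpush_of_affine_base (f ∣_ V) (fun t => (rD (f ⁻¹ᵁ V).ι).obj (C t))
    (fun t => H7QCoh.isQCohD_restrict _ (hC t))
  have h₀ : Bij (Sigma.ι C) := (bij_iff _).2 ⟨coproductIsCoproduct C⟩
  have h₁ : Bij fun t => (rD V.ι).map ((DCoh.Rpush f).map (Sigma.ι C t)) :=
    bij_of_natIso e.symm _ (bij_map (DCoh.Rpush (f ∣_ V)) _ (bij_map (rD (f ⁻¹ᵁ V).ι) _ h₀))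
  haveI := preserves_restrictD V.ι fun t => (DCoh.Rpush f).obj (C t)
  have h₂ : Bij fun t => (rD V.ι).map (Sigma.ι (fun t => (DCoh.Rpush f).obj (C t)) t) :=
    bij_map (rD V.ι) _ ((bij_iff fun t => Sigma.ι (fun t => (DCoh.Rpush f).obj (C t)) t).2 ⟨coproductIsCoproduct _⟩)
  let e' := ((bij_iff _).1 h₂).some.coconePointUniqueUpToIso ((bij_iff _).1 h₁).some
  have he : e'.hom = (rD V.ι).map (sigmaComparison (DCoh.Rpush f) C) := (h₂ _).1 (funext fun t => by
    show (rD V.ι).map _ ≫ e'.hom = (rD V.ι).map _ ≫ (rD V.ι).map _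
    rw [← Functor.map_comp, ι_comp_sigmaComparison]
    exact IsColimit.comp_coconePointUniqueUpToIso_hom ((bij_iff _).1 h₂).some ((bij_iff _).1 h₁).some ⟨t⟩)
  rw [← he]
  infer_instance

end Groth.Agent.H7RpushCoprod
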