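import Groth.Agent.Lib.H7RpushCalc
import Groth.Agent.Lib.LExtZero
import Mathlib

/-! `Rf_*` commutes with restriction to opens of the base. -/

universe u v w
open CategoryTheory Limits AlgebraicGeometry Opposite TopologicalSpace

namespace Groth.Agent.H7RpushLocal
open Groth.Agent

attribute [local instance] HasDerivedCategory.standard

section
variable {X Y : Scheme.{u}} (f : X ⟶ Y) (V : Y.Opens)

set_option backward.isDefEq.respectTransparency.types true in
/-- `(f_* M)|_V = g_*(M|_U)` -/
noncomputable def restrictPushIso :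
    Scheme.Modules.pushforward f ⋙ Scheme.Modules.restrictFunctor V.ι ≅
      Scheme.Modules.restrictFunctor (f ⁻¹ᵁ V).ι ⋙ Scheme.Modules.pushforward (f ∣_ V) :=
  letI := CategoryTheory.Functor.isContinuous_comp.{u} V.ι.opensFunctor (Opens.map f.base)
    (Opens.grothendieckTopology V.toScheme) (Opens.grothendieckTopology Y) (Opens.grothendieckTopology X)
  letI := CategoryTheory.Functor.isContinuous_comp.{u} (Opens.map (f ∣_ V).base) (f ⁻¹ᵁ V).ι.opensFunctor
    (Opens.grothendieckTopology V.toScheme) (Opens.grothendieckTopology (f ⁻¹ᵁ V).toScheme) (Opens.grothendieckTopology X)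
  SheafOfModules.pushforwardComp _ _ ≪≫ SheafOfModules.pushforwardNatIso _
      (NatIso.ofComponents (fun W ↦ eqToIso (image_morphismRestrict_preimage f V W)) fun _ ↦ rfl :
        Opens.map (f ∣_ V).base ⋙ (f ⁻¹ᵁ V).ι.opensFunctor ≅ V.ι.opensFunctor ⋙ Opens.map f.base) ≪≫
    SheafOfModules.pushforwardCongr (by
      ext W x
      simp [-morphismRestrict_app']
      exact congr($((morphismRestrict_app f V W.unop).symm).hom x)) ≪≫ (SheafOfModules.pushforwardComp _ _).symm

end

variable {U X : Scheme.{u}} (j : U ⟶ X) [IsOpenImmersion j]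

/-- restriction to an open preserves K-injective complexes -/
theorem isKInjective_restrict (I : CochainComplex X.Modules ℤ) (hI : I.IsKInjective) :
    CochainComplex.IsKInjective (((Scheme.Modules.restrictFunctor j).mapHomologicalComplex (ComplexShape.up ℤ)).obj I) :=
  haveI := LExtZero.preservesFiniteLimits_extZero j
  H5KApps.isKInjective_map_rightAdjoint (CxOX.extZeroAdj j) I hI

theorem nonempty_restrict_rpush {X Y : Scheme.{u}} (f : X ⟶ Y) (V : Y.Opens)
    [DCoh.HasRpush f] [DCoh.HasRpush (f ∣_ V)] :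
    Nonempty (DCoh.Rpush f ⋙ DCoh.restrictD V.ι ≅ DCoh.restrictD (f ⁻¹ᵁ V).ι ⋙ DCoh.Rpush (f ∣_ V)) := by
  let P := Scheme.Modules.pushforward f
  let P' := Scheme.Modules.pushforward (f ∣_ V)
  let r := Scheme.Modules.restrictFunctor V.ι
  let r' := Scheme.Modules.restrictFunctor (f ⁻¹ᵁ V).ι
  let c := ComplexShape.up ℤ
  let α₁ : (P ⋙ r).mapHomologicalComplex c ⋙ DerivedCategory.Q ⟶
      DerivedCategory.Q ⋙ (DCoh.Rpush f ⋙ DCoh.restrictD V.ι) :=
    Functor.whiskerRight (Functor.mapHomologicalComplexCompIso (Iso.refl (P ⋙ r)) c).inv _ ≫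
      (Functor.associator _ _ _).hom ≫ Functor.whiskerLeft _ r.mapDerivedCategoryFactors.inv ≫
      (Functor.associator _ _ _).inv ≫ Functor.whiskerRight (H7RpushCalc.beta f) (DCoh.restrictD V.ι) ≫
      (Functor.associator _ _ _).hom
  let α₂ : (P ⋙ r).mapHomologicalComplex c ⋙ DerivedCategory.Q ⟶
      DerivedCategory.Q ⋙ (DCoh.restrictD (f ⁻¹ᵁ V).ι ⋙ DCoh.Rpush (f ∣_ V)) :=
    Functor.whiskerRight (NatIso.mapHomologicalComplex (restrictPushIso f V) c).hom _ ≫
      Functor.whiskerRight (Functor.mapHomologicalComplexCompIso (Iso.refl (r' ⋙ P')) c).inv _ ≫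
      (Functor.associator _ _ _).hom ≫ Functor.whiskerLeft _ (H7RpushCalc.beta (f ∣_ V)) ≫
      (Functor.associator _ _ _).inv ≫ Functor.whiskerRight r'.mapDerivedCategoryFactors.inv (DCoh.Rpush (f ∣_ V)) ≫
      (Functor.associator _ _ _).hom
  have hR := H5KApps.resolving_Q (A := X.Modules) H5KApps.enoughKInj_of_grothendieck
  have hF := H5KApps.compat_Q (P ⋙ r)
  let W := HomologicalComplex.quasiIso X.Modules c
  have h₁ : (DCoh.Rpush f ⋙ DCoh.restrictD V.ι).IsRightDerivedFunctor α₁ W := by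
    refine (hR.isRightDerived_iff hF W _ α₁).2 fun I hI => ?_
    have := H7RpushCalc.isIso_beta f I hI
    simp only [α₁, NatTrans.comp_app, Functor.whiskerRight_app, Functor.whiskerLeft_app]
    infer_instance
  have h₂ : (DCoh.restrictD (f ⁻¹ᵁ V).ι ⋙ DCoh.Rpush (f ∣_ V)).IsRightDerivedFunctor α₂ W := by
    refine (hR.isRightDerived_iff hF W _ α₂).2 fun I hI => ?_
    have := H7RpushCalc.isIso_beta (f ∣_ V) _ (isKInjective_restrict (f ⁻¹ᵁ V).ι I hI)
    simp only [α₂, NatTrans.comp_app, Functor.whiskerRight_app, Functor.whiskerLeft_app]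
    infer_instance
  exact ⟨Functor.rightDerivedUnique _ _ α₁ α₂ W⟩

end Groth.Agent.H7RpushLocal
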