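/-
Restriction of scalars and relative pseudo-coherence.
-/
import Mathlib
import Groth.Prelude.Def_DRing2
import Groth.Prelude.Def_DDual2
import Groth.Prelude.Def_DTen4
import Groth.Prelude.Def_DerCA
import Groth.Agent.Lib.H5WayOut
import Groth.Agent.Lib.PseudoCoherentRing
import Groth.Agent.Lib.PseudoCoherentRingMore
import Groth.Agent.S6938
import Groth.Agent.S6939
import Groth.Agent.S6935
import Groth.Agent.S6942

universe u v w

open CategoryTheory Limits Pretriangulated HomologicalComplex Groth.Agent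
open scoped ZeroObject
open Groth.Agent.PseudoCoherentRing Groth.Agent.PseudoCoherentRingMore

attribute [local instance] HasDerivedCategory.standard

namespace Groth.Agent.PseudoCoherentRestrict


variable {A B : Type u} [CommRing A] [CommRing B] (φ : A →+* B)

/-- restriction on derived categories -/
noncomputable abbrev rD : Dual.D B ⥤ Dual.D A := DRing.restrictD φ

/-- restriction of modules -/
noncomputable abbrev rM : ModuleCat.{u} B ⥤ ModuleCat.{u} A := ModuleCat.restrictScalars.{u} φ

theorem nonempty_rD_inD (M : ModuleCat.{u} B) :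
    Nonempty ((rD φ).obj (Dual.inD B M) ≅ Dual.inD A ((rM φ).obj M)) :=
  ⟨((ModuleCat.restrictScalars.{u} φ).mapDerivedCategorySingleFunctor 0).app M⟩

theorem nonempty_HF_rD (K : Dual.D B) (i : ℤ) :
    Nonempty ((HF A i).obj ((rD φ).obj K) ≅ (rM φ).obj ((HF B i).obj K)) :=
  H5WayOut.mapDerived_H (ModuleCat.restrictScalars.{u} φ) K i

theorem vanish_rD {K : Dual.D B} {m : ℤ} : Vanish m ((rD φ).obj K) ↔ Vanish m K := by
  simp only [vanish_iff_subsingleton]
  refine forall₂_congr fun i _ => ?_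
  obtain ⟨e⟩ := nonempty_HF_rD φ K i
  exact ⟨fun h => @Equiv.subsingleton _ _ e.toLinearEquiv.toEquiv.symm h,
    fun h => @Equiv.subsingleton _ _ e.toLinearEquiv.toEquiv h⟩

theorem mI_rD {K L : Dual.D B} {α : K ⟶ L} {m : ℤ} (h : MI m α) : MI m ((rD φ).map α) := by
  obtain ⟨C, g, δ, hT⟩ := distinguished_cocone_triangle α
  exact (mI_iff _ ((rD φ).map_distinguished _ hT) m).2 ((vanish_rD φ).2 ((mI_iff _ hT m).1 h))

theorem finite_of_restrict (M : ModuleCat.{u} B) [Module.Finite A ((rM φ).obj M)] : Module.Finite B M := by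
  classical
  obtain ⟨n, s, hs⟩ := Module.Finite.exists_fin (R := A) (M := (rM φ).obj M)
  refine Module.Finite.of_fg_top ⟨Finset.univ.image (fun i => (show (M : Type u) from s i)), ?_⟩
  rw [Finset.coe_image, Finset.coe_univ, Set.image_univ, eq_top_iff]
  rintro x -
  have hx : (show ((rM φ).obj M : Type u) from x) ∈ Submodule.span A (Set.range s) := hs.ge Submodule.mem_top
  obtain ⟨c, hc⟩ := (Submodule.mem_span_range_iff_exists_fun A).1 hx
  exact (Submodule.mem_span_range_iff_exists_fun B).2 ⟨fun i => φ (c i), hc⟩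

theorem inD_free_induction (Φ : Dual.D A → Prop) (hiso : ∀ {X Y : Dual.D A}, (X ≅ Y) → Φ X → Φ Y)
    (hzero : ∀ X, IsZero X → Φ X)
    (hext : ∀ T : Triangle (Dual.D A), T ∈ distTriang _ → Φ T.obj₁ → Φ T.obj₃ → Φ T.obj₂)
    (hB : Φ (Dual.inD A ((rM φ).obj (ModuleCat.of B B)))) :
    ∀ n : ℕ, Φ (Dual.inD A ((rM φ).obj (ModuleCat.of B (Fin n → B)))) := by
  let G := rM φ ⋙ DerivedCategory.singleFunctor (ModuleCat.{u} A) 0
  have : G.Additive := inferInstance
  have : PreservesBinaryBiproducts G := preservesBinaryBiproducts_of_preservesBiproducts _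
  suffices h : ∀ n : ℕ, Φ (G.obj (ModuleCat.of B (Fin n → B))) from h
  have hB' : Φ (G.obj (ModuleCat.of B B)) := hB
  intro n
  induction n with
  | zero => exact hzero _ (G.map_isZero (ModuleCat.isZero_of_subsingleton (ModuleCat.of B (Fin 0 → B))))
  | succ n ih =>
    refine hiso ?_ (hext _ (binaryBiproductTriangle_distinguished (G.obj (ModuleCat.of B B))
      (G.obj (ModuleCat.of B (Fin n → B)))) hB' ih)
    exact (G.mapBiprod (ModuleCat.of B B) (ModuleCat.of B (Fin n → B))).symm ≪≫ G.mapIso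
      (ModuleCat.biprodIsoProd (ModuleCat.of B B) (ModuleCat.of B (Fin n → B)) ≪≫
        (Fin.consLinearEquiv B (fun _ : Fin (n + 1) => B)).toModuleIso)

theorem isPseudo_inD_free (m : ℤ) (hB : DRing.IsPseudoCoherent A m (Dual.inD A ((rM φ).obj (ModuleCat.of B B))))
    (M : ModuleCat.{u} B) [Module.Finite B M] [Module.Free B M] :
    DRing.IsPseudoCoherent A m (Dual.inD A ((rM φ).obj M)) := by
  let bs := Module.Free.chooseBasis B M
  let e : M ≃ₗ[B] (Fin (Fintype.card (Module.Free.ChooseBasisIndex B M)) → B) :=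
    (bs.reindex (Fintype.equivFin _)).equivFun
  exact isPseudo_of_iso ((DerivedCategory.singleFunctor (ModuleCat.{u} A) 0).mapIso ((rM φ).mapIso e.symm.toModuleIso))
    (inD_free_induction φ (DRing.IsPseudoCoherent A m) (fun e => isPseudo_of_iso e) (fun X hX => isPseudo_zero m hX)
      (fun T hT => isPseudo₂ T hT) hB _)

theorem isPseudo_rD_ff (hB : ∀ j, DRing.IsPseudoCoherent A j (Dual.inD A ((rM φ).obj (ModuleCat.of B B))))
    {E : DRing.Cx B} {a b : ℤ} (h1 : DRing.VanishesOutside E a b) (h2 : DRing.TermwiseFiniteFree E) (m : ℤ) :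
    DRing.IsPseudoCoherent A m ((rD φ).obj (DRing.toD E)) := by
  refine isPseudo_of_iso ((DTen.resFactors φ).app E).symm ?_
  refine term_induction (DRing.IsPseudoCoherent A m) (fun e => isPseudo_of_iso e) (fun X hX => isPseudo_zero m hX)
    (fun T hT => isPseudo₂ T hT) ((b - a).toNat + 1) ((DTen.resCx φ).obj E) a b (by omega)
    (fun i hi => (rM φ).map_isZero (h1 i hi)) (fun i _ _ => ?_)
  have := (h2 i).1; have := (h2 i).2
  exact isPseudo_shift (isPseudo_inD_free φ (m - i) (hB _) (E.X i)) (-i) m (by omega)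

theorem isPseudo_rD (hB : ∀ j, DRing.IsPseudoCoherent A j (Dual.inD A ((rM φ).obj (ModuleCat.of B B))))
    {K : Dual.D B} {m : ℤ} (h : DRing.IsPseudoCoherent B m K) :
    DRing.IsPseudoCoherent A m ((rD φ).obj K) := by
  obtain ⟨E, a, b, α, h1, h2, h3⟩ := (isPseudo_iff m K).1 h
  exact isPseudo_of_mI (mI_rD φ h3) (isPseudo_rD_ff φ hB h1 h2 m)

theorem isPseudo_of_rD (hB : ∀ j, DRing.IsPseudoCoherent A j (Dual.inD A ((rM φ).obj (ModuleCat.of B B))))
    {K : Dual.D B} {m : ℤ} (h : DRing.IsPseudoCoherent A m ((rD φ).obj K)) :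
    DRing.IsPseudoCoherent B m K := by
  let e := DerivedCategory.Q.objObjPreimageIso K
  let K₀ := DerivedCategory.Q.objPreimage K
  replace h : DRing.IsPseudoCoherent A m ((rD φ).obj (DRing.toD K₀)) :=
    isPseudo_of_iso ((rD φ).mapIso e.symm) h
  obtain ⟨N, hmN, hN⟩ := exists_vanish h
  refine isPseudo_of_iso e ?_
  suffices hM : ∀ n : ℕ, m ≤ N - n → Nonempty (Model K₀ N n) by
    obtain ⟨M⟩ := hM (N - m).toNat (by omega)
    exact (isPseudo_iff m _).2 ⟨M.E, _, _, DerivedCategory.Q.map M.f, M.van, M.ff,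
      (mI_iff_ex M.f m).2 fun j hj => M.ex j (by omega)⟩
  intro n
  induction n with
  | zero => exact fun _ => nonempty_model_zero ((vanish_rD φ).1 hN)
  | succ n ih =>
    intro hn
    obtain ⟨M⟩ := ih (by omega)
    let j := N - (n + 1 : ℕ)
    let T := DerivedCategory.Q.mapTriangle.obj (CochainComplex.mappingCone.triangle M.f)
    have hT : T ∈ distTriang _ := (DerivedCategory.mem_distTriang_iff _).2 ⟨_, _, _, ⟨Iso.refl _⟩⟩
    have hC : DRing.IsPseudoCoherent A j ((rD φ).obj T.obj₃) :=
      isPseudo₃ _ ((rD φ).map_distinguished _ hT) (isPseudo_rD_ff φ hB M.van M.ff (j + 1)) (isPseudo_mono h hn)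
    have hv : Vanish (j + 1) T.obj₃ := (mI_iff _ hT (j + 1)).1 ((mI_iff_ex M.f (j + 1)).2 fun i hi => M.ex i (by omega))
    have := finite_top hC ((vanish_rD φ).2 hv)
    obtain ⟨eH⟩ := nonempty_HF_rD φ T.obj₃ j
    have : Module.Finite A ((rM φ).obj ((HF B j).obj T.obj₃)) := Module.Finite.equiv eH.toLinearEquiv
    have := finite_of_restrict φ ((HF B j).obj T.obj₃)
    have : Module.Finite B ((CochainComplex.mappingCone M.f).homology j) := by
      have : Module.Finite B ((DerivedCategory.Q ⋙ DerivedCategory.homologyFunctor (ModuleCat.{u} B) j).obj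
          (CochainComplex.mappingCone M.f)) := finite_of_restrict φ ((HF B j).obj T.obj₃)
      exact Module.Finite.equiv
        ((DerivedCategory.homologyFunctorFactors (ModuleCat.{u} B) j).app (CochainComplex.mappingCone M.f)).toLinearEquiv
    obtain ⟨E', f', -, h1, h2, -, -, h5⟩ := exists_step (m := j) M.f M.van M.ff (fun i hi => M.ex i (by omega))
    exact ⟨⟨E', f', fun i hi => h1 i (by omega), h2, h5⟩⟩

theorem hB_algebra {A B : Type u} [CommRing A] [CommRing B] [Algebra A B]
    (hB : DRing.IsPseudoCoherentModule' A B) (j : ℤ) :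
    DRing.IsPseudoCoherent A j (Dual.inD A ((rM (algebraMap A B)).obj (ModuleCat.of B B))) := by
  let e0 : ((rM (algebraMap A B)).obj (ModuleCat.of B B) : Type u) ≃ₗ[A] B :=
    { toFun := fun x => x
      invFun := fun x => x
      left_inv := fun _ => rfl
      right_inv := fun _ => rfl
      map_add' := fun _ _ => rfl
      map_smul' := fun r x => (Algebra.smul_def r (A := B) x).symm }
  exact isPseudo_of_iso ((DerivedCategory.singleFunctor (ModuleCat.{u} A) 0).mapIso e0.toModuleIso.symm)
    (isPseudo'_iff.1 hB j)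

theorem hB_eval (R : Type u) [CommRing R] (j : ℤ) :
    DRing.IsPseudoCoherent (Polynomial R) j
      (Dual.inD (Polynomial R) ((rM (Polynomial.evalRingHom (0 : R))).obj (ModuleCat.of R R))) := by
  let ev := Polynomial.evalRingHom (0 : R)
  let f : ModuleCat.of (Polynomial R) (Polynomial R) ⟶ ModuleCat.of (Polynomial R) (Polynomial R) :=
    ModuleCat.ofHom (LinearMap.mulLeft (Polynomial R) Polynomial.X)
  let g : ModuleCat.of (Polynomial R) (Polynomial R) ⟶ (rM ev).obj (ModuleCat.of R R) :=
    ModuleCat.ofHom (X := Polynomial R) (Y := ((rM ev).obj (ModuleCat.of R R) : Type u))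
      { toFun := fun p => ev p
        map_add' := fun p q => map_add ev p q
        map_smul' := fun p q => map_mul ev p q }
  have hw : f ≫ g = 0 := ModuleCat.hom_ext (LinearMap.ext fun p => by
    change ev (Polynomial.X * p) = 0
    simp [ev])
  have hsurj : Function.Surjective ev := fun r => ⟨Polynomial.C r, Polynomial.eval_C⟩
  have hS : (ShortComplex.mk f g hw).ShortExact := by
    refine { exact := ?_, mono_f := ?_, epi_g := ?_ }
    · rw [ShortComplex.moduleCat_exact_iff]
      intro (p : Polynomial R) (hp : ev p = 0)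
      obtain ⟨q, hq⟩ := Polynomial.X_dvd_iff.2 (by simpa [ev, Polynomial.coeff_zero_eq_eval_zero] using hp)
      exact ⟨q, hq.symm⟩
    · rw [ModuleCat.mono_iff_injective]
      intro p q h
      exact (Polynomial.monic_X (R := R)).isRegular.left h
    · rw [ModuleCat.epi_iff_surjective]
      exact hsurj
  exact isPseudo₃ _ hS.singleTriangle_distinguished
    (isPseudo_inD (ModuleCat.of (Polynomial R) (Polynomial R)) _) (isPseudo_inD (ModuleCat.of (Polynomial R) (Polynomial R)) _)

/-- ring maps along which restriction reflects and preserves pseudo-coherence -/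
def PcMap {A B : Type u} [CommRing A] [CommRing B] (φ : A →+* B) : Prop :=
  ∀ j, DRing.IsPseudoCoherent A j (Dual.inD A ((rM φ).obj (ModuleCat.of B B)))

theorem PcMap.iff {A B : Type u} [CommRing A] [CommRing B] {φ : A →+* B} (h : PcMap φ) {K : Dual.D B} {m : ℤ} :
    DRing.IsPseudoCoherent A m ((rD φ).obj K) ↔ DRing.IsPseudoCoherent B m K :=
  ⟨isPseudo_of_rD φ h, isPseudo_rD φ h⟩

theorem nonempty_rD_comp {A B C : Type u} [CommRing A] [CommRing B] [CommRing C] (φ : A →+* B) (ψ : B →+* C)
    (χ : A →+* C) (h : χ = ψ.comp φ) (K : Dual.D C) :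
    Nonempty ((rD φ).obj ((rD ψ).obj K) ≅ (rD χ).obj K) := by
  let e := DerivedCategory.Q.objObjPreimageIso K
  let K₀ := DerivedCategory.Q.objPreimage K
  let c : (DTen.resCx χ).obj K₀ ≅ (DTen.resCx φ).obj ((DTen.resCx ψ).obj K₀) :=
    HomologicalComplex.Hom.isoOfComponents (fun i => ModuleCat.restrictScalarsComp'App φ ψ χ h (K₀.X i))
      (fun i j _ => ModuleCat.hom_ext (LinearMap.ext fun _ => rfl))
  exact ⟨(rD φ).mapIso ((rD ψ).mapIso e.symm ≪≫ (DTen.resFactors ψ).app K₀) ≪≫
    (DTen.resFactors φ).app _ ≪≫ DerivedCategory.Q.mapIso c.symm ≪≫ ((DTen.resFactors χ).app K₀).symm ≪≫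
    (rD χ).mapIso e⟩

theorem iff_comp {A B C : Type u} [CommRing A] [CommRing B] [CommRing C] {φ : A →+* B} (hφ : PcMap φ)
    (ψ : B →+* C) (χ : A →+* C) (h : χ = ψ.comp φ) (K : Dual.D C) (m : ℤ) :
    DRing.IsPseudoCoherent A m ((rD χ).obj K) ↔ DRing.IsPseudoCoherent B m ((rD ψ).obj K) := by
  obtain ⟨e⟩ := nonempty_rD_comp φ ψ χ h K
  exact ⟨fun h' => hφ.iff.1 (isPseudo_of_iso e.symm h'), fun h' => isPseudo_of_iso e (hφ.iff.2 h')⟩

theorem pcMap_of_finite_free {A B : Type u} [CommRing A] [CommRing B] (φ : A →+* B)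
    [Module.Finite A ((rM φ).obj (ModuleCat.of B B))] [Module.Free A ((rM φ).obj (ModuleCat.of B B))] : PcMap φ :=
  fun j => isPseudo_inD ((rM φ).obj (ModuleCat.of B B)) j

theorem pcMap_of_bijective {A B : Type u} [CommRing A] [CommRing B] (φ : A →+* B) (h : Function.Bijective φ) :
    PcMap φ := by
  let e : A ≃ₗ[A] ((rM φ).obj (ModuleCat.of B B) : Type u) :=
    LinearEquiv.ofBijective
      (show A →ₗ[A] ((rM φ).obj (ModuleCat.of B B) : Type u) from
      { toFun := fun a => φ a
        map_add' := fun a b => map_add φ a b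
        map_smul' := fun a b => map_mul φ a b }) h
  have : Module.Finite A ((rM φ).obj (ModuleCat.of B B)) := Module.Finite.equiv e
  have : Module.Free A ((rM φ).obj (ModuleCat.of B B)) := Module.Free.of_equiv e
  exact pcMap_of_finite_free φ

theorem pcMap_of_ses {P Q : Type u} [CommRing P] [CommRing Q] (φ : P →+* Q) (hφ : Function.Surjective φ) (p : P)
    (hp : IsLeftRegular p) (hker : ∀ a, φ a = 0 ↔ p ∣ a) : PcMap φ := by
  let f : ModuleCat.of P P ⟶ ModuleCat.of P P := ModuleCat.ofHom (LinearMap.mulLeft P p)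
  let g : ModuleCat.of P P ⟶ (rM φ).obj (ModuleCat.of Q Q) :=
    ModuleCat.ofHom (X := P) (Y := ((rM φ).obj (ModuleCat.of Q Q) : Type u))
      { toFun := fun a => φ a
        map_add' := fun a b => map_add φ a b
        map_smul' := fun a b => map_mul φ a b }
  have hw : f ≫ g = 0 := ModuleCat.hom_ext (LinearMap.ext fun a => (hker (p * a)).2 (dvd_mul_right p a))
  have hS : (ShortComplex.mk f g hw).ShortExact := by
    refine { exact := ?_, mono_f := ?_, epi_g := ?_ }
    · rw [ShortComplex.moduleCat_exact_iff]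
      intro (a : P) (ha : φ a = 0)
      obtain ⟨q, hq⟩ := (hker a).1 ha
      exact ⟨q, hq.symm⟩
    · rw [ModuleCat.mono_iff_injective]
      exact hp
    · rw [ModuleCat.epi_iff_surjective]
      exact hφ
  exact fun j => isPseudo₃ _ hS.singleTriangle_distinguished
    (isPseudo_inD (ModuleCat.of P P) _) (isPseudo_inD (ModuleCat.of P P) _)

theorem pc_iff_polynomial {P B : Type u} [CommRing P] [CommRing B] (ψ : P →+* B) (b : B)
    (hb : ∃ p : Polynomial P, p.Monic ∧ p.eval₂ ψ b = 0) (K : Dual.D B) (m : ℤ) :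
    DRing.IsPseudoCoherent P m ((rD ψ).obj K) ↔
      DRing.IsPseudoCoherent (Polynomial P) m ((rD (Polynomial.eval₂RingHom ψ b)).obj K) := by
  obtain ⟨p, hp, hpb⟩ := hb
  let π : AdjoinRoot p →+* B := AdjoinRoot.lift ψ b hpb
  have h1 : PcMap (AdjoinRoot.of p) := by
    have := hp.finite_adjoinRoot
    have := hp.free_adjoinRoot
    let e0 : AdjoinRoot p ≃ₗ[P] ((rM (AdjoinRoot.of p)).obj (ModuleCat.of (AdjoinRoot p) (AdjoinRoot p)) : Type u) :=
      { toFun := fun x => x
        invFun := fun x => x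
        left_inv := fun _ => rfl
        right_inv := fun _ => rfl
        map_add' := fun _ _ => rfl
        map_smul' := fun r x => Algebra.smul_def r x }
    have := Module.Finite.equiv e0
    have := Module.Free.of_equiv e0
    exact pcMap_of_finite_free _
  have h2 : PcMap (AdjoinRoot.mk p) :=
    pcMap_of_ses _ AdjoinRoot.mk_surjective p hp.isRegular.left fun a => AdjoinRoot.mk_eq_zero
  rw [iff_comp h1 π ψ (RingHom.ext fun x => (AdjoinRoot.lift_of hpb).symm) K m,
    iff_comp h2 π (Polynomial.eval₂RingHom ψ b) (RingHom.ext fun x => (AdjoinRoot.lift_mk hpb x).symm) K m]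

theorem pc_iff_mvPolynomial {B : Type u} [CommRing B] (K : Dual.D B) (m : ℤ) :
    ∀ (k : ℕ) {P : Type u} [CommRing P] (ψ : P →+* B) (b : Fin k → B),
      (∀ i, ∃ p : Polynomial P, p.Monic ∧ p.eval₂ ψ (b i) = 0) →
      (DRing.IsPseudoCoherent P m ((rD ψ).obj K) ↔
        DRing.IsPseudoCoherent (MvPolynomial (Fin k) P) m ((rD (MvPolynomial.eval₂Hom ψ b)).obj K)) := by
  intro k
  induction k with
  | zero =>
    intro P _ ψ b _
    have hC : Function.Bijective (MvPolynomial.C : P →+* MvPolynomial (Fin 0) P) :=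
      ⟨MvPolynomial.C_injective _ _, MvPolynomial.C_surjective _⟩
    exact iff_comp (pcMap_of_bijective _ hC) _ ψ (MvPolynomial.eval₂Hom_comp_C ψ b).symm K m
  | succ k ih =>
    intro P _ ψ b hb
    let Pk := MvPolynomial (Fin k) P
    let ψ' : Pk →+* B := MvPolynomial.eval₂Hom ψ (fun i => b i.succ)
    have h0 : ∃ p : Polynomial Pk, p.Monic ∧ p.eval₂ ψ' (b 0) = 0 := by
      obtain ⟨p, hp, hp0⟩ := hb 0
      refine ⟨p.map (MvPolynomial.C : P →+* Pk), hp.map _, ?_⟩
      rw [Polynomial.eval₂_map, MvPolynomial.eval₂Hom_comp_C, hp0]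
    rw [ih ψ (fun i => b i.succ) (fun i => hb i.succ), pc_iff_polynomial ψ' (b 0) h0 K m]
    refine (iff_comp (pcMap_of_bijective (MvPolynomial.finSuccEquiv P k).toRingEquiv.toRingHom
      (MvPolynomial.finSuccEquiv P k).bijective) _ _ ?_ K m).symm
    refine MvPolynomial.ringHom_ext (fun r => ?_) (fun i => ?_)
    · simp [ψ', MvPolynomial.finSuccEquiv_apply]
      exact (MvPolynomial.eval₂_C ψ _ r).symm
    · refine Fin.cases ?_ (fun j => ?_) i <;> simp [ψ', MvPolynomial.finSuccEquiv_apply]
      exact (MvPolynomial.eval₂Hom_X' ψ (fun i => b i.succ) j).symm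

theorem relVia_iff {R A : Type u} [CommRing R] [CommRing A] [Algebra R A] {n k : ℕ}
    (α : MvPolynomial (Fin n) R →ₐ[R] A) (hα : Function.Surjective α)
    (β : MvPolynomial (Fin k) R →ₐ[R] A) (K : Dual.D A) (m : ℤ) :
    DerCA.IsRelPseudoCoherentVia α m K ↔
      DRing.IsPseudoCoherent (MvPolynomial (Fin k) (MvPolynomial (Fin n) R)) m
        ((rD (MvPolynomial.eval₂Hom (α : MvPolynomial (Fin n) R →+* A) fun i => β (MvPolynomial.X i))).obj K) :=
  pc_iff_mvPolynomial K m k (α : MvPolynomial (Fin n) R →+* A) (fun i => β (MvPolynomial.X i)) fun i => by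
    obtain ⟨q, hq⟩ := hα (β (MvPolynomial.X i))
    refine ⟨Polynomial.X - Polynomial.C q, Polynomial.monic_X_sub_C q, ?_⟩
    simp [hq]

theorem relVia_iff_via {R A : Type u} [CommRing R] [CommRing A] [Algebra R A] {n k : ℕ}
    (α : MvPolynomial (Fin n) R →ₐ[R] A) (hα : Function.Surjective α)
    (β : MvPolynomial (Fin k) R →ₐ[R] A) (hβ : Function.Surjective β) (K : Dual.D A) (m : ℤ) :
    DerCA.IsRelPseudoCoherentVia α m K ↔ DerCA.IsRelPseudoCoherentVia β m K := by
  rw [relVia_iff α hα β K m, relVia_iff β hβ α K m]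
  refine iff_comp (pcMap_of_bijective (MvPolynomial.commAlgEquiv R (Fin k) (Fin n)).toRingEquiv.toRingHom
    (MvPolynomial.commAlgEquiv R (Fin k) (Fin n)).bijective) _ _ ?_ K m
  refine MvPolynomial.ringHom_ext (fun r => ?_) (fun i => ?_)
  · have : ∀ q : MvPolynomial (Fin n) R,
        (MvPolynomial.eval₂Hom (β : MvPolynomial (Fin k) R →+* A) fun i => α (MvPolynomial.X i))
          (MvPolynomial.commAlgEquiv R (Fin k) (Fin n) (MvPolynomial.C q)) = α q := by
      intro q
      induction q using MvPolynomial.induction_on with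
      | C a => simp [← MvPolynomial.algebraMap_eq]
      | add p q hp hq => simp only [map_add, hp, hq]
      | mul_X p i hp => simp only [map_mul, hp]; simp
    simpa using (this r).symm
  · simp

theorem isRel_iff_via {R A : Type u} [CommRing R] [CommRing A] [Algebra R A] {n : ℕ}
    (α : MvPolynomial (Fin n) R →ₐ[R] A) (hα : Function.Surjective α) (K : Dual.D A) (m : ℤ) :
    DerCA.IsRelPseudoCoherent R A m K ↔
      DRing.IsPseudoCoherent (MvPolynomial (Fin n) R) m ((rD (α : MvPolynomial (Fin n) R →+* A)).obj K) :=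
  ⟨fun ⟨_, β, hβ, h⟩ => (relVia_iff_via β hβ α hα K m).1 h, fun h => ⟨n, α, hα, h⟩⟩

theorem exists_pres (R A : Type u) [CommRing R] [CommRing A] [Algebra R A] [Algebra.FiniteType R A] :
    ∃ (n : ℕ) (α : MvPolynomial (Fin n) R →ₐ[R] A), Function.Surjective α :=
  Algebra.FiniteType.iff_quotient_mvPolynomial''.1 inferInstance

theorem finite_restrict_of_surjective {A B : Type u} [CommRing A] [CommRing B] (φ : A →+* B)
    (hφ : Function.Surjective φ) (M : ModuleCat.{u} B) [Module.Finite B M] : Module.Finite A ((rM φ).obj M) := by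
  classical
  obtain ⟨n, s, hs⟩ := Module.Finite.exists_fin (R := B) (M := M)
  refine Module.Finite.of_fg_top ⟨Finset.univ.image (fun i => (show ((rM φ).obj M : Type u) from s i)), ?_⟩
  rw [Finset.coe_image, Finset.coe_univ, Set.image_univ, eq_top_iff]
  rintro x -
  obtain ⟨c, hc⟩ := (Submodule.mem_span_range_iff_exists_fun B).1 (hs.ge (Submodule.mem_top (x := (show (M : Type u) from x))))
  choose d hd using fun i => hφ (c i)
  refine (Submodule.mem_span_range_iff_exists_fun A).2 ⟨d, Eq.trans ?_ hc⟩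
  exact Finset.sum_congr rfl fun i _ => congrArg (fun t => t • (show (M : Type u) from s i)) (hd i)

theorem isRelModule_iff {R A : Type u} [CommRing R] [CommRing A] [Algebra R A] {n : ℕ}
    (α : MvPolynomial (Fin n) R →ₐ[R] A) (hα : Function.Surjective α) (M : Type u) [AddCommGroup M] [Module A M] (m : ℤ) :
    DerCA.IsRelPseudoCoherentModule R A m M ↔
      DRing.IsPseudoCoherentModule (MvPolynomial (Fin n) R) m
        ((rM (α : MvPolynomial (Fin n) R →+* A)).obj (ModuleCat.of A M)) := by
  obtain ⟨e⟩ := nonempty_rD_inD (α : MvPolynomial (Fin n) R →+* A) (ModuleCat.of A M)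
  exact (isRel_iff_via α hα _ m).trans ⟨isPseudo_of_iso e, isPseudo_of_iso e.symm⟩

theorem isPerfect_summand' {K L : Dual.D A} [HasBinaryBiproduct K L] (h : DRing.IsPerfect A (K ⊞ L)) :
    DRing.IsPerfect A K :=
  isPerfect_summand h

theorem extend_finite_projective {A B : Type u} [CommRing A] [CommRing B] (φ : A →+* B) (M : ModuleCat.{u} A)
    [Module.Finite A M] [Module.Projective A M] :
    Module.Finite B ((ModuleCat.extendScalars.{u, u, u} φ).obj M) ∧
      Module.Projective B ((ModuleCat.extendScalars.{u, u, u} φ).obj M) := by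
  letI := φ.toAlgebra
  exact ⟨inferInstanceAs (Module.Finite B (TensorProduct A B M)),
    inferInstanceAs (Module.Projective B (TensorProduct A B M))⟩

theorem isPerfect_extCx {A B : Type u} [CommRing A] [CommRing B] (φ : A →+* B) (hφ : φ.Flat) {K : DRing.Cx A}
    (h : DRing.IsPerfect A (DRing.toD K)) : DRing.IsPerfect B (DRing.toD ((extCx φ).obj K)) := by
  obtain ⟨E, a, b, h1, h2, ⟨e⟩⟩ := h
  have := H5Perf.isKProjective_of_vanishesOutside E a b h1 h2
  obtain ⟨q, hq⟩ := H5DTen.surj_of_kproj (K := E) e.hom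
  have hqi : IsIso (DerivedCategory.Q.map ((extCx φ).map q)) := by
    rw [DerivedCategory.isIso_Q_map_iff_quasiIso]
    refine ⟨fun j => ?_⟩
    rw [quasiIsoAt_iff_isIso_homologyMap]
    have h := mI_extCx φ hφ q (m := j - 1) (by rw [hq]; exact mI_of_isIso _ _)
    exact (NatIso.isIso_map_iff (DerivedCategory.homologyFunctorFactors _ j) _).1 (h.1 j (by omega))
  exact ⟨(extCx φ).obj E, a, b, fun i hi => (ModuleCat.extendScalars.{u, u, u} φ).map_isZero (h1 i hi),
    fun i => have := (h2 i).1; have := (h2 i).2; extend_finite_projective φ (E.X i), ⟨asIso (DerivedCategory.Q.map ((extCx φ).map q))⟩⟩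

end Groth.Agent.PseudoCoherentRestrict
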