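import Groth.Agent.S7268
import Groth.Agent.Lib.H7RpushCoprod
import Groth.Agent.Lib.H7RpushLocal
import Groth.Agent.Lib.H7TildePerf
import Groth.Agent.Lib.H7PseudoSummand
import Groth.Agent.Lib.PseudoCoherentRestrict
import Mathlib

/-! Pseudo-coherence of direct images along affine morphisms of complexes in `D_QCoh`. -/

universe u
open CategoryTheory Limits AlgebraicGeometry Opposite

namespace Groth.Agent.H7AffPseudo
open Groth.Agent H7KFlatSheaf H7PerfPull H7FinFree H7LocLift H7PerfTri H7PseudoPull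

attribute [local instance] HasDerivedCategory.standard

variable {X Y : Scheme.{u}}

/-- restriction of the structure module -/
theorem nonempty_restrict_structure (j : X ⟶ Y) [IsOpenImmersion j] :
    Nonempty ((Scheme.Modules.restrictFunctor j).obj (Coh.structureModule Y) ≅ Coh.structureModule X) :=
  ⟨(Scheme.Modules.restrictFunctorIsoPullback j).app _ ≪≫ pullStructureIso j⟩

/-- `Rg_*` on single objects restricted to opens -/
theorem nonempty_rD_inD (j : X ⟶ Y) [IsOpenImmersion j] (M : Y.Modules) :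
    Nonempty ((rD j).obj (DCoh.inD Y M) ≅ DCoh.inD X ((Scheme.Modules.restrictFunctor j).obj M)) :=
  ⟨((Scheme.Modules.restrictFunctor j).mapDerivedCategorySingleFunctor 0).app M⟩

/-- pseudo-coherence is invariant under isomorphisms of schemes -/
theorem isPseudo_rD_iff (j : X ⟶ Y) [IsOpenImmersion j] [IsIso j] (m : ℤ) (E : DCoh.D Y) :
    DCoh.IsPseudoCoherentD m ((rD j).obj E) ↔ DCoh.IsPseudoCoherentD m E := by
  refine ⟨fun h => ?_, H7PseudoSummand.isPseudo_rD j⟩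
  exact H7PseudoTri.isPseudo_of_iso (rDComp (inv j) j (𝟙 Y) (IsIso.inv_hom_id j) E ≪≫
    (H7RpushQCoh.nonempty_rD_id (𝟙 Y) rfl E).some) (H7PseudoSummand.isPseudo_rD (inv j) h)

section affine

variable [IsAffine X] [IsAffine Y] (g : X ⟶ Y)

/-- direct image of `M~` between affine schemes -/
theorem nonempty_pushAff :
    Nonempty (tilde.functor Γ(X, ⊤) ⋙ Scheme.Modules.restrictFunctor X.isoSpec.hom ⋙ Scheme.Modules.pushforward g ⋙
      Scheme.Modules.restrictFunctor Y.isoSpec.inv ≅ ModuleCat.restrictScalars.{u} g.appTop.hom ⋙ tilde.functor Γ(Y, ⊤)) := by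
  haveI := LQcoh.preservesFiniteLimits_tilde Γ(X, ⊤)
  obtain ⟨e⟩ := Groth.Agent.S7268.nonempty_tildePush g.appTop.hom
  have h : X.isoSpec.inv ≫ g ≫ Y.isoSpec.hom = Spec.map g.appTop := by
    rw [← Scheme.isoSpec_hom_naturality, Iso.inv_hom_id_assoc]
  exact ⟨Functor.isoWhiskerLeft _ (Functor.isoWhiskerRight (H7RpushCoprod.restrictIsoPush X.isoSpec) _ ≪≫
      Functor.isoWhiskerLeft _ (Functor.isoWhiskerLeft _ (H7RpushCoprod.restrictIsoPush Y.isoSpec.symm) ≪≫
        Scheme.Modules.pushforwardComp g Y.isoSpec.hom) ≪≫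
      Scheme.Modules.pushforwardComp X.isoSpec.inv (g ≫ Y.isoSpec.hom) ≪≫ Scheme.Modules.pushforwardCongr h) ≪≫ e⟩

/-- an object of `D_QCoh` on an affine scheme and its direct image, as complexes of modules -/
theorem exists_model [DCoh.HasRpush g] (E : DCoh.D X) (hE : DCoh.IsQCohD E)
    [PreservesFiniteLimits (tilde.functor Γ(X, ⊤))] [PreservesFiniteLimits (tilde.functor Γ(Y, ⊤))] :
    ∃ M : Dual.D Γ(X, ⊤), Nonempty ((DCoh.tildeD Γ(X, ⊤)).obj M ≅ (rD X.isoSpec.inv).obj E) ∧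
      Nonempty ((rD Y.isoSpec.inv).obj ((DCoh.Rpush g).obj E) ≅
        (DCoh.tildeD Γ(Y, ⊤)).obj ((DRing.restrictD g.appTop.hom).obj M)) := by
  obtain ⟨M, ⟨e⟩⟩ := H7TildeEquiv.mem_essImage _ (H7QCoh.isQCohD_restrict X.isoSpec.inv hE)
  obtain ⟨p⟩ := nonempty_pushAff g
  haveI : IsAffineHom g := isAffineHom_of_isAffine _
  let K := DerivedCategory.Q.objPreimage M
  let eK : DerivedCategory.Q.obj K ≅ M := DerivedCategory.Q.objObjPreimageIso M
  let c := ComplexShape.up ℤ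
  let T := ((tilde.functor Γ(X, ⊤)).mapHomologicalComplex c).obj K
  let F := ((Scheme.Modules.restrictFunctor X.isoSpec.hom).mapHomologicalComplex c).obj T
  have hF : ∀ n, Coh.IsQCoh (F.X n) := fun n => H7QCoh.isQCoh_restrict X.isoSpec.hom (H7TildeEquiv.qcoh_tilde _)
  let eE : DerivedCategory.Q.obj F ≅ E := (rQ X.isoSpec.hom _).symm ≪≫
    (rD X.isoSpec.hom).mapIso ((H7TildeEquiv.fac (R := Γ(X, ⊤)) K).symm ≪≫ (DCoh.tildeD Γ(X, ⊤)).mapIso eK ≪≫ e) ≪≫
    rDComp X.isoSpec.hom X.isoSpec.inv (𝟙 X) X.isoSpec.hom_inv_id E ≪≫ (H7RpushQCoh.nonempty_rD_id (𝟙 X) rfl E).some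
  haveI := H7AffinePush.isIso_beta g hF
  let r := ModuleCat.restrictScalars.{u} g.appTop.hom
  let ec : ((Scheme.Modules.restrictFunctor Y.isoSpec.inv).mapHomologicalComplex c).obj ((H7RpushCalc.pushCx g).obj F) ≅
      ((tilde.functor Γ(Y, ⊤)).mapHomologicalComplex c).obj ((r.mapHomologicalComplex c).obj K) :=
    HomologicalComplex.Hom.isoOfComponents (fun n => p.app (K.X n)) (fun i j _ => (p.hom.naturality (K.d i j)).symm)
  refine ⟨M, ⟨e⟩, ⟨(rD Y.isoSpec.inv).mapIso ((DCoh.Rpush g).mapIso eE.symm ≪≫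
    (asIso ((H7RpushCalc.beta g).app F)).symm) ≪≫ rQ Y.isoSpec.inv _ ≪≫ DerivedCategory.Q.mapIso ec ≪≫
    (H7TildeEquiv.fac (R := Γ(Y, ⊤)) _).symm ≪≫ (DCoh.tildeD Γ(Y, ⊤)).mapIso
      ((r.mapDerivedCategoryFactors.app K).symm ≪≫ (DRing.restrictD g.appTop.hom).mapIso eK)⟩⟩

/-- pseudo-coherence of `g_* O_X` as pseudo-coherence of the ring map -/
theorem pcMap_of_pseudo
    (hO : ∀ m : ℤ, DCoh.IsPseudoCoherentD m (DCoh.inD Y ((Scheme.Modules.pushforward g).obj (Coh.structureModule X)))) :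
    PseudoCoherentRestrict.PcMap g.appTop.hom := fun m => by
  haveI := LQcoh.preservesFiniteLimits_tilde Γ(Y, ⊤)
  obtain ⟨p⟩ := nonempty_pushAff g
  obtain ⟨e₁⟩ := nonempty_restrict_structure (X := X) (Y := Spec Γ(X, ⊤)) X.isoSpec.hom
  obtain ⟨e₂⟩ := nonempty_rD_inD Y.isoSpec.inv ((Scheme.Modules.pushforward g).obj (Coh.structureModule X))
  have h := H7PseudoTri.isPseudo_of_iso e₂ ((isPseudo_rD_iff Y.isoSpec.inv m _).2 (hO m))
  let q : (Scheme.Modules.restrictFunctor Y.isoSpec.inv).obj ((Scheme.Modules.pushforward g).obj (Coh.structureModule X)) ≅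
      (tilde.functor Γ(Y, ⊤)).obj ((ModuleCat.restrictScalars.{u} g.appTop.hom).obj (ModuleCat.of Γ(X, ⊤) Γ(X, ⊤))) :=
    (Scheme.Modules.restrictFunctor Y.isoSpec.inv).mapIso ((Scheme.Modules.pushforward g).mapIso
      (e₁.symm ≪≫ (Scheme.Modules.restrictFunctor X.isoSpec.hom).mapIso (tildeSelf (R := Γ(X, ⊤))).symm)) ≪≫ p.app _
  exact (H7TildePerf.isPseudo_iff_tildeD _ m).1 (H7PseudoTri.isPseudo_of_iso
    ((DerivedCategory.singleFunctor _ 0).mapIso q ≪≫
      (((tilde.functor Γ(Y, ⊤)).mapDerivedCategorySingleFunctor 0).app _).symm) h)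

/-- pseudo-coherence of direct images between affine schemes -/
theorem isPseudo_iff_affine [DCoh.HasRpush g]
    (hO : ∀ m : ℤ, DCoh.IsPseudoCoherentD m (DCoh.inD Y ((Scheme.Modules.pushforward g).obj (Coh.structureModule X))))
    (E : DCoh.D X) (hE : DCoh.IsQCohD E) (m : ℤ) :
    DCoh.IsPseudoCoherentD m E ↔ DCoh.IsPseudoCoherentD m ((DCoh.Rpush g).obj E) := by
  haveI := LQcoh.preservesFiniteLimits_tilde Γ(X, ⊤)
  haveI := LQcoh.preservesFiniteLimits_tilde Γ(Y, ⊤)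
  obtain ⟨M, ⟨e₁⟩, ⟨e₂⟩⟩ := exists_model g E hE
  have hX := isPseudo_rD_iff X.isoSpec.inv m E
  have hY := isPseudo_rD_iff Y.isoSpec.inv m ((DCoh.Rpush g).obj E)
  rw [← hX, ← hY]
  exact ((⟨H7PseudoTri.isPseudo_of_iso e₁.symm, H7PseudoTri.isPseudo_of_iso e₁⟩ : _ ↔ _).trans
    (H7TildePerf.isPseudo_iff_tildeD (A := Γ(X, ⊤)) M m)).trans
    (((pcMap_of_pseudo g hO).iff.symm.trans (H7TildePerf.isPseudo_iff_tildeD (A := Γ(Y, ⊤)) _ m).symm).trans
      ⟨H7PseudoTri.isPseudo_of_iso e₂.symm, H7PseudoTri.isPseudo_of_iso e₂⟩)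

end affine

/-- pseudo-coherence of direct images along affine morphisms -/
theorem isPseudo_iff (f : X ⟶ Y) [IsAffineHom f] [DCoh.HasRpush f]
    (hO : ∀ m : ℤ, DCoh.IsPseudoCoherentD m (DCoh.inD Y ((Scheme.Modules.pushforward f).obj (Coh.structureModule X))))
    (E : DCoh.D X) (hE : DCoh.IsQCohD E) (m : ℤ) :
    DCoh.IsPseudoCoherentD m E ↔ DCoh.IsPseudoCoherentD m ((DCoh.Rpush f).obj E) := by
  have key : ∀ V : Y.Opens, IsAffineOpen V →
      (DCoh.IsPseudoCoherentD m ((rD (f ⁻¹ᵁ V).ι).obj E) ↔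
        DCoh.IsPseudoCoherentD m ((rD V.ι).obj ((DCoh.Rpush f).obj E))) := fun V hV => by
    haveI : IsAffine V.toScheme := hV
    haveI : IsAffine (f ⁻¹ᵁ V).toScheme := hV.preimage f
    haveI := H7MV.hasRpush (f ∣_ V)
    obtain ⟨e⟩ := H7RpushLocal.nonempty_restrict_rpush f V
    have hO' : ∀ m : ℤ, DCoh.IsPseudoCoherentD m
        (DCoh.inD V.toScheme ((Scheme.Modules.pushforward (f ∣_ V)).obj (Coh.structureModule (f ⁻¹ᵁ V).toScheme))) := fun m => by
      obtain ⟨e₁⟩ := nonempty_restrict_structure (f ⁻¹ᵁ V).ι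
      obtain ⟨e₂⟩ := nonempty_rD_inD V.ι ((Scheme.Modules.pushforward f).obj (Coh.structureModule X))
      exact H7PseudoTri.isPseudo_of_iso (e₂ ≪≫ (DerivedCategory.singleFunctor _ 0).mapIso
        ((H7RpushLocal.restrictPushIso f V).app _ ≪≫ (Scheme.Modules.pushforward (f ∣_ V)).mapIso e₁))
        (H7PseudoSummand.isPseudo_rD V.ι (hO m))
    exact (isPseudo_iff_affine (f ∣_ V) hO' _ (H7QCoh.isQCohD_restrict _ hE) m).trans
      ⟨H7PseudoTri.isPseudo_of_iso (e.app E).symm, H7PseudoTri.isPseudo_of_iso (e.app E)⟩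
  constructor
  · intro h
    refine H7PseudoSummand.isPseudo_local fun y => ?_
    obtain ⟨V, hV, hy, -⟩ := exists_isAffineOpen_mem_and_subset (X := Y) (x := y) (U := (⊤ : Y.Opens)) trivial
    exact ⟨V, hy, (key V hV).1 (H7PseudoSummand.isPseudo_rD _ h)⟩
  · intro h
    refine H7PseudoSummand.isPseudo_local fun x => ?_
    obtain ⟨V, hV, hy, -⟩ := exists_isAffineOpen_mem_and_subset (X := Y) (x := f.base x) (U := (⊤ : Y.Opens)) trivial
    exact ⟨f ⁻¹ᵁ V, hy, (key V hV).2 (H7PseudoSummand.isPseudo_rD _ h)⟩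

end Groth.Agent.H7AffPseudo
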