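import Groth.Agent.Lib.LQFin

set_option autoImplicit false
universe u

open CategoryTheory Limits TopologicalSpace Opposite AlgebraicGeometry

namespace Groth.Agent.LQcoh

variable {X : Scheme.{u}}

/-- has a finite presentation -/
def HasFinPres {C : Type u} [Category.{u} C] {J : GrothendieckTopology C} {R : Sheaf J RingCat.{u}}
    [HasSheafify J AddCommGrpCat.{u}] [J.WEqualsLocallyBijective AddCommGrpCat.{u}]
    (M : SheafOfModules.{u} R) : Prop :=
  ∃ P : M.Presentation, P.IsFinite

set_option backward.isDefEq.respectTransparency false in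
lemma HasFinPres.of_iso {C : Type u} [Category.{u} C] {J : GrothendieckTopology C}
    {R : Sheaf J RingCat.{u}} [HasSheafify J AddCommGrpCat.{u}]
    [J.WEqualsLocallyBijective AddCommGrpCat.{u}]
    {M N : SheafOfModules.{u} R} (h : HasFinPres M) (e : M ≅ N) : HasFinPres N :=
  let ⟨P, hP⟩ := h
  ⟨SheafOfModules.Presentation.ofIsIso.{u, u, u} e.hom P, inferInstance⟩

set_option backward.isDefEq.respectTransparency false in
lemma hasFinPres_restrict {X Y : Scheme.{u}} (f : Y ⟶ X) [IsOpenImmersion f] {M : X.Modules}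
    (h : HasFinPres M) : HasFinPres (M.restrict f) := by
  obtain ⟨P, hP⟩ := h
  haveI : PreservesColimitsOfSize.{u, u} (Scheme.Modules.restrictFunctor f) := inferInstance
  exact ⟨P.map (Scheme.Modules.restrictFunctor.{u} f) (Scheme.Modules.restrictUnitIso f).symm,
    ⟨⟨hP.isFiniteType_generators.finite⟩, ⟨hP.isFiniteType_relations.finite⟩⟩⟩

set_option backward.isDefEq.respectTransparency false in
lemma hasFinPres_tilde {R : CommRingCat.{u}} (N : ModuleCat.{u} R)
    [Module.FinitePresentation R N] : HasFinPres (tilde N) := by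
  obtain ⟨s, hs⟩ := Module.Finite.fg_top (R := R) (M := N)
  obtain ⟨t, ht⟩ := Module.FinitePresentation.fg_ker
    (Finsupp.linearCombination R ((↑) : ↥(s : Set N) → N)) (by
      rw [← LinearMap.range_eq_top, Finsupp.range_linearCombination, Subtype.range_coe]
      exact hs)
  refine ⟨presentationTilde.{u} N (s : Set N) hs _ ht, ⟨⟨?_⟩, ⟨?_⟩⟩⟩
  · exact Set.Finite.to_subtype s.finite_toSet
  · exact Set.Finite.to_subtype t.finite_toSet

set_option backward.isDefEq.respectTransparency false in
lemma hasFinPres_over (M : X.Modules) [M.IsQuasicoherent] {V : X.Opens} (hV : IsAffineOpen V)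
    [IsNoetherianRing Γ(X, V)] (hfin : Module.Finite Γ(X, V) Γ(M, V)) :
    HasFinPres (M.over V) := by
  haveI := isIso_fromTildeΓ_of_locAt M hV (locAt_of_qcoh M hV)
  let N := (modulesSpecToSheaf.obj (M.restrict hV.fromSpec)).presheaf.obj (op ⊤)
  haveI : Module.Finite Γ(X, V) N := (finite_restrict_iff M hV).2 hfin
  haveI : Module.FinitePresentation Γ(X, V) N := Module.finitePresentation_of_finite _ _
  have h₁ : HasFinPres (M.restrict hV.fromSpec) :=
    (hasFinPres_tilde N).of_iso (asIso (M.restrict hV.fromSpec).fromTildeΓ)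
  have h₂ := hasFinPres_restrict hV.isoSpec.hom h₁
  have h₃ : HasFinPres (M.restrict V.ι) := h₂.of_iso
    (((Scheme.Modules.restrictFunctorComp hV.isoSpec.hom hV.fromSpec).symm ≪≫
      Scheme.Modules.restrictFunctorCongr (IsAffineOpen.isoSpec_hom_fromSpec hV)).app M)
  let e := Scheme.Modules.overEquiv V
  let η : e.inverse.obj (SheafOfModules.unit _) ≅ SheafOfModules.unit (X.ringCatSheaf.over V) :=
    e.inverse.mapIso ((Scheme.Modules.restrictUnitIso V.ι).symm ≪≫
      ((Scheme.Modules.overFunctorEquiv V).app _).symm) ≪≫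
      (e.unitIso.app _).symm
  obtain ⟨P, hP⟩ := h₃
  haveI : PreservesColimitsOfSize.{u, u} e.inverse := inferInstance
  exact HasFinPres.of_iso (M := e.inverse.obj (M.restrict V.ι)) ⟨P.map e.inverse η.symm,
    ⟨⟨hP.isFiniteType_generators.finite⟩, ⟨hP.isFiniteType_relations.finite⟩⟩⟩
    (e.inverse.mapIso ((Scheme.Modules.overFunctorEquiv V).app M).symm ≪≫
      (e.unitIso.app _).symm)

/-- finitely generated sections on a Noetherian affine covering implies finite presentation -/
theorem isFinitePresentation_of_finite (M : X.Modules) [M.IsQuasicoherent] {I : Type u}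
    (V : I → X.Opens) (hV : ∀ i, IsAffineOpen (V i)) (hcov : iSup V = ⊤)
    [∀ i, IsNoetherianRing Γ(X, V i)]
    (hfin : ∀ i, Module.Finite Γ(X, V i) Γ(M, V i)) :
    SheafOfModules.IsFinitePresentation (R := X.ringCatSheaf) M := by
  choose P hP using fun i => hasFinPres_over M (hV i) (hfin i)
  constructor
  exact ⟨SheafOfModules.QuasicoherentData.mk.{u, u, u, u} (M := M) I V
    ((Opens.coversTop_iff (T := X) (U := V)).2 hcov) P,
    SheafOfModules.QuasicoherentData.IsFinitePresentation.mk.{u, u, u, u} hP⟩

theorem isFinitePresentation_of_noetherian [IsLocallyNoetherian X] (M : X.Modules)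
    [M.IsQuasicoherent] [SheafOfModules.IsFiniteType (R := X.ringCatSheaf) M] :
    SheafOfModules.IsFinitePresentation (R := X.ringCatSheaf) M := by
  haveI : ∀ i : X.affineOpens, IsNoetherianRing Γ(X, i.1) :=
    fun i => IsLocallyNoetherian.component_noetherian i
  exact isFinitePresentation_of_finite M (fun i : X.affineOpens => i.1) (fun i => i.2)
    (iSup_affineOpens_eq_top X) (fun i => finite_sections M i.2)

end Groth.Agent.LQcoh
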