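import Groth.Agent.Lib.H7FPFlat
import Groth.Agent.Lib.H7PerfTri
import Groth.Agent.Lib.H7PseudoPull
import Groth.Agent.Lib.LCoh
import Groth.Agent.Lib.LQFP
import Mathlib

/-! Perfect objects on Noetherian schemes have coherent, bounded cohomology. -/

universe u
open CategoryTheory Limits AlgebraicGeometry Opposite TopologicalSpace HomologicalComplex

namespace Groth.Agent.H7PerfCoh
open Groth.Agent H7FinFree H7FPLocal H7FPFlat

attribute [local instance] HasDerivedCategory.standard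

variable {X Y : Scheme.{u}}

set_option backward.isDefEq.respectTransparency false in
theorem isCoh_of_isFP {M : X.Modules} (h : CohB1.IsFP M) : Coh.IsCoh M := by
  haveI : SheafOfModules.IsFinitePresentation.{u} (R := X.ringCatSheaf) M := h
  exact ⟨inferInstance, inferInstance⟩

theorem isFP_local {M : X.Modules}
    (h : ∀ x : X, ∃ V : X.Opens, x ∈ V ∧ CohB1.IsFP (M.restrict V.ι)) : CohB1.IsFP M := by
  rw [isFP_iff]
  intro x
  obtain ⟨V, hx, hV⟩ := h x
  obtain ⟨U, hU, hc⟩ := (isFP_iff _).1 hV ⟨x, hx⟩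
  let j := U.ι ≫ V.ι
  refine ⟨j.opensRange, ⟨⟨⟨x, hx⟩, hU⟩, rfl⟩, ?_⟩
  have h1 : IsCoker ((Scheme.Modules.pullback j).obj M) :=
    (hc.of_iso ((Scheme.Modules.restrictFunctorIsoPullback U.ι).app _ ≪≫ (Scheme.Modules.pullback U.ι).mapIso
      ((Scheme.Modules.restrictFunctorIsoPullback V.ι).app M))).of_iso ((Scheme.Modules.pullbackComp U.ι V.ι).app M)
  exact (h1.pullback j.isoOpensRange.inv).of_iso ((Scheme.Modules.pullbackComp j.isoOpensRange.inv j).app _ ≪≫
    eqToIso (by rw [j.isoOpensRange_inv_comp]) ≪≫ ((Scheme.Modules.restrictFunctorIsoPullback j.opensRange.ι).app _).symm)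

set_option backward.isDefEq.respectTransparency false in
theorem isCoh_homology [IsLocallyNoetherian X] {P : CochainComplex X.Modules ℤ} (hP : ∀ k, FlatMod.IsFinLocFree (P.X k))
    (i : ℤ) : Coh.IsCoh (P.homology i) := by
  have hc : ∀ k, Coh.IsCoh (P.X k) := fun k => isCoh_of_isFP (isFP_of_finLocFree (hP k))
  have hk := LQcoh.isCoh_kernel (P.d i (i + 1)) (hc i) (hc (i + 1)).1
  let e₁ : kernel (P.d i (i + 1)) ≅ P.cycles i :=
    IsLimit.conePointUniqueUpToIso (limit.isLimit _) (P.cyclesIsKernel i (i + 1) (by simp))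
  let e₂ : cokernel (P.toCycles (i - 1) i) ≅ P.homology i :=
    IsColimit.coconePointUniqueUpToIso (colimit.isColimit _) (P.homologyIsCokernel (i - 1) i (by simp))
  have := LQcoh.isCoh_cokernel (P.toCycles (i - 1) i ≫ e₁.inv) (hc (i - 1)).1 hk
  refine isCoh_of_isFP ?_
  have : SheafOfModules.IsQuasicoherent (R := X.ringCatSheaf) (cokernel (P.toCycles (i - 1) i ≫ e₁.inv)) := this.1
  have : SheafOfModules.IsFiniteType (R := X.ringCatSheaf) (cokernel (P.toCycles (i - 1) i ≫ e₁.inv)) :=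
    (LQcoh.isCoh_cokernel (P.toCycles (i - 1) i ≫ e₁.inv) (hc (i - 1)).1 hk).2
  have hfp : CohB1.IsFP (cokernel (P.toCycles (i - 1) i ≫ e₁.inv)) :=
    LQcoh.isFinitePresentation_of_noetherian (cokernel (P.toCycles (i - 1) i ≫ e₁.inv))
  let e₃ : cokernel (P.toCycles (i - 1) i ≫ e₁.inv) ≅ P.homology i :=
    cokernel.mapIso (P.toCycles (i - 1) i ≫ e₁.inv) (P.toCycles (i - 1) i) (Iso.refl _) e₁ (by simp) ≪≫ e₂
  rw [isFP_iff] at hfp ⊢
  intro x
  obtain ⟨U, hU, hc'⟩ := hfp x
  exact ⟨U, hU, hc'.of_iso ((Scheme.Modules.restrictFunctor U.ι).mapIso e₃)⟩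

set_option backward.isDefEq.respectTransparency false in
theorem coh_bounded [IsNoetherian X] {E : DCoh.D X} (hE : DCoh.IsPerfect E) :
    DCoh.IsCohD E ∧ ∃ a b : ℤ, E.IsGE a ∧ E.IsLE b := by
  let F := DerivedCategory.Q.objPreimage E
  let e : DerivedCategory.Q.obj F ≅ E := DerivedCategory.Q.objObjPreimageIso E
  choose V hx hV using hE
  choose P hP hPe using fun x => hV x F ⟨e⟩
  let eV : ∀ x k, (DCoh.HD E k).restrict (V x).ι ≅ (P x).homology k := fun x k =>
    (Scheme.Modules.restrictFunctor (V x).ι).mapIso ((DerivedCategory.homologyFunctor _ k).mapIso e.symm ≪≫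
        (DerivedCategory.homologyFunctorFactors _ k).app F) ≪≫
      ((F.sc k).mapHomologyIso (Scheme.Modules.restrictFunctor (V x).ι)).symm ≪≫
      ((DerivedCategory.homologyFunctorFactors (V x : Scheme.{u}).Modules k).app ((DCoh.restrictCx (V x)).obj F)).symm ≪≫
      (DerivedCategory.homologyFunctor _ k).mapIso (hPe x).some ≪≫ (DerivedCategory.homologyFunctorFactors _ k).app (P x)
  refine ⟨fun k => isCoh_of_isFP (isFP_local fun x => ⟨V x, hx x, ?_⟩), ?_⟩
  · have : IsLocallyNoetherian (V x : Scheme.{u}) := isLocallyNoetherian_of_isOpenImmersion (V x).ι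
    have hc := isCoh_homology (P := P x) (hP x).2 k
    have := hc.1
    have := hc.2
    have hfp : CohB1.IsFP ((P x).homology k) := LQcoh.isFinitePresentation_of_noetherian _
    rw [isFP_iff] at hfp ⊢
    intro y
    obtain ⟨U, hU, hc'⟩ := hfp y
    exact ⟨U, hU, hc'.of_iso ((Scheme.Modules.restrictFunctor U.ι).mapIso (eV x k).symm)⟩
  · obtain ⟨t, ht⟩ := isCompact_univ.elim_finite_subcover (fun x => (V x : Set X)) (fun x => (V x).2)
      (fun x _ => Set.mem_iUnion.2 ⟨x, hx x⟩)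
    choose a b hab using fun x => (hP x).1
    obtain ⟨lo, hlo⟩ : ∃ lo, ∀ x ∈ t, lo ≤ a x :=
      let ⟨lo, h⟩ := (t.image a).bddBelow; ⟨lo, fun x hx => h (Finset.mem_image_of_mem a hx)⟩
    obtain ⟨hi, hhi⟩ : ∃ hi, ∀ x ∈ t, b x ≤ hi :=
      let ⟨hi, h⟩ := (t.image b).bddAbove; ⟨hi, fun x hx => h (Finset.mem_image_of_mem b hx)⟩
    have hzero : ∀ k, k < lo ∨ hi < k → IsZero (DCoh.HD E k) := fun k hk => H7StalkDetect.isZero_of_stalks fun y => by
      obtain ⟨x, hxt, hy⟩ := Set.mem_iUnion₂.1 (ht (Set.mem_univ y))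
      have := hlo x hxt
      have := hhi x hxt
      exact LExtZero.isZero_stalk_of_restrict (V x).ι (((exactAt_iff_isZero_homology _ _).1
        (ShortComplex.exact_of_isZero_X₂ _ (hab x k (by omega)))).of_iso (eV x k)) ⟨⟨y, hy⟩, rfl⟩
    exact ⟨lo, hi, (DerivedCategory.isGE_iff _ _).2 fun i hi' => hzero i (Or.inl hi'),
      (DerivedCategory.isLE_iff _ _).2 fun i hi' => hzero i (Or.inr hi')⟩

end Groth.Agent.H7PerfCoh
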