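import Groth.Agent.Lib.LHOn
import Groth.Agent.Lib.LQcqs

set_option autoImplicit false
universe u

open CategoryTheory Limits TopologicalSpace Opposite AlgebraicGeometry Abelian

namespace Groth.Agent.LQcoh

open Groth.Agent.LCech (freeSh subsingleton_ext_succ subsingleton_ext_finite_sup subsingleton_ext_sup
  subsingleton_H_of_ext_top Shf)

variable {X : Scheme.{u}}

theorem subsingleton_ext_sup_affine [HasExt.{u} (Shf X.toTopCat)] (B : Set X.Opens)
    (hB : ∀ V ∈ B, IsAffineOpen V) (hinf : ∀ U ∈ B, ∀ V ∈ B, U ⊓ V ∈ B) (k : ℕ)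
    (U : Fin (k + 1) → X.Opens) (hU : ∀ i, U i ∈ B) (M : X.Modules) [M.IsQuasicoherent] (n : ℕ)
    (hn : k + 1 ≤ n) :
    Subsingleton (Ext (freeSh (X := X.toTopCat) (iSup U)) ((toShf X).obj M) n) := by
  obtain ⟨m, rfl⟩ := Nat.exists_eq_add_of_le' hn
  exact subsingleton_ext_finite_sup (affineSys X) ((toShf X).obj M) (good_qcoh M) B hB hinf k U hU m

theorem subsingleton_ext_affine [HasExt.{u} (Shf X.toTopCat)] {A : X.Opens} (hA : IsAffineOpen A)
    (M : X.Modules) [M.IsQuasicoherent] (n : ℕ) (hn : 1 ≤ n) :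
    Subsingleton (Ext (freeSh (X := X.toTopCat) A) ((toShf X).obj M) n) := by
  obtain ⟨m, rfl⟩ := Nat.exists_eq_add_of_le' hn
  exact subsingleton_ext_succ (affineSys X) hA m ((toShf X).obj M) (good_qcoh M)

/-- quasi-compact opens of an affine open have bounded cohomological dimension -/
theorem exists_bound_in_affine [HasExt.{u} (Shf X.toTopCat)] {A : X.Opens} (hA : IsAffineOpen A)
    (W : X.Opens) (hW : IsCompact (W : Set X)) (hWA : W ≤ A) :
    ∃ d : ℕ, ∀ (M : X.Modules), M.IsQuasicoherent → ∀ n, d ≤ n →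
      Subsingleton (Ext (freeSh (X := X.toTopCat) W) ((toShf X).obj M) n) := by
  choose g hg hxg using fun x : W => hA.exists_basicOpen_le (V := W) ⟨x, x.2⟩ (hWA x.2)
  obtain ⟨t, ht⟩ := hW.elim_finite_subcover (fun x : W => (X.basicOpen (g x) : Set X))
    (fun x => (X.basicOpen (g x)).2) (fun x hx => Set.mem_iUnion.2 ⟨⟨x, hx⟩, hxg _⟩)
  refine ⟨t.card + 1, fun M hM n hn => ?_⟩
  haveI := hM
  let B : Set X.Opens := Set.range fun a : Γ(X, A) => X.basicOpen a
  have hinf : ∀ U ∈ B, ∀ V ∈ B, U ⊓ V ∈ B := by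
    rintro _ ⟨a, rfl⟩ _ ⟨b, rfl⟩; exact ⟨a * b, X.basicOpen_mul a b⟩
  let e := t.equivFin
  let U : Fin (t.card + 1) → X.Opens :=
    Fin.cons ⊥ (fun i => X.basicOpen (g (e.symm i)))
  have hU : ∀ i, U i ∈ B := Fin.cases ⟨0, X.basicOpen_zero A⟩ (fun i => ⟨_, rfl⟩)
  have hsup : W = iSup U := by
    refine le_antisymm (fun x hx => ?_) (iSup_le (Fin.cases bot_le fun i => hg _))
    obtain ⟨y, hy, hxy⟩ := Set.mem_iUnion₂.1 (ht hx)
    refine Opens.mem_iSup.2 ⟨Fin.succ (e ⟨y, hy⟩), ?_⟩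
    simp only [U, Fin.cons_succ, Equiv.symm_apply_apply]
    exact hxy
  rw [hsup]
  exact subsingleton_ext_sup_affine B (fun V ⟨a, ha⟩ => ha ▸ hA.basicOpen a) hinf t.card U hU M n
    (by omega)

theorem exists_bound_compact [HasExt.{u} (Shf X.toTopCat)] [QuasiSeparatedSpace X]
    (W : X.Opens) (hW : IsCompact (W : Set X)) :
    ∃ d : ℕ, ∀ (M : X.Modules), M.IsQuasicoherent → ∀ n, d ≤ n →
      Subsingleton (Ext (freeSh (X := X.toTopCat) W) ((toShf X).obj M) n) := by
  refine compact_open_induction_on (P := fun W => ∃ d : ℕ, ∀ (M : X.Modules), M.IsQuasicoherent → ∀ n, d ≤ n →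
      Subsingleton (Ext (freeSh (X := X.toTopCat) W) ((toShf X).obj M) n)) W hW ?_ ?_
  · exact exists_bound_in_affine (isAffineOpen_bot X) ⊥ isCompact_empty le_rfl
  · intro S hS A h
    obtain ⟨d, hd⟩ := h
    obtain ⟨d', hd'⟩ := exists_bound_in_affine A.2 (S ⊓ A.1)
      (hS.inter_of_isOpen A.2.isCompact S.2 A.1.2) inf_le_right
    refine ⟨max d d' + 1, fun M hM n hn => ?_⟩
    haveI := hM
    obtain ⟨m, rfl⟩ := Nat.exists_eq_add_of_le' (show 1 ≤ n by omega)
    exact subsingleton_ext_sup S A.1 _ m (hd M hM _ (by omega))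
      (subsingleton_ext_affine A.2 M _ (by omega)) (hd' M hM _ (by omega))

theorem subsingleton_H_of_affine_cover [HasExt.{u} (Shf X.toTopCat)] (t : ℕ) (U : Fin t → X.Opens)
    (hU : ∀ i, IsAffineOpen (U i)) (hcov : ⨆ i, U i = ⊤)
    (hd : ∀ V W : X.Opens, IsAffineOpen V → IsAffineOpen W → IsAffineOpen (V ⊓ W))
    (M : X.Modules) [M.IsQuasicoherent] (n : ℕ) (hn : t ≤ n) :
    Subsingleton (Sheaf.H ((toShf X).obj M) n) := by
  rcases t with - | k
  · have htop : (⊤ : X.Opens) = ⊥ := by rw [← hcov, iSup_of_empty]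
    rcases n with - | n
    · refine subsingleton_of_forall_eq 0 fun x => ?_
      refine (Sheaf.H.equiv₀ ((toShf X).obj M) isTerminalTop).injective ?_
      refine TopCat.Sheaf.eq_of_locally_eq' ((toShf X).obj M) (fun i : PEmpty.{u + 1} => i.elim) ⊤
        (fun i => i.elim) (htop.le.trans bot_le) _ _ fun i => i.elim
    · refine subsingleton_H_of_ext_top _ _ ?_
      exact subsingleton_ext_affine (htop ▸ isAffineOpen_bot X) M _ (by omega)
  · refine subsingleton_H_of_ext_top _ _ ?_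
    rw [← hcov]
    exact subsingleton_ext_sup_affine {V | IsAffineOpen V} (fun V hV => hV)
      (fun V hV W hW => hd V W hV hW) k U hU M n hn

end Groth.Agent.LQcoh
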