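import Groth.Agent.Lib.H7Unbounded
import Groth.Agent.Lib.H7FlatCover
import Groth.Agent.Lib.H7Coprod
import Groth.Agent.Lib.LQVanish
import Groth.Agent.Lib.LExtZero
import Groth.Agent.Lib.H5TopCoh
import Groth.Agent.Lib.H5KInjApps
import Groth.Agent.Lib.H5WayOut
import Groth.Agent.Lib.H7PerfCoh
import Groth.Prelude.Def_DCoh2
import Mathlib

/-! Objects of `D(O_X)` with quasi-coherent cohomology are limits of their truncations, and sections of
cohomology on affine opens are derived sections. -/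

universe u w v₁ u₁
open CategoryTheory Limits AlgebraicGeometry Opposite TopologicalSpace Pretriangulated

namespace Groth.Agent.H7AffineD
open Groth.Agent

section products

variable {A : Type u₁} [Category.{v₁} A] [Abelian A] [IsGrothendieckAbelian.{v₁} A] [HasDerivedCategory.{w} A]

open H5KApps in
theorem hasProduct_derived {T : Type v₁} (X : T → DerivedCategory A) : HasProduct X := by
  have R := resolving_Q (A := A) enoughKInj_of_grothendieck
  let I := fun t => R.res (X t)
  have hI : ∀ t, (I t).IsKInjective := fun t => R.res_mem _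
  have hP : (∏ᶜ I).IsKInjective := isKInjective_pi I hI
  let c : Fan X := Fan.mk (DerivedCategory.Q.obj (∏ᶜ I))
    (fun t => DerivedCategory.Q.map (Pi.π I t) ≫ (R.resIso (X t)).hom)
  let e := fun (s : Fan X) => DerivedCategory.Q.objObjPreimageIso s.pt
  refine ⟨⟨c, Fan.IsLimit.mk c
    (fun s => (e s).inv ≫ DerivedCategory.Q.map (Pi.lift fun t => R.lift (hI t) ((e s).hom ≫ s.proj t ≫ (R.resIso (X t)).inv)))
    (fun s t => by simp [c, Fan.mk, Fan.proj, e, ← Functor.map_comp_assoc]) fun s u hu => ?_⟩⟩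
  obtain ⟨f, hf⟩ := R.surj _ _ hP ((e s).hom ≫ u)
  rw [Iso.eq_inv_comp, ← hf]
  let l := fun t => R.lift (hI t) ((e s).hom ≫ s.proj t ≫ (R.resIso (X t)).inv)
  have hd : ∀ t, Nonempty (Homotopy ((f - Pi.lift l) ≫ Pi.π I t) 0) := fun t => by
    have := hI t
    refine ⟨HomotopyCategory.homotopyOfEq _ _ (homotopic_of_Q_map_eq ?_)⟩
    rw [Preadditive.sub_comp, Functor.map_sub, Functor.map_zero, sub_eq_zero, Functor.map_comp,
      Pi.lift_π, R.map_lift, hf, ← hu t]
    simp [c, Fan.mk, Fan.proj]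
  choose g hg using fun t => (nonempty_homotopy_zero_iff _).1 (hd t)
  obtain ⟨h⟩ := (nonempty_homotopy_zero_iff (f - Pi.lift l)).2
    ⟨Pi.lift g, Limits.Pi.hom_ext _ _ (fun t => by simp [hg])⟩
  exact DerivedCategory.Q_map_eq_of_homotopy A (Homotopy.equivSubZero.symm h)

end products

attribute [local instance] HasDerivedCategory.standard

variable {X : Scheme.{u}}

open H7FlatCover

/-- the free modules on affine opens separate morphisms -/
theorem sep_affine ⦃M N : X.Modules⦄ (f g : M ⟶ N)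
    (h : ∀ (U : X.affineOpens) (x : freeU U.1 ⟶ M), x ≫ f = x ≫ g) : f = g := by
  refine H7Stalk.hom_ext_elem fun U m => ?_
  refine TopCat.Presheaf.section_ext (C := Ab.{u}) ((LQcoh.toShf X).obj N) U _ _ fun x hx => ?_
  obtain ⟨_, ⟨V, hV, rfl⟩, hxV, hVU⟩ := X.isBasis_affineOpens.exists_subset_of_mem_open hx U.2
  have h2 := congrArg (secEquiv V N) (h ⟨V, hV⟩ ((secEquiv V M).symm (M.presheaf.map (homOfLE hVU).op m)))
  rw [secEquiv_comp, secEquiv_comp, Equiv.apply_symm_apply] at h2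
  have key : ∀ φ : M ⟶ N, φ.app V (M.presheaf.map (homOfLE hVU).op m) = N.presheaf.map (homOfLE hVU).op (φ.app U m) :=
    fun φ => ConcreteCategory.congr_hom ((Scheme.Modules.Hom.mapPresheaf φ).naturality (homOfLE hVU).op) m
  rw [key, key] at h2
  have h3 := congrArg (fun z => N.presheaf.germ V x hxV z) h2
  exact (TopCat.Presheaf.germ_res_apply N.presheaf (homOfLE hVU) x hxV _).symm.trans
    (h3.trans (TopCat.Presheaf.germ_res_apply N.presheaf (homOfLE hVU) x hxV _))

/-- injective modules are flasque -/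
lemma flasque_toShf (I : X.Modules) [Injective I] : TopCat.Sheaf.IsFlasque ((LQcoh.toShf X).obj I) := by
  constructor
  intro U V i
  rw [AddCommGrpCat.epi_iff_surjective]
  intro s
  obtain ⟨t, ht⟩ := LExtZero.res_surjective_of_injective I V.unop s
  refine ⟨I.presheaf.map (homOfLE (le_top : U.unop ≤ ⊤)).op t, ?_⟩
  rw [← ht]
  exact (ConcreteCategory.congr_hom (I.presheaf.map_comp (homOfLE (le_top : U.unop ≤ ⊤)).op i) t).symm

/-- no higher Ext from a free module on an affine open into quasi-coherent modules -/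
theorem subsingleton_ext (U : X.affineOpens) [HasExt.{u + 1} X.Modules] (F : X.Modules) [F.IsQuasicoherent] (n : ℕ) :
    Subsingleton (Abelian.Ext (freeU U.1) F (n + 1)) := by
  haveI : HasExt.{u} (LCech.Shf X.toTopCat) := hasExt_of_enoughInjectives _
  refine H5SiteCoh.acyc_of_good
    (fun G : X.Modules => H5SiteCoh.Acyc (LCech.Shf X.toTopCat) (LCech.freeSh (X := X.toTopCat) U.1) ((LQcoh.toShf X).obj G))
    (freeU U.1) (fun G hG => ?_) n F (fun m => LQcoh.subsingleton_ext_affine U.2 F (m + 1) (by omega))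
  let T := (H5SiteCoh.injSeq G).map (LQcoh.toShf X)
  have hT : T.ShortExact := LQcoh.toShf_shortExact (H5SiteCoh.injSeq_shortExact G)
  have h2 : ∀ m, Subsingleton (Abelian.Ext (LCech.freeSh (X := X.toTopCat) U.1) T.X₂ (m + 1)) := fun m =>
    H5TopCoh.flasque_acyclic T.X₂ (flasque_toShf _) U.1 m
  refine ⟨fun m => ?_, fun φ => ?_⟩
  · have := h2 m
    have : Subsingleton (Abelian.Ext (LCech.freeSh (X := X.toTopCat) U.1) T.X₁ (m + 1 + 1)) := hG (m + 1)
    exact H5SiteCoh.step₃ hT (m + 1)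
  · have : Subsingleton (Abelian.Ext (LCech.freeSh (X := X.toTopCat) U.1) T.X₁ 1) := hG 0
    obtain ⟨ψ, hψ⟩ := H5SiteCoh.surj_of_subsingleton hT
      ((LCech.freeShEquiv (X := X.toTopCat) U.1 T.X₃).symm (secEquiv U.1 _ φ))
    refine ⟨(secEquiv U.1 _).symm (LCech.freeShEquiv (X := X.toTopCat) U.1 T.X₂ ψ), (secEquiv U.1 _).injective ?_⟩
    erw [secEquiv_comp, Equiv.apply_symm_apply]
    have := congrArg (LCech.freeShEquiv (X := X.toTopCat) U.1 T.X₃) hψ
    rw [LCech.freeShEquiv_comp] at this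
    exact this.trans (Equiv.apply_symm_apply _ _)

lemma hom_shift_eq_zero (U : X.affineOpens) (F : X.Modules) (hF : Coh.IsQCoh F) (n : ℕ)
    (e : DCoh.inD X (freeU U.1) ⟶ (DCoh.inD X F)⟦((n : ℤ) + 1)⟧) : e = 0 := by
  haveI : HasExt.{u + 1} X.Modules := HasExt.standard _
  haveI : F.IsQuasicoherent := hF
  let ev : Abelian.Ext (freeU U.1) F (n + 1) ≃ ShiftedHom (DCoh.inD X (freeU U.1)) (DCoh.inD X F) ((n + 1 : ℕ) : ℤ) :=
    Abelian.Ext.homEquiv
  haveI := subsingleton_ext U F n
  haveI : Subsingleton (ShiftedHom (DCoh.inD X (freeU U.1)) (DCoh.inD X F) ((n + 1 : ℕ) : ℤ)) := ev.symm.subsingleton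
  exact this.elim e 0

open DerivedCategory.TStructure in
/-- cohomology of an object and of its truncation -/
lemma isIso_H_truncGEπ {C : Type u₁} [Category.{v₁} C] [Abelian C] [HasDerivedCategory.{w} C]
    (E : DerivedCategory C) (m i : ℤ) (hi : m ≤ i) :
    IsIso ((DerivedCategory.homologyFunctor C i).map ((t.truncGEπ m).app E)) := by
  have hd := t.triangleLTGE_distinguished m E
  have : DerivedCategory.IsLE ((t.triangleLTGE m).obj E).obj₁ (m - 1) :=
    (inferInstance : DerivedCategory.IsLE ((t.truncLT m).obj E) (m - 1))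
  exact H5WayOut.isIso_H_mor₂ _ hd i (DerivedCategory.isZero_of_isLE _ (m - 1) _ (by omega))
    (DerivedCategory.isZero_of_isLE _ (m - 1) _ (by omega))

lemma qcoh_of_iso {M N : X.Modules} (e : M ≅ N) (h : Coh.IsQCoh M) : Coh.IsQCoh N :=
  (SheafOfModules.isQuasicoherent X.ringCatSheaf).prop_of_iso e h

lemma qcoh_of_isZero {M N : X.Modules} (hN : IsZero N) (h : Coh.IsQCoh M) : Coh.IsQCoh N :=
  have : M.IsQuasicoherent := h
  qcoh_of_iso ((isZero_kernel_of_mono (𝟙 M)).iso hN) (LQcoh.isQuasicoherent_kernel (𝟙 M))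

open DerivedCategory.TStructure in
/-- cohomology of a truncation -/
noncomputable def hTruncIso {C : Type u₁} [Category.{v₁} C] [Abelian C] [HasDerivedCategory.{w} C]
    (E : DerivedCategory C) (m i : ℤ) (hi : m ≤ i) :
    (DerivedCategory.homologyFunctor C i).obj E ≅ (DerivedCategory.homologyFunctor C i).obj ((t.truncGE m).obj E) :=
  @asIso _ _ _ _ ((DerivedCategory.homologyFunctor C i).map ((t.truncGEπ m).app E)) (isIso_H_truncGEπ E m i hi)

section main

open DerivedCategory.TStructure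

variable (E : DCoh.D X)

/-- `τ_{≥ -n} E` -/
noncomputable abbrev trunc (n : ℕ) : DCoh.D X := (t.truncGE (-(n : ℤ))).obj E

/-- the transition maps -/
noncomputable abbrev trans (n : ℕ) : trunc E (n + 1) ⟶ trunc E n :=
  (t.natTransTruncGEOfLE (-((n + 1 : ℕ) : ℤ)) (-(n : ℤ)) (Int.neg_le_neg (Int.ofNat_le.mpr (Nat.le_succ n)))).app E

lemma π_trans (n : ℕ) : (t.truncGEπ (-((n + 1 : ℕ) : ℤ))).app E ≫ trans E n = (t.truncGEπ (-(n : ℤ))).app E :=
  t.π_natTransTruncGEOfLE_app _ _ _ E

lemma isIso_H_trans (n : ℕ) (i : ℤ) (hi : -(n : ℤ) ≤ i) :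
    IsIso ((DerivedCategory.homologyFunctor X.Modules i).map (trans E n)) := by
  have := isIso_H_truncGEπ E (-(n : ℤ)) i hi
  have := isIso_H_truncGEπ E (-((n + 1 : ℕ) : ℤ)) i (by push_cast; omega)
  rw [← π_trans E n, Functor.map_comp] at *
  exact IsIso.of_isIso_comp_left ((DerivedCategory.homologyFunctor X.Modules i).map ((t.truncGEπ (-((n + 1 : ℕ) : ℤ))).app E)) _

variable (hE : DCoh.IsQCohD E) [HasProduct (trunc E)]

include hE

lemma qcoh_trunc (n : ℕ) (i : ℤ) : Coh.IsQCoh (DCoh.HD (trunc E n) i) := by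
  by_cases hi : -(n : ℤ) ≤ i
  · exact qcoh_of_iso (hTruncIso E (-(n : ℤ)) i hi) (hE i)
  · exact qcoh_of_isZero (DerivedCategory.isZero_of_isGE (trunc E n) (-(n : ℤ)) i (by omega)) (hE i)

theorem facts : (∃ c, Triangle.mk (Pi.lift fun n : ℕ => (t.truncGEπ (-(n : ℤ))).app E)
      (Pi.lift fun n : ℕ => Pi.π (trunc E) n - Pi.π (trunc E) (n + 1) ≫ trans E n) c ∈ distTriang (DCoh.D X)) ∧
    ∀ U : X.affineOpens, Function.Bijective (H7Unbounded.psi (freeU U.1) E) := by
  let m₂ : (∏ᶜ trunc E) ⟶ ∏ᶜ trunc E := Pi.lift fun n => Pi.π (trunc E) n - Pi.π (trunc E) (n + 1) ≫ trans E n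
  obtain ⟨L, a, c, hT⟩ := distinguished_cocone_triangle₁ m₂
  let T := Triangle.mk a m₂ c
  have h0 : (Pi.lift fun n : ℕ => (t.truncGEπ (-(n : ℤ))).app E) ≫ m₂ = 0 := Limits.Pi.hom_ext _ _ fun n => by
    rw [Category.assoc, Pi.lift_π, Preadditive.comp_sub, Pi.lift_π_assoc, Pi.lift_π, π_trans, sub_self, zero_comp]
  obtain ⟨f, hf⟩ : ∃ f : E ⟶ L, (Pi.lift fun n : ℕ => (t.truncGEπ (-(n : ℤ))).app E) = f ≫ a :=
    Triangle.coyoneda_exact₂ T hT _ h0
  let P : ObjectProperty X.Modules := fun M => Coh.IsQCoh M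
  haveI : P.IsClosedUnderIsomorphisms :=
    ⟨fun e h => (SheafOfModules.isQuasicoherent X.ringCatSheaf).prop_of_iso e h⟩
  -- the comparison map is bijective on cohomology in every degree
  have key : ∀ i : ℤ, IsIso ((DerivedCategory.homologyFunctor X.Modules i).map f) ∧
      (i = 0 → ∀ U : X.affineOpens, Function.Bijective (H7Unbounded.psi (freeU U.1) T.obj₁)) := fun i => by
    let S : DCoh.D X ⥤ DCoh.D X := shiftFunctor (DCoh.D X) i
    let T' := (Triangle.shiftFunctor (DCoh.D X) i).obj T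
    have hT' : T' ∈ distTriang _ := Triangle.shift_distinguished T hT i
    haveI : HasProduct (fun n => (trunc E n)⟦i⟧) :=
      hasLimit_of_iso (Discrete.compNatIsoDiscrete (trunc E) S)
    let β₀ : (∏ᶜ trunc E)⟦i⟧ ≅ ∏ᶜ fun n => (trunc E n)⟦i⟧ := PreservesProduct.iso S (trunc E)
    let ε : ℤˣ := i.negOnePow
    let σ : (∏ᶜ fun n => (trunc E n)⟦i⟧) ≅ ∏ᶜ fun n => (trunc E n)⟦i⟧ :=
      { hom := ε • 𝟙 _
        inv := ε • 𝟙 _
        hom_inv_id := by simp [Linear.units_smul_comp, Linear.comp_units_smul, smul_smul]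
        inv_hom_id := by simp [Linear.units_smul_comp, Linear.comp_units_smul, smul_smul] }
    let β : T'.obj₂ ≅ ∏ᶜ fun n => (trunc E n)⟦i⟧ := β₀ ≪≫ σ
    have hβπ : ∀ n, β₀.hom ≫ Pi.π _ n = (Pi.π (trunc E) n)⟦i⟧' := fun n => piComparison_comp_π S _ n
    have hmain := H7Unbounded.rlim_facts P (fun U : X.affineOpens => freeU U.1) sep_affine
      (fun U F hF n e => hom_shift_eq_zero U F hF n e)
      (fun n => (trunc E n)⟦i⟧) (fun n => (trans E n)⟦i⟧')
      (fun n j => P.prop_of_iso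
        (((DerivedCategory.homologyFunctor X.Modules 0).shiftIso i j (i + j) rfl).app (trunc E n)).symm
        (qcoh_trunc E hE n _))
      (fun n => ⟨n + i.natAbs, by
        have h1 : DerivedCategory.IsGE ((trunc E n)⟦i⟧) (-(n : ℤ) - i) :=
          t.isGE_shift (trunc E n) (-(n : ℤ)) i (-(n : ℤ) - i) (by omega)
        exact t.isGE_of_ge _ _ (-(n : ℤ) - i) (by omega)⟩)
      (i.natAbs + 1) (fun n hn => ⟨(NatIso.isIso_map_iff
          ((DerivedCategory.homologyFunctor X.Modules 0).shiftIso i 0 i (by omega)) (trans E n)).2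
          (isIso_H_trans E n i (by omega)),
        (NatIso.isIso_map_iff ((DerivedCategory.homologyFunctor X.Modules 0).shiftIso i (-1) (i + -1) rfl) (trans E n)).2
          (isIso_H_trans E n (i + -1) (by omega))⟩)
      T' hT' (fun n => (a ≫ Pi.π (trunc E) n)⟦i⟧') β β₀
      (by
        show (ε • a⟦i⟧') ≫ (β₀.hom ≫ (ε • 𝟙 _)) = _
        refine Limits.Pi.hom_ext _ _ fun n => ?_
        simp only [Linear.units_smul_comp, Linear.comp_units_smul, Category.comp_id, smul_smul,
          Int.units_mul_self, one_smul, Category.assoc, hβπ]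
        erw [Pi.lift_π]
        exact (Functor.map_comp _ _ _).symm)
      (by
        show ((ε • 𝟙 _) ≫ β₀.inv) ≫ (ε • m₂⟦i⟧') ≫ β₀.hom = _
        refine Limits.Pi.hom_ext _ _ fun n => ?_
        have e1 : ∀ n, β₀.inv ≫ (Pi.π (trunc E) n)⟦i⟧' = Pi.π _ n := fun n => by rw [← hβπ, Iso.inv_hom_id_assoc]
        simp only [Linear.units_smul_comp, Linear.comp_units_smul, Category.comp_id, Category.id_comp, smul_smul,
          Int.units_mul_self, mul_one, one_smul, Category.assoc, hβπ, Pi.lift_π]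
        rw [← Functor.map_comp, Pi.lift_π, Functor.map_sub, Functor.map_comp, Preadditive.comp_sub,
          reassoc_of% e1, e1])
      (i.natAbs + 1) le_rfl
    have hπ : IsIso ((DerivedCategory.homologyFunctor X.Modules i).map (a ≫ Pi.π (trunc E) (i.natAbs + 1))) :=
      (NatIso.isIso_map_iff ((DerivedCategory.homologyFunctor X.Modules 0).shiftIso i 0 i (by omega)) _).1 hmain.1
    have hfa : f ≫ a ≫ Pi.π (trunc E) (i.natAbs + 1) = (t.truncGEπ (-((i.natAbs + 1 : ℕ) : ℤ))).app E := by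
      rw [← Category.assoc, ← hf, Pi.lift_π]
    have hg := isIso_H_truncGEπ E (-((i.natAbs + 1 : ℕ) : ℤ)) i (by omega)
    rw [← hfa, Functor.map_comp] at hg
    refine ⟨IsIso.of_isIso_comp_right _ ((DerivedCategory.homologyFunctor X.Modules i).map (a ≫ Pi.π (trunc E) (i.natAbs + 1))), ?_⟩
    rintro rfl U
    exact H7Unbounded.psi_bijective_of_iso _ ((shiftFunctorZero (DCoh.D X) ℤ).app T.obj₁) (hmain.2 U)
  have : IsIso f := (DerivedCategory.isIso_iff (f := f)).2 fun i => (key i).1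
  let ef : E ≅ L := @asIso _ _ _ _ f this
  refine ⟨⟨c ≫ ef.inv⟦(1 : ℤ)⟧', isomorphic_distinguished _ hT _ ?_⟩,
    fun U => H7Unbounded.psi_bijective_of_iso _ ef.symm ((key 0).2 rfl U)⟩
  refine Triangle.isoMk _ _ ef (Iso.refl _) (Iso.refl _) ((Category.comp_id _).trans hf)
    ((Category.comp_id _).trans (Category.id_comp _).symm) ?_
  show (c ≫ ef.inv⟦(1 : ℤ)⟧') ≫ ef.hom⟦(1 : ℤ)⟧' = 𝟙 _ ≫ c
  rw [Category.assoc, ← Functor.map_comp, ef.inv_hom_id, CategoryTheory.Functor.map_id, Category.id_comp]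
  exact Category.comp_id c

end main

/-- sections of cohomology over affine opens are derived sections -/
theorem psi_bijective (E : DCoh.D X) (hE : DCoh.IsQCohD E) (U : X.affineOpens) :
    Function.Bijective (H7Unbounded.psi (freeU U.1) E) := by
  haveI := hasProduct_derived (fun n : ULift.{u} ℕ => trunc E n.down)
  let e := Discrete.equivalence (Equiv.ulift.{u, 0} (α := ℕ))
  haveI : HasLimit (e.functor ⋙ Discrete.functor (trunc E)) :=
    hasLimit_of_iso (F := Discrete.functor fun n : ULift.{u} ℕ => trunc E n.down) (Discrete.natIso fun _ => Iso.refl _)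
  haveI : HasProduct (trunc E) := hasLimit_of_equivalence_comp e
  exact (facts E hE).2 U

end Groth.Agent.H7AffineD
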