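import Groth.Agent.Lib.FpqcDescent
import Groth.Agent.Lib.H6.Misc2
import Mathlib

/-! Affineness descends along flat surjective morphisms which need not be quasi-compact. -/

set_option autoImplicit false

universe u

open CategoryTheory CategoryTheory.Limits AlgebraicGeometry MorphismProperty TopologicalSpace

namespace Groth.Agent.H7AffineFlat

/-- A quasi-compact morphism which becomes an isomorphism over a family of flat preimmersions covering the
target is an isomorphism. -/
theorem isIso_of_cover {X Z : Scheme.{u}} (η : X ⟶ Z) [QuasiCompact η]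
    (H : ∀ z : Z, ∃ (X' W : Scheme.{u}) (a : X' ⟶ X) (η' : X' ⟶ W) (q : W ⟶ Z),
      IsPullback a η' η q ∧ IsIso η' ∧ Flat q ∧ IsPreimmersion q ∧ ∃ w, q w = z) :
    IsIso η := by
  have hinj : Function.Injective η := by
    intro x₁ x₂ h
    obtain ⟨X', W, a, η', q, hsq, hi, _, _, w, hw⟩ := H (η x₁)
    obtain ⟨u₁, h₁, h₁'⟩ := Scheme.exists_preimage_of_isPullback hsq x₁ w hw.symm
    obtain ⟨u₂, h₂, h₂'⟩ := Scheme.exists_preimage_of_isPullback hsq x₂ w (h.symm.trans hw.symm)
    have : u₁ = u₂ := η'.homeomorph.injective (h₁'.trans h₂'.symm)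
    rw [← h₁, ← h₂, this]
  have hsurj : Function.Surjective η := by
    intro z
    obtain ⟨X', W, a, η', q, hsq, hi, _, _, w, hw⟩ := H z
    obtain ⟨u, hu⟩ := η'.homeomorph.surjective w
    refine ⟨a u, ?_⟩
    rw [← hw, ← show η' u = w from hu, ← Scheme.Hom.comp_apply, ← Scheme.Hom.comp_apply, hsq.w]
  have hspec : SpecializingMap η := by
    intro x z' hxz
    obtain ⟨X', W, a, η', q, hsq, hi, hfl, _, w', hw'⟩ := H z'
    obtain ⟨w, hww, hw⟩ := Flat.generalizingMap q (hw'.symm ▸ hxz : η x ⤳ q w')
    refine ⟨a (η'.homeomorph.symm w'), ?_, ?_⟩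
    · have he : a (η'.homeomorph.symm w) = x := by
        refine hinj ?_
        rw [← hw, ← Scheme.Hom.comp_apply, hsq.w, Scheme.Hom.comp_apply]
        exact congrArg q (η'.homeomorph.apply_symm_apply w)
      rw [← he]
      exact ((hww.map η'.homeomorph.symm.continuous).map a.continuous)
    · rw [← Scheme.Hom.comp_apply, hsq.w, Scheme.Hom.comp_apply, ← hw']
      exact congrArg q (η'.homeomorph.apply_symm_apply w')
  have hclosed : IsClosedMap η := (isClosedMap_iff_specializingMap η).2 hspec
  have hst : ∀ x, IsIso (η.stalkMap x) := by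
    intro x
    obtain ⟨X', W, a, η', q, hsq, hi, hfl, hpi, w, hw⟩ := H (η x)
    obtain ⟨u, hu, hu'⟩ := Scheme.exists_preimage_of_isPullback hsq x w hw.symm
    subst hu
    haveI : IsPreimmersion a := MorphismProperty.of_isPullback hsq.flip hpi
    haveI : Flat a := MorphismProperty.of_isPullback hsq.flip hfl
    haveI := hi
    have bij : ∀ {A B : Scheme.{u}} (f : A ⟶ B) [Flat f] [IsPreimmersion f] (v : A), IsIso (f.stalkMap v) := by
      intro A B f _ _ v
      refine (ConcreteCategory.isIso_iff_bijective _).2 ⟨?_, f.stalkMap_surjective v⟩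
      algebraize [(f.stalkMap v).hom]
      haveI : Module.Flat (B.presheaf.stalk (f v)) (A.presheaf.stalk v) := Flat.stalkMap f v
      haveI : IsLocalHom (algebraMap (B.presheaf.stalk (f v)) (A.presheaf.stalk v)) :=
        inferInstanceAs (IsLocalHom (f.stalkMap v).hom)
      haveI := Module.FaithfullyFlat.of_flat_of_isLocalHom (A := B.presheaf.stalk (f v)) (B := A.presheaf.stalk v)
      exact FaithfulSMul.algebraMap_injective (B.presheaf.stalk (f v)) (A.presheaf.stalk v)
    haveI := bij a u
    haveI : IsIso (η.stalkMap (a u) ≫ a.stalkMap u) := by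
      rw [← Scheme.Hom.stalkMap_comp, Scheme.Hom.stalkMap_congr_hom _ _ hsq.w, Scheme.Hom.stalkMap_comp]
      haveI := bij q (η' u)
      haveI : IsIso (η'.stalkMap u) := inferInstance
      exact IsIso.comp_isIso' inferInstance (IsIso.comp_isIso' (bij q (η' u)) inferInstance)
    exact IsIso.of_isIso_comp_right (η.stalkMap (a u)) (a.stalkMap u)
  haveI := hst
  haveI : IsOpenImmersion η := IsOpenImmersion.of_isIso_stalkMap η
    ((Equiv.ofBijective η ⟨hinj, hsurj⟩).toHomeomorphOfContinuousClosed η.continuous hclosed).isOpenEmbedding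
  exact isIso_of_isOpenImmersion_of_opensRange_eq_top η (TopologicalSpace.Opens.ext hsurj.range_eq)

theorem isAffine_of_stalks {X Y : Scheme.{u}} [IsAffine Y] (f : X ⟶ Y) [QuasiCompact f] [QuasiSeparated f]
    (h : ∀ y : Y, IsAffineHom (pullback.snd f (Y.fromSpecStalk y))) : IsAffine X := by
  have : CompactSpace X := (quasiCompact_iff_compactSpace f).1 inferInstance
  have : QuasiSeparatedSpace X := quasiSeparatedSpace_of_quasiSeparated f
  haveI : QuasiCompact X.toSpecΓ :=
    haveI : QuasiCompact (X.toSpecΓ ≫ terminal.from _) := by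
      rw [terminal.comp_from]; exact (quasiCompact_iff_compactSpace _).2 inferInstance
    QuasiCompact.of_comp X.toSpecΓ (terminal.from _)
  refine ⟨isIso_of_cover X.toSpecΓ fun z => ?_⟩
  let y := Y.isoSpec.inv (Spec.map f.appTop z)
  let j := Y.fromSpecStalk y
  haveI : Flat j := H6.flat_fromSpecStalk Y y
  haveI : IsAffineHom j := isAffineHom_of_isAffine j
  haveI := h y
  let X' := pullback f j
  let pY : X' ⟶ X := pullback.fst _ _
  let pX : X' ⟶ _ := pullback.snd _ _
  haveI : IsAffine X' := isAffine_of_isAffineHom pX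
  have H : IsPullback pY pX f j := IsPullback.of_hasPullback _ _
  have hiso := isIso_pushoutSection_of_isQuasiSeparated_of_flat_right H
    (US := ⊤) (UT := ⊤) (UX := ⊤) (UY := ⊤) (by simp) (by simp) (by simp)
    (isAffineOpen_top _) (isAffineOpen_top _) (by simpa using isCompact_univ)
    (by simpa using isQuasiSeparated_univ)
  have hpo := (isIso_pushoutSection_iff _ _ _ _).1 hiso
  have hA : IsPullback (Spec.map pY.appTop) (Spec.map pX.appTop) (Spec.map f.appTop) (Spec.map j.appTop) := by
    have := isPullback_SpecMap_of_isPushout _ _ _ _ hpo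
    simpa only [Scheme.Hom.appTop, Scheme.Hom.app_eq_appLE, Scheme.Hom.preimage_top] using this
  have hB : IsPullback pY (X'.toSpecΓ ≫ Spec.map pX.appTop) (X.toSpecΓ ≫ Spec.map f.appTop)
      (Spec.map j.appTop) := by
    refine H.of_iso (Iso.refl _) (Iso.refl _) (Spec (Y.presheaf.stalk y)).isoSpec Y.isoSpec (by simp) ?_ ?_ ?_
    · simp [X', Scheme.toSpecΓ_naturality]
    · exact Scheme.toSpecΓ_naturality f
    · exact Scheme.toSpecΓ_naturality j
  have hC : IsPullback pY X'.toSpecΓ X.toSpecΓ (Spec.map pY.appTop) :=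
    IsPullback.of_bot hB (Scheme.toSpecΓ_naturality _) hA
  have e : CategoryTheory.Arrow.mk j ≅ CategoryTheory.Arrow.mk (Spec.map j.appTop) :=
    CategoryTheory.Arrow.isoMk (Spec (Y.presheaf.stalk y)).isoSpec Y.isoSpec (Scheme.toSpecΓ_naturality j).symm
  have h1 : Flat (Spec.map j.appTop) := (MorphismProperty.arrow_mk_iso_iff @Flat e).1 inferInstance
  have h2 : IsPreimmersion (Spec.map j.appTop) :=
    (MorphismProperty.arrow_mk_iso_iff @IsPreimmersion e).1 inferInstance
  refine ⟨X', _, pY, X'.toSpecΓ, Spec.map pY.appTop, hC, inferInstance,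
    MorphismProperty.of_isPullback hA.flip h1, MorphismProperty.of_isPullback hA.flip h2, ?_⟩
  have hy : Spec.map j.appTop ((Spec (Y.presheaf.stalk y)).toSpecΓ (IsLocalRing.closedPoint _)) =
      Spec.map f.appTop z := by
    rw [← Scheme.Hom.comp_apply, ← Scheme.toSpecΓ_naturality, Scheme.Hom.comp_apply,
      Scheme.fromSpecStalk_closedPoint]
    show (Y.isoSpec.inv ≫ Y.isoSpec.hom) (Spec.map f.appTop z) = _
    rw [Iso.inv_hom_id]
    rfl
  obtain ⟨w, hw, -⟩ := Scheme.exists_preimage_of_isPullback hA z _ hy.symm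
  exact ⟨w, hw⟩

theorem affine_snd_comp {X Y T W : Scheme.{u}} (f : X ⟶ Y) (b : T ⟶ Y) (a : W ⟶ T) (h : IsAffineHom (pullback.snd f b)) :
    IsAffineHom (pullback.snd f (a ≫ b)) := by
  rw [← MorphismProperty.cancel_left_of_respectsIso @IsAffineHom (pullbackLeftPullbackSndIso f b a).hom,
    pullbackLeftPullbackSndIso_hom_snd]
  exact MorphismProperty.pullback_snd _ _ h

theorem isAffineHom_of_stalks {X Y : Scheme.{u}} (f : X ⟶ Y) [QuasiCompact f] [QuasiSeparated f]
    (h : ∀ y : Y, IsAffineHom (pullback.snd f (Y.fromSpecStalk y))) : IsAffineHom f := by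
  refine ⟨fun U hU => ?_⟩
  haveI : IsAffine (U : Scheme.{u}) := hU
  haveI : QuasiCompact (f ∣_ U) := MorphismProperty.of_isPullback (isPullback_morphismRestrict f U).flip ‹_›
  haveI : QuasiSeparated (f ∣_ U) := MorphismProperty.of_isPullback (isPullback_morphismRestrict f U).flip ‹_›
  refine isAffine_of_stalks (f ∣_ U) fun v => ?_
  let k := (U : Scheme.{u}).fromSpecStalk v
  have hk : IsIso (U.ι.stalkMap v) := inferInstance
  let b := Y.fromSpecStalk (U.ι v)
  have hb : k ≫ U.ι = Spec.map (U.ι.stalkMap v) ≫ b := (Scheme.SpecMap_stalkMap_fromSpecStalk U.ι (x := v)).symm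
  haveI : IsAffineHom (pullback.snd f b) := h _
  have key : IsAffineHom (pullback.snd f (k ≫ U.ι)) := by
    rw [hb]; exact affine_snd_comp f b _ (h _)
  have S := (IsPullback.of_hasPullback (f ∣_ U) k).paste_horiz (isPullback_morphismRestrict f U).flip
  show IsAffineHom (pullback.snd (f ∣_ U) k)
  rw [← S.isoPullback_hom_snd]
  infer_instance

theorem isAffineHom_iff {X Y Y' : Scheme.{u}} (f : X ⟶ Y) (g : Y' ⟶ Y) [Flat g] [Surjective g] :
    IsAffineHom f ↔ QuasiCompact f ∧ QuasiSeparated f ∧ IsAffineHom (pullback.snd f g) := by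
  refine ⟨fun h => ⟨inferInstance, inferInstance, MorphismProperty.pullback_snd _ _ h⟩, fun ⟨_, _, h⟩ => isAffineHom_of_stalks f fun y => ?_⟩
  obtain ⟨y', rfl⟩ := g.surjective y
  let a := Spec.map (g.stalkMap y')
  let b := Y.fromSpecStalk (g y')
  have hab : Y'.fromSpecStalk y' ≫ g = a ≫ b := (Scheme.SpecMap_stalkMap_fromSpecStalk g (x := y')).symm
  haveI hfl : Flat a := by
    rw [HasRingHomProperty.Spec_iff (P := @Flat)]; exact Flat.stalkMap g y'
  haveI hsu : Surjective a := by
    constructor
    algebraize [(g.stalkMap y').hom]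
    haveI : Module.Flat (Y.presheaf.stalk (g y')) (Y'.presheaf.stalk y') := Flat.stalkMap g y'
    haveI : IsLocalHom (algebraMap (Y.presheaf.stalk (g y')) (Y'.presheaf.stalk y')) :=
      inferInstanceAs (IsLocalHom (g.stalkMap y').hom)
    haveI := Module.FaithfullyFlat.of_flat_of_isLocalHom (A := Y.presheaf.stalk (g y')) (B := Y'.presheaf.stalk y')
    exact PrimeSpectrum.comap_surjective_of_faithfullyFlat
  have hQ : (@Surjective ⊓ @Flat ⊓ @QuasiCompact : MorphismProperty Scheme.{u}) a :=
    ⟨⟨hsu, hfl⟩, inferInstance⟩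
  have key : IsAffineHom (pullback.snd f (a ≫ b)) := by
    rw [← hab]; exact affine_snd_comp f g _ h
  refine MorphismProperty.of_pullback_snd_of_descendsAlong (P := @IsAffineHom) hQ
    (f := pullback.snd f b) ?_
  rw [← pullbackLeftPullbackSndIso_hom_snd f b a]
  infer_instance

end Groth.Agent.H7AffineFlat
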