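import Groth.Agent.Lib.H7PerfHom
import Groth.Agent.Lib.H7TensorQCD
import Groth.Agent.Lib.H7TildeEquiv
import Groth.Agent.Lib.H7RpushQCoh
import Mathlib

/-! Maps out of finite locally free modules and complexes on affine schemes. -/

universe u v w v₁ u₁
open CategoryTheory Limits AlgebraicGeometry Opposite Pretriangulated HomologicalComplex

namespace Groth.Agent.H7AffineHom
open Groth.Agent

attribute [local instance] HasDerivedCategory.standard

section generic

variable {C : Type u₁} [Category.{v₁} C] [Abelian C]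

/-- boundaries give null-homotopic maps -/
noncomputable def homotopyZero {P : C} {K : CochainComplex C ℤ} (i : ℤ)
    (φ : (single C (ComplexShape.up ℤ) i).obj P ⟶ K) (w : P ⟶ K.X (i - 1))
    (hw : (singleObjXSelf (ComplexShape.up ℤ) i P).inv ≫ φ.f i = w ≫ K.d (i - 1) i) : Homotopy φ 0 where
  hom k l := if h : k = i ∧ l = i - 1 then
      eqToHom (by rw [h.1]) ≫ (singleObjXSelf (ComplexShape.up ℤ) i P).hom ≫ w ≫ eqToHom (by rw [h.2]) else 0
  zero k l hkl := dif_neg fun h => hkl (by show l + 1 = k; omega)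
  comm k := by
    by_cases hk : k = i
    · subst hk
      rw [dNext_eq _ (show (ComplexShape.up ℤ).Rel k (k + 1) from rfl),
        prevD_eq _ (show (ComplexShape.up ℤ).Rel (k - 1) k from sub_add_cancel k 1),
        single_obj_d, zero_comp, zero_add, dif_pos ⟨rfl, rfl⟩]
      simp only [eqToHom_refl, Category.id_comp, Category.comp_id]
      rw [Category.assoc, ← hw, Iso.hom_inv_id_assoc]
      exact (add_zero _).symm
    · exact (isZero_single_obj_X _ _ _ _ hk).eq_of_src _ _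

open CochainComplex.HomComplex in
/-- null-homotopies out of a bounded above complex, by descending induction -/
theorem exists_homotopy {E K : CochainComplex C ℤ} (b : ℤ) (hb : ∀ i : ℤ, b < i → IsZero (E.X i))
    (hK : ∀ (p : ℤ) (φ : E.X p ⟶ K.X p), φ ≫ K.d p (p + 1) = 0 → ∃ ψ : E.X p ⟶ K.X (p - 1), ψ ≫ K.d (p - 1) p = φ)
    (f : E ⟶ K) : Nonempty (Homotopy f 0) := by
  let S (k : ℕ) : Type v₁ :=
    { α : Cochain E K (-1) // ∀ p : ℤ, b - k < p → (δ (-1) 0 α).v p p (add_zero p) = f.f p }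
  let x₀ : S 0 := ⟨0, fun p hp => (hb p (by omega)).eq_of_src _ _⟩
  have hu : ∀ (k : ℕ) (x : S k) (p : ℤ), p = b - k →
      (f.f p - (δ (-1) 0 x.1).v p p (add_zero p)) ≫ K.d p (p + 1) = 0 := by
    intro k x p hp
    have h1 := x.2 (p + 1) (by omega)
    rw [δ_v (-1) 0 (neg_add_cancel 1) _ (p + 1) (p + 1) (add_zero _) p (p + 2) (by omega) (by omega)] at h1
    rw [δ_v (-1) 0 (neg_add_cancel 1) _ p p (add_zero _) (p - 1) (p + 1) rfl rfl]
    simp only [Int.negOnePow_zero, one_smul] at h1 ⊢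
    rw [Preadditive.sub_comp, Preadditive.add_comp, Category.assoc, K.d_comp_d, comp_zero, zero_add, f.comm, ← h1,
      Preadditive.comp_add, E.d_comp_d_assoc, zero_comp, add_zero, Category.assoc, sub_self]
  let step (k : ℕ) (x : S k) : S (k + 1) :=
    ⟨x.1 + Cochain.single (p := b - k) (q := b - k - 1) (hK (b - k) _ (hu k x _ rfl)).choose (-1), fun p hp => by
      rw [δ_add, Cochain.add_v]
      rcases eq_or_ne p (b - k) with rfl | hne
      · rw [δ_v (-1) 0 (neg_add_cancel 1) (Cochain.single _ (-1)) (b - k) (b - k) (add_zero _) (b - k - 1) (b - k + 1) rfl rfl,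
          Cochain.single_v, Cochain.single_v_eq_zero _ _ _ _ _ (by omega), comp_zero, smul_zero, add_zero,
          (hK (b - k) _ (hu k x _ rfl)).choose_spec, add_sub_cancel]
      · rw [x.2 p (by omega), δ_v (-1) 0 (neg_add_cancel 1) (Cochain.single _ (-1)) p p (add_zero _) (p - 1) (p + 1) rfl rfl,
          Cochain.single_v_eq_zero _ _ _ _ _ hne, Cochain.single_v_eq_zero _ _ _ _ _ (by omega), zero_comp,
          comp_zero, smul_zero, add_zero, add_zero]⟩
  let seq : ∀ k : ℕ, S k := fun k => Nat.rec x₀ step k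
  have hstab : ∀ (p q : ℤ) (hpq : p + (-1) = q) (j k : ℕ), b - j < p → j ≤ k →
      (seq k).1.v p q hpq = (seq j).1.v p q hpq := by
    intro p q hpq j k hp hjk
    induction hjk with
    | refl => rfl
    | @step m hm ih =>
      have hm' : j ≤ m := hm
      show ((seq m).1 + Cochain.single _ (-1)).v p q hpq = _
      rw [Cochain.add_v, Cochain.single_v_eq_zero _ _ _ _ _ (by omega), add_zero, ih]
  let N : ℤ → ℕ := fun p => (b - p + 1).toNat
  let α : Cochain E K (-1) := Cochain.mk fun p q hpq => (seq (N p)).1.v p q hpq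
  refine ⟨(Cochain.equivHomotopy f 0).symm ⟨α, Cochain.ext₀ _ _ fun p => ?_⟩⟩
  rw [Cochain.ofHom_v, Cochain.add_v, Cochain.ofHom_v, HomologicalComplex.zero_f, add_zero,
    ← (seq (N p)).2 p (by simp only [N]; omega),
    δ_v (-1) 0 (neg_add_cancel 1) _ p p (add_zero _) (p - 1) (p + 1) rfl rfl,
    δ_v (-1) 0 (neg_add_cancel 1) α p p (add_zero _) (p - 1) (p + 1) rfl rfl]
  show _ = (seq (N p)).1.v p (p - 1) _ ≫ _ + _ • _ ≫ (seq (N (p + 1))).1.v (p + 1) p _
  rw [hstab (p + 1) p (by omega) (N (p + 1)) (N p) (by simp only [N]; omega) (by simp only [N]; omega)]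

end generic

variable {X : Scheme.{u}} [IsAffine X] {P : X.Modules}

local notation "S₀" => DerivedCategory.singleFunctor X.Modules 0
local notation "Cx" => CochainComplex X.Modules ℤ

/-- maps out of a finite locally free module are detected on `H⁰` -/
theorem psi_injective (hP : FlatMod.IsFinLocFree P) {L : DCoh.D X} (hL : DCoh.IsQCohD L)
    (ψ : (S₀).obj P ⟶ L) (h : H7Unbounded.psi P L ψ = 0) : ψ = 0 := by
  let t : CategoryTheory.Triangulated.TStructure (DCoh.D X) := DerivedCategory.TStructure.t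
  have step : ∀ (E : DCoh.D X) (n : ℤ), DCoh.IsQCohD E → ∀ (A B : DCoh.D X) (f : A ⟶ E) (g : E ⟶ B) (c : B ⟶ A⟦(1 : ℤ)⟧),
      Triangle.mk f g c ∈ distTriang _ → A.IsLE n → B.IsGE (n + 1) →
      DCoh.IsQCohD A ∧ DCoh.IsQCohD B ∧ (∀ i, i ≤ n → IsIso ((DerivedCategory.homologyFunctor _ i).map f)) ∧
        (∀ i, n + 1 ≤ i → IsIso ((DerivedCategory.homologyFunctor _ i).map g)) := by
    intro E n hE A B f g c hT hA hB
    have h1 : ∀ i, i ≤ n → IsIso ((DerivedCategory.homologyFunctor _ i).map f) := fun i hi =>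
      H5WayOut.isIso_H_mor₁ _ hT i (DerivedCategory.isZero_of_isGE B (n + 1) _ (by omega))
        (DerivedCategory.isZero_of_isGE B (n + 1) _ (by omega))
    have h2 : ∀ i, n + 1 ≤ i → IsIso ((DerivedCategory.homologyFunctor _ i).map g) := fun i hi =>
      H5WayOut.isIso_H_mor₂ _ hT i (DerivedCategory.isZero_of_isLE A n _ (by omega))
        (DerivedCategory.isZero_of_isLE A n _ (by omega))
    refine ⟨fun i => ?_, fun i => ?_, h1, h2⟩
    · rcases le_or_gt i n with hi | hi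
      · haveI := h1 i hi
        exact H7AffineD.qcoh_of_iso (asIso ((DerivedCategory.homologyFunctor _ i).map f)).symm (hE i)
      · exact H7AffineD.qcoh_of_isZero (DerivedCategory.isZero_of_isLE A n i hi) (hE i)
    · rcases le_or_gt (n + 1) i with hi | hi
      · haveI := h2 i hi
        exact H7AffineD.qcoh_of_iso (asIso ((DerivedCategory.homologyFunctor _ i).map g)) (hE i)
      · exact H7AffineD.qcoh_of_isZero (DerivedCategory.isZero_of_isGE B (n + 1) i hi) (hE i)
  obtain ⟨A, B, hA, hB, f, g, c, hT⟩ := t.exists_triangle L (-1) 0 (by omega)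
  haveI : A.IsLE (-1) := ⟨hA⟩
  haveI : B.IsGE 0 := ⟨hB⟩
  obtain ⟨hAq, hBq, -, hg⟩ := step L (-1) hL A B f g c hT inferInstance (inferInstanceAs (B.IsGE 0))
  obtain ⟨A', B', hA', hB', f', g', c', hT'⟩ := t.exists_triangle B 0 1 (by omega)
  haveI : A'.IsLE 0 := ⟨hA'⟩
  haveI : B'.IsGE 1 := ⟨hB'⟩
  obtain ⟨-, hB'q, hf', -⟩ := step B 0 hBq A' B' f' g' c' hT' inferInstance (inferInstanceAs (B'.IsGE 1))
  haveI : A'.IsGE 0 := by
    rw [DerivedCategory.isGE_iff]
    intro i hi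
    haveI := hf' i hi.le
    exact (DerivedCategory.isZero_of_isGE B 0 i hi).of_iso (asIso ((DerivedCategory.homologyFunctor _ i).map f'))
  suffices hψ : ψ ≫ g = 0 by
    obtain ⟨χ, hχ⟩ : ∃ χ : (S₀).obj P ⟶ A, ψ = χ ≫ f := Triangle.coyoneda_exact₂ _ hT ψ hψ
    rw [hχ, H7PerfHom.window_finLocFree hP A hAq (DerivedCategory.isZero_of_isLE A (-1) 0 (by omega)) χ, zero_comp]
  obtain ⟨χ, hχ⟩ : ∃ χ : (S₀).obj P ⟶ A', ψ ≫ g = χ ≫ f' := Triangle.coyoneda_exact₂ _ hT' _
    (H7PerfHom.window_finLocFree hP B' hB'q (DerivedCategory.isZero_of_isGE B' 1 0 (by omega)) _)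
  have hs : H7Unbounded.psi P A' χ = 0 := by
    haveI := hf' 0 le_rfl
    rw [← cancel_mono ((DerivedCategory.homologyFunctor _ 0).map f'), ← H7Unbounded.psi_comp, ← hχ,
      H7Unbounded.psi_comp, h, zero_comp, zero_comp]
  obtain ⟨M, ⟨e⟩⟩ := DerivedCategory.exists_iso_singleFunctor_obj_of_isGE_of_isLE A' 0
  obtain ⟨k, hk⟩ := (S₀).map_surjective (χ ≫ e.hom)
  have h1 : H7Unbounded.psi P _ ((S₀).map k) = 0 := by
    rw [hk, H7Unbounded.psi_comp, hs, zero_comp]
  have h2 : k = 0 := by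
    rw [← cancel_mono ((DerivedCategory.singleFunctorCompHomologyFunctorIso X.Modules 0).inv.app M), zero_comp]
    exact ((DerivedCategory.singleFunctorCompHomologyFunctorIso X.Modules 0).inv.naturality k).trans h1
  rw [h2, Functor.map_zero] at hk
  have hχ0 : χ = 0 := (cancel_mono e.hom).1 (hk.symm.trans zero_comp.symm)
  rw [hχ, hχ0, zero_comp]

/-- lifting through epimorphisms with quasi-coherent kernel -/
theorem exists_lift (hP : FlatMod.IsFinLocFree P) {A B : X.Modules} (g : A ⟶ B) [Epi g]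
    (hk : Coh.IsQCoh (kernel g)) (φ : P ⟶ B) : ∃ ψ : P ⟶ A, ψ ≫ g = φ := by
  let T : ShortComplex X.Modules := ShortComplex.mk (kernel.ι g) g (kernel.condition g)
  have hT : T.ShortExact :=
    { exact := ShortComplex.exact_of_f_is_kernel _ (kernelIsKernel g)
      mono_f := inferInstanceAs (Mono (kernel.ι g))
      epi_g := inferInstanceAs (Epi g) }
  let L : DCoh.D X := ((S₀).obj (kernel g))⟦(1 : ℤ)⟧
  have hH : ∀ i : ℤ, DCoh.HD L i ≅ DCoh.HD ((S₀).obj (kernel g)) (i + 1) := fun i =>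
    ((DerivedCategory.homologyFunctor X.Modules 0).shiftIso (1 : ℤ) i (i + 1) (by ring)).app _
  haveI : ((S₀).obj (kernel g)).IsLE 0 := inferInstance
  haveI : ((S₀).obj (kernel g)).IsGE 0 := inferInstance
  have hS : DCoh.IsQCohD ((S₀).obj (kernel g)) := fun i => by
    rcases lt_trichotomy i 0 with hi | hi | hi
    · exact H7AffineD.qcoh_of_isZero (DerivedCategory.isZero_of_isGE _ 0 i hi) hk
    · subst hi
      exact H7AffineD.qcoh_of_iso ((DerivedCategory.singleFunctorCompHomologyFunctorIso X.Modules 0).app _).symm hk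
    · exact H7AffineD.qcoh_of_isZero (DerivedCategory.isZero_of_isLE _ 0 i hi) hk
  have h0 : (S₀).map φ ≫ hT.singleδ = 0 := H7PerfHom.window_finLocFree hP L
    (fun i => H7AffineD.qcoh_of_iso (hH i).symm (hS _))
    ((DerivedCategory.isZero_of_isLE _ 0 _ (by omega)).of_iso (hH 0)) _
  obtain ⟨ψ, hψ⟩ : ∃ ψ : (S₀).obj P ⟶ (S₀).obj A, (S₀).map φ = ψ ≫ (S₀).map g :=
    Triangle.coyoneda_exact₃ _ hT.singleTriangle_distinguished _ h0
  obtain ⟨ψ', rfl⟩ := (S₀).map_surjective ψ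
  exact ⟨ψ', (S₀).map_injective (((S₀).map_comp _ _).trans hψ.symm)⟩

/-- `Hom_K(P, F) = Hom_D(P, F)` for quasi-coherent terms -/
theorem bijective_single (hP : FlatMod.IsFinLocFree P) (F : Cx) (hF : ∀ i, Coh.IsQCoh (F.X i)) :
    Function.Bijective (fun φ : (HomotopyCategory.quotient X.Modules (ComplexShape.up ℤ)).obj
        ((single X.Modules (ComplexShape.up ℤ) 0).obj P) ⟶ (HomotopyCategory.quotient _ _).obj F =>
      (DerivedCategory.Qh (C := X.Modules)).map φ) := by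
  have hq := H7TensorQCD.isQCohD_Q F hF
  have hh := H7TensorQCD.qcoh_homology F hF 0
  have hc : Coh.IsQCoh (F.cycles 0) :=
    H7AffineD.qcoh_of_iso ((limit.isLimit (parallelPair (F.d 0 1) 0)).conePointUniqueUpToIso
      (F.cyclesIsKernel 0 1 (by simp)))
      (@LQcoh.isQuasicoherent_kernel _ _ _ (hF 0) (hF 1) (F.d 0 1))
  have hkπ : Coh.IsQCoh (kernel (F.homologyπ 0)) := @LQcoh.isQuasicoherent_kernel _ _ _ hc hh _
  let toK : F.X (0 - 1) ⟶ kernel (F.homologyπ 0) :=
    kernel.lift _ (F.toCycles (0 - 1) 0) (F.toCycles_comp_homologyπ _ _)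
  haveI : Epi toK := (ShortComplex.exact_iff_epi_kernel_lift _).1 (ShortComplex.exact_of_g_is_cokernel
    (ShortComplex.mk _ _ (F.toCycles_comp_homologyπ (0 - 1) 0)) (F.homologyIsCokernel (0 - 1) 0 (by simp)))
  have hkt : Coh.IsQCoh (kernel toK) := @LQcoh.isQuasicoherent_kernel _ _ _ (hF _) hkπ _
  let q := DerivedCategory.quotientCompQhIso X.Modules
  have hQ : ∀ f : (single X.Modules (ComplexShape.up ℤ) 0).obj P ⟶ F,
      DerivedCategory.Qh.map ((HomotopyCategory.quotient _ _).map f) ≫ q.hom.app F =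
        q.hom.app _ ≫ DerivedCategory.Q.map f := fun f => q.hom.naturality f
  constructor
  · intro a₁ a₂ ha
    suffices h : ∀ f : (single X.Modules (ComplexShape.up ℤ) 0).obj P ⟶ F,
        DerivedCategory.Qh.map ((HomotopyCategory.quotient _ _).map f) = 0 →
          (HomotopyCategory.quotient _ _).map f = 0 by
      obtain ⟨f, hf⟩ := (HomotopyCategory.quotient _ _).map_surjective (a₁ - a₂)
      rw [← sub_eq_zero, ← hf]
      refine h f ?_
      rw [hf, Functor.map_sub]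
      exact sub_eq_zero.2 ha
    intro f hf
    have h1 : DerivedCategory.Q.map f = 0 := by
      rw [← cancel_epi (q.hom.app _), ← hQ, hf, zero_comp, comp_zero]
    have h2 := H7TildeEquiv.psi_Q f
    rw [h1, comp_zero, map_zero] at h2
    have h3 : H7TildeEquiv.cyc f ≫ F.homologyπ 0 = 0 := by
      rw [← cancel_mono (H7TildeEquiv.uIso F).inv, ← cancel_epi (H7TildeEquiv.sigma P).hom, Category.assoc, ← h2]
      simp
    obtain ⟨y, hy⟩ := exists_lift hP toK hkt (kernel.lift _ _ h3)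
    have h4 : y ≫ F.toCycles (0 - 1) 0 = H7TildeEquiv.cyc f := by
      have := hy =≫ kernel.ι _
      rw [Category.assoc, kernel.lift_ι, kernel.lift_ι] at this
      exact this
    have h5 : (singleObjXSelf (ComplexShape.up ℤ) 0 P).inv ≫ f.f 0 = y ≫ F.d (0 - 1) 0 := by
      rw [← toCycles_i, reassoc_of% h4, H7TildeEquiv.cyc, Category.assoc, cyclesMap_i]
      simp [singleObjCyclesSelfIso, singleObjXSelf, XIsoOfEq_rfl]
    rw [HomotopyCategory.eq_of_homotopy _ _ (homotopyZero 0 f y h5), Functor.map_zero]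
  · intro ψ
    let ψ' := q.inv.app ((single X.Modules (ComplexShape.up ℤ) 0).obj P) ≫ ψ ≫ q.hom.app F
    let g : P ⟶ F.homology 0 := (H7TildeEquiv.sigma P).inv ≫
      H7Unbounded.psi P _ ((H7TildeEquiv.wIso P).hom ≫ ψ') ≫ (H7TildeEquiv.uIso F).hom
    obtain ⟨z, hz⟩ := exists_lift hP (F.homologyπ 0) hkπ g
    refine ⟨(HomotopyCategory.quotient _ _).map (H7TildeEquiv.ofCyc z), ?_⟩
    have h1 : DerivedCategory.Q.map (H7TildeEquiv.ofCyc z) = ψ' := by
      rw [← cancel_epi (H7TildeEquiv.wIso P).hom, ← sub_eq_zero]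
      refine psi_injective hP hq _ ?_
      rw [map_sub, sub_eq_zero, H7TildeEquiv.psi_Q, H7TildeEquiv.cyc_ofCyc, reassoc_of% hz]
      simp [g]
    show DerivedCategory.Qh.map _ = ψ
    rw [← cancel_mono (q.hom.app F), hQ, h1]
    exact q.hom_inv_id_app_assoc _ _

/-- the cone of a K-injective resolution of a complex with quasi-coherent terms, seen from `P` -/
theorem exists_lift_cone (hP : FlatMod.IsFinLocFree P) {F J : Cx} (hF : ∀ i, Coh.IsQCoh (F.X i)) [J.IsKInjective]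
    (q : F ⟶ J) [QuasiIso q]
    (a : (HomotopyCategory.quotient X.Modules (ComplexShape.up ℤ)).obj ((single X.Modules (ComplexShape.up ℤ) 0).obj P) ⟶
      (HomotopyCategory.quotient _ _).obj (CochainComplex.mappingCone q)) : a = 0 := by
  let Qt := HomotopyCategory.quotient X.Modules (ComplexShape.up ℤ)
  have hT := HomotopyCategory.mappingCone_triangleh_distinguished q
  let T := CochainComplex.mappingCone.triangleh q
  have hi : IsIso (DerivedCategory.Qh.map T.mor₁) := H7LpullCalc.isIso_Qh_quotient_map q inferInstance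
  have hz : IsZero (DerivedCategory.Qh.obj T.obj₃) :=
    (Triangle.isZero₃_iff_isIso₁ _ (DerivedCategory.Qh.map_distinguished T hT)).2 hi
  let F' : Cx := F⟦(1 : ℤ)⟧
  let s : T.obj₁⟦(1 : ℤ)⟧ ≅ Qt.obj F' := ((Qt.commShiftIso (1 : ℤ)).app F).symm
  let a' : Qt.obj ((single X.Modules (ComplexShape.up ℤ) 0).obj P) ⟶ T.obj₃ := a
  have h3 : a' ≫ T.mor₃ = 0 := by
    rw [← cancel_mono s.hom, zero_comp]
    refine (bijective_single hP F' (fun i => hF (i + 1))).1 ?_
    show DerivedCategory.Qh.map ((a' ≫ T.mor₃) ≫ s.hom) = DerivedCategory.Qh.map 0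
    rw [Category.assoc, Functor.map_comp, Functor.map_zero, hz.eq_of_tgt (DerivedCategory.Qh.map a') 0, zero_comp]
  obtain ⟨b, hb⟩ : ∃ b : _ ⟶ T.obj₂, a' = b ≫ T.mor₂ := Triangle.coyoneda_exact₃ T hT a' h3
  let ι := @asIso _ _ _ _ (DerivedCategory.Qh.map T.mor₁) hi
  obtain ⟨c, hc⟩ := (bijective_single hP F hF).2 (DerivedCategory.Qh.map b ≫ ι.inv)
  let c' : Qt.obj ((single X.Modules (ComplexShape.up ℤ) 0).obj P) ⟶ T.obj₁ := c
  have hb' : b = c' ≫ T.mor₁ := by
    refine (CochainComplex.IsKInjective.Qh_map_bijective _ J).1 ?_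
    exact (((DerivedCategory.Qh.map_comp _ _).trans (congrArg (· ≫ _) hc)).trans
      ((Category.assoc _ _ _).trans ((congrArg (_ ≫ ·) ι.inv_hom_id).trans (Category.comp_id _)))).symm
  show a' = 0
  rw [hb, hb']
  exact (Category.assoc _ _ _).trans ((congrArg (c' ≫ ·) (comp_distTriang_mor_zero₁₂ T hT)).trans comp_zero)

/-- cocycles from null-homotopy of shifted maps -/
theorem exists_preimage {K : Cx} (m k₀ k₁ k₂ : ℤ) (h₀ : 0 - 1 + m = k₀) (h₁ : 0 + m = k₁) (h₂ : 0 + 1 + m = k₂)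
    (hK : ∀ e : (single X.Modules (ComplexShape.up ℤ) 0).obj P ⟶ K⟦m⟧, Nonempty (Homotopy e 0))
    (φ : P ⟶ K.X k₁) (hφ : φ ≫ K.d k₁ k₂ = 0) : ∃ ψ : P ⟶ K.X k₀, ψ ≫ K.d k₀ k₁ = φ := by
  subst h₀ h₁ h₂
  let e₀ : P ⟶ (K⟦m⟧).X 0 := φ
  let e : (single X.Modules (ComplexShape.up ℤ) 0).obj P ⟶ K⟦m⟧ := mkHomFromSingle e₀ fun k hk => by
    obtain rfl : 0 + 1 = k := hk
    show φ ≫ (m.negOnePow • K.d (0 + m) (0 + 1 + m)) = 0
    rw [Linear.comp_units_smul, hφ]
    exact smul_zero _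
  obtain ⟨H⟩ := hK e
  have hc := H.comm 0
  rw [dNext_eq _ (show (ComplexShape.up ℤ).Rel 0 (0 + 1) from rfl),
    prevD_eq _ (show (ComplexShape.up ℤ).Rel (0 - 1) 0 from sub_add_cancel 0 1), single_obj_d, zero_comp,
    zero_add, HomologicalComplex.zero_f, add_zero, mkHomFromSingle_f] at hc
  let y : P ⟶ (K⟦m⟧).X (0 - 1) := (singleObjXSelf (ComplexShape.up ℤ) 0 P).inv ≫ H.hom 0 (0 - 1)
  have hy : y ≫ (K⟦m⟧).d (0 - 1) 0 = e₀ := by
    rw [Category.assoc, ← hc, Iso.inv_hom_id_assoc]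
  let y' : P ⟶ K.X (0 - 1 + m) := y
  refine ⟨m.negOnePow • y', ?_⟩
  rw [Linear.units_smul_comp, ← Linear.comp_units_smul]
  exact hy

/-- morphisms out of bounded above complexes of finite locally free modules -/
theorem Qh_map_bijective (E F : Cx) (b : ℤ) (hEb : ∀ i : ℤ, b < i → IsZero (E.X i))
    (hE : ∀ i : ℤ, FlatMod.IsFinLocFree (E.X i)) (hF : ∀ i : ℤ, Coh.IsQCoh (F.X i)) :
    Function.Bijective (fun φ : (HomotopyCategory.quotient X.Modules (ComplexShape.up ℤ)).obj E ⟶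
      (HomotopyCategory.quotient _ _).obj F => (DerivedCategory.Qh (C := X.Modules)).map φ) := by
  obtain ⟨J, q, hJ, hq, -, -⟩ := H5KInj.exists_kInjective F
  haveI := hJ
  haveI := hq
  let Qt := HomotopyCategory.quotient X.Modules (ComplexShape.up ℤ)
  let K := CochainComplex.mappingCone q
  have hK : ∀ p n : ℤ, ∀ (e : (single X.Modules (ComplexShape.up ℤ) 0).obj (E.X p) ⟶ K⟦n⟧),
      Nonempty (Homotopy e 0) := fun p n e => by
    have hqn : QuasiIso (q⟦n⟧') := inferInstance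
    have hFn : ∀ i, Coh.IsQCoh ((F⟦n⟧).X i) := fun i => hF (i + n)
    let u : K⟦n⟧ ≅ CochainComplex.mappingCone (q⟦n⟧') := CochainComplex.mappingCone.shiftIso q n
    have h := exists_lift_cone (hE p) hFn (q⟦n⟧') (Qt.map (e ≫ u.hom))
    rw [← Qt.map_zero] at h
    exact ⟨((Homotopy.ofEq (by rw [Category.assoc, Iso.hom_inv_id, Category.comp_id])).trans
      ((HomotopyCategory.homotopyOfEq _ _ h).compRight u.inv)).trans (Homotopy.ofEq zero_comp)⟩
  have hlift : ∀ (p m : ℤ) (φ : E.X p ⟶ K.X m), φ ≫ K.d m (m + 1) = 0 →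
      ∃ ψ : E.X p ⟶ K.X (m - 1), ψ ≫ K.d (m - 1) m = φ := fun p m =>
    exists_preimage m (m - 1) m (m + 1) (by omega) (zero_add m) (by omega) (hK p m)
  have hnull : ∀ a : Qt.obj E ⟶ Qt.obj K, a = 0 := fun a => by
    obtain ⟨f, rfl⟩ := Qt.map_surjective a
    obtain ⟨H⟩ := exists_homotopy b hEb (fun p => hlift p p) f
    rw [HomotopyCategory.eq_of_homotopy _ _ H, Functor.map_zero]
  let K' : Cx := K⟦(-1 : ℤ)⟧
  have hnull' : ∀ a : Qt.obj E ⟶ Qt.obj K', a = 0 := fun a => by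
    obtain ⟨f, rfl⟩ := Qt.map_surjective a
    refine (HomotopyCategory.eq_of_homotopy _ _ (exists_homotopy b hEb (fun p φ hφ => ?_) f).some).trans (Functor.map_zero _ _ _)
    let φ' : E.X p ⟶ K.X (p + -1) := φ
    obtain ⟨ψ, hψ⟩ := exists_preimage (p + -1) (p - 1 + -1) (p + -1) (p + 1 + -1) (by omega) (zero_add _) (by omega)
      (hK p (p + -1)) φ' (by
        have h : φ' ≫ ((-1 : ℤ).negOnePow • K.d (p + -1) (p + 1 + -1)) = 0 := hφ
        rwa [Linear.comp_units_smul, smul_eq_zero_iff_eq] at h)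
    let ψ' : E.X p ⟶ K'.X (p - 1) := ((-1 : ℤ).negOnePow • ψ : E.X p ⟶ K.X (p - 1 + -1))
    refine ⟨ψ', ?_⟩
    show ((-1 : ℤ).negOnePow • ψ) ≫ ((-1 : ℤ).negOnePow • K.d (p - 1 + -1) (p + -1)) = φ'
    rw [Linear.units_smul_comp, Linear.comp_units_smul, smul_smul, Int.units_mul_self, one_smul, hψ]
  let T := CochainComplex.mappingCone.triangleh q
  have hT := HomotopyCategory.mappingCone_triangleh_distinguished q
  haveI : IsIso (DerivedCategory.Qh.map T.mor₁) := H7LpullCalc.isIso_Qh_quotient_map q inferInstance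
  have hJb := CochainComplex.IsKInjective.Qh_map_bijective (Qt.obj E) J
  have hsurj : ∀ y : Qt.obj E ⟶ T.obj₂, ∃ x : Qt.obj E ⟶ T.obj₁, x ≫ T.mor₁ = y := fun y => by
    obtain ⟨x, hx⟩ : ∃ x : Qt.obj E ⟶ T.obj₁, y = x ≫ T.mor₁ := Triangle.coyoneda_exact₂ T hT y (hnull _)
    exact ⟨x, hx.symm⟩
  constructor
  · intro x₁ x₂ h
    let a₁ : Qt.obj E ⟶ T.obj₁ := x₁
    let a₂ : Qt.obj E ⟶ T.obj₁ := x₂
    have h' : DerivedCategory.Qh.map a₁ = DerivedCategory.Qh.map a₂ := h
    show a₁ = a₂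
    refine sub_eq_zero.1 ?_
    let x : Qt.obj E ⟶ T.obj₁ := a₁ - a₂
    show x = 0
    have h2 : x ≫ T.mor₁ = 0 := hJb.1 (by
      show DerivedCategory.Qh.map ((a₁ - a₂) ≫ T.mor₁) = DerivedCategory.Qh.map 0
      rw [Preadditive.sub_comp, Functor.map_sub, Functor.map_comp, Functor.map_comp, h', sub_self]
      exact (Functor.map_zero _ _ _).symm)
    obtain ⟨z, hz⟩ : ∃ z : Qt.obj E ⟶ T.invRotate.obj₁, x = z ≫ T.invRotate.mor₁ :=
      Triangle.coyoneda_exact₂ _ (inv_rot_of_distTriang _ hT) x h2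
    let e : T.invRotate.obj₁ ≅ Qt.obj K' := ((Qt.commShiftIso (-1 : ℤ)).app K).symm
    have hz0 : z = 0 := (cancel_mono e.hom).1 ((hnull' _).trans zero_comp.symm)
    exact hz.trans ((congrArg (· ≫ _) hz0).trans zero_comp)
  · intro ψ
    obtain ⟨y, hy⟩ := hJb.2 (ψ ≫ DerivedCategory.Qh.map T.mor₁)
    obtain ⟨x, hx⟩ := hsurj y
    refine ⟨x, (cancel_mono (DerivedCategory.Qh.map T.mor₁)).1 ?_⟩
    exact ((DerivedCategory.Qh.map_comp x T.mor₁).symm.trans (congrArg (fun t => DerivedCategory.Qh.map t) hx)).trans hy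

end Groth.Agent.H7AffineHom
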