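import Groth.Agent.Lib.H7RpushCalc
import Groth.Agent.Lib.H7TildeEquiv
import Groth.Agent.Lib.H7AffineD
import Groth.Agent.Lib.LQAff
import Groth.Agent.Lib.H7QCohTri
import Mathlib

/-! Sections over affine opens of complexes with quasi-coherent cohomology; `Rf_*` for affine `f`. -/

universe u v w
open CategoryTheory Limits AlgebraicGeometry Opposite HomologicalComplex TopologicalSpace

namespace Groth.Agent.H7AffinePush
open Groth.Agent H7FlatCover

attribute [local instance] HasDerivedCategory.standard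

variable {X : Scheme.{u}}

/-- sections over `U` -/
noncomputable def secF (U : X.Opens) : X.Modules ⥤ AddCommGrpCat.{u} :=
  LQcoh.toShf X ⋙ sheafToPresheaf _ _ ⋙ (evaluation _ _).obj (op U)

instance secF_additive (U : X.Opens) : (secF U).Additive where

instance secF_limits (U : X.Opens) : PreservesFiniteLimits (secF U) := by
  unfold secF; infer_instance

lemma secF_map (U : X.Opens) {M N : X.Modules} (g : M ⟶ N) (m : Γ(M, U)) :
    (secF U).map g m = g.app U m := rfl

lemma preserves_of_elem (U : X.Opens) (S : ShortComplex X.Modules) (h : S.LeftHomologyData)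
    (hex : ∀ m : Γ(h.K, U), h.π.app U m = 0 → ∃ t, h.f'.app U t = m)
    (hsurj : Function.Surjective (h.π.app U)) : (secF U).PreservesLeftHomologyOf S := by
  have hex' : (ShortComplex.mk ((secF U).map h.f') ((secF U).map h.π)
      (by rw [← Functor.map_comp, h.f'_π, Functor.map_zero])).Exact := by
    rw [ShortComplex.ab_exact_iff]
    exact hex
  have hepi : Epi ((secF U).map h.π) := (AddCommGrpCat.epi_iff_surjective _).2 hsurj
  have : h.IsPreservedBy (secF U) :=
    { g := inferInstance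
      f' := preservesColimit_of_preserves_colimit_cocone h.hπ'
        ((CokernelCofork.isColimitMapCoconeEquiv _ _).symm hex'.gIsCokernel) }
  exact Functor.PreservesLeftHomologyOf.mk' _ h

lemma preserves_of_iso (U : X.Opens) {S S' : ShortComplex X.Modules} (e : S ≅ S')
    [(secF U).PreservesLeftHomologyOf S] : (secF U).PreservesLeftHomologyOf S' := by
  let h := S.leftHomologyData
  let h' := ShortComplex.LeftHomologyData.ofIso e h
  let e₁ : S.X₁ ≅ S'.X₁ := ShortComplex.π₁.mapIso e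
  let e₂ : S.X₂ ≅ S'.X₂ := ShortComplex.π₂.mapIso e
  let e₃ : S.X₃ ≅ S'.X₃ := ShortComplex.π₃.mapIso e
  have hc : e₁.hom ≫ S'.f = S.f ≫ e₂.hom := e.hom.comm₁₂
  have hc' : e₂.hom ≫ S'.g = S.g ≫ e₃.hom := e.hom.comm₂₃
  have hf : e₁.hom ≫ h'.f' = h.f' := by
    refine (cancel_mono h'.i).1 ((Category.assoc _ _ _).trans ((congrArg (e₁.hom ≫ ·) h'.f'_i).trans (hc.trans ?_)))
    exact (h.f'_i_assoc e₂.hom).symm.trans (Category.assoc _ _ _).symm
  have : h'.IsPreservedBy (secF U) :=
    { g := @preservesLimit_of_iso_diagram _ _ _ _ _ _ _ _ _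
        (parallelPair.ext e₂ e₃ hc'.symm (zero_comp.trans comp_zero.symm) :
          parallelPair S.g 0 ≅ parallelPair S'.g 0)
        (ShortComplex.LeftHomologyData.IsPreservedBy.hg h (secF U))
      f' := @preservesColimit_of_iso_diagram _ _ _ _ _ _ _ _ _
        (parallelPair.ext e₁ (Iso.refl h.K) ((Category.comp_id _).trans hf.symm) (zero_comp.trans comp_zero.symm) :
          parallelPair h.f' 0 ≅ parallelPair h'.f' 0)
        (ShortComplex.LeftHomologyData.IsPreservedBy.hf' h (secF U)) }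
  exact Functor.PreservesLeftHomologyOf.mk' _ h'

/-- sections over affine opens preserve cohomology of complexes of quasi-coherent modules -/
theorem preserves_qcoh (F : CochainComplex X.Modules ℤ) (hF : ∀ n, Coh.IsQCoh (F.X n)) {U : X.Opens}
    (hU : IsAffineOpen U) (i : ℤ) : (secF U).PreservesLeftHomologyOf (F.sc i) := by
  let h := (F.sc i).leftHomologyData
  haveI hK : h.K.IsQuasicoherent :=
    H7AffineD.qcoh_of_iso ((limit.isLimit (parallelPair (F.sc i).g 0)).conePointUniqueUpToIso h.hi)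
      (@LQcoh.isQuasicoherent_kernel _ _ _ (hF _) (hF _) (F.sc i).g)
  haveI hX₁ : (F.sc i).X₁.IsQuasicoherent := hF _
  haveI hH : h.H.IsQuasicoherent :=
    H7AffineD.qcoh_of_iso ((colimit.isColimit (parallelPair h.f' 0)).coconePointUniqueUpToIso h.hπ')
      (@LQcoh.isQuasicoherent_cokernel _ _ _ hX₁ hK h.f')
  haveI hk : (kernel h.π).IsQuasicoherent := LQcoh.isQuasicoherent_kernel h.π
  let T := ShortComplex.mk (kernel.ι h.π) h.π (kernel.condition h.π)
  have hT : T.ShortExact := { exact := ShortComplex.exact_kernel _ }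
  haveI : T.X₁.IsQuasicoherent := hk
  refine preserves_of_elem U _ h (fun m hm => ?_) (LQcoh.app_surjective hT hU)
  let l : (F.sc i).X₁ ⟶ kernel h.π := kernel.lift h.π h.f' h.f'_π
  have hl : Epi l := ((ShortComplex.mk h.f' h.π h.f'_π).exact_iff_epi_kernel_lift).1
    (ShortComplex.exact_of_g_is_cokernel _ h.hπ')
  let T' := ShortComplex.mk (kernel.ι l) l (kernel.condition l)
  have hT' : T'.ShortExact := { exact := ShortComplex.exact_kernel _ }
  haveI : T'.X₁.IsQuasicoherent := LQcoh.isQuasicoherent_kernel l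
  obtain ⟨y, hy⟩ := (LQcoh.app_exact hT U).2 m hm
  obtain ⟨t, ht⟩ := LQcoh.app_surjective hT' hU y
  refine ⟨t, ?_⟩
  rw [← kernel.lift_ι h.π h.f' h.f'_π]
  exact (congrArg ((kernel.ι h.π).app U) ht).trans hy

theorem preserves_kinj_zero (J : CochainComplex X.Modules ℤ) [J.IsKInjective]
    (hJ : DCoh.IsQCohD (DerivedCategory.Q.obj J)) (U : X.affineOpens) :
    (secF U.1).PreservesLeftHomologyOf (J.sc 0) := by
  have hb := H7AffineD.psi_bijective (DerivedCategory.Q.obj J) hJ U
  have hlift : (J.sc 0).cyclesIsKernel.lift (KernelFork.ofι (J.sc 0).f (J.sc 0).zero) = (J.sc 0).toCycles :=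
    (cancel_mono (J.sc 0).iCycles).1 ((Fork.IsLimit.lift_ι (J.sc 0).cyclesIsKernel).trans (J.sc 0).toCycles_i.symm)
  let h : (J.sc 0).LeftHomologyData :=
    { K := (J.sc 0).cycles
      H := (J.sc 0).homology
      i := (J.sc 0).iCycles
      π := (J.sc 0).homologyπ
      wi := (J.sc 0).iCycles_g
      hi := (J.sc 0).cyclesIsKernel
      wπ := by rw [hlift]; exact (J.sc 0).toCycles_comp_homologyπ
      hπ := IsColimit.ofIsoColimit
        ((IsColimit.precomposeHomEquiv
          (parallelPair.ext (Iso.refl _) (Iso.refl _)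
            (((Category.comp_id _).trans hlift).trans (Category.id_comp _).symm) (by simp)) _).symm (J.sc 0).homologyIsCokernel)
        (Cofork.ext (Iso.refl _) ((Category.comp_id _).trans (Category.id_comp _))) }
  have hf' : h.f' = (J.sc 0).toCycles := hlift
  refine preserves_of_elem U.1 _ h (fun m hm => ?_) (fun m => ?_)
  · let m' : Γ(J.cycles 0, U.1) := m
    have hm' : (J.homologyπ 0).app U.1 m' = 0 := hm
    obtain ⟨y, hy⟩ := H7TildeEquiv.exists_boundary hb ((secEquiv U.1 (J.cycles 0)).symm m') ((secEquiv U.1 _).injective (by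
      rw [secEquiv_comp, Equiv.apply_symm_apply, hm', secEquiv_eq]
      rfl))
    refine ⟨secEquiv U.1 _ y, ?_⟩
    have h2 := congrArg (secEquiv U.1 (J.cycles 0)) hy
    rw [secEquiv_comp, Equiv.apply_symm_apply] at h2
    exact (congrArg (fun f => (Scheme.Modules.Hom.app f U.1) _) hf').trans h2
  · let m' : Γ(J.homology 0, U.1) := m
    obtain ⟨z, hz⟩ := H7TildeEquiv.exists_cycle hb ((secEquiv U.1 (J.homology 0)).symm m')
    refine ⟨secEquiv U.1 _ z, ?_⟩
    have h2 := congrArg (secEquiv U.1 (J.homology 0)) hz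
    rw [secEquiv_comp, Equiv.apply_symm_apply] at h2
    exact h2

/-- sections over affine opens preserve cohomology of K-injective complexes in `D_QCoh` -/
theorem preserves_kinj (J : CochainComplex X.Modules ℤ) [J.IsKInjective]
    (hJ : DCoh.IsQCohD (DerivedCategory.Q.obj J)) (U : X.affineOpens) (i : ℤ) :
    (secF U.1).PreservesLeftHomologyOf (J.sc i) := by
  have hJ' : DCoh.IsQCohD (DerivedCategory.Q.obj (J⟦i⟧)) := fun k =>
    H7AffineD.qcoh_of_iso ((DerivedCategory.homologyFunctorFactors _ (i + k)).app J ≪≫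
      ((HomologicalComplex.homologyFunctor X.Modules (ComplexShape.up ℤ) 0).shiftIso i k (i + k) rfl).symm.app J ≪≫
        ((DerivedCategory.homologyFunctorFactors _ k).app _).symm) (hJ (i + k))
  have := preserves_kinj_zero (J⟦i⟧) hJ' U
  exact @preserves_of_iso _ U.1 ((J⟦i⟧).sc 0) (J.sc i)
    ((CochainComplex.shiftShortComplexFunctorIso X.Modules i 0 i (add_zero i)).app J) this

theorem acyclic_of_sections (C : CochainComplex X.Modules ℤ)
    (h : ∀ U : X.affineOpens, (((secF U.1).mapHomologicalComplex (ComplexShape.up ℤ)).obj C).Acyclic) : C.Acyclic := by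
  refine (H7KFlatSheaf.acyclic_iff C).2 fun x i => ?_
  rw [HomologicalComplex.exactAt_iff' _ (i - 1) i (i + 1) (by simp) (by simp), ShortComplex.moduleCat_exact_iff]
  intro s hs
  obtain ⟨V, hxV, t, rfl⟩ := TopCat.Presheaf.exists_germ_eq (C := AddCommGrpCat.{u}) (F := (C.X i).presheaf) s
  have hd : (C.X (i + 1)).presheaf.germ V x hxV ((C.d i (i + 1)).app V t) = 0 := by
    exact (TopCat.Presheaf.stalkFunctor_map_germ_apply V x hxV (C.d i (i + 1)).mapPresheaf t).symm.trans hs
  obtain ⟨W, hxW, iW, iW', hW⟩ := (C.X (i + 1)).presheaf.germ_eq x hxV hxV _ 0 (hd.trans (map_zero _).symm)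
  obtain ⟨W', hW'a, hxW', hW's⟩ := exists_isAffineOpen_mem_and_subset (U := W) hxW
  have hW'le : W' ≤ W := hW's
  have hle : W' ≤ V := le_trans hW'le iW.le
  let t' : Γ(C.X i, W') := (C.X i).presheaf.map (homOfLE hle).op t
  have ht' : (C.d i (i + 1)).app W' t' = 0 := by
    show (C.d i (i + 1)).app W' ((C.X i).presheaf.map (homOfLE hle).op t) = 0
    have hn := congr($((C.d i (i + 1)).mapPresheaf.naturality (homOfLE hle).op) t)
    simp only [ConcreteCategory.comp_apply] at hn
    refine hn.trans ?_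
    have := congrArg ((C.X (i + 1)).presheaf.map (homOfLE hW'le).op) hW
    rw [map_zero, map_zero, ← ConcreteCategory.comp_apply, ← Functor.map_comp] at this
    exact this
  have hex := h ⟨W', hW'a⟩ i
  rw [HomologicalComplex.exactAt_iff' _ (i - 1) i (i + 1) (by simp) (by simp), ShortComplex.ab_exact_iff] at hex
  obtain ⟨y, hy⟩ := hex t' ht'
  refine ⟨(C.X (i - 1)).presheaf.germ W' x hxW' y, ?_⟩
  refine (TopCat.Presheaf.stalkFunctor_map_germ_apply W' x hxW' (C.d (i - 1) i).mapPresheaf y).trans ?_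
  exact (congrArg _ hy).trans (TopCat.Presheaf.germ_res_apply _ _ _ _ _)

variable {S : Scheme.{u}} (f : X ⟶ S)

/-- `f_* F ≅ Rf_* F` for quasi-coherent terms and affine `f` -/
theorem quasiIso_push [IsAffineHom f] {F I : CochainComplex X.Modules ℤ} (hF : ∀ n, Coh.IsQCoh (F.X n))
    [I.IsKInjective] (g : F ⟶ I) [QuasiIso g] : QuasiIso ((H7RpushCalc.pushCx f).map g) := by
  have hIq : DCoh.IsQCohD (DerivedCategory.Q.obj I) := fun i => by
    have : IsIso (homologyMap g i) := (quasiIsoAt_iff_isIso_homologyMap g i).1 inferInstance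
    refine H7AffineD.qcoh_of_iso (asIso (homologyMap g i) ≪≫ ((DerivedCategory.homologyFunctorFactors _ i).app I).symm) ?_
    exact H7AffineD.qcoh_of_iso ((colimit.isColimit (parallelPair (F.sc i).leftHomologyData.f' 0)).coconePointUniqueUpToIso
      (F.sc i).leftHomologyData.hπ' ≪≫ (F.sc i).leftHomologyData.homologyIso.symm)
      (@LQcoh.isQuasicoherent_cokernel _ _ _ (hF _)
        (H7AffineD.qcoh_of_iso ((limit.isLimit (parallelPair (F.sc i).g 0)).conePointUniqueUpToIso (F.sc i).leftHomologyData.hi)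
          (@LQcoh.isQuasicoherent_kernel _ _ _ (hF _) (hF _) (F.sc i).g)) _)
  rw [H7HasLpull.quasiIso_iff_acyclic_cone]
  refine acyclic_of_sections _ fun V => ?_
  have hU : IsAffineOpen (f ⁻¹ᵁ V.1) := V.2.preimage f
  have hq : QuasiIso (((secF (f ⁻¹ᵁ V.1)).mapHomologicalComplex (ComplexShape.up ℤ)).map g) := ⟨fun i => by
    have := preserves_qcoh F hF hU i
    have := preserves_kinj I hIq ⟨_, hU⟩ i
    rw [quasiIsoAt_iff]
    have := (quasiIsoAt_iff g i).1 inferInstance
    exact ShortComplex.quasiIso_map_of_preservesLeftHomology (secF (f ⁻¹ᵁ V.1))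
      ((shortComplexFunctor X.Modules (ComplexShape.up ℤ) i).map g)⟩
  refine H5KFlat.acyclic_of_iso ((CochainComplex.mappingCone.mapHomologicalComplexIso
    ((H7RpushCalc.pushCx f).map g) (secF V.1))).symm ?_
  exact (H7HasLpull.quasiIso_iff_acyclic_cone _).1 hq

theorem isIso_beta [IsAffineHom f] [DCoh.HasRpush f] {F : CochainComplex X.Modules ℤ}
    (hF : ∀ n, Coh.IsQCoh (F.X n)) : IsIso ((H7RpushCalc.beta f).app F) := by
  obtain ⟨I, g, hI, hg⟩ := H5KApps.enoughKInj_of_grothendieck F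
  have h1 : IsIso (DerivedCategory.Q.map ((H7RpushCalc.pushCx f).map g)) :=
    (DerivedCategory.isIso_Q_map_iff_quasiIso _ _).2 (quasiIso_push f hF g)
  have h2 := H7RpushCalc.isIso_beta f I hI
  have h3 : IsIso (DerivedCategory.Q.map g) := (DerivedCategory.isIso_Q_map_iff_quasiIso _ _).2 hg
  have hn := (H7RpushCalc.beta f).naturality g
  have : IsIso ((H7RpushCalc.beta f).app F ≫ (DCoh.Rpush f).map (DerivedCategory.Q.map g)) := by
    change IsIso ((H7RpushCalc.beta f).app F ≫ (DerivedCategory.Q ⋙ DCoh.Rpush f).map g)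
    rw [← hn]
    exact IsIso.comp_isIso' h1 h2
  exact IsIso.of_isIso_comp_right _ ((DCoh.Rpush f).map (DerivedCategory.Q.map g))

lemma isZero_qcoh_of_sections [IsAffineHom f] (M : X.Modules) (hM : Coh.IsQCoh M)
    (h : ∀ (V : S.affineOpens) (m : Γ(M, f ⁻¹ᵁ V.1)), m = 0) : IsZero M := by
  haveI : M.IsQuasicoherent := hM
  refine H7StalkDetect.isZero_of_stalks fun x => ?_
  suffices h0 : ∀ s : (M.presheaf.stalk x : AddCommGrpCat.{u}), s = 0 by
    exact ModuleCat.isZero_iff_subsingleton.2 ⟨fun a b => (h0 a).trans (h0 b).symm⟩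
  intro s
  obtain ⟨O, hxO, t, rfl⟩ := TopCat.Presheaf.exists_germ_eq (C := AddCommGrpCat.{u}) (F := M.presheaf) s
  obtain ⟨V, hVa, hxV, -⟩ := exists_isAffineOpen_mem_and_subset (U := (⊤ : S.Opens)) (x := f x) trivial
  have hU : IsAffineOpen (f ⁻¹ᵁ V) := hVa.preimage f
  obtain ⟨g, hg, hxg⟩ := hU.exists_basicOpen_le (V := O) ⟨x, hxO⟩ hxV
  obtain ⟨N, y, hy⟩ := (LQcoh.locAt_of_qcoh M hU g).1 (LQcoh.res M hg t)
  have hy0 : y = 0 := h ⟨V, hVa⟩ y
  subst hy0
  replace hy : (0 : Γ(M, X.basicOpen g)) = LQcoh.resO (LQcoh.basicOpen_le_open g) g ^ N • LQcoh.res M hg t := by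
    rw [← map_pow]; exact (map_zero _).symm.trans hy
  have h0 : LQcoh.res M hg t = 0 :=
    ((LQcoh.isUnit_resO _ g).pow N).smul_eq_zero.1 hy.symm
  refine (TopCat.Presheaf.germ_res_apply M.presheaf (homOfLE hg) x hxg t).symm.trans ?_
  exact (congrArg _ h0).trans (map_zero _)

/-- a K-injective complex in `D_QCoh` whose direct image by an affine morphism is acyclic is acyclic -/
theorem acyclic_of_push [IsAffineHom f] (C : CochainComplex X.Modules ℤ) [C.IsKInjective]
    (hq : DCoh.IsQCohD (DerivedCategory.Q.obj C)) (hC : ((H7RpushCalc.pushCx f).obj C).Acyclic) : C.Acyclic := by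
  intro i
  let h := (C.sc i).leftHomologyData
  refine (HomologicalComplex.exactAt_iff _ _).2 (h.exact_iff.2 (isZero_qcoh_of_sections f h.H ?_ fun V m => ?_))
  · exact H7AffineD.qcoh_of_iso (((DerivedCategory.homologyFunctorFactors _ i).app C) ≪≫ h.homologyIso) (hq i)
  have := preserves_kinj C hq ⟨_, V.2.preimage f⟩ i
  have hsurj : Function.Surjective ((secF (f ⁻¹ᵁ V.1)).map h.π) :=
    (AddCommGrpCat.epi_iff_surjective _).1 (inferInstanceAs (Epi (h.map (secF (f ⁻¹ᵁ V.1))).π))
  obtain ⟨z, rfl⟩ := hsurj m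
  let c : Γ(C.X i, f ⁻¹ᵁ V.1) := h.i.app (f ⁻¹ᵁ V.1) z
  let K := (H7RpushCalc.pushCx f).obj C
  have hac := (H7KFlatSheaf.acyclic_iff K).1 hC
  refine TopCat.Presheaf.section_ext (X := X.toTopCat) (C := AddCommGrpCat.{u}) ⟨h.H.presheaf, h.H.isSheaf⟩ (f ⁻¹ᵁ V.1) _ _ fun x hx => ?_
  have hex := hac (f x) i
  rw [HomologicalComplex.exactAt_iff' _ (i - 1) i (i + 1) (by simp) (by simp), ShortComplex.moduleCat_exact_iff] at hex
  let c' : Γ(K.X i, V.1) := c
  have hdc : (K.d i (i + 1)).app V.1 c' = 0 := by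
    have hc := congrArg (fun k => Scheme.Modules.Hom.app k (f ⁻¹ᵁ V.1) z) h.wi
    have : (C.d i ((ComplexShape.up ℤ).next i)).app (f ⁻¹ᵁ V.1) c = 0 := hc
    rw [CochainComplex.next] at this
    exact this
  obtain ⟨s, hs⟩ := hex (K.X i |>.presheaf.germ V.1 (f x) hx c')
    ((TopCat.Presheaf.stalkFunctor_map_germ_apply V.1 (f x) hx (K.d i (i + 1)).mapPresheaf c').trans
      ((congrArg _ hdc).trans (map_zero _)))
  obtain ⟨W₀, hxW₀, y, rfl⟩ := TopCat.Presheaf.exists_germ_eq (C := AddCommGrpCat.{u}) (F := (K.X (i - 1)).presheaf) s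
  obtain ⟨W, hxW, iW, iW', hW⟩ := (K.X i).presheaf.germ_eq (f x) hxW₀ hx _ c'
    ((TopCat.Presheaf.stalkFunctor_map_germ_apply W₀ (f x) hxW₀ (K.d (i - 1) i).mapPresheaf y).symm.trans hs)
  let y' : Γ(C.X (i - 1), f ⁻¹ᵁ W) := (K.X (i - 1)).presheaf.map iW.op y
  let z' : Γ(h.K, f ⁻¹ᵁ W) := h.K.presheaf.map ((Opens.map f.base).map iW').op z
  have hy' : (C.d (i - 1) i).app (f ⁻¹ᵁ W) y' = h.i.app (f ⁻¹ᵁ W) z' := by
    have e1 := ConcreteCategory.congr_hom ((K.d (i - 1) i).mapPresheaf.naturality iW.op) y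
    have e2 := ConcreteCategory.congr_hom (h.i.mapPresheaf.naturality ((Opens.map f.base).map iW').op) z
    exact e1.trans (hW.trans e2.symm)
  have hz : ∃ y'', h.f'.app (f ⁻¹ᵁ W) y'' = z' := by
    have hm : Function.Injective ((secF (f ⁻¹ᵁ W)).map h.i) := (AddCommGrpCat.mono_iff_injective _).1 inferInstance
    have hy'' : ∃ y'', (C.sc i).f.app (f ⁻¹ᵁ W) y'' = h.i.app (f ⁻¹ᵁ W) z' := by
      show ∃ y'', (C.d ((ComplexShape.up ℤ).prev i) i).app _ y'' = _
      rw [CochainComplex.prev]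
      exact ⟨y', hy'⟩
    obtain ⟨y'', hy''⟩ := hy''
    exact ⟨y'', hm ((congrArg (fun k => Scheme.Modules.Hom.app k (f ⁻¹ᵁ W) y'') h.f'_i).trans hy'')⟩
  obtain ⟨y'', hy''⟩ := hz
  have h0 : h.π.app (f ⁻¹ᵁ W) z' = 0 := by
    rw [← hy'']
    exact congrArg (fun k => Scheme.Modules.Hom.app k (f ⁻¹ᵁ W) y'') h.f'_π
  rw [map_zero]
  refine (TopCat.Presheaf.germ_res_apply h.H.presheaf ((Opens.map f.base).map iW') x hxW _).symm.trans ?_
  refine (congrArg _ ((ConcreteCategory.congr_hom (h.π.mapPresheaf.naturality ((Opens.map f.base).map iW').op) z).symm.trans h0)).trans (map_zero _)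

/-- for affine `f`, `Rf_*` is faithful on cohomology in `D_QCoh` -/
theorem reflects_isIso [IsAffineHom f] [DCoh.HasRpush f] {E F : DCoh.D X} (hE : DCoh.IsQCohD E)
    (hF : DCoh.IsQCohD F) (α : E ⟶ F) (hα : IsIso ((DCoh.Rpush f).map α)) : IsIso α := by
  have hR := H5KApps.resolving_Q (A := X.Modules) H5KApps.enoughKInj_of_grothendieck
  obtain ⟨I, hI, ⟨e₁⟩⟩ := hR.ess E
  obtain ⟨J, hJ, ⟨e₂⟩⟩ := hR.ess F
  haveI : I.IsKInjective := hI
  haveI : J.IsKInjective := hJ
  obtain ⟨φ, hφ⟩ := hR.surj I J hJ (e₁.hom ≫ α ≫ e₂.inv)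
  have hIq : DCoh.IsQCohD (DerivedCategory.Q.obj I) := fun i =>
    H7AffineD.qcoh_of_iso ((DerivedCategory.homologyFunctor _ i).mapIso e₁.symm) (hE i)
  have hJq : DCoh.IsQCohD (DerivedCategory.Q.obj J) := fun i =>
    H7AffineD.qcoh_of_iso ((DerivedCategory.homologyFunctor _ i).mapIso e₂.symm) (hF i)
  suffices h : QuasiIso φ by
    have := (DerivedCategory.isIso_Q_map_iff_quasiIso _ φ).2 h
    have he : α = e₁.inv ≫ DerivedCategory.Q.map φ ≫ e₂.hom := by rw [hφ]; simp
    rw [he]; infer_instance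
  have h1 : QuasiIso ((H7RpushCalc.pushCx f).map φ) := by
    rw [← DerivedCategory.isIso_Q_map_iff_quasiIso]
    have b₁ := H7RpushCalc.isIso_beta f I hI
    have b₂ := H7RpushCalc.isIso_beta f J hJ
    have hn := (H7RpushCalc.beta f).naturality φ
    have : IsIso ((DCoh.Rpush f).map (e₁.hom ≫ α ≫ e₂.inv)) := by
      simp only [Functor.map_comp]; infer_instance
    have : IsIso (DerivedCategory.Q.map ((H7RpushCalc.pushCx f).map φ) ≫ (H7RpushCalc.beta f).app J) := by
      change IsIso ((H7RpushCalc.pushCx f ⋙ DerivedCategory.Q).map φ ≫ _)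
      rw [hn, Functor.comp_map, hφ]
      exact IsIso.comp_isIso' b₁ this
    exact IsIso.of_isIso_comp_right _ ((H7RpushCalc.beta f).app J)
  rw [H7HasLpull.quasiIso_iff_acyclic_cone] at h1 ⊢
  have := H7RpushAdj.isKInjective_cone φ hI hJ
  refine acyclic_of_push f _ (H7QCohTri.isQCohD₃
    (DerivedCategory.Q.mapTriangle.obj (CochainComplex.mappingCone.triangle φ))
    ((DerivedCategory.mem_distTriang_iff _).2 ⟨_, _, _, ⟨Iso.refl _⟩⟩) hIq hJq) ?_
  exact H5KFlat.acyclic_of_iso (CochainComplex.mappingCone.mapHomologicalComplexIso φ (Scheme.Modules.pushforward f)).symm h1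

end Groth.Agent.H7AffinePush
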