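import Groth.Agent.Lib.H7AssMore
import Mathlib

/-! Local rings at generic points of integral effective Cartier divisors. -/

set_option autoImplicit false
set_option linter.all false
set_option backward.isDefEq.respectTransparency.types false

universe u

open CategoryTheory CategoryTheory.Limits AlgebraicGeometry TopologicalSpace Opposite

namespace Groth.Agent.H7AssPts
open Groth.Agent H6.ZBasic H6.ZStalk

theorem dvr_of_principal {R : Type u} [CommRing R] [IsNoetherianRing R] [IsLocalRing R] {a : R}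
    (hm : IsLocalRing.maximalIdeal R = Ideal.span {a}) (ha : a ∈ nonZeroDivisors R) :
    ∃ _ : IsDomain R, IsDiscreteValuationRing R := by
  classical
  have hrep : ∀ z : R, z ≠ 0 → ∃ (n : ℕ) (y : R), IsUnit y ∧ z = a ^ n * y := by
    intro z hz
    have hex : ∃ n, z ∉ Ideal.span {a} ^ n := by
      by_contra hc
      push Not at hc
      refine hz ?_
      have : z ∈ ⨅ n, Ideal.span {a} ^ n := Submodule.mem_iInf _ |>.2 hc
      rwa [Ideal.iInf_pow_eq_bot_of_isLocalRing (Ideal.span {a}) (hm ▸ (IsLocalRing.maximalIdeal.isMaximal R).ne_top)] at this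
    rcases h : Nat.find hex with _ | n
    · exact absurd (Nat.find_spec hex) (by rw [h, pow_zero, Ideal.one_eq_top]; simp)
    · have h1 : z ∈ Ideal.span {a} ^ n := not_not.1 (Nat.find_min hex (by omega))
      have h2 := Nat.find_spec hex
      rw [h, Ideal.span_singleton_pow, Ideal.mem_span_singleton] at h2
      rw [Ideal.span_singleton_pow, Ideal.mem_span_singleton] at h1
      obtain ⟨y, rfl⟩ := h1
      refine ⟨n, y, by_contra fun hy => h2 ?_, rfl⟩
      have : y ∈ Ideal.span {a} := hm ▸ (IsLocalRing.mem_maximalIdeal y).2 hy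
      obtain ⟨w, rfl⟩ := Ideal.mem_span_singleton.1 this
      exact ⟨w, by ring⟩
  have hdom : IsDomain R := by
    haveI : NoZeroDivisors R := ⟨fun {z w} hzw => by
      by_contra hc
      push Not at hc
      obtain ⟨n, y, hy, rfl⟩ := hrep z hc.1
      obtain ⟨m, y', hy', rfl⟩ := hrep w hc.2
      have h0 : (y * y') * a ^ (n + m) = 0 := by rw [pow_add]; linear_combination hzw
      exact (hy.mul hy').ne_zero (mem_nonZeroDivisors_iff_right.1 (pow_mem ha _) _ h0)⟩
    exact NoZeroDivisors.to_isDomain R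
  haveI := hdom
  refine ⟨hdom, ?_⟩
  have hnf : ¬ IsField R := fun hf => by
    have := IsLocalRing.isField_iff_maximalIdeal_eq.1 hf
    rw [hm, Ideal.span_singleton_eq_bot] at this
    exact nonZeroDivisors.ne_zero ha this
  exact ((IsDiscreteValuationRing.TFAE R hnf).out 0 4).2 (show (IsLocalRing.maximalIdeal R).IsPrincipal from hm ▸ ⟨⟨a, rfl⟩⟩)

variable {X : Scheme.{u}}

theorem dvr_generic [IsLocallyNoetherian X] (D : X.IdealSheafData) (hD : BlowUp.IsEffCartierIdeal D)
    [IsReduced D.subscheme] (ξ : X) (hξ : IsGenericPoint ξ (D.support : Set X)) :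
    ∃ _ : IsDomain (X.presheaf.stalk ξ), IsDiscreteValuationRing (X.presheaf.stalk ξ) := by
  obtain ⟨U, hU, a, ha, hI⟩ := hD ξ
  letI : Algebra Γ(X, U.1) (X.presheaf.stalk ξ) := (X.presheaf.germ U.1 ξ hU).hom.toAlgebra
  haveI : IsLocalization.AtPrime (X.presheaf.stalk ξ) (U.2.primeIdealOf ⟨ξ, hU⟩).asIdeal := U.2.isLocalization_stalk ⟨ξ, hU⟩
  have hna : gO hU a ∈ nonZeroDivisors (X.presheaf.stalk ξ) := by
    refine H7Cartier.nzd_map_of_flat (gO hU) ?_ ha
    exact RingHom.flat_algebraMap_iff.mpr (IsLocalization.flat _ (U.2.primeIdealOf ⟨ξ, hU⟩).asIdeal.primeCompl)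
  have hmem := hξ.mem
  have hmin := maximal_minimal_principal D U ξ hU a hI hmem fun y hy hyx =>
    (((hξ.specializes hy).antisymm hyx).eq).symm
  have hrad : (D.ideal U).IsRadical := by
    rw [← D.ker_subschemeι_app U]
    exact fun r ⟨n, hn⟩ => by
      rw [RingHom.mem_ker, map_pow] at hn
      exact (eq_zero_of_pow_eq_zero hn : (D.subschemeι.app U.1).hom r = 0)
  refine dvr_of_principal (le_antisymm (fun z hz => ?_) ((Ideal.span_singleton_le_iff_mem _).2 ?_)) hna
  · obtain ⟨⟨c, d⟩, hcd⟩ := IsLocalization.surj (U.2.primeIdealOf ⟨ξ, hU⟩).asIdeal.primeCompl z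
    have hc : gO hU c ∈ IsLocalRing.maximalIdeal (X.presheaf.stalk ξ) := by
      rw [show gO hU c = z * gO hU d.1 from hcd.symm]
      exact Ideal.mul_mem_right _ _ hz
    have hrd : IsLocalRing.maximalIdeal (X.presheaf.stalk ξ) ≤ (Ideal.span {gO hU a}).radical := by
      rw [Ideal.radical_eq_sInf]
      exact le_sInf fun Q ⟨hQa, hQ⟩ => hmin.2 ⟨hQ, hQa⟩ (IsLocalRing.le_maximalIdeal hQ.ne_top)
    obtain ⟨n, hn⟩ := hrd hc
    obtain ⟨b, hb⟩ := Ideal.mem_span_singleton.1 hn
    obtain ⟨⟨e, f⟩, hef⟩ := IsLocalization.surj (U.2.primeIdealOf ⟨ξ, hU⟩).asIdeal.primeCompl b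
    have h0 : gO hU (c ^ n * f.1 - a * e) = 0 := by
      rw [map_sub, map_mul, map_pow, map_mul, hb, show gO hU e = b * gO hU f.1 from hef.symm]; ring
    obtain ⟨w, hw⟩ := (IsLocalization.map_eq_zero_iff (U.2.primeIdealOf ⟨ξ, hU⟩).asIdeal.primeCompl (X.presheaf.stalk ξ) _).1 h0
    have h1 : (w.1 * f.1 * c) ^ (n + 1) ∈ D.ideal U := by
      rw [hI, Ideal.mem_span_singleton]
      exact ⟨w.1 * e * ((w.1 * f.1) ^ n * c), by linear_combination ((w.1 * f.1) ^ n * c) * hw⟩
    have h2 := hrad ⟨n + 1, h1⟩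
    rw [hI, Ideal.mem_span_singleton] at h2
    obtain ⟨g, hg⟩ := h2
    have h3 : gO hU c * gO hU (w.1 * f.1) = gO hU a * gO hU g := by rw [← map_mul, ← map_mul, mul_comm c, hg]
    have hu : IsUnit (gO hU (w.1 * f.1)) := IsLocalization.map_units (X.presheaf.stalk ξ) (w * f)
    have hd : IsUnit (gO hU d.1) := IsLocalization.map_units (X.presheaf.stalk ξ) d
    rw [show gO hU c = z * gO hU d.1 from hcd.symm, mul_assoc] at h3
    rw [Ideal.mem_span_singleton]
    exact (hd.mul hu).dvd_mul_right.1 ⟨gO hU g, h3⟩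
  · exact hmin.1.2 (Ideal.mem_span_singleton_self _)

end Groth.Agent.H7AssPts
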