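import Groth.Agent.Lib.H6.AssPts
import Groth.Agent.Lib.H7StalkDetect
import Groth.Prelude.Def_CurvBase
import Groth.Prelude.Def_FlatCA
import Mathlib

/-! Weakly associated points of quasi-coherent modules. -/

set_option autoImplicit false
set_option linter.all false
set_option backward.isDefEq.respectTransparency.types false

universe u v w

open CategoryTheory CategoryTheory.Limits AlgebraicGeometry TopologicalSpace Opposite

namespace Groth.Agent.H7AssPts
open Groth.Agent H6.ZBasic H6.ZStalk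

section algebra
variable {A : Type u} [CommRing A] {M : Type v} [AddCommGroup M] [Module A M]

/-- `p` is minimal over the annihilator of `s` -/
def MinAnn (p : Ideal A) (s : M) : Prop :=
  (∀ u : A, u • s = 0 → u ∈ p) ∧ ∀ a ∈ p, ∃ n : ℕ, ∃ w ∉ p, (w * a ^ n) • s = 0

lemma mem_ann (s : M) (a : A) : a ∈ (Submodule.span A {s}).annihilator ↔ a • s = 0 :=
  Submodule.mem_annihilator_span_singleton s a

lemma minAnn_iff {p : Ideal A} (hp : p.IsPrime) (s : M) :
    MinAnn p s ↔ p ∈ (Submodule.span A {s}).annihilator.minimalPrimes := by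
  constructor
  · intro h
    refine ⟨⟨hp, fun u hu => h.1 u ((mem_ann s u).1 hu)⟩, fun q hq hqp a ha => ?_⟩
    obtain ⟨n, w, hw, h0⟩ := h.2 a ha
    exact hq.1.mem_of_pow_mem n ((hq.1.mem_or_mem (hq.2 ((mem_ann s _).2 h0))).resolve_left fun h' => hw (hqp h'))
  · intro h
    refine ⟨fun u hu => h.1.2 ((mem_ann s u).2 hu), fun a ha => ?_⟩
    by_contra hc
    push Not at hc
    let S : Submonoid A := p.primeCompl ⊔ Submonoid.powers a
    have hd : Disjoint ((Submodule.span A {s}).annihilator : Set A) S := Set.disjoint_left.2 fun z hz hzS => by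
      obtain ⟨w, hw, y, ⟨n, rfl⟩, rfl⟩ := Submonoid.mem_sup.1 hzS
      exact hc n w hw ((mem_ann s _).1 hz)
    obtain ⟨q, hq, hIq, hqS⟩ := Ideal.exists_le_prime_disjoint _ S hd
    have hqp : q ≤ p := fun z hz => by_contra fun hzp =>
      Set.disjoint_left.1 hqS hz (Submonoid.mem_sup_left (show z ∈ p.primeCompl from hzp))
    exact Set.disjoint_left.1 hqS (h.2 ⟨hq, hIq⟩ hqp ha) (Submonoid.mem_sup_right (Submonoid.mem_powers a))

lemma exists_minAnn_le {p : Ideal A} (hp : p.IsPrime) (s : M) (h : ∀ u : A, u • s = 0 → u ∈ p) :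
    ∃ q : Ideal A, q.IsPrime ∧ q ≤ p ∧ MinAnn q s := by
  obtain ⟨q, hq, hqp⟩ := Ideal.exists_minimalPrimes_le
    (I := (Submodule.span A {s}).annihilator) (J := p) (fun u hu => h u ((mem_ann s u).1 hu))
  exact ⟨q, hq.1.1, hqp, (minAnn_iff hq.1.1 s).2 hq⟩

end algebra

variable {X : Scheme.{u}}

lemma weak_iff_stalk (F : X.Modules) (x : X) :
    Curv2.IsWeakAssPoint F x ↔
      ∃ ξ : F.presheaf.stalk x, ξ ≠ 0 ∧ ∀ r ∈ IsLocalRing.maximalIdeal (X.presheaf.stalk x), ∃ n : ℕ, r ^ n • ξ = 0 := by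
  constructor
  · rintro ⟨ξ, h⟩
    refine ⟨ξ, fun h0 => (IsLocalRing.maximalIdeal.isMaximal (X.presheaf.stalk x)).ne_top ?_, fun r hr => ?_⟩
    · rw [← h, Ideal.radical_eq_top, LinearMap.ker_eq_top]
      subst h0
      exact LinearMap.ext fun r => smul_zero r
    · rw [← h] at hr
      exact hr
  · rintro ⟨ξ, hne, h⟩
    refine ⟨ξ, le_antisymm (IsLocalRing.le_maximalIdeal fun ht => hne ?_) fun r hr => h r hr⟩
    rw [Ideal.radical_eq_top] at ht
    have h1 : (1 : X.presheaf.stalk x) • ξ = 0 :=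
      LinearMap.mem_ker.1 (show (1 : X.presheaf.stalk x) ∈ LinearMap.ker (LinearMap.toSpanSingleton _ _ ξ) from ht ▸ trivial)
    rwa [one_smul] at h1

lemma assPoint_iff (F : X.Modules) (x : X) : Curv2.IsAssPoint F x ↔ Curv2.IsWeakAssPoint F x := by
  have e : ∀ ξ : F.presheaf.stalk x, (⊥ : Submodule (X.presheaf.stalk x) (F.presheaf.stalk x)).colon {ξ} =
      LinearMap.ker (LinearMap.toSpanSingleton (X.presheaf.stalk x) (F.presheaf.stalk x) ξ) := fun ξ => by
    ext r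
    rw [H6.AssPts.smul_eq_zero_iff_mem, LinearMap.mem_ker]
    rfl
  constructor
  · rintro ⟨-, ξ, h⟩
    exact ⟨ξ, (congrArg Ideal.radical (e ξ)).symm.trans h.symm⟩
  · rintro ⟨ξ, h⟩
    exact ⟨inferInstance, ξ, h.symm.trans (congrArg Ideal.radical (e ξ)).symm⟩

lemma weak_support {F : X.Modules} {x : X} (h : Curv2.IsWeakAssPoint F x) : ¬ Subsingleton (F.presheaf.stalk x) := by
  obtain ⟨ξ, hne, -⟩ := (weak_iff_stalk F x).1 h
  exact fun hs => hne (Subsingleton.elim _ _)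

variable {F : X.Modules} [F.IsQuasicoherent] {V : X.Opens} (hV : IsAffineOpen V)
include hV

theorem weak_iff {x : X} (hx : x ∈ V) :
    Curv2.IsWeakAssPoint F x ↔ ∃ s : Γ(F, V), MinAnn (hV.primeIdealOf ⟨x, hx⟩).asIdeal s := by
  set p := (hV.primeIdealOf ⟨x, hx⟩).asIdeal with hp
  have hmax : ∀ c : Γ(X, V), gO hx c ∈ IsLocalRing.maximalIdeal (X.presheaf.stalk x) ↔ c ∈ p := by
    intro c
    rw [hp, mem_primeIdeal_iff hV hx, X.mem_basicOpen c x hx]
    exact Iff.rfl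
  rw [weak_iff_stalk]
  constructor
  · rintro ⟨ξ, hne, h⟩
    obtain ⟨u, s, hu, hus⟩ := exists_eq_smul (F := F) hV hx ξ
    have hs : gM F hx s ≠ 0 := fun h0 => hne ((isUnit_gO hx hu).smul_eq_zero.1 (hus.trans h0))
    refine ⟨s, fun v hv => annihilator_le hV hx hs hv, fun a ha => ?_⟩
    obtain ⟨n, hn⟩ := h _ ((hmax a).2 ha)
    have h0 : gM F hx (a ^ n • s) = 0 := by rw [gM_smul, map_pow, ← hus, smul_comm, hn, smul_zero]
    obtain ⟨w, hw, hw0⟩ := (gM_eq_zero_iff hV hx _).1 h0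
    exact ⟨n, w, hw, by rw [mul_smul, hw0]⟩
  · rintro ⟨s, h1, h2⟩
    refine ⟨gM F hx s, fun h0 => ?_, fun r hr => ?_⟩
    · obtain ⟨v, hv, hv0⟩ := (gM_eq_zero_iff hV hx s).1 h0
      exact hv (h1 v hv0)
    · letI : Algebra Γ(X, V) (X.presheaf.stalk x) := (X.presheaf.germ V x hx).hom.toAlgebra
      haveI : IsLocalization.AtPrime (X.presheaf.stalk x) p := hV.isLocalization_stalk ⟨x, hx⟩
      obtain ⟨⟨c, u⟩, hcu⟩ := IsLocalization.surj p.primeCompl r
      have hu : IsUnit (gO hx u.1) := IsLocalization.map_units (X.presheaf.stalk x) u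
      have hc : c ∈ p := (hmax c).1 (by
        rw [show gO hx c = r * gO hx u.1 from hcu.symm]
        exact Ideal.mul_mem_right _ _ hr)
      obtain ⟨n, w, hw, h0⟩ := h2 c hc
      refine ⟨n, ?_⟩
      have hgw : gM F hx (c ^ n • s) = 0 := (gM_eq_zero_iff hV hx _).2 ⟨w, hw, by rw [← mul_smul, h0]⟩
      rw [gM_smul, map_pow, show gO hx c = r * gO hx u.1 from hcu.symm, mul_pow, mul_comm, mul_smul] at hgw
      exact (hu.pow n).smul_eq_zero.1 hgw

theorem gM_ne_of_minAnn {x : X} (hx : x ∈ V) {s : Γ(F, V)} (h : MinAnn (hV.primeIdealOf ⟨x, hx⟩).asIdeal s) :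
    gM F hx s ≠ 0 := fun h0 => by
  obtain ⟨v, hv, hv0⟩ := (gM_eq_zero_iff hV hx s).1 h0
  exact hv (h.1 v hv0)

theorem exists_weak_of_ne {x : X} (hx : x ∈ V) {s : Γ(F, V)} (hs : gM F hx s ≠ 0) :
    ∃ (y : X) (hy : y ∈ V), y ⤳ x ∧ Curv2.IsWeakAssPoint F y ∧ gM F hy s ≠ 0 := by
  obtain ⟨q, hq, hqp, hm⟩ := exists_minAnn_le (hV.primeIdealOf ⟨x, hx⟩).isPrime s fun u hu => annihilator_le hV hx hs hu
  obtain ⟨y, hy, hyq⟩ := exists_point hV q hq
  subst hyq
  exact ⟨y, hy, (specializes_iff hV hy hx).2 hqp, (weak_iff hV hy).2 ⟨s, hm⟩, gM_ne_of_minAnn hV hy hm⟩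

omit hV in
/-- a nonzero germ has a weakly associated generisation -/
theorem exists_weak_of_stalk {x : X} {ξ : F.presheaf.stalk x} (hξ : ξ ≠ 0) :
    ∃ y : X, y ⤳ x ∧ Curv2.IsWeakAssPoint F y := by
  obtain ⟨V, hV, hxV, -⟩ := exists_isAffineOpen_mem_and_subset (X := X) (x := x) (U := ⊤) trivial
  obtain ⟨u, s, hu, hus⟩ := exists_eq_smul (F := F) hV hxV ξ
  obtain ⟨y, -, h1, h2, -⟩ := exists_weak_of_ne hV hxV (s := s)
    (fun h0 => hξ ((isUnit_gO hxV hu).smul_eq_zero.1 (hus.trans h0)))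
  exact ⟨y, h1, h2⟩

omit hV in
theorem isZero_iff : IsZero F ↔ ∀ x : X, ¬ Curv2.IsWeakAssPoint F x := by
  constructor
  · intro h x hx
    exact weak_support hx (ModuleCat.isZero_iff_subsingleton.1 ((DerSch.stalkFunctor X x).map_isZero h))
  · intro h
    refine H7StalkDetect.isZero_of_stalks fun x => ModuleCat.isZero_iff_subsingleton.2 ⟨fun a b => ?_⟩
    by_contra hab
    obtain ⟨y, -, hy⟩ := exists_weak_of_stalk (F := F) (x := x) (ξ := (a - b : F.presheaf.stalk x)) (sub_ne_zero.2 hab)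
    exact h y hy

omit hV in
theorem weak_of_maximal {x : X} (hx : x ∈ CohB1.support F)
    (hmax : ∀ y ∈ CohB1.support F, y ⤳ x → y = x) : Curv2.IsWeakAssPoint F x := by
  haveI : Nontrivial (F.presheaf.stalk x) := not_subsingleton_iff_nontrivial.1 hx
  obtain ⟨ξ, hξ⟩ := exists_ne (0 : F.presheaf.stalk x)
  obtain ⟨y, hyx, hy⟩ := exists_weak_of_stalk hξ
  exact hmax y (weak_support hy) hyx ▸ hy

omit hV in
theorem restrict_injective (U : X.Opens) (hU : ∀ x : X, Curv2.IsWeakAssPoint F x → x ∈ U) :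
    Function.Injective (F.presheaf.map (homOfLE (le_top : U ≤ ⊤)).op) := by
  intro s t hst
  refine TopCat.Presheaf.section_ext (C := Ab.{u}) ((LQcoh.toShf X).obj F) ⊤ s t fun x _ => ?_
  by_contra hne
  obtain ⟨V, hV, hxV, -⟩ := exists_isAffineOpen_mem_and_subset (X := X) (x := x) (U := ⊤) trivial
  have hd : gM F hxV (res F le_top (s - t)) ≠ 0 := by
    rw [gM_res, map_sub]
    exact sub_ne_zero.2 hne
  obtain ⟨y, hy, -, hw, hne'⟩ := exists_weak_of_ne hV hxV hd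
  refine hne' ?_
  rw [gM_res, ← gM_res F (le_top : U ≤ ⊤) (hU y hw)]
  have : res F (le_top : U ≤ ⊤) (s - t) = 0 := by
    rw [map_sub]
    exact sub_eq_zero.2 hst
  rw [this, map_zero]

omit hV in
/-- a morphism which is injective at the weakly associated points is injective on all stalks -/
theorem injective_stalk {G : X.Modules} (φ : F ⟶ G)
    (h : ∀ y : X, Curv2.IsWeakAssPoint F y → Function.Injective ((DerSch.stalkFunctor X y).map φ).hom) (x : X) :
    Function.Injective ((DerSch.stalkFunctor X x).map φ).hom := by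
  refine (injective_iff_map_eq_zero _).2 fun ξ hξ => ?_
  by_contra hne
  obtain ⟨V, hV, hxV, -⟩ := exists_isAffineOpen_mem_and_subset (X := X) (x := x) (U := ⊤) trivial
  obtain ⟨u, s, hu, hus⟩ := exists_eq_smul (F := F) hV hxV (show F.presheaf.stalk x from ξ)
  have hs : gM F hxV s ≠ 0 := fun h0 => hne ((isUnit_gO hxV hu).smul_eq_zero.1 (hus.trans h0))
  have hg : G.presheaf.germ V x hxV (φ.app V s) = G.presheaf.germ V x hxV 0 := by
    refine ((DerSch.stalkFunctor_map_germ x φ V hxV s).symm.trans ?_).trans (map_zero _).symm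
    refine (congrArg ((DerSch.stalkFunctor X x).map φ).hom hus.symm).trans ?_
    exact (map_smul ((DerSch.stalkFunctor X x).map φ).hom _ ξ).trans ((congrArg _ hξ).trans (smul_zero _))
  obtain ⟨W, hW, i, j, e⟩ := G.presheaf.germ_eq x hxV hxV _ _ hg
  obtain ⟨y, hy, hyx, hw, hne'⟩ := exists_weak_of_ne hV hxV hs
  refine hne' (h y hw ?_)
  have hyW : y ∈ W := hyx.mem_open W.2 hW
  refine (DerSch.stalkFunctor_map_germ y φ V hy s).trans (Eq.trans ?_ (map_zero _).symm)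
  exact ((TopCat.Presheaf.germ_res_apply G.presheaf i y hyW _).symm.trans (congrArg (G.presheaf.germ W y hyW) e)).trans
    ((TopCat.Presheaf.germ_res_apply G.presheaf j y hyW _).trans (map_zero _))

omit hV in
theorem weak_structure_iff_maximal [IsReduced X] [(Coh.structureModule X).IsQuasicoherent] (x : X) :
    Curv2.IsWeakAssPoint (Coh.structureModule X) x ↔ ∀ y : X, y ⤳ x → y = x := by
  obtain ⟨V, hV, hxV, -⟩ := exists_isAffineOpen_mem_and_subset (X := X) (x := x) (U := ⊤) trivial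
  set p := (hV.primeIdealOf ⟨x, hxV⟩).asIdeal with hp
  rw [weak_iff hV hxV]
  constructor
  · rintro ⟨s, h1, h2⟩ y hyx
    have hyV : y ∈ V := hyx.mem_open V.2 hxV
    refine H6.AssPts.point_eq hV hyV hxV (le_antisymm ((specializes_iff hV hyV hxV).1 hyx) fun a ha => ?_)
    obtain ⟨n, w, hw, h0⟩ := h2 a ha
    let s' : Γ(X, V) := s
    have h0' : w * a ^ n * s' = 0 := h0
    have hn : IsNilpotent (w * a * s') := ⟨n + 1, by
      linear_combination (w ^ n * a * s' ^ n) * h0'⟩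
    have h3 : w * a * s' = 0 := hn.eq_zero
    have hs' : s' ∉ p := fun hs => by
      obtain ⟨m, v, hv, h4⟩ := h2 s' hs
      have h4' : v * s' ^ m * s' = 0 := h4
      have hn' : IsNilpotent (v * s') := ⟨m + 1, by linear_combination (v ^ m) * h4'⟩
      exact hv (h1 v hn'.eq_zero)
    have hq := (hV.primeIdealOf ⟨y, hyV⟩).isPrime
    have hle := (specializes_iff hV hyV hxV).1 hyx
    have : w * a * s' ∈ (hV.primeIdealOf ⟨y, hyV⟩).asIdeal := h3 ▸ Ideal.zero_mem _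
    rcases hq.mem_or_mem this with h5 | h5
    · exact (hq.mem_or_mem h5).resolve_left fun h6 => hw (hle h6)
    · exact absurd (hle h5) hs'
  · intro hmax
    refine ⟨(1 : Γ(X, V)), (minAnn_iff (hV.primeIdealOf ⟨x, hxV⟩).isPrime _).2
      ⟨⟨(hV.primeIdealOf ⟨x, hxV⟩).isPrime, fun u hu => ?_⟩, fun q hq hqp => ?_⟩⟩
    · have h1 : u * (1 : Γ(X, V)) = 0 := (mem_ann _ u).1 hu
      rw [mul_one] at h1
      rw [h1]
      exact Ideal.zero_mem _
    · obtain ⟨y, hy, hyq⟩ := exists_point hV q hq.1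
      have := hmax y ((specializes_iff hV hy hxV).2 (hyq ▸ hqp))
      subst this
      exact hyq.le

section push
variable {Y : Scheme.{u}} (f : X ⟶ Y)

omit hV [F.IsQuasicoherent] in
lemma exists_prime_comap_le {A B : Type*} [CommRing A] [CommRing B] (φ : A →+* B) {M : Type*} [AddCommGroup M]
    [Module B M] (t : M) {p : Ideal A} (hp : p.IsPrime) (h : ∀ u, φ u • t = 0 → u ∈ p) :
    ∃ q : Ideal B, q.IsPrime ∧ MinAnn q t ∧ q.comap φ ≤ p := by
  have hd : Disjoint ((Submodule.span B {t}).annihilator : Set B) (p.primeCompl.map φ) :=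
    Set.disjoint_left.2 fun z hz ⟨w, hw, hwz⟩ => hw (h w ((mem_ann t _).1 (hwz ▸ hz)))
  obtain ⟨Q, hQ, hIQ, hQS⟩ := Ideal.exists_le_prime_disjoint _ _ hd
  obtain ⟨q, hq, hqQ, hm⟩ := exists_minAnn_le hQ t fun u hu => hIQ ((mem_ann t u).2 hu)
  exact ⟨q, hq, hm, fun a ha => by_contra fun hap => Set.disjoint_left.1 hQS (hqQ ha) ⟨a, hap, rfl⟩⟩

omit hV in
/-- weakly associated points of a direct image come from weakly associated points -/
theorem exists_weak_of_push [QuasiCompact f] [QuasiSeparated f] {y : Y}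
    (hy : Curv2.IsWeakAssPoint ((Coh.push f).obj F) y) : ∃ x : X, f x = y ∧ Curv2.IsWeakAssPoint F x := by
  classical
  haveI : ((Coh.push f).obj F).IsQuasicoherent := LQcoh.isQuasicoherent_push f F
  obtain ⟨V, hV, hyV, -⟩ := exists_isAffineOpen_mem_and_subset (X := Y) (x := y) (U := ⊤) trivial
  obtain ⟨s, hs1, hs2⟩ := (weak_iff hV hyV).1 hy
  set p := (hV.primeIdealOf ⟨y, hyV⟩).asIdeal with hp
  obtain ⟨ι, hι, A, hA, hsup⟩ := LQcoh.exists_affine_cover (f ⁻¹ᵁ V) (f.isCompact_preimage hV.isCompact)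
  haveI := Fintype.ofFinite ι
  have hle : ∀ i, A i ≤ f ⁻¹ᵁ V := fun i => (le_iSup A i).trans hsup.le
  let s' : Γ(F, f ⁻¹ᵁ V) := s
  let t : ∀ i, Γ(F, A i) := fun i => res F (hle i) s'
  have hsm : ∀ i (a : Γ(Y, V)), (res F (hle i) (@id Γ(F, f ⁻¹ᵁ V) (a • s)) : Γ(F, A i)) =
      (f.appLE V (A i) (hle i)).hom a • t i := fun i a =>
    H6.ZStalk.res_smul (F := F) (hle i) (f.app V a) s'
  have hex : ∃ i, ∀ u, (f.appLE V (A i) (hle i)).hom u • t i = 0 → u ∈ p := by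
    by_contra hc
    push Not at hc
    choose u hu hup using hc
    refine ((hV.primeIdealOf ⟨y, hyV⟩).isPrime.prod_mem_iff (s := Finset.univ) (x := u)).not.2
      (by simpa using hup) (hs1 _ ?_)
    refine LQcoh.eq_of_cover F A hsup (s := @id Γ(F, f ⁻¹ᵁ V) ((∏ i, u i) • s)) (t := 0) fun i => ?_
    refine ((hsm i _).trans ?_).trans (map_zero _).symm
    obtain ⟨c, hc'⟩ := Finset.dvd_prod_of_mem u (Finset.mem_univ i)
    rw [hc', mul_comm, map_mul, mul_smul, hu i, smul_zero]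
  obtain ⟨i, hi⟩ := hex
  obtain ⟨q, hq, hm, hqp⟩ := exists_prime_comap_le (f.appLE V (A i) (hle i)).hom (t i) (hV.primeIdealOf ⟨y, hyV⟩).isPrime hi
  obtain ⟨x, hx, hxq⟩ := exists_point (hA i) q hq
  refine ⟨x, H6.AssPts.point_eq hV (hle i hx) hyV ?_, (weak_iff (hA i) hx).2 ⟨t i, hxq.symm ▸ hm⟩⟩
  rw [← H6.AssPts.prime_comap f (hA i) hV (hle i) hx, hxq]
  refine le_antisymm hqp fun a ha => ?_
  obtain ⟨n, w, hw, h0⟩ := hs2 a ha
  have h1 : (f.appLE V (A i) (hle i)).hom (w * a ^ n) • t i = 0 := by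
    rw [← hsm i]
    exact (congrArg (fun z : Γ(F, f ⁻¹ᵁ V) => (res F (hle i) z : Γ(F, A i))) h0).trans (map_zero _)
  have h2 := hm.1 _ h1
  rw [map_mul, map_pow] at h2
  exact hq.mem_of_pow_mem n ((hq.mem_or_mem h2).resolve_left fun h' => hw (hqp h'))

omit hV in
/-- image of an associated point with exact annihilator under an affine morphism -/
theorem weak_push_affine [IsAffineHom f] [IsLocallyNoetherian X] {x : X} (hx : Curv2.IsWeakAssPoint F x) :
    Curv2.IsWeakAssPoint ((Coh.push f).obj F) (f x) := by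
  haveI : ((Coh.push f).obj F).IsQuasicoherent := LQcoh.isQuasicoherent_push f F
  obtain ⟨V, hV, hxV, -⟩ := exists_isAffineOpen_mem_and_subset (X := Y) (x := f x) (U := ⊤) trivial
  have hW : IsAffineOpen (f ⁻¹ᵁ V) := hV.preimage f
  haveI : IsNoetherianRing Γ(X, f ⁻¹ᵁ V) := IsLocallyNoetherian.component_noetherian ⟨_, hW⟩
  obtain ⟨t, ht⟩ := (weak_iff hW hxV).1 hx
  have hass : (hW.primeIdealOf ⟨x, hxV⟩).asIdeal ∈ associatedPrimes Γ(X, f ⁻¹ᵁ V) Γ(F, f ⁻¹ᵁ V) :=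
    associatedPrimes.subset_of_injective (Submodule.span _ {t}).injective_subtype
      (Module.associatedPrimes.minimalPrimes_annihilator_subset_associatedPrimes _ (Submodule.span _ {t})
        ((minAnn_iff (hW.primeIdealOf ⟨x, hxV⟩).isPrime t).1 ht))
  obtain ⟨-, s, hs⟩ := (isAssociatedPrime_iff).1 hass
  refine (weak_iff hV hxV).2 ⟨@id Γ((Coh.push f).obj F, V) s, fun u hu => ?_, fun a ha => ⟨1, 1, ?_, ?_⟩⟩
  · rw [← H6.AssPts.prime_comap f hW hV le_rfl hxV, Ideal.mem_comap, Scheme.Hom.appLE_eq_app, hs,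
      H6.AssPts.smul_eq_zero_iff_mem]
    exact hu
  · exact (hV.primeIdealOf ⟨f x, hxV⟩).isPrime.one_notMem
  · rw [← H6.AssPts.prime_comap f hW hV le_rfl hxV, Ideal.mem_comap, Scheme.Hom.appLE_eq_app, hs,
      H6.AssPts.smul_eq_zero_iff_mem] at ha
    rw [one_mul, pow_one]
    exact ha

omit hV in
/-- image of a weakly associated point under a finite morphism -/
theorem weak_push_finite [IsFinite f] {x : X} (hx : Curv2.IsWeakAssPoint F x) :
    Curv2.IsWeakAssPoint ((Coh.push f).obj F) (f x) := by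
  classical
  haveI : ((Coh.push f).obj F).IsQuasicoherent := LQcoh.isQuasicoherent_push f F
  obtain ⟨V, hV, hxV, -⟩ := exists_isAffineOpen_mem_and_subset (X := Y) (x := f x) (U := ⊤) trivial
  have hW : IsAffineOpen (f ⁻¹ᵁ V) := hV.preimage f
  obtain ⟨t, ht⟩ := (weak_iff hW hxV).1 hx
  let q := (hW.primeIdealOf ⟨x, hxV⟩).asIdeal
  let φ : Γ(Y, V) →+* Γ(X, f ⁻¹ᵁ V) := (f.app V).hom
  have hφ : φ.Finite := IsFinite.finite_app f V hV
  letI := φ.toAlgebra
  haveI : Module.Finite Γ(Y, V) Γ(X, f ⁻¹ᵁ V) := hφ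
  have hqp : q.comap φ = (hV.primeIdealOf ⟨f x, hxV⟩).asIdeal := by
    rw [← H6.AssPts.prime_comap f hW hV le_rfl hxV, Scheme.Hom.appLE_eq_app]
  haveI : q.IsPrime := (hW.primeIdealOf ⟨x, hxV⟩).isPrime
  haveI : (hV.primeIdealOf ⟨f x, hxV⟩).asIdeal.IsPrime := (hV.primeIdealOf ⟨f x, hxV⟩).isPrime
  let p := (hV.primeIdealOf ⟨f x, hxV⟩).asIdeal
  let others : Set (Ideal Γ(X, f ⁻¹ᵁ V)) := p.primesOver Γ(X, f ⁻¹ᵁ V) \ {q}
  have hfin : others.Finite := (Algebra.QuasiFinite.finite_primesOver p).subset Set.diff_subset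
  obtain ⟨h, hhq, hho⟩ : ∃ h ∈ q, ∀ Q ∈ others, h ∉ Q := by
    by_contra hc
    push Not at hc
    have hsub : (q : Set Γ(X, f ⁻¹ᵁ V)) ⊆ ⋃ Q ∈ (↑hfin.toFinset : Set (Ideal Γ(X, f ⁻¹ᵁ V))), (Q : Set _) := fun z hz => by
      obtain ⟨Q, hQ, hzQ⟩ := hc z hz
      exact Set.mem_iUnion₂.2 ⟨Q, hfin.mem_toFinset.2 hQ, hzQ⟩
    obtain ⟨Q, hQ, hqQ⟩ := (Ideal.subset_union_prime (f := fun Q => Q) ⊥ ⊥ fun Q hQ _ _ =>
      (hfin.mem_toFinset.1 hQ).1.1).1 hsub
    have hQ' := hfin.mem_toFinset.1 hQ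
    haveI := hQ'.1.1
    have hcom : q.comap φ = Q.comap φ := hqp.trans hQ'.1.2.over
    by_cases he : q = Q
    · exact hQ'.2 he.symm
    · exact (@Ideal.IsIntegral.comap_lt_comap Γ(Y, V) _ _ _ _ inferInstance _ _ inferInstance (lt_of_le_of_ne hqQ he)).ne hcom
  obtain ⟨n, g, hg, h0⟩ := ht.2 h hhq
  refine (weak_iff hV hxV).2 ⟨@id Γ((Coh.push f).obj F, V) (g • t), fun u hu => ?_, fun a ha => ?_⟩
  · have h1 : (φ u * g) • t = 0 := (mul_smul _ _ _).trans hu
    have h2 := ((hW.primeIdealOf ⟨x, hxV⟩).isPrime.mem_or_mem (ht.1 _ h1)).resolve_right hg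
    rw [← hqp]
    exact h2
  · by_contra hc
    push Not at hc
    let S : Submonoid Γ(X, f ⁻¹ᵁ V) := (p.primeCompl ⊔ Submonoid.powers a).map φ
    have hd : Disjoint ((Submodule.span Γ(X, f ⁻¹ᵁ V) {g • t}).annihilator : Set Γ(X, f ⁻¹ᵁ V)) S :=
      Set.disjoint_left.2 fun z hz ⟨c, hc', hcz⟩ => by
        obtain ⟨w, hw, y', ⟨k, rfl⟩, rfl⟩ := Submonoid.mem_sup.1 hc'
        rw [SetLike.mem_coe, ← hcz, mem_ann] at hz
        exact hc k w hw hz
    obtain ⟨Q, hQ, hIQ, hQS⟩ := Ideal.exists_le_prime_disjoint _ S hd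
    have hQp : Q.comap φ ≤ p := fun z hz => by_contra fun hzp =>
      Set.disjoint_left.1 hQS hz ⟨z, Submonoid.mem_sup_left (show z ∈ p.primeCompl from hzp), rfl⟩
    obtain ⟨Q', hQQ', hQ', hQ'p⟩ := Ideal.exists_ideal_over_prime_of_isIntegral p Q hQp
    have hhQ : h ∈ Q := hQ.mem_of_pow_mem n (hIQ ((mem_ann _ _).2 (by rw [← mul_smul, mul_comm, h0])))
    have heq : Q' = q := by_contra fun hne => hho Q' ⟨⟨hQ', ⟨hQ'p.symm⟩⟩, hne⟩ (hQQ' hhQ)
    have hQq : q ≤ Q := by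
      refine (((minAnn_iff (hW.primeIdealOf ⟨x, hxV⟩).isPrime t).1 ht).2 ⟨hQ, fun u hu => hIQ ?_⟩ (hQQ'.trans heq.le))
      rw [mem_ann] at hu ⊢
      rw [smul_comm, hu, smul_zero]
    exact Set.disjoint_left.1 hQS (hQq (show φ a ∈ q from (hqp ▸ ha : a ∈ q.comap φ)))
      ⟨a, Submonoid.mem_sup_right (Submonoid.mem_powers a), rfl⟩

end push

end Groth.Agent.H7AssPts
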