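import Groth.Agent.Lib.H7PseudoPull
import Groth.Agent.Lib.H7LTensorCx
import Mathlib

/-! Tensor products of finite locally free modules and of perfect complexes. -/

universe u v w
open CategoryTheory Limits AlgebraicGeometry Opposite TopologicalSpace HomologicalComplex

namespace Groth.Agent.H7FinFree
open Groth.Agent H7KFlatSheaf H7HasLpull H7LpullCalc H7TorAmp H7PerfPull H7LTensorCx

attribute [local instance] HasDerivedCategory.standard

variable {X Y : Scheme.{u}}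

/-- free of finite rank -/
def IsFree (M : X.Modules) : Prop := ∃ n : ℕ, Nonempty (M ≅ FlatMod.freeMod X n)

lemma IsFree.of_iso {M N : X.Modules} (e : M ≅ N) : IsFree M → IsFree N :=
  fun ⟨n, ⟨f⟩⟩ => ⟨n, ⟨e.symm ≪≫ f⟩⟩

lemma isFree_sigma {ι : Type} [Finite ι] (M : ι → X.Modules) (h : ∀ i, IsFree (M i)) : IsFree (∐ M) := by
  choose n e using h
  have : Fintype ι := Fintype.ofFinite ι
  let E : (Σ i, Fin (n i)) ≃ Fin (Fintype.card (Σ i, Fin (n i))) := Fintype.equivFin _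
  exact ⟨_, ⟨Sigma.mapIso (fun i => (e i).some) ≪≫
    sigmaSigmaIso (fun i => Fin (n i)) (fun _ _ => Coh.structureModule X) ≪≫
      Sigma.whiskerEquiv E (fun _ => Iso.refl (Coh.structureModule X))⟩⟩

lemma isFree_tensor {M N : X.Modules} : IsFree M → IsFree N → IsFree (CohB1.tensorMod M N) := by
  rintro ⟨n, ⟨e⟩⟩ ⟨m, ⟨e'⟩⟩
  refine IsFree.of_iso (LTensor.mapIso e e').symm ?_
  have : ((DCoh.tensorBi (X := X)).flip.obj (FlatMod.freeMod X m)).Additive :=
    ⟨fun {A B a b} => congrArg (fun t : (DCoh.tensorBi (X := X)).obj A ⟶ (DCoh.tensorBi (X := X)).obj B =>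
      t.app (FlatMod.freeMod X m)) ((DCoh.tensorBi (X := X)).map_add)⟩
  refine IsFree.of_iso (PreservesCoproduct.iso ((DCoh.tensorBi (X := X)).flip.obj (FlatMod.freeMod X m))
    (fun _ : Fin n => Coh.structureModule X)).symm (isFree_sigma _ fun _ => ?_)
  show IsFree (CohB1.tensorMod (Coh.structureModule X) (FlatMod.freeMod X m))
  exact ⟨m, ⟨LTensor.comm _ _ ≪≫ SecTwist.unitorR _⟩⟩

/-- finite local freeness, through pullbacks along open immersions -/
lemma isFinLocFree_iff (M : X.Modules) : FlatMod.IsFinLocFree M ↔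
    ∀ x : X, ∃ U : X.Opens, x ∈ U ∧ IsFree ((Scheme.Modules.pullback U.ι).obj M) := by
  constructor
  · intro h x
    obtain ⟨U, n, hx, ⟨e⟩⟩ := h x
    exact ⟨U, hx, n, ⟨((Scheme.Modules.restrictFunctorIsoPullback U.ι).app M).symm ≪≫ e⟩⟩
  · intro h x
    obtain ⟨U, hx, n, ⟨e⟩⟩ := h x
    exact ⟨U, n, hx, ⟨(Scheme.Modules.restrictFunctorIsoPullback U.ι).app M ≪≫ e⟩⟩

lemma IsFree.pullback (f : X ⟶ Y) {M : Y.Modules} : IsFree M → IsFree ((Scheme.Modules.pullback f).obj M) :=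
  fun ⟨n, ⟨e⟩⟩ => ⟨n, ⟨(Scheme.Modules.pullback f).mapIso e ≪≫ pullFreeIso f n⟩⟩

lemma IsFree.mono {M : X.Modules} {U W : X.Opens} (h : W ≤ U) (hM : IsFree ((Scheme.Modules.pullback U.ι).obj M)) :
    IsFree ((Scheme.Modules.pullback W.ι).obj M) :=
  (hM.pullback (X.homOfLE h)).of_iso
    ((Scheme.Modules.pullbackComp (X.homOfLE h) U.ι).app M ≪≫ eqToIso (by rw [Scheme.homOfLE_ι]))

theorem finLocFree_tensor {M N : X.Modules} (hM : FlatMod.IsFinLocFree M) (hN : FlatMod.IsFinLocFree N) :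
    FlatMod.IsFinLocFree (CohB1.tensorMod M N) := by
  rw [isFinLocFree_iff] at hM hN ⊢
  intro x
  obtain ⟨U, hx, hU⟩ := hM x
  obtain ⟨V, hx', hV⟩ := hN x
  exact ⟨U ⊓ V, ⟨hx, hx'⟩, (isFree_tensor (hU.mono inf_le_left) (hV.mono inf_le_right)).of_iso
    (asIso (H7PullTensor.theta (U ⊓ V).ι M N)).symm⟩

theorem finLocFree_sigma {ι : Type} [Finite ι] (M : ι → X.Modules) (h : ∀ i, FlatMod.IsFinLocFree (M i)) :
    FlatMod.IsFinLocFree (∐ M) := by
  simp only [isFinLocFree_iff] at h ⊢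
  intro x
  choose U hx hU using fun i => h i x
  refine ⟨⟨⋂ i, (U i : Set X), isOpen_iInter_of_finite fun i => (U i).2⟩, Set.mem_iInter.2 hx,
    IsFree.of_iso (PreservesCoproduct.iso (Scheme.Modules.pullback _) M).symm (isFree_sigma _ fun i => ?_)⟩
  exact IsFree.mono (fun y hy => Set.mem_iInter.1 hy i) (hU i)

theorem finLocFree_of_iso {M N : X.Modules} (e : M ≅ N) (h : FlatMod.IsFinLocFree M) : FlatMod.IsFinLocFree N :=
  fun x => by
    obtain ⟨U, n, hx, ⟨f⟩⟩ := h x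
    exact ⟨U, n, hx, ⟨(Scheme.Modules.restrictFunctor U.ι).mapIso e.symm ≪≫ f⟩⟩

section boundedTensor

variable {A B D : Type*} [Category A] [Category B] [Category D] [Preadditive A] [Preadditive B] [Preadditive D]
  (F : A ⥤ B ⥤ D) [F.Additive] [∀ M, (F.obj M).Additive] (P : CochainComplex A ℤ) (Q : CochainComplex B ℤ)
  [HasMapBifunctor P Q F (ComplexShape.up ℤ)] [HasFiniteCoproducts D] (a b : ℤ)

lemma eqToHom_comp_ιMapBifunctor {n p q p' q' : ℤ} (hp : p' = p) (hq : q' = q)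
    (h : ComplexShape.π (ComplexShape.up ℤ) (ComplexShape.up ℤ) (ComplexShape.up ℤ) (p, q) = n)
    (h' : ComplexShape.π (ComplexShape.up ℤ) (ComplexShape.up ℤ) (ComplexShape.up ℤ) (p', q') = n)
    (e : (F.obj (P.X p)).obj (Q.X q) = (F.obj (P.X p')).obj (Q.X q')) :
    eqToHom e ≫ ιMapBifunctor P Q F (ComplexShape.up ℤ) p' q' n h' =
      ιMapBifunctor P Q F (ComplexShape.up ℤ) p q n h := by
  subst hp hq
  rw [eqToHom_refl, Category.id_comp]

/-- with a bounded first factor the total complex is a finite coproduct in each degree -/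
noncomputable def sigmaIsoX (hz : ∀ p q, (p < a ∨ b < p) → IsZero ((F.obj (P.X p)).obj (Q.X q))) (n : ℤ) :
    (mapBifunctor P Q F (ComplexShape.up ℤ)).X n ≅
      ∐ fun i : Fin (b - a + 1).toNat => (F.obj (P.X (a + i))).obj (Q.X (n - (a + i))) where
  hom := mapBifunctorDesc fun p q h =>
    if hp : a ≤ p ∧ p ≤ b then
      eqToHom (by
        have hpq : p + q = n := h
        show (F.obj (P.X p)).obj (Q.X q) =
          (fun i : Fin (b - a + 1).toNat => (F.obj (P.X (a + i))).obj (Q.X (n - (a + i))))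
            ⟨(p - a).toNat, by omega⟩
        simp only []
        rw [show a + ((p - a).toNat : ℤ) = p by omega, show n - p = q by omega]) ≫
        Limits.Sigma.ι (fun i : Fin (b - a + 1).toNat => (F.obj (P.X (a + i))).obj (Q.X (n - (a + i))))
          ⟨(p - a).toNat, _⟩
    else 0
  inv := Limits.Sigma.desc fun i => ιMapBifunctor P Q F (ComplexShape.up ℤ) (a + i) (n - (a + i)) n
    (show a + (i : ℤ) + (n - (a + i)) = n by omega)
  hom_inv_id := mapBifunctor.hom_ext fun p q h => by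
    rw [ι_mapBifunctorDesc_assoc, Category.comp_id]
    split
    · rename_i hp
      rw [Category.assoc, Limits.Sigma.ι_desc]
      have hpq : p + q = n := h
      exact eqToHom_comp_ιMapBifunctor F P Q (by simp; omega) (by simp; omega) _ _ _
    · exact (hz p q (by omega)).eq_of_src _ _
  inv_hom_id := Limits.Sigma.hom_ext _ _ fun i => by
    rw [Limits.Sigma.ι_desc_assoc, ι_mapBifunctorDesc, dif_pos (show a ≤ a + (i : ℤ) ∧ a + (i : ℤ) ≤ b from
      ⟨by omega, by omega⟩), Category.comp_id]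
    have : (⟨(a + (i : ℤ) - a).toNat, by omega⟩ : Fin (b - a + 1).toNat) = i := Fin.ext (by simp)
    exact Sigma.eqToHom_comp_ι (fun i : Fin (b - a + 1).toNat => (F.obj (P.X (a + i))).obj (Q.X (n - (a + i)))) this.symm

end boundedTensor

theorem strictlyPerfect_tensor {P Q : CochainComplex X.Modules ℤ} (hP : DCoh.IsStrictlyPerfect P)
    (hQ : DCoh.IsStrictlyPerfect Q) : DCoh.IsStrictlyPerfect ((DCoh.tensorCx.obj P).obj Q) := by
  obtain ⟨⟨a, b, hab⟩, hf⟩ := hP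
  obtain ⟨⟨c, d, hcd⟩, hg⟩ := hQ
  have hz : ∀ p q, (p < a ∨ b < p ∨ q < c ∨ d < q) →
      IsZero (((DCoh.tensorBi (X := X)).obj (P.X p)).obj (Q.X q)) := by
    intro p q h
    rcases h with h | h | h | h
    · exact Functor.map_isZero ((DCoh.tensorBi (X := X)).flip.obj (Q.X q)) (hab p (Or.inl h))
    · exact Functor.map_isZero ((DCoh.tensorBi (X := X)).flip.obj (Q.X q)) (hab p (Or.inr h))
    · exact Functor.map_isZero _ (hcd q (Or.inl h))
    · exact Functor.map_isZero _ (hcd q (Or.inr h))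
  refine ⟨⟨a + c, b + d, fun n hn => (IsZero.iff_id_eq_zero _).2 (mapBifunctor.hom_ext fun p q h => ?_)⟩,
    fun n => ?_⟩
  · have hpq : p + q = n := h
    exact (hz p q (by omega)).eq_of_src _ _
  · let g : Fin (b - a + 1).toNat → X.Modules := fun i =>
      ((DCoh.tensorBi (X := X)).obj (P.X (a + i))).obj (Q.X (n - (a + i)))
    exact finLocFree_of_iso (sigmaIsoX (DCoh.tensorBi (X := X)) P Q a b
      (fun p q hp => hz p q (by omega)) n).symm (finLocFree_sigma g fun i => finLocFree_tensor (hf _) (hg _))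

/-- pullbacks along compositions, on complexes -/
noncomputable def pullCxComp {Z : Scheme.{u}} (f : X ⟶ Y) (g : Y ⟶ Z) (h : X ⟶ Z) (e : f ≫ g = h)
    (K : CochainComplex Z.Modules ℤ) : (pullCx f).obj ((pullCx g).obj K) ≅ (pullCx h).obj K :=
  Hom.isoOfComponents (fun n => (Scheme.Modules.pullbackComp f g ≪≫ eqToIso (by rw [e])).app (K.X n))
    fun i j _ => ((Scheme.Modules.pullbackComp f g ≪≫ eqToIso (by rw [e])).hom.naturality (K.d i j)).symm

/-- a perfect object near a point -/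
lemma exists_local_model {E : DCoh.D X} (hE : DCoh.IsPerfect E) {K : CochainComplex X.Modules ℤ}
    (e : DerivedCategory.Q.obj K ≅ E) (x : X) :
    ∃ (V : X.Opens) (P : CochainComplex (V : Scheme.{u}).Modules ℤ), x ∈ V ∧ DCoh.IsStrictlyPerfect P ∧
      Nonempty (DerivedCategory.Q.obj ((pullCx V.ι).obj K) ≅ DerivedCategory.Q.obj P) := by
  obtain ⟨V, hx, hV⟩ := hE x
  obtain ⟨P, hP, ⟨eP⟩⟩ := hV K ⟨e⟩
  exact ⟨V, P, hx, hP, ⟨(DerivedCategory.Q.mapIso
    (cxIso (Scheme.Modules.restrictFunctorIsoPullback V.ι) K)).symm ≪≫ eP⟩⟩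

/-- shrinking the open of a local model -/
lemma local_model_mono {K : CochainComplex X.Modules ℤ} (hK : SKF K) {V W : X.Opens} (h : W ≤ V)
    {P : CochainComplex (V : Scheme.{u}).Modules ℤ} (hP : DCoh.IsStrictlyPerfect P)
    (e : DerivedCategory.Q.obj ((pullCx V.ι).obj K) ≅ DerivedCategory.Q.obj P) :
    ∃ P' : CochainComplex (W : Scheme.{u}).Modules ℤ, DCoh.IsStrictlyPerfect P' ∧
      Nonempty (DerivedCategory.Q.obj ((pullCx W.ι).obj K) ≅ DerivedCategory.Q.obj P') :=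
  ⟨(pullCx (X.homOfLE h)).obj P, strictlyPerfect_pullback _ hP,
    ⟨(DerivedCategory.Q.mapIso (pullCxComp (X.homOfLE h) V.ι W.ι (X.homOfLE_ι h) K)).symm ≪≫
      pullQIso (X.homOfLE h) (H7StalkPull.skf_pullback V.ι hK) (skf_of_strictlyPerfect hP) e⟩⟩

theorem isPerfect_ltensor {L : CochainComplex X.Modules ℤ} (hL : SKF L) [DCoh.HasLTensorCx L]
    (hLp : DCoh.IsPerfect (DerivedCategory.Q.obj L)) {E : DCoh.D X} (hE : DCoh.IsPerfect E) :
    DCoh.IsPerfect ((DCoh.LTensorCx L).obj E) := fun x => by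
  obtain ⟨K, hK, -, ⟨eK⟩⟩ := exists_skf E
  obtain ⟨V₁, P₁, hx₁, hP₁, ⟨e₁⟩⟩ := exists_local_model hE eK x
  obtain ⟨V₂, P₂, hx₂, hP₂, ⟨e₂⟩⟩ := exists_local_model hLp (Iso.refl _) x
  obtain ⟨P, hP, ⟨eP⟩⟩ := local_model_mono hK (inf_le_left : V₁ ⊓ V₂ ≤ V₁) hP₁ e₁
  obtain ⟨P', hP', ⟨eP'⟩⟩ := local_model_mono hL (inf_le_right : V₁ ⊓ V₂ ≤ V₂) hP₂ e₂
  refine ⟨V₁ ⊓ V₂, ⟨hx₁, hx₂⟩, fun F' ⟨eF⟩ => ⟨(DCoh.tensorCx.obj P).obj P', strictlyPerfect_tensor hP hP', ?_⟩⟩
  have := hasLTensorCx ((pullCx (V₁ ⊓ V₂).ι).obj L)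
  obtain ⟨e₃⟩ := tensorQIso_right (skf_of_strictlyPerfect hP) eP'
  exact ⟨restrictQIso _ (eF ≪≫ (DCoh.LTensorCx L).mapIso eK.symm ≪≫ ltenCxIso L hK) ≪≫
    DerivedCategory.Q.mapIso (cxIso (Scheme.Modules.restrictFunctorIsoPullback _) _ ≪≫ pullTensorIso _ K L) ≪≫
      (ltenCxIso _ (H7StalkPull.skf_pullback _ hK)).symm ≪≫ (DCoh.LTensorCx _).mapIso eP ≪≫
        ltenCxIso _ (skf_of_strictlyPerfect hP) ≪≫ e₃⟩

end Groth.Agent.H7FinFree
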