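import Groth.Agent.Lib.H7Rank
import Groth.Agent.Lib.H7FinFree
import Groth.Prelude.Def_PerfD
import Mathlib

/-! Fibre dimensions of perfect and pseudo-coherent complexes. -/

universe u v w
open CategoryTheory Limits AlgebraicGeometry Opposite TopologicalSpace HomologicalComplex

namespace Groth.Agent.H7Betti
open Groth.Agent H7Stalk H7KFlatSheaf H7HasLpull H7LpullCalc H7TorAmp H7PerfPull H7PseudoPull H7FinFree

attribute [local instance] HasDerivedCategory.standard

variable {X : Scheme.{u}}

section point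

variable (hX : ∀ a b : X, a = b)

include hX in
lemma eq_top_of_mem {U : X.Opens} {p : X} (hp : p ∈ U) : U = ⊤ :=
  Opens.ext (Set.eq_univ_of_forall fun q => hX p q ▸ hp)

include hX in
lemma germ_top_bijective (F : TopCat.Presheaf Ab.{u} X) (p : X) :
    Function.Bijective (F.germ ⊤ p trivial) := by
  constructor
  · intro a b hab
    obtain ⟨W, hW, i, j, e⟩ := F.germ_eq (U := (⊤ : X.Opens)) (V := (⊤ : X.Opens)) p trivial trivial a b hab
    obtain rfl := eq_top_of_mem hX hW
    rw [show i = 𝟙 _ from Subsingleton.elim _ _, show j = 𝟙 _ from Subsingleton.elim _ _, op_id, F.map_id] at e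
    exact e
  · intro z
    obtain ⟨U, hU, s, rfl⟩ := F.exists_germ_eq (x := p) z
    obtain rfl := eq_top_of_mem hX hU
    exact ⟨s, rfl⟩

include hX in
lemma germ_top_bijective_ring (p : X) : Function.Bijective (X.presheaf.germ ⊤ p trivial) := by
  constructor
  · intro a b hab
    obtain ⟨W, hW, i, j, e⟩ := X.presheaf.germ_eq (U := (⊤ : X.Opens)) (V := (⊤ : X.Opens)) p trivial trivial a b hab
    obtain rfl := eq_top_of_mem hX hW
    rw [show i = 𝟙 _ from Subsingleton.elim _ _, show j = 𝟙 _ from Subsingleton.elim _ _, op_id, X.presheaf.map_id] at e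
    exact e
  · intro z
    obtain ⟨U, hU, s, rfl⟩ := X.presheaf.exists_germ_eq (x := p) z
    obtain rfl := eq_top_of_mem hX hU
    exact ⟨s, rfl⟩

include hX in
lemma finrank_sections (M : X.Modules) (p : X) :
    Module.finrank (Coh.Γtop X) (M.val.obj (op ⊤)) =
      Module.finrank (X.presheaf.stalk p) ((DerSch.stalkFunctor X p).obj M) := by
  let j : M.val.obj (op ⊤) ≃+ ((DerSch.stalkFunctor X p).obj M) :=
    AddEquiv.ofBijective (M.presheaf.germ ⊤ p trivial).hom (germ_top_bijective hX M.presheaf p)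
  exact congrArg Cardinal.toNat (rank_eq_of_equiv_equiv (fun r : Coh.Γtop X => (X.presheaf.germ ⊤ p trivial).hom r) j
    (germ_top_bijective_ring hX p) (fun r m => germ_smul' (M := M) p ⊤ trivial r m))

end point

section coords

/-- evaluation of the stalk of the structure module -/
noncomputable def evO (x : X) :
    (DerSch.stalkFunctor X x).obj (Coh.structureModule X) ⟶ ModuleCat.of (X.presheaf.stalk x) (X.presheaf.stalk x) :=
  fromSk (mkHom (M := Coh.structureModule X)
    (fun U => AddMonoidHom.mk'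
      (fun r : Γ(X, U) => (fun h => (X.presheaf.germ U x h.down).hom r :
        SkSec x (ModuleCat.of (X.presheaf.stalk x) (X.presheaf.stalk x)) U))
      fun a b => funext fun h => map_add (X.presheaf.germ U x h.down).hom a b)
    (fun U V i m => funext fun h => TopCat.Presheaf.germ_res_apply X.presheaf i x h.down m)
    (fun U r m => funext fun h => map_mul (X.presheaf.germ U x h.down).hom r m))

lemma evO_germ (x : X) (U : X.Opens) (hx : x ∈ U) (r : Γ(X, U)) :
    (evO x).hom ((Coh.structureModule X).presheaf.germ U x hx r) = X.presheaf.germ U x hx r := by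
  unfold evO
  exact fromSk_germ (M := Coh.structureModule X) _ U hx r

/-- the germ of `1` -/
noncomputable def one (x : X) : (DerSch.stalkFunctor X x).obj (Coh.structureModule X) :=
  (Coh.structureModule X).presheaf.germ ⊤ x trivial (1 : Γ(X, ⊤))

lemma evO_one (x : X) : (evO x).hom (one x) = 1 :=
  (evO_germ x ⊤ trivial 1).trans (map_one (X.presheaf.germ ⊤ x trivial).hom)

/-- the inverse of `evO` -/
noncomputable def toO (x : X) :
    ModuleCat.of (X.presheaf.stalk x) (X.presheaf.stalk x) ⟶ (DerSch.stalkFunctor X x).obj (Coh.structureModule X) :=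
  ModuleCat.ofHom (LinearMap.toSpanSingleton _ _ (one x))

lemma evO_toO (x : X) : evO x ≫ toO x = 𝟙 _ := stalkHom_ext fun U hx r => by
  show (toO x).hom ((evO x).hom _) = _
  rw [evO_germ]
  show (X.presheaf.germ U x hx).hom r • one x = (Coh.structureModule X).presheaf.germ U x hx r
  unfold one
  rw [← TopCat.Presheaf.germ_res_apply (Coh.structureModule X).presheaf (homOfLE (le_top : U ≤ ⊤)) x hx (1 : Γ(X, ⊤))]
  refine (germ_smul' (M := Coh.structureModule X) x U hx r _).symm.trans (congrArg _ ?_)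
  show (show Γ(X, U) from r) * (X.presheaf.map (homOfLE (le_top : U ≤ ⊤)).op).hom 1 = r
  rw [map_one, mul_one]

/-- coordinates on a free module -/
structure Coords (M : X.Modules) (n : ℕ) where
  π : Fin n → (M ⟶ Coh.structureModule X)
  ι : Fin n → (Coh.structureModule X ⟶ M)
  ι_π : ∀ i j, ι i ≫ π j = if i = j then 𝟙 _ else 0
  total : ∑ i, π i ≫ ι i = 𝟙 M

noncomputable def coords {M : X.Modules} {n : ℕ} (e : M ≅ FlatMod.freeMod X n) : Coords M n where
  π i := e.hom ≫ Limits.Sigma.desc fun j => if j = i then 𝟙 _ else 0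
  ι i := Limits.Sigma.ι (fun _ : Fin n => Coh.structureModule X) i ≫ e.inv
  ι_π i j := by
    rw [Category.assoc, e.inv_hom_id_assoc, Limits.Sigma.ι_desc]
  total := by
    rw [← cancel_epi e.inv, ← cancel_mono e.hom, Category.comp_id, e.inv_hom_id, Preadditive.comp_sum,
      Preadditive.sum_comp]
    refine Limits.Sigma.hom_ext _ _ fun k => ?_
    rw [Preadditive.comp_sum, Finset.sum_eq_single k, Category.comp_id]
    · simp
    · intro i _ hik
      simp [Ne.symm hik]
    · simp

variable {M N : X.Modules} {m n : ℕ} (c : Coords M m)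

/-- the coordinates in the stalk -/
noncomputable def Coords.basis (x : X) :
    Module.Basis (Fin m) (X.presheaf.stalk x) ((DerSch.stalkFunctor X x).obj M) :=
  Module.Basis.ofEquivFun
    { toFun := fun z i => (evO x).hom (((DerSch.stalkFunctor X x).map (c.π i)).hom z)
      map_add' := fun a b => funext fun i =>
        (congrArg (evO x).hom (map_add ((DerSch.stalkFunctor X x).map (c.π i)).hom a b)).trans (map_add (evO x).hom _ _)
      map_smul' := fun r a => funext fun i =>
        (congrArg (evO x).hom (map_smul ((DerSch.stalkFunctor X x).map (c.π i)).hom r a)).trans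
          (map_smul (evO x).hom r _)
      invFun := fun v => ∑ i, v i • ((DerSch.stalkFunctor X x).map (c.ι i)).hom (one x)
      left_inv := fun z => by
        have h := congrArg (fun t : (DerSch.stalkFunctor X x).obj M ⟶ _ => t.hom z)
          (((DerSch.stalkFunctor X x).map_sum (fun i => c.π i ≫ c.ι i) Finset.univ).symm.trans
            ((congrArg (DerSch.stalkFunctor X x).map c.total).trans ((DerSch.stalkFunctor X x).map_id M)))
        refine Eq.trans ?_ (h.trans rfl)
        rw [ModuleCat.hom_sum, LinearMap.sum_apply]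
        refine Finset.sum_congr rfl fun i _ => ?_
        have hw : (evO x).hom (((DerSch.stalkFunctor X x).map (c.π i)).hom z) • one x =
            ((DerSch.stalkFunctor X x).map (c.π i)).hom z :=
          congrArg (fun t : (DerSch.stalkFunctor X x).obj (Coh.structureModule X) ⟶ _ =>
            t.hom (((DerSch.stalkFunctor X x).map (c.π i)).hom z)) (evO_toO x)
        rw [Functor.map_comp, ← map_smul, hw]
        rfl
      right_inv := fun v => funext fun j => by
        dsimp only
        rw [map_sum, map_sum, Finset.sum_eq_single j]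
        · rw [map_smul, map_smul]
          have h := congrArg (fun t : Coh.structureModule X ⟶ Coh.structureModule X =>
            (evO x).hom (((DerSch.stalkFunctor X x).map t).hom (one x))) (c.ι_π j j)
          simp only [if_true, Functor.map_comp, CategoryTheory.Functor.map_id, ModuleCat.hom_comp, ModuleCat.hom_id,
            LinearMap.comp_apply, LinearMap.id_apply] at h
          rw [h, evO_one, smul_eq_mul, mul_one]
        · intro i _ hij
          rw [map_smul, map_smul]
          have h := congrArg (fun t : Coh.structureModule X ⟶ Coh.structureModule X =>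
            (evO x).hom (((DerSch.stalkFunctor X x).map t).hom (one x))) (c.ι_π i j)
          simp only [if_neg hij, Functor.map_comp, Functor.map_zero, ModuleCat.hom_comp, ModuleCat.hom_zero,
            LinearMap.comp_apply, LinearMap.zero_apply, map_zero] at h
          rw [h, smul_zero]
        · simp }

variable (c' : Coords N n)

/-- the matrix of global functions of a map of free modules -/
noncomputable def Coords.matrix (g : M ⟶ N) : Matrix (Fin n) (Fin m) Γ(X, ⊤) :=
  fun k l => (c.ι l ≫ g ≫ c'.π k).app ⊤ (1 : Γ(X, ⊤))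

lemma Coords.toMatrix_stalk (x : X) (g : M ⟶ N) :
    LinearMap.toMatrix (c.basis x) (c'.basis x) ((DerSch.stalkFunctor X x).map g).hom =
      (c.matrix c' g).map (X.presheaf.germ ⊤ x trivial).hom := by
  classical
  have hb : ∀ l, c.basis x l = ((DerSch.stalkFunctor X x).map (c.ι l)).hom (one x) := fun l => by
    unfold Coords.basis
    rw [Module.Basis.coe_ofEquivFun]
    show ∑ i, (Pi.single l (1 : X.presheaf.stalk x) : Fin m → X.presheaf.stalk x) i • _ = _
    rw [Finset.sum_eq_single l]
    · rw [Pi.single_eq_same, one_smul]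
    · intro i _ hi
      rw [Pi.single_eq_of_ne hi, zero_smul]
    · simp
  ext k l
  rw [LinearMap.toMatrix_apply, Matrix.map_apply, hb]
  show (evO x).hom (((DerSch.stalkFunctor X x).map (c'.π k)).hom (((DerSch.stalkFunctor X x).map g).hom
    (((DerSch.stalkFunctor X x).map (c.ι l)).hom (one x)))) = _
  refine Eq.trans ?_ (evO_germ x ⊤ trivial _)
  refine congrArg (evO x).hom ?_
  refine Eq.trans ?_ (DerSch.stalkFunctor_map_germ x (c.ι l ≫ g ≫ c'.π k) ⊤ trivial (1 : Γ(X, ⊤)))
  rw [Functor.map_comp, Functor.map_comp]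
  rfl

end coords

section fibre

/-- lower semicontinuity of the rank of a matrix of functions -/
lemma rank_nbhd {m n : ℕ} (A : Matrix (Fin n) (Fin m) Γ(X, ⊤)) (x : X) {F₀ : Type u} [Field F₀]
    (φ₀ : X.presheaf.stalk x →+* F₀) [IsLocalHom φ₀] :
    ∃ U : X.Opens, x ∈ U ∧ ∀ y ∈ U, ∀ {F : Type u} [Field F] (φ : X.presheaf.stalk y →+* F) [IsLocalHom φ],
      (A.map (φ₀.comp (X.presheaf.germ ⊤ x trivial).hom)).rank ≤ (A.map (φ.comp (X.presheaf.germ ⊤ y trivial).hom)).rank := by
  obtain ⟨k, c, hdet⟩ := H7Rank.exists_minor _ (le_refl (A.map (φ₀.comp (X.presheaf.germ ⊤ x trivial).hom)).rank)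
  have hg : ∀ (y : X) (K : Type u) [Field K] (ψ : X.presheaf.stalk y →+* K),
      ((A.map (ψ.comp (X.presheaf.germ ⊤ y trivial).hom)).submatrix k c).det =
        ψ ((X.presheaf.germ ⊤ y trivial).hom (A.submatrix k c).det) := fun y K _ ψ => by
    rw [Matrix.submatrix_map]
    exact (RingHom.map_det (ψ.comp (X.presheaf.germ ⊤ y trivial).hom) _).symm
  rw [hg x F₀ φ₀] at hdet
  have hu : IsUnit ((X.presheaf.germ ⊤ x trivial).hom (A.submatrix k c).det) :=
    isUnit_of_map_unit φ₀ _ (isUnit_iff_ne_zero.2 hdet)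
  refine ⟨X.toRingedSpace.basicOpen (U := (⊤ : X.Opens)) (A.submatrix k c).det,
    (X.toRingedSpace.mem_basicOpen (U := (⊤ : X.Opens)) _ x trivial).2 hu,
    fun y hy F _ φ _ => H7Rank.le_rank_of_minor _ k c ?_⟩
  rw [hg y F φ]
  exact (((X.toRingedSpace.mem_basicOpen (U := (⊤ : X.Opens)) _ y trivial).1 hy).map φ).ne_zero

end fibre

section formula

lemma isField_stalk_specField (k : Type u) [Field k] (p : Spec (CommRingCat.of k)) :
    IsField ((Spec (CommRingCat.of k)).presheaf.stalk p) := by
  have hX : ∀ a b : Spec (CommRingCat.of k), a = b := fun a b =>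
    Subsingleton.elim (α := PrimeSpectrum k) a b
  have hb : Function.Bijective ((Spec (CommRingCat.of k)).presheaf.germ ⊤ p trivial).hom :=
    germ_top_bijective_ring hX p
  let e : k ≃+* (Spec (CommRingCat.of k)).presheaf.stalk p :=
    (Scheme.ΓSpecIso (CommRingCat.of k)).commRingCatIsoToRingEquiv.symm.trans (RingEquiv.ofBijective _ hb)
  exact e.toMulEquiv.symm.isField (Field.toIsField k)

variable {W : Scheme.{u}} (j : W ⟶ X) [IsOpenImmersion j]

/-- the fibre dimensions through a local model -/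
theorem betti_eq [∀ x : X, DCoh.HasLpull (X.fromSpecResidueField x)] {E : DCoh.D X}
    {K : CochainComplex X.Modules ℤ} (hK : SKF K) (eK : DerivedCategory.Q.obj K ≅ E)
    {P : CochainComplex W.Modules ℤ} (hP : SKF P) (w : W) (x : X) (hw : j.base w = x) :
    ∃ (F : Type u) (_ : Field F) (φ : W.presheaf.stalk w →+* F), IsLocalHom φ ∧
      ∀ (m : ℤ) (α : DerivedCategory.Q.obj P ⟶ DerivedCategory.Q.obj ((pullCx j).obj K)), MIso m α →
        ∀ i, m < i → PerfD.betti E x i = Module.finrank F
          ((((ModuleCat.extendScalars φ).mapHomologicalComplex (ComplexShape.up ℤ)).obj ((stCx w).obj P)).homology i) := by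
  let ix := X.fromSpecResidueField x
  have hr : Set.range ix.base ⊆ Set.range j.base := by
    rintro _ ⟨z, rfl⟩
    rw [show ix.base z = x from Scheme.fromSpecResidueField_apply x z]
    exact ⟨w, hw⟩
  let g := IsOpenImmersion.lift j ix hr
  have hg : g ≫ j = ix := IsOpenImmersion.lift_fac j ix hr
  let p : Spec (X.residueField x) := IsLocalRing.closedPoint (X.residueField x)
  have hgp : g.base p = w := by
    apply j.isOpenEmbedding.injective
    exact (congrArg (fun t : Spec (X.residueField x) ⟶ X => t.base p) hg).trans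
      ((Scheme.fromSpecResidueField_apply x p).trans hw.symm)
  obtain rfl := hgp
  have hF : IsField ((Spec (X.residueField x)).presheaf.stalk p) := isField_stalk_specField (X.residueField x) p
  letI := hF.toField
  refine ⟨_, hF.toField, (g.stalkMap p).hom, inferInstance, fun m α hα i hi => ?_⟩
  obtain ⟨β, hβ⟩ := exists_mIso_pullback g hP (H7StalkPull.skf_pullback j hK) hα
  have := hβ.1 i hi
  let eH : DCoh.HD ((DCoh.Lpull ix).obj E) i ≅ ((pullCx g).obj P).homology i :=
    (DerivedCategory.homologyFunctor _ i).mapIso ((DCoh.Lpull ix).mapIso eK.symm ≪≫ lpullIso ix hK ≪≫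
      (DerivedCategory.Q.mapIso (pullCxComp g j ix hg K)).symm) ≪≫
      (@asIso _ _ _ _ ((DerivedCategory.homologyFunctor _ i).map β) this).symm ≪≫
        (DerivedCategory.homologyFunctorFactors _ i).app _
  let St := DerSch.stalkFunctor (Spec (X.residueField x)) p
  let e : St.obj (DCoh.HD ((DCoh.Lpull ix).obj E) i) ≅
      (((ModuleCat.extendScalars (g.stalkMap p).hom).mapHomologicalComplex (ComplexShape.up ℤ)).obj
        ((stCx (g.base p)).obj P)).homology i :=
    St.mapIso eH ≪≫ ((((pullCx g).obj P).sc i).mapHomologyIso St).symm ≪≫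
      (HomologicalComplex.homologyFunctor _ _ i).mapIso (H7StalkPull.stCxPullIso g p P)
  unfold PerfD.betti
  rw [finrank_sections (fun a b => Subsingleton.elim (α := PrimeSpectrum (X.residueField x)) a b) _ p]
  exact e.toLinearEquiv.finrank_eq

/-- free models: shrinking to make finitely many terms free -/
theorem exists_free_shrink {K : CochainComplex X.Modules ℤ} (hK : SKF K) {P : CochainComplex W.Modules ℤ}
    (hP : DCoh.IsStrictlyPerfect P) (s : Finset ℤ) (w : W) :
    ∃ (W' : Scheme.{u}) (j' : W' ⟶ X) (_ : IsOpenImmersion j') (P' : CochainComplex W'.Modules ℤ),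
      DCoh.IsStrictlyPerfect P' ∧
      (∀ (m : ℤ) (α : DerivedCategory.Q.obj P ⟶ DerivedCategory.Q.obj ((pullCx j).obj K)), MIso m α →
        ∃ α' : DerivedCategory.Q.obj P' ⟶ DerivedCategory.Q.obj ((pullCx j').obj K), MIso m α') ∧
      (∀ k ∈ s, IsFree (P'.X k)) ∧
      (∀ k, IsZero (P.X k) → IsZero (P'.X k)) ∧ j.base w ∈ Set.range j'.base := by
  choose U hU hfree using fun k : s => (isFinLocFree_iff (P.X k)).1 (hP.2 k) w
  let V : W.Opens := ⟨⋂ k, (U k : Set W), isOpen_iInter_of_finite fun k => (U k).2⟩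
  have hV : w ∈ V := Set.mem_iInter.2 hU
  refine ⟨V, V.ι ≫ j, inferInstance, (pullCx V.ι).obj P, strictlyPerfect_pullback _ hP, fun m α hα => by
      obtain ⟨β, hβ⟩ := exists_mIso_pullback V.ι (skf_of_strictlyPerfect hP) (H7StalkPull.skf_pullback j hK) hα
      exact ⟨_, hβ.comp_iso (Iso.refl _) (DerivedCategory.Q.mapIso (pullCxComp V.ι j (V.ι ≫ j) rfl K))⟩,
    fun k hk => ?_,
    fun k hk => (Scheme.Modules.pullback V.ι).map_isZero hk, ⟨⟨w, hV⟩, rfl⟩⟩
  exact IsFree.mono (fun y hy => Set.mem_iInter.1 hy ⟨k, hk⟩) (hfree ⟨k, hk⟩)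

end formula

lemma isFree_of_isZero {M : X.Modules} (h : IsZero M) : IsFree M :=
  ⟨0, ⟨{ hom := 0, inv := 0, hom_inv_id := h.eq_of_src _ _, inv_hom_id := Limits.Sigma.hom_ext _ _ fun i => i.elim0 }⟩⟩

section model

variable {W : Scheme.{u}} {P : CochainComplex W.Modules ℤ} {n : ℤ → ℕ}

/-- the rank at a point of a differential -/
noncomputable def rk (c : ∀ k, Coords (P.X k) (n k)) (w : W) {F : Type u} [Field F]
    (φ : W.presheaf.stalk w →+* F) (p q : ℤ) : ℕ :=
  (((c p).matrix (c q) (P.d p q)).map (φ.comp (W.presheaf.germ ⊤ w trivial).hom)).rank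

lemma finrank_fibre_homology {i : ℤ} {a₀ a₁ a₂ : ℕ} (c₀ : Coords (P.X (i - 1)) a₀) (c₁ : Coords (P.X i) a₁)
    (c₂ : Coords (P.X (i + 1)) a₂) (w : W) {F : Type u} [Field F] (φ : W.presheaf.stalk w →+* F) :
    Module.finrank F ((((ModuleCat.extendScalars φ).mapHomologicalComplex (ComplexShape.up ℤ)).obj
        ((stCx w).obj P)).homology i) +
      ((c₀.matrix c₁ (P.d (i - 1) i)).map (φ.comp (W.presheaf.germ ⊤ w trivial).hom)).rank +
      ((c₁.matrix c₂ (P.d i (i + 1))).map (φ.comp (W.presheaf.germ ⊤ w trivial).hom)).rank = a₁ := by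
  have h := H7Rank.finrank_homology φ (C := (stCx w).obj P) i (c₀.basis w) (c₁.basis w) (c₂.basis w)
  have e₀ : LinearMap.toMatrix (c₀.basis w) (c₁.basis w) (((stCx w).obj P).d (i - 1) i).hom =
      (c₀.matrix c₁ (P.d (i - 1) i)).map (W.presheaf.germ ⊤ w trivial).hom := c₀.toMatrix_stalk c₁ w _
  have e₁ : LinearMap.toMatrix (c₁.basis w) (c₂.basis w) (((stCx w).obj P).d i (i + 1)).hom =
      (c₁.matrix c₂ (P.d i (i + 1))).map (W.presheaf.germ ⊤ w trivial).hom := c₁.toMatrix_stalk c₂ w _
  have r₀ : ((LinearMap.toMatrix (c₀.basis w) (c₁.basis w) (((stCx w).obj P).d (i - 1) i).hom).map φ).rank =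
      ((c₀.matrix c₁ (P.d (i - 1) i)).map (φ.comp (W.presheaf.germ ⊤ w trivial).hom)).rank :=
    (congrArg (fun A : Matrix (Fin a₁) (Fin a₀) (W.presheaf.stalk w) => (A.map φ).rank) e₀).trans
      (congrArg Matrix.rank Matrix.map_map)
  have r₁ : ((LinearMap.toMatrix (c₁.basis w) (c₂.basis w) (((stCx w).obj P).d i (i + 1)).hom).map φ).rank =
      ((c₁.matrix c₂ (P.d i (i + 1))).map (φ.comp (W.presheaf.germ ⊤ w trivial).hom)).rank :=
    (congrArg (fun A : Matrix (Fin a₂) (Fin a₁) (W.presheaf.stalk w) => (A.map φ).rank) e₁).trans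
      (congrArg Matrix.rank Matrix.map_map)
  exact (congrArg₂ (· + ·) (congrArg₂ (· + ·) rfl r₀) r₁).symm.trans h

end model

theorem isOpen_betti_lt [∀ x : X, DCoh.HasLpull (X.fromSpecResidueField x)] {E : DCoh.D X}
    (hE : ∀ m : ℤ, DCoh.IsPseudoCoherentD m E) (i : ℤ) (b : ℕ) : IsOpen {x : X | PerfD.betti E x i < b} := by
  rw [isOpen_iff_forall_mem_open]
  intro x hx
  obtain ⟨K, hK, -, ⟨eK⟩⟩ := exists_skf E
  obtain ⟨V, hxV, hV⟩ := hE (i - 1) x
  obtain ⟨P, α, hP, h1, h2⟩ := hV K ⟨eK⟩
  have hα := MIso.comp_iso (X := (V : Scheme.{u})) ⟨h1, h2⟩ (Iso.refl _)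
    (DerivedCategory.Q.mapIso (cxIso (Scheme.Modules.restrictFunctorIsoPullback V.ι) K))
  obtain ⟨W, j, _, P', hP', hpull, hfree, -, ⟨w₀, hw₀⟩⟩ :=
    exists_free_shrink V.ι hK hP {i - 1, i, i + 1} ⟨x, hxV⟩
  obtain ⟨α', hα'⟩ := hpull _ _ hα
  obtain ⟨a₀, ⟨f₀⟩⟩ := hfree (i - 1) (by simp)
  obtain ⟨a₁, ⟨f₁⟩⟩ := hfree i (by simp)
  obtain ⟨a₂, ⟨f₂⟩⟩ := hfree (i + 1) (by simp)
  let c₀ := coords f₀
  let c₁ := coords f₁
  let c₂ := coords f₂
  obtain ⟨F₀, _, φ₀, hφ₀, hb₀⟩ := betti_eq j hK eK (skf_of_strictlyPerfect hP') w₀ x hw₀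
  obtain ⟨U₁, hU₁, hr₁⟩ := rank_nbhd (c₀.matrix c₁ (P'.d (i - 1) i)) w₀ φ₀
  obtain ⟨U₂, hU₂, hr₂⟩ := rank_nbhd (c₁.matrix c₂ (P'.d i (i + 1))) w₀ φ₀
  refine ⟨j.base '' ↑(U₁ ⊓ U₂), ?_, j.isOpenEmbedding.isOpenMap _ (U₁ ⊓ U₂).2, ⟨w₀, ⟨hU₁, hU₂⟩, hw₀⟩⟩
  rintro _ ⟨y, ⟨hy₁, hy₂⟩, rfl⟩
  obtain ⟨F, _, φ, hφ, hb⟩ := betti_eq j hK eK (skf_of_strictlyPerfect hP') y _ rfl
  show PerfD.betti E (j.base y) i < b
  have hx' : PerfD.betti E x i < b := hx
  rw [hb (i - 1) α' hα' i (by omega)]
  rw [hb₀ (i - 1) α' hα' i (by omega)] at hx'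
  have e := finrank_fibre_homology c₀ c₁ c₂ y φ
  have e₀ := finrank_fibre_homology c₀ c₁ c₂ w₀ φ₀
  have := hr₁ y hy₁ φ
  have := hr₂ y hy₂ φ
  omega

theorem eulerChar_isLocallyConstant [∀ x : X, DCoh.HasLpull (X.fromSpecResidueField x)] {E : DCoh.D X}
    (hE : DCoh.IsPerfect E) : IsLocallyConstant fun x : X => PerfD.eulerChar E x := by
  rw [IsLocallyConstant.iff_exists_open]
  intro x
  obtain ⟨K, hK, -, ⟨eK⟩⟩ := exists_skf E
  obtain ⟨V, P, hxV, hP, ⟨eP⟩⟩ := exists_local_model hE eK x
  obtain ⟨a, b, hab⟩ := hP.1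
  obtain ⟨W, j, _, P', hP', hpull, hfree, hzero, ⟨w₀, hw₀⟩⟩ :=
    exists_free_shrink V.ι hK hP (Finset.Icc a b) ⟨x, hxV⟩
  have hz : ∀ k, k < a ∨ b < k → IsZero (P'.X k) := fun k hk => hzero k (hab k hk)
  have hall : ∀ k, IsFree (P'.X k) := fun k => by
    by_cases hk : k ∈ Finset.Icc a b
    · exact hfree k hk
    · exact isFree_of_isZero (hz k (by simp only [Finset.mem_Icc] at hk; omega))
  choose n f using hall
  let n' : ℤ → ℕ := fun k => if k ∈ Finset.Icc a b then n k else 0
  have e' : ∀ k, Nonempty (P'.X k ≅ FlatMod.freeMod W (n' k)) := fun k => by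
    by_cases hk : k ∈ Finset.Icc a b
    · rw [show n' k = n k from if_pos hk]; exact f k
    · rw [show n' k = 0 from if_neg hk]
      have h := hz k (by simp only [Finset.mem_Icc] at hk; omega)
      exact ⟨{ hom := 0, inv := 0, hom_inv_id := h.eq_of_src _ _, inv_hom_id := Limits.Sigma.hom_ext _ _ fun i => i.elim0 }⟩
  let c : ∀ k, Coords (P'.X k) (n' k) := fun k => coords (e' k).some
  have key : ∀ w : W, PerfD.eulerChar E (j.base w) = finsum fun i : ℤ => (i.negOnePow : ℤ) * (n' i : ℤ) := fun w => by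
    obtain ⟨F, _, φ, -, hb⟩ := betti_eq j hK eK (skf_of_strictlyPerfect hP') w _ rfl
    have hbetti : ∀ i, (PerfD.betti E (j.base w) i : ℤ) = n' i - rk c w φ (i - 1) i - rk c w φ i (i + 1) := fun i => by
      obtain ⟨α', hα'⟩ := hpull (i - 1) eP.inv ⟨fun k _ => inferInstance, inferInstance⟩
      rw [hb (i - 1) α' hα' i (by omega)]
      have := finrank_fibre_homology (c (i - 1)) (c i) (c (i + 1)) w φ
      simp only [rk]
      omega
    have hn : ∀ k, k < a ∨ b < k → n' k = 0 := fun k hk => if_neg (by simp only [Finset.mem_Icc]; omega)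
    have hrk : ∀ p q, (p < a ∨ b < p ∨ q < a ∨ b < q) → rk c w φ p q = 0 := fun p q h => by
      have h1 := Matrix.rank_le_card_width (((c p).matrix (c q) (P'.d p q)).map (φ.comp (W.presheaf.germ ⊤ w trivial).hom))
      have h2 := Matrix.rank_le_card_height (((c p).matrix (c q) (P'.d p q)).map (φ.comp (W.presheaf.germ ⊤ w trivial).hom))
      rw [Fintype.card_fin] at h1 h2
      rcases h with h | h | h | h
      · have := hn p (Or.inl h); simp only [rk]; omega
      · have := hn p (Or.inr h); simp only [rk]; omega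
      · have := hn q (Or.inl h); simp only [rk]; omega
      · have := hn q (Or.inr h); simp only [rk]; omega
    unfold PerfD.eulerChar
    let r : ℤ → ℤ := fun i => (i.negOnePow : ℤ) * (rk c w φ i (i + 1) : ℤ)
    have hr : (Function.support r).Finite := (Finset.Icc a b).finite_toSet.subset fun i hi => by
      by_contra h
      simp only [Finset.coe_Icc, Set.mem_Icc, not_and, not_le] at h
      exact hi (by simp only [r]; rw [hrk i (i + 1) (by omega)]; simp)
    have hnf : (Function.support fun i : ℤ => (i.negOnePow : ℤ) * (n' i : ℤ)).Finite :=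
      (Finset.Icc a b).finite_toSet.subset fun i hi => by
        by_contra h
        simp only [Finset.coe_Icc, Set.mem_Icc, not_and, not_le] at h
        exact hi (by simp [hn i (by omega)])
    have hshift : (finsum fun i => r (i - 1)) = finsum r := finsum_comp_equiv (Equiv.subRight (1 : ℤ))
    have hr' : (Function.support fun i => r (i - 1)).Finite :=
      hr.preimage (fun p _ q _ h => by simpa using h) |>.subset fun i hi => hi
    have e : (fun i : ℤ => (i.negOnePow : ℤ) * (PerfD.betti E (j.base w) i : ℤ)) =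
        fun i => ((i.negOnePow : ℤ) * (n' i : ℤ) + r (i - 1)) - r i := funext fun i => by
      rw [hbetti]
      simp only [r, sub_add_cancel]
      rw [show (i - 1).negOnePow = -i.negOnePow by rw [Int.negOnePow_sub, Int.negOnePow_one]; simp]
      push_cast
      ring
    rw [e, finsum_sub_distrib ((hnf.union hr').subset (Function.support_add _ _)) hr,
      finsum_add_distrib hnf hr', hshift, add_sub_cancel_right]
  exact ⟨Set.range j.base, j.isOpenEmbedding.isOpen_range, ⟨w₀, hw₀⟩, by
    rintro _ ⟨w, rfl⟩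
    exact (key w).trans ((key w₀).symm.trans (congrArg (fun y : X => PerfD.eulerChar E y) hw₀))⟩

end Groth.Agent.H7Betti
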