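import Groth.Agent.Lib.H7AssPts
import Groth.Agent.Lib.H7Betti
import Groth.Agent.Lib.H7StalkPull
import Groth.Prelude.Def_MeroSh
import Groth.Prelude.Def_CInt
import Groth.Prelude.Def_TorSh
import Mathlib

/-! Zero divisors on stalks and weakly associated points. -/

set_option autoImplicit false
set_option linter.all false
set_option backward.isDefEq.respectTransparency.types false

universe u

open CategoryTheory CategoryTheory.Limits AlgebraicGeometry TopologicalSpace Opposite

namespace Groth.Agent.H7AssPts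
open Groth.Agent H6.ZBasic H6.ZStalk

variable {X : Scheme.{u}}

/-- the stalk of the structure module is the local ring -/
noncomputable def strEquiv (x : X) :
    (Coh.structureModule X).presheaf.stalk x ≃ₗ[X.presheaf.stalk x] X.presheaf.stalk x :=
  Iso.toLinearEquiv
    { hom := H7Betti.evO x
      inv := H7Betti.toO x
      hom_inv_id := H7Betti.evO_toO x
      inv_hom_id := ModuleCat.hom_ext (LinearMap.ext_ring (by
        show (H7Betti.evO x).hom ((H7Betti.toO x).hom 1) = 1
        rw [show (H7Betti.toO x).hom 1 = (1 : X.presheaf.stalk x) • H7Betti.one x from rfl, one_smul]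
        exact H7Betti.evO_one x)) }

lemma assPrime_ring_iff (x : X) :
    IsAssociatedPrime (IsLocalRing.maximalIdeal (X.presheaf.stalk x)) (X.presheaf.stalk x) ↔
      Curv2.IsWeakAssPoint (Coh.structureModule X) x :=
  (strEquiv x).isAssociatedPrime_iff.symm.trans (assPoint_iff _ x)

lemma nzd_iff (x : X) (a : X.presheaf.stalk x) :
    a ∈ nonZeroDivisors (X.presheaf.stalk x) ↔ IsSMulRegular ((Coh.structureModule X).presheaf.stalk x) a := by
  rw [isSMulRegular_iff_right_eq_zero_of_smul, mem_nonZeroDivisors_iff_right]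
  constructor
  · intro h m hm
    refine (strEquiv x).injective (((h _ ?_)).trans (map_zero _).symm)
    rw [mul_comm, ← smul_eq_mul, ← map_smul, hm, map_zero]
  · intro h r hr
    have := h ((strEquiv x).symm r) (by rw [← map_smul, smul_eq_mul, mul_comm, hr, map_zero])
    simpa using congrArg (strEquiv x) this

/-- a regular element on the stalk at a weakly associated point is a unit -/
lemma isUnit_of_regular {F : X.Modules} {x : X} (hx : Curv2.IsWeakAssPoint F x) {a : X.presheaf.stalk x}
    (ha : IsSMulRegular (F.presheaf.stalk x) a) : IsUnit a := by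
  obtain ⟨ξ, hne, h⟩ := (weak_iff_stalk F x).1 hx
  by_contra hu
  obtain ⟨n, hn⟩ := h a ((IsLocalRing.mem_maximalIdeal a).2 hu)
  exact hne ((ha.pow n).right_eq_zero_of_smul hn)

section regular

variable {F : X.Modules} [F.IsQuasicoherent] {V : X.Opens} (hV : IsAffineOpen V)
include hV

/-- a function invertible at all weakly associated generisations is regular on the stalk -/
theorem regular_of_units {x : X} (hx : x ∈ V) {a : Γ(X, V)}
    (h : ∀ y ∈ V, y ⤳ x → Curv2.IsWeakAssPoint F y → y ∈ X.basicOpen a) :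
    IsSMulRegular (F.presheaf.stalk x) (gO hx a) := by
  rw [isSMulRegular_iff_right_eq_zero_of_smul]
  intro ξ hξ
  by_contra hne
  obtain ⟨u, s, hu, hus⟩ := exists_eq_smul (F := F) hV hx ξ
  have hs : gM F hx s ≠ 0 := fun h0 => hne ((isUnit_gO hx hu).smul_eq_zero.1 (hus.trans h0))
  obtain ⟨w, hw, h0⟩ := (gM_eq_zero_iff hV hx (a • s)).1 (by rw [gM_smul, ← hus, smul_comm, hξ, smul_zero])
  obtain ⟨y, hy, hyx, hwk, hne'⟩ := exists_weak_of_ne hV hx hs
  have h1 := annihilator_le hV hy hne' (show (w * a) • s = 0 by rw [mul_smul, h0])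
  rcases (hV.primeIdealOf ⟨y, hy⟩).isPrime.mem_or_mem h1 with h2 | h2
  · exact hw ((specializes_iff hV hy hx).1 hyx h2)
  · exact (mem_primeIdeal_iff hV hy).1 h2 (h y hy hyx hwk)

/-- a regular element on a stalk is invertible at the weakly associated generisations -/
theorem units_of_regular {x : X} (hx : x ∈ V) {a : Γ(X, V)} (ha : IsSMulRegular (F.presheaf.stalk x) (gO hx a))
    {y : X} (hy : y ∈ V) (hyx : y ⤳ x) (hw : Curv2.IsWeakAssPoint F y) : y ∈ X.basicOpen a := by
  by_contra hc
  obtain ⟨s, hs⟩ := (weak_iff hV hy).1 hw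
  obtain ⟨n, w, hw', h0⟩ := hs.2 a ((mem_primeIdeal_iff hV hy).2 hc)
  have h2 : gM F hx (w • s) ≠ 0 := fun h => by
    obtain ⟨v, hv, hv0⟩ := (gM_eq_zero_iff hV hx _).1 h
    refine gM_ne_of_minAnn hV hy hs ((gM_eq_zero_iff hV hy s).2 ⟨v * w, ?_, by rw [mul_smul, hv0]⟩)
    exact (hV.primeIdealOf ⟨y, hy⟩).isPrime.mul_notMem (fun h' => hv ((specializes_iff hV hy hx).1 hyx h')) hw'
  refine h2 ((ha.pow n).right_eq_zero_of_smul ?_)
  rw [← map_pow, ← gM_smul, ← mul_smul, mul_comm, h0, map_zero]

end regular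

/-- regular sections are those invertible at every weakly associated point -/
theorem mem_regSub_iff [(Coh.structureModule X).IsQuasicoherent] (U : X.Opens) (s : Γ(X, U)) :
    s ∈ Mero.regSub X U ↔
      ∀ y : X, ∀ hy : y ∈ U, Curv2.IsWeakAssPoint (Coh.structureModule X) y → IsUnit (X.presheaf.germ U y hy s) := by
  constructor
  · intro h y hy hw
    exact isUnit_of_regular hw ((nzd_iff y _).1 (h ⟨y, hy⟩))
  · rintro h ⟨x, hx⟩
    obtain ⟨V, hV, hxV, hVU⟩ := exists_isAffineOpen_mem_and_subset (X := X) (x := x) (U := U) hx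
    rw [← TopCat.Presheaf.germ_res_apply X.presheaf (homOfLE hVU) x hxV s]
    refine (nzd_iff x _).2 (regular_of_units hV hxV fun y hy _ hw => ?_)
    rw [X.mem_basicOpen _ y hy, TopCat.Presheaf.germ_res_apply]
    exact h y (hVU hy) hw

theorem weak_structure_of_generic [(Coh.structureModule X).IsQuasicoherent] {x : X} (h : ∀ y : X, y ⤳ x → y = x) :
    Curv2.IsWeakAssPoint (Coh.structureModule X) x :=
  weak_of_maximal (fun hs => by
    haveI : Subsingleton ((Coh.structureModule X).presheaf.stalk x) := hs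
    exact (one_ne_zero : (1 : X.presheaf.stalk x) ≠ 0)
      ((strEquiv x).symm.injective (Subsingleton.elim _ _))) fun y _ => h y

theorem pullback_regSub {Y : Scheme.{u}} [(Coh.structureModule X).IsQuasicoherent]
    [(Coh.structureModule Y).IsQuasicoherent] (f : X ⟶ Y)
    (h : ∀ x : X, Curv2.IsWeakAssPoint (Coh.structureModule X) x → Curv2.IsWeakAssPoint (Coh.structureModule Y) (f x))
    (U : Y.Opens) (s : Γ(Y, U)) (hs : s ∈ Mero.regSub Y U) : f.app U s ∈ Mero.regSub X (f ⁻¹ᵁ U) := by
  refine (mem_regSub_iff _ _).2 fun x hx hw => ?_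
  rw [← Scheme.Hom.germ_stalkMap_apply]
  exact ((mem_regSub_iff U s).1 hs (f x) hx (h x hw)).map (f.stalkMap x).hom

/-- restriction is injective when the weakly associated points of the bigger open lie in the smaller one -/
theorem restrict_injective' {F : X.Modules} [F.IsQuasicoherent] {U W : X.Opens} (hUW : U ≤ W)
    (hU : ∀ x : X, x ∈ W → Curv2.IsWeakAssPoint F x → x ∈ U) :
    Function.Injective (F.presheaf.map (homOfLE hUW).op) := by
  intro s t hst
  refine TopCat.Presheaf.section_ext (C := Ab.{u}) ((LQcoh.toShf X).obj F) W s t fun x hxW => ?_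
  by_contra hne
  obtain ⟨V, hV, hxV, hVW⟩ := exists_isAffineOpen_mem_and_subset (X := X) (x := x) (U := W) hxW
  have hd : gM F hxV (res F hVW (s - t)) ≠ 0 := by
    rw [gM_res, map_sub]
    exact sub_ne_zero.2 hne
  obtain ⟨y, hy, -, hw, hne'⟩ := exists_weak_of_ne hV hxV hd
  refine hne' ?_
  rw [gM_res, ← gM_res F hUW (hU y (hVW hy) hw)]
  have : res F hUW (s - t) = 0 := by
    rw [map_sub]
    exact sub_eq_zero.2 hst
  rw [this, map_zero]

theorem schDense_iff [IsLocallyNoetherian X] [(Coh.structureModule X).IsQuasicoherent] (U : X.Opens) :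
    CInt.IsSchematicallyDense U ↔ ∀ x : X, Curv2.IsWeakAssPoint (Coh.structureModule X) x → x ∈ U := by
  constructor
  · intro h x hx
    by_contra hxU
    obtain ⟨V, hV, hxV, -⟩ := exists_isAffineOpen_mem_and_subset (X := X) (x := x) (U := ⊤) trivial
    haveI : IsNoetherianRing Γ(X, V) := IsLocallyNoetherian.component_noetherian ⟨V, hV⟩
    obtain ⟨s, hs⟩ := (weak_iff hV hxV).1 hx
    have hp := (hV.primeIdealOf ⟨x, hxV⟩).isPrime
    have hass : (hV.primeIdealOf ⟨x, hxV⟩).asIdeal ∈ associatedPrimes Γ(X, V) Γ(Coh.structureModule X, V) :=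
      associatedPrimes.subset_of_injective (Submodule.span _ {s}).injective_subtype
        (Module.associatedPrimes.minimalPrimes_annihilator_subset_associatedPrimes _ (Submodule.span _ {s})
          ((minAnn_iff hp s).1 hs))
    obtain ⟨-, t, ht⟩ := (isAssociatedPrime_iff).1 hass
    have ht' : ∀ a, a • t = 0 ↔ a ∈ (hV.primeIdealOf ⟨x, hxV⟩).asIdeal := fun a => by
      rw [ht, H6.AssPts.smul_eq_zero_iff_mem]
    have ht0 : t = 0 := by
      refine h V (TopCat.Presheaf.section_ext (C := Ab.{u}) ((LQcoh.toShf X).obj (Coh.structureModule X)) (V ⊓ U)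
        (res (Coh.structureModule X) inf_le_left t) (res (Coh.structureModule X) inf_le_left 0) fun y hy => ?_)
      show gM _ hy (res _ inf_le_left t) = gM _ hy (res _ inf_le_left 0)
      rw [gM_res, gM_res, map_zero]
      have hny : ¬ (hV.primeIdealOf ⟨x, hxV⟩).asIdeal ≤ (hV.primeIdealOf ⟨y, hy.1⟩).asIdeal := fun hle =>
        hxU (((specializes_iff hV hxV hy.1).2 hle).mem_open U.2 hy.2)
      obtain ⟨a, hap, haq⟩ := SetLike.not_le_iff_exists.1 hny
      exact (gM_eq_zero_iff hV hy.1 t).2 ⟨a, haq, (ht' a).2 hap⟩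
    exact hp.one_notMem ((ht' 1).1 (by rw [ht0, smul_zero]))
  · intro h W
    exact restrict_injective' (F := Coh.structureModule X) inf_le_left fun x hxW hx => ⟨hxW, h x hx⟩

theorem finite_weak_structure [IsLocallyNoetherian X] [(Coh.structureModule X).IsQuasicoherent]
    {V : X.Opens} (hV : IsAffineOpen V) :
    {x : X | x ∈ V ∧ Curv2.IsWeakAssPoint (Coh.structureModule X) x}.Finite := by
  haveI : IsNoetherianRing Γ(X, V) := IsLocallyNoetherian.component_noetherian ⟨V, hV⟩
  haveI : Module.Finite Γ(X, V) Γ(Coh.structureModule X, V) := Module.Finite.self Γ(X, V)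
  refine Set.Finite.of_finite_image (f := fun x : X => open scoped Classical in
    if hx : x ∈ V then (hV.primeIdealOf ⟨x, hx⟩).asIdeal else ⊤)
    ((associatedPrimes.finite Γ(X, V) Γ(Coh.structureModule X, V)).subset ?_) ?_
  · rintro _ ⟨x, ⟨hx, hw⟩, rfl⟩
    obtain ⟨s, hs⟩ := (weak_iff hV hx).1 hw
    simp only [dif_pos hx]
    exact associatedPrimes.subset_of_injective (Submodule.span _ {s}).injective_subtype
      (Module.associatedPrimes.minimalPrimes_annihilator_subset_associatedPrimes _ (Submodule.span _ {s})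
        ((minAnn_iff (hV.primeIdealOf ⟨x, hx⟩).isPrime s).1 hs))
  · intro x hx y hy hxy
    simp only [dif_pos hx.1, dif_pos hy.1] at hxy
    exact H6.AssPts.point_eq hV hx.1 hy.1 hxy

theorem regStalk_eq [IsLocallyNoetherian X] [(Coh.structureModule X).IsQuasicoherent] (x : X) :
    Mero.regStalk X x = nonZeroDivisors (X.presheaf.stalk x) := by
  refine le_antisymm (Mero.regStalk_le_nonZeroDivisors x) fun g hg => ?_
  obtain ⟨U, hxU, t, rfl⟩ := X.presheaf.exists_germ_eq (x := x) g
  obtain ⟨V, hV, hxV, hVU⟩ := exists_isAffineOpen_mem_and_subset (X := X) (x := x) (U := U) hxU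
  let a : Γ(X, V) := X.presheaf.map (homOfLE hVU).op t
  have ha : X.presheaf.germ V x hxV a = X.presheaf.germ U x hxU t := TopCat.Presheaf.germ_res_apply X.presheaf _ x hxV t
  let B := {y : X | y ∈ V ∧ Curv2.IsWeakAssPoint (Coh.structureModule X) y ∧ y ∉ X.basicOpen a}
  have hB : B.Finite := (finite_weak_structure hV).subset fun y hy => ⟨hy.1, hy.2.1⟩
  let C : Set X := ⋃ y ∈ B, closure {y}
  have hC : IsClosed C := hB.isClosed_biUnion fun y _ => isClosed_closure
  let W : X.Opens := V ⊓ ⟨Cᶜ, hC.isOpen_compl⟩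
  have hxW : x ∈ W := ⟨hxV, fun hxC => by
    obtain ⟨y, hy, hyx⟩ := Set.mem_iUnion₂.1 hxC
    exact hy.2.2 (units_of_regular hV hxV ((nzd_iff x _).1 (ha.symm ▸ hg)) hy.1
      (specializes_iff_mem_closure.2 hyx) hy.2.1)⟩
  refine ⟨W, hxW, X.presheaf.map (homOfLE (inf_le_left : W ≤ V)).op a, (mem_regSub_iff W _).2 fun y hy hw => ?_, ?_⟩
  · rw [TopCat.Presheaf.germ_res_apply, ← X.mem_basicOpen a y hy.1]
    by_contra hc
    exact hy.2 (Set.mem_iUnion₂.2 ⟨y, ⟨hy.1, hw, hc⟩, subset_closure rfl⟩)
  · rw [TopCat.Presheaf.germ_res_apply]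
    exact ha

theorem torsionFree_push {Y : Scheme.{u}} [IsIntegral X] [IsIntegral Y] (f : X ⟶ Y) [IsDominant f]
    (F : X.Modules) (hF : TorSh.IsTorsionFree F) : TorSh.IsTorsionFree ((Scheme.Modules.pushforward f).obj F) := by
  intro y
  refine ⟨fun r hr => ?_⟩
  change IsSMulRegular (((Scheme.Modules.pushforward f).obj F).presheaf.stalk y) r
  rw [isSMulRegular_iff_right_eq_zero_of_smul]
  intro ξ hξ
  obtain ⟨U, hyU, a, rfl⟩ := Y.presheaf.exists_germ_eq (x := y) r
  obtain ⟨V, hyV, s, rfl⟩ := ((Scheme.Modules.pushforward f).obj F).presheaf.exists_germ_eq (x := y) ξ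
  let W : Y.Opens := U ⊓ V
  have hyW : y ∈ W := ⟨hyU, hyV⟩
  let a' : Γ(Y, W) := Y.presheaf.map (homOfLE (inf_le_left : W ≤ U)).op a
  let s' : Γ((Scheme.Modules.pushforward f).obj F, W) :=
    ((Scheme.Modules.pushforward f).obj F).presheaf.map (homOfLE (inf_le_right : W ≤ V)).op s
  rw [← TopCat.Presheaf.germ_res_apply Y.presheaf (homOfLE (inf_le_left : W ≤ U)) y hyW a,
    ← TopCat.Presheaf.germ_res_apply ((Scheme.Modules.pushforward f).obj F).presheaf (homOfLE (inf_le_right : W ≤ V)) y hyW s] at hξ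
  rw [← TopCat.Presheaf.germ_res_apply ((Scheme.Modules.pushforward f).obj F).presheaf (homOfLE (inf_le_right : W ≤ V)) y hyW s]
  have hξ' : ((Scheme.Modules.pushforward f).obj F).presheaf.germ W y hyW (a' • s') =
      ((Scheme.Modules.pushforward f).obj F).presheaf.germ W y hyW 0 :=
    (H7Stalk.germ_smul' y W hyW a' s').trans (hξ.trans (map_zero _).symm)
  obtain ⟨W', hW', i, j, e⟩ := ((Scheme.Modules.pushforward f).obj F).presheaf.germ_eq y hyW hyW _ _ hξ'
  have ha' : Y.presheaf.germ W y hyW a' ≠ 0 := by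
    rw [TopCat.Presheaf.germ_res_apply]
    exact hr.ne_zero
  have hzero : ∀ (x : X) (hx : x ∈ f ⁻¹ᵁ W'), gM F hx
      (res F (f.preimage_mono i.le) (show Γ(F, f ⁻¹ᵁ W) from s')) = 0 := by
    intro x hx
    rw [gM_res]
    haveI := hF x
    have hne : X.presheaf.germ (f ⁻¹ᵁ W) x (i.le hx) (f.app W a') ≠ 0 := by
      intro h0
      obtain ⟨O, hxO, k, l, e'⟩ := X.presheaf.germ_eq (U := f ⁻¹ᵁ W) (V := f ⁻¹ᵁ W) x (i.le hx) (i.le hx) _ 0 (h0.trans (map_zero _).symm)
      have hgen : genericPoint X ∈ O := ((genericPoint_spec X).specializes trivial).mem_open O.2 hxO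
      have h1 : X.presheaf.germ (f ⁻¹ᵁ W) (genericPoint X) (k.le hgen) (f.app W a') = 0 := by
        have e2 := congrArg (X.presheaf.germ O (genericPoint X) hgen) e'
        rwa [TopCat.Presheaf.germ_res_apply, TopCat.Presheaf.germ_res_apply, map_zero] at e2
      rw [← Scheme.Hom.germ_stalkMap_apply] at h1
      have hgY : f (genericPoint X) = genericPoint Y :=
        (IsGenericPoint.image (genericPoint_spec X) f.continuous).eq (by
          rw [Set.image_univ, f.denseRange.closure_range]; exact genericPoint_spec Y)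
      have h2 : Y.presheaf.germ W (f (genericPoint X)) (k.le hgen) a' = 0 := by
        by_contra hne'
        obtain ⟨w, hw⟩ : IsUnit (Y.presheaf.germ W (f (genericPoint X)) (k.le hgen) a') := by
          revert hne'
          generalize Y.presheaf.germ W (f (genericPoint X)) (k.le hgen) a' = z
          revert z
          rw [hgY]
          intro z hz
          exact Ne.isUnit (G₀ := Y.functionField) hz
        have := (w.isUnit.map (f.stalkMap (genericPoint X)).hom)
        rw [hw, h1] at this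
        exact not_isUnit_zero this
      obtain ⟨O', hO', k', l', e''⟩ := Y.presheaf.germ_eq (U := W) (V := W) _ (k.le hgen) (k.le hgen) _ 0 (h2.trans (map_zero _).symm)
      refine ha' ?_
      haveI : Nonempty W := ⟨⟨y, hyW⟩⟩
      haveI : Nonempty O' := ⟨⟨_, hO'⟩⟩
      have : a' = 0 := Scheme.germToFunctionField_injective Y W (by
        show Y.presheaf.germ W _ _ a' = Y.presheaf.germ W _ _ 0
        rw [← TopCat.Presheaf.germ_res_apply Y.presheaf k' (genericPoint Y)
          (((genericPoint_spec Y).specializes trivial).mem_open O'.2 hO'), e'', TopCat.Presheaf.germ_res_apply])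
      rw [this, map_zero]
    refine ((isRegular_of_ne_zero hne).isSMulRegular (M := F.presheaf.stalk x)).right_eq_zero_of_smul ?_
    refine (gM_smul F (i.le hx) (f.app W a') (show Γ(F, f ⁻¹ᵁ W) from s')).symm.trans ?_
    have h3 : res F (f.preimage_mono i.le) (show Γ(F, f ⁻¹ᵁ W) from (a' • s' :)) = 0 :=
      e.trans (map_zero (((Scheme.Modules.pushforward f).obj F).presheaf.map j.op).hom)
    refine (gM_res F (f.preimage_mono i.le) hx _).symm.trans ?_
    exact (congrArg (gM F hx) h3).trans (map_zero _)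
  rw [← TopCat.Presheaf.germ_res_apply ((Scheme.Modules.pushforward f).obj F).presheaf i y hW']
  refine (congrArg (((Scheme.Modules.pushforward f).obj F).presheaf.germ W' y hW') ?_).trans (map_zero _)
  exact TopCat.Presheaf.section_ext (C := Ab.{u}) ((LQcoh.toShf X).obj F) (f ⁻¹ᵁ W') _ 0 fun x hx =>
    (hzero x hx).trans (map_zero _).symm

theorem weak_pullback {S : Scheme.{u}} (f : X ⟶ S) (G : S.Modules) (x : X) (hfl : (f.stalkMap x).hom.Flat)
    (hgen : ∀ y : X, f y = f x → y ⤳ x → y = x)
    (hs : Curv2.IsWeakAssPoint G (f x)) : Curv2.IsWeakAssPoint ((Scheme.Modules.pullback f).obj G) x := by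
  obtain ⟨ξ, hne, h⟩ := (weak_iff_stalk G (f x)).1 hs
  let φ := (f.stalkMap x).hom
  haveI : IsLocalHom φ := inferInstanceAs (IsLocalHom (f.stalkMap x).hom)
  letI := φ.toAlgebra
  haveI : Module.Flat (S.presheaf.stalk (f x)) (X.presheaf.stalk x) := hfl
  haveI : IsLocalHom (algebraMap (S.presheaf.stalk (f x)) (X.presheaf.stalk x)) := inferInstanceAs (IsLocalHom φ)
  haveI : Module.FaithfullyFlat (S.presheaf.stalk (f x)) (X.presheaf.stalk x) := Module.FaithfullyFlat.of_flat_of_isLocalHom
  let e := ((H7StalkPull.pullStalkIso f x).app G).toLinearEquiv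
  let M := (DerSch.stalkFunctor S (f x)).obj G
  let z : (ModuleCat.extendScalars.{u, u, u} φ).obj M := H7StalkPull.emk φ 1 (show M from ξ)
  have hz : z ≠ 0 := fun h0 => hne (Module.FaithfullyFlat.tensorProduct_mk_injective (A := S.presheaf.stalk (f x))
    (B := X.presheaf.stalk x) M (show TensorProduct.mk (S.presheaf.stalk (f x)) (X.presheaf.stalk x) M 1 ξ =
      TensorProduct.mk (S.presheaf.stalk (f x)) (X.presheaf.stalk x) M 1 0 from h0.trans (TensorProduct.tmul_zero _ _).symm))
  let J : Ideal (X.presheaf.stalk x) := (IsLocalRing.maximalIdeal (S.presheaf.stalk (f x))).map φ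
  have hJ : IsLocalRing.maximalIdeal (X.presheaf.stalk x) ≤ J.radical := by
    rw [Ideal.radical_eq_sInf]
    refine le_sInf ?_
    rintro Q ⟨hJQ, hQ⟩
    let pt : Spec (X.presheaf.stalk x) := ⟨Q, hQ⟩
    have hle := IsLocalRing.le_maximalIdeal hQ.ne_top
    have hy := X.range_fromSpecStalk (x := x)
    have h1 : X.fromSpecStalk x pt ⤳ x := by
      have : X.fromSpecStalk x pt ∈ Set.range (X.fromSpecStalk x) := ⟨pt, rfl⟩
      rw [hy] at this
      exact this
    have hcom : Q.comap φ = IsLocalRing.maximalIdeal (S.presheaf.stalk (f x)) := by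
      refine ((IsLocalRing.maximalIdeal.isMaximal _).eq_of_le (Ideal.IsPrime.comap φ).ne_top
        (Ideal.map_le_iff_le_comap.1 hJQ)).symm
    have h2 : f (X.fromSpecStalk x pt) = f x := by
      show (X.fromSpecStalk x ≫ f) pt = f x
      rw [← Scheme.SpecMap_stalkMap_fromSpecStalk f]
      show S.fromSpecStalk (f x) ((Spec.map (f.stalkMap x)) pt) = f x
      rw [show (Spec.map (f.stalkMap x)) pt = IsLocalRing.closedPoint (S.presheaf.stalk (f x)) from PrimeSpectrum.ext hcom]
      exact S.fromSpecStalk_closedPoint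
    have h3 : pt = IsLocalRing.closedPoint (X.presheaf.stalk x) :=
      (inferInstance : IsPreimmersion (X.fromSpecStalk x)).base_embedding.injective
        ((hgen _ h2 h1).trans X.fromSpecStalk_closedPoint.symm)
    exact (congrArg PrimeSpectrum.asIdeal h3).ge
  let N : Ideal (X.presheaf.stalk x) := LinearMap.ker (LinearMap.toSpanSingleton _ _ z)
  have hN : J ≤ N.radical := by
    refine Ideal.map_le_iff_le_comap.2 fun c hc => ?_
    obtain ⟨n, hn⟩ := h c hc
    refine ⟨n, LinearMap.mem_ker.2 ?_⟩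
    show φ c ^ n • z = 0
    rw [← map_pow]
    show φ (c ^ n) • ((1 : X.presheaf.stalk x) ⊗ₜ[S.presheaf.stalk (f x)] (show M from ξ)) = 0
    have hn' : (c ^ n) • (show M from ξ) = 0 := hn
    calc φ (c ^ n) • ((1 : X.presheaf.stalk x) ⊗ₜ[S.presheaf.stalk (f x)] (show M from ξ))
        = (φ (c ^ n) * 1) ⊗ₜ[S.presheaf.stalk (f x)] (show M from ξ) := TensorProduct.smul_tmul' _ _ _
      _ = ((c ^ n) • (1 : X.presheaf.stalk x)) ⊗ₜ[S.presheaf.stalk (f x)] (show M from ξ) := by
          congr 1
      _ = (1 : X.presheaf.stalk x) ⊗ₜ[S.presheaf.stalk (f x)] ((c ^ n) • (show M from ξ)) := TensorProduct.smul_tmul _ _ _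
      _ = 0 := (congrArg (fun m => (1 : X.presheaf.stalk x) ⊗ₜ[S.presheaf.stalk (f x)] m) hn').trans (TensorProduct.tmul_zero _ _)
  refine (weak_iff_stalk _ x).2 ⟨e.symm z, fun h0 => hz (e.symm.injective (h0.trans (map_zero e.symm).symm)), fun r hr => ?_⟩
  obtain ⟨n, hn⟩ := (hJ.trans ((Ideal.radical_mono hN).trans (Ideal.radical_idem N).le)) hr
  exact ⟨n, (map_smul e.symm _ z).symm.trans ((congrArg e.symm (LinearMap.mem_ker.1 hn)).trans (map_zero _))⟩

end Groth.Agent.H7AssPts
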