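import Groth.Agent.Lib.H7AssPts2
import Groth.Agent.Lib.LQFin
import Groth.Agent.Lib.H7Cartier
import Groth.Prelude.Def_MeroDiv
import Mathlib

/-! Tilde, finiteness, Cartier pullback, torsion free modules via weakly associated points. -/

set_option autoImplicit false
set_option linter.all false
set_option backward.isDefEq.respectTransparency.types false

universe u

open CategoryTheory CategoryTheory.Limits AlgebraicGeometry TopologicalSpace Opposite

namespace Groth.Agent.H7AssPts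
open Groth.Agent H6.ZBasic H6.ZStalk

theorem tilde_weak_iff (A : CommRingCat.{u}) (M : ModuleCat.{u} A) (p : Spec A) :
    p.asIdeal ∈ FlatCA.weakAss A M ↔ Curv2.IsWeakAssPoint (tilde M) p := by
  haveI : (tilde M).IsQuasicoherent := inferInstance
  let g : A →+* Γ(Spec A, ⊤) := (Scheme.ΓSpecIso A).inv.hom
  have hgs : Function.Surjective g := (ConcreteCategory.bijective_of_isIso (Scheme.ΓSpecIso A).inv).2
  set P := ((isAffineOpen_top (Spec A)).primeIdealOf ⟨p, trivial⟩).asIdeal with hP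
  have hg : ∀ r : A, g r ∈ P ↔ r ∈ p.asIdeal := fun r => by
    rw [hP, mem_primeIdeal_iff (isAffineOpen_top (Spec A)) (by trivial), basicOpen_eq_of_affine',
      show (Scheme.ΓSpecIso A).hom (g r) = r from (Scheme.ΓSpecIso A).inv_hom_id_apply r]
    exact not_not
  let σ : M →ₗ[A] (modulesSpecToSheaf.obj (tilde M)).presheaf.obj (.op ⊤) := (tilde.toOpen M ⊤).hom
  have hσ : Function.Bijective σ := ConcreteCategory.bijective_of_isIso (tilde.toOpen M ⊤)
  have hsm : ∀ (r : A) (m : M), (g r • (show Γ(tilde M, ⊤) from σ m)) = (show Γ(tilde M, ⊤) from σ (r • m)) :=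
    fun r m => by
      rw [map_smul σ r m]
      rfl
  rw [weak_iff (isAffineOpen_top (Spec A)) (show p ∈ (⊤ : (Spec A).Opens) from trivial)]
  have hz : ∀ (r : A) (m : M), (g r • (show Γ(tilde M, ⊤) from σ m)) = 0 ↔ r • m = 0 := fun r m => by
    rw [hsm]
    exact ⟨fun h => hσ.1 (h.trans (map_zero σ).symm), fun h => (congrArg σ h).trans (map_zero σ)⟩
  constructor
  · rintro ⟨m, hm⟩
    have hm' := (minAnn_iff p.isPrime m).2 hm
    refine ⟨σ m, fun u hu => ?_, fun a ha => ?_⟩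
    · obtain ⟨r, rfl⟩ := hgs u
      exact (hg r).2 (hm'.1 r ((hz r m).1 hu))
    · obtain ⟨r, rfl⟩ := hgs a
      obtain ⟨n, w, hw, h0⟩ := hm'.2 r ((hg r).1 ha)
      refine ⟨n, g w, fun h => hw ((hg w).1 h), ?_⟩
      rw [← map_pow, ← map_mul]
      exact (hz _ m).2 h0
  · rintro ⟨s, hs⟩
    obtain ⟨m, rfl⟩ := hσ.2 s
    refine ⟨m, (minAnn_iff p.isPrime m).1 ⟨fun r hr => (hg r).1 (hs.1 _ ((hz r m).2 hr)), fun r hr => ?_⟩⟩
    obtain ⟨n, w, hw, h0⟩ := hs.2 (g r) ((hg r).2 hr)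
    obtain ⟨w', rfl⟩ := hgs w
    refine ⟨n, w', fun h => hw ((hg w').2 h), (hz _ m).1 ?_⟩
    rw [map_mul, map_pow]
    exact h0

theorem tilde_ass_iff (A : CommRingCat.{u}) (M : ModuleCat.{u} A) (p : Spec A) :
    p.asIdeal ∈ associatedPrimes A M → Curv2.IsAssPoint (tilde M) p := by
  rintro ⟨hp, m, hm⟩
  refine (assPoint_iff _ _).2 ((tilde_weak_iff A M p).1 ⟨m, ?_⟩)
  have e : (⊥ : Submodule A M).colon {m} = (Submodule.span A {m}).annihilator := by
    ext r
    rw [H6.AssPts.smul_eq_zero_iff_mem, mem_ann]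
  rw [← Ideal.radical_minimalPrimes, ← e, ← hm, Ideal.minimalPrimes_eq_subsingleton_self]
  rfl

theorem tilde_ass_conv (A : CommRingCat.{u}) (M : ModuleCat.{u} A) (p : Spec A) (hfg : p.asIdeal.FG)
    (h : Curv2.IsAssPoint (tilde M) p) : p.asIdeal ∈ associatedPrimes A M := by
  classical
  obtain ⟨m, hm⟩ := (tilde_weak_iff A M p).2 ((assPoint_iff _ _).1 h)
  have hm' := (minAnn_iff p.isPrime m).2 hm
  obtain ⟨T, hT⟩ := hfg
  have hW : ∀ T' : Finset A, (∀ a ∈ T', a ∈ p.asIdeal) →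
      ∃ w ∉ p.asIdeal, ∀ a ∈ T', a ∈ ((Submodule.span A {w • m}).annihilator).radical := by
    intro T'
    induction T' using Finset.induction_on with
    | empty => exact fun _ => ⟨1, p.isPrime.one_notMem, by simp⟩
    | insert a T' _ ih =>
      intro hmem
      obtain ⟨w, hw, hw'⟩ := ih fun b hb => hmem b (Finset.mem_insert_of_mem hb)
      obtain ⟨n, v, hv, hv'⟩ := hm'.2 a (hmem a (Finset.mem_insert_self _ _))
      refine ⟨v * w, p.isPrime.mul_notMem hv hw, fun b hb => ?_⟩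
      rcases Finset.mem_insert.1 hb with rfl | hb
      · refine ⟨n, (mem_ann _ _).2 ?_⟩
        rw [← mul_smul, show b ^ n * (v * w) = w * (v * b ^ n) by ring, mul_smul, hv', smul_zero]
      · obtain ⟨k, hk⟩ := hw' b hb
        refine ⟨k, (mem_ann _ _).2 ?_⟩
        rw [mem_ann] at hk
        rw [mul_smul, smul_comm, hk, smul_zero]
  obtain ⟨w, hw, hwT⟩ := hW T fun a ha => hT ▸ Submodule.subset_span ha
  refine ⟨p.isPrime, w • m, le_antisymm ?_ ?_⟩
  · rw [← hT, Submodule.span_le]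
    intro a ha
    obtain ⟨k, hk⟩ := hwT a ha
    exact ⟨k, (H6.AssPts.smul_eq_zero_iff_mem _ _).2 ((mem_ann _ _).1 hk)⟩
  · intro a ⟨k, hk⟩
    rw [H6.AssPts.smul_eq_zero_iff_mem, ← mul_smul] at hk
    exact p.isPrime.mem_of_pow_mem k ((p.isPrime.mem_or_mem (hm'.1 _ hk)).resolve_right hw)

variable {X : Scheme.{u}}

theorem finite_weak [IsLocallyNoetherian X] (F : X.Modules) (hF : Coh.IsCoh F) {U : X.Opens} (hU : IsCompact (U : Set X)) :
    {x : X | x ∈ U ∧ Curv2.IsWeakAssPoint F x}.Finite := by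
  classical
  haveI : F.IsQuasicoherent := hF.1
  haveI : SheafOfModules.IsFiniteType (R := X.ringCatSheaf) F := hF.2
  obtain ⟨ι, hι, A, hA, hsup⟩ := LQcoh.exists_affine_cover U hU
  haveI := Fintype.ofFinite ι
  refine ((Set.finite_iUnion (fun i => ?_)) : (⋃ i, {x : X | x ∈ A i ∧ Curv2.IsWeakAssPoint F x}).Finite).subset ?_
  · have hV := hA i
    haveI : IsNoetherianRing Γ(X, A i) := IsLocallyNoetherian.component_noetherian ⟨A i, hV⟩
    haveI : Module.Finite Γ(X, A i) Γ(F, A i) := LQcoh.finite_sections F hV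
    refine Set.Finite.of_finite_image (f := fun x : X =>
      if hx : x ∈ A i then (hV.primeIdealOf ⟨x, hx⟩).asIdeal else ⊤)
      ((associatedPrimes.finite Γ(X, A i) Γ(F, A i)).subset ?_) ?_
    · rintro _ ⟨x, ⟨hx, hw⟩, rfl⟩
      obtain ⟨s, hs⟩ := (weak_iff hV hx).1 hw
      simp only [dif_pos hx]
      exact associatedPrimes.subset_of_injective (Submodule.span _ {s}).injective_subtype
        (Module.associatedPrimes.minimalPrimes_annihilator_subset_associatedPrimes _ (Submodule.span _ {s})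
          ((minAnn_iff (hV.primeIdealOf ⟨x, hx⟩).isPrime s).1 hs))
    · intro x hx y hy hxy
      simp only [dif_pos hx.1, dif_pos hy.1] at hxy
      exact H6.AssPts.point_eq hV hx.1 hy.1 hxy
  · rintro x ⟨hx, hw⟩
    rw [← hsup] at hx
    obtain ⟨i, hi⟩ := Opens.mem_iSup.1 hx
    exact Set.mem_iUnion.2 ⟨i, hi, hw⟩

theorem effCartier_comap {Y : Scheme.{u}} [(Coh.structureModule X).IsQuasicoherent] (f : X ⟶ Y) (I : Y.IdealSheafData)
    (hD : BlowUp.IsEffCartierIdeal I)
    (h : ∀ x : X, Curv2.IsWeakAssPoint (Coh.structureModule X) x → f x ∉ I.support) :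
    BlowUp.IsEffCartierIdeal (I.comap f) := by
  intro x
  obtain ⟨U, hxU, a, ha, hI⟩ := hD (f x)
  obtain ⟨V, hV, hxV, hVU⟩ := exists_isAffineOpen_mem_and_subset (X := X) (x := x) (U := f ⁻¹ᵁ U.1) hxU
  have hI' : (I.comap f).ideal ⟨V, hV⟩ = Ideal.span {(f.appLE U.1 V hVU).hom a} := by
    rw [H7Cartier.ideal_comap I f ⟨V, hV⟩ U hVU, hI, Ideal.map_span, Set.image_singleton]
  refine ⟨⟨V, hV⟩, hxV, (f.appLE U.1 V hVU).hom a, mem_nonZeroDivisors_iff_right.2 fun r hr => ?_, hI'⟩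
  refine TopCat.Presheaf.section_ext (C := Ab.{u}) ((LQcoh.toShf X).obj (Coh.structureModule X)) V
    (show Γ(Coh.structureModule X, V) from r) 0 fun y hy => ?_
  refine Eq.trans ?_ (map_zero ((Coh.structureModule X).presheaf.germ V y hy).hom).symm
  have hreg : IsSMulRegular ((Coh.structureModule X).presheaf.stalk y) (gO hy ((f.appLE U.1 V hVU).hom a)) := by
    refine regular_of_units hV hy fun z hz _ hw => ?_
    have h1 : f z ∈ Y.basicOpen a := by
      by_contra hc
      refine h z hw (I.mem_support_iff_of_mem (U := U) (hVU hz) |>.2 ?_)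
      rw [hI, Scheme.zeroLocus_span, Scheme.mem_zeroLocus_iff]
      intro g hg
      rw [Set.mem_singleton_iff] at hg
      exact hg ▸ hc
    have h2 : z ∈ f ⁻¹ᵁ Y.basicOpen a := h1
    rw [Scheme.preimage_basicOpen] at h2
    rw [Scheme.Hom.appLE, CommRingCat.comp_apply, Scheme.basicOpen_res]
    exact ⟨hz, h2⟩
  refine hreg.right_eq_zero_of_smul ?_
  refine (gM_smul (Coh.structureModule X) hy ((f.appLE U.1 V hVU).hom a) (show Γ(Coh.structureModule X, V) from r)).symm.trans ?_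
  have h0 : ((f.appLE U.1 V hVU).hom a) • (show Γ(Coh.structureModule X, V) from r) = 0 := (mul_comm _ _).trans hr
  rw [h0, map_zero]

end Groth.Agent.H7AssPts
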