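import Groth.Agent.Lib.H7AssPts3
import Groth.Prelude.Def_RefHull
import Mathlib

/-! Torsion freeness via weakly associated points. -/

set_option autoImplicit false
set_option linter.all false
set_option backward.isDefEq.respectTransparency.types false

universe u

open CategoryTheory CategoryTheory.Limits AlgebraicGeometry TopologicalSpace Opposite

namespace Groth.Agent.H7AssPts
open Groth.Agent H6.ZBasic H6.ZStalk

variable {X : Scheme.{u}}

/-- a relation on a germ of a sheaf Hom holds for the whole family near the point -/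
lemma homSh_family (F G : X.Modules) {x : X} {U V : X.Opens} (hU : x ∈ U) (hV : x ∈ V) (a : Γ(X, U))
    (φ : Γ(RefHull.homSh F G, V))
    (h : X.presheaf.germ U x hU a • (RefHull.homSh F G).presheaf.germ V x hV φ = 0) :
    ∃ W : X.Opens, x ∈ W ∧ ∃ (hWU : W ≤ U) (hWV : W ≤ V),
      ∀ y : W, X.presheaf.germ U y.1 (hWU y.2) a • φ.1 ⟨y.1, hWV y.2⟩ = 0 := by
  let O : X.Opens := U ⊓ V
  have hxO : x ∈ O := ⟨hU, hV⟩
  rw [← TopCat.Presheaf.germ_res_apply X.presheaf (homOfLE (inf_le_left : O ≤ U)) x hxO a,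
    ← TopCat.Presheaf.germ_res_apply (RefHull.homSh F G).presheaf (homOfLE (inf_le_right : O ≤ V)) x hxO φ] at h
  let ψ : Γ(RefHull.homSh F G, O) := X.presheaf.map (homOfLE (inf_le_left : O ≤ U)).op a •
    (show Γ(RefHull.homSh F G, O) from (RefHull.homSh F G).presheaf.map (homOfLE (inf_le_right : O ≤ V)).op φ)
  have h' : (RefHull.homSh F G).presheaf.germ O x hxO ψ = (RefHull.homSh F G).presheaf.germ O x hxO 0 :=
    (H7Stalk.germ_smul' x O hxO _ _).trans (h.trans (map_zero _).symm)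
  obtain ⟨W, hW, i, j, e⟩ := (RefHull.homSh F G).presheaf.germ_eq x hxO hxO _ _ h'
  refine ⟨W, hW, i.le.trans inf_le_left, i.le.trans inf_le_right, fun y => ?_⟩
  have e1 := congrArg (fun g : Γ(RefHull.homSh F G, W) => g.1 y) (e.trans (map_zero _))
  have e2 : X.presheaf.germ O y.1 (i.le y.2) (X.presheaf.map (homOfLE (inf_le_left : O ≤ U)).op a) •
      φ.1 ⟨y.1, (i.le.trans inf_le_right) y.2⟩ = 0 := e1
  rwa [TopCat.Presheaf.germ_res_apply] at e2

lemma homSh_eq_zero (F G : X.Modules) {x : X} {W V : X.Opens} (hW : x ∈ W) (hWV : W ≤ V)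
    (φ : Γ(RefHull.homSh F G, V)) (h : ∀ y : W, φ.1 ⟨y.1, hWV y.2⟩ = 0) :
    (RefHull.homSh F G).presheaf.germ V x (hWV hW) φ = 0 := by
  rw [← TopCat.Presheaf.germ_res_apply (RefHull.homSh F G).presheaf (homOfLE hWV) x hW φ]
  refine (congrArg ((RefHull.homSh F G).presheaf.germ W x hW) ?_).trans (map_zero _)
  exact Subtype.ext (funext fun y => h y)

theorem torsionFree_homSh [IsIntegral X] (F G : X.Modules) (hG : TorSh.IsTorsionFree G) :
    TorSh.IsTorsionFree (RefHull.homSh F G) := by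
  intro x
  refine ⟨fun r hr => ?_⟩
  change IsSMulRegular ((RefHull.homSh F G).presheaf.stalk x) r
  rw [isSMulRegular_iff_right_eq_zero_of_smul]
  intro ξ hξ
  obtain ⟨U, hU, a, rfl⟩ := X.presheaf.exists_germ_eq (x := x) r
  obtain ⟨V, hV, φ, rfl⟩ := (RefHull.homSh F G).presheaf.exists_germ_eq (x := x) ξ
  obtain ⟨W, hW, hWU, hWV, h⟩ := homSh_family F G hU hV a φ hξ
  refine homSh_eq_zero F G hW hWV φ fun y => LinearMap.ext fun v => ?_
  haveI := hG y.1
  have hne : X.presheaf.germ U y.1 (hWU y.2) a ≠ 0 := fun h0 => hr.ne_zero (by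
    have : a = 0 := AlgebraicGeometry.germ_injective_of_isIntegral X y.1 (hWU y.2) (h0.trans (map_zero _).symm)
    rw [this, map_zero])
  exact ((isRegular_of_ne_zero hne).isSMulRegular (M := G.presheaf.stalk y.1)).right_eq_zero_of_smul
    (LinearMap.congr_fun (h y) v)

theorem exists_regular_nonunit [IsLocallyNoetherian X] [(Coh.structureModule X).IsQuasicoherent] (x : X)
    (hx : ¬ Curv2.IsWeakAssPoint (Coh.structureModule X) x) :
    ∃ c ∈ Mero.regStalk X x, c ∈ IsLocalRing.maximalIdeal (X.presheaf.stalk x) := by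
  classical
  obtain ⟨V, hV, hxV, -⟩ := exists_isAffineOpen_mem_and_subset (X := X) (x := x) (U := ⊤) trivial
  set p := (hV.primeIdealOf ⟨x, hxV⟩).asIdeal with hp
  let B := {y : X | y ⤳ x ∧ (y ∈ V ∧ Curv2.IsWeakAssPoint (Coh.structureModule X) y)}
  have hB : B.Finite := (finite_weak_structure hV).subset fun y hy => hy.2
  let P : X → Ideal Γ(X, V) := fun y => if hy : y ∈ V then (hV.primeIdealOf ⟨y, hy⟩).asIdeal else ⊥
  have hns : ¬ (p : Set Γ(X, V)) ⊆ ⋃ y ∈ (↑hB.toFinset : Set X), (P y : Set Γ(X, V)) := fun hsub => by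
    obtain ⟨y, hy, hle⟩ := (Ideal.subset_union_prime (f := P) x x fun y hy _ _ => by
      have hy' := (hB.mem_toFinset.1 hy).2.1
      simp only [P, dif_pos hy']
      exact (hV.primeIdealOf ⟨y, hy'⟩).isPrime).1 hsub
    have hy' := hB.mem_toFinset.1 hy
    simp only [P, dif_pos hy'.2.1] at hle
    refine hx ?_
    rw [H6.AssPts.point_eq hV hxV hy'.2.1 (le_antisymm hle ((specializes_iff hV hy'.2.1 hxV).1 hy'.1))]
    exact hy'.2.2
  obtain ⟨a, hap, ha⟩ := Set.not_subset.1 hns
  refine ⟨gO hxV a, ?_, ?_⟩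
  · rw [regStalk_eq]
    refine (nzd_iff x _).2 (regular_of_units hV hxV fun y hy hyx hw => by_contra fun hc => ha ?_)
    refine Set.mem_iUnion₂.2 ⟨y, hB.mem_toFinset.2 ⟨hyx, hy, hw⟩, ?_⟩
    simp only [P, dif_pos hy]
    exact (mem_primeIdeal_iff hV hy).2 hc
  · refine (IsLocalRing.mem_maximalIdeal _).2 fun hu => (mem_primeIdeal_iff hV hxV).1 hap ?_
    exact (X.mem_basicOpen a x hxV).2 hu

theorem dual_no_weak [IsLocallyNoetherian X] [(Coh.structureModule X).IsQuasicoherent] (F : X.Modules) (x : X)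
    (hx : ¬ Curv2.IsWeakAssPoint (Coh.structureModule X) x) : ¬ Curv2.IsWeakAssPoint (RefHull.dual F) x := by
  intro hw
  obtain ⟨ξ, hne, h⟩ := (weak_iff_stalk (RefHull.dual F) x).1 hw
  obtain ⟨c, hc, hcm⟩ := exists_regular_nonunit x hx
  obtain ⟨n, hn⟩ := h c hcm
  obtain ⟨U, hU, f, hf, hfc⟩ : c ^ n ∈ Mero.regStalk X x := Submonoid.pow_mem _ hc n
  rw [← hfc] at hn
  obtain ⟨V, hV, φ, rfl⟩ := (RefHull.dual F).presheaf.exists_germ_eq (x := x) ξ
  obtain ⟨W, hW, hWU, hWV, h'⟩ := homSh_family F (Coh.structureModule X) hU hV f φ hn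
  refine hne (homSh_eq_zero F (Coh.structureModule X) hW hWV φ fun y => LinearMap.ext fun v => ?_)
  exact ((nzd_iff y.1 _).1 (hf ⟨y.1, hWU y.2⟩)).right_eq_zero_of_smul (LinearMap.congr_fun (h' y) v)

theorem not_generic_of_not_open [IsLocallyNoetherian X] [(Coh.structureModule X).IsQuasicoherent] [IsReduced X]
    (x : X) (hx : IsClosed ({x} : Set X)) (ho : ¬ IsOpen ({x} : Set X)) :
    ¬ Curv2.IsWeakAssPoint (Coh.structureModule X) x := by
  intro hw
  have hmax := (weak_structure_iff_maximal x).1 hw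
  obtain ⟨V, hV, hxV, -⟩ := exists_isAffineOpen_mem_and_subset (X := X) (x := x) (U := ⊤) trivial
  let B := {y : X | y ≠ x ∧ (y ∈ V ∧ Curv2.IsWeakAssPoint (Coh.structureModule X) y)}
  have hB : B.Finite := (finite_weak_structure hV).subset fun y hy => hy.2
  let C : Set X := ⋃ y ∈ B, closure {y}
  have hC : IsClosed C := hB.isClosed_biUnion fun y _ => isClosed_closure
  refine ho ?_
  have : ({x} : Set X) = (V : Set X) ∩ Cᶜ := by
    ext z
    constructor
    · rintro rfl
      refine ⟨hxV, fun hz => ?_⟩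
      obtain ⟨y, hy, hyx⟩ := Set.mem_iUnion₂.1 hz
      exact hy.1 (hmax y (specializes_iff_mem_closure.2 hyx))
    · rintro ⟨hzV, hzC⟩
      by_contra hne
      have hnz : ((Coh.structureModule X).presheaf.stalk z) ≃ₗ[X.presheaf.stalk z] X.presheaf.stalk z := strEquiv z
      obtain ⟨y, hyz, hy⟩ := exists_weak_of_stalk (F := Coh.structureModule X) (x := z) (ξ := hnz.symm 1)
        (fun h0 => one_ne_zero (hnz.symm.injective (h0.trans (map_zero _).symm)))
      have hyV : y ∈ V := hyz.mem_open V.2 hzV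
      by_cases hyx : y = x
      · have h2 : x ⤳ z := hyx ▸ hyz
        exact hne (h2.mem_closed hx rfl)
      · exact hzC (Set.mem_iUnion₂.2 ⟨y, ⟨hyx, hyV, hy⟩, specializes_iff_mem_closure.1 hyz⟩)
  rw [this]
  exact V.2.inter hC.isOpen_compl

theorem mono_toMer_iff [IsLocallyNoetherian X] [(Coh.structureModule X).IsQuasicoherent] (F : X.Modules) [F.IsQuasicoherent] :
    Mono (Mero.toMer F) ↔ ∀ x : X, Curv2.IsWeakAssPoint F x → Curv2.IsWeakAssPoint (Coh.structureModule X) x := by
  constructor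
  · intro hm x hx
    by_contra hno
    obtain ⟨ξ, hne, h⟩ := (weak_iff_stalk F x).1 hx
    obtain ⟨c, hc, hcm⟩ := exists_regular_nonunit x hno
    obtain ⟨n, hn⟩ := h c hcm
    obtain ⟨U, hU, f, hf, hfc⟩ : c ^ n ∈ Mero.regStalk X x := Submonoid.pow_mem _ hc n
    rw [← hfc] at hn
    obtain ⟨V, hV, m, rfl⟩ := F.presheaf.exists_germ_eq (x := x) ξ
    let O : X.Opens := U ⊓ V
    have hxO : x ∈ O := ⟨hU, hV⟩
    rw [← TopCat.Presheaf.germ_res_apply X.presheaf (homOfLE (inf_le_left : O ≤ U)) x hxO f,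
      ← TopCat.Presheaf.germ_res_apply F.presheaf (homOfLE (inf_le_right : O ≤ V)) x hxO m] at hn
    obtain ⟨W, hW, i, j, e⟩ := F.presheaf.germ_eq x hxO hxO
      (X.presheaf.map (homOfLE (inf_le_left : O ≤ U)).op f • (show Γ(F, O) from F.presheaf.map (homOfLE (inf_le_right : O ≤ V)).op m)) 0
      ((H7Stalk.germ_smul' x O hxO _ _).trans (hn.trans (map_zero _).symm))
    refine hne ?_
    rw [← TopCat.Presheaf.germ_res_apply F.presheaf (homOfLE (inf_le_right : O ≤ V)) x hxO m,
      ← TopCat.Presheaf.germ_res_apply F.presheaf i x hW]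
    refine (congrArg (F.presheaf.germ W x hW) ?_).trans (map_zero _)
    have hinj : Function.Injective ((Mero.toMer F).app W) := by
      have : Mono ((Scheme.Modules.toPresheaf X).map (Mero.toMer F)) := inferInstance
      have : Mono (((Scheme.Modules.toPresheaf X).map (Mero.toMer F)).app (op W)) := inferInstance
      exact (AddCommGrpCat.mono_iff_injective ((Mero.toMer F).app W)).1 this
    refine hinj (Eq.trans (Subtype.ext (funext fun y => ?_)) (map_zero _).symm)
    show LocalizedModule.mk (F.presheaf.germ W y.1 y.2 (F.presheaf.map i.op (F.presheaf.map (homOfLE (inf_le_right : O ≤ V)).op m))) 1 = 0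
    rw [← LocalizedModule.zero_mk (1 : Mero.regStalk X y.1), LocalizedModule.mk_eq]
    refine ⟨⟨X.presheaf.germ O y.1 (i.le y.2) (X.presheaf.map (homOfLE (inf_le_left : O ≤ U)).op f),
      ⟨O, i.le y.2, _, Mero.regSub_res _ hf, rfl⟩⟩, ?_⟩
    rw [one_smul, one_smul, smul_zero, Submonoid.smul_def]
    refine (congrArg (fun t => X.presheaf.germ O y.1 (i.le y.2) (X.presheaf.map (homOfLE (inf_le_left : O ≤ U)).op f) • t)
      (TopCat.Presheaf.germ_res_apply F.presheaf i y.1 y.2 _)).trans ?_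
    exact (H7Stalk.germ_smul' y.1 O (i.le y.2) _ _).symm.trans
      ((TopCat.Presheaf.germ_res_apply F.presheaf i y.1 y.2 _).symm.trans
        ((congrArg (F.presheaf.germ W y.1 y.2) (e.trans (map_zero _))).trans (map_zero _)))
  · intro h
    refine Preadditive.mono_of_cancel_zero _ fun {Z} g hg => ?_
    apply (Scheme.Modules.toPresheaf X).map_injective
    refine NatTrans.ext (funext fun U => AddCommGrpCat.hom_ext (AddMonoidHom.ext fun s => ?_))
    refine TopCat.Presheaf.section_ext (C := Ab.{u}) ((LQcoh.toShf X).obj F) U.unop _ _ fun x hx => ?_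
    refine Eq.trans ?_ (map_zero (F.presheaf.germ U.unop x hx).hom).symm
    have h0 : ((Mero.toMer F).app U.unop (g.app U.unop s)) = 0 := congrArg (fun t : Z ⟶ Mero.merMod F => t.app U.unop s) hg
    have h1 : LocalizedModule.mk (F.presheaf.germ U.unop x hx (g.app U.unop s)) (1 : Mero.regStalk X x) =
        LocalizedModule.mk 0 1 :=
      (congrArg (fun t : Γ(Mero.merMod F, U.unop) => t.1 ⟨x, hx⟩) h0).trans (LocalizedModule.zero_mk _).symm
    obtain ⟨c, hc⟩ := LocalizedModule.mk_eq.1 h1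
    rw [one_smul, one_smul, smul_zero, Submonoid.smul_def] at hc
    obtain ⟨W, hW, f, hf, hfc⟩ := c.2
    obtain ⟨V, hV, hxV, hVW₀⟩ := exists_isAffineOpen_mem_and_subset (X := X) (x := x) (U := W) hW
    have hVW : V ≤ W := hVW₀
    have hreg : IsSMulRegular (F.presheaf.stalk x) (gO hxV (X.presheaf.map (homOfLE hVW).op f)) := by
      refine regular_of_units hV hxV fun y hy hyx hw => ?_
      refine units_of_regular hV hxV ((nzd_iff x _).1 ?_) hy hyx (h y hw)
      rw [TopCat.Presheaf.germ_res_apply]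
      exact hf ⟨x, hW⟩
    refine hreg.right_eq_zero_of_smul ?_
    rw [TopCat.Presheaf.germ_res_apply, hfc]
    exact hc

end Groth.Agent.H7AssPts
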