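import Groth.Agent.Lib.H7Stalk
import Groth.Agent.Lib.LTensor
import Groth.Prelude.Def_DCoh4
import Mathlib

/-! The stalk of a tensor product of O-modules is the tensor product of the stalks, naturally. -/

universe u
open CategoryTheory Limits AlgebraicGeometry TopologicalSpace Opposite TensorProduct MonoidalCategory

namespace Groth.Agent.H7StalkTensor
open H7Stalk

variable {X : Scheme.{u}} {x : X}

/-- the germ of a pure tensor -/
noncomputable def gt (M N : X.Modules) (U : X.Opens) (hx : x ∈ U) (m : M.presheaf.obj (op U))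
    (n : N.presheaf.obj (op U)) : (CohB1.tensorMod M N).presheaf.stalk x :=
  (CohB1.tensorMod M N).presheaf.germ U x hx (SecTwist.tmul M N U m n)

lemma gt_res (M N : X.Modules) {U V : X.Opens} (i : V ⟶ U) (hx : x ∈ V) (m : M.presheaf.obj (op U))
    (n : N.presheaf.obj (op U)) :
    gt M N V hx (M.presheaf.map i.op m) (N.presheaf.map i.op n) = gt M N U (i.le hx) m n := by
  unfold gt
  have h : (CohB1.tensorMod M N).presheaf.map i.op (SecTwist.tmul M N U m n) =
      SecTwist.tmul M N V (M.presheaf.map i.op m) (N.presheaf.map i.op n) := SecTwist.map_tmul M N i m n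
  rw [← h]
  exact TopCat.Presheaf.germ_res_apply _ i x hx _

lemma gt_congr (M N : X.Modules) {U V U' V' : X.Opens} (hU : x ∈ U) (hV : x ∈ V) (hU' : x ∈ U') (hV' : x ∈ V')
    {m : M.presheaf.obj (op U)} {n : N.presheaf.obj (op V)}
    {m' : M.presheaf.obj (op U')} {n' : N.presheaf.obj (op V')}
    (hm : M.presheaf.germ U x hU m = M.presheaf.germ U' x hU' m')
    (hn : N.presheaf.germ V x hV n = N.presheaf.germ V' x hV' n') :
    gt M N (U ⊓ V) ⟨hU, hV⟩ (M.presheaf.map (homOfLE inf_le_left).op m) (N.presheaf.map (homOfLE inf_le_right).op n) =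
      gt M N (U' ⊓ V') ⟨hU', hV'⟩ (M.presheaf.map (homOfLE inf_le_left).op m')
        (N.presheaf.map (homOfLE inf_le_right).op n') := by
  obtain ⟨A, hA, iA, iA', eA⟩ := M.presheaf.germ_eq x hU hU' m m' hm
  obtain ⟨B, hB, iB, iB', eB⟩ := N.presheaf.germ_eq x hV hV' n n' hn
  have hW : x ∈ A ⊓ B := ⟨hA, hB⟩
  rw [← gt_res M N (homOfLE (le_inf (inf_le_left.trans iA.le) (inf_le_right.trans iB.le)) : A ⊓ B ⟶ U ⊓ V) hW,
    ← gt_res M N (homOfLE (le_inf (inf_le_left.trans iA'.le) (inf_le_right.trans iB'.le)) : A ⊓ B ⟶ U' ⊓ V') hW]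
  have h1 := congrArg (M.presheaf.map (homOfLE (inf_le_left : A ⊓ B ≤ A)).op) eA
  have h2 := congrArg (N.presheaf.map (homOfLE (inf_le_right : A ⊓ B ≤ B)).op) eB
  simp only [← ConcreteCategory.comp_apply, ← Functor.map_comp, ← op_comp] at h1 h2 ⊢
  convert (congrArg₂ (gt M N (A ⊓ B) hW) h1 h2) using 3 <;> congr 1

variable (x) in
/-- the pure tensor of two germs -/
noncomputable def pair (M N : X.Modules) (a : M.presheaf.stalk x) (b : N.presheaf.stalk x) :
    (CohB1.tensorMod M N).presheaf.stalk x :=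
  gt M N (_ ⊓ _) ⟨(M.presheaf.exists_germ_eq (x := x) a).choose_spec.choose,
      (N.presheaf.exists_germ_eq (x := x) b).choose_spec.choose⟩
    (M.presheaf.map (homOfLE inf_le_left).op (M.presheaf.exists_germ_eq (x := x) a).choose_spec.choose_spec.choose)
    (N.presheaf.map (homOfLE inf_le_right).op (N.presheaf.exists_germ_eq (x := x) b).choose_spec.choose_spec.choose)

lemma pair_germ (M N : X.Modules) (U : X.Opens) (hx : x ∈ U) (m : M.presheaf.obj (op U))
    (n : N.presheaf.obj (op U)) :
    pair x M N (M.presheaf.germ U x hx m) (N.presheaf.germ U x hx n) = gt M N U hx m n := by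
  unfold pair
  refine (gt_congr M N _ _ hx hx
    (M.presheaf.exists_germ_eq (x := x) _).choose_spec.choose_spec.choose_spec
    (N.presheaf.exists_germ_eq (x := x) _).choose_spec.choose_spec.choose_spec).trans ?_
  exact gt_res M N (homOfLE (inf_le_left : U ⊓ U ≤ U)) ⟨hx, hx⟩ m n

lemma exists_common (M N : X.Modules) (a : M.presheaf.stalk x) (b : N.presheaf.stalk x) :
    ∃ (U : X.Opens) (hx : x ∈ U) (m : M.presheaf.obj (op U)) (n : N.presheaf.obj (op U)),
      M.presheaf.germ U x hx m = a ∧ N.presheaf.germ U x hx n = b := by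
  obtain ⟨U, hU, m, rfl⟩ := M.presheaf.exists_germ_eq (x := x) a
  obtain ⟨V, hV, n, rfl⟩ := N.presheaf.exists_germ_eq (x := x) b
  exact ⟨U ⊓ V, ⟨hU, hV⟩, M.presheaf.map (homOfLE inf_le_left).op m, N.presheaf.map (homOfLE inf_le_right).op n,
    TopCat.Presheaf.germ_res_apply _ _ _ _ _, TopCat.Presheaf.germ_res_apply _ _ _ _ _⟩

lemma pair_add_left (M N : X.Modules) (a a' : M.presheaf.stalk x) (b : N.presheaf.stalk x) :
    pair x M N (a + a') b = pair x M N a b + pair x M N a' b := by
  obtain ⟨U, hU, m, n, rfl, rfl⟩ := exists_common M N a b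
  obtain ⟨V, hV, m', rfl⟩ := M.presheaf.exists_germ_eq (x := x) a'
  have h : x ∈ U ⊓ V := ⟨hU, hV⟩
  rw [← TopCat.Presheaf.germ_res_apply M.presheaf (homOfLE (inf_le_left : U ⊓ V ≤ U)) x h m,
    ← TopCat.Presheaf.germ_res_apply M.presheaf (homOfLE (inf_le_right : U ⊓ V ≤ V)) x h m',
    ← TopCat.Presheaf.germ_res_apply N.presheaf (homOfLE (inf_le_left : U ⊓ V ≤ U)) x h n,
    ← map_add, pair_germ, pair_germ, pair_germ]
  exact (congrArg _ (LTensor.tmul_add_left M N _ _ _ _)).trans (map_add _ _ _)

lemma pair_add_right (M N : X.Modules) (a : M.presheaf.stalk x) (b b' : N.presheaf.stalk x) :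
    pair x M N a (b + b') = pair x M N a b + pair x M N a b' := by
  obtain ⟨U, hU, m, n, rfl, rfl⟩ := exists_common M N a b
  obtain ⟨V, hV, n', rfl⟩ := N.presheaf.exists_germ_eq (x := x) b'
  have h : x ∈ U ⊓ V := ⟨hU, hV⟩
  rw [← TopCat.Presheaf.germ_res_apply M.presheaf (homOfLE (inf_le_left : U ⊓ V ≤ U)) x h m,
    ← TopCat.Presheaf.germ_res_apply N.presheaf (homOfLE (inf_le_right : U ⊓ V ≤ V)) x h n',
    ← TopCat.Presheaf.germ_res_apply N.presheaf (homOfLE (inf_le_left : U ⊓ V ≤ U)) x h n,
    ← map_add, pair_germ, pair_germ, pair_germ]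
  exact (congrArg _ (LTensor.tmul_add_right M N _ _ _ _)).trans (map_add _ _ _)

lemma pair_smul_left (M N : X.Modules) (r : X.presheaf.stalk x) (a : M.presheaf.stalk x)
    (b : N.presheaf.stalk x) : pair x M N (r • a) b = r • pair x M N a b := by
  obtain ⟨U, hU, m, n, rfl, rfl⟩ := exists_common M N a b
  obtain ⟨V, hV, t, rfl⟩ := X.presheaf.exists_germ_eq (x := x) r
  have h : x ∈ U ⊓ V := ⟨hU, hV⟩
  rw [← TopCat.Presheaf.germ_res_apply M.presheaf (homOfLE (inf_le_left : U ⊓ V ≤ U)) x h m,
    ← TopCat.Presheaf.germ_res_apply X.presheaf (homOfLE (inf_le_right : U ⊓ V ≤ V)) x h t,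
    ← TopCat.Presheaf.germ_res_apply N.presheaf (homOfLE (inf_le_left : U ⊓ V ≤ U)) x h n]
  erw [← germ_smul', pair_germ, pair_germ]
  unfold gt
  erw [← germ_smul']
  exact congrArg _ (LTensor.tmul_smul_left M N _ _ _ _)

lemma pair_smul_right (M N : X.Modules) (r : X.presheaf.stalk x) (a : M.presheaf.stalk x)
    (b : N.presheaf.stalk x) : pair x M N a (r • b) = r • pair x M N a b := by
  obtain ⟨U, hU, m, n, rfl, rfl⟩ := exists_common M N a b
  obtain ⟨V, hV, t, rfl⟩ := X.presheaf.exists_germ_eq (x := x) r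
  have h : x ∈ U ⊓ V := ⟨hU, hV⟩
  rw [← TopCat.Presheaf.germ_res_apply M.presheaf (homOfLE (inf_le_left : U ⊓ V ≤ U)) x h m,
    ← TopCat.Presheaf.germ_res_apply X.presheaf (homOfLE (inf_le_right : U ⊓ V ≤ V)) x h t,
    ← TopCat.Presheaf.germ_res_apply N.presheaf (homOfLE (inf_le_left : U ⊓ V ≤ U)) x h n]
  erw [← germ_smul', pair_germ, pair_germ]
  unfold gt
  erw [← germ_smul']
  exact congrArg _ (LTensor.tmul_smul_right M N _ _ _ _)

variable (x)

/-- the tensor product of the stalks, as a stalk module -/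
noncomputable abbrev ST (M N : X.Modules) : ModuleCat.{u} (X.presheaf.stalk x) :=
  (DerSch.stalkFunctor X x).obj M ⊗ (DerSch.stalkFunctor X x).obj N

variable {x} in
/-- a pure tensor in the tensor product of stalks -/
noncomputable def pt {M N : X.Modules} (a : M.presheaf.stalk x) (b : N.presheaf.stalk x) : ST x M N :=
  a ⊗ₜ[X.presheaf.stalk x] b

lemma pt_add_left {M N : X.Modules} (a a' : M.presheaf.stalk x) (b : N.presheaf.stalk x) :
    pt (a + a') b = pt a b + pt a' b := TensorProduct.add_tmul _ _ _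

lemma pt_add_right {M N : X.Modules} (a : M.presheaf.stalk x) (b b' : N.presheaf.stalk x) :
    pt a (b + b') = pt a b + pt a b' := TensorProduct.tmul_add _ _ _

lemma pt_smul_left {M N : X.Modules} (r : X.presheaf.stalk x) (a : M.presheaf.stalk x) (b : N.presheaf.stalk x) :
    pt (r • a) b = r • pt a b := rfl

lemma pt_smul_right {M N : X.Modules} (r : X.presheaf.stalk x) (a : M.presheaf.stalk x) (b : N.presheaf.stalk x) :
    pt a (r • b) = r • pt a b 
    := TensorProduct.tmul_smul (R := X.presheaf.stalk x) (M := M.presheaf.stalk x) (N := N.presheaf.stalk x) r a b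

/-- `M_x ⊗ N_x ⟶ (M ⊗ N)_x` -/
noncomputable def psi (M N : X.Modules) : ST x M N ⟶ (DerSch.stalkFunctor X x).obj (CohB1.tensorMod M N) :=
  ModuleCat.MonoidalCategory.tensorLift (fun a b => pair x M N a b) (pair_add_left M N)
    (pair_smul_left M N) (pair_add_right M N) (pair_smul_right M N)

lemma psi_tmul (M N : X.Modules) (a : M.presheaf.stalk x) (b : N.presheaf.stalk x) :
    (psi x M N).hom (pt a b) = pair x M N a b := rfl

/-- a bilinear family into the skyscraper of `M_x ⊗ N_x` -/
noncomputable def phiSk (M N : X.Modules) : CohB1.tensorMod M N ⟶ (sk x).obj (ST x M N) :=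
  LTensor.lift (P := (sk x).obj (ST x M N))
    (fun U m n => (fun h => pt (M.presheaf.germ U x h.down m) (N.presheaf.germ U x h.down n) :
      SkSec x (ST x M N) U))
    (fun U m m' n => funext fun h =>
      (congrArg (fun a => pt (N := N) a (N.presheaf.germ U x h.down n))
        (map_add (M.presheaf.germ U x h.down).hom m m')).trans (pt_add_left x _ _ _))
    (fun U r m n => funext fun h =>
      (congrArg (fun a => pt (N := N) a (N.presheaf.germ U x h.down n))
        (germ_smul' (M := M) x U h.down r m)).trans (pt_smul_left x _ _ _))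
    (fun U m n n' => funext fun h =>
      (congrArg (fun b => pt (M := M) (M.presheaf.germ U x h.down m) b)
        (map_add (N.presheaf.germ U x h.down).hom n n')).trans (pt_add_right x _ _ _))
    (fun U r m n => funext fun h =>
      (congrArg (fun b => pt (M := M) (M.presheaf.germ U x h.down m) b)
        (germ_smul' (M := N) x U h.down r n)).trans (pt_smul_right x _ _ _))
    (fun U V i m n => funext fun h =>
      (congrArg₂ pt (TopCat.Presheaf.germ_res_apply M.presheaf i x h.down m).symm
        (TopCat.Presheaf.germ_res_apply N.presheaf i x h.down n).symm))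

/-- `(M ⊗ N)_x ⟶ M_x ⊗ N_x` -/
noncomputable def phi (M N : X.Modules) :
    (DerSch.stalkFunctor X x).obj (CohB1.tensorMod M N) ⟶ ST x M N := fromSk (phiSk x M N)

lemma phi_gt (M N : X.Modules) (U : X.Opens) (hx : x ∈ U) (m : M.presheaf.obj (op U))
    (n : N.presheaf.obj (op U)) :
    (phi x M N).hom (gt M N U hx m n) =
      pt (M.presheaf.germ U x hx m) (N.presheaf.germ U x hx n) := by
  refine (fromSk_germ (phiSk x M N) U hx _).trans ?_
  unfold phiSk
  exact congrFun (LTensor.lift_tmul (P := (sk x).obj (ST x M N)) _ _ _ _ _ _ U m n) ⟨hx⟩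

/-- maps out of the stalk of a tensor product are determined on germs of pure tensors -/
lemma stalk_tensor_ext {M N : X.Modules} {L : ModuleCat.{u} (X.presheaf.stalk x)}
    {g g' : (DerSch.stalkFunctor X x).obj (CohB1.tensorMod M N) ⟶ L}
    (h : ∀ (U : X.Opens) (hx : x ∈ U) (m : M.presheaf.obj (op U)) (n : N.presheaf.obj (op U)),
      g.hom (gt M N U hx m n) = g'.hom (gt M N U hx m n)) : g = g' := by
  have key : toSk g = toSk g' := LTensor.hom_ext fun U m n => funext fun hh => by
    exact h U hh.down m n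
  have h2 := congrArg fromSk key
  have hg : ∀ k : (DerSch.stalkFunctor X x).obj (CohB1.tensorMod M N) ⟶ L, fromSk (toSk k) = k :=
    fun k => stalkHom_ext fun U hx s => by rw [fromSk_germ, toSk_app]
  rwa [hg, hg] at h2

/-- the stalk of a tensor product -/
noncomputable def iso (M N : X.Modules) :
    (DerSch.stalkFunctor X x).obj (CohB1.tensorMod M N) ≅ ST x M N where
  hom := phi x M N
  inv := psi x M N
  hom_inv_id := stalk_tensor_ext x fun U hx m n => by
    show (psi x M N).hom ((phi x M N).hom _) = gt M N U hx m n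
    rw [phi_gt, psi_tmul, pair_germ]
  inv_hom_id := ModuleCat.MonoidalCategory.tensor_ext fun a b => by
    show (phi x M N).hom ((psi x M N).hom (pt a b)) = pt a b
    obtain ⟨U, hU, m, n, rfl, rfl⟩ := exists_common M N a b
    rw [psi_tmul, pair_germ, phi_gt]

/-- functoriality of the tensor bifunctor on pure tensors, right variable -/
lemma obj_map_tmul (M : X.Modules) {N N' : X.Modules} (g : N ⟶ N') (U : X.Opens)
    (m : M.presheaf.obj (op U)) (n : N.presheaf.obj (op U)) :
    (((DCoh.tensorBi (X := X)).obj M).map g).app U (SecTwist.tmul M N U m n) =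
      SecTwist.tmul M N' U m (g.app U n) := by
  have h := (PresheafOfModules.sheafificationAdjunction.{u, u, u, u}
    (J := Opens.grothendieckTopology X) (𝟙 X.ringCatSheaf.obj)).unit.naturality
    (show (CohB1.tensorPre M N : X.PresheafOfModules) ⟶ CohB1.tensorPre M N' from DCoh.toP.obj M ◁ DCoh.toP.map g)
  exact (ConcreteCategory.congr_hom (congrArg (fun φ => PresheafOfModules.Hom.app φ (op U)) h)
    (@TensorProduct.tmul ((X.sheaf.obj ⋙ forget₂ CommRingCat RingCat).obj (op U)) _ ((CohB1.toPMod M).obj (op U)) ((CohB1.toPMod N).obj (op U))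
      _ _ _ _ m n)).symm

lemma map_app_tmul {M M' : X.Modules} (f : M ⟶ M') (N : X.Modules) (U : X.Opens)
    (m : M.presheaf.obj (op U)) (n : N.presheaf.obj (op U)) :
    (((DCoh.tensorBi (X := X)).map f).app N).app U (SecTwist.tmul M N U m n) =
      SecTwist.tmul M' N U (f.app U m) n := by
  have h := (PresheafOfModules.sheafificationAdjunction.{u, u, u, u}
    (J := Opens.grothendieckTopology X) (𝟙 X.ringCatSheaf.obj)).unit.naturality
    (show (CohB1.tensorPre M N : X.PresheafOfModules) ⟶ CohB1.tensorPre M' N from DCoh.toP.map f ▷ DCoh.toP.obj N)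
  exact (ConcreteCategory.congr_hom (congrArg (fun φ => PresheafOfModules.Hom.app φ (op U)) h)
    (@TensorProduct.tmul ((X.sheaf.obj ⋙ forget₂ CommRingCat RingCat).obj (op U)) _ ((CohB1.toPMod M).obj (op U)) ((CohB1.toPMod N).obj (op U))
      _ _ _ _ m n)).symm

/-- naturality in the right variable -/
noncomputable def natIso₂ (M : X.Modules) :
    (DCoh.tensorBi (X := X)).obj M ⋙ DerSch.stalkFunctor X x ≅
      DerSch.stalkFunctor X x ⋙ (curriedTensor (ModuleCat.{u} (X.presheaf.stalk x))).obj
        ((DerSch.stalkFunctor X x).obj M) :=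
  NatIso.ofComponents (fun N => iso x M N) fun {N N'} g => stalk_tensor_ext x fun U hx m n => by
    show (phi x M N').hom ((DerSch.stalkFunctor X x).map (((DCoh.tensorBi (X := X)).obj M).map g) _) =
      (((DerSch.stalkFunctor X x).obj M) ◁ (DerSch.stalkFunctor X x).map g).hom ((phi x M N).hom _)
    unfold gt
    erw [DerSch.stalkFunctor_map_germ, obj_map_tmul]
    erw [phi_gt, phi_gt]
    erw [ModuleCat.MonoidalCategory.whiskerLeft_apply, DerSch.stalkFunctor_map_germ]
    rfl

/-- the natural isomorphism in both variables -/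
noncomputable def natIso :
    (DCoh.tensorBi (X := X)) ⋙ (Functor.whiskeringRight _ _ _).obj (DerSch.stalkFunctor X x) ≅
      DerSch.stalkFunctor X x ⋙ curriedTensor (ModuleCat.{u} (X.presheaf.stalk x)) ⋙
        (Functor.whiskeringLeft _ _ _).obj (DerSch.stalkFunctor X x) :=
  NatIso.ofComponents (fun M => natIso₂ x M) fun {M M'} f => by
    ext N : 2
    refine stalk_tensor_ext x fun U hx m n => ?_
    show (phi x M' N).hom ((DerSch.stalkFunctor X x).map (((DCoh.tensorBi (X := X)).map f).app N) _) =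
      (((DerSch.stalkFunctor X x).map f) ▷ (DerSch.stalkFunctor X x).obj N).hom ((phi x M N).hom _)
    unfold gt
    erw [DerSch.stalkFunctor_map_germ, map_app_tmul]
    erw [phi_gt, phi_gt]
    erw [ModuleCat.MonoidalCategory.whiskerRight_apply, DerSch.stalkFunctor_map_germ]
    rfl

end Groth.Agent.H7StalkTensor
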