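import Groth.Prelude.Def_DerSch
import Groth.Prelude.Def_CohB1
import Groth.Agent.Lib.LQFin
import Mathlib

/-! Quasi-coherent submodules of finite type, described by submodules of the stalks. -/

set_option autoImplicit false
universe u

open CategoryTheory Limits TopologicalSpace Opposite AlgebraicGeometry
open Groth.Agent.LQcoh

namespace Groth.Agent.H7SubQ

variable {X : Scheme.{u}} (M : X.Modules)

/-- germs of sections of a module -/
noncomputable abbrev gm {O : X.Opens} (y : X) (h : y ∈ O) (s : Γ(M, O)) : M.presheaf.stalk y :=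
  M.presheaf.germ O y h s

lemma gm_res {O D : X.Opens} (h : D ≤ O) (y : X) (hy : y ∈ D) (s : Γ(M, O)) :
    gm M y hy (res M h s) = gm M y (h hy) s :=
  TopCat.Presheaf.germ_res_apply M.presheaf (homOfLE h) y hy s

lemma gm_smul {O : X.Opens} (y : X) (hy : y ∈ O) (r : Γ(X, O)) (s : Γ(M, O)) :
    gm M y hy (r • s) = (X.presheaf.germ O y hy).hom r • gm M y hy s :=
  PresheafOfModules.germ_smul M.val y O hy r s

/-- the submodule of the stalk spanned by finitely many sections -/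
noncomputable def gen (O : X.Opens) (S : Set Γ(M, O)) (y : X) :
    Submodule (X.presheaf.stalk y) (M.presheaf.stalk y) :=
  Submodule.span _ {z | ∃ (h : y ∈ O) (s : Γ(M, O)), s ∈ S ∧ gm M y h s = z}

lemma gen_res {O D : X.Opens} (h : D ≤ O) (S : Set Γ(M, O)) (y : X) (hy : y ∈ D) :
    gen M D (res M h '' S) y = gen M O S y := by
  unfold gen
  congr 1
  ext z
  constructor
  · rintro ⟨hy', _, ⟨s, hs, rfl⟩, rfl⟩
    exact ⟨h hy', s, hs, (gm_res M h y hy' s).symm⟩
  · rintro ⟨_, s, hs, rfl⟩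
    exact ⟨hy, _, ⟨s, hs, rfl⟩, gm_res M h y hy s⟩

lemma gm_mem_gen {O : X.Opens} {S : Set Γ(M, O)} {y : X} (hy : y ∈ O) {s : Γ(M, O)}
    (hs : s ∈ Submodule.span Γ(X, O) S) : gm M y hy s ∈ gen M O S y := by
  induction hs using Submodule.span_induction with
  | mem s hs => exact Submodule.subset_span ⟨hy, s, hs, rfl⟩
  | zero => rw [gm, map_zero]; exact zero_mem _
  | add a b _ _ ha hb => rw [gm, map_add]; exact add_mem ha hb
  | smul r a _ ha => rw [gm_smul]; exact Submodule.smul_mem _ _ ha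

lemma res_mem_span {O D : X.Opens} (h : D ≤ O) {S : Set Γ(M, O)} {s : Γ(M, O)}
    (hs : s ∈ Submodule.span Γ(X, O) S) : res M h s ∈ Submodule.span Γ(X, D) (res M h '' S) := by
  induction hs using Submodule.span_induction with
  | mem s hs => exact Submodule.subset_span ⟨s, hs, rfl⟩
  | zero => rw [res, map_zero]; exact zero_mem _
  | add a b _ _ ha hb => rw [res, map_add]; exact add_mem ha hb
  | smul r a _ ha => rw [res_smul]; exact Submodule.smul_mem _ _ ha

/-- a germ in the span lifts to a section in the span -/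
lemma exists_local {O : X.Opens} (S : Set Γ(M, O)) {x : X} (hx : x ∈ O) {z : M.presheaf.stalk x}
    (hz : z ∈ gen M O S x) : ∃ (D : X.Opens) (hD : D ≤ O) (hxD : x ∈ D) (t : Γ(M, D)),
      t ∈ Submodule.span Γ(X, D) (res M hD '' S) ∧ gm M x hxD t = z := by
  induction hz using Submodule.span_induction with
  | mem z hz =>
    obtain ⟨_, s, hs, rfl⟩ := hz
    exact ⟨O, le_rfl, hx, _, Submodule.subset_span ⟨s, hs, rfl⟩, gm_res M _ x hx s⟩
  | zero => exact ⟨O, le_rfl, hx, 0, zero_mem _, map_zero _⟩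
  | add a b _ _ ha hb =>
    obtain ⟨D, hD, hxD, t, ht, rfl⟩ := ha
    obtain ⟨D', hD', hxD', t', ht', rfl⟩ := hb
    refine ⟨D ⊓ D', inf_le_left.trans hD, ⟨hxD, hxD'⟩, res M inf_le_left t + res M inf_le_right t', ?_, ?_⟩
    · refine add_mem ?_ ?_
      · have := res_mem_span M (inf_le_left : D ⊓ D' ≤ D) ht
        rwa [Set.image_image, Set.image_congr fun s _ => res_res M hD inf_le_left s] at this
      · have := res_mem_span M (inf_le_right : D ⊓ D' ≤ D') ht'
        rwa [Set.image_image, Set.image_congr fun s _ => res_res M hD' inf_le_right s] at this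
    · rw [gm, map_add]
      exact congrArg₂ (· + ·) (gm_res M _ x _ t) (gm_res M _ x _ t')
  | smul a b _ hb =>
    obtain ⟨D, hD, hxD, t, ht, rfl⟩ := hb
    obtain ⟨E, hxE, r, rfl⟩ := TopCat.Presheaf.exists_germ_eq (F := X.presheaf) a
    refine ⟨D ⊓ E, inf_le_left.trans hD, ⟨hxD, hxE⟩, resO (inf_le_right : D ⊓ E ≤ E) r • res M (inf_le_left : D ⊓ E ≤ D) t, ?_, ?_⟩
    · refine Submodule.smul_mem _ _ ?_
      have := res_mem_span M (inf_le_left : D ⊓ E ≤ D) ht
      rwa [Set.image_image, Set.image_congr fun s _ => res_res M hD inf_le_left s] at this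
    · rw [gm_smul, gm_res]
      exact congrArg (· • gm M x hxD t) (TopCat.Presheaf.germ_res_apply X.presheaf _ x _ r)

variable [M.IsQuasicoherent]

/-- membership in the spanned submodule on a basic open -/
lemma exists_pow_of_span {V : X.Opens} (hV : IsAffineOpen V) (S : Set Γ(M, V)) (g : Γ(X, V))
    {c : Γ(M, X.basicOpen g)}
    (hc : c ∈ Submodule.span Γ(X, X.basicOpen g) (res M (basicOpen_le_open g) '' S)) :
    ∃ (n : ℕ) (u : Γ(M, V)), u ∈ Submodule.span Γ(X, V) S ∧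
      res M (basicOpen_le_open g) u = resO (basicOpen_le_open g) (g ^ n) • c := by
  induction hc using Submodule.span_induction with
  | mem c hc =>
    obtain ⟨s, hs, rfl⟩ := hc
    exact ⟨0, s, Submodule.subset_span hs, by rw [pow_zero, resO, map_one, one_smul]⟩
  | zero => exact ⟨0, 0, zero_mem _, by rw [res, map_zero, smul_zero]⟩
  | add a b _ _ ha hb =>
    obtain ⟨n, u, hu, hu'⟩ := ha
    obtain ⟨m, v, hv, hv'⟩ := hb
    refine ⟨n + m, g ^ m • u + g ^ n • v, add_mem (Submodule.smul_mem _ _ hu) (Submodule.smul_mem _ _ hv), ?_⟩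
    rw [res, map_add, ← res, ← res, res_smul, res_smul, hu', hv', smul_smul, smul_smul, ← map_mul, ← map_mul,
      ← pow_add, ← pow_add, add_comm m n, smul_add]
  | smul a b _ hb =>
    obtain ⟨n, u, hu, hu'⟩ := hb
    have := hV.isLocalization_basicOpen g
    obtain ⟨⟨r, ⟨_, m, rfl⟩⟩, hr⟩ := IsLocalization.surj (Submonoid.powers g) a
    have hr' : resO (basicOpen_le_open g) (g ^ m) * a = resO (basicOpen_le_open g) r := (mul_comm _ _).trans hr
    refine ⟨n + m, r • u, Submodule.smul_mem _ _ hu, ?_⟩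
    rw [res_smul, hu', smul_smul, smul_smul, ← hr', pow_add]
    simp only [resO, map_mul]
    ring_nf

/-- a section whose germs on `D(g)` lie in the spanned submodule -/
theorem exists_pow_mem {V : X.Opens} (hV : IsAffineOpen V) (S : Set Γ(M, V)) (g : Γ(X, V)) (s : Γ(M, V))
    (h : ∀ (y : X) (hy : y ∈ X.basicOpen g), gm M y (X.basicOpen_le g hy) s ∈ gen M V S y) :
    ∃ n : ℕ, g ^ n • s ∈ Submodule.span Γ(X, V) S := by
  let I : Ideal Γ(X, V) := (Submodule.span Γ(X, V) S).comap (LinearMap.toSpanSingleton Γ(X, V) Γ(M, V) s)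
  suffices hg : g ∈ I.radical by
    obtain ⟨n, hn⟩ := hg
    exact ⟨n, hn⟩
  rw [Ideal.radical_eq_sInf, Submodule.mem_sInf]
  rintro p ⟨hIp, hp⟩
  by_contra hgp
  let q : PrimeSpectrum Γ(X, V) := ⟨p, hp⟩
  let y : X := hV.fromSpec q
  have hy : ∀ r : Γ(X, V), y ∈ X.basicOpen r ↔ r ∉ p := fun r => by
    have := hV.fromSpec_preimage_basicOpen r
    exact ⟨fun hr => (this ▸ hr : q ∈ PrimeSpectrum.basicOpen r), fun hr => (this.symm ▸ hr : q ∈ hV.fromSpec ⁻¹ᵁ X.basicOpen r)⟩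
  obtain ⟨D, hD, hyD, t, ht, hts⟩ := exists_local M S (X.basicOpen_le g ((hy g).2 hgp)) (h y ((hy g).2 hgp))
  obtain ⟨E, hyE, iD, iV, hE⟩ := TopCat.Presheaf.germ_eq M.presheaf y hyD (X.basicOpen_le g ((hy g).2 hgp)) t s hts
  obtain ⟨f, hfE, hyf⟩ := hV.exists_basicOpen_le ⟨y, hyE⟩ (X.basicOpen_le g ((hy g).2 hgp))
  have h1 : res M (hfE.trans iD.le) t = res M (basicOpen_le_open f) s := by
    have := congrArg (res M hfE) (show res M iD.le t = res M iV.le s from hE)
    erw [res_res, res_res] at this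
    exact this
  have h2 := res_mem_span M (hfE.trans iD.le) ht
  rw [Set.image_image, Set.image_congr fun s _ => res_res M hD (hfE.trans iD.le) s, h1] at h2
  obtain ⟨n, u, hu, hu'⟩ := exists_pow_of_span M hV S f h2
  obtain ⟨k, hk⟩ := (exists_pow_of_affine hV M f).2 (u - f ^ n • s) (by
    rw [res, map_sub, ← res, ← res, res_smul, hu', sub_self])
  rw [smul_sub, sub_eq_zero, smul_smul, ← pow_add] at hk
  have : f ^ (k + n) ∈ I := by
    show f ^ (k + n) • s ∈ Submodule.span Γ(X, V) S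
    rw [← hk]; exact Submodule.smul_mem _ _ hu
  exact (hy f).1 hyf (hp.mem_of_pow_mem _ (hIp this))

/-- locally finitely generated families of submodules of stalks -/
def LocFG (W : X.Opens) (N : ∀ y : X, Submodule (X.presheaf.stalk y) (M.presheaf.stalk y)) : Prop :=
  ∀ x ∈ W, ∃ O : X.Opens, x ∈ O ∧ O ≤ W ∧ ∃ S : Set Γ(M, O), S.Finite ∧ ∀ y ∈ O, N y = gen M O S y

variable {N : ∀ y : X, Submodule (X.presheaf.stalk y) (M.presheaf.stalk y)}

/-- clearing denominators against a locally finitely generated family -/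
theorem exists_pow_germ_mem {V W : X.Opens} (hV : IsAffineOpen V) (hN : LocFG M W N)
    (hc : IsCompact ((V : Set X) ∩ W)) (g : Γ(X, V)) (s : Γ(M, V))
    (h : ∀ (y : X) (hy : y ∈ X.basicOpen g), y ∈ W → gm M y (X.basicOpen_le g hy) s ∈ N y) :
    ∃ n : ℕ, ∀ m ≥ n, ∀ (y : X) (hy : y ∈ V), y ∈ W → gm M y hy (g ^ m • s) ∈ N y := by
  classical
  have key : ∀ x : ((V : Set X) ∩ W : Set X), ∃ (f : Γ(X, V)) (n : ℕ), x.1 ∈ X.basicOpen f ∧
      ∀ m ≥ n, ∀ (y : X) (hy : y ∈ X.basicOpen f), gm M y (X.basicOpen_le f hy) (g ^ m • s) ∈ N y := by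
    rintro ⟨x, hxV, hxW⟩
    obtain ⟨O, hxO, hOW, S, hS, hSN⟩ := hN x hxW
    obtain ⟨f, hfO, hxf⟩ := hV.exists_basicOpen_le (V := O) ⟨x, hxO⟩ hxV
    obtain ⟨n, hn⟩ := exists_pow_mem M (hV.basicOpen f) (res M hfO '' S) (resO (basicOpen_le_open f) g)
      (res M (basicOpen_le_open f) s) fun y hy => by
        have hy' : y ∈ X.basicOpen g ∧ y ∈ X.basicOpen f := by
          rw [X.basicOpen_res] at hy; exact ⟨hy.2, hy.1⟩
        rw [gm_res, gen_res M hfO S y hy'.2, ← hSN y (hfO hy'.2)]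
        exact h y hy'.1 (hOW (hfO hy'.2))
    refine ⟨f, n, hxf, fun m hm y hy => ?_⟩
    have h1 := gm_mem_gen M hy (Submodule.smul_mem _ (resO (basicOpen_le_open f) g ^ (m - n)) hn)
    rw [smul_smul, ← pow_add, Nat.sub_add_cancel hm, gen_res M hfO S y hy, ← hSN y (hfO hy),
      ← map_pow, ← res_smul, gm_res] at h1
    exact h1
  choose f n hxf hn using key
  obtain ⟨t, ht⟩ := hc.elim_finite_subcover (fun x => (X.basicOpen (f x) : Set X)) (fun x => (X.basicOpen (f x)).2)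
    fun x hx => Set.mem_iUnion.2 ⟨⟨x, hx⟩, hxf _⟩
  refine ⟨t.sup n, fun m hm y hy hyW => ?_⟩
  obtain ⟨x, hx, hyx⟩ := Set.mem_iUnion₂.1 (ht ⟨hy, hyW⟩)
  exact hn x m ((Finset.le_sup hx).trans hm) y hyx

/-- extension over one affine open -/
theorem exists_gen {V W : X.Opens} (hV : IsAffineOpen V) (hN : LocFG M W N)
    (hc : IsCompact ((V : Set X) ∩ W)) :
    ∃ S : Set Γ(M, V), S.Finite ∧ ∀ y ∈ V, y ∈ W → N y = gen M V S y := by
  classical
  have key : ∀ x : ((V : Set X) ∩ W : Set X), ∃ (f : Γ(X, V)) (S : Set Γ(M, V)), S.Finite ∧ x.1 ∈ X.basicOpen f ∧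
      (∀ y ∈ X.basicOpen f, N y ≤ gen M V S y) ∧
      ∀ σ ∈ S, ∀ (y : X) (hy : y ∈ V), y ∈ W → gm M y hy σ ∈ N y := by
    rintro ⟨x, hxV, hxW⟩
    obtain ⟨O, hxO, hOW, S, hS, hSN⟩ := hN x hxW
    obtain ⟨f, hfO, hxf⟩ := hV.exists_basicOpen_le (V := O) ⟨x, hxO⟩ hxV
    have hlift : ∀ σ : S, ∃ (k : ℕ) (τ : Γ(M, V)),
        res M (basicOpen_le_open f) τ = resO (basicOpen_le_open f) (f ^ k) • res M hfO σ.1 ∧
        ∀ (y : X) (hy : y ∈ V), y ∈ W → gm M y hy τ ∈ N y := fun σ => by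
      obtain ⟨a, τ, hτ⟩ := (exists_pow_of_affine hV M f).1 (res M hfO σ.1)
      obtain ⟨b, hb⟩ := exists_pow_germ_mem M hV hN hc f τ fun y hy hyW => by
        rw [← gm_res M (basicOpen_le_open f) y hy, hτ, gm_smul, gm_res, hSN y (hfO hy)]
        exact Submodule.smul_mem _ _ (Submodule.subset_span ⟨_, σ.1, σ.2, rfl⟩)
      refine ⟨b + a, f ^ b • τ, ?_, hb b le_rfl⟩
      rw [res_smul, hτ, smul_smul, ← map_mul, ← pow_add]
    choose k τ hτ hτN using hlift
    haveI := hS.to_subtype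
    refine ⟨f, Set.range τ, Set.finite_range _, hxf, fun y hy => ?_, ?_⟩
    · rw [hSN y (hfO hy), gen, Submodule.span_le]
      rintro _ ⟨_, σ, hσ, rfl⟩
      have h1 : gm M y (X.basicOpen_le f hy) (τ ⟨σ, hσ⟩) ∈ gen M V (Set.range τ) y :=
        Submodule.subset_span ⟨_, _, ⟨_, rfl⟩, rfl⟩
      rw [← gm_res M (basicOpen_le_open f) y hy, hτ, gm_smul, gm_res] at h1
      refine (Submodule.smul_mem_iff_of_isUnit _ ?_).1 h1
      rw [resO, map_pow]
      exact ((isUnit_resO V f).pow _).map _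
    · rintro _ ⟨σ, rfl⟩
      exact hτN σ
  choose f S hS hxf hle hmem using key
  obtain ⟨t, ht⟩ := hc.elim_finite_subcover (fun x => (X.basicOpen (f x) : Set X)) (fun x => (X.basicOpen (f x)).2)
    fun x hx => Set.mem_iUnion.2 ⟨⟨x, hx⟩, hxf _⟩
  refine ⟨⋃ x ∈ t, S x, t.finite_toSet.biUnion fun x _ => hS x, fun y hy hyW => le_antisymm ?_ ?_⟩
  · obtain ⟨x, hx, hyx⟩ := Set.mem_iUnion₂.1 (ht ⟨hy, hyW⟩)
    refine (hle x y hyx).trans (Submodule.span_mono ?_)
    rintro z ⟨h, σ, hσ, rfl⟩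
    exact ⟨h, σ, Set.mem_biUnion hx hσ, rfl⟩
  · rw [gen, Submodule.span_le]
    rintro _ ⟨h, σ, hσ, rfl⟩
    obtain ⟨x, hx, hσx⟩ := Set.mem_iUnion₂.1 hσ
    exact hmem x σ hσx y h hyW

end Groth.Agent.H7SubQ
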