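import Groth.Agent.Lib.H7AssPts2
import Groth.Agent.Lib.H7SuppStalk
import Groth.Agent.Lib.H2Depth
import Groth.Prelude.Def_CAlg
import Mathlib

/-! Embedded points and the condition (S1). -/

set_option autoImplicit false
set_option linter.all false
set_option backward.isDefEq.respectTransparency.types false

universe u v

open CategoryTheory CategoryTheory.Limits AlgebraicGeometry TopologicalSpace Opposite

namespace Groth.Agent.H7AssPts
open Groth.Agent H6.ZBasic H6.ZStalk

section algebra

variable (R : Type u) [CommRing R] [IsLocalRing R] (M : Type v) [AddCommGroup M] [Module R M]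

/-- every element is killed by a power of every element of the maximal ideal -/
def AllTorsion : Prop := ∀ r ∈ IsLocalRing.maximalIdeal R, ∀ ξ : M, ∃ n : ℕ, r ^ n • ξ = 0

variable {R M}

lemma supportDim_le_zero_iff [Module.Finite R M] : Module.supportDim R M ≤ 0 ↔ AllTorsion R M := by
  constructor
  · intro h r hr ξ
    rcases subsingleton_or_nontrivial M with hM | hM
    · exact ⟨0, Subsingleton.elim _ _⟩
    · have h0 : Module.supportDim R M = 0 :=
        le_antisymm h (Order.krullDim_nonneg_iff.2 (Set.Nonempty.to_subtype (Module.nonempty_support_iff.2 hM)))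
      have hs := (Module.support_eq_zeroLocus (R := R) (M := M)).symm.trans (support_of_supportDim_eq_zero (R := R) (N := M) h0)
      have : r ∈ (Module.annihilator R M).radical := by
        rw [Ideal.radical_eq_sInf, Submodule.mem_sInf]
        rintro P ⟨hP, hPp⟩
        have : (⟨P, hPp⟩ : PrimeSpectrum R) ∈ PrimeSpectrum.zeroLocus (Module.annihilator R M : Set R) := hP
        rw [hs] at this
        exact this hr
      obtain ⟨n, hn⟩ := this
      exact ⟨n, Module.mem_annihilator.1 hn ξ⟩
  · intro h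
    haveI : Subsingleton (Module.support R M) := ⟨fun P Q => Subtype.ext ?_⟩
    · exact Order.krullDim_nonpos_of_subsingleton
    have hm : ∀ P : PrimeSpectrum R, P ∈ Module.support R M → P.asIdeal = IsLocalRing.maximalIdeal R := by
      intro P hP
      obtain ⟨ξ, hξ⟩ := Module.mem_support_iff'.1 hP
      refine le_antisymm (IsLocalRing.le_maximalIdeal P.isPrime.ne_top) fun r hr => by_contra fun hrP => ?_
      obtain ⟨n, hn⟩ := h r hr ξ
      exact hξ _ (fun h' => hrP (P.isPrime.mem_of_pow_mem n h')) hn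
    exact PrimeSpectrum.ext ((hm _ P.2).trans (hm _ Q.2).symm)

end algebra

variable {X : Scheme.{u}}

theorem s1_cond_iff (F : X.Modules) [IsLocallyNoetherian X] (x : X) [Module.Finite (X.presheaf.stalk x) (F.presheaf.stalk x)] :
    min (1 : WithBot ℕ∞) (Module.supportDim (X.presheaf.stalk x) (F.presheaf.stalk x)) ≤
        ((LocCoh.depth (X.presheaf.stalk x) (F.presheaf.stalk x) : ℕ∞) : WithBot ℕ∞) ↔
      (Curv2.IsWeakAssPoint F x → AllTorsion (X.presheaf.stalk x) (F.presheaf.stalk x)) := by
  constructor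
  · intro h hw
    rw [← supportDim_le_zero_iff]
    obtain ⟨ξ, hne, hξ⟩ := (weak_iff_stalk F x).1 hw
    haveI : Nontrivial (F.presheaf.stalk x) := ⟨ξ, 0, hne⟩
    have hd : LocCoh.depth (X.presheaf.stalk x) (F.presheaf.stalk x) = 0 := by
      by_contra hne0
      have hIM : IsLocalRing.maximalIdeal (X.presheaf.stalk x) • (⊤ : Submodule (X.presheaf.stalk x) (F.presheaf.stalk x)) ≠ ⊤ :=
        (Submodule.top_ne_ideal_smul_of_le_jacobson_annihilator (IsLocalRing.maximalIdeal_le_jacobson _)).symm
      obtain ⟨rs, hlen, hwk, hmem⟩ := (H2Depth.hasReg_iff_le_idealDepth hIM (k := 1)).2 (by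
        rw [Nat.cast_one]
        exact Order.one_le_iff_pos.2 (pos_iff_ne_zero.2 hne0))
      obtain ⟨r, rfl⟩ := List.length_eq_one_iff.1 hlen
      have hreg : IsSMulRegular (F.presheaf.stalk x) r := ((RingTheory.Sequence.isWeaklyRegular_cons_iff _ _ _).1 hwk).1
      exact (IsLocalRing.mem_maximalIdeal r).1 (hmem r (List.mem_singleton_self r)) (isUnit_of_regular hw hreg)
    rw [hd] at h
    by_contra hc
    rw [not_le] at hc
    have h1 : (1 : WithBot ℕ∞) ≤ Module.supportDim (X.presheaf.stalk x) (F.presheaf.stalk x) := by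
      revert hc
      generalize Module.supportDim (X.presheaf.stalk x) (F.presheaf.stalk x) = d
      intro hc
      induction d using WithBot.recBotCoe with
      | bot => exact absurd hc not_lt_bot
      | coe e => exact WithBot.coe_le_coe.2 (Order.one_le_iff_pos.2 (WithBot.coe_lt_coe.1 hc))
    rw [min_eq_left h1] at h
    exact absurd h (by decide)
  · intro h
    by_cases hw : Curv2.IsWeakAssPoint F x
    · exact (min_le_right _ _).trans (((supportDim_le_zero_iff).2 (h hw)).trans (WithBot.coe_le_coe.2 (zero_le (a := LocCoh.depth (X.presheaf.stalk x) (F.presheaf.stalk x)))))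
    · have hne : ∀ p ∈ associatedPrimes (X.presheaf.stalk x) (F.presheaf.stalk x),
          ¬ IsLocalRing.maximalIdeal (X.presheaf.stalk x) ≤ p := fun p hp hle => by
        have := (IsLocalRing.maximalIdeal.isMaximal _).eq_of_le hp.1.ne_top hle
        exact hw ((assPoint_iff F x).1 (show IsAssociatedPrime (IsLocalRing.maximalIdeal (X.presheaf.stalk x)) (F.presheaf.stalk x) by rw [this]; exact hp))
      obtain ⟨r, hr, hreg⟩ := H2Depth.exists_regular_of_forall_not_le _ hne
      refine (min_le_left _ _).trans (WithBot.coe_le_coe.2 ?_)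
      refine (Nat.cast_one (R := ℕ∞)).symm.le.trans ?_
      exact H2Depth.le_idealDepth (H2Depth.HasReg.cons hr hreg (H2Depth.HasReg.zero _))

theorem noEmbedded_iff [IsLocallyNoetherian X] (F : X.Modules) [F.IsQuasicoherent] :
    (∀ x : X, Curv2.IsWeakAssPoint F x → ∀ y : X, Curv2.IsWeakAssPoint F y → y ⤳ x → y = x) ↔
      ∀ x : X, Curv2.IsWeakAssPoint F x → AllTorsion (X.presheaf.stalk x) (F.presheaf.stalk x) := by
  constructor
  · intro h x hx r hr ξ
    by_cases hξ : ξ = 0
    · exact ⟨0, by rw [hξ, smul_zero]⟩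
    obtain ⟨V, hV, hxV, -⟩ := exists_isAffineOpen_mem_and_subset (X := X) (x := x) (U := ⊤) trivial
    obtain ⟨u, s, hu, hus⟩ := exists_eq_smul (F := F) hV hxV ξ
    have hs : gM F hxV s ≠ 0 := fun h0 => hξ ((isUnit_gO hxV hu).smul_eq_zero.1 (hus.trans h0))
    obtain ⟨q, hq, hqp, hm⟩ := exists_minAnn_le (hV.primeIdealOf ⟨x, hxV⟩).isPrime s fun v hv => annihilator_le hV hxV hs hv
    obtain ⟨y, hy, rfl⟩ := exists_point hV q hq
    have hyx : y = x := h x hx y ((weak_iff hV hy).2 ⟨s, hm⟩) ((specializes_iff hV hy hxV).2 hqp)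
    subst hyx
    set p := (hV.primeIdealOf ⟨y, hxV⟩).asIdeal with hp
    letI : Algebra Γ(X, V) (X.presheaf.stalk y) := (X.presheaf.germ V y hxV).hom.toAlgebra
    haveI : IsLocalization.AtPrime (X.presheaf.stalk y) p := hV.isLocalization_stalk ⟨y, hxV⟩
    obtain ⟨⟨c, v⟩, hcv⟩ := IsLocalization.surj p.primeCompl r
    have hv : IsUnit (gO hxV v.1) := IsLocalization.map_units (X.presheaf.stalk y) v
    have hcr : gO hxV c = r * gO hxV v.1 := hcv.symm
    have hc : c ∈ p := by
      rw [hp, mem_primeIdeal_iff hV hxV, X.mem_basicOpen c y hxV]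
      intro hcu
      exact (IsLocalRing.mem_maximalIdeal r).1 hr (isUnit_of_mul_isUnit_left (show IsUnit (r * gO hxV v.1) from hcr ▸ hcu))
    obtain ⟨n, w, hw, h0⟩ := hm.2 c hc
    have hgw : gM F hxV (c ^ n • s) = 0 := (gM_eq_zero_iff hV hxV _).2 ⟨w, hw, by rw [← mul_smul, h0]⟩
    rw [gM_smul, map_pow, hcr, mul_pow, mul_comm, mul_smul] at hgw
    have h2 := (hv.pow n).smul_eq_zero.1 hgw
    rw [← hus, smul_comm] at h2
    exact ⟨n, (isUnit_gO hxV hu).smul_eq_zero.1 h2⟩
  · intro h x hx y hy hyx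
    obtain ⟨V, hV, hxV, -⟩ := exists_isAffineOpen_mem_and_subset (X := X) (x := x) (U := ⊤) trivial
    have hyV : y ∈ V := hyx.mem_open V.2 hxV
    obtain ⟨s, hs⟩ := (weak_iff hV hyV).1 hy
    refine H6.AssPts.point_eq hV hyV hxV (le_antisymm ((specializes_iff hV hyV hxV).1 hyx) fun a ha => ?_)
    obtain ⟨n, hn⟩ := h x hx (gO hxV a) ((IsLocalRing.mem_maximalIdeal _).2
      (fun hu => (mem_primeIdeal_iff hV hxV).1 ha ((X.mem_basicOpen a x hxV).2 hu))) (gM F hxV s)
    rw [← map_pow, ← gM_smul] at hn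
    obtain ⟨w, hw, h0⟩ := (gM_eq_zero_iff hV hxV _).1 hn
    have hq := (hV.primeIdealOf ⟨y, hyV⟩).isPrime
    exact hq.mem_of_pow_mem n ((hq.mem_or_mem (hs.1 _ (by rw [mul_smul, h0]))).resolve_left
      fun h' => hw ((specializes_iff hV hyV hxV).1 hyx h'))

end Groth.Agent.H7AssPts
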