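import Mathlib

/-! Families of maps exhibiting coproducts, and triangles. -/

universe v u w
open CategoryTheory Limits Pretriangulated

namespace Groth.Agent.H7BijTri

section
variable {C : Type u} [Category.{v} C] {ι : Type w}

/-- `a` exhibits `Y` as the coproduct of `X` -/
def Bij {X : ι → C} {Y : C} (a : ∀ i, X i ⟶ Y) : Prop :=
  ∀ Z : C, Function.Bijective (fun (h : Y ⟶ Z) i => a i ≫ h)

lemma bij_iff {X : ι → C} {Y : C} (a : ∀ i, X i ⟶ Y) : Bij a ↔ Nonempty (IsColimit (Cofan.mk Y a)) := by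
  refine ⟨fun h => ⟨Cofan.IsColimit.mk _ (fun s => ((h s.pt).2 fun i => s.inj i).choose)
    (fun s i => congrFun ((h s.pt).2 fun i => s.inj i).choose_spec i) fun s m hm => ?_⟩, fun ⟨h⟩ Z => ?_⟩
  · exact (h s.pt).1 ((funext hm).trans ((h s.pt).2 fun i => s.inj i).choose_spec.symm)
  · exact ⟨fun p q hpq => Cofan.IsColimit.hom_ext h p q (fun i => congrFun hpq i),
      fun f => ⟨Cofan.IsColimit.desc h f, funext fun i => Cofan.IsColimit.fac h f i⟩⟩

lemma bij_of_iso {X X' : ι → C} {Y Y' : C} {a : ∀ i, X i ⟶ Y} {a' : ∀ i, X' i ⟶ Y'} (e : ∀ i, X i ≅ X' i) (eY : Y ≅ Y')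
    (comm : ∀ i, (e i).hom ≫ a' i = a i ≫ eY.hom) (h : Bij a) : Bij a' := by
  intro Z
  refine ⟨fun p q hpq => ?_, fun f => ?_⟩
  · have : eY.hom ≫ p = eY.hom ≫ q := (h Z).1 (funext fun i => by
      simp only [← reassoc_of% (comm i)]; exact congrArg ((e i).hom ≫ ·) (congrFun hpq i))
    exact (cancel_epi eY.hom).1 this
  · obtain ⟨g, hg⟩ := (h Z).2 fun i => (e i).hom ≫ f i
    refine ⟨eY.inv ≫ g, funext fun i => ?_⟩
    rw [← cancel_epi (e i).hom]
    show (e i).hom ≫ a' i ≫ eY.inv ≫ g = _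
    rw [reassoc_of% (comm i), Iso.hom_inv_id_assoc]
    exact congrFun hg i

lemma bij_of_natIso {D : Type*} [Category D] {F G : D ⥤ C} (e : F ≅ G) {X : ι → D} {Y : D} (a : ∀ i, X i ⟶ Y)
    (h : Bij fun i => F.map (a i)) : Bij fun i => G.map (a i) :=
  bij_of_iso (fun i => e.app (X i)) (e.app Y) (fun i => (e.hom.naturality (a i)).symm) h

lemma bij_map {D : Type*} [Category D] (F : D ⥤ C) {X : ι → D} {Y : D} (a : ∀ i, X i ⟶ Y)
    [PreservesColimit (Discrete.functor X) F] (h : Bij a) : Bij fun i => F.map (a i) :=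
  (bij_iff _).2 ⟨isColimitCofanMkObjOfIsColimit F _ _ ((bij_iff a).1 h).some⟩

end

variable {C : Type u} [Category.{v} C] [HasZeroObject C] [HasShift C ℤ] [Preadditive C]
  [∀ n : ℤ, (shiftFunctor C n).Additive] [Pretriangulated C] {ι : Type w}

lemma bij_shift {X : ι → C} {Y : C} {a : ∀ i, X i ⟶ Y} (h : Bij a) (n : ℤ) : Bij fun i => (a i)⟦n⟧' :=
  bij_map (shiftFunctor C n) a h

/-- two out of three -/
theorem bij₂ {R : ι → Triangle C} {R' : Triangle C} (hR : ∀ i, R i ∈ distTriang C) (hR' : R' ∈ distTriang C)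
    (b : ∀ i, R i ⟶ R') (k₁ : Bij fun i => (b i).hom₁) (k₃ : Bij fun i => (b i).hom₃) : Bij fun i => (b i).hom₂ := by
  let Q := R'.invRotate
  have hQ : Q ∈ distTriang C := inv_rot_of_distTriang _ hR'
  have hQi : ∀ i, (R i).invRotate ∈ distTriang C := fun i => inv_rot_of_distTriang _ (hR i)
  let c : ∀ i, (R i).invRotate ⟶ Q := fun i => (invRotate C).map (b i)
  have m₁ : Bij fun i => (c i).hom₁ := bij_shift k₃ (-1)
  intro Z
  refine ⟨fun p q hpq => ?_, fun f => ?_⟩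
  · suffices h : ∀ g : R'.obj₂ ⟶ Z, (∀ i, (b i).hom₂ ≫ g = 0) → g = 0 from
      sub_eq_zero.1 (h (p - q) fun i => by
        rw [Preadditive.comp_sub, sub_eq_zero]; exact congrFun hpq i)
    intro g hg
    have h1 : R'.mor₁ ≫ g = 0 := (k₁ Z).1 (funext fun i => by
      show (b i).hom₁ ≫ R'.mor₁ ≫ g = (b i).hom₁ ≫ 0
      rw [← reassoc_of% (b i).comm₁, hg i, comp_zero, comp_zero])
    obtain ⟨r, rfl⟩ := Triangle.yoneda_exact₂ R' hR' g h1
    have h2 : ∀ i, ∃ s : (R i).obj₁⟦(1 : ℤ)⟧ ⟶ Z, (b i).hom₃ ≫ r = (R i).mor₃ ≫ s := fun i =>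
      Triangle.yoneda_exact₃ (R i) (hR i) _ (by rw [reassoc_of% (b i).comm₂]; exact hg i)
    choose s hs using h2
    obtain ⟨t, ht⟩ := (bij_shift k₁ 1 Z).2 s
    have h3 : r = R'.mor₃ ≫ t := (k₃ Z).1 (funext fun i => by
      show (b i).hom₃ ≫ r = (b i).hom₃ ≫ R'.mor₃ ≫ t
      rw [hs i, ← congrFun ht i, reassoc_of% (b i).comm₃.symm])
    rw [h3, ← Category.assoc, comp_distTriang_mor_zero₂₃ R' hR', zero_comp]
  · obtain ⟨k, hk⟩ := (k₁ Z).2 fun i => (R i).mor₁ ≫ f i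
    have h1 : Q.mor₁ ≫ k = 0 := (m₁ Z).1 (funext fun i => by
      show (c i).hom₁ ≫ Q.mor₁ ≫ k = (c i).hom₁ ≫ 0
      rw [← reassoc_of% (c i).comm₁, comp_zero]
      refine (congrArg ((R i).invRotate.mor₁ ≫ ·) (congrFun hk i)).trans ?_
      show (R i).invRotate.mor₁ ≫ (R i).invRotate.mor₂ ≫ f i = 0
      rw [← Category.assoc, comp_distTriang_mor_zero₁₂ _ (hQi i), zero_comp])
    obtain ⟨g, hg⟩ : ∃ g : R'.obj₂ ⟶ Z, k = R'.mor₁ ≫ g := Triangle.yoneda_exact₂ Q hQ k h1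
    have h2 : ∀ i, ∃ r : (R i).obj₃ ⟶ Z, f i - (b i).hom₂ ≫ g = (R i).mor₂ ≫ r := fun i =>
      Triangle.yoneda_exact₂ (R i) (hR i) _ (by
        rw [Preadditive.comp_sub, reassoc_of% (b i).comm₁, sub_eq_zero]
        exact (congrFun hk i).symm.trans (congrArg ((b i).hom₁ ≫ ·) hg))
    choose r hr using h2
    obtain ⟨t, ht⟩ := (k₃ Z).2 r
    refine ⟨g + R'.mor₂ ≫ t, funext fun i => ?_⟩
    show (b i).hom₂ ≫ (g + R'.mor₂ ≫ t) = f i
    rw [Preadditive.comp_add, ← reassoc_of% (b i).comm₂, show (b i).hom₃ ≫ t = r i from congrFun ht i, ← hr i,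
      add_sub_cancel]

theorem bij₁ {T : ι → Triangle C} {T' : Triangle C} (hT : ∀ i, T i ∈ distTriang C) (hT' : T' ∈ distTriang C)
    (a : ∀ i, T i ⟶ T') (h₂ : Bij fun i => (a i).hom₂) (h₃ : Bij fun i => (a i).hom₃) : Bij fun i => (a i).hom₁ :=
  bij₂ (fun i => inv_rot_of_distTriang _ (hT i)) (inv_rot_of_distTriang _ hT') (fun i => (invRotate C).map (a i))
    (bij_shift h₃ (-1)) h₂

end Groth.Agent.H7BijTri
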