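import Mathlib

/-! Tensor products with central simple algebras: ideals, simplicity, centre. -/

set_option autoImplicit false

open scoped TensorProduct

universe u v w

namespace Groth.Agent.H7CSA

section
variable {k : Type u} [Field k] {A : Type v} [Ring A] [Algebra k A]
  {B : Type w} [Ring B] [Algebra k B] [Algebra.IsCentral k B] [IsSimpleRing B]

/-- If a two-sided ideal of `A ⊗ B` meets the elements `Σ vᵢ ⊗ bᵢ` nontrivially, it contains
a nontrivial `(Σ cᵢ vᵢ) ⊗ 1`. -/
lemma exists_scalar_family {ι : Type*} (v : ι → A) (I : TwoSidedIdeal (A ⊗[k] B))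
    (b : ι →₀ B) (hb : b ≠ 0) (hbI : (b.sum fun i x => v i ⊗ₜ[k] x) ∈ I) :
    ∃ c : ι →₀ k, c ≠ 0 ∧ (c.sum fun i x => x • v i) ⊗ₜ[k] (1 : B) ∈ I := by
  classical
  let φ : (ι →₀ B) →ₗ[k] A ⊗[k] B := Finsupp.lsum k fun i => TensorProduct.mk k A B (v i)
  have hφ : ∀ b : ι →₀ B, φ b = b.sum fun i x => v i ⊗ₜ[k] x := fun b => rfl
  induction hn : b.support.card using Nat.strong_induction_on generalizing b with
  | _ n IH =>
    subst hn
    obtain ⟨i₀, hi₀⟩ := Finsupp.support_nonempty_iff.mpr hb
    have hl : ∀ (c : B) (y : ι →₀ B),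
        φ (y.mapRange (c * ·) (mul_zero c)) = ((1 : A) ⊗ₜ[k] c) * φ y := by
      intro c y
      induction y using Finsupp.induction_linear with
      | zero => simp
      | single i x => rw [Finsupp.mapRange_single]; simp [φ, -Finsupp.single_mul]
      | add p q hp hq => rw [Finsupp.mapRange_add (mul_add c), map_add, map_add, hp, hq, mul_add]
    have hr : ∀ (c : B) (y : ι →₀ B),
        φ (y.mapRange (· * c) (zero_mul c)) = φ y * ((1 : A) ⊗ₜ[k] c) := by
      intro c y
      induction y using Finsupp.induction_linear with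
      | zero => simp
      | single i x => rw [Finsupp.mapRange_single]; simp [φ, -Finsupp.single_mul]
      | add p q hp hq =>
        rw [Finsupp.mapRange_add (fun a b => add_mul a b c), map_add, map_add, hp, hq, add_mul]
    let S : Set B := {c | ∃ y : ι →₀ B, y.support ⊆ b.support ∧ φ y ∈ I ∧ y i₀ = c}
    let J : TwoSidedIdeal B := TwoSidedIdeal.mk' S
      ⟨0, by simp, by simp, rfl⟩
      (by rintro x y ⟨p, hp1, hp2, rfl⟩ ⟨q, hq1, hq2, rfl⟩
          exact ⟨p + q, Finsupp.support_add.trans (Finset.union_subset hp1 hq1),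
            by rw [map_add]; exact I.add_mem hp2 hq2, rfl⟩)
      (by rintro x ⟨p, hp1, hp2, rfl⟩
          exact ⟨-p, by rwa [Finsupp.support_neg], by rw [map_neg]; exact I.neg_mem hp2, rfl⟩)
      (by rintro x y ⟨p, hp1, hp2, rfl⟩
          exact ⟨p.mapRange (x * ·) (mul_zero x), Finsupp.support_mapRange.trans hp1,
            by rw [hl]; exact I.mul_mem_left _ _ hp2, by simp⟩)
      (by rintro x y ⟨p, hp1, hp2, rfl⟩
          exact ⟨p.mapRange (· * y) (zero_mul y), Finsupp.support_mapRange.trans hp1,
            by rw [hr]; exact I.mul_mem_right _ _ hp2, by simp⟩)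
    have hJ : b i₀ ∈ J := (TwoSidedIdeal.mem_mk' _ _ _ _ _ _ _).mpr ⟨b, le_rfl, hbI, rfl⟩
    obtain ⟨y, hy1, hy2, hy3⟩ := (TwoSidedIdeal.mem_mk' _ _ _ _ _ _ _).mp
      (IsSimpleRing.one_mem_of_ne_zero_mem J (Finsupp.mem_support_iff.mp hi₀) hJ)
    by_cases hcen : ∀ i, y i ∈ Subalgebra.center k B
    · have hk : ∀ i, ∃ t : k, algebraMap k B t = y i := fun i =>
        Algebra.mem_bot.mp (Algebra.IsCentral.out (hcen i))
      choose t ht using hk
      refine ⟨Finsupp.onFinset y.support t fun i hi => ?_, ?_, ?_⟩
      · rw [Finsupp.mem_support_iff, ← ht i]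
        exact fun h => hi ((algebraMap k B).injective (h.trans (map_zero _).symm))
      · intro h
        have := ht i₀
        rw [hy3, show t i₀ = 0 by simpa using DFunLike.congr_fun h i₀, map_zero] at this
        exact zero_ne_one this
      · rw [Finsupp.onFinset_sum _ (fun i => by simp), TensorProduct.sum_tmul]
        rw [hφ, Finsupp.sum] at hy2
        convert hy2 using 2 with i
        rw [← ht i, Algebra.algebraMap_eq_smul_one, TensorProduct.tmul_smul, TensorProduct.smul_tmul']
    · push Not at hcen
      obtain ⟨i₁, hi₁⟩ := hcen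
      rw [Subalgebra.mem_center_iff] at hi₁
      push Not at hi₁
      obtain ⟨c, hc⟩ := hi₁
      set z := y.mapRange (c * ·) (mul_zero c) - y.mapRange (· * c) (zero_mul c) with hz
      have hz0 : z ≠ 0 := by
        intro h
        apply hc
        have := DFunLike.congr_fun h i₁
        simpa [hz, sub_eq_zero] using this
      have hzI : φ z ∈ I := by
        rw [hz, map_sub, hl, hr]
        exact I.sub_mem (I.mul_mem_left _ _ hy2) (I.mul_mem_right _ _ hy2)
      have hzs : z.support ⊆ b.support.erase i₀ := by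
        intro i hi
        rw [Finset.mem_erase]
        rw [Finsupp.mem_support_iff, hz] at hi
        refine ⟨?_, hy1 ?_⟩
        · rintro rfl; simp [hy3] at hi
        · rw [Finsupp.mem_support_iff]; intro h; simp [h] at hi
      exact IH z.support.card
        ((Finset.card_le_card hzs).trans_lt (Finset.card_erase_lt_of_mem hi₀)) z hz0 hzI rfl

variable (k A B) in
theorem isSimpleRing_tensor [IsSimpleRing A] : IsSimpleRing (A ⊗[k] B) := by
  classical
  have : Nontrivial (A ⊗[k] B) :=
    (Algebra.TensorProduct.includeLeft_injective (R := k) (S := k) (A := A) (B := B)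
      (algebraMap k B).injective).nontrivial
  refine .of_eq_bot_or_eq_top fun I => or_iff_not_imp_left.mpr fun hI => ?_
  obtain ⟨x, hx, hx0⟩ := SetLike.exists_of_lt (bot_lt_iff_ne_bot.mpr hI)
  let e := Module.Basis.ofVectorSpace k A
  set b := TensorProduct.equivFinsuppOfBasisLeft (N := B) e x with hb
  have hx' : (b.sum fun i y => e i ⊗ₜ[k] y) = x := by
    have := TensorProduct.equivFinsuppOfBasisLeft_symm_apply (N := B) e b
    rw [← this, hb, LinearEquiv.symm_apply_apply]
  obtain ⟨c, hc, hcI⟩ := exists_scalar_family (⇑e) I b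
    (fun h => hx0 (by rw [TwoSidedIdeal.mem_bot, ← hx', h, Finsupp.sum_zero_index])) (hx'.symm ▸ hx)
  rw [← TwoSidedIdeal.one_mem_iff, Algebra.TensorProduct.one_def]
  let J : TwoSidedIdeal A := TwoSidedIdeal.comap
    (Algebra.TensorProduct.includeLeftRingHom (R := k) (A := A) (B := B)) I
  have hmem : (c.sum fun i x => x • e i) ∈ J := (TwoSidedIdeal.mem_comap (f := Algebra.TensorProduct.includeLeftRingHom (R := k) (A := A) (B := B))).mpr hcI
  refine (TwoSidedIdeal.mem_comap (f := Algebra.TensorProduct.includeLeftRingHom (R := k) (A := A) (B := B))).mp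
    (IsSimpleRing.one_mem_of_ne_zero_mem J ?_ hmem)
  intro h0
  apply hc
  rw [← Finsupp.linearCombination_apply] at h0
  exact linearIndependent_iff.mp e.linearIndependent c h0

end

/-- Base change of a central algebra along a field extension is central. -/
theorem isCentral_baseChange (k : Type u) [Field k] (L : Type v) [Field L] [Algebra k L]
    (A : Type w) [Ring A] [Algebra k A] [Algebra.IsCentral k A] :
    Algebra.IsCentral L (L ⊗[k] A) := by
  classical
  refine ⟨fun z hz => ?_⟩
  rw [Subalgebra.mem_center_iff] at hz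
  let e := Module.Basis.ofVectorSpace k L
  set b := TensorProduct.equivFinsuppOfBasisLeft (N := A) e z with hb
  have hzsum : (b.sum fun i y => e i ⊗ₜ[k] y) = z := by
    have := TensorProduct.equivFinsuppOfBasisLeft_symm_apply (N := A) e b
    rw [← this, hb, LinearEquiv.symm_apply_apply]
  have key : ∀ i, ∃ t : k, algebraMap k A t = b i := fun i => by
    refine Algebra.mem_bot.mp (Algebra.IsCentral.out (Subalgebra.mem_center_iff.mpr fun c => ?_))
    have h1 := hz ((1 : L) ⊗ₜ[k] c)
    rw [← hzsum, Finsupp.sum, Finset.mul_sum, Finset.sum_mul] at h1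
    simp only [Algebra.TensorProduct.tmul_mul_tmul, one_mul, mul_one] at h1
    have h2 := congrArg (TensorProduct.equivFinsuppOfBasisLeft (N := A) e) h1
    have h3 := DFunLike.congr_fun h2 i
    simp only [map_sum, Finsupp.finset_sum_apply, TensorProduct.equivFinsuppOfBasisLeft_apply_tmul_apply,
      Module.Basis.repr_self, Finsupp.single_apply, ite_smul, one_smul, zero_smul,
      Finset.sum_ite_eq'] at h3
    by_cases hi : i ∈ b.support
    · simpa [hi] using h3
    · rw [Finsupp.notMem_support_iff.mp hi]; simp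
  choose t ht using key
  refine Algebra.mem_bot.mpr ⟨b.support.sum fun i => t i • e i, ?_⟩
  rw [Algebra.TensorProduct.algebraMap_apply, Algebra.algebraMap_self_apply, ← hzsum, Finsupp.sum,
    TensorProduct.sum_tmul]
  refine Finset.sum_congr rfl fun i _ => ?_
  rw [← ht i, Algebra.algebraMap_eq_smul_one, TensorProduct.tmul_smul, TensorProduct.smul_tmul']

theorem isSimpleRing_baseChange (k : Type u) [Field k] (L : Type v) [Field L] [Algebra k L]
    (A : Type w) [Ring A] [Algebra k A] [Algebra.IsCentral k A] [IsSimpleRing A] :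
    IsSimpleRing (L ⊗[k] A) :=
  isSimpleRing_tensor k L A

end Groth.Agent.H7CSA
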