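import Groth.Agent.Lib.H7RelCartier
import Mathlib

/-! Base change of relative effective Cartier divisors. -/

set_option autoImplicit false

universe u

open CategoryTheory CategoryTheory.Limits AlgebraicGeometry TopologicalSpace TensorProduct

namespace Groth.Agent.H7CartierBC
open Groth.Agent

theorem nzd_pushout {A B C P : CommRingCat.{u}} {f : A ⟶ B} {g : A ⟶ C} {iB : B ⟶ P} {iC : C ⟶ P}
    (H : IsPushout f g iB iC) {a : B} (ha : a ∈ nonZeroDivisors B)
    (hflat : ((Ideal.Quotient.mk (Ideal.span {a})).comp f.hom).Flat) : iB.hom a ∈ nonZeroDivisors P := by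
  algebraize [f.hom, g.hom, iB.hom, iC.hom, iB.hom.comp f.hom]
  haveI : IsScalarTower A C P := .of_algebraMap_eq' (congrArg CommRingCat.Hom.hom H.w)
  have hp : Algebra.IsPushout A B C P := CommRingCat.isPushout_iff_isPushout.1 H
  haveI : Module.Flat A (B ⧸ Ideal.span {a}) := by
    have : (algebraMap A (B ⧸ Ideal.span {a})).Flat := hflat
    exact RingHom.flat_algebraMap_iff.1 this
  let e := Algebra.IsPushout.equiv A B C P
  have hinj : ∀ y : B ⊗[A] C, a • y = 0 → y = 0 := by
    intro y hy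
    let τ := TensorProduct.comm A C B
    have h3 : (LinearMap.mulLeft A a).lTensor C (τ.symm y) = τ.symm (a • y) := by
      clear hy
      induction y using TensorProduct.induction_on with
      | zero => simp
      | tmul b c => simp [τ, TensorProduct.smul_tmul']
      | add z w hz hw => simp [map_add, smul_add, hz, hw]
    rw [hy, map_zero] at h3
    simpa using congrArg τ (H7RelCartier.lTensor_mul_injective ha C (h3.trans (map_zero _).symm))
  refine mem_nonZeroDivisors_iff_right.2 fun z hz => ?_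
  refine e.symm.injective ((hinj _ ?_).trans (map_zero e.symm).symm)
  rw [← map_smul, show a • z = iB.hom a * z from Algebra.smul_def a z, mul_comm, hz, map_zero]

theorem flat_quotient {X S : Scheme.{u}} (f : X ⟶ S) (D : X.IdealSheafData) [Flat (D.subschemeι ≫ f)]
    (W : S.affineOpens) (U : X.affineOpens) (e : U.1 ≤ f ⁻¹ᵁ W.1) {a : Γ(X, U.1)} (hI : D.ideal U = Ideal.span {a}) :
    ((Ideal.Quotient.mk (Ideal.span {a})).comp (f.appLE W.1 U.1 e).hom).Flat := by
  haveI : IsAffineHom D.subschemeι := inferInstance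
  let V := D.subschemeι ⁻¹ᵁ U.1
  have e' : V ≤ (D.subschemeι ≫ f) ⁻¹ᵁ W.1 := fun y hy => e hy
  have h1 := HasRingHomProperty.appLE (P := @Flat) (D.subschemeι ≫ f) ‹_› W ⟨V, U.2.preimage D.subschemeι⟩ e'
  rw [← Scheme.Hom.appLE_comp_appLE D.subschemeι f W.1 U.1 V e le_rfl, CommRingCat.hom_comp,
    Scheme.Hom.appLE_eq_app] at h1
  let φ := (D.subschemeι.app U.1).hom
  have hker : Ideal.span {a} = RingHom.ker φ := hI.symm.trans (D.ker_subschemeι_app U).symm
  let q : (Γ(X, U.1) ⧸ Ideal.span {a}) ≃+* Γ(D.subscheme, V) :=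
    (Ideal.quotEquivOfEq hker).trans (RingHom.quotientKerEquivOfSurjective (D.subschemeι_app_surjective U))
  have h2 := h1.comp (RingHom.Flat.of_bijective (f := q.symm.toRingHom) q.symm.bijective)
  convert h2 using 1
  refine RingHom.ext fun r => q.injective ?_
  simp [q, φ]

theorem effCartier_baseChange {X S S' : Scheme.{u}} (f : X ⟶ S) (D : X.IdealSheafData) (hD : BlowUp.IsEffCartierIdeal D)
    [Flat (D.subschemeι ≫ f)] (g : S' ⟶ S) :
    BlowUp.IsEffCartierIdeal (D.comap (pullback.fst f g)) := by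
  intro p
  obtain ⟨W, hW, hxW, -⟩ := exists_isAffineOpen_mem_and_subset (X := S) (x := f (pullback.fst f g p)) (U := ⊤) trivial
  obtain ⟨U, hxU, hUW, a, ha, hI⟩ := H7Cartier.exists_principal_le hD (pullback.fst f g p) (f ⁻¹ᵁ W) hxW
  have hgW : pullback.snd f g p ∈ g ⁻¹ᵁ W := by
    show (pullback.snd f g ≫ g) p ∈ W
    rw [← pullback.condition]
    exact hxW
  obtain ⟨W', hW', hpW', hW'W⟩ := exists_isAffineOpen_mem_and_subset (X := S') (x := pullback.snd f g p) (U := g ⁻¹ᵁ W) hgW
  let O := pullback.fst f g ⁻¹ᵁ U.1 ⊓ pullback.snd f g ⁻¹ᵁ W'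
  have H : IsPullback (pullback.fst f g) (pullback.snd f g) f g := IsPullback.of_hasPullback f g
  have hiso := isIso_pushoutSection_of_isAffineOpen H hW'W hUW (rfl : O = _) hW hW' U.2
  have hP := (isIso_pushoutSection_iff H hW'W hUW (rfl : O = _)).1 hiso
  have hO : IsAffineOpen O := by
    haveI : IsAffine (W : Scheme.{u}) := hW
    haveI : IsAffine (W' : Scheme.{u}) := hW'
    haveI : IsAffine (U.1 : Scheme.{u}) := U.2
    exact .of_isIso (Scheme.Hom.isPullback_resLE H hW'W hUW (rfl : O = _)).isoPullback.hom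
  refine ⟨⟨O, hO⟩, ⟨hxU, hpW'⟩, ((pullback.fst f g).appLE U.1 O inf_le_left).hom a,
    nzd_pushout hP ha (flat_quotient f D ⟨W, hW⟩ U hUW hI), ?_⟩
  rw [H7Cartier.ideal_comap D (pullback.fst f g) ⟨O, hO⟩ U inf_le_left, hI, Ideal.map_span, Set.image_singleton]

end Groth.Agent.H7CartierBC
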