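import Groth.Agent.Lib.H7Cartier
import Mathlib

/-! Complement of an effective Cartier divisor. -/

universe u

open CategoryTheory CategoryTheory.Limits AlgebraicGeometry TopologicalSpace Opposite

namespace Groth.Agent.H7CartierCompl
open Groth.Agent H7Cartier

variable {S : Scheme.{u}} (D : S.IdealSheafData) (hD : BlowUp.IsEffCartierIdeal D)
include hD

theorem isAffineHom_compl : IsAffineHom (Scheme.Opens.ι (X := S) D.support.compl) := by
  refine isAffineHom_of_forall_exists_isAffineOpen _ fun x => ?_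
  obtain ⟨U, hxU, a, ha, hI⟩ := hD x
  refine ⟨U.1, hxU, U.2, ?_⟩
  rw [← (Scheme.Opens.ι (X := S) D.support.compl).isAffineOpen_iff_of_isOpenImmersion,
    Scheme.Hom.image_preimage_eq_opensRange_inf, Scheme.Opens.opensRange_ι]
  have : (D.support.compl : S.Opens) ⊓ U.1 = S.basicOpen a := by
    ext y
    constructor
    · rintro ⟨hy, hyU⟩
      obtain ⟨b, hb, hyb⟩ := exists_mem_basicOpen_of_notMem_support U hyU hy
      rw [hI, Ideal.mem_span_singleton] at hb
      obtain ⟨c, rfl⟩ := hb
      rw [Scheme.basicOpen_mul] at hyb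
      exact hyb.1
    · intro hy
      exact ⟨basicOpen_disjoint_support U (hI ▸ Ideal.mem_span_singleton_self a) hy, S.basicOpen_le a hy⟩
  rw [this]
  exact U.2.basicOpen a

theorem dominant_compl : IsSchemeTheoreticallyDominant (Scheme.Opens.ι (X := S) D.support.compl) := by
  haveI := isAffineHom_compl D hD
  refine ⟨Scheme.IdealSheafData.ext (funext fun V => ?_)⟩
  rw [Scheme.Hom.ker_apply, Scheme.IdealSheafData.ideal_bot, Pi.bot_apply, eq_bot_iff]
  intro t ht
  rw [RingHom.mem_ker] at ht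
  refine (Submodule.mem_bot _).2 ?_
  choose U hxU hUV a ha hI using fun x : V.1 => exists_principal_le hD x.1 V.1 x.2
  refine TopCat.Sheaf.eq_of_locally_eq' S.sheaf (fun x : V.1 => (U x).1) V.1
    (fun x => homOfLE (hUV x))
    (fun x hx => Opens.mem_iSup.2 ⟨⟨x, hx⟩, hxU ⟨x, hx⟩⟩) t 0 fun x => ?_
  refine Eq.trans ?_ (map_zero (S.presheaf.map (homOfLE (hUV x)).op).hom).symm
  refine eq_zero_of_restrict_eq_zero (ha x) ?_
  have hle : S.basicOpen (a x) ≤ Scheme.Opens.ι (X := S) D.support.compl ''ᵁ (Scheme.Opens.ι (X := S) D.support.compl ⁻¹ᵁ V.1) := by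
    rw [Scheme.Hom.image_preimage_eq_opensRange_inf, Scheme.Opens.opensRange_ι]
    exact fun y hy => ⟨basicOpen_disjoint_support (U x) (by rw [hI]; exact Ideal.mem_span_singleton_self _) hy, hUV x (S.basicOpen_le _ hy)⟩
  have h1 := congrArg (S.presheaf.map (homOfLE hle).op).hom
    ((congrArg (fun φ : Γ(S, V.1) ⟶ _ => φ.hom t) (Scheme.Opens.ι_app (U := (D.support.compl : S.Opens)) V.1)).symm.trans ht)
  have h2 := h1.trans (map_zero _)
  refine Eq.trans ?_ h2
  show (S.presheaf.map _ ≫ S.presheaf.map _).hom t = (S.presheaf.map _ ≫ S.presheaf.map _).hom t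
  rw [← Functor.map_comp, ← Functor.map_comp]
  rfl

end Groth.Agent.H7CartierCompl
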