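import Groth.Agent.Lib.H7Cartier
import Groth.Agent.Lib.H8TopDim
import Mathlib

/-! An effective Cartier divisor has smaller local dimension. -/

set_option autoImplicit false

universe u

open CategoryTheory AlgebraicGeometry TopologicalSpace

namespace Groth.Agent.H7CartierDim

attribute [local instance] specializationOrder in
theorem localDim_lt (S : Scheme.{u}) (I : S.IdealSheafData) (hI : BlowUp.IsEffCartierIdeal I) (d : I.subscheme)
    (hfin : FlatMor.localDim S (I.subschemeι d) ≠ ⊤) :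
    FlatMor.localDim I.subscheme d < FlatMor.localDim S (I.subschemeι d) := by
  obtain ⟨U₀, hdU, hU⟩ := H8TopDim.exists_localDim_eq (X := S) (I.subschemeι d)
  obtain ⟨U, rfl⟩ : ∃ U : S.Opens, U = U₀ := ⟨U₀, rfl⟩
  let e := I.subschemeι
  refine lt_of_le_of_lt (iInf_le _ ⟨e ⁻¹ᵁ U, hdU⟩) ?_
  rw [hU] at hfin ⊢
  change topologicalKrullDim ↥(e ⁻¹ᵁ U).toScheme < topologicalKrullDim ↥U.toScheme
  change topologicalKrullDim ↥U.toScheme ≠ ⊤ at hfin
  have eU : topologicalKrullDim ↥U.toScheme = Order.krullDim ↥U.toScheme :=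
    Order.krullDim_eq_of_orderIso irreducibleSetEquivPoints
  have eD : topologicalKrullDim ↥(e ⁻¹ᵁ U).toScheme = Order.krullDim ↥(e ⁻¹ᵁ U).toScheme :=
    Order.krullDim_eq_of_orderIso irreducibleSetEquivPoints
  rw [eU] at hfin ⊢
  rw [eD]
  let g : ↥(e ⁻¹ᵁ U).toScheme → ↥U.toScheme := fun p => ⟨e p.1, p.2⟩
  have hmono : StrictMono g := by
    intro a b hab
    have h1 : g a ≤ g b := by
      have h : b ⤳ a := hab.le
      exact (subtype_specializes_iff (x := g b) (y := g a)).2 ((h.map continuous_subtype_val).map e.continuous)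
    refine lt_of_le_of_ne h1 fun he => hab.ne (Subtype.ext ?_)
    exact e.isEmbedding.injective (congrArg (fun z : ↥U.toScheme => (z.1 : S)) he)
  have hext : ∀ p : ↥(e ⁻¹ᵁ U).toScheme, ∃ y : ↥U.toScheme, g p < y := by
    intro p
    have hp : e p.1 ∈ I.support := by
      have : e p.1 ∈ Set.range e := ⟨_, rfl⟩
      rwa [Scheme.IdealSheafData.range_subschemeι] at this
    by_contra hc
    push_neg at hc
    refine H7Cartier.not_mem_support_of_isMax hI (fun y hy => ?_) hp
    by_contra hne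
    refine hc ⟨y, hy.mem_open U.2 p.2⟩ (lt_of_le_of_ne ?_ fun he => hne (congrArg Subtype.val he).symm)
    exact (subtype_specializes_iff (x := (⟨y, hy.mem_open U.2 p.2⟩ : ↥U.toScheme)) (y := g p)).2 hy
  haveI : Nonempty ↥(e ⁻¹ᵁ U).toScheme := ⟨⟨d, hdU⟩⟩
  haveI : Nonempty ↥U.toScheme := ⟨⟨e d, hdU⟩⟩
  obtain ⟨n, hn⟩ : ∃ n : ℕ, Order.krullDim ↥U.toScheme = n := by
    have h0 := Order.krullDim_nonneg_iff.2 ‹Nonempty ↥U.toScheme›
    revert hfin h0
    generalize Order.krullDim ↥U.toScheme = k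
    intro hfin h0
    cases k with
    | bot => exact absurd h0 (by simp)
    | coe m =>
      cases m with
      | top => exact absurd rfl hfin
      | coe n => exact ⟨n, rfl⟩
  have key : ∀ p : LTSeries ↥(e ⁻¹ᵁ U).toScheme, p.length + 1 ≤ n := by
    intro p
    obtain ⟨y, hy⟩ := hext p.last
    let q := (p.map g hmono).snoc y (by simpa using hy)
    have := Order.LTSeries.length_le_krullDim q
    rw [hn] at this
    have hq : q.length = p.length + 1 := by simp [q]
    rw [hq] at this
    exact ENat.coe_le_coe.1 (WithBot.coe_le_coe.1 this)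
  rw [hn, Order.krullDim]
  refine lt_of_le_of_lt (b := ((n - 1 : ℕ) : WithBot ℕ∞)) (iSup_le fun p => ?_) ?_
  · have := key p
    exact WithBot.coe_le_coe.2 (ENat.coe_le_coe.2 (show p.length ≤ n - 1 by omega))
  · have := key (RelSeries.singleton _ ⟨d, hdU⟩)
    exact WithBot.coe_lt_coe.2 (ENat.coe_lt_coe.2 (show n - 1 < n by omega))

end Groth.Agent.H7CartierDim
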