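import Mathlib
import Groth.Prelude.Def_BlowUp2
import Groth.Agent.Lib.H7Cartier

/-! Valuation rings detecting effective Cartier ideals. -/

set_option autoImplicit false

universe u

open CategoryTheory AlgebraicGeometry

namespace Groth.Agent.H7CartierVal

variable {X : Scheme.{u}}

/-- the point `Spec R → X` given by a ring map out of an affine open. -/
noncomputable def pt (U : X.affineOpens) {R : CommRingCat.{u}} (φ : Γ(X, U.1) ⟶ R) : Spec R ⟶ X :=
  Spec.map φ ≫ U.2.fromSpec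

lemma pt_mem (U : X.affineOpens) {R : CommRingCat.{u}} (φ : Γ(X, U.1) ⟶ R) :
    (⊤ : (Spec R).Opens) ≤ pt U φ ⁻¹ᵁ U.1 := fun P _ => by
  show U.2.fromSpec ((Spec.map φ) P) ∈ (U.1 : Set X)
  rw [← U.2.range_fromSpec]
  exact ⟨_, rfl⟩

lemma pt_appLE (U : X.affineOpens) {R : CommRingCat.{u}} (φ : Γ(X, U.1) ⟶ R) :
    (pt U φ).appLE U.1 ⊤ (pt_mem U φ) = φ ≫ (Scheme.ΓSpecIso R).inv := by
  have e1 : (⊤ : (Spec Γ(X, U.1)).Opens) ≤ U.2.fromSpec ⁻¹ᵁ U.1 := U.2.fromSpec_preimage_self.ge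
  have h1 : U.2.fromSpec.appLE U.1 ⊤ e1 = (Scheme.ΓSpecIso Γ(X, U.1)).inv := by
    rw [Scheme.Hom.appLE, U.2.fromSpec_app_self, Category.assoc, ← Functor.map_comp]
    exact (congrArg _ ((Spec Γ(X, U.1)).presheaf.map_id _)).trans (Category.comp_id _)
  rw [Scheme.ΓSpecIso_inv_naturality, show (Spec.map φ).appTop = (Spec.map φ).appLE ⊤ ⊤ le_rfl from Scheme.Hom.app_eq_appLE _, ← h1]
  exact (Scheme.Hom.appLE_comp_appLE (Spec.map φ) U.2.fromSpec U.1 ⊤ ⊤ e1 le_rfl).symm

lemma ideal_comap_pt (I : X.IdealSheafData) (U : X.affineOpens) {R : CommRingCat.{u}}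
    (φ : Γ(X, U.1) ⟶ R) :
    (I.comap (pt U φ)).ideal ⟨⊤, isAffineOpen_top _⟩ =
      ((I.ideal U).map φ.hom).map (Scheme.ΓSpecIso R).inv.hom := by
  rw [H7Cartier.ideal_comap I (pt U φ) ⟨⊤, isAffineOpen_top _⟩ U (pt_mem U φ), pt_appLE,
    CommRingCat.hom_comp, Ideal.map_map]

lemma mem_support_pt (I : X.IdealSheafData) (U : X.affineOpens) {R : CommRingCat.{u}}
    (φ : Γ(X, U.1) ⟶ R) (P : Spec R) :
    P ∈ (I.comap (pt U φ)).support ↔ ∀ a ∈ I.ideal U, φ a ∈ P.asIdeal := by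
  rw [Scheme.IdealSheafData.mem_support_iff_of_mem (U := ⟨⊤, isAffineOpen_top _⟩) trivial,
    ideal_comap_pt, Ideal.map_map, Ideal.map, Scheme.zeroLocus_span, Scheme.mem_zeroLocus_iff]
  simp only [Set.forall_mem_image]
  refine forall₂_congr fun a _ => ?_
  rw [RingHom.comp_apply]
  show P ∉ (Spec R).basicOpen ((Scheme.ΓSpecIso R).inv (φ a)) ↔ _
  rw [basicOpen_eq_of_affine]
  exact not_not

lemma effCartier_pt (I : X.IdealSheafData) (U : X.affineOpens) {R : CommRingCat.{u}}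
    (φ : Γ(X, U.1) ⟶ R) {a : Γ(X, U.1)} (hI : I.ideal U = Ideal.span {a})
    (ha : φ a ∈ nonZeroDivisors R) : BlowUp.IsEffCartierIdeal (I.comap (pt U φ)) := fun P => by
  refine ⟨⟨⊤, isAffineOpen_top _⟩, trivial, (Scheme.ΓSpecIso R).inv (φ a), ?_, ?_⟩
  · exact H7Cartier.nzd_map_of_flat _
      (RingHom.Flat.of_bijective (ConcreteCategory.bijective_of_isIso (Scheme.ΓSpecIso R).inv)) ha
  · rw [ideal_comap_pt, hI, Ideal.map_span, Ideal.map_span, Set.image_singleton, Set.image_singleton]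

set_option synthInstance.maxHeartbeats 400000 in
set_option maxHeartbeats 1000000 in
/-- a prime maximal among those avoiding `a` below `p`, and a valuation ring dominating it. -/
theorem exists_valuation {G : Type u} [CommRing G] (p : Ideal G) [p.IsPrime] (a : G)
    (ha : a ∈ nonZeroDivisors G) :
    ∃ (R : Type u) (_ : CommRing R) (_ : IsDomain R) (_ : ValuationRing R) (φ : G →+* R),
      φ a ≠ 0 ∧ (∀ c ∈ p, ¬ IsUnit (φ c)) ∧ ∀ P : Ideal R, P.IsPrime → P ≠ ⊥ → φ a ∈ P := by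
  let A := Localization.AtPrime p
  let α := algebraMap G A a
  have hdisj : Disjoint ((⊥ : Ideal A) : Set A) (Submonoid.powers α) := by
    rw [Set.disjoint_left]
    rintro z hz ⟨n, rfl⟩
    have h1 : algebraMap G A (a ^ n) = 0 := by rw [map_pow]; exact hz
    obtain ⟨⟨s, hs⟩, h⟩ := (IsLocalization.map_eq_zero_iff p.primeCompl A _).mp h1
    exact hs (by rw [(mem_nonZeroDivisors_iff_right.mp (pow_mem ha n)) s h]; exact p.zero_mem)
  obtain ⟨q, -, hq⟩ := zorn_le_nonempty₀ {q : Ideal A | Disjoint (q : Set A) (Submonoid.powers α)}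
    (fun c hc hc' x hx => by
      refine ⟨sSup c, Set.disjoint_left.mpr fun z hz => ?_, fun _ => le_sSup⟩
      obtain ⟨J, hJ, hzJ⟩ := (Submodule.mem_sSup_of_directed ⟨x, hx⟩ hc'.directedOn).mp hz
      exact Set.disjoint_left.mp (hc hJ) hzJ) ⊥ hdisj
  have hqp : q.IsPrime := Ideal.isPrime_of_maximally_disjoint _ _ hq.1 (fun _ => hq.not_prop_of_gt)
  let K := FractionRing (A ⧸ q)
  let ψ : A →+* K := (algebraMap (A ⧸ q) K).comp (Ideal.Quotient.mk q)
  have hker : ∀ z, ψ z = 0 ↔ z ∈ q := fun z => by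
    simp [ψ, map_eq_zero_iff _ (IsFractionRing.injective (A ⧸ q) K), Ideal.Quotient.eq_zero_iff_mem]
  obtain ⟨B, hB, hloc⟩ := IsLocalRing.exists_factor_valuationRing ψ
  let ψ' : A →+* B := ψ.codRestrict B.toSubring hB
  have hval : ∀ z, (ψ' z : K) = ψ z := fun z => rfl
  refine ⟨B, inferInstance, inferInstance, inferInstance, ψ'.comp (algebraMap G A), ?_, ?_, ?_⟩
  · intro h
    have h1 : ψ α = 0 := by rw [← hval]; exact (congrArg Subtype.val h :)
    exact Set.disjoint_left.mp hq.1 ((hker α).mp h1) (Submonoid.mem_powers α)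
  · intro c hc hu
    have h1 : IsUnit (algebraMap G A c) := hloc.1 _ hu
    exact (IsLocalization.AtPrime.isUnit_to_map_iff A p c).mp h1 hc
  · intro P hP hne
    by_contra hcon
    apply hne
    rw [eq_bot_iff]
    intro z hz
    have hPq : q = P.comap ψ' := by
      refine le_antisymm (fun y hy => ?_) ?_
      · have : ψ' y = 0 := Subtype.ext ((hval y).trans ((hker y).mpr hy))
        rw [Ideal.mem_comap, this]
        exact P.zero_mem
      · refine hq.le_of_ge (Set.disjoint_left.mpr ?_) (fun y hy => ?_)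
        · rintro y hy ⟨n, rfl⟩
          exact hcon (hP.mem_of_pow_mem n (show (ψ' α) ^ n ∈ P by rw [← map_pow]; exact hy))
        · have : ψ' y = 0 := Subtype.ext ((hval y).trans ((hker y).mpr hy))
          rw [Ideal.mem_comap, this]
          exact P.zero_mem
    obtain ⟨y, d, hd, hzy⟩ := IsFractionRing.div_surjective (A := A ⧸ q) (z : K)
    obtain ⟨y, rfl⟩ := Ideal.Quotient.mk_surjective y
    obtain ⟨d, rfl⟩ := Ideal.Quotient.mk_surjective d
    have hd0 : algebraMap (A ⧸ q) K (Ideal.Quotient.mk q d) ≠ 0 :=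
      IsFractionRing.to_map_ne_zero_of_mem_nonZeroDivisors hd
    have e : ψ' y = z * ψ' d := Subtype.ext (by
      push_cast
      rw [hval, hval, ← hzy]
      exact (div_mul_cancel₀ _ hd0).symm)
    have hyq : y ∈ q := by rw [hPq, Ideal.mem_comap, e]; exact P.mul_mem_right _ hz
    have hy0 : ψ' y = 0 := Subtype.ext ((hval y).trans ((hker y).mpr hyq))
    rw [hy0, eq_comm, mul_eq_zero] at e
    refine e.resolve_right fun h0 => hd0 ?_
    exact (congrArg Subtype.val h0 :)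

end Groth.Agent.H7CartierVal
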