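import Groth.Agent.Lib.H7KFlatRes
import Mathlib

/-! Functoriality of the resolution. -/

universe u
open CategoryTheory Limits AlgebraicGeometry HomologicalComplex
open scoped ZeroObject

namespace Groth.Agent.H7KFlatResFun
open Groth.Agent H7KFlatRes

variable {X : Scheme.{u}}

section pair

variable {K K' K'' L L' L'' : CochainComplex X.Modules ℤ} {f : K ⟶ L} {f' : K' ⟶ L'} {f'' : K'' ⟶ L''}

lemma killSMap_id (w : 𝟙 K ≫ f = f ≫ 𝟙 L) : killSMap f f (𝟙 K) (𝟙 L) w = 𝟙 _ := by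
  refine HomologicalComplex.hom_ext _ _ fun n => ?_
  show H7FlatCover.cov.map _ = 𝟙 (H7FlatCover.cov.obj _)
  rw [← CategoryTheory.Functor.map_id]
  congr 1
  refine (cancel_mono (kernel.ι _)).1 ?_
  simp [biprod.map_eq]

lemma killSMap_comp {a : K ⟶ K'} {φ : L ⟶ L'} {a' : K' ⟶ K''} {φ' : L' ⟶ L''}
    (w : a ≫ f' = f ≫ φ) (w' : a' ≫ f'' = f' ≫ φ') (w'' : (a ≫ a') ≫ f'' = f ≫ φ ≫ φ') :
    killSMap f f' a φ w ≫ killSMap f' f'' a' φ' w' = killSMap f f'' (a ≫ a') (φ ≫ φ') w'' := by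
  refine HomologicalComplex.hom_ext _ _ fun n => ?_
  show H7FlatCover.cov.map _ ≫ H7FlatCover.cov.map _ = H7FlatCover.cov.map _
  rw [← Functor.map_comp]
  congr 1
  refine (cancel_mono (kernel.ι _)).1 ?_
  simp only [Category.assoc, kernel.lift_ι, kernel.lift_ι_assoc, comp_f]
  congr 1
  refine biprod.hom_ext' _ _ ?_ ?_ <;> simp

lemma killMap_id (w : 𝟙 K ≫ f = f ≫ 𝟙 L) : killMap f f (𝟙 K) (𝟙 L) w = 𝟙 _ := by
  simp only [killMap, killSMap_id w]
  exact CochainComplex.mappingCone.map_id _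

lemma killMap_comp {a : K ⟶ K'} {φ : L ⟶ L'} {a' : K' ⟶ K''} {φ' : L' ⟶ L''}
    (w : a ≫ f' = f ≫ φ) (w' : a' ≫ f'' = f' ≫ φ') (w'' : (a ≫ a') ≫ f'' = f ≫ φ ≫ φ') :
    killMap f f' a φ w ≫ killMap f' f'' a' φ' w' = killMap f f'' (a ≫ a') (φ ≫ φ') w'' := by
  simp only [killMap, ← killSMap_comp w w' w'']
  exact (CochainComplex.mappingCone.map_comp _ _ _ _ _ _ _ _ _).symm

end pair

section init

variable {K K' K'' L L' L'' : CochainComplex X.Modules ℤ}

lemma cycSMap_id : cycSMap (𝟙 L) = 𝟙 _ := by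
  refine HomologicalComplex.hom_ext _ _ fun n => ?_
  show H7FlatCover.cov.map _ = 𝟙 (H7FlatCover.cov.obj _)
  rw [← CategoryTheory.Functor.map_id]
  congr 1
  refine (cancel_mono (kernel.ι _)).1 ?_
  simp

lemma cycSMap_comp (φ : L ⟶ L') (φ' : L' ⟶ L'') : cycSMap (φ ≫ φ') = cycSMap φ ≫ cycSMap φ' := by
  refine HomologicalComplex.hom_ext _ _ fun n => ?_
  show H7FlatCover.cov.map _ = H7FlatCover.cov.map _ ≫ H7FlatCover.cov.map _
  rw [← Functor.map_comp]
  congr 1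
  refine (cancel_mono (kernel.ι _)).1 ?_
  simp

lemma termSMap_id : termSMap (𝟙 L) = 𝟙 _ :=
  HomologicalComplex.hom_ext _ _ fun n => H7FlatCover.cov.map_id _

lemma termSMap_comp (φ : L ⟶ L') (φ' : L' ⟶ L'') : termSMap (φ ≫ φ') = termSMap φ ≫ termSMap φ' :=
  HomologicalComplex.hom_ext _ _ fun n => H7FlatCover.cov.map_comp _ _

lemma diskNat_id : diskNat (𝟙 L) = 𝟙 _ := by
  simp only [diskNat, termSMap_id]
  exact CochainComplex.mappingCone.map_id _

lemma diskNat_comp (φ : L ⟶ L') (φ' : L' ⟶ L'') : diskNat (φ ≫ φ') = diskNat φ ≫ diskNat φ' := by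
  simp only [diskNat, termSMap_comp]
  exact CochainComplex.mappingCone.map_comp _ _ _ _ _ _ _ _ _

lemma initMap_id : initMap (𝟙 K) (𝟙 L) = 𝟙 _ := by
  simp only [initMap, cycSMap_id, diskNat_id]
  refine biprod.hom_ext' _ _ (biprod.hom_ext' _ _ ?_ ?_) ?_ <;> simp

lemma initMap_comp (a : K ⟶ K') (φ : L ⟶ L') (a' : K' ⟶ K'') (φ' : L' ⟶ L'') :
    initMap (a ≫ a') (φ ≫ φ') = initMap a φ ≫ initMap a' φ' := by
  simp only [initMap, cycSMap_comp, diskNat_comp]
  refine biprod.hom_ext' _ _ (biprod.hom_ext' _ _ ?_ ?_) ?_ <;> simp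

end init

section chain

variable {K K' K'' L L' L'' : CochainComplex X.Modules ℤ} {f : K ⟶ L} {f' : K' ⟶ L'} {f'' : K'' ⟶ L''}

lemma killMap_congr {a b : K ⟶ K'} (e : a = b) {φ : L ⟶ L'} (w : a ≫ f' = f ≫ φ) (w' : b ≫ f' = f ≫ φ) :
    killMap f f' a φ w = killMap f f' b φ w' := by subst e; rfl

lemma stageMap_id (w : 𝟙 K ≫ f = f ≫ 𝟙 L) : ∀ n, (stageMap f f (𝟙 K) (𝟙 L) w n).1 = 𝟙 _
  | 0 => initMap_id
  | n + 1 => (killMap_congr (stageMap_id w n) _
      ((Category.id_comp _).trans (Category.comp_id _).symm)).trans (killMap_id _)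

lemma stageMap_comp {a : K ⟶ K'} {φ : L ⟶ L'} {a' : K' ⟶ K''} {φ' : L' ⟶ L''}
    (w : a ≫ f' = f ≫ φ) (w' : a' ≫ f'' = f' ≫ φ') (w'' : (a ≫ a') ≫ f'' = f ≫ φ ≫ φ') :
    ∀ n, (stageMap f f'' (a ≫ a') (φ ≫ φ') w'' n).1 =
      (stageMap f f' a φ w n).1 ≫ (stageMap f' f'' a' φ' w' n).1
  | 0 => initMap_comp a φ a' φ'
  | n + 1 => by
    have hw : ((stageMap f f' a φ w n).1 ≫ (stageMap f' f'' a' φ' w' n).1) ≫ (stage f'' n).hom =
        (stage f n).hom ≫ φ ≫ φ' := by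
      rw [Category.assoc, (stageMap f' f'' a' φ' w' n).2, ← Category.assoc, (stageMap f f' a φ w n).2, Category.assoc]
    exact (killMap_congr (stageMap_comp w w' w'' n) _ hw).trans (killMap_comp _ _ hw).symm

/-- the resolution, as a functor -/
noncomputable def resFunctor : CochainComplex X.Modules ℤ ⥤ CochainComplex X.Modules ℤ where
  obj L := resK (0 : (0 : CochainComplex X.Modules ℤ) ⟶ L)
  map {L L'} φ := resMap (0 : (0 : CochainComplex X.Modules ℤ) ⟶ L) (0 : (0 : CochainComplex X.Modules ℤ) ⟶ L')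
    (𝟙 _) φ (by simp)
  map_id L := res_hom_ext _ fun n => by
    rw [resι_resMap, stageMap_id, Category.comp_id]
    exact Category.id_comp _
  map_comp {L L' L''} φ φ' := res_hom_ext _ fun n => by
    rw [resι_resMap, reassoc_of% resι_resMap, resι_resMap]
    refine Eq.trans ?_ (Category.assoc _ _ _)
    congr 1
    have := stageMap_comp (a := 𝟙 (0 : CochainComplex X.Modules ℤ)) (φ := φ) (a' := 𝟙 _) (φ' := φ')
      (f := (0 : (0 : CochainComplex X.Modules ℤ) ⟶ L)) (f' := (0 : (0 : CochainComplex X.Modules ℤ) ⟶ L'))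
      (f'' := (0 : (0 : CochainComplex X.Modules ℤ) ⟶ L''))
      (by simp) (by simp) (by simp) n
    simpa only [Category.id_comp] using this

/-- the structure map of the resolution -/
noncomputable def resNat : resFunctor (X := X) ⟶ 𝟭 _ where
  app L := resF _
  naturality {L L'} φ := resMap_resF _ _ _ φ _

end chain

end Groth.Agent.H7KFlatResFun
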