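import Groth.Agent.Lib.H7KFlatResMain
import Groth.Agent.Lib.H7KFlatResFun
import Mathlib

/-! K-flat resolutions of complexes of O-modules. -/

universe u
open CategoryTheory Limits AlgebraicGeometry HomologicalComplex
open scoped ZeroObject

namespace Groth.Agent.H7KFlatResolution
open Groth.Agent H7KFlatSheaf H7KFlatRes H7KFlatResMain H7KFlatResFun

variable {X : Scheme.{u}}

lemma isZero_X (n : ℤ) : IsZero ((0 : CochainComplex X.Modules ℤ).X n) :=
  Functor.map_isZero (HomologicalComplex.eval X.Modules _ n) (isZero_zero _)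

lemma flat_zero (n : ℤ) : FlatMod.IsFlat ((0 : CochainComplex X.Modules ℤ).X n) := fun x => by
  have hz : IsZero ((DerSch.stalkFunctor X x).obj ((0 : CochainComplex X.Modules ℤ).X n)) :=
    Functor.map_isZero _ (isZero_X n)
  have : Subsingleton ((DerSch.stalkFunctor X x).obj ((0 : CochainComplex X.Modules ℤ).X n)) :=
    ModuleCat.subsingleton_of_isZero hz
  show Module.Flat (X.presheaf.stalk x) ((DerSch.stalkFunctor X x).obj ((0 : CochainComplex X.Modules ℤ).X n))
  infer_instance

lemma skf_zero : SKF (0 : CochainComplex X.Modules ℤ) :=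
  skf_zero_d _ (fun i j => (isZero_X i).eq_of_src _ _) flat_zero

theorem skf_resFunctor (C : CochainComplex X.Modules ℤ) : SKF (resFunctor.obj C) := skf_resK _ skf_zero

theorem flat_resFunctor (C : CochainComplex X.Modules ℤ) (n : ℤ) : FlatMod.IsFlat ((resFunctor.obj C).X n) :=
  flat_resK _ flat_zero n

theorem quasiIso_resNat (C : CochainComplex X.Modules ℤ) : QuasiIso (resNat.app C) := quasiIso_resF _

end Groth.Agent.H7KFlatResolution
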