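import Groth.Agent.Lib.H7LeftDerived
import Groth.Agent.Lib.H7KFlatResolution
import Groth.Agent.Lib.H7StalkPull
import Groth.Prelude.Def_DDual2
import Mathlib

/-! The derived pullback exists. -/

universe u v w
open CategoryTheory Limits AlgebraicGeometry HomologicalComplex MonoidalCategory
open scoped ZeroObject

namespace Groth.Agent.H7HasLpull
open Groth.Agent H5TenCx H7KFlatMod H7KFlatSheaf H7KFlatResolution H7KFlatResFun

section generic

variable {C : Type v} [Category.{w} C] [Abelian C] [HasDerivedCategory C]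

lemma quasiIso_from_zero_iff (K : CochainComplex C ℤ) :
    QuasiIso (0 : (0 : CochainComplex C ℤ) ⟶ K) ↔ K.Acyclic := by
  have h0 : ∀ i, (0 : CochainComplex C ℤ).ExactAt i := fun i =>
    (exactAt_iff_isZero_homology _ _).2 ((homologyFunctor C (ComplexShape.up ℤ) i).map_isZero (isZero_zero _))
  constructor
  · intro h i
    exact (exactAt_iff_of_quasiIsoAt (0 : (0 : CochainComplex C ℤ) ⟶ K) i).1 (h0 i)
  · intro h
    exact ⟨fun i => (quasiIsoAt_iff_exactAt _ _ (h0 i)).2 (h i)⟩

lemma quasiIso_iff_acyclic_cone {K L : CochainComplex C ℤ} (f : K ⟶ L) :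
    QuasiIso f ↔ (CochainComplex.mappingCone f).Acyclic := by
  have hT : DerivedCategory.Q.mapTriangle.obj (CochainComplex.mappingCone.triangle f) ∈
      Pretriangulated.distinguishedTriangles :=
    (DerivedCategory.mem_distTriang_iff _).2 ⟨K, L, f, ⟨Iso.refl _⟩⟩
  have h : IsZero (DerivedCategory.Q.obj (CochainComplex.mappingCone f)) ↔ IsIso (DerivedCategory.Q.map f) :=
    Pretriangulated.Triangle.isZero₃_iff_isIso₁ _ hT
  rw [← DerivedCategory.isIso_Q_map_iff_quasiIso, ← h, ← quasiIso_from_zero_iff,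
    ← DerivedCategory.isIso_Q_map_iff_quasiIso]
  have hz : IsZero (DerivedCategory.Q.obj (0 : CochainComplex C ℤ)) := DerivedCategory.Q.map_isZero (isZero_zero _)
  constructor
  · intro h'
    exact hz.isIso h' _
  · intro h'
    exact hz.of_iso (asIso (DerivedCategory.Q.map (0 : (0 : CochainComplex C ℤ) ⟶ CochainComplex.mappingCone f))).symm

end generic

section ring

variable {A B : Type u} [CommRing A] [CommRing B] (φ : A →+* B)

/-- an acyclic K-flat complex stays acyclic after tensoring with any complex -/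
lemma acyclic_tensor_of_kflat_acyclic {C : CochainComplex (ModuleCat.{u} A) ℤ} (hC : KF A C) (hac : C.Acyclic)
    (L : CochainComplex (ModuleCat.{u} A) ℤ) : ((T₁ (curriedTensor (ModuleCat.{u} A)) C).obj L).Acyclic := by
  have hz : IsZero (0 : CochainComplex (ModuleCat.{u} A) ℤ) := isZero_zero _
  have hz' : ∀ M : CochainComplex (ModuleCat.{u} A) ℤ,
      IsZero ((T₂ (curriedTensor (ModuleCat.{u} A)) M).obj (0 : CochainComplex (ModuleCat.{u} A) ℤ)) := fun M => by
    have := (good₂ (curriedTensor (ModuleCat.{u} A)) M).add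
    exact Functor.map_isZero _ hz
  have h0 : KF A (0 : CochainComplex (ModuleCat.{u} A) ℤ) := fun M _ i =>
    (exactAt_iff_isZero_homology _ _).2 ((homologyFunctor (ModuleCat.{u} A) (ComplexShape.up ℤ) i).map_isZero (hz' M))
  have hq : QuasiIso (0 : (0 : CochainComplex (ModuleCat.{u} A) ℤ) ⟶ C) :=
    ⟨fun i => (quasiIsoAt_iff_exactAt _ _ ((exactAt_iff_isZero_homology _ _).2
      ((homologyFunctor (ModuleCat.{u} A) (ComplexShape.up ℤ) i).map_isZero hz))).2 (hac i)⟩
  have := H5KFlatApps.quasiIso_tensor h0 hC (0 : (0 : CochainComplex (ModuleCat.{u} A) ℤ) ⟶ C) L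
  have hmap : QuasiIso ((T₂ (curriedTensor (ModuleCat.{u} A)) L).map
      (0 : (0 : CochainComplex (ModuleCat.{u} A) ℤ) ⟶ C)) := this
  intro i
  exact (exactAt_iff_of_quasiIsoAt ((T₂ (curriedTensor (ModuleCat.{u} A)) L).map (0 : (0 : CochainComplex (ModuleCat.{u} A) ℤ) ⟶ C)) i).1
    ((exactAt_iff_isZero_homology _ _).2 ((homologyFunctor (ModuleCat.{u} A) (ComplexShape.up ℤ) i).map_isZero (hz' L)))

set_option maxHeartbeats 2000000 in
theorem acyclic_extendScalars {C : CochainComplex (ModuleCat.{u} A) ℤ} (hC : KF A C) (hac : C.Acyclic) :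
    (((ModuleCat.extendScalars φ).mapHomologicalComplex _).obj C).Acyclic := by
  have : ∀ J : Type, PreservesColimitsOfShape (Discrete J) (ModuleCat.restrictScalars.{u} φ) := fun J =>
    (ModuleCat.restrictCoextendScalarsAdj.{u, u, u} φ).leftAdjoint_preservesColimits.{0, 0}.preservesColimitsOfShape
  let U : CochainComplex (ModuleCat.{u} B) ℤ := H5BrownGroth.RS B 0
  let e₁ := H7MapTotal.iso (H7StalkPull.tensorExt φ) (curriedTensor (ModuleCat.{u} B)) (𝟭 _)
    (ModuleCat.extendScalars φ) (𝟭 _) (Iso.refl _) U C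
  let e₂ := H7MapTotal.iso (H7StalkPull.tensorExt φ) (curriedTensor (ModuleCat.{u} A)) (ModuleCat.restrictScalars φ)
    (𝟭 _) (ModuleCat.restrictScalars φ) (H7StalkPull.cancelNatIso φ) U C
  have h2 := H5KFlat.acyclic_of_iso e₂.symm (acyclic_tensor_of_kflat_acyclic hC hac _)
  intro n
  have h1 : (mapBifunctor U C (H7StalkPull.tensorExt φ) (ComplexShape.up ℤ)).ExactAt n :=
    (ShortComplex.exact_map_iff_of_faithful _ (ModuleCat.restrictScalars φ)).1 (h2 n)
  have h3 : (U ⊗ ((ModuleCat.extendScalars φ).mapHomologicalComplex _).obj C).ExactAt n := h1.of_iso e₁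
  exact h3.of_iso (λ_ (((ModuleCat.extendScalars φ).mapHomologicalComplex _).obj C :
    CochainComplex (ModuleCat.{u} B) ℤ))

end ring

attribute [local instance] HasDerivedCategory.standard

variable {X Y : Scheme.{u}} (f : X ⟶ Y)

/-- termwise pullback -/
noncomputable abbrev pullCx : CochainComplex Y.Modules ℤ ⥤ CochainComplex X.Modules ℤ :=
  (Scheme.Modules.pullback f).mapHomologicalComplex (ComplexShape.up ℤ)

lemma acyclic_pullback {C : CochainComplex Y.Modules ℤ} (hC : SKF C) (hac : C.Acyclic) :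
    ((pullCx f).obj C).Acyclic := (H7KFlatSheaf.acyclic_iff _).2 fun x =>
  H5KFlat.acyclic_of_iso (H7StalkPull.stCxPullIso f x C).symm
    (acyclic_extendScalars _ (hC (f.base x)) ((H7KFlatSheaf.acyclic_iff C).1 hac (f.base x)))

theorem quasiIso_pullback {K L : CochainComplex Y.Modules ℤ} (hK : SKF K) (hL : SKF L) (g : K ⟶ L) [QuasiIso g] :
    QuasiIso ((pullCx f).map g) := by
  rw [quasiIso_iff_acyclic_cone]
  exact H5KFlat.acyclic_of_iso (CochainComplex.mappingCone.mapHomologicalComplexIso g (Scheme.Modules.pullback f))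
    (acyclic_pullback f (skf_cone g hK hL) ((quasiIso_iff_acyclic_cone g).1 inferInstance))

lemma isIso_pullKh {K L : CochainComplex Y.Modules ℤ} (g : K ⟶ L) (hg : QuasiIso ((pullCx f).map g)) :
    IsIso ((DCoh.pullKh f).map ((HomotopyCategory.quotient _ _).map g)) := by
  have h : IsIso (DerivedCategory.Qh.map ((HomotopyCategory.quotient _ _).map ((pullCx f).map g))) :=
    ((MorphismProperty.isomorphisms _).arrow_mk_iso_iff
      (Arrow.isoMk ((DerivedCategory.quotientCompQhIso X.Modules).app _)
        ((DerivedCategory.quotientCompQhIso X.Modules).app _)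
        (DerivedCategory.quotientCompQhIso_hom_naturality ((pullCx f).map g)).symm :
        Arrow.mk (DerivedCategory.Qh.map ((HomotopyCategory.quotient _ _).map ((pullCx f).map g))) ≅
          Arrow.mk (DerivedCategory.Q.map ((pullCx f).map g)))).2
      ((DerivedCategory.isIso_Q_map_iff_quasiIso _ _).2 hg)
  exact h

theorem hasLpull : DCoh.HasLpull f := by
  have : ((HomotopyCategory.quotient Y.Modules (ComplexShape.up ℤ)) ⋙ DerivedCategory.Qh).IsLocalization
      (HomologicalComplex.quasiIso Y.Modules (ComplexShape.up ℤ)) :=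
    Functor.IsLocalization.of_iso (HomologicalComplex.quasiIso Y.Modules (ComplexShape.up ℤ))
      (DerivedCategory.quotientCompQhIso Y.Modules).symm
  refine H7LeftDerived.hasLeftDerived (HomotopyCategory.quotient Y.Modules (ComplexShape.up ℤ)) DerivedCategory.Qh
    (HomotopyCategory.quasiIso Y.Modules (ComplexShape.up ℤ))
    (HomologicalComplex.quasiIso Y.Modules (ComplexShape.up ℤ)) (DCoh.pullKh f) resFunctor resNat
    (fun K => quasiIso_resNat K) (fun K L g hg => isIso_pullKh f _ ?_) (fun K => isIso_pullKh f _ ?_)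
  · have : QuasiIso g := hg
    have := quasiIso_resNat K
    have := quasiIso_resNat L
    have h : QuasiIso (resFunctor.map g ≫ resNat.app L) := by
      rw [resNat.naturality]
      exact inferInstanceAs (QuasiIso (resNat.app K ≫ g))
    have : QuasiIso (resFunctor.map g) := quasiIso_of_comp_right _ (resNat.app L)
    exact quasiIso_pullback f (skf_resFunctor K) (skf_resFunctor L) _
  · have := quasiIso_resNat (resFunctor.obj K)
    exact quasiIso_pullback f (skf_resFunctor _) (skf_resFunctor K) _

end Groth.Agent.H7HasLpull
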