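import Groth.Agent.Lib.H7FreeCx
import Groth.Agent.Lib.H7HasLpull
import Mathlib

/-! A map from a module in one degree into a complex with cohomology in that degree. -/

universe u
open CategoryTheory Limits HomologicalComplex

namespace Groth.Agent.H7DegAlg

variable {R : Type u} [CommRing R]

lemma quasiIso_shortComplex {S₁ S₂ : ShortComplex (ModuleCat.{u} R)} (φ : S₁ ⟶ S₂) (hf : S₁.f = 0) (hg : S₁.g = 0)
    (hsurj : ∀ x : S₂.X₂, S₂.g.hom x = 0 → ∃ a y, S₂.f.hom y = x - φ.τ₂.hom a)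
    (hinj : ∀ a y, S₂.f.hom y = φ.τ₂.hom a → a = 0) : ShortComplex.QuasiIso φ := by
  have hk : ∀ a, φ.τ₂.hom a ∈ LinearMap.ker S₂.g.hom := fun a => by
    rw [LinearMap.mem_ker]
    have := congrArg (fun t : S₁.X₂ ⟶ S₂.X₃ => t.hom a) φ.comm₂₃
    rw [hg, zero_comp] at this
    simpa using this
  let h₁ := ShortComplex.LeftHomologyData.ofZeros S₁ hf hg
  let h₂ := S₂.moduleCatLeftHomologyData
  let φK : h₁.K ⟶ h₂.K := ModuleCat.ofHom (φ.τ₂.hom.codRestrict (LinearMap.ker S₂.g.hom) hk)
  let ψ : ShortComplex.LeftHomologyMapData φ h₁ h₂ :=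
    { φK := φK
      φH := φK ≫ h₂.π
      commi := by
        show φK ≫ h₂.i = 𝟙 _ ≫ φ.τ₂
        rw [Category.id_comp]; rfl
      commf' := by
        rw [ShortComplex.LeftHomologyData.ofZeros_f', zero_comp, ← cancel_mono h₂.i, zero_comp, Category.assoc,
          h₂.f'_i, φ.comm₁₂, hf, zero_comp]
      commπ := Category.id_comp _ }
  rw [ψ.quasiIso_iff, ConcreteCategory.isIso_iff_bijective]
  constructor
  · refine (injective_iff_map_eq_zero (φK ≫ h₂.π).hom).2 fun a ha => ?_
    have ha' := (Submodule.Quotient.mk_eq_zero _).1 ha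
    obtain ⟨y, hy⟩ := ha'
    exact hinj a y (congrArg Subtype.val hy)
  · intro z
    obtain ⟨⟨x, hx⟩, rfl⟩ := Submodule.Quotient.mk_surjective _ z
    obtain ⟨a, y, hy⟩ := hsurj x hx
    refine ⟨a, (Submodule.Quotient.eq _).2 ⟨-y, Subtype.ext ?_⟩⟩
    show S₂.f.hom (-y) = φ.τ₂.hom a - x
    rw [map_neg, hy, neg_sub]

theorem quasiIso_into_concentrated {C₁ C : CochainComplex (ModuleCat.{u} R) ℤ} (f : C₁ ⟶ C) {i : ℤ}
    (h₁ : ∀ k, k ≠ i → IsZero (C₁.X k)) (hex : ∀ k, k ≠ i → C.ExactAt k)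
    (hsurj : ∀ x, (C.d i (i + 1)).hom x = 0 → ∃ a y, (C.d (i - 1) i).hom y = x - (f.f i).hom a)
    (hinj : ∀ a y, (C.d (i - 1) i).hom y = (f.f i).hom a → a = 0) : QuasiIso f where
  quasiIsoAt k := by
    by_cases hk : k = i
    · subst hk
      rw [quasiIsoAt_iff' f (k - 1) k (k + 1) (by simp) (by simp)]
      exact quasiIso_shortComplex _ ((h₁ _ (by omega)).eq_of_src _ _) ((h₁ _ (by omega)).eq_of_tgt _ _) hsurj hinj
    · have e : C₁.ExactAt k := ShortComplex.exact_of_isZero_X₂ _ (h₁ k hk)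
      exact (quasiIsoAt_iff_exactAt f k e).2 (hex k hk)

/-- `ModExact` from the vanishing of the fibre homology -/
theorem modExact_of_finrank [IsLocalRing R] (C : CochainComplex (ModuleCat.{u} R) ℤ) [∀ n, Module.Finite R (C.X n)]
    {k : ℤ} (h : letI : Field (R ⧸ IsLocalRing.maximalIdeal R) := Ideal.Quotient.field _
      Module.finrank (R ⧸ IsLocalRing.maximalIdeal R)
        ((((ModuleCat.extendScalars (algebraMap R (R ⧸ IsLocalRing.maximalIdeal R))).mapHomologicalComplex
          (ComplexShape.up ℤ)).obj C).homology k) = 0) : H7FreeCx.ModExact C k := by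
  apply H7FreeCx.modExact_of_exactAt
  rw [exactAt_iff_isZero_homology]
  let k' := R ⧸ IsLocalRing.maximalIdeal R
  letI : Field k' := Ideal.Quotient.field _
  let D := ((ModuleCat.extendScalars (algebraMap R k')).mapHomologicalComplex (ComplexShape.up ℤ)).obj C
  have hD : Module.Finite k' (D.X k) := Module.Finite.equiv (H5DRank.bcEquiv k' (C.X k)).symm
  let e := (D.sc k).moduleCatLeftHomologyData.homologyIso
  have : Module.Finite k' (D.sc k).X₂ := hD
  have : IsNoetherian k' (D.sc k).X₂ := inferInstance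
  have : Module.Finite k' (D.sc k).moduleCatLeftHomologyData.H := Module.Finite.of_surjective
    (Submodule.mkQ (LinearMap.range (D.sc k).moduleCatToCycles)) (Submodule.mkQ_surjective _)
  have : Module.Finite k' (D.homology k) := Module.Finite.equiv e.symm.toLinearEquiv
  exact @ModuleCat.isZero_of_subsingleton _ _ (D.homology k) (Module.finrank_zero_iff.1 h)

end Groth.Agent.H7DegAlg
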