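import Groth.Agent.Lib.H7Betti
import Groth.Agent.Lib.H7DegAlg
import Mathlib

/-! A strictly perfect complex with fibre cohomology in one degree is locally a free module in that degree. -/

universe u v w
open CategoryTheory Limits AlgebraicGeometry Opposite TopologicalSpace HomologicalComplex CochainComplex

namespace Groth.Agent.H7DegLocal
open Groth.Agent H7Stalk H7KFlatSheaf H7HasLpull H7LpullCalc H7TorAmp H7PerfPull H7FinFree H7Betti

attribute [local instance] HasDerivedCategory.standard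

variable {W : Scheme.{u}}

lemma basis_apply {M : W.Modules} {n : ℕ} (c : Coords M n) (w : W) (l : Fin n) :
    c.basis w l = ((DerSch.stalkFunctor W w).map (c.ι l)).hom (one w) := by
  unfold Coords.basis
  rw [Module.Basis.coe_ofEquivFun]
  show ∑ i, (Pi.single l (1 : W.presheaf.stalk w) : Fin n → W.presheaf.stalk w) i • _ = _
  rw [Finset.sum_eq_single l]
  · rw [Pi.single_eq_same, one_smul]
  · intro i _ hi
    rw [Pi.single_eq_of_ne hi, zero_smul]
  · simp

lemma stalk_unitEquiv {M : W.Modules} (w : W) (f : Coh.structureModule W ⟶ M) :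
    ((DerSch.stalkFunctor W w).map f).hom (one w) = M.presheaf.germ ⊤ w trivial (unitEquiv M f) :=
  DerSch.stalkFunctor_map_germ w f ⊤ trivial (1 : Γ(W, ⊤))

/-- in a free module on an affine scheme every germ is global up to a unit -/
lemma exists_global (hW : IsAffineOpen (⊤ : W.Opens)) {M : W.Modules} {n : ℕ} (c : Coords M n) (w : W)
    (z : (DerSch.stalkFunctor W w).obj M) :
    ∃ (g : W.presheaf.stalk w) (s : Γ(M, ⊤)), IsUnit g ∧ M.presheaf.germ ⊤ w trivial s = g • z := by
  classical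
  letI : Algebra Γ(W, ⊤) (W.presheaf.stalk w) := TopCat.Presheaf.algebra_section_stalk W.presheaf (⟨w, trivial⟩ : (⊤ : W.Opens))
  have : IsLocalization.AtPrime (W.presheaf.stalk w) (hW.primeIdealOf ⟨w, trivial⟩).asIdeal :=
    hW.isLocalization_stalk ⟨w, trivial⟩
  obtain ⟨b, hb⟩ := IsLocalization.exist_integer_multiples_of_finite
    (hW.primeIdealOf ⟨w, trivial⟩).asIdeal.primeCompl (fun l => (c.basis w).repr z l)
  choose a ha using hb
  refine ⟨algebraMap Γ(W, ⊤) (W.presheaf.stalk w) (b : Γ(W, ⊤)), ∑ l, a l • unitEquiv M (c.ι l),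
    IsLocalization.map_units _ b, ?_⟩
  refine (map_sum (M.presheaf.germ ⊤ w trivial).hom _ _).trans ?_
  conv_rhs => rw [← (c.basis w).sum_repr z, Finset.smul_sum]
  refine Finset.sum_congr rfl fun l _ => ?_
  refine (germ_smul' (M := M) w ⊤ trivial (a l) (unitEquiv M (c.ι l))).trans ?_
  rw [← stalk_unitEquiv, basis_apply, smul_smul]
  exact congrArg (· • ((DerSch.stalkFunctor W w).map (c.ι l)).hom (one w))
    ((ha l).trans (Algebra.smul_def _ _))

/-- a global section of a free module with zero germ is killed by a function invertible there -/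
lemma exists_kill (hW : IsAffineOpen (⊤ : W.Opens)) {M : W.Modules} {n : ℕ} (c : Coords M n) (w : W)
    (s : Γ(M, ⊤)) (hs : M.presheaf.germ ⊤ w trivial s = 0) :
    ∃ h : Γ(W, ⊤), IsUnit ((W.presheaf.germ ⊤ w trivial).hom h) ∧ h • s = 0 := by
  classical
  letI : Algebra Γ(W, ⊤) (W.presheaf.stalk w) := TopCat.Presheaf.algebra_section_stalk W.presheaf (⟨w, trivial⟩ : (⊤ : W.Opens))
  have : IsLocalization.AtPrime (W.presheaf.stalk w) (hW.primeIdealOf ⟨w, trivial⟩).asIdeal :=
    hW.isLocalization_stalk ⟨w, trivial⟩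
  have h0 : ∀ k, (W.presheaf.germ ⊤ w trivial).hom (show Γ(W, ⊤) from (c.π k).app ⊤ s) = 0 := fun k => by
    refine (evO_germ w ⊤ trivial _).symm.trans ?_
    refine (congrArg (evO w).hom (DerSch.stalkFunctor_map_germ w (c.π k) ⊤ trivial s).symm).trans ?_
    refine (congrArg (fun t => (evO w).hom (((DerSch.stalkFunctor W w).map (c.π k)).hom t)) hs).trans ?_
    exact (congrArg (evO w).hom (map_zero ((DerSch.stalkFunctor W w).map (c.π k)).hom)).trans (map_zero (evO w).hom)
  choose m hm using fun k => (IsLocalization.map_eq_zero_iff (hW.primeIdealOf ⟨w, trivial⟩).asIdeal.primeCompl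
    (W.presheaf.stalk w) _).1 (h0 k)
  refine ⟨((∏ k, m k : _) : Γ(W, ⊤)), IsLocalization.map_units (W.presheaf.stalk w) (∏ k, m k), ?_⟩
  apply (unitEquiv M).symm.injective
  have hz : (unitEquiv M).symm (0 : Γ(M, ⊤)) = 0 := (unitEquiv M).symm_apply_eq.2 rfl
  rw [hz]
  set f := (unitEquiv M).symm (((∏ k, m k : _) : Γ(W, ⊤)) • s)
  have : ∀ k, f ≫ c.π k = 0 := fun k => by
    apply (unitEquiv (Coh.structureModule W)).injective
    rw [unitEquiv_comp, Equiv.apply_symm_apply, Scheme.Modules.Hom.app_smul]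
    show ((∏ k, m k : _) : Γ(W, ⊤)) * (show Γ(W, ⊤) from (c.π k).app ⊤ s) = 0
    rw [← Finset.prod_erase_mul _ _ (Finset.mem_univ k), Submonoid.coe_mul, mul_assoc, hm k, mul_zero]
  rw [← Category.comp_id f, ← c.total, Preadditive.comp_sum]
  exact Finset.sum_eq_zero fun k _ => by rw [← Category.assoc, this k, zero_comp]

lemma isFree_biprod {M N : W.Modules} (hM : IsFree M) (hN : IsFree N) : IsFree (M ⊞ N) :=
  (isFree_sigma (fun j : WalkingPair => WalkingPair.casesOn (motive := fun _ => W.Modules) j M N)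
    (fun j => by cases j <;> assumption)).of_iso (biprod.isoCoprod M N).symm

lemma exists_coords_family {P : CochainComplex W.Modules ℤ} (hfree : ∀ k, IsFree (P.X k)) {a b : ℤ}
    (hP : DCoh.VanishesOutside P a b) :
    ∃ n : ℤ → ℕ, (∀ k, k < a ∨ b < k → n k = 0) ∧ Nonempty (∀ k, Coords (P.X k) (n k)) := by
  choose n f using hfree
  have : ∀ k, Nonempty (Coords (P.X k) (if k < a ∨ b < k then 0 else n k)) := fun k => by
    by_cases hk : k < a ∨ b < k
    · rw [if_pos hk]
      exact ⟨{ π := fun l => l.elim0, ι := fun l => l.elim0, ι_π := fun l => l.elim0,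
               total := (hP k hk).eq_of_src _ _ }⟩
    · rw [if_neg hk]
      exact ⟨coords (f k).some⟩
  exact ⟨_, fun k hk => if_pos hk, ⟨fun k => (this k).some⟩⟩

/-- the dimension of the cohomology of a fibre -/
noncomputable abbrev fdim (P : CochainComplex W.Modules ℤ) (w : W) {F : Type u} [Field F]
    (φ : W.presheaf.stalk w →+* F) (k : ℤ) : ℕ :=
  Module.finrank F ((((ModuleCat.extendScalars φ).mapHomologicalComplex (ComplexShape.up ℤ)).obj
    ((stCx w).obj P)).homology k)

variable {P : CochainComplex W.Modules ℤ} {n : ℤ → ℕ} (c : ∀ k, Coords (P.X k) (n k))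

include c in
lemma fdim_eq (w : W) {F F' : Type u} [Field F] [Field F'] (φ : W.presheaf.stalk w →+* F) [IsLocalHom φ]
    (φ' : W.presheaf.stalk w →+* F') [IsLocalHom φ'] (k : ℤ) : fdim P w φ k = fdim P w φ' k := by
  have key : ∀ p q : ℤ, rk c w φ p q = rk c w φ' p q := fun p q => by
    obtain ⟨U, hU, h⟩ := rank_nbhd ((c p).matrix (c q) (P.d p q)) w φ
    obtain ⟨U', hU', h'⟩ := rank_nbhd ((c p).matrix (c q) (P.d p q)) w φ'
    exact le_antisymm (h w hU φ') (h' w hU' φ)
  have e : fdim P w φ k + rk c w φ (k - 1) k + rk c w φ k (k + 1) = n k :=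
    finrank_fibre_homology (c (k - 1)) (c k) (c (k + 1)) w φ
  have e' : fdim P w φ' k + rk c w φ' (k - 1) k + rk c w φ' k (k + 1) = n k :=
    finrank_fibre_homology (c (k - 1)) (c k) (c (k + 1)) w φ'
  rw [key, key] at e
  omega

include c in
lemma fdim_zero_nbhd {a b : ℤ} (hn : ∀ k, k < a ∨ b < k → n k = 0) (w : W) {F : Type u} [Field F]
    (φ : W.presheaf.stalk w →+* F) [IsLocalHom φ] (h : ∀ k, fdim P w φ k = 0) :
    ∃ U : W.Opens, w ∈ U ∧ ∀ y ∈ U, ∀ {F' : Type u} [Field F'] (φ' : W.presheaf.stalk y →+* F') [IsLocalHom φ'],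
      ∀ k, fdim P y φ' k = 0 := by
  choose U hU hr using fun p : ℤ => rank_nbhd ((c p).matrix (c (p + 1)) (P.d p (p + 1))) w φ
  let V : W.Opens := ⟨⋂ p : Finset.Icc (a - 1) b, (U p : Set W), isOpen_iInter_of_finite fun p => (U p).2⟩
  refine ⟨V, Set.mem_iInter.2 fun p => hU p, fun y hy F' _ φ' _ k => ?_⟩
  have e : fdim P y φ' k + rk c y φ' (k - 1) k + rk c y φ' k (k + 1) = n k :=
    finrank_fibre_homology (c (k - 1)) (c k) (c (k + 1)) y φ'
  have e₀ : fdim P w φ k + rk c w φ (k - 1) k + rk c w φ k (k + 1) = n k :=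
    finrank_fibre_homology (c (k - 1)) (c k) (c (k + 1)) w φ
  by_cases hk : k < a ∨ b < k
  · have := hn k hk; omega
  · have h1 : rk c w φ k (k + 1) ≤ rk c y φ' k (k + 1) :=
      hr k y (Set.mem_iInter.1 hy ⟨k, by simp only [Finset.mem_Icc]; omega⟩) φ'
    have h2 : rk c w φ (k - 1) k ≤ rk c y φ' (k - 1) k := by
      have := hr (k - 1) y (Set.mem_iInter.1 hy ⟨k - 1, by simp only [Finset.mem_Icc]; omega⟩) φ'
      have aux : ∀ (p q : ℤ), p = q → rk c w φ (k - 1) p ≤ rk c y φ' (k - 1) p → rk c w φ (k - 1) q ≤ rk c y φ' (k - 1) q :=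
        fun p q h => h ▸ id
      exact aux _ _ (sub_add_cancel k 1) this
    have := h k
    omega

lemma isLocalHom_residue {R : Type u} [CommRing R] [IsLocalRing R] :
    IsLocalHom (algebraMap R (R ⧸ IsLocalRing.maximalIdeal R)) where
  map_nonunit a ha := by
    by_contra hna
    letI : Field (R ⧸ IsLocalRing.maximalIdeal R) := Ideal.Quotient.field _
    exact ha.ne_zero (Ideal.Quotient.eq_zero_iff_mem.2 hna)

include c in
lemma stalk_free_finite (y : W) (k : ℤ) :
    Module.Free (W.presheaf.stalk y) (((stCx y).obj P).X k) ∧ Module.Finite (W.presheaf.stalk y) (((stCx y).obj P).X k) :=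
  ⟨Module.Free.of_basis ((c k).basis y), Module.Finite.of_basis ((c k).basis y)⟩

include c in
/-- concentration at a point from one fibre -/
lemma stalk_concentrated {a b : ℤ} (hP : DCoh.VanishesOutside P a b) (w : W) {F : Type u} [Field F]
    (φ : W.presheaf.stalk w →+* F) [IsLocalHom φ] (i : ℤ) (h : ∀ k, k ≠ i → fdim P w φ k = 0) :
    (∀ k, k ≠ i → ((stCx w).obj P).ExactAt k) ∧ ∃ (r : ℕ) (z : Fin r → ((stCx w).obj P).X i),
      (∀ l, (((stCx w).obj P).d i (i + 1)).hom (z l) = 0) ∧
      (∀ v : Fin r → W.presheaf.stalk w, (∃ y, (((stCx w).obj P).d (i - 1) i).hom y = ∑ l, v l • z l) → v = 0) ∧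
      ∀ x, (((stCx w).obj P).d i (i + 1)).hom x = 0 → ∃ (v : Fin r → W.presheaf.stalk w) (y : _),
        (((stCx w).obj P).d (i - 1) i).hom y = x - ∑ l, v l • z l := by
  have := fun k => (stalk_free_finite c w k).1
  have := fun k => (stalk_free_finite c w k).2
  refine H7FreeCx.concentrated ((stCx w).obj P) (a := a) (b := b)
    (fun k hk => (DerSch.stalkFunctor W w).map_isZero (hP k hk)) fun k hk => H7DegAlg.modExact_of_finrank _ ?_
  letI : Field (W.presheaf.stalk w ⧸ IsLocalRing.maximalIdeal (W.presheaf.stalk w)) := Ideal.Quotient.field _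
  have := isLocalHom_residue (R := W.presheaf.stalk w)
  exact (fdim_eq c w φ (algebraMap _ _) k).symm.trans (h k hk)

/-- the local theorem -/
theorem local_single (hW : IsAffineOpen (⊤ : W.Opens)) {P : CochainComplex W.Modules ℤ}
    (hfree : ∀ k, IsFree (P.X k)) {a b : ℤ} (hP : DCoh.VanishesOutside P a b) (w : W) {F : Type u} [Field F]
    (φ : W.presheaf.stalk w →+* F) [IsLocalHom φ] (i : ℤ) (r : ℕ) (h : ∀ k, k ≠ i → fdim P w φ k = 0)
    (hr : fdim P w φ i = r) :
    ∃ U : W.Opens, w ∈ U ∧ Nonempty (DerivedCategory.Q.obj ((pullCx U.ι).obj P) ≅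
      DerivedCategory.Q.obj ((single (U : Scheme.{u}).Modules (ComplexShape.up ℤ) i).obj (FlatMod.freeMod U r))) := by
  obtain ⟨n, hn, ⟨c⟩⟩ := exists_coords_family hfree hP
  obtain ⟨hex, r₀, z, hz, hind, hspan⟩ := stalk_concentrated c hP w φ i h
  -- global cycles
  choose g s₀ hg hs₀ using fun l => exists_global hW (c i) w (z l)
  have hd₀ : ∀ l, (P.X (i + 1)).presheaf.germ ⊤ w trivial ((P.d i (i + 1)).app ⊤ (s₀ l)) = 0 := fun l => by
    refine (DerSch.stalkFunctor_map_germ w (P.d i (i + 1)) ⊤ trivial (s₀ l)).symm.trans ?_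
    refine (congrArg (((DerSch.stalkFunctor W w).map (P.d i (i + 1))).hom) (hs₀ l)).trans ?_
    refine (map_smul ((DerSch.stalkFunctor W w).map (P.d i (i + 1))).hom _ _).trans ?_
    exact smul_eq_zero_of_right _ (hz l)
  choose h' hh' hkill using fun l => exists_kill hW (c (i + 1)) w _ (hd₀ l)
  let s : Fin r₀ → Γ(P.X i, ⊤) := fun l => h' l • s₀ l
  let φ₀ : FlatMod.freeMod W r₀ ⟶ P.X i := Limits.Sigma.desc fun l => (unitEquiv _).symm (s l)
  have hφ₀ : φ₀ ≫ P.d i (i + 1) = 0 := Limits.Sigma.hom_ext _ _ fun l => by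
    rw [Limits.Sigma.ι_desc_assoc, comp_zero]
    apply (unitEquiv (P.X (i + 1))).injective
    rw [unitEquiv_comp, Equiv.apply_symm_apply, Scheme.Modules.Hom.app_smul, hkill]
    rfl
  let S := (single W.Modules (ComplexShape.up ℤ) i).obj (FlatMod.freeMod W r₀)
  let f : S ⟶ P := mkHomFromSingle φ₀ fun k hk => by
    obtain rfl : i + 1 = k := hk
    exact hφ₀
  have hfi : f.f i = (singleObjXSelf (ComplexShape.up ℤ) i (FlatMod.freeMod W r₀)).hom ≫ φ₀ := mkHomFromSingle_f _ _
  let cS : Coords (S.X i) r₀ := coords (singleObjXSelf (ComplexShape.up ℤ) i (FlatMod.freeMod W r₀))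
  let u : Fin r₀ → W.presheaf.stalk w := fun l => (W.presheaf.germ ⊤ w trivial).hom (h' l) * g l
  have hu : ∀ l, IsUnit (u l) := fun l => (hh' l).mul (hg l)
  have himg : ∀ l, ((DerSch.stalkFunctor W w).map (f.f i)).hom (cS.basis w l) = u l • z l := fun l => by
    have e : ((DerSch.stalkFunctor W w).map (cS.ι l ≫ f.f i)).hom (one w) =
        ((DerSch.stalkFunctor W w).map (f.f i)).hom (cS.basis w l) := by
      rw [basis_apply, Functor.map_comp]; rfl
    have e' : cS.ι l ≫ f.f i = (unitEquiv _).symm (s l) := by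
      rw [hfi]
      show (Limits.Sigma.ι (fun _ : Fin r₀ => Coh.structureModule W) l ≫
        (singleObjXSelf (ComplexShape.up ℤ) i (FlatMod.freeMod W r₀)).inv) ≫ _ = _
      rw [Category.assoc, Iso.inv_hom_id_assoc, Limits.Sigma.ι_desc]
    refine e.symm.trans ?_
    rw [e', stalk_unitEquiv, Equiv.apply_symm_apply]
    refine (germ_smul' (M := P.X i) w ⊤ trivial (h' l) (s₀ l)).trans ?_
    refine (congrArg (_ • ·) (hs₀ l)).trans ?_
    exact smul_smul _ _ _
  have hsz : ∀ k, k ≠ i → IsZero (S.X k) := fun k hk => isZero_single_obj_X _ _ _ _ hk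
  have hq : QuasiIso ((stCx w).map f) := by
    refine H7DegAlg.quasiIso_into_concentrated _ (fun k hk => (DerSch.stalkFunctor W w).map_isZero (hsz k hk)) hex
      (fun x hx => ?_) (fun x y hy => ?_)
    · obtain ⟨v, y, hy⟩ := hspan x hx
      refine ⟨∑ l, (v l * ↑((hu l).unit⁻¹ : (W.presheaf.stalk w)ˣ)) • cS.basis w l, y, hy.trans (congrArg (x - ·) ?_)⟩
      refine Eq.symm ((map_sum ((DerSch.stalkFunctor W w).map (f.f i)).hom _ _).trans ?_)
      refine Finset.sum_congr rfl fun l _ => ?_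
      refine (map_smul ((DerSch.stalkFunctor W w).map (f.f i)).hom _ _).trans ((congrArg _ (himg l)).trans ((smul_smul _ _ _).trans ?_))
      exact congrArg (· • z l) (by rw [mul_assoc, IsUnit.val_inv_mul, mul_one])
    · have e : ((DerSch.stalkFunctor W w).map (f.f i)).hom x = ∑ l, ((cS.basis w).repr x l * u l) • z l := by
        refine (congrArg ((DerSch.stalkFunctor W w).map (f.f i)).hom ((cS.basis w).sum_repr x).symm).trans ?_
        refine (map_sum ((DerSch.stalkFunctor W w).map (f.f i)).hom _ _).trans (Finset.sum_congr rfl fun l _ => ?_)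
        exact (map_smul ((DerSch.stalkFunctor W w).map (f.f i)).hom _ _).trans
          ((congrArg _ (himg l)).trans (smul_smul _ _ _))
      have h0 := hind _ ⟨y, hy.trans e⟩
      refine ((cS.basis w).sum_repr x).symm.trans (Finset.sum_eq_zero fun l _ => ?_)
      exact smul_eq_zero_of_left (((hu l).mul_left_eq_zero).1 (congrFun h0 l)) _
  -- the cone
  let K := mappingCone f
  obtain ⟨a', b', hK⟩ : ∃ a' b', DCoh.VanishesOutside K a' b' := ⟨min a i - 1, max b i, fun k hk =>
    (mappingCone.isZero_X_iff f k).2 ⟨hsz _ (by omega), hP k (by omega)⟩⟩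
  have hSfree : ∀ k, IsFree (S.X k) := fun k => by
    by_cases hk : k = i
    · subst hk; exact ⟨r₀, ⟨singleObjXSelf _ _ _⟩⟩
    · exact isFree_of_isZero (hsz k hk)
  have hKfree : ∀ k, IsFree (K.X k) := fun k => by
    have := HomologicalComplex.HasHomotopyCofiber.hasBinaryBiproduct f k (k + 1) rfl
    exact (isFree_biprod (hSfree (k + 1)) (hfree k)).of_iso (homotopyCofiber.XIsoBiprod f k (k + 1) rfl).symm
  have hKsp : DCoh.IsStrictlyPerfect K := ⟨⟨a', b', hK⟩, fun k => by
    obtain ⟨m, ⟨e⟩⟩ := hKfree k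
    exact finLocFree_of_iso e.symm fun y => ⟨⊤, m, trivial, ⟨(Scheme.Modules.restrictFunctorIsoPullback _).app _ ≪≫
      pullFreeIso _ m⟩⟩⟩
  let eC : (stCx w).obj K ≅ mappingCone ((stCx w).map f) := mappingCone.mapHomologicalComplexIso f _
  have hac : ((stCx w).obj K).Acyclic := fun k =>
    ((quasiIso_iff_acyclic_cone _).1 hq k).of_iso eC.symm
  have hKskf := skf_of_strictlyPerfect hKsp
  have hacF := acyclic_extendScalars φ (hKskf w) hac
  have hKdim : ∀ k, fdim K w φ k = 0 := fun k => by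
    have := ModuleCat.subsingleton_of_isZero ((hacF k).isZero_homology)
    exact Module.finrank_zero_of_subsingleton
  obtain ⟨nK, hnK, ⟨cK⟩⟩ := exists_coords_family hKfree hK
  -- the rank
  have hr₀ : r₀ = r := by
    let E := (ModuleCat.extendScalars φ).mapHomologicalComplex (ComplexShape.up ℤ)
    have hqF : QuasiIso (E.map ((stCx w).map f)) := by
      rw [quasiIso_iff_acyclic_cone]
      intro k
      exact ((hacF k).of_iso ((mappingCone.mapHomologicalComplexIso ((stCx w).map f) (ModuleCat.extendScalars φ)).symm.trans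
        (E.mapIso eC.symm)).symm)
    have := hqF.quasiIsoAt i
    have e1 : fdim S w φ i = fdim P w φ i := (asIso (homologyMap (E.map ((stCx w).map f)) i)).toLinearEquiv.finrank_eq
    let c0 : ∀ k, k ≠ i → Coords (S.X k) 0 := fun k hk =>
      { π := fun l => l.elim0, ι := fun l => l.elim0, ι_π := fun l => l.elim0, total := (hsz k hk).eq_of_src _ _ }
    have e2 := finrank_fibre_homology (P := S) (c0 (i - 1) (by omega)) cS (c0 (i + 1) (by omega)) w φ
    have l1 := Matrix.rank_le_card_width (((c0 (i - 1) (by omega)).matrix cS (S.d (i - 1) i)).map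
      (φ.comp (W.presheaf.germ ⊤ w trivial).hom))
    have l2 := Matrix.rank_le_card_height ((cS.matrix (c0 (i + 1) (by omega)) (S.d i (i + 1))).map
      (φ.comp (W.presheaf.germ ⊤ w trivial).hom))
    rw [Fintype.card_fin] at l1 l2
    have e3 : fdim S w φ i = r₀ := by unfold fdim; omega
    omega
  subst hr₀
  -- nearby
  obtain ⟨U, hwU, hU⟩ := fdim_zero_nbhd cK hnK w φ hKdim
  refine ⟨U, hwU, ?_⟩
  have hstalk : ∀ y ∈ U, ((stCx y).obj K).Acyclic := fun y hy k => by
    letI : Field (W.presheaf.stalk y ⧸ IsLocalRing.maximalIdeal (W.presheaf.stalk y)) := Ideal.Quotient.field _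
    have := isLocalHom_residue (R := W.presheaf.stalk y)
    exact (stalk_concentrated cK hK y (algebraMap (W.presheaf.stalk y) (W.presheaf.stalk y ⧸ IsLocalRing.maximalIdeal (W.presheaf.stalk y)))
      (k + 1) fun m _ => hU y hy _ m).1 k (by omega)
  have hq' : QuasiIso ((pullCx U.ι).map f) := by
    rw [quasiIso_iff_acyclic_cone]
    have hacU : ((pullCx U.ι).obj K).Acyclic := (H7KFlatSheaf.acyclic_iff _).2 fun y k =>
      ((acyclic_extendScalars (U.ι.stalkMap y).hom (hKskf (U.ι.base y)) (hstalk _ y.2)) k).of_iso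
        (H7StalkPull.stCxPullIso U.ι y K).symm
    intro k
    exact (hacU k).of_iso (mappingCone.mapHomologicalComplexIso f (Scheme.Modules.pullback U.ι))
  have : IsIso (DerivedCategory.Q.map ((pullCx U.ι).map f)) :=
    (DerivedCategory.isIso_Q_map_iff_quasiIso (C := (U : Scheme.{u}).Modules) _).2 hq'
  exact ⟨(asIso (DerivedCategory.Q.map ((pullCx U.ι).map f))).symm ≪≫ DerivedCategory.Q.mapIso
    ((singleMapHomologicalComplex (Scheme.Modules.pullback U.ι) (ComplexShape.up ℤ) i).app _ ≪≫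
      (single _ _ i).mapIso (pullFreeIso U.ι _))⟩

end Groth.Agent.H7DegLocal
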