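import Groth.Agent.Lib.H7LocLift
import Groth.Agent.Lib.H7DegLocal
import Mathlib

/-! A finitely presented module with flat stalk at a point is free near that point. -/

universe u v w
open CategoryTheory Limits AlgebraicGeometry Opposite TopologicalSpace HomologicalComplex

namespace Groth.Agent.H7CokerFree
open Groth.Agent H7Stalk H7PerfPull H7FinFree H7Betti H7DegLocal H7LocLift

variable {W : Scheme.{u}}

/-- germs of global sections up to a common unit -/
lemma exists_global_family (hW : IsAffineOpen (⊤ : W.Opens)) {M : W.Modules} {n m : ℕ} (c : Coords M n) (w : W)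
    (z : Fin m → (DerSch.stalkFunctor W w).obj M) :
    ∃ (g : W.presheaf.stalk w) (s : Fin m → Γ(M, ⊤)), IsUnit g ∧
      ∀ i, M.presheaf.germ ⊤ w trivial (s i) = g • z i := by
  classical
  letI : Algebra Γ(W, ⊤) (W.presheaf.stalk w) := TopCat.Presheaf.algebra_section_stalk W.presheaf (⟨w, trivial⟩ : (⊤ : W.Opens))
  have : IsLocalization.AtPrime (W.presheaf.stalk w) (hW.primeIdealOf ⟨w, trivial⟩).asIdeal :=
    hW.isLocalization_stalk ⟨w, trivial⟩
  obtain ⟨b, hb⟩ := IsLocalization.exist_integer_multiples_of_finite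
    (hW.primeIdealOf ⟨w, trivial⟩).asIdeal.primeCompl (fun p : Fin m × Fin n => (c.basis w).repr (z p.1) p.2)
  choose a ha using hb
  refine ⟨algebraMap Γ(W, ⊤) (W.presheaf.stalk w) (b : Γ(W, ⊤)), fun i => ∑ l, a (i, l) • unitEquiv M (c.ι l),
    IsLocalization.map_units _ b, fun i => ?_⟩
  refine (map_sum (M.presheaf.germ ⊤ w trivial).hom _ _).trans ?_
  conv_rhs => rw [← (c.basis w).sum_repr (z i), Finset.smul_sum]
  refine Finset.sum_congr rfl fun l _ => ?_
  refine (germ_smul' (M := M) w ⊤ trivial (a (i, l)) (unitEquiv M (c.ι l))).trans ?_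
  rw [← stalk_unitEquiv, basis_apply, smul_smul]
  exact congrArg (· • ((DerSch.stalkFunctor W w).map (c.ι l)).hom (one w))
    ((ha (i, l)).trans (Algebra.smul_def _ _))

/-- the map with prescribed images of the basis -/
noncomputable def ofSections {M N : W.Modules} {n : ℕ} (c : Coords M n) (s : Fin n → Γ(N, ⊤)) : M ⟶ N :=
  ∑ k, c.π k ≫ (unitEquiv N).symm (s k)

lemma ofSections_basis {M N : W.Modules} {n : ℕ} (c : Coords M n) (s : Fin n → Γ(N, ⊤)) (w : W) (l : Fin n) :
    ((DerSch.stalkFunctor W w).map (ofSections c s)).hom (c.basis w l) = N.presheaf.germ ⊤ w trivial (s l) := by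
  have e : c.ι l ≫ ofSections c s = (unitEquiv N).symm (s l) := by
    unfold ofSections
    rw [Preadditive.comp_sum, Finset.sum_eq_single l]
    · rw [← Category.assoc, c.ι_π, if_pos rfl, Category.id_comp]
    · intro k _ hk
      rw [← Category.assoc, c.ι_π, if_neg (Ne.symm hk), zero_comp]
    · simp
  rw [basis_apply]
  refine Eq.trans ?_ ((congrArg (fun t : Coh.structureModule W ⟶ N => ((DerSch.stalkFunctor W w).map t).hom (one w)) e).trans ?_)
  · exact (congrArg (fun t : (DerSch.stalkFunctor W w).obj (Coh.structureModule W) ⟶ (DerSch.stalkFunctor W w).obj N =>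
      t.hom (one w)) ((DerSch.stalkFunctor W w).map_comp (c.ι l) (ofSections c s))).symm
  · rw [stalk_unitEquiv, Equiv.apply_symm_apply]

/-- a map out of a free module vanishing at a point vanishes near it -/
lemma zero_near {M N : W.Modules} {n : ℕ} (c : Coords M n) (h : M ⟶ N) (w : W)
    (hw : ∀ z, ((DerSch.stalkFunctor W w).map h).hom z = 0) :
    ∃ V : W.Opens, w ∈ V ∧ ∀ V' ≤ V, (Scheme.Modules.restrictFunctor V'.ι).map h = 0 := by
  obtain ⟨V, hV, l, hl⟩ := exists_lift c (0 : (⊥_ W.Modules) ⟶ N) h w fun z => ⟨0, by rw [hw z, map_zero]⟩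
  rw [Functor.map_zero, comp_zero] at hl
  refine ⟨V, hV, fun V' hV' => ?_⟩
  have e := NatIso.naturality_1 ((Scheme.Modules.restrictFunctorComp (W.homOfLE hV') V.ι).symm ≪≫
    Scheme.Modules.restrictFunctorCongr (W.homOfLE_ι hV')) h
  rw [← e]
  show _ ≫ (Scheme.Modules.restrictFunctor (W.homOfLE hV')).map ((Scheme.Modules.restrictFunctor V.ι).map h) ≫ _ = 0
  rw [← hl, Functor.map_zero, zero_comp, comp_zero]

lemma stmap_comp (w : W) {A B C : W.Modules} (f : A ⟶ B) (g : B ⟶ C) (z : (DerSch.stalkFunctor W w).obj A) :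
    ((DerSch.stalkFunctor W w).map (f ≫ g)).hom z =
      ((DerSch.stalkFunctor W w).map g).hom (((DerSch.stalkFunctor W w).map f).hom z) := by
  rw [Functor.map_comp]; rfl

/-- restriction to a smaller open is restriction twice -/
noncomputable def resIso {V V' : W.Opens} (h : V' ≤ V) :
    Scheme.Modules.restrictFunctor V.ι ⋙ Scheme.Modules.restrictFunctor (W.homOfLE h) ≅
      Scheme.Modules.restrictFunctor V'.ι :=
  (Scheme.Modules.restrictFunctorComp (W.homOfLE h) V.ι).symm ≪≫ Scheme.Modules.restrictFunctorCongr (W.homOfLE_ι h)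

/-- lifting, on every smaller open -/
lemma lift_near {M N N' : W.Modules} {n : ℕ} (c : Coords M n) (g : N ⟶ N') (h : M ⟶ N') (w : W)
    (hx : ∀ z, ∃ y, ((DerSch.stalkFunctor W w).map g).hom y = ((DerSch.stalkFunctor W w).map h).hom z) :
    ∃ V : W.Opens, w ∈ V ∧ ∀ V' ≤ V, ∃ l : (Scheme.Modules.restrictFunctor V'.ι).obj M ⟶ (Scheme.Modules.restrictFunctor V'.ι).obj N,
      l ≫ (Scheme.Modules.restrictFunctor V'.ι).map g = (Scheme.Modules.restrictFunctor V'.ι).map h := by
  obtain ⟨V, hV, l, hl⟩ := exists_lift c g h w hx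
  refine ⟨V, hV, fun V' hV' => ⟨(resIso hV').inv.app M ≫ (Scheme.Modules.restrictFunctor (W.homOfLE hV')).map l ≫
    (resIso hV').hom.app N, ?_⟩⟩
  have e := (resIso hV').hom.naturality g
  rw [← NatIso.naturality_1 (resIso hV') h]
  simp only [Category.assoc]
  rw [← e]
  simp only [Functor.comp_map]
  rw [← Functor.map_comp_assoc, hl]

set_option maxHeartbeats 1000000 in
theorem coker_free_near_affine (hW : IsAffineOpen (⊤ : W.Opens)) {M N : W.Modules} {m n : ℕ} (cM : Coords M m)
    (cN : Coords N n) (g : M ⟶ N) (w : W)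
    (hflat : Module.Flat (W.presheaf.stalk w) ((DerSch.stalkFunctor W w).obj (cokernel g))) :
    ∃ V : W.Opens, w ∈ V ∧ IsFree ((Scheme.Modules.restrictFunctor V.ι).obj (cokernel g)) := by
  let St := DerSch.stalkFunctor W w
  let p := cokernel.π g
  let S := ShortComplex.mk g p (cokernel.condition g)
  have hS : (S.map St).Exact := (ShortComplex.exact_cokernel g).map St
  rw [ShortComplex.moduleCat_exact_iff] at hS
  have hp : Function.Surjective (St.map p).hom := (ModuleCat.epi_iff_surjective _).1 inferInstance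
  have : Module.Finite (W.presheaf.stalk w) (St.obj N) := Module.Finite.of_basis (cN.basis w)
  have : Module.Finite (W.presheaf.stalk w) (St.obj (cokernel g)) := Module.Finite.of_surjective _ hp
  have : Module.Free (W.presheaf.stalk w) (St.obj (cokernel g)) := Module.free_of_flat_of_isLocalRing
  let bQ := Module.finBasis (W.presheaf.stalk w) (St.obj (cokernel g))
  let k := Module.finrank (W.presheaf.stalk w) (St.obj (cokernel g))
  choose e he using fun l => hp (bQ l)
  let O := FlatMod.freeMod W k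
  let cO : Coords O k := coords (Iso.refl _)
  -- the section of the quotient
  obtain ⟨u, s, hu, hs⟩ := exists_global_family hW cN w e
  let φ : O ⟶ N := ofSections cO s
  have hφ : ∀ l, (St.map φ).hom (cO.basis w l) = u • e l := fun l => (ofSections_basis cO s w l).trans (hs l)
  -- the retraction
  let ρ : St.obj (cokernel g) →ₗ[W.presheaf.stalk w] St.obj O := bQ.constr ℕ fun l => cO.basis w l
  have hρ : ∀ l, ρ (bQ l) = cO.basis w l := fun l => bQ.constr_basis ℕ _ l
  obtain ⟨v, t, hv, ht⟩ := exists_global_family hW cO w (fun i => ρ ((St.map p).hom (cN.basis w i)))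
  let R : N ⟶ O := ofSections cN t
  have hR : ∀ z, (St.map R).hom z = v • ρ ((St.map p).hom z) := fun z => by
    refine LinearMap.congr_fun (f := (St.map R).hom) (g := v • ρ.comp (St.map p).hom) ?_ z
    exact (cN.basis w).ext fun i => (ofSections_basis cN t w i).trans (ht i)
  have hgR : ∀ z, (St.map (g ≫ R)).hom z = 0 := fun z => by
    refine (stmap_comp w g R z).trans ((hR _).trans ?_)
    have hz : (St.map p).hom ((St.map g).hom z) = 0 := (stmap_comp w g p z).symm.trans (by
      rw [cokernel.condition, Functor.map_zero]; rfl)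
    rw [hz, map_zero, smul_zero]
  have hφR : ∀ l, (St.map (φ ≫ R)).hom (cO.basis w l) = (v * u) • cO.basis w l := fun l => by
    rw [Functor.map_comp]
    refine (congrArg (St.map R).hom (hφ l)).trans ((hR _).trans ?_)
    rw [map_smul, he, map_smul, hρ, smul_smul]
  obtain ⟨V₁, hV₁, h₁⟩ := zero_near cM (g ≫ R) w hgR
  obtain ⟨V₂, hV₂, h₂⟩ := lift_near cO (φ ≫ R) (𝟙 O) w fun z => by
    refine ⟨((hu.unit⁻¹ : (W.presheaf.stalk w)ˣ) * (hv.unit⁻¹ : (W.presheaf.stalk w)ˣ) : W.presheaf.stalk w) • z, ?_⟩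
    have hl : (St.map (φ ≫ R)).hom = (v * u) • LinearMap.id := (cO.basis w).ext fun l => (hφR l).trans rfl
    rw [CategoryTheory.Functor.map_id]
    refine (congrArg (fun f : (DerSch.stalkFunctor W w).obj O →ₗ[W.presheaf.stalk w] (DerSch.stalkFunctor W w).obj O => f _) hl).trans ?_
    simp only [LinearMap.smul_apply, LinearMap.id_apply, smul_smul]
    rw [show v * u * (↑(hu.unit⁻¹) * ↑(hv.unit⁻¹)) = (v * ↑(hv.unit⁻¹)) * (u * ↑(hu.unit⁻¹)) by ring,
      IsUnit.mul_val_inv, IsUnit.mul_val_inv, one_mul, one_smul]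
    rfl
  obtain ⟨V₃, hV₃, h₃⟩ := lift_near cN (biprod.desc φ g) (𝟙 N) w fun z => by
    let c := bQ.repr ((St.map p).hom z)
    let z₀ : St.obj O := ((hu.unit⁻¹ : (W.presheaf.stalk w)ˣ) : W.presheaf.stalk w) • ∑ l, c l • cO.basis w l
    have hz₀ : (St.map φ).hom z₀ = ∑ l, c l • e l := by
      rw [map_smul, map_sum, Finset.smul_sum]
      refine Finset.sum_congr rfl fun l _ => ?_
      rw [map_smul, hφ, smul_smul, smul_smul, mul_assoc, mul_comm (c l) u, ← mul_assoc, IsUnit.val_inv_mul, one_mul]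
    obtain ⟨y, hy⟩ := hS (z - ∑ l, c l • e l) (by
      show (St.map p).hom _ = 0
      rw [map_sub, map_sum, sub_eq_zero]
      simp only [map_smul, he]
      exact (bQ.sum_repr _).symm)
    refine ⟨(St.map biprod.inl).hom z₀ + (St.map biprod.inr).hom y, ?_⟩
    rw [map_add, CategoryTheory.Functor.map_id]
    have i1 : (St.map (biprod.desc φ g)).hom ((St.map biprod.inl).hom z₀) = (St.map φ).hom z₀ :=
      (stmap_comp w biprod.inl (biprod.desc φ g) z₀).symm.trans (by rw [biprod.inl_desc])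
    have i2 : (St.map (biprod.desc φ g)).hom ((St.map biprod.inr).hom y) = (St.map g).hom y :=
      (stmap_comp w biprod.inr (biprod.desc φ g) y).symm.trans (by rw [biprod.inr_desc])
    rw [i1, i2, hz₀]
    refine (congrArg (_ + ·) (show (St.map g).hom y = _ from hy)).trans ?_
    rw [add_sub_cancel]
    rfl
  let V := V₁ ⊓ V₂ ⊓ V₃
  let F := Scheme.Modules.restrictFunctor V.ι
  have e₁ := h₁ V (inf_le_left.trans inf_le_left)
  obtain ⟨τ, hτ⟩ := h₂ V (inf_le_left.trans inf_le_right)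
  obtain ⟨σ, hσ⟩ := h₃ V inf_le_right
  rw [CategoryTheory.Functor.map_id] at hτ hσ
  -- `φ̄` is an isomorphism on `V`
  let φ' : F.obj O ⟶ F.obj (cokernel g) := F.map φ ≫ F.map p
  have : Epi φ' := by
    refine ⟨fun a b hab => ?_⟩
    rw [← cancel_epi (F.map p)]
    have : Epi (biprod.desc (F.map φ) (F.map g)) → True := fun _ => trivial
    have hsum : 𝟙 (F.obj N) = (σ ≫ F.map biprod.fst) ≫ F.map φ + (σ ≫ F.map biprod.snd) ≫ F.map g := by
      rw [Category.assoc, Category.assoc, ← Preadditive.comp_add, ← F.map_comp, ← F.map_comp, ← F.map_add,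
        ← biprod.desc_eq]
      exact hσ.symm
    have hgp : F.map g ≫ F.map p = 0 := by rw [← F.map_comp, cokernel.condition, F.map_zero]
    have key : ∀ {Z} (q : F.obj (cokernel g) ⟶ Z), F.map p ≫ q = (σ ≫ F.map biprod.fst) ≫ φ' ≫ q := fun q => by
      conv_lhs => rw [← Category.id_comp (F.map p), hsum]
      simp only [Preadditive.add_comp, Category.assoc, reassoc_of% hgp, zero_comp, comp_zero, add_zero, φ']
    rw [key a, key b, hab]
  have hdesc : ∃ q : F.obj (cokernel g) ⟶ F.obj O, F.map p ≫ q = F.map R := by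
    have hc := isColimitCoforkMapOfIsColimit' F (cokernel.condition g) (cokernelIsCokernel g)
    exact ⟨hc.desc (CokernelCofork.ofπ (F.map R) (by rw [← F.map_comp]; exact e₁)),
      hc.fac (CokernelCofork.ofπ (F.map R) (by rw [← F.map_comp]; exact e₁)) WalkingParallelPair.one⟩
  obtain ⟨q, hq⟩ := hdesc
  -- surjective endomorphisms of free stalks are injective
  have hiso : IsIso (F.map φ ≫ F.map R) := by
    rw [← F.map_comp]
    let ψ := F.map (φ ≫ R)
    have hsec : τ ≫ ψ = 𝟙 _ := hτ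
    let cV : Coords (F.obj O) k := coords ((Scheme.Modules.restrictFunctorIsoPullback V.ι).app O ≪≫ pullFreeIso V.ι k)
    suffices ∀ y, IsIso ((DerSch.stalkFunctor (V : Scheme.{u}) y).map ψ) from
      (H7StalkDetect.jointly (V : Scheme.{u})).isIso ψ
    intro y
    have : Module.Finite ((V : Scheme.{u}).presheaf.stalk y) ((DerSch.stalkFunctor (V : Scheme.{u}) y).obj (F.obj O)) :=
      Module.Finite.of_basis (cV.basis y)
    have hs : Function.Surjective ((DerSch.stalkFunctor (V : Scheme.{u}) y).map ψ).hom := fun z =>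
      ⟨((DerSch.stalkFunctor (V : Scheme.{u}) y).map τ).hom z, by
        refine (stmap_comp y τ ψ z).symm.trans ?_
        rw [hsec, CategoryTheory.Functor.map_id]; rfl⟩
    exact (ConcreteCategory.isIso_iff_bijective _).2
      ⟨OrzechProperty.injective_of_surjective_endomorphism _ hs, hs⟩
  have : Mono φ' := by
    have : Mono (φ' ≫ q) := by
      rw [show φ' ≫ q = F.map φ ≫ F.map R by rw [Category.assoc, hq]]
      infer_instance
    exact mono_of_mono φ' q
  have : IsIso φ' := isIso_of_mono_of_epi φ'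
  exact ⟨V, ⟨⟨hV₁, hV₂⟩, hV₃⟩, (isFree_restrict V.ι ⟨k, ⟨Iso.refl _⟩⟩).of_iso (asIso φ')⟩

/-- global form -/
theorem coker_free_near {X : Scheme.{u}} {M N : X.Modules} (hM : FlatMod.IsFinLocFree M) (hN : FlatMod.IsFinLocFree N)
    (g : M ⟶ N) (x : X) (hflat : Module.Flat (X.presheaf.stalk x) ((DerSch.stalkFunctor X x).obj (cokernel g))) :
    ∃ V : X.Opens, x ∈ V ∧ IsFree ((Scheme.Modules.pullback V.ι).obj (cokernel g)) := by
  obtain ⟨U, hU, hUf⟩ := (isFinLocFree_iff M).1 hM x
  obtain ⟨U', hU', hUf'⟩ := (isFinLocFree_iff N).1 hN x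
  obtain ⟨A, hA, hxA, hAU⟩ := exists_isAffineOpen_mem_and_subset (U := U ⊓ U') (x := x) ⟨hU, hU'⟩
  have : IsAffine (A : Scheme.{u}) := hA
  let F := Scheme.Modules.pullback A.ι
  obtain ⟨m, ⟨eM⟩⟩ := hUf.mono (hAU.trans inf_le_left)
  obtain ⟨n, ⟨eN⟩⟩ := hUf'.mono (hAU.trans inf_le_right)
  let eC : F.obj (cokernel g) ≅ cokernel (F.map g) := PreservesCokernel.iso F g
  let φ := (A.ι.stalkMap ⟨x, hxA⟩).hom
  letI := φ.toAlgebra
  have hfl : Module.Flat ((A : Scheme.{u}).presheaf.stalk ⟨x, hxA⟩)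
      ((DerSch.stalkFunctor (A : Scheme.{u}) ⟨x, hxA⟩).obj (cokernel (F.map g))) := by
    have h1 : Module.Flat (X.presheaf.stalk (A.ι.base ⟨x, hxA⟩))
        ((DerSch.stalkFunctor X (A.ι.base ⟨x, hxA⟩)).obj (cokernel g)) := hflat
    have h2 : Module.Flat ((A : Scheme.{u}).presheaf.stalk ⟨x, hxA⟩)
        ((ModuleCat.extendScalars φ).obj ((DerSch.stalkFunctor X (A.ι.base ⟨x, hxA⟩)).obj (cokernel g))) :=
      inferInstanceAs (Module.Flat ((A : Scheme.{u}).presheaf.stalk ⟨x, hxA⟩)
        (TensorProduct (X.presheaf.stalk (A.ι.base ⟨x, hxA⟩)) ((A : Scheme.{u}).presheaf.stalk ⟨x, hxA⟩)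
          ((DerSch.stalkFunctor X (A.ι.base ⟨x, hxA⟩)).obj (cokernel g))))
    have e : (DerSch.stalkFunctor (A : Scheme.{u}) ⟨x, hxA⟩).obj (cokernel (F.map g)) ≅
        (ModuleCat.extendScalars φ).obj ((DerSch.stalkFunctor X (A.ι.base ⟨x, hxA⟩)).obj (cokernel g)) :=
      ((DerSch.stalkFunctor (A : Scheme.{u}) ⟨x, hxA⟩).mapIso eC).symm ≪≫
        (H7StalkPull.pullStalkIso A.ι ⟨x, hxA⟩).app (cokernel g)
    exact Module.Flat.of_linearEquiv e.toLinearEquiv
  obtain ⟨V, hV, hfree⟩ := coker_free_near_affine (isAffineOpen_top (A : Scheme.{u})) (coords eM) (coords eN)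
    (F.map g) ⟨x, hxA⟩ hfl
  refine ⟨A.ι ''ᵁ V, ⟨⟨x, hxA⟩, hV, rfl⟩, ?_⟩
  have hr : Set.range (A.ι ''ᵁ V).ι.base ⊆ Set.range (V.ι ≫ A.ι).base := by
    rintro _ ⟨z, rfl⟩
    obtain ⟨z', hz', e⟩ := z.2
    exact ⟨⟨z', hz'⟩, e⟩
  let h := IsOpenImmersion.lift (V.ι ≫ A.ι) (A.ι ''ᵁ V).ι hr
  have hh : h ≫ V.ι ≫ A.ι = (A.ι ''ᵁ V).ι := IsOpenImmersion.lift_fac _ _ hr
  have h2 : IsFree ((Scheme.Modules.pullback V.ι).obj (F.obj (cokernel g))) :=
    hfree.of_iso ((Scheme.Modules.restrictFunctorIsoPullback V.ι).app _ ≪≫ (Scheme.Modules.pullback V.ι).mapIso eC.symm)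
  exact ((h2.of_iso ((Scheme.Modules.pullbackComp V.ι A.ι).app _)).pullback h).of_iso
    ((Scheme.Modules.pullbackComp h (V.ι ≫ A.ι)).app _ ≪≫ eqToIso (by rw [hh]))

end Groth.Agent.H7CokerFree
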