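import Mathlib
import Groth.Prelude.Def_PolLaw
import Groth.Prelude.Def_PolLaw2

set_option linter.all false
set_option autoImplicit false

/-! Coefficients of polynomial laws; laws from their values on polynomial rings. -/

namespace Groth.Agent.H7PolLaw

open scoped TensorProduct
open MvPolynomial

universe u v w

variable {A : Type u} [CommRing A]

section Module

variable {σ τ : Type} {M : Type v} [AddCommGroup M] [Module A M] {N : Type w} [AddCommGroup N] [Module A N]

/-- coefficient of a monomial in `A[X] ⊗ N` -/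
noncomputable def cf (k : σ →₀ ℕ) : MvPolynomial σ A ⊗[A] N →ₗ[A] N :=
  (TensorProduct.lid A N).toLinearMap ∘ₗ (lcoeff A k).rTensor N

@[simp] theorem cf_tmul (k : σ →₀ ℕ) (p : MvPolynomial σ A) (y : N) :
    cf k (p ⊗ₜ[A] y) = coeff k p • y := by
  simp [cf]

theorem exists_expansion (x : MvPolynomial σ A ⊗[A] N) :
    ∃ K₀ : Finset (σ →₀ ℕ), ∀ K, K₀ ⊆ K →
      x = ∑ k ∈ K, (monomial k (1 : A)) ⊗ₜ[A] cf k x := by
  classical
  induction x using TensorProduct.induction_on with
  | zero => exact ⟨∅, fun K _ => by simp⟩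
  | tmul p y =>
    refine ⟨p.support, fun K hK => ?_⟩
    simp only [cf_tmul]
    rw [← Finset.sum_subset hK]
    · conv_lhs => rw [p.as_sum, TensorProduct.sum_tmul]
      refine Finset.sum_congr rfl fun k _ => ?_
      rw [TensorProduct.tmul_smul, TensorProduct.smul_tmul', MvPolynomial.smul_monomial, smul_eq_mul, mul_one]
    · intro k _ hk
      rw [MvPolynomial.notMem_support_iff.mp hk, zero_smul, TensorProduct.tmul_zero]
  | add x y hx hy =>
    obtain ⟨Kx, hx⟩ := hx
    obtain ⟨Ky, hy⟩ := hy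
    refine ⟨Kx ∪ Ky, fun K hK => ?_⟩
    simp only [map_add, TensorProduct.tmul_add, Finset.sum_add_distrib]
    rw [← hx K ((Finset.union_subset_left hK)), ← hy K (Finset.union_subset_right hK)]

theorem ext_cf {x y : MvPolynomial σ A ⊗[A] N} (h : ∀ k, cf k x = cf k y) : x = y := by
  classical
  obtain ⟨Kx, hx⟩ := exists_expansion x
  obtain ⟨Ky, hy⟩ := exists_expansion y
  rw [hx (Kx ∪ Ky) Finset.subset_union_left, hy (Kx ∪ Ky) Finset.subset_union_right]
  simp [h]

theorem mem_range_lTensor {W : Type w} [AddCommGroup W] [Module A W] (i : W →ₗ[A] N)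
    {x : MvPolynomial σ A ⊗[A] N} (h : ∀ k, cf k x ∈ LinearMap.range i) :
    x ∈ LinearMap.range (i.lTensor (MvPolynomial σ A)) := by
  obtain ⟨K, hK⟩ := exists_expansion x
  rw [hK K subset_rfl]
  refine Submodule.sum_mem _ fun k _ => ?_
  obtain ⟨y, hy⟩ := h k
  exact ⟨monomial k 1 ⊗ₜ[A] y, by rw [LinearMap.lTensor_tmul, hy]⟩

theorem cf_lTensor {N' : Type w} [AddCommGroup N'] [Module A N'] (L : N →ₗ[A] N') (k : σ →₀ ℕ)
    (x : MvPolynomial σ A ⊗[A] N) : cf k (L.lTensor _ x) = L (cf k x) := by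
  induction x using TensorProduct.induction_on with
  | zero => simp
  | tmul p y => simp
  | add x y hx hy => simp [hx, hy]

theorem exists_rep {S : Type*} [CommSemiring S] [Algebra A S] (x : S ⊗[A] M) :
    ∃ (n : ℕ) (s : Fin n → S) (b : Fin n → M), x = ∑ j, s j ⊗ₜ[A] b j := by
  induction x using TensorProduct.induction_on with
  | zero => exact ⟨0, Fin.elim0, Fin.elim0, by simp⟩
  | tmul s b => exact ⟨1, fun _ => s, fun _ => b, by simp⟩
  | add x y hx hy =>
    obtain ⟨n, s, b, rfl⟩ := hx
    obtain ⟨m, t, c, rfl⟩ := hy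
    exact ⟨n + m, Fin.append s t, Fin.append b c, by simp [Fin.sum_univ_add]⟩

/-- the generic element `∑ X_j ⊗ b_j` -/
noncomputable def gen [Fintype σ] (b : σ → M) : MvPolynomial σ A ⊗[A] M := ∑ j, X j ⊗ₜ[A] b j

theorem rTensor_gen [Fintype σ] {S : Type u} [CommSemiring S] [Algebra A S] (b : σ → M) (s : σ → S) :
    (aeval (R := A) s).toLinearMap.rTensor M (gen b) = ∑ j, s j ⊗ₜ[A] b j := by
  simp [gen]

theorem rTensor_comp_apply {S S' S'' : Type*} [CommSemiring S] [Algebra A S] [CommSemiring S']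
    [Algebra A S'] [CommSemiring S''] [Algebra A S''] (φ : S →ₐ[A] S') (ψ : S' →ₐ[A] S'') (x : S ⊗[A] M) :
    ψ.toLinearMap.rTensor M (φ.toLinearMap.rTensor M x) = (ψ.comp φ).toLinearMap.rTensor M x := by
  rw [AlgHom.comp_toLinearMap, LinearMap.rTensor_comp]; rfl

theorem rTensor_id_apply {S : Type*} [CommSemiring S] [Algebra A S] (x : S ⊗[A] M) :
    (AlgHom.id A S).toLinearMap.rTensor M x = x := by
  rw [AlgHom.toLinearMap_id, LinearMap.rTensor_id]; rfl

theorem rTensor_smul {S S' : Type*} [CommSemiring S] [Algebra A S] [CommSemiring S']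
    [Algebra A S'] (φ : S →ₐ[A] S') (a : S) (x : S ⊗[A] M) :
    φ.toLinearMap.rTensor M (a • x) = φ a • φ.toLinearMap.rTensor M x := by
  induction x using TensorProduct.induction_on with
  | zero => simp
  | tmul s m => simp [TensorProduct.smul_tmul']
  | add x y hx hy => simp only [smul_add, map_add, hx, hy]

/-- the coefficient `γ_k(b)` of a law -/
noncomputable def coef [Fintype σ] (F : M →ₚₗ[A] N) (b : σ → M) (k : σ →₀ ℕ) : N :=
  cf k (F.toFun' (MvPolynomial σ A) (gen b))

theorem toFun'_sum [Fintype σ] (F : M →ₚₗ[A] N) {S : Type u} [CommSemiring S] [Algebra A S]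
    (b : σ → M) (s : σ → S) :
    F.toFun' S (∑ j, s j ⊗ₜ[A] b j) =
      (aeval (R := A) s).toLinearMap.rTensor N (F.toFun' (MvPolynomial σ A) (gen b)) := by
  rw [PolynomialLaw.isCompat_apply', rTensor_gen]

theorem exists_toFun'_sum [Fintype σ] (F : M →ₚₗ[A] N) {S : Type u} [CommSemiring S] [Algebra A S]
    (b : σ → M) (s : σ → S) :
    ∃ K₀ : Finset (σ →₀ ℕ), ∀ K, K₀ ⊆ K →
      F.toFun' S (∑ j, s j ⊗ₜ[A] b j) = ∑ k ∈ K, (∏ j, s j ^ k j) ⊗ₜ[A] coef F b k := by
  obtain ⟨K₀, hK⟩ := exists_expansion (F.toFun' (MvPolynomial σ A) (gen b))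
  refine ⟨K₀, fun K h => ?_⟩
  rw [toFun'_sum, hK K h, map_sum]
  refine Finset.sum_congr rfl fun k _ => ?_
  rw [LinearMap.rTensor_tmul]
  simp [aeval_monomial, Finsupp.prod_fintype, coef]

/-- a law is determined by its coefficients, and the values of the coefficients control the range -/
theorem ext_coef {F G : M →ₚₗ[A] N}
    (h : ∀ (n : ℕ) (b : Fin n → M) (k : Fin n →₀ ℕ), coef F b k = coef G b k) : F = G := by
  apply PolynomialLaw.ext
  funext S _ _ x
  obtain ⟨n, s, b, rfl⟩ := exists_rep x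
  rw [toFun'_sum, toFun'_sum, ext_cf (h n b)]

theorem ext_poly {F G : M →ₚₗ[A] N}
    (h : ∀ (n : ℕ) (x : MvPolynomial (Fin n) A ⊗[A] M),
      F.toFun' (MvPolynomial (Fin n) A) x = G.toFun' (MvPolynomial (Fin n) A) x) : F = G :=
  ext_coef fun n b k => by rw [coef, coef, h n (gen b)]

theorem toFun'_mem_range {W : Type w} [AddCommGroup W] [Module A W] (i : W →ₗ[A] N) (F : M →ₚₗ[A] N)
    (h : ∀ (n : ℕ) (b : Fin n → M) (k : Fin n →₀ ℕ), coef F b k ∈ LinearMap.range i)
    {S : Type u} [CommSemiring S] [Algebra A S] (x : S ⊗[A] M) :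
    F.toFun' S x ∈ LinearMap.range (i.lTensor S) := by
  obtain ⟨n, s, b, rfl⟩ := exists_rep x
  obtain ⟨K, hK⟩ := exists_toFun'_sum F b s
  rw [hK K subset_rfl]
  refine Submodule.sum_mem _ fun k _ => ?_
  obtain ⟨y, hy⟩ := h n b k
  exact ⟨(∏ j, s j ^ k j) ⊗ₜ[A] y, by rw [LinearMap.lTensor_tmul, hy]⟩

section Family

variable (T : ∀ n : ℕ, MvPolynomial (Fin n) A ⊗[A] M → MvPolynomial (Fin n) A ⊗[A] N)
variable (hT : ∀ (n m : ℕ) (φ : MvPolynomial (Fin n) A →ₐ[A] MvPolynomial (Fin m) A)
  (x : MvPolynomial (Fin n) A ⊗[A] M),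
    φ.toLinearMap.rTensor N (T n x) = T m (φ.toLinearMap.rTensor M x))

include hT in
/-- two elements over one polynomial ring with the same image in `S ⊗ M` have the same image value -/
theorem family_wd {S : Type u} [CommSemiring S] [Algebra A S] {n : ℕ}
    (φ : MvPolynomial (Fin n) A →ₐ[A] S) (p p' : MvPolynomial (Fin n) A ⊗[A] M)
    (h : φ.toLinearMap.rTensor M p = φ.toLinearMap.rTensor M p') :
    φ.toLinearMap.rTensor N (T n p) = φ.toLinearMap.rTensor N (T n p') := by
  classical
  letI : Ring S := Algebra.semiringToRing A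
  let π : MvPolynomial S A →ₐ[A] S := aeval id
  have hπ : Function.Surjective π := fun s => ⟨X s, by simp [π]⟩
  let θ : MvPolynomial (Fin n) A →ₐ[A] MvPolynomial S A := rename fun j => φ (X j)
  have hθ : π.comp θ = φ := by
    ext j
    simp [π, θ]
  have hex : Function.Exact (LinearMap.ker π.toLinearMap).subtype π.toLinearMap :=
    LinearMap.exact_subtype_ker_map _
  have hz : π.toLinearMap.rTensor M (θ.toLinearMap.rTensor M p - θ.toLinearMap.rTensor M p') = 0 := by
    rw [map_sub, sub_eq_zero]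
    simp only [rTensor_comp_apply, hθ]
    exact h
  obtain ⟨w, hw⟩ := (rTensor_exact M hex hπ _).mp hz
  -- write `w` as a finite sum
  have hsum : ∃ (L : ℕ) (i : Fin L → MvPolynomial S A) (m : Fin L → M), (∀ l, π (i l) = 0) ∧
      θ.toLinearMap.rTensor M p = θ.toLinearMap.rTensor M p' + ∑ l, i l ⊗ₜ[A] m l := by
    have aux : ∀ w : LinearMap.ker π.toLinearMap ⊗[A] M, ∃ (L : ℕ) (i : Fin L → MvPolynomial S A)
        (m : Fin L → M), (∀ l, π (i l) = 0) ∧
          (LinearMap.ker π.toLinearMap).subtype.rTensor M w = ∑ l, i l ⊗ₜ[A] m l := by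
      intro w
      induction w using TensorProduct.induction_on with
      | zero => exact ⟨0, Fin.elim0, Fin.elim0, fun l => l.elim0, by simp⟩
      | tmul k m => exact ⟨1, fun _ => k, fun _ => m, fun _ => k.2, by simp⟩
      | add x y hx hy =>
        obtain ⟨a, i, m, hi, hx⟩ := hx
        obtain ⟨b, j, l, hj, hy⟩ := hy
        refine ⟨a + b, Fin.append i j, Fin.append m l, fun q => ?_, by simp [hx, hy, Fin.sum_univ_add]⟩
        refine Fin.addCases (fun q => by simpa using hi q) (fun q => by simpa using hj q) q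
    obtain ⟨L, i, m, hi, hm⟩ := aux w
    exact ⟨L, i, m, hi, by rw [← hm, hw, add_sub_cancel]⟩
  obtain ⟨L, i, m, hi, hm⟩ := hsum
  choose t i' hi' using fun l => exists_finset_rename (i l)
  let T' : Finset S := (Finset.univ.image fun j => φ (X j)) ∪ Finset.univ.biUnion t
  let N₀ := T'.card
  let e : Fin N₀ ≃ T' := T'.equivFin.symm
  let j : MvPolynomial (Fin N₀) A →ₐ[A] MvPolynomial S A := rename fun q => (e q : S)
  let r : MvPolynomial S A →ₐ[A] MvPolynomial (Fin N₀) A :=
    aeval fun s => if hs : s ∈ T' then X (e.symm ⟨s, hs⟩) else 0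
  have hjr : ∀ (l : Fin L), j (r (i l)) = i l := by
    intro l
    have key : (j.comp r).comp (rename (Subtype.val : {x // x ∈ t l} → S)) = rename Subtype.val := by
      refine algHom_ext fun s => ?_
      have hs : (s : S) ∈ T' := Finset.mem_union_right _ (Finset.mem_biUnion.mpr ⟨l, Finset.mem_univ _, s.2⟩)
      simp [j, r, hs]
    rw [(hi' l)]
    exact AlgHom.congr_fun key (i' l)
  let π' : MvPolynomial (Fin N₀) A →ₐ[A] S := π.comp j
  have hπ'θ : π'.comp (r.comp θ) = φ := by
    ext q
    have hs : φ (X q) ∈ T' := Finset.mem_union_left _ (Finset.mem_image.mpr ⟨q, Finset.mem_univ _, rfl⟩)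
    simp [π', π, j, r, θ, hs]
  have hri : ∀ l, π' (r (i l)) = 0 := fun l => by simp [π', hjr, hi]
  have hm' : (r.comp θ).toLinearMap.rTensor M p =
      (r.comp θ).toLinearMap.rTensor M p' + ∑ l, r (i l) ⊗ₜ[A] m l := by
    rw [← rTensor_comp_apply, ← rTensor_comp_apply, hm, map_add, map_sum]
    simp
  let ev : (Fin L → MvPolynomial (Fin N₀) A) → (MvPolynomial (Fin (N₀ + L)) A →ₐ[A] MvPolynomial (Fin N₀) A) :=
    fun g => aeval (Fin.append X g)
  let up : MvPolynomial (Fin N₀) A →ₐ[A] MvPolynomial (Fin (N₀ + L)) A := rename (Fin.castAdd L)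
  have hup : ∀ g, (ev g).comp up = AlgHom.id A _ := fun g => by
    ext q; simp [ev, up]
  let U := up.toLinearMap.rTensor M ((r.comp θ).toLinearMap.rTensor M p') +
    ∑ l, X (Fin.natAdd N₀ l) ⊗ₜ[A] m l
  have hU : ∀ g, (ev g).toLinearMap.rTensor M U =
      (r.comp θ).toLinearMap.rTensor M p' + ∑ l, g l ⊗ₜ[A] m l := fun g => by
    simp only [U, map_add, map_sum, LinearMap.rTensor_tmul]
    rw [rTensor_comp_apply up (ev g), hup, rTensor_id_apply]
    simp [ev]
  have hev : π'.comp (ev fun l => r (i l)) = π'.comp (ev 0) := by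
    refine algHom_ext fun q => ?_
    refine Fin.addCases (fun q => by simp [ev]) (fun l => ?_) q
    simpa [ev] using hri l
  have h1 : (ev fun l => r (i l)).toLinearMap.rTensor M U = (r.comp θ).toLinearMap.rTensor M p := by
    rw [hU, hm']
  have h0 : (ev 0).toLinearMap.rTensor M U = (r.comp θ).toLinearMap.rTensor M p' := by
    rw [hU]; simp
  calc φ.toLinearMap.rTensor N (T n p)
      = π'.toLinearMap.rTensor N (T N₀ ((r.comp θ).toLinearMap.rTensor M p)) := by
        rw [← hT, rTensor_comp_apply, hπ'θ]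
    _ = (π'.comp (ev fun l => r (i l))).toLinearMap.rTensor N (T _ U) := by
        rw [← h1, ← hT, rTensor_comp_apply]
    _ = (π'.comp (ev 0)).toLinearMap.rTensor N (T _ U) := by rw [hev]
    _ = π'.toLinearMap.rTensor N (T N₀ ((r.comp θ).toLinearMap.rTensor M p')) := by
        rw [← h0, ← hT, rTensor_comp_apply]
    _ = φ.toLinearMap.rTensor N (T n p') := by
        rw [← hT, rTensor_comp_apply, hπ'θ]

include hT in
theorem family_wd' {S : Type u} [CommSemiring S] [Algebra A S] {n n' : ℕ}
    (φ : MvPolynomial (Fin n) A →ₐ[A] S) (φ' : MvPolynomial (Fin n') A →ₐ[A] S)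
    (p : MvPolynomial (Fin n) A ⊗[A] M) (p' : MvPolynomial (Fin n') A ⊗[A] M)
    (h : φ.toLinearMap.rTensor M p = φ'.toLinearMap.rTensor M p') :
    φ.toLinearMap.rTensor N (T n p) = φ'.toLinearMap.rTensor N (T n' p') := by
  let a : MvPolynomial (Fin n) A →ₐ[A] MvPolynomial (Fin (n + n')) A := rename (Fin.castAdd n')
  let a' : MvPolynomial (Fin n') A →ₐ[A] MvPolynomial (Fin (n + n')) A := rename (Fin.natAdd n)
  let ψ : MvPolynomial (Fin (n + n')) A →ₐ[A] S :=
    aeval (Fin.append (fun q => φ (X q)) (fun q => φ' (X q)))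
  have ha : ψ.comp a = φ := by ext q; simp [ψ, a]
  have ha' : ψ.comp a' = φ' := by ext q; simp [ψ, a']
  have := family_wd T hT ψ (a.toLinearMap.rTensor M p) (a'.toLinearMap.rTensor M p')
    (by rw [rTensor_comp_apply, rTensor_comp_apply, ha, ha']; exact h)
  rwa [← hT, ← hT, rTensor_comp_apply, rTensor_comp_apply, ha, ha'] at this

theorem exists_lift {S : Type u} [CommSemiring S] [Algebra A S] (x : S ⊗[A] M) :
    ∃ q : Σ n : ℕ, (MvPolynomial (Fin n) A →ₐ[A] S) × (MvPolynomial (Fin n) A ⊗[A] M),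
      q.2.1.toLinearMap.rTensor M q.2.2 = x := by
  obtain ⟨n, s, b, rfl⟩ := exists_rep x
  exact ⟨⟨n, aeval s, gen b⟩, rTensor_gen b s⟩

theorem exists_lift₃ {S : Type u} [CommSemiring S] [Algebra A S] (x y : S ⊗[A] M) (a : S) :
    ∃ (n : ℕ) (φ : MvPolynomial (Fin n) A →ₐ[A] S) (p q : MvPolynomial (Fin n) A ⊗[A] M)
      (c : MvPolynomial (Fin n) A),
      φ.toLinearMap.rTensor M p = x ∧ φ.toLinearMap.rTensor M q = y ∧ φ c = a := by
  obtain ⟨n, s, b, rfl⟩ := exists_rep x
  obtain ⟨m, t, b', rfl⟩ := exists_rep y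
  refine ⟨n + m + 1, aeval (Fin.append (Fin.append s t) fun _ => a),
    ∑ j, X (Fin.castAdd 1 (Fin.castAdd m j)) ⊗ₜ[A] b j,
    ∑ j, X (Fin.castAdd 1 (Fin.natAdd n j)) ⊗ₜ[A] b' j, X (Fin.natAdd (n + m) 0), ?_, ?_, ?_⟩ <;>
  simp only [map_sum, LinearMap.rTensor_tmul, AlgHom.toLinearMap_apply, aeval_X, Fin.append_left,
    Fin.append_right]

/-- the law with prescribed values on polynomial rings in finitely many variables -/
noncomputable def ofFamily : M →ₚₗ[A] N where
  toFun' S _ _ x :=
    (exists_lift x).choose.2.1.toLinearMap.rTensor N (T _ (exists_lift x).choose.2.2)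
  isCompat' {S} _ _ {S'} _ _ f := by
    funext x
    simp only [Function.comp_apply, rTensor_comp_apply]
    apply family_wd' T hT
    rw [← rTensor_comp_apply, (exists_lift x).choose_spec,
      (exists_lift (f.toLinearMap.rTensor M x)).choose_spec]

include hT in
theorem ofFamily_eq {S : Type u} [CommSemiring S] [Algebra A S] {n : ℕ}
    (φ : MvPolynomial (Fin n) A →ₐ[A] S) (p : MvPolynomial (Fin n) A ⊗[A] M) :
    (ofFamily T hT).toFun' S (φ.toLinearMap.rTensor M p) = φ.toLinearMap.rTensor N (T n p) :=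
  family_wd' T hT _ _ _ _ (exists_lift (φ.toLinearMap.rTensor M p)).choose_spec

theorem ofFamily_poly (n : ℕ) :
    (ofFamily T hT).toFun' (MvPolynomial (Fin n) A) = T n := by
  funext p
  simpa only [rTensor_id_apply] using ofFamily_eq T hT (AlgHom.id A _) p

end Family

end Module

section Algebra

open PolLaw

variable {B B' C C' : Type u} [CommRing B] [Algebra A B] [CommRing B'] [Algebra A B']
  [CommRing C] [Algebra A C] [CommRing C'] [Algebra A C']

theorem cf_mul {σ τ : Type} (k : σ →₀ ℕ) (l : τ →₀ ℕ) (x : MvPolynomial σ A ⊗[A] C)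
    (y : MvPolynomial τ A ⊗[A] C) :
    cf (Finsupp.sumElim k l)
      ((rename (Sum.inl : σ → σ ⊕ τ)).toLinearMap.rTensor C x *
        (rename (Sum.inr : τ → σ ⊕ τ)).toLinearMap.rTensor C y) = cf k x * cf l y := by
  classical
  have key : ∀ (p : MvPolynomial σ A) (q : MvPolynomial τ A),
      coeff (Finsupp.sumElim k l) (rename (Sum.inl : σ → σ ⊕ τ) p * rename (Sum.inr : τ → σ ⊕ τ) q)
        = coeff k p * coeff l q := by
    intro p q
    induction p using MvPolynomial.induction_on' with
    | add p p' hp hp' => simp [add_mul, hp, hp']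
    | monomial a r =>
      induction q using MvPolynomial.induction_on' with
      | add q q' hq hq' => rw [map_add, mul_add, coeff_add, hq, hq', coeff_add, mul_add]
      | monomial b t =>
        have hiff : (Finsupp.mapDomain (Sum.inl : σ → σ ⊕ τ) a + Finsupp.mapDomain Sum.inr b =
            Finsupp.sumElim k l) ↔ (a = k ∧ b = l) := by
          constructor
          · intro h
            constructor
            · ext i
              have := DFunLike.congr_fun h (Sum.inl i)
              simpa [Finsupp.mapDomain_apply Sum.inl_injective, Finsupp.mapDomain_notin_range] using this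
            · ext i
              have := DFunLike.congr_fun h (Sum.inr i)
              simpa [Finsupp.mapDomain_apply Sum.inr_injective, Finsupp.mapDomain_notin_range] using this
          · rintro ⟨rfl, rfl⟩
            ext (i | i) <;>
              simp [Finsupp.mapDomain_apply Sum.inl_injective, Finsupp.mapDomain_apply Sum.inr_injective,
                Finsupp.mapDomain_notin_range]
        rw [rename_monomial, rename_monomial, monomial_mul, coeff_monomial, coeff_monomial, coeff_monomial]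
        rw [if_congr hiff rfl rfl]
        by_cases h1 : a = k <;> by_cases h2 : b = l <;> simp [h1, h2]
  induction x using TensorProduct.induction_on with
  | zero => simp
  | add x x' hx hx' => simp only [map_add, add_mul, hx, hx']
  | tmul p c =>
    induction y using TensorProduct.induction_on with
    | zero => simp
    | add y y' hy hy' => simp only [map_add, mul_add, hy, hy']
    | tmul q c' =>
      simp only [LinearMap.rTensor_tmul, AlgHom.toLinearMap_apply, Algebra.TensorProduct.tmul_mul_tmul,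
        cf_tmul, key]
      rw [smul_mul_smul_comm]

theorem cf_zero_one {σ : Type} : cf (0 : σ →₀ ℕ) (1 : MvPolynomial σ A ⊗[A] C) = 1 := by
  rw [Algebra.TensorProduct.one_def, cf_tmul]; simp

variable {d : ℕ}

/-- a product of two coefficients, as a coefficient of one value of the law -/
theorem coef_mul_coef (F : MulLaw A B C d) {n m : ℕ} (b : Fin n → B) (b' : Fin m → B)
    (k : Fin n →₀ ℕ) (l : Fin m →₀ ℕ) :
    coef F.law b k * coef F.law b' l =
      cf (Finsupp.sumElim k l) (F.law.toFun' (MvPolynomial (Fin n ⊕ Fin m) A)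
        ((rename Sum.inl).toLinearMap.rTensor B (gen b) * (rename Sum.inr).toLinearMap.rTensor B (gen b'))) := by
  rw [(F.mult _).2, ← PolynomialLaw.isCompat_apply', ← PolynomialLaw.isCompat_apply', cf_mul]
  rfl

theorem one_eq_cf (F : MulLaw A B C d) :
    (1 : C) = cf (0 : Fin 0 →₀ ℕ) (F.law.toFun' (MvPolynomial (Fin 0) A) 1) := by
  rw [(F.mult _).1, cf_zero_one]

/-- the span of all coefficients -/
noncomputable def coefSpan (F : MulLaw A B C d) : Submodule A C :=
  Submodule.span A {c | ∃ (n : ℕ) (b : Fin n → B) (k : Fin n →₀ ℕ), coef F.law b k = c}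

theorem coef_mem_coefSpan (F : MulLaw A B C d) {n : ℕ} (b : Fin n → B) (k : Fin n →₀ ℕ) :
    coef F.law b k ∈ coefSpan F :=
  Submodule.subset_span ⟨n, b, k, rfl⟩

theorem cf_toFun'_mem_coefSpan (F : MulLaw A B C d) {σ : Type} (k : σ →₀ ℕ) (x : MvPolynomial σ A ⊗[A] B) :
    cf k (F.law.toFun' _ x) ∈ coefSpan F := by
  obtain ⟨y, hy⟩ := toFun'_mem_range (coefSpan F).subtype F.law
    (fun n b k => ⟨⟨_, coef_mem_coefSpan F b k⟩, rfl⟩) x
  rw [← hy, cf_lTensor]
  exact Submodule.coe_mem _

/-- the coefficients span a subalgebra -/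
noncomputable def coefAlg (F : MulLaw A B C d) : Subalgebra A C :=
  (coefSpan F).toSubalgebra (by rw [one_eq_cf F]; exact cf_toFun'_mem_coefSpan F _ _) (fun x y hx hy => by
    have : coefSpan F * coefSpan F ≤ coefSpan F := by
      rw [coefSpan, Submodule.span_mul_span, Submodule.span_le]
      rintro _ ⟨_, ⟨n, b, k, rfl⟩, _, ⟨m, b', l, rfl⟩, rfl⟩
      show coef F.law b k * coef F.law b' l ∈ _
      rw [coef_mul_coef]
      exact cf_toFun'_mem_coefSpan F _ _
    exact this (Submodule.mul_mem_mul hx hy))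

theorem toFun'_eq_of_coef (F : MulLaw A B C d) (G : MulLaw A B C' d) (L : C →ₗ[A] C')
    (h : ∀ (n : ℕ) (b : Fin n → B) (k : Fin n →₀ ℕ), L (coef F.law b k) = coef G.law b k) :
    PolLaw.postcomp L F.law = G.law :=
  ext_coef fun n b k => by
    rw [← h n b k]
    exact cf_lTensor L k _

theorem coef_postcomp {σ : Type} [Fintype σ] (L : C →ₗ[A] C') (F : B →ₚₗ[A] C) (b : σ → B) (k : σ →₀ ℕ) :
    coef (PolLaw.postcomp L F) b k = L (coef F b k) :=
  cf_lTensor L k _

theorem coef_precomp {σ : Type} [Fintype σ] (L : B' →ₗ[A] B) (F : B →ₚₗ[A] C) (b : σ → B') (k : σ →₀ ℕ) :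
    coef (PolLaw.precomp F L) b k = coef F (fun j => L (b j)) k := by
  show cf k (F.toFun' _ (L.lTensor _ (gen b))) = _
  simp [coef, gen]

/-- a linear map matching the coefficients of two multiplicative laws is an algebra map when the
coefficients of the first law span -/
theorem exists_algHom_of_span (F : MulLaw A B C d) (G : MulLaw A B C' d) (hF : coefSpan F = ⊤)
    (L : C →ₗ[A] C')
    (h : ∀ (n : ℕ) (b : Fin n → B) (k : Fin n →₀ ℕ), L (coef F.law b k) = coef G.law b k) :
    ∃ f : C →ₐ[A] C', f.toLinearMap = L := by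
  have hL := toFun'_eq_of_coef F G L h
  have hval : ∀ (S : Type u) [CommSemiring S] [Algebra A S] (x : S ⊗[A] B),
      L.lTensor S (F.law.toFun' S x) = G.law.toFun' S x := fun S _ _ x =>
    congrFun (congrFun (congrFun (congrArg PolynomialLaw.toFun' hL) S) _) _ ▸ rfl
  have hone : L 1 = 1 := by
    conv_lhs => rw [one_eq_cf F]
    rw [← cf_lTensor, hval, ← one_eq_cf G]
  have hmul : ∀ (n : ℕ) (b : Fin n → B) (k : Fin n →₀ ℕ) (m : ℕ) (b' : Fin m → B) (l : Fin m →₀ ℕ),
      L (coef F.law b k * coef F.law b' l) = L (coef F.law b k) * L (coef F.law b' l) := by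
    intro n b k m b' l
    rw [h, h, coef_mul_coef, coef_mul_coef, ← cf_lTensor, hval]
  refine ⟨AlgHom.ofLinearMap L hone ((LinearMap.map_mul_iff L).mpr ?_), by ext; rfl⟩
  refine LinearMap.ext_on hF ?_
  rintro _ ⟨n, b, k, rfl⟩
  refine LinearMap.ext_on hF ?_
  rintro _ ⟨m, b', l, rfl⟩
  simpa using hmul n b k m b' l

theorem algHom_ext_of_span (F : MulLaw A B C d) (hF : coefSpan F = ⊤) {f g : C →ₐ[A] C'}
    (h : PolLaw.postcomp f.toLinearMap F.law = PolLaw.postcomp g.toLinearMap F.law) : f = g := by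
  refine AlgHom.toLinearMap_injective (LinearMap.ext_on hF ?_)
  rintro _ ⟨n, b, k, rfl⟩
  rw [← coef_postcomp, ← coef_postcomp, h]

/-- criterion for being the degree-`d` divided power algebra -/
theorem isGammaD_of (F : MulLaw A B C d) (hF : coefSpan F = ⊤)
    (h : ∀ (C' : Type u) [CommRing C'] [Algebra A C'] (G : MulLaw A B C' d), ∃ L : C →ₗ[A] C',
      ∀ (n : ℕ) (b : Fin n → B) (k : Fin n →₀ ℕ), L (coef F.law b k) = coef G.law b k) :
    IsGammaD F := by
  intro C' _ _ G
  obtain ⟨L, hL⟩ := h C' G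
  obtain ⟨f, hf⟩ := exists_algHom_of_span F G hF L hL
  have hf' : PolLaw.postcomp f.toLinearMap F.law = G.law := by
    rw [hf]; exact toFun'_eq_of_coef F G L hL
  exact ⟨f, hf', fun g hg => algHom_ext_of_span F hF (hg.trans hf'.symm)⟩

section Poly

/-- two multiplicative laws into the target of an injective map, agreeing there, are equal -/
theorem ext_of_injective (i : C →ₐ[A] C') (hi : Function.Injective i) {F G : B →ₚₗ[A] C}
    (h : PolLaw.postcomp i.toLinearMap F = PolLaw.postcomp i.toLinearMap G) : F = G :=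
  ext_coef fun n b k => hi (by
    show i.toLinearMap _ = i.toLinearMap _
    rw [← coef_postcomp, ← coef_postcomp, h])

/-- the multiplicative law with prescribed values on polynomial rings -/
noncomputable def mulLawOfFamily
    (T : ∀ n : ℕ, MvPolynomial (Fin n) A ⊗[A] B → MvPolynomial (Fin n) A ⊗[A] C)
    (hT : ∀ (n m : ℕ) (φ : MvPolynomial (Fin n) A →ₐ[A] MvPolynomial (Fin m) A)
      (x : MvPolynomial (Fin n) A ⊗[A] B),
        φ.toLinearMap.rTensor C (T n x) = T m (φ.toLinearMap.rTensor B x))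
    (hh : ∀ (n : ℕ) (a : MvPolynomial (Fin n) A) (x : MvPolynomial (Fin n) A ⊗[A] B),
      T n (a • x) = a ^ d • T n x)
    (h1 : ∀ n, T n 1 = 1) (hm : ∀ n x y, T n (x * y) = T n x * T n y) : MulLaw A B C d where
  law := ofFamily T hT
  homog S _ _ a x := by
    obtain ⟨n, φ, p, q, c, rfl, -, rfl⟩ := exists_lift₃ x x a
    rw [← rTensor_smul, ofFamily_eq, ofFamily_eq, hh, rTensor_smul, map_pow]
  mult S _ _ := by
    refine ⟨?_, fun x y => ?_⟩
    · have h : (aeval (R := A) (Fin.elim0 : Fin 0 → S)).toLinearMap.rTensor B 1 = 1 := by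
        rw [rTensor_algHom_apply, map_one]
      rw [← h, ofFamily_eq, h1, rTensor_algHom_apply, map_one]
    · obtain ⟨n, φ, p, q, c, rfl, rfl, -⟩ := exists_lift₃ x y 0
      have h : φ.toLinearMap.rTensor B p * φ.toLinearMap.rTensor B q = φ.toLinearMap.rTensor B (p * q) := by
        simp only [rTensor_algHom_apply, map_mul]
      rw [h, ofFamily_eq, ofFamily_eq, ofFamily_eq, hm]
      simp only [rTensor_algHom_apply, map_mul]

theorem lTensor_injective_poly {n : ℕ} (i : C →ₐ[A] C') (hi : Function.Injective i) :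
    Function.Injective (i.toLinearMap.lTensor (MvPolynomial (Fin n) A)) :=
  Module.Flat.lTensor_preserves_injective_linearMap _ hi

/-- corestriction of a law along an injective algebra map -/
theorem exists_corestrict (i : C →ₐ[A] C') (hi : Function.Injective i) (F : MulLaw A B C' d)
    (h : ∀ (n : ℕ) (b : Fin n → B) (k : Fin n →₀ ℕ), coef F.law b k ∈ Set.range i) :
    ∃ G : MulLaw A B C d, MulLaw.postcomp i G = F := by
  have hr : ∀ (n : ℕ) (x : MvPolynomial (Fin n) A ⊗[A] B),
      ∃ y, i.toLinearMap.lTensor _ y = F.law.toFun' _ x := fun n x =>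
    toFun'_mem_range i.toLinearMap F.law (fun n b k => by
      obtain ⟨c, hc⟩ := h n b k
      exact ⟨c, hc⟩) x
  choose T hTs using hr
  have inj := fun n => lTensor_injective_poly (n := n) i hi
  have hlin : ∀ (n : ℕ) (x : MvPolynomial (Fin n) A ⊗[A] C),
      i.toLinearMap.lTensor _ x =
        Algebra.TensorProduct.map (AlgHom.id (MvPolynomial (Fin n) A) _) i x :=
    fun n x => lTensor_algHom_apply i _ x
  refine ⟨mulLawOfFamily T (fun n m φ x => inj m ?_) (fun n a x => inj n ?_) (fun n => inj n ?_)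
    (fun n x y => inj n ?_), ?_⟩
  · rw [← LinearMap.comp_apply, LinearMap.lTensor_comp_rTensor, ← LinearMap.rTensor_comp_lTensor,
      LinearMap.comp_apply, hTs, hTs, PolynomialLaw.isCompat_apply']
  · rw [hTs, F.homog, hlin, map_smul, ← hlin, hTs]
  · rw [hTs, (F.mult _).1, hlin, map_one]
  · rw [hTs, (F.mult _).2, hlin, map_mul, ← hlin, ← hlin, hTs, hTs]
  · refine MulLaw.ext (ext_poly fun n x => ?_)
    simp only [MulLaw.postcomp, PolLaw.postcomp, PolynomialLaw.comp_toFun', Function.comp_apply,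
      PolLaw.ofLin, mulLawOfFamily, ofFamily_poly]
    exact hTs n x

/-- descent of a law along a surjective algebra map -/
theorem exists_descend (π : B' →ₐ[A] B) (hπ : Function.Surjective π) (F : MulLaw A B' C d)
    (h : ∀ (n : ℕ) (x y : MvPolynomial (Fin n) A ⊗[A] B'),
      π.toLinearMap.lTensor _ x = π.toLinearMap.lTensor _ y → F.law.toFun' _ x = F.law.toFun' _ y) :
    ∃ G : MulLaw A B C d, MulLaw.precomp G π = F := by
  have hr : ∀ (n : ℕ) (x : MvPolynomial (Fin n) A ⊗[A] B), ∃ y, π.toLinearMap.lTensor _ y = x :=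
    fun n => LinearMap.lTensor_surjective _ hπ
  choose s hs using hr
  have hlin : ∀ (n : ℕ) (x : MvPolynomial (Fin n) A ⊗[A] B'),
      π.toLinearMap.lTensor _ x =
        Algebra.TensorProduct.map (AlgHom.id (MvPolynomial (Fin n) A) _) π x :=
    fun n x => lTensor_algHom_apply π _ x
  let T := fun n x => F.law.toFun' (MvPolynomial (Fin n) A) (s n x)
  have key : ∀ n x y, π.toLinearMap.lTensor _ y = x → T n x = F.law.toFun' _ y :=
    fun n x y hy => h n _ _ ((hs n x).trans hy.symm)
  refine ⟨mulLawOfFamily T (fun n m φ x => ?_) (fun n a x => ?_) (fun n => ?_) (fun n x y => ?_), ?_⟩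
  · rw [PolynomialLaw.isCompat_apply']
    refine (key m _ _ ?_).symm
    rw [← LinearMap.comp_apply, LinearMap.lTensor_comp_rTensor, ← LinearMap.rTensor_comp_lTensor,
      LinearMap.comp_apply, hs]
  · rw [key n _ (a • s n x) (by rw [hlin, map_smul, ← hlin, hs]), F.homog]
  · rw [key n 1 1 (by rw [hlin, map_one]), (F.mult _).1]
  · rw [key n _ (s n x * s n y) (by rw [hlin, map_mul, ← hlin, ← hlin, hs, hs]), (F.mult _).2]
  · refine MulLaw.ext (ext_poly fun n x => ?_)
    simp only [MulLaw.precomp, PolLaw.precomp, PolynomialLaw.comp_toFun', Function.comp_apply,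
      PolLaw.ofLin, mulLawOfFamily, ofFamily_poly]
    exact key n _ x rfl

end Poly

/-- the coefficients of the universal law span -/
theorem coefSpan_eq_top (F : MulLaw A B C d) (hF : IsGammaD F) : coefSpan F = ⊤ := by
  let W := coefAlg F
  obtain ⟨G, hG⟩ := exists_corestrict W.val Subtype.val_injective F
    (fun n b k => ⟨⟨_, coef_mem_coefSpan F b k⟩, rfl⟩)
  obtain ⟨f, hf, -⟩ := hF W G
  obtain ⟨g, -, hg⟩ := hF C F
  have h1 : W.val.comp f = g := hg _ (by
    refine ext_coef fun n b k => ?_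
    rw [coef_postcomp]
    show W.val (f.toLinearMap (coef F.law b k)) = _
    rw [← coef_postcomp, hf]
    show W.val.toLinearMap _ = _
    rw [← coef_postcomp]
    exact congrArg (fun L : MulLaw A B C d => coef L.law b k) hG)
  have h2 : AlgHom.id A C = g := hg _ (by
    refine ext_coef fun n b k => ?_
    rw [coef_postcomp]; rfl)
  rw [eq_top_iff]
  intro c _
  have : W.val (f c) = c := by
    rw [← AlgHom.comp_apply, h1, ← h2]; rfl
  rw [← this]
  exact (f c).2

end Algebra

end Groth.Agent.H7PolLaw
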