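import Mathlib
import Groth.Prelude.Def_PolLaw2
import Groth.Prelude.Def_SymTen
import Groth.Agent.Lib.H7PolLaw

set_option linter.all false
set_option autoImplicit false

/-! Orbit sums, polarisation of laws, and the tensor-power law into symmetric tensors. -/

namespace Groth.Agent.H7SymTen

open scoped TensorProduct
open MvPolynomial Groth.Agent.H7PolLaw

universe u v

variable {A : Type u} [CommRing A]

section Count

variable {d : ℕ} {σ : Type}

/-- the multidegree of a tuple -/
noncomputable def cnt (c : Fin d → σ) : σ →₀ ℕ := ∑ i, Finsupp.single (c i) 1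

theorem cnt_apply [DecidableEq σ] (c : Fin d → σ) (j : σ) : cnt c j = Fintype.card {i // c i = j} := by
  classical
  simp only [cnt, Finsupp.finsetSum_apply, Finsupp.single_apply, Finset.sum_boole, Fintype.card_subtype]
  simp

theorem cnt_comp (c : Fin d → σ) (e : Equiv.Perm (Fin d)) : cnt (c ∘ e) = cnt c :=
  Equiv.sum_comp e fun i => Finsupp.single (c i) 1

theorem exists_perm_of_cnt_eq {c c' : Fin d → σ} (h : cnt c = cnt c') :
    ∃ e : Equiv.Perm (Fin d), c' = c ∘ e := by
  classical
  have hc : ∀ j, Fintype.card {i // c' i = j} = Fintype.card {i // c i = j} := fun j =>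
    (cnt_apply c' j).symm.trans ((DFunLike.congr_fun h.symm j).trans (cnt_apply c j))
  let e : Equiv.Perm (Fin d) := Equiv.ofFiberEquiv fun j => Fintype.equivOfCardEq (hc j)
  exact ⟨e, funext fun i => (Equiv.ofFiberEquiv_map (fun j => Fintype.equivOfCardEq (hc j)) i).symm⟩

theorem degree_cnt (c : Fin d → σ) : (cnt c).degree = d := by
  simp [cnt]

theorem exists_cnt_eq [Fintype σ] {k : σ →₀ ℕ} (hk : k.degree = d) : ∃ c : Fin d → σ, cnt c = k := by
  classical
  have hcard : Fintype.card (Σ j : σ, Fin (k j)) = d := by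
    simp [Fintype.card_sigma, ← hk, Finsupp.degree_eq_sum]
  let e := Fintype.equivFinOfCardEq hcard
  refine ⟨fun i => (e.symm i).1, Finsupp.ext fun j => ?_⟩
  rw [cnt_apply, Fintype.card_congr ((e.symm.subtypeEquiv fun i => Iff.rfl).trans
    (Equiv.sigmaSubtype j)), Fintype.card_fin]

/-- all multiplicities one -/
noncomputable def ones (d : ℕ) : Fin d →₀ ℕ := Finsupp.equivFunOnFinite.symm fun _ => 1

@[simp] theorem ones_apply (i : Fin d) : ones d i = 1 := rfl

theorem cnt_eq_ones_iff (c : Fin d → Fin d) : cnt c = ones d ↔ Function.Bijective c := by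
  classical
  constructor
  · intro h
    have hsurj : Function.Surjective c := fun j => by
      have h1 : Fintype.card {i // c i = j} = 1 := by rw [← cnt_apply, h, ones_apply]
      obtain ⟨⟨i, hi⟩, -⟩ := Fintype.card_eq_one_iff.mp h1
      exact ⟨i, hi⟩
    exact ⟨Finite.injective_iff_surjective.mpr hsurj, hsurj⟩
  · intro h
    ext j
    rw [cnt_apply, ones_apply, Fintype.card_eq_one_iff]
    obtain ⟨i, hi⟩ := h.2 j
    exact ⟨⟨i, hi⟩, fun y => Subtype.ext (h.1 (y.2.trans hi.symm))⟩

theorem prod_X_eq_monomial {R : Type*} [CommSemiring R] (c : Fin d → σ) :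
    ∏ i, (X (c i) : MvPolynomial σ R) = monomial (cnt c) 1 := by
  rw [cnt, monomial_sum_one]; rfl

end Count

section Orb

variable {M : Type u} [AddCommGroup M] [Module A M] {N : Type u} [AddCommGroup N] [Module A N] {d : ℕ}
variable {σ : Type} [Fintype σ]

open scoped Classical in
/-- the orbit sum of multidegree `k` -/
noncomputable def orb (b : σ → M) (k : σ →₀ ℕ) : ⨂[A] _ : Fin d, M :=
  ∑ c : Fin d → σ, if cnt c = k then PiTensorProduct.tprod A (fun i => b (c i)) else 0

theorem reindex_orb (b : σ → M) (k : σ →₀ ℕ) (e : Equiv.Perm (Fin d)) :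
    PiTensorProduct.reindex A (fun _ : Fin d => M) e (orb b k) = orb b k := by
  classical
  simp only [orb, map_sum, apply_ite (PiTensorProduct.reindex A (fun _ : Fin d => M) e), map_zero,
    PiTensorProduct.reindex_tprod]
  refine Fintype.sum_equiv (e.arrowCongr (Equiv.refl σ)) _ _ fun c => ?_
  have h : cnt ((e.arrowCongr (Equiv.refl σ)) c) = cnt c := cnt_comp c e.symm
  rw [h]
  rfl

theorem map_orb (g : M →ₗ[A] N) (b : σ → M) (k : σ →₀ ℕ) :
    PiTensorProduct.map (fun _ : Fin d => g) (orb b k) = orb (fun j => g (b j)) k := by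
  classical
  simp [orb, apply_ite (PiTensorProduct.map (fun _ : Fin d => g))]

theorem lift_orb (L : (⨂[A] _ : Fin d, M) →ₗ[A] N) (b : σ → M) (k : σ →₀ ℕ) :
    L (orb b k) = ∑ c ∈ (Finset.univ : Finset (Fin d → σ)).filter (fun c => cnt c = k),
      L (PiTensorProduct.tprod A (fun i => b (c i))) := by
  classical
  simp [orb, apply_ite L, Finset.sum_filter]
  exact Finset.sum_congr rfl fun c _ => by congr

/-- a symmetric combination is a combination of orbit sums -/
theorem sum_invariant_eq (b : σ → M) (a : (Fin d → σ) → A)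
    (ha : ∀ (c : Fin d → σ) (e : Equiv.Perm (Fin d)), a (c ∘ e) = a c) :
    (∑ c, a c • PiTensorProduct.tprod A (fun i => b (c i)) : ⨂[A] _ : Fin d, M) ∈
      Submodule.span A (Set.range fun k : σ →₀ ℕ => orb b k) := by
  classical
  rw [← Finset.sum_fiberwise_of_maps_to (t := Finset.univ.image (cnt (d := d) (σ := σ))) (g := cnt)
    (fun c hc => Finset.mem_image_of_mem _ hc)]
  refine Submodule.sum_mem _ fun k hk => ?_
  obtain ⟨c₀, -, rfl⟩ := Finset.mem_image.mp hk
  have : (∑ c ∈ Finset.univ.filter (fun c => cnt c = cnt c₀), a c • PiTensorProduct.tprod A (fun i => b (c i))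
      : ⨂[A] _ : Fin d, M) = a c₀ • orb b (cnt c₀) := by
    rw [orb, ← Finset.sum_filter, Finset.smul_sum]
    refine Finset.sum_congr rfl fun c hc => ?_
    obtain ⟨e, rfl⟩ := exists_perm_of_cnt_eq (Finset.mem_filter.mp hc).2.symm
    rw [ha]
  rw [this]
  exact Submodule.smul_mem _ _ (Submodule.subset_span ⟨_, rfl⟩)

end Orb

section Polar

variable {M : Type u} [AddCommGroup M] [Module A M] {N : Type u} [AddCommGroup N] [Module A N] {d : ℕ}

theorem cf_ones_slot (y : MvPolynomial (Option (Fin d)) A ⊗[A] N) (i : Fin d) (a c : A) :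
    cf (ones d) ((aeval (R := A) (fun o : Option (Fin d) => o.elim (c • X i)
        (fun j => (if j = i then a else 1) • X j) : Option (Fin d) → MvPolynomial (Fin d) A)).toLinearMap.rTensor N y) =
      a • cf (ones d) ((aeval (R := A) (fun o : Option (Fin d) => o.elim ((0 : A) • X i)
        (fun j => (if j = i then 1 else 1 : A) • X j) : Option (Fin d) → MvPolynomial (Fin d) A)).toLinearMap.rTensor N y) +
      c • cf (ones d) ((aeval (R := A) (fun o : Option (Fin d) => o.elim ((1 : A) • X i)
        (fun j => (if j = i then 0 else 1 : A) • X j) : Option (Fin d) → MvPolynomial (Fin d) A)).toLinearMap.rTensor N y) := by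
  classical
  induction y using TensorProduct.induction_on with
  | zero => simp
  | add y y' hy hy' => simp only [map_add, hy, hy', smul_add]; abel
  | tmul p z =>
    simp only [LinearMap.rTensor_tmul, AlgHom.toLinearMap_apply, cf_tmul, smul_smul, ← add_smul]
    congr 1
    induction p using MvPolynomial.induction_on' with
    | add p q hp hq => simp only [map_add, coeff_add, hp, hq]; ring
    | monomial k r =>
      have key : ∀ a c : A, aeval (R := A) (fun o : Option (Fin d) => o.elim (c • X i)
          (fun j => (if j = i then a else 1) • X j) : Option (Fin d) → MvPolynomial (Fin d) A) (monomial k r) =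
          monomial ((Finsupp.single i (k none)) + ∑ j, Finsupp.single j (k (some j)))
            (r * (c ^ k none * a ^ k (some i))) := by
        intro a c
        rw [aeval_monomial, Finsupp.prod_fintype _ _ (fun _ => pow_zero _), Fintype.prod_option]
        simp only [Option.elim, smul_pow, X_pow_eq_monomial, smul_monomial, smul_eq_mul, mul_one]
        rw [show (∏ j, (monomial (Finsupp.single j (k (some j)))) ((if j = i then a else 1) ^ k (some j)) :
              MvPolynomial (Fin d) A) =
            monomial (∑ j, Finsupp.single j (k (some j))) (a ^ k (some i)) from ?_]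
        · rw [algebraMap_eq, C_apply, monomial_mul, monomial_mul]
          simp [mul_assoc]
        · rw [← monomial_sum_prod]
          · congr 1
            rw [Finset.prod_eq_single i] <;> simp +contextual
      rw [key, key, key]
      by_cases hk : (Finsupp.single i (k none)) + ∑ j, Finsupp.single j (k (some j)) = ones d
      · simp only [coeff_monomial, hk, if_true]
        have h1 := DFunLike.congr_fun hk i
        simp [Finsupp.finsetSum_apply, Finsupp.single_apply] at h1
        rcases Nat.eq_zero_or_pos (k none) with h | h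
        · rw [h, zero_add] at h1
          simp [h, h1, mul_comm]
        · have h2 : k none = 1 := by omega
          have h3 : k (some i) = 0 := by omega
          simp [h2, h3, mul_comm]
      · simp [coeff_monomial, hk]

theorem polar_update (F : M →ₚₗ[A] N) (b : Fin d → M) (i : Fin d) (a c : A) (x y : M) :
    coef F (Function.update b i (a • x + c • y)) (ones d) =
      a • coef F (Function.update b i x) (ones d) + c • coef F (Function.update b i y) (ones d) := by
  classical
  let e : Option (Fin d) → M := fun o => o.elim y (Function.update b i x)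
  have key : ∀ a c : A, coef F (Function.update b i (a • x + c • y)) (ones d) =
      cf (ones d) ((aeval (R := A) (fun o : Option (Fin d) => o.elim (c • X i)
        (fun j => (if j = i then a else 1) • X j) : Option (Fin d) → MvPolynomial (Fin d) A)).toLinearMap.rTensor N
        (F.toFun' _ (gen e))) := by
    intro a c
    rw [← toFun'_sum]
    unfold coef
    congr 2
    rw [Fintype.sum_option]
    simp only [gen, e, Option.elim, TensorProduct.smul_tmul]
    rw [← Finset.add_sum_erase _ _ (Finset.mem_univ i), ← Finset.add_sum_erase _ _ (Finset.mem_univ i)]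
    rw [Finset.sum_congr rfl fun j hj => show
        (X j : MvPolynomial (Fin d) A) ⊗ₜ[A] Function.update b i (a • x + c • y) j =
          X j ⊗ₜ[A] ((if j = i then a else 1) • Function.update b i x j) by
      have := (Finset.mem_erase.mp hj).1
      simp [this]]
    simp [TensorProduct.tmul_add]
    abel
  have h10 := key 1 0
  have h01 := key 0 1
  simp only [one_smul, zero_smul, add_zero, zero_add] at h10 h01
  rw [key, cf_ones_slot, h10, h01]
  simp [zero_smul, one_smul]

/-- the polarisation of a law -/
noncomputable def polar (F : M →ₚₗ[A] N) : MultilinearMap A (fun _ : Fin d => M) N :=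
  MultilinearMap.mk' (fun b => coef F b (ones d))
    (fun b i x y => by simpa using polar_update F b i 1 1 x y)
    (fun b i a x => by simpa using polar_update F b i a 0 x x)

theorem polar_apply (F : M →ₚₗ[A] N) (b : Fin d → M) : polar F b = coef F b (ones d) := rfl

/-- homogeneous laws have only coefficients in their degree -/
theorem coef_eq_zero (F : M →ₚₗ[A] N) (hF : PolLaw.IsHomog F d) {σ : Type} [Fintype σ] (b : σ → M)
    {k : σ →₀ ℕ} (hk : k.degree ≠ d) : coef F b k = 0 := by
  classical
  have h := hF (MvPolynomial (Option σ) A) (X none) (∑ j, X (some j) ⊗ₜ[A] b j)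
  have hs : (X none : MvPolynomial (Option σ) A) • (∑ j, (X (some j) : MvPolynomial (Option σ) A) ⊗ₜ[A] b j) =
      ∑ j, (X none * X (some j)) ⊗ₜ[A] b j := by
    simp [Finset.smul_sum, TensorProduct.smul_tmul']
  rw [hs, toFun'_sum, toFun'_sum] at h
  have h' := congrArg (cf (k.optionElim d)) h
  generalize hy : F.toFun' (MvPolynomial σ A) (gen b) = y at h'
  have e1 : ∀ (p : MvPolynomial σ A), coeff (k.optionElim d)
      (aeval (R := A) (fun j : σ => (X none * X (some j) : MvPolynomial (Option σ) A)) p) = 0 := by
    intro p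
    induction p using MvPolynomial.induction_on' with
    | add p q hp hq => simp only [map_add, coeff_add, hp, hq, add_zero]
    | monomial l r =>
      rw [aeval_monomial, Finsupp.prod_fintype _ _ (fun _ => pow_zero _)]
      simp only [mul_pow, Finset.prod_mul_distrib, Finset.prod_pow_eq_pow_sum, algebraMap_eq,
        X_pow_eq_monomial, ← monomial_sum_one, monomial_mul, C_apply, coeff_monomial, one_mul, mul_one, zero_add]
      rw [if_neg]
      intro hc
      have hn := DFunLike.congr_fun hc none
      have hl : ∀ j, l j = k j := fun j => by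
        have := DFunLike.congr_fun hc (some j)
        simpa [Finsupp.finsetSum_apply, Finsupp.single_apply] using this
      simp [Finsupp.finsetSum_apply, Finsupp.single_apply, hl] at hn
      exact hk (by rw [Finsupp.degree_eq_sum]; exact hn)
  have e2 : ∀ (p : MvPolynomial σ A), coeff (k.optionElim d)
      ((X none : MvPolynomial (Option σ) A) ^ d *
        aeval (R := A) (fun j : σ => (X (some j) : MvPolynomial (Option σ) A)) p) = coeff k p := by
    intro p
    induction p using MvPolynomial.induction_on' with
    | add p q hp hq => simp only [map_add, mul_add, coeff_add, hp, hq]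
    | monomial l r =>
      rw [aeval_monomial, Finsupp.prod_fintype _ _ (fun _ => pow_zero _)]
      simp only [algebraMap_eq, X_pow_eq_monomial, ← monomial_sum_one, monomial_mul, C_apply, coeff_monomial,
        one_mul, mul_one, zero_add]
      refine if_congr ⟨fun hc => Finsupp.ext fun j => ?_, ?_⟩ rfl rfl
      · have := DFunLike.congr_fun hc (some j)
        simpa [Finsupp.finsetSum_apply, Finsupp.single_apply] using this
      · rintro rfl
        ext (_ | j) <;> simp [Finsupp.finsetSum_apply, Finsupp.single_apply]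
  have l1 : ∀ z : MvPolynomial σ A ⊗[A] N, cf (k.optionElim d)
      ((aeval (R := A) (fun j : σ => (X none * X (some j) : MvPolynomial (Option σ) A))).toLinearMap.rTensor N z) = 0 := by
    intro z
    induction z using TensorProduct.induction_on with
    | zero => simp
    | add z z' hz hz' => simp only [map_add, hz, hz', add_zero]
    | tmul p w => simp only [LinearMap.rTensor_tmul, AlgHom.toLinearMap_apply, cf_tmul, e1, zero_smul]
  have l2 : ∀ z : MvPolynomial σ A ⊗[A] N, cf (k.optionElim d)
      ((X none : MvPolynomial (Option σ) A) ^ d •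
        (aeval (R := A) (fun j : σ => (X (some j) : MvPolynomial (Option σ) A))).toLinearMap.rTensor N z) = cf k z := by
    intro z
    induction z using TensorProduct.induction_on with
    | zero => simp
    | add z z' hz hz' => simp only [map_add, smul_add, hz, hz']
    | tmul p w => simp only [LinearMap.rTensor_tmul, AlgHom.toLinearMap_apply, TensorProduct.smul_tmul',
        smul_eq_mul, cf_tmul, e2]
  rw [l1, l2, ← hy] at h'
  exact h'.symm

/-- polarisation undoes the orbit sums, up to `d!` -/
theorem lift_polar_orb (F : M →ₚₗ[A] N) (hF : PolLaw.IsHomog F d) {σ : Type} [Fintype σ] (b : σ → M)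
    (k : σ →₀ ℕ) :
    PiTensorProduct.lift (polar (d := d) F) (orb b k) = d.factorial • coef F b k := by
  classical
  simp only [orb, map_sum, apply_ite (PiTensorProduct.lift (polar (d := d) F)), map_zero,
    PiTensorProduct.lift.tprod, polar_apply]
  obtain ⟨K₀, hK⟩ := exists_expansion (F.toFun' (MvPolynomial σ A) (gen b))
  let K := insert k K₀
  have hθ : ∀ c : Fin d → σ,
      coef F (fun i => b (c i)) (ones d) = ∑ k' ∈ K,
        coeff (ones d) (aeval (R := A) (fun j : σ => ∑ i with c i = j, (X i : MvPolynomial (Fin d) A))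
          (monomial k' 1)) • coef F b k' := by
    intro c
    have hg : gen (fun i => b (c i)) = ∑ j, (∑ i with c i = j, (X i : MvPolynomial (Fin d) A)) ⊗ₜ[A] b j := by
      rw [gen, ← Finset.sum_fiberwise Finset.univ c]
      refine Finset.sum_congr rfl fun j _ => ?_
      rw [TensorProduct.sum_tmul]
      exact Finset.sum_congr rfl fun i hi => by rw [(Finset.mem_filter.mp hi).2]
    rw [coef, hg, toFun'_sum, hK K (Finset.subset_insert _ _), map_sum, map_sum]
    exact Finset.sum_congr rfl fun k' _ => by rw [LinearMap.rTensor_tmul, cf_tmul]; rfl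
  simp only [hθ]
  rw [← Finset.sum_filter, Finset.sum_comm, Finset.sum_eq_single k]
  rotate_left
  · intro k' _ hne
    rw [← Finset.sum_smul]
    by_cases hd : k'.degree = d
    · obtain ⟨e, rfl⟩ := exists_cnt_eq hd
      convert zero_smul A (coef F b (cnt e)) using 2
      refine Finset.sum_eq_zero fun c hc => ?_
      rw [← prod_X_eq_monomial, map_prod]
      simp only [aeval_X, Finset.prod_univ_sum, coeff_sum, prod_X_eq_monomial, coeff_monomial]
      refine Finset.sum_eq_zero fun f hf => if_neg fun hf1 => hne ?_
      have hb := (cnt_eq_ones_iff f).mp hf1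
      have : e = c ∘ Equiv.ofBijective f hb := funext fun l =>
        ((Finset.mem_filter.mp (Fintype.mem_piFinset.mp hf l)).2).symm
      rw [this, cnt_comp]
      exact (Finset.mem_filter.mp hc).2
    · rw [coef_eq_zero F hF b hd, smul_zero]
  · intro hk'
    exact absurd (Finset.mem_insert_self _ _) hk'
  rw [← Finset.sum_smul, ← Nat.cast_smul_eq_nsmul A]
  by_cases hd : k.degree = d
  · obtain ⟨e, rfl⟩ := exists_cnt_eq hd
    congr 1
    simp only [(prod_X_eq_monomial (R := A) e).symm, map_prod, aeval_X, Finset.prod_univ_sum, coeff_sum]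
    simp only [prod_X_eq_monomial, coeff_monomial]
    have hbij : (Finset.univ : Finset (Equiv.Perm (Fin d))).card = d.factorial := by
      rw [Finset.card_univ, Fintype.card_perm, Fintype.card_fin]
    rw [← hbij]
    simp only [Finset.sum_boole, ← Nat.cast_sum]
    congr 1
    rw [← Finset.card_sigma]
    refine (Finset.card_bij (fun (p : Equiv.Perm (Fin d)) _ => (⟨e ∘ p.symm, ⇑p⟩ : Σ _ : Fin d → σ, Fin d → Fin d)) ?_ ?_ ?_).symm
    · intro p _
      simp only [Finset.mem_sigma, Finset.mem_filter, Finset.mem_univ, true_and, Fintype.mem_piFinset]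
      exact ⟨cnt_comp e p.symm, fun l => by simp, (cnt_eq_ones_iff _).mpr p.bijective⟩
    · intro p _ q _ hpq
      exact Equiv.ext fun l => congrFun (congrArg (fun s : Σ _ : Fin d → σ, Fin d → Fin d => s.2) hpq) l
    · rintro ⟨c, f⟩ hcf
      simp only [Finset.mem_sigma, Finset.mem_filter, Finset.mem_univ, true_and, Fintype.mem_piFinset] at hcf
      obtain ⟨-, hf, hf1⟩ := hcf
      refine ⟨Equiv.ofBijective f ((cnt_eq_ones_iff f).mp hf1), Finset.mem_univ _, ?_⟩
      refine Sigma.ext (funext fun i => ?_) (heq_of_eq rfl)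
      obtain ⟨l, rfl⟩ := ((cnt_eq_ones_iff f).mp hf1).2 i
      simp [hf l]
  · rw [coef_eq_zero F hF b hd, smul_zero, smul_zero]

theorem orb_ones (b : Fin d → M) :
    orb b (ones d) = ∑ e : Equiv.Perm (Fin d),
      PiTensorProduct.reindex A (fun _ : Fin d => M) e (PiTensorProduct.tprod A b) := by
  classical
  refine (lift_orb (LinearMap.id : (⨂[A] _ : Fin d, M) →ₗ[A] _) b (ones d)).trans ?_
  simp only [LinearMap.id_apply, PiTensorProduct.reindex_tprod]
  refine (Finset.sum_bij (fun e _ => ⇑(Equiv.symm e)) ?_ ?_ ?_ ?_).symm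
  · intro e _
    simpa using (cnt_eq_ones_iff _).mpr e.symm.bijective
  · intro e _ e' _ h
    exact Equiv.symm_bijective.1 (Equiv.ext fun l => congrFun h l)
  · intro c hc
    exact ⟨(Equiv.ofBijective c ((cnt_eq_ones_iff c).mp (by simpa using hc))).symm,
      Finset.mem_univ _, rfl⟩
  · intro e _
    rfl

end Polar

section Law

variable {B C : Type u} [CommRing B] [Algebra A B] [CommRing C] [Algebra A C] {d : ℕ}

theorem prod_tmul {ι : Type*} (t : Finset ι) {S : Type u} [CommSemiring S] [Algebra A S]
    (f : ι → S) (g : ι → C) :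
    ∏ i ∈ t, (f i ⊗ₜ[A] g i) = (∏ i ∈ t, f i) ⊗ₜ[A] (∏ i ∈ t, g i) := by
  classical
  induction t using Finset.induction_on with
  | empty => simp [Algebra.TensorProduct.one_def]
  | insert a t ha ih => simp [ha, ih, Algebra.TensorProduct.tmul_mul_tmul]

theorem tpowLaw_sum {ι : Type*} [Fintype ι] [DecidableEq ι] (S : Type u) [CommSemiring S] [Algebra A S]
    (s : ι → S) (b : ι → B) :
    (SymTen.tpowLaw A B d).law.toFun' S (∑ j, s j ⊗ₜ[A] b j) =
      ∑ c : Fin d → ι, (∏ i, s (c i)) ⊗ₜ[A] PiTensorProduct.tprod A (fun i => b (c i)) := by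
  classical
  rw [SymTen.tpowLaw, PolLaw.MulLaw.prodMap_toFun']
  simp only [map_sum, Algebra.TensorProduct.map_tmul, AlgHom.id_apply]
  rw [Fintype.prod_sum]
  refine Finset.sum_congr rfl fun c _ => ?_
  rw [prod_tmul]
  congr 1
  simp only [PiTensorProduct.singleAlgHom_apply, MonoidHom.mulSingle_apply]
  rw [← PiTensorProduct.tprod_prod]
  exact congrArg _ (Finset.univ_prod_mulSingle (fun i => b (c i)))

theorem coef_tpowLaw {σ : Type} [Fintype σ] (b : σ → B) (k : σ →₀ ℕ) :
    coef (SymTen.tpowLaw A B d).law b k = orb b k := by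
  classical
  rw [coef, gen, tpowLaw_sum, map_sum]
  simp only [prod_X_eq_monomial, cf_tmul, coeff_monomial, ite_smul, one_smul, zero_smul]
  rfl

theorem orb_mem_TS {σ : Type} [Fintype σ] (b : σ → B) (k : σ →₀ ℕ) :
    orb (A := A) (d := d) b k ∈ SymTen.TS A B d :=
  fun e => reindex_orb b k e

variable (A B d) in
theorem exists_tsLaw : ∃ τ : PolLaw.MulLaw A B (SymTen.TS A B d) d,
    PolLaw.MulLaw.postcomp (SymTen.TS A B d).val τ = SymTen.tpowLaw A B d :=
  exists_corestrict _ Subtype.val_injective _ fun n b k =>
    ⟨⟨_, orb_mem_TS b k⟩, (coef_tpowLaw b k).symm⟩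

variable (A B d) in
/-- the law `x ↦ x ⊗ ⋯ ⊗ x` into symmetric tensors -/
noncomputable def tsLaw : PolLaw.MulLaw A B (SymTen.TS A B d) d := (exists_tsLaw A B d).choose

theorem tsLaw_spec : PolLaw.MulLaw.postcomp (SymTen.TS A B d).val (tsLaw A B d) = SymTen.tpowLaw A B d :=
  (exists_tsLaw A B d).choose_spec

theorem coe_coef_tsLaw {σ : Type} [Fintype σ] (b : σ → B) (k : σ →₀ ℕ) :
    ((coef (tsLaw A B d).law b k : SymTen.TS A B d) : ⨂[A] _ : Fin d, B) = orb b k := by
  rw [← coef_tpowLaw, ← tsLaw_spec]
  exact (coef_postcomp (SymTen.TS A B d).val.toLinearMap (tsLaw A B d).law b k).symm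

/-- a comparison map in the sense of the statements carries coefficients to orbit sums -/
theorem phi_coef (γ : PolLaw.MulLaw A B C d) (φ : C →ₐ[A] SymTen.TS A B d)
    (hφ : ∀ (S : Type u) [CommSemiring S] [Algebra A S] (n : ℕ) (s : Fin n → S) (b : Fin n → B),
      ((SymTen.TS A B d).val.comp φ).toLinearMap.lTensor S (γ.law.toFun' S (∑ j, s j ⊗ₜ[A] b j)) =
        ∑ c : Fin d → Fin n, (∏ i, s (c i)) ⊗ₜ[A] PiTensorProduct.tprod A (fun i => b (c i)))
    {n : ℕ} (b : Fin n → B) (k : Fin n →₀ ℕ) :
    (φ (coef γ.law b k) : ⨂[A] _ : Fin d, B) = orb b k := by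
  classical
  rw [← coef_tpowLaw, coef, coef, gen, tpowLaw_sum, ← hφ, cf_lTensor]
  rfl

theorem phi_postcomp (γ : PolLaw.MulLaw A B C d) (φ : C →ₐ[A] SymTen.TS A B d)
    (hφ : ∀ (S : Type u) [CommSemiring S] [Algebra A S] (n : ℕ) (s : Fin n → S) (b : Fin n → B),
      ((SymTen.TS A B d).val.comp φ).toLinearMap.lTensor S (γ.law.toFun' S (∑ j, s j ⊗ₜ[A] b j)) =
        ∑ c : Fin d → Fin n, (∏ i, s (c i)) ⊗ₜ[A] PiTensorProduct.tprod A (fun i => b (c i))) :
    PolLaw.postcomp φ.toLinearMap γ.law = (tsLaw A B d).law :=
  ext_coef fun n b k => by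
    rw [coef_postcomp]
    exact Subtype.ext ((phi_coef γ φ hφ b k).trans (coe_coef_tsLaw b k).symm)

end Law

end Groth.Agent.H7SymTen
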