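import Mathlib
import Groth.Prelude.Def_PolLaw2
import Groth.Prelude.Def_SymTen
import Groth.Agent.Lib.H7PolLaw
import Groth.Agent.Lib.H7SymTen

set_option linter.all false
set_option autoImplicit false

/-! Symmetric tensors versus divided powers of an algebra. -/

namespace Groth.Agent.H7Gamma

open scoped TensorProduct
open MvPolynomial Groth.Agent.H7PolLaw Groth.Agent.H7SymTen PolLaw

universe u

variable {A : Type u} [CommRing A] {d : ℕ}

section Kernel

variable {P M : Type u} [AddCommGroup P] [Module A P] [AddCommGroup M] [Module A M]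

variable (d) in
/-- tensors with one factor in the kernel -/
noncomputable def slotKer (π : P →ₗ[A] M) : Submodule A (⨂[A] _ : Fin d, P) :=
  Submodule.span A {x | ∃ (g : Fin d → P) (i : Fin d), π (g i) = 0 ∧ PiTensorProduct.tprod A g = x}

theorem tprod_sub_mem_slotKer (π : P →ₗ[A] M) (g : Fin d → P) (i : Fin d) (x y : P) (h : π x = π y) :
    PiTensorProduct.tprod A (Function.update g i x) - PiTensorProduct.tprod A (Function.update g i y) ∈
      slotKer d π := by
  rw [← MultilinearMap.map_update_sub]
  exact Submodule.subset_span ⟨_, i, by simp [h], rfl⟩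

theorem tprod_congr_mem_slotKer (π : P →ₗ[A] M) (g g' : Fin d → P) (h : ∀ i, π (g i) = π (g' i)) :
    PiTensorProduct.tprod A g - PiTensorProduct.tprod A g' ∈ slotKer d π := by
  classical
  suffices ∀ s : Finset (Fin d),
      PiTensorProduct.tprod A g - PiTensorProduct.tprod A (s.piecewise g' g) ∈ slotKer d π by
    simpa using this Finset.univ
  intro s
  induction s using Finset.induction_on with
  | empty => simp
  | insert i s hi ih =>
    rw [Finset.piecewise_insert]
    have e : s.piecewise g' g = Function.update (s.piecewise g' g) i (g i) := by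
      funext j
      by_cases hj : j = i
      · subst hj; simp [hi]
      · simp [hj]
    have := tprod_sub_mem_slotKer π (s.piecewise g' g) i (g i) (g' i) (h i)
    rw [← e] at this
    simpa using add_mem ih this

theorem ker_map_le_slotKer (π : P →ₗ[A] M) (hπ : Function.Surjective π) :
    LinearMap.ker (PiTensorProduct.map fun _ : Fin d => π) ≤ slotKer d π := by
  classical
  choose s hs using hπ
  let m : MultilinearMap A (fun _ : Fin d => M) ((⨂[A] _ : Fin d, P) ⧸ slotKer d π) :=
    MultilinearMap.mk' (fun b => (slotKer d π).mkQ (PiTensorProduct.tprod A fun i => s (b i)))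
      (fun b i x y => by
        rw [← map_add]
        refine (Submodule.Quotient.eq _).mpr ?_
        simp only [Function.apply_update (fun _ => s)]
        rw [← MultilinearMap.map_update_add]
        exact tprod_sub_mem_slotKer π _ i _ _ (by simp [hs]))
      (fun b i a x => by
        rw [← map_smul]
        refine (Submodule.Quotient.eq _).mpr ?_
        simp only [Function.apply_update (fun _ => s)]
        rw [← MultilinearMap.map_update_smul]
        exact tprod_sub_mem_slotKer π _ i _ _ (by simp [hs]))
  have key : PiTensorProduct.lift m ∘ₗ (PiTensorProduct.map fun _ : Fin d => π) = (slotKer d π).mkQ := by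
    refine PiTensorProduct.ext (MultilinearMap.ext fun g => ?_)
    simp only [LinearMap.compMultilinearMap_apply, LinearMap.comp_apply, PiTensorProduct.map_tprod,
      PiTensorProduct.lift.tprod]
    exact (Submodule.Quotient.eq _).mpr (tprod_congr_mem_slotKer π _ _ fun i => hs _)
  intro x hx
  have := LinearMap.congr_fun key x
  rw [LinearMap.comp_apply, LinearMap.mem_ker.mp hx, map_zero] at this
  exact (Submodule.Quotient.mk_eq_zero _).mp this.symm

theorem map_surjective (π : P →ₗ[A] M) (hπ : Function.Surjective π) :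
    Function.Surjective (PiTensorProduct.map fun _ : Fin d => π) := by
  intro y
  induction y using PiTensorProduct.induction_on with
  | smul_tprod r g =>
    choose h hh using fun i => hπ (g i)
    exact ⟨r • PiTensorProduct.tprod A h, by simp [hh]⟩
  | add x y hx hy =>
    obtain ⟨x, rfl⟩ := hx
    obtain ⟨y, rfl⟩ := hy
    exact ⟨x + y, map_add _ _ _⟩

variable (A M d) in
/-- the span of all orbit sums -/
noncomputable def orbSpan : Submodule A (⨂[A] _ : Fin d, M) :=
  Submodule.span A {x | ∃ (n : ℕ) (b : Fin n → M) (k : Fin n →₀ ℕ), orb b k = x}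

theorem orb_mem_orbSpan {n : ℕ} (b : Fin n → M) (k : Fin n →₀ ℕ) : orb b k ∈ orbSpan A d M :=
  Submodule.subset_span ⟨n, b, k, rfl⟩

theorem map_orbSpan (π : P →ₗ[A] M) {y : ⨂[A] _ : Fin d, P} (hy : y ∈ orbSpan A d P) :
    PiTensorProduct.map (fun _ : Fin d => π) y ∈ orbSpan A d M := by
  suffices orbSpan A d P ≤ (orbSpan A d M).comap (PiTensorProduct.map fun _ : Fin d => π) from this hy
  refine Submodule.span_le.mpr ?_
  rintro _ ⟨n, b, k, rfl⟩
  show PiTensorProduct.map (fun _ : Fin d => π) (orb b k) ∈ orbSpan A d M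
  rw [map_orb]
  exact orb_mem_orbSpan _ _

theorem symm_mem_orbSpan (z : ⨂[A] _ : Fin d, M) :
    (∑ e : Equiv.Perm (Fin d), PiTensorProduct.reindex A (fun _ : Fin d => M) e z) ∈ orbSpan A d M := by
  induction z using PiTensorProduct.induction_on with
  | smul_tprod r g =>
    simp only [map_smul, ← Finset.smul_sum]
    exact Submodule.smul_mem _ _ (orb_ones (A := A) g ▸ orb_mem_orbSpan _ _)
  | add x y hx hy => simpa [map_add, Finset.sum_add_distrib] using add_mem hx hy

variable {I : Type u}

/-- symmetric tensors of a free module are combinations of orbit sums -/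
theorem mem_orbSpan_of_basis (e : Module.Basis I A P) (y : ⨂[A] _ : Fin d, P)
    (hy : ∀ p : Equiv.Perm (Fin d), PiTensorProduct.reindex A (fun _ : Fin d => P) p y = y) :
    y ∈ orbSpan A d P := by
  classical
  let eT := Basis.piTensorProduct (fun _ : Fin d => e)
  have heT : ∀ c : Fin d → I, eT c = PiTensorProduct.tprod A fun i => e (c i) := fun c =>
    Basis.piTensorProduct_apply _ c
  let a := eT.repr y
  have hinv : ∀ (c : Fin d → I) (p : Equiv.Perm (Fin d)), a (c ∘ p) = a c := by
    intro c p
    have key : (Finsupp.lapply (R := A) (M := A) c) ∘ₗ eT.repr.toLinearMap ∘ₗ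
        (PiTensorProduct.reindex A (fun _ : Fin d => P) p).toLinearMap =
        (Finsupp.lapply (R := A) (M := A) (c ∘ p)) ∘ₗ eT.repr.toLinearMap := by
      refine eT.ext fun c' => ?_
      have h1 : PiTensorProduct.reindex A (fun _ : Fin d => P) p (eT c') = eT (c' ∘ p.symm) := by
        rw [heT, heT, PiTensorProduct.reindex_tprod]; rfl
      simp only [LinearMap.comp_apply, LinearEquiv.coe_coe, h1, Module.Basis.repr_self, Finsupp.lapply_apply,
        Finsupp.single_apply]
      refine if_congr ⟨fun h => ?_, fun h => ?_⟩ rfl rfl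
      · funext i
        simpa using congrFun h (p i)
      · subst h
        funext i
        simp
    have := LinearMap.congr_fun key y
    simp only [LinearMap.comp_apply, LinearEquiv.coe_coe, Finsupp.lapply_apply, hy] at this
    exact this.symm
  let s : Finset I := a.support.biUnion fun c => Finset.univ.image c
  let ι : Fin s.card → I := fun q => (s.equivFin.symm q : I)
  have hι : Function.Injective ι := fun q q' h => s.equivFin.symm.injective (Subtype.ext h)
  have hy' : y = ∑ c : Fin d → Fin s.card, a (ι ∘ c) • PiTensorProduct.tprod A fun i => e (ι (c i)) := by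
    have h1 : y = ∑ c ∈ a.support, a c • eT c := by
      conv_lhs => rw [← eT.linearCombination_repr y, Finsupp.linearCombination_apply, Finsupp.sum]
    have h2 : (∑ c : Fin d → Fin s.card, a (ι ∘ c) • PiTensorProduct.tprod A fun i => e (ι (c i))) =
        ∑ c ∈ (Finset.univ : Finset (Fin d → Fin s.card)).image (ι ∘ ·), a c • eT c := by
      rw [Finset.sum_image (g := fun c : Fin d → Fin s.card => ι ∘ c)
        (f := fun c => a c • eT c) (fun c _ c' _ h => funext fun i => hι (congrFun h i))]
      simp [heT]
    rw [h2, h1]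
    refine Finset.sum_subset (fun c hc => ?_) fun c _ hc => ?_
    · refine Finset.mem_image.mpr ⟨fun i => s.equivFin ⟨c i, Finset.mem_biUnion.mpr
        ⟨c, hc, Finset.mem_image_of_mem _ (Finset.mem_univ i)⟩⟩, Finset.mem_univ _, ?_⟩
      funext i
      simp [ι]
    · rw [Finsupp.notMem_support_iff.mp hc, zero_smul]
  rw [hy']
  refine Submodule.span_le.mpr ?_ (sum_invariant_eq (fun q => e (ι q)) (fun c => a (ι ∘ c))
    fun c p => hinv (ι ∘ c) p)
  rintro _ ⟨k, rfl⟩
  exact orb_mem_orbSpan _ _

end Kernel

section Free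

variable {P C : Type u} [CommRing P] [Algebra A P] [CommRing C] [Algebra A C] {I : Type u}

theorem coef_comp_injective {σ τ : Type} [Fintype σ] [Fintype τ] (F : P →ₚₗ[A] C) (b : τ → P) (j : σ → τ)
    (hj : Function.Injective j) (k : σ →₀ ℕ) :
    coef F (fun q => b (j q)) k = coef F b (Finsupp.mapDomain j k) := by
  classical
  have hg : gen (fun q => b (j q)) =
      ∑ t, (killCompl hj (X t : MvPolynomial τ A)) ⊗ₜ[A] b t := by
    rw [← Finset.sum_subset (Finset.subset_univ (Finset.univ.image j)), Finset.sum_image fun q _ q' _ h => hj h]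
    · refine Finset.sum_congr rfl fun q _ => ?_
      rw [← rename_X (R := A) j q, killCompl_rename_app]
    · intro t _ ht
      have : killCompl hj (X t : MvPolynomial τ A) = 0 := by
        simp only [killCompl, aeval_X]
        exact dif_neg fun ⟨q, hq⟩ => ht (Finset.mem_image.mpr ⟨q, Finset.mem_univ _, hq⟩)
      rw [this, TensorProduct.zero_tmul]
  rw [coef, hg, coef, show (∑ t, killCompl hj (X t : MvPolynomial τ A) ⊗ₜ[A] b t) =
    (killCompl hj).toLinearMap.rTensor P (gen b) by simp [gen], ← PolynomialLaw.isCompat_apply']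
  generalize F.toFun' _ (gen b) = y
  induction y using TensorProduct.induction_on with
  | zero => simp
  | add y y' hy hy' => simp [hy, hy']
  | tmul p z => simp [coeff_killCompl]

/-- a normal form `c = ι ∘ c'` of a tuple -/
theorem exists_normal (c : Fin d → I) : ∃ q : Σ n : ℕ, (Fin n → I) × (Fin d → Fin n),
    Function.Injective q.2.1 ∧ Function.Surjective q.2.2 ∧ c = q.2.1 ∘ q.2.2 := by
  classical
  let s := Finset.univ.image c
  refine ⟨⟨s.card, fun q => (s.equivFin.symm q : I),
    fun i => s.equivFin ⟨c i, Finset.mem_image_of_mem _ (Finset.mem_univ i)⟩⟩, ?_, ?_, ?_⟩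
  · exact fun q q' h => s.equivFin.symm.injective (Subtype.ext h)
  · intro q
    obtain ⟨i, -, hi⟩ := Finset.mem_image.mp (s.equivFin.symm q).2
    exact ⟨i, by simp [hi]⟩
  · funext i
    simp

/-- for a free algebra every law factors linearly through orbit sums -/
theorem exists_lift_free (e : Module.Basis I A P) (G : MulLaw A P C d) :
    ∃ g : (⨂[A] _ : Fin d, P) →ₗ[A] C,
      ∀ (n : ℕ) (b : Fin n → P) (k : Fin n →₀ ℕ), g (orb b k) = coef G.law b k := by
  classical
  choose q hqι hqc hq using exists_normal (I := I) (d := d)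
  let val : (Fin d → I) → C := fun c => coef G.law (fun t => e ((q c).2.1 t)) (cnt (q c).2.2)
  have hval : ∀ (N : ℕ) (ι : Fin N → I), Function.Injective ι → ∀ c' : Fin d → Fin N,
      val (ι ∘ c') = coef G.law (fun t => e (ι t)) (cnt c') := by
    intro N ι hι c'
    have h0 := hq (ι ∘ c')
    let j : Fin (q (ι ∘ c')).1 → Fin N := fun t => c' (hqc (ι ∘ c') t).choose
    have hj : ∀ t, ι (j t) = (q (ι ∘ c')).2.1 t := fun t => by
      have := congrFun h0 (hqc (ι ∘ c') t).choose
      simp only [Function.comp_apply] at this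
      rw [this, (hqc (ι ∘ c') t).choose_spec]
    have hjinj : Function.Injective j := fun t t' h => hqι _ (by rw [← hj, ← hj, h])
    have hc : c' = j ∘ (q (ι ∘ c')).2.2 := funext fun i => hι (by
      rw [Function.comp_apply, hj]
      exact congrFun h0 i)
    show coef G.law (fun t => e ((q (ι ∘ c')).2.1 t)) _ = _
    simp only [← hj]
    rw [coef_comp_injective G.law (fun t => e (ι t)) j hjinj]
    congr 1
    conv_rhs => rw [hc]
    simp [cnt, Finsupp.mapDomain_finsetSum, Finsupp.mapDomain_single]
  let st : Setoid (Fin d → I) :=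
    { r := fun c c' => ∃ p : Equiv.Perm (Fin d), c' = c ∘ p
      iseqv := ⟨fun c => ⟨Equiv.refl _, rfl⟩,
        fun {c c'} ⟨p, h⟩ => ⟨p.symm, by subst h; funext i; simp⟩,
        fun {c c' c''} ⟨p, h⟩ ⟨p', h'⟩ => ⟨p'.trans p, by subst h; subst h'; rfl⟩⟩ }
  let rep : (Fin d → I) → (Fin d → I) := fun c => (Quotient.mk st c).out
  let eT := Basis.piTensorProduct (fun _ : Fin d => e)
  let g : (⨂[A] _ : Fin d, P) →ₗ[A] C := eT.constr A fun c => if c = rep c then val c else 0
  have hg : ∀ c : Fin d → I, g (PiTensorProduct.tprod A fun i => e (c i)) = if c = rep c then val c else 0 :=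
    fun c => by
      rw [← Basis.piTensorProduct_apply (fun _ : Fin d => e) c]
      exact eT.constr_basis _ _ _
  refine ⟨g, fun n b k => ?_⟩
  have hlaw : PolLaw.postcomp g (SymTen.tpowLaw A P d).law = G.law := by
    refine ext_coef fun n b k => ?_
    have hrep : ∃ (N : ℕ) (ι : Fin N → I) (a : Fin n → Fin N → A), Function.Injective ι ∧
        ∀ j, b j = ∑ t, a j t • e (ι t) := by
      let s : Finset I := Finset.univ.biUnion fun j => (e.repr (b j)).support
      refine ⟨s.card, fun t => (s.equivFin.symm t : I), fun j t => e.repr (b j) (s.equivFin.symm t),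
        fun t t' h => s.equivFin.symm.injective (Subtype.ext h), fun j => ?_⟩
      rw [Equiv.sum_comp s.equivFin.symm (fun t : s => e.repr (b j) t • e t),
        Finset.sum_coe_sort s (fun t => e.repr (b j) t • e t)]
      conv_lhs => rw [← e.linearCombination_repr (b j), Finsupp.linearCombination_apply, Finsupp.sum]
      exact Finset.sum_subset (fun t ht => Finset.mem_biUnion.mpr ⟨j, Finset.mem_univ _, ht⟩)
        fun t _ ht => by rw [Finsupp.notMem_support_iff.mp ht, zero_smul]
    obtain ⟨N, ι, a, hι, hb⟩ := hrep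
    have hgen : gen b = ∑ t, (∑ j, a j t • (X j : MvPolynomial (Fin n) A)) ⊗ₜ[A] e (ι t) := by
      simp only [gen, hb, TensorProduct.tmul_sum, TensorProduct.sum_tmul, TensorProduct.smul_tmul]
      rw [Finset.sum_comm]
    rw [coef, coef, hgen, toFun'_sum, toFun'_sum]
    congr 2
    refine ext_cf fun l => ?_
    show coef (PolLaw.postcomp g (SymTen.tpowLaw A P d).law) _ l = coef G.law _ l
    rw [coef_postcomp, coef_tpowLaw]
    by_cases hd : l.degree = d
    · obtain ⟨c₀, rfl⟩ := exists_cnt_eq hd
      rw [lift_orb]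
      obtain ⟨p, hp⟩ : ∃ p : Equiv.Perm (Fin d), rep (ι ∘ c₀) = (ι ∘ c₀) ∘ p := by
        obtain ⟨p, hp⟩ := Quotient.exact (Quotient.out_eq (Quotient.mk st (ι ∘ c₀)))
        exact ⟨p.symm, funext fun i => by
          have := congrFun hp (p.symm i)
          simpa [rep] using this.symm⟩
      rw [Finset.sum_eq_single (c₀ ∘ p)]
      · have hr : rep (ι ∘ (c₀ ∘ p)) = rep (ι ∘ c₀) := by
          show Quotient.out _ = Quotient.out _
          exact congrArg Quotient.out (Quotient.sound ⟨p.symm, by funext i; simp⟩)
        have hh := hg (fun i => ι ((c₀ ∘ p) i))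
        rw [if_pos (show (fun i => ι ((c₀ ∘ p) i)) = rep (fun i => ι ((c₀ ∘ p) i)) from
          (show (fun i => ι ((c₀ ∘ p) i)) = rep (ι ∘ (c₀ ∘ p)) by rw [hr, hp]; rfl))] at hh
        exact hh.trans ((hval N ι hι (c₀ ∘ p)).trans (by rw [cnt_comp]))
      · intro c hc hne
        have hc' : cnt c₀ = cnt c := by simpa [eq_comm] using hc
        obtain ⟨p', rfl⟩ := exists_perm_of_cnt_eq hc'
        refine (hg (fun i => ι ((c₀ ∘ p') i))).trans (if_neg fun h => hne ?_)
        have hr : rep (ι ∘ (c₀ ∘ p')) = rep (ι ∘ c₀) :=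
          congrArg Quotient.out (Quotient.sound ⟨p'.symm, by funext i; simp⟩)
        rw [show rep (fun i => ι ((c₀ ∘ p') i)) = rep (ι ∘ (c₀ ∘ p')) from rfl, hr, hp] at h
        exact funext fun i => hι (congrFun h i)
      · intro h
        exact absurd (by simp [cnt_comp]) h
    · rw [coef_eq_zero G.law G.homog _ hd, lift_orb]
      refine Finset.sum_eq_zero fun c hc => ?_
      have hc' : cnt c = l := by simpa using hc
      exact absurd (hc' ▸ degree_cnt c) hd
  rw [← hlaw, coef_postcomp, coef_tpowLaw]

variable {B : Type u} [CommRing B] [Algebra A B]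

theorem coefSpan_tsLaw (h : ∀ y ∈ SymTen.TS A B d, y ∈ orbSpan A d B) : coefSpan (tsLaw A B d) = ⊤ := by
  rw [eq_top_iff]
  intro y _
  have h1 : (Subalgebra.toSubmodule (SymTen.TS A B d)).subtype y ∈
      (coefSpan (tsLaw A B d)).map (Subalgebra.toSubmodule (SymTen.TS A B d)).subtype := by
    refine Submodule.span_le.mpr ?_ (h _ y.2)
    rintro _ ⟨n, b, k, rfl⟩
    exact ⟨(coef (tsLaw A B d).law b k : SymTen.TS A B d), coef_mem_coefSpan (tsLaw A B d) b k,
      coe_coef_tsLaw b k⟩
  obtain ⟨x, hx, hxy⟩ := h1
  exact Subtype.ext hxy ▸ hx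

/-- symmetric tensors of a free algebra are the divided power algebra -/
theorem isGammaD_of_basis (e : Module.Basis I A P) : IsGammaD (tsLaw A P d) := by
  refine isGammaD_of _ (coefSpan_tsLaw fun y hy => mem_orbSpan_of_basis e y hy) fun C' _ _ G => ?_
  obtain ⟨g, hg⟩ := exists_lift_free e G
  refine ⟨g ∘ₗ (SymTen.TS A P d).val.toLinearMap, fun n b k => ?_⟩
  rw [← hg, ← coe_coef_tsLaw b k]
  rfl

end Free

end Groth.Agent.H7Gamma
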