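import Mathlib
import Groth.Prelude.Def_PolLaw2
import Groth.Prelude.Def_SymTen
import Groth.Agent.Lib.H7PolLaw
import Groth.Agent.Lib.H7SymTen
import Groth.Agent.Lib.H7Gamma

set_option linter.all false
set_option autoImplicit false

/-! Symmetric tensors as divided powers; the norm law out of the tensor power. -/

namespace Groth.Agent.H7Gamma

open scoped TensorProduct
open MvPolynomial Groth.Agent.H7PolLaw Groth.Agent.H7SymTen PolLaw

universe u

variable {A : Type u} [CommRing A] {B C : Type u} [CommRing B] [Algebra A B] [CommRing C] [Algebra A C] {d : ℕ}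

section Factorial

/-- `ψ φ = d!` and `φ ψ = ∑ σ` for a comparison map `φ` -/
theorem polar_comp (γ : MulLaw A B C d) (hγ : IsGammaD γ) (φ : C →ₐ[A] SymTen.TS A B d)
    (hφ : ∀ (S : Type u) [CommSemiring S] [Algebra A S] (n : ℕ) (s : Fin n → S) (b : Fin n → B),
      ((SymTen.TS A B d).val.comp φ).toLinearMap.lTensor S (γ.law.toFun' S (∑ j, s j ⊗ₜ[A] b j)) =
        ∑ c : Fin d → Fin n, (∏ i, s (c i)) ⊗ₜ[A] PiTensorProduct.tprod A (fun i => b (c i))) :
    (∀ x : C, PiTensorProduct.lift (polar γ.law) ((φ x : SymTen.TS A B d) : ⨂[A] _ : Fin d, B) =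
        d.factorial • x) ∧
      (∀ z : ⨂[A] _ : Fin d, B, ((φ (PiTensorProduct.lift (polar γ.law) z) : SymTen.TS A B d) : ⨂[A] _ : Fin d, B) =
        ∑ e : Equiv.Perm (Fin d), PiTensorProduct.reindex A (fun _ : Fin d => B) e z) := by
  constructor
  · intro x
    have key : PiTensorProduct.lift (polar γ.law) ∘ₗ ((SymTen.TS A B d).val.comp φ).toLinearMap =
        d.factorial • LinearMap.id := by
      refine LinearMap.ext_on (coefSpan_eq_top γ hγ) ?_
      rintro _ ⟨n, b, k, rfl⟩
      show PiTensorProduct.lift (polar γ.law) ((φ (coef γ.law b k) : SymTen.TS A B d) : ⨂[A] _ : Fin d, B) = _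
      rw [phi_coef γ φ hφ, lift_polar_orb γ.law γ.homog b k]
      rfl
    exact LinearMap.congr_fun key x
  · intro z
    have key : ((SymTen.TS A B d).val.comp φ).toLinearMap ∘ₗ PiTensorProduct.lift (polar γ.law) =
        ∑ e : Equiv.Perm (Fin d), (PiTensorProduct.reindex A (fun _ : Fin d => B) e).toLinearMap := by
      refine PiTensorProduct.ext (MultilinearMap.ext fun b => ?_)
      simp only [LinearMap.compMultilinearMap_apply, LinearMap.comp_apply, PiTensorProduct.lift.tprod,
        polar_apply, LinearMap.coe_sum, Finset.sum_apply, LinearEquiv.coe_coe]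
      rw [← orb_ones]
      exact phi_coef γ φ hφ b (ones d)
    simpa using LinearMap.congr_fun key z

theorem sum_perm_of_mem_TS (y : SymTen.TS A B d) :
    (∑ e : Equiv.Perm (Fin d), PiTensorProduct.reindex A (fun _ : Fin d => B) e (y : ⨂[A] _ : Fin d, B)) =
      d.factorial • (y : ⨂[A] _ : Fin d, B) := by
  rw [Finset.sum_congr rfl fun e _ => y.2 e, Finset.sum_const, Finset.card_univ, Fintype.card_perm,
    Fintype.card_fin]

/-- symmetric tensors are the divided power algebra when `d!` is a unit -/
theorem isGammaD_of_isUnit (h : IsUnit ((d.factorial : ℕ) : A)) : IsGammaD (tsLaw A B d) := by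
  obtain ⟨v, hv⟩ := h.exists_right_inv
  have hv' : v * (d.factorial : A) = 1 := by rw [mul_comm, hv]
  refine isGammaD_of _ (coefSpan_tsLaw fun y hy => ?_) fun C' _ _ G => ?_
  · have h1 := Submodule.smul_mem (orbSpan A d B) v (symm_mem_orbSpan (A := A) y)
    rwa [sum_perm_of_mem_TS ⟨y, hy⟩, ← Nat.cast_smul_eq_nsmul A, smul_smul, hv', one_smul] at h1
  · refine ⟨v • (PiTensorProduct.lift (polar G.law) ∘ₗ (SymTen.TS A B d).val.toLinearMap), fun n b k => ?_⟩
    show v • PiTensorProduct.lift (polar G.law) (((coef (tsLaw A B d).law b k : SymTen.TS A B d)) : ⨂[A] _ : Fin d, B) = _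
    rw [coe_coef_tsLaw, lift_polar_orb G.law G.homog b k, ← Nat.cast_smul_eq_nsmul A, smul_smul, hv', one_smul]

end Factorial

section Flat

variable {P M I : Type u} [AddCommGroup P] [Module A P] [AddCommGroup M] [Module A M]

/-- finitely many relations in a free module over a flat module die under an endomorphism over it -/
theorem exists_kill [Module.Flat A M] (e : Module.Basis I A P) (π : P →ₗ[A] M) (hπ : Function.Surjective π)
    (K : Finset P) (hK : ∀ x ∈ K, π x = 0) :
    ∃ u : P →ₗ[A] P, π ∘ₗ u = π ∧ ∀ x ∈ K, u x = 0 := by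
  classical
  let s : Finset I := K.biUnion fun x => (e.repr x).support
  let j : (s →₀ A) →ₗ[A] P := Finsupp.linearCombination A fun q : s => e q
  let r : P →ₗ[A] (s →₀ A) := (Finsupp.lcomapDomain (Subtype.val) Subtype.val_injective) ∘ₗ e.repr.toLinearMap
  have hjr : ∀ x ∈ K, j (r x) = x := by
    intro x hx
    have hs : (e.repr x).support ⊆ s := Finset.subset_biUnion_of_mem (fun x => (e.repr x).support) hx
    conv_rhs => rw [← e.linearCombination_repr x]
    simp only [j, r, LinearMap.comp_apply, LinearEquiv.coe_coe]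
    rw [Finsupp.linearCombination_apply, Finsupp.linearCombination_apply,
      Finsupp.sum_fintype _ (fun (i : s) a => a • e (i : I)) (fun i => zero_smul A _),
      Finsupp.sum_of_support_subset _ hs (fun i a => a • e i) (fun i _ => zero_smul A _)]
    rw [← Finset.sum_coe_sort s]
    exact Finset.sum_congr rfl fun q _ => rfl
  let f : (↥K →₀ A) →ₗ[A] (s →₀ A) := Finsupp.linearCombination A fun x : K => r x
  have hf : (π ∘ₗ j) ∘ₗ f = 0 := by
    refine Finsupp.lhom_ext fun x a => ?_
    simp [f, hjr x.1 x.2, hK x.1 x.2]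
  obtain ⟨k, a, y, hy, haf⟩ := Module.Flat.exists_factorization_of_comp_eq_zero_of_free hf
  choose l hl using hπ
  let lift' : (Fin k →₀ A) →ₗ[A] P := Finsupp.linearCombination A fun q => l (y (Finsupp.single q 1))
  have hlift : π ∘ₗ lift' = y := by
    refine Finsupp.lhom_ext fun q c => ?_
    simp [lift', hl, ← map_smul, Finsupp.smul_single_one]
  let u : P →ₗ[A] P := e.constr A fun q => if h : q ∈ s then lift' (a (Finsupp.single ⟨q, h⟩ 1)) else e q
  have huj : u ∘ₗ j = lift' ∘ₗ a := by
    refine Finsupp.lhom_ext fun q c => ?_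
    simp [u, j, ← map_smul, Finsupp.smul_single_one]
  refine ⟨u, e.ext fun q => ?_, fun x hx => ?_⟩
  · simp only [u, LinearMap.comp_apply, Module.Basis.constr_basis]
    split_ifs with h
    · have := LinearMap.congr_fun (hlift ▸ hy) (Finsupp.single (⟨q, h⟩ : s) 1)
      simpa [j] using this.symm
    · rfl
  · rw [← hjr x hx, ← LinearMap.comp_apply, huj, LinearMap.comp_apply]
    have : a (f (Finsupp.single ⟨x, hx⟩ 1)) = 0 := LinearMap.congr_fun haf _
    simp [f] at this
    rw [this, map_zero]

/-- tensors over the kernel die under a suitable endomorphism -/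
theorem exists_kill_tensors [Module.Flat A M] (e : Module.Basis I A P) (π : P →ₗ[A] M)
    (hπ : Function.Surjective π) (W : Finset (⨂[A] _ : Fin d, P))
    (hW : ∀ w ∈ W, PiTensorProduct.map (fun _ : Fin d => π) w = 0) :
    ∃ u : P →ₗ[A] P, π ∘ₗ u = π ∧ ∀ w ∈ W, PiTensorProduct.map (fun _ : Fin d => u) w = 0 := by
  classical
  have key : ∀ w ∈ slotKer d π, ∃ K : Finset P, (∀ x ∈ K, π x = 0) ∧ ∀ u : P →ₗ[A] P, (∀ x ∈ K, u x = 0) →
      PiTensorProduct.map (fun _ : Fin d => u) w = 0 := by
    intro w hw
    induction hw using Submodule.span_induction with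
    | mem x hx =>
      obtain ⟨g, i, hgi, rfl⟩ := hx
      refine ⟨{g i}, by simpa using hgi, fun u hu => ?_⟩
      rw [PiTensorProduct.map_tprod]
      exact (PiTensorProduct.tprod A).map_coord_zero i (hu _ (Finset.mem_singleton_self _))
    | zero => exact ⟨∅, by simp, fun u _ => map_zero _⟩
    | add x y _ _ hx hy =>
      obtain ⟨K, hK, hx⟩ := hx
      obtain ⟨L, hL, hy⟩ := hy
      refine ⟨K ∪ L, fun z hz => (Finset.mem_union.mp hz).elim (hK z) (hL z), fun u hu => ?_⟩
      rw [map_add, hx u fun z hz => hu z (Finset.mem_union_left _ hz),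
        hy u fun z hz => hu z (Finset.mem_union_right _ hz), add_zero]
    | smul a x _ hx =>
      obtain ⟨K, hK, hx⟩ := hx
      exact ⟨K, hK, fun u hu => by rw [map_smul, hx u hu, smul_zero]⟩
  choose K hK hKu using fun w : W => key w.1 (ker_map_le_slotKer π hπ (hW w.1 w.2))
  obtain ⟨u, hu, hu0⟩ := exists_kill e π hπ (Finset.univ.biUnion K) fun x hx => by
    obtain ⟨w, -, hx⟩ := Finset.mem_biUnion.mp hx
    exact hK w x hx
  exact ⟨u, hu, fun w hw => hKu ⟨w, hw⟩ u fun x hx => hu0 x (Finset.mem_biUnion.mpr ⟨⟨w, hw⟩, Finset.mem_univ _, hx⟩)⟩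

theorem map_map (π : P →ₗ[A] M) (u : P →ₗ[A] P) (x : ⨂[A] _ : Fin d, P) :
    PiTensorProduct.map (fun _ : Fin d => π) (PiTensorProduct.map (fun _ : Fin d => u) x) =
      PiTensorProduct.map (fun _ : Fin d => π ∘ₗ u) x := by
  rw [PiTensorProduct.map_comp]; rfl

theorem reindex_map (u : P →ₗ[A] M) (p : Equiv.Perm (Fin d)) (x : ⨂[A] _ : Fin d, P) :
    PiTensorProduct.reindex A (fun _ : Fin d => M) p (PiTensorProduct.map (fun _ : Fin d => u) x) =
      PiTensorProduct.map (fun _ : Fin d => u) (PiTensorProduct.reindex A (fun _ : Fin d => P) p x) := by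
  induction x using PiTensorProduct.induction_on with
  | smul_tprod r f => simp
  | add x y hx hy => simp [hx, hy]

theorem exists_factor {X Y Y' Z : Type u} [AddCommGroup X] [Module A X] [AddCommGroup Y] [Module A Y]
    [AddCommGroup Y'] [Module A Y'] [AddCommGroup Z] [Module A Z]
    (T : X →ₗ[A] Y) (W : Submodule A X) (i : Y' →ₗ[A] Y) (g : X →ₗ[A] Z)
    (hs : ∀ y : Y', ∃ w ∈ W, T w = i y) (h : ∀ w ∈ W, T w = 0 → g w = 0) :
    ∃ L : Y' →ₗ[A] Z, ∀ w ∈ W, ∀ y : Y', T w = i y → L y = g w := by
  choose w hw hwT using hs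
  have key : ∀ x ∈ W, ∀ y, T x = i y → g (w y) = g x := fun x hx y hxy => by
    rw [← sub_eq_zero, ← map_sub]
    exact h _ (sub_mem (hw y) hx) (by rw [map_sub, hwT, hxy, sub_self])
  exact ⟨{
    toFun := fun y => g (w y)
    map_add' := fun y y' => by
      rw [key (w y + w y') (add_mem (hw y) (hw y')) (y + y') (by rw [map_add, map_add, hwT, hwT]), map_add]
    map_smul' := fun a y => by
      rw [key (a • w y) (W.smul_mem a (hw y)) (a • y) (by rw [map_smul, map_smul, hwT]), map_smul]; rfl },
    fun x hx y hxy => key x hx y hxy⟩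

/- symmetric tensors of a flat algebra are the divided power algebra -/
set_option maxHeartbeats 2000000 in
theorem isGammaD_of_flat [Module.Flat A B] : IsGammaD (tsLaw A B d) := by
  classical
  let P := MvPolynomial B A
  let π : P →ₐ[A] B := aeval id
  have hπ : Function.Surjective π := fun b => ⟨(X b : MvPolynomial B A), aeval_X _ b⟩
  let e := MvPolynomial.basisMonomials B A
  have hlift : ∀ y ∈ SymTen.TS A B d, ∃ w ∈ orbSpan A d P,
      PiTensorProduct.map (fun _ : Fin d => π.toLinearMap) w = y := by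
    intro y hy
    obtain ⟨z, hz⟩ := map_surjective (d := d) π.toLinearMap hπ y
    obtain ⟨u, hu, hu0⟩ := exists_kill_tensors e π.toLinearMap hπ
      (Finset.univ.image fun p : Equiv.Perm (Fin d) => PiTensorProduct.reindex A (fun _ : Fin d => P) p z - z)
      (fun w hw => by
        obtain ⟨p, -, rfl⟩ := Finset.mem_image.mp hw
        rw [map_sub, ← reindex_map, hz, hy p, sub_self])
    refine ⟨PiTensorProduct.map (fun _ : Fin d => u) z, mem_orbSpan_of_basis e _ fun p => ?_, ?_⟩
    · rw [reindex_map, ← sub_eq_zero, ← map_sub]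
      exact hu0 _ (Finset.mem_image_of_mem _ (Finset.mem_univ p))
    · rw [map_map, hu, hz]
  refine isGammaD_of _ (coefSpan_tsLaw fun y hy => ?_) fun C' _ _ G => ?_
  · obtain ⟨w, hw, rfl⟩ := hlift y hy
    exact map_orbSpan _ hw
  · obtain ⟨g, hg⟩ := exists_lift_free e (MulLaw.precomp G π)
    have hg' : ∀ (n : ℕ) (b : Fin n → P) (k : Fin n →₀ ℕ),
        g (orb b k) = coef G.law (fun j => π (b j)) k := fun n b k => by
      rw [hg]; exact coef_precomp π.toLinearMap G.law b k
    let T0 : (⨂[A] _ : Fin d, P) →ₗ[A] ⨂[A] _ : Fin d, B := PiTensorProduct.map fun _ : Fin d => π.toLinearMap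
    have hker : ∀ w ∈ orbSpan A d P, T0 w = 0 → g w = 0 := by
      intro w hw hw0
      obtain ⟨u, hu, hu0⟩ := exists_kill_tensors e π.toLinearMap hπ {w}
        (by simpa using hw0)
      have key : ∀ x ∈ orbSpan A d P, g (PiTensorProduct.map (fun _ : Fin d => u) x) = g x := by
        intro x hx
        induction hx using Submodule.span_induction with
        | mem x hx =>
          obtain ⟨n, b, k, rfl⟩ := hx
          rw [map_orb, hg', hg']
          exact congrArg (coef G.law · k) (funext fun j => LinearMap.congr_fun hu (b j))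
        | zero => simp
        | add x y _ _ hx hy => simp [hx, hy]
        | smul a x _ hx => simp [hx]
      rw [← key _ hw, hu0 _ (Finset.mem_singleton_self _), map_zero]
    obtain ⟨L, hL⟩ := exists_factor T0 (orbSpan A d P) (SymTen.TS A B d).val.toLinearMap g
      (fun y => hlift y y.2) hker
    refine ⟨L, fun n b k => ?_⟩
    choose l hl using fun j => hπ (b j)
    rw [hL (orb l k) (orb_mem_orbSpan l k) _ (by
      show PiTensorProduct.map (fun _ : Fin d => π.toLinearMap) (orb l k) =
        ((coef (tsLaw A B d).law b k : SymTen.TS A B d) : ⨂[A] _ : Fin d, B)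
      rw [coe_coef_tsLaw, map_orb]
      exact congrArg (orb · k) (funext hl))]
    exact (hg' n l k).trans (congrArg (coef G.law · k) (funext hl))

end Flat

section Norm

variable {P Q : Type u} [CommRing P] [Algebra A P] [CommRing Q] [Algebra A Q]

theorem tmap_eq_map (f : B →ₐ[A] C) (x : ⨂[A] _ : Fin d, B) :
    SymTen.tmap A d f x = PiTensorProduct.map (fun _ : Fin d => f.toLinearMap) x := by
  induction x using PiTensorProduct.induction_on with
  | smul_tprod r g => simp
  | add x y hx hy => simp [hx, hy]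

theorem TSmap_coef (f : B →ₐ[A] C) {n : ℕ} (b : Fin n → B) (k : Fin n →₀ ℕ) :
    SymTen.TSmap A d f (coef (tsLaw A B d).law b k) = coef (tsLaw A C d).law (fun j => f (b j)) k := by
  refine Subtype.ext ?_
  show SymTen.tmap A d f ((coef (tsLaw A B d).law b k : SymTen.TS A B d) : ⨂[A] _ : Fin d, B) = _
  rw [coe_coef_tsLaw, coe_coef_tsLaw, tmap_eq_map, map_orb]
  rfl

theorem perm_mul_apply (σ τ : Equiv.Perm (Fin d)) (x : ⨂[A] _ : Fin d, B) :
    SymTen.perm A B d σ (SymTen.perm A B d τ x) = SymTen.perm A B d (σ * τ) x := by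
  induction x using PiTensorProduct.induction_on with
  | smul_tprod r g =>
    simp only [map_smul, SymTen.perm_tprod]
    rfl
  | add x y hx hy => simp [hx, hy]

theorem map_map_apply {B' C' : Type u} [CommRing B'] [Algebra A B'] [CommRing C'] [Algebra A C']
    (S : Type u) [CommSemiring S] [Algebra A S] (f : B →ₐ[A] B') (g : B' →ₐ[A] C') (x : S ⊗[A] B) :
    Algebra.TensorProduct.map (AlgHom.id S S) g (Algebra.TensorProduct.map (AlgHom.id S S) f x) =
      Algebra.TensorProduct.map (AlgHom.id S S) (g.comp f) x := by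
  induction x using TensorProduct.induction_on with
  | zero => simp
  | tmul s b => simp
  | add x y hx hy => simp only [map_add, hx, hy]

theorem exists_symTS : ∃ N : MulLaw A (⨂[A] _ : Fin d, B) (SymTen.TS A B d) d.factorial,
    MulLaw.postcomp (SymTen.TS A B d).val N = SymTen.symmLaw A B d := by
  refine exists_corestrict _ Subtype.val_injective _ fun n b k => ?_
  refine ⟨⟨coef (SymTen.symmLaw A B d).law b k, fun e => ?_⟩, rfl⟩
  rw [← SymTen.perm_apply]
  show (SymTen.perm A B d e).toLinearMap _ = _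
  rw [coef, ← cf_lTensor, lTensor_algHom_apply]
  congr 1
  show Algebra.TensorProduct.map _ _ ((PolLaw.MulLaw.prodMap _ _ _).law.toFun' _ _) =
    (PolLaw.MulLaw.prodMap _ _ _).law.toFun' _ _
  simp only [MulLaw.prodMap_toFun', map_prod]
  refine Fintype.prod_equiv (Equiv.mulLeft e) _ _ fun σ => ?_
  rw [map_map_apply]
  congr 2
  exact AlgHom.ext fun x => perm_mul_apply e σ x

variable (A B d) in
/-- the symmetrisation law with values in symmetric tensors -/
noncomputable def symTS : MulLaw A (⨂[A] _ : Fin d, B) (SymTen.TS A B d) d.factorial :=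
  exists_symTS.choose

theorem val_symTS (S : Type u) [CommSemiring S] [Algebra A S] (x : S ⊗[A] (⨂[A] _ : Fin d, B)) :
    Algebra.TensorProduct.map (AlgHom.id S S) (SymTen.TS A B d).val ((symTS A B d).law.toFun' S x) =
      ∏ σ : Equiv.Perm (Fin d), Algebra.TensorProduct.map (AlgHom.id S S) (SymTen.perm A B d σ) x := by
  rw [← lTensor_algHom_apply]
  exact congrArg (fun N : MulLaw A (⨂[A] _ : Fin d, B) (⨂[A] _ : Fin d, B) d.factorial => N.law.toFun' S x)
    exists_symTS.choose_spec

/-- naturality of the symmetrisation law -/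
theorem symTS_natural (f : B →ₐ[A] C) :
    MulLaw.postcomp (SymTen.TSmap A d f) (symTS A B d) = MulLaw.precomp (symTS A C d) (SymTen.tmap A d f) := by
  refine MulLaw.ext (ext_of_injective (SymTen.TS A C d).val Subtype.val_injective ?_)
  refine ext_poly fun n x => ?_
  show (SymTen.TS A C d).val.toLinearMap.lTensor _
      ((SymTen.TSmap A d f).toLinearMap.lTensor _ ((symTS A B d).law.toFun' _ x)) =
    (SymTen.TS A C d).val.toLinearMap.lTensor _ ((symTS A C d).law.toFun' _ ((SymTen.tmap A d f).toLinearMap.lTensor _ x))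
  simp only [lTensor_algHom_apply, val_symTS, map_map_apply]
  rw [show (SymTen.TS A C d).val.comp (SymTen.TSmap A d f) = (SymTen.tmap A d f).comp (SymTen.TS A B d).val from rfl,
    ← map_map_apply, val_symTS, map_prod]
  simp only [map_map_apply]
  refine Finset.prod_congr rfl fun σ _ => ?_
  congr 2
  exact AlgHom.ext fun y => by
    simp [SymTen.perm_apply, SymTen.tmap_reindex]

theorem exists_fMap {I : Type u} (e : Module.Basis I A P) (G : MulLaw A P C d) :
    ∃ f : SymTen.TS A P d →ₐ[A] C, ∀ (n : ℕ) (b : Fin n → P) (k : Fin n →₀ ℕ),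
      f (coef (tsLaw A P d).law b k) = coef G.law b k := by
  obtain ⟨f, hf, -⟩ := isGammaD_of_basis e C G
  refine ⟨f, fun n b k => ?_⟩
  show f.toLinearMap _ = _
  rw [← coef_postcomp, hf]

/-- the map out of the symmetric tensors of a polynomial algebra induced by a law -/
noncomputable def fMap {ι : Type u} (G : MulLaw A (MvPolynomial ι A) C d) :
    SymTen.TS A (MvPolynomial ι A) d →ₐ[A] C :=
  (exists_fMap (MvPolynomial.basisMonomials ι A) G).choose

theorem fMap_coef {ι : Type u} (G : MulLaw A (MvPolynomial ι A) C d) {n : ℕ} (b : Fin n → MvPolynomial ι A)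
    (k : Fin n →₀ ℕ) : fMap G (coef (tsLaw A (MvPolynomial ι A) d).law b k) = coef G.law b k :=
  (exists_fMap (MvPolynomial.basisMonomials ι A) G).choose_spec n b k

theorem coefSpan_tsLaw_poly (ι : Type u) : coefSpan (tsLaw A (MvPolynomial ι A) d) = ⊤ :=
  coefSpan_tsLaw fun y hy => mem_orbSpan_of_basis (MvPolynomial.basisMonomials ι A) y hy

theorem algHom_ext_coef (γ : MulLaw A B C d) (hγ : coefSpan γ = ⊤) {D : Type u} [CommRing D] [Algebra A D]
    {f g : C →ₐ[A] D} (h : ∀ (n : ℕ) (b : Fin n → B) (k : Fin n →₀ ℕ), f (coef γ.law b k) = g (coef γ.law b k)) :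
    f = g := by
  refine algHom_ext_of_span γ hγ (ext_coef fun n b k => ?_)
  rw [coef_postcomp, coef_postcomp]
  exact h n b k

theorem fMap_natural {ι κ : Type u} (γ : MulLaw A B C d) (ρ : MvPolynomial ι A →ₐ[A] B)
    (ω : MvPolynomial κ A →ₐ[A] MvPolynomial ι A) :
    (fMap (MulLaw.precomp γ ρ)).comp (SymTen.TSmap A d ω) = fMap (MulLaw.precomp γ (ρ.comp ω)) := by
  refine algHom_ext_coef (tsLaw A (MvPolynomial κ A) d) (coefSpan_tsLaw_poly κ) fun n b k => ?_
  rw [AlgHom.comp_apply, TSmap_coef, fMap_coef, fMap_coef]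
  exact (coef_precomp ρ.toLinearMap γ.law _ k).trans (coef_precomp (ρ.comp ω).toLinearMap γ.law b k).symm

/-- the law `z ↦ f (∏ σ z)` on the tensor power of a polynomial algebra over `B` -/
noncomputable def polyNorm {ι : Type u} (γ : MulLaw A B C d) (ρ : MvPolynomial ι A →ₐ[A] B) :
    MulLaw A (⨂[A] _ : Fin d, MvPolynomial ι A) C d.factorial :=
  MulLaw.postcomp (fMap (MulLaw.precomp γ ρ)) (symTS A (MvPolynomial ι A) d)

theorem polyNorm_natural {ι κ : Type u} (γ : MulLaw A B C d) (ρ : MvPolynomial ι A →ₐ[A] B)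
    (ω : MvPolynomial κ A →ₐ[A] MvPolynomial ι A) :
    MulLaw.precomp (polyNorm γ ρ) (SymTen.tmap A d ω) = polyNorm γ (ρ.comp ω) := by
  rw [polyNorm, polyNorm, ← fMap_natural γ ρ ω]
  apply MulLaw.ext
  have h := congrArg (MulLaw.postcomp (fMap (MulLaw.precomp γ ρ))) (symTS_natural (d := d) ω)
  refine (congrArg MulLaw.law h).symm.trans ?_
  exact ext_poly fun n x => by
    show (fMap (MulLaw.precomp γ ρ)).toLinearMap.lTensor _ ((SymTen.TSmap A d ω).toLinearMap.lTensor _ _) =
      ((fMap (MulLaw.precomp γ ρ)).comp (SymTen.TSmap A d ω)).toLinearMap.lTensor _ _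
    rw [AlgHom.comp_toLinearMap, LinearMap.lTensor_comp, LinearMap.comp_apply]

theorem exists_ker_lTensor {X Y : Type u} [AddCommGroup X] [Module A X] [AddCommGroup Y] [Module A Y]
    (T : X →ₗ[A] Y) (hT : Function.Surjective T) (S : Type u) [AddCommGroup S] [Module A S] (x : S ⊗[A] X)
    (hx : T.lTensor S x = 0) : ∃ w, (LinearMap.ker T).subtype.lTensor S w = x :=
  (lTensor_exact S (LinearMap.exact_subtype_ker_map T) hT x).mp hx

theorem polyNorm_eq_of_eq (γ : MulLaw A B C d) (S : Type u) [CommRing S] [Algebra A S]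
    (x y : S ⊗[A] (⨂[A] _ : Fin d, MvPolynomial B A))
    (h : (SymTen.tmap A d (aeval (R := A) (id : B → B))).toLinearMap.lTensor S x =
      (SymTen.tmap A d (aeval (R := A) (id : B → B))).toLinearMap.lTensor S y) :
    (polyNorm γ (aeval (R := A) (id : B → B))).law.toFun' S x =
      (polyNorm γ (aeval (R := A) (id : B → B))).law.toFun' S y := by
  classical
  let π : MvPolynomial B A →ₐ[A] B := aeval id
  have hπ : Function.Surjective π := fun b => ⟨(X b : MvPolynomial B A), aeval_X _ b⟩
  let N := polyNorm γ π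
  let T0 : (⨂[A] _ : Fin d, MvPolynomial B A) →ₗ[A] ⨂[A] _ : Fin d, B :=
    PiTensorProduct.map fun _ : Fin d => π.toLinearMap
  have hT0 : (SymTen.tmap A d π).toLinearMap = T0 := LinearMap.ext fun z => tmap_eq_map π z
  have hsurj : Function.Surjective T0 := map_surjective π.toLinearMap hπ
  have single : ∀ (a : S) (g : Fin d → MvPolynomial B A) (i : Fin d), π (g i) = 0 →
      ∀ z, N.law.toFun' S (z + a ⊗ₜ[A] PiTensorProduct.tprod A g) = N.law.toFun' S z := by
    intro a g i hgi z
    let ι' : MvPolynomial B A →ₐ[A] MvPolynomial (Option B) A := rename some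
    let ω : MvPolynomial B A → (MvPolynomial (Option B) A →ₐ[A] MvPolynomial B A) :=
      fun t => aeval fun o => o.elim t X
    have hω : ∀ t p, ω t (ι' p) = p := fun t p => by
      rw [← AlgHom.comp_apply, show (ω t).comp ι' = AlgHom.id A _ from algHom_ext fun b => by simp [ω, ι']]
      rfl
    have hωT : ∀ t z, (SymTen.tmap A d (ω t)).toLinearMap.lTensor S ((SymTen.tmap A d ι').toLinearMap.lTensor S z) = z := by
      intro t z
      rw [← LinearMap.comp_apply, ← LinearMap.lTensor_comp,
        show (SymTen.tmap A d (ω t)).toLinearMap ∘ₗ (SymTen.tmap A d ι').toLinearMap = LinearMap.id from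
          PiTensorProduct.ext (MultilinearMap.ext fun q => by simp [hω]), LinearMap.lTensor_id]
      rfl
    let g' : Fin d → MvPolynomial (Option B) A := Function.update (fun j => ι' (g j)) i (X none)
    let z' := (SymTen.tmap A d ι').toLinearMap.lTensor S z + a ⊗ₜ[A] PiTensorProduct.tprod A g'
    have himg : ∀ t, (SymTen.tmap A d (ω t)).toLinearMap.lTensor S z' =
        z + a ⊗ₜ[A] PiTensorProduct.tprod A (Function.update g i t) := by
      intro t
      simp only [z', map_add, hωT, LinearMap.lTensor_tmul, AlgHom.toLinearMap_apply, SymTen.tmap_tprod]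
      congr 3
      funext j
      by_cases hj : j = i
      · subst hj; simp [g', ω]
      · simp [g', hj, hω]
    have hN : ∀ t, N.law.toFun' S ((SymTen.tmap A d (ω t)).toLinearMap.lTensor S z') =
        (polyNorm γ (π.comp (ω t))).law.toFun' S z' := fun t => by
      rw [← polyNorm_natural γ π (ω t)]; rfl
    have hcomp : π.comp (ω (g i)) = π.comp (ω 0) := algHom_ext fun o => by
      cases o with
      | none => simpa [ω] using hgi
      | some b => simp [ω]
    have h1 : N.law.toFun' S ((SymTen.tmap A d (ω (g i))).toLinearMap.lTensor S z') =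
        N.law.toFun' S ((SymTen.tmap A d (ω 0)).toLinearMap.lTensor S z') := by
      rw [hN, hN, hcomp]
    rw [himg, himg, Function.update_eq_self, (PiTensorProduct.tprod A).map_update_zero g i,
      TensorProduct.tmul_zero, add_zero] at h1
    exact h1
  have all : ∀ w : S ⊗[A] LinearMap.ker T0, ∀ z,
      N.law.toFun' S (z + (LinearMap.ker T0).subtype.lTensor S w) = N.law.toFun' S z := by
    intro w
    induction w using TensorProduct.induction_on with
    | zero => simp
    | add w w' hw hw' => intro z; rw [map_add, ← add_assoc, hw', hw]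
    | tmul a v =>
      rw [LinearMap.lTensor_tmul, Submodule.subtype_apply]
      obtain ⟨v, hv⟩ := v
      have hv' : v ∈ slotKer d π.toLinearMap := ker_map_le_slotKer π.toLinearMap hπ hv
      show ∀ z, N.law.toFun' S (z + a ⊗ₜ[A] v) = N.law.toFun' S z
      clear hv
      suffices ∀ a : S, ∀ z, N.law.toFun' S (z + a ⊗ₜ[A] v) = N.law.toFun' S z from this a
      induction hv' using Submodule.span_induction with
      | mem v hv =>
        obtain ⟨g, i, hgi, rfl⟩ := hv
        exact fun a => single a g i hgi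
      | zero => simp
      | add v v' _ _ hv hv' => intro a z; rw [TensorProduct.tmul_add, ← add_assoc, hv', hv]
      | smul r v _ hv => intro a z; rw [TensorProduct.tmul_smul, TensorProduct.smul_tmul', hv]
  have hdiff : T0.lTensor S (x - y) = 0 := by
    rw [map_sub, sub_eq_zero, ← hT0]
    exact h
  obtain ⟨w, hw⟩ := exists_ker_lTensor T0 hsurj S _ hdiff
  have := all w y
  rw [hw, add_sub_cancel] at this
  exact this

theorem tmap_surjective (f : B →ₐ[A] C) (hf : Function.Surjective f) :
    Function.Surjective (SymTen.tmap A d f) := fun y => by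
  obtain ⟨x, hx⟩ := map_surjective (d := d) f.toLinearMap hf y
  exact ⟨x, (tmap_eq_map f x).trans hx⟩

theorem exists_normLaw (γ : MulLaw A B C d) :
    ∃ F : MulLaw A (⨂[A] _ : Fin d, B) C d.factorial,
      MulLaw.precomp F (SymTen.tmap A d (aeval (R := A) (id : B → B))) =
        polyNorm γ (aeval (R := A) (id : B → B)) :=
  exists_descend _ (tmap_surjective _ fun b => ⟨(X b : MvPolynomial B A), aeval_X _ b⟩) _
    fun n x y h => polyNorm_eq_of_eq γ _ x y h

theorem precomp_cancel {B' : Type u} [CommRing B'] [Algebra A B'] {m : ℕ} (f : B' →ₐ[A] B)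
    (hf : Function.Surjective f) {F G : MulLaw A B C m} (h : MulLaw.precomp F f = MulLaw.precomp G f) :
    F = G := by
  refine MulLaw.ext (ext_poly fun n x => ?_)
  obtain ⟨y, rfl⟩ := LinearMap.lTensor_surjective _ (g := f.toLinearMap) hf x
  exact congrArg (fun L : MulLaw A B' C m => L.law.toFun' _ y) h

/-- the norm law out of the tensor power -/
noncomputable def sigmaLaw (γ : MulLaw A B C d) : MulLaw A (⨂[A] _ : Fin d, B) C d.factorial :=
  (exists_normLaw γ).choose

theorem sigmaLaw_spec (γ : MulLaw A B C d) :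
    MulLaw.precomp (sigmaLaw γ) (SymTen.tmap A d (aeval (R := A) (id : B → B))) =
      polyNorm γ (aeval (R := A) (id : B → B)) :=
  (exists_normLaw γ).choose_spec

variable (γ : MulLaw A B C d) (φ : C →ₐ[A] SymTen.TS A B d)

theorem phi_fMap (h : PolLaw.postcomp φ.toLinearMap γ.law = (tsLaw A B d).law) :
    φ.comp (fMap (MulLaw.precomp γ (aeval (R := A) (id : B → B)))) =
      SymTen.TSmap A d (aeval (R := A) (id : B → B)) := by
  refine algHom_ext_coef (tsLaw A (MvPolynomial B A) d) (coefSpan_tsLaw_poly B) fun n b k => ?_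
  rw [AlgHom.comp_apply, fMap_coef, TSmap_coef]
  show φ.toLinearMap (coef (MulLaw.precomp γ (aeval (R := A) (id : B → B))).law b k) = _
  rw [show coef (MulLaw.precomp γ (aeval (R := A) (id : B → B))).law b k =
    coef γ.law (fun j => aeval (R := A) (id : B → B) (b j)) k from coef_precomp _ γ.law b k, ← coef_postcomp, h]

theorem fMap_surjective (hγ : coefSpan γ = ⊤) :
    Function.Surjective (fMap (MulLaw.precomp γ (aeval (R := A) (id : B → B)))) := by
  intro c
  have : (⊤ : Submodule A C) ≤ LinearMap.range (fMap (MulLaw.precomp γ (aeval (R := A) (id : B → B)))).toLinearMap := by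
    rw [← hγ]
    refine Submodule.span_le.mpr ?_
    rintro _ ⟨n, b, k, rfl⟩
    refine ⟨coef (tsLaw A (MvPolynomial B A) d).law (fun j => (X (b j) : MvPolynomial B A)) k, ?_⟩
    rw [AlgHom.toLinearMap_apply, fMap_coef]
    refine Eq.trans (coef_precomp (σ := Fin n) (aeval (R := A) (id : B → B)).toLinearMap γ.law
      (fun j => (X (b j) : MvPolynomial B A)) k) ?_
    congr 1
    funext j
    exact aeval_X _ _
  exact this Submodule.mem_top

/-- the composite with the comparison map is the symmetrisation -/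
theorem phi_normLaw (h : PolLaw.postcomp φ.toLinearMap γ.law = (tsLaw A B d).law) :
    MulLaw.postcomp φ (sigmaLaw γ) = symTS A B d := by
  refine precomp_cancel (SymTen.tmap A d (aeval (R := A) (id : B → B)))
    (tmap_surjective _ fun b => ⟨(X b : MvPolynomial B A), aeval_X _ b⟩) ?_
  rw [← symTS_natural, ← phi_fMap γ φ h]
  refine (show _ = MulLaw.postcomp φ (polyNorm γ (aeval (R := A) (id : B → B))) by
    rw [← sigmaLaw_spec γ]; rfl).trans ?_
  refine MulLaw.ext (ext_poly fun n x => ?_)
  show φ.toLinearMap.lTensor _ ((fMap _).toLinearMap.lTensor _ _) = (φ.comp (fMap _)).toLinearMap.lTensor _ _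
  rw [AlgHom.comp_toLinearMap, LinearMap.lTensor_comp, LinearMap.comp_apply]

theorem symTS_val (S : Type u) [CommSemiring S] [Algebra A S] (x : S ⊗[A] SymTen.TS A B d) :
    Algebra.TensorProduct.map (AlgHom.id S S) (SymTen.TS A B d).val
        ((symTS A B d).law.toFun' S ((SymTen.TS A B d).val.toLinearMap.lTensor S x)) =
      Algebra.TensorProduct.map (AlgHom.id S S) (SymTen.TS A B d).val (x ^ d.factorial) := by
  rw [val_symTS, lTensor_algHom_apply, map_pow]
  simp only [map_map_apply]
  have : ∀ σ : Equiv.Perm (Fin d), (SymTen.perm A B d σ).comp (SymTen.TS A B d).val = (SymTen.TS A B d).val :=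
    fun σ => AlgHom.ext fun y => by simpa [SymTen.perm_apply] using y.2 σ
  simp only [this, Finset.prod_const, Finset.card_univ, Fintype.card_perm, Fintype.card_fin]

theorem symTS_comp_val :
    MulLaw.precomp (symTS A B d) (SymTen.TS A B d).val = MulLaw.pow A (SymTen.TS A B d) d.factorial := by
  refine MulLaw.ext (ext_of_injective (SymTen.TS A B d).val Subtype.val_injective (ext_poly fun n x => ?_))
  show (SymTen.TS A B d).val.toLinearMap.lTensor _ ((symTS A B d).law.toFun' _ _) =
    (SymTen.TS A B d).val.toLinearMap.lTensor _ (x ^ d.factorial)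
  rw [lTensor_algHom_apply, lTensor_algHom_apply]
  exact symTS_val _ x

/-- both composites are the `d!`-th power -/
theorem norm_pow (hγ : coefSpan γ = ⊤) (h : PolLaw.postcomp φ.toLinearMap γ.law = (tsLaw A B d).law) :
    MulLaw.postcomp φ (MulLaw.precomp (sigmaLaw γ) (SymTen.TS A B d).val) =
        MulLaw.pow A (SymTen.TS A B d) d.factorial ∧
      MulLaw.precomp (MulLaw.precomp (sigmaLaw γ) (SymTen.TS A B d).val) φ =
        MulLaw.pow A C d.factorial := by
  constructor
  · rw [← symTS_comp_val, ← phi_normLaw γ φ h]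
    rfl
  · refine MulLaw.ext (ext_poly fun n x => ?_)
    let π : MvPolynomial B A →ₐ[A] B := aeval id
    let f := fMap (MulLaw.precomp γ π)
    obtain ⟨y, rfl⟩ := LinearMap.lTensor_surjective _ (g := f.toLinearMap) (fMap_surjective γ hγ) x
    show (sigmaLaw γ).law.toFun' _ ((SymTen.TS A B d).val.toLinearMap.lTensor _
      (φ.toLinearMap.lTensor _ (f.toLinearMap.lTensor _ y))) = (f.toLinearMap.lTensor _ y) ^ d.factorial
    have e1 : (SymTen.TS A B d).val.toLinearMap.lTensor (MvPolynomial (Fin n) A)
        (φ.toLinearMap.lTensor _ (f.toLinearMap.lTensor _ y)) =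
        (SymTen.tmap A d π).toLinearMap.lTensor _
          ((SymTen.TS A (MvPolynomial B A) d).val.toLinearMap.lTensor _ y) := by
      simp only [lTensor_algHom_apply, map_map_apply]
      rw [phi_fMap γ φ h]
      rfl
    rw [e1]
    refine (show _ = (polyNorm γ π).law.toFun' _ ((SymTen.TS A (MvPolynomial B A) d).val.toLinearMap.lTensor _ y) by
      rw [← sigmaLaw_spec γ]; rfl).trans ?_
    show f.toLinearMap.lTensor _ ((symTS A (MvPolynomial B A) d).law.toFun' _ _) = _
    rw [show (symTS A (MvPolynomial B A) d).law.toFun' _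
        ((SymTen.TS A (MvPolynomial B A) d).val.toLinearMap.lTensor _ y) = y ^ d.factorial from
      congrArg (fun L : MulLaw A (SymTen.TS A (MvPolynomial B A) d) (SymTen.TS A (MvPolynomial B A) d) d.factorial =>
        L.law.toFun' _ y) (symTS_comp_val (A := A) (B := MvPolynomial B A) (d := d))]
    rw [lTensor_algHom_apply, map_pow, ← lTensor_algHom_apply]

end Norm

end Groth.Agent.H7Gamma
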