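import Mathlib
import Groth.Prelude.Def_PolLaw2
import Groth.Prelude.Def_SymTen
import Groth.Agent.Lib.H7PolLaw
import Groth.Agent.Lib.H7SymTen
import Groth.Agent.Lib.H7Gamma
import Groth.Agent.Lib.H7GammaThm

set_option linter.all false
set_option autoImplicit false

/-! Symmetric tensors are integral under the tensor power; kernels of multiplicative laws. -/

namespace Groth.Agent.H7Gamma

open scoped TensorProduct
open MvPolynomial Groth.Agent.H7PolLaw Groth.Agent.H7SymTen PolLaw

universe u

variable {A : Type u} [CommRing A] {B C : Type u} [CommRing B] [Algebra A B] [CommRing C] [Algebra A C] {d : ℕ}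

section Integral

/-- a product over all permutations of translates is symmetric -/
theorem coeff_prod_mem_TS {ι : Type*} [Fintype ι] (g : ι → ⨂[A] _ : Fin d, B)
    (hg : ∀ σ : Equiv.Perm (Fin d), ∃ e : ι ≃ ι, ∀ j, SymTen.perm A B d σ (g j) = g (e j)) (l : ℕ) :
    (∏ j, (Polynomial.X - Polynomial.C (g j))).coeff l ∈ SymTen.TS A B d := by
  intro σ
  obtain ⟨e, he⟩ := hg σ
  rw [← SymTen.perm_apply]
  show (SymTen.perm A B d σ).toRingHom _ = _
  rw [← Polynomial.coeff_map, Polynomial.map_prod]
  congr 1
  refine Fintype.prod_equiv e _ _ fun j => ?_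
  rw [Polynomial.map_sub, Polynomial.map_X, Polynomial.map_C]
  exact congrArg (fun t => Polynomial.X - Polynomial.C t) (he j)

theorem isIntegral_over_TS : Algebra.IsIntegral (SymTen.TS A B d) (⨂[A] _ : Fin d, B) := by
  refine ⟨fun z => ?_⟩
  rcases subsingleton_or_nontrivial (⨂[A] _ : Fin d, B) with hs | hs
  · exact ⟨1, Polynomial.monic_one, Subsingleton.elim _ _⟩
  let g : Equiv.Perm (Fin d) → ⨂[A] _ : Fin d, B := fun e => SymTen.perm A B d e z
  let P := ∏ e, (Polynomial.X - Polynomial.C (g e))
  have hlift : P ∈ Polynomial.lifts (algebraMap (SymTen.TS A B d) (⨂[A] _ : Fin d, B)) := by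
    rw [Polynomial.lifts_iff_coeff_lifts]
    intro l
    exact ⟨⟨_, coeff_prod_mem_TS g (fun σ => ⟨Equiv.mulLeft σ, fun j => perm_mul_apply σ j z⟩) l⟩, rfl⟩
  have hmonic : P.Monic := Polynomial.monic_prod_of_monic _ _ fun e _ => Polynomial.monic_X_sub_C _
  obtain ⟨Q, hQ, -, hQm⟩ := Polynomial.lifts_and_degree_eq_and_monic hlift hmonic
  refine ⟨Q, hQm, ?_⟩
  rw [← Polynomial.eval_map, hQ, Polynomial.eval_prod]
  refine Finset.prod_eq_zero (Finset.mem_univ 1) ?_
  have h1 : g 1 = z := by
    show SymTen.perm A B d 1 z = z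
    rw [SymTen.perm_apply, Equiv.Perm.one_def, PiTensorProduct.reindex_refl]
    rfl
  simp [h1]

theorem exists_extension_of_integral {R T K : Type u} [CommRing R] [Algebra A R] [CommRing T] [Algebra A T]
    [Field K] [IsAlgClosed K] [Algebra A K] (i : R →ₐ[A] T) (hi : Function.Injective i)
    (hint : i.toRingHom.IsIntegral) (h : R →ₐ[A] K) : ∃ χ : T →ₐ[A] K, χ.comp i = h := by
  letI : Algebra R T := i.toRingHom.toAlgebra
  haveI : Algebra.IsIntegral R T := ⟨hint⟩
  have hker : RingHom.ker (algebraMap R T) ≤ RingHom.ker h.toRingHom := by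
    intro y hy
    have : y = 0 := hi ((RingHom.mem_ker.mp hy).trans (map_zero i).symm)
    subst this
    simp
  haveI : (RingHom.ker h.toRingHom).IsPrime := RingHom.ker_isPrime _
  obtain ⟨Q, -, hQ, hQc⟩ := Ideal.exists_ideal_over_prime_of_isIntegral (RingHom.ker h.toRingHom)
    (⊥ : Ideal T) hker
  let R' := R ⧸ RingHom.ker h.toRingHom
  letI : Algebra R' (T ⧸ Q) := (Ideal.quotientMap Q (algebraMap R T) (by rw [hQc])).toAlgebra
  haveI : IsScalarTower R R' (T ⧸ Q) := IsScalarTower.of_algebraMap_eq fun y => rfl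
  haveI : Algebra.IsIntegral R' (T ⧸ Q) := Algebra.IsIntegral.tower_top (R := R)
  have hinj : Function.Injective (algebraMap R' (T ⧸ Q)) :=
    Ideal.quotientMap_injective' (by rw [hQc])
  letI : Algebra R' K := (Ideal.Quotient.lift (RingHom.ker h.toRingHom) h.toRingHom fun _ hy => hy).toAlgebra
  haveI : FaithfulSMul R' (T ⧸ Q) := (faithfulSMul_iff_algebraMap_injective R' (T ⧸ Q)).mpr hinj
  haveI : Module.IsTorsionFree R' K := Module.IsTorsionFree.of_smul_eq_zero fun r x hrx => by
    have hinj' : Function.Injective (algebraMap R' K) :=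
      RingHom.kerLift_injective h.toRingHom
    rcases mul_eq_zero.mp ((Algebra.smul_def r x).symm.trans hrx) with hr | hx
    · exact Or.inl ((map_eq_zero_iff _ hinj').mp hr)
    · exact Or.inr hx
  haveI : Module.IsTorsionFree R' (T ⧸ Q) := Module.IsTorsionFree.of_smul_eq_zero fun r x hrx => by
    rcases mul_eq_zero.mp ((Algebra.smul_def r x).symm.trans hrx) with hr | hx
    · exact Or.inl ((map_eq_zero_iff _ hinj).mp hr)
    · exact Or.inr hx
  obtain ⟨g⟩ : Nonempty ((T ⧸ Q) →ₐ[R'] K) := ⟨IsAlgClosed.lift⟩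
  have hg : ∀ y : R, g (Ideal.Quotient.mk Q (i y)) = h y := fun y =>
    g.commutes (Ideal.Quotient.mk (RingHom.ker h.toRingHom) y)
  refine ⟨{ toRingHom := g.toRingHom.comp (Ideal.Quotient.mk Q), commutes' := fun a => ?_ }, AlgHom.ext hg⟩
  show g (Ideal.Quotient.mk Q (algebraMap A T a)) = algebraMap A K a
  rw [← i.commutes, hg, h.commutes]

theorem val_isIntegral : (SymTen.TS A B d).val.toRingHom.IsIntegral :=
  (isIntegral_over_TS (A := A) (B := B) (d := d)).isIntegral

/-- points of the symmetric tensors with values in an algebraically closed field extend -/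
theorem exists_extension {K : Type u} [Field K] [IsAlgClosed K] [Algebra A K] (h : SymTen.TS A B d →ₐ[A] K) :
    ∃ χ : (⨂[A] _ : Fin d, B) →ₐ[A] K, χ.comp (SymTen.TS A B d).val = h :=
  exists_extension_of_integral _ Subtype.val_injective val_isIntegral h

end Integral

section Image

variable (F : MulLaw A B C d)

/-- the polynomial cover of `B` -/
noncomputable abbrev cover (A : Type u) [CommRing A] (B : Type u) [CommRing B] [Algebra A B] :
    MvPolynomial B A →ₐ[A] B := aeval (R := A) (id : B → B)

/-- the map on symmetric tensors of the cover induced by a law -/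
noncomputable abbrev lawMap : SymTen.TS A (MvPolynomial B A) d →ₐ[A] C := fMap (MulLaw.precomp F (cover A B))

theorem toFun'_cover (S : Type u) [CommSemiring S] [Algebra A S] (y : S ⊗[A] MvPolynomial B A) :
    F.law.toFun' S ((cover A B).toLinearMap.lTensor S y) =
      Algebra.TensorProduct.map (AlgHom.id S S) (lawMap F) ((tsLaw A (MvPolynomial B A) d).law.toFun' S y) := by
  have h : PolLaw.postcomp (lawMap F).toLinearMap (tsLaw A (MvPolynomial B A) d).law =
      (MulLaw.precomp F (cover A B)).law :=
    ext_coef fun n b k => by rw [coef_postcomp]; exact fMap_coef _ b k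
  rw [← lTensor_algHom_apply]
  exact (congrArg (fun L => L.toFun' S y) h).symm

theorem val_tsLaw (S : Type u) [CommSemiring S] [Algebra A S] (y : S ⊗[A] B) :
    Algebra.TensorProduct.map (AlgHom.id S S) (SymTen.TS A B d).val ((tsLaw A B d).law.toFun' S y) =
      ∏ i : Fin d, Algebra.TensorProduct.map (AlgHom.id S S)
        (PiTensorProduct.singleAlgHom (A := fun _ : Fin d => B) i) y := by
  rw [← lTensor_algHom_apply]
  exact congrArg (fun L : MulLaw A B (⨂[A] _ : Fin d, B) d => L.law.toFun' S y) (tsLaw_spec (A := A) (B := B) (d := d))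

/-- membership in the kernel may be tested on polynomial rings and on lifts -/
theorem mem_ker_of_poly (b : B)
    (h : ∀ (n : ℕ) (x w : MvPolynomial (Fin n) A ⊗[A] MvPolynomial B A) (p : MvPolynomial B A), cover A B p = b →
      F.law.toFun' _ ((cover A B).toLinearMap.lTensor _ x + (cover A B).toLinearMap.lTensor _ w * (1 ⊗ₜ[A] b)) =
        F.law.toFun' _ ((cover A B).toLinearMap.lTensor _ x)) :
    b ∈ PolLaw.ker F.law := by
  intro S _ _ x w
  obtain ⟨n, φ, p, q, c, rfl, rfl, -⟩ := exists_lift₃ x w 0
  have hπ : Function.Surjective (cover A B) := fun b => ⟨(X b : MvPolynomial B A), aeval_X _ b⟩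
  obtain ⟨pb, hpb⟩ := hπ b
  obtain ⟨p', rfl⟩ := LinearMap.lTensor_surjective _ (g := (cover A B).toLinearMap) hπ p
  obtain ⟨q', rfl⟩ := LinearMap.lTensor_surjective _ (g := (cover A B).toLinearMap) hπ q
  have e : φ.toLinearMap.rTensor B ((cover A B).toLinearMap.lTensor _ p') +
      φ.toLinearMap.rTensor B ((cover A B).toLinearMap.lTensor _ q') * (1 ⊗ₜ[A] b) =
      φ.toLinearMap.rTensor B ((cover A B).toLinearMap.lTensor _ p' +
        (cover A B).toLinearMap.lTensor _ q' * (1 ⊗ₜ[A] b)) := by
    simp only [rTensor_algHom_apply, map_add, map_mul, Algebra.TensorProduct.map_tmul, map_one, AlgHom.id_apply]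
  rw [e, ← PolynomialLaw.isCompat_apply', h n p' q' pb hpb, PolynomialLaw.isCompat_apply']

theorem isReduced_poly_tensor [IsReduced C] (n : ℕ) : IsReduced (MvPolynomial (Fin n) A ⊗[A] C) :=
  let e := (Algebra.TensorProduct.comm A (MvPolynomial (Fin n) A) C).trans
    ((MvPolynomial.algebraTensorAlgEquiv A C).restrictScalars A)
  isReduced_of_injective e.toRingEquiv.toRingHom e.injective

/-- a law read at a point with values in an algebraically closed field is a product of characters -/
theorem point_eq_prod {K : Type u} [Field K] [Algebra A K] (g : C →ₐ[A] K)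
    (χ : (⨂[A] _ : Fin d, MvPolynomial B A) →ₐ[A] K)
    (hχ : χ.comp (SymTen.TS A (MvPolynomial B A) d).val = g.comp (lawMap F))
    (S : Type u) [CommSemiring S] [Algebra A S] (φ : S →ₐ[A] K) (y : S ⊗[A] MvPolynomial B A) :
    Algebra.TensorProduct.lift φ g (fun _ _ => Commute.all _ _)
        (F.law.toFun' S ((cover A B).toLinearMap.lTensor S y)) =
      ∏ i : Fin d, Algebra.TensorProduct.lift φ
        (χ.comp (PiTensorProduct.singleAlgHom (A := fun _ : Fin d => MvPolynomial B A) i))
        (fun _ _ => Commute.all _ _) y := by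
  have h1 : ∀ z : S ⊗[A] SymTen.TS A (MvPolynomial B A) d,
      Algebra.TensorProduct.lift φ g (fun _ _ => Commute.all _ _)
          (Algebra.TensorProduct.map (AlgHom.id S S) (lawMap F) z) =
        Algebra.TensorProduct.lift φ χ (fun _ _ => Commute.all _ _)
          (Algebra.TensorProduct.map (AlgHom.id S S) (SymTen.TS A (MvPolynomial B A) d).val z) := by
    intro z
    induction z using TensorProduct.induction_on with
    | zero => simp
    | add z z' hz hz' => simp only [map_add, hz, hz']
    | tmul s t =>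
      simp only [Algebra.TensorProduct.map_tmul, AlgHom.id_apply, Algebra.TensorProduct.lift_tmul]
      rw [← AlgHom.comp_apply, ← hχ]
      rfl
  rw [toFun'_cover, h1, val_tsLaw, map_prod]
  refine Finset.prod_congr rfl fun i _ => ?_
  induction y using TensorProduct.induction_on with
  | zero => simp
  | add z z' hz hz' => simp only [map_add, hz, hz']
  | tmul s t => simp

/-- the coefficients of `∏ (X - pᵢ)` as symmetric tensors -/
noncomputable def charCoeff (p : B) (l : ℕ) : SymTen.TS A B d :=
  ⟨(∏ i : Fin d, (Polynomial.X - Polynomial.C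
      (PiTensorProduct.singleAlgHom (R := A) (A := fun _ : Fin d => B) i p))).coeff l,
    coeff_prod_mem_TS _ (fun σ => ⟨σ, fun j => by
      simp only [PiTensorProduct.singleAlgHom_apply, MonoidHom.mulSingle_apply, SymTen.perm_tprod]
      congr 1
      funext i
      simp [Pi.mulSingle_apply, Equiv.symm_apply_eq]⟩) l⟩

theorem sum_charCoeff (p : B) (i : Fin d) :
    ∑ l ∈ Finset.range (d + 1), (charCoeff (A := A) (d := d) p l : ⨂[A] _ : Fin d, B) *
      (PiTensorProduct.singleAlgHom (R := A) (A := fun _ : Fin d => B) i p) ^ l = 0 := by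
  let Q := ∏ j : Fin d, (Polynomial.X - Polynomial.C
      (PiTensorProduct.singleAlgHom (R := A) (A := fun _ : Fin d => B) j p))
  have hdeg : Q.natDegree < d + 1 := by
    refine Nat.lt_succ_of_le ((Polynomial.natDegree_prod_le _ _).trans ?_)
    refine (Finset.sum_le_sum fun j _ => Polynomial.natDegree_X_sub_C_le _).trans ?_
    simp
  have : Q.eval (PiTensorProduct.singleAlgHom (R := A) (A := fun _ : Fin d => B) i p) = 0 := by
    rw [Polynomial.eval_prod]
    exact Finset.prod_eq_zero (Finset.mem_univ i) (by simp)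
  rw [Polynomial.eval_eq_sum_range' hdeg] at this
  exact this

theorem charCoeff_self (p : B) : charCoeff (A := A) (d := d) p d = 1 := by
  refine Subtype.ext ?_
  let Q := ∏ j : Fin d, (Polynomial.X - Polynomial.C
      (PiTensorProduct.singleAlgHom (R := A) (A := fun _ : Fin d => B) j p))
  show Q.coeff d = 1
  have := Polynomial.coeff_prod_of_natDegree_le (s := (Finset.univ : Finset (Fin d)))
    (fun j => Polynomial.X - Polynomial.C (PiTensorProduct.singleAlgHom (R := A) (A := fun _ : Fin d => B) j p))
    1 (fun j _ => Polynomial.natDegree_X_sub_C_le _)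
  simpa [Q] using this

end Image

section Cayley

theorem cayley_core {P T W : Type u} [CommRing P] [Algebra A P] [CommRing T] [Algebra A T]
    [CommRing W] [Algebra A W] (i : W →ₐ[A] T) (τ : MulLaw A P W d)
    (sg : Fin d → (P →ₐ[A] T))
    (hτ : ∀ (S : Type u) [CommSemiring S] [Algebra A S] (y : S ⊗[A] P),
      Algebra.TensorProduct.map (AlgHom.id S S) i (τ.law.toFun' S y) =
        ∏ j, Algebra.TensorProduct.map (AlgHom.id S S) (sg j) y)
    (f : W →ₐ[A] A) (N : ℕ) (c : ℕ → W) (r : ℕ → P)
    (hc : ∀ j, ∑ l ∈ Finset.range N, i (c l) * sg j (r l) = 0)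
    (S : Type u) [CommRing S] [Algebra A S] (hi : Function.Injective (i.toLinearMap.lTensor S))
    (x w : S ⊗[A] P) :
    Algebra.TensorProduct.map (AlgHom.id S _) f
        (τ.law.toFun' _ (x + w * (1 ⊗ₜ[A] ∑ l ∈ Finset.range N, f (c l) • r l))) =
      Algebra.TensorProduct.map (AlgHom.id S _) f (τ.law.toFun' _ x) := by
  let ι : S →ₐ[A] S ⊗[A] W := Algebra.TensorProduct.includeLeft
  let X' : (S ⊗[A] W) ⊗[A] P := ι.toLinearMap.rTensor P x +
    ι.toLinearMap.rTensor P w * ∑ l ∈ Finset.range N, ((1 : S) ⊗ₜ[A] c l) ⊗ₜ[A] r l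
  let ε : S ⊗[A] W →ₐ[A] S :=
    Algebra.TensorProduct.lift (AlgHom.id A _) ((Algebra.ofId A _).comp f) (fun _ _ => Commute.all _ _)
  let g1 : S ⊗[A] W →ₐ[A] S ⊗[A] T :=
    Algebra.TensorProduct.map (AlgHom.id A _) i
  let m : (S ⊗[A] W) ⊗[A] T →ₐ[A] S ⊗[A] T :=
    Algebra.TensorProduct.lift g1 Algebra.TensorProduct.includeRight (fun _ _ => Commute.all _ _)
  let m' : (S ⊗[A] W) ⊗[A] W →ₐ[A] S ⊗[A] W :=
    Algebra.TensorProduct.lift (AlgHom.id A _) Algebra.TensorProduct.includeRight (fun _ _ => Commute.all _ _)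
  have hιε : ∀ z : S ⊗[A] P, ε.toLinearMap.rTensor P (ι.toLinearMap.rTensor P z) = z := fun z => by
    rw [Groth.Agent.H7PolLaw.rTensor_comp_apply, show ε.comp ι = AlgHom.id A _ from AlgHom.ext fun s => by simp [ε, ι]]
    exact rTensor_id_apply z
  have hεX : ε.toLinearMap.rTensor P X' = x + w * (1 ⊗ₜ[A] ∑ l ∈ Finset.range N, f (c l) • r l) := by
    have hmul : ∀ a b : (S ⊗[A] W) ⊗[A] P, ε.toLinearMap.rTensor P (a * b) =
        ε.toLinearMap.rTensor P a * ε.toLinearMap.rTensor P b := fun a b => by
      simp only [rTensor_algHom_apply, map_mul]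
    simp only [X', map_add, hmul, hιε, map_sum, LinearMap.rTensor_tmul, AlgHom.toLinearMap_apply,
      TensorProduct.tmul_sum]
    refine congrArg (x + w * ·) (Finset.sum_congr rfl fun l _ => ?_)
    rw [TensorProduct.tmul_smul, TensorProduct.smul_tmul']
    congr 1
    simp [ε, Algebra.smul_def]
  have hval : ∀ z : (S ⊗[A] W) ⊗[A] W,
      Algebra.TensorProduct.map (AlgHom.id S _) i (m' z) =
        m (Algebra.TensorProduct.map (AlgHom.id (S ⊗[A] W) _) i z) := by
    intro z
    induction z using TensorProduct.induction_on with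
    | zero => simp
    | add z z' hz hz' => simp only [map_add, hz, hz']
    | tmul a t =>
      induction a using TensorProduct.induction_on with
      | zero => simp
      | add a a' ha ha' => simp only [TensorProduct.add_tmul, map_add, ha, ha']
      | tmul a b => simp [m', m, g1]
  have hm : m' (τ.law.toFun' _ X') = τ.law.toFun' _ x := by
    refine hi ?_
    rw [lTensor_algHom_apply, lTensor_algHom_apply, hval, hτ, hτ, map_prod]
    refine Finset.prod_congr rfl fun j _ => ?_
    have hι : ∀ z : S ⊗[A] P,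
        m (Algebra.TensorProduct.map (AlgHom.id (S ⊗[A] W) _) (sg j)
          (ι.toLinearMap.rTensor P z)) = Algebra.TensorProduct.map (AlgHom.id S _) (sg j) z := by
      intro z
      induction z using TensorProduct.induction_on with
      | zero => simp
      | add z z' hz hz' => simp only [map_add, hz, hz']
      | tmul s q => simp [m, g1, ι]
    simp only [X', map_add, map_mul, hι, map_sum]
    rw [add_eq_left]
    refine mul_eq_zero_of_right _ ?_
    calc _ = ∑ l ∈ Finset.range N, (1 : S) ⊗ₜ[A] (i (c l) * sg j (r l)) := by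
          refine Finset.sum_congr rfl fun l _ => ?_
          simp [m, g1]
      _ = 0 := by rw [← TensorProduct.tmul_sum, hc, TensorProduct.tmul_zero]
  have hf : ∀ z : (S ⊗[A] W) ⊗[A] W,
      Algebra.TensorProduct.map (AlgHom.id S _) f (ε.toLinearMap.rTensor W z) =
        Algebra.TensorProduct.map (AlgHom.id S _) f (m' z) := by
    intro z
    induction z using TensorProduct.induction_on with
    | zero => simp
    | add z z' hz hz' => simp only [map_add, hz, hz']
    | tmul a t =>
      induction a using TensorProduct.induction_on with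
      | zero => simp
      | add a a' ha ha' => simp only [TensorProduct.add_tmul, map_add, ha, ha']
      | tmul s u =>
        simp only [LinearMap.rTensor_tmul, AlgHom.toLinearMap_apply, ε, m', Algebra.TensorProduct.lift_tmul,
          AlgHom.comp_apply, AlgHom.id_apply, map_mul, Algebra.TensorProduct.includeRight_apply,
          Algebra.TensorProduct.map_tmul, map_one, Algebra.TensorProduct.tmul_mul_tmul, mul_one]
        rw [Algebra.ofId_apply, mul_comm s, ← Algebra.smul_def, TensorProduct.smul_tmul, smul_eq_mul]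
  rw [← hεX, ← PolynomialLaw.isCompat_apply', hf, hm]

variable (F : MulLaw A B A d)

/-- Cayley-Hamilton for a family of zero-cycles -/
theorem sum_charCoeff_mem_ker (p : MvPolynomial B A) :
    (∑ l ∈ Finset.range (d + 1), lawMap F (charCoeff p l) • (cover A B p) ^ l) ∈ PolLaw.ker F.law := by
  refine mem_ker_of_poly F _ fun n x w _ _ => ?_
  have e : (cover A B).toLinearMap.lTensor (MvPolynomial (Fin n) A) x +
      (cover A B).toLinearMap.lTensor _ w *
        (1 ⊗ₜ[A] ∑ l ∈ Finset.range (d + 1), lawMap F (charCoeff p l) • (cover A B p) ^ l) =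
      (cover A B).toLinearMap.lTensor _
        (x + w * (1 ⊗ₜ[A] ∑ l ∈ Finset.range (d + 1), lawMap F (charCoeff p l) • p ^ l)) := by
    simp only [lTensor_algHom_apply, map_add, map_mul, Algebra.TensorProduct.map_tmul, AlgHom.id_apply,
      map_sum, map_smul, map_pow]
  rw [e, toFun'_cover, toFun'_cover]
  refine cayley_core (SymTen.TS A (MvPolynomial B A) d).val (tsLaw A (MvPolynomial B A) d)
    (fun j => PiTensorProduct.singleAlgHom (A := fun _ : Fin d => MvPolynomial B A) j) (fun S _ _ y => val_tsLaw S y)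
    (lawMap F) (d + 1) (fun l => charCoeff p l) (fun l => p ^ l) (fun j => ?_) (MvPolynomial (Fin n) A)
    (lTensor_injective_poly _ Subtype.val_injective) x w
  simp only [map_pow]
  exact sum_charCoeff p j

theorem isIntegral_image : Algebra.IsIntegral A (PolLaw.image F.law) := by
  refine ⟨fun x => ?_⟩
  obtain ⟨b, rfl⟩ := Ideal.Quotient.mk_surjective x
  let p : MvPolynomial B A := X b
  have hp : cover A B p = b := aeval_X _ b
  refine ⟨Polynomial.X ^ d + ∑ l ∈ Finset.range d, Polynomial.C (lawMap F (charCoeff p l)) * Polynomial.X ^ l,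
    Polynomial.monic_X_pow_add ?_, ?_⟩
  · refine (Polynomial.degree_sum_le _ _).trans_lt ((Finset.sup_lt_iff ?_).mpr fun l hl => ?_)
    · exact WithBot.bot_lt_coe d
    · exact (Polynomial.degree_C_mul_X_pow_le _ _).trans_lt (WithBot.coe_lt_coe.mpr (Finset.mem_range.mp hl))
  · have h := Ideal.Quotient.eq_zero_iff_mem.mpr (sum_charCoeff_mem_ker F p)
    rw [hp, Finset.sum_range_succ, charCoeff_self, map_one, one_smul, map_add, map_sum, map_pow] at h
    rw [Polynomial.eval₂_add, Polynomial.eval₂_finsetSum, Polynomial.eval₂_X_pow]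
    simp only [Polynomial.eval₂_mul, Polynomial.eval₂_C, Polynomial.eval₂_X_pow]
    rw [add_comm]
    refine (congrArg₂ (· + ·) (Finset.sum_congr rfl fun l _ => ?_) rfl).trans h
    rw [Algebra.smul_def, map_mul, map_pow]
    rfl

/-- the kernels of the `d` characters over a point are the only maximal ideals over it -/
theorem finite_maximalSpectrum_image [Finite (MaximalSpectrum A)] : Finite (MaximalSpectrum (PolLaw.image F.law)) := by
  haveI := isIntegral_image F
  let π := (Ideal.Quotient.mkₐ A (PolLaw.ker F.law)).comp (cover A B)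
  have hπ : Function.Surjective π :=
    Ideal.Quotient.mk_surjective.comp fun b => ⟨(X b : MvPolynomial B A), aeval_X _ b⟩
  let down : MaximalSpectrum (PolLaw.image F.law) → MaximalSpectrum A := fun q =>
    ⟨q.asIdeal.comap (algebraMap A _), Ideal.isMaximal_comap_of_isIntegral_of_isMaximal (hI := q.isMaximal) q.asIdeal⟩
  have hfib : ∀ m : MaximalSpectrum A, Finite {q : MaximalSpectrum (PolLaw.image F.law) // down q = m} := by
    intro m
    haveI := m.isMaximal
    let K := AlgebraicClosure m.asIdeal.ResidueField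
    let g : A →ₐ[A] K := Algebra.ofId A K
    obtain ⟨χ, hχ⟩ := exists_extension (g.comp (lawMap F))
    let ψ : Fin d → (MvPolynomial B A →ₐ[A] K) := fun i =>
      χ.comp (PiTensorProduct.singleAlgHom (A := fun _ : Fin d => MvPolynomial B A) i)
    have key : ∀ q : {q : MaximalSpectrum (PolLaw.image F.law) // down q = m},
        ∃ i, q.1.asIdeal.comap π = RingHom.ker (ψ i) := by
      rintro ⟨q, hq⟩
      haveI := q.isMaximal
      haveI : (q.asIdeal.comap π).IsMaximal := Ideal.comap_isMaximal_of_surjective π hπ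
      have hsub : ∀ p ∈ q.asIdeal.comap π, ∃ i, p ∈ RingHom.ker (ψ i) := by
        intro p hp
        by_contra hno
        push Not at hno
        have h := Ideal.Quotient.eq_zero_iff_mem.mpr (sum_charCoeff_mem_ker F p)
        rw [map_sum, Finset.sum_range_succ'] at h
        have h0 : algebraMap A (PolLaw.image F.law) (lawMap F (charCoeff p 0)) ∈ q.asIdeal := by
          have hmem : ∀ l, Ideal.Quotient.mk (PolLaw.ker F.law) (lawMap F (charCoeff p (l + 1)) • cover A B p ^ (l + 1))
              ∈ q.asIdeal := fun l => by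
            rw [← Ideal.Quotient.mkₐ_eq_mk A, map_smul, map_pow]
            refine Submodule.smul_of_tower_mem _ _ (Ideal.pow_mem_of_mem _ ?_ _ l.succ_pos)
            exact hp
          have := q.asIdeal.zero_mem
          rw [← h, Ideal.add_mem_iff_right _ (Ideal.sum_mem _ fun l _ => hmem l), pow_zero,
            ← Algebra.algebraMap_eq_smul_one] at this
          exact this
        have hm : lawMap F (charCoeff p 0) ∈ m.asIdeal := by rw [← hq]; exact h0
        have hg0 : g (lawMap F (charCoeff p 0)) = 0 := by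
          show algebraMap A K _ = 0
          rw [IsScalarTower.algebraMap_apply A m.asIdeal.ResidueField K,
            Ideal.algebraMap_residueField_eq_zero.mpr hm, map_zero]
        have h1 : χ ((charCoeff (A := A) (d := d) p 0 : SymTen.TS A (MvPolynomial B A) d) :
            ⨂[A] _ : Fin d, MvPolynomial B A) = 0 :=
          (AlgHom.congr_fun hχ _).trans hg0
        simp only [charCoeff, Polynomial.coeff_zero_prod, Polynomial.coeff_sub, Polynomial.coeff_X_zero,
          Polynomial.coeff_C_zero, zero_sub, map_prod, map_neg] at h1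
        obtain ⟨i, -, hi⟩ := Finset.prod_eq_zero_iff.mp h1
        exact hno i (by simpa [ψ, RingHom.mem_ker] using neg_eq_zero.mp hi)
      have hsub' : (q.asIdeal.comap π : Set (MvPolynomial B A)) ⊆
          ⋃ i ∈ ((Finset.univ : Finset (Fin d)) : Set (Fin d)), (RingHom.ker (ψ i) : Set (MvPolynomial B A)) := fun p hp => by
        obtain ⟨i, hi⟩ := hsub p hp
        exact Set.mem_biUnion (Finset.mem_coe.mpr (Finset.mem_univ i)) hi
      rcases Nat.eq_zero_or_pos d with rfl | hd
      · exact absurd (hsub _ (Ideal.zero_mem _)) (fun ⟨i, _⟩ => i.elim0)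
      obtain ⟨i, -, hi⟩ := (Ideal.subset_union_prime (⟨0, hd⟩ : Fin d) ⟨0, hd⟩
        (fun i _ _ _ => RingHom.ker_isPrime (ψ i))).mp hsub'
      exact ⟨i, Ideal.IsMaximal.eq_of_le inferInstance (RingHom.ker_ne_top _) hi⟩
    choose i hi using key
    refine Finite.of_injective i fun q q' h => ?_
    have : q.1.asIdeal.comap π = q'.1.asIdeal.comap π := by rw [hi, hi, h]
    exact Subtype.ext (MaximalSpectrum.ext (Ideal.comap_injective_of_surjective π hπ this))
  exact Finite.of_equiv _ (Equiv.sigmaFiberEquiv down)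

end Cayley

section Reduced

/-- the kernel of a law to a reduced ring is radical -/
theorem isReduced_image [IsReduced C] (F : MulLaw A B C d) : IsReduced (PolLaw.image F.law) := by
  refine ⟨fun x hx => ?_⟩
  obtain ⟨m, hm⟩ := hx
  obtain ⟨b, rfl⟩ := Ideal.Quotient.mk_surjective x
  rw [← map_pow, Ideal.Quotient.eq_zero_iff_mem] at hm
  rw [Ideal.Quotient.eq_zero_iff_mem]
  refine mem_ker_of_poly F b fun n x w p hp => ?_
  haveI := isReduced_poly_tensor (A := A) (C := C) n
  refine eq_of_sub_eq_zero (IsReduced.eq_zero _ ((mem_nilradical).mp ?_))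
  rw [nilradical_eq_sInf, Ideal.mem_sInf]
  intro Q hQ
  haveI : Q.IsPrime := hQ
  let K := AlgebraicClosure Q.ResidueField
  let h : MvPolynomial (Fin n) A ⊗[A] C →ₐ[A] K := IsScalarTower.toAlgHom A _ K
  let g : C →ₐ[A] K := h.comp Algebra.TensorProduct.includeRight
  let φ0 : MvPolynomial (Fin n) A →ₐ[A] K := h.comp Algebra.TensorProduct.includeLeft
  have hh : h = Algebra.TensorProduct.lift φ0 g (fun _ _ => Commute.all _ _) := by
    ext <;> simp [φ0, g]
  obtain ⟨χ, hχ⟩ := exists_extension (g.comp (lawMap F))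
  let ψ : Fin d → (MvPolynomial B A →ₐ[A] K) := fun i =>
    χ.comp (PiTensorProduct.singleAlgHom (A := fun _ : Fin d => MvPolynomial B A) i)
  have hψ : ∀ i, ψ i p = 0 := by
    intro i
    by_contra hne
    have hne' : ψ i p ^ m ≠ 0 := pow_ne_zero _ hne
    let φ : MvPolynomial (Fin 1) A →ₐ[A] K := aeval fun _ => -(ψ i p ^ m)⁻¹
    have e1 := point_eq_prod F g χ hχ (MvPolynomial (Fin 1) A) φ 1
    have e2 := point_eq_prod F g χ hχ (MvPolynomial (Fin 1) A) φ (1 + X 0 ⊗ₜ[A] (p ^ m))
    have e3 : F.law.toFun' (MvPolynomial (Fin 1) A)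
        ((cover A B).toLinearMap.lTensor _ (1 + X 0 ⊗ₜ[A] (p ^ m))) =
        F.law.toFun' (MvPolynomial (Fin 1) A) ((cover A B).toLinearMap.lTensor _ 1) := by
      simp only [lTensor_algHom_apply, map_add, map_one, Algebra.TensorProduct.map_tmul, AlgHom.id_apply,
        map_pow, hp]
      rw [show ((X 0 : MvPolynomial (Fin 1) A) ⊗ₜ[A] (b ^ m)) =
          ((X 0 : MvPolynomial (Fin 1) A) * 1) ⊗ₜ[A] ((1 : B) * b ^ m) by rw [mul_one, one_mul],
        ← Algebra.TensorProduct.tmul_mul_tmul]
      exact hm (MvPolynomial (Fin 1) A) 1 ((X 0 : MvPolynomial (Fin 1) A) ⊗ₜ[A] (1 : B))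
    rw [e3, e1] at e2
    simp only [map_one, Finset.prod_const_one, map_add] at e2
    refine one_ne_zero (e2.trans (Finset.prod_eq_zero (Finset.mem_univ i) ?_))
    rw [Algebra.TensorProduct.lift_tmul, aeval_X]
    change 1 + -(ψ i p ^ m)⁻¹ * (ψ i) (p ^ m) = 0
    rw [map_pow, neg_mul, inv_mul_cancel₀ hne', add_neg_cancel]
  have hQz : ∀ z, h z = 0 → z ∈ Q := fun z hz => by
    have : algebraMap Q.ResidueField K (algebraMap _ Q.ResidueField z) = 0 := by
      rw [← IsScalarTower.algebraMap_apply]; exact hz
    exact Ideal.algebraMap_residueField_eq_zero.mp ((map_eq_zero_iff _ (algebraMap Q.ResidueField K).injective).mp this)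
  refine hQz _ ?_
  rw [map_sub, sub_eq_zero, hh]
  have e : (cover A B).toLinearMap.lTensor (MvPolynomial (Fin n) A) x +
      (cover A B).toLinearMap.lTensor _ w * (1 ⊗ₜ[A] b) =
      (cover A B).toLinearMap.lTensor _ (x + w * (1 ⊗ₜ[A] p)) := by
    simp only [lTensor_algHom_apply, map_add, map_mul, Algebra.TensorProduct.map_tmul, AlgHom.id_apply, hp]
  rw [e, point_eq_prod F g χ hχ, point_eq_prod F g χ hχ]
  refine Finset.prod_congr rfl fun i _ => ?_
  have : χ (PiTensorProduct.singleAlgHom (R := A) (A := fun _ : Fin d => MvPolynomial B A) i p) = 0 := hψ i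
  simp only [map_add, map_mul, Algebra.TensorProduct.lift_tmul, AlgHom.comp_apply, this, mul_zero, add_zero]

end Reduced

end Groth.Agent.H7Gamma
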