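import Mathlib
import Groth.Prelude.Def_PolLaw2
import Groth.Prelude.Def_SymTen
import Groth.Agent.Lib.H7PolLaw
import Groth.Agent.Lib.H7SymTen
import Groth.Agent.Lib.H7Gamma
import Groth.Agent.Lib.H7GammaThm
import Groth.Agent.Lib.H7GammaImage

set_option linter.all false
set_option autoImplicit false

/-! Elements killed by a law, generic Cayley-Hamilton. -/

namespace Groth.Agent.H7Cyc

open scoped TensorProduct
open MvPolynomial Groth.Agent.H7PolLaw Groth.Agent.H7SymTen Groth.Agent.H7Gamma PolLaw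

universe u

variable {A : Type u} [CommRing A] {B C : Type u} [CommRing B] [Algebra A B] [CommRing C] [Algebra A C] {d : ℕ}

/-- `z` is invisible to the member of the law at `S` -/
def Kills (F : MulLaw A B C d) (S : Type u) [CommSemiring S] [Algebra A S] (z : S ⊗[A] B) : Prop :=
  ∀ x w : S ⊗[A] B, F.law.toFun' S (x + w * z) = F.law.toFun' S x

variable (F : MulLaw A B C d)

theorem kills_add {S : Type u} [CommSemiring S] [Algebra A S] {z z' : S ⊗[A] B} (h : Kills F S z) (h' : Kills F S z') :
    Kills F S (z + z') := fun x w => by rw [mul_add, ← add_assoc, h', h]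

theorem kills_mul {S : Type u} [CommSemiring S] [Algebra A S] {z : S ⊗[A] B} (h : Kills F S z) (y : S ⊗[A] B) :
    Kills F S (y * z) := fun x w => by rw [← mul_assoc]; exact h _ _

theorem kills_of_mem_ker {S : Type u} [CommSemiring S] [Algebra A S] {b : B} (h : b ∈ PolLaw.ker F.law) :
    Kills F S (1 ⊗ₜ[A] b) := fun x w => h S x w

theorem kills_tmul_of_mem_ker {S : Type u} [CommSemiring S] [Algebra A S] {b : B} (h : b ∈ PolLaw.ker F.law) (s : S) :
    Kills F S (s ⊗ₜ[A] b) := by
  have := kills_mul F (kills_of_mem_ker F (S := S) h) (s ⊗ₜ[A] (1 : B))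
  rwa [Algebra.TensorProduct.tmul_mul_tmul, mul_one, one_mul] at this

theorem mem_ker_of_kills {b : B} (h : ∀ n : ℕ, Kills F (MvPolynomial (Fin n) A) (1 ⊗ₜ[A] b)) :
    b ∈ PolLaw.ker F.law :=
  mem_ker_of_poly F b fun n x w p _ => h n _ _

theorem kills_of_rTensor {S S' : Type u} [CommSemiring S] [Algebra A S] [CommSemiring S'] [Algebra A S']
    (φ : S →ₐ[A] S') (hφ : Function.Surjective φ) {z : S ⊗[A] B} (h : Kills F S z) :
    Kills F S' (φ.toLinearMap.rTensor B z) := by
  intro x w
  obtain ⟨x, rfl⟩ := LinearMap.rTensor_surjective B (g := φ.toLinearMap) hφ x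
  obtain ⟨w, rfl⟩ := LinearMap.rTensor_surjective B (g := φ.toLinearMap) hφ w
  have e : φ.toLinearMap.rTensor B x + φ.toLinearMap.rTensor B w * φ.toLinearMap.rTensor B z =
      φ.toLinearMap.rTensor B (x + w * z) := by
    simp only [rTensor_algHom_apply, map_add, map_mul]
  rw [e, ← PolynomialLaw.isCompat_apply', h x w, PolynomialLaw.isCompat_apply']

theorem cf_shift {σ : Type} (e : σ →₀ ℕ) (k : σ →₀ ℕ) (y : MvPolynomial σ A ⊗[A] C) :
    cf (e + k) ((monomial e (1 : A)) • y) = cf k y := by
  induction y using TensorProduct.induction_on with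
  | zero => simp
  | add y y' hy hy' => simp only [smul_add, map_add, hy, hy']
  | tmul p c => simp [TensorProduct.smul_tmul', coeff_monomial_mul]

theorem X_pow_smul_cancel {σ : Type} (i : σ) (m : ℕ) {y y' : MvPolynomial σ A ⊗[A] C}
    (h : (X i : MvPolynomial σ A) ^ m • y = (X i : MvPolynomial σ A) ^ m • y') : y = y' :=
  ext_cf fun k => by
    rw [← cf_shift (Finsupp.single i m) k y, ← cf_shift (Finsupp.single i m) k y', ← X_pow_eq_monomial, h]

/-- the coefficients of a killed polynomial family lie in the kernel -/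
theorem coeff_mem_ker (N : ℕ) : ∀ b : ℕ → B,
    (∀ (n : ℕ) (s : MvPolynomial (Fin n) A), Kills F (MvPolynomial (Fin n) A) (∑ l ∈ Finset.range N, (s ^ l) ⊗ₜ[A] b l)) →
    ∀ l < N, b l ∈ PolLaw.ker F.law := by
  induction N with
  | zero => intro b _ l hl; exact absurd hl (Nat.not_lt_zero l)
  | succ N ih =>
    intro b h
    have h0 : b 0 ∈ PolLaw.ker F.law := mem_ker_of_kills F fun n => by
      have := h n 0
      rw [Finset.sum_range_succ'] at this
      simpa using this
    have h1 : ∀ (n : ℕ) (s : MvPolynomial (Fin n) A),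
        Kills F (MvPolynomial (Fin n) A) (∑ l ∈ Finset.range N, (s ^ l) ⊗ₜ[A] b (l + 1)) := by
      intro n s
      let φ : MvPolynomial (Fin (n + 1)) A →ₐ[A] MvPolynomial (Fin n) A := aeval (Fin.snoc X s)
      have hφ : Function.Surjective φ := fun p => ⟨rename Fin.castSucc p, by
        rw [← AlgHom.comp_apply, show φ.comp (rename Fin.castSucc) = AlgHom.id A _ from
          algHom_ext fun q => by simp [φ]]
        rfl⟩
      let u : MvPolynomial (Fin (n + 1)) A := X (Fin.last n)
      have hu : φ u = s := by simp [φ, u]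
      let z := ∑ l ∈ Finset.range N, (u ^ l) ⊗ₜ[A] b (l + 1)
      have hz : Kills F (MvPolynomial (Fin (n + 1)) A) (u • z) := by
        have h2 := kills_add F (h (n + 1) u) (kills_tmul_of_mem_ker F h0 (-1 : MvPolynomial (Fin (n + 1)) A))
        rw [Finset.sum_range_succ', pow_zero] at h2
        have e : (∑ l ∈ Finset.range N, (u ^ (l + 1)) ⊗ₜ[A] b (l + 1)) + (1 : MvPolynomial (Fin (n + 1)) A) ⊗ₜ[A] b 0 +
            (-1 : MvPolynomial (Fin (n + 1)) A) ⊗ₜ[A] b 0 = u • z := by
          rw [TensorProduct.neg_tmul, add_neg_cancel_right, Finset.smul_sum]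
          refine Finset.sum_congr rfl fun l _ => ?_
          rw [TensorProduct.smul_tmul', smul_eq_mul, pow_succ']
        rwa [e] at h2
      have hz' : Kills F (MvPolynomial (Fin (n + 1)) A) z := by
        intro x w
        have h3 := hz (u • x) w
        rw [mul_smul_comm, ← smul_add, F.homog, F.homog] at h3
        exact X_pow_smul_cancel _ _ h3
      have := kills_of_rTensor F φ hφ hz'
      simpa [z, hu] using this
    intro l hl
    cases l with
    | zero => exact h0
    | succ l => exact ih (fun l => b (l + 1)) h1 l (Nat.lt_of_succ_lt_succ hl)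

theorem exists_weight {σ : Type} [Fintype σ] (K : Finset (σ →₀ ℕ)) :
    ∃ W : σ → ℕ, ∀ k ∈ K, ∀ k' ∈ K, (∑ j, k j * W j) = ∑ j, k' j * W j → k = k' := by
  classical
  let N := K.sup (fun k => k.degree) + 1
  let e := Fintype.equivFin σ
  refine ⟨fun j => N ^ (e j : ℕ), fun k hk k' hk' h => Finsupp.ext fun j => ?_⟩
  have key : ∀ (m : ℕ) (f g : Fin m → ℕ), (∀ i, f i < N) → (∀ i, g i < N) →
      (∑ i, f i * N ^ (i : ℕ)) = ∑ i, g i * N ^ (i : ℕ) → f = g := by
    intro m
    induction m with
    | zero => intro f g _ _ _; exact funext fun i => i.elim0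
    | succ m ih =>
      intro f g hf hg h
      simp only [Fin.sum_univ_succ, Fin.val_zero, pow_zero, mul_one, Fin.val_succ, pow_succ, ← mul_assoc,
        ← Finset.sum_mul] at h
      have h0 : f 0 = g 0 := by
        have := congrArg (· % N) h
        simpa [Nat.mod_eq_of_lt (hf 0), Nat.mod_eq_of_lt (hg 0)] using this
      have h1 := ih (fun i => f i.succ) (fun i => g i.succ) (fun i => hf _) (fun i => hg _)
        (Nat.eq_of_mul_eq_mul_right (show 0 < N from Nat.succ_pos _) (by omega))
      funext i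
      refine Fin.cases h0 (fun i => congrFun h1 i) i
  have hlt : ∀ k ∈ K, ∀ i, (fun i => k (e.symm i)) i < N := fun k hk i =>
    Nat.lt_succ_of_le ((Finsupp.le_degree _ k).trans (Finset.le_sup (f := fun k => k.degree) hk))
  have h2 := key _ _ _ (hlt k hk) (hlt k' hk') (by
    rw [← Equiv.sum_comp e, ← Equiv.sum_comp e]
    simpa using h)
  simpa using congrFun h2 (e j)

/-- several variables -/
theorem coeff_mem_ker_multi {σ : Type} [Fintype σ] (K : Finset (σ →₀ ℕ)) (b : (σ →₀ ℕ) → B)
    (h : ∀ (n : ℕ) (s : σ → MvPolynomial (Fin n) A),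
      Kills F (MvPolynomial (Fin n) A) (∑ k ∈ K, (∏ j, s j ^ k j) ⊗ₜ[A] b k)) :
    ∀ k ∈ K, b k ∈ PolLaw.ker F.law := by
  classical
  obtain ⟨W, hW⟩ := exists_weight K
  let w : (σ →₀ ℕ) → ℕ := fun k => ∑ j, k j * W j
  let N := K.sup w + 1
  intro k hk
  have h1 := coeff_mem_ker F N (fun l => ∑ k ∈ K.filter (fun k => w k = l), b k) (fun n s => by
    have h2 := h n (fun j => s ^ W j)
    have e : ∑ k ∈ K, (∏ j, (s ^ W j) ^ k j) ⊗ₜ[A] b k =
        ∑ l ∈ Finset.range N, (s ^ l) ⊗ₜ[A] ∑ k ∈ K.filter (fun k => w k = l), b k := by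
      rw [← Finset.sum_fiberwise_of_maps_to (t := Finset.range N) (g := w)
        (fun k hk => Finset.mem_range.mpr (Nat.lt_succ_of_le (Finset.le_sup hk)))]
      refine Finset.sum_congr rfl fun l _ => ?_
      rw [TensorProduct.tmul_sum]
      refine Finset.sum_congr rfl fun k hk => ?_
      congr 1
      simp only [← pow_mul, Finset.prod_pow_eq_pow_sum]
      rw [← (Finset.mem_filter.mp hk).2]
      exact congrArg (s ^ ·) (Finset.sum_congr rfl fun j _ => mul_comm _ _)
    rwa [e] at h2) (w k) (Nat.lt_succ_of_le (Finset.le_sup hk))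
  rwa [show K.filter (fun k' => w k' = w k) = {k} from Finset.ext fun k' => by
    simp only [Finset.mem_filter, Finset.mem_singleton]
    exact ⟨fun h => hW k' h.1 k hk h.2, by rintro rfl; exact ⟨hk, rfl⟩⟩, Finset.sum_singleton] at h1

end Groth.Agent.H7Cyc
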