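import Mathlib
import Groth.Prelude.Def_PolLaw2
import Groth.Prelude.Def_SymTen
import Groth.Agent.Lib.H7PolLaw
import Groth.Agent.Lib.H7SymTen
import Groth.Agent.Lib.H7Gamma
import Groth.Agent.Lib.H7GammaThm
import Groth.Agent.Lib.H7GammaImage
import Groth.Agent.Lib.H7CycKer

set_option linter.all false
set_option autoImplicit false

/-! Characteristic polynomials and points of families of zero-cycles. -/

namespace Groth.Agent.H7Cyc

open scoped TensorProduct
open Groth.Agent.H7PolLaw Groth.Agent.H7SymTen Groth.Agent.H7Gamma PolLaw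

universe u

variable {A : Type u} [CommRing A] {B : Type u} [CommRing B] [Algebra A B] {d : ℕ} (F : MulLaw A B A d)

/-- the characteristic polynomial of an element -/
noncomputable def charPoly (b : B) : Polynomial A :=
  TensorProduct.rid A (Polynomial A)
    (F.law.toFun' (Polynomial A) (Polynomial.X ⊗ₜ[A] (1 : B) - (1 : Polynomial A) ⊗ₜ[A] b))

/-- `A[X] ⊗ W → W[X]` -/
noncomputable def toPoly (A W : Type u) [CommRing A] [CommRing W] [Algebra A W] : Polynomial A ⊗[A] W →ₐ[A] Polynomial W :=
  Algebra.TensorProduct.lift (Polynomial.mapAlgHom (Algebra.ofId A W)) (IsScalarTower.toAlgHom A W (Polynomial W))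
    (fun _ _ => Commute.all _ _)

theorem toPoly_natural {W W' : Type u} [CommRing W] [Algebra A W] [CommRing W'] [Algebra A W'] (i : W →ₐ[A] W')
    (z : Polynomial A ⊗[A] W) :
    Polynomial.mapAlgHom i (toPoly A W z) = toPoly A W' (Algebra.TensorProduct.map (AlgHom.id A (Polynomial A)) i z) := by
  induction z using TensorProduct.induction_on with
  | zero => simp
  | add z z' hz hz' => simp only [map_add, hz, hz']
  | tmul p w =>
    simp only [toPoly, Algebra.TensorProduct.map_tmul, Algebra.TensorProduct.lift_tmul, AlgHom.id_apply, map_mul]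
    congr 1
    · induction p using Polynomial.induction_on' with
      | add p q hp hq => simp only [map_add, hp, hq]
      | monomial n a => simp
    · simp

theorem toPoly_self (z : Polynomial A ⊗[A] A) : toPoly A A z = TensorProduct.rid A (Polynomial A) z := by
  induction z using TensorProduct.induction_on with
  | zero => simp
  | add z z' hz hz' => simp only [map_add, hz, hz']
  | tmul p a =>
    simp only [toPoly, Algebra.TensorProduct.lift_tmul, TensorProduct.rid_tmul]
    rw [Algebra.smul_def, mul_comm]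
    congr 1
    show Polynomial.map _ p = p
    exact Polynomial.map_id

theorem coeff_charPoly (p : MvPolynomial B A) (l : ℕ) :
    (charPoly F (cover A B p)).coeff l = lawMap F (charCoeff p l) := by
  let P := MvPolynomial B A
  let T := ⨂[A] _ : Fin d, P
  let W := SymTen.TS A P d
  let y : Polynomial A ⊗[A] P := Polynomial.X ⊗ₜ[A] (1 : P) - (1 : Polynomial A) ⊗ₜ[A] p
  let Q := toPoly A W ((tsLaw A P d).law.toFun' (Polynomial A) y)
  have hmapeq : ∀ {W₁ W₂ : Type u} [CommRing W₁] [Algebra A W₁] [CommRing W₂] [Algebra A W₂] (i : W₁ →ₐ[A] W₂)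
      (z : Polynomial A ⊗[A] W₁),
      Algebra.TensorProduct.map (AlgHom.id (Polynomial A) (Polynomial A)) i z =
        Algebra.TensorProduct.map (AlgHom.id A (Polynomial A)) i z := by
    intro W₁ W₂ _ _ _ _ i z
    induction z using TensorProduct.induction_on with
    | zero => simp
    | add z z' hz hz' => simp only [map_add, hz, hz']
    | tmul a b => rfl
  have hQ : Polynomial.mapAlgHom W.val Q = ∏ j : Fin d, (Polynomial.X - Polynomial.C
      (PiTensorProduct.singleAlgHom (R := A) (A := fun _ : Fin d => P) j p)) := by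
    rw [toPoly_natural, ← hmapeq, val_tsLaw, map_prod]
    refine Finset.prod_congr rfl fun j _ => ?_
    simp [y, toPoly, Algebra.TensorProduct.map_tmul, ← PiTensorProduct.one_def]
  have hQl : Q.coeff l = charCoeff p l := by
    refine Subtype.ext ?_
    show W.val (Q.coeff l) = (∏ j : Fin d, _ : Polynomial T).coeff l
    rw [← hQ]
    exact (Polynomial.coeff_map _ l).symm
  have h1 : charPoly F (cover A B p) = Polynomial.mapAlgHom (lawMap F) Q := by
    rw [charPoly, toPoly_natural, ← toPoly_self, ← hmapeq, ← toFun'_cover]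
    congr 2
    simp [y, lTensor_algHom_apply]
  rw [h1, ← hQl]
  exact Polynomial.coeff_map _ l

theorem cover_surjective : Function.Surjective (cover A B) :=
  fun b => ⟨(MvPolynomial.X b : MvPolynomial B A), MvPolynomial.aeval_X _ b⟩

theorem coeff_charPoly_self (b : B) : (charPoly F b).coeff d = 1 := by
  obtain ⟨p, rfl⟩ := cover_surjective (A := A) b
  rw [coeff_charPoly, charCoeff_self, map_one]

theorem natDegree_prodX_le {T : Type u} [CommRing T] (t : Fin d → T) :
    (∏ i, (Polynomial.X - Polynomial.C (t i))).natDegree ≤ d := by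
  have h1 := Polynomial.natDegree_prod_le (Finset.univ : Finset (Fin d)) (fun i => Polynomial.X - Polynomial.C (t i))
  have h2 : ∑ i : Fin d, (Polynomial.X - Polynomial.C (t i)).natDegree ≤ d :=
    (Finset.sum_le_sum fun j _ => Polynomial.natDegree_X_sub_C_le (t j)).trans (by simp)
  exact h1.trans h2

theorem charCoeff_eq_zero {B' : Type u} [CommRing B'] [Algebra A B'] (p : B') (l : ℕ) (hl : d < l) :
    charCoeff (A := A) (d := d) p l = 0 := by
  refine Subtype.ext ?_
  exact Polynomial.coeff_eq_zero_of_natDegree_lt (lt_of_le_of_lt (natDegree_prodX_le _) hl)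

theorem natDegree_charPoly_le (b : B) : (charPoly F b).natDegree ≤ d := by
  obtain ⟨p, rfl⟩ := cover_surjective (A := A) b
  refine Polynomial.natDegree_le_iff_coeff_eq_zero.mpr fun l hl => ?_
  rw [coeff_charPoly]
  rw [charCoeff_eq_zero p l hl, map_zero]

theorem aeval_charPoly_mem_ker (b : B) : Polynomial.aeval b (charPoly F b) ∈ PolLaw.ker F.law := by
  obtain ⟨p, rfl⟩ := cover_surjective (A := A) b
  rw [Polynomial.aeval_eq_sum_range' (Nat.lt_succ_of_le (natDegree_charPoly_le F _))]
  simp only [coeff_charPoly]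
  exact sum_charCoeff_mem_ker F p

theorem charPoly_precomp {B' : Type u} [CommRing B'] [Algebra A B'] (φ : B' →ₐ[A] B) (b : B') :
    charPoly (F.precomp φ) b = charPoly F (φ b) := by
  show TensorProduct.rid A (Polynomial A) (F.law.toFun' (Polynomial A)
    (φ.toLinearMap.lTensor (Polynomial A) (Polynomial.X ⊗ₜ[A] (1 : B') - (1 : Polynomial A) ⊗ₜ[A] b))) = _
  simp [charPoly]

theorem charPoly_of_mem_ker {b : B} (hb : b ∈ PolLaw.ker F.law) : charPoly F b = Polynomial.X ^ d := by
  have h1 : F.law.toFun' (Polynomial A) (Polynomial.X ⊗ₜ[A] (1 : B) - (1 : Polynomial A) ⊗ₜ[A] b) =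
      F.law.toFun' (Polynomial A) (Polynomial.X ⊗ₜ[A] (1 : B)) := by
    have := hb (Polynomial A) (Polynomial.X ⊗ₜ[A] (1 : B)) ((-1 : Polynomial A) ⊗ₜ[A] (1 : B))
    rwa [Algebra.TensorProduct.tmul_mul_tmul, mul_one, one_mul, TensorProduct.neg_tmul, ← sub_eq_add_neg] at this
  rw [charPoly, h1, show (Polynomial.X : Polynomial A) ⊗ₜ[A] (1 : B) = (Polynomial.X : Polynomial A) • 1 by
    rw [Algebra.TensorProduct.one_def, TensorProduct.smul_tmul', smul_eq_mul, mul_one],
    F.homog, (F.mult _).1, Algebra.TensorProduct.one_def, TensorProduct.smul_tmul', TensorProduct.rid_tmul,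
    one_smul, smul_eq_mul, mul_one]

section Point

variable {K : Type u} [Field K] [Algebra A K]
variable (χ : (⨂[A] _ : Fin d, MvPolynomial B A) →ₐ[A] K)

/-- the characters at a point -/
noncomputable abbrev psi (i : Fin d) : MvPolynomial B A →ₐ[A] K :=
  χ.comp (PiTensorProduct.singleAlgHom (R := A) (A := fun _ : Fin d => MvPolynomial B A) i)

variable (hχ : χ.comp (SymTen.TS A (MvPolynomial B A) d).val = (Algebra.ofId A K).comp (lawMap F))

include hχ in
theorem map_charPoly (p : MvPolynomial B A) :
    (charPoly F (cover A B p)).map (algebraMap A K) = ∏ i, (Polynomial.X - Polynomial.C (psi χ i p)) := by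
  ext l
  rw [Polynomial.coeff_map, coeff_charPoly]
  refine (AlgHom.congr_fun hχ (charCoeff p l)).symm.trans ?_
  show χ.toRingHom ((∏ i : Fin d, (Polynomial.X - Polynomial.C
      (PiTensorProduct.singleAlgHom (R := A) (A := fun _ : Fin d => MvPolynomial B A) i p))).coeff l) = _
  rw [← Polynomial.coeff_map, Polynomial.map_prod]
  congr 1
  refine Finset.prod_congr rfl fun i _ => ?_
  simp

include hχ in
theorem psi_eq_zero_of_kills (zP : K ⊗[A] MvPolynomial B A)
    (h : Kills F K ((cover A B).toLinearMap.lTensor K zP)) (i : Fin d) :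
    Algebra.TensorProduct.lift (AlgHom.id A K) (psi χ i) (fun _ _ => Commute.all _ _) zP = 0 := by
  by_contra hne
  set a := Algebra.TensorProduct.lift (AlgHom.id A K) (psi χ i) (fun _ _ => Commute.all _ _) zP with ha
  have e1 := point_eq_prod F (Algebra.ofId A K) χ hχ K (AlgHom.id A K) 1
  have e2 := point_eq_prod F (Algebra.ofId A K) χ hχ K (AlgHom.id A K) (1 + ((-a⁻¹) ⊗ₜ[A] (1 : MvPolynomial B A)) * zP)
  have e3 : F.law.toFun' K ((cover A B).toLinearMap.lTensor K (1 + ((-a⁻¹) ⊗ₜ[A] (1 : MvPolynomial B A)) * zP)) =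
      F.law.toFun' K ((cover A B).toLinearMap.lTensor K 1) := by
    have := h 1 ((-a⁻¹) ⊗ₜ[A] (1 : B))
    simp only [lTensor_algHom_apply, map_add, map_mul, map_one, Algebra.TensorProduct.map_tmul, AlgHom.id_apply]
    rw [lTensor_algHom_apply] at this
    exact this
  rw [e3, e1] at e2
  simp only [map_one, Finset.prod_const_one, map_add, map_mul, Algebra.TensorProduct.lift_tmul, AlgHom.id_apply,
    mul_one] at e2
  refine one_ne_zero (e2.trans (Finset.prod_eq_zero (Finset.mem_univ i) ?_))
  rw [← ha, neg_mul, inv_mul_cancel₀ hne, add_neg_cancel]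

include hχ in
theorem psi_eq_zero_of_mem_ker {b : B} (hb : b ∈ PolLaw.ker F.law) (p : MvPolynomial B A) (hp : cover A B p = b)
    (i : Fin d) : psi χ i p = 0 := by
  have := psi_eq_zero_of_kills F χ hχ ((1 : K) ⊗ₜ[A] p) (by
    rw [LinearMap.lTensor_tmul, AlgHom.toLinearMap_apply, hp]; exact kills_of_mem_ker F hb) i
  simpa using this

end Point

section Generic

/-- Cayley-Hamilton with polynomial parameters -/
theorem cayley_gen {P T W : Type u} [CommRing P] [Algebra A P] [CommRing T] [Algebra A T]
    [CommRing W] [Algebra A W] (i : W →ₐ[A] T) (τ : MulLaw A P W d) (sg : Fin d → (P →ₐ[A] T))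
    (hτ : ∀ (S : Type u) [CommSemiring S] [Algebra A S] (y : S ⊗[A] P),
      Algebra.TensorProduct.map (AlgHom.id S S) i (τ.law.toFun' S y) =
        ∏ j, Algebra.TensorProduct.map (AlgHom.id S S) (sg j) y)
    (f : W →ₐ[A] A) (S : Type u) [CommRing S] [Algebra A S] (hi : Function.Injective (i.toLinearMap.lTensor S))
    (N : ℕ) (c : ℕ → S ⊗[A] W) (r : ℕ → S ⊗[A] P)
    (hc : ∀ j, ∑ l ∈ Finset.range N, Algebra.TensorProduct.map (AlgHom.id S S) i (c l) *
      Algebra.TensorProduct.map (AlgHom.id S S) (sg j) (r l) = 0)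
    (x w : S ⊗[A] P) :
    Algebra.TensorProduct.map (AlgHom.id S S) f
        (τ.law.toFun' _ (x + w * ∑ l ∈ Finset.range N,
          Algebra.TensorProduct.lift (AlgHom.id A S) ((Algebra.ofId A S).comp f) (fun _ _ => Commute.all _ _) (c l) • r l)) =
      Algebra.TensorProduct.map (AlgHom.id S S) f (τ.law.toFun' _ x) := by
  let ι : S →ₐ[A] S ⊗[A] W := Algebra.TensorProduct.includeLeft
  let X' : (S ⊗[A] W) ⊗[A] P := ι.toLinearMap.rTensor P x +
    ι.toLinearMap.rTensor P w * ∑ l ∈ Finset.range N, (c l) • ι.toLinearMap.rTensor P (r l)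
  let ε : S ⊗[A] W →ₐ[A] S :=
    Algebra.TensorProduct.lift (AlgHom.id A S) ((Algebra.ofId A S).comp f) (fun _ _ => Commute.all _ _)
  let g1 : S ⊗[A] W →ₐ[A] S ⊗[A] T := Algebra.TensorProduct.map (AlgHom.id A S) i
  let m : (S ⊗[A] W) ⊗[A] T →ₐ[A] S ⊗[A] T :=
    Algebra.TensorProduct.lift g1 Algebra.TensorProduct.includeRight (fun _ _ => Commute.all _ _)
  let m' : (S ⊗[A] W) ⊗[A] W →ₐ[A] S ⊗[A] W :=
    Algebra.TensorProduct.lift (AlgHom.id A _) Algebra.TensorProduct.includeRight (fun _ _ => Commute.all _ _)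
  have hιε : ∀ z : S ⊗[A] P, ε.toLinearMap.rTensor P (ι.toLinearMap.rTensor P z) = z := fun z => by
    rw [Groth.Agent.H7PolLaw.rTensor_comp_apply, show ε.comp ι = AlgHom.id A _ from AlgHom.ext fun s => by simp [ε, ι]]
    exact rTensor_id_apply z
  have hεX : ε.toLinearMap.rTensor P X' = x + w * ∑ l ∈ Finset.range N, ε (c l) • r l := by
    have hmul : ∀ a b : (S ⊗[A] W) ⊗[A] P, ε.toLinearMap.rTensor P (a * b) =
        ε.toLinearMap.rTensor P a * ε.toLinearMap.rTensor P b := fun a b => by
      simp only [rTensor_algHom_apply, map_mul]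
    simp only [X', map_add, hmul, hιε, map_sum, Groth.Agent.H7PolLaw.rTensor_smul]
  have hval : ∀ z : (S ⊗[A] W) ⊗[A] W,
      Algebra.TensorProduct.map (AlgHom.id S S) i (m' z) =
        m (Algebra.TensorProduct.map (AlgHom.id (S ⊗[A] W) _) i z) := by
    intro z
    induction z using TensorProduct.induction_on with
    | zero => simp
    | add z z' hz hz' => simp only [map_add, hz, hz']
    | tmul a t =>
      induction a using TensorProduct.induction_on with
      | zero => simp
      | add a a' ha ha' => simp only [TensorProduct.add_tmul, map_add, ha, ha']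
      | tmul a b => simp [m', m, g1]
  have hm : m' (τ.law.toFun' _ X') = τ.law.toFun' _ x := by
    refine hi ?_
    rw [lTensor_algHom_apply, lTensor_algHom_apply, hval, hτ, hτ, map_prod]
    refine Finset.prod_congr rfl fun j _ => ?_
    have hι : ∀ z : S ⊗[A] P,
        m (Algebra.TensorProduct.map (AlgHom.id (S ⊗[A] W) _) (sg j)
          (ι.toLinearMap.rTensor P z)) = Algebra.TensorProduct.map (AlgHom.id S S) (sg j) z := by
      intro z
      induction z using TensorProduct.induction_on with
      | zero => simp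
      | add z z' hz hz' => simp only [map_add, hz, hz']
      | tmul s q => simp [m, g1, ι]
    have hm1 : ∀ (a : S ⊗[A] W) (v : (S ⊗[A] W) ⊗[A] T),
        m (a • v) = Algebra.TensorProduct.map (AlgHom.id S S) i a * m v := by
      intro a v
      induction v using TensorProduct.induction_on with
      | zero => simp
      | add v v' hv hv' => simp only [smul_add, map_add, hv, hv', mul_add]
      | tmul b t =>
        induction a using TensorProduct.induction_on with
        | zero => simp
        | add a a' ha ha' => simp only [add_smul, map_add, ha, ha', add_mul]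
        | tmul s u' =>
          simp only [TensorProduct.smul_tmul', smul_eq_mul, m, Algebra.TensorProduct.lift_tmul, map_mul, mul_assoc]
          congr 1
    simp only [X', map_add, map_mul, hι, map_sum, map_smul, hm1, hc, mul_zero, add_zero]
  have hf : ∀ z : (S ⊗[A] W) ⊗[A] W,
      Algebra.TensorProduct.map (AlgHom.id S S) f (ε.toLinearMap.rTensor W z) =
        Algebra.TensorProduct.map (AlgHom.id S S) f (m' z) := by
    intro z
    induction z using TensorProduct.induction_on with
    | zero => simp
    | add z z' hz hz' => simp only [map_add, hz, hz']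
    | tmul a t =>
      induction a using TensorProduct.induction_on with
      | zero => simp
      | add a a' ha ha' => simp only [TensorProduct.add_tmul, map_add, ha, ha']
      | tmul s u' =>
        simp only [LinearMap.rTensor_tmul, AlgHom.toLinearMap_apply, ε, m', Algebra.TensorProduct.lift_tmul,
          AlgHom.comp_apply, AlgHom.id_apply, map_mul, Algebra.TensorProduct.includeRight_apply,
          Algebra.TensorProduct.map_tmul, map_one, Algebra.TensorProduct.tmul_mul_tmul, mul_one]
        rw [Algebra.ofId_apply, mul_comm s, ← Algebra.smul_def, TensorProduct.smul_tmul, smul_eq_mul]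
  show Algebra.TensorProduct.map (AlgHom.id S S) f (τ.law.toFun' _ (x + w * ∑ l ∈ Finset.range N, ε (c l) • r l)) = _
  rw [← hεX, ← PolynomialLaw.isCompat_apply', hf, hm]

theorem generic_ch_core {P T W : Type u} [CommRing P] [Algebra A P] [CommRing T] [Algebra A T]
    [CommRing W] [Algebra A W] (i : W →ₐ[A] T) (hi : Function.Injective i) (τ : MulLaw A P W d)
    (si : Fin d → (P →ₐ[A] T))
    (hτ : ∀ (S : Type u) [CommSemiring S] [Algebra A S] (y : S ⊗[A] P),
      Algebra.TensorProduct.map (AlgHom.id S S) i (τ.law.toFun' S y) =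
        ∏ j, Algebra.TensorProduct.map (AlgHom.id S S) (si j) y)
    (f : W →ₐ[A] A) (π : P →ₐ[A] B) (hπ : Function.Surjective π)
    (hF : ∀ (S : Type u) [CommSemiring S] [Algebra A S] (y : S ⊗[A] P),
      F.law.toFun' S (π.toLinearMap.lTensor S y) = Algebra.TensorProduct.map (AlgHom.id S S) f (τ.law.toFun' S y))
    (act : Equiv.Perm (Fin d) → (T →ₐ[A] T)) (hact : ∀ σ' j, (act σ').comp (si j) = si (σ' j))
    (hfix : ∀ t : T, (∀ σ', act σ' t = t) → t ∈ Set.range i)
    {σ : Type} [Fintype σ] (e : σ → P) :
    ∃ (K : Finset (σ →₀ ℕ)) (c : (σ →₀ ℕ) → B), (∀ k ∈ K, c k ∈ PolLaw.ker F.law) ∧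
      ∀ (L : Type u) [CommRing L] [Algebra A L] (a : σ → L) (g : B →ₐ[A] L) (χ : T →ₐ[A] L),
        χ.comp i = (Algebra.ofId A L).comp f →
        ∑ k ∈ K, (∏ j, a j ^ k j) * g (c k) =
          ∏ j' : Fin d, ((∑ j, a j * g (π (e j))) - ∑ j, a j * χ (si j' (e j))) := by
  classical
  let S := MvPolynomial σ A
  let p : S ⊗[A] P := gen e
  let Q : Polynomial (S ⊗[A] T) :=
    ∏ j, (Polynomial.X - Polynomial.C (Algebra.TensorProduct.map (AlgHom.id S S) (si j) p))
  have hrange : ∀ l, Q.coeff l ∈ LinearMap.range (i.toLinearMap.lTensor S) := by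
    intro l
    refine mem_range_lTensor _ fun k => ?_
    obtain ⟨w, hw⟩ := hfix (cf k (Q.coeff l)) (fun σ' => by
      show (act σ').toLinearMap _ = _
      rw [← cf_lTensor]
      congr 1
      rw [lTensor_algHom_apply]
      show (Algebra.TensorProduct.map (AlgHom.id S S) (act σ')).toRingHom _ = _
      rw [← Polynomial.coeff_map, Polynomial.map_prod]
      congr 1
      refine Fintype.prod_equiv σ' _ _ fun j => ?_
      rw [Polynomial.map_sub, Polynomial.map_X, Polynomial.map_C]
      congr 2
      show Algebra.TensorProduct.map (AlgHom.id S S) (act σ') _ = _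
      rw [map_map_apply, hact])
    exact ⟨w, hw⟩
  choose cW hcW using hrange
  have hcW' : ∀ l, Algebra.TensorProduct.map (AlgHom.id S S) i (cW l) = Q.coeff l := fun l =>
    (lTensor_algHom_apply i S (cW l)).symm.trans (hcW l)
  let ε : S ⊗[A] W →ₐ[A] S :=
    Algebra.TensorProduct.lift (AlgHom.id A S) ((Algebra.ofId A S).comp f) (fun _ _ => Commute.all _ _)
  let zP : S ⊗[A] P := ∑ l ∈ Finset.range (d + 1), ε (cW l) • p ^ l
  let z : S ⊗[A] B := π.toLinearMap.lTensor S zP
  have hdeg : Q.natDegree < d + 1 := Nat.lt_succ_of_le (natDegree_prodX_le _)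
  obtain ⟨K, hK⟩ := exists_expansion z
  refine ⟨K, fun k => cf k z, ?_, ?_⟩
  · refine coeff_mem_ker_multi F K (fun k => cf k z) fun n s => ?_
    let θ : S →ₐ[A] MvPolynomial (Fin n) A := MvPolynomial.aeval s
    have hθ : ∑ k ∈ K, (∏ j, s j ^ k j) ⊗ₜ[A] cf k z = θ.toLinearMap.rTensor B z := by
      conv_rhs => rw [hK K subset_rfl]
      rw [map_sum]
      refine Finset.sum_congr rfl fun k _ => ?_
      rw [LinearMap.rTensor_tmul]
      show _ = (MvPolynomial.aeval s) _ ⊗ₜ[A] _
      rw [MvPolynomial.aeval_monomial, map_one, one_mul, Finsupp.prod_fintype _ _ (fun _ => pow_zero _)]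
    intro x w
    obtain ⟨x, rfl⟩ := LinearMap.lTensor_surjective _ (g := π.toLinearMap) hπ x
    obtain ⟨w, rfl⟩ := LinearMap.lTensor_surjective _ (g := π.toLinearMap) hπ w
    let θW : S ⊗[A] W →ₐ[A] MvPolynomial (Fin n) A ⊗[A] W := Algebra.TensorProduct.map θ (AlgHom.id A W)
    let θT : S ⊗[A] T →ₐ[A] MvPolynomial (Fin n) A ⊗[A] T := Algebra.TensorProduct.map θ (AlgHom.id A T)
    let θP : S ⊗[A] P →ₐ[A] MvPolynomial (Fin n) A ⊗[A] P := Algebra.TensorProduct.map θ (AlgHom.id A P)
    let ε' : MvPolynomial (Fin n) A ⊗[A] W →ₐ[A] MvPolynomial (Fin n) A :=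
      Algebra.TensorProduct.lift (AlgHom.id A _) ((Algebra.ofId A _).comp f) (fun _ _ => Commute.all _ _)
    have e1 : θ.toLinearMap.rTensor B z = π.toLinearMap.lTensor _
        (∑ l ∈ Finset.range (d + 1), ε' (θW (cW l)) • θP (p ^ l)) := by
      show θ.toLinearMap.rTensor B (π.toLinearMap.lTensor S zP) = _
      rw [← LinearMap.comp_apply, LinearMap.rTensor_comp_lTensor, ← LinearMap.lTensor_comp_rTensor, LinearMap.comp_apply]
      congr 1
      show θ.toLinearMap.rTensor P (∑ l ∈ Finset.range (d + 1), ε (cW l) • p ^ l) = _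
      simp only [map_sum]
      refine Finset.sum_congr rfl fun l _ => ?_
      rw [Groth.Agent.H7PolLaw.rTensor_smul, rTensor_algHom_apply]
      congr 1
      show (θ.comp ε) (cW l) = (ε'.comp θW) (cW l)
      refine AlgHom.congr_fun (Algebra.TensorProduct.ext ?_ ?_) _
      · ext <;> simp [ε, ε', θW]
      · ext w
        simp [ε, ε', θW]
    rw [hθ, e1, show π.toLinearMap.lTensor (MvPolynomial (Fin n) A) x +
        π.toLinearMap.lTensor _ w * π.toLinearMap.lTensor _
          (∑ l ∈ Finset.range (d + 1), ε' (θW (cW l)) • θP (p ^ l)) =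
        π.toLinearMap.lTensor _ (x + w * ∑ l ∈ Finset.range (d + 1), ε' (θW (cW l)) • θP (p ^ l)) by
      simp only [lTensor_algHom_apply, map_add, map_mul], hF, hF]
    refine cayley_gen i τ si hτ f _
      (lTensor_injective_poly _ hi) (d + 1) (fun l => θW (cW l)) (fun l => θP (p ^ l))
      (fun j => ?_) x w
    have hcomm : ∀ {W₁ W₂ : Type u} [CommRing W₁] [Algebra A W₁] [CommRing W₂] [Algebra A W₂] (g : W₁ →ₐ[A] W₂)
        (a : S ⊗[A] W₁),
        Algebra.TensorProduct.map (AlgHom.id (MvPolynomial (Fin n) A) (MvPolynomial (Fin n) A)) g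
          (Algebra.TensorProduct.map θ (AlgHom.id A W₁) a) =
        Algebra.TensorProduct.map θ (AlgHom.id A W₂) (Algebra.TensorProduct.map (AlgHom.id S S) g a) := by
      intro W₁ W₂ _ _ _ _ g a
      induction a using TensorProduct.induction_on with
      | zero => simp
      | add a a' ha ha' => simp only [map_add, ha, ha']
      | tmul s' t => simp
    simp only [θW, θP, hcomm, ← map_mul, ← map_sum]
    have hz : Q.eval (Algebra.TensorProduct.map (AlgHom.id S S) (si j) p) = 0 := by
      rw [Polynomial.eval_prod]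
      exact Finset.prod_eq_zero (Finset.mem_univ j) (by simp)
    rw [Polynomial.eval_eq_sum_range' hdeg] at hz
    simp only [map_pow, hcW', hz, map_zero]
  · intro L _ _ a g χ hχ
    let φ : S →ₐ[A] L := MvPolynomial.aeval a
    let h' : S ⊗[A] B →ₐ[A] L := Algebra.TensorProduct.lift φ g (fun _ _ => Commute.all _ _)
    have e1 : ∑ k ∈ K, (∏ j, a j ^ k j) * g (cf k z) = h' z := by
      conv_rhs => rw [hK K subset_rfl]
      rw [map_sum]
      refine Finset.sum_congr rfl fun k _ => ?_
      show _ = Algebra.TensorProduct.lift φ g _ _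
      rw [Algebra.TensorProduct.lift_tmul]
      show _ = (MvPolynomial.aeval a) _ * _
      rw [MvPolynomial.aeval_monomial, map_one, one_mul, Finsupp.prod_fintype _ _ (fun _ => pow_zero _)]
    rw [e1]
    let hT : S ⊗[A] T →ₐ[A] L := Algebra.TensorProduct.lift φ χ (fun _ _ => Commute.all _ _)
    let H := h' (π.toLinearMap.lTensor S p)
    have e2 : h' z = ∑ l ∈ Finset.range (d + 1), hT (Q.coeff l) * H ^ l := by
      show h' (π.toLinearMap.lTensor S (∑ l ∈ Finset.range (d + 1), ε (cW l) • p ^ l)) = _
      simp only [map_sum, H]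
      refine Finset.sum_congr rfl fun l _ => ?_
      rw [lTensor_algHom_apply, map_smul, map_pow, ← hcW']
      rw [show ∀ (s : S) (v : S ⊗[A] B), h' (s • v) = φ s * h' v from fun s v => by
        induction v using TensorProduct.induction_on with
        | zero => simp
        | tmul s' b => simp [h', TensorProduct.smul_tmul', mul_assoc]
        | add v v' hv hv' => simp only [smul_add, map_add, hv, hv', mul_add], map_pow, lTensor_algHom_apply]
      congr 1
      show (φ.comp ε) (cW l) = (hT.comp ((Algebra.TensorProduct.map (AlgHom.id S S) i).restrictScalars A)) (cW l)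
      refine AlgHom.congr_fun (Algebra.TensorProduct.ext ?_ ?_) _
      · ext <;> simp [ε, hT]
      · ext w
        simpa [ε, hT, φ] using (AlgHom.congr_fun hχ w).symm
    have e3 : Polynomial.eval H (Q.map hT.toRingHom) = ∑ l ∈ Finset.range (d + 1), hT (Q.coeff l) * H ^ l := by
      rw [Polynomial.eval_eq_sum_range' (lt_of_le_of_lt Polynomial.natDegree_map_le hdeg)]
      simp
    rw [e2, ← e3, Polynomial.map_prod, Polynomial.eval_prod]
    refine Finset.prod_congr rfl fun i _ => ?_
    rw [Polynomial.map_sub, Polynomial.map_X, Polynomial.map_C, Polynomial.eval_sub, Polynomial.eval_X, Polynomial.eval_C]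
    congr 1
    · simp [H, h', p, φ, gen, map_sum]
      exact Finset.sum_congr rfl fun x _ => by rw [MvPolynomial.aeval_X]
    · show hT _ = _
      simp [hT, p, φ, gen, map_sum]
      exact Finset.sum_congr rfl fun x _ => by rw [MvPolynomial.aeval_X]

/-- coefficients of the generic Cayley-Hamilton polynomial of a family -/
theorem exists_generic_ch {σ : Type} [Fintype σ] (e : σ → MvPolynomial B A) :
    ∃ (K : Finset (σ →₀ ℕ)) (c : (σ →₀ ℕ) → B), (∀ k ∈ K, c k ∈ PolLaw.ker F.law) ∧
      ∀ (L : Type u) [CommRing L] [Algebra A L] (a : σ → L) (g : B →ₐ[A] L)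
        (χ : (⨂[A] _ : Fin d, MvPolynomial B A) →ₐ[A] L),
        χ.comp (SymTen.TS A (MvPolynomial B A) d).val = (Algebra.ofId A L).comp (lawMap F) →
        ∑ k ∈ K, (∏ j, a j ^ k j) * g (c k) =
          ∏ i : Fin d, ((∑ j, a j * g (cover A B (e j))) -
            ∑ j, a j * χ (PiTensorProduct.singleAlgHom (R := A) (A := fun _ : Fin d => MvPolynomial B A) i (e j))) :=
  generic_ch_core F (SymTen.TS A (MvPolynomial B A) d).val Subtype.val_injective (tsLaw A (MvPolynomial B A) d)
    (fun j => PiTensorProduct.singleAlgHom (A := fun _ : Fin d => MvPolynomial B A) j)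
    (fun S _ _ y => val_tsLaw S y) (lawMap F) (cover A B) cover_surjective (fun S _ _ y => toFun'_cover F S y)
    (fun σ' => SymTen.perm A (MvPolynomial B A) d σ')
    (fun σ' j => AlgHom.ext fun q => by
      simp only [AlgHom.comp_apply, PiTensorProduct.singleAlgHom_apply, MonoidHom.mulSingle_apply, SymTen.perm_tprod]
      congr 1
      funext l
      simp [Pi.mulSingle_apply, Equiv.symm_apply_eq])
    (fun t ht => ⟨⟨t, fun σ' => (SymTen.perm_apply A (MvPolynomial B A) d σ' t).symm.trans (ht σ')⟩, rfl⟩) e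

/-- a point of `B ⧸ ker F` with values in a field is one of the characters -/
theorem exists_psi_eq {K : Type u} [Field K] [Algebra A K]
    (χ : (⨂[A] _ : Fin d, MvPolynomial B A) →ₐ[A] K)
    (hχ : χ.comp (SymTen.TS A (MvPolynomial B A) d).val = (Algebra.ofId A K).comp (lawMap F))
    (h : B →ₐ[A] K) (hh : PolLaw.ker F.law ≤ RingHom.ker h) :
    ∃ i : Fin d, h.comp (cover A B) = psi χ i := by
  classical
  by_contra hno
  push Not at hno
  choose e he using fun i => (not_forall.mp fun hall => hno i (AlgHom.ext hall))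
  obtain ⟨K₀, c, hc, hid⟩ := exists_generic_ch F (σ := Fin d) e
  let L := MvPolynomial (Fin d) K
  let ι : K →ₐ[A] L := IsScalarTower.toAlgHom A K L
  have h0 := hid L (fun j => MvPolynomial.X j) (ι.comp h) (ι.comp χ) (by
    rw [AlgHom.comp_assoc, hχ]
    exact AlgHom.ext fun x => ι.commutes _)
  rw [Finset.sum_eq_zero (fun k hk => by
    rw [AlgHom.comp_apply, show h (c k) = 0 from hh (hc k hk), map_zero, mul_zero])] at h0
  obtain ⟨i, -, hi⟩ := Finset.prod_eq_zero_iff.mp h0.symm
  have := congrArg (MvPolynomial.eval fun j => if j = i then (1 : K) else 0) hi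
  simp [ι, L, Finset.sum_ite_eq', sub_eq_zero, MvPolynomial.algebraMap_eq] at this
  exact he i this

end Generic

/-- membership in the radical of the kernel -/
theorem mem_radical_ker_iff (b : B) :
    b ∈ (PolLaw.ker F.law).radical ↔ ∀ l < d, IsNilpotent ((charPoly F b).coeff l) := by
  obtain ⟨p, rfl⟩ := cover_surjective (A := A) b
  constructor
  · rintro ⟨m, hm⟩ l hl
    refine mem_nilradical.mp ?_
    rw [nilradical_eq_sInf, Ideal.mem_sInf]
    intro Q hQ
    haveI : Q.IsPrime := hQ
    let K := AlgebraicClosure Q.ResidueField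
    obtain ⟨χ, hχ⟩ := exists_extension ((Algebra.ofId A K).comp (lawMap F))
    have hψ : ∀ i, psi χ i p = 0 := fun i => by
      have := psi_eq_zero_of_mem_ker F χ hχ hm (p ^ m) (map_pow _ _ _) i
      rw [map_pow] at this
      exact eq_zero_of_pow_eq_zero this
    have h2 := congrArg (Polynomial.coeff · l) (map_charPoly F χ hχ p)
    simp only [Polynomial.coeff_map, hψ, map_zero, sub_zero, Finset.prod_const, Finset.card_univ, Fintype.card_fin,
      Polynomial.coeff_X_pow, hl.ne, if_false] at h2
    rw [IsScalarTower.algebraMap_apply A Q.ResidueField K, map_eq_zero_iff _ (algebraMap Q.ResidueField K).injective] at h2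
    exact Ideal.algebraMap_residueField_eq_zero.mp h2
  · intro h
    have h1 := aeval_charPoly_mem_ker F (cover A B p)
    rw [Polynomial.aeval_eq_sum_range' (Nat.lt_succ_of_le (natDegree_charPoly_le F _)), Finset.sum_range_succ,
      coeff_charPoly_self, one_smul] at h1
    have h2 : ∑ l ∈ Finset.range d, (charPoly F (cover A B p)).coeff l • cover A B p ^ l ∈
        (PolLaw.ker F.law).radical :=
      Ideal.sum_mem _ fun l hl => by
        rw [Algebra.smul_def]
        refine Ideal.mul_mem_right _ _ ?_
        obtain ⟨m, hm⟩ := (h l (Finset.mem_range.mp hl)).map (algebraMap A B)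
        exact ⟨m, by rw [hm]; exact zero_mem _⟩
    have h3 := sub_mem (Ideal.le_radical h1) h2
    rw [add_sub_cancel_left] at h3
    exact (Ideal.radical_idem _).le ⟨d, h3⟩

end Groth.Agent.H7Cyc
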