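import Mathlib
import Groth.Prelude.Def_PolLaw2
import Groth.Prelude.Def_SymTen
import Groth.Agent.Lib.H7PolLaw
import Groth.Agent.Lib.H7SymTen
import Groth.Agent.Lib.H7Gamma
import Groth.Agent.Lib.H7GammaThm
import Groth.Agent.Lib.H7GammaImage
import Groth.Agent.Lib.H7CycPoints

set_option linter.all false
set_option autoImplicit false

/-! Fibres and topology of the image of a family of zero-cycles. -/

namespace Groth.Agent.H7Cyc

open scoped TensorProduct
open Groth.Agent.H7PolLaw Groth.Agent.H7SymTen Groth.Agent.H7Gamma PolLaw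

universe u

variable {A : Type u} [CommRing A] {B : Type u} [CommRing B] [Algebra A B] {d : ℕ} (F : MulLaw A B A d)

theorem image_isIntegral : Algebra.IsIntegral A (PolLaw.image F.law) := by
  refine ⟨fun x => ?_⟩
  obtain ⟨b, rfl⟩ := Ideal.Quotient.mk_surjective x
  refine ⟨charPoly F b, Polynomial.monic_of_natDegree_le_of_coeff_eq_one d (natDegree_charPoly_le F b)
    (coeff_charPoly_self F b), ?_⟩
  rw [← Polynomial.aeval_def]
  show Polynomial.aeval (Ideal.Quotient.mkₐ A (PolLaw.ker F.law) b) _ = 0
  rw [Polynomial.aeval_algHom_apply]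
  exact Ideal.Quotient.eq_zero_iff_mem.mpr (aeval_charPoly_mem_ker F b)

/-- the composite `P → B → B ⧸ ker F` -/
noncomputable abbrev toImage : MvPolynomial B A →ₐ[A] PolLaw.image F.law :=
  (Ideal.Quotient.mkₐ A (PolLaw.ker F.law)).comp (cover A B)

theorem toImage_surjective : Function.Surjective (toImage F) :=
  Ideal.Quotient.mk_surjective.comp (cover_surjective (A := A) (B := B))

section Field

variable {K : Type u} [Field K] [Algebra A K]

theorem exists_pointHom (χ : (⨂[A] _ : Fin d, MvPolynomial B A) →ₐ[A] K)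
    (hχ : χ.comp (SymTen.TS A (MvPolynomial B A) d).val = (Algebra.ofId A K).comp (lawMap F)) (i : Fin d) :
    ∃ h : PolLaw.image F.law →ₐ[A] K, h.comp (toImage F) = psi χ i := by
  have hker : RingHom.ker (toImage F).toRingHom ≤ RingHom.ker (psi χ i).toRingHom := fun p hp =>
    psi_eq_zero_of_mem_ker F χ hχ (Ideal.Quotient.eq_zero_iff_mem.mp hp) p rfl i
  exact ⟨AlgHom.liftOfSurjective (toImage F) (toImage_surjective F) _ hker,
    AlgHom.liftOfSurjective_comp _ _ _ hker⟩

theorem exists_psi_eq' (χ : (⨂[A] _ : Fin d, MvPolynomial B A) →ₐ[A] K)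
    (hχ : χ.comp (SymTen.TS A (MvPolynomial B A) d).val = (Algebra.ofId A K).comp (lawMap F))
    (h : PolLaw.image F.law →ₐ[A] K) : ∃ i : Fin d, h.comp (toImage F) = psi χ i :=
  exists_psi_eq F χ hχ (h.comp (Ideal.Quotient.mkₐ A _)) fun b hb => by
    show h (Ideal.Quotient.mk _ b) = 0
    rw [Ideal.Quotient.eq_zero_iff_mem.mpr hb, map_zero]

theorem card_points : Finite (PolLaw.image F.law →ₐ[A] K) ∧ Nat.card (PolLaw.image F.law →ₐ[A] K) ≤ d := by
  let L := AlgebraicClosure K
  obtain ⟨χ, hχ⟩ := exists_extension ((Algebra.ofId A L).comp (lawMap F))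
  choose i hi using fun h : PolLaw.image F.law →ₐ[A] K =>
    exists_psi_eq' F χ hχ ((IsScalarTower.toAlgHom A K L).comp h)
  have hinj : Function.Injective i := by
    intro h h' e
    refine AlgHom.ext fun x => ?_
    obtain ⟨p, rfl⟩ := toImage_surjective F x
    have := (AlgHom.congr_fun (hi h) p).trans ((by rw [e]) : psi χ (i h) p = psi χ (i h') p)
    rw [← AlgHom.congr_fun (hi h') p] at this
    exact (algebraMap K L).injective this
  exact ⟨Finite.of_injective i hinj, (Nat.card_le_card_of_injective i hinj).trans_eq (Nat.card_fin d)⟩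

end Field

/-- a prime of an integral algebra is cut out by a geometric point over the prime below -/
theorem exists_point_of_prime {R W : Type u} [CommRing R] [CommRing W] [Algebra R W] [Algebra.IsIntegral R W]
    (Q : Ideal W) [Q.IsPrime] (K : Type u) [Field K] [IsAlgClosed K] [Algebra R K]
    (hK : RingHom.ker (algebraMap R K) = Q.comap (algebraMap R W)) :
    ∃ g : W →ₐ[R] K, RingHom.ker g = Q := by
  let p := Q.comap (algebraMap R W)
  let i : R ⧸ p →ₐ[R] W ⧸ Q := Ideal.quotientMapₐ Q (Algebra.ofId R W) le_rfl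
  have hi : Function.Injective i := Ideal.quotientMap_injective
  have hint : i.toRingHom.IsIntegral := by
    have h1 : (algebraMap R (W ⧸ Q)).IsIntegral := Algebra.IsIntegral.isIntegral
    have h2 : algebraMap R (W ⧸ Q) = i.toRingHom.comp (Ideal.Quotient.mk p) :=
      RingHom.ext fun a => rfl
    rw [h2] at h1
    exact RingHom.IsIntegral.tower_top _ _ h1
  let h : R ⧸ p →ₐ[R] K := Ideal.Quotient.liftₐ p (Algebra.ofId R K) fun a ha => by
    show algebraMap R K a = 0
    rw [← RingHom.mem_ker, hK]
    exact ha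
  obtain ⟨χ, hχ⟩ := exists_extension_of_integral i hi hint h
  refine ⟨χ.comp (Ideal.Quotient.mkₐ R Q), ?_⟩
  have hbot : RingHom.ker χ.toRingHom = ⊥ := by
    letI : Algebra (R ⧸ p) (W ⧸ Q) := i.toRingHom.toAlgebra
    haveI : Algebra.IsIntegral (R ⧸ p) (W ⧸ Q) := ⟨hint⟩
    haveI : p.IsPrime := inferInstanceAs (Q.comap _).IsPrime
    refine Ideal.eq_bot_of_comap_eq_bot (R := R ⧸ p) (eq_bot_iff.mpr fun y hy => ?_)
    obtain ⟨a, rfl⟩ := Ideal.Quotient.mk_surjective y
    have h3 : χ (i (Ideal.Quotient.mk p a)) = 0 := hy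
    rw [← AlgHom.comp_apply, hχ] at h3
    refine Ideal.Quotient.eq_zero_iff_mem.mpr ?_
    show a ∈ Q.comap (algebraMap R W)
    rw [← hK]
    exact h3
  ext z
  constructor
  · intro hz
    exact Ideal.Quotient.eq_zero_iff_mem.mp ((Submodule.eq_bot_iff _).mp hbot _ hz)
  · intro hz
    show χ (Ideal.Quotient.mk Q z) = 0
    rw [Ideal.Quotient.eq_zero_iff_mem.mpr hz, map_zero]

section BaseChange

variable (A' : Type u) [CommRing A'] [Algebra A A']

/-- a prime of the base change is cut out by a geometric point over the prime below -/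
theorem exists_geom_point (Q : Ideal (A' ⊗[A] PolLaw.image F.law)) [Q.IsPrime]
    (K : Type u) [Field K] [IsAlgClosed K] [Algebra A' K]
    (hK : RingHom.ker (algebraMap A' K) = Q.comap (algebraMap A' _)) :
    ∃ g : A' ⊗[A] PolLaw.image F.law →ₐ[A'] K, RingHom.ker g = Q :=
  haveI := image_isIntegral F
  exists_point_of_prime Q K hK

theorem fibre_encard (q : PrimeSpectrum A') :
    (PrimeSpectrum.comap (algebraMap A' (A' ⊗[A] PolLaw.image F.law)) ⁻¹' {q}).encard ≤ (d : ℕ∞) := by
  obtain ⟨K, _, _, _, hK⟩ : ∃ (K : Type u) (_ : Field K) (_ : IsAlgClosed K) (_ : Algebra A' K),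
      RingHom.ker (algebraMap A' K) = q.asIdeal := by
    refine ⟨AlgebraicClosure q.asIdeal.ResidueField, inferInstance, inferInstance, inferInstance, ?_⟩
    ext a
    rw [RingHom.mem_ker, IsScalarTower.algebraMap_apply A' q.asIdeal.ResidueField (AlgebraicClosure q.asIdeal.ResidueField),
      map_eq_zero_iff _ (algebraMap q.asIdeal.ResidueField _).injective, Ideal.algebraMap_residueField_eq_zero]
  letI : Algebra A K := ((algebraMap A' K).comp (algebraMap A A')).toAlgebra
  haveI : IsScalarTower A A' K := IsScalarTower.of_algebraMap_eq fun a => rfl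
  let S := PrimeSpectrum.comap (algebraMap A' (A' ⊗[A] PolLaw.image F.law)) ⁻¹' {q}
  choose g hg using fun Q : S => exists_geom_point F A' Q.1.asIdeal K
    (hK.trans (congrArg PrimeSpectrum.asIdeal Q.2).symm)
  obtain ⟨hfin, hcard⟩ := card_points F (K := K)
  have hinj : Function.Injective fun Q : S =>
      ((g Q).restrictScalars A).comp Algebra.TensorProduct.includeRight := by
    intro Q Q' e
    have e' : g Q = g Q' := Algebra.TensorProduct.ext (Algebra.ext_id_iff.mpr trivial) e
    exact Subtype.ext (PrimeSpectrum.ext (by rw [← hg Q, ← hg Q', e']))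
  haveI := Finite.of_injective _ hinj
  rw [Set.encard, ENat.card_eq_coe_natCard]
  exact_mod_cast (Nat.card_le_card_of_injective _ hinj).trans hcard

theorem fibre_finite (q : PrimeSpectrum A') :
    (PrimeSpectrum.comap (algebraMap A' (A' ⊗[A] PolLaw.image F.law)) ⁻¹' {q}).Finite :=
  Set.finite_of_encard_le_coe (fibre_encard F A' q)

theorem exists_nonvanishing (f : A' ⊗[A] PolLaw.image F.law) :
    ∃ c : ℕ → A', ∀ q : PrimeSpectrum A',
      q ∈ PrimeSpectrum.comap (algebraMap A' (A' ⊗[A] PolLaw.image F.law)) '' (PrimeSpectrum.basicOpen f : Set _) ↔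
        ∃ l < d, c l ∉ q.asIdeal := by
  obtain ⟨fP, rfl⟩ := LinearMap.lTensor_surjective A' (g := (toImage F).toLinearMap) (toImage_surjective F) f
  let S := Polynomial A'
  let y : S ⊗[A] MvPolynomial B A := (Polynomial.X : S) ⊗ₜ[A] (1 : MvPolynomial B A) -
    Algebra.TensorProduct.map (IsScalarTower.toAlgHom A A' S) (AlgHom.id A _) fP
  let Pol : Polynomial A' := TensorProduct.rid A S (F.law.toFun' S ((cover A B).toLinearMap.lTensor S y))
  refine ⟨fun l => Pol.coeff l, fun q => ?_⟩
  obtain ⟨K, _, _, _, hK⟩ : ∃ (K : Type u) (_ : Field K) (_ : IsAlgClosed K) (_ : Algebra A' K),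
      RingHom.ker (algebraMap A' K) = q.asIdeal := by
    refine ⟨AlgebraicClosure q.asIdeal.ResidueField, inferInstance, inferInstance, inferInstance, ?_⟩
    ext a
    rw [RingHom.mem_ker, IsScalarTower.algebraMap_apply A' q.asIdeal.ResidueField (AlgebraicClosure q.asIdeal.ResidueField),
      map_eq_zero_iff _ (algebraMap q.asIdeal.ResidueField _).injective, Ideal.algebraMap_residueField_eq_zero]
  letI : Algebra A K := ((algebraMap A' K).comp (algebraMap A A')).toAlgebra
  haveI : IsScalarTower A A' K := IsScalarTower.of_algebraMap_eq fun a => rfl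
  obtain ⟨χ, hχ⟩ := exists_extension ((Algebra.ofId A K).comp (lawMap F))
  let r : Fin d → K := fun i =>
    Algebra.TensorProduct.lift (IsScalarTower.toAlgHom A A' K) (psi χ i) (fun _ _ => Commute.all _ _) fP
  have hpol : Pol.map (algebraMap A' K) = ∏ i, (Polynomial.X - Polynomial.C (r i)) := by
    refine Polynomial.funext fun t => ?_
    let φ : S →ₐ[A] K := (Polynomial.aeval t).restrictScalars A
    have h1 := point_eq_prod F (Algebra.ofId A K) χ hχ S φ y
    have h2 : ∀ z : S ⊗[A] A, Algebra.TensorProduct.lift φ (Algebra.ofId A K) (fun _ _ => Commute.all _ _) z =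
        φ (TensorProduct.rid A S z) := by
      intro z
      induction z using TensorProduct.induction_on with
      | zero => simp
      | add z z' hz hz' => simp only [map_add, hz, hz']
      | tmul s a =>
        rw [Algebra.TensorProduct.lift_tmul, TensorProduct.rid_tmul, map_smul, Algebra.smul_def, mul_comm]
        rfl
    rw [h2] at h1
    rw [Polynomial.eval_map_algebraMap, Polynomial.eval_prod]
    refine h1.trans (Finset.prod_congr rfl fun i _ => ?_)
    rw [map_sub, Algebra.TensorProduct.lift_tmul, map_one, mul_one, Polynomial.eval_sub, Polynomial.eval_X, Polynomial.eval_C]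
    congr 1
    · simp [φ, S]
    · have : ∀ w : A' ⊗[A] MvPolynomial B A, Algebra.TensorProduct.lift φ (psi χ i) (fun _ _ => Commute.all _ _)
          (Algebra.TensorProduct.map (IsScalarTower.toAlgHom A A' S) (AlgHom.id A _) w) =
          Algebra.TensorProduct.lift (IsScalarTower.toAlgHom A A' K) (psi χ i) (fun _ _ => Commute.all _ _) w := by
        intro w
        induction w using TensorProduct.induction_on with
        | zero => simp
        | add w w' hw hw' => simp only [map_add, hw, hw']
        | tmul a p => simp [φ, S]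
      exact this fP
  have hcoef : (∀ l < d, Pol.coeff l ∈ q.asIdeal) ↔ ∀ i, r i = 0 := by
    constructor
    · intro h i
      have hdeg := natDegree_prodX_le r
      have h0 : (Polynomial.eval (r i) (∏ i, (Polynomial.X - Polynomial.C (r i)))) = 0 := by
        rw [Polynomial.eval_prod]
        exact Finset.prod_eq_zero (Finset.mem_univ i) (by simp)
      rw [Polynomial.eval_eq_sum_range' (Nat.lt_succ_of_le hdeg), Finset.sum_range_succ] at h0
      have htop : (∏ i, (Polynomial.X - Polynomial.C (r i))).coeff d = 1 := by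
        have hm : (∏ i, (Polynomial.X - Polynomial.C (r i))).Monic :=
          Polynomial.monic_prod_of_monic _ _ fun i _ => Polynomial.monic_X_sub_C _
        have hn : (∏ i, (Polynomial.X - Polynomial.C (r i))).natDegree = d := by
          rw [Polynomial.natDegree_prod_of_monic _ _ fun i _ => Polynomial.monic_X_sub_C _]
          simp
        simpa [hn] using hm.coeff_natDegree
      rw [htop, Finset.sum_eq_zero (fun l hl => by
        rw [← hpol, Polynomial.coeff_map, (RingHom.mem_ker.mp (hK ▸ h l (Finset.mem_range.mp hl))), zero_mul]),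
        zero_add, one_mul] at h0
      exact eq_zero_of_pow_eq_zero h0
    · intro h l hl
      have := congrArg (Polynomial.coeff · l) hpol
      simp only [Polynomial.coeff_map, h, map_zero, sub_zero, Finset.prod_const, Finset.card_univ, Fintype.card_fin,
        Polynomial.coeff_X_pow, hl.ne, if_false] at this
      rw [← hK]
      exact this
  have hlift : ∀ (g : A' ⊗[A] PolLaw.image F.law →ₐ[A'] K) (i : Fin d),
      ((g.restrictScalars A).comp Algebra.TensorProduct.includeRight).comp (toImage F) = psi χ i →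
      g ((toImage F).toLinearMap.lTensor A' fP) = r i := by
    intro g i h
    suffices ∀ w, g ((toImage F).toLinearMap.lTensor A' w) =
        Algebra.TensorProduct.lift (IsScalarTower.toAlgHom A A' K) (psi χ i) (fun _ _ => Commute.all _ _) w from this fP
    intro w
    induction w using TensorProduct.induction_on with
    | zero => simp
    | add w w' hw hw' => simp only [map_add, hw, hw']
    | tmul a p =>
      rw [LinearMap.lTensor_tmul, Algebra.TensorProduct.lift_tmul, ← h, ← mul_one a,
        ← one_mul ((toImage F).toLinearMap p), ← Algebra.TensorProduct.tmul_mul_tmul, map_mul, mul_one]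
      congr 1
      exact g.commutes a
  constructor
  · rintro ⟨Q, hQ, rfl⟩
    by_contra hc
    push Not at hc
    obtain ⟨g, hg⟩ := exists_geom_point F A' Q.asIdeal K hK
    obtain ⟨i, hi⟩ := exists_psi_eq' F χ hχ ((g.restrictScalars A).comp Algebra.TensorProduct.includeRight)
    exact hQ (hg ▸ RingHom.mem_ker.mpr ((hlift g i hi).trans (hcoef.mp hc i)))
  · rintro ⟨l, hl, hlq⟩
    obtain ⟨i, hi⟩ : ∃ i, r i ≠ 0 := by
      by_contra h
      push Not at h
      exact hlq (hcoef.mpr h l hl)
    obtain ⟨h, hh⟩ := exists_pointHom F χ hχ i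
    let g : A' ⊗[A] PolLaw.image F.law →ₐ[A'] K :=
      Algebra.TensorProduct.lift (Algebra.ofId A' K) h (fun _ _ => Commute.all _ _)
    have hg : ((g.restrictScalars A).comp Algebra.TensorProduct.includeRight).comp (toImage F) = psi χ i := by
      rw [← hh]
      ext p
      simp [g]
    refine ⟨⟨RingHom.ker g, RingHom.ker_isPrime _⟩, fun hmem => hi ((hlift g i hg).symm.trans hmem), PrimeSpectrum.ext ?_⟩
    show (RingHom.ker g).comap (algebraMap A' _) = q.asIdeal
    rw [← hK]
    ext a
    rw [Ideal.mem_comap, RingHom.mem_ker, RingHom.mem_ker, g.commutes]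

theorem isOpenMap : IsOpenMap (PrimeSpectrum.comap (algebraMap A' (A' ⊗[A] PolLaw.image F.law))) := by
  rw [PrimeSpectrum.isTopologicalBasis_basic_opens.isOpenMap_iff]
  rintro _ ⟨f, rfl⟩
  obtain ⟨c, hc⟩ := exists_nonvanishing F A' f
  have : PrimeSpectrum.comap (algebraMap A' (A' ⊗[A] PolLaw.image F.law)) '' (PrimeSpectrum.basicOpen f : Set _) =
      ⋃ l, ⋃ (_ : l < d), (PrimeSpectrum.basicOpen (c l) : Set _) := by
    ext q
    rw [hc q]
    simp
  rw [this]
  exact isOpen_iUnion fun l => isOpen_iUnion fun _ => PrimeSpectrum.isOpen_basicOpen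

theorem generalizingMap : GeneralizingMap (PrimeSpectrum.comap (algebraMap A' (A' ⊗[A] PolLaw.image F.law))) := by
  classical
  intro Q q' h
  by_contra hno
  have hS : ∀ Q' ∈ (fibre_finite F A' q').toFinset, ∃ f, f ∈ Q'.asIdeal ∧ f ∉ Q.asIdeal := by
    intro Q' hQ'
    refine SetLike.not_le_iff_exists.mp fun hle => hno ⟨Q', ?_, (fibre_finite F A' q').mem_toFinset.mp hQ'⟩
    exact (PrimeSpectrum.le_iff_specializes Q' Q).mp hle
  choose! f hf hfQ using hS
  let e := ∏ Q' ∈ (fibre_finite F A' q').toFinset, f Q'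
  have he : Q ∈ PrimeSpectrum.basicOpen e := fun hmem => by
    obtain ⟨Q', hQ', hm⟩ := (Q.isPrime.prod_mem_iff).mp hmem
    exact hfQ Q' hQ' hm
  obtain ⟨Q', hQ', hq'⟩ := h.mem_open (isOpenMap F A' _ (PrimeSpectrum.basicOpen e).isOpen) ⟨Q, he, rfl⟩
  have hmem := (fibre_finite F A' q').mem_toFinset.mpr hq'
  exact hQ' (Ideal.mem_of_dvd _ (Finset.dvd_prod_of_mem f hmem) (hf Q' hmem))

end BaseChange

section Self

theorem comap_self_eq : (PrimeSpectrum.comap (algebraMap A (PolLaw.image F.law))) =
    PrimeSpectrum.comap (algebraMap A (A ⊗[A] PolLaw.image F.law)) ∘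
      PrimeSpectrum.homeomorphOfRingEquiv (Algebra.TensorProduct.lid A (PolLaw.image F.law)).toRingEquiv.symm := by
  funext Q
  refine PrimeSpectrum.ext ?_
  ext a
  show algebraMap A (PolLaw.image F.law) a ∈ Q.asIdeal ↔
    Algebra.TensorProduct.lid A (PolLaw.image F.law) (a ⊗ₜ[A] 1) ∈ Q.asIdeal
  rw [Algebra.TensorProduct.lid_tmul, Algebra.algebraMap_eq_smul_one]

theorem fibre_encard_self (q : PrimeSpectrum A) :
    (PrimeSpectrum.comap (algebraMap A (PolLaw.image F.law)) ⁻¹' {q}).encard ≤ (d : ℕ∞) := by
  rw [comap_self_eq, Set.preimage_comp]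
  refine le_trans (le_of_eq ?_) (fibre_encard F A q)
  exact Set.encard_preimage_of_bijective (Homeomorph.bijective _) _

theorem isOpenMap_self : IsOpenMap (PrimeSpectrum.comap (algebraMap A (PolLaw.image F.law))) := by
  rw [comap_self_eq]
  exact (isOpenMap F A).comp (Homeomorph.isOpenMap _)

theorem generalizingMap_self : GeneralizingMap (PrimeSpectrum.comap (algebraMap A (PolLaw.image F.law))) := by
  rw [comap_self_eq]
  exact ((Homeomorph.isOpenEmbedding _).generalizingMap).comp (generalizingMap F A)

theorem isClosedMap_self : IsClosedMap (PrimeSpectrum.comap (algebraMap A (PolLaw.image F.law))) :=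
  PrimeSpectrum.isClosedMap_comap_of_isIntegral _ (image_isIntegral F).isIntegral

end Self

end Groth.Agent.H7Cyc
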