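import Mathlib
import Groth.Prelude.Def_PolLaw
import Groth.Prelude.Def_PolLaw2

set_option linter.all false
set_option autoImplicit false

/-! The generic equations of the kernel of a law on a finite algebra. -/

namespace Groth.Agent.H7Cyc

open scoped TensorProduct
open PolLaw MvPolynomial

universe u

variable {A : Type u} [CommRing A] {B : Type u} [CommRing B] [Algebra A B] {d : ℕ} (F : MulLaw A B A d)

noncomputable def lawVal (R : Type u) [CommSemiring R] [Algebra A R] (x w z : R ⊗[A] B) : R :=
  TensorProduct.rid A R (F.law.toFun' R (x + w * z))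

theorem lawVal_natural {R R' : Type u} [CommSemiring R] [Algebra A R] [CommSemiring R'] [Algebra A R'] (φ : R →ₐ[A] R')
    (x w z : R ⊗[A] B) :
    φ (lawVal F R x w z) = lawVal F R' (Algebra.TensorProduct.map φ (AlgHom.id A B) x)
      (Algebra.TensorProduct.map φ (AlgHom.id A B) w) (Algebra.TensorProduct.map φ (AlgHom.id A B) z) := by
  have h : ∀ y : R ⊗[A] A, φ (TensorProduct.rid A R y) = TensorProduct.rid A R' (φ.toLinearMap.rTensor A y) := by
    intro y
    induction y using TensorProduct.induction_on with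
    | zero => simp
    | tmul r a => simp
    | add y y' hy hy' => simp only [map_add, hy, hy']
  rw [lawVal, h, PolynomialLaw.isCompat_apply', PolLaw.rTensor_algHom_apply, map_add, map_mul]
  rfl

theorem lawVal_zero {R : Type u} [CommSemiring R] [Algebra A R] (x w : R ⊗[A] B) :
    lawVal F R x w 0 = TensorProduct.rid A R (F.law.toFun' R x) := by rw [lawVal, mul_zero, add_zero]

variable {n : ℕ} (q : Fin n → B)

/-- generators tensor variables -/
noncomputable def lin {R : Type u} [CommSemiring R] [Algebra A R] (r : Fin n → R) : R ⊗[A] B := ∑ j, r j ⊗ₜ[A] q j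

theorem exists_lin (hq : Submodule.span A (Set.range q) = ⊤) {R : Type u} [CommSemiring R] [Algebra A R]
    (x : R ⊗[A] B) : ∃ r : Fin n → R, lin q r = x := by
  induction x using TensorProduct.induction_on with
  | zero => exact ⟨0, by simp [lin]⟩
  | tmul s b =>
    obtain ⟨a, ha⟩ := (Submodule.mem_span_range_iff_exists_fun A).mp (show b ∈ Submodule.span A (Set.range q) by
      rw [hq]; exact Submodule.mem_top)
    refine ⟨fun j => a j • s, ?_⟩
    simp only [lin, TensorProduct.smul_tmul, ← TensorProduct.tmul_sum, ha]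
  | add x y hx hy =>
    obtain ⟨r, rfl⟩ := hx
    obtain ⟨r', rfl⟩ := hy
    exact ⟨r + r', by simp [lin, TensorProduct.add_tmul, Finset.sum_add_distrib]⟩

theorem map_lin {R R' : Type u} [CommSemiring R] [Algebra A R] [CommSemiring R'] [Algebra A R'] (φ : R →ₐ[A] R')
    (r : Fin n → R) : Algebra.TensorProduct.map φ (AlgHom.id A B) (lin q r) = lin q (fun j => φ (r j)) := by
  simp [lin, map_sum]

theorem map_smul_id {R R' : Type u} [CommSemiring R] [Algebra A R] [CommSemiring R'] [Algebra A R'] (φ : R →ₐ[A] R')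
    (r : R) (y : R ⊗[A] B) :
    Algebra.TensorProduct.map φ (AlgHom.id A B) (r • y) = φ r • Algebra.TensorProduct.map φ (AlgHom.id A B) y := by
  induction y using TensorProduct.induction_on with
  | zero => simp
  | tmul a b => simp [TensorProduct.smul_tmul']
  | add y y' hy hy' => simp only [smul_add, map_add, hy, hy']

section Gen

variable (A' : Type u) [CommRing A'] [Algebra A A']

/-- the generic value at `z` -/
noncomputable def genVal (z : A' ⊗[A] B) : MvPolynomial (Fin n ⊕ Fin n) A' :=
  lawVal F _ (lin q fun j => X (Sum.inl j)) (lin q fun j => X (Sum.inr j))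
    (Algebra.TensorProduct.map (IsScalarTower.toAlgHom A A' (MvPolynomial (Fin n ⊕ Fin n) A')) (AlgHom.id A B) z)

variable {A'}

/-- the degree in the second group of variables -/
def wdeg (k : (Fin n ⊕ Fin n) →₀ ℕ) : ℕ := ∑ j, k (Sum.inr j)

theorem eval_genVal {R : Type u} [CommSemiring R] [Algebra A R] [Algebra A' R] [IsScalarTower A A' R]
    (r r' : Fin n → R) (z : A' ⊗[A] B) :
    MvPolynomial.aeval (Sum.elim r r') (genVal F q A' z) = lawVal F R (lin q r) (lin q r')
      (Algebra.TensorProduct.map (IsScalarTower.toAlgHom A A' R) (AlgHom.id A B) z) := by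
  let φ : MvPolynomial (Fin n ⊕ Fin n) A' →ₐ[A] R := (MvPolynomial.aeval (Sum.elim r r')).restrictScalars A
  show φ (lawVal F _ _ _ _) = _
  rw [lawVal_natural, map_lin, map_lin]
  congr 1
  · simp [φ]
  · simp [φ]
  · induction z using TensorProduct.induction_on with
    | zero => simp
    | tmul a b => simp [φ]
    | add z z' hz hz' => simp only [map_add, hz, hz']

theorem coeff_genVal_map {A'' : Type u} [CommRing A''] [Algebra A A''] (ψ : A' →ₐ[A] A'') (z : A' ⊗[A] B)
    (k : (Fin n ⊕ Fin n) →₀ ℕ) :
    (genVal F q A'' (Algebra.TensorProduct.map ψ (AlgHom.id A B) z)).coeff k = ψ ((genVal F q A' z).coeff k) := by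
  rw [show ψ ((genVal F q A' z).coeff k) = (MvPolynomial.map ψ.toRingHom (genVal F q A' z)).coeff k from
    (coeff_map ψ.toRingHom _ k).symm]
  congr 1
  letI : Algebra A' (MvPolynomial (Fin n ⊕ Fin n) A'') := ((C : A'' →+* _).comp ψ.toRingHom).toAlgebra
  haveI : IsScalarTower A A' (MvPolynomial (Fin n ⊕ Fin n) A'') := IsScalarTower.of_algebraMap_eq fun a => by
    show _ = C (ψ (algebraMap A A' a))
    rw [ψ.commutes]
    rfl
  have h := eval_genVal F q (R := MvPolynomial (Fin n ⊕ Fin n) A'') (fun j => X (Sum.inl j)) (fun j => X (Sum.inr j)) z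
  refine Eq.trans ?_ (h.symm.trans ?_)
  · rw [genVal]
    congr 1
    clear h
    induction z using TensorProduct.induction_on with
    | zero => simp
    | tmul a b =>
      simp only [Algebra.TensorProduct.map_tmul]
      rfl
    | add z z' hz hz' => simp only [map_add, hz, hz']
  · generalize genVal F q A' z = p
    induction p using MvPolynomial.induction_on with
    | C a =>
      rw [aeval_C, map_C]
      rfl
    | add p p' hp hp' => simp only [map_add, hp, hp']
    | mul_X p i hp =>
      rw [map_mul, map_mul, hp, aeval_X, map_X]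
      cases i <;> rfl

theorem coeff_genVal_smul (m : A') (z : A' ⊗[A] B) (k : (Fin n ⊕ Fin n) →₀ ℕ) :
    (genVal F q A' (m • z)).coeff k = m ^ wdeg k * (genVal F q A' z).coeff k := by
  let sc : MvPolynomial (Fin n ⊕ Fin n) A' →ₐ[A'] MvPolynomial (Fin n ⊕ Fin n) A' :=
    MvPolynomial.aeval (Sum.elim (fun j => (X (Sum.inl j) : MvPolynomial (Fin n ⊕ Fin n) A'))
      (fun j => (C m : MvPolynomial (Fin n ⊕ Fin n) A') * X (Sum.inr j)))
  have h : sc (genVal F q A' z) = genVal F q A' (m • z) := by
    rw [eval_genVal, genVal, lawVal, lawVal]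
    congr 2
    have e : lin (A := A) q (fun j => (C m : MvPolynomial (Fin n ⊕ Fin n) A') * X (Sum.inr j)) =
        (C m : MvPolynomial (Fin n ⊕ Fin n) A') • lin (A := A) q (fun j => (X (Sum.inr j) : MvPolynomial (Fin n ⊕ Fin n) A')) := by
      simp [lin, Finset.smul_sum, TensorProduct.smul_tmul']
    rw [e]
    congr 1
    induction z using TensorProduct.induction_on with
    | zero => simp
    | tmul a b =>
      simp only [TensorProduct.smul_tmul', Algebra.TensorProduct.map_tmul, AlgHom.id_apply, smul_eq_mul,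
        IsScalarTower.coe_toAlgHom', map_mul, MvPolynomial.algebraMap_eq]
      rw [smul_mul_assoc, ← mul_smul_comm, TensorProduct.smul_tmul', smul_eq_mul]
    | add z z' hz hz' => simp only [smul_add, map_add, mul_add, hz, hz']
  rw [← h]
  generalize genVal F q A' z = p
  have hsc : ∀ (k' : (Fin n ⊕ Fin n) →₀ ℕ) (a : A'), sc (monomial k' a) = monomial k' (m ^ wdeg k' * a) := by
    intro k' a
    rw [aeval_monomial, Finsupp.prod_fintype _ _ (fun _ => pow_zero _), Fintype.prod_sum_type,
      monomial_eq (s := k'), Finsupp.prod_fintype _ _ (fun _ => pow_zero _), Fintype.prod_sum_type, map_mul, map_pow,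
      MvPolynomial.algebraMap_eq, wdeg, ← Finset.prod_pow_eq_pow_sum]
    simp only [Sum.elim_inl, Sum.elim_inr, mul_pow, Finset.prod_mul_distrib]
    ring
  induction p using MvPolynomial.induction_on' with
  | monomial k' a =>
    rw [hsc, coeff_monomial, coeff_monomial]
    split_ifs with e
    · rw [e]
    · rw [mul_zero]
  | add p p' hp hp' => simp only [map_add, coeff_add, hp, hp', mul_add]

theorem coeff_genVal_zero {k : (Fin n ⊕ Fin n) →₀ ℕ} (hk : wdeg k ≠ 0) : (genVal F q A' 0).coeff k = 0 := by
  have := coeff_genVal_smul F q (0 : A') (0 : A' ⊗[A] B) k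
  rwa [smul_zero, zero_pow hk, zero_mul] at this

theorem genVal_eq_zero_iff (z : A' ⊗[A] B) :
    genVal F q A' z = genVal F q A' 0 ↔ ∀ k, wdeg k ≠ 0 → (genVal F q A' z).coeff k = 0 := by
  constructor
  · intro h k hk
    rw [h, coeff_genVal_zero F q hk]
  · intro h
    ext k
    by_cases hk : wdeg k = 0
    · have := coeff_genVal_smul F q (0 : A') z k
      rwa [zero_smul, hk, pow_zero, one_mul, eq_comm] at this
    · rw [h k hk, coeff_genVal_zero F q hk]

/-- the equations of the kernel -/
theorem mem_kerBC_iff (hq : Submodule.span A (Set.range q) = ⊤) (z : A' ⊗[A] B) :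
    z ∈ PolLaw.kerBC F.law A' ↔ ∀ k, wdeg k ≠ 0 → (genVal F q A' z).coeff k = 0 := by
  rw [← genVal_eq_zero_iff]
  constructor
  · intro hz
    simp only [genVal, lawVal]
    rw [hz]
    simp
  · intro h R _ _ _ _ x w
    obtain ⟨r, rfl⟩ := exists_lin q hq x
    obtain ⟨r', rfl⟩ := exists_lin q hq w
    have := congrArg (MvPolynomial.aeval (Sum.elim r r')) h
    rw [eval_genVal, eval_genVal, map_zero, lawVal_zero, lawVal] at this
    exact (TensorProduct.rid A R).injective this

end Gen

section Linear

variable {A' : Type u} [CommRing A'] [Algebra A A']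

/-- evaluation in dual numbers -/
noncomputable def dEval (v : Fin 2 → A') : MvPolynomial (Fin 2) A' →ₐ[A'] DualNumber A' :=
  MvPolynomial.aeval fun i => TrivSqZeroExt.inr (v i)

theorem fst_dEval (v : Fin 2 → A') (p : MvPolynomial (Fin 2) A') :
    TrivSqZeroExt.fst (dEval v p) = MvPolynomial.constantCoeff p := by
  induction p using MvPolynomial.induction_on with
  | C a => simp [dEval, TrivSqZeroExt.algebraMap_eq_inl]
  | add p q hp hq => simp [hp, hq]
  | mul_X p i hp => simp [dEval]

theorem snd_dEval_add (v v' : Fin 2 → A') (p : MvPolynomial (Fin 2) A') :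
    TrivSqZeroExt.snd (dEval (v + v') p) = TrivSqZeroExt.snd (dEval v p) + TrivSqZeroExt.snd (dEval v' p) := by
  induction p using MvPolynomial.induction_on with
  | C a => simp [dEval, TrivSqZeroExt.algebraMap_eq_inl]
  | add p q hp hq =>
    simp only [map_add, TrivSqZeroExt.snd_add, hp, hq]
    abel
  | mul_X p i hp =>
    have e : ∀ u : Fin 2 → A', dEval u (p * X i) = dEval u p * TrivSqZeroExt.inr (u i) := fun u => by simp [dEval]
    rw [e, e, e, TrivSqZeroExt.snd_mul, TrivSqZeroExt.snd_mul, TrivSqZeroExt.snd_mul]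
    simp [fst_dEval, mul_add]

theorem coeff_genVal_add {k : (Fin n ⊕ Fin n) →₀ ℕ} (hk : wdeg k = 1) (z z' : A' ⊗[A] B) :
    (genVal F q A' (z + z')).coeff k = (genVal F q A' z).coeff k + (genVal F q A' z').coeff k := by
  let P2 := MvPolynomial (Fin 2) A'
  let inc : A' →ₐ[A] P2 := IsScalarTower.toAlgHom A A' P2
  let up := Algebra.TensorProduct.map inc (AlgHom.id A B)
  let w : P2 ⊗[A] B := (X 0 : P2) • up z + (X 1 : P2) • up z'
  let inl' : A' →ₐ[A] DualNumber A' := IsScalarTower.toAlgHom A A' (DualNumber A')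
  have key : ∀ v : Fin 2 → A', TrivSqZeroExt.snd (dEval v ((genVal F q P2 w).coeff k)) =
      (genVal F q A' (v 0 • z + v 1 • z')).coeff k := by
    intro v
    let ψ : P2 →ₐ[A] DualNumber A' := (dEval v).restrictScalars A
    have h1 := coeff_genVal_map F q ψ w k
    have h2 : Algebra.TensorProduct.map ψ (AlgHom.id A B) w =
        (TrivSqZeroExt.inr 1 : DualNumber A') • Algebra.TensorProduct.map inl' (AlgHom.id A B) (v 0 • z + v 1 • z') := by
      have h3 : ∀ (i : Fin 2) (y : A' ⊗[A] B), Algebra.TensorProduct.map ψ (AlgHom.id A B) ((X i : P2) • up y) =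
          (TrivSqZeroExt.inr 1 : DualNumber A') • Algebra.TensorProduct.map inl' (AlgHom.id A B) (v i • y) := by
        intro i y
        induction y using TensorProduct.induction_on with
        | zero => simp
        | tmul a b =>
          simp only [up, TensorProduct.smul_tmul', Algebra.TensorProduct.map_tmul, AlgHom.id_apply, smul_eq_mul, map_mul]
          congr 1
          have e1 : ψ (X i) = TrivSqZeroExt.inr (v i) := MvPolynomial.aeval_X _ i
          have e2 : ψ (inc a) = TrivSqZeroExt.inl a := (dEval v).commutes a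
          rw [e1, e2]
          simp [inl', TrivSqZeroExt.algebraMap_eq_inl]
          ext <;> simp [mul_comm]
        | add y y' hy hy' => simp only [smul_add, map_add, hy, hy']
      simp only [w, map_add, h3, smul_add]
    rw [h2, coeff_genVal_smul, hk, pow_one, coeff_genVal_map] at h1
    show TrivSqZeroExt.snd (ψ _) = _
    rw [← h1]
    simp [inl', TrivSqZeroExt.algebraMap_eq_inl]
  have h11 := key ![1, 1]
  rw [show (![1, 1] : Fin 2 → A') = ![1, 0] + ![0, 1] by simp, snd_dEval_add, key, key] at h11
  simpa using h11.symm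

/-- the linearised equation -/
noncomputable def linEq (k : (Fin n ⊕ Fin n) →₀ ℕ) (hk : wdeg k = 1) : A' ⊗[A] B →ₗ[A'] A' where
  toFun z := (genVal F q A' z).coeff k
  map_add' := coeff_genVal_add F q hk
  map_smul' a z := by rw [coeff_genVal_smul, hk, pow_one, RingHom.id_apply, smul_eq_mul]

theorem dual_deriv {R : Type u} [CommRing R] (G : Polynomial R) :
    TrivSqZeroExt.snd (Polynomial.aeval (TrivSqZeroExt.inl Polynomial.X + DualNumber.eps : DualNumber (Polynomial R)) G) =
      Polynomial.derivative G ∧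
    TrivSqZeroExt.fst (Polynomial.aeval (TrivSqZeroExt.inl Polynomial.X + DualNumber.eps : DualNumber (Polynomial R)) G) = G := by
  induction G using Polynomial.induction_on with
  | C a => simp [TrivSqZeroExt.algebraMap_eq_inl']
  | add p q hp hq => simp [hp.1, hp.2, hq.1, hq.2]
  | monomial m a hp =>
    rw [pow_succ, ← mul_assoc, map_mul, Polynomial.aeval_X, Polynomial.derivative_mul, Polynomial.derivative_X]
    generalize Polynomial.C a * Polynomial.X ^ m = G at hp ⊢
    refine ⟨?_, ?_⟩
    · rw [TrivSqZeroExt.snd_mul, hp.1, hp.2]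
      simp [mul_comm]
      ring
    · simp [hp.2]

theorem eq_C_of_derivative [Algebra ℚ A] {R : Type u} [CommRing R] [Algebra A R] (G : Polynomial R)
    (h : Polynomial.derivative G = 0) : G = Polynomial.C (G.coeff 0) := by
  ext l
  cases l with
  | zero => simp
  | succ l =>
    rw [Polynomial.coeff_C_succ]
    have h1 := congrArg (Polynomial.coeff · l) h
    simp only [Polynomial.coeff_derivative, Polynomial.coeff_zero] at h1
    have hu : IsUnit ((l : R) + 1) := by
      have h2 : IsUnit ((l : ℚ) + 1) := isUnit_iff_ne_zero.mpr (by positivity)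
      have h3 := (h2.map (algebraMap ℚ A)).map (algebraMap A R)
      simpa using h3
    exact (hu.mul_left_eq_zero).mp h1

theorem infinitesimal_core (hq : Submodule.span A (Set.range q) = ⊤) {R D : Type u} [CommRing R] [CommRing D] [Algebra A R]
    [Algebra A D] [Algebra A' R] [Algebra A' D] [IsScalarTower A A' R] [IsScalarTower A A' D] (ψ inl : R →ₐ[A] D)
    (hinl : ∀ a : A', inl (algebraMap A' R a) = algebraMap A' D a)
    (hψ : ∀ a : A', ψ (algebraMap A' R a) = algebraMap A' D a)
    (ε : D) (hε : ε * ε = 0) (t : R) (ht : ψ t = inl t + ε) (x : R ⊗[A] B)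
    (hx : Algebra.TensorProduct.map ψ (AlgHom.id A B) x = Algebra.TensorProduct.map inl (AlgHom.id A B) x)
    (s : Fin n → R) (hs : ∀ j, ψ (s j) = inl (s j)) (z : A' ⊗[A] B)
    (h : ∀ k, wdeg k = 1 → (genVal F q A' z).coeff k = 0) :
    ∃ y : R, ψ (lawVal F R x (lin q s) (t • Algebra.TensorProduct.map (IsScalarTower.toAlgHom A A' R) (AlgHom.id A B) z)) = inl y := by
  let u := Algebra.TensorProduct.map (IsScalarTower.toAlgHom A A' R) (AlgHom.id A B) z
  let uD := Algebra.TensorProduct.map (IsScalarTower.toAlgHom A A' D) (AlgHom.id A B) z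
  have hu : ∀ φ : R →ₐ[A] D, (∀ a : A', φ (algebraMap A' R a) = algebraMap A' D a) →
      Algebra.TensorProduct.map φ (AlgHom.id A B) u = uD := by
    intro φ hφ
    show Algebra.TensorProduct.map φ (AlgHom.id A B) (Algebra.TensorProduct.map (IsScalarTower.toAlgHom A A' R) (AlgHom.id A B) z) =
      Algebra.TensorProduct.map (IsScalarTower.toAlgHom A A' D) (AlgHom.id A B) z
    clear h
    induction z using TensorProduct.induction_on with
    | zero => simp
    | tmul a b => simp [hφ]
    | add y y' hy hy' => simp only [map_add, hy, hy']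
  obtain ⟨r, hr⟩ := exists_lin q hq (x + lin q s * (t • u))
  let ev : Fin n ⊕ Fin n → D := Sum.elim (fun j => inl (r j)) (fun j => ε * inl (s j))
  have hev : MvPolynomial.aeval ev (genVal F q A' z) = ψ (lawVal F R x (lin q s) (t • u)) := by
    rw [eval_genVal, lawVal_natural, hx, map_smul_id, hu ψ hψ, map_lin, lawVal, lawVal]
    congr 2
    have hw : lin (A := A) q (fun j => ε * inl (s j)) = ε • Algebra.TensorProduct.map inl (AlgHom.id A B) (lin q s) := by
      rw [map_lin]
      simp [lin, Finset.smul_sum, TensorProduct.smul_tmul']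
    rw [hw, ← map_lin q inl r, hr, map_add, map_mul, map_smul_id, hu inl hinl,
      show lin q (fun j => ψ (s j)) = Algebra.TensorProduct.map inl (AlgHom.id A B) (lin q s) by rw [map_lin]; simp only [hs],
      ht, add_assoc, smul_mul_assoc, add_smul, mul_add, mul_smul_comm, mul_smul_comm]
  rw [← hev, MvPolynomial.as_sum (genVal F q A' z), map_sum]
  suffices hmem : ∀ k, MvPolynomial.aeval ev (monomial k ((genVal F q A' z).coeff k)) ∈ inl.range by
    obtain ⟨y, hy⟩ := sum_mem fun k (_ : k ∈ (genVal F q A' z).support) => hmem k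
    exact ⟨y, hy.symm⟩
  intro k
  rw [aeval_monomial, Finsupp.prod_fintype _ _ (fun _ => pow_zero _), Fintype.prod_sum_type]
  rcases Nat.lt_trichotomy (wdeg k) 1 with h0 | h1 | h2
  · refine mul_mem ⟨_, hinl _⟩ (mul_mem (prod_mem fun j _ => pow_mem (show ev (Sum.inl j) ∈ inl.range from ⟨r j, rfl⟩) _) ?_)
    refine prod_mem fun j _ => ?_
    rw [(Finset.sum_eq_zero_iff.mp (show wdeg k = 0 by omega)) j (Finset.mem_univ j), pow_zero]
    exact one_mem _
  · rw [h k h1, map_zero, zero_mul]
    exact zero_mem _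
  · simp only [ev, Sum.elim_inr, mul_pow, Finset.prod_mul_distrib, Finset.prod_pow_eq_pow_sum]
    rw [show ∑ j, k (Sum.inr j) = (wdeg k - 2) + 2 by unfold wdeg at h2 ⊢; omega, pow_add, pow_two, hε, mul_zero,
      zero_mul, mul_zero, mul_zero]
    exact zero_mem _

/-- over a `ℚ`-algebra the linear equations suffice -/
theorem mem_kerBC_iff_linear [Algebra ℚ A] (hq : Submodule.span A (Set.range q) = ⊤) (z : A' ⊗[A] B) :
    z ∈ PolLaw.kerBC F.law A' ↔ ∀ k, wdeg k = 1 → (genVal F q A' z).coeff k = 0 := by
  rw [mem_kerBC_iff F q hq]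
  refine ⟨fun h k hk => h k (by omega), fun h => ?_⟩
  rw [← genVal_eq_zero_iff]
  let sx : Fin n → Polynomial (MvPolynomial (Fin n ⊕ Fin n) A') := fun j => Polynomial.C (X (Sum.inl j))
  let sw : Fin n → Polynomial (MvPolynomial (Fin n ⊕ Fin n) A') := fun j => Polynomial.C (X (Sum.inr j))
  let u := Algebra.TensorProduct.map (IsScalarTower.toAlgHom A A' (Polynomial (MvPolynomial (Fin n ⊕ Fin n) A')))
    (AlgHom.id A B) z
  let G := lawVal F (Polynomial (MvPolynomial (Fin n ⊕ Fin n) A')) (lin q sx) (lin q sw)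
    ((Polynomial.X : Polynomial (MvPolynomial (Fin n ⊕ Fin n) A')) • u)
  let ψ : Polynomial (MvPolynomial (Fin n ⊕ Fin n) A') →ₐ[A] DualNumber (Polynomial (MvPolynomial (Fin n ⊕ Fin n) A')) :=
    (Polynomial.aeval (TrivSqZeroExt.inl Polynomial.X + DualNumber.eps :
      DualNumber (Polynomial (MvPolynomial (Fin n ⊕ Fin n) A')))).restrictScalars A
  let inlD : Polynomial (MvPolynomial (Fin n ⊕ Fin n) A') →ₐ[A] DualNumber (Polynomial (MvPolynomial (Fin n ⊕ Fin n) A')) :=
    IsScalarTower.toAlgHom A _ _
  obtain ⟨y, hy⟩ := infinitesimal_core F q hq (R := Polynomial (MvPolynomial (Fin n ⊕ Fin n) A'))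
    (D := DualNumber (Polynomial (MvPolynomial (Fin n ⊕ Fin n) A'))) ψ inlD
    (fun a => by simp [inlD, TrivSqZeroExt.algebraMap_eq_inl'])
    (fun a => by simp [ψ, inlD, TrivSqZeroExt.algebraMap_eq_inl', Polynomial.algebraMap_eq, IsScalarTower.algebraMap_apply A' (MvPolynomial (Fin n ⊕ Fin n) A') (Polynomial (MvPolynomial (Fin n ⊕ Fin n) A'))])
    DualNumber.eps DualNumber.eps_mul_eps Polynomial.X (by simp [ψ, inlD, TrivSqZeroExt.algebraMap_eq_inl'])
    (lin q sx) (by
      simp only [lin, map_sum, Algebra.TensorProduct.map_tmul]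
      refine Finset.sum_congr rfl fun j _ => ?_
      congr 1
      simp [ψ, inlD, sx, TrivSqZeroExt.algebraMap_eq_inl'])
    sw (fun j => by simp [ψ, inlD, sw, TrivSqZeroExt.algebraMap_eq_inl']) z h
  have hsnd : Polynomial.derivative G = 0 := by
    rw [← (dual_deriv G).1, show Polynomial.aeval _ G = _ from hy]
    exact TrivSqZeroExt.snd_inl _ _
  have hG := eq_C_of_derivative (A := A) G hsnd
  have he : ∀ t : A', MvPolynomial.C (σ := Fin n ⊕ Fin n) t = MvPolynomial.C t → G.eval (MvPolynomial.C t) =
      genVal F q A' (t • z) := by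
    intro t _
    let e : Polynomial (MvPolynomial (Fin n ⊕ Fin n) A') →ₐ[A] MvPolynomial (Fin n ⊕ Fin n) A' :=
      (Polynomial.aeval (MvPolynomial.C t)).restrictScalars A
    rw [← Polynomial.coe_aeval_eq_eval]
    show e (lawVal F _ _ _ _) = _
    rw [lawVal_natural, map_lin, map_lin, map_smul_id, genVal]
    congr 1
    · simp [e, sx]
    · simp [e, sw]
    · rw [show e Polynomial.X = MvPolynomial.C t from Polynomial.aeval_X _]
      clear h hy hG hsnd
      simp only [u]
      clear_value u
      clear G u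
      induction z using TensorProduct.induction_on with
      | zero => simp
      | tmul a b =>
        simp [e, TensorProduct.smul_tmul', smul_eq_mul, IsScalarTower.algebraMap_apply A' (MvPolynomial (Fin n ⊕ Fin n) A') (Polynomial (MvPolynomial (Fin n ⊕ Fin n) A'))]
      | add y y' hy hy' => simp only [map_add, smul_add] at hy hy' ⊢; rw [hy, hy']
  have h1 := he 1 rfl
  have h0 := he 0 rfl
  rw [hG, Polynomial.eval_C] at h1 h0
  rw [one_smul] at h1
  rw [zero_smul] at h0
  exact h1.symm.trans h0

end Linear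

theorem mem_ker_iff_kerBC (b : B) : b ∈ PolLaw.ker F.law ↔ (1 : A) ⊗ₜ[A] b ∈ PolLaw.kerBC F.law A := by
  constructor
  · intro hb R _ i1 i2 i3 x w
    obtain rfl : i1 = i2 := Algebra.algebra_ext _ _ fun a =>
      @IsScalarTower.algebraMap_apply A A R _ _ _ _ i2 i1 i3 a
    rw [Algebra.TensorProduct.map_tmul, map_one]
    exact hb R x w
  · intro hb R _ _ x w
    haveI : IsScalarTower A A R := IsScalarTower.of_algebraMap_eq fun a => rfl
    have := hb R x w
    rwa [Algebra.TensorProduct.map_tmul, map_one] at this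

theorem smul_one_tmul (A' : Type u) [CommRing A'] [Algebra A A'] (b : B) (a : A) :
    (1 : A') ⊗ₜ[A] (a • b) = algebraMap A A' a • ((1 : A') ⊗ₜ[A] b) := by
  rw [← TensorProduct.smul_tmul, TensorProduct.smul_tmul', smul_eq_mul, mul_one, Algebra.smul_def, mul_one]

end Groth.Agent.H7Cyc
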