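import Groth.Agent.Lib.H7DegLocal
import Mathlib

/-! The locus where a perfect object is a vector bundle in one degree. -/

universe u v w
open CategoryTheory Limits AlgebraicGeometry Opposite TopologicalSpace HomologicalComplex CochainComplex

namespace Groth.Agent.H7DegLocus
open Groth.Agent H7Stalk H7KFlatSheaf H7HasLpull H7LpullCalc H7TorAmp H7PerfPull H7FinFree H7Betti H7DegLocal

attribute [local instance] HasDerivedCategory.standard

variable {X Y : Scheme.{u}}

lemma finLocFree_of_isFree {M : X.Modules} (h : IsFree M) : FlatMod.IsFinLocFree M :=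
  (isFinLocFree_iff M).2 fun _ => ⟨⊤, trivial, h.pullback _⟩

lemma strictlyPerfect_single {M : X.Modules} (hM : FlatMod.IsFinLocFree M) (i : ℤ) :
    DCoh.IsStrictlyPerfect ((single X.Modules (ComplexShape.up ℤ) i).obj M) := by
  have hz : ∀ k, k ≠ i → IsZero (((single X.Modules (ComplexShape.up ℤ) i).obj M).X k) := fun k hk =>
    isZero_single_obj_X _ _ _ _ hk
  refine ⟨⟨i, i, fun k hk => hz k (by omega)⟩, fun k => ?_⟩
  by_cases hk : k = i
  · subst hk; exact finLocFree_of_iso (singleObjXSelf _ _ _).symm hM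
  · exact finLocFree_of_isFree (isFree_of_isZero (hz k hk))

/-- cohomology of a restriction -/
noncomputable def restrHomIso (U : X.Opens) (L : CochainComplex X.Modules ℤ)
    {M : CochainComplex (U : Scheme.{u}).Modules ℤ}
    (e : DerivedCategory.Q.obj ((pullCx U.ι).obj L) ≅ DerivedCategory.Q.obj M) (k : ℤ) :
    (Scheme.Modules.restrictFunctor U.ι).obj (L.homology k) ≅ M.homology k :=
  ((L.sc k).mapHomologyIso (Scheme.Modules.restrictFunctor U.ι)).symm ≪≫
    (HomologicalComplex.homologyFunctor _ _ k).mapIso (cxIso (Scheme.Modules.restrictFunctorIsoPullback U.ι) L) ≪≫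
      ((DerivedCategory.homologyFunctorFactors _ k).app _).symm ≪≫
        (DerivedCategory.homologyFunctor _ k).mapIso e ≪≫ (DerivedCategory.homologyFunctorFactors _ k).app M

lemma pull_free_of_rank (h : Y ⟶ X) {V : X.Modules} {r : ℕ} (hV : FlatMod.IsFinLocFreeOfRank r V) (x : X)
    (hx : ∀ p, h.base p = x) : Nonempty ((Scheme.Modules.pullback h).obj V ≅ FlatMod.freeMod Y r) := by
  obtain ⟨U, hU, ⟨e⟩⟩ := hV x
  have hr : Set.range h.base ⊆ Set.range U.ι.base := by
    rintro _ ⟨p, rfl⟩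
    rw [hx p]
    exact ⟨⟨x, hU⟩, rfl⟩
  let h' := IsOpenImmersion.lift U.ι h hr
  have hh' : h' ≫ U.ι = h := IsOpenImmersion.lift_fac _ _ hr
  exact ⟨(eqToIso (by rw [hh']) ≪≫ ((Scheme.Modules.pullbackComp h' U.ι).app V).symm ≪≫
    (Scheme.Modules.pullback h').mapIso (((Scheme.Modules.restrictFunctorIsoPullback U.ι).app V).symm ≪≫ e) ≪≫
      pullFreeIso h' r)⟩

/-- the locus -/
def locus (K : CochainComplex X.Modules ℤ) (i : ℤ) (r : ℕ) : X.Opens :=
  ⟨{x | ∃ W : X.Opens, x ∈ W ∧ Nonempty (DerivedCategory.Q.obj ((pullCx W.ι).obj K) ≅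
      DerivedCategory.Q.obj ((single (W : Scheme.{u}).Modules (ComplexShape.up ℤ) i).obj (FlatMod.freeMod W r)))}, by
    rw [isOpen_iff_forall_mem_open]
    rintro x ⟨W, hx, hW⟩
    exact ⟨W, fun y hy => ⟨W, hy, hW⟩, W.2, hx⟩⟩

variable {E : DCoh.D X} {K : CochainComplex X.Modules ℤ} (f : Y ⟶ X) [DCoh.HasLpull f] {i : ℤ} {r : ℕ}

theorem iso_of_range (hK : SKF K) (eK : DerivedCategory.Q.obj K ≅ E)
    (hf : Set.range f.base ⊆ (locus K i r : Set X)) :
    ∃ V : Y.Modules, FlatMod.IsFinLocFreeOfRank r V ∧ Nonempty ((DCoh.Lpull f).obj E ≅ (DCoh.inD Y V)⟦-i⟧) := by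
  let L := (pullCx f).obj K
  have hloc : ∀ y : Y, ∃ U : Y.Opens, y ∈ U ∧ Nonempty (DerivedCategory.Q.obj ((pullCx U.ι).obj L) ≅
      DerivedCategory.Q.obj ((single (U : Scheme.{u}).Modules (ComplexShape.up ℤ) i).obj (FlatMod.freeMod U r))) := by
    intro y
    obtain ⟨W, hW, ⟨e⟩⟩ := hf ⟨y, rfl⟩
    let U := f ⁻¹ᵁ W
    let g : (U : Scheme.{u}) ⟶ W := f.resLE W U le_rfl
    refine ⟨U, hW, ⟨DerivedCategory.Q.mapIso (pullCxComp U.ι f (g ≫ W.ι) (f.resLE_comp_ι _).symm K ≪≫
      (pullCxComp g W.ι (g ≫ W.ι) rfl K).symm) ≪≫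
      pullQIso g (H7StalkPull.skf_pullback W.ι hK)
        (skf_of_strictlyPerfect (strictlyPerfect_single (finLocFree_of_isFree ⟨r, ⟨Iso.refl _⟩⟩) i)) e ≪≫
      DerivedCategory.Q.mapIso ((singleMapHomologicalComplex (Scheme.Modules.pullback g) (ComplexShape.up ℤ) i).app _ ≪≫
        (single _ _ i).mapIso (pullFreeIso g r))⟩⟩
  let eH : ∀ k, DCoh.HD ((DCoh.Lpull f).obj E) k ≅ L.homology k := fun k =>
    (DerivedCategory.homologyFunctor _ k).mapIso ((DCoh.Lpull f).mapIso eK.symm ≪≫ lpullIso f hK) ≪≫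
      (DerivedCategory.homologyFunctorFactors _ k).app L
  have hzero : ∀ k, k ≠ i → IsZero (L.homology k) := fun k hk => H7StalkDetect.isZero_of_stalks fun y => by
    obtain ⟨U, hy, ⟨e⟩⟩ := hloc y
    exact LExtZero.isZero_stalk_of_restrict U.ι
      ((isZero_single_obj_homology (ComplexShape.up ℤ) i _ k hk).of_iso (restrHomIso U L e k)) ⟨⟨y, hy⟩, rfl⟩
  have : ((DCoh.Lpull f).obj E).IsGE i := (DerivedCategory.isGE_iff _ i).2 fun k hk =>
    (hzero k (by omega)).of_iso (eH k)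
  have : ((DCoh.Lpull f).obj E).IsLE i := (DerivedCategory.isLE_iff _ i).2 fun k hk =>
    (hzero k (by omega)).of_iso (eH k)
  obtain ⟨V, ⟨eV⟩⟩ := DerivedCategory.exists_iso_singleFunctor_obj_of_isGE_of_isLE ((DCoh.Lpull f).obj E) i
  refine ⟨V, fun y => ?_, ⟨eV ≪≫ (((DerivedCategory.singleFunctors Y.Modules).shiftIso (-i) i 0 (by omega)).app V).symm⟩⟩
  obtain ⟨U, hy, ⟨e⟩⟩ := hloc y
  exact ⟨U, hy, ⟨(Scheme.Modules.restrictFunctor U.ι).mapIso
    (((DerivedCategory.singleFunctorCompHomologyFunctorIso Y.Modules i).app V).symm ≪≫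
      (DerivedCategory.homologyFunctor _ i).mapIso eV.symm ≪≫ eH i) ≪≫ restrHomIso U L e i ≪≫
        singleObjHomologySelfIso _ i _⟩⟩

theorem range_of_iso (hE : DCoh.IsPerfect E) (hK : SKF K) (eK : DerivedCategory.Q.obj K ≅ E) {V : Y.Modules}
    (hV : FlatMod.IsFinLocFreeOfRank r V) (eV : (DCoh.Lpull f).obj E ≅ (DCoh.inD Y V)⟦-i⟧) :
    Set.range f.base ⊆ (locus K i r : Set X) := by
  rintro _ ⟨y, rfl⟩
  -- a model with free terms on an affine neighbourhood
  obtain ⟨V₀, P, hx, hP, ⟨eP⟩⟩ := exists_local_model hE eK (f.base y)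
  obtain ⟨a, b, hab⟩ := hP.1
  choose O hO hfree using fun k : Finset.Icc a b => (isFinLocFree_iff (P.X k)).1 (hP.2 k) ⟨f.base y, hx⟩
  let O' : (V₀ : Scheme.{u}).Opens := ⟨⋂ k, (O k : Set (V₀ : Scheme.{u})), isOpen_iInter_of_finite fun k => (O k).2⟩
  obtain ⟨A, hA, hxA, hAO⟩ := exists_isAffineOpen_mem_and_subset (U := O') (Set.mem_iInter.2 hO)
  have : IsAffine (A : Scheme.{u}) := hA
  let j := A.ι ≫ V₀.ι
  let P' := (pullCx A.ι).obj P
  have hP' : DCoh.IsStrictlyPerfect P' := strictlyPerfect_pullback _ hP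
  have hab' : DCoh.VanishesOutside P' a b := fun k hk => (Scheme.Modules.pullback A.ι).map_isZero (hab k hk)
  have hfree' : ∀ k, IsFree (P'.X k) := fun k => by
    by_cases hk : k ∈ Finset.Icc a b
    · exact IsFree.mono (fun z hz => Set.mem_iInter.1 (hAO hz) ⟨k, hk⟩) (hfree ⟨k, hk⟩)
    · exact isFree_of_isZero (hab' k (by simp only [Finset.mem_Icc] at hk; omega))
  let eA : DerivedCategory.Q.obj ((pullCx j).obj K) ≅ DerivedCategory.Q.obj P' :=
    (DerivedCategory.Q.mapIso (pullCxComp A.ι V₀.ι j rfl K)).symm ≪≫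
      pullQIso A.ι (H7StalkPull.skf_pullback _ hK) (skf_of_strictlyPerfect hP) eP
  -- the residue point
  let hy := Y.fromSpecResidueField y
  have hr : Set.range (hy ≫ f).base ⊆ Set.range j.base := by
    rintro _ ⟨p, rfl⟩
    refine ⟨⟨⟨f.base y, hx⟩, hxA⟩, ?_⟩
    exact (congrArg f.base (Scheme.fromSpecResidueField_apply y p)).symm
  let q := IsOpenImmersion.lift j (hy ≫ f) hr
  have hq : q ≫ j = hy ≫ f := IsOpenImmersion.lift_fac _ _ hr
  let p : Spec (Y.residueField y) := IsLocalRing.closedPoint (Y.residueField y)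
  letI := (isField_stalk_specField (Y.residueField y) p).toField
  let Sg := (single Y.Modules (ComplexShape.up ℤ) i).obj V
  have hSg : SKF Sg := skf_of_strictlyPerfect (strictlyPerfect_single (fun z => by
    obtain ⟨U, hU, hUe⟩ := hV z; exact ⟨U, r, hU, hUe⟩) i)
  obtain ⟨eV₀⟩ := pull_free_of_rank hy hV y (Scheme.fromSpecResidueField_apply y)
  let e₀ : DerivedCategory.Q.obj ((pullCx f).obj K) ≅ DerivedCategory.Q.obj Sg :=
    (lpullIso f hK).symm ≪≫ (DCoh.Lpull f).mapIso eK ≪≫ eV ≪≫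
      ((DerivedCategory.singleFunctors Y.Modules).shiftIso (-i) i 0 (by omega)).app V ≪≫
        (DerivedCategory.singleFunctorIsoCompQ Y.Modules i).app V
  let e₁ : DerivedCategory.Q.obj ((pullCx q).obj P') ≅ DerivedCategory.Q.obj
      ((single _ (ComplexShape.up ℤ) i).obj (FlatMod.freeMod (Spec (Y.residueField y)) r)) :=
    (pullQIso q (H7StalkPull.skf_pullback j hK) (skf_of_strictlyPerfect hP') eA).symm ≪≫
      DerivedCategory.Q.mapIso (pullCxComp q j (hy ≫ f) hq K ≪≫ (pullCxComp hy f (hy ≫ f) rfl K).symm) ≪≫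
      pullQIso hy (H7StalkPull.skf_pullback f hK) hSg e₀ ≪≫
      DerivedCategory.Q.mapIso ((singleMapHomologicalComplex (Scheme.Modules.pullback hy) (ComplexShape.up ℤ) i).app _ ≪≫
        (single _ _ i).mapIso eV₀)
  let St := DerSch.stalkFunctor (Spec (Y.residueField y)) p
  let φ := (q.stalkMap p).hom
  let eF : ∀ k, (((ModuleCat.extendScalars φ).mapHomologicalComplex (ComplexShape.up ℤ)).obj
      ((stCx (q.base p)).obj P')).homology k ≅
      St.obj (((single _ (ComplexShape.up ℤ) i).obj (FlatMod.freeMod (Spec (Y.residueField y)) r)).homology k) :=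
    fun k => ((HomologicalComplex.homologyFunctor _ _ k).mapIso (H7StalkPull.stCxPullIso q p P')).symm ≪≫
      (((pullCx q).obj P').sc k).mapHomologyIso St ≪≫
      St.mapIso (((DerivedCategory.homologyFunctorFactors _ k).app _).symm ≪≫
        (DerivedCategory.homologyFunctor _ k).mapIso e₁ ≪≫ (DerivedCategory.homologyFunctorFactors _ k).app _)
  have h0 : ∀ k, k ≠ i → fdim P' (q.base p) φ k = 0 := fun k hk => by
    refine (eF k).toLinearEquiv.finrank_eq.trans ?_
    have := ModuleCat.subsingleton_of_isZero (St.map_isZero (isZero_single_obj_homology (ComplexShape.up ℤ) i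
      (FlatMod.freeMod (Spec (Y.residueField y)) r) k hk))
    exact Module.finrank_zero_of_subsingleton
  have hr' : fdim P' (q.base p) φ i = r := by
    refine (eF i).toLinearEquiv.finrank_eq.trans ?_
    refine (Module.finrank_eq_card_basis ((coords (singleObjHomologySelfIso (ComplexShape.up ℤ) i
      (FlatMod.freeMod (Spec (Y.residueField y)) r))).basis p)).trans (Fintype.card_fin r)
  obtain ⟨U, hU, ⟨eU⟩⟩ := local_single (isAffineOpen_top (A : Scheme.{u})) hfree' hab' (q.base p) φ i r h0 hr'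
  -- transport to an open of `X`
  let j' := U.ι ≫ j
  let W := j'.opensRange
  let θ : (W : Scheme.{u}) ⟶ U := j'.isoOpensRange.inv
  have hθ : θ ≫ j' = W.ι := j'.isoOpensRange_inv_comp
  refine ⟨W, ⟨⟨q.base p, hU⟩, ?_⟩, ⟨DerivedCategory.Q.mapIso (pullCxComp θ j' W.ι hθ K).symm ≪≫
    pullQIso θ (H7StalkPull.skf_pullback j' hK)
      (skf_of_strictlyPerfect (strictlyPerfect_single (finLocFree_of_isFree ⟨r, ⟨Iso.refl _⟩⟩) i))
      ((DerivedCategory.Q.mapIso (pullCxComp U.ι j j' rfl K)).symm ≪≫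
        pullQIso U.ι (H7StalkPull.skf_pullback j hK) (skf_of_strictlyPerfect hP') eA ≪≫ eU) ≪≫
    DerivedCategory.Q.mapIso ((singleMapHomologicalComplex (Scheme.Modules.pullback θ) (ComplexShape.up ℤ) i).app _ ≪≫
      (single _ _ i).mapIso (pullFreeIso θ r))⟩⟩
  exact (congrArg (fun t : Spec (Y.residueField y) ⟶ X => t.base p) hq).trans
    (congrArg f.base (Scheme.fromSpecResidueField_apply y p))

end Groth.Agent.H7DegLocus
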