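import Groth.Agent.Lib.H7AdamsFil
import Mathlib

/-! The determinant and Gr^1 K. -/

set_option autoImplicit false
universe v
open Finset LambdaRing

namespace Groth.Agent.H7Det
open Groth.Agent H7Split

variable {K : Type v} [CommRing K] [LambdaOps K] (P : PosStructure K)

/-- the determinant of a positive element, as a unit -/
noncomputable def U (e : P.pos) : Kˣ := (P.isUnit_lam e.1 e.2).unit

lemma U_val (e : P.pos) : (U P e : K) = LambdaOps.lam (P.aug e.1).toNat e.1 := IsUnit.unit_spec _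

lemma U_add (a b : P.pos) : U P ⟨a.1 + b.1, P.add_mem _ _ a.2 b.2⟩ = U P a * U P b := by
  ext
  rw [Units.val_mul, U_val, U_val, U_val]
  have ha := P.aug_pos _ a.2
  have hb := P.aug_pos _ b.2
  show LambdaOps.lam (P.aug (a.1 + b.1)).toNat (a.1 + b.1) = _
  rw [map_add, LambdaOps.lam_add, Int.toNat_add ha.le hb.le]
  rw [Finset.sum_eq_single (P.aug a.1).toNat]
  · rw [Nat.add_sub_cancel_left]
  · intro i _ hi
    rcases Nat.lt_or_gt_of_ne hi with h | h
    · rw [P.lam_eq_zero _ b.2 _ (by omega), mul_zero]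
    · rw [P.lam_eq_zero _ a.2 i (by omega), zero_mul]
  · intro h; exact absurd (Finset.mem_range.2 (by omega)) h

/-- the determinant -/
noncomputable def D (x : K) : Kˣ :=
  U P ⟨_, (P.exists_sub x).choose_spec.choose_spec.1⟩ / U P ⟨_, (P.exists_sub x).choose_spec.choose_spec.2.1⟩

lemma D_eq {x : K} (e f : P.pos) (h : x = e.1 - f.1) : D P x = U P e / U P f := by
  set e' : P.pos := ⟨_, (P.exists_sub x).choose_spec.choose_spec.1⟩
  set f' : P.pos := ⟨_, (P.exists_sub x).choose_spec.choose_spec.2.1⟩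
  have h' : x = e'.1 - f'.1 := (P.exists_sub x).choose_spec.choose_spec.2.2
  show U P e' / U P f' = _
  rw [div_eq_div_iff_mul_eq_mul, ← U_add, ← U_add]
  congr 1
  ext1
  show e'.1 + f.1 = e.1 + f'.1
  linear_combination h - h'

lemma D_add (x y : K) : D P (x + y) = D P x * D P y := by
  obtain ⟨a, b, ha, hb, rfl⟩ := P.exists_sub x
  obtain ⟨c, d, hc, hd, rfl⟩ := P.exists_sub y
  rw [D_eq P ⟨a, ha⟩ ⟨b, hb⟩ rfl, D_eq P ⟨c, hc⟩ ⟨d, hd⟩ rfl,
    D_eq P ⟨a + c, P.add_mem _ _ ha hc⟩ ⟨b + d, P.add_mem _ _ hb hd⟩ (show a - b + (c - d) = (a + c) - (b + d) by ring),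
    U_add P ⟨a, ha⟩ ⟨c, hc⟩, U_add P ⟨b, hb⟩ ⟨d, hd⟩, mul_div_mul_comm]

/-- the determinant as an additive map -/
noncomputable def DHom : K →+ Additive Kˣ :=
  AddMonoidHom.mk' (fun x => Additive.ofMul (D P x)) fun x y => congrArg Additive.ofMul (D_add P x y)

lemma D_zero : D P 0 = 1 := Additive.ofMul.injective (map_zero (DHom P))

lemma D_sub (x y : K) : D P (x - y) = D P x / D P y := Additive.ofMul.injective (map_sub (DHom P) x y)

lemma D_sum {ι : Type*} (s : Finset ι) (f : ι → K) (h : ∀ i ∈ s, D P (f i) = 1) : D P (∑ i ∈ s, f i) = 1 :=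
  Additive.ofMul.injective (show DHom P _ = 0 by rw [map_sum]; exact Finset.sum_eq_zero fun i hi => congrArg Additive.ofMul (h i hi))

lemma D_line {u : K} (hu : P.IsLine u) : (D P u : K) = u := by
  rw [D_eq P ⟨u + u, P.add_mem _ _ hu.1 hu.1⟩ ⟨u, hu.1⟩ (by show u = u + u - u; ring), U_add P ⟨u, hu.1⟩ ⟨u, hu.1⟩, mul_div_cancel_right, U_val]
  show LambdaOps.lam (P.aug u).toNat u = u
  rw [hu.2]
  exact LambdaOps.lam_one u

section Map

variable {L : Type v} [CommRing L] [LambdaOps L] {P' : PosStructure L} {f : K →+* L}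

lemma map_U (hf : IsExtension P P' f) (e : P.pos) : f (U P e) = U P' ⟨f e.1, hf.pos_subset _ e.2⟩ := by
  rw [U_val, U_val, hf.isLambdaHom, hf.aug_comp]

lemma map_D (hf : IsExtension P P' f) (x : K) : Units.map f.toMonoidHom (D P x) = D P' (f x) := by
  obtain ⟨a, b, ha, hb, rfl⟩ := P.exists_sub x
  rw [D_eq P ⟨a, ha⟩ ⟨b, hb⟩ rfl, D_eq P' ⟨f a, hf.pos_subset _ ha⟩ ⟨f b, hf.pos_subset _ hb⟩ (map_sub f a b), map_div]
  congr 1 <;> ext <;> exact map_U P hf _

end Map

variable {P}

lemma D_mul_span {x y : K} (hx : x ∈ lineSpan P) (hy : y ∈ lineSpan P) :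
    D P (x * y) = D P x ^ P.aug y * D P y ^ P.aug x := by
  let R : K →+ Additive Kˣ :=
    AddMonoidHom.mk' (fun t => Additive.ofMul (D P t ^ P.aug y * D P y ^ P.aug t)) fun a b => congrArg Additive.ofMul (by
      rw [D_add, map_add, mul_zpow, zpow_add, mul_mul_mul_comm]; rfl)
  suffices ((DHom P).comp (AddMonoidHom.mulRight y)) x = R x from Additive.ofMul.injective this
  refine AddMonoidHom.eqOn_closure (fun u hu => ?_) hx
  let S : K →+ Additive Kˣ :=
    AddMonoidHom.mk' (fun t => Additive.ofMul (D P u ^ P.aug t * D P t)) fun a b => congrArg Additive.ofMul (by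
      rw [D_add, map_add, zpow_add, mul_mul_mul_comm]; rfl)
  have hS : ((DHom P).comp (AddMonoidHom.mulLeft u)) y = S y := by
    refine AddMonoidHom.eqOn_closure (fun w hw => congrArg Additive.ofMul ?_) hy
    show D P (u * w) = D P u ^ P.aug w * D P w
    rw [hw.2, zpow_one]
    ext
    rw [D_line P ⟨P.mul_mem _ _ hu.1 hw.1, by rw [map_mul, hu.2, hw.2, mul_one]⟩, Units.val_mul, D_line P hu, D_line P hw]
  refine hS.trans (congrArg Additive.ofMul ?_)
  show D P u ^ P.aug y * D P y = D P u ^ P.aug y * D P y ^ P.aug u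
  rw [hu.2, zpow_one]

theorem D_mul_zero (hK : HasSplitting K P) {x y : K} (hx : P.aug x = 0) (hy : P.aug y = 0) : D P (x * y) = 1 := by
  obtain ⟨L, f, hf, -, hs⟩ := exists_span P hK [x, y]
  apply Units.map_injective (f := f.toMonoidHom) hf.injective
  rw [map_D P hf, map_mul, map_one, D_mul_span (hs x (by simp)) (hs y (by simp)), hf.aug_comp, hf.aug_comp, hx, hy]
  simp

/-- γ^r y has augmentation 0, and determinant 1 for r ≥ 2 -/
def Good2 (P : PosStructure K) (y : K) : Prop :=
  P.aug y = 0 ∧ ∀ r, 1 ≤ r → P.aug (gamma r y) = 0 ∧ (2 ≤ r → D P (gamma r y) = 1)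

theorem good2_pos (hK : HasSplitting K P) {e : K} (he : e ∈ P.pos) : Good2 P (e - ((P.aug e).toNat : K)) := by
  refine ⟨by have := P.aug_pos e he; simp only [map_sub, map_natCast]; omega, fun r hr => ?_⟩
  obtain ⟨C, hC, hsp⟩ := hK
  obtain ⟨L, hL, f, hf, s, hs, hsum⟩ := hsp _ hC e he
  have hlen : (P.aug e).toNat = s.toList.length := by
    have h1 := hf.aug_comp e
    rw [← hsum, map_multiset_sum, Multiset.map_congr rfl (fun u hu => (hs u hu).2), Multiset.map_const',
      Multiset.sum_replicate, nsmul_one] at h1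
    rw [← h1, Multiset.length_toList]
    simp
  let u : Fin (P.aug e).toNat → L.carrier := fun i => s.toList.get (i.cast hlen)
  have hu : ∀ i, L.posStr.IsLine (u i) := fun i => hs _ (Multiset.mem_toList.1 (List.get_mem _ _))
  have hfa : f (e - ((P.aug e).toNat : K)) = ∑ i, (u i - 1) := by
    rw [map_sub, map_natCast, Finset.sum_sub_distrib]
    simp only [Finset.sum_const, Finset.card_univ, Fintype.card_fin, nsmul_one]
    congr 1
    rw [← hsum, ← Multiset.sum_toList, ← Equiv.sum_comp (finCongr hlen.symm)]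
    conv_lhs => rw [← List.ofFn_get s.toList, List.sum_ofFn]
    rfl
  have hg : f (gamma r (e - ((P.aug e).toNat : K))) = ∑ t ∈ Finset.powersetCard r Finset.univ, ∏ i ∈ t, (u i - 1) := by
    rw [GammaN.map_gamma f _ _ (fun n => hf.isLambdaHom n _), hfa, H7AdamsFil.gamma_lines L.posStr u hu, MvPolynomial.esymm, map_sum]
    exact Finset.sum_congr rfl fun t _ => by simp [map_prod]
  refine ⟨?_, fun hr2 => ?_⟩
  · rw [← hf.aug_comp, hg, map_sum]
    refine Finset.sum_eq_zero fun t ht => ?_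
    obtain ⟨i, hi⟩ := Finset.card_pos.1 (show 0 < t.card by rw [(Finset.mem_powersetCard.1 ht).2]; omega)
    rw [map_prod]
    exact Finset.prod_eq_zero hi (by rw [map_sub, (hu i).2, map_one, sub_self])
  · apply Units.map_injective (f := f.toMonoidHom) hf.injective
    rw [map_D P hf, map_one, hg]
    refine D_sum _ _ _ fun t ht => ?_
    classical
    obtain ⟨i, hi⟩ := Finset.card_pos.1 (show 0 < t.card by rw [(Finset.mem_powersetCard.1 ht).2]; omega)
    rw [← Finset.mul_prod_erase t _ hi]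
    refine D_mul_zero ⟨C, hL, hsp⟩ (by rw [map_sub, (hu i).2, map_one, sub_self]) ?_
    obtain ⟨k, hk⟩ := Finset.card_pos.1 (show 0 < (t.erase i).card by
      rw [Finset.card_erase_of_mem hi, (Finset.mem_powersetCard.1 ht).2]; omega)
    rw [map_prod]
    exact Finset.prod_eq_zero hk (by rw [map_sub, (hu k).2, map_one, sub_self])

theorem good2 (hK : HasSplitting K P) {y : K} (hy : P.aug y = 0) : Good2 P y := by
  obtain ⟨e, g, he, hg, rfl⟩ := P.exists_sub y
  have hy' := hy
  rw [map_sub, sub_eq_zero] at hy'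
  set a := e - ((P.aug e).toNat : K)
  set b := g - ((P.aug g).toNat : K)
  have hab : e - g = a - b := by simp only [a, b, hy']; ring
  obtain ⟨-, ha⟩ := good2_pos hK he
  obtain ⟨-, hb⟩ := good2_pos hK hg
  refine ⟨hy, fun r => ?_⟩
  rw [hab] at hy ⊢
  induction r using Nat.strong_induction_on with
  | _ r ih =>
    intro hr
    have hadd := GammaN.gamma_add r b (a - b)
    rw [add_sub_cancel, Finset.sum_range_succ', GammaN.gamma_zero, one_mul, Nat.sub_zero] at hadd
    have e1 : gamma r (a - b) = gamma r a - ∑ i ∈ Finset.range r, gamma (i + 1) b * gamma (r - (i + 1)) (a - b) := by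
      rw [hadd]; ring
    rw [e1]
    refine ⟨?_, fun hr2 => ?_⟩
    · rw [map_sub, (ha r hr).1, map_sum, Finset.sum_eq_zero (fun i _ => by rw [map_mul, (hb (i + 1) (by omega)).1, zero_mul]), sub_zero]
    · rw [D_sub, (ha r hr).2 hr2, D_sum P _ _ fun i hi => ?_, div_one]
      rw [Finset.mem_range] at hi
      rcases Nat.eq_zero_or_pos (r - (i + 1)) with h | h
      · rw [h, GammaN.gamma_zero, mul_one]; exact (hb (i + 1) (by omega)).2 (by omega)
      · exact D_mul_zero hK (hb (i + 1) (by omega)).1 (ih _ (by omega) h).1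

theorem D_fil2 (hK : HasSplitting K P) {x : K} (hx : x ∈ gammaFiltration P 2) : D P x = 1 := by
  have key : ∀ l : List (ℕ × K), (∀ p ∈ l, P.aug p.2 = 0) →
      ((l.map Prod.fst).sum = 0 → (l.map fun p => gamma p.1 p.2).prod = 1) ∧
      (1 ≤ (l.map Prod.fst).sum → P.aug (l.map fun p => gamma p.1 p.2).prod = 0) ∧
      (2 ≤ (l.map Prod.fst).sum → D P (l.map fun p => gamma p.1 p.2).prod = 1) := by
    intro l
    induction l with
    | nil => intro _; simp
    | cons p l ih =>
      intro hl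
      obtain ⟨i0, i1, i2⟩ := ih fun q hq => hl q (List.mem_cons_of_mem _ hq)
      have hp := (good2 hK (hl p (List.mem_cons_self ..))).2
      simp only [List.map_cons, List.prod_cons, List.sum_cons]
      rcases Nat.eq_zero_or_pos p.1 with h | h
      · simp only [h, GammaN.gamma_zero, one_mul, zero_add]; exact ⟨i0, i1, i2⟩
      · refine ⟨fun h0 => by omega, fun _ => by rw [map_mul, (hp p.1 h).1, zero_mul], fun h2 => ?_⟩
        rcases Nat.eq_zero_or_pos (l.map Prod.fst).sum with h' | h'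
        · rw [i0 h', mul_one]; exact (hp p.1 h).2 (by omega)
        · exact D_mul_zero hK (hp p.1 h).1 (i1 h')
  suffices DHom P x = 0 from Additive.ofMul.injective this
  conv at hx => unfold gammaFiltration; rw [if_neg (by omega : (2 : ℕ) ≠ 0)]
  induction hx using AddSubgroup.closure_induction with
  | mem y hy => obtain ⟨l, hl, hle, rfl⟩ := hy; exact congrArg Additive.ofMul ((key l hl).2.2 hle)
  | zero => exact map_zero _
  | add a b _ _ ha hb => rw [map_add, ha, hb, add_zero]
  | neg a _ ha => rw [map_neg, ha, neg_zero]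

theorem det_congr (hK : HasSplitting K P) (e : P.pos) :
    ((U P e : K) - 1) - (e.1 - ((P.aug e.1).toNat : K)) ∈ gammaFiltration P 2 := by
  have hlam : (U P e : K) - 1 = ∑ k ∈ Finset.range (P.aug e.1).toNat, gamma (k + 1) (e.1 - ((P.aug e.1).toNat : K)) := by
    obtain ⟨L, f, u, hf, hu, hsum⟩ := exists_split hK e.2
    apply hf.injective
    have hfa : f (e.1 - ((P.aug e.1).toNat : K)) = ∑ i, (u i - 1) := by
      rw [map_sub, map_natCast, Finset.sum_sub_distrib, hsum]; simp
    rw [map_sub, map_one, U_val, hf.isLambdaHom, ← hsum, lam_sum_eq_esymm L.posStr u hu, map_sum]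
    simp only [GammaN.map_gamma f _ _ (fun n => hf.isLambdaHom n (e.1 - ((P.aug e.1).toNat : K))), hfa, H7AdamsFil.gamma_lines L.posStr u hu]
    rw [eq_comm, eq_sub_iff_add_eq]
    have hz : MvPolynomial.aeval (fun i => u i - 1) (MvPolynomial.esymm (Fin (P.aug e.1).toNat) ℤ 0) = (1 : L.carrier) := by
      simp [MvPolynomial.esymm_zero]
    conv_lhs => arg 2; rw [← hz]
    rw [← Finset.sum_range_succ' (fun k => MvPolynomial.aeval (fun i => u i - 1) (MvPolynomial.esymm (Fin (P.aug e.1).toNat) ℤ k)), ← map_sum]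
    have hp : MvPolynomial.aeval u (MvPolynomial.esymm (Fin (P.aug e.1).toNat) ℤ (P.aug e.1).toNat) = ∏ i, ((u i - 1) + 1) := by
      rw [MvPolynomial.esymm, map_sum]
      have : Finset.powersetCard (P.aug e.1).toNat (Finset.univ : Finset (Fin (P.aug e.1).toNat)) = {Finset.univ} := by
        conv_lhs => arg 1; rw [← Fintype.card_fin (P.aug e.1).toNat, ← Finset.card_univ]
        exact Finset.powersetCard_self _
      rw [this, Finset.sum_singleton, map_prod]
      exact Finset.prod_congr rfl fun i _ => by simp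
    rw [hp, Finset.prod_add_one, Finset.sum_powerset, Finset.card_univ, Fintype.card_fin, map_sum]
    refine Finset.sum_congr rfl fun k _ => ?_
    simp [MvPolynomial.esymm, map_prod]
  rw [hlam]
  obtain ⟨m, hm⟩ : ∃ m, (P.aug e.1).toNat = m + 1 := ⟨(P.aug e.1).toNat - 1, by have := P.aug_pos _ e.2; omega⟩
  rw [hm, Finset.sum_range_succ', GammaN.gamma_one, add_sub_cancel_right]
  refine sum_mem fun k _ => H7AdamsFil.fil_anti P (by omega) (H7AdamsFil.gamma_mem P ?_ (k + 1 + 1))
  simp only [map_sub, map_natCast]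
  have := P.aug_pos _ e.2
  omega

theorem lineElements_gr1 (hK : HasSplitting K P)
    (hLinv : ∀ w : K, P.IsLine w → ∃ w' : K, P.IsLine w' ∧ w * w' = 1)
    (hdet : ∀ e : K, e ∈ P.pos → LambdaOps.lam (P.aug e).toNat e ∈ P.pos) :
    (∀ x : K, x ∈ gammaFiltration P 1 → ∃ u : K, P.IsLine u ∧ x - (u - 1) ∈ gammaFiltration P 2) ∧
    ∀ u v : K, P.IsLine u → P.IsLine v → u - v ∈ gammaFiltration P 2 → u = v := by
  have hUline : ∀ e : P.pos, P.IsLine (U P e : K) := fun e =>
    ⟨by rw [U_val]; exact hdet _ e.2, by rw [U_val, aug_lam P hK e.2, Nat.choose_self, Nat.cast_one]⟩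
  refine ⟨fun x hx => ?_, fun u v hu hv h => ?_⟩
  · have haug : P.aug x = 0 := by
      unfold gammaFiltration at hx
      rw [if_neg (by omega : ¬(1 : ℕ) = 0)] at hx
      induction hx using AddSubgroup.closure_induction with
      | mem y hy =>
        obtain ⟨l, hl, hle, rfl⟩ := hy
        clear hUline
        induction l with
        | nil => simp at hle
        | cons p l ih =>
          simp only [List.map_cons, List.prod_cons, List.sum_cons] at hle ⊢
          rcases Nat.eq_zero_or_pos p.1 with h | h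
          · rw [map_mul, ih (fun q hq => hl q (List.mem_cons_of_mem _ hq)) (by omega), mul_zero]
          · rw [map_mul, ((good2 hK (hl p (List.mem_cons_self ..))).2 p.1 h).1, zero_mul]
      | zero => exact map_zero _
      | add a b _ _ ha hb => rw [map_add, ha, hb, add_zero]
      | neg a _ ha => rw [map_neg, ha, neg_zero]
    obtain ⟨e, g, he, hg, rfl⟩ := P.exists_sub x
    rw [map_sub, sub_eq_zero] at haug
    obtain ⟨w, hw, hw'⟩ := hLinv _ (hUline ⟨g, hg⟩)
    refine ⟨(U P ⟨e, he⟩ : K) * w, ⟨P.mul_mem _ _ (hUline ⟨e, he⟩).1 hw.1, by rw [map_mul, (hUline _).2, hw.2, mul_one]⟩, ?_⟩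
    have h1 := det_congr hK ⟨e, he⟩
    have h2 := det_congr hK ⟨g, hg⟩
    simp only [] at h1 h2
    rw [haug] at h1
    have h3 : ∀ a b : K, P.aug a = 0 → P.aug b = 0 → a * b ∈ gammaFiltration P 2 := fun a b ha hb => by
      have ha1 := H7AdamsFil.gamma_mem P ha 1
      have hb1 := H7AdamsFil.gamma_mem P hb 1
      rw [GammaN.gamma_one] at ha1 hb1
      exact H7Split5.mul_mem P 1 1 a b ha1 hb1
    have h4 := h3 ((U P ⟨e, he⟩ : K) - 1) (w - 1) (by rw [map_sub, (hUline _).2, map_one, sub_self]) (by rw [map_sub, hw.2, map_one, sub_self])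
    have h5 := h3 ((U P ⟨g, hg⟩ : K) - 1) (w - 1) (by rw [map_sub, (hUline _).2, map_one, sub_self]) (by rw [map_sub, hw.2, map_one, sub_self])
    rw [show e - g - ((U P ⟨e, he⟩ : K) * w - 1) =
      -(((U P ⟨e, he⟩ : K) - 1) - (e - ((P.aug g).toNat : K))) + (((U P ⟨g, hg⟩ : K) - 1) - (g - ((P.aug g).toNat : K))) -
        ((U P ⟨e, he⟩ : K) - 1) * (w - 1) + ((U P ⟨g, hg⟩ : K) - 1) * (w - 1) by linear_combination -hw']
    exact add_mem (sub_mem (add_mem (neg_mem h1) h2) h4) h5
  · have h1 := D_fil2 hK h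
    rw [D_sub, div_eq_one] at h1
    rw [← D_line P hu, ← D_line P hv, h1]

end Groth.Agent.H7Det
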