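import Mathlib
import Groth.Prelude.Def_PolLaw
import Groth.Prelude.Def_PolLaw2
import Groth.Agent.Lib.H7PolLaw

set_option linter.all false
set_option autoImplicit false

/-! The determinant law of a finite projective module. -/

namespace Groth.Agent.H7Det

open scoped TensorProduct
open PolLaw

universe u

variable {A B M : Type u} [CommRing A] [CommRing B] [Algebra A B]
  [AddCommGroup M] [Module A M] [Module B M] [IsScalarTower A B M] [Module.Finite A M] [Module.Projective A M]

theorem det_split {S W V : Type*} [CommRing S] [IsLocalRing S] [AddCommGroup W] [Module S W] [Module.Free S W]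
    [Module.Finite S W] [AddCommGroup V] [Module S V] [Module.Free S V] [Module.Finite S V]
    (i : W →ₗ[S] V) (p : V →ₗ[S] W) (h : p ∘ₗ i = LinearMap.id) (g : Module.End S W) :
    LinearMap.det (i ∘ₗ g ∘ₗ p + (LinearMap.id - i ∘ₗ p)) = LinearMap.det g := by
  let K := LinearMap.ker p
  have hpi : ∀ w, p (i w) = w := fun w => LinearMap.congr_fun h w
  have hmem : ∀ v, v - i (p v) ∈ K := fun v => by
    show p (v - i (p v)) = 0
    rw [map_sub, hpi, sub_self]
  let r : V →ₗ[S] K := (LinearMap.id - i ∘ₗ p).codRestrict K hmem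
  have hr : ∀ k : K, r k = k := fun k => Subtype.ext (by
    show (k : V) - i (p k) = k
    rw [show p (k : V) = 0 from k.2, map_zero, sub_zero])
  haveI : Module.Finite S K := Module.Finite.of_surjective r fun k => ⟨k, hr k⟩
  haveI : Module.Projective S K := Module.Projective.of_split K.subtype r (LinearMap.ext hr)
  haveI : Module.Free S K := Module.free_of_flat_of_isLocalRing
  let e : V ≃ₗ[S] W × K :=
    LinearEquiv.ofBijective (p.prod r) ⟨fun v v' hvv => by
      have h1 := congrArg Prod.fst hvv
      have h2 := congrArg (fun z => ((z.2 : K) : V)) hvv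
      simp [r] at h1 h2
      rw [h1] at h2
      simpa using h2,
    fun z => ⟨i z.1 + z.2, by
      refine Prod.ext ?_ (Subtype.ext ?_)
      · simp [hpi, show p (z.2 : V) = 0 from z.2.2]
      · simp [r, hpi, show p (z.2 : V) = 0 from z.2.2]⟩⟩
  rw [← LinearMap.det_conj (i ∘ₗ g ∘ₗ p + (LinearMap.id - i ∘ₗ p)) e,
    show (e : V →ₗ[S] W × K) ∘ₗ (i ∘ₗ g ∘ₗ p + (LinearMap.id - i ∘ₗ p)) ∘ₗ (e.symm : W × K →ₗ[S] V) =
      LinearMap.prodMap g LinearMap.id from ?_, LinearMap.det_prodMap, LinearMap.det_id, mul_one]
  refine LinearMap.ext fun z => ?_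
  obtain ⟨v, rfl⟩ := e.surjective z
  simp only [LinearMap.comp_apply, LinearEquiv.coe_coe, LinearEquiv.symm_apply_apply]
  have he : ∀ v, e v = (p v, r v) := fun v => rfl
  simp only [he, LinearMap.prodMap_apply]
  refine Prod.ext ?_ (Subtype.ext ?_)
  · simp [r, hpi]
  · simp [r, hpi]

theorem exists_law : ∃ N : B →ₚₗ[A] A, IsMult N ∧
    ∀ (S : Type u) [CommRing S] [IsLocalRing S] [Algebra A S] (x : S ⊗[A] B),
      N.toFun' S x = detAct M S x ⊗ₜ[A] (1 : A) := by
  obtain ⟨n, π, ι, -, -, hπι⟩ := Module.Finite.exists_comp_eq_id_of_projective A M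
  let e : Module.End A (Fin n → A) := ι ∘ₗ π
  have hπι' : ∀ m, π (ι m) = m := fun m => LinearMap.congr_fun hπι m
  let φ : (B × A) →+* Module.End A (Fin n → A) :=
    { toFun := fun z => ι ∘ₗ (Algebra.lsmul A A M z.1) ∘ₗ π + z.2 • (LinearMap.id - e)
      map_one' := by
        refine LinearMap.ext fun v => ?_
        simp [e]
      map_mul' := fun z z' => by
        refine LinearMap.ext fun v => ?_
        simp [e, hπι', mul_smul, map_add, map_smul, map_sub, smul_sub, smul_comm z.2 z'.2]
      map_zero' := by simp
      map_add' := fun z z' => by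
        refine LinearMap.ext fun v => ?_
        simp [map_add, add_smul]
        abel }
  letI : Module (B × A) (Fin n → A) := Module.compHom (Fin n → A) φ
  have hsmul : ∀ (z : B × A) (v : Fin n → A), z • v = φ z v := fun _ _ => rfl
  haveI : IsScalarTower A (B × A) (Fin n → A) := ⟨fun a z v => by
    simp only [hsmul]
    simp [φ, smul_add, smul_sub, smul_smul, mul_sub]⟩
  let L : B →ₗ[A] B × A := LinearMap.inl A B A
  have hLmul : ∀ (S : Type u) [CommSemiring S] [Algebra A S] (x y : S ⊗[A] B),
      L.lTensor S (x * y) = L.lTensor S x * L.lTensor S y := by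
    intro S _ _ x y
    induction x using TensorProduct.induction_on with
    | zero => simp
    | add x x' hx hx' => simp only [add_mul, map_add, hx, hx']
    | tmul s b =>
      induction y using TensorProduct.induction_on with
      | zero => simp
      | add y y' hy hy' => simp only [mul_add, map_add, hy, hy']
      | tmul t c => simp [L]
  have hLe : ∀ (S : Type u) [CommSemiring S] [Algebra A S] (x : S ⊗[A] B),
      L.lTensor S x * ((1 : S) ⊗ₜ[A] ((0 : B), (1 : A))) = 0 := by
    intro S _ _ x
    induction x using TensorProduct.induction_on with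
    | zero => simp
    | add x x' hx hx' => simp only [map_add, add_mul, hx, hx', add_zero]
    | tmul s b =>
      simp only [LinearMap.lTensor_tmul, L, LinearMap.inl_apply, Algebra.TensorProduct.tmul_mul_tmul, Prod.mk_mul_mk]
      simp [← Prod.zero_eq_mk]
  let N : B →ₚₗ[A] A :=
    { toFun' := fun S _ _ x => detFun A (B × A) (Fin n → A) S (L.lTensor S x + (1 : S) ⊗ₜ[A] ((0 : B), (1 : A)))
      isCompat' := fun {S} _ _ {S'} _ _ f => by
        funext x
        simp only [Function.comp_apply]
        rw [detFun_compat f, map_add, LinearMap.rTensor_tmul, AlgHom.toLinearMap_apply, map_one]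
        congr 2
        rw [← LinearMap.comp_apply, ← LinearMap.comp_apply, LinearMap.lTensor_comp_rTensor, LinearMap.rTensor_comp_lTensor] }
  refine ⟨N, fun S _ _ => ⟨?_, fun x y => ?_⟩, fun S _ _ _ x => ?_⟩
  · show detFun A (B × A) (Fin n → A) S _ = 1
    rw [Algebra.TensorProduct.one_def, LinearMap.lTensor_tmul, ← TensorProduct.tmul_add,
      show L 1 + ((0 : B), (1 : A)) = 1 by simp [L, Prod.one_eq_mk], ← Algebra.TensorProduct.one_def]
    exact detFun_one S
  · show detFun A (B × A) (Fin n → A) S _ = detFun A (B × A) (Fin n → A) S _ * detFun A (B × A) (Fin n → A) S _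
    rw [← detFun_mul, hLmul]
    congr 1
    rw [add_mul, mul_add, mul_add, hLe, mul_comm ((1 : S) ⊗ₜ[A] ((0 : B), (1 : A))) (L.lTensor S y), hLe,
      Algebra.TensorProduct.tmul_mul_tmul, one_mul, zero_add, add_zero]
    simp
  show detFun A (B × A) (Fin n → A) S (L.lTensor S x + (1 : S) ⊗ₜ[A] ((0 : B), (1 : A))) = _
  rw [detFun_eq_detAct]
  congr 1
  haveI : Module.Free S (S ⊗[A] M) := Module.free_of_flat_of_isLocalRing
  have h : π.baseChange S ∘ₗ ι.baseChange S = LinearMap.id := by
    rw [← LinearMap.baseChange_comp, hπι, LinearMap.baseChange_id]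
  show LinearMap.det _ = LinearMap.det (actEnd M S x)
  rw [← det_split (ι.baseChange S) (π.baseChange S) h (actEnd M S x), map_add]
  congr 1
  have h1 : actEnd (Fin n → A) S ((1 : S) ⊗ₜ[A] ((0 : B), (1 : A))) =
      LinearMap.id - ι.baseChange S ∘ₗ π.baseChange S := by
    refine LinearMap.ext fun z => ?_
    induction z using TensorProduct.induction_on with
    | zero => simp
    | add z z' hz hz' => simp only [map_add, hz, hz']
    | tmul t v =>
      rw [actEnd_tmul_tmul]
      simp [hsmul, φ, e, TensorProduct.tmul_sub]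
  have h2 : actEnd (Fin n → A) S (L.lTensor S x) = ι.baseChange S ∘ₗ actEnd M S x ∘ₗ π.baseChange S := by
    refine LinearMap.ext fun z => ?_
    induction x using TensorProduct.induction_on with
    | zero => simp
    | add x x' hx hx' => simp only [map_add, LinearMap.add_apply, LinearMap.comp_apply, hx, hx'] at *
    | tmul s b =>
      induction z using TensorProduct.induction_on with
      | zero => simp
      | add z z' hz hz' => simp only [map_add, hz, hz']
      | tmul t v =>
        rw [LinearMap.lTensor_tmul, actEnd_tmul_tmul, LinearMap.comp_apply, LinearMap.comp_apply,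
          LinearMap.baseChange_tmul, actEnd_tmul_tmul, LinearMap.baseChange_tmul]
        simp [hsmul, φ, L]
  rw [h1, h2]

theorem eq_of_local {N N' : B →ₚₗ[A] A}
    (h : ∀ (S : Type u) [CommRing S] [IsLocalRing S] [Algebra A S] (x : S ⊗[A] B), N.toFun' S x = N'.toFun' S x) :
    N = N' := by
  refine H7PolLaw.ext_poly fun n x => ?_
  set R := MvPolynomial (Fin n) A
  refine (TensorProduct.rid A R).injective ?_
  refine Module.eq_of_localization_maximal (R := R) (fun P _ => Localization.AtPrime P) (fun P _ => Algebra.linearMap R _) _ _ fun P hP => ?_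
  let f : R →ₐ[A] Localization.AtPrime P := IsScalarTower.toAlgHom A R _
  have hf : ∀ y : R ⊗[A] A, f (TensorProduct.rid A R y) =
      TensorProduct.rid A (Localization.AtPrime P) (f.toLinearMap.rTensor A y) := by
    intro y
    induction y using TensorProduct.induction_on with
    | zero => simp
    | tmul r a => simp
    | add y y' hy hy' => simp only [map_add, hy, hy']
  show f _ = f _
  refine (hf _).trans (Eq.trans ?_ (hf _).symm)
  rw [PolynomialLaw.isCompat_apply', PolynomialLaw.isCompat_apply', h]

theorem homog_of_rank {N : B →ₚₗ[A] A} (hN : IsMult N)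
    (hdet : ∀ (S : Type u) [CommRing S] [IsLocalRing S] [Algebra A S] (x : S ⊗[A] B),
      N.toFun' S x = detAct M S x ⊗ₜ[A] (1 : A))
    (d : ℕ) (hd : ∀ p : PrimeSpectrum A, Module.rankAtStalk M p = d) : IsHomog N d := by
  intro S _ _ s x
  have key : N.toFun' S (s • (1 : S ⊗[A] B)) = (s ^ d) ⊗ₜ[A] (1 : A) := by
    let R := Polynomial A
    suffices hR : N.toFun' R ((Polynomial.X : R) • (1 : R ⊗[A] B)) = ((Polynomial.X : R) ^ d) ⊗ₜ[A] (1 : A) by
      let f : R →ₐ[A] S := Polynomial.aeval s
      have := congrArg (f.toLinearMap.rTensor A) hR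
      rw [PolynomialLaw.isCompat_apply', LinearMap.rTensor_tmul, AlgHom.toLinearMap_apply, map_pow,
        Polynomial.aeval_X] at this
      rw [← this]
      congr 1
      rw [Algebra.TensorProduct.one_def, Algebra.TensorProduct.one_def, TensorProduct.smul_tmul',
        TensorProduct.smul_tmul', smul_eq_mul, smul_eq_mul, mul_one, mul_one, LinearMap.rTensor_tmul]
      exact congrArg (· ⊗ₜ[A] (1 : B)) (Polynomial.aeval_X s).symm
    refine (TensorProduct.rid A R).injective ?_
    refine Module.eq_of_localization_maximal (R := R) (fun P _ => Localization.AtPrime P) (fun P _ => Algebra.linearMap R _) _ _ fun P hP => ?_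
    let T := Localization.AtPrime P
    let f : R →ₐ[A] T := IsScalarTower.toAlgHom A R _
    have hf : ∀ y : R ⊗[A] A, f (TensorProduct.rid A R y) =
        TensorProduct.rid A T (f.toLinearMap.rTensor A y) := by
      intro y
      induction y using TensorProduct.induction_on with
      | zero => simp
      | tmul r a => simp
      | add y y' hy hy' => simp only [map_add, hy, hy']
    show f _ = f _
    refine (hf _).trans (Eq.trans ?_ (hf _).symm)
    rw [PolynomialLaw.isCompat_apply']
    congr 1
    rw [LinearMap.rTensor_tmul, AlgHom.toLinearMap_apply, map_pow,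
      show f.toLinearMap.rTensor B ((Polynomial.X : R) • (1 : R ⊗[A] B)) = (f Polynomial.X) • (1 : T ⊗[A] B) by
        rw [Algebra.TensorProduct.one_def, Algebra.TensorProduct.one_def, TensorProduct.smul_tmul',
          TensorProduct.smul_tmul', smul_eq_mul, smul_eq_mul, mul_one, mul_one, LinearMap.rTensor_tmul,
          AlgHom.toLinearMap_apply], hdet]
    congr 1
    haveI : Module.Free T (T ⊗[A] M) := Module.free_of_flat_of_isLocalRing (R := T) (P := T ⊗[A] M)
    have hrank : Module.finrank T (T ⊗[A] M) = d := by
      have h1 := congrFun (Module.rankAtStalk_eq_finrank_of_free (R := T) (M := T ⊗[A] M)) (IsLocalRing.closedPoint T)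
      simp only [Pi.natCast_apply, Nat.cast_id] at h1
      rw [← h1, Module.rankAtStalk_baseChange, hd]
    rw [detAct, map_smul, map_one, LinearMap.det_smul, map_one LinearMap.det, mul_one, hrank]
  calc N.toFun' S (s • x) = N.toFun' S ((s • (1 : S ⊗[A] B)) * x) := by rw [smul_mul_assoc, one_mul]
    _ = _ := by
      rw [(hN S).2, key]
      exact (Algebra.smul_def (R := S) (A := S ⊗[A] A) (s ^ d) _).symm

end Groth.Agent.H7Det
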