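import Groth.Agent.Lib.H7FPLocal
import Mathlib

/-! Flat finitely presented modules are finite locally free. -/

universe u
open CategoryTheory Limits AlgebraicGeometry Opposite TopologicalSpace

namespace Groth.Agent.H7FPFlat
open Groth.Agent H7Stalk H7PerfPull H7FinFree H7FPLocal

variable {X Y : Scheme.{u}}

lemma finLocFree_freeMod (n : ℕ) : FlatMod.IsFinLocFree (FlatMod.freeMod X n) :=
  (isFinLocFree_iff _).2 fun _ => ⟨⊤, trivial, IsFree.pullback _ ⟨n, ⟨Iso.refl _⟩⟩⟩

lemma flat_stalk_pullback (f : X ⟶ Y) {M : Y.Modules} (x : X)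
    (h : Module.Flat (Y.presheaf.stalk (f.base x)) ((DerSch.stalkFunctor Y (f.base x)).obj M)) :
    Module.Flat (X.presheaf.stalk x) ((DerSch.stalkFunctor X x).obj ((Scheme.Modules.pullback f).obj M)) := by
  let φ := (f.stalkMap x).hom
  letI := φ.toAlgebra
  have h2 : Module.Flat (X.presheaf.stalk x)
      ((ModuleCat.extendScalars φ).obj ((DerSch.stalkFunctor Y (f.base x)).obj M)) :=
    inferInstanceAs (Module.Flat (X.presheaf.stalk x)
      (TensorProduct (Y.presheaf.stalk (f.base x)) (X.presheaf.stalk x) ((DerSch.stalkFunctor Y (f.base x)).obj M)))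
  have e : (DerSch.stalkFunctor X x).obj ((Scheme.Modules.pullback f).obj M) ≅
      (ModuleCat.extendScalars φ).obj ((DerSch.stalkFunctor Y (f.base x)).obj M) := (H7StalkPull.pullStalkIso f x).app M
  exact Module.Flat.of_linearEquiv e.toLinearEquiv

theorem free_near {F : X.Modules} (hF : CohB1.IsFP F) (x : X)
    (hflat : Module.Flat (X.presheaf.stalk x) ((DerSch.stalkFunctor X x).obj F)) :
    ∃ V : X.Opens, x ∈ V ∧ IsFree ((Scheme.Modules.pullback V.ι).obj F) := by
  obtain ⟨U, hx, m, n, g, ⟨e⟩⟩ := (isFP_iff F).1 hF x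
  let e' := e ≪≫ (Scheme.Modules.restrictFunctorIsoPullback U.ι).app F
  have h := flat_stalk_pullback U.ι ⟨x, hx⟩ (M := F) hflat
  obtain ⟨V, hxV, hfree⟩ := H7CokerFree.coker_free_near (finLocFree_freeMod m) (finLocFree_freeMod n) g ⟨x, hx⟩
    (Module.Flat.of_linearEquiv ((DerSch.stalkFunctor (U : Scheme.{u}) ⟨x, hx⟩).mapIso e').toLinearEquiv)
  have h2 := hfree.of_iso ((Scheme.Modules.pullback V.ι).mapIso e')
  refine ⟨U.ι ''ᵁ V, ⟨⟨x, hx⟩, hxV, rfl⟩, ?_⟩
  have hr : Set.range (U.ι ''ᵁ V).ι.base ⊆ Set.range (V.ι ≫ U.ι).base := by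
    rintro _ ⟨z, rfl⟩
    obtain ⟨z', hz', e⟩ := z.2
    exact ⟨⟨z', hz'⟩, e⟩
  let h' := IsOpenImmersion.lift (V.ι ≫ U.ι) (U.ι ''ᵁ V).ι hr
  have hh : h' ≫ V.ι ≫ U.ι = (U.ι ''ᵁ V).ι := IsOpenImmersion.lift_fac _ _ hr
  exact ((h2.of_iso ((Scheme.Modules.pullbackComp V.ι U.ι).app _)).pullback h').of_iso
    ((Scheme.Modules.pullbackComp h' (V.ι ≫ U.ι)).app _ ≪≫ eqToIso (by rw [hh]))

theorem finLocFree_of_flat {F : X.Modules} (hF : CohB1.IsFP F) (hflat : FlatMod.IsFlat F) : FlatMod.IsFinLocFree F :=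
  (isFinLocFree_iff F).2 fun x => free_near hF x (hflat x)

lemma isCoker_of_isFree {M : X.Modules} : IsFree M → IsCoker M := fun ⟨n, ⟨e⟩⟩ =>
  ⟨0, n, 0, ⟨cokernelZeroIsoTarget ≪≫ e.symm⟩⟩

theorem isFP_of_finLocFree {F : X.Modules} (h : FlatMod.IsFinLocFree F) : CohB1.IsFP F :=
  (isFP_iff F).2 fun x => by
    obtain ⟨U, hx, hU⟩ := (isFinLocFree_iff F).1 h x
    exact ⟨U, hx, (isCoker_of_isFree hU).of_iso ((Scheme.Modules.restrictFunctorIsoPullback U.ι).app F).symm⟩

lemma free_stalk_of_pullback (j : Y ⟶ X) [IsOpenImmersion j] {F : X.Modules} (y : Y)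
    (h : Module.Free (Y.presheaf.stalk y) ((DerSch.stalkFunctor Y y).obj ((Scheme.Modules.pullback j).obj F))) :
    Module.Free (X.presheaf.stalk (j.base y)) ((DerSch.stalkFunctor X (j.base y)).obj F) := by
  let φ := (j.stalkMap y).hom
  letI := φ.toAlgebra
  let e : (DerSch.stalkFunctor Y y).obj ((Scheme.Modules.pullback j).obj F) ≅
      (ModuleCat.extendScalars φ).obj ((DerSch.stalkFunctor X (j.base y)).obj F) := (H7StalkPull.pullStalkIso j y).app F
  have h1 : Module.Free (Y.presheaf.stalk y)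
      (TensorProduct (X.presheaf.stalk (j.base y)) (Y.presheaf.stalk y) ((DerSch.stalkFunctor X (j.base y)).obj F)) :=
    Module.Free.of_equiv e.toLinearEquiv
  have hb : Function.Bijective (algebraMap (X.presheaf.stalk (j.base y)) (Y.presheaf.stalk y)) :=
    (ConcreteCategory.isIso_iff_bijective _).1 (inferInstance : IsIso (j.stalkMap y))
  let eA := LinearEquiv.ofBijective (Algebra.linearMap (X.presheaf.stalk (j.base y)) (Y.presheaf.stalk y)) hb
  have : Module.Free (X.presheaf.stalk (j.base y)) (Y.presheaf.stalk y) := Module.Free.of_equiv eA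
  have h2 : Module.Free (X.presheaf.stalk (j.base y))
      (TensorProduct (X.presheaf.stalk (j.base y)) (Y.presheaf.stalk y) ((DerSch.stalkFunctor X (j.base y)).obj F)) :=
    Module.Free.trans (R := X.presheaf.stalk (j.base y)) (S := Y.presheaf.stalk y)
  exact Module.Free.of_equiv ((TensorProduct.lid _ _).symm.trans
    (TensorProduct.congr eA (LinearEquiv.refl _ _))).symm

theorem free_stalk {F : X.Modules} (h : FlatMod.IsFinLocFree F) (x : X) :
    Module.Free (X.presheaf.stalk x) ((DerSch.stalkFunctor X x).obj F) := by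
  obtain ⟨U, hx, n, ⟨e⟩⟩ := (isFinLocFree_iff F).1 h x
  exact free_stalk_of_pullback U.ι (⟨x, hx⟩ : (U : Scheme.{u})) (Module.Free.of_basis ((H7Betti.coords e).basis ⟨x, hx⟩))

end Groth.Agent.H7FPFlat
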