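import Groth.Agent.Lib.H7CokerFree
import Mathlib

/-! Finite presentation: locally a cokernel of a map of finite free modules. -/

universe u
open CategoryTheory Limits AlgebraicGeometry Opposite TopologicalSpace

namespace Groth.Agent.H7FPLocal
open Groth.Agent H7PerfPull H7FinFree

variable {X : Scheme.{u}}

/-- a cokernel of a map of finite free modules -/
def IsCoker (M : X.Modules) : Prop :=
  ∃ (m n : ℕ) (g : FlatMod.freeMod X m ⟶ FlatMod.freeMod X n), Nonempty (cokernel g ≅ M)

lemma IsCoker.of_iso {M N : X.Modules} (e : M ≅ N) : IsCoker M → IsCoker N :=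
  fun ⟨m, n, g, ⟨f⟩⟩ => ⟨m, n, g, ⟨f ≪≫ e⟩⟩

lemma IsCoker.pullback {Y : Scheme.{u}} (f : X ⟶ Y) {M : Y.Modules} :
    IsCoker M → IsCoker ((Scheme.Modules.pullback f).obj M) := fun ⟨m, n, g, ⟨e⟩⟩ =>
  ⟨m, n, (pullFreeIso f m).inv ≫ (Scheme.Modules.pullback f).map g ≫ (pullFreeIso f n).hom,
    ⟨cokernel.mapIso _ ((Scheme.Modules.pullback f).map g) (pullFreeIso f m).symm (pullFreeIso f n).symm (by simp) ≪≫
      (PreservesCokernel.iso (Scheme.Modules.pullback f) g).symm ≪≫ (Scheme.Modules.pullback f).mapIso e⟩⟩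

/-- free modules on finite types -/
lemma exists_free_iso (I : Type u) [Finite I] :
    ∃ n : ℕ, Nonempty ((SheafOfModules.free (R := X.ringCatSheaf) I : X.Modules) ≅ FlatMod.freeMod X n) := by
  obtain ⟨n, ⟨e⟩⟩ := Finite.exists_equiv_fin I
  exact ⟨n, ⟨Sigma.whiskerEquiv (f := fun _ : I => Coh.structureModule X) (g := fun _ : Fin n => Coh.structureModule X) e
    (fun _ => Iso.refl _)⟩⟩

set_option backward.isDefEq.respectTransparency false in
lemma isCoker_of_presentation {M : X.Modules} (P : SheafOfModules.Presentation (R := X.ringCatSheaf) M) (hP : P.IsFinite) : IsCoker M := by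
  have := hP.isFiniteType_generators.finite
  have := hP.isFiniteType_relations.finite
  obtain ⟨n, ⟨en⟩⟩ := exists_free_iso (X := X) P.generators.I
  obtain ⟨m, ⟨em⟩⟩ := exists_free_iso (X := X) P.relations.I
  let f : (SheafOfModules.free (R := X.ringCatSheaf) P.relations.I : X.Modules) ⟶ SheafOfModules.free P.generators.I :=
    (SheafOfModules.freeHomEquiv _).symm P.relations.s ≫ kernel.ι _
  refine ⟨m, n, em.inv ≫ f ≫ en.hom, ⟨cokernel.mapIso _ f em.symm en.symm (by simp) ≪≫ ?_⟩⟩
  exact IsColimit.coconePointUniqueUpToIso (cokernelIsCokernel f) P.isColimit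

set_option backward.isDefEq.respectTransparency false in
lemma exists_presentation {M : X.Modules} (h : IsCoker M) :
    ∃ P : SheafOfModules.Presentation (R := X.ringCatSheaf) M, P.IsFinite := by
  obtain ⟨m, n, g, ⟨e⟩⟩ := h
  obtain ⟨m', ⟨em⟩⟩ := exists_free_iso (X := X) (ULift.{u} (Fin m))
  obtain ⟨n', ⟨en⟩⟩ := exists_free_iso (X := X) (ULift.{u} (Fin n))
  let am : (SheafOfModules.free (R := X.ringCatSheaf) (ULift.{u} (Fin m)) : X.Modules) ≅ FlatMod.freeMod X m :=
    Sigma.whiskerEquiv (f := fun _ : ULift.{u} (Fin m) => Coh.structureModule X) (g := fun _ : Fin m => Coh.structureModule X)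
      Equiv.ulift (fun _ => Iso.refl _)
  let an : (SheafOfModules.free (R := X.ringCatSheaf) (ULift.{u} (Fin n)) : X.Modules) ≅ FlatMod.freeMod X n :=
    Sigma.whiskerEquiv (f := fun _ : ULift.{u} (Fin n) => Coh.structureModule X) (g := fun _ : Fin n => Coh.structureModule X)
      Equiv.ulift (fun _ => Iso.refl _)
  have H : (am.hom ≫ g ≫ an.inv) ≫ (an.hom ≫ cokernel.π g ≫ e.hom) = 0 := by simp
  refine ⟨SheafOfModules.presentationOfIsCokernelFree (am.hom ≫ g ≫ an.inv) (an.hom ≫ cokernel.π g ≫ e.hom) H ?_,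
    ⟨⟨(inferInstance : Finite (ULift.{u} (Fin n)))⟩, ⟨(inferInstance : Finite (ULift.{u} (Fin m)))⟩⟩⟩
  exact IsColimit.ofIsoColimit (cokernelIsCokernel (am.hom ≫ g ≫ an.inv)) (Cofork.ext
    (cokernel.mapIso _ g am an (by simp) ≪≫ e) (by simp [CokernelCofork.ofπ]))

set_option maxHeartbeats 1000000 in
set_option backward.isDefEq.respectTransparency false in
theorem isFP_iff (M : X.Modules) : CohB1.IsFP M ↔ ∀ x : X, ∃ U : X.Opens, x ∈ U ∧ IsCoker (M.restrict U.ι) := by
  constructor
  · intro h x
    obtain ⟨σ, hσ⟩ := SheafOfModules.IsFinitePresentation.exists_quasicoherentData (R := X.ringCatSheaf) M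
    have hc := (Opens.coversTop_iff (T := X) (U := σ.X)).1 σ.coversTop
    obtain ⟨i, hi⟩ : ∃ i, x ∈ σ.X i := Opens.mem_iSup.1 (hc ▸ (trivial : x ∈ (⊤ : X.Opens)))
    let V : X.Opens := σ.X i
    let e := Scheme.Modules.overEquiv V
    let P := σ.presentation i
    have hP := hσ.isFinite_presentation i
    haveI : PreservesColimitsOfSize.{u, u} e.functor := inferInstance
    let η : SheafOfModules.unit (V : Scheme.{u}).ringCatSheaf ≅ e.functor.obj (SheafOfModules.unit (X.ringCatSheaf.over V)) :=
      (Scheme.Modules.restrictUnitIso V.ι).symm ≪≫ ((Scheme.Modules.overFunctorEquiv V).app _).symm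
    refine ⟨V, hi, (isCoker_of_presentation (X := (V : Scheme.{u})) (M := e.functor.obj (M.over V)) (P.map e.functor η)
      ⟨⟨hP.isFiniteType_generators.finite⟩, ⟨hP.isFiniteType_relations.finite⟩⟩).of_iso
        ((Scheme.Modules.overFunctorEquiv V).app M)⟩
  · intro h
    choose U hx hU using h
    choose P hP using fun x => exists_presentation (hU x)
    let e := fun x => Scheme.Modules.overEquiv (U x)
    have hQ : ∀ x, ∃ Q : SheafOfModules.Presentation (R := X.ringCatSheaf.over (U x)) (M.over (U x)), Q.IsFinite := by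
      intro x
      let η : (e x).inverse.obj (SheafOfModules.unit _) ≅ SheafOfModules.unit (X.ringCatSheaf.over (U x)) :=
        (e x).inverse.mapIso ((Scheme.Modules.restrictUnitIso (U x).ι).symm ≪≫
          ((Scheme.Modules.overFunctorEquiv (U x)).app _).symm) ≪≫ ((e x).unitIso.app _).symm
      haveI : PreservesColimitsOfSize.{u, u} (e x).inverse := inferInstance
      let a : (e x).inverse.obj (M.restrict (U x).ι) ≅ M.over (U x) :=
        (e x).inverse.mapIso ((Scheme.Modules.overFunctorEquiv (U x)).app M).symm ≪≫ ((e x).unitIso.app _).symm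
      exact ⟨SheafOfModules.Presentation.ofIsIso.{u, u, u} a.hom ((P x).map (e x).inverse η.symm),
        ⟨⟨(hP x).isFiniteType_generators.finite⟩, ⟨(hP x).isFiniteType_relations.finite⟩⟩⟩
    choose Q hQ' using hQ
    constructor
    exact ⟨SheafOfModules.QuasicoherentData.mk.{u, u, u, u} (M := M) X U
      ((Opens.coversTop_iff (T := X) (U := U)).2 (eq_top_iff.2 fun y _ => Opens.mem_iSup.2 ⟨y, hx y⟩)) Q,
      SheafOfModules.QuasicoherentData.IsFinitePresentation.mk.{u, u, u, u} hQ'⟩

set_option maxHeartbeats 1000000 in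
set_option backward.isDefEq.respectTransparency false in
/-- finite type from local quotients of finite free modules -/
theorem isFT_of_epi (M : X.Modules)
    (h : ∀ x : X, ∃ (U : X.Opens) (n : ℕ) (p : FlatMod.freeMod (U : Scheme.{u}) n ⟶ M.restrict U.ι), x ∈ U ∧ Epi p) :
    CohB1.IsFT M := by
  choose U n p hx hp using h
  let e := fun x => Scheme.Modules.overEquiv (U x)
  have hG : ∀ x, ∃ G : SheafOfModules.GeneratingSections (R := X.ringCatSheaf.over (U x)) (M.over (U x)), G.IsFiniteType := by
    intro x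
    let an : (SheafOfModules.free (R := (U x : Scheme.{u}).ringCatSheaf) (ULift.{u} (Fin (n x))) : (U x : Scheme.{u}).Modules) ≅
        FlatMod.freeMod (U x : Scheme.{u}) (n x) :=
      Sigma.whiskerEquiv (f := fun _ : ULift.{u} (Fin (n x)) => Coh.structureModule (U x : Scheme.{u}))
        (g := fun _ : Fin (n x) => Coh.structureModule (U x : Scheme.{u})) Equiv.ulift (fun _ => Iso.refl _)
    have := hp x
    let G₀ : SheafOfModules.GeneratingSections (R := (U x : Scheme.{u}).ringCatSheaf) (M.restrict (U x).ι) :=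
      { I := ULift.{u} (Fin (n x))
        s := (M.restrict (U x).ι).freeHomEquiv (an.hom ≫ p x)
        epi := by rw [Equiv.symm_apply_apply]; exact (inferInstance : Epi (an.hom ≫ p x)) }
    let η : (e x).inverse.obj (SheafOfModules.unit _) ≅ SheafOfModules.unit (X.ringCatSheaf.over (U x)) :=
      (e x).inverse.mapIso ((Scheme.Modules.restrictUnitIso (U x).ι).symm ≪≫
        ((Scheme.Modules.overFunctorEquiv (U x)).app _).symm) ≪≫ ((e x).unitIso.app _).symm
    haveI : PreservesColimitsOfSize.{u, u} (e x).inverse := inferInstance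
    let a : (e x).inverse.obj (M.restrict (U x).ι) ≅ M.over (U x) :=
      (e x).inverse.mapIso ((Scheme.Modules.overFunctorEquiv (U x)).app M).symm ≪≫ ((e x).unitIso.app _).symm
    exact ⟨(G₀.map (e x).inverse η.symm).ofEpi a.hom, ⟨(inferInstance : Finite (ULift.{u} (Fin (n x))))⟩⟩
  choose G hG' using hG
  constructor
  exact ⟨SheafOfModules.LocalGeneratorsData.mk.{u, u, u, u} (M := M) X U
    ((Opens.coversTop_iff (T := X) (U := U)).2 (eq_top_iff.2 fun y _ => Opens.mem_iSup.2 ⟨y, hx y⟩)) G, SheafOfModules.LocalGeneratorsData.IsFiniteType.mk.{u, u, u, u} hG'⟩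

end Groth.Agent.H7FPLocal
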