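import Mathlib

/-! Stalks at generalisations as localisations; locally factorial schemes. -/

set_option autoImplicit false

universe u
open CategoryTheory AlgebraicGeometry TopologicalSpace IsLocalRing

namespace Groth.Agent.H7Factorial

variable {X : Scheme.{u}}

theorem isLocalization_stalkSpecializes {ζ x : X} (h : ζ ⤳ x) :
    @IsLocalization.AtPrime (X.presheaf.stalk x) _ (X.presheaf.stalk ζ) _ (X.presheaf.stalkSpecializes h).hom.toAlgebra
      ((maximalIdeal (X.presheaf.stalk ζ)).comap (X.presheaf.stalkSpecializes h).hom) _ := by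
  letI := (X.presheaf.stalkSpecializes h).hom.toAlgebra
  obtain ⟨V, hV, hxV, -⟩ := exists_isAffineOpen_mem_and_subset (x := x) (U := ⊤) trivial
  have hζV : ζ ∈ V := h.mem_open V.2 hxV
  letI := (X.presheaf.germ V x hxV).hom.toAlgebra
  letI := (X.presheaf.germ V ζ hζV).hom.toAlgebra
  haveI : IsScalarTower Γ(X, V) (X.presheaf.stalk x) (X.presheaf.stalk ζ) :=
    IsScalarTower.of_algebraMap_eq' (congrArg CommRingCat.Hom.hom (TopCat.Presheaf.germ_stalkSpecializes X.presheaf hxV h).symm)
  haveI hx : IsLocalization.AtPrime (X.presheaf.stalk x) (hV.primeIdealOf ⟨x, hxV⟩).asIdeal := hV.isLocalization_stalk ⟨x, hxV⟩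
  haveI hz : IsLocalization.AtPrime (X.presheaf.stalk ζ) (hV.primeIdealOf ⟨ζ, hζV⟩).asIdeal := hV.isLocalization_stalk ⟨ζ, hζV⟩
  have hle : (hV.primeIdealOf ⟨x, hxV⟩).asIdeal.primeCompl ≤ (hV.primeIdealOf ⟨ζ, hζV⟩).asIdeal.primeCompl := by
    intro a ha hm
    refine ha ?_
    have h1 : hV.fromSpec (hV.primeIdealOf ⟨ζ, hζV⟩) ⤳ hV.fromSpec (hV.primeIdealOf ⟨x, hxV⟩) := by
      rw [hV.fromSpec_primeIdealOf, hV.fromSpec_primeIdealOf]; exact h
    exact (PrimeSpectrum.le_iff_specializes _ _).2 (hV.fromSpec.isOpenEmbedding.isInducing.specializes_iff.1 h1) hm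
  haveI := IsLocalization.isLocalization_of_submonoid_le (X.presheaf.stalk x) (X.presheaf.stalk ζ) _ _ hle
  refine IsLocalization.of_le (M := Submonoid.map (algebraMap Γ(X, V) (X.presheaf.stalk x))
      (hV.primeIdealOf ⟨ζ, hζV⟩).asIdeal.primeCompl) _ ?_ ?_
  · rintro _ ⟨a, ha, rfl⟩
    intro hm
    have h1 : IsUnit ((X.presheaf.stalkSpecializes h).hom (algebraMap Γ(X, V) (X.presheaf.stalk x) a)) := by
      rw [← RingHom.algebraMap_toAlgebra (X.presheaf.stalkSpecializes h).hom, ← IsScalarTower.algebraMap_apply]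
      exact IsLocalization.map_units (X.presheaf.stalk ζ) ⟨a, ha⟩
    exact (IsLocalRing.mem_maximalIdeal _).1 hm h1
  · intro r hr
    exact IsLocalRing.notMem_maximalIdeal.1 hr

theorem exists_eq_comap (x : X) (p : Ideal (X.presheaf.stalk x)) [p.IsPrime] :
    ∃ (ζ : X) (h : ζ ⤳ x), (maximalIdeal (X.presheaf.stalk ζ)).comap (X.presheaf.stalkSpecializes h).hom = p := by
  let q : Spec (X.presheaf.stalk x) := ⟨p, inferInstance⟩
  have h : X.fromSpecStalk x q ⤳ x :=
    (X.range_fromSpecStalk (x := x) ▸ Set.mem_range_self q : X.fromSpecStalk x q ∈ {y | y ⤳ x})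
  refine ⟨_, h, ?_⟩
  have : Spec.map (X.presheaf.stalkSpecializes h) (closedPoint _) = q := by
    refine (X.fromSpecStalk x).isEmbedding.injective ?_
    rw [← Scheme.Hom.comp_apply, Scheme.SpecMap_stalkSpecializes_fromSpecStalk, Scheme.fromSpecStalk_closedPoint]
  exact congrArg PrimeSpectrum.asIdeal this


theorem dim_stalk_eq_height {ζ x : X} (h : ζ ⤳ x) :
    ringKrullDim (X.presheaf.stalk ζ) =
      ((maximalIdeal (X.presheaf.stalk ζ)).comap (X.presheaf.stalkSpecializes h).hom).height := by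
  letI := (X.presheaf.stalkSpecializes h).hom.toAlgebra
  haveI := isLocalization_stalkSpecializes h
  exact IsLocalization.AtPrime.ringKrullDim_eq_height
    ((maximalIdeal (X.presheaf.stalk ζ)).comap (X.presheaf.stalkSpecializes h).hom) (X.presheaf.stalk ζ)

theorem exists_height_one {R : Type u} [CommRing R] [IsNoetherianRing R] (p : Ideal R) [p.IsPrime]
    (hp : p.height ≠ 0) : ∃ q : Ideal R, q.IsPrime ∧ q ≤ p ∧ q.height = 1 := by
  haveI : p.FiniteHeight := inferInstance
  obtain ⟨l, hl, hlen⟩ := Ideal.exists_ltSeries_length_eq_height p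
  have hpos : l.length ≠ 0 := fun e => hp (by rw [← hlen, e]; rfl)
  let q := l ⟨1, by omega⟩
  have hheq : (l.length : ℕ∞) = Order.height (RelSeries.last l) := by
    rw [← PrimeSpectrum.height_eq_orderHeight, hl]; exact hlen
  refine ⟨q.asIdeal, q.2, ?_, ?_⟩
  · have : q ≤ RelSeries.last l := l.monotone (Fin.le_last _)
    rw [hl] at this
    exact this
  · rw [PrimeSpectrum.height_eq_orderHeight, Order.height_eq_index_of_length_eq_height_last hheq]
    rfl

theorem domain_and_ufd {R : Type u} [CommRing R] [IsNoetherianRing R] [IsLocalRing R]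
    (hdim : (maximalIdeal R).height ≠ 0)
    (H : ∀ p : Ideal R, p.IsPrime → p.height = 1 → ∃ t ∈ nonZeroDivisors R, p = Ideal.span {t}) :
    ∃ _ : IsDomain R, UniqueFactorizationMonoid R := by
  obtain ⟨p, hp, hpm, hp1⟩ := exists_height_one (maximalIdeal R) hdim
  obtain ⟨t, ht, rfl⟩ := H p hp hp1
  obtain ⟨q, hq, hqp⟩ := Ideal.exists_minimalPrimes_le (bot_le : (⊥ : Ideal R) ≤ Ideal.span {t})
  haveI := hq.1.1
  have htq : t ∉ q := by
    intro htq
    have := Ideal.disjoint_nonZeroDivisors_of_mem_minimalPrimes (R := R) (p := q) hq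
    exact Set.disjoint_left.1 this htq ht
  have hq0 : q = ⊥ := by
    refine Submodule.eq_bot_of_le_smul_of_le_jacobson_bot (Ideal.span {t}) q (IsNoetherian.noetherian q) ?_ ?_
    · intro a ha
      obtain ⟨c, rfl⟩ := Ideal.mem_span_singleton.1 (hqp ha)
      exact Submodule.smul_mem_smul (Ideal.mem_span_singleton_self t) ((hq.1.1.mem_or_mem ha).resolve_left htq)
    · rw [IsLocalRing.jacobson_eq_maximalIdeal ⊥ bot_ne_top]
      exact hpm
  haveI : IsDomain R := by
    haveI : (⊥ : Ideal R).IsPrime := hq0 ▸ hq.1.1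
    exact IsDomain.of_bot_isPrime R
  refine ⟨‹_›, UniqueFactorizationMonoid.iff_exists_prime_mem_of_isPrime.2 fun P hP hP' => ?_⟩
  haveI := hP'
  have hP0 : P.height ≠ 0 := by
    rw [Ne, Ideal.height_eq_zero_iff_eq_bot]
    exact hP
  obtain ⟨Q, hQ, hQP, hQ1⟩ := exists_height_one P hP0
  obtain ⟨s, hs, rfl⟩ := H Q hQ hQ1
  exact ⟨s, hQP (Ideal.mem_span_singleton_self s),
    (Ideal.span_singleton_prime (nonZeroDivisors.ne_zero hs)).1 hQ⟩

theorem height_one_principal {R : Type u} [CommRing R] [IsDomain R] [UniqueFactorizationMonoid R]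
    (p : Ideal R) [p.IsPrime] (hp : p.height = 1) : ∃ t ∈ nonZeroDivisors R, p = Ideal.span {t} := by
  have hne : p ≠ ⊥ := by rintro rfl; simp at hp
  obtain ⟨s, hsp, hs⟩ := Ideal.IsPrime.exists_mem_prime_of_ne_bot ‹p.IsPrime› hne
  haveI : (Ideal.span {s}).IsPrime := (Ideal.span_singleton_prime hs.ne_zero).2 hs
  refine ⟨s, mem_nonZeroDivisors_of_ne_zero hs.ne_zero, ?_⟩
  by_contra hne'
  have hlt : Ideal.span {s} < p := lt_of_le_of_ne ((Ideal.span_singleton_le_iff_mem _).2 hsp) (Ne.symm hne')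
  haveI : p.FiniteHeight := ⟨Or.inr (by rw [hp]; exact ENat.one_ne_top)⟩
  have h2 := Ideal.height_strict_mono_of_isPrime_of_isPrime hlt
  rw [hp] at h2
  have h3 : (Ideal.span {s}).height = 0 := ENat.lt_one_iff_eq_zero.1 h2
  rw [Ideal.height_eq_zero_iff_eq_bot, Ideal.span_singleton_eq_bot] at h3
  exact hs.ne_zero h3

theorem domain_stalk [IsLocallyNoetherian X] (x : X)
    (hred : IsOpen ({x} : Set X) → IsReduced (X.presheaf.stalk x))
    (H : ∀ y : X, (maximalIdeal (X.presheaf.stalk y)).height ≠ 0 → ∃ _ : IsDomain (X.presheaf.stalk y), UniqueFactorizationMonoid (X.presheaf.stalk y)) :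
    ∃ _ : IsDomain (X.presheaf.stalk x), UniqueFactorizationMonoid (X.presheaf.stalk x) := by
  by_cases h0 : (maximalIdeal (X.presheaf.stalk x)).height = 0
  swap
  · exact H x h0
  haveI : Ring.KrullDimLE 0 (X.presheaf.stalk x) := Ring.krullDimLE_iff.2 (by
    rw [← IsLocalRing.maximalIdeal_height_eq_ringKrullDim, h0]; rfl)
  suffices hd : IsDomain (X.presheaf.stalk x) by
    refine ⟨hd, ?_⟩
    haveI := hd
    letI := (Ring.KrullDimLE.isField_of_isReduced (R := X.presheaf.stalk x)).toField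
    infer_instance
  by_cases hopen : IsOpen ({x} : Set X)
  · haveI := hred hopen
    exact (Ring.KrullDimLE.isField_of_isReduced (R := X.presheaf.stalk x)).isDomain
  -- a proper specialisation of `x`
  have hmax : ∀ y : X, y ⤳ x → y = x := by
    intro y hy
    obtain ⟨p, rfl⟩ : y ∈ Set.range (X.fromSpecStalk x) := by rw [X.range_fromSpecStalk]; exact hy
    rw [show p = IsLocalRing.closedPoint _ from PrimeSpectrum.ext (IsLocalRing.eq_maximalIdeal p.2.isMaximal')]
    exact Scheme.fromSpecStalk_closedPoint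
  obtain ⟨V, hV, hxV, -⟩ := exists_isAffineOpen_mem_and_subset (x := x) (U := ⊤) trivial
  haveI : IsNoetherianRing Γ(X, V) := IsLocallyNoetherian.component_noetherian ⟨V, hV⟩
  haveI : QuasiSober ↥V := V.2.isOpenEmbedding_subtypeVal.quasiSober
  let x' : V := ⟨x, hxV⟩
  obtain ⟨o, ho, hne, hle⟩ := @TopologicalSpace.NoetherianSpace.exists_isOpen_nonempty_subset_irreducibleComponent V _ (noetherianSpace_of_isAffineOpen V hV)
    (irreducibleComponent x') (irreducibleComponent_mem_irreducibleComponents x')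
  have hgp := (isIrreducible_irreducibleComponent (x := x')).isGenericPoint_genericPoint
    isClosed_irreducibleComponent
  set η := (isIrreducible_irreducibleComponent (x := x')).genericPoint with hηdef
  have hη : η = x' := Subtype.ext (hmax _ ((hgp.specializes mem_irreducibleComponent).map continuous_subtype_val))
  obtain ⟨w, hw, hwx⟩ : ∃ w ∈ o, w ≠ x' := by
    by_contra hc
    push_neg at hc
    refine hopen ?_
    have : o = {x'} := Set.eq_singleton_iff_nonempty_unique_mem.2 ⟨hne, hc⟩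
    have h2 := V.2.isOpenMap_subtype_val o ho
    rw [this] at h2
    have e : (Subtype.val '' ({x'} : Set ↥V)) = ({x} : Set X) := Set.ext fun z => ⟨fun ⟨a, ha, e⟩ => e ▸ congrArg Subtype.val (ha : a = x'), fun h => ⟨x', rfl, h.symm⟩⟩
    rw [← e]; exact h2
  have hsp : x ⤳ w.1 := ((hη ▸ hgp.specializes (hle hw) : x' ⤳ w)).map continuous_subtype_val
  letI := (X.presheaf.stalkSpecializes hsp).hom.toAlgebra
  haveI := isLocalization_stalkSpecializes hsp
  have hy : (maximalIdeal (X.presheaf.stalk w.1)).height ≠ 0 := by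
    intro hy0
    haveI : Ring.KrullDimLE 0 (X.presheaf.stalk w.1) := Ring.krullDimLE_iff.2 (by
      rw [← IsLocalRing.maximalIdeal_height_eq_ringKrullDim, hy0]; rfl)
    refine hwx (Subtype.ext ?_)
    obtain ⟨p, hp⟩ : x ∈ Set.range (X.fromSpecStalk w.1) := by rw [X.range_fromSpecStalk]; exact hsp
    rw [show p = IsLocalRing.closedPoint _ from PrimeSpectrum.ext (IsLocalRing.eq_maximalIdeal p.2.isMaximal'),
      Scheme.fromSpecStalk_closedPoint] at hp
    exact hp
  obtain ⟨_, -⟩ := H w.1 hy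
  exact IsLocalization.isDomain_of_atPrime (S := X.presheaf.stalk x)
    ((maximalIdeal (X.presheaf.stalk x)).comap (X.presheaf.stalkSpecializes hsp).hom)

end Groth.Agent.H7Factorial
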