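import Groth.Agent.Lib.H7TorFlat
import Mathlib

/-! Descent of tor amplitude along flat surjective morphisms. -/

universe u v w
open CategoryTheory Limits AlgebraicGeometry ZeroObject HomologicalComplex MonoidalCategory TensorProduct

namespace Groth.Agent.H7FlatAmpDesc
open Groth.Agent H5TenCx H7KFlatMod H7KFlatSheaf H7HasLpull H7LpullCalc H7TorAmp H7LTensorMod H7PseudoPull H7TorFlat

attribute [local instance] HasDerivedCategory.standard

theorem exact_of_baseChange {A B : Type u} [CommRing A] [CommRing B] [Algebra A B] [Module.FaithfullyFlat A B]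
    {P₁ P₂ P₃ N : Type u} [AddCommGroup P₁] [AddCommGroup P₂] [AddCommGroup P₃] [AddCommGroup N]
    [Module A P₁] [Module A P₂] [Module A P₃] [Module A N] (f : P₁ →ₗ[A] P₂) (g : P₂ →ₗ[A] P₃)
    (h : Function.Exact ((f.baseChange B).rTensor (B ⊗[A] N)) ((g.baseChange B).rTensor (B ⊗[A] N))) :
    Function.Exact (f.rTensor N) (g.rTensor N) := by
  rw [← Module.FaithfullyFlat.lTensor_exact_iff_exact A B]
  refine (Function.Exact.iff_of_ladder_linearEquiv
    (e₁ := (AlgebraTensorModule.distribBaseChange A B P₁ N).restrictScalars A)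
    (e₂ := (AlgebraTensorModule.distribBaseChange A B P₂ N).restrictScalars A)
    (e₃ := (AlgebraTensorModule.distribBaseChange A B P₃ N).restrictScalars A)
    (f₁₂ := (f.rTensor N).lTensor B) (f₂₃ := (g.rTensor N).lTensor B)
    (g₁₂ := ((f.baseChange B).rTensor (B ⊗[A] N)).restrictScalars A)
    (g₂₃ := ((g.baseChange B).rTensor (B ⊗[A] N)).restrictScalars A) ?_ ?_).1 h
  all_goals ext b p n; simp [AlgebraTensorModule.distribBaseChange]

theorem exactAt_tenN_of_extend {A B : Type u} [CommRing A] [CommRing B] (φ : A →+* B) (hφ : φ.FaithfullyFlat)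
    (P : CochainComplex (ModuleCat.{u} A) ℤ) (N : ModuleCat.{u} A) (i : ℤ)
    (h : (tenN (((ModuleCat.extendScalars φ).mapHomologicalComplex (ComplexShape.up ℤ)).obj P)
      ((ModuleCat.extendScalars φ).obj N)).ExactAt i) : (tenN P N).ExactAt i := by
  letI := φ.toAlgebra
  haveI : Module.FaithfullyFlat A B := hφ
  rw [exactAt_iff' _ (i - 1) i (i + 1) (by simp) (by simp), ShortComplex.ShortExact.moduleCat_exact_iff_function_exact] at h ⊢
  exact exact_of_baseChange (B := B) (P.d (i - 1) i).hom (P.d i (i + 1)).hom h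

theorem flatAmp_descends {X Y : Scheme.{u}} (f : X ⟶ Y) [Flat f] [Surjective f]
    [DCoh.HasLpull f] (E : DCoh.D Y) (a b : ℤ)
    (h : DCoh.HasFlatAmplitudeIn a b ((DCoh.Lpull f).obj E)) : DCoh.HasFlatAmplitudeIn a b E := by
  obtain ⟨K, hK, hflat, ⟨e⟩⟩ := exists_skf E
  have h1 := torAmp_of_flatAmp h
  have h2 := torAmp_of_iso ((DCoh.Lpull f).mapIso e.symm ≪≫ lpullIso f hK) h1
  have hten : ∀ y, ∀ N, ∀ i, (i < a ∨ b < i) → (tenN ((stCx y).obj K) N).ExactAt i := by
    intro y N i hi
    obtain ⟨x, rfl⟩ := f.surjective y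
    have hx := tenN_exact_of_torAmp (H7StalkPull.skf_pullback f hK) h2 x
      ((ModuleCat.extendScalars (f.stalkMap x).hom).obj N) i hi
    refine exactAt_tenN_of_extend (f.stalkMap x).hom ?_ _ _ i
      (hx.of_iso (((MonoidalCategory.curriedTensor (ModuleCat.{u} (X.presheaf.stalk x))).flip.obj _).mapHomologicalComplex _ |>.mapIso
        (H7StalkPull.stCxPullIso f x K)))
    algebraize [(f.stalkMap x).hom]
    haveI : Module.Flat (Y.presheaf.stalk (f x)) (X.presheaf.stalk x) := Flat.stalkMap f x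
    haveI : IsLocalHom (algebraMap (Y.presheaf.stalk (f x)) (X.presheaf.stalk x)) :=
      inferInstanceAs (IsLocalHom (f.stalkMap x).hom)
    exact Module.FaithfullyFlat.of_flat_of_isLocalHom
  by_cases hab : a ≤ b
  swap
  · have hz : ∀ i, K.ExactAt i := fun i => exactAt_of_tenN_stalks fun x N => hten x N i (by omega)
    have hq : QuasiIso (0 : (0 : CochainComplex Y.Modules ℤ) ⟶ K) :=
      ⟨fun i => (quasiIsoAt_iff_exactAt _ i (ShortComplex.exact_of_isZero_X₂ _
        (Functor.map_isZero (HomologicalComplex.eval Y.Modules _ i) (isZero_zero _)))).2 (hz i)⟩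
    have : IsIso (DerivedCategory.Q.map (0 : (0 : CochainComplex Y.Modules ℤ) ⟶ K)) :=
      (DerivedCategory.isIso_Q_map_iff_quasiIso _ _).2 hq
    have h0 : ∀ i, IsZero ((0 : CochainComplex Y.Modules ℤ).X i) := fun i =>
      Functor.map_isZero (HomologicalComplex.eval Y.Modules _ i) (isZero_zero _)
    refine ⟨0, fun i _ => h0 i, fun i x => ?_,
      ⟨asIso (DerivedCategory.Q.map (0 : (0 : CochainComplex Y.Modules ℤ) ⟶ K)) ≪≫ e⟩⟩
    have : Subsingleton ((DerSch.stalkFunctor Y x).obj ((0 : CochainComplex Y.Modules ℤ).X i)) :=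
      ModuleCat.subsingleton_of_isZero (Functor.map_isZero _ (h0 i))
    show Module.Flat (Y.presheaf.stalk x) ((DerSch.stalkFunctor Y x).obj ((0 : CochainComplex Y.Modules ℤ).X i))
    infer_instance
  obtain ⟨L, hL, hL', ⟨eL⟩⟩ := flatAmp_of_exact hK hflat hab
    (fun i hi => exactAt_of_tenN_stalks fun x N => hten x N i hi)
    (fun x N i hi => hten x N i (Or.inr hi)) (fun x N => hten x N _ (Or.inl (by omega)))
  exact ⟨L, hL, hL', ⟨eL ≪≫ e⟩⟩

end Groth.Agent.H7FlatAmpDesc
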