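import Groth.Agent.Lib.H5DRank
import Mathlib

/-! Complexes of finite free modules over a local ring with fibre homology concentrated in one degree. -/

universe u
open CategoryTheory Limits TensorProduct

namespace Groth.Agent.H7FreeCx

variable {R : Type u} [CommRing R] [IsLocalRing R] (C : CochainComplex (ModuleCat.{u} R) ℤ)

local notation "𝔪" => IsLocalRing.maximalIdeal R

lemma d_d (p q s : ℤ) (x : C.X p) : (C.d q s).hom ((C.d p q).hom x) = 0 :=
  LinearMap.congr_fun (congrArg ModuleCat.Hom.hom (C.d_comp_d p q s)) x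

omit [IsLocalRing R] in
lemma one_tmul_eq_zero_iff {M : Type u} [AddCommGroup M] [Module R M] (I : Ideal R) (x : M) :
    (1 : R ⧸ I) ⊗ₜ[R] x = 0 ↔ x ∈ I • (⊤ : Submodule R M) := by
  have h : quotTensorEquivQuotSMul M I ((1 : R ⧸ I) ⊗ₜ[R] x) = Submodule.Quotient.mk x := by
    rw [← RingHom.map_one (Ideal.Quotient.mk I), quotTensorEquivQuotSMul_mk_tmul, one_smul]
  rw [← (quotTensorEquivQuotSMul M I).map_eq_zero_iff, h, Submodule.Quotient.mk_eq_zero]

omit [IsLocalRing R] in
lemma exists_one_tmul {M : Type u} [AddCommGroup M] [Module R M] (I : Ideal R) (z : (R ⧸ I) ⊗[R] M) :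
    ∃ x, (1 : R ⧸ I) ⊗ₜ[R] x = z := by
  induction z using TensorProduct.induction_on with
  | zero => exact ⟨0, tmul_zero _ _⟩
  | tmul r m =>
    obtain ⟨r, rfl⟩ := Ideal.Quotient.mk_surjective r
    exact ⟨r • m, by rw [← smul_tmul, Algebra.smul_def, mul_one]; rfl⟩
  | add a b ha hb =>
    obtain ⟨x, rfl⟩ := ha
    obtain ⟨y, rfl⟩ := hb
    exact ⟨x + y, tmul_add _ _ _⟩

/-- exactness modulo the maximal ideal -/
def ModExact (k : ℤ) : Prop :=
  ∀ x : C.X k, (C.d k (k + 1)).hom x ∈ 𝔪 • (⊤ : Submodule R (C.X (k + 1))) →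
    ∃ y : C.X (k - 1), x - (C.d (k - 1) k).hom y ∈ 𝔪 • (⊤ : Submodule R (C.X k))

theorem modExact_of_exactAt {k : ℤ}
    (h : (((ModuleCat.extendScalars (algebraMap R (R ⧸ 𝔪))).mapHomologicalComplex (ComplexShape.up ℤ)).obj C).ExactAt k) :
    ModExact C k := by
  intro x hx
  rw [HomologicalComplex.exactAt_iff' _ (k - 1) k (k + 1) (by simp) (by simp), ShortComplex.moduleCat_exact_iff] at h
  let e := fun n => H5DRank.bcEquiv (R ⧸ 𝔪) (C.X n)
  have hd : ((ModuleCat.extendScalars (algebraMap R (R ⧸ 𝔪))).map (C.d k (k + 1))).hom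
      ((e k).symm ((1 : R ⧸ 𝔪) ⊗ₜ[R] x)) = 0 := by
    apply (e (k + 1)).injective
    rw [map_zero, H5DRank.bcEquiv_map, LinearEquiv.apply_symm_apply, LinearMap.baseChange_tmul]
    exact (one_tmul_eq_zero_iff _ _).2 hx
  obtain ⟨y', hy'⟩ := h _ hd
  obtain ⟨y, hy⟩ := exists_one_tmul _ (e (k - 1) y')
  refine ⟨y, (one_tmul_eq_zero_iff _ _).1 ?_⟩
  rw [tmul_sub, sub_eq_zero]
  have := congrArg (e k) hy'
  rw [LinearEquiv.apply_symm_apply] at this
  rw [← this]
  refine Eq.trans (H5DRank.bcEquiv_map (R ⧸ 𝔪) (C.d (k - 1) k) y') ?_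
  rw [← hy, LinearMap.baseChange_tmul]

lemma ModExact.elim {j k l : ℤ} (h : ModExact C k) (hj : j + 1 = k) (hl : k + 1 = l) (x : C.X k)
    (hx : (C.d k l).hom x ∈ 𝔪 • (⊤ : Submodule R (C.X l))) :
    ∃ y : C.X j, x - (C.d j k).hom y ∈ 𝔪 • (⊤ : Submodule R (C.X k)) := by
  subst hl
  obtain rfl : j = k - 1 := by omega
  exact h x hx

variable [∀ n, Module.Finite R (C.X n)]

lemma mem_smul_of_fixed {M : Type u} [AddCommGroup M] [Module R M] (S : Submodule R M) (π : M →ₗ[R] M)
    (hπ : ∀ x, π x ∈ S) {v : M} (hv : v ∈ 𝔪 • (⊤ : Submodule R M)) : π v ∈ 𝔪 • S := by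
  have := Submodule.mem_map_of_mem (f := π) hv
  rw [Submodule.map_smul''] at this
  refine Submodule.smul_mono le_rfl ?_ this
  rintro _ ⟨x, -, rfl⟩
  exact hπ x

/-- above the degree: cycles are split images -/
theorem splitUpper [∀ n, Module.Projective R (C.X n)] {b i : ℤ} (hb : ∀ n, b < n → IsZero (C.X n))
    (h : ∀ k, i < k → ModExact C k) :
    ∀ k, i ≤ k → ∃ η : C.X (k + 1) →ₗ[R] C.X k, ∀ z, (C.d (k + 1) (k + 1 + 1)).hom z = 0 → (C.d k (k + 1)).hom (η z) = z := by
  suffices ∀ (n : ℕ) k, i ≤ k → b ≤ k + n → ∃ η : C.X (k + 1) →ₗ[R] C.X k,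
      ∀ z, (C.d (k + 1) (k + 1 + 1)).hom z = 0 → (C.d k (k + 1)).hom (η z) = z from
    fun k hk => this (b - k).toNat k hk (by omega)
  intro n
  induction n with
  | zero =>
    intro k _ hk
    have := ModuleCat.subsingleton_of_isZero (hb (k + 1) (by omega))
    exact ⟨0, fun z _ => Subsingleton.elim _ _⟩
  | succ n ih =>
    intro k hik hk
    obtain ⟨η, hη⟩ := ih (k + 1) (by omega) (by omega)
    let d₁ := (C.d (k + 1) (k + 1 + 1)).hom
    let π : C.X (k + 1) →ₗ[R] C.X (k + 1) := LinearMap.id - η.comp d₁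
    have hπ : ∀ x, π x ∈ LinearMap.ker d₁ := fun x => by
      show d₁ (x - η (d₁ x)) = 0
      rw [map_sub, sub_eq_zero]
      exact (hη (d₁ x) (d_d C _ _ _ x)).symm
    have hfix : ∀ z ∈ LinearMap.ker d₁, π z = z := fun z hz => by
      show z - η (d₁ z) = z
      rw [LinearMap.mem_ker.1 hz, map_zero, sub_zero]
    let ρ : C.X (k + 1) →ₗ[R] LinearMap.ker d₁ := π.codRestrict _ hπ
    have hρ : ρ.comp (LinearMap.ker d₁).subtype = LinearMap.id :=
      LinearMap.ext fun z => Subtype.ext (hfix z.1 z.2)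
    have : Module.Projective R (LinearMap.ker d₁) := Module.Projective.of_split _ _ hρ
    have : Module.Finite R (LinearMap.ker d₁) := Module.Finite.of_surjective ρ fun z => ⟨z.1, LinearMap.congr_fun hρ z⟩
    have hrange : LinearMap.range (C.d k (k + 1)).hom = LinearMap.ker d₁ := by
      refine le_antisymm (by rintro _ ⟨x, rfl⟩; exact d_d C _ _ _ x) ?_
      refine Submodule.le_of_le_smul_of_le_jacobson_bot (Module.Finite.iff_fg.1 this)
        (IsLocalRing.jacobson_eq_maximalIdeal ⊥ bot_ne_top).ge fun z hz => ?_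
      obtain ⟨y, hy⟩ := (h (k + 1) (by omega)).elim C (j := k) (l := k + 1 + 1) rfl rfl z
        (by rw [LinearMap.mem_ker.1 hz]; exact zero_mem _)
      have h2 := mem_smul_of_fixed _ π hπ hy
      rw [hfix _ (Submodule.sub_mem _ hz (d_d C _ _ _ y))] at h2
      rw [← add_sub_cancel ((C.d k (k + 1)).hom y) z]
      exact Submodule.add_mem_sup ⟨y, rfl⟩ h2
    obtain ⟨s, hs⟩ := Module.projective_lifting_property
      ((C.d k (k + 1)).hom.codRestrict (LinearMap.ker d₁) (fun x => d_d C _ _ _ x)) LinearMap.id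
      (fun z => by
        obtain ⟨x, hx⟩ := hrange.ge z.2
        exact ⟨x, Subtype.ext hx⟩)
    exact ⟨s.comp ρ, fun z hz => (congrArg Subtype.val (LinearMap.congr_fun hs (ρ z))).trans (hfix z hz)⟩

omit [IsLocalRing R] [∀ n, Module.Finite R (C.X n)] in
lemma exactAt_of_upper {k : ℤ} (η : C.X (k + 1) →ₗ[R] C.X k)
    (hη : ∀ z, (C.d (k + 1) (k + 1 + 1)).hom z = 0 → (C.d k (k + 1)).hom (η z) = z) : C.ExactAt (k + 1) := by
  rw [HomologicalComplex.exactAt_iff' _ k (k + 1) (k + 1 + 1) (by simp) (by simp), ShortComplex.moduleCat_exact_iff]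
  exact fun z hz => ⟨η z, hη z hz⟩

/-- below the degree: boundaries are split -/
theorem splitLower [∀ n, Module.Free R (C.X n)] {a i : ℤ} (ha : ∀ n, n < a → IsZero (C.X n))
    (h : ∀ k, k < i → ModExact C k) :
    ∀ k, k ≤ i → ∃ η : C.X k →ₗ[R] C.X (k - 1),
      ∀ x, ∃ y, x - η ((C.d (k - 1) k).hom x) = (C.d (k - 1 - 1) (k - 1)).hom y := by
  suffices ∀ (n : ℕ) k, k ≤ i → k - n ≤ a → ∃ η : C.X k →ₗ[R] C.X (k - 1),
      ∀ x, ∃ y, x - η ((C.d (k - 1) k).hom x) = (C.d (k - 1 - 1) (k - 1)).hom y from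
    fun k hk => this (k - a).toNat k hk (by omega)
  intro n
  induction n with
  | zero =>
    intro k _ hk
    have := ModuleCat.subsingleton_of_isZero (ha (k - 1) (by omega))
    exact ⟨0, fun x => ⟨0, Subsingleton.elim _ _⟩⟩
  | succ n ih =>
    intro k hki hk
    obtain ⟨η, hη⟩ := ih (k - 1) (by omega) (by omega)
    let d₀ := (C.d (k - 1 - 1) (k - 1)).hom
    let d₁ := (C.d (k - 1) k).hom
    let π : C.X (k - 1) →ₗ[R] C.X (k - 1) := LinearMap.id - d₀.comp η
    have hkill : ∀ x, π (d₀ x) = 0 := fun x => by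
      obtain ⟨y, hy⟩ := hη x
      show d₀ x - d₀ (η (d₀ x)) = 0
      rw [← map_sub, hy]
      exact d_d C _ _ _ y
    have hd : ∀ x, d₁ (π x) = d₁ x := fun x => by
      show d₁ (x - d₀ (η x)) = d₁ x
      rw [map_sub, show d₁ (d₀ (η x)) = 0 from d_d C _ _ _ _, sub_zero]
    have hidem : ∀ x, π (π x) = π x := fun x => by
      show π (x - d₀ (η x)) = π x
      rw [map_sub, hkill, sub_zero]
    let S := LinearMap.range π
    have : Module.Finite R S := Module.Finite.range π
    let l : S →ₗ[R] C.X k := d₁.comp S.subtype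
    have hinj : Function.Injective (l.lTensor (R ⧸ 𝔪)) := by
      rw [injective_iff_map_eq_zero]
      intro t ht
      obtain ⟨⟨c, x, rfl⟩, rfl⟩ := exists_one_tmul 𝔪 t
      rw [LinearMap.lTensor_tmul, one_tmul_eq_zero_iff] at ht
      rw [one_tmul_eq_zero_iff]
      obtain ⟨y, hy⟩ := (h (k - 1) (by omega)).elim C (j := k - 1 - 1) (l := k) (by omega) (by omega) (π x) ht
      have h2 := mem_smul_of_fixed S π (fun z => ⟨z, rfl⟩) hy
      rw [map_sub, hidem, hkill, sub_zero] at h2
      rw [Submodule.mem_smul_top_iff]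
      exact h2
    obtain ⟨r, hr⟩ := (IsLocalRing.split_injective_iff_lTensor_residueField_injective l).2 hinj
    refine ⟨S.subtype.comp r, fun x => ⟨η x, ?_⟩⟩
    have h3 := LinearMap.congr_fun hr (⟨π x, x, rfl⟩ : S)
    simp only [LinearMap.comp_apply, LinearMap.id_apply, l, Submodule.coe_subtype, hd] at h3
    show x - ((r (d₁ x)) : C.X (k - 1)) = d₀ (η x)
    rw [h3]
    show x - (x - d₀ (η x)) = _
    rw [sub_sub_cancel]

/-- the complex is exact away from `i`, and its cohomology at `i` is free of finite rank -/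
theorem concentrated [∀ n, Module.Free R (C.X n)] {a b i : ℤ} (hC : ∀ n, (n < a ∨ b < n) → IsZero (C.X n))
    (h : ∀ k, k ≠ i → ModExact C k) :
    (∀ k, k ≠ i → C.ExactAt k) ∧ ∃ (r : ℕ) (z : Fin r → C.X i), (∀ l, (C.d i (i + 1)).hom (z l) = 0) ∧
      (∀ c : Fin r → R, (∃ y, (C.d (i - 1) i).hom y = ∑ l, c l • z l) → c = 0) ∧
      ∀ x, (C.d i (i + 1)).hom x = 0 → ∃ (c : Fin r → R) (y : C.X (i - 1)),
        (C.d (i - 1) i).hom y = x - ∑ l, c l • z l := by
  have hup := splitUpper C (b := b) (i := i) (fun n hn => hC n (Or.inr hn)) (fun k hk => h k (ne_of_gt hk))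
  have hlo := splitLower C (a := a) (i := i) (fun n hn => hC n (Or.inl hn)) (fun k hk => h k (ne_of_lt hk))
  refine ⟨fun k hk => ?_, ?_⟩
  · rcases lt_or_gt_of_ne hk with hlt | hgt
    · obtain ⟨k, rfl⟩ : ∃ m, k = m - 1 := ⟨k + 1, by omega⟩
      obtain ⟨η, hη⟩ := hlo k (by omega)
      rw [HomologicalComplex.exactAt_iff' _ (k - 1 - 1) (k - 1) k (by simp) (by simp), ShortComplex.moduleCat_exact_iff]
      intro x hx
      obtain ⟨y, hy⟩ := hη x
      rw [show (C.d (k - 1) k).hom x = 0 from hx, map_zero, sub_zero] at hy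
      exact ⟨y, hy.symm⟩
    · obtain ⟨η, hη⟩ := hup (k - 1) (by omega)
      have := exactAt_of_upper C η hη
      rwa [show k - 1 + 1 = k by omega] at this
  · obtain ⟨η, hη⟩ := hup i le_rfl
    obtain ⟨θ, hθ⟩ := hlo i le_rfl
    let dm := (C.d (i - 1) i).hom
    let di := (C.d i (i + 1)).hom
    have hB : ∀ y, dm (θ (dm y)) = dm y := fun y => by
      obtain ⟨w, hw⟩ := hθ y
      have := congrArg dm hw
      rw [map_sub, show dm ((C.d (i - 1 - 1) (i - 1)).hom w) = 0 from d_d C _ _ _ w, sub_eq_zero] at this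
      exact this.symm
    let π : C.X i →ₗ[R] C.X i := LinearMap.id - η.comp di
    let p : C.X i →ₗ[R] C.X i := (LinearMap.id - dm.comp θ).comp π
    have hπ : ∀ x, di (π x) = 0 := fun x => by
      show di (x - η (di x)) = 0
      rw [map_sub, sub_eq_zero]
      exact (hη (di x) (d_d C _ _ _ x)).symm
    have hπfix : ∀ x, di x = 0 → π x = x := fun x hx => by
      show x - η (di x) = x
      rw [hx, map_zero, sub_zero]
    have hkill : ∀ y, p (dm y) = 0 := fun y => by
      show π (dm y) - dm (θ (π (dm y))) = 0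
      rw [hπfix _ (d_d C _ _ _ y), hB, sub_self]
    have hcyc : ∀ x, di (p x) = 0 := fun x => by
      show di (π x - dm (θ (π x))) = 0
      rw [map_sub, hπ, show di (dm (θ (π x))) = 0 from d_d C _ _ _ _, sub_zero]
    have hidem : ∀ x, p (p x) = p x := fun x => by
      show p (π x - dm (θ (π x))) = p x
      rw [map_sub, hkill, sub_zero]
      show π (π x) - dm (θ (π (π x))) = π x - dm (θ (π x))
      rw [hπfix _ (hπ x)]
    let S := LinearMap.range p
    have : Module.Finite R S := Module.Finite.range p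
    have : Module.Projective R S := Module.Projective.of_split S.subtype p.rangeRestrict
      (LinearMap.ext fun z => by
        obtain ⟨_, x, rfl⟩ := z
        exact Subtype.ext (hidem x))
    have : Module.Free R S := Module.free_of_flat_of_isLocalRing
    let bS := Module.finBasis R S
    refine ⟨_, fun l => (bS l : C.X i), fun l => ?_, fun c ⟨y, hy⟩ => ?_, fun x hx => ?_⟩
    · obtain ⟨x, hx⟩ := (bS l).2
      show di (bS l : C.X i) = 0
      rw [← hx]
      exact hcyc x
    · have h0 := congrArg p hy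
      rw [show p ((C.d (i - 1) i).hom y) = 0 from hkill y, map_sum] at h0
      have hfix : ∀ l, p (bS l : C.X i) = bS l := fun l => by
        obtain ⟨x, hx⟩ := (bS l).2
        rw [← hx]
        exact hidem x
      simp only [map_smul, hfix] at h0
      have h1 : ∑ l, c l • bS l = 0 := Subtype.ext (by simpa using h0.symm)
      exact funext fun l => Fintype.linearIndependent_iff.1 bS.linearIndependent c h1 l
    · refine ⟨fun l => bS.repr ⟨p x, x, rfl⟩ l, θ x, ?_⟩
      have hs : ∑ l, bS.repr ⟨p x, x, rfl⟩ l • (bS l : C.X i) = p x := by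
        have h4 := congrArg Subtype.val (bS.sum_repr ⟨p x, x, rfl⟩)
        rw [Submodule.coe_sum] at h4
        exact h4
      rw [hs]
      show dm (θ x) = x - (π x - dm (θ (π x)))
      rw [hπfix x hx, sub_sub_cancel]

end Groth.Agent.H7FreeCx
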