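import Groth.Prelude.Def_Frob
import Groth.Prelude.Def_Flat
import Mathlib

/-! The absolute and relative Frobenius morphisms. -/

set_option autoImplicit false

universe u

open CategoryTheory CategoryTheory.Limits AlgebraicGeometry TopologicalSpace FrobSch Polynomial

namespace Groth.Agent.H7Frob

theorem univHomeo_of {X Y : Scheme.{u}} (f : X ⟶ Y) [IsIntegralHom f] [UniversallyInjective f] [Surjective f] :
    FlatMor.IsUnivHomeo f := by
  intro X' Y' g i h H
  haveI : IsIntegralHom h := MorphismProperty.of_isPullback H.flip ‹IsIntegralHom f› |> fun t => by exact t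
  haveI : UniversallyInjective h := MorphismProperty.of_isPullback H.flip ‹UniversallyInjective f›
  haveI : Surjective h := MorphismProperty.of_isPullback H.flip ‹Surjective f›
  exact ((Equiv.ofBijective h ⟨h.injective, h.surjective⟩).toHomeomorphOfContinuousClosed h.continuous
    h.isClosedMap).isHomeomorph

variable (X : Scheme.{u}) (p : ℕ) [Fact p.Prime] [IsCharP X p]

theorem integral_frob : IsIntegralHom (frob X p) := by
  haveI : IsAffineHom (frob X p) := ⟨fun U hU => by rwa [frob_preimage]⟩
  refine ⟨fun U hU x => ⟨Polynomial.X ^ p - Polynomial.C (show Γ(X, U) from x), monic_X_pow_sub_C _ (Fact.out : p.Prime).ne_zero, ?_⟩⟩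
  rw [Polynomial.eval₂_sub, Polynomial.eval₂_pow, Polynomial.eval₂_X, Polynomial.eval₂_C, sub_eq_zero]
  rfl

theorem inseparable_frob (x : X) : ((frob X p).residueFieldMap x).hom.IsPurelyInseparable := by
  let φ := ((frob X p).residueFieldMap x).hom
  have hp : ∀ (r : X.residueField x), ∃ s, φ s = r ^ p := by
    intro r
    obtain ⟨a, rfl⟩ := X.residue_surjective x r
    obtain ⟨U, hx, s, rfl⟩ := X.presheaf.exists_germ_eq (x := x) a
    refine ⟨X.residue (frob X p x) (X.presheaf.germ U (frob X p x) hx s), ?_⟩
    have h := ConcreteCategory.congr_hom (Scheme.residue_residueFieldMap (frob X p) x) (X.presheaf.germ U x hx s)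
    refine h.trans ?_
    show X.residue x ((frob X p).stalkMap x (X.presheaf.germ U (frob X p x) hx s)) = _
    rw [Scheme.Hom.germ_stalkMap_apply, frob_app, ← map_pow]
    exact congrArg _ (map_pow (X.presheaf.germ U x hx).hom s p)
  letI := φ.toAlgebra
  have h0 : (p : X.residueField (frob X p x)) = 0 := by
    have h := congrArg ((X.residue x).hom.comp (X.presheaf.germ ⊤ x trivial).hom) (IsCharP.natCast_eq_zero (X := X) (p := p))
    rw [map_natCast, map_zero] at h
    exact h
  haveI : CharP (X.residueField (frob X p x)) p := (CharP.charP_iff_prime_eq_zero Fact.out).2 h0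
  haveI : ExpChar (X.residueField (frob X p x)) p := ExpChar.prime Fact.out
  show IsPurelyInseparable (X.residueField (frob X p x)) (X.residueField x)
  refine (isPurelyInseparable_iff_pow_mem (X.residueField (frob X p x)) p).2 fun r => ⟨1, ?_⟩
  rw [pow_one]
  exact hp r

theorem univInj_frob : UniversallyInjective (frob X p) :=
  have h : Function.Injective (frob X p) ∧ ∀ x, ((frob X p).residueFieldMap x).hom.IsPurelyInseparable :=
    ⟨fun _ _ h => h, inseparable_frob X p⟩
  ((tfae_universallyInjective (frob X p)).out 2 0).1 h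

theorem surjective_frob : Surjective (frob X p) := ⟨fun x => ⟨x, rfl⟩⟩

variable {X} {S : Scheme.{u}} [IsCharP S p] (f : X ⟶ S)

theorem relFrob_props : IsIntegralHom (relFrob f p) ∧ UniversallyInjective (relFrob f p) ∧ Surjective (relFrob f p) := by
  haveI : IsCharP X p := IsCharP.of_hom f p
  haveI := integral_frob S p
  haveI := univInj_frob S p
  haveI := integral_frob X p
  haveI := univInj_frob X p
  let π := pullback.fst f (frob S p)
  haveI hπi : UniversallyInjective π := MorphismProperty.pullback_fst f (frob S p) ‹_›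
  haveI : IsIntegralHom (relFrob f p ≫ π) := by rw [relFrob_fst]; infer_instance
  have h2 : UniversallyInjective (relFrob f p ≫ π) := by rw [relFrob_fst]; infer_instance
  refine ⟨IsIntegralHom.of_comp (relFrob f p) π, ?_, ⟨fun q => ⟨π q, π.injective ?_⟩⟩⟩
  · refine ((tfae_universallyInjective (relFrob f p)).out 1 0).1 fun K inst g₁ g₂ hg => ?_
    have hh : ∀ (K : Type u) [Field K], Function.Injective fun g : Spec (.of K) ⟶ X ↦ g ≫ (relFrob f p ≫ π) :=
      ((tfae_universallyInjective (relFrob f p ≫ π)).out 0 1).1 h2
    refine @hh K inst _ _ ?_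
    show g₁ ≫ relFrob f p ≫ π = g₂ ≫ relFrob f p ≫ π
    rw [← Category.assoc, ← Category.assoc]
    exact congrArg (· ≫ π) hg
  · show (relFrob f p ≫ π) (π q) = π q
    rw [relFrob_fst]; rfl

theorem relFrob_finite [LocallyOfFiniteType f] : IsFinite (relFrob f p) := by
  haveI : LocallyOfFiniteType (relFrob f p ≫ pullback.snd f (frob S p)) := by rw [relFrob_snd]; infer_instance
  haveI := (relFrob_props p f).1
  exact (IsFinite.iff_isIntegralHom_and_locallyOfFiniteType _).2
    ⟨inferInstance, locallyOfFiniteType_of_comp (relFrob f p) (pullback.snd f (frob S p))⟩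

end Groth.Agent.H7Frob
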