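import Mathlib
import Groth.Prelude.Def_PolLaw2
import Groth.Prelude.Def_SymTen
import Groth.Agent.Lib.H7PolLaw
import Groth.Agent.Lib.H7SymTen
import Groth.Agent.Lib.H7Gamma
import Groth.Agent.Lib.H7GammaThm
import Groth.Agent.Lib.H7GammaImage

set_option linter.all false
set_option autoImplicit false

/-! Flatness and integrality of divided powers of an algebra. -/

namespace Groth.Agent.H7Gamma

open scoped TensorProduct
open Groth.Agent.H7PolLaw Groth.Agent.H7SymTen

universe u

variable {A : Type u} [CommRing A] {B C : Type u} [CommRing B] [Algebra A B] [CommRing C] [Algebra A C] {d : ℕ}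

/-- the comparison map to symmetric tensors, with its characterisation -/
theorem exists_phi (γ : PolLaw.MulLaw A B C d) (hγ : PolLaw.IsGammaD γ) :
    ∃ φ : C →ₐ[A] SymTen.TS A B d,
      ∀ (S : Type u) [CommSemiring S] [Algebra A S] (n : ℕ) (s : Fin n → S) (b : Fin n → B),
        ((SymTen.TS A B d).val.comp φ).toLinearMap.lTensor S (γ.law.toFun' S (∑ j, s j ⊗ₜ[A] b j)) =
          ∑ c : Fin d → Fin n, (∏ i, s (c i)) ⊗ₜ[A] PiTensorProduct.tprod A (fun i => b (c i)) := by
  obtain ⟨φ, hφ, -⟩ := hγ (SymTen.TS A B d) (tsLaw A B d)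
  refine ⟨φ, fun S _ _ n s b => ?_⟩
  rw [← tpowLaw_sum S s b, ← tsLaw_spec]
  show _ = (SymTen.TS A B d).val.toLinearMap.lTensor S ((tsLaw A B d).law.toFun' S _)
  rw [← hφ, AlgHom.comp_toLinearMap, LinearMap.lTensor_comp]
  rfl

theorem TS_flat [Module.Flat A B] : Module.Flat A (SymTen.TS A B d) := by
  classical
  let P := MvPolynomial B A
  let π : P →ₐ[A] B := MvPolynomial.aeval id
  have hπ : Function.Surjective π := fun b => ⟨(MvPolynomial.X b : MvPolynomial B A), MvPolynomial.aeval_X _ b⟩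
  let e := MvPolynomial.basisMonomials B A
  obtain ⟨g, hg⟩ := exists_lift_free e (tsLaw A P d)
  have hgid : ∀ w : SymTen.TS A P d, g (w : ⨂[A] _ : Fin d, P) = w := by
    intro w
    have key : g ∘ₗ (SymTen.TS A P d).val.toLinearMap = LinearMap.id := by
      refine LinearMap.ext_on (coefSpan_tsLaw fun y hy => mem_orbSpan_of_basis e y hy) ?_
      rintro _ ⟨n, b, k, rfl⟩
      exact (congrArg g (coe_coef_tsLaw b k)).trans (hg n b k)
    exact LinearMap.congr_fun key w
  haveI : Module.Free A (⨂[A] _ : Fin d, P) := Module.Free.of_basis (Basis.piTensorProduct fun _ : Fin d => e)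
  haveI : Module.Flat A (SymTen.TS A P d) :=
    Module.Flat.of_retract (SymTen.TS A P d).val.toLinearMap g (LinearMap.ext hgid)
  have hlift : ∀ y : SymTen.TS A B d, ∃ w : SymTen.TS A P d, SymTen.TSmap A d π w = y := by
    intro y
    obtain ⟨z, hz⟩ := map_surjective (d := d) π.toLinearMap hπ y
    obtain ⟨u, hu, hu0⟩ := exists_kill_tensors e π.toLinearMap hπ
      (Finset.univ.image fun p : Equiv.Perm (Fin d) => PiTensorProduct.reindex A (fun _ : Fin d => P) p z - z)
      (fun w hw => by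
        obtain ⟨p, -, rfl⟩ := Finset.mem_image.mp hw
        rw [map_sub, ← reindex_map, hz, y.2 p, sub_self])
    refine ⟨⟨PiTensorProduct.map (fun _ : Fin d => u) z, fun p => ?_⟩, Subtype.ext ?_⟩
    · rw [reindex_map, ← sub_eq_zero, ← map_sub]
      exact hu0 _ (Finset.mem_image_of_mem _ (Finset.mem_univ p))
    · show SymTen.tmap A d π (PiTensorProduct.map (fun _ : Fin d => u) z) = _
      rw [tmap_eq_map, map_map, hu, hz]
  refine Module.Flat.iff_forall_isTrivialRelation.mpr fun {l r y} hrel => ?_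
  choose w hw using hlift
  obtain ⟨u, hu, hu0⟩ := exists_kill_tensors e π.toLinearMap hπ
    {((∑ i, r i • w (y i) : SymTen.TS A P d) : ⨂[A] _ : Fin d, P)} (by
      intro v hv
      rw [Finset.mem_singleton] at hv
      subst hv
      rw [← tmap_eq_map]
      show ((SymTen.TSmap A d π (∑ i, r i • w (y i)) : SymTen.TS A B d) : ⨂[A] _ : Fin d, B) = 0
      rw [map_sum]
      simp only [map_smul, hw, hrel]
      rfl)
  let w' : Fin l → SymTen.TS A P d := fun i =>
    ⟨PiTensorProduct.map (fun _ : Fin d => u) (w (y i) : ⨂[A] _ : Fin d, P), fun p => by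
      rw [reindex_map, (w (y i)).2 p]⟩
  have hrel' : ∑ i, r i • w' i = 0 := by
    refine Subtype.ext ?_
    have := hu0 _ (Finset.mem_singleton_self _)
    simpa [w', AddSubmonoidClass.coe_finsetSum, map_sum] using this
  obtain ⟨m, a, v, h1, h2⟩ := Module.Flat.isTrivialRelation_of_sum_smul_eq_zero hrel'
  refine ⟨m, a, fun j => SymTen.TSmap A d π (v j), fun i => ?_, h2⟩
  have e1 : SymTen.TSmap A d π (w' i) = y i := by
    refine Subtype.ext ?_
    show SymTen.tmap A d π (PiTensorProduct.map (fun _ : Fin d => u) (w (y i) : ⨂[A] _ : Fin d, P)) = _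
    rw [tmap_eq_map, map_map, hu, ← tmap_eq_map]
    exact congrArg Subtype.val (hw (y i))
  rw [← e1, h1 i, map_sum]
  simp only [map_smul]

theorem algEquivTS (γ : PolLaw.MulLaw A B C d) (hγ : PolLaw.IsGammaD γ) [Module.Flat A B] :
    Nonempty (C ≃ₐ[A] SymTen.TS A B d) := by
  obtain ⟨f, hf, -⟩ := hγ (SymTen.TS A B d) (tsLaw A B d)
  obtain ⟨g, hg, -⟩ := (isGammaD_of_flat (A := A) (B := B) (d := d)) C γ
  refine ⟨AlgEquiv.ofAlgHom f g ?_ ?_⟩
  · refine algHom_ext_coef (tsLaw A B d) (coefSpan_eq_top _ isGammaD_of_flat) fun n b k => ?_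
    show f.toLinearMap (g.toLinearMap (coef (tsLaw A B d).law b k)) = _
    rw [← coef_postcomp, hg, ← coef_postcomp, hf]
    rfl
  · refine algHom_ext_coef γ (coefSpan_eq_top _ hγ) fun n b k => ?_
    show g.toLinearMap (f.toLinearMap (coef γ.law b k)) = _
    rw [← coef_postcomp, hf, ← coef_postcomp, hg]
    rfl

theorem gammaD_flat (γ : PolLaw.MulLaw A B C d) (hγ : PolLaw.IsGammaD γ) [Module.Flat A B] :
    Module.Flat A C := by
  obtain ⟨e⟩ := algEquivTS γ hγ
  haveI := TS_flat (A := A) (B := B) (d := d)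
  exact Module.Flat.of_linearEquiv e.toLinearEquiv

theorem tensorPower_isIntegral [Algebra.IsIntegral A B] : Algebra.IsIntegral A (⨂[A] _ : Fin d, B) := by
  refine ⟨fun z => ?_⟩
  induction z using PiTensorProduct.induction_on with
  | smul_tprod r g =>
    refine IsIntegral.smul r ?_
    have : PiTensorProduct.tprod A g = ∏ i, PiTensorProduct.singleAlgHom (R := A) (A := fun _ : Fin d => B) i (g i) := by
      simp only [PiTensorProduct.singleAlgHom_apply, MonoidHom.mulSingle_apply]
      rw [← PiTensorProduct.tprod_prod]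
      exact congrArg _ (Finset.univ_prod_mulSingle g).symm
    rw [this]
    exact IsIntegral.prod _ fun i _ => (Algebra.IsIntegral.isIntegral (g i)).map _
  | add x y hx hy => exact hx.add hy

theorem gammaD_isIntegral (γ : PolLaw.MulLaw A B C d) (hγ : PolLaw.IsGammaD γ) [Algebra.IsIntegral A B] :
    Algebra.IsIntegral A C := by
  refine ⟨fun x => ?_⟩
  obtain ⟨φ, hφ⟩ := exists_phi γ hγ
  obtain ⟨h1, h2⟩ := norm_pow γ φ (coefSpan_eq_top γ hγ) (phi_postcomp γ φ hφ)
  generalize PolLaw.MulLaw.precomp (sigmaLaw γ) (SymTen.TS A B d).val = F at h1 h2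
  haveI := tensorPower_isIntegral (A := A) (B := B) (d := d)
  obtain ⟨q, hq, hqx⟩ := Algebra.IsIntegral.isIntegral (R := A) ((φ x : SymTen.TS A B d) : ⨂[A] _ : Fin d, B)
  have h0 : φ (Polynomial.aeval x q) = 0 := by
    refine Subtype.ext ?_
    show ((SymTen.TS A B d).val.comp φ) (Polynomial.aeval x q) = 0
    rw [← Polynomial.aeval_algHom_apply]
    exact hqx
  refine ⟨q ^ d.factorial, hq.pow _, ?_⟩
  rw [← Polynomial.aeval_def, map_pow]
  generalize Polynomial.aeval x q = z at h0
  have e : F.law.toFun' A (φ.toLinearMap.lTensor A ((1 : A) ⊗ₜ[A] z)) = ((1 : A) ⊗ₜ[A] z) ^ d.factorial :=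
    congrArg (fun L : PolLaw.MulLaw A C C d.factorial => L.law.toFun' A ((1 : A) ⊗ₜ[A] z)) h2
  have e0 := F.homog A (0 : A) ((1 : A) ⊗ₜ[A] (0 : SymTen.TS A B d))
  rw [zero_smul, zero_pow (Nat.factorial_ne_zero d), zero_smul] at e0
  rw [LinearMap.lTensor_tmul, AlgHom.toLinearMap_apply, h0, TensorProduct.tmul_zero, e0,
    Algebra.TensorProduct.tmul_pow, one_pow] at e
  simpa using (congrArg (TensorProduct.lid A C) e).symm

theorem gammaD_map_surjective {B' C' : Type u} [CommRing B'] [Algebra A B'] [CommRing C'] [Algebra A C']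
    (γ : PolLaw.MulLaw A B C d) (γ' : PolLaw.MulLaw A B' C' d) (hγ' : PolLaw.IsGammaD γ')
    (π : B →ₐ[A] B') (hπ : Function.Surjective π) (φ : C →ₐ[A] C')
    (hφ : PolLaw.postcomp φ.toLinearMap γ.law = (γ'.precomp π).law) : Function.Surjective φ := by
  intro c
  have : (⊤ : Submodule A C') ≤ LinearMap.range φ.toLinearMap := by
    rw [← coefSpan_eq_top γ' hγ']
    refine Submodule.span_le.mpr ?_
    rintro _ ⟨n, b, k, rfl⟩
    choose l hl using fun j => hπ (b j)
    refine ⟨coef γ.law l k, ?_⟩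
    rw [← coef_postcomp, hφ]
    exact (coef_precomp π.toLinearMap γ'.law l k).trans (congrArg (coef γ'.law · k) (funext hl))
  exact this Submodule.mem_top

end Groth.Agent.H7Gamma
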