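import Mathlib
import Groth.Prelude.Def_PolLaw2
import Groth.Prelude.Def_SymTen
import Groth.Agent.Lib.H7PolLaw
import Groth.Agent.Lib.H7SymTen
import Groth.Agent.Lib.H7Gamma
import Groth.Agent.Lib.H7GammaThm
import Groth.Agent.Lib.H7GammaImage
import Groth.Agent.Lib.H7GammaMore

set_option linter.all false
set_option autoImplicit false

/-! Divided powers of an algebra of finite type are of finite type. -/

namespace Groth.Agent.H7Gamma

open scoped TensorProduct
open Groth.Agent.H7PolLaw Groth.Agent.H7SymTen PolLaw MvPolynomial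

universe u

variable {A : Type u} [CommRing A] {P : Type u} [CommRing P] [Algebra A P] {d : ℕ} {I : Type u}

open scoped Classical in
theorem mem_span_orb_basis (e : Module.Basis I A P) (y : ⨂[A] _ : Fin d, P)
    (hy : ∀ p : Equiv.Perm (Fin d), PiTensorProduct.reindex A (fun _ : Fin d => P) p y = y) :
    y ∈ Submodule.span A {x | ∃ (n : ℕ) (ι : Fin n → I) (k : Fin n →₀ ℕ), orb (fun q => e (ι q)) k = x} := by
  classical
  let eT := Basis.piTensorProduct (fun _ : Fin d => e)
  have heT : ∀ c : Fin d → I, eT c = PiTensorProduct.tprod A fun i => e (c i) := fun c =>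
    Basis.piTensorProduct_apply _ c
  let a := eT.repr y
  have hinv : ∀ (c : Fin d → I) (p : Equiv.Perm (Fin d)), a (c ∘ p) = a c := by
    intro c p
    have key : (Finsupp.lapply (R := A) (M := A) c) ∘ₗ eT.repr.toLinearMap ∘ₗ
        (PiTensorProduct.reindex A (fun _ : Fin d => P) p).toLinearMap =
        (Finsupp.lapply (R := A) (M := A) (c ∘ p)) ∘ₗ eT.repr.toLinearMap := by
      refine eT.ext fun c' => ?_
      have h1 : PiTensorProduct.reindex A (fun _ : Fin d => P) p (eT c') = eT (c' ∘ p.symm) := by
        rw [heT, heT, PiTensorProduct.reindex_tprod]; rfl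
      simp only [LinearMap.comp_apply, LinearEquiv.coe_coe, h1, Module.Basis.repr_self, Finsupp.lapply_apply,
        Finsupp.single_apply]
      refine if_congr ⟨fun h => ?_, fun h => ?_⟩ rfl rfl
      · funext i
        simpa using congrFun h (p i)
      · subst h
        funext i
        simp
    have := LinearMap.congr_fun key y
    simp only [LinearMap.comp_apply, LinearEquiv.coe_coe, Finsupp.lapply_apply, hy] at this
    exact this.symm
  let s : Finset I := a.support.biUnion fun c => Finset.univ.image c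
  let ι : Fin s.card → I := fun q => (s.equivFin.symm q : I)
  have hι : Function.Injective ι := fun q q' h => s.equivFin.symm.injective (Subtype.ext h)
  have hy' : y = ∑ c : Fin d → Fin s.card, a (ι ∘ c) • PiTensorProduct.tprod A fun i => e (ι (c i)) := by
    have h1 : y = ∑ c ∈ a.support, a c • eT c := by
      conv_lhs => rw [← eT.linearCombination_repr y, Finsupp.linearCombination_apply, Finsupp.sum]
    have h2 : (∑ c : Fin d → Fin s.card, a (ι ∘ c) • PiTensorProduct.tprod A fun i => e (ι (c i))) =
        ∑ c ∈ (Finset.univ : Finset (Fin d → Fin s.card)).image (ι ∘ ·), a c • eT c := by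
      rw [Finset.sum_image (g := fun c : Fin d → Fin s.card => ι ∘ c)
        (f := fun c => a c • eT c) (fun c _ c' _ h => funext fun i => hι (congrFun h i))]
      simp [heT]
    rw [h2, h1]
    refine Finset.sum_subset (fun c hc => ?_) fun c _ hc => ?_
    · refine Finset.mem_image.mpr ⟨fun i => s.equivFin ⟨c i, Finset.mem_biUnion.mpr
        ⟨c, hc, Finset.mem_image_of_mem _ (Finset.mem_univ i)⟩⟩, Finset.mem_univ _, ?_⟩
      funext i
      simp [ι]
    · rw [Finsupp.notMem_support_iff.mp hc, zero_smul]
  rw [hy']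
  refine Submodule.span_le.mpr ?_ (sum_invariant_eq (fun q => e (ι q)) (fun c => a (ι ∘ c))
    fun c p => hinv (ι ∘ c) p)
  rintro _ ⟨k, rfl⟩
  exact Submodule.subset_span ⟨_, ι, k, rfl⟩

theorem tensorPower_finiteType {R B : Type u} [CommRing R] [CommRing B] [Algebra R B] [Algebra.FiniteType R B] (d : ℕ) :
    Algebra.FiniteType R (⨂[R] _ : Fin d, B) := by
  classical
  obtain ⟨s, hs⟩ := ‹Algebra.FiniteType R B›.out
  refine ⟨⟨(Finset.univ : Finset (Fin d)).biUnion fun i =>
    s.image (PiTensorProduct.singleAlgHom (R := R) (A := fun _ : Fin d => B) i), eq_top_iff.mpr ?_⟩⟩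
  rintro z -
  induction z using PiTensorProduct.induction_on with
  | smul_tprod r g =>
    refine Subalgebra.smul_mem _ ?_ r
    have : PiTensorProduct.tprod R g = ∏ i, PiTensorProduct.singleAlgHom (R := R) (A := fun _ : Fin d => B) i (g i) := by
      simp only [PiTensorProduct.singleAlgHom_apply, MonoidHom.mulSingle_apply]
      rw [← PiTensorProduct.tprod_prod]
      exact congrArg _ (Finset.univ_prod_mulSingle g).symm
    rw [this]
    refine prod_mem fun i _ => ?_
    have h1 : PiTensorProduct.singleAlgHom (R := R) (A := fun _ : Fin d => B) i (g i) ∈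
        (Algebra.adjoin R (s : Set B)).map (PiTensorProduct.singleAlgHom i) :=
      ⟨g i, hs ▸ Algebra.mem_top, rfl⟩
    rw [AlgHom.map_adjoin] at h1
    refine Algebra.adjoin_mono ?_ h1
    rintro _ ⟨b, hb, rfl⟩
    exact Finset.mem_coe.mpr (Finset.mem_biUnion.mpr ⟨i, Finset.mem_univ _, Finset.mem_image_of_mem _ hb⟩)
  | add x y hx hy => exact add_mem hx hy

theorem TS_finiteType {R B : Type u} [CommRing R] [IsNoetherianRing R] [CommRing B] [Algebra R B]
    [Algebra.FiniteType R B] (d : ℕ) : Algebra.FiniteType R (SymTen.TS R B d) := by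
  haveI := tensorPower_finiteType (R := R) (B := B) d
  haveI := isIntegral_over_TS (A := R) (B := B) (d := d)
  haveI : Algebra.FiniteType (SymTen.TS R B d) (⨂[R] _ : Fin d, B) :=
    Algebra.FiniteType.of_restrictScalars_finiteType R _ _
  haveI : Module.Finite (SymTen.TS R B d) (⨂[R] _ : Fin d, B) := Algebra.IsIntegral.finite
  exact ⟨fg_of_fg_of_fg R (SymTen.TS R B d) (⨂[R] _ : Fin d, B) Algebra.FiniteType.out Module.Finite.fg_top
    Subtype.val_injective⟩

theorem TS_mvPolynomial_finiteType_aux (R : Type u) [CommRing R] [IsNoetherianRing R] [Algebra R A] (σ : Type u) [Finite σ] :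
    Algebra.FiniteType A (SymTen.TS A (MvPolynomial σ A) d) := by
  classical
  let PZ := MvPolynomial σ R
  let PA := MvPolynomial σ A
  let j : PZ →ₐ[R] PA := MvPolynomial.mapAlgHom (Algebra.ofId R A)
  let Φ : (⨂[R] _ : Fin d, PZ) →ₐ[R] (⨂[A] _ : Fin d, PA) :=
    PiTensorProduct.liftAlgHom
      (((PiTensorProduct.tprod A (s := fun _ : Fin d => PA)).restrictScalars R).compLinearMap
        fun _ => j.toLinearMap)
      (by
        show PiTensorProduct.tprod A (fun _ : Fin d => j 1) = 1
        simp only [map_one]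
        rfl)
      (fun x y => by
        show PiTensorProduct.tprod A (fun i : Fin d => j (x i * y i)) = _
        simp only [map_mul]
        exact (PiTensorProduct.tprod_mul_tprod _ _).symm)
  have hΦ : ∀ g : Fin d → PZ, Φ (PiTensorProduct.tprod _ g) = PiTensorProduct.tprod A (fun i => j (g i)) := fun g => by
    simp [Φ]
  obtain ⟨s, hs⟩ := (TS_finiteType (R := R) (B := PZ) d).out
  have horb : ∀ (n : ℕ) (b : Fin n → PZ) (k : Fin n →₀ ℕ),
      Φ (orb b k) = orb (A := A) (fun q => j (b q)) k := by
    intro n b k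
    simp only [orb, map_sum]
    refine Finset.sum_congr rfl fun c _ => ?_
    split_ifs with h
    · rw [hΦ]
    · rw [map_zero]
  let e := MvPolynomial.basisMonomials σ A
  have hgen : ∀ y : SymTen.TS A PA d, (y : ⨂[A] _ : Fin d, PA) ∈
      Algebra.adjoin A (Φ '' (Subtype.val '' (s : Set (SymTen.TS R PZ d)))) := by
    intro y
    refine (Submodule.span_le (p := Subalgebra.toSubmodule (Algebra.adjoin A _))).mpr ?_
      (mem_span_orb_basis e (y : ⨂[A] _ : Fin d, PA) y.2)
    rintro _ ⟨n, ι, k, rfl⟩
    have h1 : orb (A := A) (fun q => e (ι q)) k = Φ (orb (fun q => MvPolynomial.monomial (ι q) 1) k) := by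
      rw [horb]
      congr 1
      funext q
      show (MvPolynomial.basisMonomials σ A) (ι q) = MvPolynomial.map (algebraMap R A) (monomial (ι q) 1)
      rw [map_monomial, map_one]
      rfl
    rw [h1]
    have h2 : (⟨_, orb_mem_TS (fun q => (MvPolynomial.monomial (ι q) 1 : PZ)) k⟩ : SymTen.TS R PZ d) ∈
        Algebra.adjoin R (s : Set (SymTen.TS R PZ d)) := hs ▸ Algebra.mem_top
    have h3 : Φ (orb (fun q => (MvPolynomial.monomial (ι q) 1 : PZ)) k) ∈
        (Algebra.adjoin R (s : Set (SymTen.TS R PZ d))).map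
          (Φ.comp (SymTen.TS R PZ d).val) := ⟨_, h2, rfl⟩
    rw [AlgHom.map_adjoin, AlgHom.coe_comp, Set.image_comp] at h3
    show _ ∈ Algebra.adjoin A _
    refine Algebra.adjoin_induction (p := fun z _ => z ∈ Algebra.adjoin A (Φ '' (Subtype.val '' (s : Set (SymTen.TS R PZ d)))))
      (fun x hx => Algebra.subset_adjoin hx) (fun r => ?_)
      (fun a b _ _ ha hb => add_mem ha hb) (fun a b _ _ ha hb => mul_mem ha hb) h3
    rw [IsScalarTower.algebraMap_apply R A (⨂[A] _ : Fin d, PA)]
    exact Subalgebra.algebraMap_mem _ _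
  have hmem : ∀ x ∈ s, Φ (x : ⨂[R] _ : Fin d, PZ) ∈ SymTen.TS A PA d := by
    intro x _ p
    have h4 : ∀ z : ⨂[R] _ : Fin d, PZ, PiTensorProduct.reindex A (fun _ : Fin d => PA) p (Φ z) =
        Φ (PiTensorProduct.reindex R (fun _ : Fin d => PZ) p z) := by
      intro z
      induction z using PiTensorProduct.induction_on with
      | smul_tprod r g =>
        rw [map_smul Φ, hΦ, ← algebraMap_smul A r, map_smul, PiTensorProduct.reindex_tprod, map_smul,
          PiTensorProduct.reindex_tprod, map_smul Φ, hΦ, algebraMap_smul]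
      | add a b ha hb => simp only [map_add, ha, hb]
    rw [h4, x.2 p]
  refine ⟨⟨s.attach.image fun x => ⟨_, hmem x.1 x.2⟩, eq_top_iff.mpr fun y _ => ?_⟩⟩
  have h5 : ((Algebra.adjoin A ((s.attach.image fun x => (⟨_, hmem x.1 x.2⟩ : SymTen.TS A PA d) : Finset _) :
      Set (SymTen.TS A PA d))).map (SymTen.TS A PA d).val) =
      Algebra.adjoin A (Φ '' (Subtype.val '' (s : Set (SymTen.TS R PZ d)))) := by
    rw [AlgHom.map_adjoin]
    congr 1
    ext z
    simp
    rintro x hx hxs rfl
    exact hmem _ hxs
  have h6 := hgen y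
  rw [← h5] at h6
  obtain ⟨w, hw, hwy⟩ := h6
  rwa [Subtype.val_injective hwy] at hw

theorem TS_mvPolynomial_finiteType (σ : Type u) [Finite σ] :
    Algebra.FiniteType A (SymTen.TS A (MvPolynomial σ A) d) := by
  letI : Algebra (ULift.{u} ℤ) A := ((Int.castRingHom A).comp ULift.ringEquiv.toRingHom).toAlgebra
  haveI : IsNoetherianRing (ULift.{u} ℤ) := isNoetherianRing_of_ringEquiv ℤ ULift.ringEquiv.symm
  exact TS_mvPolynomial_finiteType_aux (ULift.{u} ℤ) σ

theorem gammaD_finiteType {B C : Type u} [CommRing B] [Algebra A B] [CommRing C] [Algebra A C]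
    (γ : MulLaw A B C d) (hγ : IsGammaD γ) [Algebra.FiniteType A B] : Algebra.FiniteType A C := by
  obtain ⟨n, π, hπ⟩ := Algebra.FiniteType.iff_quotient_mvPolynomial''.mp ‹Algebra.FiniteType A B›
  let π' : MvPolynomial (ULift.{u} (Fin n)) A →ₐ[A] B :=
    π.comp (MvPolynomial.rename ULift.down)
  have hπ' : Function.Surjective π' := hπ.comp fun p => ⟨MvPolynomial.rename ULift.up p, by
    show MvPolynomial.rename ULift.down (MvPolynomial.rename ULift.up p) = p
    rw [MvPolynomial.rename_rename]
    exact MvPolynomial.rename_id_apply p⟩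
  let f := fMap (d := d) (γ.precomp π')
  haveI := TS_mvPolynomial_finiteType (A := A) (d := d) (ULift.{u} (Fin n))
  refine Algebra.FiniteType.of_surjective f ?_
  exact gammaD_map_surjective (tsLaw A _ d) γ hγ π' hπ' f (ext_coef fun n b k => by
    rw [coef_postcomp]
    exact fMap_coef _ b k)

end Groth.Agent.H7Gamma
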