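import Mathlib
import Groth.Prelude.Def_PolLaw2
import Groth.Prelude.Def_SymTen
import Groth.Agent.Lib.H7PolLaw
import Groth.Agent.Lib.H7SymTen
import Groth.Agent.Lib.H7Gamma
import Groth.Agent.Lib.H7GammaThm
import Groth.Agent.Lib.H7GammaImage

set_option linter.all false
set_option autoImplicit false

/-! The comparison map to symmetric tensors over a residue field of the base. -/

namespace Groth.Agent.H7Gamma

open scoped TensorProduct
open Groth.Agent.H7PolLaw Groth.Agent.H7SymTen

universe u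

variable {A : Type u} [CommRing A] {B C : Type u} [CommRing B] [Algebra A B] [CommRing C] [Algebra A C] {d : ℕ}

section Field

variable (k : Type u) [Field k] [Algebra A k]

theorem exists_indep_family (s : Finset B) :
    ∃ (r : ℕ) (e : Fin r → B), LinearIndependent k (fun j => (1 : k) ⊗ₜ[A] e j) ∧
      ∀ b ∈ s, (1 : k) ⊗ₜ[A] b ∈ Submodule.span k (Set.range fun j => (1 : k) ⊗ₜ[A] e j) := by
  classical
  obtain ⟨t, hts, htspan, hti⟩ := exists_linearIndependent k ((fun b => (1 : k) ⊗ₜ[A] b) '' (s : Set B))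
  have hfin : t.Finite := (s.finite_toSet.image _).subset hts
  haveI := hfin.fintype
  have hmem : ∀ x : t, ∃ b ∈ s, (1 : k) ⊗ₜ[A] b = x := fun x => by simpa using hts x.2
  choose g _ hg using hmem
  let q := Fintype.equivFin t
  refine ⟨Fintype.card t, fun j => g (q.symm j), ?_, fun b hb => ?_⟩
  · simp only [hg]
    exact hti.comp _ q.symm.injective
  · have hr : (Set.range fun j => (1 : k) ⊗ₜ[A] g (q.symm j)) = t := by
      simp only [hg]
      ext x
      constructor
      · rintro ⟨j, rfl⟩; exact (q.symm j).2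
      · intro hx; exact ⟨q ⟨x, hx⟩, by simp⟩
    rw [hr, htspan]
    exact Submodule.subset_span ⟨b, hb, rfl⟩

theorem tprod_mem_span {r : ℕ} (e : Fin r → B) (g : Fin d → B)
    (hg : ∀ i, (1 : k) ⊗ₜ[A] g i ∈ Submodule.span k (Set.range fun j => (1 : k) ⊗ₜ[A] e j)) :
    (1 : k) ⊗ₜ[A] PiTensorProduct.tprod A g ∈
      Submodule.span k (Set.range fun c : Fin d → Fin r =>
        (1 : k) ⊗ₜ[A] PiTensorProduct.tprod A (fun i => e (c i))) := by
  classical
  let W := Submodule.span k (Set.range fun c : Fin d → Fin r =>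
        (1 : k) ⊗ₜ[A] PiTensorProduct.tprod A (fun i => e (c i)))
  suffices ∀ s : Finset (Fin d), ∀ g : Fin d → B, (∀ i, i ∉ s → g i ∈ Set.range e) →
      (∀ i, (1 : k) ⊗ₜ[A] g i ∈ Submodule.span k (Set.range fun j => (1 : k) ⊗ₜ[A] e j)) →
      (1 : k) ⊗ₜ[A] PiTensorProduct.tprod A g ∈ W from
    this Finset.univ g (fun i hi => absurd (Finset.mem_univ i) hi) hg
  intro s
  induction s using Finset.induction_on with
  | empty =>
    intro g h _
    choose c hc using fun i => h i (Finset.notMem_empty i)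
    exact Submodule.subset_span ⟨c, by simp only [hc]⟩
  | insert i s hi ih =>
    intro g h hg
    let L : k ⊗[A] B →ₗ[k] k ⊗[A] (⨂[A] _ : Fin d, B) :=
      ((PiTensorProduct.tprod A).toLinearMap g i).baseChange k
    have hL : ∀ b : B, L ((1 : k) ⊗ₜ[A] b) = (1 : k) ⊗ₜ[A] PiTensorProduct.tprod A (Function.update g i b) :=
      fun b => by simp [L]
    have : Submodule.span k (Set.range fun j => (1 : k) ⊗ₜ[A] e j) ≤ W.comap L := by
      rw [Submodule.span_le]
      rintro _ ⟨j, rfl⟩
      show L _ ∈ W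
      rw [hL]
      refine ih _ (fun l hl => ?_) (fun l => ?_)
      · by_cases hli : l = i
        · subst hli; simp
        · simpa [hli] using h l (by simp [hli, hl])
      · by_cases hli : l = i
        · subst hli
          rw [Function.update_self]
          exact Submodule.subset_span (Set.mem_range_self (f := fun j => (1 : k) ⊗ₜ[A] e j) j)
        · simpa [hli] using hg l
    have h2 : L ((1 : k) ⊗ₜ[A] g i) ∈ W := this (hg i)
    rwa [hL, Function.update_eq_self] at h2

/-- a dual functional -/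
theorem exists_dual {r : ℕ} (e : Fin r → B) (he : LinearIndependent k (fun j => (1 : k) ⊗ₜ[A] e j)) :
    ∃ lam : Fin r → (B →ₗ[A] k), ∀ i j, lam i (e j) = if i = j then 1 else 0 := by
  classical
  let bs := Module.Basis.span he
  choose l hl using fun i => LinearMap.exists_extend (bs.coord i)
  refine ⟨fun i => ((l i).restrictScalars A) ∘ₗ ((TensorProduct.mk A k B) 1), fun i j => ?_⟩
  have hj : (⟨(1 : k) ⊗ₜ[A] e j, Submodule.subset_span ⟨j, rfl⟩⟩ :
      Submodule.span k (Set.range fun j => (1 : k) ⊗ₜ[A] e j)) = bs j :=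
    (Module.Basis.span_apply he j).symm
  have h1 := LinearMap.congr_fun (hl i) (bs j)
  rw [← hj] at h1
  show (l i) ((1 : k) ⊗ₜ[A] e j) = _
  simp only [LinearMap.comp_apply, Submodule.subtype_apply] at h1
  rw [h1, hj]
  simp [Finsupp.single_apply, eq_comm]

theorem sum_invariant_eq' {R X : Type u} [CommRing R] [AddCommGroup X] [Module R X] {σ : Type} [Fintype σ]
    [DecidableEq σ] (t : (Fin d → σ) → X) (a : (Fin d → σ) → R)
    (ha : ∀ (c : Fin d → σ) (p : Equiv.Perm (Fin d)), a (c ∘ p) = a c) :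
    (∑ c, a c • t c) ∈ Submodule.span R (Set.range fun m : σ →₀ ℕ =>
      ∑ c ∈ (Finset.univ : Finset (Fin d → σ)).filter (fun c => cnt c = m), t c) := by
  classical
  rw [← Finset.sum_fiberwise_of_maps_to (t := Finset.univ.image (cnt (d := d) (σ := σ))) (g := cnt)
    (fun c hc => Finset.mem_image_of_mem _ hc)]
  refine Submodule.sum_mem _ fun m hm => ?_
  obtain ⟨c₀, -, rfl⟩ := Finset.mem_image.mp hm
  have : ∑ c ∈ Finset.univ.filter (fun c => cnt c = cnt c₀), a c • t c =
      a c₀ • ∑ c ∈ Finset.univ.filter (fun c => cnt c = cnt c₀), t c := by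
    rw [Finset.smul_sum]
    refine Finset.sum_congr rfl fun c hc => ?_
    have hc' : cnt c₀ = cnt c := by simpa [eq_comm] using hc
    obtain ⟨p, rfl⟩ := exists_perm_of_cnt_eq hc'
    rw [ha]
  rw [this]
  refine Submodule.smul_mem _ _ (Submodule.subset_span ⟨cnt c₀, ?_⟩)
  exact Finset.sum_congr (by ext; simp) fun _ _ => rfl

/-- over a field every symmetric tensor comes from the divided powers -/
theorem one_tmul_mem_range (γ : PolLaw.MulLaw A B C d) (φ : C →ₐ[A] SymTen.TS A B d)
    (hcoef : ∀ (n : ℕ) (b : Fin n → B) (m : Fin n →₀ ℕ),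
      ((φ (coef γ.law b m) : SymTen.TS A B d) : ⨂[A] _ : Fin d, B) = orb b m)
    (y : SymTen.TS A B d) :
    (1 : k) ⊗ₜ[A] (y : ⨂[A] _ : Fin d, B) ∈
      LinearMap.range ((((SymTen.TS A B d).val.comp φ).toLinearMap).baseChange k) := by
  classical
  have hs : ∀ z : ⨂[A] _ : Fin d, B, ∃ s : Finset B,
      z ∈ Submodule.span A {x | ∃ g : Fin d → B, (∀ i, g i ∈ s) ∧ PiTensorProduct.tprod A g = x} := by
    intro z
    induction z using PiTensorProduct.induction_on with
    | smul_tprod a g =>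
      exact ⟨Finset.univ.image g, Submodule.smul_mem _ _
        (Submodule.subset_span ⟨g, fun i => Finset.mem_image_of_mem _ (Finset.mem_univ i), rfl⟩)⟩
    | add x z hx hz =>
      obtain ⟨s, hs⟩ := hx
      obtain ⟨t, ht⟩ := hz
      refine ⟨s ∪ t, Submodule.add_mem _ (Submodule.span_mono ?_ hs) (Submodule.span_mono ?_ ht)⟩
      · rintro _ ⟨g, hg, rfl⟩; exact ⟨g, fun i => Finset.mem_union_left _ (hg i), rfl⟩
      · rintro _ ⟨g, hg, rfl⟩; exact ⟨g, fun i => Finset.mem_union_right _ (hg i), rfl⟩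
  obtain ⟨s, hs⟩ := hs y
  obtain ⟨r, e, he, hes⟩ := exists_indep_family (A := A) k s
  let ν : (⨂[A] _ : Fin d, B) →ₗ[A] k ⊗[A] (⨂[A] _ : Fin d, B) := TensorProduct.mk A k _ 1
  let t : (Fin d → Fin r) → k ⊗[A] (⨂[A] _ : Fin d, B) := fun c => ν (PiTensorProduct.tprod A fun i => e (c i))
  have hspan : ν y ∈ Submodule.span k (Set.range t) := by
    refine (Submodule.span_le (p := (Submodule.span k (Set.range t)).restrictScalars A |>.comap ν)).mpr ?_ hs
    rintro _ ⟨g, hg, rfl⟩
    exact tprod_mem_span k e g fun i => hes _ (hg i)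
  obtain ⟨a, ha⟩ := (Submodule.mem_span_range_iff_exists_fun k).mp hspan
  obtain ⟨lam, hlam⟩ := exists_dual k e he
  let G : (Fin d → Fin r) → (k ⊗[A] (⨂[A] _ : Fin d, B) →ₗ[k] k) := fun c =>
    LinearMap.liftBaseChange k (PiTensorProduct.lift
      ((MultilinearMap.mkPiAlgebra A (Fin d) k).compLinearMap fun i => lam (c i)))
  have hG : ∀ (c : Fin d → Fin r) (g : Fin d → B), G c (ν (PiTensorProduct.tprod A g)) = ∏ i, lam (c i) (g i) :=
    fun c g => by simp [G, ν]
  have hcoord : ∀ c, G c (ν y) = a c := by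
    intro c
    rw [← ha, map_sum, Finset.sum_eq_single c]
    · simp [t, hG, hlam]
    · intro c' _ hne
      obtain ⟨i, hi⟩ := Function.ne_iff.mp hne
      rw [map_smul, hG, Finset.prod_eq_zero (Finset.mem_univ i) (by simp [hlam, Ne.symm hi]), smul_zero]
    · simp
  have hinv : ∀ (c : Fin d → Fin r) (p : Equiv.Perm (Fin d)), a (c ∘ p) = a c := by
    intro c p
    have key : (G c).restrictScalars A ∘ₗ ν ∘ₗ (PiTensorProduct.reindex A (fun _ : Fin d => B) p).toLinearMap =
        (G (c ∘ p)).restrictScalars A ∘ₗ ν := by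
      refine PiTensorProduct.ext (MultilinearMap.ext fun g => ?_)
      simp only [LinearMap.compMultilinearMap_apply, LinearMap.comp_apply, LinearEquiv.coe_coe,
        PiTensorProduct.reindex_tprod, LinearMap.restrictScalars_apply, hG]
      exact Fintype.prod_equiv p.symm _ _ fun i => by simp
    have := LinearMap.congr_fun key (y : ⨂[A] _ : Fin d, B)
    simp only [LinearMap.comp_apply, LinearEquiv.coe_coe, LinearMap.restrictScalars_apply, y.2 p, hcoord] at this
    exact this.symm
  show ν y ∈ _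
  rw [← ha]
  refine Submodule.span_le.mpr ?_ (sum_invariant_eq' t a hinv)
  rintro _ ⟨m, rfl⟩
  refine ⟨(1 : k) ⊗ₜ[A] coef γ.law e m, ?_⟩
  rw [LinearMap.baseChange_tmul]
  show (1 : k) ⊗ₜ[A] ((φ (coef γ.law e m) : SymTen.TS A B d) : ⨂[A] _ : Fin d, B) = _
  rw [hcoef]
  exact (congrArg ν (lift_orb (LinearMap.id : (⨂[A] _ : Fin d, B) →ₗ[A] _) e m)).trans (by
    rw [map_sum]; exact Finset.sum_congr (by ext; simp) fun _ _ => rfl)

end Field

/-- up to scalars outside a prime, symmetric tensors agree with divided powers modulo the prime -/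
theorem exists_mul_sub_mem (γ : PolLaw.MulLaw A B C d) (φ : C →ₐ[A] SymTen.TS A B d)
    (hcoef : ∀ (n : ℕ) (b : Fin n → B) (m : Fin n →₀ ℕ),
      ((φ (coef γ.law b m) : SymTen.TS A B d) : ⨂[A] _ : Fin d, B) = orb b m)
    (p : Ideal A) [p.IsPrime] (y : SymTen.TS A B d) :
    ∃ s : A, s ∉ p ∧ ∃ c : C, (1 : p.ResidueField) ⊗ₜ[A] (((s • y - φ c : SymTen.TS A B d)) : ⨂[A] _ : Fin d, B) = 0 := by
  obtain ⟨w, hw⟩ := one_tmul_mem_range p.ResidueField γ φ hcoef y
  have hz : ∀ w : p.ResidueField ⊗[A] C, ∃ s : A, s ∉ p ∧ ∃ c : C, s • w = (1 : p.ResidueField) ⊗ₜ[A] c := by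
    intro w
    induction w using TensorProduct.induction_on with
    | zero => exact ⟨1, fun h => ‹p.IsPrime›.ne_top ((Ideal.eq_top_iff_one p).mpr h), 0, by simp⟩
    | tmul lam c =>
      obtain ⟨a, b, hb, hab⟩ := IsFractionRing.div_surjective (A := A ⧸ p) lam
      obtain ⟨a, rfl⟩ := Ideal.Quotient.mk_surjective a
      obtain ⟨b, rfl⟩ := Ideal.Quotient.mk_surjective b
      have hbp : b ∉ p := fun h =>
        (mem_nonZeroDivisors_iff_ne_zero.mp hb) (Ideal.Quotient.eq_zero_iff_mem.mpr h)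
      refine ⟨b, hbp, a • c, ?_⟩
      have hb' : algebraMap A p.ResidueField b ≠ 0 := fun h => hbp (Ideal.algebraMap_residueField_eq_zero.mp h)
      rw [TensorProduct.smul_tmul', TensorProduct.tmul_smul, TensorProduct.smul_tmul']
      congr 1
      rw [← hab, Algebra.smul_def, Algebra.smul_def, mul_one]
      exact mul_div_cancel₀ _ hb'
    | add x z hx hz =>
      obtain ⟨s, hs, c, hc⟩ := hx
      obtain ⟨t, ht, e, he⟩ := hz
      refine ⟨s * t, fun h => (‹p.IsPrime›.mem_or_mem h).elim hs ht, t • c + s • e, ?_⟩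
      rw [smul_add, mul_comm s t, mul_smul, hc, mul_comm t s, mul_smul, he, TensorProduct.tmul_add,
        TensorProduct.tmul_smul, TensorProduct.tmul_smul]
  obtain ⟨s, hs, c, hc⟩ := hz w
  refine ⟨s, hs, c, ?_⟩
  let L : p.ResidueField ⊗[A] C →ₗ[p.ResidueField] p.ResidueField ⊗[A] (⨂[A] _ : Fin d, B) :=
    (((SymTen.TS A B d).val.comp φ).toLinearMap).baseChange p.ResidueField
  have h1 := congrArg L hc
  rw [LinearMap.map_smul_of_tower, show L w = _ from hw, LinearMap.baseChange_tmul, ← TensorProduct.tmul_smul] at h1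
  rw [show ((s • y - φ c : SymTen.TS A B d) : ⨂[A] _ : Fin d, B) =
    s • (y : ⨂[A] _ : Fin d, B) - ((SymTen.TS A B d).val.comp φ).toLinearMap c from rfl, TensorProduct.tmul_sub,
    h1, sub_self]

/-- hence a point of the symmetric tensors is determined by the divided powers -/
theorem exists_point_eq (γ : PolLaw.MulLaw A B C d) (φ : C →ₐ[A] SymTen.TS A B d)
    (hcoef : ∀ (n : ℕ) (b : Fin n → B) (m : Fin n →₀ ℕ),
      ((φ (coef γ.law b m) : SymTen.TS A B d) : ⨂[A] _ : Fin d, B) = orb b m)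
    (p : Ideal A) [p.IsPrime] (y : SymTen.TS A B d) :
    ∃ s : A, s ∉ p ∧ ∃ c : C, ∀ (K : Type u) [Field K] (v : SymTen.TS A B d →+* K),
      RingHom.ker (v.comp (algebraMap A (SymTen.TS A B d))) = p →
        v (algebraMap A (SymTen.TS A B d) s) * v y = v (φ c) := by
  obtain ⟨s, hs, c, hc⟩ := exists_mul_sub_mem γ φ hcoef p y
  refine ⟨s, hs, c, fun K _ v hv => ?_⟩
  let L := AlgebraicClosure K
  letI : Algebra A L := ((algebraMap K L).comp (v.comp (algebraMap A (SymTen.TS A B d)))).toAlgebra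
  let v' : SymTen.TS A B d →ₐ[A] L := { (algebraMap K L).comp v with commutes' := fun a => rfl }
  obtain ⟨χ, hχ⟩ := exists_extension v'
  have hsp : ∀ a ∈ p, (Algebra.ofId A L) a = 0 := fun a ha => by
    rw [← hv] at ha
    show algebraMap K L _ = 0
    rw [RingHom.mem_ker.mp ha, map_zero]
  have hunit : ∀ a : A, a ∉ p → IsUnit ((Algebra.ofId A L) a) := fun a ha => by
    rw [isUnit_iff_ne_zero]
    intro h
    apply ha
    rw [← hv, RingHom.mem_ker]
    exact (algebraMap K L).injective (h.trans (map_zero _).symm)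
  let e : p.ResidueField →ₐ[A] L := Ideal.ResidueField.liftₐ p (Algebra.ofId A L) hsp hunit
  have h0 := congrArg (Algebra.TensorProduct.lift e χ (fun _ _ => Commute.all _ _)) hc
  rw [map_zero, Algebra.TensorProduct.lift_tmul, map_one, one_mul] at h0
  have h1 : algebraMap K L (v (s • y - φ c)) = 0 := (AlgHom.congr_fun hχ _).symm.trans h0
  have h2 : v (s • y - φ c) = 0 := (algebraMap K L).injective (h1.trans (map_zero _).symm)
  rwa [map_sub, Algebra.smul_def, map_mul, sub_eq_zero] at h2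

end Groth.Agent.H7Gamma
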