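import Groth.Prelude.Def_KRR
import Mathlib

/-! Line elements are unipotent in a λ-ring with an ample line element. -/

set_option autoImplicit false
universe v
open PowerSeries Finset LambdaRing

namespace Groth.Agent.H7LineNilp

variable {K : Type v} [CommRing K] [LambdaOps K] (P : PosStructure K)

lemma lamSeries_add (x y : K) : lamSeries (x + y) = lamSeries x * lamSeries y := by
  ext k
  rw [PowerSeries.coeff_mul, Finset.Nat.sum_antidiagonal_eq_sum_range_succ
    (fun i j => coeff i (lamSeries x) * coeff j (lamSeries y))]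
  simp [lamSeries, LambdaOps.lam_add]

lemma lamSeries_zero : lamSeries (0 : K) = 1 := by
  have h := lamSeries_add (0 : K) 0
  rw [add_zero] at h
  have hu : IsUnit (lamSeries (0 : K)) := PowerSeries.isUnit_iff_constantCoeff.2 (by simp [lamSeries, LambdaOps.lam_zero])
  exact hu.mul_left_cancel (h.symm.trans (mul_one _).symm)

lemma lamSeries_line {w : K} (hw : P.IsLine w) :
    lamSeries w = ((1 + Polynomial.C w * Polynomial.X : Polynomial K) : PowerSeries K) := by
  ext k
  rw [Polynomial.coeff_coe]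
  match k with
  | 0 => simp [lamSeries, LambdaOps.lam_zero]
  | 1 => simp [lamSeries, LambdaOps.lam_one, Polynomial.coeff_one]
  | k + 2 => simp [lamSeries, P.lam_eq_zero w hw.1 (k + 2) (by rw [hw.2]; omega), Polynomial.coeff_one]

include P in
lemma lamSeries_natCast (m : ℕ) : lamSeries (m : K) = (((1 + Polynomial.X) ^ m : Polynomial K) : PowerSeries K) := by
  induction m with
  | zero => simp [lamSeries_zero]
  | succ m ih =>
    have h1 : P.IsLine (1 : K) := ⟨by simpa using P.natCast_mem 1 one_pos, map_one _⟩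
    rw [Nat.cast_succ, lamSeries_add, ih, lamSeries_line P h1, ← Polynomial.coe_mul, pow_succ]
    simp

theorem nilpotent_of_add {w e : K} {m : ℕ} (hw : P.IsLine w) (he : e ∈ P.pos) (h : w + e = m) :
    IsNilpotent (w - 1) := by
  have h1 := lamSeries_add w e
  rw [h, lamSeries_natCast P, lamSeries_line P hw] at h1
  have htr : lamSeries e = ((lamSeries e).trunc ((P.aug e).toNat + 1) : PowerSeries K) := by
    ext k
    rw [Polynomial.coeff_coe, PowerSeries.coeff_trunc]
    split_ifs with hk
    · rfl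
    · simp only [lamSeries, PowerSeries.coeff_mk]
      exact P.lam_eq_zero e he k (by omega)
  rw [htr, ← Polynomial.coe_mul, Polynomial.coe_inj] at h1
  have hu : IsUnit w := by simpa [hw.2, LambdaOps.lam_one] using P.isUnit_lam w hw.1
  obtain ⟨v, rfl⟩ := hu
  have h2 := congrArg (Polynomial.eval (-((v⁻¹ : Kˣ) : K))) h1
  simp only [Polynomial.eval_mul, Polynomial.eval_pow, Polynomial.eval_add, Polynomial.eval_one, Polynomial.eval_X,
    Polynomial.eval_C, mul_neg, Units.mul_inv, add_neg_cancel, zero_mul] at h2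
  refine ⟨m, ?_⟩
  rw [show (v : K) - 1 = (v : K) * (1 + -((v⁻¹ : Kˣ) : K)) by rw [mul_add, mul_one, mul_neg, Units.mul_inv]; ring,
    mul_pow, h2, mul_zero]

lemma line_pow {u : K} (hu : P.IsLine u) (n : ℕ) (hn : 0 < n) : P.IsLine (u ^ n) := by
  induction n, hn using Nat.le_induction with
  | base => simpa using hu
  | succ n _ ih => rw [pow_succ]; exact ⟨P.mul_mem _ _ ih.1 hu.1, by rw [map_mul, ih.2, hu.2, mul_one]⟩

theorem nilpotent_line {u : K} (hu : KRR.IsAmpleElt P u) {w : K} (hw : P.IsLine w) : IsNilpotent (w - 1) := by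
  obtain ⟨n₁, h1⟩ := hu.2 (-w)
  obtain ⟨n₂, h2⟩ := hu.2 (-1)
  set n := max (max n₁ n₂) 1
  have hun := line_pow P hu.1 n (by omega)
  obtain ⟨e₁, m₁, he₁, hm₁⟩ := h1 n (by omega)
  obtain ⟨e₂, m₂, he₂, hm₂⟩ := h2 n (by omega)
  have a := nilpotent_of_add P (w := u ^ n * w) ⟨P.mul_mem _ _ hun.1 hw.1, by rw [map_mul, hun.2, hw.2, mul_one]⟩ he₁
    (show u ^ n * w + e₁ = m₁ by linear_combination -hm₁)
  have b := nilpotent_of_add P hun he₂ (show u ^ n + e₂ = m₂ by linear_combination -hm₂)
  rw [show w - 1 = (u ^ n * w - 1) - w * (u ^ n - 1) by ring]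
  exact (Commute.all _ _).isNilpotent_sub a ((Commute.all _ _).isNilpotent_mul_left b)

end Groth.Agent.H7LineNilp
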