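import Groth.Agent.Lib.GammaNewton
import Groth.Agent.Lib.H7LineNilp
import Mathlib

/-! The γ-polynomial of a positive element. -/

set_option autoImplicit false
universe v
open Finset LambdaRing Polynomial

namespace Groth.Agent.H7GammaPoly
open Groth.Agent

variable {K : Type v} [CommRing K] [LambdaOps K] (P : PosStructure K)

lemma natDegree_one_sub_pow (n : ℕ) : ((1 - X : K[X]) ^ n).natDegree ≤ n :=
  (natDegree_pow_le).trans (by
    have : (1 - X : K[X]).natDegree ≤ 1 := (natDegree_sub_le _ _).trans (by simp [natDegree_X_le])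
    simpa using Nat.mul_le_mul_left n this)

lemma reflect_pow (n : ℕ) : Polynomial.reflect n ((1 - X : K[X]) ^ n) = (X - 1) ^ n := by
  induction n with
  | zero => simp
  | succ n ih =>
    rw [pow_succ, pow_succ, Polynomial.reflect_mul _ _ (natDegree_one_sub_pow n) ((natDegree_sub_le _ _).trans (by simp [natDegree_X_le])), ih]
    congr 1
    rw [Polynomial.reflect_sub, Polynomial.reflect_one_X, ← map_one (C : K →+* K[X]), Polynomial.reflect_C]
    simp

theorem gamma_sub_aug (e : K) (he : e ∈ P.pos) :
    (∑ i ∈ range ((P.aug e).toNat + 1), C (gamma i (e - ((P.aug e).toNat : K))) * X ^ ((P.aug e).toNat - i)) =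
      ∑ i ∈ range ((P.aug e).toNat + 1), C (LambdaOps.lam i e) * (X - 1) ^ ((P.aug e).toNat - i) := by
  set m := (P.aug e).toNat
  let q : K[X] := ∑ i ∈ range (m + 1), C (LambdaOps.lam i e) * (X ^ i * (1 - X) ^ (m - i))
  have hadd : ∀ a b : K, GammaN.gammaSeries (a + b) = GammaN.gammaSeries a * GammaN.gammaSeries b := fun a b => by
    rw [GammaN.gammaSeries, GammaN.gammaSeries, GammaN.gammaSeries, H7LineNilp.lamSeries_add,
      PowerSeries.subst_mul GammaN.hasSubst_sig]
  have hsig : GammaN.sig K * (1 - PowerSeries.X) = PowerSeries.X := by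
    rw [GammaN.sig, mul_assoc, PowerSeries.mk_one_mul_one_sub_eq_one, mul_one]
  have hone : (1 + GammaN.sig K) * (1 - PowerSeries.X) = 1 := by linear_combination hsig
  have hm : GammaN.gammaSeries (m : K) = (1 + GammaN.sig K) ^ m := by
    rw [GammaN.gammaSeries, H7LineNilp.lamSeries_natCast P, ← PowerSeries.coe_substAlgHom GammaN.hasSubst_sig,
      Polynomial.coe_pow, Polynomial.coe_add, Polynomial.coe_one, Polynomial.coe_X, map_pow, map_add, map_one,
      PowerSeries.substAlgHom_X]
  have hse : lamSeries e = ((∑ i ∈ range (m + 1), C (LambdaOps.lam i e) * X ^ i : K[X]) : PowerSeries K) := by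
    ext k
    rw [Polynomial.coeff_coe, finsetSum_coeff]
    simp only [coeff_C_mul_X_pow, Finset.sum_ite_eq, Finset.mem_range]
    split_ifs with hk
    · simp [lamSeries]
    · simp only [lamSeries, PowerSeries.coeff_mk]
      exact P.lam_eq_zero e he k (by have := P.aug_pos e he; omega)
  have he' : GammaN.gammaSeries e = ∑ i ∈ range (m + 1), PowerSeries.C (LambdaOps.lam i e) * GammaN.sig K ^ i := by
    rw [GammaN.gammaSeries, hse, ← Polynomial.coeToPowerSeries.ringHom_apply, map_sum, ← PowerSeries.coe_substAlgHom GammaN.hasSubst_sig, map_sum]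
    refine Finset.sum_congr rfl fun i _ => ?_
    rw [Polynomial.coeToPowerSeries.ringHom_apply, Polynomial.coe_mul, Polynomial.coe_pow, Polynomial.coe_C, Polynomial.coe_X, map_mul, map_pow,
      PowerSeries.substAlgHom_X, show (PowerSeries.C (LambdaOps.lam i e) : PowerSeries K) = algebraMap K (PowerSeries K) (LambdaOps.lam i e) from rfl,
      AlgHom.commutes]
  have hq : GammaN.gammaSeries (e - (m : K)) = (q : PowerSeries K) := by
    have h := hadd (e - (m : K)) m
    rw [sub_add_cancel, hm] at h
    have : GammaN.gammaSeries (e - (m : K)) = GammaN.gammaSeries e * (1 - PowerSeries.X) ^ m := by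
      rw [h, mul_assoc, ← mul_pow, hone, one_pow, mul_one]
    rw [this, he', Finset.sum_mul, ← Polynomial.coeToPowerSeries.ringHom_apply, map_sum]
    refine Finset.sum_congr rfl fun i hi => ?_
    rw [Finset.mem_range] at hi
    simp only [map_mul, map_pow, map_sub, map_one, Polynomial.coeToPowerSeries.ringHom_apply, Polynomial.coe_C, Polynomial.coe_X]
    rw [mul_assoc]
    congr 1
    obtain ⟨l, hl⟩ : ∃ l, m = i + l := ⟨m - i, by omega⟩
    rw [hl, Nat.add_sub_cancel_left, pow_add, ← mul_assoc, ← mul_pow, hsig]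
  have hdeg : q.natDegree ≤ m := natDegree_sum_le_of_forall_le _ _ fun i hi => by
    rw [Finset.mem_range] at hi
    refine (natDegree_C_mul_le _ _).trans (natDegree_mul_le.trans ?_)
    have := natDegree_one_sub_pow (K := K) (m - i)
    have := natDegree_X_pow_le (R := K) i
    omega
  have hG : ∑ i ∈ range (m + 1), C (gamma i (e - (m : K))) * X ^ i = q := by
    ext k
    rw [finsetSum_coeff]
    simp only [coeff_C_mul_X_pow, Finset.sum_ite_eq, Finset.mem_range]
    split_ifs with hk
    · rw [← GammaN.coeff_gammaSeries, hq, Polynomial.coeff_coe]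
    · exact (coeff_eq_zero_of_natDegree_lt (by omega)).symm
  have h := congrArg (Polynomial.reflect m) hG
  have hsum : ∀ (s : Finset ℕ) (f : ℕ → K[X]), Polynomial.reflect m (∑ i ∈ s, f i) = ∑ i ∈ s, Polynomial.reflect m (f i) :=
    fun s f => map_sum (AddMonoidHom.mk' (Polynomial.reflect m) fun a b => Polynomial.reflect_add a b m) f s
  rw [hsum, hsum] at h
  refine Eq.trans ?_ (h.trans ?_) <;> refine Finset.sum_congr rfl fun i hi => ?_ <;> rw [Finset.mem_range] at hi
  · rw [Polynomial.reflect_C_mul_X_pow, Polynomial.revAt_le (by omega)]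
  · rw [Polynomial.reflect_C_mul]
    congr 1
    obtain ⟨l, hl⟩ : ∃ l, m = i + l := ⟨m - i, by omega⟩
    rw [hl, Nat.add_sub_cancel_left, Polynomial.reflect_mul _ _ (natDegree_X_pow_le i) (natDegree_one_sub_pow l), reflect_pow,
      show Polynomial.reflect i (X ^ i : K[X]) = 1 by rw [Polynomial.reflect_monomial, Polynomial.revAt_le le_rfl, Nat.sub_self, pow_zero], one_mul]

end Groth.Agent.H7GammaPoly
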