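import Groth.Agent.Lib.H7MVTri
import Groth.Agent.Lib.LExtZero
import Groth.Prelude.Def_CxOX
import Mathlib

/-! Mayer–Vietoris for extension by zero. -/

universe u v w
open CategoryTheory Limits AlgebraicGeometry Opposite TopologicalSpace Pretriangulated

namespace Groth.Agent.H7MVExt
open Groth.Agent CechOX

attribute [local instance] HasDerivedCategory.standard

variable {X : Scheme.{u}}

/-- `M ↦ j_!(M|_W)` -/
noncomputable abbrev extR (W : X.Opens) : X.Modules ⥤ X.Modules :=
  Scheme.Modules.restrictFunctor W.ι ⋙ CxOX.extZero W.ι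

/-- `j_! j^* ⊣ j_* j^*` -/
noncomputable def adjW (W : X.Opens) : extR W ⊣ pushRestr W :=
  (Scheme.Modules.restrictAdjunction W.ι).comp (CxOX.extZeroAdj W.ι)

instance extR_isLeftAdjoint (W : X.Opens) : (extR W).IsLeftAdjoint := (adjW W).isLeftAdjoint

instance extR_additive (W : X.Opens) : (extR W).Additive :=
  (adjW W).left_adjoint_additive

lemma unit_map {W W' : X.Opens} (h : W' ≤ W) (M : X.Modules) :
    (Scheme.Modules.restrictAdjunction W.ι).unit.app M ≫ (pushRestrMap h).app M =
      (Scheme.Modules.restrictAdjunction W'.ι).unit.app M := by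
  apply Scheme.Modules.hom_ext
  intro O
  ext s
  show ((pushRestrMap h).app M).app O (((Scheme.Modules.restrictAdjunction W.ι).unit.app M).app O s) = _
  rw [Scheme.Modules.restrictAdjunction_unit_app_app, Scheme.Modules.restrictAdjunction_unit_app_app]
  exact H7MV.res2 M _ (homOfLE (CechOX.image_preimage_mono h O)).op _ s

/-- `j'_!(M|_W') ⟶ j_!(M|_W)` -/
noncomputable def aApp {W W' : X.Opens} (h : W' ≤ W) (M : X.Modules) : (extR W').obj M ⟶ (extR W).obj M :=
  ((adjW W').homEquiv _ _).symm ((adjW W).unit.app M ≫ (pushRestrMap h).app _)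

lemma homEquiv_aApp {W W' : X.Opens} (h : W' ≤ W) {M I : X.Modules} (g : (extR W).obj M ⟶ I) :
    (adjW W').homEquiv M I (aApp h M ≫ g) = (adjW W).homEquiv M I g ≫ (pushRestrMap h).app I := by
  rw [Adjunction.homEquiv_naturality_right, aApp, Equiv.apply_symm_apply, Adjunction.homEquiv_unit,
    Category.assoc, Category.assoc]
  exact congrArg (_ ≫ ·) ((pushRestrMap h).naturality g).symm

/-- `j_!(M|_W) ⟶ M` -/
noncomputable def cApp (W : X.Opens) (M : X.Modules) : (extR W).obj M ⟶ M :=
  ((adjW W).homEquiv _ _).symm ((Scheme.Modules.restrictAdjunction W.ι).unit.app M)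

lemma homEquiv_cApp (W : X.Opens) {M I : X.Modules} (g : M ⟶ I) :
    (adjW W).homEquiv M I (cApp W M ≫ g) = g ≫ (Scheme.Modules.restrictAdjunction W.ι).unit.app I := by
  rw [Adjunction.homEquiv_naturality_right, cApp, Equiv.apply_symm_apply]
  exact ((Scheme.Modules.restrictAdjunction W.ι).unit.naturality g).symm

/-- `aApp` as a natural transformation -/
noncomputable def aNat {W W' : X.Opens} (h : W' ≤ W) : extR W' ⟶ extR W where
  app := aApp h
  naturality M N φ := by
    apply ((adjW W').homEquiv _ _).injective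
    rw [Adjunction.homEquiv_naturality_left, aApp, Equiv.apply_symm_apply, homEquiv_aApp,
      Adjunction.homEquiv_unit, ← Category.assoc]
    exact congrArg (· ≫ _) ((adjW W).unit.naturality φ)

/-- `cApp` as a natural transformation -/
noncomputable def cNat (W : X.Opens) : extR W ⟶ 𝟭 X.Modules where
  app := cApp W
  naturality M N φ := by
    apply ((adjW W).homEquiv _ _).injective
    rw [Adjunction.homEquiv_naturality_left]
    exact congrArg (φ ≫ ·) (Equiv.apply_symm_apply _ _) |>.trans (homEquiv_cApp W φ).symm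

variable (U V : X.Opens)

/-- `j_{U!}(M|_U) ⊞ j_{V!}(M|_V)` -/
noncomputable def pairL : X.Modules ⥤ X.Modules where
  obj M := (extR U).obj M ⊞ (extR V).obj M
  map φ := biprod.map ((extR U).map φ) ((extR V).map φ)
  map_id M := by apply biprod.hom_ext <;> simp [CategoryTheory.Functor.map_id]
  map_comp φ ψ := by apply biprod.hom_ext <;> simp [Functor.map_comp]

instance pairL_additive : (pairL U V).Additive where
  map_add {M N f g} :=
    (congrArg₂ biprod.map ((extR U).map_add (f := f) (g := g)) ((extR V).map_add (f := f) (g := g))).trans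
      (H7MV.map_add' _ _ _ _)

/-- the difference map -/
noncomputable def α' : extR (U ⊓ V) ⟶ pairL U V where
  app M := biprod.lift (aApp inf_le_left M) (-aApp inf_le_right M)
  naturality M N φ := by
    dsimp [pairL]
    apply biprod.hom_ext <;> simp
    · exact (aNat (inf_le_left : U ⊓ V ≤ U)).naturality φ
    · exact (aNat (inf_le_right : U ⊓ V ≤ V)).naturality φ

/-- the sum map -/
noncomputable def β' : pairL U V ⟶ 𝟭 X.Modules where
  app M := biprod.desc (cApp U M) (cApp V M)
  naturality M N φ := by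
    dsimp [pairL]
    apply biprod.hom_ext' <;> simp
    · exact (cNat U).naturality φ
    · exact (cNat V).naturality φ

lemma homEquiv_sub {W : X.Opens} {M I : X.Modules} (x y : (extR W).obj M ⟶ I) :
    (adjW W).homEquiv M I (x - y) = (adjW W).homEquiv M I x - (adjW W).homEquiv M I y := by
  simp only [Adjunction.homEquiv_unit, Functor.map_sub, Preadditive.comp_sub]

lemma α'_β' (M : X.Modules) : (α' U V).app M ≫ (β' U V).app M = 0 := by
  refine biprod.lift_desc.trans ?_
  rw [Preadditive.neg_comp, ← sub_eq_add_neg, sub_eq_zero]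
  apply ((adjW (U ⊓ V)).homEquiv _ _).injective
  rw [homEquiv_aApp, homEquiv_aApp]
  exact ((congrArg (· ≫ _) (Equiv.apply_symm_apply _ _)).trans (unit_map _ M)).trans
    ((congrArg (· ≫ _) (Equiv.apply_symm_apply _ _)).trans (unit_map _ M)).symm

theorem shortExact (hUV : U ⊔ V = ⊤) (M : X.Modules) :
    (ShortComplex.mk ((α' U V).app M) ((β' U V).app M) (α'_β' U V M)).ShortExact := by
  -- maps into injectives see a split exact sequence
  have hu : ∀ I : X.Modules, IsIso ((Scheme.Modules.restrictAdjunction (U ⊔ V).ι).unit.app I) := fun I => by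
    rw [hUV]; exact H7MV.isIso_unit_top I
  have key : ∀ (I : X.Modules) [Injective I],
      Mono ((H7MV.α U V).app I) ∧
      (∀ x : M ⟶ (pushRestr (U ⊓ V)).obj I, ∃ y, y ≫ (H7MV.β U V).app I = x) ∧
      (∀ y : M ⟶ (H7MV.pair U V).obj I, y ≫ (H7MV.β U V).app I = 0 → ∃ k, k ≫ (H7MV.α U V).app I = y) := by
    intro I _
    haveI := H7MV.injective_pushRestr (U ⊔ V) I
    let s := (H7MV.shortExact (U := U) (V := V) I).splittingOfInjective
    refine ⟨(H7MV.shortExact (U := U) (V := V) I).mono_f, fun x => ⟨x ≫ s.s, ?_⟩, fun y hy => ⟨y ≫ s.r, ?_⟩⟩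
    · rw [Category.assoc]
      exact (congrArg (x ≫ ·) s.s_g).trans (Category.comp_id x)
    · have := congrArg (y ≫ ·) s.id
      rw [Preadditive.comp_add, Category.comp_id, reassoc_of% hy, zero_comp, add_zero] at this
      exact (Category.assoc _ _ _).trans this
  have hmono : Mono ((α' U V).app M) := by
    obtain ⟨x, hx⟩ : ∃ x : (extR (U ⊓ V)).obj M ⟶ Injective.under ((extR (U ⊓ V)).obj M), Mono x :=
      ⟨Injective.ι _, inferInstance⟩
    obtain ⟨y, hy⟩ := (key (Injective.under ((extR (U ⊓ V)).obj M))).2.1 ((adjW (U ⊓ V)).homEquiv _ _ x)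
    let e : (pairL U V).obj M ⟶ Injective.under ((extR (U ⊓ V)).obj M) :=
      biprod.desc (((adjW U).homEquiv _ _).symm (y ≫ biprod.fst)) (((adjW V).homEquiv _ _).symm (y ≫ biprod.snd))
    have he : (α' U V).app M ≫ e = x := by
      refine biprod.lift_desc.trans ?_
      rw [Preadditive.neg_comp, ← sub_eq_add_neg]
      apply ((adjW (U ⊓ V)).homEquiv _ _).injective
      rw [homEquiv_sub, homEquiv_aApp, homEquiv_aApp, Equiv.apply_symm_apply, Equiv.apply_symm_apply, ← hy,
        sub_eq_add_neg, Category.assoc, Category.assoc, ← Preadditive.comp_neg, ← Preadditive.comp_add,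
        ← Preadditive.comp_neg]
      exact congrArg (y ≫ ·) (biprod.desc_eq).symm
    rw [← he] at hx
    exact mono_of_mono ((α' U V).app M) e
  have hepi : Epi ((β' U V).app M) := by
    refine Preadditive.epi_of_cancel_zero _ fun {Z} g hg => ?_
    obtain ⟨hm, -, -⟩ := key (Injective.under Z)
    rw [← cancel_mono (Injective.ι Z), zero_comp]
    have h1 : cApp U M ≫ g = 0 := by
      have := (biprod.inl ≫= hg).trans comp_zero
      exact ((congrArg (· ≫ g) (biprod.inl_desc (cApp U M) (cApp V M))).symm.trans (Category.assoc _ _ _)).trans this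
    have h2 : cApp V M ≫ g = 0 := by
      have := (biprod.inr ≫= hg).trans comp_zero
      exact ((congrArg (· ≫ g) (biprod.inr_desc (cApp U M) (cApp V M))).symm.trans (Category.assoc _ _ _)).trans this
    haveI := hu (Injective.under Z)
    let g' : M ⟶ Injective.under Z := g ≫ Injective.ι Z
    have q1 : g' ≫ (Scheme.Modules.restrictAdjunction U.ι).unit.app (Injective.under Z) = 0 := by
      refine ((homEquiv_cApp U g').symm.trans (congrArg ((adjW U).homEquiv _ _)
        ((Category.assoc _ _ _).symm.trans ((congrArg (· ≫ Injective.ι Z) h1).trans zero_comp)))).trans ?_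
      rw [Adjunction.homEquiv_unit, Functor.map_zero, comp_zero]
    have q2 : g' ≫ (Scheme.Modules.restrictAdjunction V.ι).unit.app (Injective.under Z) = 0 := by
      refine ((homEquiv_cApp V g').symm.trans (congrArg ((adjW V).homEquiv _ _)
        ((Category.assoc _ _ _).symm.trans ((congrArg (· ≫ Injective.ι Z) h2).trans zero_comp)))).trans ?_
      rw [Adjunction.homEquiv_unit, Functor.map_zero, comp_zero]
    refine (cancel_mono ((Scheme.Modules.restrictAdjunction (U ⊔ V).ι).unit.app (Injective.under Z) ≫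
      (H7MV.α U V).app (Injective.under Z))).1 (Eq.trans ?_ zero_comp.symm)
    haveI : IsIso ((Scheme.Modules.restrictAdjunction (U ⊔ V).ι).unit.app (Injective.under Z)) := hu _
    show g' ≫ (Scheme.Modules.restrictAdjunction (U ⊔ V).ι).unit.app _ ≫ biprod.lift _ _ = _
    apply biprod.hom_ext
    · refine ((Category.assoc _ _ _).trans (congrArg (g' ≫ ·) ((Category.assoc _ _ _).trans
        ((congrArg (_ ≫ ·) (biprod.lift_fst _ _)).trans (unit_map le_sup_left _))))).trans (q1.trans zero_comp.symm)
    · refine ((Category.assoc _ _ _).trans (congrArg (g' ≫ ·) ((Category.assoc _ _ _).trans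
        ((congrArg (_ ≫ ·) (biprod.lift_snd _ _)).trans (unit_map le_sup_right _))))).trans (q2.trans zero_comp.symm)
  refine { exact := ?_, mono_f := hmono, epi_g := hepi }
  refine (ShortComplex.exact_iff_kernel_ι_comp_cokernel_π_zero _).2 ?_
  let I := Injective.under (cokernel ((α' U V).app M))
  let g : (pairL U V).obj M ⟶ I := cokernel.π _ ≫ Injective.ι _
  let gU : (extR U).obj M ⟶ I := biprod.inl ≫ g
  let gV : (extR V).obj M ⟶ I := biprod.inr ≫ g
  have hg : aApp (inf_le_left : U ⊓ V ≤ U) M ≫ gU = aApp (inf_le_right : U ⊓ V ≤ V) M ≫ gV := by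
    have h : (α' U V).app M ≫ g = 0 := by simp [g]
    rw [← sub_eq_zero, sub_eq_add_neg, ← Preadditive.neg_comp, ← biprod.lift_desc,
      show biprod.desc gU gV = g from by apply biprod.hom_ext' <;> simp [gU, gV]]
    exact h
  obtain ⟨k', hk⟩ := (key I).2.2 (biprod.lift ((adjW U).homEquiv _ _ gU) ((adjW V).homEquiv _ _ gV)) (by
    refine biprod.lift_desc.trans ?_
    rw [Preadditive.comp_neg, ← sub_eq_add_neg, ← homEquiv_aApp, ← homEquiv_aApp, hg, sub_self])
  haveI := hu I
  let k : M ⟶ I := k' ≫ inv ((Scheme.Modules.restrictAdjunction (U ⊔ V).ι).unit.app I)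
  have hk' : (β' U V).app M ≫ k = g := by
    apply biprod.hom_ext'
    · refine ((Category.assoc _ _ _).symm.trans (congrArg (· ≫ k) (biprod.inl_desc (cApp U M) (cApp V M)))).trans ?_
      apply ((adjW U).homEquiv _ _).injective
      rw [homEquiv_cApp, ← unit_map (le_sup_left : U ≤ U ⊔ V)]
      simp only [k, Category.assoc, IsIso.inv_hom_id_assoc]
      refine ((congrArg (k' ≫ ·) (biprod.lift_fst _ _).symm).trans ((Category.assoc _ _ _).symm.trans
        ((congrArg (· ≫ biprod.fst) hk).trans ?_)))
      exact biprod.lift_fst _ _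
    · refine ((Category.assoc _ _ _).symm.trans (congrArg (· ≫ k) (biprod.inr_desc (cApp U M) (cApp V M)))).trans ?_
      apply ((adjW V).homEquiv _ _).injective
      rw [homEquiv_cApp, ← unit_map (le_sup_right : V ≤ U ⊔ V)]
      simp only [k, Category.assoc, IsIso.inv_hom_id_assoc]
      refine ((congrArg (k' ≫ ·) (biprod.lift_snd _ _).symm).trans ((Category.assoc _ _ _).symm.trans
        ((congrArg (· ≫ biprod.snd) hk).trans ?_)))
      exact biprod.lift_snd _ _
  rw [← cancel_mono (Injective.ι (cokernel ((α' U V).app M))), zero_comp, Category.assoc]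
  show kernel.ι ((β' U V).app M) ≫ g = 0
  rw [← hk', kernel.condition_assoc, zero_comp]

theorem nonempty_pair_iso (I : CochainComplex X.Modules ℤ) :
    Nonempty (DerivedCategory.Q.obj (((pairL U V).mapHomologicalComplex (ComplexShape.up ℤ)).obj I) ≅
      DerivedCategory.Q.obj (((extR U).mapHomologicalComplex (ComplexShape.up ℤ)).obj I) ⊞
      DerivedCategory.Q.obj (((extR V).mapHomologicalComplex (ComplexShape.up ℤ)).obj I)) := by
  let c := ComplexShape.up ℤ
  let iU : extR U ⟶ pairL U V :=
    { app := fun M => biprod.inl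
      naturality := fun M N φ => by dsimp [pairL]; exact (biprod.inl_map _ _).symm }
  let iV : extR V ⟶ pairL U V :=
    { app := fun M => biprod.inr
      naturality := fun M N φ => by dsimp [pairL]; exact (biprod.inr_map _ _).symm }
  let pU : pairL U V ⟶ extR U :=
    { app := fun M => biprod.fst
      naturality := fun M N φ => by dsimp [pairL]; exact biprod.map_fst _ _ }
  let pV : pairL U V ⟶ extR V :=
    { app := fun M => biprod.snd
      naturality := fun M N φ => by dsimp [pairL]; exact biprod.map_snd _ _ }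
  let a₁ := (NatTrans.mapHomologicalComplex iU c).app I
  let a₂ := (NatTrans.mapHomologicalComplex iV c).app I
  let b₁ := (NatTrans.mapHomologicalComplex pU c).app I
  let b₂ := (NatTrans.mapHomologicalComplex pV c).app I
  let e : ((pairL U V).mapHomologicalComplex c).obj I ≅
      ((extR U).mapHomologicalComplex c).obj I ⊞ ((extR V).mapHomologicalComplex c).obj I :=
    { hom := biprod.lift b₁ b₂
      inv := biprod.desc a₁ a₂
      hom_inv_id := by
        rw [biprod.lift_desc]
        exact HomologicalComplex.hom_ext _ _ fun n => biprod.total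
      inv_hom_id := by
        have h₁ : a₁ ≫ b₁ = 𝟙 _ := HomologicalComplex.hom_ext _ _ fun n => biprod.inl_fst
        have h₂ : a₁ ≫ b₂ = 0 := HomologicalComplex.hom_ext _ _ fun n => biprod.inl_snd
        have h₃ : a₂ ≫ b₁ = 0 := HomologicalComplex.hom_ext _ _ fun n => biprod.inr_fst
        have h₄ : a₂ ≫ b₂ = 𝟙 _ := HomologicalComplex.hom_ext _ _ fun n => biprod.inr_snd
        apply biprod.hom_ext <;> apply biprod.hom_ext' <;> simp [h₁, h₂, h₃, h₄] }
  haveI : PreservesBinaryBiproducts (DerivedCategory.Q (C := X.Modules)) := preservesBinaryBiproducts_of_preservesBiproducts _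
  exact ⟨DerivedCategory.Q.mapIso e ≪≫ DerivedCategory.Q.mapBiprod _ _⟩

/-- `j_!(E|_W)` on a representative -/
theorem nonempty_extR_iso (W : X.Opens) [PreservesFiniteLimits (CxOX.extZero W.ι)] (I : CochainComplex X.Modules ℤ) :
    Nonempty (DerivedCategory.Q.obj (((extR W).mapHomologicalComplex (ComplexShape.up ℤ)).obj I) ≅
      (CxOX.extZeroD W.ι).obj ((DCoh.restrictD W.ι).obj (DerivedCategory.Q.obj I))) :=
  ⟨DerivedCategory.Q.mapIso ((Functor.mapHomologicalComplexCompIso (Iso.refl (extR W)) _).app I).symm ≪≫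
    ((CxOX.extZero W.ι).mapDerivedCategoryFactors.app _).symm ≪≫
    (CxOX.extZeroD W.ι).mapIso ((Scheme.Modules.restrictFunctor W.ι).mapDerivedCategoryFactors.app I).symm⟩

theorem exists_triangle_mv_ext (hUV : U ⊔ V = ⊤) [PreservesFiniteLimits (CxOX.extZero U.ι)]
    [PreservesFiniteLimits (CxOX.extZero V.ι)] [PreservesFiniteLimits (CxOX.extZero (U ⊓ V).ι)] (E : DCoh.D X) :
    ∃ T ∈ distTriang (DCoh.D X),
      Nonempty (T.obj₁ ≅ (CxOX.extZeroD (U ⊓ V).ι).obj ((DCoh.restrictD (U ⊓ V).ι).obj E)) ∧
      Nonempty (T.obj₂ ≅ (CxOX.extZeroD U.ι).obj ((DCoh.restrictD U.ι).obj E) ⊞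
        (CxOX.extZeroD V.ι).obj ((DCoh.restrictD V.ι).obj E)) ∧ Nonempty (T.obj₃ ≅ E) := by
  let I := DerivedCategory.Q.objPreimage E
  let e := DerivedCategory.Q.objObjPreimageIso E
  have key := fun (W : X.Opens) [PreservesFiniteLimits (CxOX.extZero W.ι)] =>
    (nonempty_extR_iso W I).some ≪≫ (CxOX.extZeroD W.ι).mapIso ((DCoh.restrictD W.ι).mapIso e)
  obtain ⟨T, hT, ⟨e₁⟩, ⟨e₂⟩, ⟨e₃⟩⟩ := H7MV.exists_triangle (α' U V) (β' U V) (α'_β' U V) I
    (fun n => shortExact U V hUV (I.X n))
  exact ⟨T, hT, ⟨e₁ ≪≫ key (U ⊓ V)⟩, ⟨e₂ ≪≫ (nonempty_pair_iso U V I).some ≪≫ biprod.mapIso (key U) (key V)⟩,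
    ⟨e₃ ≪≫ (show DerivedCategory.Q.obj (((𝟭 X.Modules).mapHomologicalComplex _).obj I) ≅ E from e)⟩⟩

end Groth.Agent.H7MVExt
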