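import Groth.Agent.Lib.H7LTensorCx
import Groth.Agent.Lib.H7FlatCover
import Mathlib

/-! Tensoring with the free module on an open. -/

universe u
open CategoryTheory Limits AlgebraicGeometry TopologicalSpace Opposite MonoidalCategory HomologicalComplex

namespace Groth.Agent.H7TensorFree
open Groth.Agent H7FlatCover H7StalkDetect H7StalkTensor

variable {X : Scheme.{u}}

/-- `M ⊗ -` -/
noncomputable abbrev tl (M : X.Modules) : X.Modules ⥤ X.Modules := (DCoh.tensorBi (X := X)).obj M

lemma isZero_stalk_freeU {x : X} {U : X.Opens} (hx : x ∉ U) :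
    IsZero ((DerSch.stalkFunctor X x).obj (freeU U)) :=
  (IsZero.iff_id_eq_zero _).2 (stalk_freeU_ext fun h => absurd h hx)

/-- `F_V ⊗ g` only sees the stalks of `g` over `V` -/
theorem isIso_tl_map (V : X.Opens) {N N' : X.Modules} (g : N ⟶ N')
    (h : ∀ x : X, x ∈ V → IsIso ((DerSch.stalkFunctor X x).map g)) : IsIso ((tl (freeU V)).map g) := by
  refine @JointlyReflectIsomorphisms.isIso _ _ _ _ _ _ (jointly X) _ _ _ (fun x => ?_)
  by_cases hx : x ∈ V
  · haveI := h x hx
    refine (NatIso.isIso_map_iff (natIso₂ x (freeU V)) g).2 ?_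
    rw [Functor.comp_map]
    infer_instance
  · have hz : ∀ L : X.Modules, IsZero ((tl (freeU V) ⋙ DerSch.stalkFunctor X x).obj L) := fun L =>
      (Functor.map_isZero ((tensorRight ((DerSch.stalkFunctor X x).obj L))) (isZero_stalk_freeU hx)).of_iso
        ((natIso₂ x (freeU V)).app L)
    exact ⟨0, (hz N).eq_of_src _ _, (hz N').eq_of_src _ _⟩

variable {M : X.Modules} (hM : FlatMod.IsFlat M)

include hM in
lemma mono_tl_map {N N' : X.Modules} (g : N ⟶ N') [Mono g] : Mono ((tl M).map g) := by
  refine Preadditive.mono_of_isZero_kernel _ (isZero_of_stalks fun x => ?_)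
  suffices h : Mono ((tl M ⋙ DerSch.stalkFunctor X x).map g) from
    haveI : Mono ((DerSch.stalkFunctor X x).map ((tl M).map g)) := h
    (isZero_kernel_of_mono _).of_iso (PreservesKernel.iso (DerSch.stalkFunctor X x) ((tl M).map g))
  have e : (tl M ⋙ DerSch.stalkFunctor X x).map g = (natIso₂ x M).hom.app N ≫
      (DerSch.stalkFunctor X x ⋙ (curriedTensor (ModuleCat.{u} (X.presheaf.stalk x))).obj ((DerSch.stalkFunctor X x).obj M)).map g ≫
      (natIso₂ x M).inv.app N' := by
    rw [← NatTrans.naturality_assoc, Iso.hom_inv_id_app, Category.comp_id]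
  rw [e]
  have : Mono ((DerSch.stalkFunctor X x).obj M ◁ (DerSch.stalkFunctor X x).map g) := by
    rw [ModuleCat.mono_iff_injective]
    have : Module.Flat (X.presheaf.stalk x) ((DerSch.stalkFunctor X x).obj M) := hM x
    exact Module.Flat.lTensor_preserves_injective_linearMap _ (stalk_map_injective x g)
  exact @mono_comp _ _ _ _ _ _ (IsIso.mono_of_iso _) _ (@mono_comp _ _ _ _ _ _ this _ (IsIso.mono_of_iso _))

lemma preservesCokernels_tl (M : X.Modules) : PreservesColimitsOfShape WalkingParallelPair (tl M) := by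
  haveI : ∀ x : X, PreservesColimitsOfShape WalkingParallelPair (DerSch.stalkFunctor X x) := fun x => inferInstance
  refine preservesColimitsOfShape_of_stalks (tl M) fun x => ?_
  exact preservesColimitsOfShape_of_natIso (natIso₂ x M).symm

include hM in
theorem preservesHomology_tl : (tl M).PreservesHomology := by
  haveI : (tl M).PreservesMonomorphisms := ⟨fun g _ => mono_tl_map hM g⟩
  haveI := preservesCokernels_tl M
  exact Functor.preservesHomology_of_preservesMonos_and_cokernels _

end Groth.Agent.H7TensorFree
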