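import Groth.Agent.Lib.H7LocTri
import Groth.Agent.Lib.H7TensorFree
import Groth.Agent.Lib.H7MVExt
import Groth.Agent.Lib.H7AffineD
import Groth.Agent.Lib.LQAff
import Mathlib

/-! Localisation of `Hom(F_V ⊗ E, L)` for quasi-coherent `L`. -/

universe u
open CategoryTheory Limits AlgebraicGeometry TopologicalSpace Opposite HomologicalComplex

namespace Groth.Agent.H7HomLoc
open Groth.Agent H7FlatCover H7TensorFree H7LocTri

attribute [local instance] HasDerivedCategory.standard

variable {X : Scheme.{u}}

local notation "c" => ComplexShape.up ℤ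

/-- `M ↦ Q(M ⊗ E)` -/
noncomputable def Φ (E : CochainComplex X.Modules ℤ) : X.Modules ⥤ DCoh.D X where
  obj M := DerivedCategory.Q.obj (((tl M).mapHomologicalComplex c).obj E)
  map f := DerivedCategory.Q.map ((NatTrans.mapHomologicalComplex ((DCoh.tensorBi (X := X)).map f) c).app E)
  map_id M := by
    rw [CategoryTheory.Functor.map_id, NatTrans.mapHomologicalComplex_id, NatTrans.id_app,
      CategoryTheory.Functor.map_id]
  map_comp f g := by
    rw [Functor.map_comp, NatTrans.mapHomologicalComplex_comp, NatTrans.comp_app, Functor.map_comp]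

/-- functoriality in the complex -/
noncomputable def Φmap {E E' : CochainComplex X.Modules ℤ} (g : E ⟶ E') : Φ E ⟶ Φ E' where
  app M := DerivedCategory.Q.map (((tl M).mapHomologicalComplex c).map g)
  naturality M N f :=
    (DerivedCategory.Q.map_comp _ _).symm.trans ((congrArg DerivedCategory.Q.map
      ((NatTrans.mapHomologicalComplex ((DCoh.tensorBi (X := X)).map f) c).naturality g).symm).trans
      (DerivedCategory.Q.map_comp _ _))

lemma isIso_Φmap {E E' : CochainComplex X.Modules ℤ} (g : E ⟶ E') [QuasiIso g] {M : X.Modules}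
    (hM : FlatMod.IsFlat M) : IsIso ((Φmap g).app M) := by
  haveI := preservesHomology_tl hM
  exact (DerivedCategory.isIso_Q_map_iff_quasiIso _ _).2 inferInstance

/-- the test attached to `D ≤ W` and `g ∈ Γ(X, W)` -/
@[reducible] noncomputable def test {W D : X.Opens} (h : D ≤ W) (g : Γ(X, W)) : Test X.Modules where
  P := freeU W
  P' := freeU D
  a := (secEquiv D _).symm (LQcoh.res (freeU W) h (usec W))
  e k := (secEquiv W _).symm (g ^ k • (usec W : Γ(freeU W, W)))
  e' k := (secEquiv D _).symm (LQcoh.resO h (g ^ k) • (usec D : Γ(freeU D, D)))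
  comm k := by
    apply (secEquiv D _).injective
    rw [secEquiv_comp, secEquiv_comp, Equiv.apply_symm_apply, Equiv.apply_symm_apply]
    refine (Scheme.Modules.Hom.app_smul _ _ _).trans ?_
    rw [← secEquiv_eq, Equiv.apply_symm_apply]
    refine Eq.trans ?_ (ConcreteCategory.congr_hom ((Scheme.Modules.Hom.mapPresheaf
      ((secEquiv W _).symm (g ^ k • (usec W : Γ(freeU W, W))))).naturality (homOfLE h).op) (usec W)).symm
    show _ = LQcoh.res (freeU W) h (((secEquiv W _).symm _).app W (usec W))
    rw [← secEquiv_eq, Equiv.apply_symm_apply, LQcoh.res_smul]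
  add i j := by
    apply (secEquiv W _).injective
    rw [secEquiv_comp, Equiv.apply_symm_apply, Equiv.apply_symm_apply]
    refine (Scheme.Modules.Hom.app_smul _ _ _).trans ?_
    rw [← secEquiv_eq, Equiv.apply_symm_apply, smul_smul, ← pow_add]
  add' i j := by
    apply (secEquiv D _).injective
    rw [secEquiv_comp, Equiv.apply_symm_apply, Equiv.apply_symm_apply]
    refine (Scheme.Modules.Hom.app_smul _ _ _).trans ?_
    rw [← secEquiv_eq, Equiv.apply_symm_apply, smul_smul, ← map_mul, ← pow_add]

lemma comp_a {W D : X.Opens} (h : D ≤ W) (g : Γ(X, W)) {M : X.Modules} (x : freeU W ⟶ M) :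
    secEquiv D M ((test h g).a ≫ x) = LQcoh.res M h (secEquiv W M x) := by
  rw [secEquiv_comp]
  show x.app D ((secEquiv D _) ((secEquiv D _).symm _)) = _
  rw [Equiv.apply_symm_apply, secEquiv_eq W x]
  exact ConcreteCategory.congr_hom ((Scheme.Modules.Hom.mapPresheaf x).naturality (homOfLE h).op) (usec W)

lemma comp_e {W D : X.Opens} (h : D ≤ W) (g : Γ(X, W)) {M : X.Modules} (x : freeU W ⟶ M) (k : ℕ) :
    secEquiv W M ((test h g).e k ≫ x) = g ^ k • (secEquiv W M x : Γ(M, W)) := by
  rw [secEquiv_comp]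
  show x.app W ((secEquiv W _) ((secEquiv W _).symm _)) = _
  rw [Equiv.apply_symm_apply, secEquiv_eq W x]
  exact Scheme.Modules.Hom.app_smul _ _ _

lemma comp_e' {W D : X.Opens} (h : D ≤ W) (g : Γ(X, W)) {M : X.Modules} (x : freeU D ⟶ M) (k : ℕ) :
    secEquiv D M ((test h g).e' k ≫ x) = LQcoh.resO h (g ^ k) • (secEquiv D M x : Γ(M, D)) := by
  rw [secEquiv_comp]
  show x.app D ((secEquiv D _) ((secEquiv D _).symm _)) = _
  rw [Equiv.apply_symm_apply, secEquiv_eq D x]
  exact Scheme.Modules.Hom.app_smul _ _ _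

lemma isQCohD_shift {L : DCoh.D X} (hL : DCoh.IsQCohD L) (n : ℤ) : DCoh.IsQCohD (L⟦n⟧) := fun i =>
  H7AffineD.qcoh_of_iso (((DerivedCategory.homologyFunctor _ 0).shiftIso n i (n + i) rfl).app L).symm (hL _)

/-- sections of the cohomology of a quasi-coherent object localise -/
theorem locAll_single {W : X.Opens} (hW : IsAffineOpen W) (g : Γ(X, W)) {L : DCoh.D X} (hL : DCoh.IsQCohD L)
    (k : ℤ) : LocAll (test (X.basicOpen_le g) g) (DerivedCategory.singleFunctor X.Modules k) L := by
  have h0 : ∀ L : DCoh.D X, DCoh.IsQCohD L →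
      Loc (test (X.basicOpen_le g) g) (DerivedCategory.singleFunctor X.Modules 0) L := by
    intro L hL
    have nat : ∀ {M N : X.Modules} (f : M ⟶ N) (x : (DerivedCategory.singleFunctor X.Modules 0).obj N ⟶ L),
        H7Unbounded.psi M L ((DerivedCategory.singleFunctor X.Modules 0).map f ≫ x) =
          f ≫ H7Unbounded.psi N L x := fun {M N} f x => by
      show (DerivedCategory.singleFunctorCompHomologyFunctorIso X.Modules 0).inv.app M ≫ _ =
        f ≫ (DerivedCategory.singleFunctorCompHomologyFunctorIso X.Modules 0).inv.app N ≫ _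
      rw [Functor.map_comp]
      exact ((Category.assoc _ _ _).symm.trans (congrArg (· ≫ _)
        ((DerivedCategory.singleFunctorCompHomologyFunctorIso X.Modules 0).inv.naturality f).symm)).trans
        (Category.assoc _ _ _)
    have hbW := H7AffineD.psi_bijective L hL ⟨W, hW⟩
    have hbD : Function.Bijective (H7Unbounded.psi (freeU (X.basicOpen g)) L) :=
      H7AffineD.psi_bijective L hL ⟨X.basicOpen g, hW.basicOpen g⟩
    let H := (DerivedCategory.homologyFunctor X.Modules 0).obj L
    haveI : H.IsQuasicoherent := hL 0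
    obtain ⟨hs, hi⟩ := LQcoh.locAt_of_qcoh H hW g
    let S₀ := DerivedCategory.singleFunctor X.Modules 0
    have hA : ∀ x : S₀.obj (freeU W) ⟶ L,
        secEquiv (X.basicOpen g) H (H7Unbounded.psi _ L (S₀.map (test (X.basicOpen_le g) g).a ≫ x)) =
          LQcoh.res H (X.basicOpen_le g) (secEquiv W H (H7Unbounded.psi _ L x)) := fun x =>
      (congrArg (secEquiv (X.basicOpen g) H) (nat _ x)).trans (comp_a _ g _)
    have hE : ∀ (x : S₀.obj (freeU W) ⟶ L) (k : ℕ),
        secEquiv W H (H7Unbounded.psi _ L (S₀.map ((test (X.basicOpen_le g) g).e k) ≫ x)) =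
          g ^ k • (secEquiv W H (H7Unbounded.psi _ L x) : Γ(H, W)) := fun x k =>
      (congrArg (secEquiv W H) (nat _ x)).trans (comp_e _ g _ k)
    have hE' : ∀ (x : S₀.obj (freeU (X.basicOpen g)) ⟶ L) (k : ℕ),
        secEquiv (X.basicOpen g) H (H7Unbounded.psi _ L (S₀.map ((test (X.basicOpen_le g) g).e' k) ≫ x)) =
          LQcoh.resO (X.basicOpen_le g) (g ^ k) •
            (secEquiv (X.basicOpen g) H (H7Unbounded.psi _ L x) : Γ(H, X.basicOpen g)) := fun x k =>
      (congrArg (secEquiv (X.basicOpen g) H) (nat _ x)).trans (comp_e' _ g _ k)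
    have hz : ∀ V : X.Opens, secEquiv V H (H7Unbounded.psi (freeU V) L 0) = 0 := fun V =>
      (congrArg (secEquiv V H) (map_zero _)).trans ((secEquiv_eq V (0 : freeU V ⟶ H)).trans rfl)
    refine ⟨fun x hx => ?_, fun y => ?_⟩
    · obtain ⟨k, hk⟩ := hi _ ((hA x).symm.trans
        ((congrArg (fun z => secEquiv (X.basicOpen g) H (H7Unbounded.psi _ L z)) hx).trans (hz _)))
      exact ⟨k, hbW.1 ((secEquiv W H).injective ((hE x k).trans (hk.trans (hz W).symm)))⟩
    · obtain ⟨k, s, hs⟩ := hs (secEquiv (X.basicOpen g) H (H7Unbounded.psi _ L y))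
      obtain ⟨x, hx⟩ := hbW.2 ((secEquiv W H).symm s)
      refine ⟨k, x, hbD.1 ((secEquiv (X.basicOpen g) H).injective ((hE' y k).trans (hs.symm.trans ?_)))⟩
      refine Eq.trans ?_ (hA x).symm
      exact congrArg (LQcoh.res H _) (((congrArg (secEquiv W H) hx).trans (Equiv.apply_symm_apply _ s)).symm)
  intro j
  let η : DerivedCategory.singleFunctor X.Modules k ≅ DerivedCategory.singleFunctor X.Modules 0 ⋙ shiftFunctor _ (-k) :=
    ((DerivedCategory.singleFunctors X.Modules).shiftIso (-k) k 0 (by omega)).symm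
  exact (loc_of_isIso η.hom).2 (loc_shift (fun i => h0 _ (isQCohD_shift hL i)) _ _)

/-- the unit isomorphism is natural -/
lemma unitorR_natural {M N : X.Modules} (f : M ⟶ N) :
    ((DCoh.tensorBi (X := X)).map f).app (Coh.structureModule X) ≫ (SecTwist.unitorR N).hom =
      (SecTwist.unitorR M).hom ≫ f := by
  have h1 : (MonoidalCategory.whiskerRight (DCoh.toP.map f) (DCoh.toP.obj (Coh.structureModule X))) ≫
      (SecTwist.unitorPre N).hom = (SecTwist.unitorPre M).hom ≫ DCoh.toP.map f :=
    MonoidalCategory.rightUnitor_naturality _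
  show DCoh.shP.map _ ≫ DCoh.shP.map (SecTwist.unitorPre N).hom ≫ _ = (DCoh.shP.map (SecTwist.unitorPre M).hom ≫ _) ≫ f
  rw [← Category.assoc, ← Functor.map_comp]
  refine ((congrArg (fun z => DCoh.shP.map z ≫ _) h1).trans ?_)
  refine (congrArg (· ≫ _) (DCoh.shP.map_comp _ _)).trans ((Category.assoc _ _ _).trans
    (Eq.trans ?_ (Category.assoc _ _ _).symm))
  exact congrArg (_ ≫ ·) ((PresheafOfModules.sheafificationAdjunction.{u, u, u, u}
    (J := Opens.grothendieckTopology X) (𝟙 X.ringCatSheaf.obj)).counit.naturality f)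

lemma single_nat {C D : Type*} [Category C] [Category D] [Preadditive C] [Preadditive D] [HasZeroObject C]
    [HasZeroObject D] {F G : C ⥤ D} [F.Additive] [G.Additive] (τ : F ⟶ G) (k : ℤ) (A : C) :
    (NatTrans.mapHomologicalComplex τ c).app ((single C c k).obj A) ≫ (singleMapHomologicalComplex G c k).hom.app A =
      (singleMapHomologicalComplex F c k).hom.app A ≫ (single D c k).map (τ.app A) := by
  apply to_single_hom_ext
  simp [single_map_f_self]
  refine (Category.assoc _ _ _).symm.trans ((congrArg (· ≫ _) (τ.naturality _).symm).trans ((Category.assoc _ _ _).trans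
    (Eq.trans ?_ (Category.assoc _ _ _).symm)))
  exact congrArg (F.map _ ≫ ·) (Iso.inv_hom_id_assoc _ _).symm

/-- `M ⊗ O[k] = M[k]` -/
noncomputable def baseIso (k : ℤ) :
    Φ ((single X.Modules c k).obj (Coh.structureModule X)) ≅ single X.Modules c k ⋙ DerivedCategory.Q :=
  NatIso.ofComponents (fun M => DerivedCategory.Q.mapIso
      ((singleMapHomologicalComplex (tl M) c k).app (Coh.structureModule X) ≪≫
        (single X.Modules c k).mapIso (SecTwist.unitorR M))) (fun {M N} f => by
    refine (DerivedCategory.Q.map_comp _ _).symm.trans (Eq.trans (congrArg DerivedCategory.Q.map ?_)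
      (DerivedCategory.Q.map_comp _ _))
    refine (Category.assoc _ _ _).symm.trans ((congrArg (· ≫ _)
      (single_nat ((DCoh.tensorBi (X := X)).map f) k (Coh.structureModule X))).trans ((Category.assoc _ _ _).trans
      (Eq.trans ?_ (Category.assoc _ _ _).symm)))
    refine congrArg ((singleMapHomologicalComplex (tl M) c k).hom.app (Coh.structureModule X) ≫ ·) ?_
    exact ((single X.Modules c k).map_comp _ _).symm.trans
      ((congrArg _ (unitorR_natural f)).trans ((single X.Modules c k).map_comp _ _)))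

theorem locAll_base {W : X.Opens} (hW : IsAffineOpen W) (g : Γ(X, W)) {L : DCoh.D X} (hL : DCoh.IsQCohD L) (k : ℤ) :
    LocAll (test (X.basicOpen_le g) g) (Φ ((single X.Modules c k).obj (Coh.structureModule X))) L := fun j =>
  (loc_of_isIso (baseIso k ≪≫ (DerivedCategory.singleFunctorIsoCompQ X.Modules k).symm).hom).2 (locAll_single hW g hL k j)

variable {W D : X.Opens} (h : D ≤ W) (g : Γ(X, W)) {L : DCoh.D X}

theorem locAll_quasiIso {E E' : CochainComplex X.Modules ℤ} (q : E ⟶ E') [QuasiIso q] :
    LocAll (test h g) (Φ E) L ↔ LocAll (test h g) (Φ E') L := by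
  haveI := isIso_Φmap q (flat_freeU W)
  haveI := isIso_Φmap q (flat_freeU D)
  haveI : IsIso ((Φmap q).app (test h g).P) := ‹IsIso ((Φmap q).app (freeU W))›
  haveI : IsIso ((Φmap q).app (test h g).P') := ‹IsIso ((Φmap q).app (freeU D))›
  exact forall_congr' fun j => loc_of_isIso (Φmap q)

lemma shortExact_map {S : ShortComplex (CochainComplex X.Modules ℤ)}
    (hs : ∀ i, Nonempty (S.map (HomologicalComplex.eval X.Modules c i)).Splitting) (F : X.Modules ⥤ X.Modules)
    [F.Additive] : (S.map (F.mapHomologicalComplex c)).ShortExact :=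
  HomologicalComplex.shortExact_of_degreewise_shortExact _ fun i => ((hs i).some.map F).shortExact

theorem locAll_ses (S : ShortComplex (CochainComplex X.Modules ℤ))
    (hs : ∀ i, Nonempty (S.map (HomologicalComplex.eval X.Modules c i)).Splitting)
    (h₁ : LocAll (test h g) (Φ S.X₁) L) (h₃ : LocAll (test h g) (Φ S.X₃) L) : LocAll (test h g) (Φ S.X₂) L := by
  let δ : Φ S.X₃ ⟶ Φ S.X₁ ⋙ shiftFunctor _ (1 : ℤ) :=
    { app := fun M => DerivedCategory.triangleOfSESδ (shortExact_map hs (tl M))
      naturality := fun M N f => (DerivedCategory.triangleOfSESδ_naturality (shortExact_map hs (tl M))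
        (shortExact_map hs (tl N))
        { τ₁ := (NatTrans.mapHomologicalComplex ((DCoh.tensorBi (X := X)).map f) c).app S.X₁
          τ₂ := (NatTrans.mapHomologicalComplex ((DCoh.tensorBi (X := X)).map f) c).app S.X₂
          τ₃ := (NatTrans.mapHomologicalComplex ((DCoh.tensorBi (X := X)).map f) c).app S.X₃
          comm₁₂ := ((NatTrans.mapHomologicalComplex ((DCoh.tensorBi (X := X)).map f) c).naturality S.f).symm
          comm₂₃ := ((NatTrans.mapHomologicalComplex ((DCoh.tensorBi (X := X)).map f) c).naturality S.g).symm }).symm }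
  exact loc_five (Φmap S.f) (Φmap S.g) δ
    (fun M _ => DerivedCategory.triangleOfSES_distinguished (shortExact_map hs (tl M))) h₁ h₃

lemma isIso_stalk_cApp {x : X} (hx : x ∈ W) (M : X.Modules) :
    IsIso ((DerSch.stalkFunctor X x).map (H7MVExt.cApp W M)) := by
  have hc : H7MVExt.cApp W M = (CxOX.extZeroAdj W.ι).counit.app M := by
    apply ((H7MVExt.adjW W).homEquiv _ _).injective
    rw [H7MVExt.cApp, Equiv.apply_symm_apply, H7MVExt.adjW, Adjunction.comp_homEquiv]
    show _ = (Scheme.Modules.restrictAdjunction W.ι).homEquiv _ _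
      ((CxOX.extZeroAdj W.ι).homEquiv _ _ ((CxOX.extZeroAdj W.ι).counit.app M))
    have h1 : (CxOX.extZeroAdj W.ι).homEquiv _ _ ((CxOX.extZeroAdj W.ι).counit.app M) = 𝟙 _ :=
      (Adjunction.homEquiv_unit _ _ _ _).trans ((CxOX.extZeroAdj W.ι).right_triangle_components M)
    exact ((Adjunction.homEquiv_id _ _).symm.trans (congrArg _ h1.symm))
  haveI := LExtZero.isIso_unit W.ι
  haveI : IsIso ((Scheme.Modules.restrictFunctor W.ι).map (H7MVExt.cApp W M)) := by
    rw [hc]
    have := (CxOX.extZeroAdj W.ι).right_triangle_components M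
    have h2 : IsIso ((CxOX.extZeroAdj W.ι).unit.app ((Scheme.Modules.restrictFunctor W.ι).obj M) ≫
      (Scheme.Modules.restrictFunctor W.ι).map ((CxOX.extZeroAdj W.ι).counit.app M)) := by
      rw [this]; infer_instance
    exact IsIso.of_isIso_comp_left ((CxOX.extZeroAdj W.ι).unit.app _) _
  have h3 : IsIso ((Scheme.Modules.toPresheaf X ⋙ TopCat.Presheaf.stalkFunctor _ (W.ι ⟨x, hx⟩)).map
      (H7MVExt.cApp W M)) :=
    (NatIso.isIso_map_iff (Scheme.Modules.restrictStalkNatIso W.ι ⟨x, hx⟩) _).1
      (inferInstanceAs (IsIso ((Scheme.Modules.toPresheaf W.toScheme ⋙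
          TopCat.Presheaf.stalkFunctor AddCommGrpCat.{u} (⟨x, hx⟩ : W)).map
          ((Scheme.Modules.restrictFunctor W.ι).map (H7MVExt.cApp W M)))))
  have h4 := (ConcreteCategory.isIso_iff_bijective _).1 h3
  exact (ConcreteCategory.isIso_iff_bijective _).2 h4

theorem locAll_extR (E : CochainComplex X.Modules ℤ) :
    LocAll (test h g) (Φ (((H7MVExt.extR W).mapHomologicalComplex c).obj E)) L ↔ LocAll (test h g) (Φ E) L := by
  let q : ((H7MVExt.extR W).mapHomologicalComplex c).obj E ⟶ E :=
    { f := fun i => H7MVExt.cApp W (E.X i)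
      comm' := fun i j _ => ((H7MVExt.cNat W).naturality (E.d i j)).symm }
  have key : ∀ V : X.Opens, V ≤ W → IsIso ((Φmap q).app (freeU V)) := fun V hV => by
    haveI : ∀ i, IsIso (((tl (freeU V)).mapHomologicalComplex c).map q |>.f i) := fun i =>
      isIso_tl_map V _ fun x hx => isIso_stalk_cApp (hV hx) _
    haveI := Hom.isIso_of_components (((tl (freeU V)).mapHomologicalComplex c).map q)
    exact Functor.map_isIso DerivedCategory.Q _
  haveI : IsIso ((Φmap q).app (test h g).P) := key W le_rfl
  haveI : IsIso ((Φmap q).app (test h g).P') := key D h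
  exact forall_congr' fun j => loc_of_isIso (Φmap q)

end Groth.Agent.H7HomLoc
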