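import Groth.Agent.Lib.H7SuppZero
import Groth.Agent.Lib.H7MVExt
import Groth.Agent.Lib.H7HomLoc
import Mathlib

/-! Gluing objects of the derived category along two opens. -/

universe u v w
open CategoryTheory Limits AlgebraicGeometry TopologicalSpace Opposite Pretriangulated

namespace Groth.Agent.H7Glue
open Groth.Agent H7PerfTri

attribute [local instance] HasDerivedCategory.standard

theorem isIso_inl_comp {C : Type*} [Category C] [Preadditive C] [HasZeroObject C] [HasShift C ℤ]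
    [∀ n : ℤ, (shiftFunctor C n).Additive] [Pretriangulated C] {P A B F : C} [HasBinaryBiproduct A B]
    (a : P ⟶ A) (b : P ⟶ B) [IsIso b] (g : A ⊞ B ⟶ F) (δ : F ⟶ P⟦(1 : ℤ)⟧)
    (hT : Triangle.mk (biprod.lift a b) g δ ∈ distTriang C) : IsIso (biprod.inl ≫ g) := by
  have hδ : δ = 0 := by
    have h : δ ≫ (biprod.lift a b)⟦(1 : ℤ)⟧' = 0 := comp_distTriang_mor_zero₃₁ _ hT
    have h2 := congrArg (· ≫ (biprod.snd ≫ inv b)⟦(1 : ℤ)⟧') h
    simpa [← Functor.map_comp] using h2
  have hinj : ∀ {Z : C} (z : F ⟶ Z), (biprod.inl ≫ g) ≫ z = 0 → z = 0 := by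
    intro Z z hz
    have h0 : biprod.lift a b ≫ g = 0 := comp_distTriang_mor_zero₁₂ _ hT
    have h1 : b ≫ biprod.inr ≫ g ≫ z = 0 := by
      have e : biprod.lift a b = a ≫ biprod.inl + b ≫ biprod.inr := biprod.lift_eq
      have := congrArg (· ≫ z) h0
      simpa [e, Preadditive.add_comp, Category.assoc, (Category.assoc _ _ _).symm.trans hz, reassoc_of% hz] using this
    have h2 : g ≫ z = 0 := by
      apply biprod.hom_ext'
      · rw [← Category.assoc, hz, comp_zero]
      · rw [comp_zero]; exact (cancel_epi b).1 (h1.trans comp_zero.symm)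
    obtain ⟨v, rfl⟩ := Triangle.yoneda_exact₃ _ hT z h2
    show δ ≫ v = 0
    rw [hδ, zero_comp]
  obtain ⟨r, hr⟩ : ∃ r : F ⟶ A, biprod.desc (𝟙 A) (-(inv b ≫ a)) = g ≫ r :=
    Triangle.yoneda_exact₂ _ hT _ (show biprod.lift a b ≫ biprod.desc (𝟙 A) (-(inv b ≫ a)) = 0 by
      rw [biprod.lift_desc]; simp)
  have h1 : (biprod.inl ≫ g) ≫ r = 𝟙 A := by rw [Category.assoc, ← hr, biprod.inl_desc]
  refine ⟨r, h1, sub_eq_zero.1 (hinj _ ?_)⟩
  rw [Preadditive.comp_sub, ← Category.assoc, h1, Category.id_comp, Category.comp_id, sub_self]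

variable {X : Scheme.{u}}

/-- a morphism is an isomorphism on an open if it is so on a smaller one and both sides vanish on the rest -/
theorem isIso_rD_map (U W : X.Opens) {P Q : DCoh.D X} (φ : P ⟶ Q) [IsIso ((rD W.ι).map φ)] (T : Set X)
    (hT : T ∩ (U : Set X) ⊆ W) (hP : ∀ i, CohB1.support (DCoh.HD P i) ⊆ T)
    (hQ : ∀ i, CohB1.support (DCoh.HD Q i) ⊆ T) : IsIso ((rD U.ι).map φ) := by
  obtain ⟨Z, g, δ, hZ⟩ := distinguished_cocone_triangle φ
  have hW : IsZero ((rD W.ι).obj Z) :=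
    (Triangle.isZero₃_iff_isIso₁ _ ((rD W.ι).map_distinguished _ hZ)).2 ‹IsIso ((rD W.ι).map φ)›
  have h0 : ∀ (i : ℤ) (x : X), x ∈ U → x ∉ CohB1.support (DCoh.HD Z i) := fun i x hx hxs => by
    by_cases hxW : x ∈ W
    · refine hxs ?_
      refine (H7SuppZero.subsingleton_restrict_stalk W.ι (DCoh.HD Z i) ⟨x, hxW⟩).1 ?_
      have h1 := ((DerivedCategory.homologyFunctor _ i).map_isZero hW).of_iso (H7QCoh.hdRestrict W.ι Z i).symm
      exact ModuleCat.isZero_iff_subsingleton.1 ((DerSch.stalkFunctor (W : Scheme.{u}) ⟨x, hxW⟩).map_isZero h1)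
    · have hxT : x ∉ T := fun h => hxW (hT ⟨h, hx⟩)
      have hp : ∀ i, IsZero ((DerSch.stalkFunctor X x).obj (DCoh.HD P i)) := fun i =>
        ModuleCat.isZero_iff_subsingleton.2 (not_not.1 fun h => hxT (hP i h))
      have hq : IsZero ((DerSch.stalkFunctor X x).obj (DCoh.HD Q i)) :=
        ModuleCat.isZero_iff_subsingleton.2 (not_not.1 fun h => hxT (hQ i h))
      have he := (DerivedCategory.HomologySequence.exact₃ _ hZ i (i + 1) rfl).map (DerSch.stalkFunctor X x)
      exact hxs (ModuleCat.isZero_iff_subsingleton.1 (he.isZero_X₂ (hq.eq_of_src _ _) ((hp (i + 1)).eq_of_tgt _ _)))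
  exact (Triangle.isZero₃_iff_isIso₁ _ ((rD U.ι).map_distinguished _ hZ)).1
    (H7SuppZero.isZero_rD U.ι Z fun i y => h0 i _ y.2)

/-- the counit is an isomorphism on the open -/
theorem isIso_restrict_cApp {W : X.Opens} (M : X.Modules) :
    IsIso ((Scheme.Modules.restrictFunctor W.ι).map (H7MVExt.cApp W M)) := by
  have hc : H7MVExt.cApp W M = (CxOX.extZeroAdj W.ι).counit.app M := by
    apply ((H7MVExt.adjW W).homEquiv _ _).injective
    rw [H7MVExt.cApp, Equiv.apply_symm_apply, H7MVExt.adjW, Adjunction.comp_homEquiv]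
    show _ = (Scheme.Modules.restrictAdjunction W.ι).homEquiv _ _
      ((CxOX.extZeroAdj W.ι).homEquiv _ _ ((CxOX.extZeroAdj W.ι).counit.app M))
    have h1 : (CxOX.extZeroAdj W.ι).homEquiv _ _ ((CxOX.extZeroAdj W.ι).counit.app M) = 𝟙 _ :=
      (Adjunction.homEquiv_unit _ _ _ _).trans ((CxOX.extZeroAdj W.ι).right_triangle_components M)
    exact ((Adjunction.homEquiv_id _ _).symm.trans (congrArg _ h1.symm))
  haveI := LExtZero.isIso_unit W.ι
  rw [hc]
  have := (CxOX.extZeroAdj W.ι).right_triangle_components M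
  have h2 : IsIso ((CxOX.extZeroAdj W.ι).unit.app ((Scheme.Modules.restrictFunctor W.ι).obj M) ≫
    (Scheme.Modules.restrictFunctor W.ι).map ((CxOX.extZeroAdj W.ι).counit.app M)) := by
    rw [this]; infer_instance
  exact IsIso.of_isIso_comp_left ((CxOX.extZeroAdj W.ι).unit.app _) _

theorem exists_glue (U V : X.Opens) (A : DCoh.D (U : Scheme.{u})) (B : DCoh.D (V : Scheme.{u}))
    (γ : (rD (X.homOfLE (inf_le_left : U ⊓ V ≤ U))).obj A ≅ (rD (X.homOfLE (inf_le_right : U ⊓ V ≤ V))).obj B) :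
    ∃ F : DCoh.D X, Nonempty ((rD U.ι).obj F ≅ A) ∧ Nonempty ((rD V.ι).obj F ≅ B) := by
  let W := U ⊓ V
  haveI := LExtZero.preservesFiniteLimits_extZero U.ι
  haveI := LExtZero.preservesFiniteLimits_extZero V.ι
  haveI := LExtZero.preservesFiniteLimits_extZero W.ι
  let A' := (CxOX.extZeroD U.ι).obj A
  let B' := (CxOX.extZeroD V.ι).obj B
  obtain ⟨eA⟩ := H7SuppZero.nonempty_rD_extZeroD U.ι A
  obtain ⟨eB⟩ := H7SuppZero.nonempty_rD_extZeroD V.ι B
  let C₀ := (rD W.ι).obj A'
  let e₁ : C₀ ≅ (rD W.ι).obj B' :=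
    (rDComp (X.homOfLE (inf_le_left : W ≤ U)) U.ι W.ι (X.homOfLE_ι _) A').symm ≪≫
      (rD _).mapIso eA ≪≫ γ ≪≫ (rD _).mapIso eB.symm ≪≫
        rDComp (X.homOfLE (inf_le_right : W ≤ V)) V.ι W.ι (X.homOfLE_ι _) B'
  let c := ComplexShape.up ℤ
  let cW : ∀ E : DCoh.D X, (CxOX.extZeroD W.ι).obj ((rD W.ι).obj E) ⟶ E := fun E =>
    let I := DerivedCategory.Q.objPreimage E
    (CxOX.extZeroD W.ι).map ((rD W.ι).map (DerivedCategory.Q.objObjPreimageIso E).inv) ≫
      (H7MVExt.nonempty_extR_iso W I).some.inv ≫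
      DerivedCategory.Q.map ((NatTrans.mapHomologicalComplex (H7MVExt.cNat W) c).app I) ≫
      (DerivedCategory.Q.objObjPreimageIso E).hom
  have hcW : ∀ E : DCoh.D X, IsIso ((rD W.ι).map (cW E)) := fun E => by
    let I := DerivedCategory.Q.objPreimage E
    let q := (NatTrans.mapHomologicalComplex (H7MVExt.cNat W) c).app I
    haveI : ∀ i, IsIso (((Scheme.Modules.restrictFunctor W.ι).mapHomologicalComplex c).map q |>.f i) := fun i =>
      isIso_restrict_cApp (I.X i)
    haveI := HomologicalComplex.Hom.isIso_of_components (((Scheme.Modules.restrictFunctor W.ι).mapHomologicalComplex c).map q)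
    haveI : IsIso ((rD W.ι).map (DerivedCategory.Q.map q)) :=
      (NatIso.isIso_map_iff (Scheme.Modules.restrictFunctor W.ι).mapDerivedCategoryFactors q).2
        (Functor.map_isIso DerivedCategory.Q _)
    simp only [cW, Functor.map_comp]
    infer_instance
  let P := (CxOX.extZeroD W.ι).obj C₀
  let a : P ⟶ A' := cW A'
  let b : P ⟶ B' := (CxOX.extZeroD W.ι).map e₁.hom ≫ cW B'
  haveI : IsIso ((rD W.ι).map a) := hcW A'
  haveI : IsIso ((rD W.ι).map b) := by
    haveI := hcW B'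
    simp only [b, Functor.map_comp]
    infer_instance
  have hsupp : ∀ (O : X.Opens) [PreservesFiniteLimits (CxOX.extZero O.ι)] (E : DCoh.D (O : Scheme.{u})) (i : ℤ),
      CohB1.support (DCoh.HD ((CxOX.extZeroD O.ι).obj E) i) ⊆ (O : Set X) := fun O _ E i =>
    (H7SuppZero.support_HD_extZeroD O.ι E i).trans (by rintro _ ⟨y, -, rfl⟩; exact y.2)
  haveI hbU : IsIso ((rD U.ι).map b) := isIso_rD_map U W b (V : Set X) (fun x hx => ⟨hx.2, hx.1⟩)
    (fun i => (hsupp W C₀ i).trans (fun x hx => hx.2)) (hsupp V B)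
  haveI haV : IsIso ((rD V.ι).map a) := isIso_rD_map V W a (U : Set X) (fun x hx => hx)
    (fun i => (hsupp W C₀ i).trans (fun x hx => hx.1)) (hsupp U A)
  obtain ⟨F, g, δ, hT⟩ := distinguished_cocone_triangle (biprod.lift a b)
  refine ⟨F, ?_, ?_⟩
  · haveI : PreservesBinaryBiproducts (rD U.ι) := preservesBinaryBiproducts_of_preservesBiproducts _
    let m := (rD U.ι).mapBiprod A' B'
    have hT' : Triangle.mk (biprod.lift ((rD U.ι).map a) ((rD U.ι).map b)) (m.inv ≫ (rD U.ι).map g)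
        ((rD U.ι).map δ ≫ ((rD U.ι).commShiftIso (1 : ℤ)).hom.app P) ∈ distTriang _ := by
      refine isomorphic_distinguished _ ((rD U.ι).map_distinguished _ hT) _
        (Triangle.isoMk _ _ (Iso.refl _) m.symm (Iso.refl _) ?_ ?_ ?_)
      · exact (biprod.lift_mapBiprod (rD U.ι) _ _ a b).trans (Category.id_comp _).symm
      · exact Category.comp_id _
      · exact ((congrArg (_ ≫ ·) (CategoryTheory.Functor.map_id _ _)).trans (Category.comp_id _)).trans (Category.id_comp _).symm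
    exact ⟨(@asIso _ _ _ _ _ (isIso_inl_comp _ _ _ _ hT')).symm ≪≫ eA⟩
  · haveI : PreservesBinaryBiproducts (rD V.ι) := preservesBinaryBiproducts_of_preservesBiproducts _
    let m := (rD V.ι).mapBiprod A' B'
    let s := biprod.braiding ((rD V.ι).obj B') ((rD V.ι).obj A')
    have hT' : Triangle.mk (biprod.lift ((rD V.ι).map b) ((rD V.ι).map a)) (s.hom ≫ m.inv ≫ (rD V.ι).map g)
        ((rD V.ι).map δ ≫ ((rD V.ι).commShiftIso (1 : ℤ)).hom.app P) ∈ distTriang _ := by
      refine isomorphic_distinguished _ ((rD V.ι).map_distinguished _ hT) _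
        (Triangle.isoMk _ _ (Iso.refl _) (s ≪≫ m.symm) (Iso.refl _) ?_ ?_ ?_)
      · have e : biprod.lift ((rD V.ι).map b) ((rD V.ι).map a) ≫ s.hom =
            biprod.lift ((rD V.ι).map a) ((rD V.ι).map b) := by apply biprod.hom_ext <;> simp [s]
        exact ((Category.assoc _ _ _).symm.trans ((congrArg (· ≫ m.inv) e).trans
          (biprod.lift_mapBiprod (rD V.ι) _ _ a b))).trans (Category.id_comp _).symm
      · exact (Category.comp_id _).trans (Category.assoc _ _ _).symm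
      · exact ((congrArg (_ ≫ ·) (CategoryTheory.Functor.map_id _ _)).trans (Category.comp_id _)).trans (Category.id_comp _).symm
    exact ⟨(@asIso _ _ _ _ _ (isIso_inl_comp _ _ _ _ hT')).symm ≪≫ eB⟩

end Groth.Agent.H7Glue
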