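import Groth.Agent.Lib.H7Betti
import Mathlib

/-! Free local models of perfect objects. -/

universe u v w
open CategoryTheory Limits AlgebraicGeometry Opposite TopologicalSpace HomologicalComplex

namespace Groth.Agent.H7PerfFree
open Groth.Agent H7KFlatSheaf H7LpullCalc H7PerfPull H7FinFree H7Betti

attribute [local instance] HasDerivedCategory.standard

variable {X : Scheme.{u}}

/-- a local model with free terms, on arbitrary small opens -/
theorem exists_free_model {E : DCoh.D X} (hE : DCoh.IsPerfect E) (x : X) :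
    ∃ W₀ : X.Opens, x ∈ W₀ ∧ ∀ W ≤ W₀, ∀ F : CochainComplex X.Modules ℤ, Nonempty (DCoh.toD X F ≅ E) →
      ∃ (P : CochainComplex (W : Scheme.{u}).Modules ℤ) (a b : ℤ), DCoh.VanishesOutside P a b ∧
        (∀ k, IsFree (P.X k)) ∧
        Nonempty (DerivedCategory.Q.obj ((DCoh.restrictCx W).obj F) ≅ DerivedCategory.Q.obj P) := by
  obtain ⟨K, hK, -, ⟨eK⟩⟩ := exists_skf E
  obtain ⟨V, P, hxV, hP, ⟨eP⟩⟩ := exists_local_model hE eK x
  obtain ⟨a, b, hab⟩ := hP.1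
  choose O hO hfree using fun k : Finset.Icc a b => (isFinLocFree_iff (P.X k)).1 (hP.2 k) ⟨x, hxV⟩
  let O' : (V : Scheme.{u}).Opens := ⟨⋂ k, (O k : Set (V : Scheme.{u})), isOpen_iInter_of_finite fun k => (O k).2⟩
  refine ⟨V.ι ''ᵁ O', ⟨⟨x, hxV⟩, Set.mem_iInter.2 hO, rfl⟩, fun W hW F ⟨eF⟩ => ?_⟩
  have hWV : W ≤ V := fun z hz => by
    obtain ⟨z', -, rfl⟩ := hW hz
    exact z'.2
  let θ := X.homOfLE hWV
  have hab' : DCoh.VanishesOutside ((H7HasLpull.pullCx θ).obj P) a b := fun k hk =>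
    (Scheme.Modules.pullback θ).map_isZero (hab k hk)
  refine ⟨(H7HasLpull.pullCx θ).obj P, a, b, hab', fun k => ?_, ⟨restrictQIso W (eF ≪≫ eK.symm) ≪≫
    DerivedCategory.Q.mapIso (cxIso (Scheme.Modules.restrictFunctorIsoPullback W.ι) K ≪≫
      (pullCxComp θ V.ι W.ι (X.homOfLE_ι hWV) K).symm) ≪≫
    pullQIso θ (H7StalkPull.skf_pullback V.ι hK) (skf_of_strictlyPerfect hP) eP⟩⟩
  by_cases hk : k ∈ Finset.Icc a b
  · have hr : Set.range θ.base ⊆ Set.range (O ⟨k, hk⟩).ι.base := by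
      rintro _ ⟨z, rfl⟩
      obtain ⟨z', hz', e⟩ := hW z.2
      refine ⟨⟨z', Set.mem_iInter.1 hz' ⟨k, hk⟩⟩, ?_⟩
      apply Subtype.ext
      exact e.trans (congrArg (fun t : (W : Scheme.{u}) ⟶ X => t.base z) (X.homOfLE_ι hWV)).symm
    let h := IsOpenImmersion.lift (O ⟨k, hk⟩).ι θ hr
    have hh : h ≫ (O ⟨k, hk⟩).ι = θ := IsOpenImmersion.lift_fac _ _ hr
    exact ((hfree ⟨k, hk⟩).pullback h).of_iso ((Scheme.Modules.pullbackComp h (O ⟨k, hk⟩).ι).app (P.X k) ≪≫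
      eqToIso (by rw [hh]; rfl))
  · exact isFree_of_isZero (hab' k (by simp only [Finset.mem_Icc] at hk; omega))

end Groth.Agent.H7PerfFree
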