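import Groth.Agent.Lib.H7HomLoc
import Groth.Agent.Lib.H7PerfFree
import Groth.Agent.Lib.H7AffPseudo
import Mathlib

/-! Localisation of `Hom(F_V ⊗ E, L)` for locally free models. -/

universe u
open CategoryTheory Limits AlgebraicGeometry TopologicalSpace Opposite HomologicalComplex

namespace Groth.Agent.H7HomPerf
open Groth.Agent H7LocTri H7HomLoc H7FinFree

attribute [local instance] HasDerivedCategory.standard

variable {X : Scheme.{u}}

local notation "c" => ComplexShape.up ℤ

variable {W : X.Opens} (g : Γ(X, W)) (L : DCoh.D X)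

/-- the class under consideration -/
abbrev Cls (E : CochainComplex X.Modules ℤ) : Prop := LocAll (test (X.basicOpen_le g) g) (Φ E) L

lemma cls_iso {E E' : CochainComplex X.Modules ℤ} (e : E ≅ E') : Cls g L E ↔ Cls g L E' :=
  locAll_quasiIso _ g e.hom

lemma cls_of_isZero {E : CochainComplex X.Modules ℤ} (hE : IsZero E) : Cls g L E := fun j => by
  have hz : ∀ M : X.Modules, IsZero ((Φ E).obj M) := fun M =>
    Functor.map_isZero DerivedCategory.Q (Functor.map_isZero ((H7TensorFree.tl M).mapHomologicalComplex c) hE)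
  exact ⟨fun x _ => ⟨0, (hz _).eq_of_src _ _⟩, fun y => ⟨0, 0, (hz _).eq_of_src _ _⟩⟩

lemma cls_split (S : ShortComplex X.Modules) (s : S.Splitting) (k : ℤ)
    (h₁ : Cls g L ((single X.Modules c k).obj S.X₁)) (h₃ : Cls g L ((single X.Modules c k).obj S.X₃)) :
    Cls g L ((single X.Modules c k).obj S.X₂) :=
  locAll_ses _ g (S.map (single X.Modules c k))
    (fun i => ⟨(s.map (single X.Modules c k ⋙ HomologicalComplex.eval X.Modules c i))⟩) h₁ h₃

lemma cls_sigma (M : X.Modules) (k : ℤ) (hM : Cls g L ((single X.Modules c k).obj M)) :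
    ∀ n : ℕ, Cls g L ((single X.Modules c k).obj (∐ fun _ : Fin n => M))
  | 0 => cls_of_isZero g L ((single X.Modules c k).map_isZero
      ((IsZero.iff_id_eq_zero _).2 (Sigma.hom_ext _ _ fun i => i.elim0)))
  | n + 1 => by
    let ι' : ∀ i : Fin (n + 1), M ⟶ ∐ fun _ : Fin (n + 1) => M := Sigma.ι (fun _ : Fin (n + 1) => M)
    let ι₀ : ∀ i : Fin n, M ⟶ ∐ fun _ : Fin n => M := Sigma.ι (fun _ : Fin n => M)
    let S : ShortComplex X.Modules := ShortComplex.mk (X₁ := ∐ fun _ : Fin n => M)
      (X₂ := ∐ fun _ : Fin (n + 1) => M) (X₃ := M) (Sigma.desc fun i => ι' i.castSucc)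
      (Sigma.desc (Fin.lastCases (𝟙 M) (fun _ => 0))) (Sigma.hom_ext _ _ fun i => by simp [ι'])
    let s : S.Splitting :=
      { r := Sigma.desc (Fin.lastCases 0 ι₀)
        s := ι' (Fin.last n)
        f_r := Sigma.hom_ext _ _ fun i => by simp [S, ι', ι₀]
        s_g := by simp [S, ι']
        id := Sigma.hom_ext _ _ fun i => by
          induction i using Fin.lastCases with
          | last => simp [S, ι']
          | cast i => simp [S, ι', ι₀] }
    exact cls_split g L S s k (cls_sigma M k hM n) hM

lemma cls_bounded (a : ℤ) : ∀ (n : ℕ) (E : CochainComplex X.Modules ℤ),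
    (∀ k, k < a ∨ a + n ≤ k → IsZero (E.X k)) → (∀ k, Cls g L ((single X.Modules c k).obj (E.X k))) → Cls g L E
  | 0, E, hz, _ => cls_of_isZero g L ((IsZero.iff_id_eq_zero _).2 (HomologicalComplex.hom_ext _ _ fun k =>
      (hz k (by omega)).eq_of_src _ _))
  | n + 1, E, hz, ht => by
    let g' : E ⟶ (single X.Modules c a).obj (E.X a) := mkHomToSingle (𝟙 _) (fun i hi => by
      simp only [ComplexShape.up_Rel] at hi
      exact (hz i (by omega)).eq_of_src _ _)
    let T := H7StupidGE.trunc E (a + 1)
    have hw : H7StupidGE.ι E (a + 1) ≫ g' = 0 := to_single_hom_ext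
      ((H7StupidGE.isZero_below (show a < a + 1 by omega)).eq_of_src _ _)
    have hg : ∀ i, i = a → IsIso (g'.f i) := fun i hi => by
      subst hi
      simp only [g', mkHomToSingle_f]
      infer_instance
    let S := ShortComplex.mk (H7StupidGE.ι E (a + 1)) g' hw
    refine locAll_ses _ g S (fun i => ?_) ?_ (ht a)
    · by_cases hi : i = a
      · haveI : IsIso (S.map (HomologicalComplex.eval X.Modules c i)).g := hg i hi
        exact ⟨ShortComplex.Splitting.ofIsZeroOfIsIso _ (H7StupidGE.isZero_below (by omega)) this⟩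
      · haveI : IsIso (S.map (HomologicalComplex.eval X.Modules c i)).f := by
          show IsIso (H7StupidGE.incl E (a + 1) i)
          by_cases h1 : a + 1 ≤ i
          · exact H7StupidGE.incl_isIso h1
          · exact (H7StupidGE.isZero_below (by omega)).isIso (hz i (by omega)) _
        exact ⟨ShortComplex.Splitting.ofIsIsoOfIsZero _ this (HomologicalComplex.isZero_single_obj_X c a _ i hi)⟩
    · refine cls_bounded (a + 1) n T (fun k hk => ?_) (fun k => ?_)
      · rcases hk with hk | hk
        · exact H7StupidGE.isZero_below hk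
        · haveI : Mono (show T.X k ⟶ E.X k from H7StupidGE.incl E (a + 1) k) := H7StupidGE.mono_incl E (a + 1) k
          exact (hz k (by omega)).of_mono (show T.X k ⟶ E.X k from H7StupidGE.incl E (a + 1) k)
      · by_cases hk : a + 1 ≤ k
        · haveI := H7StupidGE.incl_isIso (K := E) hk
          exact (cls_iso g L ((single X.Modules c k).mapIso (asIso (H7StupidGE.incl E (a + 1) k)))).2 (ht k)
        · exact cls_of_isZero g L ((single X.Modules c k).map_isZero (H7StupidGE.isZero_below (by omega)))

variable {L} (hW : IsAffineOpen W) (hL : DCoh.IsQCohD L)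

include hW hL in
/-- free models -/
theorem cls_model {P : CochainComplex W.toScheme.Modules ℤ} {a b : ℤ} (hP : DCoh.VanishesOutside P a b)
    (hfree : ∀ k, IsFree (P.X k)) : Cls g L (((CxOX.extZero W.ι).mapHomologicalComplex c).obj P) := by
  obtain ⟨eO⟩ := H7AffPseudo.nonempty_restrict_structure W.ι
  refine cls_bounded g L a (b + 1 - a).toNat _ (fun k hk => (CxOX.extZero W.ι).map_isZero (hP k (by omega)))
    fun k => ?_
  obtain ⟨n, ⟨e⟩⟩ := hfree k
  haveI : PreservesColimitsOfSize.{0, 0} (CxOX.extZero W.ι) := (CxOX.extZeroAdj W.ι).leftAdjoint_preservesColimits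
  let e₁ : (CxOX.extZero W.ι).obj (P.X k) ≅ ∐ fun _ : Fin n => (H7MVExt.extR W).obj (Coh.structureModule X) :=
    (CxOX.extZero W.ι).mapIso (e ≪≫ Sigma.mapIso fun _ => eO.symm) ≪≫ PreservesCoproduct.iso _ _
  refine (cls_iso g L ((single X.Modules c k).mapIso e₁)).2 (cls_sigma g L _ k ?_ n)
  exact (cls_iso g L ((singleMapHomologicalComplex (H7MVExt.extR W) c k).app (Coh.structureModule X))).1
    ((locAll_extR _ g _).2 (locAll_base hW g hL k))

include hW hL in
/-- complexes with a free model on `W` -/
theorem cls_of_model {E : CochainComplex X.Modules ℤ} {P : CochainComplex W.toScheme.Modules ℤ} {a b : ℤ}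
    (hP : DCoh.VanishesOutside P a b) (hfree : ∀ k, IsFree (P.X k))
    (e : DerivedCategory.Q.obj ((DCoh.restrictCx W).obj E) ≅ DerivedCategory.Q.obj P) : Cls g L E := by
  obtain ⟨K, s, hs, φ, hφ⟩ := DerivedCategory.right_fac e.hom
  haveI : QuasiIso s := (DerivedCategory.isIso_Q_map_iff_quasiIso _ _).1 hs
  haveI : QuasiIso φ := by
    refine (DerivedCategory.isIso_Q_map_iff_quasiIso _ _).1 ?_
    have : DerivedCategory.Q.map φ = DerivedCategory.Q.map s ≫ e.hom := by rw [hφ, IsIso.hom_inv_id_assoc]
    rw [this]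
    infer_instance
  refine (locAll_extR _ g E).1 ?_
  have h1 := (locAll_quasiIso (L := L) (X.basicOpen_le g) g (((CxOX.extZero W.ι).mapHomologicalComplex c).map φ)).2
    (cls_model g hW hL hP hfree)
  exact (locAll_quasiIso (X.basicOpen_le g) g (((CxOX.extZero W.ι).mapHomologicalComplex c).map s)).1 h1

end Groth.Agent.H7HomPerf
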