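import Groth.Agent.Lib.H7PushWeak
import Groth.Agent.Lib.H7StalkDetect
import Mathlib

/-! Quasi-isomorphisms of complexes of O-modules, elementwise and locally. -/

universe u
open CategoryTheory Limits AlgebraicGeometry TopologicalSpace Opposite HomologicalComplex

namespace Groth.Agent.H7LocalQis
open Groth.Agent

variable {X : Scheme.{u}}

local notation "c" => ComplexShape.up ℤ

/-- restriction of sections -/
noncomputable abbrev rs (M : X.Modules) {U V : X.Opens} (h : V ≤ U) (s : Γ(M, U)) : Γ(M, V) :=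
  M.presheaf.map (homOfLE h).op s

lemma rs_app {M N : X.Modules} (φ : M ⟶ N) {U V : X.Opens} (h : V ≤ U) (s : Γ(M, U)) :
    φ.app V (rs M h s) = rs N h (φ.app U s) :=
  ConcreteCategory.congr_hom ((Scheme.Modules.Hom.mapPresheaf φ).naturality (homOfLE h).op) s

theorem quasiIsoAt_of_local {K L : CochainComplex X.Modules ℤ} (φ : K ⟶ L) (i : ℤ)
    (hs : ∀ (x : X) (U : X.Opens) (_ : x ∈ U) (y : Γ(L.X i, U)), (L.d i (i + 1)).app U y = 0 →
      ∃ (V : X.Opens) (_ : x ∈ V) (hV : V ≤ U) (z : Γ(K.X i, V)) (w : Γ(L.X (i - 1), V)),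
        (K.d i (i + 1)).app V z = 0 ∧ (φ.f i).app V z - rs _ hV y = (L.d (i - 1) i).app V w)
    (hi : ∀ (x : X) (U : X.Opens) (_ : x ∈ U) (z : Γ(K.X i, U)) (w : Γ(L.X (i - 1), U)),
      (K.d i (i + 1)).app U z = 0 → (φ.f i).app U z = (L.d (i - 1) i).app U w →
      ∃ (V : X.Opens) (_ : x ∈ V) (hV : V ≤ U) (v : Γ(K.X (i - 1), V)), (K.d (i - 1) i).app V v = rs _ hV z) :
    QuasiIsoAt φ i := by
  refine ((H7StalkDetect.jointly X).quasiIsoAt_iff φ i).2 fun x => ?_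
  let G := forget₂ (ModuleCat.{u} (X.presheaf.stalk x)) AddCommGrpCat.{u}
  refine (quasiIsoAt_map_iff_of_preservesHomology ((H7KFlatSheaf.stCx x).map φ) G i).1 ?_
  have germ_app : ∀ {M N : X.Modules} (f : M ⟶ N) (U : X.Opens) (hx : x ∈ U) (s : Γ(M, U)),
      ((DerSch.stalkFunctor X x).map f).hom (M.presheaf.germ U x hx s) = N.presheaf.germ U x hx (f.app U s) :=
    fun f U hx s => DerSch.stalkFunctor_map_germ x f U hx s
  have germ_rs : ∀ (M : X.Modules) {U V : X.Opens} (h : V ≤ U) (hx : x ∈ V) (s : Γ(M, U)),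
      M.presheaf.germ V x hx (rs M h s) = M.presheaf.germ U x (h hx) s :=
    fun M U V h hx s => TopCat.Presheaf.germ_res_apply M.presheaf (homOfLE h) x hx s
  have germ_zero : ∀ (M : X.Modules) (U : X.Opens) (hx : x ∈ U) (s : Γ(M, U)), M.presheaf.germ U x hx s = 0 →
      ∃ (V : X.Opens) (_ : x ∈ V) (h : V ≤ U), rs M h s = 0 := by
    intro M U hx s hs
    obtain ⟨V, hV, iU, iU', e⟩ := M.presheaf.germ_eq x hx hx s 0 (by rw [map_zero]; exact hs)
    exact ⟨V, hV, iU.le, e.trans (map_zero _)⟩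
  refine H7PushWeak.quasiIsoAt_of_elements _ i (i - 1) (i + 1) (by omega) rfl (fun y₀ hy => ?_)
    fun x₀ w₀ hx₀ hw => ?_
  · obtain ⟨U, hU, y, rfl⟩ := (L.X i).presheaf.exists_germ_eq (x := x) y₀
    obtain ⟨V₀, hV₀, h₀, e₀⟩ := germ_zero _ U hU _ ((germ_app (L.d i (i + 1)) U hU y).symm.trans hy)
    obtain ⟨V, hV, hle, z, w, hz, hw⟩ := hs x V₀ hV₀ (rs _ h₀ y) ((rs_app _ h₀ y).trans e₀)
    refine ⟨(K.X i).presheaf.germ V x hV z, (L.X (i - 1)).presheaf.germ V x hV w, ?_, ?_⟩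
    · exact (germ_app (K.d i (i + 1)) V hV z).trans ((congrArg _ hz).trans (map_zero _))
    · show ((DerSch.stalkFunctor X x).map (φ.f i)).hom _ - _ = ((DerSch.stalkFunctor X x).map (L.d (i - 1) i)).hom _
      refine Eq.trans ?_ (germ_app (L.d (i - 1) i) V hV w).symm
      rw [← hw, germ_app, map_sub, germ_rs, germ_rs]
      rfl
  · obtain ⟨U, hU, z, rfl⟩ := (K.X i).presheaf.exists_germ_eq (x := x) x₀
    obtain ⟨U', hU', w, rfl⟩ := (L.X (i - 1)).presheaf.exists_germ_eq (x := x) w₀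
    obtain ⟨V₀, hV₀, h₀, e₀⟩ := germ_zero _ U hU _ ((germ_app (K.d i (i + 1)) U hU z).symm.trans hx₀)
    have e₁ : (L.X i).presheaf.germ U x hU ((φ.f i).app U z) =
        (L.X i).presheaf.germ U' x hU' ((L.d (i - 1) i).app U' w) :=
      (germ_app (φ.f i) U hU z).symm.trans (hw.trans (germ_app (L.d (i - 1) i) U' hU' w))
    obtain ⟨V₁, hV₁, i₁, i₁', e₂⟩ := (L.X i).presheaf.germ_eq x hU hU' _ _ e₁
    let V₂ : X.Opens := V₀ ⊓ V₁
    have hV₂ : x ∈ V₂ := ⟨hV₀, hV₁⟩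
    obtain ⟨V, hV, hle, v, hv⟩ := hi x V₂ hV₂ (rs _ (inf_le_left.trans h₀) z) (rs _ (inf_le_right.trans i₁'.le) w)
      ((rs_app _ _ z).trans ((LQcoh.res_res (K.X (i + 1)) h₀ (inf_le_left : V₂ ≤ V₀) _).symm.trans
        ((congrArg _ e₀).trans (map_zero _))))
      ((rs_app _ _ z).trans ((LQcoh.res_res (L.X i) i₁.le (inf_le_right : V₂ ≤ V₁) _).symm.trans
        ((congrArg _ e₂).trans ((LQcoh.res_res (L.X i) i₁'.le (inf_le_right : V₂ ≤ V₁) _).trans
          (rs_app _ _ w).symm))))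
    refine ⟨(K.X (i - 1)).presheaf.germ V x hV v, ?_⟩
    refine (germ_app (K.d (i - 1) i) V hV v).trans ((congrArg _ hv).trans ?_)
    exact (germ_rs _ hle hV _).trans (germ_rs _ _ hV₂ z)

end Groth.Agent.H7LocalQis
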