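import Groth.Agent.Lib.H7HomLoc
import Groth.Agent.Lib.H7LocalQis
import Groth.Agent.Lib.H7TildeEquiv
import Groth.Agent.Lib.H7QCoh
import Mathlib

/-! A criterion for quasi-coherence of cohomology by localisation of derived sections. -/

universe u
open CategoryTheory Limits AlgebraicGeometry TopologicalSpace Opposite HomologicalComplex

namespace Groth.Agent.H7HomQCoh
open Groth.Agent

attribute [local instance] HasDerivedCategory.standard

local notation "c" => ComplexShape.up ℤ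

section spec
variable {R : CommRingCat.{u}}

/-- sections as `R`-modules -/
noncomputable abbrev P (M : (Spec R).Modules) (U : (Spec R).Opens) : ModuleCat.{u} R :=
  (modulesSpecToSheaf.obj M).presheaf.obj (op U)

/-- maps on sections -/
noncomputable abbrev am {M N : (Spec R).Modules} (φ : M ⟶ N) (U : (Spec R).Opens) : P M U →ₗ[R] P N U :=
  ((modulesSpecToSheaf.map φ).1.app (op U)).hom

/-- restriction -/
noncomputable abbrev rP (M : (Spec R).Modules) {U V : (Spec R).Opens} (h : V ≤ U) : P M U →ₗ[R] P M V :=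
  ((modulesSpecToSheaf.obj M).presheaf.map (homOfLE h).op).hom

lemma rP_am {M N : (Spec R).Modules} (φ : M ⟶ N) {U V : (Spec R).Opens} (h : V ≤ U) (s : P M U) :
    am φ V (rP M h s) = rP N h (am φ U s) :=
  ConcreteCategory.congr_hom ((modulesSpecToSheaf.map φ).1.naturality (homOfLE h).op) s

lemma smul_cancel (M : (Spec R).Modules) (f : R) (k : ℕ) {s : P M (PrimeSpectrum.basicOpen f)}
    (h : f ^ k • s = 0) : s = 0 := by
  have hu := (Scheme.Modules.isUnit_algebraMap_end_of_le_basicOpen (M := M) f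
    (le_refl (PrimeSpectrum.basicOpen f : (Spec R).Opens))).pow k
  rw [← map_pow] at hu
  exact ((Module.End.isUnit_iff _).1 hu).1 (h.trans (map_zero _).symm)

lemma smul_surj (M : (Spec R).Modules) (f : R) (k : ℕ) (s : P M (PrimeSpectrum.basicOpen f)) :
    ∃ t : P M (PrimeSpectrum.basicOpen f), f ^ k • t = s := by
  have hu := (Scheme.Modules.isUnit_algebraMap_end_of_le_basicOpen (M := M) f
    (le_refl (PrimeSpectrum.basicOpen f : (Spec R).Opens))).pow k
  rw [← map_pow] at hu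
  exact ((Module.End.isUnit_iff _).1 hu).2 s

variable [PreservesFiniteLimits (tilde.functor R)]

/-- cohomology of derived sections localises -/
structure Localises (J : CochainComplex (Spec R).Modules ℤ) (i : ℤ) : Prop where
  inj : ∀ (f : R) (z : P (J.X i) ⊤) (w : P (J.X (i - 1)) (PrimeSpectrum.basicOpen f)),
    am (J.d i (i + 1)) ⊤ z = 0 → rP _ le_top z = am (J.d (i - 1) i) _ w →
    ∃ (k : ℕ) (v : P (J.X (i - 1)) ⊤), am (J.d (i - 1) i) ⊤ v = f ^ k • z
  surj : ∀ (f : R) (y : P (J.X i) (PrimeSpectrum.basicOpen f)), am (J.d i (i + 1)) _ y = 0 →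
    ∃ (k : ℕ) (x : P (J.X i) ⊤) (w : P (J.X (i - 1)) (PrimeSpectrum.basicOpen f)),
      am (J.d i (i + 1)) ⊤ x = 0 ∧ rP _ le_top x - f ^ k • y = am (J.d (i - 1) i) _ w

theorem quasiIsoAt_counit {J : CochainComplex (Spec R).Modules ℤ} {i : ℤ} (hJ : Localises J i) :
    QuasiIsoAt (H7TildeEquiv.counitCx J) i := by
  let G := ((moduleSpecΓFunctor (R := R)).mapHomologicalComplex c).obj J
  let φ := H7TildeEquiv.counitCx J
  let T := ((tilde.functor R).mapHomologicalComplex c).obj G
  have hd : ∀ (i j : ℤ) (U : (Spec R).Opens) (m : G.X i),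
      am (T.d i j) U ((tilde.toOpen (G.X i) U).hom m) = (tilde.toOpen (G.X j) U).hom (am (J.d i j) ⊤ m) :=
    fun i j U m => ConcreteCategory.congr_hom (tilde.toOpen_map_app (G.d i j) U) m
  have hφ : ∀ (i : ℤ) (U : (Spec R).Opens) (m : G.X i),
      am (φ.f i) U ((tilde.toOpen (G.X i) U).hom m) = rP (J.X i) le_top m :=
    fun i U m => ConcreteCategory.congr_hom (Scheme.Modules.toOpen_fromTildeΓ_app (J.X i) U) m
  refine H7LocalQis.quasiIsoAt_of_local φ i (fun x U hx y hy => ?_) (fun x U hx z w hz hw => ?_)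
  · obtain ⟨_, ⟨f, rfl⟩, hxV, hVU⟩ := PrimeSpectrum.isTopologicalBasis_basic_opens.exists_subset_of_mem_open hx U.2
    let D : (Spec R).Opens := PrimeSpectrum.basicOpen f
    have hle : D ≤ U := hVU
    let y' : P (J.X i) D := rP (J.X i) hle (show P (J.X i) U from y)
    have hy' : am (J.d i (i + 1)) D y' = 0 :=
      (rP_am (J.d i (i + 1)) hle _).trans ((congrArg (rP _ hle) (show am (J.d i (i + 1)) U y = 0 from hy)).trans
        (map_zero _))
    obtain ⟨k, m, w, hm, hw⟩ := hJ.surj f y' hy'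
    obtain ⟨z, hz⟩ := smul_surj (T.X i) f k ((tilde.toOpen (G.X i) D).hom m)
    obtain ⟨w', hw'⟩ := smul_surj (J.X (i - 1)) f k w
    refine ⟨D, hxV, hle, z, w', ?_, ?_⟩
    · show am (T.d i (i + 1)) D z = 0
      refine smul_cancel _ f k ((map_smul (am (T.d i (i + 1)) D) _ z).symm.trans ?_)
      exact ((congrArg (am (T.d i (i + 1)) D) hz).trans (hd _ _ D m)).trans ((congrArg _ hm).trans (map_zero _))
    · show am (φ.f i) D z - y' = am (J.d (i - 1) i) D w'
      refine sub_eq_zero.1 (smul_cancel _ f k ?_)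
      rw [smul_sub, smul_sub, ← map_smul (am (φ.f i) D), ← map_smul (am (J.d (i - 1) i) D), hz, hw', hφ]
      exact sub_eq_zero.2 hw
  · obtain ⟨_, ⟨f, rfl⟩, hxV, hVU⟩ := PrimeSpectrum.isTopologicalBasis_basic_opens.exists_subset_of_mem_open hx U.2
    let D : (Spec R).Opens := PrimeSpectrum.basicOpen f
    have hle : D ≤ U := hVU
    let z' : P (T.X i) D := rP (T.X i) hle (show P (T.X i) U from z)
    let w' : P (J.X (i - 1)) D := rP (J.X (i - 1)) hle (show P (J.X (i - 1)) U from w)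
    have hz' : am (T.d i (i + 1)) D z' = 0 :=
      (rP_am (T.d i (i + 1)) hle _).trans ((congrArg (rP _ hle) (show am (T.d i (i + 1)) U z = 0 from hz)).trans
        (map_zero _))
    have hw' : am (φ.f i) D z' = am (J.d (i - 1) i) D w' :=
      (rP_am (φ.f i) hle _).trans ((congrArg (rP _ hle)
        (show am (φ.f i) U z = am (J.d (i - 1) i) U w from hw)).trans (rP_am (J.d (i - 1) i) hle _).symm)
    obtain ⟨⟨m, ⟨_, a, rfl⟩⟩, hm⟩ := IsLocalizedModule.surj (.powers f) (tilde.toOpen (G.X i) D).hom z'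
    change f ^ a • z' = _ at hm
    have h0 : (tilde.toOpen (G.X (i + 1)) D).hom (am (J.d i (i + 1)) ⊤ m) = 0 := by
      exact (hd _ _ D m).symm.trans ((congrArg (am (T.d i (i + 1)) D) hm).symm.trans
        ((map_smul _ _ _).trans ((congrArg (f ^ a • ·) hz').trans (smul_zero _))))
    obtain ⟨⟨_, b, rfl⟩, hb⟩ := (IsLocalizedModule.eq_zero_iff (.powers f) _).1 h0
    simp only [Submonoid.smul_def] at hb
    have hc : am (J.d i (i + 1)) ⊤ (f ^ b • (show P (J.X i) ⊤ from m)) = 0 := by rw [map_smul]; exact hb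
    obtain ⟨q, v, hv⟩ := hJ.inj f (f ^ b • (show P (J.X i) ⊤ from m)) (f ^ (b + a) • w') hc (by
      rw [map_smul, map_smul, ← hφ i D m, ← hm, map_smul, hw', smul_smul, ← pow_add])
    obtain ⟨v', hv'⟩ := smul_surj (T.X (i - 1)) f (q + (b + a)) ((tilde.toOpen (G.X (i - 1)) D).hom v)
    refine ⟨D, hxV, hle, v', ?_⟩
    show am (T.d (i - 1) i) D v' = z'
    refine sub_eq_zero.1 (smul_cancel _ f (q + (b + a)) ?_)
    rw [smul_sub, sub_eq_zero]
    refine (map_smul _ _ v').symm.trans ((congrArg (am (T.d (i - 1) i) D) hv').trans ((hd _ _ D v).trans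
      ((congrArg (tilde.toOpen (G.X i) D).hom hv).trans ((map_smul (tilde.toOpen (G.X i) D).hom _ _).trans
        ((congrArg (f ^ q • ·) ((map_smul (tilde.toOpen (G.X i) D).hom _ _).trans
          (congrArg (f ^ b • ·) hm.symm))).trans ?_)))))
    rw [smul_smul (f ^ q), ← pow_add]
    refine (smul_smul (f ^ (q + b)) (f ^ a) (z')).trans ?_
    rw [← pow_add, add_assoc]


theorem qcoh_of_localises {J : CochainComplex (Spec R).Modules ℤ} {i : ℤ} (hJ : Localises J i) :
    Coh.IsQCoh (DCoh.HD (DerivedCategory.Q.obj J) i) := by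
  haveI := quasiIsoAt_counit hJ
  refine H7AffineD.qcoh_of_iso ?_ (H7TildeEquiv.isQCohD_tildeD (DerivedCategory.Q.obj (((moduleSpecΓFunctor (R := R)).mapHomologicalComplex c).obj J)) i)
  exact (DerivedCategory.homologyFunctor _ i).mapIso (H7TildeEquiv.fac _) ≪≫
    (DerivedCategory.homologyFunctorFactors _ i).app _ ≪≫ isoOfQuasiIsoAt (H7TildeEquiv.counitCx J) i ≪≫
      ((DerivedCategory.homologyFunctorFactors _ i).app J).symm

end spec

section kinj
variable {C : Type*} [Category.{u} C] [Abelian C] [HasDerivedCategory C]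

/-- cycles as maps in the derived category -/
noncomputable def mk {I : CochainComplex C ℤ} {G : C} (n : ℤ) (φ : G ⟶ I.X n) (hφ : φ ≫ I.d n (n + 1) = 0) :
    DerivedCategory.Q.obj ((single C c n).obj G) ⟶ DerivedCategory.Q.obj I :=
  DerivedCategory.Q.map (mkHomFromSingle φ fun k hk => by obtain rfl : n + 1 = k := hk; exact hφ)

lemma mk_comp {I : CochainComplex C ℤ} {G G' : C} (n : ℤ) (φ : G ⟶ I.X n) (hφ : φ ≫ I.d n (n + 1) = 0)
    (h : G' ⟶ G) : DerivedCategory.Q.map ((single C c n).map h) ≫ mk n φ hφ =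
      mk n (h ≫ φ) (by rw [Category.assoc, hφ, comp_zero]) := by
  refine (DerivedCategory.Q.map_comp _ _).symm.trans (congrArg DerivedCategory.Q.map (from_single_hom_ext ?_))
  simp [single_map_f_self]

lemma mk_eq_zero_of {I : CochainComplex C ℤ} {G : C} (n : ℤ) (φ : G ⟶ I.X n) (hφ : φ ≫ I.d n (n + 1) = 0)
    (w : G ⟶ I.X (n - 1)) (hw : w ≫ I.d (n - 1) n = φ) : mk n φ hφ = 0 := by
  rw [mk, ← DerivedCategory.Q.map_zero]
  refine DerivedCategory.Q_map_eq_of_homotopy _
    { hom := fun k l => if h : k = n ∧ l = n - 1 then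
        eqToHom (by rw [h.1]) ≫ (singleObjXSelf c n G).hom ≫ w ≫ eqToHom (by rw [h.2]) else 0
      zero := fun k l hkl => dif_neg fun h => hkl (by show l + 1 = k; omega)
      comm := fun k => ?_ }
  by_cases hk : k = n
  · subst hk
    rw [dNext_eq _ (show (ComplexShape.up ℤ).Rel k (k + 1) from rfl),
      prevD_eq _ (show (ComplexShape.up ℤ).Rel (k - 1) k from sub_add_cancel k 1),
      single_obj_d, zero_comp, zero_add, dif_pos ⟨rfl, rfl⟩]
    simp [hw]
  · exact (isZero_single_obj_X _ _ _ _ hk).eq_of_src _ _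

variable [IsGrothendieckAbelian.{u} C] {I : CochainComplex C ℤ} (hI : I.IsKInjective)

include hI in
lemma exists_mk {G : C} (n : ℤ) (ψ : DerivedCategory.Q.obj ((single C c n).obj G) ⟶ DerivedCategory.Q.obj I) :
    ∃ (φ : G ⟶ I.X n) (hφ : φ ≫ I.d n (n + 1) = 0), mk n φ hφ = ψ := by
  obtain ⟨f, rfl⟩ := (H5KApps.resolving_Q (A := C) H5KApps.enoughKInj_of_grothendieck).surj _ I hI ψ
  refine ⟨(singleObjXSelf c n G).inv ≫ f.f n, by rw [Category.assoc, f.comm, single_obj_d, zero_comp, comp_zero],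
    congrArg DerivedCategory.Q.map (from_single_hom_ext (by simp))⟩

include hI in
lemma exists_of_mk_eq_zero {G : C} (n : ℤ) (φ : G ⟶ I.X n) (hφ : φ ≫ I.d n (n + 1) = 0) (h : mk n φ hφ = 0) :
    ∃ w : G ⟶ I.X (n - 1), w ≫ I.d (n - 1) n = φ := by
  rw [mk, ← DerivedCategory.Q.map_zero] at h
  let H := HomotopyCategory.homotopyOfEq _ _ (@H5KApps.homotopic_of_Q_map_eq _ _ _ _ _ _ hI _ _ h)
  refine ⟨(singleObjXSelf c n G).inv ≫ H.hom n (n - 1), ?_⟩
  have hc := H.comm n
  rw [dNext_eq _ (show (ComplexShape.up ℤ).Rel n (n + 1) from rfl),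
    prevD_eq _ (show (ComplexShape.up ℤ).Rel (n - 1) n from sub_add_cancel n 1),
    single_obj_d, zero_comp, zero_add, mkHomFromSingle_f] at hc
  simpa using (congrArg ((singleObjXSelf c n G).inv ≫ ·) hc).symm

end kinj

section scheme
open H7HomLoc H7FlatCover
variable {X : Scheme.{u}}

/-- `D_QCoh` from localisation of derived sections -/
theorem qcoh_of_loc (A : DCoh.D X) (i : ℤ) (h : ∀ x : X, ∃ W : X.Opens, x ∈ W ∧ IsAffineOpen W ∧
      ∀ g : Γ(X, W),
        H7LocTri.Loc (test (X.basicOpen_le g) g) (single X.Modules c i ⋙ DerivedCategory.Q) A) :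
    Coh.IsQCoh (DCoh.HD A i) := by
  obtain ⟨I, hI, ⟨eI⟩⟩ := H5KApps.exists_kInj_iso H5KApps.enoughKInj_of_grothendieck A
  refine H7QCoh.isQCoh_of_local _ fun x => ?_
  obtain ⟨W, hxW, hW, hloc⟩ := h x
  haveI := IsAffineOpen.isOpenImmersion_fromSpec hW
  refine ⟨Γ(X, W), hW.fromSpec, inferInstance, hW.range_fromSpec ▸ hxW, ?_⟩
  haveI : PreservesFiniteLimits (tilde.functor Γ(X, W)) := LQcoh.preservesFiniteLimits_tilde _
  suffices hJ : Localises (((Scheme.Modules.restrictFunctor hW.fromSpec).mapHomologicalComplex c).obj I) i from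
    H7AffineD.qcoh_of_iso ((DerivedCategory.homologyFunctor _ i).mapIso
      (((Scheme.Modules.restrictFunctor hW.fromSpec).mapDerivedCategoryFactors.app I).symm ≪≫
        (H7PerfTri.rD hW.fromSpec).mapIso eI) ≪≫ H7QCoh.hdRestrict hW.fromSpec A i) (qcoh_of_localises hJ)
  have hl : ∀ (g : Γ(X, W)), H7LocTri.Loc (test (X.basicOpen_le g) g)
      (single X.Modules c i ⋙ DerivedCategory.Q) (DerivedCategory.Q.obj I) := fun g =>
    H7LocTri.loc_iso_right eI.symm (hloc g)
  have hT : hW.fromSpec ''ᵁ ⊤ = W := hW.fromSpec.image_top_eq_opensRange.trans hW.opensRange_fromSpec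
  have hD : ∀ g : Γ(X, W), hW.fromSpec ''ᵁ PrimeSpectrum.basicOpen g = X.basicOpen g :=
    hW.fromSpec_image_basicOpen
  refine ⟨fun g z w hz hw => ?_, fun g y hy => ?_⟩
  · let zW : Γ(I.X i, W) := LQcoh.res (I.X i) hT.ge z
    let wD : Γ(I.X (i - 1), X.basicOpen g) := LQcoh.res (I.X (i - 1)) (hD g).ge w
    let φ : freeU W ⟶ I.X i := (secEquiv W _).symm zW
    have hφ : φ ≫ I.d i (i + 1) = 0 := by
      refine (secEquiv W _).injective ((secEquiv_comp _ _ _).trans (Eq.trans ?_ (secEquiv_eq _ _).symm))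
      rw [Equiv.apply_symm_apply]
      refine (H7LocalQis.rs_app (I.d i (i + 1)) hT.ge z).trans ?_
      exact (congrArg (LQcoh.res _ hT.ge) hz).trans (map_zero _)
    obtain ⟨k, hk⟩ := (hl g).inj (mk i φ hφ) (by
      refine (mk_comp _ _ _ _).trans (mk_eq_zero_of _ _ _ ((secEquiv _ _).symm wD) ?_)
      refine (secEquiv _ _).injective ((secEquiv_comp _ _ _).trans ?_)
      rw [Equiv.apply_symm_apply, comp_a, Equiv.apply_symm_apply]
      refine (H7LocalQis.rs_app (I.d (i - 1) i) (hD g).ge w).trans ?_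
      refine (congrArg (LQcoh.res _ (hD g).ge) hw.symm).trans ?_
      exact (LQcoh.res_res (I.X i) (Scheme.Hom.image_mono hW.fromSpec le_top) (hD g).ge z).trans
        (LQcoh.res_res (I.X i) hT.ge (X.basicOpen_le g) z).symm)
    obtain ⟨v, hv⟩ := exists_of_mk_eq_zero hI i _ _ ((mk_comp _ _ _ _).symm.trans hk)
    have hv' := congrArg (secEquiv W _) hv
    rw [secEquiv_comp, comp_e, Equiv.apply_symm_apply] at hv'
    refine ⟨k, LQcoh.res (I.X (i - 1)) hT.le (secEquiv W _ v), ?_⟩
    refine (H7LocalQis.rs_app (I.d (i - 1) i) hT.le (secEquiv W _ v)).trans ?_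
    refine (congrArg (LQcoh.res _ hT.le) hv').trans ?_
    refine (LQcoh.res_smul (I.X i) hT.le _ _).trans ?_
    refine Eq.trans ?_ (LQcoh.smul_restrict hW (I.X i) ⊤ (g ^ k) z).symm
    exact congrArg (LQcoh.resO (LQcoh.image_le hW ⊤) (g ^ k) • ·)
      ((LQcoh.res_res (I.X i) hT.ge hT.le z).trans (LCech.rs_self (I.X i).presheaf _ _))
  · let yD : Γ(I.X i, X.basicOpen g) := LQcoh.res (I.X i) (hD g).ge y
    let φ : freeU (X.basicOpen g) ⟶ I.X i := (secEquiv _ _).symm yD
    have hφ : φ ≫ I.d i (i + 1) = 0 := by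
      refine (secEquiv _ _).injective ((secEquiv_comp _ _ _).trans (Eq.trans ?_ (secEquiv_eq _ _).symm))
      rw [Equiv.apply_symm_apply]
      refine (H7LocalQis.rs_app (I.d i (i + 1)) (hD g).ge y).trans ?_
      exact (congrArg (LQcoh.res _ (hD g).ge) hy).trans (map_zero _)
    obtain ⟨k, ψ, hψ⟩ := (hl g).surj (mk i φ hφ)
    obtain ⟨x', hx', rfl⟩ := exists_mk hI i ψ
    have h2 : mk i ((test (X.basicOpen_le g) g).a ≫ x' - (test (X.basicOpen_le g) g).e' k ≫ φ)
        (by rw [Preadditive.sub_comp, Category.assoc, Category.assoc, hx', hφ, comp_zero, comp_zero, sub_zero]) =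
        0 := by
      have h3 := ((mk_comp _ _ hφ ((test (X.basicOpen_le g) g).e' k)).symm.trans (hψ.trans (mk_comp _ _ hx' _)))
      rw [← sub_self (mk i ((test (X.basicOpen_le g) g).a ≫ x') (by rw [Category.assoc, hx', comp_zero]))]
      nth_rewrite 2 [← h3]
      refine Eq.trans (congrArg DerivedCategory.Q.map (from_single_hom_ext ?_)) (DerivedCategory.Q.map_sub)
      simp
    obtain ⟨w', hw'⟩ := exists_of_mk_eq_zero hI i _ _ h2
    have hw'' := congrArg (secEquiv (X.basicOpen g) _) hw'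
    have hsub : ∀ (M : X.Modules) (a b : freeU (X.basicOpen g) ⟶ M),
        secEquiv _ M (a - b) = secEquiv _ M a - secEquiv _ M b := fun M a b => by
      rw [secEquiv_eq, secEquiv_eq, secEquiv_eq]; rfl
    rw [secEquiv_comp, hsub, comp_a, comp_e', Equiv.apply_symm_apply] at hw''
    refine ⟨k, LQcoh.res (I.X i) hT.le (secEquiv W _ x'), LQcoh.res (I.X (i - 1)) (hD g).le (secEquiv _ _ w'), ?_, ?_⟩
    · refine (H7LocalQis.rs_app (I.d i (i + 1)) hT.le _).trans ?_
      rw [← secEquiv_comp, hx', secEquiv_eq W (0 : freeU W ⟶ _)]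
      exact map_zero _
    · refine Eq.trans ?_ (H7LocalQis.rs_app (I.d (i - 1) i) (hD g).le _).symm
      refine Eq.trans ?_ (congrArg (LQcoh.res (I.X i) (hD g).le) hw'').symm
      refine Eq.trans ?_ (map_sub _ _ _).symm
      refine congrArg₂ (· - ·) ((LQcoh.res_res (I.X i) hT.le _ _).trans
        (LQcoh.res_res (I.X i) (X.basicOpen_le g) (hD g).le _).symm) ?_
      refine (LQcoh.smul_restrict hW (I.X i) (PrimeSpectrum.basicOpen g) (g ^ k) y).trans ?_
      refine Eq.trans ?_ (LQcoh.res_smul (I.X i) (hD g).le _ _).symm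
      rw [LQcoh.resO_resO]
      exact congrArg (LQcoh.resO (LQcoh.image_le hW _) (g ^ k) • ·)
        ((LQcoh.res_res (I.X i) (hD g).ge (hD g).le y).trans (LCech.rs_self (I.X i).presheaf _ _)).symm

/-- `D_QCoh` from localisation of derived sections in all degrees -/
theorem isQCohD_of_loc (A : DCoh.D X) (h : ∀ (x : X) (n : ℤ), ∃ W : X.Opens, x ∈ W ∧ IsAffineOpen W ∧
      ∀ g : Γ(X, W),
        H7LocTri.Loc (test (X.basicOpen_le g) g) (single X.Modules c n ⋙ DerivedCategory.Q) A) :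
    DCoh.IsQCohD A := fun i => qcoh_of_loc A i fun x => h x i

end scheme

end Groth.Agent.H7HomQCoh
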