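import Groth.Agent.Lib.H7FlatCover
import Groth.Agent.Lib.H7KFlatSheaf
import Mathlib

/-! Functorial K-flat resolutions of complexes of O-modules by killing homology with flat covers. -/

universe u v
namespace Groth.Agent.H7KFlatRes
open CategoryTheory Limits HomologicalComplex
section Elements

variable {R : Type v} [Ring R]

theorem quasiIsoAt_of_elements {K L : CochainComplex (ModuleCat.{v} R) ℤ} (f : K ⟶ L) (i j k : ℤ)
    (hji : j + 1 = i) (hik : i + 1 = k)
    (hs : ∀ y : L.X i, (L.d i k).hom y = 0 → ∃ (x : K.X i) (w : L.X j),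
      (K.d i k).hom x = 0 ∧ (f.f i).hom x - y = (L.d j i).hom w)
    (hi : ∀ (x : K.X i) (w : L.X j), (K.d i k).hom x = 0 → (f.f i).hom x = (L.d j i).hom w →
      ∃ v : K.X j, (K.d j i).hom v = x) :
    QuasiIsoAt f i := by
  have hnext : (ComplexShape.up ℤ).next i = k := CochainComplex.next ℤ i ▸ hik
  have hprev : (ComplexShape.up ℤ).prev i = j := by simp only [CochainComplex.prev]; omega
  rw [quasiIsoAt_iff_isIso_homologyMap, ConcreteCategory.isIso_iff_bijective]
  have hπ : ∀ {M : CochainComplex (ModuleCat.{v} R) ℤ}, Function.Surjective (M.homologyπ i).hom :=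
    fun {M} => (ModuleCat.epi_iff_surjective _).1 inferInstance
  have hinj : ∀ {M : CochainComplex (ModuleCat.{v} R) ℤ}, Function.Injective (M.iCycles i).hom :=
    fun {M} => (ModuleCat.mono_iff_injective _).1 inferInstance
  have hlift : ∀ {M : CochainComplex (ModuleCat.{v} R) ℤ} (x : M.X i), (M.d i k).hom x = 0 →
      ∃ z : M.cycles i, (M.iCycles i).hom z = x := fun {M} x hx => by
    let ψ : ModuleCat.of R R ⟶ M.X i := ModuleCat.ofHom (LinearMap.toSpanSingleton R _ x)
    have hψ : ψ ≫ M.d i k = 0 := by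
      ext; simp [ψ, hx]
    refine ⟨(M.liftCycles ψ k hnext hψ).hom 1, ?_⟩
    have := LinearMap.congr_fun (congrArg ModuleCat.Hom.hom (M.liftCycles_i ψ k hnext hψ)) (1 : R)
    exact this.trans (one_smul R x)
  have hcyc : ∀ {M : CochainComplex (ModuleCat.{v} R) ℤ} (z : M.cycles i), (M.d i k).hom ((M.iCycles i).hom z) = 0 :=
    fun {M} z => LinearMap.congr_fun (congrArg ModuleCat.Hom.hom (M.iCycles_d i k)) z
  have hbd : ∀ {M : CochainComplex (ModuleCat.{v} R) ℤ} (w : M.X j),
      (M.iCycles i).hom ((M.toCycles j i).hom w) = (M.d j i).hom w :=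
    fun {M} w => LinearMap.congr_fun (congrArg ModuleCat.Hom.hom (M.toCycles_i j i)) w
  have hker : ∀ {M : CochainComplex (ModuleCat.{v} R) ℤ} (w : M.X j),
      (M.homologyπ i).hom ((M.toCycles j i).hom w) = 0 :=
    fun {M} w => LinearMap.congr_fun (congrArg ModuleCat.Hom.hom (M.toCycles_comp_homologyπ j i)) w
  have hnat : ∀ z : K.cycles i, (homologyMap f i).hom ((K.homologyπ i).hom z) =
      (L.homologyπ i).hom ((cyclesMap f i).hom z) :=
    fun z => LinearMap.congr_fun (congrArg ModuleCat.Hom.hom (homologyπ_naturality f i)) z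
  have hci : ∀ z : K.cycles i, (L.iCycles i).hom ((cyclesMap f i).hom z) = (f.f i).hom ((K.iCycles i).hom z) :=
    fun z => LinearMap.congr_fun (congrArg ModuleCat.Hom.hom (cyclesMap_i f i)) z
  refine ⟨(injective_iff_map_eq_zero (homologyMap f i).hom).2 fun a ha => ?_, fun b => ?_⟩
  · obtain ⟨z, rfl⟩ := hπ a
    rw [hnat] at ha
    obtain ⟨w, hw⟩ := (ShortComplex.moduleCat_exact_iff _).1
      (ShortComplex.exact_of_g_is_cokernel (ShortComplex.mk _ _ (L.toCycles_comp_homologyπ j i))
        (L.homologyIsCokernel j i hprev)) _ ha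
    obtain ⟨v, hv⟩ := hi _ w (hcyc z) (by rw [← hci, ← hbd, ← hw])
    rw [show z = (K.toCycles j i).hom v from hinj (by rw [hbd, hv])]
    exact hker v
  · obtain ⟨z, rfl⟩ := hπ b
    obtain ⟨x, w, hx, hw⟩ := hs _ (hcyc z)
    obtain ⟨z', hz'⟩ := hlift x hx
    refine ⟨(K.homologyπ i).hom z', ?_⟩
    have h1 : (cyclesMap f i).hom z' - z = (L.toCycles j i).hom w := hinj (by
      rw [map_sub, hci, hz', hw, hbd])
    have h2 := congrArg (L.homologyπ i).hom h1
    rw [map_sub, hker, sub_eq_zero, ← hnat] at h2
    exact h2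

end Elements

open AlgebraicGeometry CochainComplex.HomComplex

variable {X : Scheme.{u}}

local notation "Cx" => CochainComplex X.Modules ℤ

section Pair

variable {K L : CochainComplex X.Modules ℤ} (f : K ⟶ L)

/-- the map whose kernel consists of the pairs `(z, w)` with `dz = 0` and `f z = d w` -/
noncomputable def phi (n : ℤ) : K.X n ⊞ L.X (n - 1) ⟶ K.X (n + 1) ⊞ L.X n :=
  biprod.desc (biprod.lift (K.d n (n + 1)) (f.f n)) (biprod.lift 0 (-(L.d (n - 1) n)))

noncomputable abbrev pairs (n : ℤ) : X.Modules := kernel (phi f n)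

lemma pairs_fst_d (n : ℤ) : (kernel.ι (phi f n) ≫ biprod.fst) ≫ K.d n (n + 1) = 0 := by
  have h := kernel.condition (phi f n)
  have e : phi f n ≫ biprod.fst = biprod.fst ≫ K.d n (n + 1) := by
    refine biprod.hom_ext' _ _ ?_ ?_ <;> simp [phi]
  rw [Category.assoc, ← e, reassoc_of% h, zero_comp]

lemma pairs_eq (n : ℤ) :
    (kernel.ι (phi f n) ≫ biprod.fst) ≫ f.f n = (kernel.ι (phi f n) ≫ biprod.snd) ≫ L.d (n - 1) n := by
  have h := kernel.condition (phi f n)
  have e : phi f n ≫ biprod.snd = biprod.fst ≫ f.f n - biprod.snd ≫ L.d (n - 1) n := by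
    refine biprod.hom_ext' _ _ ?_ ?_ <;> simp [phi]
  have h' : kernel.ι (phi f n) ≫ (phi f n ≫ biprod.snd) = 0 := by rw [reassoc_of% h, zero_comp]
  rw [e, Preadditive.comp_sub, sub_eq_zero] at h'
  simpa only [Category.assoc] using h'

/-- the flat complex with zero differential covering the pairs -/
noncomputable def killS : CochainComplex X.Modules ℤ where
  X n := H7FlatCover.cov.obj (pairs f n)
  d _ _ := 0
  shape _ _ _ := rfl
  d_comp_d' _ _ _ _ _ := comp_zero

/-- the covering of the pairs -/
noncomputable def killπ (n : ℤ) : (killS f).X n ⟶ pairs f n := H7FlatCover.covπ.app (pairs f n)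

noncomputable def killG : killS f ⟶ K where
  f n := killπ f n ≫ kernel.ι (phi f n) ≫ biprod.fst
  comm' i j hij := by
    obtain rfl : i + 1 = j := hij
    rw [Category.assoc, pairs_fst_d f i, comp_zero]
    exact zero_comp.symm

noncomputable def killα : Cochain (killS f) L (-1) :=
  Cochain.mk fun p q hpq => killπ f p ≫ kernel.ι (phi f p) ≫ biprod.snd ≫
    eqToHom (by rw [show p - 1 = q by omega])

lemma killα_v (p : ℤ) : (killα f).v p (p - 1) (by omega) =
    killπ f p ≫ kernel.ι (phi f p) ≫ biprod.snd := by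
  simp only [killα, Cochain.mk_v]
  simp

lemma kill_eq : δ (-1) 0 (killα f) = Cochain.ofHom (killG f ≫ f) := by
  refine Cochain.ext₀ _ _ fun p => ?_
  rw [δ_v (-1) 0 (by omega) (killα f) p p (add_zero p) (p - 1) (p + 1) rfl rfl, Cochain.ofHom_v, killα_v,
    show (killS f).d p (p + 1) = 0 from rfl, zero_comp, smul_zero, add_zero, HomologicalComplex.comp_f]
  show _ = (killπ f p ≫ kernel.ι (phi f p) ≫ biprod.fst) ≫ f.f p
  simp only [Category.assoc]
  rw [← Category.assoc (kernel.ι (phi f p)) biprod.fst, pairs_eq]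
  simp

/-- the enlarged complex -/
noncomputable abbrev killK : CochainComplex X.Modules ℤ := CochainComplex.mappingCone (killG f)

/-- its map to the target -/
noncomputable def killF : killK f ⟶ L := CochainComplex.mappingCone.desc (killG f) (killα f) f (kill_eq f)

lemma inr_killF : CochainComplex.mappingCone.inr (killG f) ≫ killF f = f := by simp [killF]

variable {K' L' : CochainComplex X.Modules ℤ} (f' : K' ⟶ L') (a : K ⟶ K') (φ : L ⟶ L')
  (w : a ≫ f' = f ≫ φ)

include w in
lemma phi_comm (n : ℤ) : phi f n ≫ biprod.map (a.f (n + 1)) (φ.f n) =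
    biprod.map (a.f n) (φ.f (n - 1)) ≫ phi f' n := by
  have w' : a.f n ≫ f'.f n = f.f n ≫ φ.f n := by
    rw [← HomologicalComplex.comp_f, w, HomologicalComplex.comp_f]
  refine biprod.hom_ext' _ _ (biprod.hom_ext _ _ ?_ ?_) (biprod.hom_ext _ _ ?_ ?_) <;> simp [phi, w']

noncomputable def killSMap : killS f ⟶ killS f' where
  f n := H7FlatCover.cov.map (kernel.map (phi f n) (phi f' n) (biprod.map (a.f n) (φ.f (n - 1)))
    (biprod.map (a.f (n + 1)) (φ.f n)) (phi_comm f f' a φ w n))
  comm' i j _ := by
    show _ ≫ (0 : (killS f').X i ⟶ (killS f').X j) = (0 : (killS f).X i ⟶ (killS f).X j) ≫ _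
    exact comp_zero.trans zero_comp.symm

lemma killπ_nat (n : ℤ) : (killSMap f f' a φ w).f n ≫ killπ f' n =
    killπ f n ≫ kernel.map (phi f n) (phi f' n) (biprod.map (a.f n) (φ.f (n - 1)))
      (biprod.map (a.f (n + 1)) (φ.f n)) (phi_comm f f' a φ w n) :=
  H7FlatCover.covπ.naturality _

lemma killG_comm : killG f ≫ a = killSMap f f' a φ w ≫ killG f' := by
  refine HomologicalComplex.hom_ext _ _ (fun n => ?_)
  simp [killG, reassoc_of% killπ_nat f f' a φ w]

lemma killα_comm (p q : ℤ) (h : p + (-1) = q) :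
    (killα f).v p q h ≫ φ.f q = (killSMap f f' a φ w).f p ≫ (killα f').v p q h := by
  obtain rfl : q = p - 1 := by omega
  rw [killα_v, killα_v]
  simp [reassoc_of% killπ_nat f f' a φ w]

noncomputable def killMap : killK f ⟶ killK f' :=
  CochainComplex.mappingCone.map (killG f) (killG f') (killSMap f f' a φ w) a (killG_comm f f' a φ w)

lemma killMap_comm : killMap f f' a φ w ≫ killF f' = killF f ≫ φ := by
  refine HomologicalComplex.hom_ext _ _ fun n => (CochainComplex.mappingCone.ext_from_iff _ (n + 1) n rfl _ _).2 ⟨?_, ?_⟩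
  · simp [killMap, killF, CochainComplex.mappingCone.map, killα_comm f f' a φ w]
  · simp [killMap, killF, CochainComplex.mappingCone.map]
    exact congrArg (fun t => HomologicalComplex.Hom.f t n) w

lemma inr_killMap : CochainComplex.mappingCone.inr (killG f) ≫ killMap f f' a φ w =
    a ≫ CochainComplex.mappingCone.inr (killG f') := by
  simp [killMap, CochainComplex.mappingCone.map]

end Pair

section Init

variable (L : CochainComplex X.Modules ℤ)

/-- flat covers of the terms, shifted, with zero differential -/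
noncomputable def termS : CochainComplex X.Modules ℤ where
  X n := H7FlatCover.cov.obj (L.X (n - 1))
  d _ _ := 0
  shape _ _ _ := rfl
  d_comp_d' _ _ _ _ _ := comp_zero

/-- flat covers of the cycles with zero differential -/
noncomputable def cycS : CochainComplex X.Modules ℤ where
  X n := H7FlatCover.cov.obj (kernel (L.d n (n + 1)))
  d _ _ := 0
  shape _ _ _ := rfl
  d_comp_d' _ _ _ _ _ := comp_zero

noncomputable def termπ (n : ℤ) : (termS L).X n ⟶ L.X (n - 1) := H7FlatCover.covπ.app (L.X (n - 1))

noncomputable def cycπ (n : ℤ) : (cycS L).X n ⟶ kernel (L.d n (n + 1)) :=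
  H7FlatCover.covπ.app (kernel (L.d n (n + 1)))

noncomputable def cycMap : cycS L ⟶ L where
  f n := cycπ L n ≫ kernel.ι (L.d n (n + 1))
  comm' i j hij := by
    obtain rfl : i + 1 = j := hij
    rw [Category.assoc, kernel.condition, comp_zero]
    exact zero_comp.symm

noncomputable def termα : Cochain (termS L) L (-1) :=
  Cochain.mk fun p q hpq => termπ L p ≫ eqToHom (by rw [show p - 1 = q by omega])

lemma termα_v (p : ℤ) : (termα L).v p (p - 1) (by omega) = termπ L p := by
  simp only [termα, Cochain.mk_v]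
  simp

noncomputable def termβ : termS L ⟶ L where
  f n := termπ L n ≫ L.d (n - 1) n
  comm' i j _ := by
    rw [Category.assoc, L.d_comp_d, comp_zero]
    exact zero_comp.symm

lemma term_eq : δ (-1) 0 (termα L) = Cochain.ofHom (𝟙 (termS L) ≫ termβ L) := by
  refine Cochain.ext₀ _ _ fun p => ?_
  rw [δ_v (-1) 0 (by omega) (termα L) p p (add_zero p) (p - 1) (p + 1) rfl rfl, Cochain.ofHom_v, termα_v,
    show (termS L).d p (p + 1) = 0 from rfl, zero_comp, smul_zero, add_zero, Category.id_comp]
  rfl

/-- a contractible complex with flat terms mapping epimorphically to `L` -/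
noncomputable abbrev diskK : CochainComplex X.Modules ℤ := CochainComplex.mappingCone (𝟙 (termS L))

noncomputable def diskMap : diskK L ⟶ L :=
  CochainComplex.mappingCone.desc (𝟙 (termS L)) (termα L) (termβ L) (term_eq L)

variable {L} in
/-- the first stage -/
noncomputable abbrev initK (K : CochainComplex X.Modules ℤ) (L : CochainComplex X.Modules ℤ) :
    CochainComplex X.Modules ℤ := (K ⊞ cycS L) ⊞ diskK L

noncomputable def initF {K L : CochainComplex X.Modules ℤ} (f : K ⟶ L) : initK K L ⟶ L :=
  biprod.desc (biprod.desc f (cycMap L)) (diskMap L)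

variable {L} {L' : CochainComplex X.Modules ℤ} (φ : L ⟶ L')

noncomputable def termSMap : termS L ⟶ termS L' where
  f n := H7FlatCover.cov.map (φ.f (n - 1))
  comm' i j _ := comp_zero.trans zero_comp.symm

noncomputable def cycSMap : cycS L ⟶ cycS L' where
  f n := H7FlatCover.cov.map (kernel.map (L.d n (n + 1)) (L'.d n (n + 1)) (φ.f n) (φ.f (n + 1))
    (φ.comm n (n + 1)).symm)
  comm' i j _ := comp_zero.trans zero_comp.symm

lemma termπ_nat (n : ℤ) : (termSMap φ).f n ≫ termπ L' n = termπ L n ≫ φ.f (n - 1) :=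
  H7FlatCover.covπ.naturality _

lemma cycπ_nat (n : ℤ) : (cycSMap φ).f n ≫ cycπ L' n = cycπ L n ≫
    kernel.map (L.d n (n + 1)) (L'.d n (n + 1)) (φ.f n) (φ.f (n + 1)) (φ.comm n (n + 1)).symm :=
  H7FlatCover.covπ.naturality _

lemma cycMap_nat : cycSMap φ ≫ cycMap L' = cycMap L ≫ φ :=
  HomologicalComplex.hom_ext _ _ fun n => by simp [cycMap, reassoc_of% cycπ_nat φ]

noncomputable def diskNat : diskK L ⟶ diskK L' :=
  CochainComplex.mappingCone.map (𝟙 _) (𝟙 _) (termSMap φ) (termSMap φ)
    ((Category.id_comp _).trans (Category.comp_id _).symm)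

lemma diskMap_nat : diskNat φ ≫ diskMap L' = diskMap L ≫ φ := by
  refine HomologicalComplex.hom_ext _ _ fun n => (CochainComplex.mappingCone.ext_from_iff _ (n + 1) n rfl _ _).2 ⟨?_, ?_⟩
  · have key : ∀ (p q : ℤ) (h : p + (-1) = q), (termSMap φ).f p ≫ (termα L').v p q h = (termα L).v p q h ≫ φ.f q := by
      intro p q h
      obtain rfl : q = p - 1 := by omega
      rw [termα_v, termα_v]
      exact termπ_nat φ p
    simp only [diskNat, diskMap, CochainComplex.mappingCone.map, HomologicalComplex.comp_f,
      CochainComplex.mappingCone.inl_v_desc_f_assoc, CochainComplex.mappingCone.inl_v_desc_f,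
      Category.assoc]
    simp [key]
  · simp only [diskNat, diskMap, CochainComplex.mappingCone.map, HomologicalComplex.comp_f,
      CochainComplex.mappingCone.inr_f_desc_f_assoc, CochainComplex.mappingCone.inr_f_desc_f,
      Category.assoc, termβ]
    rw [reassoc_of% termπ_nat φ, φ.comm]

end Init

section Chain

variable {K L : CochainComplex X.Modules ℤ} (f : K ⟶ L)

/-- the stages of the construction, as complexes over `L` -/
noncomputable def stage : ℕ → Over L
  | 0 => Over.mk (initF f)
  | n + 1 => Over.mk (killF (stage n).hom)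

noncomputable def step (n : ℕ) : (stage f n).left ⟶ (stage f (n + 1)).left :=
  CochainComplex.mappingCone.inr (killG (stage f n).hom)

lemma step_hom (n : ℕ) : step f n ≫ (stage f (n + 1)).hom = (stage f n).hom := inr_killF _

noncomputable abbrev chain : ℕ ⥤ CochainComplex X.Modules ℤ := Functor.ofSequence (step f)

noncomputable def chainHom : chain f ⟶ (Functor.const ℕ).obj L :=
  NatTrans.ofSequence (fun n => (stage f n).hom) fun n => by
    simp only [Functor.ofSequence_map_homOfLE_succ]
    exact (step_hom f n).trans (Category.comp_id _).symm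

/-- the resolution -/
noncomputable def resK : CochainComplex X.Modules ℤ := colimit (chain f)

noncomputable def resι (n : ℕ) : (stage f n).left ⟶ resK f := colimit.ι (chain f) n

noncomputable def resF : resK f ⟶ L := colimit.desc (chain f) ⟨L, chainHom f⟩

lemma resι_resF (n : ℕ) : resι f n ≫ resF f = (stage f n).hom := colimit.ι_desc _ _

/-- the map from the first stage -/
noncomputable def resι₀ : initK K L ⟶ resK f := resι f 0

lemma resι₀_resF : resι₀ f ≫ resF f = initF f := resι_resF f 0

/-- the map from the original complex -/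
noncomputable def resB : K ⟶ resK f := biprod.inl ≫ biprod.inl ≫ resι₀ f

lemma resB_resF : resB f ≫ resF f = f := by
  rw [resB, Category.assoc, Category.assoc, resι₀_resF]
  simp [initF]

variable {K' L' : CochainComplex X.Modules ℤ} (f' : K' ⟶ L') (a : K ⟶ K') (φ : L ⟶ L')
  (w : a ≫ f' = f ≫ φ)

noncomputable def initMap : initK K L ⟶ initK K' L' := biprod.map (biprod.map a (cycSMap φ)) (diskNat φ)

include w in
lemma initMap_comm : initMap a φ ≫ initF f' = initF f ≫ φ := by
  refine biprod.hom_ext' _ _ (biprod.hom_ext' _ _ ?_ ?_) ?_ <;>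
    simp [initMap, initF, w, cycMap_nat φ, diskMap_nat φ]

noncomputable def stageMap : ∀ n, { g : (stage f n).left ⟶ (stage f' n).left //
    g ≫ (stage f' n).hom = (stage f n).hom ≫ φ }
  | 0 => ⟨initMap a φ, initMap_comm f f' a φ w⟩
  | n + 1 => ⟨killMap (stage f n).hom (stage f' n).hom (stageMap n).1 φ (stageMap n).2,
      killMap_comm (stage f n).hom (stage f' n).hom (stageMap n).1 φ (stageMap n).2⟩

noncomputable def chainMap : chain f ⟶ chain f' :=
  NatTrans.ofSequence (fun n => (stageMap f f' a φ w n).1) fun n => by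
    simp only [Functor.ofSequence_map_homOfLE_succ]
    exact (inr_killMap (stage f n).hom (stage f' n).hom (stageMap f f' a φ w n).1 φ
      (stageMap f f' a φ w n).2)

noncomputable def resMap : resK f ⟶ resK f' := colimMap (chainMap f f' a φ w)

lemma resι_resMap (n : ℕ) : resι f n ≫ resMap f f' a φ w = (stageMap f f' a φ w n).1 ≫ resι f' n :=
  ι_colimMap _ _

lemma res_hom_ext {T : CochainComplex X.Modules ℤ} {g g' : resK f ⟶ T}
    (h : ∀ n, resι f n ≫ g = resι f n ≫ g') : g = g' := colimit.hom_ext h

lemma resMap_resF : resMap f f' a φ w ≫ resF f' = resF f ≫ φ := res_hom_ext f fun n => by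
  rw [reassoc_of% resι_resMap, resι_resF, reassoc_of% resι_resF]
  exact (stageMap f f' a φ w n).2

end Chain

end Groth.Agent.H7KFlatRes
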