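import Groth.Agent.Lib.H7KFlatMod
import Mathlib

/-! Short exact sequences of complexes with flat quotient terms and K-flatness. -/

universe u v

namespace Groth.Agent.H7KFlatSES
open CategoryTheory Limits Category HomologicalComplex MonoidalCategory
open Groth.Agent H5TenCx H7KFlatMod

variable {R : Type v} [CommRing R]

lemma mono_tensor (P : ModuleCat.{v} R) (S : ShortComplex (ModuleCat.{v} R)) (hS : S.ShortExact)
    [Module.Flat R S.X₃] : Mono (P ◁ S.f) := by
  rw [ModuleCat.mono_iff_injective]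
  have hf : Function.Injective S.f.hom := (ModuleCat.mono_iff_injective _).1 hS.mono_f
  have hg : Function.Surjective S.g.hom := (ModuleCat.epi_iff_surjective _).1 hS.epi_g
  exact LinearMap.lTensor_injective_of_exact_of_flat S.g.hom hg S.f.hom hf
    ((ShortComplex.ShortExact.moduleCat_exact_iff_function_exact S).1 hS.exact) P

theorem tensor_shortExact (L : CochainComplex (ModuleCat.{v} R) ℤ)
    (S : ShortComplex (CochainComplex (ModuleCat.{v} R) ℤ)) (hS : S.ShortExact)
    [∀ n, Module.Flat R (S.X₃.X n)] :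
    (S.map (T₂ (curriedTensor (ModuleCat.{v} R)) L)).ShortExact := by
  have : ∀ X, PreservesColimitsOfShape WalkingParallelPair ((curriedTensor (ModuleCat.{v} R)).obj X) :=
    fun X => H5KFlat.tensorLeft_preserves R (J := WalkingParallelPair) X
  have := preservesColimitsOfShape₂ (curriedTensor (ModuleCat.{v} R)) (J := WalkingParallelPair) L
  have hc := CokernelCofork.mapIsColimit _ hS.gIsCokernel (T₂ (curriedTensor (ModuleCat.{v} R)) L)
  have hg : Epi (S.map (T₂ (curriedTensor (ModuleCat.{v} R)) L)).g := Cofork.IsColimit.epi hc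
  have hex : (S.map (T₂ (curriedTensor (ModuleCat.{v} R)) L)).Exact := ShortComplex.exact_of_g_is_cokernel _ hc
  have hf : Mono (S.map (T₂ (curriedTensor (ModuleCat.{v} R)) L)).f := by
    have : ∀ n, Mono (((T₂ (curriedTensor (ModuleCat.{v} R)) L).map S.f).f n) := fun n => by
      let π := ComplexShape.π (ComplexShape.up ℤ) (ComplexShape.up ℤ) (ComplexShape.up ℤ)
      let τ : Discrete.functor (fun i : π ⁻¹' {n} => L.X i.1.1 ⊗ S.X₁.X i.1.2) ⟶
          Discrete.functor (fun i : π ⁻¹' {n} => L.X i.1.1 ⊗ S.X₂.X i.1.2) :=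
        Discrete.natTrans fun i => L.X i.as.1.1 ◁ S.f.f i.as.1.2
      have hτ : ∀ i, Mono (τ.app i) := fun i => by
        have : Module.Flat R (S.map (eval (ModuleCat.{v} R) (ComplexShape.up ℤ) i.as.1.2)).X₃ :=
          inferInstanceAs (Module.Flat R (S.X₃.X i.as.1.2))
        exact mono_tensor (L.X i.as.1.1) (S.map (eval (ModuleCat.{v} R) (ComplexShape.up ℤ) i.as.1.2))
          (hS.map_of_exact _)
      have : HasExactColimitsOfShape (Discrete (π ⁻¹' {n})) (ModuleCat.{v} R) :=
        HasExactColimitsOfShape.of_domain_equivalence (ModuleCat.{v} R)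
          (Discrete.equivalence (Equiv.ulift.{v, 0} (α := π ⁻¹' {n})))
      have : Mono τ := NatTrans.mono_of_mono_app τ
      have e : ((T₂ (curriedTensor (ModuleCat.{v} R)) L).map S.f).f n = colimMap τ :=
        mapBifunctor.hom_ext fun p q h => by
          erw [ι_mapBifunctorMap, ι_colimMap τ ⟨⟨(p, q), h⟩⟩]
          show _ ≫ (L.X p ◁ S.f.f q) ≫ _ = (L.X p ◁ S.f.f q) ≫ _
          simp
          rfl
      rw [e]
      exact inferInstanceAs (Mono (colim.map τ))
    exact HomologicalComplex.mono_of_mono_f _ this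
  exact { exact := hex, mono_f := hf, epi_g := hg }

theorem two_out_of_three (S : ShortComplex (CochainComplex (ModuleCat.{v} R) ℤ)) (hS : S.ShortExact)
    [∀ n, Module.Flat R (S.X₃.X n)] :
    (KF R S.X₁ → KF R S.X₂ → KF R S.X₃) ∧ (KF R S.X₁ → KF R S.X₃ → KF R S.X₂) ∧
      (KF R S.X₂ → KF R S.X₃ → KF R S.X₁) := by
  refine ⟨fun h₁ h₂ L hL => ?_, fun h₁ h₃ L hL => ?_, fun h₂ h₃ L hL => ?_⟩ <;> intro n <;>
    rw [exactAt_iff_isZero_homology]
  · exact ((tensor_shortExact L S hS).homology_exact₃ n (n + 1) rfl).isZero_of_both_zeros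
      ((h₂ L hL n).isZero_homology.eq_of_src _ _) ((h₁ L hL (n + 1)).isZero_homology.eq_of_tgt _ _)
  · exact ((tensor_shortExact L S hS).homology_exact₂ n).isZero_of_both_zeros
      ((h₁ L hL n).isZero_homology.eq_of_src _ _) ((h₃ L hL n).isZero_homology.eq_of_tgt _ _)
  · exact ((tensor_shortExact L S hS).homology_exact₁ (n - 1) n (by simp)).isZero_of_both_zeros
      ((h₃ L hL (n - 1)).isZero_homology.eq_of_src _ _) ((h₂ L hL n).isZero_homology.eq_of_tgt _ _)

end Groth.Agent.H7KFlatSES
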