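import Groth.Agent.Lib.H7StalkDetect
import Groth.Agent.Lib.H7PerfPull
import Groth.Agent.Lib.H7StalkPull
import Groth.Agent.Lib.H7KFlatSES
import Groth.Prelude.Def_KRR
import Mathlib

/-! Pullback on K₀ of finite locally free modules. -/

set_option autoImplicit false
universe v w u
open CategoryTheory CategoryTheory.Limits AlgebraicGeometry MonoidalCategory

namespace Groth.Agent.H7KPull
open Groth.Agent

variable {X Y : Scheme.{u}}

theorem shortExact_pull (f : X ⟶ Y) (S : ShortComplex Y.Modules) (hS : S.ShortExact)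
    (h₃ : FlatMod.IsFinLocFree S.X₃) : (S.map (Scheme.Modules.pullback f)).ShortExact := by
  have hadj := Scheme.Modules.pullbackPushforwardAdjunction f
  have : PreservesColimitsOfSize.{0, 0} (Scheme.Modules.pullback f) := hadj.leftAdjoint_preservesColimits
  have : (Scheme.Modules.pullback f).PreservesEpimorphisms := Functor.preservesEpimorphisms_of_adjunction hadj
  have := hS.epi_g
  have hc := CokernelCofork.mapIsColimit _ hS.gIsCokernel (Scheme.Modules.pullback f)
  have hex : (S.map (Scheme.Modules.pullback f)).Exact := ShortComplex.exact_of_g_is_cokernel _ hc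
  have hm : Mono ((Scheme.Modules.pullback f).map S.f) := by
    refine Preadditive.mono_of_kernel_zero ?_
    refine IsZero.eq_of_src (H7StalkDetect.isZero_of_stalks fun x => ?_) _ _
    let T := DerSch.stalkFunctor Y (f.base x)
    have : PreservesFiniteLimits T := H7StalkDetect.preservesFiniteLimits_stalk _
    have hT : (S.map T).ShortExact :=
      { exact := hS.exact.map T
        mono_f := by have := hS.mono_f; exact T.map_mono S.f
        epi_g := by have : PreservesFiniteColimits T := H7StalkDetect.preservesFiniteColimits_stalk _; exact T.map_epi S.g }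
    let φ := (f.stalkMap x).hom
    letI := φ.toAlgebra
    haveI : Module.Flat (Y.presheaf.stalk (f.base x)) (S.map T).X₃ := H7PerfPull.flat_of_finLocFree h₃ (f.base x)
    have h2 : Mono ((ModuleCat.extendScalars.{u, u, u} φ).map (T.map S.f)) := by
      rw [ModuleCat.mono_iff_injective]
      exact LinearMap.lTensor_injective_of_exact_of_flat (S.map T).g.hom ((ModuleCat.epi_iff_surjective _).1 hT.epi_g)
        (S.map T).f.hom ((ModuleCat.mono_iff_injective _).1 hT.mono_f)
        ((ShortComplex.ShortExact.moduleCat_exact_iff_function_exact (S.map T)).1 hT.exact) (X.presheaf.stalk x)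
    have n := (H7StalkPull.pullStalkIso f x).hom.naturality S.f
    have h4 : Mono ((H7StalkPull.pullStalkIso f x).hom.app S.X₁ ≫ (ModuleCat.extendScalars.{u, u, u} φ).map (T.map S.f)) :=
      @mono_comp _ _ _ _ _ _ (IsIso.mono_of_iso ((H7StalkPull.pullStalkIso f x).app S.X₁).hom) _ h2
    have : Mono ((DerSch.stalkFunctor X x).map ((Scheme.Modules.pullback f).map S.f)) :=
      @mono_of_mono_fac _ _ _ _ _ _ _ _ h4 n
    haveI : Subsingleton ((DerSch.stalkFunctor X x).obj (kernel ((Scheme.Modules.pullback f).map S.f))) := by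
      refine subsingleton_of_forall_eq 0 fun z => ?_
      have i1 := H7StalkDetect.stalk_map_injective x ((kernel.ι ((Scheme.Modules.pullback f).map S.f)))
      refine i1 ?_
      refine ((ModuleCat.mono_iff_injective _).1 this) ?_
      have hz := congrArg (fun g => ((DerSch.stalkFunctor X x).map g).hom z) (kernel.condition ((Scheme.Modules.pullback f).map S.f))
      simp only [Functor.map_comp, Functor.map_zero, ModuleCat.hom_comp, ModuleCat.hom_zero] at hz
      exact hz.trans (by simp)
    exact ModuleCat.isZero_of_subsingleton _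
  exact { exact := hex, mono_f := hm, epi_g := (Scheme.Modules.pullback f).map_epi S.g }

/-- the pullback on K₀ of finite locally free modules -/
noncomputable def kvbPull (f : X ⟶ Y) : SGA6.Kvb Y →+ SGA6.Kvb X :=
  QuotientAddGroup.lift _ (FreeAbelianGroup.lift fun M => KRR.cl X ((Scheme.Modules.pullback f).obj M.1)) (by
    rw [KZero.relSub, AddSubgroup.closure_le]
    rintro _ ⟨S, h₁, h₂, h₃, hS, rfl⟩
    rw [SetLike.mem_coe, AddMonoidHom.mem_ker, map_sub, map_sub, FreeAbelianGroup.lift_apply_of,
      FreeAbelianGroup.lift_apply_of, FreeAbelianGroup.lift_apply_of]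
    have p₁ := H7PerfPull.finLocFree_pullback f h₁
    have p₂ := H7PerfPull.finLocFree_pullback f h₂
    have p₃ := H7PerfPull.finLocFree_pullback f h₃
    simp only [KRR.cl, KZero.clSub, dif_pos p₁, dif_pos p₂, dif_pos p₃]
    rw [← QuotientAddGroup.mk_sub, ← QuotientAddGroup.mk_sub, QuotientAddGroup.eq_zero_iff]
    exact AddSubgroup.subset_closure ⟨S.map (Scheme.Modules.pullback f), p₁, p₂, p₃, shortExact_pull f S hS h₃, rfl⟩)

theorem existsUnique_isPull (f : X ⟶ Y) {KX : Type v} {KY : Type v} [CommRing KX] [CommRing KY]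
    (φX : SGA6.Kvb X →+ KX) (φY : SGA6.Kvb Y →+ KY) (hY : Function.Bijective φY) :
    ∃! g : KY →+ KX, KRR.IsPull f φY φX g := by
  let e := AddEquiv.ofBijective φY hY
  have hcl : ∀ E, FlatMod.IsFinLocFree E → kvbPull f (KRR.cl Y E) = KRR.cl X ((Scheme.Modules.pullback f).obj E) := by
    intro E hE
    rw [show KRR.cl Y E = QuotientAddGroup.mk (FreeAbelianGroup.of (⟨E, hE⟩ : Subtype (KRR.vbP Y))) from dif_pos hE]
    exact FreeAbelianGroup.lift_apply_of _ _
  refine ⟨(φX.comp (kvbPull f)).comp e.symm.toAddMonoidHom, fun E hE => ?_, fun g hg => ?_⟩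
  · show φX (kvbPull f (e.symm (φY (KRR.cl Y E)))) = _
    rw [show e.symm (φY (KRR.cl Y E)) = KRR.cl Y E from e.symm_apply_apply _, hcl E hE]
  · have h : g.comp φY = φX.comp (kvbPull f) := by
      refine QuotientAddGroup.addMonoidHom_ext _ ?_
      refine FreeAbelianGroup.lift_ext _ _ fun M => ?_
      show g (φY _) = φX (kvbPull f _)
      rw [show ((QuotientAddGroup.mk' (KZero.relSub (KRR.vbP Y))) (FreeAbelianGroup.of M)) = KRR.cl Y M.1 from (by unfold KRR.cl KZero.clSub; rw [dif_pos M.2]; rfl),
        hg M.1 M.2, hcl M.1 M.2]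
    ext y
    obtain ⟨z, rfl⟩ := hY.surjective y
    show g (φY z) = φX (kvbPull f (e.symm (φY z)))
    rw [show e.symm (φY z) = z from e.symm_apply_apply _]
    exact DFunLike.congr_fun h z

end Groth.Agent.H7KPull
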