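import Groth.Agent.Lib.H7RpushBound
import Groth.Agent.Lib.H6.PullDesc
import Groth.Agent.Lib.H7AffineD
import Groth.Agent.Lib.H5DTen
import Mathlib

/-! Vanishing of maps from perfect objects into `D_QCoh`. -/

universe u v w
open CategoryTheory Limits AlgebraicGeometry Opposite TopologicalSpace Pretriangulated HomologicalComplex

namespace Groth.Agent.H7PerfHom
open Groth.Agent H7PerfTri CechOX H7LocLift

attribute [local instance] HasDerivedCategory.standard

variable {X : Scheme.{u}}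

/-- `j^* ⊣ Rj_*` -/
theorem rD_adj {U : Scheme.{u}} (j : U ⟶ X) [IsOpenImmersion j] [DCoh.HasRpush j] :
    Nonempty (rD j ⊣ DCoh.Rpush j) :=
  ⟨(H5KApps.exists_derived_adjunction (Scheme.Modules.restrictAdjunction j) (H7RpushCalc.beta j)
    H5KApps.enoughKInj_of_grothendieck).choose⟩

/-- restriction preserves perfect objects -/
theorem isPerfect_rD {U : Scheme.{u}} (j : U ⟶ X) [IsOpenImmersion j] {E : DCoh.D X} (h : DCoh.IsPerfect E) :
    DCoh.IsPerfect ((rD j).obj E) := by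
  rw [H7PerfTri.isPerfect_iff] at h ⊢
  intro y
  obtain ⟨W, i, hi, P, ⟨w, hw⟩, hP, ⟨e⟩⟩ := h (j.base y)
  let V : W.Opens := i ⁻¹ᵁ j.opensRange
  have hr : Set.range (V.ι ≫ i).base ⊆ Set.range j.base := by
    rintro _ ⟨v, rfl⟩; exact v.2
  let k := IsOpenImmersion.lift j (V.ι ≫ i) hr
  have hk : k ≫ j = V.ι ≫ i := IsOpenImmersion.lift_fac _ _ _
  haveI : IsOpenImmersion (k ≫ j) := hk ▸ inferInstance
  haveI : IsOpenImmersion k := IsOpenImmersion.of_comp k j
  refine ⟨V, k, inferInstance, (rst V.ι).obj P, ⟨⟨w, ⟨y, hw.symm⟩⟩, ?_⟩, strictlyPerfect_rst _ hP,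
    ⟨rDComp k j (V.ι ≫ i) hk E ≪≫ (rDComp V.ι i (V.ι ≫ i) rfl E).symm ≪≫ (rD V.ι).mapIso e ≪≫ rQ V.ι P⟩⟩
  apply j.isOpenEmbedding.injective
  exact (congrArg (fun m : (V : Scheme.{u}) ⟶ X => m.base ⟨w, ⟨y, hw.symm⟩⟩) hk).trans hw

/-- finite locally free modules are quasi-coherent -/
theorem qcoh_of_finLocFree {M : X.Modules} (h : FlatMod.IsFinLocFree M) : Coh.IsQCoh M := by
  refine H7QCoh.isQCoh_of_local M fun x => ?_
  obtain ⟨U, n, hxU, ⟨e⟩⟩ := h x
  obtain ⟨R, j, hj, hx, hr⟩ := H7QCoh.exists_affine x U hxU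
  refine ⟨R, j, hj, hx, ?_⟩
  let j' := IsOpenImmersion.lift U.ι j (by rw [Scheme.Opens.range_ι]; exact hr)
  have hj' : j' ≫ U.ι = j := IsOpenImmersion.lift_fac _ _ _
  haveI : IsOpenImmersion (j' ≫ U.ι) := hj'.symm ▸ hj
  haveI : IsOpenImmersion j' := IsOpenImmersion.of_comp j' U.ι
  have h1 : Coh.IsQCoh (FlatMod.freeMod U.toScheme n) :=
    H7AffineD.qcoh_of_iso (Sigma.whiskerEquiv Equiv.ulift.{u} (fun _ => Iso.refl (Coh.structureModule U.toScheme)))
      (H7QCoh.isQCoh_sigma (fun _ : ULift.{u} (Fin n) => Coh.structureModule U.toScheme) fun _ => inferInstanceAs (Coh.structureModule U.toScheme).IsQuasicoherent)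
  exact H7AffineD.qcoh_of_iso (((Scheme.Modules.restrictFunctor j').mapIso e.symm) ≪≫
    ((Scheme.Modules.restrictFunctorComp j' U.ι).symm ≪≫ Scheme.Modules.restrictFunctorCongr hj').app M)
    (H7QCoh.isQCoh_restrict j' h1)

/-- perfect objects have quasi-coherent cohomology -/
theorem isQCohD_of_isPerfect (E : DCoh.D X) (h : DCoh.IsPerfect E) : DCoh.IsQCohD E := by
  refine H7QCoh.isQCohD_of_local E fun x => ?_
  obtain ⟨W, j, hj, P, ⟨w, hw⟩, hP, ⟨e⟩⟩ := (H7PerfTri.isPerfect_iff E).1 h x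
  obtain ⟨R, k, hk, ⟨v, hv⟩, -⟩ := H7QCoh.exists_affine w ⊤ trivial
  refine ⟨R, k ≫ j, inferInstance, ⟨v, (congrArg j.base hv).trans hw⟩, ?_⟩
  exact H7RpushQCoh.isQCohD_of_iso ((rD k).mapIso e.symm ≪≫ rDComp k j (k ≫ j) rfl E)
    (H7QCoh.isQCohD_restrict k (H7TensorQCD.isQCohD_Q P fun i => qcoh_of_finLocFree (hP.2 i)))

/-- restriction along an isomorphism is faithful -/
theorem eq_zero_of_rD [IsAffine X] {K L : DCoh.D X} (φ : K ⟶ L) (h : (rD X.isoSpec.inv).map φ = 0) : φ = 0 := by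
  haveI := H7MV.hasRpush X.isoSpec.inv
  obtain ⟨a, ha⟩ := H5KApps.exists_derived_adjunction_ff (Scheme.Modules.restrictAdjunction X.isoSpec.inv)
    (H7RpushCalc.beta X.isoSpec.inv) H5KApps.enoughKInj_of_grothendieck
  haveI : IsIso (a.unit.app L) := by
    obtain ⟨Z, p, q, hT⟩ := distinguished_cocone_triangle (a.unit.app L)
    refine (Triangle.isZero₃_iff_isIso₁ _ hT).1 ?_
    have h1 : IsIso ((rD X.isoSpec.inv).map (a.unit.app L)) := by
      haveI := ha
      haveI := ha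
      have h2 := a.left_triangle_components L
      rw [← IsIso.eq_comp_inv, Category.id_comp] at h2
      rw [h2]
      infer_instance
    have hz : IsZero ((rD X.isoSpec.inv).obj Z) :=
      (Triangle.isZero₃_iff_isIso₁ _ ((rD X.isoSpec.inv).map_distinguished _ hT)).2 h1
    exact ((rD X.isoSpec.hom).map_isZero hz).of_iso ((H7RpushQCoh.nonempty_rD_id (𝟙 X) rfl Z).some.symm ≪≫
      (rDComp X.isoSpec.hom X.isoSpec.inv (𝟙 X) X.isoSpec.hom_inv_id Z).symm)
  haveI : (DCoh.Rpush X.isoSpec.inv).PreservesZeroMorphisms := by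
    haveI := a.isRightAdjoint
    infer_instance
  rw [← cancel_mono (a.unit.app L), zero_comp]
  have := a.unit.naturality φ
  dsimp at this
  rw [this, h, Functor.map_zero, comp_zero]

section ring
variable {R : CommRingCat.{u}} [PreservesFiniteLimits (tilde.functor R)]

/-- maps out of a complex of projectives in degrees `[a, b]` -/
theorem hom_eq_zero (P : CochainComplex (ModuleCat.{u} R) ℤ) (a b : ℤ) (hP : DRing.VanishesOutside P a b)
    [∀ i, Module.Projective R (P.X i)] (M : DerivedCategory (ModuleCat.{u} R))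
    (hM : ∀ i : ℤ, a ≤ i → i ≤ b → IsZero ((DerivedCategory.homologyFunctor _ i).obj M))
    (φ : DerivedCategory.Q.obj P ⟶ M) : φ = 0 := by
  haveI : P.IsStrictlyGE a := (CochainComplex.isStrictlyGE_iff _ _).2 fun i hi => hP i (Or.inl hi)
  haveI : P.IsStrictlyLE b := (CochainComplex.isStrictlyLE_iff _ _).2 fun i hi => hP i (Or.inr hi)
  haveI : ∀ i, Projective (P.X i) := fun i => inferInstance
  haveI : P.IsKProjective := CochainComplex.isKProjective_of_projective P b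
  haveI : (DerivedCategory.Q.obj P).IsLE b := inferInstance
  let t : CategoryTheory.Triangulated.TStructure (DerivedCategory (ModuleCat.{u} R)) := DerivedCategory.TStructure.t
  obtain ⟨A, B, hA, hB, f, g, h, hT⟩ := t.exists_triangle M (a - 1) a (by omega)
  haveI : A.IsLE (a - 1) := ⟨hA⟩
  haveI : B.IsGE a := ⟨hB⟩
  haveI : B.IsGE (b + 1) := by
    rw [DerivedCategory.isGE_iff]
    intro i hi
    rcases lt_or_ge i a with h' | h'
    · exact DerivedCategory.isZero_of_isGE B a i h'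
    · exact (DerivedCategory.HomologySequence.exact₃ _ hT i (i + 1) rfl).isZero_of_both_zeros
        ((hM i h' (by omega)).eq_of_src _ _) ((DerivedCategory.isZero_of_isLE A (a - 1) (i + 1) (by omega)).eq_of_tgt _ _)
  obtain ⟨ψ, hψ'⟩ : ∃ ψ : DerivedCategory.Q.obj P ⟶ A, φ = ψ ≫ f :=
    Triangle.coyoneda_exact₂ _ hT φ (t.zero (φ ≫ g) b (b + 1) (by omega))
  suffices hψ : ψ = 0 by rw [hψ', hψ, zero_comp]
  obtain ⟨L, hL, ⟨e⟩⟩ := DerivedCategory.exists_iso_Q_obj_of_isLE A (a - 1)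
  obtain ⟨c, hc⟩ := (H5DTen.surj_of_kproj (A := R) (K := P) (X := L) (ψ ≫ e.hom))
  have : c = 0 := by
    refine HomologicalComplex.hom_ext _ _ fun i => ?_
    rcases lt_or_ge i a with h' | h'
    · exact (P.isZero_of_isStrictlyGE a i h').eq_of_src _ _
    · exact (L.isZero_of_isStrictlyLE (a - 1) i (by omega)).eq_of_tgt _ _
  rw [← cancel_mono e.hom, zero_comp, ← hc, this, Functor.map_zero]

/-- maps out of `P~` -/
theorem hom_tilde_eq_zero (P : CochainComplex (ModuleCat.{u} R) ℤ) (a b : ℤ) (hP : DRing.VanishesOutside P a b)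
    [∀ i, Module.Projective R (P.X i)] {K L : DCoh.D (Spec R)}
    (e : (DCoh.tildeD R).obj (DerivedCategory.Q.obj P) ≅ K) (hq : DCoh.IsQCohD L)
    (hL : ∀ i : ℤ, a ≤ i → i ≤ b → IsZero (DCoh.HD L i)) (φ : K ⟶ L) : φ = 0 := by
  obtain ⟨M, ⟨eM⟩⟩ := H7TildeEquiv.mem_essImage L hq
  obtain ⟨g, hg⟩ := (H7TildeEquiv.full_faithful _ M).2 (e.hom ≫ φ ≫ eM.inv)
  have hM : ∀ i : ℤ, a ≤ i → i ≤ b → IsZero ((DerivedCategory.homologyFunctor _ i).obj M) := fun i h h' =>
    (H7TildePerf.isZero_HD_iff M i).1 ((hL i h h').of_iso ((DerivedCategory.homologyFunctor _ i).mapIso eM))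
  rw [hom_eq_zero P a b hP M hM g] at hg
  rw [← cancel_epi e.hom, ← cancel_mono eM.inv, Category.assoc, ← hg]
  simp

end ring

/-- perfect objects on affine schemes see finitely many degrees -/
theorem exists_window_affine [IsAffine X] (K : DCoh.D X) (hK : DCoh.IsPerfect K) :
    ∃ a b : ℤ, ∀ L : DCoh.D X, DCoh.IsQCohD L → (∀ i : ℤ, a ≤ i → i ≤ b → IsZero (DCoh.HD L i)) →
      ∀ φ : K ⟶ L, φ = 0 := by
  let R := Γ(X, ⊤)
  let j := X.isoSpec.inv
  haveI := LQcoh.preservesFiniteLimits_tilde R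
  haveI : PreservesFiniteLimits (tilde.functor (CommRingCat.of R)) := inferInstanceAs (PreservesFiniteLimits (tilde.functor R))
  have hK' := isPerfect_rD j hK
  have hq : DCoh.IsQCohD ((rD j).obj K) := isQCohD_of_isPerfect _ hK'
  obtain ⟨M, ⟨e⟩⟩ := H7TildeEquiv.mem_essImage _ hq
  obtain ⟨P, a, b, hP, hproj, ⟨eP⟩⟩ := (H7TildePerf.isPerfect_iff_tildeD (A := R) (M := M)).1
    (isPerfect_of_iso e.symm hK')
  refine ⟨a, b, fun L hL hz φ => ?_⟩
  haveI : ∀ i, Module.Projective R (P.X i) := fun i => (hproj i).2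
  have h := hom_tilde_eq_zero P a b hP ((DCoh.tildeD R).mapIso eP ≪≫ e) (H7QCoh.isQCohD_restrict j hL)
    (fun i h h' => ((Scheme.Modules.restrictFunctor j).map_isZero (hz i h h')).of_iso (H7QCoh.hdRestrict j L i))
    ((rD j).map φ)
  exact eq_zero_of_rD φ h

/-- vanishing spreads from affines -/
theorem hom_eq_zero_of_affines [CompactSpace X] [QuasiSeparatedSpace X] {ι : Type w} (K : ι → DCoh.D X)
    (h : ∀ A : X.Opens, IsAffineOpen A → ∃ a b : ℤ, ∀ L : DCoh.D A.toScheme, DCoh.IsQCohD L →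
      (∀ i : ℤ, a ≤ i → i ≤ b → IsZero (DCoh.HD L i)) → ∀ k, ∀ φ : (rD A.ι).obj (K k) ⟶ L, φ = 0) :
    ∃ a b : ℤ, a ≤ b ∧ ∀ L : DCoh.D X, DCoh.IsQCohD L → (∀ i : ℤ, a ≤ i → i ≤ b → IsZero (DCoh.HD L i)) →
      ∀ k, ∀ φ : K k ⟶ L, φ = 0 := by
  obtain ⟨a, b, hab⟩ : ∃ a b : ℤ, ∀ I : CochainComplex X.Modules ℤ, I.IsKInjective → (∀ n, Injective (I.X n)) →
      DCoh.IsQCohD (DerivedCategory.Q.obj I) → (∀ i : ℤ, a ≤ i → i ≤ b → IsZero (DCoh.HD (DerivedCategory.Q.obj I) i)) →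
      ∀ k, ∀ φ : K k ⟶ H7MV.obj ⊤ I, φ = 0 := by
    refine H7QcqsInd.induction (Q := fun W => ∃ a b : ℤ, ∀ I : CochainComplex X.Modules ℤ, I.IsKInjective →
      (∀ n, Injective (I.X n)) → DCoh.IsQCohD (DerivedCategory.Q.obj I) →
      (∀ i : ℤ, a ≤ i → i ≤ b → IsZero (DCoh.HD (DerivedCategory.Q.obj I) i)) →
      ∀ k, ∀ φ : K k ⟶ H7MV.obj W I, φ = 0) (fun A hA => ?_) (fun U V hU hV hUV => ?_) ⊤ isCompact_univ
    · obtain ⟨a, b, hab⟩ := h A hA
      refine ⟨a, b, fun I hI _ hq hz k φ => ?_⟩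
      haveI := H7MV.hasRpush A.ι
      obtain ⟨e⟩ := H7MV.nonempty_obj_rpush A I hI
      obtain ⟨adj⟩ := rD_adj A.ι
      have h0 := hab _ (H7QCoh.isQCohD_restrict A.ι hq) (fun i h h' =>
        ((Scheme.Modules.restrictFunctor A.ι).map_isZero (hz i h h')).of_iso (H7QCoh.hdRestrict A.ι _ i))
        k ((adj.homEquiv _ _).symm (φ ≫ e.hom))
      refine (cancel_mono e.hom).1 ?_
      rw [zero_comp]
      apply (adj.homEquiv _ _).symm.injective
      rw [h0, Adjunction.homEquiv_counit, Functor.map_zero, zero_comp]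
    · obtain ⟨a₁, b₁, h₁⟩ := hU
      obtain ⟨a₂, b₂, h₂⟩ := hV
      obtain ⟨a₃, b₃, h₃⟩ := hUV
      refine ⟨min (min a₁ a₂) (a₃ - 1), max (max b₁ b₂) b₃, fun I hI hinj hq hz k φ => ?_⟩
      have hp : ∀ ψ : K k ⟶ DerivedCategory.Q.obj (((H7MV.pair U V).mapHomologicalComplex (ComplexShape.up ℤ)).obj I), ψ = 0 := by
        obtain ⟨T, hT, ⟨e₁⟩, ⟨e₂⟩, ⟨e₃⟩⟩ := H7MV.exists_triangle_pair (U := U) (V := V) I
        intro ψ
        obtain ⟨χ, hχ⟩ := Triangle.coyoneda_exact₂ T hT (ψ ≫ e₂.inv) ((cancel_mono e₃.hom).1 (by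
          refine Eq.trans ?_ zero_comp.symm; exact h₂ I hI hinj hq (fun i h h' => hz i (by omega) (by omega)) k _))
        have : χ = 0 := (cancel_mono e₁.hom).1 (by
          rw [zero_comp]; exact h₁ I hI hinj hq (fun i h h' => hz i (by omega) (by omega)) k _)
        rw [← cancel_mono e₂.inv, hχ, this, zero_comp, zero_comp]
      obtain ⟨T, hT, ⟨e₁⟩, ⟨e₂⟩, ⟨e₃⟩⟩ := H7MV.exists_triangle_mv (U := U) (V := V) I hinj
      let I' : CochainComplex X.Modules ℤ := I⟦(-1 : ℤ)⟧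
      haveI : I.IsKInjective := hI
      have hI' : I'.IsKInjective := inferInstance
      let s : T.obj₃⟦(-1 : ℤ)⟧ ≅ H7MV.obj (U ⊓ V) I' :=
        (shiftFunctor _ (-1 : ℤ)).mapIso e₃ ≪≫ ((DerivedCategory.Q.commShiftIso (-1 : ℤ)).app _).symm ≪≫
          DerivedCategory.Q.mapIso (((pushRestr (U ⊓ V)).mapHomologicalComplex (ComplexShape.up ℤ)).commShiftIso (-1 : ℤ) |>.app I).symm
      have hH : ∀ i : ℤ, DCoh.HD (DerivedCategory.Q.obj I') i ≅ DCoh.HD (DerivedCategory.Q.obj I) (i - 1) := fun i =>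
        (DerivedCategory.homologyFunctor X.Modules i).mapIso ((DerivedCategory.Q.commShiftIso (-1 : ℤ)).app I) ≪≫
          ((DerivedCategory.homologyFunctor X.Modules 0).shiftIso (-1 : ℤ) i (i - 1) (by ring)).app _
      obtain ⟨χ, hχ⟩ := Triangle.coyoneda_exact₂ _ (inv_rot_of_distTriang _ hT) (φ ≫ e₁.inv) ((cancel_mono e₂.hom).1 (by
        refine Eq.trans ?_ zero_comp.symm; exact hp _))
      have : χ = 0 := (cancel_mono s.hom).1 (by
        refine Eq.trans ?_ zero_comp.symm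
        exact h₃ I' hI' (fun n => inferInstanceAs (Injective (I.X (n + -1)))) (fun i => H7AffineD.qcoh_of_iso (hH i).symm (hq _))
          (fun i h h' => (hz (i - 1) (by omega) (by omega)).of_iso (hH i)) k _)
      refine (cancel_mono e₁.inv).1 (hχ.trans ?_)
      rw [this]
      exact zero_comp.trans zero_comp.symm
  refine ⟨a, max a b, le_max_left _ _, fun L hL hz k φ => ?_⟩
  obtain ⟨I, g, hI, hg, -, hinj⟩ := H5KInj.exists_kInjective (DerivedCategory.Q.objPreimage L)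
  have := (DerivedCategory.isIso_Q_map_iff_quasiIso _ g).2 hg
  let e : DerivedCategory.Q.obj I ≅ L := (asIso (DerivedCategory.Q.map g)).symm ≪≫ DerivedCategory.Q.objObjPreimageIso L
  let e' := (H7MV.nonempty_obj_top I).some ≪≫ e
  have := hab I hI hinj (H7RpushQCoh.isQCohD_of_iso e.symm hL) (fun i h h' =>
    (hz i h (le_trans h' (le_max_right _ _))).of_iso ((DerivedCategory.homologyFunctor _ i).mapIso e)) k (φ ≫ e'.inv)
  rw [← cancel_mono e'.inv, this, zero_comp]

theorem exists_window [CompactSpace X] [QuasiSeparatedSpace X] (K : DCoh.D X) (hK : DCoh.IsPerfect K) :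
    ∃ a b : ℤ, a ≤ b ∧ ∀ L : DCoh.D X, DCoh.IsQCohD L → (∀ i : ℤ, a ≤ i → i ≤ b → IsZero (DCoh.HD L i)) →
      ∀ φ : K ⟶ L, φ = 0 := by
  obtain ⟨a, b, hab, h⟩ := hom_eq_zero_of_affines (fun _ : PUnit.{1} => K) fun A hA => by
    haveI : IsAffine A.toScheme := hA
    obtain ⟨a, b, h⟩ := exists_window_affine _ (isPerfect_rD A.ι hK)
    exact ⟨a, b, fun L h1 h2 _ => h L h1 h2⟩
  exact ⟨a, b, hab, fun L h1 h2 => h L h1 h2 PUnit.unit⟩

/-- finite locally free modules see only degree `0` on affines -/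
theorem window_finLocFree [IsAffine X] {F : X.Modules} (hF : FlatMod.IsFinLocFree F) (L : DCoh.D X)
    (hL : DCoh.IsQCohD L) (hz : IsZero (DCoh.HD L 0)) (φ : DCoh.inD X F ⟶ L) : φ = 0 := by
  let R := Γ(X, ⊤)
  let j := X.isoSpec.inv
  haveI := LQcoh.preservesFiniteLimits_tilde R
  refine eq_zero_of_rD φ ?_
  have hF' : FlatMod.IsFinLocFree ((Scheme.Modules.restrictFunctor j).obj F) := finLocFree_rst j hF
  haveI hq : ((Scheme.Modules.restrictFunctor j).obj F).IsQuasicoherent := qcoh_of_finLocFree hF'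
  have hi : IsIso ((Scheme.Modules.restrictFunctor j).obj F).fromTildeΓ := Scheme.Modules.isIso_fromTildeΓ_of_isQuasicoherent _
  let N : ModuleCat.{u} R := moduleSpecΓFunctor.obj ((Scheme.Modules.restrictFunctor j).obj F)
  let eN : tilde N ≅ (Scheme.Modules.restrictFunctor j).obj F :=
    @asIso _ _ _ _ ((Scheme.Modules.restrictFunctor j).obj F).fromTildeΓ hi
  have hN : FlatMod.IsFinLocFree (tilde N) := H7FinFree.finLocFree_of_iso eN.symm hF'
  haveI := H6.PullDesc.finitePresentation_of_finLocFree_tilde N hN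
  haveI : Module.Flat R N := H7TildeAmp.flat_of_tilde (A := R) N (H7PerfPull.flat_of_finLocFree hN)
  haveI : Module.Projective R N := Module.Flat.projective_of_finitePresentation
  let P := (HomologicalComplex.single (ModuleCat.{u} R) (ComplexShape.up ℤ) 0).obj N
  haveI : ∀ i, Module.Projective R (P.X i) := fun i => by
    rcases eq_or_ne i 0 with rfl | hi
    · exact Module.Projective.of_equiv (HomologicalComplex.singleObjXSelf (ComplexShape.up ℤ) 0 N).toLinearEquiv.symm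
    · haveI := ModuleCat.subsingleton_of_isZero (HomologicalComplex.isZero_single_obj_X (ComplexShape.up ℤ) 0 N i hi)
      exact Module.Projective.of_free
  refine hom_tilde_eq_zero P 0 0 (fun i hi => HomologicalComplex.isZero_single_obj_X _ _ _ _ (by omega)) ?_
    (H7QCoh.isQCohD_restrict j hL) (fun i h h' => ?_) ((rD j).map φ)
  · exact H7TildeEquiv.fac P ≪≫ DerivedCategory.Q.mapIso
      ((HomologicalComplex.singleMapHomologicalComplex (tilde.functor R) (ComplexShape.up ℤ) 0).app N ≪≫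
        (HomologicalComplex.single _ (ComplexShape.up ℤ) 0).mapIso eN ≪≫
        ((HomologicalComplex.singleMapHomologicalComplex (Scheme.Modules.restrictFunctor j) (ComplexShape.up ℤ) 0).app F).symm) ≪≫
      (rQ j _).symm ≪≫ (rD j).mapIso ((DerivedCategory.singleFunctorIsoCompQ X.Modules 0).app F).symm
  · obtain rfl : i = 0 := by omega
    exact ((Scheme.Modules.restrictFunctor j).map_isZero hz).of_iso (H7QCoh.hdRestrict j L 0)

/-- uniform vanishing out of finite locally free modules -/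
theorem exists_window_finLocFree [CompactSpace X] [QuasiSeparatedSpace X] :
    ∃ a b : ℤ, a ≤ b ∧ ∀ L : DCoh.D X, DCoh.IsQCohD L → (∀ i : ℤ, a ≤ i → i ≤ b → IsZero (DCoh.HD L i)) →
      ∀ (F : X.Modules), FlatMod.IsFinLocFree F → ∀ φ : DCoh.inD X F ⟶ L, φ = 0 := by
  obtain ⟨a, b, hab, h⟩ := hom_eq_zero_of_affines
    (fun F : {F : X.Modules // FlatMod.IsFinLocFree F} => DCoh.inD X F.1) fun A hA => by
      haveI : IsAffine A.toScheme := hA
      refine ⟨0, 0, fun L h1 h2 k φ => ?_⟩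
      let e : (rD A.ι).obj (DCoh.inD X k.1) ≅ DCoh.inD A.toScheme ((Scheme.Modules.restrictFunctor A.ι).obj k.1) :=
        (Scheme.Modules.restrictFunctor A.ι).mapDerivedCategorySingleFunctor 0 |>.app k.1
      rw [← cancel_epi e.inv, comp_zero]
      exact window_finLocFree (finLocFree_rst A.ι k.2) L h1 (h2 0 le_rfl le_rfl) _
  exact ⟨a, b, hab, fun L h1 h2 F hF => h L h1 h2 ⟨F, hF⟩⟩

end Groth.Agent.H7PerfHom
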