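import Groth.Agent.Lib.LAmplePull
import Groth.Agent.Lib.LAffPull
import Mathlib

/-! Affine diagonal and separatedness from affine loci of sections. -/

set_option autoImplicit false
universe u
open CategoryTheory Limits AlgebraicGeometry Opposite TopologicalSpace

namespace Groth.Agent.LAmpleSep

open Groth.Agent.LQcoh Groth.Agent.LInv

variable {X S : Scheme.{u}}

/-- the self-product over the terminal scheme -/
noncomputable abbrev XX (X : Scheme.{u}) : Scheme.{u} := pullback (terminal.from X) (terminal.from X)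

/-- the box `U × V` -/
noncomputable abbrev box (U V : X.Opens) : (XX X).Opens :=
  pullback.fst (terminal.from X) (terminal.from X) ⁻¹ᵁ U ⊓ pullback.snd (terminal.from X) (terminal.from X) ⁻¹ᵁ V

theorem isAffineOpen_box {U V : X.Opens} (hU : IsAffineOpen U) (hV : IsAffineOpen V) : IsAffineOpen (box U V) :=
  LAffPull.isAffineOpen_pullback_inf hU hV (isAffineOpen_top _) le_top le_top

theorem diagonal_box (U V : X.Opens) : pullback.diagonal (terminal.from X) ⁻¹ᵁ box U V = U ⊓ V := by
  simp only [box, Scheme.Hom.preimage_inf, ← Scheme.Hom.comp_preimage, pullback.diagonal_fst, pullback.diagonal_snd]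
  rfl

theorem iSup_box {ι : Type*} (U : ι → X.Opens) (hU : iSup U = ⊤) : (⨆ p : ι × ι, box (U p.1) (U p.2)) = ⊤ := by
  refine eq_top_iff.2 fun z _ => ?_
  obtain ⟨i, hi⟩ := Opens.mem_iSup.1 (hU.ge (show pullback.fst (terminal.from X) (terminal.from X) z ∈ (⊤ : X.Opens) from trivial))
  obtain ⟨j, hj⟩ := Opens.mem_iSup.1 (hU.ge (show pullback.snd (terminal.from X) (terminal.from X) z ∈ (⊤ : X.Opens) from trivial))
  exact Opens.mem_iSup.2 ⟨(i, j), hi, hj⟩

/-- affine diagonal from an affine cover with affine pairwise intersections -/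
theorem isAffineHom_diagonal {ι : Type*} (U : ι → X.Opens) (hU : iSup U = ⊤) (hA : ∀ i, IsAffineOpen (U i))
    (hI : ∀ i j, IsAffineOpen (U i ⊓ U j)) : IsAffineHom (pullback.diagonal (terminal.from X)) := by
  refine isAffineHom_of_forall_exists_isAffineOpen _ fun z => ?_
  obtain ⟨p, hp⟩ := Opens.mem_iSup.1 ((iSup_box U hU).ge (show z ∈ (⊤ : (XX X).Opens) from trivial))
  exact ⟨_, hp, isAffineOpen_box (hA p.1) (hA p.2), by rw [diagonal_box]; exact hI p.1 p.2⟩

theorem appLE_surjective {A B : Scheme.{u}} (f : A ⟶ B) {U : B.Opens} (h : Function.Surjective (f.app U))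
    {U' : B.Opens} {V : A.Opens} (hU : U' = U) (hV : V = f ⁻¹ᵁ U') (e : V ≤ f ⁻¹ᵁ U') :
    Function.Surjective (f.appLE U' V e) := by
  subst hV
  subst hU
  rw [Scheme.Hom.app_eq_appLE] at h
  exact h

/-- separatedness from an affine cover with surjective multiplication maps -/
theorem isSeparated_of_cover {ι : Type*} (U : ι → X.Opens) (hU : iSup U = ⊤) (hA : ∀ i, IsAffineOpen (U i))
    (hI : ∀ i j, IsAffineOpen (U i ⊓ U j))
    (hS : ∀ i j (g : Γ(X, U i ⊓ U j)), ∃ (a : Γ(X, U i)) (b : Γ(X, U j)),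
      resO inf_le_left a * resO inf_le_right b = g) : X.IsSeparated := by
  rw [Scheme.isSeparated_iff, AlgebraicGeometry.isSeparated_iff]
  show IsClosedImmersion (pullback.diagonal (terminal.from X))
  rw [HasAffineProperty.iff_of_iSup_eq_top (P := @IsClosedImmersion)
    (fun p : ι × ι => (⟨box (U p.1) (U p.2), isAffineOpen_box (hA p.1) (hA p.2)⟩ : (XX X).affineOpens)) (iSup_box U hU)]
  rintro ⟨i, j⟩
  refine ⟨(show IsAffineOpen (pullback.diagonal (terminal.from X) ⁻¹ᵁ box (U i) (U j)) by rw [diagonal_box]; exact hI i j), ?_⟩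
  rw [Scheme.Hom.appTop, morphismRestrict_app']
  refine appLE_surjective _ ?_ (image_ι_top _) (image_morphismRestrict_preimage _ _ _) _
  intro g
  let Δ := pullback.diagonal (terminal.from X)
  let B := box (U i) (U j)
  obtain ⟨a, b, hab⟩ := hS i j (resO (diagonal_box (U i) (U j)).ge g)
  let A₁ : Γ(XX X, B) := (pullback.fst (terminal.from X) (terminal.from X)).appLE (U i) B inf_le_left a
  let A₂ : Γ(XX X, B) := (pullback.snd (terminal.from X) (terminal.from X)).appLE (U j) B inf_le_right b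
  have key : ∀ (p : XX X ⟶ X) (hp : Δ ≫ p = 𝟙 X) (W : X.Opens) (hW : B ≤ p ⁻¹ᵁ W) (c : Γ(X, W))
      (h : Δ ⁻¹ᵁ B ≤ W), Δ.app B (p.appLE W B hW c) = resO h c := by
    intro p hp W hW c h
    rw [Scheme.Hom.app_eq_appLE, ← ConcreteCategory.comp_apply, Scheme.Hom.appLE_comp_appLE]
    have : ∀ (q : X ⟶ X) (hq : q = 𝟙 X) (e : Δ ⁻¹ᵁ B ≤ q ⁻¹ᵁ W), q.appLE W (Δ ⁻¹ᵁ B) e c = resO h c := by
      intro q hq e; subst hq; simp [Scheme.Hom.appLE]; rfl
    exact this _ hp _
  refine ⟨A₁ * A₂, ?_⟩
  have hle := (diagonal_box (U i) (U j)).le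
  rw [map_mul, key _ (pullback.diagonal_fst _) _ inf_le_left a (hle.trans inf_le_left),
    key _ (pullback.diagonal_snd _) _ inf_le_right b (hle.trans inf_le_right)]
  have := congrArg (resO hle) hab
  simp only [resO, map_mul] at this
  simp only [← ConcreteCategory.comp_apply, ← X.presheaf.map_comp, ← op_comp, homOfLE_comp] at this
  exact this.trans (resO_self le_rfl g)

theorem mul_surjective {M : X.Modules} (s t : Coh.structureModule X ⟶ M)
    (hs : IsAffineOpen (CohB1.genLocus M s)) (g : Γ(X, CohB1.genLocus M s ⊓ CohB1.genLocus M t)) :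
    ∃ (a : Γ(X, CohB1.genLocus M s)) (b : Γ(X, CohB1.genLocus M t)),
      resO inf_le_left a * resO inf_le_right b = g := by
  generalize hU : CohB1.genLocus M s = U at hs g
  generalize hV : CohB1.genLocus M t = V at g
  have hgs : GenOn M U (SecTwist.val s U) := LAmple.genOn_val s hU.ge
  have hgt : GenOn M V (SecTwist.val t V) := LAmple.genOn_val t hV.ge
  let f := coeff hgs (SecTwist.val t U : Γ(M, U))
  have hf : f • (SecTwist.val s U : Γ(M, U)) = (SecTwist.val t U : Γ(M, U)) := coeff_spec hgs _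
  let h := coeff hgt (SecTwist.val s V : Γ(M, V))
  have hh : h • (SecTwist.val t V : Γ(M, V)) = (SecTwist.val s V : Γ(M, V)) := coeff_spec hgt _
  have hD : X.basicOpen f = U ⊓ V := (genLocus_inf hgs t hf).symm.trans (by rw [hV, inf_comm])
  obtain ⟨N, a, ha⟩ := (exists_pow_of_affine hs (Coh.structureModule X) f).1 (resO hD.le g)
  refine ⟨(show Γ(X, U) from a), h ^ N, ?_⟩
  have hfh : resO (inf_le_left : U ⊓ V ≤ U) f * resO (inf_le_right : U ⊓ V ≤ V) h = 1 := by
    refine (hgs.mono (inf_le_left : U ⊓ V ≤ U) _ le_rfl).1 ?_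
    show (_ * _) • res M le_rfl (res M inf_le_left _) = 1 • res M le_rfl (res M inf_le_left _)
    have e1 : ∀ (u : Coh.structureModule X ⟶ M) {W W' : X.Opens} (hle : W' ≤ W),
        res M hle (SecTwist.val u W : Γ(M, W)) = SecTwist.val u W' := fun u _ _ hle => SecTwist.map_val u (homOfLE hle)
    rw [one_smul, mul_comm, mul_smul, res_res, e1]
    have hf' : resO (inf_le_left : U ⊓ V ≤ U) f • (SecTwist.val s (U ⊓ V) : Γ(M, U ⊓ V)) = SecTwist.val t (U ⊓ V) :=
      (congrArg (resO (inf_le_left : U ⊓ V ≤ U) f • ·) (e1 s (inf_le_left : U ⊓ V ≤ U)).symm).trans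
        ((res_smul M inf_le_left f (SecTwist.val s U : Γ(M, U))).symm.trans
          ((congrArg (res M inf_le_left) hf).trans (e1 t inf_le_left)))
    have hh' : resO (inf_le_right : U ⊓ V ≤ V) h • (SecTwist.val t (U ⊓ V) : Γ(M, U ⊓ V)) = SecTwist.val s (U ⊓ V) :=
      (congrArg (resO (inf_le_right : U ⊓ V ≤ V) h • ·) (e1 t (inf_le_right : U ⊓ V ≤ V)).symm).trans
        ((res_smul M inf_le_right h (SecTwist.val t V : Γ(M, V))).symm.trans
          ((congrArg (res M inf_le_right) hh).trans (e1 s inf_le_right)))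
    exact (congrArg (resO (inf_le_right : U ⊓ V ≤ V) h • ·) hf').trans hh'
  have ha' := congrArg (res (Coh.structureModule X) hD.ge) ha
  have ha'' : resO (inf_le_left : U ⊓ V ≤ U) (show Γ(X, U) from a) =
      resO (inf_le_left : U ⊓ V ≤ U) f ^ N * g := by
    have := congrArg (resO hD.ge) (show resO (basicOpen_le_open f) (show Γ(X, U) from a) =
      resO (basicOpen_le_open f) (f ^ N) * resO hD.le g from ha)
    rw [resO_resO] at this
    simp only [resO, map_mul] at this
    simp only [← ConcreteCategory.comp_apply, ← X.presheaf.map_comp, ← op_comp, homOfLE_comp] at this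
    refine this.trans (congrArg₂ (· * ·) ?_ (resO_self le_rfl g))
    simp only [resO, map_pow]
  rw [ha'']
  simp only [resO, map_pow]
  rw [mul_right_comm, ← mul_pow]
  erw [hfh]
  rw [one_pow, one_mul]

theorem isSeparated {L : X.Modules} (hL : PicF.IsInvertible L)
    (h : ∀ x : X, ∃ (n : ℕ) (s : Coh.structureModule X ⟶ CohB1.tensorPow L (n + 1)),
      x ∈ CohB1.genLocus _ s ∧ IsAffineOpen (CohB1.genLocus _ s)) : X.IsSeparated := by
  choose n s hs ha using h
  refine isSeparated_of_cover (fun x => CohB1.genLocus _ (s x))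
    (eq_top_iff.2 fun x _ => Opens.mem_iSup.2 ⟨x, hs x⟩) ha
    (fun x y => by rw [inf_comm]; exact LAmple.isAffineOpen_genLocus_inf (isInvertible_tensorPow hL _) _ (ha x)) fun x y => ?_
  obtain ⟨s', hs'⟩ := LAmple.exists_pow_section (isInvertible_tensorPow hL (n x + 1)) (s x) (n y)
  obtain ⟨t', ht'⟩ := LAmple.exists_pow_section (isInvertible_tensorPow hL (n y + 1)) (s y) (n x)
  obtain ⟨e⟩ := LAmple.tensorPow_mul L (n x + 1) (n y + 1)
  obtain ⟨e'⟩ := LAmple.tensorPow_mul L (n y + 1) (n x + 1)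
  have hx : CohB1.genLocus _ (s' ≫ e.hom) = CohB1.genLocus _ (s x) := by rw [genLocus_comp_iso, hs']
  have hy : CohB1.genLocus _ (t' ≫ (e' ≪≫ eqToIso (congrArg (CohB1.tensorPow L) (mul_comm _ _))).hom) =
      CohB1.genLocus _ (s y) := by rw [genLocus_comp_iso, ht']
  have := mul_surjective (s' ≫ e.hom) (t' ≫ (e' ≪≫ eqToIso (congrArg (CohB1.tensorPow L) (mul_comm _ _))).hom)
    (by rw [hx]; exact ha x)
  rw [hx, hy] at this
  exact this

theorem isSeparated_hom {L : X.Modules} (f : X ⟶ S) (hL : RelAmple.IsRelAmple f L) : IsSeparated f := by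
  refine (IsZariskiLocalAtTarget.iff_of_iSup_eq_top (P := @IsSeparated) (fun V : S.affineOpens => V.1)
    (iSup_affineOpens_eq_top S)).2 fun V => ?_
  haveI : (f ⁻¹ᵁ V.1).toScheme.IsSeparated := isSeparated (hL.2 V).1 (hL.2 V).2.2
  haveI : IsSeparated ((f ∣_ V.1) ≫ terminal.from _) := by
    rw [Subsingleton.elim ((f ∣_ V.1) ≫ terminal.from _) (terminal.from _)]
    exact Scheme.IsSeparated.isSeparated_terminal_from
  exact IsSeparated.of_comp (f ∣_ V.1) (terminal.from _)

end Groth.Agent.LAmpleSep
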