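import Groth.Agent.Lib.LAmple
import Groth.Prelude.Def_LCI2
import Mathlib

/-! Ampleness on quasi-affine schemes, locality on the base. -/

set_option autoImplicit false
universe u
open CategoryTheory Limits AlgebraicGeometry Opposite TopologicalSpace

namespace Groth.Agent.LAmple

open Groth.Agent.LQcoh Groth.Agent.LInv

variable {X Y : Scheme.{u}} {L : X.Modules}

theorem genLocus_fun (s : Coh.structureModule X ⟶ Coh.structureModule X) :
    CohB1.genLocus _ s = X.basicOpen (show Γ(X, ⊤) from SecTwist.val s ⊤) :=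
  (inf_top_eq _).symm.trans (genLocus_inf (genOn_structureModule X) s
    (f := show Γ(X, ⊤) from SecTwist.val s ⊤) (mul_one (show Γ(X, ⊤) from SecTwist.val s ⊤)))

theorem genLocus_homTop_fun (g : Γ(X, ⊤)) :
    CohB1.genLocus _ (homTop (L := Coh.structureModule X) g) = X.basicOpen g := by
  rw [genLocus_fun]
  exact congrArg X.basicOpen ((val_homTop (L := Coh.structureModule X) g ⊤).trans (resO_self le_rfl g))

theorem eq_of_inf_eq_on {A B D : X.Opens} (hA : A ≤ D) (hB : B ≤ D)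
    (h : ∀ x ∈ D, ∃ U : X.Opens, x ∈ U ∧ A ⊓ U = B ⊓ U) : A = B :=
  le_antisymm (fun x hx => let ⟨_, hU, e⟩ := h x (hA hx); (e.le ⟨hx, hU⟩).1)
    (fun x hx => let ⟨_, hU, e⟩ := h x (hB hx); (e.ge ⟨hx, hU⟩).1)

theorem image_genLocus_inf {D V : X.Opens} {τ : Γ(L, V)} (hτ : GenOn L V τ) (hVD : V ≤ D)
    (s : Coh.structureModule D.toScheme ⟶ L.restrict D.ι) (c : Γ(X, V))
    (hc : c • τ = res L (hVD.trans (image_ι_top D).ge) (SecTwist.val s ⊤ : Γ(L, D.ι ''ᵁ ⊤))) :
    D.ι ''ᵁ CohB1.genLocus _ s ⊓ V = X.basicOpen c := by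
  have hV := image_ι_preimage hVD
  let c' : Γ(X, D.ι ''ᵁ (D.ι ⁻¹ᵁ V)) := resO hV.le c
  have hf : (D.ι.appIso _).hom c' • (show Γ(L.restrict D.ι, D.ι ⁻¹ᵁ V) from res L (D.ι.image_preimage_le V) τ) =
      (SecTwist.val s (D.ι ⁻¹ᵁ V) : Γ(L.restrict D.ι, D.ι ⁻¹ᵁ V)) := by
    rw [← SecTwist.map_val s (homOfLE (le_top : D.ι ⁻¹ᵁ V ≤ ⊤))]
    refine (congrArg (fun r : Γ(X, D.ι ''ᵁ (D.ι ⁻¹ᵁ V)) => r • res L (D.ι.image_preimage_le V) τ)
      ((D.ι.appIso _).hom_inv_id_apply c')).trans ?_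
    refine (res_smul L hV.le c τ).symm.trans ((congrArg (res L hV.le) hc).trans ?_)
    exact res_res L _ _ _
  have h1 := congrArg (D.ι ''ᵁ ·) (genLocus_inf (genOn_restrict D.ι hτ) s hf)
  have h2 : D.ι ''ᵁ D.toScheme.basicOpen ((D.ι.appIso _).hom c') = X.basicOpen c := by
    rw [Scheme.image_basicOpen]
    refine (congrArg X.basicOpen ((D.ι.appIso _).hom_inv_id_apply c')).trans ?_
    exact (Scheme.basicOpen_res X c _).trans (inf_eq_right.2 (by rw [hV]; exact X.basicOpen_le c))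
  refine Eq.trans ?_ (h1.trans h2)
  rw [← hV]
  refine Opens.ext (Eq.trans ?_ (Set.image_inter D.ι.isOpenEmbedding.injective).symm)
  rw [hV]
  exact congrArg (fun S : Set X => (D.ι ''ᵁ CohB1.genLocus _ s : Set X) ∩ S) (congrArg SetLike.coe hV).symm

/-- sections of an invertible module over `D(g)` extend up to their locus -/
theorem exists_extend_fun [CompactSpace X] [QuasiSeparatedSpace X] (hM : PicF.IsInvertible L) (g : Γ(X, ⊤))
    (s : Coh.structureModule (X.basicOpen g).toScheme ⟶ L.restrict (X.basicOpen g).ι) :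
    ∃ t : Coh.structureModule X ⟶ L, CohB1.genLocus L t = (X.basicOpen g).ι ''ᵁ CohB1.genLocus _ s := by
  haveI := isQuasicoherent_of_isInvertible hM
  obtain ⟨N, y, hy⟩ := (locAt_of_qcqs L (W := ⊤) isCompact_univ
    (fun A B hA hB _ _ => QuasiSeparatedSpace.inter_isCompact _ _ A.2 hA.isCompact B.2 hB.isCompact) g).1
    (res L (image_ι_top (X.basicOpen g)).ge (SecTwist.val s ⊤ : Γ(L, (X.basicOpen g).ι ''ᵁ ⊤)))
  refine ⟨SecTwist.tmulHom (homTop y) (homTop (L := Coh.structureModule X) g) ≫ (SecTwist.unitorR L).hom, ?_⟩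
  rw [genLocus_comp_iso, genLocus_tmulHom hM (isInvertible_structureModule X), genLocus_homTop_fun]
  refine eq_of_inf_eq_on inf_le_right ((X.basicOpen g).ι_image_le _) fun x hx => ?_
  obtain ⟨V, τ, hxV, hVD, -, hτ⟩ := exists_affine_gen hM (V := X.basicOpen g) hx
  refine ⟨V, hxV, ?_⟩
  let σ := res L (hVD.trans (image_ι_top (X.basicOpen g)).ge) (SecTwist.val s ⊤ : Γ(L, (X.basicOpen g).ι ''ᵁ ⊤))
  have hc : coeff hτ σ • τ = σ := coeff_spec hτ σ
  rw [image_genLocus_inf hτ hVD s _ hc, inf_assoc, inf_eq_right.2 hVD,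
    genLocus_inf hτ (homTop y) (f := resO (hVD.trans le_top) (g ^ N) * coeff hτ σ) ?_, X.basicOpen_mul,
    inf_eq_right]
  · refine (X.basicOpen_le _).trans (le_of_eq ?_)
    refine (X.basicOpen_of_isUnit ?_).symm
    rw [← resO_resO (basicOpen_le_open g) hVD]
    refine IsUnit.map (X.presheaf.map (homOfLE hVD).op).hom ?_
    rw [resO, map_pow]
    exact (LQcoh.isUnit_resO ⊤ g).pow N
  · rw [mul_smul, hc, val_homTop, ← resO_resO (basicOpen_le_open g) hVD]
    have := congrArg (res L hVD) hy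
    rw [res_res, res_smul, res_res] at this
    exact this.symm

theorem isAmple_structureModule [X.IsQuasiAffine] : CohB1.IsAmple (Coh.structureModule X) := by
  refine ⟨isInvertible_structureModule X, inferInstance, fun x => ?_⟩
  obtain ⟨_, ⟨_, ⟨r, hr, rfl⟩, rfl⟩, hxr, -⟩ := (Scheme.IsQuasiAffine.isBasis_basicOpen X).exists_subset_of_mem_open
    (Set.mem_univ x) isOpen_univ
  obtain ⟨t, ht⟩ := exists_pow_section (isInvertible_structureModule X) (homTop (L := Coh.structureModule X) r) 0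
  refine ⟨0, t, ?_⟩
  rw [ht, genLocus_homTop_fun]
  exact ⟨hxr, hr⟩

/-- ampleness from ampleness on `D(g)`'s -/
theorem isAmple_of_functions [CompactSpace X] [QuasiSeparatedSpace X] (hL : PicF.IsInvertible L)
    (h : ∀ x : X, ∃ g : Γ(X, ⊤), x ∈ X.basicOpen g ∧ CohB1.IsAmple (L.restrict (X.basicOpen g).ι)) :
    CohB1.IsAmple L := by
  refine ⟨hL, inferInstance, fun x => ?_⟩
  obtain ⟨g, hxg, hg⟩ := h x
  obtain ⟨n, s, hs, ha⟩ := hg.2.2 ⟨x, hxg⟩
  obtain ⟨e⟩ := restrictPow (X.basicOpen g).ι L (n + 1)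
  obtain ⟨t, ht⟩ := exists_extend_fun (isInvertible_tensorPow hL (n + 1)) g (s ≫ e.inv)
  refine ⟨n, t, ?_⟩
  rw [ht, ← Iso.symm_hom, genLocus_comp_iso]
  exact ⟨⟨⟨x, hxg⟩, hs, rfl⟩, (Scheme.Hom.isAffineOpen_iff_of_isOpenImmersion _).2 ha⟩

/-- on a quasi-affine scheme all invertible modules are ample -/
theorem isAmple_of_quasiAffine [X.IsQuasiAffine] (hL : PicF.IsInvertible L) : CohB1.IsAmple L := by
  refine isAmple_of_functions hL fun x => ?_
  obtain ⟨U, σ, hxU, hσ⟩ := (isInvertible_iff L).1 hL x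
  obtain ⟨_, ⟨_, ⟨r, hr, rfl⟩, rfl⟩, hxr, hrU⟩ := (Scheme.IsQuasiAffine.isBasis_basicOpen X).exists_subset_of_mem_open
    (show x ∈ (U : Set X) from hxU) U.2
  haveI : IsAffine (X.basicOpen r).toScheme := hr
  exact ⟨r, hxr, isAmple_of_iso (iso (hσ.mono hrU)).symm isAmple_structureModule⟩

theorem isQuasiAffine_of_ample (h : CohB1.IsAmple (Coh.structureModule X)) : X.IsQuasiAffine := by
  haveI := h.2.1
  have : ∀ n, Nonempty (CohB1.tensorPow (Coh.structureModule X) n ≅ Coh.structureModule X) := fun n => by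
    induction n with
    | zero => exact ⟨Iso.refl _⟩
    | succ n ih => exact ⟨SecTwist.unitorR _ ≪≫ ih.some⟩
  refine Scheme.IsQuasiAffine.of_forall_exists_mem_basicOpen X fun x => ?_
  obtain ⟨n, s, hs, ha⟩ := h.2.2 x
  rw [← genLocus_comp_iso (this (n + 1)).some s, genLocus_fun] at hs ha
  exact ⟨_, ha, hs⟩

theorem isQuasiAffine_iff : X.IsQuasiAffine ↔ CohB1.IsAmple (Coh.structureModule X) :=
  ⟨fun _ => isAmple_structureModule, isQuasiAffine_of_ample⟩

/-- ampleness passes along open immersions factoring through each other -/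
theorem isAmple_factor {A B : Scheme.{u}} (j₁ : A ⟶ X) (j₂ : B ⟶ X) [IsOpenImmersion j₁] [IsOpenImmersion j₂]
    [CompactSpace A] (hle : j₁.opensRange ≤ j₂.opensRange) (h : CohB1.IsAmple (L.restrict j₂)) :
    CohB1.IsAmple (L.restrict j₁) := by
  let k := IsOpenImmersion.lift j₂ j₁ hle
  have hk : k ≫ j₂ = j₁ := IsOpenImmersion.lift_fac _ _ _
  haveI : IsOpenImmersion (k ≫ j₂) := by rw [hk]; infer_instance
  haveI : IsOpenImmersion k := IsOpenImmersion.of_comp k j₂
  exact isAmple_of_iso (((Scheme.Modules.restrictFunctorComp k j₂).symm ≪≫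
    Scheme.Modules.restrictFunctorCongr hk).app L) (isAmple_restrict k h)

theorem isAmple_of_range {A : Scheme.{u}} (j : A ⟶ X) [IsOpenImmersion j] [CompactSpace X]
    (hj : j.opensRange = ⊤) (h : CohB1.IsAmple (L.restrict j)) : CohB1.IsAmple L :=
  isAmple_of_iso (Scheme.Modules.restrictFunctorId.app L)
    (isAmple_factor (𝟙 X) j (by rw [hj]; exact le_top) h)

theorem isInvertible_of_restrict (h : ∀ x : X, ∃ U : X.Opens, x ∈ U ∧ PicF.IsInvertible (L.restrict U.ι)) :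
    PicF.IsInvertible L := by
  intro x
  obtain ⟨U, hx, hU⟩ := h x
  obtain ⟨V, hV, ⟨e⟩⟩ := hU ⟨x, hx⟩
  let W := U.ι ''ᵁ V
  have hW : W.ι.opensRange ≤ (V.ι ≫ U.ι).opensRange := by
    rw [Scheme.Opens.opensRange_ι, Scheme.Hom.opensRange_comp, Scheme.Opens.opensRange_ι]
  let k := IsOpenImmersion.lift (V.ι ≫ U.ι) W.ι hW
  have hk : k ≫ V.ι ≫ U.ι = W.ι := IsOpenImmersion.lift_fac _ _ _
  haveI : IsOpenImmersion (k ≫ V.ι ≫ U.ι) := by rw [hk]; infer_instance
  haveI : IsOpenImmersion k := IsOpenImmersion.of_comp k (V.ι ≫ U.ι)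
  exact ⟨W, ⟨⟨x, hx⟩, hV, rfl⟩, ⟨((Scheme.Modules.restrictFunctorCongr hk.symm ≪≫
    Scheme.Modules.restrictFunctorComp k (V.ι ≫ U.ι) ≪≫
    Functor.isoWhiskerRight (Scheme.Modules.restrictFunctorComp V.ι U.ι) _).app L) ≪≫
    (Scheme.Modules.restrictFunctor k).mapIso e ≪≫ Scheme.Modules.restrictUnitIso k⟩⟩

theorem compact_preimage (f : X ⟶ Y) [QuasiCompact f] {W : Y.Opens} (hW : IsAffineOpen W) :
    CompactSpace (f ⁻¹ᵁ W).toScheme :=
  isCompact_iff_compactSpace.mp (f.isCompact_preimage hW.isCompact)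

/-- locality of ampleness on an affine base -/
theorem isAmple_preimage (f : X ⟶ Y) [QuasiCompact f] {V : Y.Opens} (hV : IsAffineOpen V)
    (h : ∀ y ∈ V, ∃ W : Y.Opens, y ∈ W ∧ CohB1.IsAmple (L.restrict (f ⁻¹ᵁ W).ι)) :
    CohB1.IsAmple (L.restrict (f ⁻¹ᵁ V).ι) := by
  let P := f ⁻¹ᵁ V
  haveI : CompactSpace P.toScheme := compact_preimage f hV
  have hg : ∀ x : P, ∃ g : Γ(P.toScheme, ⊤), x ∈ P.toScheme.basicOpen g ∧
      CohB1.IsAmple ((L.restrict P.ι).restrict (P.toScheme.basicOpen g).ι) := by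
    intro x
    obtain ⟨W, hxW, hW⟩ := h (f x.1) x.2
    obtain ⟨g, hgW, hxg⟩ := hV.exists_basicOpen_le (V := W) ⟨f x.1, hxW⟩ x.2
    let g' : Γ(P.toScheme, ⊤) := (P.ι.appIso ⊤).hom (resO (image_ι_top P).le (f.app V g))
    have hD : P.ι ''ᵁ P.toScheme.basicOpen g' = f ⁻¹ᵁ Y.basicOpen g := by
      rw [Scheme.image_basicOpen]
      refine (congrArg X.basicOpen ((P.ι.appIso ⊤).hom_inv_id_apply _)).trans ?_
      refine (Scheme.basicOpen_res X _ _).trans ?_
      rw [f.preimage_basicOpen g, inf_eq_right]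
      exact (X.basicOpen_le _).trans (image_ι_top P).ge
    refine ⟨g', ?_, ?_⟩
    · obtain ⟨z, hz, hzx⟩ := hD.ge (show x.1 ∈ f ⁻¹ᵁ Y.basicOpen g from hxg)
      exact (P.ι.isOpenEmbedding.injective hzx) ▸ hz
    · haveI : CompactSpace (P.toScheme.basicOpen g').toScheme := by
        refine isCompact_iff_compactSpace.mp (P.ι.isOpenEmbedding.isInducing.isCompact_iff.2 ?_)
        show IsCompact ((P.ι ''ᵁ P.toScheme.basicOpen g' : X.Opens) : Set X)
        rw [hD]
        exact f.isCompact_preimage (hV.basicOpen g).isCompact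
      refine isAmple_of_iso ((Scheme.Modules.restrictFunctorComp _ P.ι).app L) ?_
      refine isAmple_factor _ (f ⁻¹ᵁ W).ι ?_ hW
      rw [Scheme.Opens.opensRange_ι, Scheme.Hom.opensRange_comp, Scheme.Opens.opensRange_ι, hD]
      exact f.preimage_mono hgW
  have hinv : PicF.IsInvertible (L.restrict P.ι) :=
    isInvertible_of_restrict fun x => let ⟨_, hx, ha⟩ := hg x; ⟨_, hx, ha.1⟩
  choose g hxg hga using hg
  haveI : QuasiSeparatedSpace P.toScheme := .of_isOpenCover (U := fun x : P => P.toScheme.basicOpen (g x))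
    (eq_top_iff.mpr fun x _ => Opens.mem_iSup.mpr ⟨x, hxg x⟩)
    (fun x => isRetrocompact_basicOpen (g x))
    (fun x => (isQuasiSeparated_iff_quasiSeparatedSpace _ (P.toScheme.basicOpen (g x)).2).2 (qs_of_ample (hga x)))
  exact isAmple_of_functions hinv fun x => ⟨g x, hxg x, hga x⟩

theorem isRelAmple_of_isAffine [IsAffine Y] (f : X ⟶ Y) [QuasiCompact f] :
    RelAmple.IsRelAmple f L ↔ CohB1.IsAmple L := by
  haveI : CompactSpace X := QuasiCompact.compactSpace_of_compactSpace f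
  constructor
  · intro h
    exact isAmple_of_range (f ⁻¹ᵁ (⊤ : Y.Opens)).ι (Scheme.Opens.opensRange_ι _) (h.2 ⟨⊤, isAffineOpen_top Y⟩)
  · intro h
    refine ⟨inferInstance, fun V => ?_⟩
    haveI := compact_preimage f V.2
    exact isAmple_restrict _ h

end Groth.Agent.LAmple
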