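import Groth.Agent.Lib.LCoh
import Groth.Agent.Lib.LSerre

set_option autoImplicit false
universe u

open CategoryTheory Limits TopologicalSpace Opposite AlgebraicGeometry

namespace Groth.Agent.LNoethObj

open Groth.Agent.LQcoh

variable {X : Scheme.{u}}

/-- surjectivity on the sections over an affine covering implies epi -/
theorem epi_of_surjective_cover {M N : X.Modules} [N.IsQuasicoherent] (φ : M ⟶ N) {ι : Type*}
    (V : ι → X.Opens) (hV : ∀ i, IsAffineOpen (V i)) (hcov : iSup V = ⊤)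
    (h : ∀ i, Function.Surjective (φ.app (V i))) : Epi φ := by
  refine LSerre.epi_of_locally_surjective φ fun U s x hx => ?_
  obtain ⟨i, hi⟩ := Opens.mem_iSup.1 (hcov.ge (Set.mem_univ x : x ∈ (⊤ : X.Opens)))
  obtain ⟨g, hg, hxg⟩ := (hV i).exists_basicOpen_le (V := U ⊓ V i) ⟨x, hx, hi⟩ hi
  have hgU : X.basicOpen g ≤ U := hg.trans inf_le_left
  obtain ⟨N', y, hy⟩ := (exists_pow_of_affine (hV i) N g).1 (res N hgU s)
  obtain ⟨t, rfl⟩ := h i y
  obtain ⟨b, hb⟩ : IsUnit (resO (basicOpen_le_open g) (g ^ N')) := by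
    rw [resO, map_pow]; exact (isUnit_resO (V i) g).pow N'
  refine ⟨X.basicOpen g, hgU, hxg,
    (↑b⁻¹ : Γ(X, X.basicOpen g)) • res M (basicOpen_le_open g) t, ?_⟩
  have hn : φ.app (X.basicOpen g) (res M (basicOpen_le_open g) t) =
      res N (basicOpen_le_open g) (φ.app (V i) t) :=
    NatTrans.naturality_apply ((toShf X).map φ).hom (homOfLE (basicOpen_le_open g)).op t
  rw [Scheme.Modules.Hom.app_smul, hn, hy, ← hb, smul_smul, Units.inv_mul, one_smul]

theorem exists_stable [IsNoetherian X] (M : X.Modules) (hM : Coh.IsCoh M) (F : ℕ →o Subobject M)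
    (hF : ∀ n, ((F n : Subobject M) : X.Modules).IsQuasicoherent) :
    ∃ n : ℕ, ∀ m : ℕ, n ≤ m → F m = F n := by
  obtain ⟨ι, hι, A, hA, hcov⟩ := exists_affine_cover (⊤ : X.Opens) CompactSpace.isCompact_univ
  have hfin : ∀ i, IsNoetherian Γ(X, A i) Γ(M, A i) := fun i => by
    haveI : IsNoetherianRing Γ(X, A i) := IsLocallyNoetherian.component_noetherian ⟨A i, hA i⟩
    haveI := ((isCoh_iff_finite M).1 hM).2 (A i) (hA i)
    infer_instance
  let R : ∀ i, ℕ →o Submodule Γ(X, A i) Γ(M, A i) := fun i =>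
    { toFun := fun n => LinearMap.range (appLin (F n).arrow (A i))
      monotone' := fun n m hnm => by
        rintro _ ⟨a, rfl⟩
        refine ⟨(Subobject.ofLE _ _ (F.monotone hnm)).app (A i) a, ?_⟩
        exact congrArg (fun φ => Scheme.Modules.Hom.app φ (A i) a) (Subobject.ofLE_arrow (F.monotone hnm)) }
  choose n hn using fun i => monotone_stabilizes_iff_noetherian.2 (hfin i) (R i)
  obtain ⟨K, hK⟩ := Finite.exists_le n
  refine ⟨K, fun m hm => ?_⟩
  let j := Subobject.ofLE _ _ (F.monotone hm)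
  haveI := hF m
  haveI : Epi j := by
    refine epi_of_surjective_cover j A hA hcov fun i a => ?_
    have h1 : appLin (F m).arrow (A i) a ∈ R i K := by
      rw [← hn i K (hK i), hn i m ((hK i).trans hm)]
      exact ⟨a, rfl⟩
    obtain ⟨b, hb⟩ := h1
    refine ⟨b, LCech.app_injective (X := X.toTopCat) ((toShf X).map (F m).arrow) (A i) ?_⟩
    exact (congrArg (fun φ => Scheme.Modules.Hom.app φ (A i) b) (Subobject.ofLE_arrow (F.monotone hm))).trans hb
  haveI : IsIso j := isIso_of_mono_of_epi j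
  exact (Subobject.eq_of_comm (asIso j) (Subobject.ofLE_arrow _)).symm

end Groth.Agent.LNoethObj
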