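import Groth.Agent.Lib.LTwist
import Groth.Agent.Lib.LNoethObj
import Groth.Agent.Lib.LAmpleRel
import Groth.Prelude.Def_Curv2
import Mathlib

/-! Global generation of twists by powers of ample modules. -/

set_option autoImplicit false
universe u
open CategoryTheory Limits AlgebraicGeometry Opposite TopologicalSpace

namespace Groth.Agent.LGlobGen

open Groth.Agent.LQcoh Groth.Agent.LInv Groth.Agent.LTwist

variable {X : Scheme.{u}}

/-- the global sections generate over `U` -/
def SpanOn (G : X.Modules) (U : X.Opens) : Prop :=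
  Submodule.span Γ(X, U) (Set.range fun v : Γ(G, ⊤) => (res G (le_top : _ ≤ ⊤) v : Γ(G, U))) = ⊤

theorem SpanOn.of_iso {G G' : X.Modules} (e : G ≅ G') {U : X.Opens} (h : SpanOn G U) : SpanOn G' U := by
  rw [SpanOn, eq_top_iff]
  intro y _
  have hy : e.inv.app U y ∈ Submodule.span Γ(X, U) (Set.range fun v : Γ(G, ⊤) => res G (le_top : U ≤ ⊤) v) := h ▸ trivial
  have := Submodule.mem_map_of_mem (f := LQcoh.appLin e.hom U) hy
  rw [Submodule.map_span] at this
  have e0 : LQcoh.appLin e.hom U (e.inv.app U y) = y := congrArg (fun φ => Scheme.Modules.Hom.app φ U y) e.inv_hom_id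
  rw [e0] at this
  refine Submodule.span_mono ?_ this
  rintro _ ⟨_, ⟨v, rfl⟩, rfl⟩
  exact ⟨e.hom.app ⊤ v, (NatTrans.naturality_apply ((Scheme.Modules.toPresheaf _).map e.hom) (homOfLE (le_top (a := U))).op v).symm⟩

theorem SpanOn.basicOpen {G : X.Modules} [G.IsQuasicoherent] {U : X.Opens} (hU : IsAffineOpen U) (g : Γ(X, U))
    (h : SpanOn G U) : SpanOn G (X.basicOpen g) := by
  rw [SpanOn, eq_top_iff]
  intro c _
  let S := Submodule.span Γ(X, X.basicOpen g) (Set.range fun v : Γ(G, ⊤) => res G (le_top : X.basicOpen g ≤ ⊤) v)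
  let A : Submodule Γ(X, U) Γ(G, U) :=
    { carrier := {y | res G (basicOpen_le_open g) y ∈ S}
      zero_mem' := by
        show res G (basicOpen_le_open g) 0 ∈ S
        rw [res, map_zero]; exact S.zero_mem
      add_mem' := fun {a b} ha hb => by
        show res G (basicOpen_le_open g) (a + b) ∈ S
        rw [res, map_add]; exact S.add_mem ha hb
      smul_mem' := fun r a ha => by
        show res G (basicOpen_le_open g) (r • a) ∈ S
        rw [res_smul]; exact S.smul_mem _ ha }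
  have hA : Submodule.span Γ(X, U) (Set.range fun v : Γ(G, ⊤) => res G (le_top : U ≤ ⊤) v) ≤ A := by
    refine Submodule.span_le.2 ?_
    rintro _ ⟨v, rfl⟩
    show res G (basicOpen_le_open g) (res G (le_top : U ≤ ⊤) v) ∈ S
    exact Submodule.subset_span ⟨v, (res_res G le_top (basicOpen_le_open g) v).symm⟩
  obtain ⟨N, y, hy⟩ := (exists_pow_of_affine hU G g).1 c
  have hy' : res G (basicOpen_le_open g) y ∈ S := hA (h ▸ trivial)
  rw [hy] at hy'
  obtain ⟨u, hu⟩ : IsUnit (resO (basicOpen_le_open g) (g ^ N)) := by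
    rw [resO, map_pow]; exact (LQcoh.isUnit_resO U g).pow N
  have := S.smul_mem (↑u⁻¹ : Γ(X, X.basicOpen g)) hy'
  rwa [← hu, smul_smul, Units.inv_mul, one_smul] at this

theorem isGloballyGenerated {G : X.Modules} [G.IsQuasicoherent]
    (h : ∀ x : X, ∃ U : X.Opens, x ∈ U ∧ IsAffineOpen U ∧ SpanOn G U) : Curv2.IsGloballyGenerated G := by
  choose U hx hU hspan using h
  let p : (SheafOfModules.free (R := X.ringCatSheaf) Γ(G, ⊤) : X.Modules) ⟶ G :=
    (show (SheafOfModules.free (R := X.ringCatSheaf) Γ(G, ⊤)) ⟶ (G : SheafOfModules X.ringCatSheaf) from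
      G.freeHomEquiv.symm fun v => G.unitHomEquiv (LAmple.homTop v))
  refine ⟨_, p, LNoethObj.epi_of_surjective_cover p U hU (eq_top_iff.2 fun x _ => Opens.mem_iSup.2 ⟨x, hx x⟩) fun x y => ?_⟩
  have hrange : y ∈ LinearMap.range (LQcoh.appLin p (U x)) := by
    refine (Submodule.span_le.2 ?_) (show y ∈ Submodule.span Γ(X, U x) (Set.range fun v : Γ(G, ⊤) => res G (le_top : U x ≤ ⊤) v) from (hspan x).symm ▸ trivial)
    rintro _ ⟨v, rfl⟩
    refine ⟨Scheme.Modules.Hom.app (X := X) (M := Coh.structureModule X) (N := (SheafOfModules.free (R := X.ringCatSheaf) Γ(G, ⊤) : X.Modules)) (SheafOfModules.ιFree (R := X.ringCatSheaf) v) (U x) (1 : Γ(X, U x)), ?_⟩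
    have : (SheafOfModules.ιFree (R := X.ringCatSheaf) v) ≫ p = LAmple.homTop v := by
      apply G.unitHomEquiv.injective
      exact congrFun (G.freeHomEquiv.apply_symm_apply _) v
    refine (congrArg (fun (φ : Coh.structureModule X ⟶ G) => Scheme.Modules.Hom.app φ (U x) (1 : Γ(X, U x))) this).trans ?_
    exact LAmple.val_homTop v (U x)
  exact hrange

theorem isFT_tensor (F : X.Modules) [F.IsQuasicoherent] (hF : CohB1.IsFT F) {M : X.Modules}
    (hM : PicF.IsInvertible M) : CohB1.IsFT (CohB1.tensorMod F M) := by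
  haveI := isQuasicoherent_tensor F hM
  haveI : SheafOfModules.IsFiniteType (R := X.ringCatSheaf) F := hF
  choose U τ hx _ hU hτ using fun x : X => exists_affine_gen hM (V := ⊤) (x := x) trivial
  refine isFiniteType_of_finite _ U hU (eq_top_iff.2 fun x _ => Opens.mem_iSup.2 ⟨x, hx x⟩) fun x => ?_
  haveI := finite_sections F (hU x)
  let l : Γ(F, U x) →ₗ[Γ(X, U x)] Γ(CohB1.tensorMod F M, U x) :=
    { toFun := fun t => SecTwist.tmul F M (U x) t (res M le_rfl (τ x))
      map_add' := fun a b => LTensor.tmul_add_left F M _ a b _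
      map_smul' := fun r a => LTensor.tmul_smul_left F M _ r a _ }
  exact Module.Finite.of_surjective l (tmul_bijective F (hτ x) le_rfl).2

/-- twists of a finite type module are generated on an affine `X_s` -/
theorem exists_spanOn [CompactSpace X] [QuasiSeparatedSpace X] {M : X.Modules} (hM : PicF.IsInvertible M)
    (s : Coh.structureModule X ⟶ M) (hs : IsAffineOpen (CohB1.genLocus M s))
    (F : X.Modules) [F.IsQuasicoherent] (hF : CohB1.IsFT F) :
    ∃ N : ℕ, ∀ n, N ≤ n → SpanOn (CohB1.tensorMod F (CohB1.tensorPow M n)) (CohB1.genLocus M s) := by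
  haveI : SheafOfModules.IsFiniteType (R := X.ringCatSheaf) F := hF
  obtain ⟨S, hS⟩ := (finite_sections F hs).fg_top
  choose N hN using fun t : S => exists_twist_extend hM s F t.1
  obtain ⟨K, hK⟩ := Finite.exists_le N
  refine ⟨K, fun n hn => ?_⟩
  rw [SpanOn, eq_top_iff]
  intro y _
  let V := CohB1.genLocus M s
  let l : Γ(F, V) →ₗ[Γ(X, V)] Γ(CohB1.tensorMod F (CohB1.tensorPow M n), V) :=
    { toFun := fun t => SecTwist.twist s n F V t
      map_add' := fun a b => LTensor.tmul_add_left F _ _ a b _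
      map_smul' := fun r a => LTensor.tmul_smul_left F _ _ r a _ }
  have hl : Function.Surjective l := by
    have := (tmul_bijective F (LAmple.genOn_pow_val s le_rfl n) (le_refl V)).2
    intro z
    obtain ⟨t, ht⟩ := this z
    refine ⟨t, (congrArg (SecTwist.tmul F _ V t) ?_).trans ht⟩
    exact (LCech.rs_self (CohB1.tensorPow M n).presheaf (le_refl V) (SecTwist.pow s n V : Γ(CohB1.tensorPow M n, V))).symm
  obtain ⟨t, rfl⟩ := hl y
  have ht := Submodule.mem_map_of_mem (f := l) (show t ∈ Submodule.span Γ(X, V) (S : Set Γ(F, V)) from hS.symm ▸ trivial)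
  rw [Submodule.map_span] at ht
  refine Submodule.span_mono ?_ ht
  rintro _ ⟨t, htS, rfl⟩
  obtain ⟨t', ht'⟩ := hN ⟨t, htS⟩ n ((hK _).trans hn)
  exact ⟨t', ht'⟩

/-- high twists by an ample module are generated by global sections -/
theorem exists_bound {L : X.Modules} (hL : CohB1.IsAmple L) (F : X.Modules) [F.IsQuasicoherent] (hF : CohB1.IsFT F) :
    ∃ n₀ : ℕ, ∀ n, n₀ ≤ n → ∀ x : X, ∃ U : X.Opens, x ∈ U ∧ IsAffineOpen U ∧
      SpanOn (CohB1.tensorMod F (CohB1.tensorPow L n)) U := by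
  haveI := hL.2.1
  haveI := LAmple.qs_of_ample hL
  choose a s hs ha using hL.2.2
  obtain ⟨t, ht⟩ := isCompact_univ.elim_finite_subcover (fun x : X => (CohB1.genLocus _ (s x) : Set X))
    (fun x => (CohB1.genLocus _ (s x)).2) (fun x _ => Set.mem_iUnion.2 ⟨x, hs x⟩)
  have hLn := isInvertible_tensorPow hL.1
  choose N hN using fun p : (x : t) × Fin (a x.1 + 1) =>
    haveI := isQuasicoherent_tensor F (hLn p.2.1)
    exists_spanOn (hLn _) (s p.1.1) (ha p.1.1) (CohB1.tensorMod F (CohB1.tensorPow L p.2.1)) (isFT_tensor F hF (hLn _))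
  obtain ⟨K, hK⟩ := Finite.exists_le N
  obtain ⟨A, hA⟩ := Finite.exists_le fun x : t => a x.1 + 1
  refine ⟨A * (K + 1), fun n hn y => ?_⟩
  obtain ⟨x, hxt, hxy⟩ := Set.mem_iUnion₂.1 (ht (Set.mem_univ y))
  refine ⟨_, hxy, ha x, ?_⟩
  let q := n / (a x + 1)
  let r : Fin (a x + 1) := ⟨n % (a x + 1), Nat.mod_lt _ (Nat.succ_pos _)⟩
  have hq : K ≤ q := (Nat.le_div_iff_mul_le (Nat.succ_pos _)).2 (by
    calc K * (a x + 1) ≤ K * A := Nat.mul_le_mul_left K (hA ⟨x, hxt⟩)
      _ ≤ A * (K + 1) := by rw [mul_comm K A]; exact Nat.mul_le_mul_left A (Nat.le_succ K)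
      _ ≤ n := hn)
  obtain ⟨e₁⟩ := LAmple.tensorPow_mul L (a x + 1) q
  obtain ⟨e₂⟩ := LAmple.tensorPow_add L r.1 ((a x + 1) * q)
  obtain ⟨e₃⟩ := LTensor.assoc F (CohB1.tensorPow L r.1) (CohB1.tensorPow L ((a x + 1) * q))
  exact (hN ⟨⟨x, hxt⟩, r⟩ q ((hK _).trans hq)).of_iso
    (LTensor.mapIso (Iso.refl _) e₁ ≪≫ e₃ ≪≫
      LTensor.mapIso (Iso.refl F) (e₂ ≪≫ eqToIso (congrArg (CohB1.tensorPow L) (Nat.mod_add_div n (a x + 1)))))

theorem eventually_isGloballyGenerated {L : X.Modules} (hL : CohB1.IsAmple L) (F : X.Modules) [F.IsQuasicoherent]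
    (hF : CohB1.IsFT F) :
    ∃ n₀ : ℕ, ∀ n, n₀ ≤ n → Curv2.IsGloballyGenerated (CohB1.tensorMod F (CohB1.tensorPow L n)) := by
  obtain ⟨n₀, h⟩ := exists_bound hL F hF
  exact ⟨n₀, fun n hn =>
    haveI := isQuasicoherent_tensor F (isInvertible_tensorPow hL.1 n)
    isGloballyGenerated (h n hn)⟩

/-- a generated invertible module has a non-vanishing section at every point -/
theorem exists_section_gen {M : X.Modules} (hM : PicF.IsInvertible M) {x : X} {U : X.Opens} (hx : x ∈ U)
    (hU : IsAffineOpen U) (hspan : SpanOn M U) : ∃ v : Coh.structureModule X ⟶ M, x ∈ CohB1.genLocus M v := by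
  haveI := isQuasicoherent_of_isInvertible hM
  obtain ⟨V, τ, hxV, hVU, -, hτ⟩ := exists_affine_gen hM (V := U) hx
  obtain ⟨g, hg, hxg⟩ := hU.exists_basicOpen_le (V := V) ⟨x, hxV⟩ hx
  have hspan' := hspan.basicOpen hU g
  have hτ' := hτ.mono hg
  by_contra hne
  rw [not_exists] at hne
  let D := X.basicOpen g
  let I : Submodule Γ(X, D) Γ(M, D) :=
    { carrier := {y | ¬ IsUnit (X.presheaf.germ D x hxg (coeff hτ' y))}
      zero_mem' := by
        show ¬ IsUnit _
        rw [coeff_eq hτ' (zero_smul _ _), map_zero]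
        exact not_isUnit_zero
      add_mem' := fun {a b} ha hb => by
        show ¬ IsUnit _
        rw [coeff_eq hτ' ((add_smul _ _ _).trans (congrArg₂ (· + ·) (coeff_spec hτ' a) (coeff_spec hτ' b))), map_add]
        exact fun h => (IsLocalRing.isUnit_or_isUnit_of_isUnit_add h).elim ha hb
      smul_mem' := fun r a ha => by
        show ¬ IsUnit _
        rw [coeff_eq hτ' ((mul_smul r _ _).trans (congrArg (r • ·) (coeff_spec hτ' a))), map_mul]
        exact fun h => ha (isUnit_of_mul_isUnit_right h) }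
  have hmem : res M hg τ ∈ I := by
    refine (Submodule.span_le.2 ?_) (show res M hg τ ∈ Submodule.span Γ(X, D) (Set.range fun v : Γ(M, ⊤) => res M (le_top : D ≤ ⊤) v) from hspan'.symm ▸ trivial)
    rintro _ ⟨v, rfl⟩ hu
    refine hne (LAmple.homTop v) ((genLocus_inf hτ' (LAmple.homTop v) (f := coeff hτ' (res M (le_top : D ≤ ⊤) v)) ?_).ge
      ((Scheme.mem_basicOpen X _ x hxg).2 hu)).1
    exact (coeff_spec hτ' _).trans (LAmple.val_homTop v D).symm
  refine hmem ?_
  rw [coeff_eq hτ' (one_smul _ _), map_one]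
  exact isUnit_one

theorem eventually_ample_generated {L : X.Modules} (hL : CohB1.IsAmple L) {L' : X.Modules} (hL' : PicF.IsInvertible L') :
    ∃ n₀ : ℕ, 0 < n₀ ∧ ∀ n, n₀ ≤ n → CohB1.IsAmple (CohB1.tensorMod (CohB1.tensorPow L n) L') ∧
      Curv2.IsGloballyGenerated (CohB1.tensorMod (CohB1.tensorPow L n) L') := by
  haveI := isQuasicoherent_of_isInvertible hL'
  obtain ⟨n₀, h⟩ := exists_bound hL L' (isFT_of_isInvertible hL')
  refine ⟨n₀ + 1, Nat.succ_pos _, fun n hn => ⟨?_, ?_⟩⟩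
  · obtain ⟨d, rfl⟩ : ∃ d, n = (d + 1) + n₀ := ⟨n - n₀ - 1, by omega⟩
    have hG := isInvertible_tensorMod hL' (isInvertible_tensorPow hL.1 n₀)
    obtain ⟨e₁⟩ := LAmple.tensorPow_add L (d + 1) n₀
    obtain ⟨e₂⟩ := LTensor.assoc (CohB1.tensorPow L (d + 1)) (CohB1.tensorPow L n₀) L'
    refine LAmple.isAmple_of_iso (LTensor.mapIso (Iso.refl _) (LTensor.comm L' _) ≪≫ e₂.symm ≪≫ LTensor.mapIso e₁ (Iso.refl L'))
      (LAmple.isAmple_tensor ((LAmple.isAmple_tensorPow_iff hL.1 (Nat.succ_pos d)).2 hL) hG fun x => ?_)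
    obtain ⟨U, hx, hU, hs⟩ := h n₀ le_rfl x
    obtain ⟨v, hv⟩ := exists_section_gen hG hx hU hs
    exact ⟨0, v ≫ (LTensor.unitorL _).inv, (genLocus_comp_iso (LTensor.unitorL _).symm v).ge hv⟩
  · haveI := isQuasicoherent_of_isInvertible (isInvertible_tensorMod (isInvertible_tensorPow hL.1 n) hL')
    refine isGloballyGenerated fun x => ?_
    obtain ⟨U, hx, hU, hs⟩ := h n (Nat.le_of_succ_le hn) x
    exact ⟨U, hx, hU, hs.of_iso (LTensor.comm _ _)⟩

end Groth.Agent.LGlobGen
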