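import Groth.Prelude.Def_KRR
import Groth.Agent.Lib.H7LineNilp
import Groth.Agent.Lib.LGlobGen
import Groth.Agent.Lib.LAmpleSep
import Groth.Agent.Lib.H7LocFreeLocus
import Groth.Agent.Lib.H7PerfHom
import Groth.Agent.Lib.H7PerfCoh
import Groth.Agent.Lib.H7FPFlat
import Groth.Agent.Lib.H7FinFree
import Groth.Agent.Lib.H7DegLocus
import Mathlib

/-! Ample line bundles give ample line elements in K(X); nilpotency of the augmentation ideal. -/

set_option autoImplicit false
universe v u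
open CategoryTheory CategoryTheory.Limits AlgebraicGeometry TopologicalSpace

namespace Groth.Agent.H7KRRAmple
open Groth.Agent H7FinFree H7PerfPull H7LocFreeLocus LambdaRing

section Ring

variable {K : Type v} [CommRing K] [LambdaOps K] (P : PosStructure K)

open PowerSeries in
lemma lamSeries_trunc {e : K} (he : e ∈ P.pos) :
    lamSeries e = (((lamSeries e).trunc ((P.aug e).toNat + 1) : Polynomial K) : PowerSeries K) := by
  ext k
  rw [Polynomial.coeff_coe, PowerSeries.coeff_trunc]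
  split_ifs with hk
  · rfl
  · simp only [lamSeries, PowerSeries.coeff_mk]
    exact P.lam_eq_zero e he k (by omega)

theorem nilpotent_pos {e e' : K} {m : ℕ} (he : e ∈ P.pos) (he' : e' ∈ P.pos) (h : e + e' = m) :
    IsNilpotent (e - ((P.aug e).toNat : K)) := by
  set n := (P.aug e).toNat
  have hn : 0 < n := by have := P.aug_pos e he; omega
  have h1 := H7LineNilp.lamSeries_add e e'
  rw [h, H7LineNilp.lamSeries_natCast P, lamSeries_trunc P he, lamSeries_trunc P he', ← Polynomial.coe_mul,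
    Polynomial.coe_inj] at h1
  set p := PowerSeries.trunc (n + 1) (lamSeries e)
  set q := PowerSeries.trunc ((P.aug e').toNat + 1) (lamSeries e')
  have hc : ∀ k ≤ n, p.coeff k = LambdaOps.lam k e := fun k hk => by
    simp [p, PowerSeries.coeff_trunc, lamSeries, Nat.lt_succ_iff.2 hk]
  rw [nilpotent_iff_mem_prime]
  intro J hJ
  haveI := hJ
  let F := FractionRing (K ⧸ J)
  let g : K →+* F := (algebraMap (K ⧸ J) F).comp (Ideal.Quotient.mk J)
  have hu : IsUnit (g (p.coeff n)) := by rw [hc n le_rfl]; exact (P.isUnit_lam e he).map g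
  have hdeg : (p.map g).natDegree = n := by
    refine Polynomial.natDegree_eq_of_le_of_coeff_ne_zero ((Polynomial.natDegree_map_le).trans ?_) ?_
    · exact Nat.lt_succ_iff.1 (PowerSeries.natDegree_trunc_lt _ n)
    · rw [Polynomial.coeff_map]; exact hu.ne_zero
  have hdvd : p.map g ∣ ((1 + Polynomial.X : Polynomial F)) ^ m := by
    refine ⟨q.map g, ?_⟩
    have := congrArg (Polynomial.map g) h1
    simpa only [Polynomial.map_mul, Polynomial.map_pow, Polynomial.map_add, Polynomial.map_one,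
      Polynomial.map_X] using this
  have hpr : Prime (1 + Polynomial.X : Polynomial F) := by
    have := Polynomial.prime_X_sub_C (-1 : F)
    rwa [map_neg, sub_neg_eq_add, map_one, add_comm] at this
  obtain ⟨i, -, hi⟩ := (dvd_prime_pow hpr m).1 hdvd
  obtain ⟨w, hw⟩ := hi
  obtain ⟨c, hc0, hcw⟩ := Polynomial.isUnit_iff.1 w.isUnit
  rw [← hcw] at hw
  have hc1 : c = 1 := by
    have := congrArg (fun t : Polynomial F => t.coeff 0) hw
    simp only [Polynomial.coeff_mul_C, Polynomial.coeff_map, hc 0 (Nat.zero_le _), LambdaOps.lam_zero,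
      map_one, one_mul] at this
    rw [this]
    simp [Polynomial.coeff_zero_eq_eval_zero]
  rw [hc1, map_one, mul_one] at hw
  have hin : i = n := by
    have : ((1 + Polynomial.X : Polynomial F) ^ i).natDegree = i := by
      rw [Polynomial.natDegree_pow, add_comm, ← Polynomial.C_1, Polynomial.natDegree_X_add_C, mul_one]
    rw [← this, ← hw, hdeg]
  have h2 := congrArg (fun t : Polynomial F => t.coeff 1) hw
  simp only [Polynomial.coeff_map, hc 1 hn, LambdaOps.lam_one, hin, Polynomial.coeff_one_add_X_pow,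
    Nat.choose_one_right] at h2
  rw [← Ideal.Quotient.eq_zero_iff_mem]
  apply IsFractionRing.injective (K ⧸ J) F
  rw [map_zero, ← RingHom.comp_apply]
  show g (e - (n : K)) = 0
  rw [map_sub, map_natCast, h2, sub_self]

theorem nilpotent_aug_zero {u : K} (hu : P.IsLine u)
    (hgen : ∀ e ∈ P.pos, ∃ n₀ : ℕ, ∀ k, n₀ ≤ k → ∃ (e' : K) (m : ℕ), e' ∈ P.pos ∧ u ^ k * e + e' = m)
    (x : K) (hx : P.aug x = 0) : IsNilpotent x := by
  have key : ∀ e ∈ P.pos, IsNilpotent (e - ((P.aug e).toNat : K)) := by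
    intro e he
    obtain ⟨n₁, h1⟩ := hgen e he
    obtain ⟨n₂, h2⟩ := hgen 1 (by simpa using P.natCast_mem 1 one_pos)
    set k := max (max n₁ n₂) 1
    have huk := H7LineNilp.line_pow P hu k (by omega)
    obtain ⟨e₁, m₁, he₁, hm₁⟩ := h1 k (by omega)
    obtain ⟨e₂, m₂, he₂, hm₂⟩ := h2 k (by omega)
    have a := nilpotent_pos P (P.mul_mem _ _ huk.1 he) he₁ hm₁
    rw [mul_one] at hm₂
    have b := nilpotent_pos P huk.1 he₂ hm₂
    rw [map_mul, huk.2, one_mul] at a
    rw [huk.2] at b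
    obtain ⟨v, hv⟩ : IsUnit (u ^ k) := by simpa [huk.2, LambdaOps.lam_one] using P.isUnit_lam _ huk.1
    have : (u ^ k) * (e - ((P.aug e).toNat : K)) =
        (u ^ k * e - ((P.aug e).toNat : K)) - ((P.aug e).toNat : K) * (u ^ k - ((1 : ℤ).toNat : K)) := by
      simp; ring
    have hn : IsNilpotent ((u ^ k) * (e - ((P.aug e).toNat : K))) := by
      rw [this]
      exact (Commute.all _ _).isNilpotent_sub a ((Commute.all _ _).isNilpotent_mul_left b)
    rw [← hv] at hn
    have := (Commute.all (↑v⁻¹ : K) _).isNilpotent_mul_left hn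
    rwa [← mul_assoc, Units.inv_mul, one_mul] at this
  obtain ⟨e, f, he, hf, rfl⟩ := P.exists_sub x
  rw [map_sub, sub_eq_zero] at hx
  rw [show e - f = (e - ((P.aug e).toNat : K)) - (f - ((P.aug f).toNat : K)) by rw [hx]; ring]
  exact (Commute.all _ _).isNilpotent_sub (key e he) (key f hf)

theorem isAmpleElt {u : K} (hu : P.IsLine u)
    (hgen : ∀ e ∈ P.pos, ∃ n₀ : ℕ, ∀ k, n₀ ≤ k → ∃ (e' : K) (m : ℕ), e' ∈ P.pos ∧ u ^ k * e + e' = m) :
    KRR.IsAmpleElt P u := by
  refine ⟨hu, fun x => ?_⟩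
  obtain ⟨e, f, he, hf, rfl⟩ := P.exists_sub x
  obtain ⟨n₀, h⟩ := hgen f hf
  refine ⟨n₀ + 1, fun k hk => ?_⟩
  obtain ⟨f', m, hf', hm⟩ := h k (by omega)
  refine ⟨u ^ k * e + f', m, P.add_mem _ _ (P.mul_mem _ _ (H7LineNilp.line_pow P hu k (by omega)).1 he) hf', ?_⟩
  linear_combination -hm

end Ring

section Geometry

variable {X : Scheme.{u}}

lemma finLocFree_structure : FlatMod.IsFinLocFree (Coh.structureModule X) :=
  H7DegLocus.finLocFree_of_isFree ⟨1, ⟨(coproductUniqueIso (fun _ : Fin 1 => Coh.structureModule X)).symm⟩⟩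

lemma finLocFree_of_rank {n : ℕ} {M : X.Modules} (h : FlatMod.IsFinLocFreeOfRank n M) : FlatMod.IsFinLocFree M :=
  fun x => by obtain ⟨U, hx, e⟩ := h x; exact ⟨U, n, hx, e⟩

lemma ofRank_one {L : X.Modules} (hL : PicF.IsInvertible L) : FlatMod.IsFinLocFreeOfRank 1 L := fun x => by
  obtain ⟨U, hx, ⟨e⟩⟩ := hL x
  exact ⟨U, hx, ⟨e ≪≫ (coproductUniqueIso (fun _ : Fin 1 => Coh.structureModule (U : Scheme.{u}))).symm⟩⟩

lemma finLocFree_biprod {M N : X.Modules} (hM : FlatMod.IsFinLocFree M) (hN : FlatMod.IsFinLocFree N) :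
    FlatMod.IsFinLocFree (M ⊞ N) :=
  H7FinFree.finLocFree_of_iso
    (Sigma.whiskerEquiv (Equiv.refl Bool) (g := fun j => bif j then N else M) (fun j => Iso.refl _) ≪≫
      { hom := Sigma.desc fun j => Bool.rec (biprod.inl : M ⟶ M ⊞ N) (biprod.inr : N ⟶ M ⊞ N) j
        inv := biprod.desc (Sigma.ι (fun j : Bool => bif j then N else M) false) (Sigma.ι (fun j : Bool => bif j then N else M) true)
        hom_inv_id := Sigma.hom_ext _ _ fun j => by cases j <;> simp
        inv_hom_id := biprod.hom_ext' _ _ (by simp) (by simp) })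
    (finLocFree_sigma (ι := Bool) (fun j => bif j then N else M) fun j => by cases j <;> assumption)

theorem exists_rank [ConnectedSpace X] {M : X.Modules} (h : FlatMod.IsFinLocFree M) :
    ∃ n, FlatMod.IsFinLocFreeOfRank n M := by
  let S : ℕ → Set X := fun n => {x | ∃ U : X.Opens, x ∈ U ∧ Nonempty (M.restrict U.ι ≅ FlatMod.freeMod (↑U) n)}
  have hopen : ∀ n, IsOpen (S n) := fun n => by
    rw [isOpen_iff_forall_mem_open]
    rintro x ⟨U, hx, hU⟩
    exact ⟨U, fun y hy => ⟨U, hy, hU⟩, U.2, hx⟩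
  have huniq : ∀ {x : X} {n m : ℕ}, x ∈ S n → x ∈ S m → n = m := by
    rintro x n m ⟨U, hU, ⟨e⟩⟩ ⟨V, hV, ⟨e'⟩⟩
    have aux : ∀ {A : X.Opens} (k : ℕ) (_ : M.restrict A.ι ≅ FlatMod.freeMod (↑A) k) (h : U ⊓ V ≤ A),
        Nonempty ((Scheme.Modules.pullback (U ⊓ V).ι).obj M ≅ FlatMod.freeMod (↑(U ⊓ V)) k) := fun {A} k f h =>
      ⟨((Scheme.Modules.pullbackComp (X.homOfLE h) A.ι).app M ≪≫ eqToIso (by rw [Scheme.homOfLE_ι])).symm ≪≫
        (Scheme.Modules.pullback (X.homOfLE h)).mapIso (((Scheme.Modules.restrictFunctorIsoPullback A.ι).app M).symm ≪≫ f) ≪≫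
          pullFreeIso (X.homOfLE h) k⟩
    obtain ⟨a⟩ := aux n e inf_le_left
    obtain ⟨b⟩ := aux m e' inf_le_right
    have := Fintype.card_congr (((H7Betti.coords a).basis ⟨x, hU, hV⟩).indexEquiv ((H7Betti.coords b).basis ⟨x, hU, hV⟩))
    simpa using this
  obtain ⟨x₀⟩ := (inferInstance : Nonempty X)
  obtain ⟨U, n, hx, e⟩ := h x₀
  have hclosed : IsClosed (S n) := by
    rw [← isOpen_compl_iff, isOpen_iff_forall_mem_open]
    intro x hx'
    obtain ⟨V, m, hxV, e'⟩ := h x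
    refine ⟨V, fun y hy hyn => hx' ?_, V.2, hxV⟩
    obtain rfl := huniq hyn ⟨V, hy, e'⟩
    exact ⟨V, hxV, e'⟩
  have := IsClopen.eq_univ ⟨hclosed, hopen n⟩ ⟨x₀, U, hx, e⟩
  exact ⟨n, fun x => (Set.eq_univ_iff_forall.1 this x : x ∈ S n)⟩

variable {K : Type v} [CommRing K] [LambdaOps K] {P : PosStructure K} {φ : SGA6.Kvb X →+ K}

theorem cl_add (S : ShortComplex X.Modules) (hS : S.ShortExact) (h₁ : FlatMod.IsFinLocFree S.X₁)
    (h₂ : FlatMod.IsFinLocFree S.X₂) (h₃ : FlatMod.IsFinLocFree S.X₃) :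
    KRR.cl X S.X₂ = KRR.cl X S.X₁ + KRR.cl X S.X₃ := by
  simp only [KRR.cl, KZero.clSub, dif_pos h₁, dif_pos h₂, dif_pos h₃]
  rw [← QuotientAddGroup.mk_add, QuotientAddGroup.eq, neg_add_eq_sub]
  rw [← AddSubgroup.neg_mem_iff, neg_sub]
  refine AddSubgroup.subset_closure ⟨S, h₁, h₂, h₃, hS, ?_⟩
  abel

theorem phi_biprod {M N : X.Modules} (hM : FlatMod.IsFinLocFree M) (hN : FlatMod.IsFinLocFree N) :
    φ (KRR.cl X (M ⊞ N)) = φ (KRR.cl X M) + φ (KRR.cl X N) := by
  rw [← map_add]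
  refine congrArg φ (cl_add ⟨(biprod.inl : M ⟶ M ⊞ N), biprod.snd, biprod.inl_snd⟩ ?_ hM (finLocFree_biprod hM hN) hN)
  exact (ShortComplex.Splitting.ofHasBinaryBiproduct M N).shortExact

variable (hK : KRR.IsModel X K P φ)

include hK in
theorem phi_tensorPow {L : X.Modules} (hL : PicF.IsInvertible L) (k : ℕ) :
    φ (KRR.cl X (CohB1.tensorPow L k)) = φ (KRR.cl X L) ^ k := by
  induction k with
  | zero => rw [pow_zero]; exact hK.map_one
  | succ k ih =>
    rw [pow_succ, ← ih, hK.map_mul _ _ (finLocFree_of_rank (ofRank_one (LInv.isInvertible_tensorPow hL k)))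
      (finLocFree_of_rank (ofRank_one hL))]
    rfl

include hK in
theorem isLine {L : X.Modules} (hL : PicF.IsInvertible L) : P.IsLine (φ (KRR.cl X L)) :=
  ⟨(hK.mem_pos_iff _).2 ⟨1, L, le_rfl, ofRank_one hL, rfl⟩, by rw [hK.aug_cl 1 L (ofRank_one hL)]; rfl⟩

include hK in
theorem cover [ConnectedSpace X] [CompactSpace X] {G : X.Modules} {r : ℕ} (hG : FlatMod.IsFinLocFreeOfRank r G)
    (hgen : ∀ x : X, ∃ U : X.Opens, x ∈ U ∧ IsAffineOpen U ∧ LGlobGen.SpanOn G U) :
    ∃ (e' : K) (m : ℕ), e' ∈ P.pos ∧ φ (KRR.cl X G) + e' = m := by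
  classical
  have hGf := finLocFree_of_rank hG
  haveI : G.IsQuasicoherent := H7PerfHom.qcoh_of_finLocFree hGf
  haveI : SheafOfModules.IsFiniteType (R := X.ringCatSheaf) G := (H7PerfCoh.isCoh_of_isFP (H7FPFlat.isFP_of_finLocFree hGf)).2
  choose U hxU hU hspan using hgen
  obtain ⟨t, ht⟩ := isCompact_univ.elim_finite_subcover (fun x => (U x : Set X)) (fun x => (U x).2)
    (fun x _ => Set.mem_iUnion.2 ⟨x, hxU x⟩)
  have hfin : ∀ x, ∃ T : Finset Γ(G, ⊤),
      Submodule.span Γ(X, U x) ((fun v : Γ(G, ⊤) => LQcoh.res G (le_top : U x ≤ ⊤) v) '' (T : Set _)) = ⊤ := fun x => by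
    haveI := LQcoh.finite_sections G (hU x)
    obtain ⟨s, hs⟩ := (inferInstance : Module.Finite Γ(X, U x) Γ(G, U x)).fg_top
    have h1 : ∀ y ∈ s, y ∈ Submodule.span Γ(X, U x) (Set.range fun v : Γ(G, ⊤) => LQcoh.res G (le_top : U x ≤ ⊤) v) :=
      fun y _ => (hspan x).symm ▸ trivial
    choose T hT using fun y : s => Submodule.mem_span_finite_of_mem_span (h1 y.1 y.2)
    choose v hv using fun (y : s) (a : T y) => (hT y).1 a.2
    refine ⟨Finset.univ.biUnion fun y : s => Finset.univ.image (v y), eq_top_iff.2 ?_⟩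
    rw [← hs, Submodule.span_le]
    intro y hy
    refine Submodule.span_mono ?_ (hT ⟨y, hy⟩).2
    intro a ha
    exact ⟨v ⟨y, hy⟩ ⟨a, ha⟩, Finset.mem_coe.2 (Finset.mem_biUnion.2 ⟨⟨y, hy⟩, Finset.mem_univ _,
      Finset.mem_image.2 ⟨⟨a, ha⟩, Finset.mem_univ _, rfl⟩⟩), hv _ _⟩
  choose T hT using hfin
  have hstep : ∀ s : Finset Γ(G, ⊤), ∃ (M : X.Modules) (p : M ⟶ G) (m : ℕ), r < m ∧ FlatMod.IsFinLocFree M ∧
      φ (KRR.cl X M) = (m : K) ∧ ∀ v ∈ s, ∃ i : Coh.structureModule X ⟶ M, i ≫ p = LAmple.homTop v := by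
    intro s
    induction s using Finset.induction with
    | empty =>
      have : ∀ m : ℕ, ∃ (M : X.Modules), FlatMod.IsFinLocFree M ∧ φ (KRR.cl X M) = ((m + 1 : ℕ) : K) := by
        intro m
        induction m with
        | zero => exact ⟨_, finLocFree_structure, by rw [hK.map_one]; simp⟩
        | succ m ih =>
          obtain ⟨M, hM, hM'⟩ := ih
          exact ⟨M ⊞ Coh.structureModule X, finLocFree_biprod hM finLocFree_structure,
            by rw [phi_biprod hM finLocFree_structure, hM', hK.map_one]; push_cast; ring⟩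
      obtain ⟨M, hM, hM'⟩ := this r
      exact ⟨M, 0, r + 1, Nat.lt_succ_self r, hM, hM', by simp⟩
    | @insert a s _ ih =>
      obtain ⟨M, p, m, hm, hM, hM', hp⟩ := ih
      refine ⟨M ⊞ Coh.structureModule X, biprod.desc p (LAmple.homTop a), m + 1, by omega,
        finLocFree_biprod hM finLocFree_structure,
        by rw [phi_biprod hM finLocFree_structure, hM', hK.map_one]; push_cast; ring, fun v hv => ?_⟩
      rcases Finset.mem_insert.1 hv with rfl | hv
      · exact ⟨biprod.inr, biprod.inr_desc _ _⟩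
      · obtain ⟨i, hi⟩ := hp v hv
        exact ⟨i ≫ biprod.inl, by rw [Category.assoc, biprod.inl_desc, hi]⟩
  obtain ⟨M, p, m, hm, hM, hM', hp⟩ := hstep (t.biUnion T)
  haveI : Epi p := by
    refine LNoethObj.epi_of_surjective_cover p (fun x : t => U x.1) (fun x => hU _) (eq_top_iff.2 fun y _ => ?_) fun x y => ?_
    · obtain ⟨x, hx, hy⟩ := Set.mem_iUnion₂.1 (ht (Set.mem_univ y))
      exact Opens.mem_iSup.2 ⟨⟨x, hx⟩, hy⟩
    · show y ∈ LinearMap.range (LQcoh.appLin p (U x.1))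
      refine (Submodule.span_le.2 ?_) ((hT x.1).ge (Submodule.mem_top (x := y)))
      rintro _ ⟨v, hv, rfl⟩
      obtain ⟨i, hi⟩ := hp v (Finset.mem_biUnion.2 ⟨x.1, x.2, hv⟩)
      refine ⟨Scheme.Modules.Hom.app i (U x.1) (1 : Γ(X, U x.1)), ?_⟩
      exact (congrArg (fun (g : Coh.structureModule X ⟶ G) => Scheme.Modules.Hom.app g (U x.1) (1 : Γ(X, U x.1))) hi).trans
        (LAmple.val_homTop v (U x.1))
  have hker := finLocFree_kernel hM hGf p
  obtain ⟨n, hn⟩ := exists_rank hker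
  have hsum : φ (KRR.cl X (kernel p)) + φ (KRR.cl X G) = m := by
    rw [← map_add, ← hM']
    exact congrArg φ (cl_add ⟨kernel.ι p, p, kernel.condition p⟩
      { exact := ShortComplex.exact_of_f_is_kernel _ (kernelIsKernel p) } hker hM hGf).symm
  have haug := congrArg P.aug hsum
  rw [map_add, hK.aug_cl n _ hn, hK.aug_cl r _ hG, map_natCast] at haug
  refine ⟨φ (KRR.cl X (kernel p)), m, (hK.mem_pos_iff _).2 ⟨n, _, by omega, hn, rfl⟩, by rw [add_comm]; exact hsum⟩

include hK in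
theorem exists_twist [ConnectedSpace X] {L : X.Modules} (hL : CohB1.IsAmple L) (e : K) (he : e ∈ P.pos) :
    ∃ n₀ : ℕ, ∀ k, n₀ ≤ k → ∃ (e' : K) (m : ℕ), e' ∈ P.pos ∧ φ (KRR.cl X L) ^ k * e + e' = m := by
  obtain ⟨n, E, hn, hE, rfl⟩ := (hK.mem_pos_iff _).1 he
  haveI := hL.2.1
  have hEf := finLocFree_of_rank hE
  haveI : E.IsQuasicoherent := H7PerfHom.qcoh_of_finLocFree hEf
  have hEc := H7PerfCoh.isCoh_of_isFP (H7FPFlat.isFP_of_finLocFree hEf)
  obtain ⟨n₀, h⟩ := LGlobGen.exists_bound hL E hEc.2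
  refine ⟨n₀, fun k hk => ?_⟩
  have hPk := finLocFree_of_rank (ofRank_one (LInv.isInvertible_tensorPow hL.1 k))
  obtain ⟨r, hr⟩ := exists_rank (finLocFree_tensor hEf hPk)
  obtain ⟨e', m, he', hm⟩ := cover hK hr (h k hk)
  refine ⟨e', m, he', ?_⟩
  rw [← phi_tensorPow hK hL.1, mul_comm, hK.map_mul _ _ hEf hPk, ← hm]
  rfl

end Geometry

end Groth.Agent.H7KRRAmple
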