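import Groth.Agent.Lib.H7KRRAmple
import Groth.Agent.Lib.LExtZero
import Groth.Agent.Lib.H7StalkDetect
import Mathlib

/-! Consequences of the nilpotency of the augmentation ideal of K(X). -/

set_option autoImplicit false
universe v u
open CategoryTheory CategoryTheory.Limits AlgebraicGeometry LambdaRing TensorProduct

namespace Groth.Agent.H7KRRAug
open Groth.Agent

theorem isUnit_iff {K A : Type v} [CommRing K] [CommRing A] (ε : K →+* ℤ)
    (hnil : ∀ x, ε x = 0 → IsNilpotent x) (y : A ⊗[ℤ] K) :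
    IsUnit y ↔ IsUnit (Algebra.TensorProduct.map (AlgHom.id ℤ A) ε.toIntAlgHom y) := by
  let f := Algebra.TensorProduct.map (AlgHom.id ℤ A) ε.toIntAlgHom
  refine ⟨fun h => h.map f, fun h => ?_⟩
  let g : A ⊗[ℤ] ℤ →ₐ[ℤ] A ⊗[ℤ] K := Algebra.TensorProduct.map (AlgHom.id ℤ A) (Algebra.ofId ℤ K)
  have key : ∀ z : A ⊗[ℤ] K, IsNilpotent (z - g (f z)) := by
    intro z
    induction z using TensorProduct.induction_on with
    | zero => simp
    | tmul a k =>
      have : a ⊗ₜ[ℤ] k - g (f (a ⊗ₜ[ℤ] k)) = (a ⊗ₜ[ℤ] (1 : K)) * ((1 : A) ⊗ₜ[ℤ] (k - ((ε k : ℤ) : K))) := by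
        simp [f, g, TensorProduct.tmul_sub, mul_sub]
      rw [this]
      exact (Commute.all _ _).isNilpotent_mul_left
        ((hnil (k - ((ε k : ℤ) : K)) (by simp)).map (Algebra.TensorProduct.includeRight (R := ℤ) (A := A) (B := K)))
    | add a b ha hb =>
      rw [map_add, map_add, show a + b - (g (f a) + g (f b)) = (a - g (f a)) + (b - g (f b)) by ring]
      exact (Commute.all _ _).isNilpotent_add ha hb
  have := IsNilpotent.isUnit_add_right_of_commute (key y) (h.map g) (Commute.all _ _)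
  rwa [show y - g (f y) + g (f y) = y by ring] at this

theorem cl_eq_zero_of_rank_zero {X : Scheme.{u}} {E : X.Modules} (h : FlatMod.IsFinLocFreeOfRank 0 E) :
    KRR.cl X E = 0 := by
  have hz : IsZero E := H7StalkDetect.isZero_of_stalks fun x => by
    obtain ⟨U, hx, ⟨e⟩⟩ := h x
    refine LExtZero.isZero_stalk_of_restrict U.ι (IsZero.of_iso ?_ e) ⟨⟨x, hx⟩, rfl⟩
    exact (IsZero.iff_id_eq_zero _).2 (Sigma.hom_ext _ _ fun i => Fin.elim0 i)
  have hf := H7KRRAmple.finLocFree_of_rank h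
  have := H7KRRAmple.cl_add ⟨(0 : E ⟶ E), (0 : E ⟶ E), zero_comp⟩
    { exact := ShortComplex.exact_of_isZero_X₂ _ hz
      mono_f := ⟨fun {Z} a b _ => hz.eq_of_tgt a b⟩
      epi_g := ⟨fun {Z} a b _ => hz.eq_of_src a b⟩ } hf hf hf
  simpa using this

theorem subring_nil_fg {X : Scheme.{u}} [ConnectedSpace X] {L : X.Modules} (hL : CohB1.IsAmple L)
    {K : Type v} [CommRing K] [LambdaOps K] {P : PosStructure K} {φ : SGA6.Kvb X →+ K}
    (hK : KRR.IsModel X K P φ) (k : ℕ) (E : Fin k → X.Modules) (hE : ∀ i : Fin k, FlatMod.IsFinLocFree (E i)) :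
    (∃ n : ℕ, ∀ f : Fin n → K,
      (∀ t : Fin n, f t ∈ Subring.closure {y : K | ∃ (i : Fin k) (j : ℕ), y = LambdaOps.lam j (φ (KRR.cl X (E i)))} ∧ P.aug (f t) = 0) →
        ∏ t, f t = 0) ∧
    (Subring.closure {y : K | ∃ (i : Fin k) (j : ℕ), y = LambdaOps.lam j (φ (KRR.cl X (E i)))}).toAddSubgroup.FG := by
  haveI := hL.2.1
  have hnil : ∀ x, P.aug x = 0 → IsNilpotent x :=
    H7KRRAmple.nilpotent_aug_zero P (H7KRRAmple.isLine hK hL.1) (H7KRRAmple.exists_twist hK hL)
  classical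
  set G := {y : K | ∃ (i : Fin k) (j : ℕ), y = LambdaOps.lam j (φ (KRR.cl X (E i)))}
  have hGfin : G.Finite := by
    have hb : ∀ i, ∃ N : ℕ, ∀ j, N < j → LambdaOps.lam j (φ (KRR.cl X (E i))) = 0 := fun i => by
      obtain ⟨n, hn⟩ := H7KRRAmple.exists_rank (hE i)
      refine ⟨n, fun j hj => ?_⟩
      rcases Nat.eq_zero_or_pos n with rfl | h0
      · rw [cl_eq_zero_of_rank_zero hn, map_zero]
        have := congrArg (PowerSeries.coeff j) (H7LineNilp.lamSeries_zero (K := K))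
        simpa [lamSeries, PowerSeries.coeff_one, Nat.ne_of_gt hj] using this
      · exact P.lam_eq_zero _ ((hK.mem_pos_iff _).2 ⟨n, _, h0, hn, rfl⟩) j (by rw [hK.aug_cl n _ hn]; exact_mod_cast hj)
    choose N hN using hb
    refine (((Set.finite_univ (α := Fin k)).biUnion fun i _ => ((Finset.range (N i + 1)).image
      fun j => LambdaOps.lam j (φ (KRR.cl X (E i)))).finite_toSet).union (Set.finite_singleton (0 : K))).subset ?_
    rintro _ ⟨i, j, rfl⟩
    by_cases hj : j ≤ N i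
    · exact Or.inl (Set.mem_biUnion (Set.mem_univ i) (Finset.mem_coe.2 (Finset.mem_image.2 ⟨j, Finset.mem_range.2 (by omega), rfl⟩)))
    · exact Or.inr (hN i j (by omega))
  have hint : ∀ y : K, IsIntegral ℤ y := fun y => by
    obtain ⟨m, hm⟩ := hnil (y - (P.aug y : K)) (by simp)
    refine ⟨(Polynomial.X - Polynomial.C (P.aug y)) ^ m, (Polynomial.monic_X_sub_C _).pow _, ?_⟩
    rw [Polynomial.eval₂_pow, Polynomial.eval₂_sub, Polynomial.eval₂_X, Polynomial.eval₂_C]
    simpa using hm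
  let R := Algebra.adjoin ℤ G
  have hR : ∀ y, y ∈ R ↔ y ∈ Subring.closure G := fun y => by
    show y ∈ Algebra.adjoin ℤ G ↔ _
    rw [Algebra.adjoin_int, mem_subalgebraOfSubring]
  have hfg : R.toSubmodule.FG := fg_adjoin_of_finite hGfin fun y _ => hint y
  refine ⟨?_, ?_⟩
  · haveI : Module.Finite ℤ R := ⟨(Submodule.fg_top _).2 hfg⟩
    haveI : IsNoetherianRing R := IsNoetherianRing.of_finite ℤ R
    let I : Ideal R := RingHom.ker (P.aug.comp R.val.toRingHom)
    obtain ⟨n, hn⟩ : IsNilpotent I := by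
      rw [Ideal.FG.isNilpotent_iff_le_nilradical (IsNoetherian.noetherian I)]
      intro y hy
      obtain ⟨m, hm⟩ := hnil y.1 hy
      exact ⟨m, Subtype.ext (by simpa using hm)⟩
    refine ⟨n, fun f hf => ?_⟩
    let g : Fin n → R := fun t => ⟨f t, (hR _).2 (hf t).1⟩
    have hg : ∏ t, g t ∈ I ^ n := by
      have := Ideal.prod_mem_prod (s := (Finset.univ : Finset (Fin n))) (I := fun _ => I) (x := g) fun t _ => (hf t).2
      simpa using this
    rw [hn, Ideal.zero_eq_bot, Ideal.mem_bot] at hg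
    simpa [g] using congrArg Subtype.val hg
  · rw [AddSubgroup.fg_iff_addSubmonoid_fg]
    have hsub : (Subring.closure G).toAddSubgroup = R.toSubmodule.toAddSubgroup := by
      ext y
      exact (hR y).symm
    rw [hsub, ← AddSubgroup.fg_iff_addSubmonoid_fg]
    exact Submodule.fg_iff_addSubgroup_fg _ |>.1 hfg

end Groth.Agent.H7KRRAug
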