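import Groth.Agent.Lib.H7LpullCalc
import Groth.Agent.Lib.H7StalkTensor
import Groth.Prelude.Def_DTor2
import Mathlib

/-! The derived tensor product with a module. -/

universe u v w
open CategoryTheory Limits AlgebraicGeometry HomologicalComplex MonoidalCategory

namespace Groth.Agent.H7LTensorMod
open Groth.Agent H5TenCx H7KFlatMod H7KFlatSheaf H7KFlatResolution H7KFlatResFun H7HasLpull H7LpullCalc

attribute [local instance] HasDerivedCategory.standard

variable {X : Scheme.{u}} (M : X.Modules)

/-- stalks of `- ⊗ M` -/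
noncomputable def stIso (x : X) :
    DCoh.tensorRightMod M ⋙ DerSch.stalkFunctor X x ≅
      DerSch.stalkFunctor X x ⋙
        (curriedTensor (ModuleCat.{u} (X.presheaf.stalk x))).flip.obj ((DerSch.stalkFunctor X x).obj M) :=
  NatIso.ofComponents (fun N => H7StalkTensor.iso x N M) fun {N N'} g =>
    congrArg (fun t => NatTrans.app t M) ((H7StalkTensor.natIso x).hom.naturality g)

/-- termwise `- ⊗ M` -/
noncomputable abbrev tenCx : CochainComplex X.Modules ℤ ⥤ CochainComplex X.Modules ℤ :=
  (DCoh.tensorRightMod M).mapHomologicalComplex (ComplexShape.up ℤ)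

/-- the stalk complex of `K ⊗ M` -/
noncomputable def stTenIso (x : X) (K : CochainComplex X.Modules ℤ) :
    (stCx x).obj ((tenCx M).obj K) ≅
      (((curriedTensor (ModuleCat.{u} (X.presheaf.stalk x))).flip.obj
        ((DerSch.stalkFunctor X x).obj M)).mapHomologicalComplex _).obj ((stCx x).obj K) :=
  Hom.isoOfComponents (fun n => (stIso M x).app (K.X n)) fun i j _ =>
    ((stIso M x).hom.naturality (K.d i j)).symm

set_option maxHeartbeats 2000000 in
lemma acyclic_flip_tensor {R : Type u} [CommRing R] {C : CochainComplex (ModuleCat.{u} R) ℤ} (hC : KF R C)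
    (hac : C.Acyclic) (N : ModuleCat.{u} R) :
    ((((curriedTensor (ModuleCat.{u} R)).flip.obj N).mapHomologicalComplex (ComplexShape.up ℤ)).obj C).Acyclic := by
  have h1 := acyclic_tensor_of_kflat_acyclic hC hac
    ((HomologicalComplex.single (ModuleCat.{u} R) (ComplexShape.up ℤ) 0).obj N)
  exact H5KFlat.acyclic_of_iso
    (DTen.braidCx ((HomologicalComplex.single (ModuleCat.{u} R) (ComplexShape.up ℤ) 0).obj N) C ≪≫
      H7MapTotal.singleIso (curriedTensor (ModuleCat.{u} R)) N C) h1

lemma acyclic_ten {C : CochainComplex X.Modules ℤ} (hC : SKF C) (hac : C.Acyclic) : ((tenCx M).obj C).Acyclic :=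
  (H7KFlatSheaf.acyclic_iff _).2 fun x => H5KFlat.acyclic_of_iso (stTenIso M x C).symm
    (acyclic_flip_tensor (hC x) ((H7KFlatSheaf.acyclic_iff C).1 hac x) _)

theorem quasiIso_ten {K L : CochainComplex X.Modules ℤ} (hK : SKF K) (hL : SKF L) (g : K ⟶ L) [QuasiIso g] :
    QuasiIso ((tenCx M).map g) := by
  rw [quasiIso_iff_acyclic_cone]
  exact H5KFlat.acyclic_of_iso (CochainComplex.mappingCone.mapHomologicalComplexIso g (DCoh.tensorRightMod M))
    (acyclic_ten M (skf_cone g hK hL) ((quasiIso_iff_acyclic_cone g).1 inferInstance))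

lemma isIso_tenKh {K L : CochainComplex X.Modules ℤ} (g : K ⟶ L) (hg : QuasiIso ((tenCx M).map g)) :
    IsIso ((DCoh.tensorModKh M).map ((HomotopyCategory.quotient _ _).map g)) :=
  isIso_Qh_quotient_map ((tenCx M).map g) hg

theorem hasLTensorMod : DCoh.HasLTensorMod M := by
  have := isLocalization_quotient_Qh (C := X.Modules)
  refine H7LeftDerived.hasLeftDerived (HomotopyCategory.quotient X.Modules (ComplexShape.up ℤ)) DerivedCategory.Qh
    (HomotopyCategory.quasiIso X.Modules (ComplexShape.up ℤ))
    (HomologicalComplex.quasiIso X.Modules (ComplexShape.up ℤ)) (DCoh.tensorModKh M) resFunctor resNat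
    (fun K => quasiIso_resNat K) (fun K L g hg => isIso_tenKh M _ ?_) (fun K => isIso_tenKh M _ ?_)
  · have := resFunctor_quasiIso g hg
    exact quasiIso_ten M (skf_resFunctor K) (skf_resFunctor L) _
  · have := quasiIso_resNat (resFunctor.obj K)
    exact quasiIso_ten M (skf_resFunctor _) (skf_resFunctor K) _

variable [DCoh.HasLTensorMod M]

/-- the counit -/
noncomputable def counit (K : CochainComplex X.Modules ℤ) :
    (DCoh.LTensorMod M).obj (DerivedCategory.Qh.obj ((HomotopyCategory.quotient _ _).obj K)) ⟶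
      DerivedCategory.Qh.obj ((HomotopyCategory.quotient _ _).obj ((tenCx M).obj K)) :=
  ((DCoh.tensorModKh M).totalLeftDerivedCounit DerivedCategory.Qh
    (HomotopyCategory.quasiIso X.Modules (ComplexShape.up ℤ))).app ((HomotopyCategory.quotient _ _).obj K)

theorem isIso_counit {K : CochainComplex X.Modules ℤ} (hK : SKF K) : IsIso (counit M K) := by
  have := isLocalization_quotient_Qh (C := X.Modules)
  refine H7LeftDerived.isIso_counit (HomotopyCategory.quotient X.Modules (ComplexShape.up ℤ)) DerivedCategory.Qh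
    (HomotopyCategory.quasiIso X.Modules (ComplexShape.up ℤ))
    (HomologicalComplex.quasiIso X.Modules (ComplexShape.up ℤ)) (DCoh.tensorModKh M) resFunctor resNat
    (fun K => quasiIso_resNat K) (fun K L g hg => isIso_tenKh M _ ?_) (fun K => isIso_tenKh M _ ?_) _ _ K ?_
  · have := resFunctor_quasiIso g hg
    exact quasiIso_ten M (skf_resFunctor K) (skf_resFunctor L) _
  · have := quasiIso_resNat (resFunctor.obj K)
    exact quasiIso_ten M (skf_resFunctor _) (skf_resFunctor K) _
  · have := quasiIso_resNat K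
    exact isIso_tenKh M _ (quasiIso_ten M (skf_resFunctor _) hK _)

/-- `Q K ⊗ᴸ M ≅ Q (K ⊗ M)` for `K` with K-flat stalks -/
noncomputable def ltenIso {K : CochainComplex X.Modules ℤ} (hK : SKF K) :
    (DCoh.LTensorMod M).obj (DerivedCategory.Q.obj K) ≅ DerivedCategory.Q.obj ((tenCx M).obj K) :=
  have := isIso_counit M hK
  (DCoh.LTensorMod M).mapIso ((DerivedCategory.quotientCompQhIso X.Modules).app K).symm ≪≫ asIso (counit M K) ≪≫
    (DerivedCategory.quotientCompQhIso X.Modules).app _

end Groth.Agent.H7LTensorMod
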