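import Mathlib

/-! Left derived functors from functorial resolutions. -/

namespace Groth.Agent.H7LeftDerived
open CategoryTheory Category

variable {C C' D H : Type*} [Category C] [Category C'] [Category D] [Category H]

theorem exists_leftDerived (q : C ⥤ C') [((Functor.whiskeringLeft C C' H).obj q).Full]
    [((Functor.whiskeringLeft C C' H).obj q).Faithful]
    (L' : C' ⥤ D) (W' : MorphismProperty C') [L'.IsLocalization W']
    (W : MorphismProperty C) [(q ⋙ L').IsLocalization W] (F' : C' ⥤ H)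
    (R : C ⥤ C) (ρ : R ⟶ 𝟭 C) (hρ : ∀ X, W (ρ.app X))
    (hinv : ∀ ⦃X Y : C⦄ (f : X ⟶ Y), W f → IsIso (F'.map (q.map (R.map f))))
    (hρR : ∀ X, IsIso (F'.map (q.map (ρ.app (R.obj X))))) :
    ∃ (LF : D ⥤ H) (α : L' ⋙ LF ⟶ F'), LF.IsLeftDerivedFunctor α W' ∧
      ∀ X, IsIso (F'.map (q.map (ρ.app X))) → IsIso (α.app (q.obj X)) := by
  let L := q ⋙ L'
  let F := q ⋙ F'
  have h : W.IsInvertedBy (R ⋙ F) := fun X Y f hf => hinv f hf
  let LF : D ⥤ H := Localization.lift (R ⋙ F) h L
  let fac : L ⋙ LF ≅ R ⋙ F := Localization.fac (R ⋙ F) h L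
  let α : L ⋙ LF ⟶ F := fac.hom ≫ Functor.whiskerRight ρ F ≫ F.leftUnitor.hom
  obtain ⟨α', hα'⟩ := ((Functor.whiskeringLeft C C' H).obj q).map_surjective (X := L' ⋙ LF) (Y := F') α
  have hL : ∀ X, IsIso (L.map (ρ.app X)) := fun X => Localization.inverts L W _ (hρ X)
  have happ : ∀ X, α'.app (q.obj X) = fac.hom.app X ≫ F.map (ρ.app X) := fun X => by
    have := congr_app hα' X
    simpa [α] using this
  have hR' : ∀ X, IsIso (F.map (ρ.app (R.obj X))) := hρR
  have hnat : ∀ X, F.map (R.map (ρ.app X)) ≫ F.map (ρ.app X) = F.map (ρ.app (R.obj X)) ≫ F.map (ρ.app X) := fun X => by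
    rw [← F.map_comp, ← F.map_comp]
    exact congrArg F.map (ρ.naturality (ρ.app X))
  have key : ∀ {G : D ⥤ H} (β : L' ⋙ G ⟶ F') (γ : G ⟶ LF),
      Functor.whiskerLeft L' γ ≫ α' = β → ∀ X, γ.app (L.obj X) ≫ fac.hom.app X =
        inv (G.map (L.map (ρ.app X))) ≫ β.app (q.obj (R.obj X)) ≫ inv (F.map (ρ.app (R.obj X))) ≫
          F.map (R.map (ρ.app X)) := fun {G} β γ hγ X => by
    have e : β.app (q.obj (R.obj X)) = γ.app (L.obj (R.obj X)) ≫ fac.hom.app (R.obj X) ≫
        F.map (ρ.app (R.obj X)) := by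
      rw [← hγ, NatTrans.comp_app, Functor.whiskerLeft_app, happ]
      rfl
    rw [IsIso.eq_inv_comp, e, assoc, assoc, IsIso.hom_inv_id_assoc]
    exact ((assoc _ _ _).symm.trans (congrArg (· ≫ _) (γ.naturality (L.map (ρ.app X))))).trans
      ((assoc _ _ _).trans (congrArg (γ.app (L.obj (R.obj X)) ≫ ·) (fac.hom.naturality (ρ.app X))))
  have : LF.IsRightKanExtension α' := by
    refine ⟨⟨Limits.IsTerminal.ofUniqueHom (fun (E : Functor.RightExtension L' F') => ?_) (fun E m => ?_)⟩⟩
    · let G : D ⥤ H := E.left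
      let β : L' ⋙ G ⟶ F' := E.hom
      let η : L ⋙ G ⟶ R ⋙ F :=
        { app := fun X => inv (G.map (L.map (ρ.app X))) ≫ β.app (q.obj (R.obj X)) ≫
            inv (F.map (ρ.app (R.obj X))) ≫ F.map (R.map (ρ.app X))
          naturality := fun X Y f => by
            have h1 : L.map (R.map f) ≫ L.map (ρ.app Y) = L.map (ρ.app X) ≫ L.map f := by
              rw [← L.map_comp, ← L.map_comp]; exact congrArg L.map (ρ.naturality f)
            have h2 : F.map (R.map (R.map f)) ≫ F.map (ρ.app (R.obj Y)) = F.map (ρ.app (R.obj X)) ≫ F.map (R.map f) := by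
              rw [← F.map_comp, ← F.map_comp]; exact congrArg F.map (ρ.naturality (R.map f))
            have h3 : F.map (R.map (R.map f)) ≫ F.map (R.map (ρ.app Y)) = F.map (R.map (ρ.app X)) ≫ F.map (R.map f) := by
              rw [← F.map_comp, ← F.map_comp, ← R.map_comp, ← R.map_comp]
              exact congrArg (fun t => F.map (R.map t)) (ρ.naturality f)
            have h4 : G.map (L.map f) ≫ inv (G.map (L.map (ρ.app Y))) =
                inv (G.map (L.map (ρ.app X))) ≫ G.map (L.map (R.map f)) := by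
              rw [IsIso.comp_inv_eq, assoc, ← G.map_comp, h1, G.map_comp, IsIso.inv_hom_id_assoc]
            have h5 : G.map (L.map (R.map f)) ≫ β.app (q.obj (R.obj Y)) =
                β.app (q.obj (R.obj X)) ≫ F.map (R.map f) := β.naturality (q.map (R.map f))
            have h6 : F.map (R.map f) ≫ inv (F.map (ρ.app (R.obj Y))) =
                inv (F.map (ρ.app (R.obj X))) ≫ F.map (R.map (R.map f)) := by
              rw [IsIso.comp_inv_eq, assoc, h2, IsIso.inv_hom_id_assoc]
            show G.map (L.map f) ≫ _ = _ ≫ F.map (R.map f)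
            rw [reassoc_of% h4, reassoc_of% h5, reassoc_of% h6, h3]
            simp only [assoc] }
      let γ : G ⟶ LF := Localization.liftNatTrans L W (L ⋙ G) (R ⋙ F) G LF η
      have hγ : ∀ X, γ.app (L.obj X) ≫ fac.hom.app X = η.app X := fun X => by
        have := Localization.liftNatTrans_app L W (L ⋙ G) (R ⋙ F) G LF η X
        simp only [γ, this]
        show (𝟙 _ ≫ η.app X ≫ fac.inv.app X) ≫ fac.hom.app X = _
        simp
      refine CostructuredArrow.homMk γ ?_
      refine ((Functor.whiskeringLeft C C' H).obj q).map_injective ?_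
      ext X
      show γ.app (L.obj X) ≫ α'.app (q.obj X) = β.app (q.obj X)
      rw [happ, reassoc_of% hγ X]
      show (inv (G.map (L.map (ρ.app X))) ≫ β.app (q.obj (R.obj X)) ≫ inv (F.map (ρ.app (R.obj X))) ≫
          F.map (R.map (ρ.app X))) ≫ F.map (ρ.app X) = β.app (q.obj X)
      rw [assoc, assoc, assoc, hnat, IsIso.inv_hom_id_assoc, IsIso.inv_comp_eq]
      exact (β.naturality (q.map (ρ.app X))).symm
    · refine CostructuredArrow.hom_ext _ _ (Localization.natTrans_ext L W fun X => ?_)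
      have w' : ∀ m' : E ⟶ Functor.RightExtension.mk LF α', Functor.whiskerLeft L' m'.left ≫ α' = E.hom :=
        fun m' => CostructuredArrow.w m'
      exact (cancel_mono (fac.hom.app X)).1
        ((key E.hom m.left (w' m) X).trans (key E.hom _ (w' _) X).symm)
  have : LF.IsLeftDerivedFunctor α' W' := ⟨this⟩
  refine ⟨LF, α', this, fun X hX => ?_⟩
  have : IsIso (F.map (ρ.app X)) := hX
  rw [happ]
  infer_instance

theorem hasLeftDerived (q : C ⥤ C') [((Functor.whiskeringLeft C C' H).obj q).Full]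
    [((Functor.whiskeringLeft C C' H).obj q).Faithful]
    (L' : C' ⥤ D) (W' : MorphismProperty C') [L'.IsLocalization W']
    (W : MorphismProperty C) [(q ⋙ L').IsLocalization W] (F' : C' ⥤ H)
    (R : C ⥤ C) (ρ : R ⟶ 𝟭 C) (hρ : ∀ X, W (ρ.app X))
    (hinv : ∀ ⦃X Y : C⦄ (f : X ⟶ Y), W f → IsIso (F'.map (q.map (R.map f))))
    (hρR : ∀ X, IsIso (F'.map (q.map (ρ.app (R.obj X))))) : F'.HasLeftDerivedFunctor W' := by
  obtain ⟨LF, α, h, -⟩ := exists_leftDerived q L' W' W F' R ρ hρ hinv hρR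
  exact Functor.HasLeftDerivedFunctor.mk' LF α (W := W')

/-- the counit of any left derived functor is invertible at the good objects -/
theorem isIso_counit (q : C ⥤ C') [((Functor.whiskeringLeft C C' H).obj q).Full]
    [((Functor.whiskeringLeft C C' H).obj q).Faithful]
    (L' : C' ⥤ D) (W' : MorphismProperty C') [L'.IsLocalization W']
    (W : MorphismProperty C) [(q ⋙ L').IsLocalization W] (F' : C' ⥤ H)
    (R : C ⥤ C) (ρ : R ⟶ 𝟭 C) (hρ : ∀ X, W (ρ.app X))
    (hinv : ∀ ⦃X Y : C⦄ (f : X ⟶ Y), W f → IsIso (F'.map (q.map (R.map f))))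
    (hρR : ∀ X, IsIso (F'.map (q.map (ρ.app (R.obj X)))))
    (LF' : D ⥤ H) (α' : L' ⋙ LF' ⟶ F') [LF'.IsLeftDerivedFunctor α' W']
    (X : C) (hX : IsIso (F'.map (q.map (ρ.app X)))) : IsIso (α'.app (q.obj X)) := by
  obtain ⟨LF, α, h, hα⟩ := exists_leftDerived q L' W' W F' R ρ hρ hinv hρR
  have := hα X hX
  have e := LF.leftDerived_fac_app α W' LF' α' (q.obj X)
  have : IsIso (LF.leftDerivedLift α W' LF' α') :=
    (LF.isLeftDerivedFunctor_iff_isIso_leftDerivedLift α W' LF' α').1 inferInstance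
  rw [← e]
  infer_instance

end Groth.Agent.H7LeftDerived
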