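import Groth.Agent.Lib.H7PerfFree
import Mathlib

/-! Maps out of strictly perfect complexes are locally represented by chain maps. -/

universe u v w
open CategoryTheory Limits AlgebraicGeometry Opposite TopologicalSpace HomologicalComplex CategoryTheory.Pretriangulated

namespace Groth.Agent.H7LocLift
open Groth.Agent H7Stalk H7KFlatSheaf H7PerfPull H7FinFree H7Betti

attribute [local instance] HasDerivedCategory.standard

variable {X Y Z : Scheme.{u}}

/-- restriction of complexes along an open immersion -/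
noncomputable abbrev rst (j : Y ⟶ X) [IsOpenImmersion j] :
    CochainComplex X.Modules ℤ ⥤ CochainComplex Y.Modules ℤ :=
  (Scheme.Modules.restrictFunctor j).mapHomologicalComplex (ComplexShape.up ℤ)

/-- restricting twice -/
noncomputable def rstComp (f : Z ⟶ Y) (g : Y ⟶ X) (h : Z ⟶ X) [IsOpenImmersion f] [IsOpenImmersion g]
    [IsOpenImmersion h] (e : f ≫ g = h) : rst g ⋙ rst f ≅ rst h :=
  NatIso.ofComponents
    (fun K => Hom.isoOfComponents
      (fun n => ((Scheme.Modules.restrictFunctorComp f g).symm ≪≫ Scheme.Modules.restrictFunctorCongr e).app (K.X n))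
      fun i j _ => (((Scheme.Modules.restrictFunctorComp f g).symm ≪≫
        Scheme.Modules.restrictFunctorCongr e).hom.naturality (K.d i j)).symm)
    fun {K L} φ => HomologicalComplex.hom_ext _ _ fun n =>
      ((Scheme.Modules.restrictFunctorComp f g).symm ≪≫ Scheme.Modules.restrictFunctorCongr e).hom.naturality (φ.f n)

lemma restrictUnitIso_inv_one (j : Y ⟶ X) [IsOpenImmersion j] :
    (Scheme.Modules.restrictUnitIso j).inv.app ⊤ (1 : Γ(Y, ⊤)) = (1 : Γ(X, j ''ᵁ ⊤)) :=
  map_one (j.appIso ⊤).inv.hom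

lemma app_one {M : X.Modules} (σ : Coh.structureModule X ⟶ M) (U : X.Opens) :
    σ.app U (1 : Γ(X, U)) = res M (unitEquiv M σ) U := by
  refine Eq.trans ?_ (congrArg (fun t => t) ((M.unitHomEquiv σ).property (homOfLE (le_top : U ≤ (⊤ : X.Opens))).op).symm)
  rfl

/-- lifting a map out of a free module near a point -/
theorem exists_lift {M N N' : X.Modules} {n : ℕ} (c : Coords M n) (g : N ⟶ N') (h : M ⟶ N') (x : X)
    (hx : ∀ z, ∃ y, ((DerSch.stalkFunctor X x).map g).hom y = ((DerSch.stalkFunctor X x).map h).hom z) :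
    ∃ V : X.Opens, x ∈ V ∧ ∃ l : (Scheme.Modules.restrictFunctor V.ι).obj M ⟶ (Scheme.Modules.restrictFunctor V.ι).obj N,
      l ≫ (Scheme.Modules.restrictFunctor V.ι).map g = (Scheme.Modules.restrictFunctor V.ι).map h := by
  let s : Fin n → Γ(N', ⊤) := fun k => unitEquiv N' (c.ι k ≫ h)
  have hgerm : ∀ k, ∃ (W : X.Opens) (t : Γ(N, W)), x ∈ W ∧ g.app W t = res N' (s k) W := by
    intro k
    obtain ⟨y, hy⟩ := hx (((DerSch.stalkFunctor X x).map (c.ι k)).hom (one x))
    obtain ⟨W, hW, t, rfl⟩ := N.presheaf.exists_germ_eq (x := x) y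
    have e : N'.presheaf.germ W x hW (g.app W t) = N'.presheaf.germ W x hW (res N' (s k) W) := by
      refine (DerSch.stalkFunctor_map_germ x g W hW t).symm.trans (hy.trans ?_)
      refine Eq.trans ?_ (TopCat.Presheaf.germ_res_apply N'.presheaf (homOfLE le_top) x hW (s k)).symm
      refine (congrArg ((DerSch.stalkFunctor X x).map h).hom
        (DerSch.stalkFunctor_map_germ x (c.ι k) ⊤ trivial (1 : Γ(X, ⊤)))).trans ?_
      exact DerSch.stalkFunctor_map_germ x h ⊤ trivial _
    obtain ⟨W', hW', i₁, i₂, e'⟩ := N'.presheaf.germ_eq x hW hW _ _ e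
    refine ⟨W', N.presheaf.map i₁.op t, hW', ?_⟩
    refine (ConcreteCategory.congr_hom (g.mapPresheaf.naturality i₁.op) t).trans ?_
    refine e'.trans ?_
    exact (ConcreteCategory.congr_hom (N'.presheaf.map_comp (homOfLE (le_top : W ≤ ⊤)).op i₂.op) (s k)).symm
  choose W t hW ht using hgerm
  let V : X.Opens := ⟨⋂ k, (W k : Set X), isOpen_iInter_of_finite fun k => (W k).2⟩
  let F := Scheme.Modules.restrictFunctor V.ι
  have hle : ∀ k, V.ι ''ᵁ ⊤ ≤ W k := fun k y hy => by
    obtain ⟨y', -, rfl⟩ := hy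
    exact Set.mem_iInter.1 y'.2 k
  let t' : ∀ k, Γ(N, V.ι ''ᵁ ⊤) := fun k => N.presheaf.map (homOfLE (hle k)).op (t k)
  let u : Fin n → (F.obj (Coh.structureModule X) ⟶ F.obj N) := fun k =>
    (Scheme.Modules.restrictUnitIso V.ι).hom ≫ (unitEquiv (F.obj N)).symm (t' k)
  have hu : ∀ k, u k ≫ F.map g = F.map (c.ι k ≫ h) := fun k => by
    refine (Category.assoc _ _ _).trans ((Iso.eq_inv_comp _).1 ?_)
    apply (unitEquiv (F.obj N')).injective
    rw [unitEquiv_comp]
    refine (congrArg ((F.map g).app ⊤) ((unitEquiv (F.obj N)).apply_symm_apply (t' k))).trans ?_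
    show g.app (V.ι ''ᵁ ⊤) (t' k) = (c.ι k ≫ h).app (V.ι ''ᵁ ⊤)
      ((Scheme.Modules.restrictUnitIso V.ι).inv.app ⊤ (1 : Γ((V : Scheme.{u}), ⊤)))
    rw [restrictUnitIso_inv_one]
    refine Eq.trans ?_ (app_one (c.ι k ≫ h) _).symm
    refine (ConcreteCategory.congr_hom (g.mapPresheaf.naturality (homOfLE (hle k)).op) (t k)).trans ?_
    refine (congrArg (N'.presheaf.map (homOfLE (hle k)).op) (ht k)).trans ?_
    exact (ConcreteCategory.congr_hom (N'.presheaf.map_comp (homOfLE (le_top : W k ≤ ⊤)).op (homOfLE (hle k)).op) (s k)).symm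
  refine ⟨V, Set.mem_iInter.2 hW, ∑ k, F.map (c.π k) ≫ u k, ?_⟩
  rw [Preadditive.sum_comp]
  refine (Finset.sum_congr rfl fun k _ => (Category.assoc _ _ _).trans
    ((congrArg (F.map (c.π k) ≫ ·) (hu k)).trans (F.map_comp _ _).symm)).trans ?_
  refine (F.map_sum _ _).symm.trans (congrArg F.map ?_)
  simp only [← Category.assoc]
  rw [← Preadditive.sum_comp, c.total, Category.id_comp]

/-- restriction preserves freeness -/
lemma isFree_restrict (j : Y ⟶ X) [IsOpenImmersion j] {M : X.Modules} (h : IsFree M) :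
    IsFree ((Scheme.Modules.restrictFunctor j).obj M) :=
  (h.pullback j).of_iso ((Scheme.Modules.restrictFunctorIsoPullback j).app M).symm

lemma isZero_homology_rst (j : Y ⟶ X) [IsOpenImmersion j] {F : CochainComplex X.Modules ℤ} {k : ℤ}
    (h : IsZero (F.homology k)) : IsZero (((rst j).obj F).homology k) :=
  ((Scheme.Modules.restrictFunctor j).map_isZero h).of_iso ((F.sc k).mapHomologyIso (Scheme.Modules.restrictFunctor j))

set_option maxHeartbeats 1000000 in
theorem null_aux : ∀ (m : ℕ) {W : Scheme.{u}} {E F : CochainComplex W.Modules ℤ} (α : E ⟶ F) (a : ℤ) (x : W),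
    (∀ k, IsFree (E.X k)) → (∀ k, k < a → IsZero (E.X k)) → (∀ k, a ≤ k → IsZero (F.homology k)) →
    (∀ k, a + m ≤ k → α.f k = 0) →
    ∃ (W' : Scheme.{u}) (j : W' ⟶ W) (_ : IsOpenImmersion j), x ∈ Set.range j.base ∧
      Nonempty (Homotopy ((rst j).map α) 0)
  | 0, W, E, F, α, a, x, hfree, hz, _, hα => by
    have : α = 0 := HomologicalComplex.hom_ext _ _ fun k => by
      by_cases hk : k < a
      · exact (hz k hk).eq_of_src _ _
      · exact hα k (by omega)
    subst this
    exact ⟨W, 𝟙 W, inferInstance, ⟨x, rfl⟩, ⟨Homotopy.ofEq ((rst (𝟙 W)).map_zero E F)⟩⟩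
  | m + 1, W, E, F, α, a, x, hfree, hz, hF, hα => by
    obtain ⟨k₀, hk₀⟩ : ∃ k₀, k₀ = a + m := ⟨_, rfl⟩
    obtain ⟨n, ⟨e⟩⟩ := hfree k₀
    have hγ : α.f k₀ ≫ F.d k₀ (k₀ + 1) = 0 := by rw [α.comm, hα (k₀ + 1) (by omega), comp_zero]
    have hex : ((stCx x).obj F).ExactAt k₀ := by
      rw [exactAt_iff_isZero_homology]
      exact ((DerSch.stalkFunctor W x).map_isZero (hF k₀ (by omega))).of_iso ((F.sc k₀).mapHomologyIso (DerSch.stalkFunctor W x))
    rw [exactAt_iff' _ (k₀ - 1) k₀ (k₀ + 1) (by simp) (by simp), ShortComplex.moduleCat_exact_iff] at hex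
    obtain ⟨V, hxV, l, hl⟩ := exists_lift (coords e) (F.d (k₀ - 1) k₀) (α.f k₀) x fun z => by
      refine hex (((DerSch.stalkFunctor W x).map (α.f k₀)).hom z) ?_
      refine (congrArg (fun t : (DerSch.stalkFunctor W x).obj (E.X k₀) ⟶ (DerSch.stalkFunctor W x).obj (F.X (k₀ + 1)) => t.hom z)
        (((DerSch.stalkFunctor W x).map_comp _ _).symm.trans ((congrArg (DerSch.stalkFunctor W x).map hγ).trans
          (Functor.map_zero _ _ _))))
    let E' := (rst V.ι).obj E
    let F' := (rst V.ι).obj F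
    let h : ∀ i j, (ComplexShape.up ℤ).Rel j i → (E'.X i ⟶ F'.X j) := fun i j hij =>
      if hi : i = k₀ then (eqToHom (by rw [hi]) : E'.X i ⟶ E'.X k₀) ≫ l ≫
        (eqToHom (by obtain rfl : j + 1 = i := hij; rw [show k₀ - 1 = j by omega]) : F'.X (k₀ - 1) ⟶ F'.X j) else 0
    let α' := (rst V.ι).map α - Homotopy.nullHomotopicMap' h
    have hα' : ∀ k, a + m ≤ k → α'.f k = 0 := fun k hk => by
      show ((rst V.ι).map α).f k - (Homotopy.nullHomotopicMap' h).f k = 0
      have r₁ : (ComplexShape.up ℤ).Rel (k - 1) k := by simp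
      have r₀ : (ComplexShape.up ℤ).Rel k (k + 1) := by simp
      rw [Homotopy.nullHomotopicMap'_f r₁ r₀, show h (k + 1) k r₀ = 0 from dif_neg (by omega), comp_zero, zero_add, sub_eq_zero]
      by_cases hk' : k = k₀
      · subst hk'
        rw [show h k (k - 1) r₁ = _ from dif_pos rfl, eqToHom_refl, eqToHom_refl]
        erw [Category.id_comp, Category.comp_id]
        exact hl.symm
      · rw [show h k (k - 1) r₁ = 0 from dif_neg hk', zero_comp]
        show (Scheme.Modules.restrictFunctor V.ι).map (α.f k) = 0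
        rw [hα k (by omega), Functor.map_zero]
    obtain ⟨W', j, _, hxj, ⟨H⟩⟩ := null_aux m α' a ⟨x, hxV⟩ (fun k => isFree_restrict _ (hfree k))
      (fun k hk => (Scheme.Modules.restrictFunctor V.ι).map_isZero (hz k hk))
      (fun k hk => isZero_homology_rst _ (hF k hk)) hα'
    refine ⟨W', j ≫ V.ι, inferInstance, ?_, ?_⟩
    · obtain ⟨x', hx'⟩ := hxj
      exact ⟨x', congrArg V.ι.base hx'⟩
    · have H₂ : Homotopy ((rst j).map (Homotopy.nullHomotopicMap' h)) 0 :=
        ((Scheme.Modules.restrictFunctor j).mapHomotopy (Homotopy.nullHomotopy' h)).trans (Homotopy.ofEq (Functor.map_zero _ _ _))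
      have H₃ : Homotopy ((rst j).map ((rst V.ι).map α)) 0 :=
        (Homotopy.ofEq (by rw [← Functor.map_add]; simp [α'])).trans ((H.add H₂).trans (Homotopy.ofEq (zero_add 0)))
      let e := rstComp j V.ι (j ≫ V.ι) rfl
      exact ⟨(Homotopy.ofEq ((NatIso.naturality_1 e α).symm)).trans
        (((H₃.compRight (e.app F).hom).compLeft (e.app E).inv).trans (Homotopy.ofEq (by simp)))⟩

/-- a map from a strictly perfect complex to a complex without cohomology there is locally null homotopic -/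
theorem exists_null {E F : CochainComplex X.Modules ℤ} (α : E ⟶ F) (hE : DCoh.IsStrictlyPerfect E) (a : ℤ)
    (hEa : ∀ k, k < a → IsZero (E.X k)) (hF : ∀ k, a ≤ k → IsZero (F.homology k)) (x : X) :
    ∃ V : X.Opens, x ∈ V ∧ Nonempty (Homotopy ((rst V.ι).map α) 0) := by
  obtain ⟨⟨c, b, hcb⟩, hf⟩ := hE
  choose O hO hfree using fun k : Finset.Icc c b => (isFinLocFree_iff (E.X k)).1 (hf k) x
  let O' : X.Opens := ⟨⋂ k, (O k : Set X), isOpen_iInter_of_finite fun k => (O k).2⟩
  have hfree' : ∀ k, IsFree (((rst O'.ι).obj E).X k) := fun k => by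
    by_cases hk : k ∈ Finset.Icc c b
    · exact ((hfree ⟨k, hk⟩).mono (fun z hz => Set.mem_iInter.1 hz ⟨k, hk⟩)).of_iso
        ((Scheme.Modules.restrictFunctorIsoPullback O'.ι).app _).symm
    · exact isFree_of_isZero ((Scheme.Modules.restrictFunctor O'.ι).map_isZero
        (hcb k (by simp only [Finset.mem_Icc] at hk; omega)))
  obtain ⟨W', j, _, ⟨x', hx'⟩, ⟨H⟩⟩ := null_aux (b + 1 - a).toNat ((rst O'.ι).map α) a ⟨x, Set.mem_iInter.2 hO⟩ hfree'
    (fun k hk => (Scheme.Modules.restrictFunctor O'.ι).map_isZero (hEa k hk))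
    (fun k hk => isZero_homology_rst _ (hF k hk))
    (fun k hk => ((Scheme.Modules.restrictFunctor O'.ι).map_isZero (hcb k (by omega))).eq_of_src _ _)
  let j' := j ≫ O'.ι
  let θ := j'.isoOpensRange.inv
  have hθ : θ ≫ j' = j'.opensRange.ι := j'.isoOpensRange_inv_comp
  let e := rstComp θ j' j'.opensRange.ι hθ
  let e' := rstComp j O'.ι j' rfl
  refine ⟨j'.opensRange, ⟨x', congrArg O'.ι.base hx'⟩, ⟨?_⟩⟩
  have H' : Homotopy ((rst j').map α) 0 :=
    (Homotopy.ofEq ((NatIso.naturality_1 e' α).symm)).trans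
      (((H.compRight (e'.app F).hom).compLeft (e'.app E).inv).trans (Homotopy.ofEq (by simp)))
  exact (Homotopy.ofEq ((NatIso.naturality_1 e α).symm)).trans
    ((((Scheme.Modules.restrictFunctor θ).mapHomotopy H').compRight (e.app F).hom).compLeft (e.app E).inv |>.trans
      (Homotopy.ofEq (by simp)))

/-- lifting through a map of complexes which is bijective on cohomology in high degrees -/
theorem exists_homotopy_lift {E F G : CochainComplex X.Modules ℤ} (α : E ⟶ F) (f : G ⟶ F)
    (hE : DCoh.IsStrictlyPerfect E) (a : ℤ) (hEa : ∀ j, j < a → IsZero (E.X j))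
    (hf : ∀ j, a < j → IsIso (homologyMap f j)) (hfa : Epi (homologyMap f a)) (x : X) :
    ∃ (V : X.Opens) (β : (rst V.ι).obj E ⟶ (rst V.ι).obj G), x ∈ V ∧
      Nonempty (Homotopy (β ≫ (rst V.ι).map f) ((rst V.ι).map α)) := by
  have hepi : ∀ k, a ≤ k → Epi (homologyMap f k) := fun k hk => by
    rcases hk.eq_or_lt with rfl | h
    · exact hfa
    · have := hf k h; infer_instance
  have hcone : ∀ k, a ≤ k → IsZero ((CochainComplex.mappingCone f).homology k) := fun k hk => by
    let T := CochainComplex.mappingCone.triangle f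
    have hT : DerivedCategory.Q.mapTriangle.obj T ∈ distTriang _ := DerivedCategory.mappingCone_triangle_distinguished f
    have h3 := CochainComplex.homologyMap_exact₃_of_distTriang T hT k (k + 1) rfl
    refine h3.isZero_of_both_zeros ?_ ?_
    · show homologyMap T.mor₂ k = 0
      have := hepi k hk
      have : Epi (homologyMap T.mor₁ k) := this
      rw [← cancel_epi (homologyMap T.mor₁ k), comp_zero]
      exact CochainComplex.homologyMap_comp_eq_zero_of_distTriang T hT k
    · show CochainComplex.homologyδOfTriangle T k (k + 1) rfl = 0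
      have := hf (k + 1) (by omega)
      have : Mono (homologyMap T.mor₁ (k + 1)) := (this.mono_of_iso : Mono (homologyMap f (k + 1)))
      rw [← cancel_mono (homologyMap T.mor₁ (k + 1)), zero_comp]
      exact CochainComplex.homologyδOfTriangle_homologyMap T hT k (k + 1) rfl
  obtain ⟨V, hxV, ⟨H⟩⟩ := exists_null (α ≫ CochainComplex.mappingCone.inr f) hE a hEa hcone x
  let R := rst V.ι
  let q := HomotopyCategory.quotient (V : Scheme.{u}).Modules (ComplexShape.up ℤ)
  let eC := CochainComplex.mappingCone.mapHomologicalComplexIso f (Scheme.Modules.restrictFunctor V.ι)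
  have hinr : R.map (CochainComplex.mappingCone.inr f) ≫ eC.hom = CochainComplex.mappingCone.inr (R.map f) :=
    CochainComplex.mappingCone.map_inr f (Scheme.Modules.restrictFunctor V.ι)
  have hT := HomotopyCategory.mappingCone_triangleh_distinguished (R.map f)
  have hz : q.map (R.map α) ≫ (CochainComplex.mappingCone.triangleh (R.map f)).mor₂ = 0 := by
    show q.map (R.map α) ≫ q.map (CochainComplex.mappingCone.inr (R.map f)) = 0
    rw [← hinr, ← q.map_comp, ← Category.assoc, ← R.map_comp, q.map_comp,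
      (HomotopyCategory.eq_of_homotopy _ _ H : q.map (R.map (α ≫ CochainComplex.mappingCone.inr f)) = q.map 0)]
    rw [Functor.map_zero, zero_comp]
  obtain ⟨g, hg⟩ := Triangle.coyoneda_exact₂ _ hT (q.map (R.map α)) hz
  obtain ⟨β, rfl⟩ := q.map_surjective g
  exact ⟨V, β, hxV, ⟨HomotopyCategory.homotopyOfEq _ _ ((q.map_comp _ _).trans hg.symm)⟩⟩

/-- a map in the derived category out of a strictly perfect complex is locally a chain map -/
theorem exists_chain_map {E F : CochainComplex X.Modules ℤ} (hE : DCoh.IsStrictlyPerfect E)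
    (α : DerivedCategory.Q.obj E ⟶ DerivedCategory.Q.obj F) (x : X) :
    ∃ V : X.Opens, x ∈ V ∧ ∀ [PreservesFiniteLimits (Scheme.Modules.restrictFunctor V.ι)],
      ∃ β : (rst V.ι).obj E ⟶ (rst V.ι).obj F,
        (Scheme.Modules.restrictFunctor V.ι).mapDerivedCategory.map α =
          (Scheme.Modules.restrictFunctor V.ι).mapDerivedCategoryFactors.hom.app E ≫ DerivedCategory.Q.map β ≫
            (Scheme.Modules.restrictFunctor V.ι).mapDerivedCategoryFactors.inv.app F := by
  obtain ⟨F', g, s, hs, hα⟩ := DerivedCategory.left_fac α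
  have hq : QuasiIso s := (DerivedCategory.isIso_Q_map_iff_quasiIso (φ := s)).1 hs
  obtain ⟨a, b, hab⟩ := hE.1
  obtain ⟨V, β, hxV, ⟨H⟩⟩ := exists_homotopy_lift g s hE a (fun j hj => hab j (Or.inl hj))
    (fun j _ => inferInstance) inferInstance x
  refine ⟨V, hxV, ⟨β, ?_⟩⟩
  let Φ := (Scheme.Modules.restrictFunctor V.ι).mapDerivedCategoryFactors
  let D := (Scheme.Modules.restrictFunctor V.ι).mapDerivedCategory
  have hh : DerivedCategory.Q.map β ≫ DerivedCategory.Q.map ((rst V.ι).map s) = DerivedCategory.Q.map ((rst V.ι).map g) := by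
    rw [← Functor.map_comp]
    exact DerivedCategory.Q_map_eq_of_homotopy _ H
  have : IsIso (D.map (DerivedCategory.Q.map s)) := inferInstance
  rw [← cancel_mono (D.map (DerivedCategory.Q.map s)), ← Functor.map_comp, hα, Category.assoc, IsIso.inv_hom_id,
    Category.comp_id, Category.assoc, Category.assoc]
  have hs' := Φ.inv.naturality s
  have hg' := Φ.hom.naturality g
  have hi : Φ.hom.app F' ≫ Φ.inv.app F' = 𝟙 _ := Φ.hom_inv_id_app F'
  refine Eq.trans ?_ (congrArg (Φ.hom.app E ≫ ·) (congrArg (DerivedCategory.Q.map β ≫ ·) hs'))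
  refine Eq.trans ?_ (congrArg (Φ.hom.app E ≫ ·) (Category.assoc _ _ _))
  refine Eq.trans ?_ (congrArg (fun t => Φ.hom.app E ≫ t ≫ Φ.inv.app F') hh.symm)
  refine Eq.trans ?_ (Category.assoc _ _ _)
  refine Eq.trans ?_ (congrArg (· ≫ Φ.inv.app F') hg')
  exact ((Category.comp_id _).symm.trans (congrArg (_ ≫ ·) hi.symm)).trans (Category.assoc _ _ _).symm

end Groth.Agent.H7LocLift
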