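import Mathlib

/-! Localisation properties of `Hom(Φ -, L)` along test data, and their five lemma. -/

universe v v' u u'
open CategoryTheory Limits Pretriangulated

namespace Groth.Agent.H7LocTri

variable {M : Type u} [Category.{v} M] {C : Type u'} [Category.{v'} C]

/-- a map with compatible families of endomorphisms ("powers of `f`") -/
structure Test (M : Type u) [Category.{v} M] where
  P : M
  P' : M
  a : P' ⟶ P
  e : ℕ → (P ⟶ P)
  e' : ℕ → (P' ⟶ P')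
  comm : ∀ k, e' k ≫ a = a ≫ e k
  add : ∀ i j, e i ≫ e j = e (i + j)
  add' : ∀ i j, e' i ≫ e' j = e' (i + j)

variable [Preadditive C]

/-- `Hom(Φ P', L)` is the localisation of `Hom(Φ P, L)` -/
structure Loc (t : Test M) (Φ : M ⥤ C) (L : C) : Prop where
  inj : ∀ x : Φ.obj t.P ⟶ L, Φ.map t.a ≫ x = 0 → ∃ k, Φ.map (t.e k) ≫ x = 0
  surj : ∀ y : Φ.obj t.P' ⟶ L, ∃ (k : ℕ) (x : Φ.obj t.P ⟶ L), Φ.map (t.e' k) ≫ y = Φ.map t.a ≫ x

variable {t : Test M}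

theorem loc_of_natTrans {Φ Φ' : M ⥤ C} (η : Φ ⟶ Φ') {L : C}
    (h : Function.Bijective fun x : Φ'.obj t.P ⟶ L => η.app t.P ≫ x)
    (h' : Function.Bijective fun x : Φ'.obj t.P' ⟶ L => η.app t.P' ≫ x) : Loc t Φ L ↔ Loc t Φ' L := by
  constructor
  · intro hl
    refine ⟨fun x hx => ?_, fun y => ?_⟩
    · obtain ⟨k, hk⟩ := hl.inj (η.app t.P ≫ x) (by
        rw [← Category.assoc, η.naturality, Category.assoc, hx, comp_zero])
      exact ⟨k, h.1 (show η.app t.P ≫ _ = η.app t.P ≫ 0 by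
        rw [comp_zero, ← Category.assoc, ← η.naturality, Category.assoc, hk])⟩
    · obtain ⟨k, x, hx⟩ := hl.surj (η.app t.P' ≫ y)
      obtain ⟨x', rfl⟩ := h.2 x
      exact ⟨k, x', h'.1 (show η.app t.P' ≫ _ = η.app t.P' ≫ _ by
        rw [← Category.assoc, ← η.naturality, Category.assoc, hx, ← Category.assoc, η.naturality, Category.assoc])⟩
  · intro hl
    refine ⟨fun x hx => ?_, fun y => ?_⟩
    · obtain ⟨x', rfl⟩ := h.2 x
      obtain ⟨k, hk⟩ := hl.inj x' (h'.1 (show η.app t.P' ≫ _ = η.app t.P' ≫ 0 by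
        rw [comp_zero, ← Category.assoc, ← η.naturality, Category.assoc, hx]))
      exact ⟨k, by rw [← Category.assoc, η.naturality, Category.assoc, hk, comp_zero]⟩
    · obtain ⟨y', rfl⟩ := h'.2 y
      obtain ⟨k, x, hx⟩ := hl.surj y'
      exact ⟨k, η.app t.P ≫ x, by
        rw [← Category.assoc, η.naturality, Category.assoc, hx, ← Category.assoc, ← η.naturality, Category.assoc]⟩

theorem loc_of_isIso {Φ Φ' : M ⥤ C} (η : Φ ⟶ Φ') [IsIso (η.app t.P)] [IsIso (η.app t.P')] {L : C} :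
    Loc t Φ L ↔ Loc t Φ' L :=
  loc_of_natTrans η ⟨fun _ _ h => (cancel_epi _).1 h, fun x => ⟨inv (η.app t.P) ≫ x, IsIso.hom_inv_id_assoc _ _⟩⟩
    ⟨fun _ _ h => (cancel_epi _).1 h, fun x => ⟨inv (η.app t.P') ≫ x, IsIso.hom_inv_id_assoc _ _⟩⟩

theorem loc_iso_right {Φ : M ⥤ C} {L L' : C} (e : L ≅ L') (h : Loc t Φ L) : Loc t Φ L' := by
  refine ⟨fun x hx => ?_, fun y => ?_⟩
  · obtain ⟨k, hk⟩ := h.inj (x ≫ e.inv) (by rw [← Category.assoc, hx, zero_comp])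
    exact ⟨k, by rw [← cancel_mono e.inv, Category.assoc, hk, zero_comp]⟩
  · obtain ⟨k, x, hx⟩ := h.surj (y ≫ e.inv)
    exact ⟨k, x ≫ e.hom, by rw [← cancel_mono e.inv, Category.assoc, hx, Category.assoc, Category.assoc, e.hom_inv_id, Category.comp_id]⟩

variable [HasShift C ℤ] [∀ n : ℤ, (shiftFunctor C n).Additive]

/-- localisation for every shift of `L` -/
def LocAll (t : Test M) (Φ : M ⥤ C) (L : C) : Prop := ∀ j : ℤ, Loc t Φ (L⟦j⟧)

theorem loc_shift {Φ : M ⥤ C} {L : C} (h : LocAll t Φ L) (i j : ℤ) : Loc t (Φ ⋙ shiftFunctor C i) (L⟦j⟧) := by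
  let ε : ((L⟦j - i⟧)⟦i⟧ : C) ≅ L⟦j⟧ := ((shiftFunctorAdd' C (j - i) i j (by omega)).app L).symm
  refine loc_iso_right ε ⟨fun x hx => ?_, fun y => ?_⟩
  · obtain ⟨x', rfl⟩ := (shiftFunctor C i).map_surjective x
    obtain ⟨k, hk⟩ := (h (j - i)).inj x' ((shiftFunctor C i).map_injective (by
      rw [Functor.map_comp, Functor.map_zero]; exact hx))
    exact ⟨k, (Functor.map_comp _ _ _).symm.trans ((congrArg _ hk).trans (Functor.map_zero _ _ _))⟩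
  · obtain ⟨y', rfl⟩ := (shiftFunctor C i).map_surjective y
    obtain ⟨k, x, hx⟩ := (h (j - i)).surj y'
    exact ⟨k, (shiftFunctor C i).map x,
      (Functor.map_comp _ _ _).symm.trans ((congrArg _ hx).trans (Functor.map_comp _ _ _))⟩

variable [HasZeroObject C] [Pretriangulated C] {Φ₁ Φ₂ Φ₃ : M ⥤ C} (α : Φ₁ ⟶ Φ₂) (β : Φ₂ ⟶ Φ₃)
  (δ : Φ₃ ⟶ Φ₁ ⋙ shiftFunctor C (1 : ℤ))

/-- five lemma -/
theorem loc_five {L : C} (hT : ∀ Q : M, Q = t.P ∨ Q = t.P' →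
      Triangle.mk (α.app Q) (β.app Q) (δ.app Q) ∈ distTriang C)
    (h₁ : LocAll t Φ₁ L) (h₃ : LocAll t Φ₃ L) : LocAll t Φ₂ L := by
  intro j
  have hP := hT t.P (Or.inl rfl)
  have hP' := hT t.P' (Or.inr rfl)
  refine ⟨fun x hx => ?_, fun y => ?_⟩
  · obtain ⟨k, hk⟩ := (h₁ j).inj (α.app t.P ≫ x) (by
      rw [← Category.assoc, α.naturality, Category.assoc, hx, comp_zero])
    obtain ⟨z, hz⟩ := Triangle.yoneda_exact₂ _ hP (Φ₂.map (t.e k) ≫ x) (by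
      show α.app t.P ≫ Φ₂.map (t.e k) ≫ x = 0
      rw [← Category.assoc, ← α.naturality, Category.assoc, hk])
    change Φ₂.map (t.e k) ≫ x = β.app t.P ≫ z at hz
    obtain ⟨w, hw⟩ := Triangle.yoneda_exact₃ _ hP' (Φ₃.map t.a ≫ z) (by
      show β.app t.P' ≫ Φ₃.map t.a ≫ z = 0
      rw [← Category.assoc, ← β.naturality, Category.assoc, ← hz, ← Category.assoc, ← Φ₂.map_comp, ← t.comm,
        Φ₂.map_comp, Category.assoc, hx, comp_zero])
    obtain ⟨l, v, hv⟩ := (loc_shift h₁ 1 j).surj w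
    change Φ₃.map t.a ≫ z = δ.app t.P' ≫ w at hw
    obtain ⟨q, hq⟩ := (h₃ j).inj (Φ₃.map (t.e l) ≫ z - δ.app t.P ≫ v) (by
      rw [Preadditive.comp_sub, ← Category.assoc, ← Φ₃.map_comp, ← t.comm, Φ₃.map_comp, Category.assoc, hw,
        ← Category.assoc, δ.naturality, Category.assoc, hv, ← Category.assoc, ← δ.naturality, Category.assoc,
        sub_self])
    refine ⟨q + (l + k), ?_⟩
    have h0 : β.app t.P ≫ δ.app t.P = 0 := comp_distTriang_mor_zero₂₃ _ hP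
    have := congrArg (β.app t.P ≫ ·) hq
    simp only [Preadditive.comp_sub, comp_zero, ← NatTrans.naturality_assoc, ← hz] at this
    rw [reassoc_of% h0, zero_comp, comp_zero, sub_zero, ← Functor.map_comp_assoc, ← Functor.map_comp_assoc,
      t.add, t.add] at this
    rwa [← add_assoc]
  · obtain ⟨k, w, hw⟩ := (h₁ j).surj (α.app t.P' ≫ y)
    let ε : ((L⟦j⟧)⟦(1 : ℤ)⟧ : C) ≅ L⟦j + 1⟧ := ((shiftFunctorAdd C j 1).app L).symm
    have h0 : α.app t.P' ≫ Φ₂.map (t.e' k) ≫ y = Φ₁.map t.a ≫ w := by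
      rw [← Category.assoc, ← α.naturality, Category.assoc, hw]
    obtain ⟨l, hl⟩ := (h₃ (j + 1)).inj (δ.app t.P ≫ w⟦(1 : ℤ)⟧' ≫ ε.hom) (by
      have hz : δ.app t.P' ≫ (α.app t.P')⟦(1 : ℤ)⟧' = 0 := comp_distTriang_mor_zero₃₁ _ hP'
      rw [← Category.assoc, δ.naturality, Category.assoc, Functor.comp_map, ← Functor.map_comp_assoc, ← h0,
        Functor.map_comp_assoc, ← Category.assoc, hz, zero_comp])
    have hl' : δ.app t.P ≫ (Φ₁.map (t.e l) ≫ w)⟦(1 : ℤ)⟧' = 0 := by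
      rw [← cancel_mono ε.hom, zero_comp, ← hl, Functor.map_comp, δ.naturality_assoc, Category.assoc,
        Category.assoc]
      rfl
    obtain ⟨g, hg⟩ : ∃ g : (Φ₂.obj t.P)⟦(1 : ℤ)⟧ ⟶ (L⟦j⟧)⟦(1 : ℤ)⟧,
        (Φ₁.map (t.e l) ≫ w)⟦(1 : ℤ)⟧' = (-(α.app t.P)⟦(1 : ℤ)⟧') ≫ g :=
      Triangle.yoneda_exact₃ _ (rot_of_distTriang _ hP) ((Φ₁.map (t.e l) ≫ w)⟦(1 : ℤ)⟧') hl'
    obtain ⟨g', rfl⟩ := (shiftFunctor C (1 : ℤ)).map_surjective g
    have hg' : Φ₁.map (t.e l) ≫ w = α.app t.P ≫ (-g') := (shiftFunctor C (1 : ℤ)).map_injective (by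
      rw [hg, (shiftFunctor C (1 : ℤ)).map_comp (α.app t.P) (-g'), Functor.map_neg]
      rw [Preadditive.neg_comp, Preadditive.comp_neg])
    obtain ⟨u, hu⟩ := Triangle.yoneda_exact₂ _ hP' (Φ₂.map (t.e' (l + k)) ≫ y - Φ₂.map t.a ≫ (-g')) (by
      show α.app t.P' ≫ _ = 0
      rw [Preadditive.comp_sub, ← t.add' l k, Functor.map_comp_assoc, ← α.naturality_assoc, h0,
        ← α.naturality_assoc, ← hg', ← Functor.map_comp_assoc, ← Functor.map_comp_assoc, t.comm, sub_self])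
    change _ = β.app t.P' ≫ u at hu
    obtain ⟨m, v, hv⟩ := (h₃ j).surj u
    refine ⟨m + (l + k), Φ₂.map (t.e m) ≫ (-g') + β.app t.P ≫ v, ?_⟩
    rw [← t.add' m, Functor.map_comp_assoc, Preadditive.comp_add, β.naturality_assoc, ← hv,
      ← β.naturality_assoc, ← hu, Preadditive.comp_sub, ← Functor.map_comp_assoc, ← Functor.map_comp_assoc,
      ← t.comm, Functor.map_comp_assoc, Functor.map_comp_assoc, add_sub_cancel]

/-- if `Hom` out of the third vertex vanishes in all degrees, the first two agree -/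
theorem bijective_of_vanish {A B Z : C} (f : A ⟶ B) (g : B ⟶ Z) (h : Z ⟶ A⟦(1 : ℤ)⟧)
    (hT : Triangle.mk f g h ∈ distTriang C) (L : C) (h0 : ∀ z : Z ⟶ L, z = 0)
    (h1 : ∀ z : Z ⟶ L⟦(1 : ℤ)⟧, z = 0) : Function.Bijective fun x : B ⟶ L => f ≫ x := by
  refine ⟨fun x y hxy => ?_, fun x => ?_⟩
  · obtain ⟨z, hz⟩ := Triangle.yoneda_exact₂ _ hT (x - y) (show f ≫ (x - y) = 0 by
      rw [Preadditive.comp_sub]; exact sub_eq_zero.2 hxy)
    have hz' : x - y = g ≫ (z : Z ⟶ L) := hz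
    rw [h0 z, comp_zero] at hz'
    exact sub_eq_zero.1 hz'
  · obtain ⟨g', hg⟩ : ∃ g' : B⟦(1 : ℤ)⟧ ⟶ L⟦(1 : ℤ)⟧, x⟦(1 : ℤ)⟧' = (-f⟦(1 : ℤ)⟧') ≫ g' :=
      Triangle.yoneda_exact₃ _ (rot_of_distTriang _ hT) (x⟦(1 : ℤ)⟧') (h1 _)
    obtain ⟨g'', rfl⟩ := (shiftFunctor C (1 : ℤ)).map_surjective g'
    refine ⟨-g'', (shiftFunctor C (1 : ℤ)).map_injective ?_⟩
    rw [hg]
    show (f ≫ (-g''))⟦(1 : ℤ)⟧' = (-f⟦(1 : ℤ)⟧') ≫ g''⟦(1 : ℤ)⟧'
    rw [Functor.map_comp, Functor.map_neg, Preadditive.comp_neg, Preadditive.neg_comp]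

end Groth.Agent.H7LocTri
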