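import Groth.Agent.Lib.H7AdamsEigen
import Mathlib

/-! log u is a ψ^j-eigenvector. -/

set_option autoImplicit false
universe v
open Finset LambdaRing TensorProduct Polynomial

namespace Groth.Agent.H7LogLine
open Groth.Agent H7Split

noncomputable def L (d : ℕ) : ℚ[X] :=
  ∑ n ∈ Finset.range (d + 1), Polynomial.C ((-1 : ℚ) ^ n / ((n : ℚ) + 1)) * Polynomial.X ^ (n + 1)

lemma derivative_L (d : ℕ) : derivative (L d) = ∑ n ∈ Finset.range (d + 1), (-X : ℚ[X]) ^ n := by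
  rw [L, derivative_sum]
  refine Finset.sum_congr rfl fun n _ => ?_
  rw [derivative_C_mul_X_pow, Nat.add_sub_cancel, neg_pow (X : ℚ[X]), Nat.cast_add, Nat.cast_one,
    div_mul_cancel₀ _ (by positivity : ((n : ℚ) + 1) ≠ 0), map_pow, map_neg, map_one]

theorem dvd_key (d j : ℕ) (hj : 1 ≤ j) :
    (X : ℚ[X]) ^ (d + 1) ∣ (L d).comp ((1 + X) ^ j - 1) - (j : ℚ[X]) * L d := by
  set Y : ℚ[X] := (1 + X) ^ j - 1
  set p := (L d).comp Y - (j : ℚ[X]) * L d
  have hder : (1 + X) * derivative p = (j : ℚ[X]) * ((-X : ℚ[X]) ^ (d + 1) - (-Y) ^ (d + 1)) := by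
    have hg : ∀ Z : ℚ[X], (1 + Z) * ∑ n ∈ Finset.range (d + 1), (-Z) ^ n = 1 - (-Z) ^ (d + 1) := fun Z => by
      have := mul_neg_geom_sum (-Z) (d + 1)
      rwa [sub_neg_eq_add] at this
    have hY : derivative Y = (j : ℚ[X]) * (1 + X) ^ (j - 1) := by
      simp [Y, derivative_pow]
    have hp : (1 + X : ℚ[X]) * (1 + X) ^ (j - 1) = 1 + Y := by
      rw [← pow_succ', Nat.sub_add_cancel hj]; simp [Y]
    simp only [p, derivative_sub, derivative_comp, derivative_mul, derivative_natCast, zero_mul, zero_add, derivative_L, hY,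
      Polynomial.sum_comp, pow_comp, neg_comp, X_comp]
    linear_combination (j : ℚ[X]) * hg Y - (j : ℚ[X]) * hg X + (j : ℚ[X]) * (∑ n ∈ Finset.range (d + 1), (-Y) ^ n) * hp
  have hdvd : (X : ℚ[X]) ^ (d + 1) ∣ (1 + X) * derivative p := by
    rw [hder]
    refine dvd_mul_of_dvd_right (dvd_sub ?_ ?_) _
    · rw [neg_pow]; exact dvd_mul_left _ _
    · refine pow_dvd_pow_of_dvd ?_ _
      rw [dvd_neg, X_dvd_iff]
      simp [Y, Polynomial.coeff_zero_eq_eval_zero]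
  rw [X_pow_dvd_iff] at hdvd ⊢
  intro k hk
  induction k with
  | zero => simp [p, Y, L, Polynomial.coeff_zero_eq_eval_zero, eval_comp, eval_finsetSum]
  | succ k ih =>
    have h := hdvd k (by omega)
    rw [add_mul, one_mul, coeff_add, coeff_derivative] at h
    rcases k with _ | k
    · simp at h; simpa using h
    · rw [coeff_X_mul, coeff_derivative, ih (by omega)] at h
      have hne : ((k + 1 : ℕ) : ℚ) + 1 ≠ 0 := by positivity
      have hne' : ((k : ℚ) + 1 + 1) ≠ 0 := by positivity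
      simpa [hne, hne'] using h

variable {K : Type v} [CommRing K] [LambdaOps K] (P : PosStructure K)

theorem log_mem (hK : HasSplitting K P) (d : ℕ) (hd : gammaFiltration P (d + 1) = ⊥) (j : ℕ) (hj : 2 ≤ j)
    (Ψ : ℚ ⊗[ℤ] K →ₗ[ℚ] ℚ ⊗[ℤ] K) (hΨ : ∀ x : K, Ψ (1 ⊗ₜ[ℤ] x) = 1 ⊗ₜ[ℤ] adams P j x) (u : K) (hu : P.IsLine u) :
    (∑ n ∈ range (d + 1), ((-1 : ℚ) ^ n / ((n : ℚ) + 1)) ⊗ₜ[ℤ] ((u - 1) ^ (n + 1))) ∈ Module.End.eigenspace Ψ (j : ℚ) ∧
      (∑ n ∈ range (d + 1), ((-1 : ℚ) ^ n / ((n : ℚ) + 1)) ⊗ₜ[ℤ] ((u - 1) ^ (n + 1))) - (1 : ℚ) ⊗ₜ[ℤ] (u - 1) ∈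
        Submodule.span ℚ ((fun x : K => (1 : ℚ) ⊗ₜ[ℤ] x) '' (gammaFiltration P 2 : Set K)) := by
  have hx : P.aug (u - 1) = 0 := by rw [map_sub, hu.2, map_one, sub_self]
  have hpow : ∀ n, (u - 1) ^ n ∈ gammaFiltration P n := fun n => by
    induction n with
    | zero => exact H7AdamsFil.fil_zero P _
    | succ n ih =>
      have h1 := H7AdamsFil.gamma_mem P hx 1
      rw [GammaN.gamma_one] at h1
      rw [pow_succ]
      exact H7Split5.mul_mem P n 1 _ _ ih h1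
  have hnil : (u - 1) ^ (d + 1) = 0 := by
    have := hpow (d + 1)
    rw [hd] at this
    exact this
  set t : ℚ ⊗[ℤ] K := (1 : ℚ) ⊗ₜ[ℤ] (u - 1)
  have hterm : ∀ (a : ℚ) (n : ℕ), a ⊗ₜ[ℤ] ((u - 1) ^ n) = a • t ^ n := fun a n => by
    rw [Algebra.TensorProduct.tmul_pow, one_pow, TensorProduct.smul_tmul', smul_eq_mul, mul_one]
  have hz : (∑ n ∈ range (d + 1), ((-1 : ℚ) ^ n / ((n : ℚ) + 1)) ⊗ₜ[ℤ] ((u - 1) ^ (n + 1))) = aeval t (L d) := by
    simp only [L, map_sum, map_mul, aeval_C, map_pow, aeval_X, ← Algebra.smul_def, hterm]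
  refine ⟨Module.End.mem_eigenspace_iff.2 ?_, ?_⟩
  · obtain ⟨ψ, hψ⟩ := adams_ringHom P hK j
    have hΨt : ∀ n, Ψ (t ^ n) = (aeval t ((1 + X : ℚ[X]) ^ j - 1)) ^ n := fun n => by
      have h1 : P.IsLine (1 : K) := ⟨by simpa using P.natCast_mem 1 one_pos, map_one _⟩
      rw [Algebra.TensorProduct.tmul_pow, one_pow, hΨ, ← hψ, map_pow, map_sub, map_one, hψ, adams_line' P hu, map_sub, map_pow, map_add,
        map_one, aeval_X]
      rw [show (1 : ℚ ⊗[ℤ] K) + t = (1 : ℚ) ⊗ₜ[ℤ] u by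
        rw [Algebra.TensorProduct.one_def, ← TensorProduct.tmul_add, add_sub_cancel]]
      rw [Algebra.TensorProduct.tmul_pow, one_pow, Algebra.TensorProduct.one_def, ← TensorProduct.tmul_sub,
        Algebra.TensorProduct.tmul_pow, one_pow]
    have hl : Ψ (aeval t (L d)) = aeval t ((L d).comp ((1 + X) ^ j - 1)) := by
      rw [aeval_comp]
      simp only [L, map_sum, map_mul, aeval_C, map_pow, aeval_X, ← Algebra.smul_def, map_smul, hΨt]
    obtain ⟨q, hq⟩ := dvd_key d j (by omega)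
    rw [hz, hl, sub_eq_iff_eq_add.1 hq, map_add, map_mul, map_pow, aeval_X, map_mul, map_natCast, Nat.cast_smul_eq_nsmul, nsmul_eq_mul]
    have ht : t ^ (d + 1) = 0 := by rw [Algebra.TensorProduct.tmul_pow, hnil, TensorProduct.tmul_zero]
    rw [ht, zero_mul, zero_add]
  · rw [Finset.sum_range_succ']
    simp only [Nat.cast_zero, zero_add, pow_zero, div_one, pow_one]
    rw [show (1 : ℚ) ⊗ₜ[ℤ] (u - 1) = t from rfl, add_sub_cancel_right]
    refine Submodule.sum_mem _ fun n _ => ?_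
    rw [hterm]
    refine Submodule.smul_mem _ _ (Submodule.subset_span ⟨_, H7AdamsFil.fil_anti P (by omega) (hpow (n + 1 + 1)), ?_⟩)
    show (1 : ℚ) ⊗ₜ[ℤ] ((u - 1) ^ (n + 1 + 1)) = _
    rw [hterm, one_smul]

end Groth.Agent.H7LogLine
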