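import Groth.Agent.Lib.H7QcqsInd
import Groth.Agent.Lib.H7RpushLocal
import Groth.Agent.Lib.H7AffinePush
import Groth.Agent.Lib.H7QCoh
import Groth.Prelude.Def_CechOX
import Mathlib

/-! Mayer–Vietoris triangles for `Rj_* j^*`. -/

universe u v w u' v'
open CategoryTheory Limits AlgebraicGeometry Opposite TopologicalSpace Pretriangulated

namespace Groth.Agent.H7MV
open Groth.Agent CechOX

attribute [local instance] HasDerivedCategory.standard

theorem hasRpush {X Y : Scheme.{u}} (f : X ⟶ Y) : DCoh.HasRpush f :=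
  (H5KApps.resolving_Qh (A := X.Modules) H5KApps.enoughKInj_of_grothendieck).hasRightDerived
    (H5KApps.compat_Qh (DCoh.pushKh f)) (HomotopyCategory.quasiIso X.Modules (ComplexShape.up ℤ))

variable {X : Scheme.{u}}

lemma le_of_sections (M : X.Modules) {A B : X.Opens} (h : A ≤ B) (h' : B ≤ A) (s : Γ(M, A)) :
    M.presheaf.map (homOfLE h).op (M.presheaf.map (homOfLE h').op s) = s := by
  rw [← ConcreteCategory.comp_apply, ← Functor.map_comp, Subsingleton.elim ((homOfLE h').op ≫ (homOfLE h).op) (𝟙 _),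
    M.presheaf.map_id]
  rfl

lemma res2 (M : X.Modules) {A B C : X.Opens} (i : op A ⟶ op B) (j : op B ⟶ op C) (k : op A ⟶ op C) (s : Γ(M, A)) :
    M.presheaf.map j (M.presheaf.map i s) = M.presheaf.map k s := by
  rw [← ConcreteCategory.comp_apply, ← Functor.map_comp, Subsingleton.elim (i ≫ j) k]

variable (U V : X.Opens)

/-- `M ↦ j_{U*}(M|U) ⊞ j_{V*}(M|V)` -/
noncomputable def pair : X.Modules ⥤ X.Modules where
  obj M := (pushRestr U).obj M ⊞ (pushRestr V).obj M
  map φ := biprod.map ((pushRestr U).map φ) ((pushRestr V).map φ)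
  map_id M := by apply biprod.hom_ext <;> simp [CategoryTheory.Functor.map_id]
  map_comp φ ψ := by apply biprod.hom_ext <;> simp [Functor.map_comp]

lemma map_add' {C : Type u'} [Category.{v'} C] [Preadditive C] [HasBinaryBiproducts C] {A A' B B' : C}
    (a a' : A ⟶ A') (b b' : B ⟶ B') : biprod.map (a + a') (b + b') = biprod.map a b + biprod.map a' b' := by
  apply biprod.hom_ext <;> simp [Preadditive.add_comp, Preadditive.comp_add]

instance pair_additive : (pair U V).Additive where
  map_add {M N f g} :=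
    (congrArg₂ biprod.map ((pushRestr U).map_add (f := f) (g := g)) ((pushRestr V).map_add (f := f) (g := g))).trans
      (map_add' _ _ _ _)

/-- `j_*(M|U⊔V) ⟶` the pair -/
noncomputable def α : pushRestr (U ⊔ V) ⟶ pair U V where
  app M := biprod.lift ((pushRestrMap (le_sup_left : U ≤ U ⊔ V)).app M) ((pushRestrMap (le_sup_right : V ≤ U ⊔ V)).app M)
  naturality M N φ := by
    dsimp [pair]
    apply biprod.hom_ext <;> simp
    · exact (pushRestrMap (le_sup_left : U ≤ U ⊔ V)).naturality φ
    · exact (pushRestrMap (le_sup_right : V ≤ U ⊔ V)).naturality φ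

/-- the difference map to `U ⊓ V` -/
noncomputable def β : pair U V ⟶ pushRestr (U ⊓ V) where
  app M := biprod.desc ((pushRestrMap (inf_le_left : U ⊓ V ≤ U)).app M) (-(pushRestrMap (inf_le_right : U ⊓ V ≤ V)).app M)
  naturality M N φ := by
    dsimp [pair]
    apply biprod.hom_ext' <;> simp
    · exact (pushRestrMap (inf_le_left : U ⊓ V ≤ U)).naturality φ
    · exact (pushRestrMap (inf_le_right : U ⊓ V ≤ V)).naturality φ

lemma interFun_eq (W O : X.Opens) : (interFun W).obj O = W ⊓ O := by
  show W.ι ''ᵁ W.ι ⁻¹ᵁ O = _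
  rw [Scheme.Hom.image_preimage_eq_opensRange_inf, Scheme.Opens.opensRange_ι]

lemma α_β (M : X.Modules) : (α U V).app M ≫ (β U V).app M = 0 := by
  refine (biprod.lift_desc).trans ?_
  rw [Preadditive.comp_neg, ← sub_eq_add_neg]
  apply Scheme.Modules.hom_ext
  intro O
  ext s
  show ((pushRestrMap le_sup_left).app M ≫ (pushRestrMap inf_le_left).app M).app O s -
    ((pushRestrMap le_sup_right).app M ≫ (pushRestrMap inf_le_right).app M).app O s = 0
  rw [sub_eq_zero]
  let s' : Γ(M, (interFun (U ⊔ V)).obj O) := s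
  let k := (homOfLE (CechOX.image_preimage_mono (inf_le_left.trans le_sup_left : U ⊓ V ≤ U ⊔ V) O)).op
  exact (res2 M _ _ k s').trans (res2 M _ _ k s').symm

lemma biprod_sec_ext {A B : X.Modules} {O : X.Opens} {a b : Γ(A ⊞ B, O)}
    (h₁ : (biprod.fst : A ⊞ B ⟶ A).app O a = (biprod.fst : A ⊞ B ⟶ A).app O b)
    (h₂ : (biprod.snd : A ⊞ B ⟶ B).app O a = (biprod.snd : A ⊞ B ⟶ B).app O b) : a = b := by
  have h : ∀ c : Γ(A ⊞ B, O), (biprod.inl : A ⟶ A ⊞ B).app O ((biprod.fst : A ⊞ B ⟶ A).app O c) +
      (biprod.inr : B ⟶ A ⊞ B).app O ((biprod.snd : A ⊞ B ⟶ B).app O c) = c := fun c =>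
    congrArg (fun k => Scheme.Modules.Hom.app k O c) (biprod.total (X := A) (Y := B))
  rw [← h a, ← h b, h₁, h₂]

theorem shortExact (M : X.Modules) [Injective M] :
    (ShortComplex.mk ((α U V).app M) ((β U V).app M) (α_β U V M)).ShortExact := by
  let r := fun {W W' : X.Opens} (h : W' ≤ W) (O : X.Opens) => ((pushRestrMap h).app M).app O
  have hg : ∀ (O : X.Opens) (a : Γ((pushRestr U).obj M, O)) (b : Γ((pushRestr V).obj M, O)),
      r (inf_le_left : U ⊓ V ≤ U) O a = r (inf_le_right : U ⊓ V ≤ V) O b →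
      ∃! c : Γ((pushRestr (U ⊔ V)).obj M, O), r (le_sup_left : U ≤ U ⊔ V) O c = a ∧ r (le_sup_right : V ≤ U ⊔ V) O c = b := by
    intro O a b hab
    have hle₁ := CechOX.image_preimage_mono (le_sup_left : U ≤ U ⊔ V) O
    have hle₂ := CechOX.image_preimage_mono (le_sup_right : V ≤ U ⊔ V) O
    let a' : Γ(M, (interFun U).obj O) := a
    let b' : Γ(M, (interFun V).obj O) := b
    have hcov : (interFun (U ⊔ V)).obj O ≤ (interFun U).obj O ⊔ (interFun V).obj O := by
      rw [interFun_eq, interFun_eq, interFun_eq, inf_sup_right]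
    have hinf : (interFun U).obj O ⊓ (interFun V).obj O ≤ (interFun (U ⊓ V)).obj O := by
      rw [interFun_eq, interFun_eq, interFun_eq]
      exact le_inf (le_inf (inf_le_left.trans inf_le_left) (inf_le_right.trans inf_le_left)) (inf_le_left.trans inf_le_right)
    let sh : TopCat.Sheaf AddCommGrpCat.{u} X.toTopCat := ⟨M.presheaf, M.isSheaf⟩
    have hab' : M.presheaf.map (homOfLE (inf_le_left : (interFun U).obj O ⊓ (interFun V).obj O ≤ _)).op a' =
        M.presheaf.map (homOfLE (inf_le_right : (interFun U).obj O ⊓ (interFun V).obj O ≤ _)).op b' := by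
      have := congrArg (M.presheaf.map (homOfLE hinf).op) hab
      exact ((res2 M (homOfLE (CechOX.image_preimage_mono inf_le_left O)).op (homOfLE hinf).op _ a').symm.trans this).trans
        (res2 M (homOfLE (CechOX.image_preimage_mono inf_le_right O)).op (homOfLE hinf).op _ b')
    let Wf : Bool → X.Opens := fun t => bif t then (interFun U).obj O else (interFun V).obj O
    let sf : ∀ t : Bool, ToType (sh.1.obj (op (Wf t))) := fun t => match t with
      | true => a'
      | false => b'
    have hW : ∀ t, Wf t ≤ (interFun (U ⊔ V)).obj O := fun t => match t with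
      | true => hle₁
      | false => hle₂
    have hcov' : (interFun (U ⊔ V)).obj O ≤ iSup Wf :=
      hcov.trans (sup_le (le_iSup Wf true) (le_iSup Wf false))
    have hcompat : TopCat.Presheaf.IsCompatible sh.1 Wf sf := by
      intro s t
      match s, t with
      | true, true => rfl
      | false, false => rfl
      | true, false => exact hab'
      | false, true =>
        have h' := congrArg (M.presheaf.map (homOfLE (le_inf inf_le_right inf_le_left :
          (interFun V).obj O ⊓ (interFun U).obj O ≤ (interFun U).obj O ⊓ (interFun V).obj O)).op) hab'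
        exact (((res2 M _ _ (homOfLE inf_le_right).op a').symm.trans h').trans (res2 M _ _ (homOfLE inf_le_left).op b')).symm
    obtain ⟨c, hc, huniq⟩ := sh.existsUnique_gluing' Wf _ (fun t => homOfLE (hW t)) hcov' sf hcompat
    refine ⟨c, ⟨hc true, hc false⟩, fun c' hc' => huniq c' fun t => ?_⟩
    match t with
    | true => exact hc'.1
    | false => exact hc'.2
  have hα : ∀ (O : X.Opens) (c : Γ((pushRestr (U ⊔ V)).obj M, O)),
      (biprod.fst : (pair U V).obj M ⟶ _).app O (((α U V).app M).app O c) = r le_sup_left O c ∧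
      (biprod.snd : (pair U V).obj M ⟶ _).app O (((α U V).app M).app O c) = r le_sup_right O c := fun O c =>
    ⟨congrArg (fun k => Scheme.Modules.Hom.app k O c) (biprod.lift_fst _ _),
     congrArg (fun k => Scheme.Modules.Hom.app k O c) (biprod.lift_snd _ _)⟩
  have hβ : ∀ (O : X.Opens) (e : Γ((pair U V).obj M, O)), ((β U V).app M).app O e =
      r inf_le_left O ((biprod.fst : (pair U V).obj M ⟶ _).app O e) -
      r inf_le_right O ((biprod.snd : (pair U V).obj M ⟶ _).app O e) := by
    intro O e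
    have h : (β U V).app M = biprod.fst ≫ (pushRestrMap (inf_le_left : U ⊓ V ≤ U)).app M -
        biprod.snd ≫ (pushRestrMap (inf_le_right : U ⊓ V ≤ V)).app M := by
      dsimp [β, pair]; apply biprod.hom_ext' <;> simp
    exact congrArg (fun k => Scheme.Modules.Hom.app k O e) h
  have hmono : Mono ((α U V).app M) := ⟨fun {Z} p q hpq => by
    apply Scheme.Modules.hom_ext
    intro O
    ext z
    have h0 := congrArg (fun k => Scheme.Modules.Hom.app k O z) hpq
    obtain ⟨c, -, hu⟩ := hg O (r le_sup_left O (p.app O z)) (r le_sup_right O (p.app O z)) (by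
      show ((pushRestrMap le_sup_left).app M ≫ (pushRestrMap inf_le_left).app M).app O (p.app O z) =
        ((pushRestrMap le_sup_right).app M ≫ (pushRestrMap inf_le_right).app M).app O (p.app O z)
      let s' : Γ(M, (interFun (U ⊔ V)).obj O) := p.app O z
      let k := (homOfLE (CechOX.image_preimage_mono (inf_le_left.trans le_sup_left : U ⊓ V ≤ U ⊔ V) O)).op
      exact (res2 M _ _ k s').trans (res2 M _ _ k s').symm)
    refine (hu _ ⟨rfl, rfl⟩).trans (hu _ ⟨?_, ?_⟩).symm
    · exact ((hα O _).1.symm.trans ((congrArg _ h0.symm).trans (hα O _).1))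
    · exact ((hα O _).2.symm.trans ((congrArg _ h0.symm).trans (hα O _).2))⟩
  have hepi : Epi ((β U V).app M) := ⟨fun {Z} p q hpq => by
    apply Scheme.Modules.hom_ext
    intro O
    ext z
    let z' : Γ(M, (interFun (U ⊓ V)).obj O) := z
    have hle := CechOX.image_preimage_mono (inf_le_left : U ⊓ V ≤ U) O
    obtain ⟨t, ht⟩ := LExtZero.res_surjective_of_injective M ((interFun (U ⊓ V)).obj O) z'
    let a : Γ((pushRestr U).obj M, O) := M.presheaf.map (homOfLE (le_top : (interFun U).obj O ≤ ⊤)).op t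
    have ha : r inf_le_left O a = z := by
      exact (res2 M _ _ (homOfLE le_top).op t).trans ht
    have he : ((β U V).app M).app O ((biprod.inl : _ ⟶ (pair U V).obj M).app O a) = z := by
      refine Eq.trans ?_ ha
      exact congrArg (fun k => Scheme.Modules.Hom.app k O a) (biprod.inl_desc _ _)
    rw [← he]
    exact congrArg (fun k => Scheme.Modules.Hom.app k O ((biprod.inl : _ ⟶ (pair U V).obj M).app O a)) hpq⟩
  have hex : (ShortComplex.mk ((α U V).app M) ((β U V).app M) (α_β U V M)).Exact := by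
    rw [ShortComplex.exact_iff_epi_kernel_lift]
    refine ⟨fun {Z} p q hpq => ?_⟩
    apply Scheme.Modules.hom_ext
    intro O
    ext z
    let e : Γ((pair U V).obj M, O) := (kernel.ι ((β U V).app M)).app O z
    have hz : ((β U V).app M).app O e = 0 :=
      congrArg (fun k => Scheme.Modules.Hom.app k O z) (kernel.condition ((β U V).app M))
    rw [hβ, sub_eq_zero] at hz
    obtain ⟨c, ⟨hc₁, hc₂⟩, -⟩ := hg O _ _ hz
    have hce : ((α U V).app M).app O c = e :=
      biprod_sec_ext ((hα O c).1.trans hc₁) ((hα O c).2.trans hc₂)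
    have hinj : Function.Injective ((kernel.ι ((β U V).app M)).app O) :=
      (AddCommGrpCat.mono_iff_injective _).1 (inferInstanceAs (Mono ((H7AffinePush.secF O).map (kernel.ι ((β U V).app M)))))
    have hl : (kernel.lift ((β U V).app M) ((α U V).app M) (α_β U V M)).app O c = z :=
      hinj ((congrArg (fun k => Scheme.Modules.Hom.app k O c) (kernel.lift_ι _ _ _)).trans hce)
    rw [← hl]
    exact congrArg (fun k => Scheme.Modules.Hom.app k O c) hpq
  exact { exact := hex, mono_f := hmono, epi_g := hepi }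


variable {U V : X.Opens}

/-- `Rj_*(K|_W)` for a K-injective representative `I` of `K` -/
noncomputable abbrev obj (W : X.Opens) (I : CochainComplex X.Modules ℤ) : DCoh.D X :=
  DerivedCategory.Q.obj (((pushRestr W).mapHomologicalComplex (ComplexShape.up ℤ)).obj I)

/-- termwise short exact natural sequences give triangles -/
theorem exists_triangle {C : Type u'} [Category.{v'} C] [Abelian C] [HasDerivedCategory.{w} C] {F G H : X.Modules ⥤ C}
    [F.Additive] [G.Additive] [H.Additive] (a : F ⟶ G) (b : G ⟶ H) (hab : ∀ M, a.app M ≫ b.app M = 0)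
    (I : CochainComplex X.Modules ℤ) (h : ∀ n, (ShortComplex.mk (a.app (I.X n)) (b.app (I.X n)) (hab _)).ShortExact) :
    ∃ T ∈ distTriang (DerivedCategory C),
      Nonempty (T.obj₁ ≅ DerivedCategory.Q.obj ((F.mapHomologicalComplex (ComplexShape.up ℤ)).obj I)) ∧
      Nonempty (T.obj₂ ≅ DerivedCategory.Q.obj ((G.mapHomologicalComplex (ComplexShape.up ℤ)).obj I)) ∧
      Nonempty (T.obj₃ ≅ DerivedCategory.Q.obj ((H.mapHomologicalComplex (ComplexShape.up ℤ)).obj I)) := by
  let S : ShortComplex (CochainComplex C ℤ) := ShortComplex.mk ((NatTrans.mapHomologicalComplex a _).app I)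
    ((NatTrans.mapHomologicalComplex b _).app I) (HomologicalComplex.hom_ext _ _ fun n => hab _)
  have hS : S.ShortExact := (HomologicalComplex.shortExact_iff_degreewise_shortExact S).2 h
  exact ⟨DerivedCategory.triangleOfSES hS, DerivedCategory.triangleOfSES_distinguished hS,
    ⟨Iso.refl _⟩, ⟨Iso.refl _⟩, ⟨Iso.refl _⟩⟩

/-- the pair splits -/
theorem exists_triangle_pair (I : CochainComplex X.Modules ℤ) :
    ∃ T ∈ distTriang (DCoh.D X), Nonempty (T.obj₁ ≅ obj U I) ∧
      Nonempty (T.obj₂ ≅ DerivedCategory.Q.obj (((pair U V).mapHomologicalComplex (ComplexShape.up ℤ)).obj I)) ∧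
      Nonempty (T.obj₃ ≅ obj V I) := by
  let a : pushRestr U ⟶ pair U V :=
    { app := fun M => biprod.inl
      naturality := fun M N φ => by dsimp [pair]; exact (biprod.inl_map _ _).symm }
  let b : pair U V ⟶ pushRestr V :=
    { app := fun M => biprod.snd
      naturality := fun M N φ => by dsimp [pair]; exact biprod.map_snd _ _ }
  refine exists_triangle a b (fun M => biprod.inl_snd) I fun n => ?_
  exact (ShortComplex.Splitting.ofHasBinaryBiproduct ((pushRestr U).obj (I.X n)) ((pushRestr V).obj (I.X n))).shortExact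

/-- the Mayer–Vietoris triangle -/
theorem exists_triangle_mv (I : CochainComplex X.Modules ℤ) (hI : ∀ n, Injective (I.X n)) :
    ∃ T ∈ distTriang (DCoh.D X), Nonempty (T.obj₁ ≅ obj (U ⊔ V) I) ∧
      Nonempty (T.obj₂ ≅ DerivedCategory.Q.obj (((pair U V).mapHomologicalComplex (ComplexShape.up ℤ)).obj I)) ∧
      Nonempty (T.obj₃ ≅ obj (U ⊓ V) I) :=
  exists_triangle (α U V) (β U V) (α_β U V) I fun n => @shortExact _ U V _ (hI n)

theorem isIso_unit_top (M : X.Modules) :
    IsIso ((Scheme.Modules.restrictAdjunction (⊤ : X.Opens).ι).unit.app M) := by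
  refine Scheme.Modules.Hom.isIso_iff_isIso_app.mpr fun O => ?_
  rw [Scheme.Modules.restrictAdjunction_unit_app_app]
  have h : (⊤ : X.Opens).ι ''ᵁ (⊤ : X.Opens).ι ⁻¹ᵁ O = O := (interFun_eq ⊤ O).trans (top_inf_eq O)
  haveI : IsIso (homOfLE ((⊤ : X.Opens).ι.image_preimage_le O)) :=
    ⟨homOfLE h.ge, Subsingleton.elim _ _, Subsingleton.elim _ _⟩
  haveI : IsIso ((homOfLE ((⊤ : X.Opens).ι.image_preimage_le O)).op) := inferInstance
  exact Functor.map_isIso M.presheaf _

theorem nonempty_obj_top (I : CochainComplex X.Modules ℤ) : Nonempty (obj ⊤ I ≅ DerivedCategory.Q.obj I) := by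
  refine ⟨DerivedCategory.Q.mapIso (Iso.symm (HomologicalComplex.Hom.isoOfComponents
    (fun n => @asIso _ _ _ _ _ (isIso_unit_top (I.X n))) fun i j _ => ?_))⟩
  exact ((Scheme.Modules.restrictAdjunction (⊤ : X.Opens).ι).unit.naturality (I.d i j)).symm

theorem nonempty_obj_rpush (W : X.Opens) [DCoh.HasRpush W.ι] (I : CochainComplex X.Modules ℤ) (hI : I.IsKInjective) :
    Nonempty (obj W I ≅ (DCoh.Rpush W.ι).obj ((DCoh.restrictD W.ι).obj (DerivedCategory.Q.obj I))) :=
  ⟨DerivedCategory.Q.mapIso ((Functor.mapHomologicalComplexCompIso (Iso.refl (pushRestr W)) _).app I).symm ≪≫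
    (H7RpushCalc.rpushIso W.ι _ (H7RpushLocal.isKInjective_restrict W.ι I hI)).symm ≪≫
    (DCoh.Rpush W.ι).mapIso ((Scheme.Modules.restrictFunctor W.ι).mapDerivedCategoryFactors.app I).symm⟩

/-- `j_*(I|_W)` is injective for injective `I` -/
theorem injective_pushRestr (W : X.Opens) (M : X.Modules) [Injective M] : Injective ((pushRestr W).obj M) :=
  haveI := LExtZero.injective_restrict W.ι M
  Injective.injective_of_adjoint (Scheme.Modules.restrictAdjunction W.ι) _

/-- a class of objects stable under extensions containing the `Rj_*` from affines contains `D_QCoh` -/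
theorem mv_induction [CompactSpace X] [QuasiSeparatedSpace X] (P : DCoh.D X → Prop)
    (hiso : ∀ {E F : DCoh.D X}, (E ≅ F) → P E → P F)
    (h₂ : ∀ T ∈ distTriang (DCoh.D X), P T.obj₁ → P T.obj₃ → P T.obj₂)
    (h₁ : ∀ T ∈ distTriang (DCoh.D X), P T.obj₂ → P T.obj₃ → P T.obj₁)
    (haff : ∀ (A : X.Opens) [DCoh.HasRpush A.ι], IsAffineOpen A → ∀ E : DCoh.D A.toScheme, DCoh.IsQCohD E →
      P ((DCoh.Rpush A.ι).obj E))
    (K : DCoh.D X) (hK : DCoh.IsQCohD K) : P K := by
  obtain ⟨M, hM⟩ : ∃ M, Nonempty (DerivedCategory.Q.obj M ≅ K) := ⟨_, ⟨DerivedCategory.Q.objObjPreimageIso K⟩⟩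
  obtain ⟨I, f, hI, hf, -, hinj⟩ := H5KInj.exists_kInjective M
  obtain ⟨e⟩ := hM
  have := (DerivedCategory.isIso_Q_map_iff_quasiIso _ f).2 hf
  let e' : DerivedCategory.Q.obj I ≅ K := (asIso (DerivedCategory.Q.map f)).symm ≪≫ e
  have hIq : DCoh.IsQCohD (DerivedCategory.Q.obj I) := fun i =>
    H7AffineD.qcoh_of_iso ((DerivedCategory.homologyFunctor _ i).mapIso e'.symm) (hK i)
  suffices h : P (obj ⊤ I) from hiso ((nonempty_obj_top I).some ≪≫ e') h
  refine H7QcqsInd.induction (Q := fun W => P (obj W I)) (fun A hA => ?_) (fun U V hU hV hUV => ?_) ⊤ isCompact_univ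
  · haveI := hasRpush A.ι
    exact hiso (nonempty_obj_rpush A I hI).some.symm (haff A hA _ (H7QCoh.isQCohD_restrict A.ι hIq))
  · obtain ⟨T, hT, ⟨a₁⟩, ⟨a₂⟩, ⟨a₃⟩⟩ := exists_triangle_pair (U := U) (V := V) I
    have hp := hiso a₂ (h₂ T hT (hiso a₁.symm hU) (hiso a₃.symm hV))
    obtain ⟨T', hT', ⟨b₁⟩, ⟨b₂⟩, ⟨b₃⟩⟩ := exists_triangle_mv (U := U) (V := V) I hinj
    exact hiso b₁ (h₁ T' hT' (hiso b₂.symm hp) (hiso b₃.symm hUV))

end Groth.Agent.H7MV
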