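import Groth.Agent.Lib.H7MV
import Mathlib

/-! Mayer–Vietoris triangles under additive functors. -/

universe u v w u' v'
open CategoryTheory Limits AlgebraicGeometry Opposite TopologicalSpace Pretriangulated

namespace Groth.Agent.H7MVTri
open Groth.Agent CechOX H7MV

attribute [local instance] HasDerivedCategory.standard

variable {X : Scheme.{u}} {C : Type u'} [Category.{v'} C] [Abelian C] [HasDerivedCategory.{w} C]
  (F : X.Modules ⥤ C) [F.Additive]

/-- `F(j_*(K|_W))` for a representative `I` of `K` -/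
noncomputable abbrev fobj (W : X.Opens) (I : CochainComplex X.Modules ℤ) : DerivedCategory C :=
  DerivedCategory.Q.obj (((pushRestr W ⋙ F).mapHomologicalComplex (ComplexShape.up ℤ)).obj I)

theorem nonempty_pair_iso (U V : X.Opens) (I : CochainComplex X.Modules ℤ) :
    Nonempty (DerivedCategory.Q.obj (((H7MV.pair U V ⋙ F).mapHomologicalComplex (ComplexShape.up ℤ)).obj I) ≅
      fobj F U I ⊞ fobj F V I) := by
  let c := ComplexShape.up ℤ
  let iU : pushRestr U ⟶ H7MV.pair U V :=
    { app := fun M => biprod.inl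
      naturality := fun M N φ => by dsimp [H7MV.pair]; exact (biprod.inl_map _ _).symm }
  let iV : pushRestr V ⟶ H7MV.pair U V :=
    { app := fun M => biprod.inr
      naturality := fun M N φ => by dsimp [H7MV.pair]; exact (biprod.inr_map _ _).symm }
  let pU : H7MV.pair U V ⟶ pushRestr U :=
    { app := fun M => biprod.fst
      naturality := fun M N φ => by dsimp [H7MV.pair]; exact biprod.map_fst _ _ }
  let pV : H7MV.pair U V ⟶ pushRestr V :=
    { app := fun M => biprod.snd
      naturality := fun M N φ => by dsimp [H7MV.pair]; exact biprod.map_snd _ _ }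
  let a₁ := (NatTrans.mapHomologicalComplex (Functor.whiskerRight iU F) c).app I
  let a₂ := (NatTrans.mapHomologicalComplex (Functor.whiskerRight iV F) c).app I
  let b₁ := (NatTrans.mapHomologicalComplex (Functor.whiskerRight pU F) c).app I
  let b₂ := (NatTrans.mapHomologicalComplex (Functor.whiskerRight pV F) c).app I
  let e : ((H7MV.pair U V ⋙ F).mapHomologicalComplex c).obj I ≅
      ((pushRestr U ⋙ F).mapHomologicalComplex c).obj I ⊞ ((pushRestr V ⋙ F).mapHomologicalComplex c).obj I :=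
    { hom := biprod.lift b₁ b₂
      inv := biprod.desc a₁ a₂
      hom_inv_id := by
        rw [biprod.lift_desc]
        ext n
        show F.map biprod.fst ≫ F.map biprod.inl + F.map biprod.snd ≫ F.map biprod.inr = 𝟙 _
        exact ((congrArg₂ (· + ·) (F.map_comp _ _).symm (F.map_comp _ _).symm).trans F.map_add.symm).trans
          ((congrArg F.map biprod.total).trans (F.map_id _))
      inv_hom_id := by
        have h₁ : a₁ ≫ b₁ = 𝟙 _ := by
          ext n
          exact (F.map_comp _ _).symm.trans ((congrArg F.map biprod.inl_fst).trans (F.map_id _))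
        have h₂ : a₁ ≫ b₂ = 0 := by
          ext n
          exact (F.map_comp _ _).symm.trans ((congrArg F.map biprod.inl_snd).trans (F.map_zero _ _))
        have h₃ : a₂ ≫ b₁ = 0 := by
          ext n
          exact (F.map_comp _ _).symm.trans ((congrArg F.map biprod.inr_fst).trans (F.map_zero _ _))
        have h₄ : a₂ ≫ b₂ = 𝟙 _ := by
          ext n
          exact (F.map_comp _ _).symm.trans ((congrArg F.map biprod.inr_snd).trans (F.map_id _))
        apply biprod.hom_ext <;> apply biprod.hom_ext' <;> simp [h₁, h₂, h₃, h₄] }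
  haveI : PreservesBinaryBiproducts (DerivedCategory.Q (C := C)) := preservesBinaryBiproducts_of_preservesBiproducts _
  exact ⟨DerivedCategory.Q.mapIso e ≪≫ DerivedCategory.Q.mapBiprod _ _⟩

/-- the Mayer–Vietoris triangle under an additive functor -/
theorem exists_triangle_mv_map (U V : X.Opens) (I : CochainComplex X.Modules ℤ) (hI : ∀ n, Injective (I.X n)) :
    ∃ T ∈ distTriang (DerivedCategory C), Nonempty (T.obj₁ ≅ fobj F (U ⊔ V) I) ∧
      Nonempty (T.obj₂ ≅ fobj F U I ⊞ fobj F V I) ∧ Nonempty (T.obj₃ ≅ fobj F (U ⊓ V) I) := by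
  have hS : ∀ n, (ShortComplex.mk (F.map ((α U V).app (I.X n))) (F.map ((β U V).app (I.X n)))
      ((F.map_comp _ _).symm.trans ((congrArg F.map (α_β U V _)).trans (F.map_zero _ _)))).ShortExact := fun n => by
    have hn := hI n
    haveI := injective_pushRestr (U ⊔ V) (I.X n)
    exact (((shortExact (U := U) (V := V) (I.X n)).splittingOfInjective).map F).shortExact
  obtain ⟨T, hT, e₁, ⟨e₂⟩, e₃⟩ := exists_triangle (Functor.whiskerRight (α U V) F) (Functor.whiskerRight (β U V) F)
    (fun M => (F.map_comp _ _).symm.trans ((congrArg F.map (α_β U V M)).trans (F.map_zero _ _))) I hS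
  exact ⟨T, hT, e₁, ⟨e₂ ≪≫ (nonempty_pair_iso F U V I).some⟩, e₃⟩

/-- triangles with prescribed objects -/
theorem exists_morphisms (T : Triangle (DerivedCategory C)) (hT : T ∈ distTriang _) {A B D : DerivedCategory C}
    (e₁ : T.obj₁ ≅ A) (e₂ : T.obj₂ ≅ B) (e₃ : T.obj₃ ≅ D) :
    ∃ (a : A ⟶ B) (b : B ⟶ D) (c : D ⟶ A⟦(1 : ℤ)⟧), Triangle.mk a b c ∈ distTriang _ :=
  ⟨e₁.inv ≫ T.mor₁ ≫ e₂.hom, e₂.inv ≫ T.mor₂ ≫ e₃.hom, e₃.inv ≫ T.mor₃ ≫ e₁.hom⟦(1 : ℤ)⟧',
    isomorphic_distinguished _ hT _ (Triangle.isoMk _ _ e₁.symm e₂.symm e₃.symm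
      (by show (e₁.inv ≫ T.mor₁ ≫ e₂.hom) ≫ e₂.inv = e₁.inv ≫ T.mor₁; simp)
      (by show (e₂.inv ≫ T.mor₂ ≫ e₃.hom) ≫ e₃.inv = e₂.inv ≫ T.mor₂; simp)
      (by show (e₃.inv ≫ T.mor₃ ≫ e₁.hom⟦(1 : ℤ)⟧') ≫ e₁.inv⟦(1 : ℤ)⟧' = e₃.inv ≫ T.mor₃; simp [← Functor.map_comp]))⟩

end Groth.Agent.H7MVTri
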