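import Groth.Agent.Lib.H5KFlatApps
import Mathlib

/-! Images of total complexes of bifunctors under functors; tensoring with a complex concentrated in degree 0. -/

universe w v v' v'' u u' u''

namespace Groth.Agent.H7MapTotal
open CategoryTheory Limits Category HomologicalComplex

variable {A B D A' B' D' : Type*} [Category A] [Category B] [Category D] [Category A'] [Category B'] [Category D']
  [Preadditive A] [Preadditive B] [Preadditive D] [Preadditive A'] [Preadditive B'] [Preadditive D']

section map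

variable (F : A ⥤ B ⥤ D) [F.Additive] [∀ X, (F.obj X).Additive]
  (F' : A' ⥤ B' ⥤ D') [F'.Additive] [∀ X, (F'.obj X).Additive]
  (GA : A ⥤ A') [GA.Additive] (GB : B ⥤ B') [GB.Additive] (G : D ⥤ D') [G.Additive]
  [∀ J : Type, PreservesColimitsOfShape (Discrete J) G]
  (η : F ⋙ (Functor.whiskeringRight _ _ _).obj G ≅ GA ⋙ F' ⋙ (Functor.whiskeringLeft _ _ _).obj GB)
  (K : CochainComplex A ℤ) (L : CochainComplex B ℤ)
  [HasMapBifunctor K L F (ComplexShape.up ℤ)]
  [HasMapBifunctor ((GA.mapHomologicalComplex _).obj K) ((GB.mapHomologicalComplex _).obj L) F' (ComplexShape.up ℤ)]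

/-- component of the comparison -/
noncomputable def e (a : A) (b : B) : G.obj ((F.obj a).obj b) ≅ (F'.obj (GA.obj a)).obj (GB.obj b) :=
  (η.app a).app b

lemma e_nat₁ {a a' : A} (f : a ⟶ a') (b : B) :
    G.map ((F.map f).app b) ≫ (e F F' GA GB G η a' b).hom =
      (e F F' GA GB G η a b).hom ≫ (F'.map (GA.map f)).app (GB.obj b) :=
  congrArg (fun t => NatTrans.app t b) (η.hom.naturality f)

lemma e_nat₂ (a : A) {b b' : B} (g : b ⟶ b') :
    G.map ((F.obj a).map g) ≫ (e F F' GA GB G η a b').hom =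
      (e F F' GA GB G η a b).hom ≫ (F'.obj (GA.obj a)).map (GB.map g) :=
  (η.hom.app a).naturality g

/-- the comparison at the terms of the complexes -/
noncomputable def eK (p q : ℤ) : G.obj ((F.obj (K.X p)).obj (L.X q)) ≅
    (F'.obj (((GA.mapHomologicalComplex (ComplexShape.up ℤ)).obj K).X p)).obj
      (((GB.mapHomologicalComplex (ComplexShape.up ℤ)).obj L).X q) :=
  e F F' GA GB G η (K.X p) (L.X q)

omit [HasMapBifunctor K L F (ComplexShape.up ℤ)]
  [HasMapBifunctor ((GA.mapHomologicalComplex _).obj K) ((GB.mapHomologicalComplex _).obj L) F' (ComplexShape.up ℤ)] in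
lemma eK_nat₁ (p p' q : ℤ) :
    G.map ((F.map (K.d p p')).app (L.X q)) ≫ (eK F F' GA GB G η K L p' q).hom =
      (eK F F' GA GB G η K L p q).hom ≫
        (F'.map (((GA.mapHomologicalComplex (ComplexShape.up ℤ)).obj K).d p p')).app
          (((GB.mapHomologicalComplex (ComplexShape.up ℤ)).obj L).X q) :=
  e_nat₁ F F' GA GB G η (K.d p p') (L.X q)

omit [HasMapBifunctor K L F (ComplexShape.up ℤ)]
  [HasMapBifunctor ((GA.mapHomologicalComplex _).obj K) ((GB.mapHomologicalComplex _).obj L) F' (ComplexShape.up ℤ)] in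
lemma eK_nat₂ (p q q' : ℤ) :
    G.map ((F.obj (K.X p)).map (L.d q q')) ≫ (eK F F' GA GB G η K L p q').hom =
      (eK F F' GA GB G η K L p q).hom ≫
        (F'.obj (((GA.mapHomologicalComplex (ComplexShape.up ℤ)).obj K).X p)).map
          (((GB.mapHomologicalComplex (ComplexShape.up ℤ)).obj L).d q q') :=
  e_nat₂ F F' GA GB G η (K.X p) (L.d q q')

/-- the image of the tautological cofan is colimiting -/
noncomputable def isColimitImage (n : ℤ) :
    IsColimit (Cofan.mk (G.obj ((mapBifunctor K L F (ComplexShape.up ℤ)).X n))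
      (fun i : (ComplexShape.π (ComplexShape.up ℤ) (ComplexShape.up ℤ) (ComplexShape.up ℤ)) ⁻¹' {n} =>
        G.map (ιMapBifunctor K L F (ComplexShape.up ℤ) i.1.1 i.1.2 n i.2))) :=
  isColimitCofanMkObjOfIsColimit G _ _
    (GradedObject.isColimitCofanMapObj
      (((F.mapBifunctorHomologicalComplex (ComplexShape.up ℤ) (ComplexShape.up ℤ)).obj K).obj L).toGradedObject
      (ComplexShape.π (ComplexShape.up ℤ) (ComplexShape.up ℤ) (ComplexShape.up ℤ)) n)

variable {F G} in
lemma image_hom_ext {n : ℤ} {Z : D'} {f g : G.obj ((mapBifunctor K L F (ComplexShape.up ℤ)).X n) ⟶ Z}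
    (h : ∀ (p q : ℤ) (hpq : ComplexShape.π (ComplexShape.up ℤ) (ComplexShape.up ℤ) (ComplexShape.up ℤ) (p, q) = n),
      G.map (ιMapBifunctor K L F (ComplexShape.up ℤ) p q n hpq) ≫ f =
        G.map (ιMapBifunctor K L F (ComplexShape.up ℤ) p q n hpq) ≫ g) : f = g :=
  Cofan.IsColimit.hom_ext (isColimitImage F G K L n) _ _ fun ⟨⟨p, q⟩, hpq⟩ => h p q hpq

/-- degreewise comparison -/
noncomputable def homX (n : ℤ) : G.obj ((mapBifunctor K L F (ComplexShape.up ℤ)).X n) ⟶
    (mapBifunctor ((GA.mapHomologicalComplex _).obj K) ((GB.mapHomologicalComplex _).obj L) F' (ComplexShape.up ℤ)).X n :=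
  Cofan.IsColimit.desc (isColimitImage F G K L n) fun i =>
    (eK F F' GA GB G η K L i.1.1 i.1.2).hom ≫
      ιMapBifunctor ((GA.mapHomologicalComplex _).obj K) ((GB.mapHomologicalComplex _).obj L) F' (ComplexShape.up ℤ) i.1.1 i.1.2 n i.2

lemma ι_homX (p q n : ℤ) (h : ComplexShape.π (ComplexShape.up ℤ) (ComplexShape.up ℤ) (ComplexShape.up ℤ) (p, q) = n) :
    G.map (ιMapBifunctor K L F (ComplexShape.up ℤ) p q n h) ≫ homX F F' GA GB G η K L n =
      (eK F F' GA GB G η K L p q).hom ≫
        ιMapBifunctor ((GA.mapHomologicalComplex _).obj K) ((GB.mapHomologicalComplex _).obj L) F' (ComplexShape.up ℤ) p q n h :=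
  Cofan.IsColimit.fac (isColimitImage F G K L n) _ ⟨(p, q), h⟩

/-- the degreewise comparison is an isomorphism -/
noncomputable def isoX (n : ℤ) : G.obj ((mapBifunctor K L F (ComplexShape.up ℤ)).X n) ≅
    (mapBifunctor ((GA.mapHomologicalComplex _).obj K) ((GB.mapHomologicalComplex _).obj L) F' (ComplexShape.up ℤ)).X n where
  hom := homX F F' GA GB G η K L n
  inv := mapBifunctorDesc fun p q h => (eK F F' GA GB G η K L p q).inv ≫
    G.map (ιMapBifunctor K L F (ComplexShape.up ℤ) p q n h)
  hom_inv_id := image_hom_ext K L fun p q h => by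
    rw [reassoc_of% ι_homX, ι_mapBifunctorDesc, Iso.hom_inv_id_assoc, comp_id]
  inv_hom_id := mapBifunctor.hom_ext fun p q h => by
    rw [ι_mapBifunctorDesc_assoc, assoc, ι_homX, comp_id]
    exact Iso.inv_hom_id_assoc _ _

/-- the comparison of total complexes -/
noncomputable def iso : (G.mapHomologicalComplex _).obj (mapBifunctor K L F (ComplexShape.up ℤ)) ≅
    mapBifunctor ((GA.mapHomologicalComplex _).obj K) ((GB.mapHomologicalComplex _).obj L) F' (ComplexShape.up ℤ) :=
  Hom.isoOfComponents (isoX F F' GA GB G η K L) fun n n' hnn' => image_hom_ext K L fun p q h => by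
    have hnn'' : n + 1 = n' := hnn'
    have hpq : p + q = n := h
    have h1 : ComplexShape.π (ComplexShape.up ℤ) (ComplexShape.up ℤ) (ComplexShape.up ℤ) (p + 1, q) = n' := by
      show p + 1 + q = n'
      omega
    have h2 : ComplexShape.π (ComplexShape.up ℤ) (ComplexShape.up ℤ) (ComplexShape.up ℤ) (p, q + 1) = n' := by
      show p + (q + 1) = n'
      omega
    show G.map _ ≫ homX F F' GA GB G η K L n ≫ _ = G.map _ ≫ G.map _ ≫ homX F F' GA GB G η K L n'
    rw [reassoc_of% ι_homX, mapBifunctor.d_eq, mapBifunctor.d_eq, Preadditive.comp_add, Preadditive.comp_add,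
      mapBifunctor.ι_D₁, mapBifunctor.ι_D₂, ← G.map_comp_assoc, Preadditive.comp_add,
      mapBifunctor.ι_D₁, mapBifunctor.ι_D₂, Functor.map_add, Preadditive.add_comp,
      mapBifunctor.d₁_eq _ _ _ _ (show (ComplexShape.up ℤ).Rel p (p + 1) from rfl) q n' h1,
      mapBifunctor.d₂_eq _ _ _ _ p (show (ComplexShape.up ℤ).Rel q (q + 1) from rfl) n' h2,
      mapBifunctor.d₁_eq _ _ _ _ (show (ComplexShape.up ℤ).Rel p (p + 1) from rfl) q n' h1,
      mapBifunctor.d₂_eq _ _ _ _ p (show (ComplexShape.up ℤ).Rel q (q + 1) from rfl) n' h2]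
    simp only [Linear.comp_units_smul, Functor.map_units_smul, Linear.units_smul_comp, Functor.map_comp, assoc,
      ι_homX]
    rw [reassoc_of% eK_nat₁ F F' GA GB G η K L, reassoc_of% eK_nat₂ F F' GA GB G η K L]

variable {K' : CochainComplex A ℤ} {L' : CochainComplex B ℤ}
  [HasMapBifunctor K' L' F (ComplexShape.up ℤ)]
  [HasMapBifunctor ((GA.mapHomologicalComplex _).obj K') ((GB.mapHomologicalComplex _).obj L') F' (ComplexShape.up ℤ)]

/-- naturality of the comparison -/
lemma iso_naturality (f : K ⟶ K') (g : L ⟶ L') :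
    (G.mapHomologicalComplex _).map (mapBifunctorMap f g F (ComplexShape.up ℤ)) ≫
        (iso F F' GA GB G η K' L').hom =
      (iso F F' GA GB G η K L).hom ≫
        mapBifunctorMap ((GA.mapHomologicalComplex _).map f) ((GB.mapHomologicalComplex _).map g) F'
          (ComplexShape.up ℤ) :=
  HomologicalComplex.hom_ext _ _ fun n => image_hom_ext K L fun p q h => by
    show G.map _ ≫ G.map _ ≫ homX F F' GA GB G η K' L' n = G.map _ ≫ homX F F' GA GB G η K L n ≫ _
    rw [← G.map_comp_assoc, ι_mapBifunctorMap, reassoc_of% ι_homX, ι_mapBifunctorMap]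
    simp only [Functor.map_comp, assoc, ι_homX]
    have key : G.map ((F.map (f.f p)).app (L.X q)) ≫ G.map ((F.obj (K'.X p)).map (g.f q)) ≫
        (eK F F' GA GB G η K' L' p q).hom =
      (eK F F' GA GB G η K L p q).hom ≫
        (F'.map (((GA.mapHomologicalComplex (ComplexShape.up ℤ)).map f).f p)).app
          (((GB.mapHomologicalComplex (ComplexShape.up ℤ)).obj L).X q) ≫
        (F'.obj (((GA.mapHomologicalComplex (ComplexShape.up ℤ)).obj K').X p)).map
          (((GB.mapHomologicalComplex (ComplexShape.up ℤ)).map g).f q) :=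
      (congrArg (G.map ((F.map (f.f p)).app (L.X q)) ≫ ·) (e_nat₂ F F' GA GB G η (K'.X p) (g.f q))).trans
        ((assoc _ _ _).symm.trans ((congrArg (· ≫ _) (e_nat₁ F F' GA GB G η (f.f p) (L.X q))).trans (assoc _ _ _)))
    rw [reassoc_of% key]

end map

section single

variable (F : A ⥤ B ⥤ D) [F.Additive] [∀ X, (F.obj X).Additive] [HasZeroObject B] (M : B)
  (L : CochainComplex A ℤ)
  [HasMapBifunctor L ((HomologicalComplex.single B (ComplexShape.up ℤ) 0).obj M) F (ComplexShape.up ℤ)]

lemma zero_of_ne (p q : ℤ) (hq : q ≠ 0) {Z : D}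
    (f g : (F.obj (L.X p)).obj (((HomologicalComplex.single B (ComplexShape.up ℤ) 0).obj M).X q) ⟶ Z) : f = g := by
  have h : IsZero ((F.obj (L.X p)).obj (((HomologicalComplex.single B (ComplexShape.up ℤ) 0).obj M).X q)) :=
    Functor.map_isZero _ (HomologicalComplex.isZero_single_obj_X _ _ _ _ hq)
  exact h.eq_of_src f g

/-- degreewise: `(L ⊗ M[0])^n = L^n ⊗ M` -/
noncomputable def singleX (n : ℤ) :
    (mapBifunctor L ((HomologicalComplex.single B (ComplexShape.up ℤ) 0).obj M) F (ComplexShape.up ℤ)).X n ≅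
      (F.obj (L.X n)).obj M where
  hom := mapBifunctorDesc fun p q h =>
    if hq : q = 0 then
      (F.obj (L.X p)).map (eqToHom (by rw [hq]) ≫ (HomologicalComplex.singleObjXSelf (ComplexShape.up ℤ) 0 M).hom) ≫
        eqToHom (by
          have : p + q = n := h
          rw [show p = n by omega])
    else 0
  inv := (F.obj (L.X n)).map (HomologicalComplex.singleObjXSelf (ComplexShape.up ℤ) 0 M).inv ≫
    ιMapBifunctor L _ F (ComplexShape.up ℤ) n 0 n (add_zero n)
  hom_inv_id := mapBifunctor.hom_ext fun p q h => by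
    rw [ι_mapBifunctorDesc_assoc, comp_id]
    by_cases hq : q = 0
    · subst hq
      obtain rfl : p = n := by
        have : p + 0 = n := h
        omega
      simp [← Functor.map_comp_assoc]
    · exact zero_of_ne F M L p q hq _ _
  inv_hom_id := by
    rw [assoc, ι_mapBifunctorDesc, dif_pos rfl]
    simp [← Functor.map_comp]

/-- `L ⊗ M[0]` is `L ⊗ M` termwise -/
noncomputable def singleIso :
    mapBifunctor L ((HomologicalComplex.single B (ComplexShape.up ℤ) 0).obj M) F (ComplexShape.up ℤ) ≅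
      ((F.flip.obj M).mapHomologicalComplex (ComplexShape.up ℤ)).obj L :=
  Hom.isoOfComponents (singleX F M L) fun n n' hnn' => mapBifunctor.hom_ext fun p q h => by
    by_cases hq : q = 0
    · subst hq
      obtain rfl : p = n := by
        have : p + 0 = n := h
        omega
      obtain rfl : n' = p + 1 := (show p + 1 = n' from hnn').symm
      show _ ≫ (singleX F M L p).hom ≫ (F.map (L.d p (p + 1))).app M =
        _ ≫ _ ≫ (singleX F M L (p + 1)).hom
      simp only [singleX, ι_mapBifunctorDesc_assoc, dif_pos]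
      rw [mapBifunctor.d_eq, Preadditive.add_comp, Preadditive.comp_add, mapBifunctor.ι_D₁_assoc,
        mapBifunctor.ι_D₂_assoc,
        mapBifunctor.d₁_eq _ _ _ _ (show (ComplexShape.up ℤ).Rel p (p + 1) from rfl) 0 (p + 1) (add_zero _),
        mapBifunctor.d₂_eq _ _ _ _ p (show (ComplexShape.up ℤ).Rel (0 : ℤ) (0 + 1) from rfl) (p + 1)
          (show p + (0 + 1) = p + 1 by omega)]
      simp
    · exact zero_of_ne F M L p q hq _ _

end single

end Groth.Agent.H7MapTotal
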