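import Groth.Agent.Lib.H7AssPts2
import Groth.Agent.Lib.H7Cartier
import Groth.Agent.Lib.LQFin
import Groth.Prelude.Def_RefPow
import Mathlib

/-! Spreading out from stalks on locally Noetherian schemes. -/

set_option autoImplicit false
set_option linter.all false
set_option backward.isDefEq.respectTransparency.types false

universe u

open CategoryTheory CategoryTheory.Limits AlgebraicGeometry TopologicalSpace Opposite

namespace Groth.Agent.H7NoethLocal
open Groth.Agent H6.ZBasic H6.ZStalk H7AssPts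

variable {X : Scheme.{u}} {V : X.Opens} (hV : IsAffineOpen V)
include hV

lemma surj_gO {x : X} (hx : x ∈ V) (z : X.presheaf.stalk x) :
    ∃ c d : Γ(X, V), d ∉ (hV.primeIdealOf ⟨x, hx⟩).asIdeal ∧ z * gO hx d = gO hx c := by
  letI : Algebra Γ(X, V) (X.presheaf.stalk x) := (X.presheaf.germ V x hx).hom.toAlgebra
  haveI : IsLocalization.AtPrime (X.presheaf.stalk x) (hV.primeIdealOf ⟨x, hx⟩).asIdeal := hV.isLocalization_stalk ⟨x, hx⟩
  obtain ⟨⟨c, d⟩, h⟩ := IsLocalization.surj (hV.primeIdealOf ⟨x, hx⟩).asIdeal.primeCompl z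
  exact ⟨c, d.1, d.2, h⟩

lemma gO_eq_zero {x : X} (hx : x ∈ V) {r : Γ(X, V)} (h : gO hx r = 0) :
    ∃ w ∉ (hV.primeIdealOf ⟨x, hx⟩).asIdeal, w * r = 0 := by
  letI : Algebra Γ(X, V) (X.presheaf.stalk x) := (X.presheaf.germ V x hx).hom.toAlgebra
  haveI : IsLocalization.AtPrime (X.presheaf.stalk x) (hV.primeIdealOf ⟨x, hx⟩).asIdeal := hV.isLocalization_stalk ⟨x, hx⟩
  obtain ⟨w, hw⟩ := (IsLocalization.map_eq_zero_iff (hV.primeIdealOf ⟨x, hx⟩).asIdeal.primeCompl (X.presheaf.stalk x) r).1 h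
  exact ⟨w.1, w.2, hw⟩

lemma isUnit_iff {x : X} (hx : x ∈ V) {r : Γ(X, V)} : IsUnit (gO hx r) ↔ r ∉ (hV.primeIdealOf ⟨x, hx⟩).asIdeal := by
  rw [mem_primeIdeal_iff hV hx, not_not, X.mem_basicOpen r x hx]

/-- a finitely generated submodule whose elements are each killed by some element off `p` is killed by one -/
lemma exists_kill {A : Type*} [CommRing A] {M : Type*} [AddCommGroup M] [Module A M] {p : Ideal A} (hp : p.IsPrime)
    {N : Submodule A M} (hN : N.FG) (h : ∀ n ∈ N, ∃ w ∉ p, w • n = 0) : ∃ w ∉ p, ∀ n ∈ N, w • n = 0 := by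
  classical
  obtain ⟨T, hT⟩ := hN
  choose w hw h0 using fun n : T => h n.1 (hT ▸ Submodule.subset_span n.2)
  refine ⟨∏ n, w n, fun hmem => ?_, fun n hn => ?_⟩
  · obtain ⟨n, -, hn⟩ := (Ideal.IsPrime.prod_mem_iff).1 hmem
    exact hw n hn
  · have hle : N ≤ LinearMap.ker (LinearMap.lsmul A M (∏ n, w n)) := by
      rw [← hT, Submodule.span_le]
      intro m hm
      obtain ⟨c, hc⟩ := Finset.dvd_prod_of_mem w (Finset.mem_univ (⟨m, hm⟩ : T))
      show (∏ n, w n) • m = 0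
      rw [hc, mul_comm, mul_smul, h0 ⟨m, hm⟩, smul_zero]
    exact hle hn

theorem isoLocus_nhd [IsNoetherianRing Γ(X, V)] (F : X.Modules) [F.IsQuasicoherent] [Module.Finite Γ(X, V) Γ(F, V)]
    (s : Coh.structureModule X ⟶ F) {x : X} (hx : x ∈ V) (h : Function.Bijective (RefHull.stalkMapₗ s x)) :
    ∃ u : Γ(X, V), x ∈ X.basicOpen u ∧ ∀ y ∈ X.basicOpen u, Function.Bijective (RefHull.stalkMapₗ s y) := by
  classical
  set p := (hV.primeIdealOf ⟨x, hx⟩).asIdeal with hp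
  have hpp : p.IsPrime := (hV.primeIdealOf ⟨x, hx⟩).isPrime
  let t : Γ(F, V) := s.app V (1 : Γ(X, V))
  have happ : ∀ r : Γ(X, V), s.app V (show Γ(Coh.structureModule X, V) from r) = r • t := fun r => by
    refine Eq.trans (congrArg (s.app V) ?_) (Scheme.Modules.Hom.app_smul s r (show Γ(Coh.structureModule X, V) from (1 : Γ(X, V))))
    exact (mul_one r).symm
  have hgerm : ∀ (y : X) (hy : y ∈ V) (r : Γ(X, V)),
      RefHull.stalkMapₗ s y ((Coh.structureModule X).presheaf.germ V y hy r) = gO hy r • gM F hy t := fun y hy r => by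
    rw [RefHull.stalkMapₗ_germ]
    exact (congrArg (gM F hy) (happ r)).trans (gM_smul F hy r t)
  have hgen : ∀ (y : X) (hy : y ∈ V) (ξ : (Coh.structureModule X).presheaf.stalk y), RefHull.stalkMapₗ s y ξ = strEquiv y ξ • gM F hy t := by
    intro y hy ξ
    have h1 : strEquiv y ((Coh.structureModule X).presheaf.germ V y hy (1 : Γ(X, V))) = 1 :=
      (H7Betti.evO_germ y V hy _).trans (map_one (gO hy))
    have h2 : ξ = strEquiv y ξ • (Coh.structureModule X).presheaf.germ V y hy (1 : Γ(X, V)) := by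
      apply (strEquiv y).injective
      rw [map_smul, h1, smul_eq_mul, mul_one]
    conv_lhs => rw [h2]
    rw [map_smul, hgerm, map_one, one_smul]
  let N : Submodule Γ(X, V) Γ(X, V) := LinearMap.ker (LinearMap.toSpanSingleton Γ(X, V) Γ(F, V) t)
  obtain ⟨w₁, hw₁, hk₁⟩ := exists_kill hV hpp (IsNoetherian.noetherian N) fun r hr => by
    have h0 : RefHull.stalkMapₗ s x ((Coh.structureModule X).presheaf.germ V x hx r) = 0 := by
      rw [hgerm, ← gM_smul, show r • t = 0 from hr, map_zero]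
    have h1 := (congrArg (strEquiv x) (h.1 (h0.trans (map_zero _).symm))).trans (map_zero _)
    obtain ⟨w, hw, hw0⟩ := gO_eq_zero hV hx (r := r) ((H7Betti.evO_germ x V hx r).symm.trans h1)
    exact ⟨w, hw, hw0⟩
  have hsurj : ∀ g : Γ(F, V), ∃ d ∉ p, d • g ∈ Submodule.span Γ(X, V) {t} := fun g => by
    obtain ⟨ξ, hξ⟩ := h.2 (gM F hx g)
    obtain ⟨c, d, hd, hcd⟩ := surj_gO hV hx (strEquiv x ξ)
    have h2 : gM F hx (d • g - c • t) = 0 := by
      rw [map_sub, gM_smul, gM_smul, ← hcd, mul_comm, mul_smul, ← hgen, hξ, sub_self]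
    obtain ⟨w, hw, hw0⟩ := (gM_eq_zero_iff hV hx _).1 h2
    refine ⟨w * d, hpp.mul_notMem hw hd, Submodule.mem_span_singleton.2 ⟨w * c, ?_⟩⟩
    rw [smul_sub, sub_eq_zero, ← mul_smul, ← mul_smul] at hw0
    exact hw0.symm
  obtain ⟨T, hT⟩ := Module.Finite.fg_top (R := Γ(X, V)) (M := Γ(F, V))
  choose d hd hdm using fun g : T => hsurj g.1
  let u := w₁ * ∏ g, d g
  have hu : u ∉ p := hpp.mul_notMem hw₁ fun hmem => by
    obtain ⟨n, -, hn⟩ := (Ideal.IsPrime.prod_mem_iff).1 hmem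
    exact hd n hn
  refine ⟨u, (not_not.1 fun hc => hu ((mem_primeIdeal_iff hV hx).2 hc)), fun y hy => ?_⟩
  have hyV : y ∈ V := X.basicOpen_le u hy
  have huy : IsUnit (gO hyV u) := (X.mem_basicOpen u y hyV).1 hy
  have hspan : ∀ g : Γ(F, V), ∃ c, c • t = u • g := fun g => by
    have hg : g ∈ Submodule.span Γ(X, V) (T : Set Γ(F, V)) := hT ▸ trivial
    have hle : Submodule.span Γ(X, V) (T : Set Γ(F, V)) ≤ (Submodule.span Γ(X, V) {t}).comap (LinearMap.lsmul Γ(X, V) Γ(F, V) u) := by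
      rw [Submodule.span_le]
      intro m hm
      obtain ⟨c, hc⟩ := Finset.dvd_prod_of_mem d (Finset.mem_univ (⟨m, hm⟩ : T))
      show u • m ∈ Submodule.span Γ(X, V) {t}
      rw [show u = (w₁ * c) * d ⟨m, hm⟩ by simp only [u, hc]; ring, mul_smul]
      exact Submodule.smul_mem _ _ (hdm ⟨m, hm⟩)
    exact Submodule.mem_span_singleton.1 (hle hg)
  constructor
  · refine (injective_iff_map_eq_zero (RefHull.stalkMapₗ s y)).2 fun ξ hξ => ?_
    apply (strEquiv y).injective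
    rw [map_zero]
    obtain ⟨c, e, he, hce⟩ := surj_gO hV hyV (strEquiv y ξ)
    rw [hgen y hyV] at hξ
    have h2 : gM F hyV (c • t) = 0 := by rw [gM_smul, ← hce, mul_comm, mul_smul, hξ, smul_zero]
    obtain ⟨w, hw, hw0⟩ := (gM_eq_zero_iff hV hyV _).1 h2
    have h3 : w₁ * (w * c) = 0 := hk₁ (w * c) (show (w * c) • t = 0 by rw [mul_smul, hw0])
    have h4 := congrArg (gO hyV) h3
    rw [map_zero, map_mul, map_mul, ← hce] at h4
    have hw₁u : IsUnit (gO hyV w₁) := isUnit_of_mul_isUnit_left (show IsUnit (gO hyV w₁ * gO hyV (∏ g, d g)) by rw [← map_mul]; exact huy)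
    rw [hw₁u.mul_right_eq_zero, ((isUnit_iff hV hyV).2 hw).mul_right_eq_zero] at h4
    exact ((isUnit_iff hV hyV).2 he).mul_left_eq_zero.1 h4
  · intro η
    obtain ⟨v, g, hv, hvg⟩ := exists_eq_smul (F := F) hV hyV η
    obtain ⟨c, hc⟩ := hspan g
    have hv' : IsUnit (gO hyV v) := isUnit_gO hyV hv
    obtain ⟨a, ha⟩ := huy.mul hv'
    refine ⟨(↑a⁻¹ : X.presheaf.stalk y) • (Coh.structureModule X).presheaf.germ V y hyV c, ?_⟩
    rw [map_smul, hgerm, ← gM_smul, hc, gM_smul, ← hvg, ← mul_smul (gO hyV u), ← ha, ← mul_smul, Units.inv_mul, one_smul]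

omit hV in
theorem isOpen_isoLocus [IsLocallyNoetherian X] (F : X.Modules) (hF : Coh.IsCoh F) (s : Coh.structureModule X ⟶ F) :
    IsOpen (RefPow.isoLocus s) := by
  haveI : F.IsQuasicoherent := hF.1
  haveI : SheafOfModules.IsFiniteType (R := X.ringCatSheaf) F := hF.2
  refine isOpen_iff_forall_mem_open.2 fun x hx => ?_
  obtain ⟨V, hV, hxV, -⟩ := exists_isAffineOpen_mem_and_subset (X := X) (x := x) (U := ⊤) trivial
  haveI : IsNoetherianRing Γ(X, V) := IsLocallyNoetherian.component_noetherian ⟨V, hV⟩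
  haveI : Module.Finite Γ(X, V) Γ(F, V) := LQcoh.finite_sections F hV
  obtain ⟨u, hxu, hu⟩ := isoLocus_nhd hV F s hxV hx
  exact ⟨X.basicOpen u, fun y hy => hu y hy, (X.basicOpen u).2, hxu⟩

omit hV in
theorem effCartier_of_stalks [IsLocallyNoetherian X] (D : X.IdealSheafData)
    (h : ∀ x ∈ D.support, ∀ (U : X.affineOpens) (hx : x ∈ (U : X.Opens)),
      ∃ g : X.presheaf.stalk x, g ∈ nonZeroDivisors (X.presheaf.stalk x) ∧
        (D.ideal U).map (X.presheaf.germ U x hx).hom = Ideal.span {g}) :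
    BlowUp.IsEffCartierIdeal D := by
  classical
  intro x
  obtain ⟨V, hV, hxV, -⟩ := exists_isAffineOpen_mem_and_subset (X := X) (x := x) (U := ⊤) trivial
  haveI : IsNoetherianRing Γ(X, V) := IsLocallyNoetherian.component_noetherian ⟨V, hV⟩
  set p := (hV.primeIdealOf ⟨x, hxV⟩).asIdeal with hp
  have hpp : p.IsPrime := (hV.primeIdealOf ⟨x, hxV⟩).isPrime
  by_cases hxD : x ∈ D.support
  swap
  · obtain ⟨b, hb, hxb⟩ := H7Cartier.exists_mem_basicOpen_of_notMem_support ⟨V, hV⟩ hxV hxD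
    refine ⟨⟨X.basicOpen b, hV.basicOpen b⟩, hxb, 1, one_mem _, ?_⟩
    rw [Ideal.span_singleton_one]
    have hle : X.basicOpen b ≤ V := X.basicOpen_le b
    rw [← D.map_ideal (U := ⟨X.basicOpen b, hV.basicOpen b⟩) (V := ⟨V, hV⟩) hle]
    refine Ideal.eq_top_of_isUnit_mem _ (Ideal.mem_map_of_mem _ hb) ?_
    exact RingedSpace.isUnit_res_basicOpen _ b
  obtain ⟨g, hg, hI⟩ := h x hxD ⟨V, hV⟩ hxV
  letI : Algebra Γ(X, V) (X.presheaf.stalk x) := (X.presheaf.germ V x hxV).hom.toAlgebra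
  haveI : IsLocalization.AtPrime (X.presheaf.stalk x) p := hV.isLocalization_stalk ⟨x, hxV⟩
  obtain ⟨⟨i, v⟩, hiv⟩ := (IsLocalization.mem_map_algebraMap_iff p.primeCompl (X.presheaf.stalk x)).1
    (show g ∈ (D.ideal ⟨V, hV⟩).map (algebraMap Γ(X, V) (X.presheaf.stalk x)) from hI ▸ Ideal.mem_span_singleton_self g)
  have hvu : IsUnit (gO hxV v.1) := IsLocalization.map_units (X.presheaf.stalk x) v
  have hgi : gO hxV i.1 = g * gO hxV v.1 := hiv.symm
  have hinz : gO hxV i.1 ∈ nonZeroDivisors (X.presheaf.stalk x) := hgi ▸ mul_mem hg hvu.mem_nonZeroDivisors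
  have hgen : ∀ j ∈ D.ideal ⟨V, hV⟩, ∃ d ∉ p, d * j ∈ Ideal.span {i.1} := fun j hj => by
    have h1 : gO hxV j ∈ (D.ideal ⟨V, hV⟩).map (X.presheaf.germ V x hxV).hom := Ideal.mem_map_of_mem _ hj
    rw [hI, Ideal.mem_span_singleton] at h1
    obtain ⟨z, hz⟩ := h1
    obtain ⟨c, d, hd, hcd⟩ := surj_gO hV hxV z
    obtain ⟨w, hw, hw0⟩ := gO_eq_zero hV hxV (r := d * v.1 * j - c * i.1) (by
      rw [map_sub, map_mul, map_mul, map_mul, hz, ← hcd, hgi]; ring)
    refine ⟨w * (d * v.1), hpp.mul_notMem hw (hpp.mul_notMem hd v.2), Ideal.mem_span_singleton.2 ⟨w * c, ?_⟩⟩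
    linear_combination hw0
  obtain ⟨T, hT⟩ := (IsNoetherian.noetherian (D.ideal ⟨V, hV⟩) : (D.ideal ⟨V, hV⟩).FG)
  choose d hd hdm using fun j : T => hgen j.1 (hT ▸ Submodule.subset_span j.2)
  obtain ⟨w₁, hw₁, hk⟩ := exists_kill hV hpp (IsNoetherian.noetherian (LinearMap.ker (LinearMap.mulLeft Γ(X, V) i.1)))
    fun r hr => by
      have h0 : gO hxV r = 0 := by
        refine mem_nonZeroDivisors_iff_right.1 hinz _ ?_
        rw [← map_mul, mul_comm, show i.1 * r = 0 from hr, map_zero]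
      exact gO_eq_zero hV hxV h0
  let u := w₁ * ∏ j, d j
  have hu : u ∉ p := hpp.mul_notMem hw₁ fun hmem => by
    obtain ⟨n, -, hn⟩ := (Ideal.IsPrime.prod_mem_iff).1 hmem
    exact hd n hn
  let W : X.affineOpens := ⟨X.basicOpen u, hV.basicOpen u⟩
  have hle : W.1 ≤ V := X.basicOpen_le u
  letI : Algebra Γ(X, V) Γ(X, W.1) := (X.presheaf.map (homOfLE hle).op).hom.toAlgebra
  haveI : IsLocalization.Away u Γ(X, W.1) := hV.isLocalization_basicOpen u
  have huu : IsUnit (algebraMap Γ(X, V) Γ(X, W.1) u) := IsLocalization.Away.algebraMap_isUnit u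
  refine ⟨W, not_not.1 fun hc => hu ((mem_primeIdeal_iff hV hxV).2 hc), algebraMap Γ(X, V) Γ(X, W.1) i.1, ?_, ?_⟩
  · refine mem_nonZeroDivisors_iff_right.2 fun z hz => ?_
    obtain ⟨⟨r, s⟩, hr⟩ := IsLocalization.surj (Submonoid.powers u) z
    have h0 : algebraMap Γ(X, V) Γ(X, W.1) (r * i.1) = algebraMap Γ(X, V) Γ(X, W.1) 0 := by
      rw [map_mul, ← hr, map_zero, mul_right_comm, hz, zero_mul]
    obtain ⟨⟨_, k, rfl⟩, hk'⟩ := IsLocalization.exists_of_eq (M := Submonoid.powers u) h0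
    have h1 : w₁ * (u ^ k * r) = 0 := hk (u ^ k * r) (show i.1 * (u ^ k * r) = 0 by
      have hk'' : u ^ k * (r * i.1) = 0 := by simpa using hk'
      linear_combination hk'')
    have h2 : algebraMap Γ(X, V) Γ(X, W.1) r = 0 := by
      have := congrArg (algebraMap Γ(X, V) Γ(X, W.1)) h1
      rw [map_zero, map_mul, map_mul, map_pow] at this
      have hw₁u : IsUnit (algebraMap Γ(X, V) Γ(X, W.1) w₁) :=
        isUnit_of_mul_isUnit_left (show IsUnit (algebraMap Γ(X, V) Γ(X, W.1) w₁ * algebraMap Γ(X, V) Γ(X, W.1) (∏ j, d j)) by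
          rw [← map_mul]; exact huu)
      rwa [hw₁u.mul_right_eq_zero, (huu.pow k).mul_right_eq_zero] at this
    rw [h2] at hr
    exact (IsLocalization.map_units Γ(X, W.1) s).mul_left_eq_zero.1 hr
  · rw [← D.map_ideal (U := W) (V := ⟨V, hV⟩) hle]
    refine le_antisymm ?_ ((Ideal.span_singleton_le_iff_mem _).2 (Ideal.mem_map_of_mem _ i.2))
    refine (Ideal.map_mono hT.ge).trans ?_
    rw [Ideal.submodule_span_eq, Ideal.map_span, Ideal.span_le]
    rintro _ ⟨j, hj, rfl⟩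
    obtain ⟨c, hc⟩ := Ideal.mem_span_singleton.1 (hdm ⟨j, hj⟩)
    obtain ⟨e, he⟩ := Finset.dvd_prod_of_mem d (Finset.mem_univ (⟨j, hj⟩ : T))
    have hdu : IsUnit (algebraMap Γ(X, V) Γ(X, W.1) (d ⟨j, hj⟩)) := by
      have h' : IsUnit (algebraMap Γ(X, V) Γ(X, W.1) (d ⟨j, hj⟩) * algebraMap Γ(X, V) Γ(X, W.1) (w₁ * e)) := by
        rw [← map_mul, show d ⟨j, hj⟩ * (w₁ * e) = u by simp only [u, he]; ring]
        exact huu
      exact isUnit_of_mul_isUnit_left h'
    rw [SetLike.mem_coe, Ideal.mem_span_singleton]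
    exact hdu.dvd_mul_left.1 ⟨algebraMap Γ(X, V) Γ(X, W.1) c, ((map_mul (algebraMap Γ(X, V) Γ(X, W.1)) _ _).symm.trans ((congrArg _ hc).trans (map_mul _ _ _)))⟩

end Groth.Agent.H7NoethLocal
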