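import Groth.Agent.Lib.H7PerfAmp
import Mathlib

/-! Perfect = pseudo-coherent of locally finite tor dimension; direct summands. -/

universe u v w
open CategoryTheory Limits AlgebraicGeometry Opposite TopologicalSpace HomologicalComplex CategoryTheory.Pretriangulated

namespace Groth.Agent.H7PerfCrit
open Groth.Agent H7KFlatSheaf H7PerfPull H7FinFree H7LocLift H7PerfTri H7PseudoPull H7PseudoTri H7PseudoSummand H7PerfAmp

attribute [local instance] HasDerivedCategory.standard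

variable {X : Scheme.{u}}

theorem isPseudo_of_isPerfect {E : DCoh.D X} (h : DCoh.IsPerfect E) (m : ℤ) : DCoh.IsPseudoCoherentD m E := by
  rw [isPseudo_iff]
  intro x
  obtain ⟨W, j, hj, P, hx, hP, ⟨e⟩⟩ := (isPerfect_iff E).1 h x
  exact ⟨W, j, hj, P, e.inv, hx, hP, ⟨fun i _ => inferInstance, inferInstance⟩⟩

theorem locTor_of_isPerfect {E : DCoh.D X} (h : DCoh.IsPerfect E) : DCoh.LocHasFiniteTorDim E := fun x => by
  obtain ⟨V, hx, hV⟩ := h x
  obtain ⟨P, hP, ⟨e⟩⟩ := hV _ ⟨DerivedCategory.Q.objObjPreimageIso E⟩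
  obtain ⟨a, b, hab⟩ := hP.1
  refine ⟨V, a, b, hx, fun F ⟨eF⟩ => ?_⟩
  exact ⟨P, hab, fun i => flat_of_finLocFree (hP.2 i),
    ⟨e.symm ≪≫ restrictQIso V (DerivedCategory.Q.objObjPreimageIso E ≪≫ eF.symm)⟩⟩

theorem isPerfect_of_locAmp {E : DCoh.D X} (hm : ∀ m, DCoh.IsPseudoCoherentD m E)
    (h : ∀ x : X, ∃ (W : Scheme.{u}) (j : W ⟶ X) (_ : IsOpenImmersion j) (a b : ℤ),
      x ∈ Set.range j.base ∧ DCoh.HasFlatAmplitudeIn a b ((rD j).obj E)) : DCoh.IsPerfect E :=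
  isPerfect_local fun x => by
    obtain ⟨W, j, hj, a, b, hx, hamp⟩ := h x
    exact ⟨W, j, hj, hx, isPerfect_of_flatAmp hamp (isPseudo_rD j (hm (a - 1)))⟩

theorem isPerfect_iff_pseudo (E : DCoh.D X) :
    DCoh.IsPerfect E ↔ (∀ m, DCoh.IsPseudoCoherentD m E) ∧ DCoh.LocHasFiniteTorDim E := by
  refine ⟨fun h => ⟨isPseudo_of_isPerfect h, locTor_of_isPerfect h⟩, fun ⟨hm, ht⟩ => ?_⟩
  refine isPerfect_of_locAmp hm fun x => ?_
  obtain ⟨V, a, b, hx, hV⟩ := ht x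
  obtain ⟨K, hK, hflat, ⟨e⟩⟩ := hV _ ⟨DerivedCategory.Q.objObjPreimageIso E⟩
  exact ⟨V, V.ι, inferInstance, a, b, ⟨⟨x, hx⟩, rfl⟩, K, hK, hflat,
    ⟨e ≪≫ (rQ V.ι _).symm ≪≫ (rD V.ι).mapIso (DerivedCategory.Q.objObjPreimageIso E)⟩⟩

theorem isPerfect_of_retract {K L : DCoh.D X} (i : K ⟶ L) (p : L ⟶ K) (hip : i ≫ p = 𝟙 K)
    (hK : ∀ m, DCoh.IsPseudoCoherentD m K) (hL : DCoh.IsPerfect L) : DCoh.IsPerfect K := by
  refine isPerfect_of_locAmp hK fun x => ?_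
  obtain ⟨W, j, hj, P, hx, hP, ⟨e⟩⟩ := (isPerfect_iff L).1 hL x
  obtain ⟨a, b, hab⟩ := hP.1
  refine ⟨W, j, hj, a, max a b, hx, H7TorFlat.flatAmp_of_torAmp (le_max_left a b)
    (H7TorAmp.torAmp_of_retract ((rD j).map i ≫ e.hom) (e.inv ≫ (rD j).map p) ?_
      (H7TorAmp.torAmp_of_flatAmp ⟨P, fun k hk => hab k (by omega), fun k => flat_of_finLocFree (hP.2 k), ⟨Iso.refl _⟩⟩))⟩
  rw [Category.assoc, Iso.hom_inv_id_assoc, ← Functor.map_comp, hip, CategoryTheory.Functor.map_id]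

theorem isPerfect_summands {K L : DCoh.D X} [HasBinaryBiproduct K L] (h : DCoh.IsPerfect (K ⊞ L)) :
    DCoh.IsPerfect K ∧ DCoh.IsPerfect L :=
  ⟨isPerfect_of_retract biprod.inl biprod.fst biprod.inl_fst (fun m => (isPseudo_summands (isPseudo_of_isPerfect h m)).1) h,
    isPerfect_of_retract biprod.inr biprod.snd biprod.inr_snd (fun m => (isPseudo_summands (isPseudo_of_isPerfect h m)).2) h⟩

theorem finLocFree_of_summand {M N : X.Modules} [HasBinaryBiproduct M N] {n : ℕ}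
    (e : M ⊞ N ≅ FlatMod.freeMod X n) : FlatMod.IsFinLocFree M := by
  rw [isFinLocFree_iff]
  intro x
  let g : FlatMod.freeMod X n ⟶ FlatMod.freeMod X n := e.inv ≫ biprod.snd ≫ biprod.inr ≫ e.hom
  have hg : g ≫ e.inv ≫ biprod.fst = 0 := by simp [g]
  let φ : cokernel g ⟶ M := cokernel.desc g (e.inv ≫ biprod.fst) hg
  let ψ : M ⟶ cokernel g := biprod.inl ≫ e.hom ≫ cokernel.π g
  have h1 : ψ ≫ φ = 𝟙 M := by simp [ψ, φ]
  have h2 : φ ≫ ψ = 𝟙 _ := by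
    rw [← cancel_epi (cokernel.π g), cokernel.π_desc_assoc, Category.comp_id, Category.assoc]
    show e.inv ≫ biprod.fst ≫ biprod.inl ≫ e.hom ≫ cokernel.π g = _
    have h3 : e.inv ≫ biprod.snd ≫ biprod.inr ≫ e.hom ≫ cokernel.π g = 0 := by
      refine Eq.trans ?_ (cokernel.condition g)
      simp only [g, Category.assoc]
    calc e.inv ≫ biprod.fst ≫ biprod.inl ≫ e.hom ≫ cokernel.π g
        = e.inv ≫ (biprod.fst ≫ biprod.inl + biprod.snd ≫ biprod.inr) ≫ e.hom ≫ cokernel.π g := by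
          simp only [Preadditive.add_comp, Preadditive.comp_add, Category.assoc, h3, add_zero]
      _ = cokernel.π g := by rw [biprod.total, Category.id_comp, Iso.inv_hom_id_assoc]
  let eM : cokernel g ≅ M := ⟨φ, ψ, h2, h1⟩
  have hflat : Module.Flat (X.presheaf.stalk x) ((DerSch.stalkFunctor X x).obj (cokernel g)) := by
    have : Module.Flat (X.presheaf.stalk x) ((DerSch.stalkFunctor X x).obj (FlatMod.freeMod X n)) := flat_freeMod X n x
    refine Module.Flat.of_retract ((DerSch.stalkFunctor X x).map (eM.hom ≫ biprod.inl ≫ e.hom)).hom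
      ((DerSch.stalkFunctor X x).map (e.inv ≫ biprod.fst ≫ eM.inv)).hom ?_
    rw [← ModuleCat.hom_comp, ← Functor.map_comp]
    simp
  obtain ⟨V, hxV, hfree⟩ := H7CokerFree.coker_free_near
    ((isFinLocFree_iff (FlatMod.freeMod X n)).2 fun _ => ⟨⊤, trivial, IsFree.pullback _ ⟨n, ⟨Iso.refl _⟩⟩⟩)
    ((isFinLocFree_iff (FlatMod.freeMod X n)).2 fun _ => ⟨⊤, trivial, IsFree.pullback _ ⟨n, ⟨Iso.refl _⟩⟩⟩) g x hflat
  exact ⟨V, hxV, hfree.of_iso ((Scheme.Modules.pullback V.ι).mapIso eM)⟩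

end Groth.Agent.H7PerfCrit
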