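import Groth.Agent.Lib.H7PerfHom
import Mathlib

/-! Boundedness consequences of vanishing of maps out of perfect objects. -/

universe u
open CategoryTheory Limits AlgebraicGeometry Pretriangulated

namespace Groth.Agent.H7PerfHomApps
open Groth.Agent

attribute [local instance] HasDerivedCategory.standard

variable {X : Scheme.{u}}

/-- `H^i(L⟦n⟧) = H^{i+n}(L)` -/
noncomputable def hdShift (L : DCoh.D X) (n i : ℤ) : DCoh.HD (L⟦n⟧) i ≅ DCoh.HD L (n + i) :=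
  ((DerivedCategory.homologyFunctor X.Modules 0).shiftIso n i (n + i) rfl).app L

theorem qcoh_shift {L : DCoh.D X} (h : DCoh.IsQCohD L) (n : ℤ) : DCoh.IsQCohD (L⟦n⟧) := fun i =>
  H7AffineD.qcoh_of_iso (hdShift L n i).symm (h _)

lemma qcoh_trunc_ge {E : DCoh.D X} (hE : DCoh.IsQCohD E) (a : ℤ) :
    DCoh.IsQCohD ((DerivedCategory.TStructure.t.truncGE a).obj E) := fun i => by
  rcases lt_or_ge i a with h | h
  · exact H7AffineD.qcoh_of_isZero (DerivedCategory.isZero_of_isGE _ a i h) (hE i)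
  · have := H7AffineD.isIso_H_truncGEπ E a i h
    exact H7AffineD.qcoh_of_iso (@asIso _ _ _ _ _ this) (hE i)

lemma qcoh_trunc_le {E : DCoh.D X} (hE : DCoh.IsQCohD E) (a : ℤ) :
    DCoh.IsQCohD ((DerivedCategory.TStructure.t.truncLE a).obj E) :=
  H7QCohTri.isQCohD₂ _ (inv_rot_of_distTriang _ (DerivedCategory.TStructure.t.triangleLEGE_distinguished a (a + 1) rfl E))
    (qcoh_shift (qcoh_trunc_ge hE (a + 1)) (-1)) hE

/-- vanishing of shifted maps -/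
theorem exists_window_shift [CompactSpace X] [QuasiSeparatedSpace X] (K : DCoh.D X) (hK : DCoh.IsPerfect K) :
    ∃ a b : ℤ, a ≤ b ∧ ∀ (n : ℤ) (L : DCoh.D X), DCoh.IsQCohD L →
      (∀ i : ℤ, n + a ≤ i → i ≤ n + b → IsZero (DCoh.HD L i)) → ∀ φ : K⟦-n⟧ ⟶ L, φ = 0 := by
  obtain ⟨a, b, hab, h⟩ := H7PerfHom.exists_window K hK
  refine ⟨a, b, hab, fun n L hL hz φ => ?_⟩
  have h0 := h (L⟦n⟧) (qcoh_shift hL n) (fun i h1 h2 => (hz (n + i) (by omega) (by omega)).of_iso (hdShift L n i))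
    (((shiftFunctorCompIsoId (DCoh.D X) (-n) n (by omega)).app K).inv ≫ φ⟦n⟧')
  refine (shiftFunctor (DCoh.D X) n).map_injective ?_
  rw [Functor.map_zero]
  exact (cancel_epi ((shiftFunctorCompIsoId (DCoh.D X) (-n) n (by omega)).app K).inv).1 (h0.trans comp_zero.symm)

theorem finite_nonzero [CompactSpace X] [QuasiSeparatedSpace X] (K : DCoh.D X) (hK : DCoh.IsPerfect K)
    (L : DCoh.D X) (a' b' : ℤ) (hL : DCoh.IsQCohD L) (hge : L.IsGE a') (hle : L.IsLE b') :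
    {n : ℤ | ∃ φ : K ⟶ L⟦n⟧, φ ≠ 0}.Finite := by
  obtain ⟨a, b, hab, h⟩ := H7PerfHom.exists_window K hK
  refine Set.Finite.subset (Set.finite_Icc (a' - b) (b' - a)) fun n hn => ?_
  obtain ⟨φ, hφ⟩ := hn
  rw [Set.mem_Icc]
  by_contra hn
  refine hφ (h _ (qcoh_shift hL n) (fun i h1 h2 => IsZero.of_iso ?_ (hdShift L n i)) φ)
  rcases lt_or_ge (n + i) a' with h' | h'
  · exact DerivedCategory.isZero_of_isGE L a' _ h'
  · exact DerivedCategory.isZero_of_isLE L b' _ (by omega)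

theorem ext_finLocFree [CompactSpace X] [QuasiSeparatedSpace X] (E : DCoh.D X) (hE : DCoh.IsQCohD E) (a b : ℤ)
    [E.IsGE a] [E.IsLE b] :
    ∃ n₀ : ℤ, 0 < n₀ ∧ ∀ (F : X.Modules), FlatMod.IsFinLocFree F → ∀ n : ℤ, n₀ ≤ n →
      ∀ φ : DCoh.inD X F ⟶ E⟦n⟧, φ = 0 := by
  obtain ⟨w, w', -, h⟩ := H7PerfHom.exists_window_finLocFree (X := X)
  refine ⟨max 1 (b - w + 1), by omega, fun F hF n hn φ => h _ (qcoh_shift hE n) (fun i h1 h2 => ?_) F hF φ⟩
  exact (DerivedCategory.isZero_of_isLE E b _ (by omega)).of_iso (hdShift E n i)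

theorem iff_truncGE [CompactSpace X] [QuasiSeparatedSpace X] (P : DCoh.D X) (hP : DCoh.IsPerfect P)
    (E : DCoh.D X) (hE : DCoh.IsQCohD E) (a : ℤ) :
    (∃ N : ℤ, ∀ i : ℤ, N ≤ i → ∀ φ : P⟦-i⟧ ⟶ E, φ = 0) ↔
    (∃ N : ℤ, ∀ i : ℤ, N ≤ i → ∀ φ : P⟦-i⟧ ⟶ (DerivedCategory.TStructure.t.truncGE a).obj E, φ = 0) := by
  obtain ⟨p, q, -, h⟩ := exists_window_shift P hP
  have hT := DerivedCategory.TStructure.t.triangleLEGE_distinguished (a - 1) a (by omega) E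
  have hA : DCoh.IsQCohD ((DerivedCategory.TStructure.t.truncLE (a - 1)).obj E) := qcoh_trunc_le hE _
  have hAz : ∀ i, a - 1 < i → IsZero (DCoh.HD ((DerivedCategory.TStructure.t.truncLE (a - 1)).obj E) i) := fun i hi =>
    DerivedCategory.isZero_of_isLE _ (a - 1) i hi
  constructor
  · rintro ⟨N, hN⟩
    refine ⟨max N (a - p), fun i hi φ => ?_⟩
    obtain ⟨ψ, hψ⟩ := Triangle.coyoneda_exact₃ _ hT φ
      (h i _ (qcoh_shift hA 1) (fun k h1 h2 => (hAz (1 + k) (by omega)).of_iso (hdShift _ 1 k)) _)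
    rw [hψ, hN i (le_trans (le_max_left _ _) hi) ψ]
    exact zero_comp
  · rintro ⟨N, hN⟩
    refine ⟨max N (a - p), fun i hi φ => ?_⟩
    obtain ⟨ψ, hψ⟩ := Triangle.coyoneda_exact₂ _ hT φ (hN i (le_trans (le_max_left _ _) hi) _)
    rw [hψ, h i _ hA (fun k h1 h2 => hAz k (by omega)) ψ]
    exact zero_comp

theorem iff_truncLE [CompactSpace X] [QuasiSeparatedSpace X] (P : DCoh.D X) (hP : DCoh.IsPerfect P)
    (E : DCoh.D X) (hE : DCoh.IsQCohD E) (a : ℤ) :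
    (∃ N : ℤ, ∀ i : ℤ, i ≤ N → ∀ φ : P⟦-i⟧ ⟶ E, φ = 0) ↔
    (∃ N : ℤ, ∀ i : ℤ, i ≤ N → ∀ φ : P⟦-i⟧ ⟶ (DerivedCategory.TStructure.t.truncLE a).obj E, φ = 0) := by
  obtain ⟨p, q, -, h⟩ := exists_window_shift P hP
  have hT := DerivedCategory.TStructure.t.triangleLEGE_distinguished a (a + 1) rfl E
  have hB : DCoh.IsQCohD ((DerivedCategory.TStructure.t.truncGE (a + 1)).obj E) := qcoh_trunc_ge hE _
  have hBz : ∀ i, i ≤ a → IsZero (DCoh.HD ((DerivedCategory.TStructure.t.truncGE (a + 1)).obj E) i) := fun i hi =>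
    DerivedCategory.isZero_of_isGE _ (a + 1) i (by omega)
  constructor
  · rintro ⟨N, hN⟩
    refine ⟨min N (a - q), fun i hi φ => ?_⟩
    obtain ⟨ψ, hψ⟩ := Triangle.coyoneda_exact₂ _ (inv_rot_of_distTriang _ hT) φ (hN i (le_trans hi (min_le_left _ _)) _)
    rw [hψ]
    refine (congrArg (· ≫ _) (h i _ (qcoh_shift hB (-1)) (fun k h1 h2 => (hBz (-1 + k) (by omega)).of_iso (hdShift _ (-1) k)) ψ)).trans ?_
    exact zero_comp
  · rintro ⟨N, hN⟩
    refine ⟨min N (a - q), fun i hi φ => ?_⟩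
    obtain ⟨ψ, hψ⟩ := Triangle.coyoneda_exact₂ _ hT φ (h i _ hB (fun k h1 h2 => hBz k (by omega)) _)
    rw [hψ, hN i (le_trans hi (min_le_left _ _)) ψ]
    exact zero_comp

end Groth.Agent.H7PerfHomApps
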