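import Groth.Agent.Lib.H7LpullCalc
import Groth.Agent.Lib.H7Coprod
import Groth.Agent.Lib.H5KInjApps
import Mathlib

/-! `Lf^* ⊣ Rf_*`, composition and distinguished triangles under `Rf_*`. -/

universe u v w
open CategoryTheory Limits AlgebraicGeometry Pretriangulated

namespace Groth.Agent.H7RpushAdj
open Groth.Agent H7KFlatSheaf H7KFlatResolution H7KFlatResFun H7HasLpull H7LpullCalc

attribute [local instance] HasDerivedCategory.standard

section generic

variable {C D H : Type*} [Category C] [Category D] [Category H]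

instance whiskeringLeft_id_full : ((Functor.whiskeringLeft C C H).obj (𝟭 C)).Full :=
  Functor.Full.of_iso (Functor.whiskeringLeftObjIdIso (C := C) (E := H)).symm

instance whiskeringLeft_id_faithful : ((Functor.whiskeringLeft C C H).obj (𝟭 C)).Faithful :=
  Functor.Faithful.of_iso (Functor.whiskeringLeftObjIdIso (C := C) (E := H)).symm

/-- left derived functors are recognised on resolutions -/
theorem isLeftDerived_of_iso (L : C ⥤ D) (W : MorphismProperty C) [L.IsLocalization W] (F : C ⥤ H)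
    (R : C ⥤ C) (ρ : R ⟶ 𝟭 C) (hρ : ∀ X, W (ρ.app X))
    (hinv : ∀ ⦃X Y : C⦄ (f : X ⟶ Y), W f → IsIso (F.map (R.map f)))
    (hρR : ∀ X, IsIso (F.map (ρ.app (R.obj X))))
    (LF : D ⥤ H) (α : L ⋙ LF ⟶ F) (hα : ∀ X, IsIso (F.map (ρ.app X)) → IsIso (α.app X)) :
    LF.IsLeftDerivedFunctor α W := by
  have : (𝟭 C ⋙ L).IsLocalization W := inferInstanceAs (L.IsLocalization W)
  obtain ⟨LF₀, α₀, h₀, hα₀⟩ := H7LeftDerived.exists_leftDerived (𝟭 C) L W W F R ρ hρ hinv hρR
  rw [LF₀.isLeftDerivedFunctor_iff_isIso_leftDerivedLift α₀ W LF α]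
  let γ := LF₀.leftDerivedLift α₀ W LF α
  have hγ : ∀ X, IsIso (γ.app (L.obj (R.obj X))) := fun X => by
    have : IsIso (α.app (R.obj X)) := hα _ (hρR X)
    have : IsIso (α₀.app (R.obj X)) := hα₀ _ (hρR X)
    have e : γ.app (L.obj (R.obj X)) ≫ α₀.app (R.obj X) = α.app (R.obj X) :=
      LF₀.leftDerived_fac_app α₀ W LF α (R.obj X)
    have : IsIso (γ.app (L.obj (R.obj X)) ≫ α₀.app (R.obj X)) := e.symm ▸ inferInstance
    exact IsIso.of_isIso_comp_right _ (α₀.app (R.obj X))
  have : ∀ Z, IsIso (γ.app Z) := fun Z => by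
    have := Localization.essSurj L W
    have := Localization.inverts L W (ρ.app (L.objPreimage Z)) (hρ _)
    exact (NatTrans.isIso_app_iff_of_iso γ (asIso (L.map (ρ.app (L.objPreimage Z))) ≪≫ L.objObjPreimageIso Z)).1
      (hγ _)
  exact NatIso.isIso_of_isIso_app γ

lemma isKInjective_cone {A : Type*} [Category A] [Abelian A] {I J : CochainComplex A ℤ} (φ : I ⟶ J)
    (h : I.IsKInjective) (h' : J.IsKInjective) : (CochainComplex.mappingCone φ).IsKInjective := by
  rw [CochainComplex.isKInjective_iff_rightOrthogonal] at h h' ⊢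
  exact ObjectProperty.ext_of_isTriangulatedClosed₃ _ _
    (HomotopyCategory.mappingCone_triangleh_distinguished φ) h h'

end generic

variable {X Y Z : Scheme.{u}} (f : X ⟶ Y)

local notation "qis" X => HomologicalComplex.quasiIso (Scheme.Modules X) (ComplexShape.up ℤ)

/-- the counit of `Lf^*` on complexes -/
noncomputable def alpha [DCoh.HasLpull f] :
    DerivedCategory.Q ⋙ DCoh.Lpull f ⟶ pullCx f ⋙ DerivedCategory.Q where
  app K := (DCoh.Lpull f).map ((DerivedCategory.quotientCompQhIso Y.Modules).inv.app K) ≫ H7LpullCalc.counit f K ≫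
    (DerivedCategory.quotientCompQhIso X.Modules).hom.app _
  naturality K L g := by
    have h1 := (DerivedCategory.quotientCompQhIso Y.Modules).inv.naturality g
    have h2 := (DerivedCategory.quotientCompQhIso X.Modules).hom.naturality ((pullCx f).map g)
    have h3 := ((DCoh.pullKh f).totalLeftDerivedCounit DerivedCategory.Qh
      (HomotopyCategory.quasiIso Y.Modules (ComplexShape.up ℤ))).naturality ((HomotopyCategory.quotient _ _).map g)
    dsimp at h1 h2 h3
    show (DCoh.Lpull f).map _ ≫ (DCoh.Lpull f).map _ ≫ _ ≫ _ = (_ ≫ _ ≫ _) ≫ _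
    rw [← Functor.map_comp_assoc, h1, Functor.map_comp_assoc]
    simp only [Category.assoc]
    refine congrArg _ ?_
    unfold H7LpullCalc.counit
    erw [reassoc_of% h3, h2]
    rfl

lemma isIso_alpha [DCoh.HasLpull f] {K : CochainComplex Y.Modules ℤ} (hK : SKF K) : IsIso ((alpha f).app K) :=
  (lpullIso f hK).isIso_hom

lemma isIso_pullQ {K L : CochainComplex Y.Modules ℤ} (hK : SKF K) (hL : SKF L) (g : K ⟶ L) (hg : QuasiIso g) :
    IsIso ((pullCx f ⋙ DerivedCategory.Q).map g) :=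
  (DerivedCategory.isIso_Q_map_iff_quasiIso _ _).2 (quasiIso_pullback f hK hL g)

/-- absoluteness of `Lf^*` -/
theorem isLeftDerived_comp [DCoh.HasLpull f] {H : Type*} [Category H] (G : DCoh.D X ⥤ H) :
    (DCoh.Lpull f ⋙ G).IsLeftDerivedFunctor
      ((Functor.associator _ _ _).inv ≫ Functor.whiskerRight (alpha f) G) (qis Y) := by
  refine isLeftDerived_of_iso DerivedCategory.Q (qis Y) ((pullCx f ⋙ DerivedCategory.Q) ⋙ G) resFunctor resNat
    (fun K => quasiIso_resNat K) (fun K L g hg => ?_) (fun K => ?_) _ _ (fun K hK => ?_)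
  · have := isIso_pullQ f (skf_resFunctor K) (skf_resFunctor L) _ (resFunctor_quasiIso g hg)
    rw [Functor.comp_map]; infer_instance
  · have := quasiIso_resNat (resFunctor.obj K)
    have := isIso_pullQ f (skf_resFunctor _) (skf_resFunctor K) (resNat.app (resFunctor.obj K)) this
    rw [Functor.comp_map]; infer_instance
  · have : IsIso (G.map ((pullCx f ⋙ DerivedCategory.Q).map (resNat.app K))) := hK
    have := isIso_alpha f (skf_resFunctor K)
    have hn := ((Functor.associator _ _ _).inv ≫ Functor.whiskerRight (alpha f) G).naturality (resNat.app K)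
    have := quasiIso_resNat K
    have hQ : IsIso (DerivedCategory.Q.map (resNat.app K)) :=
      (DerivedCategory.isIso_Q_map_iff_quasiIso _ _).2 inferInstance
    have hl : IsIso ((DerivedCategory.Q ⋙ DCoh.Lpull f ⋙ G).map (resNat.app K)) := by
      rw [Functor.comp_map]; infer_instance
    have hr : IsIso (((Functor.associator DerivedCategory.Q (DCoh.Lpull f) G).inv ≫
        Functor.whiskerRight (alpha f) G).app (resFunctor.obj K) ≫
        ((pullCx f ⋙ DerivedCategory.Q) ⋙ G).map (resNat.app K)) := by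
      rw [NatTrans.comp_app, Functor.whiskerRight_app, Functor.associator_inv_app, Category.id_comp]
      exact IsIso.comp_isIso' inferInstance hK
    rw [← hn] at hr
    exact @IsIso.of_isIso_comp_left _ _ _ _ _ _ _ hl hr

theorem isLeftDerived_Lpull [DCoh.HasLpull f] :
    (DCoh.Lpull f).IsLeftDerivedFunctor (alpha f) (qis Y) := by
  refine isLeftDerived_of_iso DerivedCategory.Q (qis Y) (pullCx f ⋙ DerivedCategory.Q) resFunctor resNat
    (fun K => quasiIso_resNat K) (fun K L g hg => isIso_pullQ f (skf_resFunctor K) (skf_resFunctor L) _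
      (resFunctor_quasiIso g hg))
    (fun K => isIso_pullQ f (skf_resFunctor _) (skf_resFunctor K) _ (quasiIso_resNat _)) _ _ (fun K hK => ?_)
  have := isIso_alpha f (skf_resFunctor K)
  have hn := (alpha f).naturality (resNat.app K)
  have := quasiIso_resNat K
  have hQ : IsIso (DerivedCategory.Q.map (resNat.app K)) :=
    (DerivedCategory.isIso_Q_map_iff_quasiIso _ _).2 inferInstance
  have hl : IsIso ((DerivedCategory.Q ⋙ DCoh.Lpull f).map (resNat.app K)) := by
    rw [Functor.comp_map]; infer_instance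
  have hr : IsIso ((alpha f).app (resFunctor.obj K) ≫ (pullCx f ⋙ DerivedCategory.Q).map (resNat.app K)) :=
    IsIso.comp_isIso' inferInstance hK
  rw [← hn] at hr
  exact @IsIso.of_isIso_comp_left _ _ _ _ _ _ _ hl hr

/-- the unit of `Rf_*` on complexes -/
theorem exists_beta [DCoh.HasRpush f] :
    ∃ β : (Scheme.Modules.pushforward f).mapHomologicalComplex (ComplexShape.up ℤ) ⋙ DerivedCategory.Q ⟶
      DerivedCategory.Q ⋙ DCoh.Rpush f, (DCoh.Rpush f).IsRightDerivedFunctor β (qis X) :=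
  H5KApps.exists_derived_on_complexes (Scheme.Modules.pushforward f) H5KApps.enoughKInj_of_grothendieck
    ((DCoh.pushKh f).totalRightDerivedUnit DerivedCategory.Qh
      (HomotopyCategory.quasiIso X.Modules (ComplexShape.up ℤ)))

/-- `Lf^* ⊣ Rf_*` -/
theorem nonempty_adj [DCoh.HasLpull f] [DCoh.HasRpush f] : Nonempty (DCoh.Lpull f ⊣ DCoh.Rpush f) := by
  obtain ⟨β, hβ⟩ := exists_beta f
  have := isLeftDerived_Lpull f
  have := isLeftDerived_comp f (DCoh.Rpush f)
  have hR := H5KApps.resolving_Q (A := X.Modules) H5KApps.enoughKInj_of_grothendieck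
  have : (DCoh.Rpush f ⋙ DCoh.Lpull f).IsRightDerivedFunctor
      (Functor.whiskerRight β (DCoh.Lpull f) ≫ (Functor.associator _ _ _).hom) (qis X) :=
    hR.isRightDerived_comp (H5KApps.compat_Q (Scheme.Modules.pushforward f)) (qis X) _ β (DCoh.Lpull f)
  exact ⟨(H5KApps.adjC (Scheme.Modules.pullbackPushforwardAdjunction f)).derived (qis Y) (qis X) (alpha f) β⟩

/-- `Rg_* Rf_* ≅ R(gf)_*` -/
theorem rpush_comp (g : Y ⟶ Z) [DCoh.HasRpush f] [DCoh.HasRpush g] [DCoh.HasRpush (f ≫ g)] :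
    Nonempty (DCoh.Rpush f ⋙ DCoh.Rpush g ≅ DCoh.Rpush (f ≫ g)) := by
  haveI := hasLpull f
  haveI := hasLpull g
  haveI := hasLpull (f ≫ g)
  obtain ⟨a⟩ := nonempty_adj f
  obtain ⟨b⟩ := nonempty_adj g
  obtain ⟨c⟩ := nonempty_adj (f ≫ g)
  obtain ⟨e⟩ := lpull_comp f g
  exact ⟨((b.comp a).ofNatIsoLeft e).rightAdjointUniq c⟩

/-- `Rf_*` preserves limits -/
theorem preservesLimits_rpush [DCoh.HasRpush f] : (DCoh.Rpush f).IsRightAdjoint := by
  haveI := hasLpull f
  obtain ⟨a⟩ := nonempty_adj f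
  exact a.isRightAdjoint

/-- `Rf_*` turns distinguished triangles into distinguished ones -/
theorem exists_rpush_triangle [DCoh.HasRpush f] (T : Triangle (DCoh.D X)) (hT : T ∈ distTriang _) :
    ∃ c, Triangle.mk ((DCoh.Rpush f).map T.mor₁) ((DCoh.Rpush f).map T.mor₂) c ∈ distTriang _ := by
  obtain ⟨β, hβ⟩ := exists_beta f
  let P := Scheme.Modules.pushforward f
  let PC := P.mapHomologicalComplex (ComplexShape.up ℤ)
  have hR := H5KApps.resolving_Q (A := X.Modules) H5KApps.enoughKInj_of_grothendieck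
  have hI : ∀ I : CochainComplex X.Modules ℤ, I.IsKInjective → IsIso (β.app I) :=
    (hR.isRightDerived_iff (H5KApps.compat_Q P) (qis X) _ β).1 hβ
  obtain ⟨I, hI₁, ⟨e₁⟩⟩ := hR.ess T.obj₁
  obtain ⟨J, hJ₁, ⟨e₂⟩⟩ := hR.ess T.obj₂
  obtain ⟨φ, hφ⟩ := hR.surj I J hJ₁ (e₁.hom ≫ T.mor₁ ≫ e₂.inv)
  let T₀ := DerivedCategory.Q.mapTriangle.obj (CochainComplex.mappingCone.triangle φ)
  have hT₀ : T₀ ∈ distTriang _ := (DerivedCategory.mem_distTriang_iff _).2 ⟨_, _, _, ⟨Iso.refl _⟩⟩
  obtain ⟨E, h₁, h₂⟩ : ∃ E : T₀ ≅ T, E.hom.hom₁ = e₁.hom ∧ E.hom.hom₂ = e₂.hom :=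
    ⟨isoTriangleOfIso₁₂ _ _ hT₀ hT e₁ e₂ (by
      show DerivedCategory.Q.map φ ≫ e₂.hom = e₁.hom ≫ T.mor₁
      rw [hφ]; simp), rfl, rfl⟩
  have hC : (CochainComplex.mappingCone φ).IsKInjective := isKInjective_cone φ hI₁ hJ₁
  have b1 := hI I hI₁
  have b2 := hI J hJ₁
  have b3 := hI _ hC
  let T' := DerivedCategory.Q.mapTriangle.obj (CochainComplex.mappingCone.triangle (PC.map φ))
  have hT' : T' ∈ distTriang _ := (DerivedCategory.mem_distTriang_iff _).2 ⟨_, _, _, ⟨Iso.refl _⟩⟩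
  let k := CochainComplex.mappingCone.mapHomologicalComplexIso φ P
  let u₁ : T'.obj₁ ≅ (DCoh.Rpush f).obj T.obj₁ := @asIso _ _ _ _ (β.app I) b1 ≪≫ (DCoh.Rpush f).mapIso e₁
  let u₂ : T'.obj₂ ≅ (DCoh.Rpush f).obj T.obj₂ := @asIso _ _ _ _ (β.app J) b2 ≪≫ (DCoh.Rpush f).mapIso e₂
  let u₃ : T'.obj₃ ≅ (DCoh.Rpush f).obj T.obj₃ :=
    DerivedCategory.Q.mapIso k.symm ≪≫ @asIso _ _ _ _ (β.app (CochainComplex.mappingCone φ)) b3 ≪≫
      (DCoh.Rpush f).mapIso (Triangle.π₃.mapIso E)
  refine ⟨u₃.inv ≫ T'.mor₃ ≫ u₁.hom⟦(1 : ℤ)⟧', isomorphic_distinguished _ hT' _ (Iso.symm ?_)⟩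
  refine Triangle.isoMk _ _ u₁ u₂ u₃ ?_ ?_ ?_
  · show DerivedCategory.Q.map (PC.map φ) ≫ β.app J ≫ (DCoh.Rpush f).map e₂.hom =
      (β.app I ≫ (DCoh.Rpush f).map e₁.hom) ≫ (DCoh.Rpush f).map T.mor₁
    have := β.naturality φ
    dsimp at this
    rw [reassoc_of% this, Category.assoc, ← Functor.map_comp, ← Functor.map_comp, hφ]
    simp
  · show DerivedCategory.Q.map (CochainComplex.mappingCone.inr (PC.map φ)) ≫ DerivedCategory.Q.map k.inv ≫
        β.app (CochainComplex.mappingCone φ) ≫ (DCoh.Rpush f).map E.hom.hom₃ =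
      (β.app J ≫ (DCoh.Rpush f).map e₂.hom) ≫ (DCoh.Rpush f).map T.mor₂
    have hk : CochainComplex.mappingCone.inr (PC.map φ) ≫ k.inv = PC.map (CochainComplex.mappingCone.inr φ) := by
      rw [Iso.comp_inv_eq]
      exact ((CochainComplex.mappingCone.map_inr φ P)).symm
    rw [← Functor.map_comp_assoc, hk]
    have := β.naturality (CochainComplex.mappingCone.inr φ)
    dsimp at this
    rw [reassoc_of% this, Category.assoc]
    refine congrArg (β.app J ≫ ·) ?_
    refine ((DCoh.Rpush f).map_comp _ _).symm.trans (Eq.trans ?_ ((DCoh.Rpush f).map_comp _ _))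
    rw [← h₂]
    exact congrArg (DCoh.Rpush f).map E.hom.comm₂
  · show T'.mor₃ ≫ u₁.hom⟦(1 : ℤ)⟧' = u₃.hom ≫ u₃.inv ≫ T'.mor₃ ≫ u₁.hom⟦(1 : ℤ)⟧'
    rw [Iso.hom_inv_id_assoc]

theorem isRlim_rpush [DCoh.HasRpush f] (K : ℕ → DCoh.D X) (t : ∀ n, K (n + 1) ⟶ K n) [HasProduct K]
    [HasProduct fun n => (DCoh.Rpush f).obj (K n)] (L : DCoh.D X) (hL : DCoh.IsRlim K t L) :
    DCoh.IsRlim (fun n => (DCoh.Rpush f).obj (K n)) (fun n => (DCoh.Rpush f).map (t n)) ((DCoh.Rpush f).obj L) := by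
  obtain ⟨a, c, h⟩ := hL
  obtain ⟨c', h'⟩ := exists_rpush_triangle f _ h
  haveI := preservesLimits_rpush f
  let G := DCoh.Rpush f
  let e : G.obj (∏ᶜ K) ≅ ∏ᶜ fun n => G.obj (K n) := PreservesProduct.iso G K
  have he : ∀ n, e.hom ≫ Pi.π (fun n => G.obj (K n)) n = G.map (Pi.π K n) := fun n =>
    piComparison_comp_π G K n
  let φ : ∏ᶜ K ⟶ ∏ᶜ K := Pi.lift fun n => Pi.π K n - Pi.π K (n + 1) ≫ t n
  haveI := preservesBinaryBiproducts_of_preservesBinaryProducts G
  haveI : G.Additive := Functor.additive_of_preservesBinaryBiproducts G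
  have hφ : G.map φ ≫ e.hom = e.hom ≫ Pi.lift fun n => Pi.π (fun n => G.obj (K n)) n -
      Pi.π (fun n => G.obj (K n)) (n + 1) ≫ G.map (t n) := by
    refine Pi.hom_ext _ _ fun n => ?_
    rw [Category.assoc, Category.assoc, he, Pi.lift_π, ← Functor.map_comp, Pi.lift_π, Preadditive.comp_sub,
      Functor.map_sub, Functor.map_comp, he, reassoc_of% (he (n + 1))]
  refine ⟨G.map a ≫ e.hom, e.inv ≫ c', isomorphic_distinguished _ h' _ ?_⟩
  refine Triangle.isoMk _ _ (Iso.refl _) e.symm e.symm ?_ ?_ ?_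
  · show (G.map a ≫ e.hom) ≫ e.inv = 𝟙 _ ≫ G.map a
    simp
  · show (Pi.lift _) ≫ e.inv = e.inv ≫ G.map φ
    rw [Iso.eq_inv_comp, ← Category.assoc, ← hφ, Category.assoc, Iso.hom_inv_id, Category.comp_id]
  · show (e.inv ≫ c') ≫ (𝟙 (G.obj L))⟦(1 : ℤ)⟧' = e.inv ≫ c'
    erw [CategoryTheory.Functor.map_id, Category.comp_id]

end Groth.Agent.H7RpushAdj

namespace Groth.Agent.H7RpushAdj
open Groth.Agent

variable {X Y : Scheme.{u}}

/-- pullback along a flat morphism is exact -/
theorem preservesFiniteLimits_pullback (f : X ⟶ Y) [Flat f] :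
    PreservesFiniteLimits (Scheme.Modules.pullback f) := by
  haveI : PreservesColimitsOfSize.{0, 0} (Scheme.Modules.pullback f) :=
    (Scheme.Modules.pullbackPushforwardAdjunction f).leftAdjoint_preservesColimits
  haveI hm : (Scheme.Modules.pullback f).PreservesMonomorphisms := ⟨fun {M N} g hg => by
    suffices hx : ∀ x : X, Mono ((DerSch.stalkFunctor X x).map ((Scheme.Modules.pullback f).map g)) from
      (H7StalkDetect.jointly X).mono _
    intro x
    have hφ : (f.stalkMap x).hom.Flat := Flat.stalkMap f x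
    have := ModuleCat.preservesFiniteLimits_extendScalars_of_flat.{u} hφ
    haveI : PreservesFiniteLimits (DerSch.stalkFunctor Y (f.base x)) := inferInstance
    have h2 : Mono ((DerSch.stalkFunctor Y (f.base x) ⋙ ModuleCat.extendScalars.{u, u, u} (f.stalkMap x).hom).map g) :=
      inferInstance
    exact ((MorphismProperty.monomorphisms _).arrow_mk_iso_iff
      (Arrow.isoMk ((H7StalkPull.pullStalkIso f x).app M) ((H7StalkPull.pullStalkIso f x).app N)
        ((H7StalkPull.pullStalkIso f x).hom.naturality g).symm :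
          Arrow.mk ((DerSch.stalkFunctor X x).map ((Scheme.Modules.pullback f).map g)) ≅
          Arrow.mk ((DerSch.stalkFunctor Y (f.base x) ⋙ ModuleCat.extendScalars.{u, u, u} (f.stalkMap x).hom).map g))).2 h2⟩
  haveI : PreservesFiniteColimits (Scheme.Modules.pullback f) :=
    PreservesColimitsOfSize.preservesFiniteColimits.{0, 0} _
  refine (((Functor.exact_tfae (Scheme.Modules.pullback f)).out 0 3 rfl rfl).1 fun T hT => ?_).1
  haveI := hT.mono_f
  haveI := hT.epi_g
  refine { exact := ?_, mono_f := inferInstanceAs (Mono ((Scheme.Modules.pullback f).map T.f)),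
           epi_g := inferInstanceAs (Epi ((Scheme.Modules.pullback f).map T.g)) }
  exact hT.exact.map_of_epi_of_preservesCokernel _ hT.epi_g inferInstance

end Groth.Agent.H7RpushAdj
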