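import Groth.Agent.Lib.H7TensorAssoc
import Groth.Agent.Lib.H7LTensorCx
import Groth.Agent.Lib.H7RpushAdj
import Mathlib

/-! Iterated derived tensor products and internal Hom. -/

universe u v w
open CategoryTheory Limits AlgebraicGeometry HomologicalComplex MonoidalCategory

namespace Groth.Agent.H7RSheafHom
open Groth.Agent H7KFlatSheaf H7KFlatResolution H7KFlatResFun H7LTensorCx

attribute [local instance] HasDerivedCategory.standard

variable {X : Scheme.{u}}

local notation "qis" => HomologicalComplex.quasiIso (Scheme.Modules X) (ComplexShape.up ℤ)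

/-- the counit of `- ⊗ᴸ E` -/
noncomputable abbrev cu (E : CochainComplex X.Modules ℤ) [DCoh.HasLTensorCx E] :
    DerivedCategory.Q ⋙ DCoh.LTensorCx E ⟶ DCoh.tensorCxQ E :=
  (DCoh.tensorCxQ E).totalLeftDerivedCounit DerivedCategory.Q qis

/-- for a K-flat complex the termwise tensor product computes the derived one -/
theorem isIso_cu {E : CochainComplex X.Modules ℤ} (hE : DCoh.IsKFlat E) [DCoh.HasLTensorCx E]
    (M : CochainComplex X.Modules ℤ) : IsIso ((cu E).app M) := by
  haveI := quasiIso_resNat M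
  have h1 : IsIso ((DerivedCategory.Q ⋙ DCoh.LTensorCx E).map (resNat.app M)) := by
    haveI := (DerivedCategory.isIso_Q_map_iff_quasiIso _ (resNat.app M)).2 inferInstance
    rw [Functor.comp_map]; infer_instance
  have h2 : IsIso ((DCoh.tensorCxQ E).map (resNat.app M)) :=
    isIso_tensorCxQ E _ (H7KFlatSheaf.quasiIso_tensor_right hE (resNat.app M))
  have h3 := isIso_counit E (skf_resFunctor M)
  have hn := (cu E).naturality (resNat.app M)
  have h4 : IsIso ((cu E).app (resFunctor.obj M) ≫ (DCoh.tensorCxQ E).map (resNat.app M)) :=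
    @IsIso.comp_isIso _ _ _ _ _ _ _ h3 h2
  rw [← hn] at h4
  exact @IsIso.of_isIso_comp_left _ _ _ _ _ _ _ h1 h4

variable (K L : CochainComplex X.Modules ℤ) [DCoh.HasLTensorCx K] [DCoh.HasLTensorCx L]

/-- the counit of the iterated tensor product -/
noncomputable def compCounit :
    DerivedCategory.Q ⋙ DCoh.LTensorCx K ⋙ DCoh.LTensorCx L ⟶ DCoh.tensorCxQ ((DCoh.tensorCx.obj K).obj L) where
  app R := (DCoh.LTensorCx L).map ((cu K).app R) ≫ (cu L).app ((DCoh.tensorCx.obj R).obj K) ≫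
    DerivedCategory.Q.map (H7TensorAssoc.assocCx R K L).hom
  naturality R R' g := by
    show (DCoh.LTensorCx L).map ((DerivedCategory.Q ⋙ DCoh.LTensorCx K).map g) ≫ _ = _
    rw [← Functor.map_comp_assoc, (cu K).naturality g, Functor.map_comp_assoc, Category.assoc, Category.assoc]
    refine congrArg ((DCoh.LTensorCx L).map ((cu K).app R) ≫ ·) ?_
    have hn := (cu L).naturality ((DCoh.tensorCx.map g).app K)
    refine (Category.assoc _ _ _).symm.trans ((congrArg (· ≫ _) hn).trans ((Category.assoc _ _ _).trans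
      (congrArg (_ ≫ ·) ?_)))
    exact (DerivedCategory.Q.map_comp _ _).symm.trans
      ((congrArg DerivedCategory.Q.map (H7TensorAssoc.assocCx_natural g K L)).trans (DerivedCategory.Q.map_comp _ _))

theorem isIso_compCounit (hL : DCoh.IsKFlat L) {R : CochainComplex X.Modules ℤ} (hR : SKF R) :
    IsIso ((compCounit K L).app R) := by
  have h1 := isIso_counit K hR
  have h2 := isIso_cu hL ((DCoh.tensorCx.obj R).obj K)
  have h3 : IsIso ((DCoh.LTensorCx L).map ((cu K).app R)) := @Functor.map_isIso _ _ _ _ _ _ _ _ h1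
  exact @IsIso.comp_isIso _ _ _ _ _ _ _ h3 (@IsIso.comp_isIso _ _ _ _ _ _ _ h2 inferInstance)

theorem isLeftDerived_comp (hL : DCoh.IsKFlat L) :
    (DCoh.LTensorCx K ⋙ DCoh.LTensorCx L).IsLeftDerivedFunctor (compCounit K L) qis := by
  refine H7RpushAdj.isLeftDerived_of_iso DerivedCategory.Q qis (DCoh.tensorCxQ _) resFunctor resNat
    (fun M => quasiIso_resNat M) (fun M N g hg => isIso_tensorCxQ _ _ ?_) (fun M => isIso_tensorCxQ _ _ ?_) _ _
      (fun M hM => ?_)
  · have := H7LpullCalc.resFunctor_quasiIso g hg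
    exact quasiIso_tensorCx (skf_resFunctor M) (skf_resFunctor N) (resFunctor.map g) _
  · have := quasiIso_resNat (resFunctor.obj M)
    exact quasiIso_tensorCx (skf_resFunctor _) (skf_resFunctor M) (resNat.app (resFunctor.obj M)) _
  · have h1 := isIso_compCounit K L hL (skf_resFunctor M)
    have hn := (compCounit K L).naturality (resNat.app M)
    have := quasiIso_resNat M
    have hl : IsIso ((DerivedCategory.Q ⋙ DCoh.LTensorCx K ⋙ DCoh.LTensorCx L).map (resNat.app M)) := by
      haveI := (DerivedCategory.isIso_Q_map_iff_quasiIso _ (resNat.app M)).2 inferInstance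
      rw [Functor.comp_map]; infer_instance
    have hr : IsIso ((compCounit K L).app (resFunctor.obj M) ≫ (DCoh.tensorCxQ _).map (resNat.app M)) :=
      @IsIso.comp_isIso _ _ _ _ _ _ _ h1 hM
    rw [← hn] at hr
    exact @IsIso.of_isIso_comp_left _ _ _ _ _ _ _ hl hr

/-- `(- ⊗ᴸ K) ⊗ᴸ L = - ⊗ᴸ (K ⊗ L)` -/
theorem nonempty_comp_iso (hL : DCoh.IsKFlat L) [DCoh.HasLTensorCx ((DCoh.tensorCx.obj K).obj L)] :
    Nonempty (DCoh.LTensorCx K ⋙ DCoh.LTensorCx L ≅ DCoh.LTensorCx ((DCoh.tensorCx.obj K).obj L)) := by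
  haveI := isLeftDerived_comp K L hL
  exact ⟨Functor.leftDerivedUnique _ _ (compCounit K L) (cu ((DCoh.tensorCx.obj K).obj L)) qis⟩

/-- `RHom(K, RHom(L, -)) = RHom(K ⊗ L, -)` -/
theorem nonempty_rhom_comp (hL : DCoh.IsKFlat L) [DCoh.HasRSheafHom K] [DCoh.HasRSheafHom L]
    [DCoh.HasLTensorCx ((DCoh.tensorCx.obj K).obj L)] [DCoh.HasRSheafHom ((DCoh.tensorCx.obj K).obj L)] :
    Nonempty (DCoh.RSheafHom ((DCoh.tensorCx.obj K).obj L) ≅ DCoh.RSheafHom L ⋙ DCoh.RSheafHom K) := by
  obtain ⟨e⟩ := nonempty_comp_iso K L hL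
  exact ⟨(DCoh.RSheafHomAdj _).rightAdjointUniq
    (((DCoh.RSheafHomAdj K).comp (DCoh.RSheafHomAdj L)).ofNatIsoLeft e)⟩

end Groth.Agent.H7RSheafHom
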