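import Groth.Agent.Lib.H7RpushAdj
import Groth.Prelude.Def_CxOX
import Groth.Prelude.Def_DCoh3
import Mathlib

/-! Computing `Rf_*` on K-injective complexes. -/

universe u v w
open CategoryTheory Limits AlgebraicGeometry

namespace Groth.Agent.H7RpushCalc
open Groth.Agent

attribute [local instance] HasDerivedCategory.standard

variable {X Y : Scheme.{u}} (f : X ⟶ Y)

/-- termwise direct image -/
noncomputable abbrev pushCx : CochainComplex X.Modules ℤ ⥤ CochainComplex Y.Modules ℤ :=
  (Scheme.Modules.pushforward f).mapHomologicalComplex (ComplexShape.up ℤ)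

variable [DCoh.HasRpush f]

/-- the unit on complexes -/
noncomputable def beta : pushCx f ⋙ DerivedCategory.Q ⟶ DerivedCategory.Q ⋙ DCoh.Rpush f :=
  (H7RpushAdj.exists_beta f).choose

instance beta_derived : (DCoh.Rpush f).IsRightDerivedFunctor (beta f)
    (HomologicalComplex.quasiIso X.Modules (ComplexShape.up ℤ)) :=
  (H7RpushAdj.exists_beta f).choose_spec

lemma isIso_beta (I : CochainComplex X.Modules ℤ) (hI : I.IsKInjective) : IsIso ((beta f).app I) :=
  ((H5KApps.resolving_Q (A := X.Modules) H5KApps.enoughKInj_of_grothendieck).isRightDerived_iff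
    (H5KApps.compat_Q (Scheme.Modules.pushforward f)) _ _ (beta f)).1 (beta_derived f) I hI

/-- `Rf_* I = f_* I` for K-injective `I` -/
noncomputable def rpushIso (I : CochainComplex X.Modules ℤ) (hI : I.IsKInjective) :
    (DCoh.Rpush f).obj (DerivedCategory.Q.obj I) ≅ DerivedCategory.Q.obj ((pushCx f).obj I) :=
  (@asIso _ _ _ _ _ (isIso_beta f I hI)).symm

theorem isGE_rpush (F : DCoh.D X) (n : ℤ) [F.IsGE n] : ((DCoh.Rpush f).obj F).IsGE n := by
  obtain ⟨K, hK, ⟨e⟩⟩ := DerivedCategory.exists_iso_Q_obj_of_isGE F n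
  obtain ⟨L, i, hi, hL, hL'⟩ := CochainComplex.Plus.modelCategoryQuillen.exists_quasiIso_injective K n
  have hIn : L.IsKInjective := CochainComplex.isKInjective_of_injective L n
  have : IsIso (DerivedCategory.Q.map i) := (DerivedCategory.isIso_Q_map_iff_quasiIso _ _).2 hi
  let e' : (DCoh.Rpush f).obj F ≅ DerivedCategory.Q.obj ((pushCx f).obj L) :=
    (DCoh.Rpush f).mapIso (e ≪≫ asIso (DerivedCategory.Q.map i)) ≪≫ rpushIso f L hIn
  rw [DerivedCategory.isGE_iff]
  intro k hk
  refine IsZero.of_iso ?_ ((DerivedCategory.homologyFunctor _ k).mapIso e' ≪≫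
    (DerivedCategory.homologyFunctorFactors _ k).app _)
  exact (HomologicalComplex.exactAt_iff_isZero_homology _ _).1 (ShortComplex.exact_of_isZero_X₂ _
    ((Scheme.Modules.pushforward f).map_isZero (L.isZero_of_isStrictlyGE n k hk)))

omit [DCoh.HasRpush f] in
/-- `j_! ⊣ j^*` on derived categories -/
theorem extZeroD_adj (U : X.Opens) [PreservesFiniteLimits (CxOX.extZero U.ι)] :
    Nonempty (CxOX.extZeroD U.ι ⊣ DCoh.restrictD U.ι) := by
  let G := Scheme.Modules.restrictFunctor U.ι
  haveI : (DCoh.restrictD U.ι).IsRightDerivedFunctor G.mapDerivedCategoryFactors.inv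
      (HomologicalComplex.quasiIso X.Modules (ComplexShape.up ℤ)) :=
    Functor.isRightDerivedFunctor_of_inverts _ _ G.mapDerivedCategoryFactors
  exact ⟨(H5KApps.exists_derived_adjunction (CxOX.extZeroAdj U.ι) G.mapDerivedCategoryFactors.inv
    H5KApps.enoughKInj_of_grothendieck).choose⟩

end Groth.Agent.H7RpushCalc
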