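import Groth.Agent.Lib.H7PushStalk
import Groth.Agent.Lib.H7RSheafHom
import Groth.Agent.Lib.H7RpushCalc
import Groth.Agent.Lib.H7MapTotal
import Mathlib

/-! Projection formula along closed immersions. -/

universe u
open CategoryTheory Limits AlgebraicGeometry

namespace Groth.Agent.H7ProjFormula
open Groth.Agent H7PushStalk H7KFlatSheaf

attribute [local instance] HasDerivedCategory.standard

variable {X Y : Scheme.{u}} (f : X ⟶ Y)

/-- `(A, B) ↦ A ⊗ f^* B` -/
noncomputable abbrev mixBi : X.Modules ⥤ Y.Modules ⥤ X.Modules :=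
  DCoh.tensorBi (X := X) ⋙ (Functor.whiskeringLeft _ _ _).obj (Scheme.Modules.pullback f)

instance additive_mixBi_obj (A : X.Modules) : ((mixBi f).obj A).Additive :=
  inferInstanceAs (Scheme.Modules.pullback f ⋙ (DCoh.tensorBi (X := X)).obj A).Additive

instance additive_mixBi : (mixBi f).Additive where
  map_add {A B} a b := by
    refine NatTrans.ext (funext fun C => ?_)
    exact congrArg (fun t => NatTrans.app t ((Scheme.Modules.pullback f).obj C))
      ((DCoh.tensorBi (X := X)).map_add (f := a) (g := b))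

variable [IsClosedImmersion f]

/-- the projection isomorphism, naturally in both variables -/
noncomputable def natIso :
    mixBi f ⋙ (Functor.whiskeringRight _ _ _).obj (Scheme.Modules.pushforward f) ≅
      Scheme.Modules.pushforward f ⋙ (DCoh.tensorBi (X := Y)) ⋙ (Functor.whiskeringLeft _ _ _).obj (𝟭 Y.Modules) :=
  (NatIso.ofComponents
    (fun A => NatIso.ofComponents (fun B => @asIso _ _ _ _ (rho f A B) (isIso_rho f A B)) fun {B B'} b => by
      show ((DCoh.tensorBi (X := Y)).obj ((Scheme.Modules.pushforward f).obj A)).map b ≫ rho f A B' =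
        rho f A B ≫ (Scheme.Modules.pushforward f).map
          (((DCoh.tensorBi (X := X)).obj A).map ((Scheme.Modules.pullback f).map b))
      rw [H7PullTensor.tensorBi_obj_map, H7PullTensor.tensorBi_obj_map]
      have h := rho_natural f (𝟙 A) b
      rw [CategoryTheory.Functor.map_id] at h
      exact h)
    fun {A A'} a => by
      refine NatTrans.ext (funext fun B => ?_)
      show ((DCoh.tensorBi (X := Y)).map ((Scheme.Modules.pushforward f).map a)).app B ≫ rho f A' B =
        rho f A B ≫ (Scheme.Modules.pushforward f).map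
          (((DCoh.tensorBi (X := X)).map a).app ((Scheme.Modules.pullback f).obj B))
      rw [H7PullTensor.tensorBi_map, H7PullTensor.tensorBi_map]
      have h := rho_natural f a (𝟙 B)
      rw [CategoryTheory.Functor.map_id] at h
      exact h).symm

/-- the projection formula for complexes -/
noncomputable def cxIso (I : CochainComplex X.Modules ℤ) (P : CochainComplex Y.Modules ℤ) :
    (DCoh.tensorCx.obj ((H7RpushCalc.pushCx f).obj I)).obj P ≅
      (H7RpushCalc.pushCx f).obj ((DCoh.tensorCx.obj I).obj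
        (((Scheme.Modules.pullback f).mapHomologicalComplex (ComplexShape.up ℤ)).obj P)) :=
  (H7MapTotal.iso (mixBi f) (DCoh.tensorBi (X := Y)) (Scheme.Modules.pushforward f) (𝟭 _)
      (Scheme.Modules.pushforward f) (natIso f) I P).symm ≪≫
    (H7RpushCalc.pushCx f).mapIso
      (H7MapTotal.iso (mixBi f) (DCoh.tensorBi (X := X)) (𝟭 _) (Scheme.Modules.pullback f) (𝟭 _) (Iso.refl _) I P)

variable [DCoh.HasRpush f]

/-- `Rf_* M = f_* M` for a closed immersion -/
theorem rpush_Q (M : CochainComplex X.Modules ℤ) :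
    Nonempty ((DCoh.Rpush f).obj (DerivedCategory.Q.obj M) ≅ DerivedCategory.Q.obj ((H7RpushCalc.pushCx f).obj M)) := by
  obtain ⟨J, i, hJ, hi⟩ := (H5KApps.enoughKInj_of_grothendieck (A := X.Modules)) M
  haveI := (DerivedCategory.isIso_Q_map_iff_quasiIso _ i).2 hi
  haveI : QuasiIso ((H7RpushCalc.pushCx f).map i) := inferInstance
  haveI := (DerivedCategory.isIso_Q_map_iff_quasiIso _ ((H7RpushCalc.pushCx f).map i)).2 inferInstance
  exact ⟨(DCoh.Rpush f).mapIso (asIso (DerivedCategory.Q.map i)) ≪≫ H7RpushCalc.rpushIso f J hJ ≪≫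
    (asIso (DerivedCategory.Q.map ((H7RpushCalc.pushCx f).map i))).symm⟩

theorem projFormula (P : CochainComplex Y.Modules ℤ) (hP : DCoh.IsKFlat P) [DCoh.HasLTensorCx P]
    [DCoh.HasLTensorCx (((Scheme.Modules.pullback f).mapHomologicalComplex (ComplexShape.up ℤ)).obj P)]
    (E : DCoh.D X) :
    Nonempty ((DCoh.LTensorCx P).obj ((DCoh.Rpush f).obj E) ≅
      (DCoh.Rpush f).obj ((DCoh.LTensorCx
        (((Scheme.Modules.pullback f).mapHomologicalComplex (ComplexShape.up ℤ)).obj P)).obj E)) := by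
  set P' := ((Scheme.Modules.pullback f).mapHomologicalComplex (ComplexShape.up ℤ)).obj P with hP'
  have hP2 : DCoh.IsKFlat P' := (H7StalkPull.skf_pullback f (skf_of_isKFlat hP)).isKFlat
  obtain ⟨I, hI, ⟨e⟩⟩ := H5KApps.exists_kInj_iso (H5KApps.enoughKInj_of_grothendieck (A := X.Modules)) E
  obtain ⟨r⟩ := rpush_Q f ((DCoh.tensorCx.obj I).obj P')
  exact ⟨(DCoh.LTensorCx P).mapIso ((DCoh.Rpush f).mapIso e.symm ≪≫ H7RpushCalc.rpushIso f I hI) ≪≫
    @asIso _ _ _ _ _ (H7RSheafHom.isIso_cu hP ((H7RpushCalc.pushCx f).obj I)) ≪≫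
    DerivedCategory.Q.mapIso (cxIso f I P) ≪≫ r.symm ≪≫
    (DCoh.Rpush f).mapIso ((@asIso _ _ _ _ _ (H7RSheafHom.isIso_cu hP2 I)).symm ≪≫ (DCoh.LTensorCx P').mapIso e)⟩

end Groth.Agent.H7ProjFormula
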