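import Groth.Agent.Lib.H7FPFlat
import Groth.Agent.Lib.H7DegLocus
import Groth.Agent.Lib.H7PerfAmp
import Mathlib

/-! The top cohomology of a pseudo-coherent object. -/

universe u v w
open CategoryTheory Limits AlgebraicGeometry Opposite TopologicalSpace HomologicalComplex CochainComplex

namespace Groth.Agent.H7PseudoTop
open Groth.Agent H7KFlatSheaf H7HasLpull H7PerfPull H7FinFree H7LocLift H7PerfTri H7PseudoPull H7PseudoTri H7PerfAmp H7FPLocal

attribute [local instance] HasDerivedCategory.standard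

variable {X : Scheme.{u}}

/-- the cycles of a strictly perfect complex which is exact above are free near every point -/
lemma cycles_free {P : CochainComplex X.Modules ℤ} (hP : DCoh.IsStrictlyPerfect P) (i : ℤ)
    (hex : ∀ k, i < k → P.ExactAt k) (x : X) :
    ∃ U : X.Opens, x ∈ U ∧ IsFree ((Scheme.Modules.pullback U.ι).obj ((H7StupidGE.trunc P i).homology i)) := by
  obtain ⟨⟨a, b, hab⟩, hf⟩ := strictlyPerfect_trunc hP i
  let T := H7StupidGE.trunc P i
  choose O hO hfree using fun k : Finset.Icc a b => (isFinLocFree_iff (T.X k)).1 (hf k) x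
  let O' : X.Opens := ⟨⋂ k, (O k : Set X), isOpen_iInter_of_finite fun k => (O k).2⟩
  obtain ⟨A, hA, hxA, hAO⟩ := exists_isAffineOpen_mem_and_subset (U := O') (Set.mem_iInter.2 hO)
  have : IsAffine (A : Scheme.{u}) := hA
  let T' := (pullCx A.ι).obj T
  have hz : DCoh.VanishesOutside T' a b := fun k hk => (Scheme.Modules.pullback A.ι).map_isZero (hab k hk)
  have hfree' : ∀ k, IsFree (T'.X k) := fun k => by
    by_cases hk : k ∈ Finset.Icc a b
    · exact IsFree.mono (fun z hz => Set.mem_iInter.1 (hAO hz) ⟨k, hk⟩) (hfree ⟨k, hk⟩)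
    · exact H7Betti.isFree_of_isZero (hz k (by simp only [Finset.mem_Icc] at hk; omega))
  -- the fibre
  let w : (A : Scheme.{u}) := ⟨x, hxA⟩
  let φ := IsLocalRing.residue ((A : Scheme.{u}).presheaf.stalk w)
  have hT : SKF T := skf_of_strictlyPerfect (strictlyPerfect_trunc hP i)
  have hup : ∀ k, i < k → T'.ExactAt k := fun k hk => exactAt_pullback A.ι hT (m := i + 1) (fun j hj => by
    rw [exactAt_iff_isZero_homology]
    have := H7StupidGE.homologyMap_iso (K := P) (show i < j by omega)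
    exact ((exactAt_iff_isZero_homology _ _).1 (hex j (by omega))).of_iso (asIso (homologyMap (H7StupidGE.ι P i) j)))
    k (by omega)
  have hT' : SKF T' := H7StalkPull.skf_pullback A.ι hT
  have h0 : ∀ k, k ≠ i → H7DegLocal.fdim T' w φ k = 0 := fun k hk => by
    let E := (ModuleCat.extendScalars φ).mapHomologicalComplex (ComplexShape.up ℤ)
    have hz' : (E.obj ((stCx w).obj T')).ExactAt k := by
      rcases lt_or_gt_of_ne hk with h | h
      · exact ShortComplex.exact_of_isZero_X₂ _ ((ModuleCat.extendScalars φ).map_isZero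
          ((DerSch.stalkFunctor (A : Scheme.{u}) w).map_isZero ((Scheme.Modules.pullback A.ι).map_isZero
            (H7StupidGE.isZero_below h))))
      · exact exactAt_extendScalars φ (hT' w) (m := i + 1)
          (fun j hj => ((H7StalkDetect.jointly _).exactAt_iff T' j).1 (hup j (by omega)) w) k (by omega)
    have := ModuleCat.subsingleton_of_isZero ((exactAt_iff_isZero_homology _ _).1 hz')
    exact Module.finrank_zero_of_subsingleton
  obtain ⟨U, hwU, ⟨e⟩⟩ := H7DegLocal.local_single (isAffineOpen_top (A : Scheme.{u})) hfree' hz w φ i _ h0 rfl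
  let j := U.ι ≫ A.ι
  let W := j.opensRange
  refine ⟨W, ⟨⟨w, hwU⟩, rfl⟩, ?_⟩
  let eT : (Scheme.Modules.pullback A.ι).obj (T.homology i) ≅ T'.homology i :=
    ((Scheme.Modules.restrictFunctorIsoPullback A.ι).app _).symm ≪≫
      ((T.sc i).mapHomologyIso (Scheme.Modules.restrictFunctor A.ι)).symm ≪≫
      (HomologicalComplex.homologyFunctor _ _ i).mapIso (cxIso (Scheme.Modules.restrictFunctorIsoPullback A.ι) T)
  have h1 : IsFree ((Scheme.Modules.pullback U.ι).obj (T'.homology i)) :=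
    IsFree.of_iso (M := FlatMod.freeMod (U : Scheme.{u}) _)
      ((Scheme.Modules.restrictFunctorIsoPullback U.ι).app _ |> fun e' =>
        (H7DegLocus.restrHomIso U T' e i ≪≫ singleObjHomologySelfIso _ i _).symm ≪≫ e') ⟨_, ⟨Iso.refl _⟩⟩
  have h2 : IsFree ((Scheme.Modules.pullback j).obj (T.homology i)) :=
    (h1.of_iso ((Scheme.Modules.pullback U.ι).mapIso eT.symm)).of_iso ((Scheme.Modules.pullbackComp U.ι A.ι).app _)
  exact (h2.pullback j.isoOpensRange.inv).of_iso ((Scheme.Modules.pullbackComp j.isoOpensRange.inv j).app _ ≪≫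
    eqToIso (by rw [j.isoOpensRange_inv_comp]))

/-- cohomology at the lowest exact spot is finitely presented -/
theorem isFP_homology {P : CochainComplex X.Modules ℤ} (hP : DCoh.IsStrictlyPerfect P) (i : ℤ)
    (hex : ∀ k, i < k → P.ExactAt k) : CohB1.IsFP (P.homology i) := by
  rw [isFP_iff]
  intro x
  obtain ⟨U₁, hx₁, hfree₁⟩ := cycles_free hP i hex x
  obtain ⟨U₂, hx₂, hfree₂⟩ := (isFinLocFree_iff (P.X (i - 1))).1 (hP.2 (i - 1)) x
  let U := U₁ ⊓ U₂
  let T := H7StupidGE.trunc P i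
  -- cycles
  have hIso : IsIso (H7StupidGE.incl P i i) := H7StupidGE.incl_isIso (K := P) (m := i) le_rfl
  let eI : T.X i ≅ P.X i := @asIso _ _ _ _ ((H7StupidGE.ι P i).f i) hIso
  have hd : T.d (i - 1) i = 0 := (H7StupidGE.isZero_below (show i - 1 < i by omega)).eq_of_src _ _
  have hcyc : IsIso (HomologicalComplex.cyclesMap (H7StupidGE.ι P i) i) := by
    refine ⟨T.liftCycles (P.iCycles i ≫ eI.inv) (i + 1) (by simp) ?_, ?_, ?_⟩
    · have hm : Mono ((H7StupidGE.ι P i).f (i + 1)) := H7StupidGE.mono_incl P i (i + 1)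
      rw [← cancel_mono ((H7StupidGE.ι P i).f (i + 1)), zero_comp, Category.assoc, Category.assoc,
        ← (H7StupidGE.ι P i).comm i (i + 1)]
      rw [show eI.inv ≫ (H7StupidGE.ι P i).f i ≫ P.d i (i + 1) = P.d i (i + 1) from eI.inv_hom_id_assoc _]
      exact P.iCycles_d i (i + 1)
    · rw [← cancel_mono (T.iCycles i), Category.assoc, liftCycles_i, cyclesMap_i_assoc, Category.id_comp]
      exact (congrArg (T.iCycles i ≫ ·) eI.hom_inv_id).trans (Category.comp_id _)
    · rw [← cancel_mono (P.iCycles i), Category.assoc, cyclesMap_i, liftCycles_i_assoc, Category.id_comp]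
      exact (Category.assoc _ _ _).trans ((congrArg (P.iCycles i ≫ ·) eI.inv_hom_id).trans (Category.comp_id _))
  let eZ : T.homology i ≅ P.cycles i :=
    (T.isoHomologyπ (i - 1) i (by simp) hd).symm ≪≫ asIso (HomologicalComplex.cyclesMap (H7StupidGE.ι P i) i)
  let eH : P.homology i ≅ cokernel (P.toCycles (i - 1) i) :=
    IsColimit.coconePointUniqueUpToIso (P.homologyIsCokernel (i - 1) i (by simp)) (colimit.isColimit _)
  let F := Scheme.Modules.pullback U.ι
  obtain ⟨m, ⟨em⟩⟩ := hfree₂.mono (inf_le_right : U ≤ U₂)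
  obtain ⟨n, ⟨en⟩⟩ := (hfree₁.mono (inf_le_left : U ≤ U₁)).of_iso (F.mapIso eZ)
  refine ⟨U, ⟨hx₁, hx₂⟩, m, n, em.inv ≫ F.map (P.toCycles (i - 1) i) ≫ en.hom, ⟨?_⟩⟩
  exact cokernel.mapIso _ (F.map (P.toCycles (i - 1) i)) em.symm en.symm (by simp) ≪≫
    (PreservesCokernel.iso F _).symm ≪≫ F.mapIso eH.symm ≪≫ ((Scheme.Modules.restrictFunctorIsoPullback U.ι).app _).symm

theorem top_cohomology (m : ℤ) (K : DCoh.D X) (hK : DCoh.IsPseudoCoherentD m K) :
    ((∀ i : ℤ, m < i → IsZero (DCoh.HD K i)) → CohB1.IsFT (DCoh.HD K m)) ∧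
    ((∀ i : ℤ, m + 1 < i → IsZero (DCoh.HD K i)) → CohB1.IsFP (DCoh.HD K (m + 1))) := by
  have key : ∀ (i : ℤ), m ≤ i → (∀ k, i < k → IsZero (DCoh.HD K k)) → ∀ x : X, ∃ (V : X.Opens)
      (H : (V : Scheme.{u}).Modules) (p : H ⟶ (DCoh.HD K i).restrict V.ι),
      x ∈ V ∧ CohB1.IsFP H ∧ Epi p ∧ (m < i → IsIso p) := by
    intro i hi hz x
    obtain ⟨V, hx, hV⟩ := hK x
    let e := DerivedCategory.Q.objObjPreimageIso K
    let F := DerivedCategory.Q.objPreimage K
    obtain ⟨P, α, hP, hiso, hepi⟩ := hV F ⟨e⟩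
    let Hk := fun k => DerivedCategory.homologyFunctor (V : Scheme.{u}).Modules k
    let eV : ∀ k, (DCoh.HD K k).restrict V.ι ≅ (Hk k).obj (DerivedCategory.Q.obj ((DCoh.restrictCx V).obj F)) := fun k =>
      (Scheme.Modules.restrictFunctor V.ι).mapIso ((DerivedCategory.homologyFunctor _ k).mapIso e.symm ≪≫
        (DerivedCategory.homologyFunctorFactors _ k).app F) ≪≫
      ((F.sc k).mapHomologyIso (Scheme.Modules.restrictFunctor V.ι)).symm ≪≫
        ((DerivedCategory.homologyFunctorFactors (V : Scheme.{u}).Modules k).app ((DCoh.restrictCx V).obj F)).symm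
    have hexP : ∀ k, i < k → P.ExactAt k := fun k hk => by
      have := hiso k (by omega)
      exact (isZero_HD_Q_iff P k).1 ((((Scheme.Modules.restrictFunctor V.ι).map_isZero (hz k hk)).of_iso
        (eV k).symm).of_iso (asIso ((Hk k).map α)))
    refine ⟨V, P.homology i, ((DerivedCategory.homologyFunctorFactors _ i).app P).inv ≫ (Hk i).map α ≫ (eV i).inv,
      hx, isFP_homology hP i hexP, ?_, fun h => ?_⟩
    · have : Epi ((Hk i).map α) := by
        rcases hi.eq_or_lt with rfl | h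
        · exact hepi
        · have := hiso i h; infer_instance
      exact @epi_comp _ _ _ _ _ _ (@IsIso.epi_of_iso _ _ _ _ _ (Iso.isIso_inv _)) _ (@epi_comp _ _ _ _ _ _ this _ (@IsIso.epi_of_iso _ _ _ _ _ (Iso.isIso_inv _)))
    · exact @IsIso.comp_isIso _ _ _ _ _ _ _ (Iso.isIso_inv _) (@IsIso.comp_isIso _ _ _ _ _ _ _ (hiso i h) (Iso.isIso_inv _))
  constructor
  · intro hz
    refine isFT_of_epi _ fun x => ?_
    obtain ⟨V, H, p, hx, hH, hp, -⟩ := key m le_rfl hz x
    obtain ⟨U, hU, a, b, g, ⟨eg⟩⟩ := (isFP_iff H).1 hH ⟨x, hx⟩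
    let j := U.ι ≫ V.ι
    let W := j.opensRange
    let θ := j.isoOpensRange.inv
    have hθ : θ ≫ j = W.ι := j.isoOpensRange_inv_comp
    let p' : FlatMod.freeMod (U : Scheme.{u}) b ⟶ (Scheme.Modules.restrictFunctor U.ι).obj ((DCoh.HD K m).restrict V.ι) :=
      cokernel.π g ≫ eg.hom ≫ (Scheme.Modules.restrictFunctor U.ι).map p
    refine ⟨W, b, (pullFreeIso θ b).inv ≫ ((Scheme.Modules.restrictFunctorIsoPullback θ).app _).inv ≫
      (Scheme.Modules.restrictFunctor θ).map (p' ≫ ((Scheme.Modules.restrictFunctorComp U.ι V.ι).app _).inv) ≫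
        ((Scheme.Modules.restrictFunctorComp θ j).symm ≪≫ Scheme.Modules.restrictFunctorCongr hθ).hom.app _,
      ⟨⟨⟨x, hx⟩, hU⟩, rfl⟩, ?_⟩
    infer_instance
  · intro hz
    rw [isFP_iff]
    intro x
    obtain ⟨V, H, p, hx, hH, -, hiso⟩ := key (m + 1) (by omega) hz x
    have := hiso (by omega)
    obtain ⟨U, hU, hc⟩ := (isFP_iff H).1 hH ⟨x, hx⟩
    let j := U.ι ≫ V.ι
    refine ⟨j.opensRange, ⟨⟨⟨x, hx⟩, hU⟩, rfl⟩, ?_⟩
    have h1 : IsCoker ((Scheme.Modules.pullback j).obj (DCoh.HD K (m + 1))) :=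
      (hc.of_iso ((Scheme.Modules.restrictFunctorIsoPullback U.ι).app H ≪≫ (Scheme.Modules.pullback U.ι).mapIso
        (asIso p ≪≫ (Scheme.Modules.restrictFunctorIsoPullback V.ι).app _))).of_iso
          ((Scheme.Modules.pullbackComp U.ι V.ι).app _)
    exact (h1.pullback j.isoOpensRange.inv).of_iso ((Scheme.Modules.pullbackComp j.isoOpensRange.inv j).app _ ≪≫
      eqToIso (by rw [j.isoOpensRange_inv_comp]) ≪≫ ((Scheme.Modules.restrictFunctorIsoPullback j.opensRange.ι).app _).symm)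

end Groth.Agent.H7PseudoTop
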