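import Groth.Agent.Lib.H7PseudoSummand
import Groth.Agent.Lib.H7PseudoTop
import Groth.Agent.Lib.LSupp
import Groth.Agent.Lib.H7PerfCrit
import Mathlib

/-! Pseudo-coherence of a single module. -/

universe u v w
open CategoryTheory Limits AlgebraicGeometry Opposite TopologicalSpace HomologicalComplex CategoryTheory.Pretriangulated

namespace Groth.Agent.H7PseudoSingle
open Groth.Agent H7LocLift H7PerfTri H7PseudoPull H7PseudoTri H7PseudoSummand

attribute [local instance] HasDerivedCategory.standard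

variable {X : Scheme.{u}}

lemma isPseudo_free (n : ℕ) (m : ℤ) : DCoh.IsPseudoCoherentD m (DCoh.inD X (FlatMod.freeMod X n)) := by
  refine isPseudo_of_iso ((DerivedCategory.singleFunctorIsoCompQ X.Modules 0).app _).symm
    (H7PerfCrit.isPseudo_of_isPerfect (isPerfect_Q (P := (single X.Modules (ComplexShape.up ℤ) 0).obj (FlatMod.freeMod X n))
      ⟨⟨0, 0, fun k hk => isZero_single_obj_X _ _ _ _ (by omega)⟩, fun k => ?_⟩) m)
  rcases eq_or_ne k 0 with rfl | hk
  · exact H7FinFree.finLocFree_of_iso (singleObjXSelf _ _ _).symm (H7FPFlat.finLocFree_freeMod n)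
  · exact (H7FinFree.isFinLocFree_iff _).2 fun y => ⟨⊤, trivial, H7Betti.isFree_of_isZero
      ((Scheme.Modules.pullback _).map_isZero (isZero_single_obj_X _ _ _ _ hk))⟩

lemma isPseudo_quot {n : ℕ} {M : X.Modules} (p : FlatMod.freeMod X n ⟶ M) [Epi p] {m : ℤ}
    (hK : DCoh.IsPseudoCoherentD (m + 1) (DCoh.inD X (kernel p))) : DCoh.IsPseudoCoherentD m (DCoh.inD X M) := by
  let T : ShortComplex X.Modules := ShortComplex.mk (kernel.ι p) p (kernel.condition p)
  have hT : T.ShortExact :=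
    { exact := ShortComplex.exact_of_f_is_kernel _ (kernelIsKernel p)
      mono_f := inferInstanceAs (Mono (kernel.ι p))
      epi_g := inferInstanceAs (Epi p) }
  exact isPseudo₃ _ hT.singleTriangle_distinguished hK (isPseudo_free n m)

lemma isPseudo_one (M : X.Modules) {m : ℤ} (hm : 0 < m) : DCoh.IsPseudoCoherentD m (DCoh.inD X M) :=
  isPseudo_of_vanish fun k hk => DerivedCategory.isZero_of_isLE (DCoh.inD X M) 0 k (by omega)

lemma exists_epi {M : X.Modules} (h : CohB1.IsFT M) (x : X) : ∃ (V : X.Opens) (n : ℕ)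
    (p : FlatMod.freeMod (V : Scheme.{u}) n ⟶ M.restrict V.ι), x ∈ V ∧ Epi p := by
  haveI : SheafOfModules.IsFiniteType (R := X.ringCatSheaf) M := h
  obtain ⟨V, hx, G, hG⟩ := LSupp.exists_gen_restrict M x
  haveI := hG
  obtain ⟨n, ⟨e⟩⟩ := H7FPLocal.exists_free_iso (X := (V : Scheme.{u})) G.I
  exact ⟨V, n, e.inv ≫ G.π, hx, @epi_comp _ _ _ _ _ _ inferInstance _ G.epi⟩

lemma isPseudo_of_restrict {M : X.Modules} {m : ℤ}
    (h : ∀ x : X, ∃ V : X.Opens, x ∈ V ∧ DCoh.IsPseudoCoherentD m (DCoh.inD (V : Scheme.{u}) (M.restrict V.ι))) :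
    DCoh.IsPseudoCoherentD m (DCoh.inD X M) := by
  refine isPseudo_local fun x => ?_
  obtain ⟨V, hx, hV⟩ := h x
  exact ⟨V, hx, isPseudo_of_iso (((Scheme.Modules.restrictFunctor V.ι).mapDerivedCategorySingleFunctor 0).app M).symm hV⟩

lemma isPseudo_of_isFT {M : X.Modules} (h : CohB1.IsFT M) : DCoh.IsPseudoCoherentD 0 (DCoh.inD X M) :=
  isPseudo_of_restrict fun x => by
    obtain ⟨V, n, p, hx, hp⟩ := exists_epi h x
    exact ⟨V, hx, isPseudo_quot p (isPseudo_one _ (by omega))⟩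

lemma isPseudo_of_isFP {M : X.Modules} (h : CohB1.IsFP M) : DCoh.IsPseudoCoherentD (-1) (DCoh.inD X M) :=
  isPseudo_of_restrict fun x => by
    obtain ⟨V, hx, a, b, g, ⟨e⟩⟩ := (H7FPLocal.isFP_iff M).1 h x
    let p : FlatMod.freeMod (V : Scheme.{u}) b ⟶ M.restrict V.ι := cokernel.π g ≫ e.hom
    haveI : Epi p := epi_comp _ _
    let t : FlatMod.freeMod (V : Scheme.{u}) a ⟶ kernel p := kernel.lift p g (by simp [p])
    haveI : Epi t := by
      refine (ShortComplex.exact_iff_epi_kernel_lift (ShortComplex.mk g p (by simp [p]))).1 ?_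
      refine (ShortComplex.exact_iff_of_iso (ShortComplex.isoMk (Iso.refl _) (Iso.refl _) e ?_ ?_ :
        ShortComplex.mk g (cokernel.π g) (cokernel.condition g) ≅ ShortComplex.mk g p (by simp [p]))).1
          (ShortComplex.exact_cokernel g) <;> simp [p]
    exact ⟨V, hx, isPseudo_quot p (isPseudo_quot t (isPseudo_one _ (by omega)))⟩

theorem isFT_of_isPseudo {M : X.Modules} (h : DCoh.IsPseudoCoherentD 0 (DCoh.inD X M)) : CohB1.IsFT M := by
  have h1 := (H7PseudoTop.top_cohomology 0 _ h).1 fun i hi => DerivedCategory.isZero_of_isLE (DCoh.inD X M) 0 i hi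
  refine H7FPLocal.isFT_of_epi M fun x => ?_
  obtain ⟨V, n, p, hx, hp⟩ := exists_epi h1 x
  exact ⟨V, n, p ≫ ((Scheme.Modules.restrictFunctor V.ι).mapIso
    ((DerivedCategory.singleFunctorCompHomologyFunctorIso X.Modules 0).app M)).hom, hx,
    @epi_comp _ _ _ _ _ _ hp _ inferInstance⟩

theorem isFP_of_isPseudo {M : X.Modules} (h : DCoh.IsPseudoCoherentD (-1) (DCoh.inD X M)) : CohB1.IsFP M := by
  have h1 := (H7PseudoTop.top_cohomology (-1) _ h).2 fun i hi =>
    DerivedCategory.isZero_of_isLE (DCoh.inD X M) 0 i (by omega)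
  refine (H7FPLocal.isFP_iff M).2 fun x => ?_
  obtain ⟨V, hx, hV⟩ := (H7FPLocal.isFP_iff _).1 h1 x
  exact ⟨V, hx, hV.of_iso ((Scheme.Modules.restrictFunctor V.ι).mapIso
    ((DerivedCategory.singleFunctorCompHomologyFunctorIso X.Modules 0).app M))⟩

end Groth.Agent.H7PseudoSingle
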