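import Groth.Agent.Lib.H7PerfTri
import Groth.Agent.Lib.H7StupidGE
import Mathlib

/-! Pseudo-coherence in distinguished triangles. -/

universe u v w
open CategoryTheory Limits AlgebraicGeometry Opposite TopologicalSpace HomologicalComplex CategoryTheory.Pretriangulated

namespace Groth.Agent.H7PseudoTri
open Groth.Agent H7KFlatSheaf H7PerfPull H7FinFree H7LocLift H7PerfTri H7PseudoPull

attribute [local instance] HasDerivedCategory.standard

variable {X Y Z : Scheme.{u}}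

/-- cohomology vanishes in degrees `≥ m` -/
def Vanish (m : ℤ) (A : DCoh.D X) : Prop := ∀ k, m ≤ k → IsZero (DCoh.HD A k)

lemma vanish_rD (j : Y ⟶ X) [IsOpenImmersion j] {A : DCoh.D X} {m : ℤ} (h : Vanish m A) : Vanish m ((rD j).obj A) := by
  intro k hk
  let F := DerivedCategory.Q.objPreimage A
  let eF : DerivedCategory.Q.obj F ≅ A := DerivedCategory.Q.objObjPreimageIso A
  have h0 : IsZero (F.homology k) := ((h k hk).of_iso ((DerivedCategory.homologyFunctor _ k).mapIso eF)).of_iso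
    ((DerivedCategory.homologyFunctorFactors _ k).app F).symm
  exact ((isZero_homology_rst j h0).of_iso ((DerivedCategory.homologyFunctorFactors _ k).app _)).of_iso
    ((DerivedCategory.homologyFunctor _ k).mapIso ((rD j).mapIso eF.symm ≪≫ rQ j F))

lemma mIso_rD (j : Y ⟶ X) [IsOpenImmersion j] {A B : DCoh.D X} {m : ℤ} {α : A ⟶ B} (h : MIso m α) :
    MIso m ((rD j).map α) := by
  obtain ⟨C, g, δ, hT⟩ := distinguished_cocone_triangle α
  exact (mIso_iff _ ((rD j).map_distinguished _ hT) m).2 (vanish_rD j ((mIso_iff _ hT m).1 h))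

lemma mIso_comp {A B C : DCoh.D X} {m : ℤ} {α : A ⟶ B} {β : B ⟶ C} (h : MIso m α) (h' : MIso m β) :
    MIso m (α ≫ β) := by
  refine ⟨fun i hi => ?_, ?_⟩
  · have := h.1 i hi; have := h'.1 i hi
    rw [Functor.map_comp]; infer_instance
  · have := h.2; have := h'.2
    rw [Functor.map_comp]; infer_instance

lemma mIso_mor₂ (T : Triangle (DCoh.D X)) (hT : T ∈ distTriang _) {m : ℤ} (h : Vanish (m + 1) T.obj₁) :
    MIso m T.mor₂ := by
  have he : ∀ k, m ≤ k → Epi ((DerivedCategory.homologyFunctor X.Modules k).map T.mor₂) := fun k hk =>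
    (DerivedCategory.HomologySequence.epi_homologyMap_mor₂_iff T hT k (k + 1) rfl).2
      ((h (k + 1) (by omega)).eq_of_tgt _ _)
  refine ⟨fun k hk => ?_, he m le_rfl⟩
  have := he k hk.le
  have := (DerivedCategory.HomologySequence.mono_homologyMap_mor₂_iff T hT k).2 ((h k (by omega)).eq_of_src _ _)
  exact isIso_of_mono_of_epi _

lemma mIso_mor₁ (T : Triangle (DCoh.D X)) (hT : T ∈ distTriang _) {m : ℤ} (h : Vanish m T.obj₃) :
    MIso m T.mor₁ := (mIso_iff T hT m).2 h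

/-- pseudo-coherence through restriction functors -/
theorem isPseudo_iff (m : ℤ) (E : DCoh.D X) : DCoh.IsPseudoCoherentD m E ↔ ∀ x : X,
    ∃ (W : Scheme.{u}) (j : W ⟶ X) (_ : IsOpenImmersion j) (P : CochainComplex W.Modules ℤ)
      (α : DerivedCategory.Q.obj P ⟶ (rD j).obj E),
      x ∈ Set.range j.base ∧ DCoh.IsStrictlyPerfect P ∧ MIso m α := by
  constructor
  · intro h x
    obtain ⟨V, hx, hV⟩ := h x
    obtain ⟨P, α, hP, h1, h2⟩ := hV _ ⟨DerivedCategory.Q.objObjPreimageIso E⟩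
    exact ⟨V, V.ι, inferInstance, P, _, ⟨⟨x, hx⟩, rfl⟩, hP,
      MIso.comp_iso ⟨h1, h2⟩ (Iso.refl _) ((rQ V.ι _).symm ≪≫ (rD V.ι).mapIso (DerivedCategory.Q.objObjPreimageIso E))⟩
  · intro h x
    obtain ⟨W, j, _, P, α, hx, hP, hα⟩ := h x
    refine ⟨j.opensRange, hx, fun F ⟨eF⟩ => ?_⟩
    have := MIso.comp_iso (mIso_rD j.isoOpensRange.inv hα) (rQ j.isoOpensRange.inv P).symm
      (rDComp j.isoOpensRange.inv j j.opensRange.ι j.isoOpensRange_inv_comp E ≪≫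
        (rD j.opensRange.ι).mapIso eF.symm ≪≫ rQ j.opensRange.ι F)
    exact ⟨_, _, strictlyPerfect_rst _ hP, this.1, this.2⟩

theorem isPseudo_shift {E : DCoh.D X} {m : ℤ} (h : DCoh.IsPseudoCoherentD m E) (n m' : ℤ) (hm : m' + n = m) :
    DCoh.IsPseudoCoherentD m' (E⟦n⟧) := by
  rw [isPseudo_iff] at h ⊢
  intro x
  obtain ⟨W, j, hj, P, α, hx, hP, hα⟩ := h x
  refine ⟨W, j, hj, P⟦n⟧, _, hx, strictlyPerfect_shift hP n,
    MIso.comp_iso (α := α⟦n⟧') ⟨fun i hi => ?_, ?_⟩ ((DerivedCategory.Q.commShiftIso n).app P)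
      (((rD j).commShiftIso n).app E).symm⟩
  · have := hα.1 (i + n) (by omega)
    exact ((MorphismProperty.isomorphisms _).arrow_mk_iso_iff (((Functor.mapArrowFunctor _ _).mapIso
      ((DerivedCategory.homologyFunctor W.Modules 0).shiftIso n i (i + n) (by omega))).app (Arrow.mk α))).2 this
  · have := hα.2
    exact ((MorphismProperty.epimorphisms _).arrow_mk_iso_iff (((Functor.mapArrowFunctor _ _).mapIso
      ((DerivedCategory.homologyFunctor W.Modules 0).shiftIso n m' m (by omega))).app (Arrow.mk α))).2 this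

theorem isPseudo_of_iso {E E' : DCoh.D X} {m : ℤ} (e : E ≅ E') (h : DCoh.IsPseudoCoherentD m E) :
    DCoh.IsPseudoCoherentD m E' := fun x => by
  obtain ⟨V, hx, hV⟩ := h x
  exact ⟨V, hx, fun F ⟨eF⟩ => hV F ⟨eF ≪≫ e.symm⟩⟩

/-- restricting twice, functorially -/
noncomputable def rDCompIso (f : Z ⟶ Y) (g : Y ⟶ X) (h : Z ⟶ X) [IsOpenImmersion f] [IsOpenImmersion g]
    [IsOpenImmersion h] (e : f ≫ g = h) : rD g ⋙ rD f ≅ rD h :=
  letI : Localization.Lifting DerivedCategory.Q (HomologicalComplex.quasiIso X.Modules (ComplexShape.up ℤ))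
      ((rst g ⋙ rst f) ⋙ DerivedCategory.Q) (rD g ⋙ rD f) :=
    ⟨(Functor.associator _ _ _).symm ≪≫
      Functor.isoWhiskerRight (Scheme.Modules.restrictFunctor g).mapDerivedCategoryFactors (rD f) ≪≫
      Functor.associator _ _ _ ≪≫
      Functor.isoWhiskerLeft (rst g) (Scheme.Modules.restrictFunctor f).mapDerivedCategoryFactors ≪≫
      (Functor.associator _ _ _).symm⟩
  Localization.liftNatIso DerivedCategory.Q (HomologicalComplex.quasiIso X.Modules (ComplexShape.up ℤ))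
    ((rst g ⋙ rst f) ⋙ DerivedCategory.Q) (rst h ⋙ DerivedCategory.Q) (rD g ⋙ rD f) (rD h)
    (Functor.isoWhiskerRight (rstComp f g h e) DerivedCategory.Q)

lemma isPerfect_Q {P : CochainComplex X.Modules ℤ} (hP : DCoh.IsStrictlyPerfect P) :
    DCoh.IsPerfect (DerivedCategory.Q.obj P) :=
  (isPerfect_iff _).2 fun x => ⟨X, 𝟙 X, inferInstance, (rst (𝟙 X)).obj P, ⟨x, rfl⟩, strictlyPerfect_rst _ hP, ⟨rQ _ P⟩⟩

/-- a map from a strictly perfect complex into an object with vanishing cohomology there is locally zero -/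
theorem exists_rD_zero {P : CochainComplex X.Modules ℤ} (hP : DCoh.IsStrictlyPerfect P) (a : ℤ)
    (ha : ∀ k, k < a → IsZero (P.X k)) {C : DCoh.D X} (hC : Vanish a C) (φ : DerivedCategory.Q.obj P ⟶ C) (x : X) :
    ∃ (W : Scheme.{u}) (j : W ⟶ X) (_ : IsOpenImmersion j), x ∈ Set.range j.base ∧ (rD j).map φ = 0 := by
  let F := DerivedCategory.Q.objPreimage C
  let eF : DerivedCategory.Q.obj F ≅ C := DerivedCategory.Q.objObjPreimageIso C
  obtain ⟨V, hxV, hV⟩ := exists_chain_map hP (φ ≫ eF.inv) x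
  obtain ⟨β, hβ⟩ := hV
  obtain ⟨V', hxV', ⟨H⟩⟩ := exists_null β (strictlyPerfect_rst _ hP) a
    (fun k hk => (Scheme.Modules.restrictFunctor V.ι).map_isZero (ha k hk))
    (fun k hk => isZero_homology_rst _ (((hC k hk).of_iso ((DerivedCategory.homologyFunctor _ k).mapIso eF)).of_iso
      ((DerivedCategory.homologyFunctorFactors _ k).app F).symm)) ⟨x, hxV⟩
  have h1 : DerivedCategory.Q.map ((rst V'.ι).map β) = 0 :=
    (DerivedCategory.Q_map_eq_of_homotopy _ H).trans (Functor.map_zero _ _ _)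
  have h0 : (rD V'.ι).map (DerivedCategory.Q.map β) = 0 := by
    rw [← cancel_mono ((Scheme.Modules.restrictFunctor V'.ι).mapDerivedCategoryFactors.hom.app _), zero_comp]
    refine ((Scheme.Modules.restrictFunctor V'.ι).mapDerivedCategoryFactors_hom_naturality β).trans ?_
    exact (congrArg (_ ≫ ·) h1).trans comp_zero
  have h2 : (rD V'.ι).map ((rD V.ι).map (φ ≫ eF.inv)) = 0 := by
    refine (congrArg (rD V'.ι).map hβ).trans ?_
    rw [Functor.map_comp, Functor.map_comp, h0, zero_comp, comp_zero]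
  have h3 : (rD V'.ι).map ((rD V.ι).map φ) = 0 := by
    rw [← cancel_mono ((rD V'.ι).map ((rD V.ι).map eF.inv)), zero_comp, ← Functor.map_comp, ← Functor.map_comp]
    exact h2
  refine ⟨V', V'.ι ≫ V.ι, inferInstance, ⟨⟨⟨x, hxV⟩, hxV'⟩, rfl⟩, ?_⟩
  let e := rDCompIso V'.ι V.ι (V'.ι ≫ V.ι) rfl
  exact (NatIso.naturality_1 e φ).symm.trans (by rw [show (rD V.ι ⋙ rD V'.ι).map φ = 0 from h3, zero_comp, comp_zero])

theorem isPseudo₃_core (T : Triangle (DCoh.D X)) (hT : T ∈ distTriang _) {m : ℤ}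
    {P₁ P₂ : CochainComplex X.Modules ℤ} (hP₁ : DCoh.IsStrictlyPerfect P₁) (hP₂ : DCoh.IsStrictlyPerfect P₂)
    (hlow : ∀ k, k < m + 1 → IsZero (P₁.X k))
    {a : DerivedCategory.Q.obj P₁ ⟶ T.obj₁} (ha : MIso (m + 1) a)
    {b : DerivedCategory.Q.obj P₂ ⟶ T.obj₂} (hb : MIso m b) (x : X) :
    ∃ (W : Scheme.{u}) (j : W ⟶ X) (_ : IsOpenImmersion j) (P : CochainComplex W.Modules ℤ)
      (α : DerivedCategory.Q.obj P ⟶ (rD j).obj T.obj₃),
      x ∈ Set.range j.base ∧ DCoh.IsStrictlyPerfect P ∧ MIso m α := by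
  obtain ⟨Cb, g, δ, hTb⟩ := distinguished_cocone_triangle b
  obtain ⟨W, j, _, hx, h0⟩ := exists_rD_zero hP₁ (m + 1) hlow
    (fun k hk => (mIso_iff _ hTb m).1 hb k (by omega)) ((a ≫ T.mor₁) ≫ g) x
  have h0' : (rD j).map (a ≫ T.mor₁) ≫ (rD j).map g = 0 := ((rD j).map_comp (a ≫ T.mor₁) g).symm.trans h0
  obtain ⟨l, hl⟩ := Triangle.coyoneda_exact₂ _ ((rD j).map_distinguished _ hTb) ((rD j).map (a ≫ T.mor₁)) h0'
  have hcomm : l ≫ (rD j).map b = (rD j).map a ≫ ((rD j).mapTriangle.obj T).mor₁ :=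
    hl.symm.trans ((rD j).map_comp _ _)
  obtain ⟨Cc, vc, wc, hc⟩ := distinguished_cocone_triangle ((rD j).map a ≫ ((rD j).mapTriangle.obj T).mor₁)
  obtain ⟨Ca, va, wa, hTa⟩ := distinguished_cocone_triangle ((rD j).map a)
  obtain ⟨Cl, vl, wl, hTl⟩ := distinguished_cocone_triangle l
  obtain ⟨Cb', vb, wb, hTb'⟩ := distinguished_cocone_triangle ((rD j).map b)
  have hT' := (rD j).map_distinguished _ hT
  let o₁ := Triangulated.someOctahedron (rfl : (rD j).map a ≫ ((rD j).mapTriangle.obj T).mor₁ = _) hTa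
    (show Triangle.mk ((rD j).mapTriangle.obj T).mor₁ ((rD j).mapTriangle.obj T).mor₂
      ((rD j).mapTriangle.obj T).mor₃ ∈ distTriang _ from hT') hc
  let o₂ := Triangulated.someOctahedron hcomm hTl hTb' hc
  have h1 : MIso m o₁.triangle.mor₂ := mIso_mor₂ _ o₁.mem ((mIso_iff _ hTa (m + 1)).1 (mIso_rD j ha))
  have h2 : MIso m o₂.triangle.mor₁ := mIso_mor₁ _ o₂.mem ((mIso_iff _ hTb' m).1 (mIso_rD j hb))
  have hp : DCoh.IsPerfect Cl := isPerfect₃ _ hTl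
    (isPerfect_of_iso (rQ j P₁).symm (isPerfect_Q (strictlyPerfect_rst j hP₁)))
    (isPerfect_of_iso (rQ j P₂).symm (isPerfect_Q (strictlyPerfect_rst j hP₂)))
  obtain ⟨x', rfl⟩ := hx
  obtain ⟨W', j', _, P, hx', hP, ⟨e⟩⟩ := (isPerfect_iff _).1 hp x'
  obtain ⟨x'', rfl⟩ := hx'
  exact ⟨W', j' ≫ j, inferInstance, P, _, ⟨x'', rfl⟩, hP,
    MIso.comp_iso (mIso_rD j' (mIso_comp h2 h1)) e.symm (rDComp j' j (j' ≫ j) rfl T.obj₃)⟩

theorem isPseudo₃ (T : Triangle (DCoh.D X)) (hT : T ∈ distTriang _) {m : ℤ}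
    (h₁ : DCoh.IsPseudoCoherentD (m + 1) T.obj₁) (h₂ : DCoh.IsPseudoCoherentD m T.obj₂) :
    DCoh.IsPseudoCoherentD m T.obj₃ := by
  rw [isPseudo_iff]
  intro x
  obtain ⟨V₁, hx₁, hV₁⟩ := h₁ x
  obtain ⟨V₂, hx₂, hV₂⟩ := h₂ x
  let q₁ := DerivedCategory.Q.objObjPreimageIso T.obj₁
  let q₂ := DerivedCategory.Q.objObjPreimageIso T.obj₂
  obtain ⟨R₁, α₁, hR₁, hα₁, hα₁'⟩ := hV₁ _ ⟨q₁⟩
  obtain ⟨P₂, α₂, hP₂, hα₂, hα₂'⟩ := hV₂ _ ⟨q₂⟩
  -- truncate the first model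
  let P₁ := H7StupidGE.trunc R₁ (m + 1)
  have hP₁ : DCoh.IsStrictlyPerfect P₁ := by
    obtain ⟨⟨a, b, hab⟩, hf⟩ := hR₁
    have hz : ∀ k, k < m + 1 → IsZero (P₁.X k) := fun k hk => H7StupidGE.isZero_below hk
    refine ⟨⟨a, b, fun k hk => ?_⟩, fun k => ?_⟩
    · by_cases h : m + 1 ≤ k
      · exact (hab k hk).of_iso (eqToIso (H7StupidGE.X_eq h))
      · exact hz k (by omega)
    · by_cases h : m + 1 ≤ k
      · exact finLocFree_of_iso (eqToIso (H7StupidGE.X_eq h)).symm (hf k)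
      · exact (isFinLocFree_iff _).2 fun y => ⟨⊤, trivial,
          H7Betti.isFree_of_isZero ((Scheme.Modules.pullback _).map_isZero (hz k (by omega)))⟩
  have hι : MIso (m + 1) (DerivedCategory.Q.map (H7StupidGE.ι R₁ (m + 1))) := by
    refine ⟨fun i hi => (NatIso.isIso_map_iff (DerivedCategory.homologyFunctorFactors _ i) _).2
      (H7StupidGE.homologyMap_iso hi), ?_⟩
    exact ((MorphismProperty.epimorphisms _).arrow_mk_iso_iff (((Functor.mapArrowFunctor _ _).mapIso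
      (DerivedCategory.homologyFunctorFactors _ (m + 1))).app (Arrow.mk (H7StupidGE.ι R₁ (m + 1))))).2
        H7StupidGE.homologyMap_epi
  let V := V₁ ⊓ V₂
  let θ₁ := X.homOfLE (inf_le_left : V ≤ V₁)
  let θ₂ := X.homOfLE (inf_le_right : V ≤ V₂)
  have ha := MIso.comp_iso (mIso_rD θ₁ (mIso_comp hι ⟨hα₁, hα₁'⟩)) (rQ θ₁ P₁).symm
    ((rD θ₁).mapIso ((rQ V₁.ι _).symm ≪≫ (rD V₁.ι).mapIso q₁) ≪≫ rDComp θ₁ V₁.ι V.ι (X.homOfLE_ι _) _)
  have hb := MIso.comp_iso (mIso_rD θ₂ (α := α₂) ⟨hα₂, hα₂'⟩) (rQ θ₂ P₂).symm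
    ((rD θ₂).mapIso ((rQ V₂.ι _).symm ≪≫ (rD V₂.ι).mapIso q₂) ≪≫ rDComp θ₂ V₂.ι V.ι (X.homOfLE_ι _) _)
  obtain ⟨W, j, _, P, α, ⟨w, hw⟩, hP, hα⟩ := isPseudo₃_core _ ((rD V.ι).map_distinguished _ hT)
    (strictlyPerfect_rst θ₁ hP₁) (strictlyPerfect_rst θ₂ hP₂)
    (fun k hk => (Scheme.Modules.restrictFunctor θ₁).map_isZero (H7StupidGE.isZero_below hk)) ha hb ⟨x, hx₁, hx₂⟩
  exact ⟨W, j ≫ V.ι, inferInstance, P, _, ⟨w, congrArg V.ι.base hw⟩, hP,
    MIso.comp_iso hα (Iso.refl _) (rDComp j V.ι (j ≫ V.ι) rfl T.obj₃)⟩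

theorem isPseudo₂ (T : Triangle (DCoh.D X)) (hT : T ∈ distTriang _) {m : ℤ}
    (h₁ : DCoh.IsPseudoCoherentD m T.obj₁) (h₃ : DCoh.IsPseudoCoherentD m T.obj₃) :
    DCoh.IsPseudoCoherentD m T.obj₂ :=
  isPseudo₃ T.invRotate (inv_rot_of_distTriang _ hT) (isPseudo_shift h₃ (-1) (m + 1) (by omega)) h₁

theorem isPseudo₁ (T : Triangle (DCoh.D X)) (hT : T ∈ distTriang _) {m : ℤ}
    (h₂ : DCoh.IsPseudoCoherentD (m + 1) T.obj₂) (h₃ : DCoh.IsPseudoCoherentD m T.obj₃) :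
    DCoh.IsPseudoCoherentD (m + 1) T.obj₁ :=
  isPseudo₂ T.invRotate (inv_rot_of_distTriang _ hT) (isPseudo_shift h₃ (-1) (m + 1) (by omega)) h₂

end Groth.Agent.H7PseudoTri
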