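import Groth.Agent.Lib.H7PullTensor
import Groth.Agent.Lib.H7StalkDetect
import Groth.Agent.Lib.H7RpushCalc
import Mathlib

/-! Direct images along closed immersions: stalks and the projection formula. -/

universe u
open CategoryTheory Limits AlgebraicGeometry TopologicalSpace Opposite MonoidalCategory HomologicalComplex

namespace Groth.Agent.H7PushStalk
open Groth.Agent H7Stalk H7StalkPull H7StalkTensor H7PullTensor LQcoh LPullInv

variable {X Y : Scheme.{u}} (f : X ⟶ Y)

/-- the stalk of a direct image maps to the stalk upstairs -/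
noncomputable def sig (x : X) : Scheme.Modules.pushforward f ⋙ DerSch.stalkFunctor Y (f.base x) ⟶
    DerSch.stalkFunctor X x ⋙ ModuleCat.restrictScalars (f.stalkMap x).hom where
  app A := fromSk ((Scheme.Modules.pushforward f).map ((adj x).unit.app A) ≫
    (pushSkIso f x).inv.app ((DerSch.stalkFunctor X x).obj A))
  naturality A B g := stalkHom_ext fun U hx m => by
    show (fromSk _).hom (((DerSch.stalkFunctor Y (f.base x)).map ((Scheme.Modules.pushforward f).map g)).hom
      (((Scheme.Modules.pushforward f).obj A).presheaf.germ U (f.base x) hx m)) = _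
    erw [DerSch.stalkFunctor_map_germ, fromSk_germ]
    refine Eq.trans ?_ (congrArg ((ModuleCat.restrictScalars (f.stalkMap x).hom).map
      ((DerSch.stalkFunctor X x).map g)).hom (fromSk_germ _ U hx m).symm)
    exact congrFun (congrArg (fun φ : A ⟶ (sk x).obj ((DerSch.stalkFunctor X x).obj B) =>
      (show SkSec x ((DerSch.stalkFunctor X x).obj B) (f ⁻¹ᵁ U) from φ.app (f ⁻¹ᵁ U) m))
      ((adj x).unit.naturality g)) ⟨hx⟩

lemma sig_germ (x : X) (A : X.Modules) (U : Y.Opens) (hx : f.base x ∈ U)
    (m : Γ((Scheme.Modules.pushforward f).obj A, U)) :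
    ((sig f x).app A).hom (((Scheme.Modules.pushforward f).obj A).presheaf.germ U (f.base x) hx m) =
      A.presheaf.germ (f ⁻¹ᵁ U) x hx m := by
  erw [fromSk_germ]
  rfl

theorem isIso_sig [IsClosedImmersion f] (x : X) (A : X.Modules) : IsIso ((sig f x).app A) := by
  haveI := TopCat.Presheaf.stalkPushforward.stalkPushforward_iso_of_isInducing (C := Ab.{u}) (f := f.base)
    f.isClosedEmbedding.isInducing A.presheaf x
  have hb := ConcreteCategory.bijective_of_isIso (A.presheaf.stalkPushforward Ab.{u} f.base x)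
  have he : ∀ z, ((sig f x).app A).hom z = (A.presheaf.stalkPushforward Ab.{u} f.base x).hom z := by
    intro z
    obtain ⟨U, hU, m, rfl⟩ := ((Scheme.Modules.pushforward f).obj A).presheaf.exists_germ_eq (x := f.base x) z
    refine (sig_germ f x A U hU m).trans ?_
    exact (ConcreteCategory.congr_hom (TopCat.Presheaf.stalkPushforward_germ Ab.{u} f.base A.presheaf U x hU) m).symm
  refine (ConcreteCategory.isIso_iff_bijective _).2 ?_
  exact (show Function.Bijective (fun z => ((sig f x).app A).hom z) from (funext he) ▸ hb)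

theorem isZero_stalk_push [IsClosedImmersion f] {y : Y} (hy : y ∉ Set.range f.base) (A : X.Modules) :
    IsZero ((DerSch.stalkFunctor Y y).obj ((Scheme.Modules.pushforward f).obj A)) := by
  haveI : Subsingleton ((DerSch.stalkFunctor Y y).obj ((Scheme.Modules.pushforward f).obj A)) := by
    refine subsingleton_of_forall_eq 0 fun z => ?_
    obtain ⟨U, hU, m, rfl⟩ := ((Scheme.Modules.pushforward f).obj A).presheaf.exists_germ_eq (x := y) z
    let W : Y.Opens := U ⊓ ⟨(Set.range f.base)ᶜ, f.isClosedEmbedding.isClosed_range.isOpen_compl⟩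
    have hW : f ⁻¹ᵁ W = ⊥ := le_bot_iff.1 fun x hx => (hx.2 ⟨x, rfl⟩).elim
    have hsub : Subsingleton Γ(A, f ⁻¹ᵁ W) := by
      rw [hW]
      exact subsingleton_of_forall_eq 0 fun s => TopCat.Presheaf.section_ext (C := Ab.{u}) ((LQcoh.toShf X).obj A) ⊥ s 0
        fun x hx => hx.elim
    rw [← TopCat.Presheaf.germ_res_apply ((Scheme.Modules.pushforward f).obj A).presheaf
      (homOfLE (inf_le_left : W ≤ U)) y ⟨hU, hy⟩ m]
    refine (congrArg (((Scheme.Modules.pushforward f).obj A).presheaf.germ W y ⟨hU, hy⟩)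
      (@Subsingleton.elim _ hsub _ 0)).trans ?_
    exact map_zero _
  exact ModuleCat.isZero_of_subsingleton _

/-- the projection map `f_* A ⊗ B ⟶ f_*(A ⊗ f^* B)` -/
noncomputable def rho (A : X.Modules) (B : Y.Modules) : CohB1.tensorMod ((Scheme.Modules.pushforward f).obj A) B ⟶
    (Scheme.Modules.pushforward f).obj (CohB1.tensorMod A ((Scheme.Modules.pullback f).obj B)) :=
  let P := CohB1.tensorMod A ((Scheme.Modules.pullback f).obj B)
  LTensor.lift (fun U a b => (show Γ((Scheme.Modules.pushforward f).obj P, U) from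
      SecTwist.tmul _ _ (f ⁻¹ᵁ U) (show Γ(A, f ⁻¹ᵁ U) from a) (pullSect f B U b)))
    (fun U a a' b => LTensor.tmul_add_left _ _ _ _ _ _)
    (fun U r a b => LTensor.tmul_smul_left _ _ _ (f.app U r) _ _)
    (fun U a b b' => (congrArg (fun t => SecTwist.tmul _ _ (f ⁻¹ᵁ U) (show Γ(A, f ⁻¹ᵁ U) from a) t)
      (map_add ((((Scheme.Modules.pullbackPushforwardAdjunction f).unit.app B)).app U).hom b b')).trans
      (LTensor.tmul_add_right _ _ _ _ _ _))
    (fun U r a b => (congrArg (fun t => SecTwist.tmul _ _ (f ⁻¹ᵁ U) (show Γ(A, f ⁻¹ᵁ U) from a) t)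
      (pullSect_smul f B U r b)).trans (LTensor.tmul_smul_right _ _ _ (f.app U r) _ _))
    (fun U V i a b => (SecTwist.map_tmul _ _ (homOfLE (f.preimage_mono i.le)) _ _).trans
      (congrArg₂ (SecTwist.tmul _ _ (f ⁻¹ᵁ V)) rfl (pullSect_map f B i.le b).symm))

lemma rho_tmul (A : X.Modules) (B : Y.Modules) (U : Y.Opens) (a : Γ((Scheme.Modules.pushforward f).obj A, U))
    (b : Γ(B, U)) : (rho f A B).app U (SecTwist.tmul _ B U a b) =
      SecTwist.tmul _ _ (f ⁻¹ᵁ U) (show Γ(A, f ⁻¹ᵁ U) from a) (pullSect f B U b) :=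
  LTensor.lift_tmul _ _ _ _ _ _ U a b

lemma rho_natural {A A' : X.Modules} {B B' : Y.Modules} (α : A ⟶ A') (β : B ⟶ B') :
    LTensor.tmap ((Scheme.Modules.pushforward f).map α) β ≫ rho f A' B' =
      rho f A B ≫ (Scheme.Modules.pushforward f).map (LTensor.tmap α ((Scheme.Modules.pullback f).map β)) := by
  refine LTensor.hom_ext fun U a b => ?_
  show (rho f A' B').app U ((LTensor.tmap ((Scheme.Modules.pushforward f).map α) β).app U (SecTwist.tmul _ B U a b)) =
    (LTensor.tmap α ((Scheme.Modules.pullback f).map β)).app (f ⁻¹ᵁ U) ((rho f A B).app U (SecTwist.tmul _ B U a b))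
  rw [rho_tmul]
  refine (congrArg ((rho f A' B').app U) (LTensor.tmap_tmul _ β U a b)).trans ?_
  refine (rho_tmul f A' B' U _ _).trans ?_
  refine Eq.trans ?_ (LTensor.tmap_tmul _ _ (f ⁻¹ᵁ U) _ _).symm
  exact congrArg₂ (SecTwist.tmul _ _ (f ⁻¹ᵁ U)) rfl (pullSect_natural f β U b)

/-- the stalk upstairs of the projection target -/
noncomputable def kk (x : X) (A : X.Modules) (B : Y.Modules) :
    (DerSch.stalkFunctor X x).obj (CohB1.tensorMod A ((Scheme.Modules.pullback f).obj B)) ≅
      (DerSch.stalkFunctor X x).obj A ⊗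
        (ModuleCat.extendScalars.{u, u, u} (f.stalkMap x).hom).obj ((DerSch.stalkFunctor Y (f.base x)).obj B) :=
  H7StalkTensor.iso x _ _ ≪≫ whiskerLeftIso _ ((pullStalkIso f x).app B)

lemma kk_germ (x : X) (A : X.Modules) (B : Y.Modules) (U : Y.Opens) (hx : f.base x ∈ U)
    (a : Γ(A, f ⁻¹ᵁ U)) (b : Γ(B, U)) :
    (kk f x A B).hom.hom ((CohB1.tensorMod A ((Scheme.Modules.pullback f).obj B)).presheaf.germ (f ⁻¹ᵁ U) x hx
          (SecTwist.tmul _ _ (f ⁻¹ᵁ U) a (pullSect f B U b))) =
          (A.presheaf.germ (f ⁻¹ᵁ U) x hx a) ⊗ₜ[X.presheaf.stalk x]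
            (emk (f.stalkMap x).hom 1 (B.presheaf.germ U (f.base x) hx b)) := by
  show (((DerSch.stalkFunctor X x).obj A ◁ (pullStalkIso f x).hom.app B)).hom
    ((phi x _ _).hom (gt _ _ (f ⁻¹ᵁ U) hx a (pullSect f B U b))) = _
  rw [phi_gt]
  exact congrArg (fun t => _ ⊗ₜ[X.presheaf.stalk x] t) (pullStalk_germ f x B U hx b)

/-- the stalk downstairs of the projection target -/
noncomputable def cc (x : X) (A : X.Modules) (B : Y.Modules) :
    (DerSch.stalkFunctor Y (f.base x)).obj ((Scheme.Modules.pushforward f).obj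
        (CohB1.tensorMod A ((Scheme.Modules.pullback f).obj B))) ⟶
      (ModuleCat.restrictScalars (f.stalkMap x).hom).obj ((DerSch.stalkFunctor X x).obj A) ⊗
        (DerSch.stalkFunctor Y (f.base x)).obj B :=
  (sig f x).app _ ≫ (ModuleCat.restrictScalars (f.stalkMap x).hom).map (kk f x A B).hom ≫
    (cancelIso (f.stalkMap x).hom _ _).hom

lemma isIso_cc [IsClosedImmersion f] (x : X) (A : X.Modules) (B : Y.Modules) : IsIso (cc f x A B) := by
  haveI : IsIso ((sig f x).app (CohB1.tensorMod A ((Scheme.Modules.pullback f).obj B))) := isIso_sig f x _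
  unfold cc
  infer_instance

lemma cc_germ (x : X) (A : X.Modules) (B : Y.Modules) (U : Y.Opens) (hx : f.base x ∈ U)
    (a : Γ(A, f ⁻¹ᵁ U)) (b : Γ(B, U)) :
    (cc f x A B).hom (((Scheme.Modules.pushforward f).obj (CohB1.tensorMod A ((Scheme.Modules.pullback f).obj B))).presheaf.germ
      U (f.base x) hx (SecTwist.tmul _ _ (f ⁻¹ᵁ U) a (pullSect f B U b))) =
      TensorProduct.tmul (Y.presheaf.stalk (f.base x))
        (M := ↑((ModuleCat.restrictScalars.{u} (f.stalkMap x).hom).obj ((DerSch.stalkFunctor X x).obj A)))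
        (N := ↑((DerSch.stalkFunctor Y (f.base x)).obj B))
        (A.presheaf.germ (f ⁻¹ᵁ U) x hx a) (B.presheaf.germ U (f.base x) hx b) := by
  refine (congrArg (fun t => (cancelIso (f.stalkMap x).hom _ _).hom.hom ((kk f x A B).hom.hom t))
    (sig_germ f x _ U hx _)).trans ?_
  refine (congrArg (fun t => (cancelIso (f.stalkMap x).hom _ _).hom.hom t) (kk_germ f x A B U hx a b)).trans ?_
  exact congrArg (fun t : ↑((ModuleCat.restrictScalars.{u} (f.stalkMap x).hom).obj ((DerSch.stalkFunctor X x).obj A)) =>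
      TensorProduct.tmul (Y.presheaf.stalk (f.base x)) t
        (show ↑((DerSch.stalkFunctor Y (f.base x)).obj B) from B.presheaf.germ U (f.base x) hx b))
    (one_smul (X.presheaf.stalk x) (show ↑((DerSch.stalkFunctor X x).obj A) from A.presheaf.germ (f ⁻¹ᵁ U) x hx a))

lemma key (x : X) (A : X.Modules) (B : Y.Modules) :
    (DerSch.stalkFunctor Y (f.base x)).map (rho f A B) ≫ cc f x A B =
        (H7StalkTensor.iso (f.base x) _ B).hom ≫ ((sig f x).app A ▷ (DerSch.stalkFunctor Y (f.base x)).obj B) := by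
  refine stalk_tensor_ext (f.base x) fun U hx a b => ?_
  show (cc f x A B).hom (((DerSch.stalkFunctor Y (f.base x)).map (rho f A B)).hom (gt _ _ U hx a b)) =
    ((sig f x).app A ▷ _).hom ((phi (f.base x) _ B).hom (gt _ _ U hx a b))
  rw [phi_gt]
  unfold gt
  erw [DerSch.stalkFunctor_map_germ]
  refine (congrArg (fun t => (cc f x A B).hom
    (((Scheme.Modules.pushforward f).obj (CohB1.tensorMod A ((Scheme.Modules.pullback f).obj B))).presheaf.germ
      U (f.base x) hx t)) (rho_tmul f A B U a b)).trans ?_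
  refine (cc_germ f x A B U hx a b).trans ?_
  exact (congrArg (fun t => t ⊗ₜ[Y.presheaf.stalk (f.base x)] _) (sig_germ f x A U hx a)).symm

theorem isIso_rho [IsClosedImmersion f] (A : X.Modules) (B : Y.Modules) : IsIso (rho f A B) := by
  refine ((H7StalkDetect.jointly Y).isIso_iff (rho f A B)).2 fun y => ?_
  by_cases hy : y ∈ Set.range f.base
  · obtain ⟨x, rfl⟩ := hy
    haveI := isIso_sig f x A
    haveI := isIso_cc f x A B
    haveI : IsIso ((DerSch.stalkFunctor Y (f.base x)).map (rho f A B) ≫ cc f x A B) := by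
      rw [key]; infer_instance
    exact IsIso.of_isIso_comp_right _ (cc f x A B)
  · have h1 := isZero_stalk_push f hy A
    have h2 := isZero_stalk_push f hy (CohB1.tensorMod A ((Scheme.Modules.pullback f).obj B))
    have h3 : IsZero ((DerSch.stalkFunctor Y y).obj (CohB1.tensorMod ((Scheme.Modules.pushforward f).obj A) B)) :=
      (Functor.map_isZero (tensorRight _) h1).of_iso (H7StalkTensor.iso y _ B)
    exact h3.isIso h2 _

theorem preservesColimitsOfShape_push [IsClosedImmersion f] (J : Type) [SmallCategory J] :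
    PreservesColimitsOfShape J (Scheme.Modules.pushforward f) := by
  haveI : HasColimitsOfSize.{0, 0} X.Modules := hasColimitsOfSizeShrink.{0, 0} X.Modules
  haveI : HasColimitsOfSize.{0, 0} Y.Modules := hasColimitsOfSizeShrink.{0, 0} Y.Modules
  haveI : ∀ y : Y, PreservesColimitsOfShape J (DerSch.stalkFunctor Y y) := fun y =>
    (H7Stalk.adj y).leftAdjoint_preservesColimits.preservesColimitsOfShape
  refine H7StalkDetect.preservesColimitsOfShape_of_stalks (J := J) (Scheme.Modules.pushforward f) fun y => ?_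
  by_cases hy : y ∈ Set.range f.base
  · obtain ⟨x, rfl⟩ := hy
    haveI : ∀ A, IsIso ((sig f x).app A) := isIso_sig f x
    haveI : IsIso (sig f x) := NatIso.isIso_of_isIso_app _
    exact preservesColimitsOfShape_of_natIso (asIso (sig f x)).symm
  · refine ⟨fun {K} => ⟨fun {c} _ => ⟨?_⟩⟩⟩
    have hz : ∀ A, IsZero ((Scheme.Modules.pushforward f ⋙ DerSch.stalkFunctor Y y).obj A) :=
      fun A => isZero_stalk_push f hy A
    exact {
      desc := fun s => 0
      fac := fun s j => (hz (K.obj j)).eq_of_src _ _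
      uniq := fun s m _ => (hz c.pt).eq_of_src _ _ }

instance preservesHomology_push [IsClosedImmersion f] : (Scheme.Modules.pushforward f).PreservesHomology := by
  haveI := preservesColimitsOfShape_push f WalkingParallelPair
  exact Functor.preservesHomology_of_preservesMonos_and_cokernels _

instance preservesCoprod_push [IsClosedImmersion f] (J : Type) :
    PreservesColimitsOfShape (Discrete J) (Scheme.Modules.pushforward f) :=
  preservesColimitsOfShape_push f (Discrete J)

end Groth.Agent.H7PushStalk
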