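import Groth.Agent.Lib.H7MV
import Groth.Prelude.Def_DCoh2
import Mathlib

/-! `RΓ` computed on K-injective complexes. -/

universe u v w
open CategoryTheory Limits AlgebraicGeometry Opposite TopologicalSpace

namespace Groth.Agent.H7RGamma
open Groth.Agent CechOX

attribute [local instance] HasDerivedCategory.standard

variable (X : Scheme.{u}) [DCoh.HasRΓ X]

/-- termwise global sections -/
noncomputable abbrev gammaCx : CochainComplex X.Modules ℤ ⥤ CochainComplex AddCommGrpCat.{u} ℤ :=
  (DCoh.gammaAb X).mapHomologicalComplex (ComplexShape.up ℤ)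

theorem exists_beta :
    ∃ β : gammaCx X ⋙ DerivedCategory.Q ⟶ DerivedCategory.Q ⋙ DCoh.RΓ X,
      (DCoh.RΓ X).IsRightDerivedFunctor β (HomologicalComplex.quasiIso X.Modules (ComplexShape.up ℤ)) :=
  H5KApps.exists_derived_on_complexes (DCoh.gammaAb X) H5KApps.enoughKInj_of_grothendieck
    ((DCoh.gammaKh X).totalRightDerivedUnit DerivedCategory.Qh
      (HomotopyCategory.quasiIso X.Modules (ComplexShape.up ℤ)))

/-- the unit on complexes -/
noncomputable def beta : gammaCx X ⋙ DerivedCategory.Q ⟶ DerivedCategory.Q ⋙ DCoh.RΓ X :=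
  (exists_beta X).choose

instance beta_derived : (DCoh.RΓ X).IsRightDerivedFunctor (beta X)
    (HomologicalComplex.quasiIso X.Modules (ComplexShape.up ℤ)) :=
  (exists_beta X).choose_spec

lemma isIso_beta (I : CochainComplex X.Modules ℤ) (hI : I.IsKInjective) : IsIso ((beta X).app I) :=
  ((H5KApps.resolving_Q (A := X.Modules) H5KApps.enoughKInj_of_grothendieck).isRightDerived_iff
    (H5KApps.compat_Q (DCoh.gammaAb X)) _ _ (beta X)).1 (beta_derived X) I hI

/-- `RΓ(X, I) = Γ(X, I)` for K-injective `I` -/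
noncomputable def rgIso (I : CochainComplex X.Modules ℤ) (hI : I.IsKInjective) :
    (DCoh.RΓ X).obj (DerivedCategory.Q.obj I) ≅ DerivedCategory.Q.obj ((gammaCx X).obj I) :=
  (@asIso _ _ _ _ _ (isIso_beta X I hI)).symm

omit [DCoh.HasRΓ X] in
/-- `Γ(X, j_*(M|_W)) = Γ(W, M|_W)` -/
noncomputable def gammaRestrIso (W : X.Opens) :
    pushRestr W ⋙ DCoh.gammaAb X ≅ Scheme.Modules.restrictFunctor W.ι ⋙ DCoh.gammaAb W.toScheme :=
  NatIso.ofComponents (fun _ => Iso.refl _) (fun _ => rfl)

/-- `RΓ(W, K|_W)` for a K-injective representative -/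
theorem nonempty_rg_restrict (W : X.Opens) [DCoh.HasRΓ W.toScheme]
    [PreservesFiniteLimits (Scheme.Modules.restrictFunctor W.ι)]
    (I : CochainComplex X.Modules ℤ) (hI : I.IsKInjective) :
    Nonempty (DerivedCategory.Q.obj (((pushRestr W ⋙ DCoh.gammaAb X).mapHomologicalComplex (ComplexShape.up ℤ)).obj I) ≅
      (DCoh.RΓ W.toScheme).obj ((DCoh.restrictD W.ι).obj (DerivedCategory.Q.obj I))) :=
  ⟨DerivedCategory.Q.mapIso ((NatIso.mapHomologicalComplex (gammaRestrIso X W) _).app I ≪≫
      ((Functor.mapHomologicalComplexCompIso (Iso.refl (Scheme.Modules.restrictFunctor W.ι ⋙ DCoh.gammaAb W.toScheme)) _).app I).symm) ≪≫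
    (rgIso W.toScheme _ (H7RpushLocal.isKInjective_restrict W.ι I hI)).symm ≪≫
    (DCoh.RΓ W.toScheme).mapIso ((Scheme.Modules.restrictFunctor W.ι).mapDerivedCategoryFactors.app I).symm⟩

end Groth.Agent.H7RGamma
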