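import Groth.Agent.Lib.H7PerfPull
import Groth.Agent.Lib.H7RpushCalc
import Groth.Agent.Lib.H7RGamma
import Mathlib

/-! Direct images of K-injective complexes compute `RΓ`. -/

universe u v w
open CategoryTheory Limits AlgebraicGeometry Opposite TopologicalSpace HomologicalComplex

namespace Groth.Agent.H7PushWeak
open Groth.Agent H7KFlatSheaf H7KFlatResolution H7KFlatResFun H7HasLpull H7LpullCalc H7RpushAdj H7PerfPull

attribute [local instance] HasDerivedCategory.standard

section abElements

theorem quasiIsoAt_of_elements {K L : CochainComplex AddCommGrpCat.{u} ℤ} (f : K ⟶ L) (i j k : ℤ)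
    (hji : j + 1 = i) (hik : i + 1 = k)
    (hs : ∀ y : L.X i, (L.d i k).hom y = 0 → ∃ (x : K.X i) (w : L.X j),
      (K.d i k).hom x = 0 ∧ (f.f i).hom x - y = (L.d j i).hom w)
    (hi : ∀ (x : K.X i) (w : L.X j), (K.d i k).hom x = 0 → (f.f i).hom x = (L.d j i).hom w →
      ∃ v : K.X j, (K.d j i).hom v = x) :
    QuasiIsoAt f i := by
  have hnext : (ComplexShape.up ℤ).next i = k := CochainComplex.next ℤ i ▸ hik
  have hprev : (ComplexShape.up ℤ).prev i = j := by simp only [CochainComplex.prev]; omega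
  rw [quasiIsoAt_iff_isIso_homologyMap, ConcreteCategory.isIso_iff_bijective]
  have hπ : ∀ {M : CochainComplex AddCommGrpCat.{u} ℤ}, Function.Surjective (M.homologyπ i).hom :=
    fun {M} => (AddCommGrpCat.epi_iff_surjective _).1 inferInstance
  have hinj : ∀ {M : CochainComplex AddCommGrpCat.{u} ℤ}, Function.Injective (M.iCycles i).hom :=
    fun {M} => (AddCommGrpCat.mono_iff_injective _).1 inferInstance
  have hlift : ∀ {M : CochainComplex AddCommGrpCat.{u} ℤ} (x : M.X i), (M.d i k).hom x = 0 →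
      ∃ z : M.cycles i, (M.iCycles i).hom z = x := fun {M} x hx => by
    let ψ : AddCommGrpCat.of (ULift.{u} ℤ) ⟶ M.X i :=
      AddCommGrpCat.ofHom ((zmultiplesHom _ x).comp AddEquiv.ulift.toAddMonoidHom)
    have hψ : ψ ≫ M.d i k = 0 := by
      ext; simp [ψ, hx]
    refine ⟨(M.liftCycles ψ k hnext hψ).hom ⟨1⟩, ?_⟩
    have := congrArg (fun g => g.hom (⟨1⟩ : ULift.{u} ℤ)) (M.liftCycles_i ψ k hnext hψ)
    exact this.trans (one_zsmul x)
  have hcyc : ∀ {M : CochainComplex AddCommGrpCat.{u} ℤ} (z : M.cycles i), (M.d i k).hom ((M.iCycles i).hom z) = 0 :=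
    fun {M} z => congrArg (fun g => g.hom z) (M.iCycles_d i k)
  have hbd : ∀ {M : CochainComplex AddCommGrpCat.{u} ℤ} (w : M.X j),
      (M.iCycles i).hom ((M.toCycles j i).hom w) = (M.d j i).hom w :=
    fun {M} w => congrArg (fun g => g.hom w) (M.toCycles_i j i)
  have hker : ∀ {M : CochainComplex AddCommGrpCat.{u} ℤ} (w : M.X j),
      (M.homologyπ i).hom ((M.toCycles j i).hom w) = 0 :=
    fun {M} w => congrArg (fun g => g.hom w) (M.toCycles_comp_homologyπ j i)
  have hnat : ∀ z : K.cycles i, (homologyMap f i).hom ((K.homologyπ i).hom z) =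
      (L.homologyπ i).hom ((cyclesMap f i).hom z) :=
    fun z => congrArg (fun g => g.hom z) (homologyπ_naturality f i)
  have hci : ∀ z : K.cycles i, (L.iCycles i).hom ((cyclesMap f i).hom z) = (f.f i).hom ((K.iCycles i).hom z) :=
    fun z => congrArg (fun g => g.hom z) (cyclesMap_i f i)
  refine ⟨(injective_iff_map_eq_zero (homologyMap f i).hom).2 fun a ha => ?_, fun b => ?_⟩
  · obtain ⟨z, rfl⟩ := hπ a
    rw [hnat] at ha
    obtain ⟨w, hw⟩ := (ShortComplex.ab_exact_iff _).1
      (ShortComplex.exact_of_g_is_cokernel (ShortComplex.mk _ _ (L.toCycles_comp_homologyπ j i))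
        (L.homologyIsCokernel j i hprev)) _ ha
    obtain ⟨v, hv⟩ := hi _ w (hcyc z) (by rw [← hci, ← hbd, ← hw])
    rw [show z = (K.toCycles j i).hom v from hinj (by rw [hbd, hv])]
    exact hker v
  · obtain ⟨z, rfl⟩ := hπ b
    obtain ⟨x, w, hx, hw⟩ := hs _ (hcyc z)
    obtain ⟨z', hz'⟩ := hlift x hx
    refine ⟨(K.homologyπ i).hom z', ?_⟩
    have h1 : (cyclesMap f i).hom z' - z = (L.toCycles j i).hom w := hinj (by
      rw [map_sub, hci, hz', hw, hbd])
    have h2 := congrArg (L.homologyπ i).hom h1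
    rw [map_sub, hker, sub_eq_zero, ← hnat] at h2
    exact h2

end abElements

variable {X Y : Scheme.{u}} (f : X ⟶ Y)

local notation "adjF" => H5KApps.adjC (Scheme.Modules.pullbackPushforwardAdjunction f)

lemma homotopic_of_adjunct {P : CochainComplex Y.Modules ℤ} {I : CochainComplex X.Modules ℤ}
    {a b : (pullCx f).obj P ⟶ I} (h : (HomotopyCategory.quotient _ _).map a = (HomotopyCategory.quotient _ _).map b) :
    (HomotopyCategory.quotient _ _).map ((adjF).homEquiv _ _ a) = (HomotopyCategory.quotient _ _).map ((adjF).homEquiv _ _ b) := by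
  rw [Adjunction.homEquiv_unit, Adjunction.homEquiv_unit]
  exact HomotopyCategory.eq_of_homotopy _ _
    (((Scheme.Modules.pushforward f).mapHomotopy (HomotopyCategory.homotopyOfEq _ _ h)).compLeft _)

/-- direct images of K-injectives see homotopy classes out of complexes with K-flat stalks -/
theorem homotopic_zero {P : CochainComplex Y.Modules ℤ} (hP : SKF P) {I : CochainComplex X.Modules ℤ}
    (hI : I.IsKInjective) (g : P ⟶ (H7RpushCalc.pushCx f).obj I) (hg : DerivedCategory.Q.map g = 0) :
    (HomotopyCategory.quotient _ _).map g = 0 := by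
  haveI := hasLpull f
  haveI := H7MV.hasRpush f
  haveI : (DCoh.Lpull f).IsLeftAdjoint := (nonempty_adj f).some.isLeftAdjoint
  haveI : (DCoh.Lpull f).PreservesZeroMorphisms := Functor.preservesZeroMorphisms_of_isLeftAdjoint _
  have hn := (alpha f).naturality g
  have hα := isIso_alpha f hP
  have h1 : DerivedCategory.Q.map ((pullCx f).map g) = 0 := by
    rw [← cancel_epi ((alpha f).app P), comp_zero]
    refine hn.symm.trans ?_
    show (DCoh.Lpull f).map (DerivedCategory.Q.map g) ≫ _ = 0
    rw [hg, Functor.map_zero, zero_comp]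
  let h := ((adjF).homEquiv P I).symm g
  have h2 : DerivedCategory.Q.map h = DerivedCategory.Q.map 0 := by
    show DerivedCategory.Q.map ((pullCx f).map g ≫ (adjF).counit.app I) = _
    rw [Functor.map_comp, Functor.map_zero]
    exact (congrArg (· ≫ _) h1).trans zero_comp
  have h3 := homotopic_of_adjunct f (@H5KApps.homotopic_of_Q_map_eq _ _ _ _ _ _ hI h 0 h2)
  have e0 : (adjF).homEquiv P I 0 = 0 := by
    rw [Adjunction.homEquiv_unit, Functor.map_zero, comp_zero]
  rw [Equiv.apply_symm_apply, e0, Functor.map_zero] at h3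
  exact h3

theorem exists_map {P : CochainComplex Y.Modules ℤ} (hP : SKF P) {I : CochainComplex X.Modules ℤ}
    (hI : I.IsKInjective) (ψ : DerivedCategory.Q.obj P ⟶ DerivedCategory.Q.obj ((H7RpushCalc.pushCx f).obj I)) :
    ∃ g : P ⟶ (H7RpushCalc.pushCx f).obj I, DerivedCategory.Q.map g = ψ := by
  obtain ⟨P₀, s₀, hs₀, g₀, rfl⟩ := DerivedCategory.right_fac ψ
  let P' := resFunctor.obj P₀
  have hP' : SKF P' := skf_resFunctor P₀
  haveI := quasiIso_resNat P₀
  let s : P' ⟶ P := resNat.app P₀ ≫ s₀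
  let g' : P' ⟶ (H7RpushCalc.pushCx f).obj I := resNat.app P₀ ≫ g₀
  haveI hs : IsIso (DerivedCategory.Q.map s) := by
    haveI : IsIso (DerivedCategory.Q.map (resNat.app P₀)) :=
      (DerivedCategory.isIso_Q_map_iff_quasiIso _ _).2 inferInstance
    rw [Functor.map_comp]; infer_instance
  haveI : QuasiIso s := (DerivedCategory.isIso_Q_map_iff_quasiIso _ _).1 hs
  haveI := (DerivedCategory.isIso_Q_map_iff_quasiIso _ _).2 (quasiIso_pullback f hP' hP s)
  let h' := ((adjF).homEquiv P' I).symm g'
  obtain ⟨h, hh⟩ := (H5KApps.resolving_Q (A := X.Modules) H5KApps.enoughKInj_of_grothendieck).surj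
    ((pullCx f).obj P) I hI (inv (DerivedCategory.Q.map ((pullCx f).map s)) ≫ DerivedCategory.Q.map h')
  have h2 : DerivedCategory.Q.map ((pullCx f).map s ≫ h) = DerivedCategory.Q.map h' := by
    rw [Functor.map_comp, hh]
    exact IsIso.hom_inv_id_assoc _ _
  have h3 := homotopic_of_adjunct f (@H5KApps.homotopic_of_Q_map_eq _ _ _ _ _ _ hI _ _ h2)
  rw [Equiv.apply_symm_apply, Adjunction.homEquiv_naturality_left] at h3
  refine ⟨(adjF).homEquiv P I h, ?_⟩
  have h4 : DerivedCategory.Q.map (s ≫ (adjF).homEquiv P I h) = DerivedCategory.Q.map g' :=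
    DerivedCategory.Q_map_eq_of_homotopy _ (HomotopyCategory.homotopyOfEq _ _ h3)
  rw [← cancel_epi (DerivedCategory.Q.map s)]
  refine ((DerivedCategory.Q.map_comp _ _).symm.trans h4).trans ?_
  show DerivedCategory.Q.map (resNat.app P₀ ≫ g₀) = DerivedCategory.Q.map (resNat.app P₀ ≫ s₀) ≫ _
  rw [Functor.map_comp, Functor.map_comp, Category.assoc, IsIso.hom_inv_id_assoc]

lemma skf_single (n : ℤ) : SKF ((single Y.Modules (ComplexShape.up ℤ) n).obj (Coh.structureModule Y)) := by
  refine skf_zero_d _ (fun _ _ => rfl) fun m => ?_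
  by_cases hm : m = n
  · subst hm
    exact H7FlatCover.isFlat_of_iso (singleObjXSelf (ComplexShape.up ℤ) m (Coh.structureModule Y)).symm
      (flat_structureModule Y)
  · exact fun x => by
      haveI : Subsingleton ((DerSch.stalkFunctor Y x).obj
          (((single Y.Modules (ComplexShape.up ℤ) n).obj (Coh.structureModule Y)).X m)) :=
        ModuleCat.isZero_iff_subsingleton.1 (Functor.map_isZero _ (isZero_single_obj_X _ _ _ _ hm))
      exact Module.Flat.of_free (R := Y.presheaf.stalk x) (M := (DerSch.stalkFunctor Y x).obj _)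

/-- cycles of global sections as maps of complexes -/
noncomputable def secHom {K : CochainComplex Y.Modules ℤ} (i : ℤ) (x : Γ(K.X i, ⊤))
    (hx : (K.d i (i + 1)).app ⊤ x = 0) :
    (single Y.Modules (ComplexShape.up ℤ) i).obj (Coh.structureModule Y) ⟶ K :=
  mkHomFromSingle ((unitEquiv _).symm x) fun k hk => by
    obtain rfl : i + 1 = k := hk
    refine (unitEquiv _).injective ?_
    rw [unitEquiv_comp, Equiv.apply_symm_apply, hx]
    rfl

lemma secHom_f {K : CochainComplex Y.Modules ℤ} (i : ℤ) (x : Γ(K.X i, ⊤)) (hx : (K.d i (i + 1)).app ⊤ x = 0) :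
    unitEquiv _ ((singleObjXSelf (ComplexShape.up ℤ) i (Coh.structureModule Y)).inv ≫ (secHom i x hx).f i) = x := by
  rw [secHom, mkHomFromSingle_f, Iso.inv_hom_id_assoc, Equiv.apply_symm_apply]

lemma exists_bd {K : CochainComplex Y.Modules ℤ} (i : ℤ)
    {φ ψ : (single Y.Modules (ComplexShape.up ℤ) i).obj (Coh.structureModule Y) ⟶ K}
    (h : (HomotopyCategory.quotient _ _).map φ = (HomotopyCategory.quotient _ _).map ψ) :
    ∃ w : Γ(K.X (i - 1), ⊤),
      unitEquiv _ ((singleObjXSelf (ComplexShape.up ℤ) i (Coh.structureModule Y)).inv ≫ φ.f i) -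
      unitEquiv _ ((singleObjXSelf (ComplexShape.up ℤ) i (Coh.structureModule Y)).inv ≫ ψ.f i) =
      (K.d (i - 1) i).app ⊤ w := by
  let H := HomotopyCategory.homotopyOfEq _ _ h
  let e := (singleObjXSelf (ComplexShape.up ℤ) i (Coh.structureModule Y)).inv
  refine ⟨unitEquiv _ (e ≫ H.hom i (i - 1)), ?_⟩
  have hc := H.comm i
  rw [dNext_eq _ (show (ComplexShape.up ℤ).Rel i (i + 1) from rfl),
    prevD_eq _ (show (ComplexShape.up ℤ).Rel (i - 1) i from sub_add_cancel i 1),
    single_obj_d, zero_comp, zero_add] at hc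
  rw [sub_eq_iff_eq_add, hc, ← unitEquiv_comp, Category.assoc, Preadditive.comp_add]
  rfl

/-- boundaries give null-homotopic maps -/
noncomputable def homotopyZero {K : CochainComplex Y.Modules ℤ} (i : ℤ)
    (φ : (single Y.Modules (ComplexShape.up ℤ) i).obj (Coh.structureModule Y) ⟶ K) (w : Γ(K.X (i - 1), ⊤))
    (hw : unitEquiv _ ((singleObjXSelf (ComplexShape.up ℤ) i (Coh.structureModule Y)).inv ≫ φ.f i) =
      (K.d (i - 1) i).app ⊤ w) : Homotopy φ 0 where
  hom k l := if h : k = i ∧ l = i - 1 then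
      eqToHom (by rw [h.1]) ≫ (singleObjXSelf (ComplexShape.up ℤ) i (Coh.structureModule Y)).hom ≫
        (unitEquiv _).symm w ≫ eqToHom (by rw [h.2]) else 0
  zero k l hkl := dif_neg fun h => hkl (by show l + 1 = k; omega)
  comm k := by
    by_cases hk : k = i
    · subst hk
      rw [dNext_eq _ (show (ComplexShape.up ℤ).Rel k (k + 1) from rfl),
        prevD_eq _ (show (ComplexShape.up ℤ).Rel (k - 1) k from sub_add_cancel k 1),
        single_obj_d, zero_comp, zero_add, dif_pos ⟨rfl, rfl⟩]
      simp only [eqToHom_refl, Category.id_comp, Category.comp_id]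
      have h1 : (singleObjXSelf (ComplexShape.up ℤ) k (Coh.structureModule Y)).inv ≫ φ.f k =
          (unitEquiv _).symm w ≫ K.d (k - 1) k := by
        refine (unitEquiv _).injective ?_
        rw [hw, unitEquiv_comp, Equiv.apply_symm_apply]
      rw [Category.assoc, ← h1, Iso.hom_inv_id_assoc]
      exact (add_zero _).symm
    · exact (isZero_single_obj_X _ _ _ _ hk).eq_of_src _ _

/-- `Γ(Y, -)` sees quasi-isomorphisms out of `f_* I` into K-injectives -/
theorem quasiIso_gamma {I : CochainComplex X.Modules ℤ} (hI : I.IsKInjective) {J : CochainComplex Y.Modules ℤ}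
    (hJ : J.IsKInjective) (q : (H7RpushCalc.pushCx f).obj I ⟶ J) [QuasiIso q] :
    QuasiIso ((H7RGamma.gammaCx Y).map q) := by
  haveI : IsIso (DerivedCategory.Q.map q) := (DerivedCategory.isIso_Q_map_iff_quasiIso _ _).2 inferInstance
  refine ⟨fun i => quasiIsoAt_of_elements _ i (i - 1) (i + 1) (by omega) rfl (fun y hy => ?_) fun x w hx hw => ?_⟩
  · let ψ := secHom (K := J) i y hy
    obtain ⟨g, hg⟩ := exists_map f (skf_single i) hI (DerivedCategory.Q.map ψ ≫ inv (DerivedCategory.Q.map q))
    have h1 : DerivedCategory.Q.map (g ≫ q) = DerivedCategory.Q.map ψ := by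
      rw [Functor.map_comp, hg, Category.assoc, IsIso.inv_hom_id, Category.comp_id]
    obtain ⟨w, hw⟩ := exists_bd i (@H5KApps.homotopic_of_Q_map_eq _ _ _ _ _ _ hJ _ _ h1)
    refine ⟨unitEquiv _ ((singleObjXSelf (ComplexShape.up ℤ) i (Coh.structureModule Y)).inv ≫ g.f i), w, ?_, ?_⟩
    · have h5 : g.f i ≫ ((H7RpushCalc.pushCx f).obj I).d i (i + 1) = 0 := by
        rw [g.comm i (i + 1), single_obj_d, zero_comp]
      refine (unitEquiv_comp _ _).symm.trans ?_
      exact (congrArg (unitEquiv _) ((Category.assoc _ _ _).trans ((congrArg (_ ≫ ·) h5).trans comp_zero))).trans rfl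
    · rw [secHom_f] at hw
      exact hw
  · let φ := secHom (K := (H7RpushCalc.pushCx f).obj I) i x hx
    have h0 : DerivedCategory.Q.map φ = 0 := by
      rw [← cancel_mono (DerivedCategory.Q.map q), zero_comp, ← Functor.map_comp, ← DerivedCategory.Q.map_zero]
      exact DerivedCategory.Q_map_eq_of_homotopy _ (homotopyZero i _ w
        ((congrArg (unitEquiv _) (Category.assoc _ _ _).symm).trans ((unitEquiv_comp _ _).trans
          ((congrArg _ (secHom_f i x hx)).trans hw))))
    obtain ⟨v, hv⟩ := exists_bd i (ψ := 0) ((homotopic_zero f (skf_single i) hI φ h0).trans (Functor.map_zero _ _ _).symm)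
    rw [secHom_f] at hv
    refine ⟨v, hv.symm.trans ?_⟩
    show x - _ = x
    rw [show (0 : (single Y.Modules (ComplexShape.up ℤ) i).obj (Coh.structureModule Y) ⟶
        (H7RpushCalc.pushCx f).obj I).f i = 0 from rfl, comp_zero]
    exact sub_zero x

end Groth.Agent.H7PushWeak
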