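import Groth.Prelude.Def_CAlgX
import Groth.Agent.Lib.H4QReg
import Mathlib

/-! Flatness from a quasi-regular sequence with flat quotient, over an arbitrary base. -/

set_option autoImplicit false
universe u

open TensorProduct MvPolynomial

namespace Groth.Agent.H7QRFlat

variable {A C : Type u} [CommRing A] [CommRing C] [Algebra A C]

theorem flat_ext {K M Q : Type u} [AddCommGroup K] [AddCommGroup M] [AddCommGroup Q] [Module A K] [Module A M] [Module A Q]
    (f : K →ₗ[A] M) (g : M →ₗ[A] Q) (hf : Function.Injective f) (hg : Function.Surjective g) (h : Function.Exact f g)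
    [Module.Flat A K] [Module.Flat A Q] : Module.Flat A M := by
  rw [Module.Flat.iff_lTensor_injective]
  intro I _
  rw [injective_iff_map_eq_zero]
  intro x hx
  have hcomm : ∀ {P P' : Type u} [AddCommGroup P] [AddCommGroup P'] [Module A P] [Module A P'] (φ : P →ₗ[A] P') (z : P ⊗[A] I),
      I.subtype.lTensor P' (φ.rTensor I z) = φ.rTensor A (I.subtype.lTensor P z) := fun φ z => by
    rw [← LinearMap.comp_apply, ← LinearMap.comp_apply, LinearMap.lTensor_comp_rTensor, LinearMap.rTensor_comp_lTensor]
  have h1 : g.rTensor I x = 0 := Module.Flat.lTensor_preserves_injective_linearMap (M := Q) I.subtype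
    I.injective_subtype (by rw [hcomm, hx, map_zero, map_zero])
  obtain ⟨k, rfl⟩ := (rTensor_exact I h hg x).1 h1
  rw [hcomm] at hx
  have h2 : Function.Injective (f.rTensor A) := by
    intro a b hab
    have := congrArg (TensorProduct.rid A M) hab
    have key : ∀ z, TensorProduct.rid A M (f.rTensor A z) = f (TensorProduct.rid A K z) := fun z => by
      induction z using TensorProduct.induction_on with
      | zero => simp
      | tmul p r => simp
      | add p q hp hq => simp only [map_add, hp, hq]
    rw [key, key] at this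
    exact (TensorProduct.rid A K).injective (hf this)
  have h3 : I.subtype.lTensor K k = 0 := h2 (hx.trans (map_zero _).symm)
  rw [show k = 0 from Module.Flat.lTensor_preserves_injective_linearMap (M := K) I.subtype I.injective_subtype
    (h3.trans (map_zero _).symm), map_zero]

theorem flat_quot_pow {c : ℕ} (f : Fin c → C) (hf : CAlgX.IsQuasiRegular f)
    [Module.Flat A (C ⧸ Ideal.span (Set.range f))] (n : ℕ) : Module.Flat A (C ⧸ Ideal.span (Set.range f) ^ n) := by
  classical
  set J := Ideal.span (Set.range f) with hJ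
  induction n with
  | zero =>
    have : Subsingleton (C ⧸ J ^ 0) := by
      rw [pow_zero, Ideal.one_eq_top]; exact Ideal.Quotient.subsingleton_iff.2 rfl
    infer_instance
  | succ n ih =>
    let ι := {d : Fin c →₀ ℕ // d ∈ ((Finset.univ : Finset (Fin c)).finsuppAntidiag n)}
    have hι : ∀ d : Fin c →₀ ℕ, d ∈ ((Finset.univ : Finset (Fin c)).finsuppAntidiag n) ↔ d.degree = n := fun d => by
      rw [Finset.mem_finsuppAntidiag, Finsupp.degree_eq_sum]
      simp
    let φ : (ι → C) →ₗ[C] C := Fintype.linearCombination C fun d : ι => ∏ i, f i ^ d.1 i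
    let P : (ι → C) → MvPolynomial (Fin c) C := fun v => ∑ d : ι, monomial d.1 (v d)
    have hev : ∀ v, eval f (P v) = φ v := fun v => by
      simp only [P, φ, map_sum, eval_monomial, Fintype.linearCombination_apply, smul_eq_mul]
      refine Finset.sum_congr rfl fun d _ => ?_
      rw [Finsupp.prod_fintype _ _ (fun i => pow_zero _)]
    have hhom : ∀ v, (P v).IsHomogeneous n := fun v =>
      IsHomogeneous.sum _ _ _ fun d _ => isHomogeneous_monomial _ ((hι d.1).1 d.2)
    have hmem : ∀ v, φ v ∈ J ^ n := fun v => by
      rw [← hev]; exact H4QReg.eval_mem_pow f (hhom v)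
    have hkey : ∀ v, φ v ∈ J ^ (n + 1) → ∀ d, v d ∈ J := fun v hv d => by
      have := hf n (P v) (hhom v) (by rw [hev]; exact hv) d.1
      simp only [P, coeff_sum, coeff_monomial, Subtype.val_inj] at this
      rwa [Fintype.sum_ite_eq'] at this
    have hsurj : ∀ z ∈ J ^ n, ∃ v, φ v = z := by
      intro z hz
      obtain ⟨G, hG, hGz⟩ := H4QReg.exists_eval_eq f n z hz
      refine ⟨fun d => G.coeff d.1, ?_⟩
      rw [← hev]
      have : P (fun d => G.coeff d.1) = G := by
        ext d
        simp only [P, coeff_sum, coeff_monomial]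
        by_cases hd : d.degree = n
        · rw [Finset.sum_eq_single ⟨d, (hι d).2 hd⟩]
          · simp
          · intro e _ he
            rw [if_neg]
            exact fun h => he (Subtype.ext h)
          · simp
        · rw [hG.coeff_eq_zero hd, Finset.sum_eq_zero]
          intro e _
          rw [if_neg]
          exact fun h => hd (h ▸ (hι e.1).1 e.2)
      rw [this, hGz]
    let ψ : (ι → C) →ₗ[C] C ⧸ J ^ (n + 1) := (J ^ (n + 1)).mkQ ∘ₗ φ
    let π : (C ⧸ J ^ (n + 1)) →ₗ[C] C ⧸ J ^ n := Submodule.factor (Ideal.pow_le_pow_right n.le_succ)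
    let q : (ι → C) →ₗ[C] (ι → C ⧸ J) := J.mkQ.compLeft ι
    have hq : Function.Surjective q := fun w => ⟨fun d => (w d).out, funext fun d => Quotient.out_eq _⟩
    have hker : LinearMap.ker q ≤ LinearMap.ker ψ := fun v hv => by
      refine (Submodule.Quotient.mk_eq_zero _).2 ?_
      have hv' : ∀ d, v d ∈ J := fun d => (Submodule.Quotient.mk_eq_zero _).1 (congrFun hv d)
      simp only [φ, Fintype.linearCombination_apply, smul_eq_mul]
      refine Ideal.sum_mem _ fun d _ => ?_
      rw [pow_succ, mul_comm (v d)]
      refine Ideal.mul_mem_mul ?_ (hv' d)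
      have := hmem (Pi.single d 1)
      simp only [φ, Fintype.linearCombination_apply, Pi.single_apply, smul_eq_mul, ite_mul, one_mul, zero_mul] at this
      rwa [Fintype.sum_ite_eq'] at this
    let θ : (ι → C ⧸ J) →ₗ[C] C ⧸ J ^ (n + 1) := (LinearMap.ker q).liftQ ψ hker ∘ₗ (q.quotKerEquivOfSurjective hq).symm.toLinearMap
    have hθ : ∀ v, θ (q v) = ψ v := fun v => by
      show (LinearMap.ker q).liftQ ψ hker ((q.quotKerEquivOfSurjective hq).symm (q v)) = _
      rw [LinearMap.quotKerEquivOfSurjective_symm_apply]
      rfl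
    have hθinj : Function.Injective θ := by
      rw [injective_iff_map_eq_zero]
      intro w hw
      obtain ⟨v, rfl⟩ := hq w
      rw [hθ] at hw
      exact funext fun d => (Submodule.Quotient.mk_eq_zero _).2 (hkey v ((Submodule.Quotient.mk_eq_zero _).1 hw) d)
    have hexact : Function.Exact θ π := by
      intro z
      obtain ⟨z, rfl⟩ := Submodule.Quotient.mk_surjective _ z
      constructor
      · intro hz
        obtain ⟨v, rfl⟩ := hsurj z ((Submodule.Quotient.mk_eq_zero _).1 hz)
        exact ⟨q v, hθ v⟩
      · rintro ⟨w, hw⟩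
        obtain ⟨v, rfl⟩ := hq w
        rw [hθ] at hw
        rw [← hw]
        exact (Submodule.Quotient.mk_eq_zero _).2 (hmem v)
    haveI : Module.Flat A (ι → C ⧸ J) := Module.Flat.of_linearEquiv ((Finsupp.linearEquivFunOnFinite A (C ⧸ J) ι).symm.trans (finsuppLEquivDirectSum A (C ⧸ J) ι))
    haveI := ih
    exact flat_ext (θ.restrictScalars A) (π.restrictScalars A) hθinj (Submodule.factor_surjective (Ideal.pow_le_pow_right n.le_succ)) hexact

theorem flat_of_quot_pow (p : Ideal C) [p.IsPrime] (B : Type u) [CommRing B] [Algebra C B] [Algebra A B]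
    [IsScalarTower A C B] [IsLocalization.AtPrime B p] [IsNoetherianRing B] (J : Ideal C) (hJ : J ≤ p)
    (hflat : ∀ n, Module.Flat A (C ⧸ J ^ n)) : Module.Flat A B := by
  haveI := IsLocalization.AtPrime.isLocalRing B p
  rw [Module.Flat.iff_lTensor_injective]
  intro I hI
  rw [injective_iff_map_eq_zero]
  intro x hx
  haveI : Module.Finite A I := Module.Finite.iff_fg.2 hI
  let j : C →ₗ[A] B := (IsScalarTower.toAlgHom A C B).toLinearMap
  have hj : ∀ (r : C) (y : C ⊗[A] I), j.rTensor I (r • y) = algebraMap C B r • j.rTensor I y := by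
    intro r y
    induction y using TensorProduct.induction_on with
    | zero => simp
    | tmul a i => simp [j, smul_tmul', Algebra.smul_def]
    | add a b ha hb => simp only [smul_add, map_add, ha, hb]
  have hclear : ∀ z : B ⊗[A] I, ∃ (s : p.primeCompl) (y : C ⊗[A] I), algebraMap C B s • z = j.rTensor I y := by
    intro z
    induction z using TensorProduct.induction_on with
    | zero => exact ⟨1, 0, by simp⟩
    | tmul b i =>
      obtain ⟨⟨a, s⟩, hs⟩ := IsLocalization.surj p.primeCompl b
      refine ⟨s, a ⊗ₜ i, ?_⟩
      rw [smul_tmul', smul_eq_mul, mul_comm, hs]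
      rfl
    | add z w hz hw =>
      obtain ⟨s, y, hy⟩ := hz
      obtain ⟨t, y', hy'⟩ := hw
      refine ⟨s * t, (t : C) • y + (s : C) • y', ?_⟩
      rw [map_add, hj, hj, ← hy, ← hy', smul_smul, smul_smul, Submonoid.coe_mul, map_mul, smul_add,
        mul_comm (algebraMap C B t)]
  obtain ⟨s, y, hy⟩ := hclear x
  have hlin : ∀ {M : Type u} [AddCommGroup M] [Module A M] [Module C M] [SMulCommClass A C M] (r : C) (z : M ⊗[A] I),
      I.subtype.lTensor M (r • z) = r • I.subtype.lTensor M z := by
    intro M _ _ _ _ r z
    induction z using TensorProduct.induction_on with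
    | zero => simp
    | tmul a i => simp [smul_tmul']
    | add a b ha hb => simp only [smul_add, map_add, ha, hb]
  have hcomm : ∀ {P P' : Type u} [AddCommGroup P] [AddCommGroup P'] [Module A P] [Module A P'] (φ : P →ₗ[A] P') (z : P ⊗[A] I),
      I.subtype.lTensor P' (φ.rTensor I z) = φ.rTensor A (I.subtype.lTensor P z) := fun φ z => by
    rw [← LinearMap.comp_apply, ← LinearMap.comp_apply, LinearMap.lTensor_comp_rTensor, LinearMap.rTensor_comp_lTensor]
  have hy0 : j.rTensor A (I.subtype.lTensor C y) = 0 := by
    rw [← hcomm, ← hy]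
    have : ∀ (b : B) (z : B ⊗[A] I), I.subtype.lTensor B (b • z) = b • I.subtype.lTensor B z := fun b z => by
      induction z using TensorProduct.induction_on with
      | zero => simp
      | tmul a i => simp [smul_tmul']
      | add a b ha hb => simp only [smul_add, map_add, ha, hb]
    rw [this, hx, smul_zero]
  have key : ∀ z : C ⊗[A] A, TensorProduct.rid A B (j.rTensor A z) = j (TensorProduct.rid A C z) := fun z => by
    induction z using TensorProduct.induction_on with
    | zero => simp
    | tmul a r => simp
    | add a b ha hb => simp only [map_add, ha, hb]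
  have hy1 : algebraMap C B (TensorProduct.rid A C (I.subtype.lTensor C y)) = algebraMap C B 0 := by
    have := key (I.subtype.lTensor C y)
    rw [hy0, map_zero] at this
    rw [map_zero]; exact this.symm
  obtain ⟨t, ht⟩ := (IsLocalization.eq_iff_exists p.primeCompl B).1 hy1
  rw [mul_zero] at ht
  have hty : I.subtype.lTensor C ((t : C) • y) = 0 := by
    refine (TensorProduct.rid A C).injective ?_
    rw [map_zero, hlin, ← ht]
    generalize I.subtype.lTensor C y = z
    induction z using TensorProduct.induction_on with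
    | zero => simp
    | tmul a r => simp [smul_tmul']
    | add a b ha hb => simp only [smul_add, map_add, mul_add, ha, hb]
  have hmem : ∀ n : ℕ, j.rTensor I ((t : C) • y) ∈ (Ideal.map (algebraMap C B) J ^ n • ⊤ : Submodule B (B ⊗[A] I)) := by
    intro n
    haveI := hflat n
    let π : C →ₗ[A] C ⧸ J ^ n := (J ^ n).mkQ.restrictScalars A
    have h1 : π.rTensor I ((t : C) • y) = 0 := by
      refine Module.Flat.lTensor_preserves_injective_linearMap (M := C ⧸ J ^ n) I.subtype I.injective_subtype ?_
      rw [hcomm, hty, map_zero, map_zero]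
    have hex : Function.Exact ((J ^ n).subtype.restrictScalars A) π := LinearMap.exact_subtype_mkQ (J ^ n)
    obtain ⟨k, hk⟩ := (rTensor_exact I hex (Submodule.mkQ_surjective _) _).1 h1
    rw [← hk]
    clear hk
    induction k using TensorProduct.induction_on with
    | zero => simp
    | tmul a i =>
      have : j.rTensor I (((J ^ n).subtype.restrictScalars A).rTensor I (a ⊗ₜ i)) = algebraMap C B a.1 • ((1 : B) ⊗ₜ[A] i) := by
        simp [j, smul_tmul', Algebra.smul_def]
      rw [this, ← Ideal.map_pow]
      exact Submodule.smul_mem_smul (Ideal.mem_map_of_mem _ a.2) trivial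
    | add a b ha hb => rw [map_add, map_add]; exact add_mem ha hb
  have hne : Ideal.map (algebraMap C B) J ≠ ⊤ := by
    intro h
    have h' := Ideal.map_mono (f := algebraMap C B) hJ
    rw [h, IsLocalization.AtPrime.map_eq_maximalIdeal p B, top_le_iff] at h'
    exact (IsLocalRing.maximalIdeal.isMaximal B).ne_top h'
  have hz : j.rTensor I ((t : C) • y) = 0 := by
    have := (Submodule.mem_iInf _).2 hmem
    rwa [Ideal.iInf_pow_smul_eq_bot_of_isLocalRing _ hne] at this
  rw [hj, ← hy, smul_smul, ← map_mul] at hz
  exact ((IsLocalization.map_units B (⟨(t : C) * s, mul_mem t.2 s.2⟩ : p.primeCompl)).smul_eq_zero).1 hz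

end Groth.Agent.H7QRFlat
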