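import Groth.Agent.Lib.H7QRFlat
import Groth.Prelude.Def_RegImm
import Mathlib

/-! Relative quasi-regular immersions force flatness of the ambient scheme at Noetherian points. -/

set_option autoImplicit false
universe u

open MvPolynomial AlgebraicGeometry CategoryTheory

namespace Groth.Agent.H7QRFlat

theorem isQuasiRegular_localization {C B : Type u} [CommRing C] [CommRing B] [Algebra C B] (M : Submonoid C)
    [IsLocalization M B] {c : ℕ} (f : Fin c → C) (hf : CAlgX.IsQuasiRegular f) :
    CAlgX.IsQuasiRegular (fun i => algebraMap C B (f i)) := by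
  classical
  intro n P hP hev d
  have hJ : Ideal.span (Set.range fun i => algebraMap C B (f i)) = (Ideal.span (Set.range f)).map (algebraMap C B) := by
    rw [Ideal.map_span, ← Set.range_comp]; rfl
  rw [hJ] at hev ⊢
  obtain ⟨b, hb⟩ := IsLocalization.exist_integer_multiples M P.support (fun e => P.coeff e)
  choose a ha using hb
  let Q : MvPolynomial (Fin c) C := ∑ e : P.support, monomial e.1 (a e.1 e.2)
  have hQ : ∀ e : Fin c →₀ ℕ, algebraMap C B (Q.coeff e) = algebraMap C B b * P.coeff e := by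
    intro e
    simp only [Q, coeff_sum, coeff_monomial]
    by_cases he : e ∈ P.support
    · rw [Finset.sum_eq_single ⟨e, he⟩]
      · rw [if_pos rfl, ha e he, Algebra.smul_def]
      · intro x _ hx
        rw [if_neg]
        exact fun h => hx (Subtype.ext h)
      · simp
    · rw [Finset.sum_eq_zero, map_zero, MvPolynomial.notMem_support_iff.1 he, mul_zero]
      intro x _
      rw [if_neg]
      exact fun h => he (h ▸ x.2)
  have hQh : Q.IsHomogeneous n := IsHomogeneous.sum _ _ _ fun e _ =>
    isHomogeneous_monomial _ (by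
      have h := hP (MvPolynomial.mem_support_iff.1 e.2)
      rw [← h]
      simp [Finsupp.weight_apply, Finsupp.degree_apply, Finsupp.sum])
  have hQev : algebraMap C B (eval f Q) ∈ (Ideal.span (Set.range f)).map (algebraMap C B) ^ (n + 1) := by
    have h1 : algebraMap C B (eval f Q) = algebraMap C B b * eval (fun i => algebraMap C B (f i)) P := by
      have hPQ : map (algebraMap C B) Q = MvPolynomial.C (algebraMap C B b) * P := by
        ext e
        rw [coeff_map, hQ, coeff_C_mul]
      have := congrArg (eval fun i => algebraMap C B (f i)) hPQ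
      rw [map_mul, eval_C] at this
      rw [← this, MvPolynomial.eval_map, MvPolynomial.eval₂_comp]; rfl
    rw [h1]
    exact Ideal.mul_mem_left _ _ hev
  rw [← Ideal.map_pow, IsLocalization.algebraMap_mem_map_algebraMap_iff M] at hQev
  obtain ⟨m, hm, hmQ⟩ := hQev
  have hkey := hf n (MvPolynomial.C m * Q) (hQh.C_mul m) (by rw [map_mul, eval_C]; exact hmQ) d
  rw [coeff_C_mul] at hkey
  have h2 := Ideal.mem_map_of_mem (algebraMap C B) hkey
  rw [map_mul, hQ, ← mul_assoc] at h2
  exact (Ideal.unit_mul_mem_iff_mem _ ((IsLocalization.map_units B ⟨m, hm⟩).mul (IsLocalization.map_units B b))).1 h2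

theorem ker_stalkMap {Z X : Scheme.{u}} (i : Z ⟶ X) [IsImmersion i] (z : Z) (U : X.Opens) (hU : IsAffineOpen U)
    (hzU : i z ∈ U) [IsClosedImmersion (i ∣_ U)] :
    RingHom.ker (i.stalkMap z).hom = (RingHom.ker (i.app U).hom).map (X.presheaf.germ U (i z) hzU).hom := by
  haveI : IsAffine (U : Scheme.{u}) := hU
  have hW : IsAffineOpen (i ⁻¹ᵁ U) := isAffine_of_isAffineHom (i ∣_ U)
  apply le_antisymm
  · intro x hx
    letI := (X.presheaf.germ U (i z) hzU).hom.toAlgebra
    haveI : IsLocalization.AtPrime (X.presheaf.stalk (i z)) (hU.primeIdealOf ⟨i z, hzU⟩).asIdeal := hU.isLocalization_stalk ⟨i z, hzU⟩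
    letI := (Z.presheaf.germ (i ⁻¹ᵁ U) z hzU).hom.toAlgebra
    haveI : IsLocalization.AtPrime (Z.presheaf.stalk z) (hW.primeIdealOf ⟨z, hzU⟩).asIdeal := hW.isLocalization_stalk ⟨z, hzU⟩
    obtain ⟨⟨a, s⟩, hs⟩ := IsLocalization.surj (hU.primeIdealOf ⟨i z, hzU⟩).asIdeal.primeCompl x
    have h0 : algebraMap Γ(Z, i ⁻¹ᵁ U) (Z.presheaf.stalk z) (i.app U a) = algebraMap Γ(Z, i ⁻¹ᵁ U) (Z.presheaf.stalk z) 0 := by
      rw [map_zero]
      show (Z.presheaf.germ (i ⁻¹ᵁ U) z hzU).hom ((i.app U).hom a) = 0
      rw [← Scheme.Hom.germ_stalkMap_apply i U z hzU a]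
      show (i.stalkMap z).hom (algebraMap Γ(X, U) (X.presheaf.stalk (i z)) a) = 0
      rw [← hs, map_mul, RingHom.mem_ker.1 hx, zero_mul]
    obtain ⟨v, hv⟩ := (IsLocalization.eq_iff_exists (hW.primeIdealOf ⟨z, hzU⟩).asIdeal.primeCompl (Z.presheaf.stalk z)).1 h0
    rw [mul_zero] at hv
    have hsurj : Function.Surjective (i.app U).hom := by
      have := (isClosedImmersion_iff_isAffineHom (f := i ∣_ U)).1 inferInstance
      have h2 := this.2 ⊤ (isAffineOpen_top _)
      exact surj_of_restrict i U h2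
    obtain ⟨c, hc⟩ := hsurj v.1
    have hca : c * a ∈ RingHom.ker (i.app U).hom := by rw [RingHom.mem_ker, map_mul, hc]; exact hv
    have hcu : IsUnit (algebraMap Γ(X, U) (X.presheaf.stalk (i z)) c) := by
      refine isUnit_of_map_unit (i.stalkMap z).hom _ ?_
      have := IsLocalization.map_units (Z.presheaf.stalk z) v
      rw [← hc] at this
      exact (Scheme.Hom.germ_stalkMap_apply i U z hzU c).symm ▸ this
    have h2 := Ideal.mem_map_of_mem (algebraMap Γ(X, U) (X.presheaf.stalk (i z))) hca
    rw [map_mul, ← hs, mul_comm x, ← mul_assoc] at h2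
    exact (Ideal.unit_mul_mem_iff_mem _ (hcu.mul (IsLocalization.map_units _ s))).1 h2
  · rw [Ideal.map_le_iff_le_comap]
    intro a ha
    rw [Ideal.mem_comap, RingHom.mem_ker]
    rw [Scheme.Hom.germ_stalkMap_apply, RingHom.mem_ker.1 ha, map_zero]
where
  surj_of_restrict {Z X : Scheme.{u}} (i : Z ⟶ X) (U : X.Opens) (h : Function.Surjective ((i ∣_ U).app ⊤)) :
      Function.Surjective (i.app U).hom := by
    rw [morphismRestrict_app] at h
    have h1 : Function.Surjective (i.app (U.ι ''ᵁ ⊤)).hom := by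
      intro b
      obtain ⟨a, ha⟩ := h ((ConcreteCategory.hom (Z.presheaf.map (eqToHom (image_morphismRestrict_preimage i U ⊤)).op)) b)
      exact ⟨a, (ConcreteCategory.bijective_of_isIso (Z.presheaf.map (eqToHom (image_morphismRestrict_preimage i U ⊤)).op)).1 ha⟩
    have aux : ∀ V : X.Opens, V = U → Function.Surjective (i.app V).hom → Function.Surjective (i.app U).hom := by
      rintro _ rfl; exact id
    exact aux _ U.ι_image_top h1

theorem flat_stalkMap {Z X S : Scheme.{u}} (f : X ⟶ S) (i : Z ⟶ X)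
    (hi : RegImm.IsRelRegularImmersion RegImm.Kind.quasi f i) (z : Z) [IsNoetherianRing (X.presheaf.stalk (i z))] :
    (f.stalkMap (i z)).hom.Flat := by
  obtain ⟨⟨hii, hreg⟩, hfl⟩ := hi
  obtain ⟨U, hzU, hcl, rs, hqr, hker⟩ := hreg z
  haveI := hii
  haveI := hcl
  let A := S.presheaf.stalk (f (i z))
  let B := X.presheaf.stalk (i z)
  letI : Algebra A B := (f.stalkMap (i z)).hom.toAlgebra
  show Module.Flat A B
  letI := (X.presheaf.germ U.1 (i z) hzU).hom.toAlgebra
  haveI : IsLocalization.AtPrime B (U.2.primeIdealOf ⟨i z, hzU⟩).asIdeal := U.2.isLocalization_stalk ⟨i z, hzU⟩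
  let g : Fin rs.length → B := fun k => algebraMap Γ(X, U.1) B (rs.get k)
  have hg : CAlgX.IsQuasiRegular g := isQuasiRegular_localization (U.2.primeIdealOf ⟨i z, hzU⟩).asIdeal.primeCompl rs.get hqr
  have hJ : Ideal.span (Set.range g) = RingHom.ker (i.stalkMap z).hom := by
    rw [ker_stalkMap i z U.1 U.2 hzU, hker]
    show _ = (Ideal.span {r | r ∈ rs}).map _
    rw [← Set.range_list_get, Ideal.map_span, ← Set.range_comp]
    rfl
  letI : Algebra A (Z.presheaf.stalk z) := ((i ≫ f).stalkMap z).hom.toAlgebra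
  haveI : Module.Flat A (Z.presheaf.stalk z) := Flat.stalkMap (i ≫ f) z
  let ψ : B →ₐ[A] Z.presheaf.stalk z :=
    { (i.stalkMap z).hom with
      commutes' := fun a => (ConcreteCategory.congr_hom (Scheme.Hom.stalkMap_comp i f z) a).symm }
  have hψ : Function.Surjective ψ := i.stalkMap_surjective z
  haveI : Module.Flat A (B ⧸ Ideal.span (Set.range g)) := Module.Flat.of_linearEquiv
    (((Ideal.quotientEquivAlgOfEq A (show Ideal.span (Set.range g) = RingHom.ker ψ from hJ)).trans
      (Ideal.quotientKerAlgEquivOfSurjective hψ)).toLinearEquiv)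
  haveI : IsLocalization.AtPrime B (IsLocalRing.maximalIdeal B) :=
    IsLocalization.self fun r hr => IsLocalRing.notMem_maximalIdeal.1 hr
  refine flat_of_quot_pow (IsLocalRing.maximalIdeal B) B (Ideal.span (Set.range g)) ?_ (flat_quot_pow g hg)
  rw [hJ]
  exact IsLocalRing.le_maximalIdeal (RingHom.ker_ne_top _)

end Groth.Agent.H7QRFlat
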