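import Mathlib

/-! An induction principle for quasi-compact opens of a quasi-separated scheme. -/

universe u
open CategoryTheory AlgebraicGeometry TopologicalSpace

namespace Groth.Agent.H7QcqsInd

variable {X : Scheme.{u}}

/-- a property holding for affines and stable under Mayer–Vietoris holds for quasi-compact opens inside an affine -/
theorem induction_in_affine {Q : X.Opens → Prop} (haff : ∀ A : X.Opens, IsAffineOpen A → Q A)
    (hsup : ∀ U V : X.Opens, Q U → Q V → Q (U ⊓ V) → Q (U ⊔ V))
    {A : X.Opens} (hA : IsAffineOpen A) (W : X.Opens) (hW : IsCompact (W : Set X)) (hWA : W ≤ A) : Q W := by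
  classical
  have key : ∀ (k : ℕ) (t : Finset Γ(X, A)), t.card ≤ k → Q (t.sup fun g => X.basicOpen g) := by
    intro k
    induction k with
    | zero =>
      intro t ht
      rw [Finset.card_eq_zero.1 (Nat.le_zero.1 ht), Finset.sup_empty]
      exact haff _ (isAffineOpen_bot X)
    | succ k ih =>
      intro t ht
      rcases t.eq_empty_or_nonempty with rfl | ⟨g, hg⟩
      · exact ih _ (by simp)
      rw [← Finset.insert_erase hg, Finset.sup_insert]
      have hc : (t.erase g).card ≤ k := by
        have := Finset.card_erase_of_mem hg; omega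
      refine hsup _ _ (haff _ (hA.basicOpen g)) (ih _ hc) ?_
      rw [Finset.sup_inf_distrib_left]
      have h : (t.erase g).sup (fun h => X.basicOpen g ⊓ X.basicOpen h) =
          ((t.erase g).image (g * ·)).sup fun h => X.basicOpen h := by
        rw [Finset.sup_image]
        refine Finset.sup_congr rfl fun h _ => ?_
        exact (X.basicOpen_mul g h).symm
      rw [h]
      exact ih _ (le_trans Finset.card_image_le hc)
  have hcov : (W : Set X) ⊆ ⋃ g : {g : Γ(X, A) // X.basicOpen g ≤ W}, (X.basicOpen g.1 : Set X) := fun x hx => by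
    obtain ⟨g, hg, hxg⟩ := hA.exists_basicOpen_le (V := W) ⟨x, hx⟩ (hWA hx)
    exact Set.mem_iUnion.2 ⟨⟨g, hg⟩, hxg⟩
  obtain ⟨t, ht⟩ := hW.elim_finite_subcover (fun g : {g : Γ(X, A) // X.basicOpen g ≤ W} => (X.basicOpen g.1 : Set X))
    (fun g => (X.basicOpen g.1).2) hcov
  have hsup' : W = (t.image Subtype.val).sup fun g => X.basicOpen g := by
    refine le_antisymm (fun x hx => ?_) (Finset.sup_le fun g hg => ?_)
    · obtain ⟨g, hg, hxg⟩ := Set.mem_iUnion₂.1 (ht hx)
      exact (Finset.le_sup (f := fun g : Γ(X, A) => X.basicOpen g) (Finset.mem_image_of_mem Subtype.val hg) :) hxg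
    · obtain ⟨g', -, rfl⟩ := Finset.mem_image.1 hg
      exact g'.2
  rw [hsup']
  exact key _ _ le_rfl

/-- a property holding for affines and stable under Mayer–Vietoris holds for quasi-compact opens -/
theorem induction [QuasiSeparatedSpace X] {Q : X.Opens → Prop} (haff : ∀ A : X.Opens, IsAffineOpen A → Q A)
    (hsup : ∀ U V : X.Opens, Q U → Q V → Q (U ⊓ V) → Q (U ⊔ V)) (W : X.Opens) (hW : IsCompact (W : Set X)) : Q W := by
  refine compact_open_induction_on (P := fun W => Q W) W hW (haff _ (isAffineOpen_bot X)) ?_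
  intro S hS A h
  exact hsup S A.1 h (haff _ A.2)
    (induction_in_affine haff hsup A.2 (S ⊓ A.1) (hS.inter_of_isOpen A.2.isCompact S.2 A.1.2) inf_le_right)

end Groth.Agent.H7QcqsInd
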