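import Groth.Agent.Lib.H7PushWeak
import Mathlib

/-! `RΓ(Y, Rf_* -) = RΓ(X, -)`. -/

universe u v w
open CategoryTheory Limits AlgebraicGeometry Opposite TopologicalSpace

namespace Groth.Agent.H7RGammaPush
open Groth.Agent

attribute [local instance] HasDerivedCategory.standard

variable {X Y : Scheme.{u}} (f : X ⟶ Y)

/-- `Γ(Y, f_* M) = Γ(X, M)` -/
noncomputable def gammaPushIso : DCoh.gammaAb X ≅ Scheme.Modules.pushforward f ⋙ DCoh.gammaAb Y :=
  NatIso.ofComponents (fun _ => Iso.refl _) (fun _ => rfl)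

theorem isIso_beta_push [DCoh.HasRΓ Y] (I : CochainComplex X.Modules ℤ) (hI : I.IsKInjective) :
    IsIso ((H7RGamma.beta Y).app ((H7RpushCalc.pushCx f).obj I)) := by
  obtain ⟨J, q, hJ, hq, -, -⟩ := H5KInj.exists_kInjective ((H7RpushCalc.pushCx f).obj I)
  haveI := hq
  haveI := H7RGamma.isIso_beta Y J hJ
  haveI := (DerivedCategory.isIso_Q_map_iff_quasiIso _ q).2 hq
  haveI := (DerivedCategory.isIso_Q_map_iff_quasiIso _ _).2 (H7PushWeak.quasiIso_gamma f hI hJ q)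
  have hn := (H7RGamma.beta Y).naturality q
  have h1 : IsIso (((H7RGamma.gammaCx Y ⋙ DerivedCategory.Q).map q) ≫ (H7RGamma.beta Y).app J) := by
    rw [Functor.comp_map]; infer_instance
  rw [hn] at h1
  haveI : IsIso ((DerivedCategory.Q ⋙ DCoh.RΓ Y).map q) := by rw [Functor.comp_map]; infer_instance
  exact IsIso.of_isIso_comp_right _ ((DerivedCategory.Q ⋙ DCoh.RΓ Y).map q)

theorem nonempty_rgamma_rpush [DCoh.HasRpush f] [DCoh.HasRΓ X] [DCoh.HasRΓ Y] :
    Nonempty (DCoh.Rpush f ⋙ DCoh.RΓ Y ≅ DCoh.RΓ X) := by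
  let c := ComplexShape.up ℤ
  let P := Scheme.Modules.pushforward f
  let α : (DCoh.gammaAb X).mapHomologicalComplex c ⋙ DerivedCategory.Q ⟶
      DerivedCategory.Q ⋙ (DCoh.Rpush f ⋙ DCoh.RΓ Y) :=
    Functor.whiskerRight (NatIso.mapHomologicalComplex (gammaPushIso f) c).hom _ ≫
      Functor.whiskerRight (Functor.mapHomologicalComplexCompIso (Iso.refl (P ⋙ DCoh.gammaAb Y)) c).inv _ ≫
      (Functor.associator _ _ _).hom ≫ Functor.whiskerLeft _ (H7RGamma.beta Y) ≫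
      (Functor.associator _ _ _).inv ≫ Functor.whiskerRight (H7RpushCalc.beta f) (DCoh.RΓ Y) ≫
      (Functor.associator _ _ _).hom
  let W := HomologicalComplex.quasiIso X.Modules c
  haveI : (DCoh.Rpush f ⋙ DCoh.RΓ Y).IsRightDerivedFunctor α W := by
    refine ((H5KApps.resolving_Q (A := X.Modules) H5KApps.enoughKInj_of_grothendieck).isRightDerived_iff
      (H5KApps.compat_Q (DCoh.gammaAb X)) W _ α).2 fun I hI => ?_
    have := H7RpushCalc.isIso_beta f I hI
    have := isIso_beta_push f I hI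
    simp only [α, NatTrans.comp_app, Functor.whiskerRight_app, Functor.whiskerLeft_app]
    infer_instance
  exact ⟨Functor.rightDerivedUnique _ _ α (H7RGamma.beta X) W⟩

theorem nonempty_rgamma_restrict (V : Y.Opens) [DCoh.HasRpush f] [DCoh.HasRΓ V.toScheme]
    [DCoh.HasRΓ (f ⁻¹ᵁ V).toScheme] [PreservesFiniteLimits (Scheme.Modules.restrictFunctor V.ι)]
    [PreservesFiniteLimits (Scheme.Modules.restrictFunctor (f ⁻¹ᵁ V).ι)] :
    Nonempty (DCoh.restrictD (f ⁻¹ᵁ V).ι ⋙ DCoh.RΓ (f ⁻¹ᵁ V).toScheme ≅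
      DCoh.Rpush f ⋙ DCoh.restrictD V.ι ⋙ DCoh.RΓ V.toScheme) := by
  haveI := H7MV.hasRpush (f ∣_ V)
  obtain ⟨e⟩ := nonempty_rgamma_rpush (f ∣_ V)
  obtain ⟨e'⟩ := H7RpushLocal.nonempty_restrict_rpush f V
  exact ⟨Functor.isoWhiskerLeft _ e.symm ≪≫ (Functor.associator _ _ _).symm ≪≫
    Functor.isoWhiskerRight e'.symm _ ≪≫ Functor.associator _ _ _⟩

end Groth.Agent.H7RGammaPush
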