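import Groth.Agent.Lib.H7RHomPseudo
import Groth.Agent.Lib.H7PseudoNoeth
import Groth.Agent.Lib.LCoh
import Mathlib

/-! `RHom(K, L)` for coherent `K`, `L` on locally Noetherian schemes. -/

universe u
open CategoryTheory Limits AlgebraicGeometry TopologicalSpace Opposite HomologicalComplex Pretriangulated

namespace Groth.Agent.H7RHomCoh
open Groth.Agent H7HomLoc H7FinFree H7FlatCover H7Betti

attribute [local instance] HasDerivedCategory.standard

local notation "c" => ComplexShape.up ℤ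

variable {X : Scheme.{u}}

lemma isCoh_of_iso' {M N : X.Modules} (e : M ≅ N) (h : Coh.IsCoh M) : Coh.IsCoh N := by
  obtain ⟨hq, hf⟩ := (LQcoh.isCoh_iff_finite M).1 h
  refine (LQcoh.isCoh_iff_finite N).2 ⟨H7AffineD.qcoh_of_iso e hq, fun V hV => ?_⟩
  haveI := hf V hV
  refine Module.Finite.of_surjective (LQcoh.appLin e.hom V) fun n => ⟨e.inv.app V n, ?_⟩
  show (e.inv ≫ e.hom).app V n = n
  rw [Iso.inv_hom_id]; rfl

section gen
variable {W : X.Opens}

/-- multiplication by a function on `F_W` -/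
noncomputable def mu (r : Γ(X, W)) : freeU W ⟶ freeU W :=
  (secEquiv W _).symm (r • (usec W : Γ(freeU W, W)))

lemma mu_comp (r : Γ(X, W)) {M : X.Modules} (x : freeU W ⟶ M) :
    secEquiv W M (mu r ≫ x) = r • (secEquiv W M x : Γ(M, W)) := by
  rw [secEquiv_comp, mu, Equiv.apply_symm_apply, secEquiv_eq W x]
  exact Scheme.Modules.Hom.app_smul _ _ _

lemma mu_add (r s : Γ(X, W)) : mu (r + s) = mu r + mu s := by
  apply (secEquiv W _).injective
  rw [secEquiv_eq W (mu r + mu s)]
  show _ = (mu r).app W (usec W) + (mu s).app W (usec W)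
  rw [← secEquiv_eq, ← secEquiv_eq, mu, mu, mu, Equiv.apply_symm_apply, Equiv.apply_symm_apply, Equiv.apply_symm_apply]
  exact add_smul r s _

lemma mu_mul (r s : Γ(X, W)) : mu r ≫ mu s = mu (r * s) := by
  apply (secEquiv W _).injective
  rw [mu_comp, mu, mu, Equiv.apply_symm_apply, Equiv.apply_symm_apply, smul_smul]

lemma mu_zero : mu (0 : Γ(X, W)) = 0 := by
  apply (secEquiv W _).injective
  rw [mu, Equiv.apply_symm_apply, secEquiv_eq W (0 : freeU W ⟶ freeU W)]
  exact zero_smul _ _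

lemma mu_sum {ι : Type*} (s : Finset ι) (f : ι → Γ(X, W)) : mu (∑ i ∈ s, f i) = ∑ i ∈ s, mu (f i) := by
  classical
  induction s using Finset.induction_on with
  | empty => simp [mu_zero]
  | insert i t hi ih => rw [Finset.sum_insert hi, Finset.sum_insert hi, mu_add, ih]

/-- `Hom(Ψ F_W, L)` is finitely generated over `Γ(X, W)` -/
def FG (W : X.Opens) (Ψ : X.Modules ⥤ DCoh.D X) (L : DCoh.D X) : Prop :=
  ∃ (m : ℕ) (s : Fin m → (Ψ.obj (freeU W) ⟶ L)), ∀ y : Ψ.obj (freeU W) ⟶ L,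
    ∃ r : Fin m → Γ(X, W), y = ∑ i, Ψ.map (mu (r i)) ≫ s i

theorem fg_of_natTrans {Ψ Ψ' : X.Modules ⥤ DCoh.D X} (η : Ψ ⟶ Ψ') {L : DCoh.D X}
    (h : Function.Bijective fun x : Ψ'.obj (freeU W) ⟶ L => η.app (freeU W) ≫ x) :
    FG W Ψ L ↔ FG W Ψ' L := by
  constructor
  · rintro ⟨m, s, hs⟩
    choose s' hs' using fun i => h.2 (s i)
    refine ⟨m, s', fun y => ?_⟩
    obtain ⟨r, hr⟩ := hs (η.app _ ≫ y)
    exact ⟨r, h.1 (show η.app _ ≫ y = η.app _ ≫ _ by simp [hr, Preadditive.comp_sum, ← hs'])⟩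
  · rintro ⟨m, s, hs⟩
    refine ⟨m, fun i => η.app _ ≫ s i, fun y => ?_⟩
    obtain ⟨y', rfl⟩ := h.2 y
    obtain ⟨r, hr⟩ := hs y'
    exact ⟨r, by simp [hr, Preadditive.comp_sum]⟩

theorem fg_of_isIso {Ψ Ψ' : X.Modules ⥤ DCoh.D X} (η : Ψ ⟶ Ψ') [IsIso (η.app (freeU W))] {L : DCoh.D X} :
    FG W Ψ L ↔ FG W Ψ' L :=
  fg_of_natTrans η ⟨fun _ _ h => (cancel_epi _).1 h, fun x => ⟨inv (η.app _) ≫ x, IsIso.hom_inv_id_assoc _ _⟩⟩

theorem fg_iso_right {Ψ : X.Modules ⥤ DCoh.D X} {L L' : DCoh.D X} (e : L ≅ L') (h : FG W Ψ L) : FG W Ψ L' := by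
  obtain ⟨m, s, hs⟩ := h
  refine ⟨m, fun i => s i ≫ e.hom, fun y => ?_⟩
  obtain ⟨r, hr⟩ := hs (y ≫ e.inv)
  exact ⟨r, by rw [← cancel_mono e.inv, hr]; simp [Preadditive.sum_comp]⟩

theorem fg_shift {Ψ : X.Modules ⥤ DCoh.D X} {L : DCoh.D X} (i : ℤ) (h : FG W Ψ L) :
    FG W (Ψ ⋙ shiftFunctor _ i) (L⟦i⟧) := by
  obtain ⟨m, s, hs⟩ := h
  refine ⟨m, fun l => (shiftFunctor _ i).map (s l), fun y => ?_⟩
  obtain ⟨y', rfl⟩ := (shiftFunctor (DCoh.D X) i).map_surjective y
  obtain ⟨r, rfl⟩ := hs y'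
  exact ⟨r, by simp [Functor.map_sum]⟩

theorem fg_mid [IsNoetherianRing Γ(X, W)] {Ψ₁ Ψ₂ Ψ₃ : X.Modules ⥤ DCoh.D X} [Ψ₁.Additive] [Ψ₂.Additive]
    (α : Ψ₁ ⟶ Ψ₂) (β : Ψ₂ ⟶ Ψ₃) {L : DCoh.D X}
    (hex : ∀ y : Ψ₂.obj (freeU W) ⟶ L, α.app (freeU W) ≫ y = 0 → ∃ z, y = β.app (freeU W) ≫ z)
    (h₁ : FG W Ψ₁ L) (h₃ : FG W Ψ₃ L) : FG W Ψ₂ L := by
  obtain ⟨m, s, hs⟩ := h₁
  obtain ⟨m', s', hs'⟩ := h₃
  let S : Submodule Γ(X, W) (Fin m → Γ(X, W)) :=
    { carrier := {v | ∃ y, α.app (freeU W) ≫ y = ∑ i, Ψ₁.map (mu (v i)) ≫ s i}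
      add_mem' := by
        rintro v v' ⟨y, hy⟩ ⟨y', hy'⟩
        exact ⟨y + y', by simp [Preadditive.comp_add, hy, hy', mu_add, Functor.map_add, Preadditive.add_comp,
          Finset.sum_add_distrib]⟩
      zero_mem' := ⟨0, by simp [mu_zero]⟩
      smul_mem' := by
        rintro a v ⟨y, hy⟩
        refine ⟨Ψ₂.map (mu a) ≫ y, ?_⟩
        rw [← Category.assoc, ← α.naturality, Category.assoc, hy, Preadditive.comp_sum]
        simp [← Functor.map_comp_assoc, mu_mul] }
  obtain ⟨q, v, hv⟩ := Submodule.fg_iff_exists_fin_generating_family.1 (IsNoetherian.noetherian S)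
  have hvS : ∀ l, v l ∈ S := fun l => hv ▸ Submodule.subset_span ⟨l, rfl⟩
  choose t ht using hvS
  refine ⟨q + m', Fin.append t (fun i => β.app (freeU W) ≫ s' i), fun y => ?_⟩
  obtain ⟨w, hw⟩ := hs (α.app (freeU W) ≫ y)
  obtain ⟨a, ha⟩ := (Submodule.mem_span_range_iff_exists_fun _).1 (hv.symm ▸ (show w ∈ S from ⟨y, hw⟩) : w ∈ Submodule.span _ (Set.range v))
  have h0 : α.app (freeU W) ≫ (y - ∑ l, Ψ₂.map (mu (a l)) ≫ t l) = 0 := by
    rw [Preadditive.comp_sub, hw, sub_eq_zero, Preadditive.comp_sum]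
    calc ∑ i, Ψ₁.map (mu (w i)) ≫ s i = ∑ i, Ψ₁.map (mu (∑ l, a l * v l i)) ≫ s i := by
          refine Finset.sum_congr rfl fun i _ => ?_
          rw [← ha]; simp
      _ = ∑ l, ∑ i, Ψ₁.map (mu (a l)) ≫ Ψ₁.map (mu (v l i)) ≫ s i := by
          rw [Finset.sum_comm]
          refine Finset.sum_congr rfl fun i _ => ?_
          simp [mu_sum, Functor.map_sum, Preadditive.sum_comp, ← Functor.map_comp_assoc, mu_mul]
      _ = _ := by
          refine Finset.sum_congr rfl fun l _ => ?_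
          rw [← Category.assoc, ← α.naturality, Category.assoc, ht, Preadditive.comp_sum]
  obtain ⟨z, hz⟩ := hex _ h0
  obtain ⟨d, rfl⟩ := hs' z
  refine ⟨Fin.append a d, ?_⟩
  rw [Fin.sum_univ_add]
  simp only [Fin.append_left, Fin.append_right]
  rw [sub_eq_iff_eq_add] at hz
  rw [hz, Preadditive.comp_sum, add_comm]
  congr 1
  exact Finset.sum_congr rfl fun i _ => by rw [← Category.assoc, ← β.naturality, Category.assoc]

end gen

instance additive_Φ (E : CochainComplex X.Modules ℤ) : (Φ E).Additive where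
  map_add {M N f g} := by
    refine (congrArg DerivedCategory.Q.map (HomologicalComplex.hom_ext _ _ fun i => ?_)).trans DerivedCategory.Q.map_add
    show ((DCoh.tensorBi (X := X)).map (f + g)).app (E.X i) = _
    rw [Functor.map_add]; rfl

variable {W : X.Opens} [IsNoetherianRing Γ(X, W)] {L : DCoh.D X}

lemma fg_base (hW : IsAffineOpen W) (hL : DCoh.IsCohD L) (k : ℤ) (j : ℤ) :
    FG W (Φ ((single X.Modules c k).obj (Coh.structureModule X))) (L⟦j⟧) := by
  have h0 : ∀ L' : DCoh.D X, DCoh.IsCohD L' → FG W (DerivedCategory.singleFunctor X.Modules 0) L' := by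
    intro L' hL'
    let H := (DerivedCategory.homologyFunctor X.Modules 0).obj L'
    haveI : H.IsQuasicoherent := (hL' 0).1
    haveI : SheafOfModules.IsFiniteType (R := X.ringCatSheaf) H := (hL' 0).2
    haveI := LQcoh.finite_sections H hW
    obtain ⟨m, g, hg⟩ := Module.Finite.exists_fin (R := Γ(X, W)) (M := Γ(H, W))
    have hb := H7AffineD.psi_bijective L' (fun i => (hL' i).1) ⟨W, hW⟩
    choose s hs using fun i => hb.2 ((secEquiv W H).symm (g i))
    refine ⟨m, s, fun y => ?_⟩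
    obtain ⟨r, hr⟩ := (Submodule.mem_span_range_iff_exists_fun _).1 (hg ▸ Submodule.mem_top :
      secEquiv W H (H7Unbounded.psi _ L' y) ∈ Submodule.span Γ(X, W) (Set.range g))
    refine ⟨r, hb.1 ((secEquiv W H).injective (hr.symm.trans ?_))⟩
    rw [map_sum, secEquiv_eq W (∑ i, _)]
    have hsum : ∀ (f : Fin m → (freeU W ⟶ H)),
        (∑ i, f i).app W (usec W) = ∑ i, (f i).app W (usec W) := fun f => by
      classical
      induction (Finset.univ : Finset (Fin m)) using Finset.induction_on with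
      | empty => rfl
      | insert i t hi ih => rw [Finset.sum_insert hi, Finset.sum_insert hi, ← ih]; rfl
    rw [hsum]
    refine Finset.sum_congr rfl fun i _ => ?_
    refine Eq.trans ?_ (secEquiv_eq W _)
    have hn : H7Unbounded.psi (freeU W) L' ((DerivedCategory.singleFunctor X.Modules 0).map (mu (r i)) ≫ s i) =
        mu (r i) ≫ H7Unbounded.psi (freeU W) L' (s i) := by
      show (DerivedCategory.singleFunctorCompHomologyFunctorIso X.Modules 0).inv.app _ ≫ _ =
        _ ≫ (DerivedCategory.singleFunctorCompHomologyFunctorIso X.Modules 0).inv.app _ ≫ _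
      rw [Functor.map_comp]
      exact ((Category.assoc _ _ _).symm.trans (congrArg (· ≫ _)
        ((DerivedCategory.singleFunctorCompHomologyFunctorIso X.Modules 0).inv.naturality (mu (r i))).symm)).trans
        (Category.assoc _ _ _)
    refine Eq.trans ?_ (congrArg (secEquiv W H) hn).symm
    refine Eq.trans ?_ (mu_comp _ _).symm
    exact congrArg (r i • ·) ((congrArg (secEquiv W H) (hs i)).trans (Equiv.apply_symm_apply _ _)).symm
  have hLc : DCoh.IsCohD (L⟦j + k⟧) := fun i => by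
    have e := ((DerivedCategory.homologyFunctor X.Modules 0).shiftIso (j + k) i (j + k + i) rfl).app L
    exact isCoh_of_iso' e.symm (hL _)
  refine (fg_of_isIso (baseIso k ≪≫ (DerivedCategory.singleFunctorIsoCompQ X.Modules k).symm).hom).2 ?_
  let η : DerivedCategory.singleFunctor X.Modules k ≅ DerivedCategory.singleFunctor X.Modules 0 ⋙ shiftFunctor _ (-k) :=
    ((DerivedCategory.singleFunctors X.Modules).shiftIso (-k) k 0 (by omega)).symm
  exact (fg_of_isIso η.hom).2 (fg_iso_right ((shiftFunctorAdd' (DCoh.D X) (j + k) (-k) j (by omega)).app L).symm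
    (fg_shift (-k) (h0 _ hLc)))

/-- the class with finitely generated derived sections -/
abbrev Fin' (W : X.Opens) (L : DCoh.D X) (E : CochainComplex X.Modules ℤ) : Prop := ∀ j : ℤ, FG W (Φ E) (L⟦j⟧)

omit [IsNoetherianRing Γ(X, W)] in
lemma fin_quasiIso {E E' : CochainComplex X.Modules ℤ} (q : E ⟶ E') [QuasiIso q] : Fin' W L E ↔ Fin' W L E' := by
  haveI := isIso_Φmap q (flat_freeU W)
  exact forall_congr' fun j => fg_of_isIso (Φmap q)

omit [IsNoetherianRing Γ(X, W)] in
lemma fin_of_isZero {E : CochainComplex X.Modules ℤ} (hE : IsZero E) : Fin' W L E := fun j =>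
  ⟨0, Fin.elim0, fun y => ⟨Fin.elim0, (Functor.map_isZero DerivedCategory.Q
    (Functor.map_isZero ((H7TensorFree.tl (freeU W)).mapHomologicalComplex c) hE)).eq_of_src _ _⟩⟩

lemma fin_ses (S : ShortComplex (CochainComplex X.Modules ℤ))
    (hs : ∀ i, Nonempty (S.map (HomologicalComplex.eval X.Modules c i)).Splitting)
    (h₁ : Fin' W L S.X₁) (h₃ : Fin' W L S.X₃) : Fin' W L S.X₂ := fun j =>
  fg_mid (Φmap S.f) (Φmap S.g) (fun y hy => Triangle.yoneda_exact₂ _
    (DerivedCategory.triangleOfSES_distinguished (shortExact_map hs (H7TensorFree.tl (freeU W)))) y hy) (h₁ j) (h₃ j)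

lemma fin_sigma (M : X.Modules) (k : ℤ) (hM : Fin' W L ((single X.Modules c k).obj M)) :
    ∀ n : ℕ, Fin' W L ((single X.Modules c k).obj (∐ fun _ : Fin n => M))
  | 0 => fin_of_isZero ((single X.Modules c k).map_isZero
      ((IsZero.iff_id_eq_zero _).2 (Sigma.hom_ext _ _ fun i => i.elim0)))
  | n + 1 => by
    let ι' : ∀ i : Fin (n + 1), M ⟶ ∐ fun _ : Fin (n + 1) => M := Sigma.ι (fun _ : Fin (n + 1) => M)
    let ι₀ : ∀ i : Fin n, M ⟶ ∐ fun _ : Fin n => M := Sigma.ι (fun _ : Fin n => M)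
    let S : ShortComplex X.Modules := ShortComplex.mk (X₁ := ∐ fun _ : Fin n => M)
      (X₂ := ∐ fun _ : Fin (n + 1) => M) (X₃ := M) (Sigma.desc fun i => ι' i.castSucc)
      (Sigma.desc (Fin.lastCases (𝟙 M) (fun _ => 0))) (Sigma.hom_ext _ _ fun i => by simp [ι'])
    let s : S.Splitting :=
      { r := Sigma.desc (Fin.lastCases 0 ι₀)
        s := ι' (Fin.last n)
        f_r := Sigma.hom_ext _ _ fun i => by simp [S, ι', ι₀]
        s_g := by simp [S, ι']
        id := Sigma.hom_ext _ _ fun i => by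
          induction i using Fin.lastCases with
          | last => simp [S, ι']
          | cast i => simp [S, ι', ι₀] }
    exact fin_ses (S.map (single X.Modules c k))
      (fun i => ⟨s.map (single X.Modules c k ⋙ HomologicalComplex.eval X.Modules c i)⟩) (fin_sigma M k hM n) hM

lemma fin_bounded (a : ℤ) : ∀ (n : ℕ) (E : CochainComplex X.Modules ℤ),
    (∀ k, k < a ∨ a + n ≤ k → IsZero (E.X k)) → (∀ k, Fin' W L ((single X.Modules c k).obj (E.X k))) → Fin' W L E
  | 0, E, hz, _ => fin_of_isZero ((IsZero.iff_id_eq_zero _).2 (HomologicalComplex.hom_ext _ _ fun k =>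
      (hz k (by omega)).eq_of_src _ _))
  | n + 1, E, hz, ht => by
    let g' : E ⟶ (single X.Modules c a).obj (E.X a) := mkHomToSingle (𝟙 _) (fun i hi => by
      simp only [ComplexShape.up_Rel] at hi
      exact (hz i (by omega)).eq_of_src _ _)
    let T := H7StupidGE.trunc E (a + 1)
    have hw : H7StupidGE.ι E (a + 1) ≫ g' = 0 := to_single_hom_ext
      ((H7StupidGE.isZero_below (show a < a + 1 by omega)).eq_of_src _ _)
    have hg : ∀ i, i = a → IsIso (g'.f i) := fun i hi => by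
      subst hi
      simp only [g', mkHomToSingle_f]
      infer_instance
    let S := ShortComplex.mk (H7StupidGE.ι E (a + 1)) g' hw
    refine fin_ses S (fun i => ?_) ?_ (ht a)
    · by_cases hi : i = a
      · haveI : IsIso (S.map (HomologicalComplex.eval X.Modules c i)).g := hg i hi
        exact ⟨ShortComplex.Splitting.ofIsZeroOfIsIso _ (H7StupidGE.isZero_below (by omega)) this⟩
      · haveI : IsIso (S.map (HomologicalComplex.eval X.Modules c i)).f := by
          show IsIso (H7StupidGE.incl E (a + 1) i)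
          by_cases h1 : a + 1 ≤ i
          · exact H7StupidGE.incl_isIso h1
          · exact (H7StupidGE.isZero_below (by omega)).isIso (hz i (by omega)) _
        exact ⟨ShortComplex.Splitting.ofIsIsoOfIsZero _ this (HomologicalComplex.isZero_single_obj_X c a _ i hi)⟩
    · refine fin_bounded (a + 1) n T (fun k hk => ?_) (fun k => ?_)
      · rcases hk with hk | hk
        · exact H7StupidGE.isZero_below hk
        · haveI : Mono (show T.X k ⟶ E.X k from H7StupidGE.incl E (a + 1) k) := H7StupidGE.mono_incl E (a + 1) k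
          exact (hz k (by omega)).of_mono (show T.X k ⟶ E.X k from H7StupidGE.incl E (a + 1) k)
      · by_cases hk : a + 1 ≤ k
        · haveI := H7StupidGE.incl_isIso (K := E) hk
          exact (fin_quasiIso ((single X.Modules c k).mapIso (asIso (H7StupidGE.incl E (a + 1) k))).hom).2 (ht k)
        · exact fin_of_isZero ((single X.Modules c k).map_isZero (H7StupidGE.isZero_below (by omega)))

omit [IsNoetherianRing Γ(X, W)] in
lemma fin_extR (E : CochainComplex X.Modules ℤ) :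
    Fin' W L (((H7MVExt.extR W).mapHomologicalComplex c).obj E) ↔ Fin' W L E := by
  let q : ((H7MVExt.extR W).mapHomologicalComplex c).obj E ⟶ E :=
    { f := fun i => H7MVExt.cApp W (E.X i)
      comm' := fun i j _ => ((H7MVExt.cNat W).naturality (E.d i j)).symm }
  haveI : ∀ i, IsIso (((H7TensorFree.tl (freeU W)).mapHomologicalComplex c).map q |>.f i) := fun i =>
    H7TensorFree.isIso_tl_map W _ fun x hx => isIso_stalk_cApp hx _
  haveI := HomologicalComplex.Hom.isIso_of_components (((H7TensorFree.tl (freeU W)).mapHomologicalComplex c).map q)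
  haveI : IsIso ((Φmap q).app (freeU W)) := Functor.map_isIso DerivedCategory.Q _
  exact forall_congr' fun j => fg_of_isIso (Φmap q)

theorem fin_model (hW : IsAffineOpen W) (hL : DCoh.IsCohD L) {P : CochainComplex W.toScheme.Modules ℤ} {a b : ℤ}
    (hP : DCoh.VanishesOutside P a b) (hfree : ∀ k, IsFree (P.X k)) :
    Fin' W L (((CxOX.extZero W.ι).mapHomologicalComplex c).obj P) := by
  obtain ⟨eO⟩ := H7AffPseudo.nonempty_restrict_structure W.ι
  refine fin_bounded a (b + 1 - a).toNat _ (fun k hk => (CxOX.extZero W.ι).map_isZero (hP k (by omega)))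
    fun k => ?_
  obtain ⟨n, ⟨e⟩⟩ := hfree k
  haveI : PreservesColimitsOfSize.{0, 0} (CxOX.extZero W.ι) := (CxOX.extZeroAdj W.ι).leftAdjoint_preservesColimits
  let e₁ : (CxOX.extZero W.ι).obj (P.X k) ≅ ∐ fun _ : Fin n => (H7MVExt.extR W).obj (Coh.structureModule X) :=
    (CxOX.extZero W.ι).mapIso (e ≪≫ Sigma.mapIso fun _ => eO.symm) ≪≫ PreservesCoproduct.iso _ _
  refine (fin_quasiIso ((single X.Modules c k).mapIso e₁).hom).2 (fin_sigma _ k ?_ n)
  exact (fin_quasiIso ((singleMapHomologicalComplex (H7MVExt.extR W) c k).app (Coh.structureModule X)).hom).1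
    ((fin_extR _).2 (fg_base hW hL k))

omit [IsNoetherianRing Γ(X, W)] in
/-- finitely many generators of `Hom(F_W[-n], RHom(K, L))` give coherence -/
theorem finite_HD (K : CochainComplex X.Modules ℤ) [DCoh.HasLTensorCx K] [DCoh.HasRSheafHom K] (L : DCoh.D X)
    (hA : DCoh.IsQCohD ((DCoh.RSheafHom K).obj L)) (hW : IsAffineOpen W) (n : ℤ)
    (h : FG W (Φ K) (L⟦n⟧)) : Module.Finite Γ(X, W) Γ(DCoh.HD ((DCoh.RSheafHom K).obj L) n, W) := by
  haveI := H7RHomQCoh.isIso_compare K n (flat_freeU W)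
  let A := (DCoh.RSheafHom K).obj L
  let adj := DCoh.RSheafHomAdj K
  haveI : (DCoh.LTensorCx K).Additive :=
    haveI : PreservesColimitsOfSize.{0, 0} (DCoh.LTensorCx K) := adj.leftAdjoint_preservesColimits
    haveI := preservesBinaryBiproducts_of_preservesBinaryCoproducts (DCoh.LTensorCx K)
    Functor.additive_of_preservesBinaryBiproducts _
  haveI : (DCoh.RSheafHom K).Additive := adj.right_adjoint_additive
  have h1 : FG W ((single X.Modules c n ⋙ DerivedCategory.Q) ⋙ DCoh.LTensorCx K) L :=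
    (fg_of_isIso (H7RHomQCoh.compare K n)).2
      (fg_iso_right ((shiftFunctorCompIsoId (DCoh.D X) n (-n) (by omega)).app L) (fg_shift (-n) h))
  have h2 : FG W (single X.Modules c n ⋙ DerivedCategory.Q) A := by
    obtain ⟨m, s, hs⟩ := h1
    refine ⟨m, fun i => adj.homEquiv _ _ (s i), fun y => ?_⟩
    obtain ⟨r, hr⟩ := hs ((adj.homEquiv _ _).symm y)
    refine ⟨r, ?_⟩
    rw [Equiv.symm_apply_eq] at hr
    rw [hr, Adjunction.homEquiv_unit, Functor.map_sum, Preadditive.comp_sum]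
    refine Finset.sum_congr rfl fun i _ => ?_
    refine Eq.trans ?_ (adj.homEquiv_naturality_left _ _)
    rw [Adjunction.homEquiv_unit]
    rfl
  have h3 : FG W (DerivedCategory.singleFunctor X.Modules 0) (A⟦n⟧) := by
    let η : DerivedCategory.singleFunctor X.Modules n ⋙ shiftFunctor _ n ≅ DerivedCategory.singleFunctor X.Modules 0 :=
      (DerivedCategory.singleFunctors X.Modules).shiftIso n 0 n (by omega)
    exact (fg_of_isIso η.hom).1 (fg_shift n ((fg_of_isIso (DerivedCategory.singleFunctorIsoCompQ X.Modules n).hom).2 h2))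
  obtain ⟨m, s, hs⟩ := h3
  have hAn : DCoh.IsQCohD (A⟦n⟧) := isQCohD_shift hA n
  have hb := H7AffineD.psi_bijective (A⟦n⟧) hAn ⟨W, hW⟩
  let H := (DerivedCategory.homologyFunctor X.Modules 0).obj (A⟦n⟧)
  classical
  have hfin : Module.Finite Γ(X, W) Γ(H, W) := by
    refine ⟨⟨(Finset.univ.image fun i => secEquiv W H (H7Unbounded.psi _ _ (s i))),
      eq_top_iff.2 fun z _ => ?_⟩⟩
    obtain ⟨y, hy⟩ := hb.2 ((secEquiv W H).symm z)
    obtain ⟨r, rfl⟩ := hs y
    have hn : ∀ i, H7Unbounded.psi (freeU W) (A⟦n⟧) ((DerivedCategory.singleFunctor X.Modules 0).map (mu (r i)) ≫ s i) =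
        mu (r i) ≫ H7Unbounded.psi (freeU W) (A⟦n⟧) (s i) := fun i => by
      show (DerivedCategory.singleFunctorCompHomologyFunctorIso X.Modules 0).inv.app _ ≫ _ =
        _ ≫ (DerivedCategory.singleFunctorCompHomologyFunctorIso X.Modules 0).inv.app _ ≫ _
      rw [Functor.map_comp]
      exact ((Category.assoc _ _ _).symm.trans (congrArg (· ≫ _)
        ((DerivedCategory.singleFunctorCompHomologyFunctorIso X.Modules 0).inv.naturality (mu (r i))).symm)).trans
        (Category.assoc _ _ _)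
    have hz := congrArg (secEquiv W H) hy
    rw [Equiv.apply_symm_apply, map_sum] at hz
    rw [← hz]
    let E : (freeU W ⟶ H) →+ Γ(H, W) :=
      { toFun := fun f => secEquiv W H f
        map_zero' := by rw [secEquiv_eq]; rfl
        map_add' := fun f g => by rw [secEquiv_eq, secEquiv_eq, secEquiv_eq]; rfl }
    show E _ ∈ _
    rw [map_sum]
    refine Submodule.sum_mem _ fun i _ => ?_
    show secEquiv W H _ ∈ _
    rw [(congrArg (secEquiv W H) (hn i)).trans (mu_comp _ _)]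
    exact Submodule.smul_mem _ _ (Submodule.subset_span (Finset.mem_coe.2 (Finset.mem_image_of_mem _ (Finset.mem_univ i))))
  let e : H ≅ DCoh.HD A n := ((DerivedCategory.homologyFunctor X.Modules 0).shiftIso n 0 n (by omega)).app A
  refine Module.Finite.of_surjective (LQcoh.appLin e.hom W) fun z => ⟨e.inv.app W z, ?_⟩
  show (e.inv ≫ e.hom).app W z = z
  rw [Iso.inv_hom_id]; rfl

section main

/-- free approximations of a pseudo-coherent complex, extended by zero -/
theorem exists_approx {K : CochainComplex X.Modules ℤ} {m : ℤ} (hK : DCoh.IsPseudoCoherentD m (DCoh.toD X K)) (x : X) :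
    ∃ (W : X.Opens) (_ : x ∈ W) (_ : IsAffineOpen W) (P : CochainComplex W.toScheme.Modules ℤ) (a b : ℤ)
      (_ : DCoh.VanishesOutside P a b) (_ : ∀ k, IsFree (P.X k)) (A : CochainComplex X.Modules ℤ) (ψ : A ⟶ K)
      (t : A ⟶ ((CxOX.extZero W.ι).mapHomologicalComplex c).obj P) (_ : QuasiIso t),
      ∀ (U : X.Opens) (_ : U ≤ W) (L : DCoh.D X) (b' : ℤ) [L.IsGE b'] (_ : m < b'),
        Function.Bijective fun y : (Φ K).obj (freeU U) ⟶ L => (Φmap ψ).app (freeU U) ≫ y := by
  obtain ⟨V, hxV, hV⟩ := hK x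
  obtain ⟨E, α, hE, hiso, hepi⟩ := hV K ⟨Iso.refl _⟩
  obtain ⟨E'', s, hs, φ, hφ⟩ := DerivedCategory.right_fac α
  haveI : QuasiIso s := (DerivedCategory.isIso_Q_map_iff_quasiIso _ _).1 hs
  have hQφ : DerivedCategory.Q.map φ = DerivedCategory.Q.map s ≫ α := by rw [hφ, IsIso.hom_inv_id_assoc]
  have hcone := H7RHomPseudo.exactAt_cone φ s α hQφ m hiso hepi
  obtain ⟨⟨a', b', hab⟩, hf⟩ := hE
  choose O hO hfree using fun k : Finset.Icc a' b' => (isFinLocFree_iff (E.X k)).1 (hf k) ⟨x, hxV⟩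
  let O' : (V : Scheme.{u}).Opens := ⟨⋂ k, (O k : Set (V : Scheme.{u})), isOpen_iInter_of_finite fun k => (O k).2⟩
  obtain ⟨W, hxW, hW, hW'⟩ : ∃ W : X.Opens, x ∈ W ∧ IsAffineOpen W ∧ W ≤ V.ι ''ᵁ O' := by
    obtain ⟨_, ⟨W, hW, rfl⟩, hxW, hW'⟩ := X.isBasis_affineOpens.exists_subset_of_mem_open
      (show x ∈ V.ι ''ᵁ O' from ⟨⟨x, hxV⟩, Set.mem_iInter.2 hO, rfl⟩) (V.ι ''ᵁ O').2
    exact ⟨W, hxW, hW, hW'⟩
  have hWV : W ≤ V := fun z hz => by
    obtain ⟨z', -, rfl⟩ := hW' hz
    exact z'.2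
  let θ := X.homOfLE hWV
  have hfreeW : ∀ k, IsFree (((H7LocLift.rst θ).obj E).X k) := fun k => by
    by_cases hk : k ∈ Finset.Icc a' b'
    · have hr : Set.range θ.base ⊆ Set.range (O ⟨k, hk⟩).ι.base := by
        rintro _ ⟨z, rfl⟩
        obtain ⟨z', hz', e⟩ := hW' z.2
        refine ⟨⟨z', Set.mem_iInter.1 hz' ⟨k, hk⟩⟩, ?_⟩
        apply Subtype.ext
        exact e.trans (congrArg (fun t : (W : Scheme.{u}) ⟶ X => t.base z) (X.homOfLE_ι hWV)).symm
      let h := IsOpenImmersion.lift (O ⟨k, hk⟩).ι θ hr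
      have hh : h ≫ (O ⟨k, hk⟩).ι = θ := IsOpenImmersion.lift_fac _ _ hr
      exact ((hfree ⟨k, hk⟩).pullback h).of_iso ((Scheme.Modules.pullbackComp h (O ⟨k, hk⟩).ι).app (E.X k) ≪≫
        eqToIso (by rw [hh]) ≪≫ ((Scheme.Modules.restrictFunctorIsoPullback θ).app (E.X k)).symm)
    · exact isFree_of_isZero ((Scheme.Modules.restrictFunctor θ).map_isZero
        (hab k (by simp only [Finset.mem_Icc] at hk; omega)))
  let G : (V : Scheme.{u}).Modules ⥤ X.Modules := Scheme.Modules.restrictFunctor θ ⋙ CxOX.extZero W.ι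
  haveI : (CxOX.extZero W.ι).Additive := (CxOX.extZeroAdj W.ι).left_adjoint_additive
  haveI : G.Additive := inferInstanceAs ((Scheme.Modules.restrictFunctor θ ⋙ CxOX.extZero W.ι).Additive)
  let GC := G.mapHomologicalComplex c
  let eB : GC.obj ((DCoh.restrictCx V).obj K) ≅ ((H7MVExt.extR W).mapHomologicalComplex c).obj K :=
    ((CxOX.extZero W.ι).mapHomologicalComplex c).mapIso ((H7LocLift.rstComp θ V.ι W.ι (X.homOfLE_ι hWV)).app K)
  let q : ((H7MVExt.extR W).mapHomologicalComplex c).obj K ⟶ K :=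
    { f := fun i => H7MVExt.cApp W (K.X i)
      comm' := fun i j _ => ((H7MVExt.cNat W).naturality (K.d i j)).symm }
  haveI : PreservesFiniteLimits G := comp_preservesFiniteLimits _ _
  haveI : PreservesFiniteColimits G := comp_preservesFiniteColimits _ _
  haveI : G.PreservesHomology := inferInstance
  let t : GC.obj E'' ⟶ ((CxOX.extZero W.ι).mapHomologicalComplex c).obj ((H7LocLift.rst θ).obj E) :=
    ((CxOX.extZero W.ι).mapHomologicalComplex c).map ((H7LocLift.rst θ).map s)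
  have ht : QuasiIso t := inferInstanceAs (QuasiIso (((CxOX.extZero W.ι).mapHomologicalComplex c).map ((H7LocLift.rst θ).map s)))
  have hab' : DCoh.VanishesOutside ((H7LocLift.rst θ).obj E) a' b' := fun k hk =>
    (Scheme.Modules.restrictFunctor θ).map_isZero (hab k hk)
  refine ⟨W, hxW, hW, (H7LocLift.rst θ).obj E, a', b', hab', hfreeW, GC.obj E'', GC.map φ ≫ eB.hom ≫ q, t, ht,
    fun U hU L b _ hb => ?_⟩
  exact H7RHomPseudo.bijective_Φ G φ (eB.hom ≫ q) m hcone U (fun i => by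
      have h8 := H7TensorFree.isIso_tl_map U (q.f i) fun y hy => isIso_stalk_cApp (hU hy) _
      rw [HomologicalComplex.comp_f, Functor.map_comp]
      exact @IsIso.comp_isIso _ _ _ _ _ _ _ (@Functor.map_isIso _ _ _ _ _ _ (H7TensorFree.tl (H7FlatCover.freeU U)) _
        ((HomologicalComplex.Hom.isoApp eB i).isIso_hom)) h8) L b hb

/-- vanishing below -/
theorem isGE_of_vanish (A : DCoh.D X) (a : ℤ)
    (h : ∀ (n : ℤ) (_ : n < a) (V : X.Opens) (y : DerivedCategory.Q.obj ((single X.Modules c n).obj (freeU V)) ⟶ A), y = 0) :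
    A.IsGE a := by
  obtain ⟨I, hI, ⟨eI⟩⟩ := H5KApps.exists_kInj_iso H5KApps.enoughKInj_of_grothendieck A
  refine (DerivedCategory.isGE_iff _ _).2 fun n hn => ?_
  let O₀ : CochainComplex X.Modules ℤ := (HasZeroObject.zero' (CochainComplex X.Modules ℤ)).1
  have hO₀ : IsZero O₀ := isZero_zero _
  have hz : ∀ k, IsZero (O₀.X k) := fun k => (HomologicalComplex.eval X.Modules c k).map_isZero hO₀
  have hq : QuasiIsoAt (0 : O₀ ⟶ I) n := by
    refine H7LocalQis.quasiIsoAt_of_local _ n (fun x U hx y hy => ?_) (fun x U hx z w _ _ => ?_)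
    · let φ : freeU U ⟶ I.X n := (secEquiv U _).symm y
      have hφ : φ ≫ I.d n (n + 1) = 0 := by
        refine (secEquiv U _).injective ((secEquiv_comp _ _ _).trans (Eq.trans ?_ (secEquiv_eq _ _).symm))
        rw [Equiv.apply_symm_apply]
        exact hy.trans rfl
      have h0 : H7HomQCoh.mk n φ hφ = 0 := by
        rw [← cancel_mono eI.hom, zero_comp]
        exact h n hn U _
      obtain ⟨w, hw⟩ := H7HomQCoh.exists_of_mk_eq_zero hI n φ hφ h0
      have hw' := congrArg (secEquiv U (I.X n)) hw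
      rw [secEquiv_comp, Equiv.apply_symm_apply] at hw'
      refine ⟨U, hx, le_rfl, 0, -(secEquiv U _ w), map_zero _, ?_⟩
      show (0 : Γ(I.X n, U)) - LQcoh.res (I.X n) le_rfl y = (I.d (n - 1) n).app U (-(secEquiv U _ w))
      rw [map_neg, hw', zero_sub]
      exact congrArg Neg.neg (LCech.rs_self (I.X n).presheaf _ _)
    · refine ⟨U, hx, le_rfl, 0, ?_⟩
      exact congrArg (fun φ : O₀.X n ⟶ O₀.X n => φ.app U (LQcoh.res (O₀.X n) le_rfl z)) ((IsZero.iff_id_eq_zero _).1 (hz n))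
        |>.symm.trans rfl |> fun e => (map_zero _).trans e
  haveI := hq
  have hO : IsZero (O₀.homology n) :=
    (exactAt_iff_isZero_homology _ n).1 (ShortComplex.exact_of_isZero_X₂ _ (hz n))
  exact (hO.of_iso ((DerivedCategory.homologyFunctor _ n).mapIso eI.symm ≪≫
    (DerivedCategory.homologyFunctorFactors _ n).app I ≪≫ (isoOfQuasiIsoAt (0 : O₀ ⟶ I) n).symm))

/-- a bounded below `L` gives a bounded below `RHom(K, L)` for `K` bounded above -/
theorem rhom_isGE (K : CochainComplex X.Modules ℤ) (b : ℤ) [(DCoh.toD X K).IsLE b] [DCoh.HasLTensorCx K]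
    [DCoh.HasRSheafHom K] (L : DCoh.D X) (a : ℤ) [L.IsGE a] : ((DCoh.RSheafHom K).obj L).IsGE (a - b) := by
  refine isGE_of_vanish _ _ fun n hn V y => ?_
  haveI := H7RHomQCoh.isIso_compare K n (flat_freeU V)
  let adj := DCoh.RSheafHomAdj K
  haveI := H7TensorFree.preservesHomology_tl (flat_freeU V)
  haveI hΦ : ((Φ K).obj (freeU V)).IsLE b := by
    show (DerivedCategory.Q.obj _).IsLE b
    rw [DerivedCategory.isLE_Q_obj_iff, CochainComplex.isLE_iff]
    intro i hi
    have h1 : K.ExactAt i := (exactAt_iff_isZero_homology _ i).2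
      ((DerivedCategory.isZero_of_isLE (DCoh.toD X K) b i hi).of_iso
        ((DerivedCategory.homologyFunctorFactors _ i).app K).symm)
    exact (exactAt_iff _ i).2 (((exactAt_iff _ i).1 h1).map (H7TensorFree.tl (freeU V)))
  haveI hs : (((Φ K).obj (freeU V))⟦(-n : ℤ)⟧).IsLE (b + n) :=
    DerivedCategory.TStructure.t.isLE_shift _ b (-n) (b + n) (by omega)
  refine (adj.homEquiv _ _).symm.injective ?_
  rw [Adjunction.homEquiv_counit _ _ _ (0 : _ ⟶ _)]
  haveI : (DCoh.LTensorCx K).PreservesZeroMorphisms :=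
    haveI : PreservesColimitsOfSize.{0, 0} (DCoh.LTensorCx K) := adj.leftAdjoint_preservesColimits
    haveI := preservesBinaryBiproducts_of_preservesBinaryCoproducts (DCoh.LTensorCx K)
    haveI : (DCoh.LTensorCx K).Additive := Functor.additive_of_preservesBinaryBiproducts _
    inferInstance
  rw [Functor.map_zero, zero_comp, ← cancel_epi (inv ((H7RHomQCoh.compare K n).app (freeU V))), comp_zero]
  exact DerivedCategory.TStructure.t.zero_of_isLE_of_isGE
    (show ((Φ K).obj (freeU V))⟦(-n : ℤ)⟧ ⟶ L from inv ((H7RHomQCoh.compare K n).app (freeU V)) ≫ (adj.homEquiv _ _).symm y)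
    (b + n) a (by omega) hs inferInstance

/-- pseudo-coherence of bounded above coherent objects -/
theorem isPseudo_of_coh [IsLocallyNoetherian X] (E : DCoh.D X) (b : ℤ) [E.IsLE b] (hE : DCoh.IsCohD E) (m : ℤ) :
    DCoh.IsPseudoCoherentD m E := by
  refine H7PseudoNoeth.pseudo_of_cover fun x => ?_
  obtain ⟨U, hU, hxU⟩ : ∃ U : X.Opens, IsAffineOpen U ∧ x ∈ U := by
    obtain ⟨_, ⟨U, hU, rfl⟩, hxU, -⟩ := X.isBasis_affineOpens.exists_subset_of_mem_open (Set.mem_univ x) isOpen_univ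
    exact ⟨U, hU, hxU⟩
  haveI : IsNoetherianRing Γ(X, U) := IsLocallyNoetherian.component_noetherian ⟨U, hU⟩
  haveI := IsAffineOpen.isOpenImmersion_fromSpec hU
  haveI : PreservesFiniteLimits (tilde.functor Γ(X, U)) := LQcoh.preservesFiniteLimits_tilde _
  refine ⟨_, hU.fromSpec, inferInstance, hU.range_fromSpec ▸ hxU, (H7PseudoNoeth.pseudo_spec_iff (R := Γ(X, U)) _
    (H7QCoh.isQCohD_restrict hU.fromSpec fun i => (hE i).1) m).2 ⟨⟨b, fun i hi => ?_⟩, fun i hi => ?_⟩⟩
  · exact ((Scheme.Modules.restrictFunctor hU.fromSpec).map_isZero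
      (DerivedCategory.isZero_of_isLE E b i hi)).of_iso (H7QCoh.hdRestrict hU.fromSpec E i)
  · haveI : (DCoh.HD E i).IsQuasicoherent := (hE i).1
    haveI : SheafOfModules.IsFiniteType (R := X.ringCatSheaf) (DCoh.HD E i) := (hE i).2
    let e := (moduleSpecΓFunctor (R := Γ(X, U))).mapIso (H7QCoh.hdRestrict hU.fromSpec E i)
    exact (Module.Finite.equiv_iff e.toLinearEquiv).2
      ((LQcoh.finite_restrict_iff (DCoh.HD E i) hU).2 (LQcoh.finite_sections _ hU))

theorem rhom_coh [IsLocallyNoetherian X] (K : CochainComplex X.Modules ℤ) (b : ℤ) [(DCoh.toD X K).IsLE b]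
    (hK : DCoh.IsCohD (DCoh.toD X K)) [DCoh.HasLTensorCx K] [DCoh.HasRSheafHom K] (L : DCoh.D X) (a : ℤ) [L.IsGE a]
    (hL : DCoh.IsCohD L) : DCoh.IsCohD ((DCoh.RSheafHom K).obj L) := by
  have hps := fun m => isPseudo_of_coh (DCoh.toD X K) b hK m
  have hq := H7RHomPseudo.rhom_qcoh_of_pseudo K hps L (fun i => (hL i).1) a
  intro n
  refine ⟨hq n, ?_⟩
  haveI : (DCoh.HD ((DCoh.RSheafHom K).obj L) n).IsQuasicoherent := hq n
  choose W hxW hW P a' b' hP hfree A ψ t ht key using fun x : X => exists_approx (hps (a - n - 1)) x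
  refine LQcoh.isFiniteType_of_finite _ W hW (eq_top_iff.2 fun x _ =>
    TopologicalSpace.Opens.mem_iSup.2 ⟨x, hxW x⟩) fun x => ?_
  haveI : IsNoetherianRing Γ(X, W x) := IsLocallyNoetherian.component_noetherian ⟨W x, hW x⟩
  haveI := ht x
  haveI : (L⟦n⟧).IsGE (a - n) := DerivedCategory.TStructure.t.isGE_shift L a n (a - n) (by omega)
  exact finite_HD K L hq (hW x) n ((fg_of_natTrans (Φmap (ψ x)) (key x (W x) le_rfl (L⟦n⟧) (a - n) (by omega))).1
    ((fin_quasiIso (t x)).2 (fin_model (hW x) hL (hP x) (hfree x)) n))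

end main

end Groth.Agent.H7RHomCoh
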