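import Groth.Agent.Lib.H7RHomQCoh
import Groth.Agent.Lib.H7LocLift
import Mathlib

/-! `RHom(K, L)` for pseudo-coherent `K` and bounded below `L`. -/

universe u
open CategoryTheory Limits AlgebraicGeometry TopologicalSpace Opposite HomologicalComplex Pretriangulated

namespace Groth.Agent.H7RHomPseudo
open Groth.Agent H7HomLoc H7LocTri H7FinFree H7Betti

attribute [local instance] HasDerivedCategory.standard

local notation "c" => ComplexShape.up ℤ

variable {X : Scheme.{u}}

lemma loc_shift_one {M : Type*} [Category M] {C : Type*} [Category C] [Preadditive C] [HasShift C ℤ]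
    [∀ n : ℤ, (shiftFunctor C n).Additive] {t : Test M} {Φ : M ⥤ C} {L : C} (n : ℤ) (h : Loc t Φ (L⟦n⟧)) :
    Loc t (Φ ⋙ shiftFunctor C (-n)) L := by
  let ε : ((L⟦n⟧)⟦(-n : ℤ)⟧ : C) ≅ L := (shiftFunctorCompIsoId C n (-n) (by omega)).app L
  refine loc_iso_right ε ⟨fun x hx => ?_, fun y => ?_⟩
  · obtain ⟨x', rfl⟩ := (shiftFunctor C (-n)).map_surjective x
    obtain ⟨k, hk⟩ := h.inj x' ((shiftFunctor C (-n)).map_injective (by
      rw [Functor.map_comp, Functor.map_zero]; exact hx))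
    exact ⟨k, (Functor.map_comp _ _ _).symm.trans ((congrArg _ hk).trans (Functor.map_zero _ _ _))⟩
  · obtain ⟨y', rfl⟩ := (shiftFunctor C (-n)).map_surjective y
    obtain ⟨k, x, hx⟩ := h.surj y'
    exact ⟨k, (shiftFunctor C (-n)).map x,
      (Functor.map_comp _ _ _).symm.trans ((congrArg _ hx).trans (Functor.map_comp _ _ _))⟩

/-- a map with highly acyclic cone does not change `Hom` into a bounded below object -/
theorem bijective_of_cone {A B : CochainComplex X.Modules ℤ} (ψ : A ⟶ B) (m : ℤ)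
    (h : ∀ i, m ≤ i → (CochainComplex.mappingCone ψ).ExactAt i) (L : DCoh.D X) (b : ℤ) [L.IsGE b] (hb : m < b) :
    Function.Bijective fun x : DerivedCategory.Q.obj B ⟶ L => DerivedCategory.Q.map ψ ≫ x := by
  let Z := DerivedCategory.Q.obj (CochainComplex.mappingCone ψ)
  haveI : Z.IsLE (m - 1) := by
    rw [DerivedCategory.isLE_Q_obj_iff, CochainComplex.isLE_iff]
    exact fun i hi => h i (by omega)
  haveI : (L⟦(1 : ℤ)⟧).IsGE (b - 1) := DerivedCategory.TStructure.t.isGE_shift L b 1 (b - 1) (by omega)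
  exact bijective_of_vanish _ _ _
    ((DerivedCategory.mem_distTriang_iff _).2 ⟨_, _, ψ, ⟨Iso.refl _⟩⟩) L
    (fun z => DerivedCategory.TStructure.t.zero_of_isLE_of_isGE (show Z ⟶ L from z) (m - 1) b (by omega)
      ‹Z.IsLE (m - 1)› inferInstance)
    (fun z => DerivedCategory.TStructure.t.zero_of_isLE_of_isGE (show Z ⟶ L⟦(1 : ℤ)⟧ from z) (m - 1) (b - 1)
      (by omega) ‹Z.IsLE (m - 1)› ‹(L⟦(1 : ℤ)⟧).IsGE (b - 1)›)

theorem exactAt_cone {Y : Scheme.{u}} {A B B' : CochainComplex Y.Modules ℤ} (φ : A ⟶ B) (s : A ⟶ B') [QuasiIso s]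
    (α : DerivedCategory.Q.obj B' ⟶ DerivedCategory.Q.obj B) (hQ : DerivedCategory.Q.map φ = DerivedCategory.Q.map s ≫ α)
    (m : ℤ) (hiso : ∀ i : ℤ, m < i → IsIso ((DerivedCategory.homologyFunctor _ i).map α))
    (hepi : Epi ((DerivedCategory.homologyFunctor _ m).map α)) (i : ℤ) (hi : m ≤ i) :
    (CochainComplex.mappingCone φ).ExactAt i := by
  have hT : (DerivedCategory.Q.mapTriangle.obj (CochainComplex.mappingCone.triangle φ)) ∈ distTriang _ :=
    (DerivedCategory.mem_distTriang_iff _).2 ⟨_, _, φ, ⟨Iso.refl _⟩⟩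
  have he : Epi ((DerivedCategory.homologyFunctor _ i).map (DerivedCategory.Q.map φ)) := by
    rw [hQ, Functor.map_comp]
    rcases eq_or_lt_of_le hi with rfl | hlt
    · exact epi_comp _ _
    · haveI := hiso i hlt
      exact epi_comp _ _
  have hm : Mono ((DerivedCategory.homologyFunctor _ (i + 1)).map (DerivedCategory.Q.map φ)) := by
    rw [hQ, Functor.map_comp]
    haveI := hiso (i + 1) (by omega)
    exact mono_comp _ _
  have h0 := (DerivedCategory.HomologySequence.epi_homologyMap_mor₁_iff _ hT i).1 he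
  have hδ := (DerivedCategory.HomologySequence.mono_homologyMap_mor₁_iff _ hT i (i + 1) rfl).1 hm
  have hz : IsZero ((DerivedCategory.homologyFunctor _ i).obj (DerivedCategory.Q.obj (CochainComplex.mappingCone φ))) :=
    (DerivedCategory.HomologySequence.exact₃ _ hT i (i + 1) rfl).isZero_X₂ h0 hδ
  exact (exactAt_iff_isZero_homology _ i).2 (hz.of_iso ((DerivedCategory.homologyFunctorFactors _ i).app _).symm)

theorem exactAt_cone_map {C D : Type*} [Category C] [Category D] [Abelian C] [Abelian D] (F : C ⥤ D) [F.Additive]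
    [F.PreservesHomology] {A B : CochainComplex C ℤ} (φ : A ⟶ B) (i : ℤ)
    (h : (CochainComplex.mappingCone φ).ExactAt i) :
    (CochainComplex.mappingCone ((F.mapHomologicalComplex c).map φ)).ExactAt i := by
  have h1 : (((F.mapHomologicalComplex c).obj (CochainComplex.mappingCone φ))).ExactAt i :=
    (exactAt_iff _ i).2 (((exactAt_iff _ i).1 h).map F)
  rw [exactAt_iff_isZero_homology] at h1 ⊢
  exact h1.of_iso ((HomologicalComplex.homologyFunctor D c i).mapIso
    (CochainComplex.mappingCone.mapHomologicalComplexIso φ F).symm)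

/-- extension by zero of the restriction of the approximation -/
theorem bijective_Φ {V : X.Opens} (G : (V : Scheme.{u}).Modules ⥤ X.Modules) [G.Additive] [G.PreservesHomology]
    {A : CochainComplex (V : Scheme.{u}).Modules ℤ} {B : CochainComplex (V : Scheme.{u}).Modules ℤ} (φ : A ⟶ B)
    {K : CochainComplex X.Modules ℤ} (q : (G.mapHomologicalComplex c).obj B ⟶ K) (m : ℤ)
    (hcone : ∀ i, m ≤ i → (CochainComplex.mappingCone φ).ExactAt i) (U : X.Opens)
    (hq : ∀ i, IsIso ((H7TensorFree.tl (H7FlatCover.freeU U)).map (q.f i))) (L : DCoh.D X) (b : ℤ) [L.IsGE b]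
    (hb : m < b) :
    Function.Bijective fun y : (Φ K).obj (H7FlatCover.freeU U) ⟶ L =>
      (Φmap ((G.mapHomologicalComplex c).map φ ≫ q)).app (H7FlatCover.freeU U) ≫ y := by
  haveI := H7TensorFree.preservesHomology_tl (H7FlatCover.flat_freeU U)
  let tlc := (H7TensorFree.tl (H7FlatCover.freeU U)).mapHomologicalComplex c
  haveI : ∀ i, IsIso ((tlc.map q).f i) := hq
  haveI := HomologicalComplex.Hom.isIso_of_components (tlc.map q)
  haveI : IsIso (DerivedCategory.Q.map (tlc.map q)) := Functor.map_isIso _ _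
  have h := bijective_of_cone (tlc.map ((G.mapHomologicalComplex c).map φ)) m
    (fun i hi => exactAt_cone_map _ _ i (exactAt_cone_map G φ i (hcone i hi))) L b hb
  refine (congrArg Function.Bijective (funext fun y => ?_)).mp
    (h.comp (Equiv.bijective (Iso.homFromEquiv (asIso (DerivedCategory.Q.map (tlc.map q)))).symm))
  show DerivedCategory.Q.map (tlc.map ((G.mapHomologicalComplex c).map φ)) ≫ DerivedCategory.Q.map (tlc.map q) ≫ y =
    DerivedCategory.Q.map (tlc.map ((G.mapHomologicalComplex c).map φ ≫ q)) ≫ y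
  rw [Functor.map_comp, Functor.map_comp, Category.assoc]

theorem rhom_qcoh_at (K : CochainComplex X.Modules ℤ) (m : ℤ)
    (hK : DCoh.IsPseudoCoherentD m (DCoh.toD X K)) [DCoh.HasLTensorCx K] [DCoh.HasRSheafHom K]
    (L : DCoh.D X) (hL : DCoh.IsQCohD L) (a : ℤ) [L.IsGE a] (n : ℤ) (hm : m < a - n) :
    Coh.IsQCoh (DCoh.HD ((DCoh.RSheafHom K).obj L) n) := by
  refine H7RHomQCoh.qcoh_of_locAll K L n fun x => ?_
  obtain ⟨V, hxV, hV⟩ := hK x
  obtain ⟨E, α, hE, hiso, hepi⟩ := hV K ⟨Iso.refl _⟩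
  obtain ⟨E'', s, hs, φ, hφ⟩ := DerivedCategory.right_fac α
  haveI : QuasiIso s := (DerivedCategory.isIso_Q_map_iff_quasiIso _ _).1 hs
  have hQφ : DerivedCategory.Q.map φ = DerivedCategory.Q.map s ≫ α := by rw [hφ, IsIso.hom_inv_id_assoc]
  have hcone := exactAt_cone φ s α hQφ m hiso hepi
  obtain ⟨⟨a', b', hab⟩, hf⟩ := hE
  choose O hO hfree using fun k : Finset.Icc a' b' => (isFinLocFree_iff (E.X k)).1 (hf k) ⟨x, hxV⟩
  let O' : (V : Scheme.{u}).Opens := ⟨⋂ k, (O k : Set (V : Scheme.{u})), isOpen_iInter_of_finite fun k => (O k).2⟩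
  obtain ⟨W, hxW, hW, hW'⟩ : ∃ W : X.Opens, x ∈ W ∧ IsAffineOpen W ∧ W ≤ V.ι ''ᵁ O' := by
    obtain ⟨_, ⟨W, hW, rfl⟩, hxW, hW'⟩ := X.isBasis_affineOpens.exists_subset_of_mem_open
      (show x ∈ V.ι ''ᵁ O' from ⟨⟨x, hxV⟩, Set.mem_iInter.2 hO, rfl⟩) (V.ι ''ᵁ O').2
    exact ⟨W, hxW, hW, hW'⟩
  have hWV : W ≤ V := fun z hz => by
    obtain ⟨z', -, rfl⟩ := hW' hz
    exact z'.2
  let θ := X.homOfLE hWV
  have hfreeW : ∀ k, IsFree (((H7LocLift.rst θ).obj E).X k) := fun k => by
    by_cases hk : k ∈ Finset.Icc a' b'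
    · have hr : Set.range θ.base ⊆ Set.range (O ⟨k, hk⟩).ι.base := by
        rintro _ ⟨z, rfl⟩
        obtain ⟨z', hz', e⟩ := hW' z.2
        refine ⟨⟨z', Set.mem_iInter.1 hz' ⟨k, hk⟩⟩, ?_⟩
        apply Subtype.ext
        exact e.trans (congrArg (fun t : (W : Scheme.{u}) ⟶ X => t.base z) (X.homOfLE_ι hWV)).symm
      let h := IsOpenImmersion.lift (O ⟨k, hk⟩).ι θ hr
      have hh : h ≫ (O ⟨k, hk⟩).ι = θ := IsOpenImmersion.lift_fac _ _ hr
      exact ((hfree ⟨k, hk⟩).pullback h).of_iso ((Scheme.Modules.pullbackComp h (O ⟨k, hk⟩).ι).app (E.X k) ≪≫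
        eqToIso (by rw [hh]) ≪≫ ((Scheme.Modules.restrictFunctorIsoPullback θ).app (E.X k)).symm)
    · exact isFree_of_isZero ((Scheme.Modules.restrictFunctor θ).map_isZero
        (hab k (by simp only [Finset.mem_Icc] at hk; omega)))
  refine ⟨W, hxW, hW, fun g => ?_⟩
  let G : (V : Scheme.{u}).Modules ⥤ X.Modules := Scheme.Modules.restrictFunctor θ ⋙ CxOX.extZero W.ι
  haveI : (CxOX.extZero W.ι).Additive := (CxOX.extZeroAdj W.ι).left_adjoint_additive
  haveI : G.Additive := inferInstanceAs ((Scheme.Modules.restrictFunctor θ ⋙ CxOX.extZero W.ι).Additive)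
  let GC := G.mapHomologicalComplex c
  -- the class contains the approximation
  have hA : H7HomPerf.Cls g L (GC.obj E'') := by
    have h1 := (locAll_quasiIso (L := L) (X.basicOpen_le g) g
      (((CxOX.extZero W.ι).mapHomologicalComplex c).map ((H7LocLift.rst θ).map s))).2
      (H7HomPerf.cls_model g hW hL (P := (H7LocLift.rst θ).obj E) (a := a') (b := b')
        (fun k hk => (Scheme.Modules.restrictFunctor θ).map_isZero (hab k hk)) hfreeW)
    exact h1
  let eB : GC.obj ((DCoh.restrictCx V).obj K) ≅ ((H7MVExt.extR W).mapHomologicalComplex c).obj K :=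
    ((CxOX.extZero W.ι).mapHomologicalComplex c).mapIso ((H7LocLift.rstComp θ V.ι W.ι (X.homOfLE_ι hWV)).app K)
  refine loc_shift_one n ?_
  let q : ((H7MVExt.extR W).mapHomologicalComplex c).obj K ⟶ K :=
    { f := fun i => H7MVExt.cApp W (K.X i)
      comm' := fun i j _ => ((H7MVExt.cNat W).naturality (K.d i j)).symm }
  let ψ : GC.obj E'' ⟶ K := GC.map φ ≫ eB.hom ≫ q
  haveI : PreservesFiniteLimits G := comp_preservesFiniteLimits _ _
  haveI : PreservesFiniteColimits G := comp_preservesFiniteColimits _ _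
  haveI : G.PreservesHomology := inferInstance
  haveI : (L⟦n⟧).IsGE (a - n) := DerivedCategory.TStructure.t.isGE_shift L a n (a - n) (by omega)
  have key := fun (U : X.Opens) (hU : U ≤ W) => bijective_Φ G φ (eB.hom ≫ q) m hcone U (fun i => by
      have h8 := H7TensorFree.isIso_tl_map U (q.f i) fun y hy => isIso_stalk_cApp (hU hy) _
      rw [HomologicalComplex.comp_f, Functor.map_comp]
      exact @IsIso.comp_isIso _ _ _ _ _ _ _ (@Functor.map_isIso _ _ _ _ _ _ (H7TensorFree.tl (H7FlatCover.freeU U)) _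
        ((HomologicalComplex.Hom.isoApp eB i).isIso_hom)) h8) (L⟦n⟧) (a - n) (by omega)
  have h7 := loc_of_natTrans (t := test (X.basicOpen_le g) g) (L := L⟦n⟧) (Φmap ((G.mapHomologicalComplex c).map φ ≫ eB.hom ≫ q))
    (key W le_rfl) (key (X.basicOpen g) (X.basicOpen_le g))
  exact h7.1 (hA n)

theorem rhom_qcoh_of_pseudo (K : CochainComplex X.Modules ℤ)
    (hK : ∀ m : ℤ, DCoh.IsPseudoCoherentD m (DCoh.toD X K)) [DCoh.HasLTensorCx K] [DCoh.HasRSheafHom K]
    (L : DCoh.D X) (hL : DCoh.IsQCohD L) (a : ℤ) [L.IsGE a] : DCoh.IsQCohD ((DCoh.RSheafHom K).obj L) :=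
  fun n => rhom_qcoh_at K (a - n - 1) (hK _) L hL a n (by omega)

end Groth.Agent.H7RHomPseudo
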