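import Groth.Agent.Lib.H7MapTotal
import Mathlib

/-! Tensoring with a complex concentrated in one degree on the left. -/

universe w v v' v'' u u' u''

namespace Groth.Agent.H7SingleLeft
open CategoryTheory Limits Category HomologicalComplex

variable {A B D : Type*} [Category A] [Category B] [Category D] [Preadditive A] [Preadditive B] [Preadditive D]
  (F : A ⥤ B ⥤ D) [F.Additive] [∀ X, (F.obj X).Additive] [HasZeroObject A] (M : A) (L : CochainComplex B ℤ) (n : ℤ)
  [HasMapBifunctor ((single A (ComplexShape.up ℤ) n).obj M) L F (ComplexShape.up ℤ)]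

lemma zero_of_ne (p q : ℤ) (hp : p ≠ n) {Z : D}
    (f g : (F.obj (((single A (ComplexShape.up ℤ) n).obj M).X p)).obj (L.X q) ⟶ Z) : f = g :=
  (Functor.map_isZero (F.flip.obj (L.X q)) (isZero_single_obj_X _ _ _ _ hp)).eq_of_src f g

/-- degreewise: `(M[-n] ⊗ L)^m = M ⊗ L^{m - n}` -/
noncomputable def singleX (m : ℤ) :
    (mapBifunctor ((single A (ComplexShape.up ℤ) n).obj M) L F (ComplexShape.up ℤ)).X m ≅
      (F.obj M).obj (L.X (m + -n)) where
  hom := mapBifunctorDesc fun p q h =>
    if hp : p = n then
      (F.map (eqToHom (by rw [hp]) ≫ (singleObjXSelf (ComplexShape.up ℤ) n M).hom)).app (L.X q) ≫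
        eqToHom (by
          have : p + q = m := h
          rw [show q = m + -n by omega])
    else 0
  inv := (F.map (singleObjXSelf (ComplexShape.up ℤ) n M).inv).app (L.X (m + -n)) ≫
    ιMapBifunctor _ L F (ComplexShape.up ℤ) n (m + -n) m (show n + (m + -n) = m by omega)
  hom_inv_id := mapBifunctor.hom_ext fun p q h => by
    rw [ι_mapBifunctorDesc_assoc, comp_id]
    by_cases hp : p = n
    · subst hp
      obtain rfl : q = m + -p := by
        have : p + q = m := h
        omega
      simp
    · exact zero_of_ne F M L n p q hp _ _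
  inv_hom_id := by
    rw [assoc, ι_mapBifunctorDesc, dif_pos rfl]
    simp [← NatTrans.comp_app_assoc, ← Functor.map_comp]

lemma smul_map {B' D' : Type*} [Category B'] [Category D'] [Preadditive B'] [Preadditive D'] (G : B' ⥤ D') [G.Additive]
    {a b : B'} (ε : ℤˣ) (f : a ⟶ b) : G.map (ε • f) = ε • G.map f := Functor.map_units_smul G ε f

/-- `M[-n] ⊗ L` is `(M ⊗ L)[-n]` -/
noncomputable def singleIso :
    mapBifunctor ((single A (ComplexShape.up ℤ) n).obj M) L F (ComplexShape.up ℤ) ≅
      (((F.obj M).mapHomologicalComplex (ComplexShape.up ℤ)).obj L)⟦(-n : ℤ)⟧ :=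
  Hom.isoOfComponents (singleX F M L n) fun m m' hmm => mapBifunctor.hom_ext fun p q h => by
    by_cases hp : p = n
    · subst hp
      obtain rfl : q = m + -p := by
        have : p + q = m := h
        omega
      obtain rfl : m' = m + 1 := (show m + 1 = m' from hmm).symm
      show _ ≫ (singleX F M L p m).hom ≫ ((-p).negOnePow • (F.obj M).map (L.d (m + -p) (m + 1 + -p))) =
        _ ≫ _ ≫ (singleX F M L p (m + 1)).hom
      simp only [singleX, ι_mapBifunctorDesc_assoc, dif_pos]
      rw [mapBifunctor.d_eq, Preadditive.add_comp, Preadditive.comp_add, mapBifunctor.ι_D₁_assoc,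
        mapBifunctor.ι_D₂_assoc,
        mapBifunctor.d₁_eq _ _ _ _ (show (ComplexShape.up ℤ).Rel p (p + 1) from rfl) (m + -p) (m + 1)
          (show p + 1 + (m + -p) = m + 1 by omega),
        mapBifunctor.d₂_eq _ _ _ _ p (show (ComplexShape.up ℤ).Rel (m + -p) (m + 1 + -p) by show _ = _; omega) (m + 1)
          (show p + (m + 1 + -p) = m + 1 by omega)]
      simp [Int.negOnePow_neg, Linear.units_smul_comp, Linear.comp_units_smul]
    · exact zero_of_ne F M L n p q hp _ _

variable {M} {M' : A} [HasMapBifunctor ((single A (ComplexShape.up ℤ) n).obj M') L F (ComplexShape.up ℤ)]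

theorem singleIso_natural (f : M ⟶ M') :
    mapBifunctorMap ((single A (ComplexShape.up ℤ) n).map f) (𝟙 L) F (ComplexShape.up ℤ) ≫
        (singleIso F M' L n).hom =
      (singleIso F M L n).hom ≫
        ((NatTrans.mapHomologicalComplex (F.map f) (ComplexShape.up ℤ)).app L)⟦(-n : ℤ)⟧' := by
  refine HomologicalComplex.hom_ext _ _ fun m => mapBifunctor.hom_ext fun p q h => ?_
  by_cases hp : p = n
  · subst hp
    obtain rfl : q = m + -p := by
      have : p + q = m := h
      omega
    show _ ≫ HomologicalComplex.Hom.f (mapBifunctorMap _ _ _ _) m ≫ (singleX F M' L p m).hom =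
      _ ≫ (singleX F M L p m).hom ≫ (F.map f).app (L.X (m + -p))
    simp only [singleX, ι_mapBifunctorMap_assoc, ι_mapBifunctorDesc_assoc, ι_mapBifunctorDesc, dif_pos]
    simp [single_map_f_self, ← NatTrans.comp_app, ← NatTrans.comp_app_assoc, ← Functor.map_comp]
  · exact zero_of_ne F M L n p q hp _ _

end Groth.Agent.H7SingleLeft
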