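import Groth.Agent.Lib.H7HomQCoh
import Groth.Agent.Lib.H7HomPerf
import Groth.Agent.Lib.H7SingleLeft
import Groth.Agent.Lib.H7RSheafHom
import Groth.Agent.Lib.H7PushWeak
import Mathlib

/-! Quasi-coherence of `RHom(K, L)`. -/

universe u
open CategoryTheory Limits AlgebraicGeometry TopologicalSpace Opposite HomologicalComplex

namespace Groth.Agent.H7RHomQCoh
open Groth.Agent H7HomLoc H7LocTri H7FlatCover H7KFlatSheaf

attribute [local instance] HasDerivedCategory.standard

local notation "c" => ComplexShape.up ℤ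

variable {X : Scheme.{u}}

lemma skf_single' {M : X.Modules} (hM : FlatMod.IsFlat M) (n : ℤ) : SKF ((single X.Modules c n).obj M) := by
  refine skf_zero_d _ (fun _ _ => rfl) fun m => ?_
  by_cases hm : m = n
  · subst hm
    exact H7FlatCover.isFlat_of_iso (singleObjXSelf c m M).symm hM
  · exact fun x => by
      haveI : Subsingleton ((DerSch.stalkFunctor X x).obj (((single X.Modules c n).obj M).X m)) :=
        ModuleCat.isZero_iff_subsingleton.1 (Functor.map_isZero _ (isZero_single_obj_X _ _ _ _ hm))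
      exact Module.Flat.of_free (R := X.presheaf.stalk x) (M := (DerSch.stalkFunctor X x).obj _)

variable (K : CochainComplex X.Modules ℤ) [DCoh.HasLTensorCx K]

/-- `Q(M[-n]) ⊗ᴸ K ⟶ (M ⊗ K)[-n]` -/
noncomputable def compare (n : ℤ) :
    (single X.Modules c n ⋙ DerivedCategory.Q) ⋙ DCoh.LTensorCx K ⟶ Φ K ⋙ shiftFunctor _ (-n) where
  app M := (H7RSheafHom.cu K).app ((single X.Modules c n).obj M) ≫
    DerivedCategory.Q.map (H7SingleLeft.singleIso (DCoh.tensorBi (X := X)) M K n).hom ≫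
    ((DerivedCategory.Q (C := X.Modules)).commShiftIso (-n)).hom.app (((H7TensorFree.tl M).mapHomologicalComplex c).obj K)
  naturality M N f := by
    refine (Category.assoc _ _ _).symm.trans ((congrArg (· ≫ _)
      ((H7RSheafHom.cu K).naturality ((single X.Modules c n).map f))).trans ?_)
    refine (Category.assoc _ _ _).trans (Eq.trans ?_ (Category.assoc _ _ _).symm)
    refine congrArg ((H7RSheafHom.cu K).app ((single X.Modules c n).obj M) ≫ ·) ?_
    refine (Category.assoc _ _ _).symm.trans ((congrArg (· ≫ _) ((DerivedCategory.Q.map_comp _ _).symm.trans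
      ((congrArg DerivedCategory.Q.map (H7SingleLeft.singleIso_natural (DCoh.tensorBi (X := X)) K n f)).trans
        (DerivedCategory.Q.map_comp _ _)))).trans ((Category.assoc _ _ _).trans (Eq.trans ?_ (Category.assoc _ _ _).symm)))
    exact congrArg (DerivedCategory.Q.map _ ≫ ·) (((DerivedCategory.Q (C := X.Modules)).commShiftIso (-n)).hom.naturality _)

lemma isIso_compare (n : ℤ) {M : X.Modules} (hM : FlatMod.IsFlat M) : IsIso ((compare K n).app M) := by
  haveI : IsIso ((H7RSheafHom.cu K).app ((single X.Modules c n).obj M)) :=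
    H7LTensorCx.isIso_counit K (skf_single' hM n)
  exact @IsIso.comp_isIso _ _ _ _ _ _ _ (H7LTensorCx.isIso_counit K (skf_single' hM n))
    (@IsIso.comp_isIso _ _ _ _ _ _ _ (Functor.map_isIso _ _)
      (Iso.isIso_hom (((DerivedCategory.Q (C := X.Modules)).commShiftIso (-n)).app _)))

variable [DCoh.HasRSheafHom K]

/-- `RHom(K, L)` has quasi-coherent cohomology once `Hom(F_V ⊗ K, L)` localises -/
theorem qcoh_of_locAll (L : DCoh.D X) (n : ℤ)
    (h : ∀ x : X, ∃ W : X.Opens, x ∈ W ∧ IsAffineOpen W ∧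
      ∀ g : Γ(X, W), Loc (test (X.basicOpen_le g) g) (Φ K ⋙ shiftFunctor _ (-n)) L) :
    Coh.IsQCoh (DCoh.HD ((DCoh.RSheafHom K).obj L) n) := by
  refine H7HomQCoh.qcoh_of_loc _ n fun x => ?_
  obtain ⟨W, hx, hW, hl⟩ := h x
  refine ⟨W, hx, hW, fun g => ?_⟩
  haveI : IsIso ((compare K n).app (test (X.basicOpen_le g) g).P) := isIso_compare K n (H7FlatCover.flat_freeU W)
  haveI : IsIso ((compare K n).app (test (X.basicOpen_le g) g).P') :=
    isIso_compare K n (H7FlatCover.flat_freeU (X.basicOpen g))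
  have h1 := (loc_of_isIso (compare K n)).2 (hl g)
  let adj := DCoh.RSheafHomAdj K
  let Ψ := single X.Modules c n ⋙ DerivedCategory.Q
  refine ⟨fun y hy => ?_, fun y => ?_⟩
  · obtain ⟨k, hk⟩ := h1.inj ((adj.homEquiv _ _).symm y) (by
      refine (adj.homEquiv_naturality_left_symm _ _).symm.trans ?_
      rw [hy, Adjunction.homEquiv_counit, Functor.map_zero, zero_comp])
    refine ⟨k, (adj.homEquiv _ _).symm.injective ((adj.homEquiv_naturality_left_symm _ _).trans (hk.trans ?_))⟩
    rw [Adjunction.homEquiv_counit, Functor.map_zero, zero_comp]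
  · obtain ⟨k, x', hx'⟩ := h1.surj ((adj.homEquiv _ _).symm y)
    refine ⟨k, adj.homEquiv _ _ x', (adj.homEquiv _ _).symm.injective ?_⟩
    refine (adj.homEquiv_naturality_left_symm _ _).trans (hx'.trans ?_)
    refine Eq.trans ?_ (adj.homEquiv_naturality_left_symm _ _).symm
    exact congrArg ((DCoh.LTensorCx K).map (Ψ.map _) ≫ ·) (Equiv.symm_apply_apply _ _).symm

theorem isQCohD_of_locAll (L : DCoh.D X)
    (h : ∀ (x : X) (n : ℤ), ∃ W : X.Opens, x ∈ W ∧ IsAffineOpen W ∧
      ∀ g : Γ(X, W), Loc (test (X.basicOpen_le g) g) (Φ K ⋙ shiftFunctor _ (-n)) L) :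
    DCoh.IsQCohD ((DCoh.RSheafHom K).obj L) := fun n => qcoh_of_locAll K L n fun x => h x n

theorem rhom_qcoh_of_perfect (hK : DCoh.IsPerfect (DCoh.toD X K)) (L : DCoh.D X) (hL : DCoh.IsQCohD L) :
    DCoh.IsQCohD ((DCoh.RSheafHom K).obj L) := by
  refine isQCohD_of_locAll K L fun x n => ?_
  obtain ⟨W₀, hx, hW₀⟩ := H7PerfFree.exists_free_model hK x
  obtain ⟨_, ⟨W, hW, rfl⟩, hxW, hWW⟩ := X.isBasis_affineOpens.exists_subset_of_mem_open hx W₀.2
  obtain ⟨P, a, b, hP, hfree, ⟨e⟩⟩ := hW₀ W hWW K ⟨Iso.refl _⟩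
  refine ⟨W, hxW, hW, fun g => ?_⟩
  refine loc_iso_right ((shiftFunctorZero (DCoh.D X) ℤ).app L) ?_
  exact loc_shift (H7HomPerf.cls_of_model g hW hL hP hfree e) _ _

end Groth.Agent.H7RHomQCoh
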