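import Groth.Agent.Lib.H5DRank
import Mathlib

/-! Ranks of base-changed matrices over fields. -/

universe u
open CategoryTheory Limits TensorProduct

namespace Groth.Agent.H7Rank

section field
variable {K : Type u} [Field K]

lemma exists_indep_cols {m n r : ℕ} (A : Matrix (Fin m) (Fin n) K) (h : r ≤ A.rank) :
    ∃ c : Fin r → Fin n, LinearIndependent K (fun j => A.col (c j)) := by
  obtain ⟨b, hb, hspan, hli⟩ := exists_linearIndependent K (Set.range A.col)
  have : Fintype b := (Set.finite_range A.col |>.subset hb).fintype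
  have hcard : A.rank = Fintype.card b := by
    rw [A.rank_eq_finrank_span_cols, ← hspan]
    exact (finrank_span_set_eq_card (show LinearIndepOn K id b from hli)).trans (Set.toFinset_card b)
  let f : Fin r → b := fun j => (Fintype.equivFin b).symm (Fin.castLE (hcard ▸ h) j)
  choose g hg using fun z : b => hb z.2
  refine ⟨fun j => g (f j), ?_⟩
  have e : (fun j => A.col (g (f j))) = Subtype.val ∘ f := funext fun j => hg (f j)
  rw [e]
  exact hli.comp f ((Fintype.equivFin b).symm.injective.comp (Fin.castLE_injective _))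

lemma exists_minor {m n r : ℕ} (A : Matrix (Fin m) (Fin n) K) (h : r ≤ A.rank) :
    ∃ (k : Fin r → Fin m) (c : Fin r → Fin n), (A.submatrix k c).det ≠ 0 := by
  obtain ⟨c, hc⟩ := exists_indep_cols A h
  have h1 : (A.submatrix id c).rank = r := by
    rw [← Matrix.rank_transpose]
    exact (LinearIndependent.rank_matrix (M := (A.submatrix id c).transpose) hc).trans (Fintype.card_fin r)
  obtain ⟨k, hk⟩ := exists_indep_cols (A.submatrix id c).transpose (r := r) (by rw [Matrix.rank_transpose, h1])
  refine ⟨k, c, ?_⟩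
  have : IsUnit (A.submatrix k c) := Matrix.linearIndependent_rows_iff_isUnit.1 hk
  exact ((Matrix.isUnit_iff_isUnit_det _).1 this).ne_zero

lemma le_rank_of_minor {m n r : ℕ} (A : Matrix (Fin m) (Fin n) K) (k : Fin r → Fin m) (c : Fin r → Fin n)
    (h : (A.submatrix k c).det ≠ 0) : r ≤ A.rank := by
  have h1 : (A.submatrix k c).rank = r := (Matrix.rank_of_det_ne_zero h).trans (Fintype.card_fin r)
  exact h1 ▸ Matrix.rank_submatrix_le A k c

end field

section complex

variable {R F : Type u} [CommRing R] [Field F] (φ : R →+* F)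

/-- homology of a base-changed complex, by ranks -/
theorem finrank_homology {C : CochainComplex (ModuleCat.{u} R) ℤ} (i : ℤ) {n₀ n₁ n₂ : ℕ}
    (b₀ : Module.Basis (Fin n₀) R (C.X (i - 1))) (b₁ : Module.Basis (Fin n₁) R (C.X i))
    (b₂ : Module.Basis (Fin n₂) R (C.X (i + 1))) :
    Module.finrank F ((((ModuleCat.extendScalars φ).mapHomologicalComplex (ComplexShape.up ℤ)).obj C).homology i) +
      ((LinearMap.toMatrix b₀ b₁ (C.d (i - 1) i).hom).map φ).rank +
      ((LinearMap.toMatrix b₁ b₂ (C.d i (i + 1)).hom).map φ).rank = n₁ := by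
  letI : Algebra R F := φ.toAlgebra
  let D := ((ModuleCat.extendScalars (algebraMap R F)).mapHomologicalComplex (ComplexShape.up ℤ)).obj C
  have key : ∀ {p q : ℤ} {a c : ℕ} (ba : Module.Basis (Fin a) R (C.X p)) (bc : Module.Basis (Fin c) R (C.X q)),
      Module.finrank F (LinearMap.range ((ModuleCat.extendScalars (algebraMap R F)).map (C.d p q)).hom) =
        ((LinearMap.toMatrix ba bc (C.d p q).hom).map φ).rank := fun {p q a c} ba bc => by
    rw [H5DRank.bcEquiv_finrank_range, Matrix.rank_eq_finrank_range_toLin _ (Algebra.TensorProduct.basis F bc) (Algebra.TensorProduct.basis F ba)]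
    rw [show φ = algebraMap R F from rfl, ← LinearMap.toMatrix_baseChange, Matrix.toLin_toMatrix]
  have hb : Module.finrank F (D.X i) = n₁ :=
    ((H5DRank.bcEquiv F (C.X i)).finrank_eq).trans
      ((Module.finrank_eq_card_basis (b₁.baseChange F)).trans (Fintype.card_fin _))
  have hfin : Module.Finite F (D.X i) :=
    have := Module.Finite.of_basis (b₁.baseChange F)
    Module.Finite.equiv (H5DRank.bcEquiv F (C.X i)).symm
  have : Module.Finite F (D.sc' (i - 1) i (i + 1)).X₂ := hfin
  have h := H5DRank.finrank_shortComplex (D.sc' (i - 1) i (i + 1))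
  have e : Module.finrank F (D.sc' (i - 1) i (i + 1)).homology = Module.finrank F (D.homology i) :=
    ((D.homologyIsoSc' (i - 1) i (i + 1) (by simp) (by simp)).toLinearEquiv.finrank_eq).symm
  rw [e, show Module.finrank F (D.sc' (i - 1) i (i + 1)).X₂ = n₁ from hb] at h
  refine Eq.trans ?_ h
  exact congrArg₂ (· + ·) (congrArg₂ (· + ·) rfl (key b₀ b₁).symm) (key b₁ b₂).symm

end complex

end Groth.Agent.H7Rank
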