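import Groth.Agent.Lib.H7PerfCrit
import Groth.Agent.Lib.H7PseudoNoeth
import Groth.Agent.Lib.H7FPFlat
import Groth.Agent.Lib.H7LocFreeLocus
import Groth.Agent.Lib.RegularLocalSerre
import Mathlib

/-! Bounded coherent objects on regular schemes are perfect. -/

universe u v w
open CategoryTheory Limits AlgebraicGeometry Opposite TopologicalSpace HomologicalComplex CategoryTheory.Pretriangulated CochainComplex

namespace Groth.Agent.H7RegPerfect
open Groth.Agent H7KFlatSheaf H7PerfPull H7FinFree H7LocLift H7PerfTri H7PseudoPull H7PseudoTri H7TorAmp H7TorFlat H7PerfAmp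

attribute [local instance] HasDerivedCategory.standard

variable {X : Scheme.{u}}

section ring

variable {R : Type u} [CommRing R]

theorem pdLT_coker_step {P₁ P₂ P₃ : Type u} [AddCommGroup P₁] [AddCommGroup P₂] [AddCommGroup P₃]
    [Module R P₁] [Module R P₂] [Module R P₃] [Module.Projective R P₃]
    (f : P₁ →ₗ[R] P₂) (g : P₂ →ₗ[R] P₃) (h : Function.Exact f g) (n : ℕ)
    (hc : RegLocal.PdLT R (P₃ ⧸ LinearMap.range g) (n + 2)) : RegLocal.PdLT R (P₂ ⧸ LinearMap.range f) (n + 1) := by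
  have e1 := (RegLocal.pdLT_ker_iff (LinearMap.range g).mkQ (Submodule.mkQ_surjective _) n).1 hc
  let e : (P₂ ⧸ LinearMap.range f) ≃ₗ[R] LinearMap.ker (LinearMap.range g).mkQ :=
    (Submodule.quotEquivOfEq _ _ h.linearMap_ker_eq.symm).trans
      ((g.quotKerEquivRange).trans (LinearEquiv.ofEq _ _ (Submodule.ker_mkQ _).symm))
  exact RegLocal.pdLT_congr e.symm e1

/-- a deep enough cokernel in a complex of free modules over a regular local ring is free -/
theorem flat_coker_of_regular [IsRegularLocalRing R] (P : CochainComplex (ModuleCat.{u} R) ℤ)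
    (hP : ∀ k, Module.Free R (P.X k)) (a : ℤ) (d : ℕ) (hd : (IsLocalRing.maximalIdeal R).spanFinrank = d)
    (hex : ∀ k, a - d ≤ k → k < a → P.ExactAt k) :
    Module.Flat R (P.X (a - d) ⧸ LinearMap.range (P.d (a - d - 1) (a - d)).hom) := by
  have key : ∀ (j : ℕ) (k k₀ : ℤ), j ≤ d → k₀ + 1 = k → k + j = a →
      RegLocal.PdLT R (P.X k ⧸ LinearMap.range (P.d k₀ k).hom) (d - j + 1) := by
    intro j
    induction j with
    | zero => exact fun k k₀ _ _ _ => RegLocal.pdLT_of_regular d hd _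
    | succ j ih =>
      intro k k₀ hj hk hka
      have h1 := ih (k + 1) k (by omega) rfl (by omega)
      rw [show d - j + 1 = d - (j + 1) + 2 by omega] at h1
      have h2 := hex k (by omega) (by omega)
      rw [exactAt_iff' _ k₀ k (k + 1) (by simp; omega) (by simp), ShortComplex.ShortExact.moduleCat_exact_iff_function_exact] at h2
      haveI := hP (k + 1)
      exact pdLT_coker_step (P.d k₀ k).hom (P.d k (k + 1)).hom h2 _ h1
  have h := key d (a - d) (a - d - 1) le_rfl (by omega) (by omega)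
  rw [Nat.sub_self, zero_add] at h
  haveI : Projective (ModuleCat.of R (P.X (a - d) ⧸ LinearMap.range (P.d (a - d - 1) (a - d)).hom)) :=
    projective_iff_hasProjectiveDimensionLT_one.2 h
  haveI : Module.Projective R (P.X (a - d) ⧸ LinearMap.range (P.d (a - d - 1) (a - d)).hom) :=
    (IsProjective.iff_projective (R := R) _).2 inferInstance
  infer_instance

end ring

set_option maxHeartbeats 1000000 in
/-- pseudo-coherence from bounded coherent cohomology -/
theorem isPseudo_of_coh [IsLocallyNoetherian X] (E : DCoh.D X) (b : ℤ) [E.IsLE b] (hcoh : DCoh.IsCohD E) (m : ℤ) :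
    DCoh.IsPseudoCoherentD m E := by
  have hE : DCoh.IsQCohD E := fun i => (hcoh i).1
  haveI : ∀ U : X.affineOpens, IsNoetherianRing Γ(X, U) := fun U => IsLocallyNoetherian.component_noetherian U
  haveI : ∀ U : X.affineOpens, IsOpenImmersion U.2.fromSpec := fun U => IsAffineOpen.isOpenImmersion_fromSpec U.2
  haveI : ∀ U : X.affineOpens, PreservesFiniteLimits (tilde.functor Γ(X, U)) := fun U =>
    LQcoh.preservesFiniteLimits_tilde _
  refine H7PseudoNoeth.pseudo_of_cover fun x => ?_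
  obtain ⟨U, hxU⟩ := TopologicalSpace.Opens.mem_iSup.1 ((iSup_affineOpens_eq_top X).symm ▸ trivial : x ∈ ⨆ U : X.affineOpens, (U : X.Opens))
  refine ⟨_, U.2.fromSpec, inferInstance, by rw [U.2.range_fromSpec]; exact hxU,
    (H7PseudoNoeth.pseudo_spec_iff (R := Γ(X, U)) _ (H7QCoh.isQCohD_restrict U.2.fromSpec hE) m).2
    ⟨⟨b, fun i hi => (Iso.isZero_iff (H7QCoh.hdRestrict _ E i)).2
      (Functor.map_isZero _ (DerivedCategory.isZero_of_isLE E b i hi))⟩, fun i _ => ?_⟩⟩
  have h1 : Module.Finite Γ(X, U) Γ(DCoh.HD E i, U) := by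
    haveI : (DCoh.HD E i).IsQuasicoherent := hE i
    haveI : SheafOfModules.IsFiniteType (R := X.ringCatSheaf) (DCoh.HD E i) := (hcoh i).2
    exact LQcoh.finite_sections _ U.2
  have h2 := (LQcoh.finite_restrict_iff (DCoh.HD E i) U.2).2 h1
  let e := (moduleSpecΓFunctor (R := Γ(X, U))).mapIso (H7QCoh.hdRestrict U.2.fromSpec E i)
  exact (Module.Finite.equiv_iff e.toLinearEquiv).2 h2

set_option maxHeartbeats 1000000 in
theorem perfect_of_regular (hreg : ∀ x : X, IsRegularLocalRing (X.presheaf.stalk x)) [IsLocallyNoetherian X]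
    (E : DCoh.D X) (a b : ℤ) [E.IsGE a] [E.IsLE b] (hE : DCoh.IsCohD E) : DCoh.IsPerfect E := by
  refine isPerfect_local fun x => ?_
  let d : ℕ := (IsLocalRing.maximalIdeal (X.presheaf.stalk x)).spanFinrank
  let c : ℤ := a - d
  haveI : E.IsGE c := DerivedCategory.TStructure.t.isGE_of_ge E c a (by omega)
  let K₀ := (DerivedCategory.Q.objPreimage E)
  let eK₀ : DerivedCategory.Q.obj K₀ ≅ E := DerivedCategory.Q.objObjPreimageIso E
  haveI : K₀.IsGE c := by
    rw [← DerivedCategory.isGE_Q_obj_iff]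
    exact DerivedCategory.TStructure.t.isGE_of_iso eK₀.symm c
  let K := K₀.truncGE c
  haveI : IsIso (DerivedCategory.Q.map (K₀.πTruncGE c)) :=
    (DerivedCategory.isIso_Q_map_iff_quasiIso _ _).2 inferInstance
  let eK : DerivedCategory.Q.obj K ≅ E := (asIso (DerivedCategory.Q.map (K₀.πTruncGE c))).symm ≪≫ eK₀
  obtain ⟨W, j, _, R, α, ⟨w, rfl⟩, hR, hα⟩ := (isPseudo_iff _ _).1 (isPseudo_of_coh E b hE (c - 1)) x
  -- truncate the model
  let P := H7StupidGE.trunc R (c - 1)
  have hι : MIso (c - 1) (DerivedCategory.Q.map (H7StupidGE.ι R (c - 1))) :=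
    ⟨fun i hi => (NatIso.isIso_map_iff (DerivedCategory.homologyFunctorFactors _ i) _).2 (H7StupidGE.homologyMap_iso hi),
      ((MorphismProperty.epimorphisms _).arrow_mk_iso_iff (((Functor.mapArrowFunctor _ _).mapIso
        (DerivedCategory.homologyFunctorFactors _ (c - 1))).app (Arrow.mk (H7StupidGE.ι R (c - 1))))).2
          H7StupidGE.homologyMap_epi⟩
  have hP := strictlyPerfect_trunc hR (c - 1)
  have hγ := MIso.comp_iso (mIso_comp hι hα) (Iso.refl _) ((rD j).mapIso eK.symm ≪≫ rQ j K)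
  generalize ((Iso.refl (DerivedCategory.Q.obj P)).hom ≫ _ ≫ _) = γ at hγ
  obtain ⟨O, hwO, hO⟩ := exists_chain_map hP γ w
  obtain ⟨β, hβ⟩ := hO
  have hQβ : MIso (c - 1) (DerivedCategory.Q.map β) := by
    have h0 := MIso.comp_iso (mIso_rD O.ι hγ)
      ((Scheme.Modules.restrictFunctor O.ι).mapDerivedCategoryFactors.app P).symm
      ((Scheme.Modules.restrictFunctor O.ι).mapDerivedCategoryFactors.app ((rst j).obj K))
    rw [show (rD O.ι).map γ = _ from hβ] at h0
    refine Eq.mp (congrArg (MIso (c - 1)) ?_) h0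
    let Φ := (Scheme.Modules.restrictFunctor O.ι).mapDerivedCategoryFactors
    show (Φ.app P).inv ≫ ((Φ.app P).hom ≫ DerivedCategory.Q.map β ≫ (Φ.app ((rst j).obj K)).inv) ≫
      (Φ.app ((rst j).obj K)).hom = DerivedCategory.Q.map β
    simp only [Category.assoc, Iso.inv_hom_id_assoc, Iso.inv_hom_id]
    exact Category.comp_id _
  let P' := (rst O.ι).obj P
  let K' := (rst O.ι).obj ((rst j).obj K)
  let o : O.toScheme := ⟨w, hwO⟩
  haveI : K'.IsStrictlyGE c := (CochainComplex.isStrictlyGE_iff K' c).2 fun i hi =>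
    (Scheme.Modules.restrictFunctor O.ι).map_isZero ((Scheme.Modules.restrictFunctor j).map_isZero (K.isZero_of_isStrictlyGE c i hi))
  have hex : ∀ k, c - 1 ≤ k → (mappingCone β).ExactAt k := fun k hk => (isZero_HD_Q_iff _ k).1
    ((mIso_iff _ (DerivedCategory.mappingCone_triangle_distinguished β) (c - 1)).1 hQβ k hk)
  have hq : QuasiIso (truncGEMap β c) := (quasiIso_truncGEMap_iff β c).2 fun i hi =>
    (quasiIsoAt_iff_isIso_homologyMap β i).2
      ((NatIso.isIso_map_iff (DerivedCategory.homologyFunctorFactors _ i) β).1 (hQβ.1 i (by omega)))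
  let e : DerivedCategory.Q.obj K' ≅ DerivedCategory.Q.obj (P'.truncGE c) :=
    asIso (DerivedCategory.Q.map (K'.πTruncGE c)) ≪≫ (asIso (DerivedCategory.Q.map (truncGEMap β c))).symm
  let eE : DerivedCategory.Q.obj K' ≅ (rD (O.ι ≫ j)).obj E :=
    (rQ O.ι _).symm ≪≫ (rD O.ι).mapIso ((rQ j K).symm ≪≫ (rD j).mapIso eK) ≪≫ rDComp O.ι j (O.ι ≫ j) rfl E
  -- the model is exact below `a`
  have hexP : ∀ k, c ≤ k → k < a → P'.ExactAt k := fun k hk hk' => by
    rw [← isZero_HD_Q_iff]
    have h1 : IsZero (DCoh.HD E k) := DerivedCategory.isZero_of_isGE E a k hk'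
    haveI := hQβ.1 k (by omega)
    refine IsZero.of_iso ?_ (asIso ((DerivedCategory.homologyFunctor _ k).map (DerivedCategory.Q.map β)))
    exact IsZero.of_iso (((Scheme.Modules.restrictFunctor (O.ι ≫ j)).map_isZero h1).of_iso (H7QCoh.hdRestrict _ E k))
      ((DerivedCategory.homologyFunctor _ k).mapIso eE)
  have hP' := strictlyPerfect_rst O.ι hP
  -- the stalk at the point
  haveI : IsRegularLocalRing (O.toScheme.presheaf.stalk o) :=
    have := hreg ((O.ι ≫ j) o)
    IsRegularLocalRing.of_ringEquiv (asIso ((O.ι ≫ j).stalkMap o)).commRingCatIsoToRingEquiv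
  have hd : (IsLocalRing.maximalIdeal (O.toScheme.presheaf.stalk o)).spanFinrank = d :=
    have := hreg ((O.ι ≫ j) o)
    spanFinrank_congr (asIso ((O.ι ≫ j).stalkMap o)).commRingCatIsoToRingEquiv
  have hflat : Module.Flat (O.toScheme.presheaf.stalk o) ((DerSch.stalkFunctor _ o).obj (cokernel (P'.d (c - 1) c))) := by
    haveI h0 : Module.Flat (O.toScheme.presheaf.stalk o) (ModuleCat.of (O.toScheme.presheaf.stalk o)
        (((DerSch.stalkFunctor _ o).obj (P'.X c) : Type u) ⧸ LinearMap.range ((DerSch.stalkFunctor _ o).map (P'.d (c - 1) c)).hom)) :=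
      flat_coker_of_regular ((stCx o).obj P') (fun k => H7FPFlat.free_stalk (hP'.2 k) o) a d hd
      (fun k hk hk' => ((H7StalkDetect.jointly _).exactAt_iff P' k).1 (hexP k hk hk') o)
    exact Module.Flat.of_linearEquiv
      ((PreservesCokernel.iso (DerSch.stalkFunctor _ o) (P'.d (c - 1) c)) ≪≫ ModuleCat.cokernelIsoRangeQuotient _).toLinearEquiv
  obtain ⟨V, hoV, hfree⟩ := H7CokerFree.coker_free_near (hP'.2 (c - 1)) (hP'.2 c) (P'.d (c - 1) c) o hflat
  let eM : (P'.truncGE c).X c ≅ cokernel (P'.d (c - 1) c) :=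
    P'.truncGEXIsoOpcycles c ≪≫
      IsColimit.coconePointUniqueUpToIso (P'.opcyclesIsCokernel (c - 1) c (by simp)) (colimit.isColimit _)
  refine ⟨V, V.ι ≫ O.ι ≫ j, inferInstance, ⟨⟨o, hoV⟩, rfl⟩,
    isPerfect_of_iso ((rD V.ι).mapIso (e.symm ≪≫ eE) ≪≫ rDComp V.ι (O.ι ≫ j) (V.ι ≫ O.ι ≫ j) rfl E) ?_⟩
  refine isPerfect_of_iso (rQ V.ι _).symm ?_
  obtain ⟨⟨p, q, hpq⟩, hf⟩ := hP'
  refine (isPerfect_iff _).2 fun v => ⟨(⊤ : V.toScheme.Opens), (⊤ : V.toScheme.Opens).ι, inferInstance,
    (rst (⊤ : V.toScheme.Opens).ι).obj ((rst V.ι).obj (P'.truncGE c)), ⟨⟨v, trivial⟩, rfl⟩, strictlyPerfect_rst _ ⟨⟨c, max c q, fun k hk => ?_⟩, fun k => ?_⟩, ⟨rQ _ _⟩⟩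
  · apply (Scheme.Modules.restrictFunctor V.ι).map_isZero
    rcases hk with hk | hk
    · exact (P'.truncGE c).isZero_of_isStrictlyGE c k hk
    · exact (hpq k (Or.inr (by omega))).of_iso (P'.truncGEXIso c k (by omega))
  · show FlatMod.IsFinLocFree ((Scheme.Modules.restrictFunctor V.ι).obj ((P'.truncGE c).X k))
    rcases lt_trichotomy k c with hk | rfl | hk
    · exact finLocFree_zero ((Scheme.Modules.restrictFunctor V.ι).map_isZero
        ((P'.truncGE c).isZero_of_isStrictlyGE c k hk))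
    · exact (isFinLocFree_iff _).2 fun _ => ⟨⊤, trivial, (hfree.of_iso
        (((Scheme.Modules.restrictFunctorIsoPullback V.ι).app _).symm ≪≫
          (Scheme.Modules.restrictFunctor V.ι).mapIso eM.symm)).pullback _⟩
    · exact finLocFree_rst _ (finLocFree_of_iso (P'.truncGEXIso c k hk).symm (hf k))
where
  spanFinrank_congr {A B : Type u} [CommRing A] [CommRing B] [IsRegularLocalRing A] [IsRegularLocalRing B] (e : A ≃+* B) :
      (IsLocalRing.maximalIdeal B).spanFinrank = (IsLocalRing.maximalIdeal A).spanFinrank := by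
    have h1 := RegLocal.dim_eq (R := A)
    rw [ringKrullDim_eq_of_ringEquiv e, RegLocal.dim_eq (R := B)] at h1
    exact_mod_cast h1

end Groth.Agent.H7RegPerfect
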