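import Mathlib
import Groth.Prelude.Def_BlowUp2
import Groth.Agent.Lib.H7Cartier

/-! Flatness over a base and relative effective Cartier divisors. -/

set_option autoImplicit false

universe u

open CategoryTheory AlgebraicGeometry TopologicalSpace TensorProduct

namespace Groth.Agent.H7RelCartier

section alg

variable {A : Type u} [CommRing A]
variable {M N P : Type u} [AddCommGroup M] [Module A M] [AddCommGroup N] [Module A N]
  [AddCommGroup P] [Module A P]

/-- extensions of flat modules are flat. -/
theorem flat_ext (i : M →ₗ[A] N) (p : N →ₗ[A] P) (hi : Function.Injective i) (he : Function.Exact i p)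
    (hp : Function.Surjective p) [Module.Flat A M] [Module.Flat A P] : Module.Flat A N := by
  rw [Module.Flat.iff_rTensor_injective]
  intro J _
  rw [injective_iff_map_eq_zero]
  intro x hx
  have h1 : p.lTensor A ((J.subtype).rTensor N x) = 0 := by rw [hx, map_zero]
  rw [← LinearMap.comp_apply, LinearMap.lTensor_comp_rTensor, ← LinearMap.rTensor_comp_lTensor,
    LinearMap.comp_apply] at h1
  have h2 : p.lTensor J x = 0 :=
    Module.Flat.rTensor_preserves_injective_linearMap (M := P) J.subtype J.injective_subtype
      (by rw [h1, map_zero])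
  obtain ⟨w, rfl⟩ := (lTensor_exact J he hp x).mp h2
  have h3 : i.lTensor A ((J.subtype).rTensor M w) = 0 := by
    rw [← LinearMap.comp_apply, LinearMap.lTensor_comp_rTensor, ← LinearMap.rTensor_comp_lTensor,
      LinearMap.comp_apply, hx]
  have h4 := LinearMap.lTensor_injective_of_exact_of_flat p hp i hi he A (h3.trans (map_zero _).symm)
  rw [Module.Flat.rTensor_preserves_injective_linearMap (M := M) J.subtype J.injective_subtype
    (h4.trans (map_zero _).symm), map_zero]

/-- the kernel of a surjection of flat modules is flat. -/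
theorem flat_left (i : M →ₗ[A] N) (p : N →ₗ[A] P) (hi : Function.Injective i) (he : Function.Exact i p)
    (hp : Function.Surjective p) [Module.Flat A N] [Module.Flat A P] : Module.Flat A M := by
  rw [Module.Flat.iff_rTensor_injective]
  intro J _
  have e : Function.Injective (i.lTensor A ∘ (J.subtype).rTensor M) := by
    rw [← LinearMap.coe_comp, LinearMap.lTensor_comp_rTensor, ← LinearMap.rTensor_comp_lTensor,
      LinearMap.coe_comp]
    exact (Module.Flat.rTensor_preserves_injective_linearMap (M := N) J.subtype J.injective_subtype).comp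
      (LinearMap.lTensor_injective_of_exact_of_flat p hp i hi he J)
  exact e.of_comp

variable {B : Type u} [CommRing B] [Algebra A B]

lemma exact_mul_mk (g : B) :
    Function.Exact (LinearMap.mulLeft A g) (Ideal.Quotient.mkₐ A (Ideal.span {g})).toLinearMap := by
  intro b
  simp only [AlgHom.toLinearMap_apply, Ideal.Quotient.mkₐ_eq_mk, Ideal.Quotient.eq_zero_iff_mem,
    Ideal.mem_span_singleton]
  exact ⟨fun ⟨c, hc⟩ => ⟨c, by simp [hc]⟩, fun ⟨c, hc⟩ => ⟨c, by simp [← hc]⟩⟩

/-- `g` acts injectively on `Q ⊗ B` when `B/gB` is flat. -/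
lemma lTensor_mul_injective {g : B} (hg : g ∈ nonZeroDivisors B) [Module.Flat A (B ⧸ Ideal.span {g})]
    (Q : Type u) [AddCommGroup Q] [Module A Q] :
    Function.Injective ((LinearMap.mulLeft A g).lTensor Q) :=
  LinearMap.lTensor_injective_of_exact_of_flat (Ideal.Quotient.mkₐ A (Ideal.span {g})).toLinearMap
    Ideal.Quotient.mk_surjective _ (fun _ _ h => (isRegular_iff_mem_nonZeroDivisors.mpr hg).left h)
    (exact_mul_mk g) Q

/-- flatness from the divisor and its complement. -/
theorem flat_of_flat_quotient_away {g : B} (hg : g ∈ nonZeroDivisors B)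
    [Module.Flat A (B ⧸ Ideal.span {g})] (C : Type u) [CommRing C] [Algebra A C] [Algebra B C]
    [IsScalarTower A B C] [IsLocalization.Away g C] [Module.Flat A C] : Module.Flat A B := by
  rw [Module.Flat.iff_rTensor_injective]
  intro J _
  rw [injective_iff_map_eq_zero]
  intro x hx
  let φ := (IsScalarTower.toAlgHom A B C).toLinearMap
  have h1 : φ.lTensor J x = 0 := by
    refine Module.Flat.rTensor_preserves_injective_linearMap (M := C) J.subtype J.injective_subtype ?_
    rw [map_zero, ← LinearMap.comp_apply, LinearMap.rTensor_comp_lTensor, ← LinearMap.lTensor_comp_rTensor,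
      LinearMap.comp_apply, hx, map_zero]
  let τ := TensorProduct.comm A J B
  have h2 : φ.rTensor J (τ x) = 0 := by
    have : ∀ z, φ.rTensor J (τ z) = TensorProduct.comm A J C (φ.lTensor J z) := fun z => by
      induction z using TensorProduct.induction_on with
      | zero => simp
      | tmul a b => simp [τ]
      | add a b ha hb => simp [map_add, ha, hb]
    rw [this, h1, map_zero]
  have : IsLocalizedModule (Submonoid.powers g) (Algebra.linearMap B C) := inferInstance
  have hloc : IsLocalizedModule (Submonoid.powers g)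
      (AlgebraTensorModule.rTensor A J (Algebra.linearMap B C)) := inferInstance
  obtain ⟨⟨_, n, rfl⟩, hn⟩ := (IsLocalizedModule.eq_zero_iff (Submonoid.powers g)
    (AlgebraTensorModule.rTensor A J (Algebra.linearMap B C))).mp (show
      AlgebraTensorModule.rTensor A J (Algebra.linearMap B C) (τ x) = 0 from h2)
  have hinj : ∀ y, g • y = (0 : B ⊗[A] J) → y = 0 := by
    intro y hy
    have h3 : (LinearMap.mulLeft A g).lTensor J (τ.symm y) = τ.symm (g • y) := by
      clear hy
      induction y using TensorProduct.induction_on with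
      | zero => simp
      | tmul b a => simp [τ, TensorProduct.smul_tmul']
      | add a b ha hb => simp [map_add, smul_add, ha, hb]
    rw [hy, map_zero] at h3
    simpa using congrArg τ (lTensor_mul_injective hg J (h3.trans (map_zero _).symm))
  have hτ : τ x = 0 := by
    clear h2 hx h1
    induction n with
    | zero => simpa using hn
    | succ n ih =>
      refine ih (hinj _ ?_)
      show g • (g ^ n • τ x) = 0
      rw [smul_smul, ← pow_succ']
      exact hn
  simpa using congrArg τ.symm hτ

/-- flatness from the divisor, Noetherian local case. -/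
theorem flat_of_flat_quotient_local [IsNoetherianRing B] [IsLocalRing B] {g : B}
    (hg : g ∈ nonZeroDivisors B) (hgm : g ∈ IsLocalRing.maximalIdeal B)
    [Module.Flat A (B ⧸ Ideal.span {g})] : Module.Flat A B := by
  rw [Module.Flat.iff_lTensor_injective]
  intro J hJ
  have : Module.Finite A J := Module.Finite.iff_fg.mpr hJ
  let π := (Ideal.Quotient.mkₐ A (Ideal.span {g})).toLinearMap
  let f := (AlgebraTensorModule.lTensor B B) (J.subtype)
  let K := LinearMap.ker f
  have hK : K ≤ Ideal.span {g} • K := by
    intro x hx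
    have hx' : J.subtype.lTensor B x = 0 := hx
    have h1 : π.rTensor J x = 0 := by
      refine Module.Flat.lTensor_preserves_injective_linearMap (M := B ⧸ Ideal.span {g}) J.subtype
        J.injective_subtype ?_
      rw [map_zero, ← LinearMap.comp_apply, LinearMap.lTensor_comp_rTensor, ← LinearMap.rTensor_comp_lTensor,
        LinearMap.comp_apply, hx', map_zero]
    obtain ⟨y, hy⟩ := (rTensor_exact J (exact_mul_mk g) Ideal.Quotient.mk_surjective x).mp h1
    have hgy : ∀ z : B ⊗[A] J, (LinearMap.mulLeft A g).rTensor J z = g • z := fun z => by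
      induction z using TensorProduct.induction_on with
      | zero => simp
      | tmul b a => simp [TensorProduct.smul_tmul']
      | add a b ha hb => simp [ha, hb]
    rw [hgy] at hy
    have hfy : f y = 0 := by
      have h0 : g • f y = 0 := by rw [← map_smul, hy]; exact hx
      have e : (TensorProduct.rid A B) (g • f y) = g * (TensorProduct.rid A B) (f y) := by
        generalize f y = z
        induction z using TensorProduct.induction_on with
        | zero => simp
        | tmul b a => simp [TensorProduct.smul_tmul', mul_smul_comm]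
        | add a b ha hb => simp [smul_add, ha, hb, mul_add]
      rw [h0, map_zero] at e
      exact (TensorProduct.rid A B).map_eq_zero_iff.mp ((mem_nonZeroDivisors_iff_left.mp hg) _ e.symm)
    rw [← hy]
    exact Submodule.smul_mem_smul (Ideal.mem_span_singleton_self g) hfy
  have : Module.Finite B (B ⊗[A] J) := inferInstance
  have hbot := Submodule.eq_bot_of_le_smul_of_le_jacobson_bot (Ideal.span {g}) K (IsNoetherian.noetherian K) hK
    (by rw [IsLocalRing.jacobson_eq_maximalIdeal ⊥ bot_ne_top, Ideal.span_singleton_le_iff_mem]; exact hgm)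
  exact (LinearMap.ker_eq_bot (f := f)).mp hbot

end alg

variable {X S : Scheme.{u}}

/-- flatness of a closed subscheme over the base in affine terms. -/
theorem flat_subscheme_appLE {f : X ⟶ S} {I : X.IdealSheafData} (h : Flat (I.subschemeι ≫ f))
    (U : X.affineOpens) (V : S.affineOpens) (e : U.1 ≤ f ⁻¹ᵁ V.1) :
    ((Ideal.Quotient.mk (I.ideal U)).comp (f.appLE V.1 U.1 e).hom).Flat := by
  let W : I.subscheme.affineOpens := ⟨I.subschemeι ⁻¹ᵁ U.1, U.2.preimage _⟩
  have h1 := HasRingHomProperty.appLE (P := @Flat) _ h V W (Scheme.Hom.preimage_mono _ e)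
  rw [← Scheme.Hom.appLE_comp_appLE I.subschemeι f V.1 U.1 W.1 e le_rfl,
    ← Scheme.Hom.app_eq_appLE, Scheme.IdealSheafData.subschemeι_app] at h1
  have h2 := RingHom.Flat.comp h1
    (RingHom.Flat.of_bijective (ConcreteCategory.bijective_of_isIso (I.subschemeObjIso U).hom))
  rw [← CommRingCat.hom_comp, Category.assoc, Category.assoc, Iso.inv_hom_id, Category.comp_id,
    CommRingCat.hom_comp] at h2
  exact h2

theorem flat_subscheme_of_appLE {f : X ⟶ S} {I : X.IdealSheafData}
    (h : ∀ x : X, x ∈ I.support → ∃ (U : X.affineOpens) (V : S.affineOpens) (e : U.1 ≤ f ⁻¹ᵁ V.1),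
      x ∈ U.1 ∧ ((Ideal.Quotient.mk (I.ideal U)).comp (f.appLE V.1 U.1 e).hom).Flat) :
    Flat (I.subschemeι ≫ f) := by
  rw [HasRingHomProperty.iff_exists_appLE (P := @Flat) (Q := RingHom.Flat)
    (RingHom.Flat.stableUnderComposition.stableUnderCompositionWithLocalizationAway
      RingHom.Flat.holdsForLocalizationAway).1]
  intro z
  obtain ⟨U, V, e, hzU, hflat⟩ := h (I.subschemeι z) (by
    show I.subschemeι z ∈ (I.support : Set X)
    rw [← I.range_subschemeι]
    exact ⟨z, rfl⟩)
  refine ⟨V, ⟨I.subschemeι ⁻¹ᵁ U.1, U.2.preimage _⟩, hzU, Scheme.Hom.preimage_mono _ e, ?_⟩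
  rw [← Scheme.Hom.appLE_comp_appLE I.subschemeι f V.1 U.1 _ e le_rfl,
    ← Scheme.Hom.app_eq_appLE, Scheme.IdealSheafData.subschemeι_app]
  have h2 := RingHom.Flat.comp hflat
    (RingHom.Flat.of_bijective (ConcreteCategory.bijective_of_isIso (I.subschemeObjIso U).inv))
  exact h2

theorem flat_of_exists_appLE {f : X ⟶ S}
    (h : ∀ x : X, ∃ (U : X.affineOpens) (V : S.affineOpens) (e : U.1 ≤ f ⁻¹ᵁ V.1),
      x ∈ U.1 ∧ (f.appLE V.1 U.1 e).hom.Flat) : Flat f := by
  rw [HasRingHomProperty.iff_exists_appLE (P := @Flat) (Q := RingHom.Flat)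
    (RingHom.Flat.stableUnderComposition.stableUnderCompositionWithLocalizationAway
      RingHom.Flat.holdsForLocalizationAway).1]
  intro x
  obtain ⟨U, V, e, hx, hf⟩ := h x
  exact ⟨V, U, hx, e, hf⟩

lemma exists_affine_pair (f : X ⟶ S) (x : X) :
    ∃ (U : X.affineOpens) (V : S.affineOpens), x ∈ U.1 ∧ U.1 ≤ f ⁻¹ᵁ V.1 := by
  obtain ⟨V, hV, -⟩ := H7Cartier.exists_affine_mem_le (f.base x) ⊤ trivial
  obtain ⟨U, hU, e⟩ := H7Cartier.exists_affine_mem_le x (f ⁻¹ᵁ V.1) hV
  exact ⟨U, V, hU, e⟩

lemma flat_ι_comp_of_stalkMap {f : X ⟶ S} (W : X.Opens) (h : ∀ x ∈ W, (f.stalkMap x).hom.Flat) :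
    Flat (W.ι ≫ f) := by
  refine Flat.of_stalkMap _ fun w => ?_
  rw [Scheme.Hom.stalkMap_comp]
  exact RingHom.Flat.comp (h _ w.2) (Flat.stalkMap W.ι w)

end Groth.Agent.H7RelCartier
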