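import Groth.Agent.Lib.H7SubQGen
import Groth.Agent.Lib.H7SubQReal
import Groth.Agent.Lib.H7PerfPull
import Groth.Agent.Lib.LQcqs
import Groth.Prelude.Def_PerfAux
import Mathlib

/-! The resolution property passes along affine morphisms. -/

set_option autoImplicit false
universe u

open CategoryTheory Limits TopologicalSpace Opposite AlgebraicGeometry
open Groth.Agent.LQcoh

namespace Groth.Agent.H7ResAffine
open Groth.Agent H7SubQ

variable {X Y : Scheme.{u}}

/-- a map vanishing on generators over an affine cover vanishes -/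
theorem eq_zero_of_gens {M T : X.Modules} [M.IsQuasicoherent] (g : M ⟶ T)
    (h : ∀ x : X, ∃ (U : X.Opens) (_ : IsAffineOpen U) (S : Set Γ(M, U)), x ∈ U ∧
      Submodule.span Γ(X, U) S = ⊤ ∧ ∀ s ∈ S, g.app U s = 0) : g = 0 := by
  ext W t
  show g.app W t = 0
  let F : TopCat.Sheaf AddCommGrpCat.{u} X := ⟨T.presheaf, T.isSheaf⟩
  refine TopCat.Presheaf.section_ext F W _ _ fun x hx => ?_
  obtain ⟨U, hU, S, hxU, hS, hSg⟩ := h x
  obtain ⟨r, hrW, hxr⟩ := hU.exists_basicOpen_le ⟨x, hx⟩ hxU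
  obtain ⟨N, y, hy⟩ := (exists_pow_of_affine hU M r).1 (res M hrW t)
  have hgU : g.app U y = 0 := by
    clear hy
    have hy' : y ∈ Submodule.span Γ(X, U) S := hS ▸ trivial
    induction hy' using Submodule.span_induction with
    | mem s hs => exact hSg s hs
    | zero => exact map_zero _
    | add a b _ _ ha hb => rw [map_add, ha, hb, add_zero]
    | smul c a _ ha =>
      have := Scheme.Modules.Hom.app_smul g c a
      rw [this, ha, smul_zero]
  have hnat : ∀ {A B : X.Opens} (i : B ≤ A) (s : Γ(M, A)), g.app B (res M i s) = res T i (g.app A s) := fun i s =>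
    ConcreteCategory.congr_hom (g.mapPresheaf.naturality (homOfLE i).op) s
  have h1 : resO (basicOpen_le_open r) (r ^ N) • g.app (X.basicOpen r) (res M hrW t) = 0 := by
    rw [← Scheme.Modules.Hom.app_smul, ← hy, hnat, hgU]; exact map_zero _
  have hu : IsUnit (resO (basicOpen_le_open r) (r ^ N)) := by
    show IsUnit (X.presheaf.map (homOfLE (basicOpen_le_open r)).op (r ^ N))
    rw [map_pow]
    exact IsUnit.pow _ (X.toRingedSpace.isUnit_res_basicOpen r)
  rw [hu.smul_eq_zero, hnat] at h1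
  have h2 := congrArg (T.presheaf.germ (X.basicOpen r) x hxr) h1
  rw [map_zero] at h2
  refine Eq.trans ?_ (h2.trans (map_zero _).symm)
  exact (TopCat.Presheaf.germ_res_apply T.presheaf (homOfLE hrW) x hxr _).symm

theorem finLocFree_pullback' (f : X ⟶ Y) {M : Y.Modules} (h : FlatMod.IsFinLocFree M) :
    FlatMod.IsFinLocFree ((Scheme.Modules.pullback f).obj M) := H7PerfPull.finLocFree_pullback f h

theorem resolutionProperty (f : X ⟶ Y) [IsAffineHom f] [CompactSpace Y] [QuasiSeparatedSpace Y]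
    (hY : PerfAux.HasResolutionProperty Y) : PerfAux.HasResolutionProperty X := by
  classical
  intro M hM hFT
  haveI : M.IsQuasicoherent := hM
  haveI : SheafOfModules.IsFiniteType (R := X.ringCatSheaf) M := hFT
  let P := (Scheme.Modules.pushforward f).obj M
  haveI : P.IsQuasicoherent := LQcoh.isQuasicoherent_push f M
  obtain ⟨t, ht⟩ := isCompact_univ.elim_finite_subcover (fun V : Y.affineOpens => ((V : Y.Opens) : Set Y))
    (fun V => (V : Y.Opens).2) fun y _ => by
      obtain ⟨V, hV⟩ := TopologicalSpace.Opens.mem_iSup.1 ((AlgebraicGeometry.iSup_affineOpens_eq_top Y).symm ▸ trivial : y ∈ ⨆ V : Y.affineOpens, (V : Y.Opens))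
      exact Set.mem_iUnion.2 ⟨V, hV⟩
  have hgen : ∀ V : Y.affineOpens, ∃ S : Set Γ(M, f ⁻¹ᵁ V.1), S.Finite ∧ Submodule.span Γ(X, f ⁻¹ᵁ V.1) S = ⊤ := by
    intro V
    haveI : Module.Finite Γ(X, f ⁻¹ᵁ V.1) Γ(M, f ⁻¹ᵁ V.1) := LQcoh.finite_sections _ (V.2.preimage f)
    obtain ⟨s, hs⟩ := (Module.Finite.fg_top : (⊤ : Submodule Γ(X, f ⁻¹ᵁ V.1) Γ(M, f ⁻¹ᵁ V.1)).FG)
    exact ⟨s, s.finite_toSet, hs⟩
  choose S hSfin hS using hgen
  choose N hN hNS using fun V : Y.affineOpens =>
    exists_sub_through P (Or.inr ⟨inferInstance, inferInstance⟩) V.1 V.2 (show Set Γ(P, V.1) from S V) (hSfin V)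
  let Nt : ∀ y : Y, Submodule (Y.presheaf.stalk y) (P.presheaf.stalk y) := fun y => t.sup fun V => N V y
  have hNt : LocFG P ⊤ Nt := locFG_finsetSup P t ⊤ N fun V _ => hN V
  haveI : (sub P Nt).IsQuasicoherent := qcoh_sub P hNt
  obtain ⟨E, π, hE, hπ⟩ := hY (sub P Nt) (qcoh_sub P hNt) (isFT_sub P hNt)
  let adj := Scheme.Modules.pullbackPushforwardAdjunction f
  refine ⟨(Scheme.Modules.pullback f).obj E, (adj.homEquiv E M).symm (π ≫ subι P Nt), finLocFree_pullback' f hE, ?_⟩
  refine Preadditive.epi_of_cancel_zero _ fun {T} g hg => ?_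
  have h1 : (π ≫ subι P Nt) ≫ (Scheme.Modules.pushforward f).map g = 0 := by
    have := adj.homEquiv_naturality_right ((adj.homEquiv E M).symm (π ≫ subι P Nt)) g
    rw [hg, Equiv.apply_symm_apply] at this
    rw [← this, Adjunction.homEquiv_unit, Functor.map_zero, comp_zero]
  rw [Category.assoc] at h1
  have h2 : subι P Nt ≫ (Scheme.Modules.pushforward f).map g = 0 := by
    rw [← cancel_epi π, h1, comp_zero]
  refine eq_zero_of_gens g fun x => ?_
  obtain ⟨V, hVt, hxV⟩ := Set.mem_iUnion₂.1 (ht (Set.mem_univ (f x)))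
  refine ⟨f ⁻¹ᵁ V.1, V.2.preimage f, S V, hxV, hS V, fun s hs => ?_⟩
  obtain ⟨s', hs'⟩ := (subι_app_range P Nt V.1 s).2 fun y hy =>
    (Finset.le_sup (f := fun V => N V y) hVt : N V y ≤ Nt y) (hNS V s hs y hy)
  have := congrArg (fun φ => Scheme.Modules.Hom.app φ V.1 s') h2
  rw [← hs']
  exact this

end Groth.Agent.H7ResAffine
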