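import Groth.Agent.Lib.H7RpushCoprod
import Mathlib

/-! Uniform vanishing of `H^m(Rf_*)` on `D_QCoh`. -/

universe u v w
open CategoryTheory Limits AlgebraicGeometry Opposite TopologicalSpace Pretriangulated HomologicalComplex

namespace Groth.Agent.H7RpushBound
open Groth.Agent H7PerfTri H7RpushCoprod

attribute [local instance] HasDerivedCategory.standard

variable {X S : Scheme.{u}}

lemma hd_iso {E F : DCoh.D S} (e : E ≅ F) {m : ℤ} (h : IsZero (DCoh.HD E m)) : IsZero (DCoh.HD F m) :=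
  h.of_iso ((DerivedCategory.homologyFunctor S.Modules m).mapIso e).symm

lemma hd₂ (T : Triangle (DCoh.D S)) (hT : T ∈ distTriang _) {m : ℤ} (h₁ : IsZero (DCoh.HD T.obj₁ m))
    (h₃ : IsZero (DCoh.HD T.obj₃ m)) : IsZero (DCoh.HD T.obj₂ m) :=
  (DerivedCategory.HomologySequence.exact₂ T hT m).isZero_of_both_zeros (h₁.eq_of_src _ _) (h₃.eq_of_tgt _ _)

lemma hd₁ (T : Triangle (DCoh.D S)) (hT : T ∈ distTriang _) {m : ℤ} (h₂ : IsZero (DCoh.HD T.obj₂ m))
    (h₃ : IsZero (DCoh.HD T.obj₃ (m - 1))) : IsZero (DCoh.HD T.obj₁ m) :=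
  (DerivedCategory.HomologySequence.exact₁ T hT (m - 1) m (by omega)).isZero_of_both_zeros
    (h₃.eq_of_src _ _) (h₂.eq_of_tgt _ _)

/-- the affine case -/
theorem isZero_affine [IsAffine X] [IsAffine S] (g : X ⟶ S) [DCoh.HasRpush g] (E : DCoh.D X) (hE : DCoh.IsQCohD E)
    (m : ℤ) (hm : IsZero (DCoh.HD E m)) : IsZero (DCoh.HD ((DCoh.Rpush g).obj E) m) := by
  haveI : IsAffineHom g := isAffineHom_of_isAffine g
  obtain ⟨M, ⟨e⟩⟩ := exists_affTilde E hE
  let AT := affTilde X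
  let Φ := AT ⋙ Scheme.Modules.pushforward g
  haveI := LQcoh.preservesFiniteLimits_tilde Γ(X, ⊤)
  haveI : PreservesFiniteLimits (Scheme.Modules.restrictFunctor X.isoSpec.hom) := inferInstance
  haveI : PreservesFiniteColimits (tilde.functor Γ(X, ⊤)) := inferInstance
  haveI : PreservesFiniteLimits AT := comp_preservesFiniteLimits _ _
  haveI : PreservesFiniteColimits AT := comp_preservesFiniteColimits _ _
  haveI : PreservesFiniteLimits (Scheme.Modules.pushforward g) := inferInstance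
  haveI : PreservesFiniteLimits Φ := comp_preservesFiniteLimits _ _
  haveI := preservesColimits_pushTilde g
  haveI : PreservesColimitsOfSize.{0, 0} Φ := preservesColimitsOfSize_shrink.{0, u, 0, u} Φ
  haveI : PreservesFiniteColimits Φ := PreservesColimitsOfSize.preservesFiniteColimits Φ
  have hM : IsZero (((AT.mapHomologicalComplex (ComplexShape.up ℤ)).obj M).homology m) :=
    hm.of_iso (((DerivedCategory.homologyFunctorFactors X.Modules m).app _).symm ≪≫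
      (DerivedCategory.homologyFunctor X.Modules m).mapIso e)
  have h0 : IsZero (M.homology m) := by
    have h1 : IsZero (AT.obj (M.homology m)) :=
      hM.of_iso ((M.sc m).mapHomologyIso AT).symm
    rw [IsZero.iff_id_eq_zero]
    haveI : (Scheme.Modules.restrictFunctor X.isoSpec.hom).Faithful := Functor.Faithful.of_iso (restrictIsoPush X.isoSpec).symm
    haveI : AT.Faithful := Functor.Faithful.comp _ _
    refine AT.map_injective ?_
    rw [CategoryTheory.Functor.map_id, Functor.map_zero]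
    exact h1.eq_of_src _ _
  have := H7AffinePush.isIso_beta g (F := (AT.mapHomologicalComplex (ComplexShape.up ℤ)).obj M) (fun n => qcoh_affTilde _)
  refine hd_iso (asIso ((H7RpushCalc.beta g).app ((AT.mapHomologicalComplex (ComplexShape.up ℤ)).obj M)) ≪≫
    (DCoh.Rpush g).mapIso e) ?_
  refine IsZero.of_iso ?_ ((DerivedCategory.homologyFunctorFactors S.Modules m).app _)
  exact (Φ.map_isZero h0).of_iso ((M.sc m).mapHomologyIso Φ)

/-- affine base -/
theorem exists_bound_affine_base [IsAffine S] (f : X ⟶ S) [QuasiCompact f] [QuasiSeparated f] [DCoh.HasRpush f] :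
    ∃ N : ℤ, ∀ E : DCoh.D X, DCoh.IsQCohD E → E.IsLE 0 → ∀ m : ℤ, N ≤ m →
      IsZero (DCoh.HD ((DCoh.Rpush f).obj E) m) := by
  haveI : CompactSpace X := QuasiCompact.compactSpace_of_compactSpace f
  haveI : QuasiSeparatedSpace X := quasiSeparatedSpace_of_quasiSeparated f
  obtain ⟨N, hN⟩ : ∃ N : ℤ, ∀ I : CochainComplex X.Modules ℤ, I.IsKInjective → (∀ n, Injective (I.X n)) →
      DCoh.IsQCohD (DerivedCategory.Q.obj I) → (∀ i : ℤ, 0 < i → IsZero (DCoh.HD (DerivedCategory.Q.obj I) i)) →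
      ∀ m : ℤ, N ≤ m → IsZero (DCoh.HD ((DCoh.Rpush f).obj (H7MV.obj ⊤ I)) m) := by
    refine H7QcqsInd.induction (Q := fun W => ∃ N : ℤ, ∀ I : CochainComplex X.Modules ℤ, I.IsKInjective →
      (∀ n, Injective (I.X n)) → DCoh.IsQCohD (DerivedCategory.Q.obj I) →
      (∀ i : ℤ, 0 < i → IsZero (DCoh.HD (DerivedCategory.Q.obj I) i)) →
      ∀ m : ℤ, N ≤ m → IsZero (DCoh.HD ((DCoh.Rpush f).obj (H7MV.obj W I)) m)) (fun A hA => ?_)
      (fun U V hU hV hUV => ?_) ⊤ isCompact_univ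
    · refine ⟨1, fun I hI _ hq hle m hm => ?_⟩
      haveI : IsAffine A.toScheme := hA
      haveI := H7MV.hasRpush A.ι
      haveI := H7MV.hasRpush (A.ι ≫ f)
      obtain ⟨e⟩ := H7RpushAdj.rpush_comp A.ι f
      obtain ⟨e'⟩ := H7MV.nonempty_obj_rpush A I hI
      refine hd_iso ((e.app _).symm ≪≫ (DCoh.Rpush f).mapIso e'.symm)
        (isZero_affine (A.ι ≫ f) _ (H7QCoh.isQCohD_restrict A.ι hq) m ?_)
      exact ((Scheme.Modules.restrictFunctor A.ι).map_isZero (hle m (by omega))).of_iso (H7QCoh.hdRestrict A.ι _ m)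
    · obtain ⟨N₁, h₁⟩ := hU
      obtain ⟨N₂, h₂⟩ := hV
      obtain ⟨N₃, h₃⟩ := hUV
      refine ⟨max (max N₁ N₂) (N₃ + 1), fun I hI hinj hq hle m hm => ?_⟩
      obtain ⟨T, hT, ⟨a₁⟩, ⟨a₂⟩, ⟨a₃⟩⟩ := H7MV.exists_triangle_pair (U := U) (V := V) I
      obtain ⟨c, hc⟩ := H7RpushAdj.exists_rpush_triangle f T hT
      have hp := hd_iso ((DCoh.Rpush f).mapIso a₂) (hd₂ _ hc
        (hd_iso ((DCoh.Rpush f).mapIso a₁.symm) (h₁ I hI hinj hq hle m (by omega)))
        (hd_iso ((DCoh.Rpush f).mapIso a₃.symm) (h₂ I hI hinj hq hle m (by omega))))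
      obtain ⟨T', hT', ⟨b₁⟩, ⟨b₂⟩, ⟨b₃⟩⟩ := H7MV.exists_triangle_mv (U := U) (V := V) I hinj
      obtain ⟨c', hc'⟩ := H7RpushAdj.exists_rpush_triangle f T' hT'
      exact hd_iso ((DCoh.Rpush f).mapIso b₁) (hd₁ _ hc' (hd_iso ((DCoh.Rpush f).mapIso b₂.symm) hp)
        (hd_iso ((DCoh.Rpush f).mapIso b₃.symm) (h₃ I hI hinj hq hle (m - 1) (by omega))))
  refine ⟨N, fun E hE hle m hm => ?_⟩
  obtain ⟨I, g, hI, hg, -, hinj⟩ := H5KInj.exists_kInjective (DerivedCategory.Q.objPreimage E)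
  have := (DerivedCategory.isIso_Q_map_iff_quasiIso _ g).2 hg
  let e : DerivedCategory.Q.obj I ≅ E :=
    (asIso (DerivedCategory.Q.map g)).symm ≪≫ DerivedCategory.Q.objObjPreimageIso E
  refine hd_iso ((DCoh.Rpush f).mapIso ((H7MV.nonempty_obj_top I).some ≪≫ e))
    (hN I hI hinj (H7RpushQCoh.isQCohD_of_iso e.symm hE) (fun i hi => ?_) m hm)
  exact hd_iso e.symm (DerivedCategory.isZero_of_isLE E 0 i hi)

theorem exists_bound [CompactSpace S] (f : X ⟶ S) [QuasiCompact f] [QuasiSeparated f] [DCoh.HasRpush f] :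
    ∃ N : ℤ, ∀ E : DCoh.D X, DCoh.IsQCohD E → E.IsLE 0 → ∀ m : ℤ, N ≤ m →
      IsZero (DCoh.HD ((DCoh.Rpush f).obj E) m) := by
  obtain ⟨s, hs, hcov⟩ : ∃ s : Set S.affineOpens, s.Finite ∧ (⊤ : S.Opens) = ⨆ i ∈ s, (i : S.Opens) :=
    isCompact_iff_finite_and_eq_biUnion_affineOpens.1 (isCompact_univ (X := S))
  have hN : ∀ V : S.affineOpens, ∃ N : ℤ, ∀ E : DCoh.D X, DCoh.IsQCohD E → E.IsLE 0 → ∀ m : ℤ, N ≤ m →
      IsZero ((Scheme.Modules.restrictFunctor V.1.ι).obj (DCoh.HD ((DCoh.Rpush f).obj E) m)) := fun V => by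
    haveI : IsAffine V.1.toScheme := V.2
    haveI := H7MV.hasRpush (f ∣_ V.1)
    obtain ⟨N, hN⟩ := exists_bound_affine_base (f ∣_ V.1)
    obtain ⟨e⟩ := H7RpushLocal.nonempty_restrict_rpush f V.1
    refine ⟨N, fun E hE hle m hm => ?_⟩
    haveI : DerivedCategory.IsLE ((rD (f ⁻¹ᵁ V.1).ι).obj E) 0 := by
      rw [DerivedCategory.isLE_iff]
      exact fun i hi => ((Scheme.Modules.restrictFunctor (f ⁻¹ᵁ V.1).ι).map_isZero
        (DerivedCategory.isZero_of_isLE E 0 i hi)).of_iso (H7QCoh.hdRestrict _ E i)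
    exact (hd_iso (e.app E).symm (hN _ (H7QCoh.isQCohD_restrict _ hE) inferInstance m hm)).of_iso
      (H7QCoh.hdRestrict V.1.ι _ m).symm
  choose N hN using hN
  obtain ⟨B, hB⟩ := (hs.image N).bddAbove
  refine ⟨B, fun E hE hle m hm => H7PseudoNoeth.isZero_of_cover fun x => ?_⟩
  obtain ⟨V, hxV⟩ : ∃ V : S.affineOpens, V ∈ s ∧ x ∈ V.1 := by
    have hx : x ∈ ⨆ i ∈ s, (i : S.Opens) := hcov ▸ (trivial : x ∈ (⊤ : S.Opens))
    simp only [Opens.mem_iSup] at hx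
    obtain ⟨V, hV, hxV⟩ := hx
    exact ⟨V, hV, hxV⟩
  haveI : IsAffine V.1.toScheme := V.2
  refine ⟨_, V.1.toScheme.isoSpec.inv ≫ V.1.ι, inferInstance,
    ⟨V.1.toScheme.isoSpec.hom.base ⟨x, hxV.2⟩, ?_⟩, ?_⟩
  · show (V.1.toScheme.isoSpec.hom ≫ V.1.toScheme.isoSpec.inv ≫ V.1.ι) ⟨x, hxV.2⟩ = x
    rw [Iso.hom_inv_id_assoc]
    rfl
  exact ((Scheme.Modules.restrictFunctor _).map_isZero (hN V E hE hle m (le_trans (hB ⟨V, hxV.1, rfl⟩) hm))).of_iso
    ((Scheme.Modules.restrictFunctorComp V.1.toScheme.isoSpec.inv V.1.ι).app _)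

end Groth.Agent.H7RpushBound
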