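import Groth.Prelude.Def_CurvBase
import Groth.Agent.Lib.H7QRFlatScheme
import Mathlib

/-! Small facts: locally principal complements, local finiteness of components, regular immersions at stalks. -/

set_option autoImplicit false
universe u
open CategoryTheory AlgebraicGeometry TopologicalSpace

namespace Groth.Agent.H7Small

theorem isAffineHom_compl {S : Scheme.{u}} (I : S.IdealSheafData) (h : Curv2.IsLocPrincipal I) :
    IsAffineHom (Scheme.Opens.ι I.support.compl) := by
  have hloc : ∀ x : S, ∃ V : S.affineOpens, x ∈ V.1 ∧ IsAffineOpen (V.1 ⊓ I.support.compl) := by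
    intro x
    by_cases hx : x ∈ I.support
    · obtain ⟨V, hxV, f, hf⟩ := h x hx
      refine ⟨V, hxV, ?_⟩
      have : V.1 ⊓ I.support.compl = S.basicOpen f := by
        refine TopologicalSpace.Opens.ext (Set.ext fun y => ?_)
        constructor
        · rintro ⟨hyV, hys⟩
          by_contra hc
          refine hys ?_
          show y ∈ I.support
          rw [Scheme.IdealSheafData.mem_support_iff_of_mem (U := V) hyV, hf, Scheme.zeroLocus_span, Scheme.mem_zeroLocus_iff]
          rintro g rfl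
          exact hc
        · intro hy
          refine ⟨S.basicOpen_le f hy, fun hc => ?_⟩
          have hc' : y ∈ I.support := hc
          rw [Scheme.IdealSheafData.mem_support_iff_of_mem (U := V) (S.basicOpen_le f hy), hf, Scheme.zeroLocus_span, Scheme.mem_zeroLocus_iff] at hc'
          exact hc' f rfl hy
      rw [this]
      exact V.2.basicOpen f
    · obtain ⟨V, hV, hxV, hle⟩ := exists_isAffineOpen_mem_and_subset (x := x) (U := I.support.compl) hx
      refine ⟨⟨V, hV⟩, hxV, ?_⟩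
      rw [inf_eq_left.2 (SetLike.coe_subset_coe.1 hle)]
      exact hV
  choose V hxV hV using hloc
  refine isAffineHom_of_forall_exists_isAffineOpen _ fun x => ⟨(V x).1, hxV x, (V x).2, ?_⟩
  rw [← (Scheme.Opens.ι I.support.compl).isAffineOpen_iff_of_isOpenImmersion,
    Scheme.Hom.image_preimage_eq_opensRange_inf, Scheme.Opens.opensRange_ι, inf_comm]
  exact hV x

theorem locallyFinite_components (X : Scheme.{u}) [IsLocallyNoetherian X] (Z : Set X) (hZ : IsClosed Z) :
    LocallyFinite (fun T : ↥(irreducibleComponents ↥Z) => ((↑) '' (T.1 : Set ↥Z) : Set X)) := by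
  intro x
  obtain ⟨V, hV, hxV, -⟩ := exists_isAffineOpen_mem_and_subset (x := x) (U := ⊤) trivial
  haveI : IsNoetherianRing Γ(X, V) := IsLocallyNoetherian.component_noetherian ⟨V, hV⟩
  haveI : NoetherianSpace ↥(V : Set X) := noetherianSpace_of_isAffineOpen V hV
  refine ⟨V, V.2.mem_nhds hxV, ?_⟩
  haveI : NoetherianSpace ↥((V : Set X) ∩ Z) := NoetherianSpace.of_subset (W := (V : Set X)) Set.inter_subset_left
  let ι : ↥((V : Set X) ∩ Z) → ↥Z := fun a => ⟨a.1, a.2.2⟩
  have hι : Continuous ι := continuous_subtype_val.subtype_mk _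
  have hopen : IsOpen ((Subtype.val : ↥Z → X) ⁻¹' V) := V.2.preimage continuous_subtype_val
  have key : ∀ T : ↥(irreducibleComponents ↥Z), (((↑) '' (T.1 : Set ↥Z) : Set X) ∩ V).Nonempty →
      ∃ C ∈ irreducibleComponents ↥((V : Set X) ∩ Z), closure (ι '' C) = T.1 := by
    rintro T ⟨_, ⟨t, ht, rfl⟩, htV⟩
    have hTc := isClosed_of_mem_irreducibleComponents T.1 T.2
    have hC0 : IsIrreducible (ι ⁻¹' T.1) := by
      refine ⟨⟨⟨t.1, htV, t.2⟩, ht⟩, ?_⟩
      rintro u v hu hv ⟨a, ha1, ha2⟩ ⟨b, hb1, hb2⟩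
      obtain ⟨u', hu', rfl⟩ := isOpen_induced_iff.1 hu
      obtain ⟨v', hv', rfl⟩ := isOpen_induced_iff.1 hv
      obtain ⟨c, hc1, ⟨hc2, hc3⟩, -, hc4⟩ := T.2.1.isPreirreducible ((Subtype.val : ↥Z → X) ⁻¹' ((V : Set X) ∩ u'))
        ((Subtype.val : ↥Z → X) ⁻¹' ((V : Set X) ∩ v'))
        ((V.2.inter hu').preimage continuous_subtype_val) ((V.2.inter hv').preimage continuous_subtype_val)
        ⟨ι a, ha1, a.2.1, ha2⟩ ⟨ι b, hb1, b.2.1, hb2⟩
      exact ⟨⟨c.1, hc2, c.2⟩, hc1, hc3, hc4⟩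
    obtain ⟨C, hC, hCT⟩ := exists_mem_irreducibleComponents_subset_of_isIrreducible _ hC0
    refine ⟨C, hC, ?_⟩
    have h2 : T.1 ⊆ closure (ι '' C) := by
      refine (subset_closure_inter_of_isPreirreducible_of_isOpen T.2.1.isPreirreducible hopen ⟨t, ht, htV⟩).trans ?_
      refine closure_mono ?_
      rintro z ⟨hz, hzV⟩
      exact ⟨⟨z.1, hzV, z.2⟩, hCT hz, Subtype.ext rfl⟩
    exact (T.2.2 ⟨(hC.1.image ι hι.continuousOn).closure.1, (hC.1.image ι hι.continuousOn).closure.2⟩ h2).antisymm h2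
  refine Set.Finite.of_finite_image (f := Subtype.val) (((NoetherianSpace.finite_irreducibleComponents
    (α := ↥((V : Set X) ∩ Z))).image fun C => closure (ι '' C)).subset ?_) Subtype.val_injective.injOn
  rintro _ ⟨T, hT, rfl⟩
  obtain ⟨C, hC, e⟩ := key T hT
  exact ⟨C, hC, e⟩

theorem exists_regular_stalk {Z X : Scheme.{u}} (i : Z ⟶ X)
    (h : RegImm.IsRegularImmersion RegImm.Kind.regular i) (z : Z) :
    ∃ rs : List (X.presheaf.stalk (i z)),
      RingTheory.Sequence.IsRegular (X.presheaf.stalk (i z)) rs ∧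
        RingHom.ker (i.stalkMap z).hom = Ideal.ofList rs := by
  obtain ⟨hi, hreg⟩ := h
  haveI := hi
  obtain ⟨U, hzU, hcl, rs, hrs, hker⟩ := hreg z
  haveI := hcl
  letI := (X.presheaf.germ U.1 (i z) hzU).hom.toAlgebra
  haveI : IsLocalization.AtPrime (X.presheaf.stalk (i z)) (U.2.primeIdealOf ⟨i z, hzU⟩).asIdeal := U.2.isLocalization_stalk ⟨i z, hzU⟩
  have hk : RingHom.ker (i.stalkMap z).hom = Ideal.ofList (rs.map (algebraMap Γ(X, U.1) (X.presheaf.stalk (i z)))) := by
    rw [H7QRFlat.ker_stalkMap i z U.1 U.2 hzU, hker, Ideal.map_ofList]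
    rfl
  refine ⟨_, ⟨RingTheory.Sequence.IsWeaklyRegular.of_isLocalization (T := (U.2.primeIdealOf ⟨i z, hzU⟩).asIdeal.primeCompl) _ hrs.1, ?_⟩, hk⟩
  rw [smul_eq_mul, Ideal.mul_top, ← hk]
  exact (RingHom.ker_ne_top _).symm

end Groth.Agent.H7Small
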