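import Groth.Prelude.Def_KRR
import Groth.Agent.Lib.H7LineNilp
import Mathlib

/-! Consequences of the splitting property: Adams operations, Bott classes, augmentations of σ^j. -/

set_option autoImplicit false
universe v w
open PowerSeries Finset LambdaRing

namespace Groth.Agent.H7Split

variable {K : Type v} [CommRing K] [LambdaOps K] {L : Type v} [CommRing L] [LambdaOps L]

theorem map_invOfUnit {R : Type v} {S : Type w} [CommRing R] [CommRing S] (f : R →+* S) (a : R⟦X⟧)
    (ha : constantCoeff a = 1) : PowerSeries.map f (a.invOfUnit 1) = (PowerSeries.map f a).invOfUnit 1 := by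
  have h1 := congrArg (PowerSeries.map f) (a.mul_invOfUnit 1 (by simpa using ha))
  rw [map_mul, map_one] at h1
  have hc : constantCoeff (PowerSeries.map f a) = 1 := by
    rw [← PowerSeries.coeff_zero_eq_constantCoeff_apply, PowerSeries.coeff_map, PowerSeries.coeff_zero_eq_constantCoeff_apply, ha, map_one]
  exact (IsUnit.of_mul_eq_one _ h1).mul_left_cancel
    (h1.trans ((PowerSeries.map f a).mul_invOfUnit 1 (by simpa using hc)).symm)

lemma constantCoeff_resc (x : K) : constantCoeff (PowerSeries.rescale (-1 : K) (lamSeries x)) = 1 := by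
  rw [← PowerSeries.coeff_zero_eq_constantCoeff_apply, PowerSeries.coeff_rescale]
  simp [lamSeries, LambdaOps.lam_zero]

lemma map_lamSeries {f : K →+* L} (hf : IsLambdaHom f) (x : K) :
    PowerSeries.map f (lamSeries x) = lamSeries (f x) := by
  ext i
  simp [lamSeries, hf i x]

theorem exists_split {P : PosStructure K} (hK : HasSplitting K P) {e : K} (he : e ∈ P.pos) :
    ∃ (L : PosLambdaRing.{v}) (f : K →+* L.carrier) (s : Fin (P.aug e).toNat → L.carrier),
      IsExtension P L.posStr f ∧ (∀ i, L.posStr.IsLine (s i)) ∧ ∑ i, s i = f e := by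
  obtain ⟨C, hC, h⟩ := hK
  obtain ⟨L, -, f, hf, s, hs, hsum⟩ := h _ hC e he
  have hlen : (P.aug e).toNat = s.toList.length := by
    have h1 := hf.aug_comp e
    rw [← hsum, map_multiset_sum, Multiset.map_congr rfl (fun u hu => (hs u hu).2), Multiset.map_const',
      Multiset.sum_replicate, nsmul_one] at h1
    rw [← h1, Multiset.length_toList]
    simp
  refine ⟨L, f, fun i => s.toList.get (i.cast hlen), hf, fun i => hs _ (Multiset.mem_toList.1 (List.get_mem _ _)), ?_⟩
  rw [← hsum, ← Multiset.sum_toList, ← Equiv.sum_comp (finCongr hlen.symm)]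
  conv_rhs => rw [← List.ofFn_get s.toList, List.sum_ofFn]
  rfl

variable (P : PosStructure K)

include P in
theorem lamSeries_sum {ι : Type*} (s : ι → K) (t : Finset ι) (hs : ∀ i ∈ t, P.IsLine (s i)) :
    lamSeries (∑ i ∈ t, s i) = ((∏ i ∈ t, (1 + Polynomial.C (s i) * Polynomial.X) : Polynomial K) : K⟦X⟧) := by
  classical
  induction t using Finset.induction with
  | empty => simp [H7LineNilp.lamSeries_zero]
  | @insert a t ha ih =>
    rw [Finset.sum_insert ha, Finset.prod_insert ha, H7LineNilp.lamSeries_add,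
      H7LineNilp.lamSeries_line P (hs a (Finset.mem_insert_self a t)),
      ih (fun i hi => hs i (Finset.mem_insert_of_mem hi)), Polynomial.coe_mul]

include P in
theorem lam_sum_eq_esymm {n : ℕ} (s : Fin n → K) (hs : ∀ i, P.IsLine (s i)) (k : ℕ) :
    LambdaOps.lam k (∑ i, s i) = MvPolynomial.aeval s (MvPolynomial.esymm (Fin n) ℤ k) := by
  have h := congrArg (PowerSeries.coeff k) (lamSeries_sum P s Finset.univ fun i _ => hs i)
  rw [Polynomial.coeff_coe] at h
  simp only [lamSeries, PowerSeries.coeff_mk] at h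
  rw [h, MvPolynomial.esymm, map_sum, Finset.prod_one_add, Polynomial.finsetSum_coeff,
    Finset.powersetCard_eq_filter, Finset.sum_filter]
  refine Finset.sum_congr rfl fun t _ => ?_
  rw [Finset.prod_mul_distrib, ← map_prod, Finset.prod_const, Polynomial.coeff_C_mul_X_pow, map_prod]
  simp [eq_comm]

theorem aug_lam (hK : HasSplitting K P) {e : K} (he : e ∈ P.pos) (k : ℕ) :
    P.aug (LambdaOps.lam k e) = ((P.aug e).toNat.choose k : ℤ) := by
  obtain ⟨L, f, s, hf, hs, hsum⟩ := exists_split hK he
  rw [← hf.aug_comp, hf.isLambdaHom k e, ← hsum, lam_sum_eq_esymm L.posStr s hs k, MvPolynomial.esymm, map_sum, map_sum,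
    Finset.sum_congr rfl (g := fun _ => (1 : ℤ)) (fun t _ => by simp [(hs _).2])]
  simp

theorem map_sigmaSeries (hK : HasSplitting K P) {e : K} (he : e ∈ P.pos) {r : ℕ} (hr : P.aug e = r + 1) :
    PowerSeries.map P.aug (KRR.sigmaSeries e) = (PowerSeries.invOneSubPow ℤ (r + 1)).val := by
  rw [KRR.sigmaSeries, map_invOfUnit _ _ (constantCoeff_resc e)]
  have hn : (P.aug e).toNat = r + 1 := by omega
  have h1 : PowerSeries.map P.aug (PowerSeries.rescale (-1 : K) (lamSeries e)) = (1 - X : ℤ⟦X⟧) ^ (r + 1) := by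
    have h2 : ((1 - X : ℤ⟦X⟧) ^ (r + 1)) = PowerSeries.rescale (-1 : ℤ) (((1 + Polynomial.X) ^ (r + 1) : Polynomial ℤ) : ℤ⟦X⟧) := by
      rw [Polynomial.coe_pow, Polynomial.coe_add, Polynomial.coe_one, Polynomial.coe_X, map_pow, map_add, map_one,
        PowerSeries.rescale_neg_one_X, sub_eq_add_neg]
    rw [h2]
    ext k
    rw [PowerSeries.coeff_map, PowerSeries.coeff_rescale, PowerSeries.coeff_rescale, map_mul, map_pow, map_neg, map_one,
      Polynomial.coeff_coe, Polynomial.coeff_one_add_X_pow]
    congr 1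
    simp only [lamSeries, PowerSeries.coeff_mk, aug_lam P hK he, hn]
  rw [h1]
  have hu : constantCoeff ((1 - X : ℤ⟦X⟧) ^ (r + 1)) = 1 := by simp
  have := ((1 - X : ℤ⟦X⟧) ^ (r + 1)).mul_invOfUnit 1 (by simpa using hu)
  refine (IsUnit.of_mul_eq_one _ this).mul_left_cancel (this.trans ?_)
  have h3 := (PowerSeries.invOneSubPow ℤ (r + 1)).inv_val
  exact h3.symm

theorem aug_sigma (hK : HasSplitting K P) {e : K} (he : e ∈ P.pos) {r : ℕ} (hr : P.aug e = r + 1) (j : ℕ) :
    P.aug (KRR.sigma j e) = ((r + j).choose j : ℤ) := by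
  have h := congrArg (PowerSeries.coeff j) (map_sigmaSeries P hK he hr)
  rw [PowerSeries.coeff_map, PowerSeries.invOneSubPow_val_succ_eq_mk_add_choose, PowerSeries.coeff_mk] at h
  rw [KRR.sigma, h, Nat.choose_symm_add]

/-! ### Adams -/

lemma adamsSeries_eq (x : K) : adamsSeries P x = PowerSeries.C (P.aug x : K) -
    X * (PowerSeries.derivative K (PowerSeries.rescale (-1 : K) (lamSeries x)) *
      (PowerSeries.rescale (-1 : K) (lamSeries x)).invOfUnit 1) := by
  rw [adamsSeries, mul_assoc]

theorem adams_add (j : ℕ) (x y : K) : adams P j (x + y) = adams P j x + adams P j y := by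
  rw [adams, adams, adams, ← map_add, adamsSeries_eq, adamsSeries_eq, adamsSeries_eq, map_add, Int.cast_add, map_add,
    H7LineNilp.lamSeries_add, map_mul]
  refine congrArg (PowerSeries.coeff j) ?_
  set a := PowerSeries.rescale (-1 : K) (lamSeries x) with ha_def
  set b := PowerSeries.rescale (-1 : K) (lamSeries y) with hb_def
  have ha := a.mul_invOfUnit 1 (by rw [ha_def, constantCoeff_resc]; rfl)
  have hb := b.mul_invOfUnit 1 (by rw [hb_def, constantCoeff_resc]; rfl)
  have hab : constantCoeff (a * b) = 1 := by rw [map_mul, ha_def, hb_def, constantCoeff_resc, constantCoeff_resc, one_mul]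
  have hc := (a * b).mul_invOfUnit 1 (by simpa using hab)
  have hi : (a * b).invOfUnit 1 = a.invOfUnit 1 * b.invOfUnit 1 :=
    (IsUnit.of_mul_eq_one _ hc).mul_left_cancel (by rw [hc, mul_mul_mul_comm, ha, hb, one_mul])
  rw [hi, Derivation.leibniz, smul_eq_mul, smul_eq_mul]
  linear_combination (-(X * (PowerSeries.derivative K b * b.invOfUnit 1))) * ha +
    (-(X * (PowerSeries.derivative K a * a.invOfUnit 1))) * hb

theorem adams_sub (j : ℕ) (x y : K) : adams P j (x - y) = adams P j x - adams P j y := by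
  rw [eq_sub_iff_add_eq, ← adams_add, sub_add_cancel]

theorem adams_line {u : K} (hu : P.IsLine u) {j : ℕ} (hj : 1 ≤ j) : adams P j u = u ^ j := by
  rw [adams, adamsSeries_eq, hu.2, H7LineNilp.lamSeries_line P hu, Int.cast_one, map_one]
  have hr : PowerSeries.rescale (-1 : K) ((1 + Polynomial.C u * Polynomial.X : Polynomial K) : K⟦X⟧) = 1 - PowerSeries.C u * X := by
    rw [Polynomial.coe_add, Polynomial.coe_mul, Polynomial.coe_one, Polynomial.coe_C, Polynomial.coe_X, map_add, map_mul,
      map_one, PowerSeries.rescale_neg_one_X]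
    have : PowerSeries.rescale (-1 : K) (PowerSeries.C u) = PowerSeries.C u := by
      ext k; rw [PowerSeries.coeff_rescale, PowerSeries.coeff_C]; split_ifs with h <;> simp [h]
    rw [this]; ring
  rw [hr]
  have hmk : (1 - PowerSeries.C u * X) * PowerSeries.mk (fun k => u ^ k) = 1 := by
    ext k
    rw [sub_mul, one_mul, map_sub, mul_assoc, PowerSeries.coeff_C_mul, PowerSeries.coeff_mk, PowerSeries.coeff_one]
    rcases k with _ | k
    · simp
    · rw [PowerSeries.coeff_succ_X_mul, PowerSeries.coeff_mk, if_neg (by omega), pow_succ']; ring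
  have hinv := (1 - PowerSeries.C u * X).mul_invOfUnit 1 (by simp)
  rw [(IsUnit.of_mul_eq_one _ hinv).mul_left_cancel (hinv.trans hmk.symm)]
  have hd : PowerSeries.derivative K (1 - PowerSeries.C u * X) = -PowerSeries.C u := by
    rw [map_sub, Derivation.map_one_eq_zero, Derivation.leibniz, PowerSeries.derivative_C, PowerSeries.derivative_X]
    simp
  rw [hd]
  obtain ⟨k, rfl⟩ : ∃ k, j = k + 1 := ⟨j - 1, by omega⟩
  rw [map_sub, PowerSeries.coeff_one, if_neg (by omega), PowerSeries.coeff_succ_X_mul, neg_mul, map_neg,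
    PowerSeries.coeff_C_mul, PowerSeries.coeff_mk, pow_succ']
  ring

theorem map_adams {P' : PosStructure L} {f : K →+* L} (hf : IsExtension P P' f) (j : ℕ) (x : K) :
    f (adams P j x) = adams P' j (f x) := by
  rw [adams, adams, ← PowerSeries.coeff_map, adamsSeries_eq, adamsSeries_eq, map_sub, map_mul, map_mul, PowerSeries.map_X,
    map_invOfUnit _ _ (constantCoeff_resc x), PowerSeries.map_C, hf.aug_comp, map_intCast]
  have hr : PowerSeries.map f (PowerSeries.rescale (-1 : K) (lamSeries x)) = PowerSeries.rescale (-1 : L) (lamSeries (f x)) := by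
    ext k
    simp [PowerSeries.coeff_rescale, lamSeries, hf.isLambdaHom k x]
  rw [← hr]
  congr 4
  ext k
  simp [PowerSeries.coeff_derivative]

theorem adams_prod_one_sub {n : ℕ} (s : Fin n → K) (hs : ∀ i, P.IsLine (s i)) {j : ℕ} (hj : 1 ≤ j) :
    adams P j (∏ i, (1 - s i)) = ∏ i, (1 - s i ^ j) := by
  classical
  have h1 : P.IsLine (1 : K) := ⟨by simpa using P.natCast_mem 1 one_pos, map_one _⟩
  suffices ∀ (t : Finset (Fin n)) (w : K), P.IsLine w →
      adams P j (w * ∏ i ∈ t, (1 - s i)) = w ^ j * ∏ i ∈ t, (1 - s i ^ j) by simpa using this Finset.univ 1 h1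
  intro t
  induction t using Finset.induction with
  | empty => intro w hw; simp [adams_line P hw hj]
  | @insert a t ha ih =>
    intro w hw
    have hwa : P.IsLine (w * s a) := ⟨P.mul_mem _ _ hw.1 (hs a).1, by rw [map_mul, hw.2, (hs a).2, mul_one]⟩
    rw [Finset.prod_insert ha, Finset.prod_insert ha,
      show w * ((1 - s a) * ∏ i ∈ t, (1 - s i)) = w * ∏ i ∈ t, (1 - s i) - (w * s a) * ∏ i ∈ t, (1 - s i) by ring,
      adams_sub, ih w hw, ih _ hwa]
    ring

theorem adams_lamAlt (hK : HasSplitting K P) {e : K} (he : e ∈ P.pos) {j : ℕ} (hj : 1 ≤ j) :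
    adams P j (KRR.lamAlt P e) = KRR.lamAlt P e * KRR.bott P j e := by
  obtain ⟨L, f, s, hf, hs, hsum⟩ := exists_split hK he
  apply hf.injective
  have hlam : ∀ k, f (LambdaOps.lam k e) = MvPolynomial.aeval s (MvPolynomial.esymm (Fin (P.aug e).toNat) ℤ k) := fun k => by
    rw [hf.isLambdaHom k e, ← hsum, lam_sum_eq_esymm L.posStr s hs k]
  have halt : f (KRR.lamAlt P e) = ∏ i, (1 - s i) := by
    rw [KRR.lamAlt, map_sum]
    simp only [map_mul, map_pow, map_neg, map_one, hlam]
    simp_rw [sub_eq_add_neg]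
    rw [Finset.prod_one_add, ← Finset.sum_fiberwise_of_maps_to (g := Finset.card) (t := Finset.range ((P.aug e).toNat + 1))
      (fun t _ => Finset.mem_range.2 (Nat.lt_succ_of_le ((Finset.card_le_univ t).trans_eq (Fintype.card_fin _))))]
    refine Finset.sum_congr rfl fun k _ => ?_
    rw [MvPolynomial.esymm, map_sum, Finset.mul_sum, Finset.powersetCard_eq_filter]
    refine Finset.sum_congr rfl fun t ht => ?_
    rw [map_prod, Finset.prod_neg, (Finset.mem_filter.1 ht).2]
    simp
  have hbott : f (KRR.bott P j e) = ∏ i, ∑ k ∈ Finset.range j, s i ^ k := by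
    have h := congrArg (MvPolynomial.aeval s) (show MvPolynomial.aeval (fun i : Fin (P.aug e).toNat => MvPolynomial.esymm (Fin (P.aug e).toNat) ℤ (i + 1))
        (KRR.bottPoly j (P.aug e).toNat) = KRR.bottSym j (P.aug e).toNat by
      rw [← MvPolynomial.esymmAlgHom_apply]
      exact congrArg Subtype.val ((MvPolynomial.esymmAlgEquiv (Fin (P.aug e).toNat) ℤ (Fintype.card_fin _)).apply_symm_apply _))
    simp only [KRR.bottSym, map_prod, map_sum, map_pow, MvPolynomial.aeval_X] at h
    rw [← h, MvPolynomial.comp_aeval_apply, KRR.bott]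
    show f.toIntAlgHom _ = _
    rw [MvPolynomial.comp_aeval_apply]
    simp only [RingHom.toIntAlgHom_apply, hlam]
  rw [map_adams P hf, map_mul, halt, hbott, adams_prod_one_sub L.posStr s hs hj, ← Finset.prod_mul_distrib]
  exact Finset.prod_congr rfl fun i _ => (mul_neg_geom_sum (s i) j).symm

end Groth.Agent.H7Split
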