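import Groth.Agent.Lib.H7Split
import Mathlib

/-! The functional on the elementary extension. -/

set_option autoImplicit false
universe v
open PowerSeries Finset LambdaRing Polynomial

namespace Groth.Agent.H7Split

variable {K : Type v} [CommRing K] [LambdaOps K] (P : PosStructure K)

theorem aug_functional (hK : HasSplitting K P) {e : K} (he : e ∈ P.pos) {r : ℕ} (hr : P.aug e = r + 1)
    (f : AdjoinRoot (KRR.extPoly P e) →ₗ[K] K)
    (hf : ∀ i : ℕ, i ≤ r → f (AdjoinRoot.root (KRR.extPoly P e) ^ i) = KRR.sigma i e) :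
    P.aug (f ((AdjoinRoot.root (KRR.extPoly P e) - 1) ^ r)) = 1 := by
  set l := AdjoinRoot.root (KRR.extPoly P e)
  have h1 : (l - 1) ^ r = ∑ i ∈ Finset.range (r + 1), (((-1 : K) ^ (r - i) * (r.choose i : K)) • l ^ i) := by
    rw [sub_eq_add_neg, add_pow]
    refine Finset.sum_congr rfl fun i _ => ?_
    rw [Algebra.smul_def, map_mul, map_pow, map_neg, map_one, map_natCast]
    ring
  rw [h1, map_sum, map_sum]
  have h2 := fwdDiff_iter_choose 0 r
  rw [Nat.add_zero] at h2
  have h3 := congrFun h2 r
  rw [fwdDiff_iter_eq_sum_shift, Nat.choose_zero_right, Nat.cast_one] at h3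
  refine Eq.trans (Finset.sum_congr rfl fun i hi => ?_) h3
  have hir : i ≤ r := Nat.lt_succ_iff.1 (Finset.mem_range.1 hi)
  rw [map_smul, hf i hir, smul_eq_mul, map_mul, map_mul, map_pow, map_neg, map_one, map_natCast,
    aug_sigma P hK he hr i, smul_eq_mul, smul_eq_mul, mul_one, Nat.choose_symm_add]

theorem root_kernel (c : K) (r : ℕ) (hr : P.aug c = r + 1) (p : K[X]) (hp : p = KRR.extPoly P c)
    [LambdaOps (AdjoinRoot p)] (Pc : PosStructure (AdjoinRoot p))
    (hext : IsExtension P Pc (AdjoinRoot.of p))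
    (hline : Pc.IsLine (AdjoinRoot.root p))
    (f : AdjoinRoot p →ₗ[K] K)
    (hf : ∀ i : ℕ, i ≤ r → f (AdjoinRoot.root p ^ i) = KRR.sigma i c)
    (z : AdjoinRoot p) (hz : z * (1 - AdjoinRoot.root p) = 0) :
    z = AdjoinRoot.of p (f z) *
      KRR.lamAlt Pc (AdjoinRoot.of p c - AdjoinRoot.root p) := by
  have hn : (P.aug c).toNat = r + 1 := by omega
  obtain ⟨g₀, rfl⟩ := AdjoinRoot.mk_surjective z
  let b : ℕ → K := fun k => (-1 : K) ^ k * LambdaOps.lam k c
  let a : ℕ → K := fun i => ∑ k ∈ Finset.range (i + 1), b k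
  let q : ℕ → K[X] := fun m => ∑ i ∈ Finset.range (m + 1), Polynomial.C (a i) * Polynomial.X ^ (m - i)
  let pp : ℕ → K[X] := fun m => ∑ i ∈ Finset.range (m + 1), Polynomial.C (b i) * Polynomial.X ^ (m - i)
  have hpp : p = pp (r + 1) := by simp only [hp, KRR.extPoly, pp, b, hn]
  have hstep : ∀ (g : ℕ → K) (m : ℕ), ∑ i ∈ Finset.range (m + 1 + 1), Polynomial.C (g i) * Polynomial.X ^ (m + 1 - i) =
      (∑ i ∈ Finset.range (m + 1), Polynomial.C (g i) * Polynomial.X ^ (m - i)) * Polynomial.X + Polynomial.C (g (m + 1)) := by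
    intro g m
    rw [Finset.sum_range_succ, Nat.sub_self, pow_zero, mul_one, Finset.sum_mul]
    congr 1
    refine Finset.sum_congr rfl fun i hi => ?_
    rw [Finset.mem_range] at hi
    rw [show m + 1 - i = (m - i) + 1 by omega, pow_succ, mul_assoc]
  have hq : ∀ m, (Polynomial.X - 1) * q m = pp (m + 1) - Polynomial.C (a (m + 1)) := by
    intro m
    induction m with
    | zero => simp [q, pp, a, Finset.sum_range_succ]; ring
    | succ m ih =>
      simp only [q, pp] at ih ⊢
      rw [hstep a m, hstep b (m + 1), mul_add, ← mul_assoc, ih,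
        show a (m + 1 + 1) = a (m + 1) + b (m + 1 + 1) from Finset.sum_range_succ _ _, map_add]
      ring
  have hdeg : (pp (r + 1)).natDegree ≤ r + 1 := by
    refine Polynomial.natDegree_sum_le_of_forall_le _ _ fun i _ => ?_
    exact (Polynomial.natDegree_C_mul_X_pow_le _ _).trans (Nat.sub_le _ _)
  have htop : (pp (r + 1)).coeff (r + 1) = 1 := by
    simp only [pp, Polynomial.finsetSum_coeff, Polynomial.coeff_C_mul_X_pow]
    rw [Finset.sum_eq_single 0]
    · simp [b, LambdaOps.lam_zero]
    · intro i hi hi0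
      rw [Finset.mem_range] at hi
      rw [if_neg]; omega
    · simp
  have hmonic : p.Monic := hpp ▸ Polynomial.monic_of_natDegree_le_of_coeff_eq_one _ hdeg htop
  haveI : Nontrivial K := P.aug.domain_nontrivial
  have hpd : p.natDegree = r + 1 := hpp ▸ Polynomial.natDegree_eq_of_le_of_coeff_ne_zero hdeg (by rw [htop]; exact one_ne_zero)
  set g := g₀ %ₘ p
  have hgmk : AdjoinRoot.mk p g₀ = AdjoinRoot.mk p g := (AdjoinRoot.mk_eq_mk.2 (by show p ∣ g₀ - g₀ %ₘ p; rw [Polynomial.modByMonic_eq_sub_mul_div g₀ p, sub_sub_cancel]; exact dvd_mul_right _ _))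
  have hgd : g.natDegree ≤ r := by
    have := Polynomial.natDegree_modByMonic_lt g₀ hmonic (fun h => by rw [h] at hpd; simp at hpd)
    show (g₀ %ₘ p).natDegree ≤ r
    omega
  rw [hgmk] at hz ⊢
  rw [← AdjoinRoot.mk_X, ← map_one (AdjoinRoot.mk p), ← map_sub, ← map_mul, AdjoinRoot.mk_eq_zero] at hz
  obtain ⟨h, hh⟩ := hz
  have hh0 : h.natDegree = 0 := by
    rcases eq_or_ne h 0 with rfl | hne
    · simp
    have h1 := hmonic.natDegree_mul' hne
    have h2 : (g * (1 - Polynomial.X)).natDegree ≤ r + 1 := Polynomial.natDegree_mul_le.trans (by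
      have : (1 - Polynomial.X : K[X]).natDegree ≤ 1 := (Polynomial.natDegree_sub_le _ _).trans (by simp)
      omega)
    rw [hh, h1, hpd] at h2
    omega
  obtain ⟨w, rfl⟩ : ∃ w, Polynomial.C w = h := ⟨_, (Polynomial.eq_C_of_natDegree_eq_zero hh0).symm⟩
  have hq' := hq r
  rw [← hpp] at hq'
  have he1 : w * a (r + 1) = 0 := by
    have h1 := congrArg (Polynomial.eval 1) hh
    have h2 := congrArg (Polynomial.eval 1) hq'
    simp only [Polynomial.eval_mul, Polynomial.eval_sub, Polynomial.eval_X, Polynomial.eval_one, sub_self, mul_zero,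
      zero_mul, Polynomial.eval_C] at h1 h2
    linear_combination -h1 + w * h2
  have hg : g = Polynomial.C (-w) * q r := by
    have hX : IsRegular (Polynomial.X - 1 : K[X]) := by
      have := (Polynomial.monic_X_sub_C (1 : K)).isRegular
      rwa [map_one] at this
    refine hX.left ?_
    show (Polynomial.X - 1) * g = (Polynomial.X - 1) * (Polynomial.C (-w) * q r)
    rw [mul_left_comm, hq', mul_sub, ← map_mul, neg_mul, he1, neg_zero, map_zero, sub_zero, map_neg]
    linear_combination -hh
  have hq0 : ∀ {S : Type v} [CommRing S] [Algebra K S] (x : S),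
      Polynomial.aeval x (q r) = ∑ i ∈ Finset.range (r + 1), algebraMap K S (a i) * x ^ (r - i) := by
    intro S _ _ x
    simp only [q, map_sum, map_mul, map_pow, Polynomial.aeval_C, Polynomial.aeval_X]
  let B := PowerSeries.rescale (-1 : K) (lamSeries c)
  have hBA : ∀ i, PowerSeries.coeff i (B * PowerSeries.mk (fun _ => (1 : K))) = a i := by
    intro i
    rw [PowerSeries.coeff_mul, Finset.Nat.sum_antidiagonal_eq_sum_range_succ
      (fun i j => PowerSeries.coeff i B * PowerSeries.coeff j (PowerSeries.mk fun _ => (1 : K)))]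
    simp [a, b, B, PowerSeries.coeff_rescale, lamSeries]
  have hmul : ∀ {S : Type v} [CommRing S] (A C : S⟦X⟧), PowerSeries.coeff r (A * C) =
      ∑ i ∈ Finset.range (r + 1), PowerSeries.coeff i A * PowerSeries.coeff (r - i) C := by
    intro S _ A C
    rw [PowerSeries.coeff_mul, Finset.Nat.sum_antidiagonal_eq_sum_range_succ
      (fun i j => PowerSeries.coeff i A * PowerSeries.coeff j C)]
  have hfq : f (AdjoinRoot.mk p (q r)) = 1 := by
    rw [← AdjoinRoot.aeval_eq, hq0, map_sum]
    have h1 : PowerSeries.coeff r ((B * PowerSeries.mk (fun _ => (1 : K))) * KRR.sigmaSeries c) = 1 := by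
      rw [mul_right_comm, KRR.sigmaSeries, B.mul_invOfUnit 1 (by simpa using constantCoeff_resc c), one_mul,
        PowerSeries.coeff_mk]
    refine Eq.trans ?_ h1
    rw [hmul]
    refine Finset.sum_congr rfl fun i _ => ?_
    rw [← Algebra.smul_def, map_smul, hf _ (Nat.sub_le r i), smul_eq_mul, hBA]
    rfl
  have halt : KRR.lamAlt Pc (AdjoinRoot.of p c - AdjoinRoot.root p) = AdjoinRoot.mk p (q r) := by
    rw [← AdjoinRoot.aeval_eq, hq0]
    set S := AdjoinRoot p
    set l := AdjoinRoot.root p
    set d := AdjoinRoot.of p c - l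
    have haug : (Pc.aug d).toNat = r := by
      rw [map_sub, hext.aug_comp, hline.2, hr]; omega
    have h1 : PowerSeries.rescale (-1 : S) (lamSeries (AdjoinRoot.of p c)) = PowerSeries.map (AdjoinRoot.of p) B := by
      ext k
      simp [B, PowerSeries.coeff_rescale, lamSeries, hext.isLambdaHom k c]
    have h2 : PowerSeries.rescale (-1 : S) (lamSeries d) * (1 - PowerSeries.C l * PowerSeries.X) =
        PowerSeries.map (AdjoinRoot.of p) B := by
      rw [← h1, show lamSeries (AdjoinRoot.of p c) = lamSeries d * lamSeries l by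
        rw [← H7LineNilp.lamSeries_add, sub_add_cancel], H7LineNilp.lamSeries_line Pc hline, map_mul]
      congr 1
      ext k
      rw [PowerSeries.coeff_rescale, Polynomial.coeff_coe, map_sub, PowerSeries.coeff_one, Polynomial.coeff_add,
        Polynomial.coeff_one, Polynomial.coeff_C_mul, PowerSeries.coeff_C_mul, PowerSeries.coeff_X, Polynomial.coeff_X]
      match k with
      | 0 => simp
      | 1 => simp
      | k + 2 => simp
    have hmk : (1 - PowerSeries.C l * PowerSeries.X) * PowerSeries.mk (fun k => l ^ k) = 1 := by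
      ext k
      rw [sub_mul, one_mul, map_sub, mul_assoc, PowerSeries.coeff_C_mul, PowerSeries.coeff_mk, PowerSeries.coeff_one]
      rcases k with _ | k
      · simp
      · rw [PowerSeries.coeff_succ_X_mul, PowerSeries.coeff_mk, if_neg (by omega), pow_succ']; ring
    have h3 : KRR.lamAlt Pc d = PowerSeries.coeff r (PowerSeries.rescale (-1 : S) (lamSeries d) * PowerSeries.mk (fun _ => (1 : S))) := by
      rw [hmul, KRR.lamAlt, haug]
      simp [PowerSeries.coeff_rescale, lamSeries]
    have h4 : PowerSeries.rescale (-1 : S) (lamSeries d) * PowerSeries.mk (fun _ => (1 : S)) =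
        PowerSeries.map (AdjoinRoot.of p) (B * PowerSeries.mk (fun _ => (1 : K))) * PowerSeries.mk (fun k => l ^ k) := by
      have : PowerSeries.map (AdjoinRoot.of p) (PowerSeries.mk fun _ => (1 : K)) = PowerSeries.mk fun _ => (1 : S) := by
        ext k; simp
      rw [map_mul, this, ← h2]
      linear_combination (-(PowerSeries.rescale (-1 : S) (lamSeries d) * PowerSeries.mk (fun _ => (1 : S)))) * hmk
    rw [h3, h4, hmul]
    refine Finset.sum_congr rfl fun i _ => ?_
    rw [PowerSeries.coeff_map, hBA, PowerSeries.coeff_mk]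
    rfl
  rw [halt, hg, map_mul, AdjoinRoot.mk_C,
    show AdjoinRoot.of p (-w) * AdjoinRoot.mk p (q r) = (-w) • AdjoinRoot.mk p (q r) from (Algebra.smul_def _ _).symm,
    map_smul, hfq, smul_eq_mul, mul_one]
  exact Algebra.smul_def _ _

end Groth.Agent.H7Split
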