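import Groth.Agent.Lib.H7Split
import Mathlib

/-! Values of the functional on the elementary extension. -/

set_option autoImplicit false
universe v
open PowerSeries Finset LambdaRing Polynomial

namespace Groth.Agent.H7Split

variable {K : Type v} [CommRing K] [LambdaOps K] (P : PosStructure K)

lemma sigma_rec (e : K) (m : ℕ) :
    ∑ k ∈ Finset.range (m + 1), (-1 : K) ^ k * LambdaOps.lam k e * KRR.sigma (m - k) e = if m = 0 then 1 else 0 := by
  have h := congrArg (PowerSeries.coeff m)
    ((PowerSeries.rescale (-1 : K) (lamSeries e)).mul_invOfUnit 1 (by simpa using constantCoeff_resc e))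
  rw [PowerSeries.coeff_mul, Finset.Nat.sum_antidiagonal_eq_sum_range_succ
      (fun i j => PowerSeries.coeff i (PowerSeries.rescale (-1 : K) (lamSeries e)) *
        PowerSeries.coeff j ((PowerSeries.rescale (-1 : K) (lamSeries e)).invOfUnit 1)), PowerSeries.coeff_one] at h
  rw [← h]
  refine Finset.sum_congr rfl fun k _ => ?_
  simp [PowerSeries.coeff_rescale, lamSeries, KRR.sigma, KRR.sigmaSeries]

variable {e : K} {r : ℕ}

lemma root_rel (hr : P.aug e = r + 1) (p : K[X]) (hp : p = KRR.extPoly P e) :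
    ∑ k ∈ Finset.range (r + 1 + 1), ((-1 : K) ^ k * LambdaOps.lam k e) • AdjoinRoot.root p ^ (r + 1 - k) = 0 := by
  have h : Polynomial.aeval (AdjoinRoot.root p) p = 0 := by rw [AdjoinRoot.aeval_eq, AdjoinRoot.mk_self]
  have hn : (P.aug e).toNat = r + 1 := by omega
  refine Eq.trans ?_ h
  conv_rhs => arg 2; rw [hp, KRR.extPoly]
  simp only [map_sum, map_mul, map_pow, Polynomial.aeval_C, Polynomial.aeval_X, hn, Algebra.smul_def]

theorem functional_pow (he : e ∈ P.pos) (hr : P.aug e = r + 1) (p : K[X]) (hp : p = KRR.extPoly P e)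
    (f : AdjoinRoot p →ₗ[K] K) (hf : ∀ i : ℕ, i ≤ r → f (AdjoinRoot.root p ^ i) = KRR.sigma i e) (i : ℕ) :
    f (AdjoinRoot.root p ^ i) = KRR.sigma i e := by
  induction i using Nat.strong_induction_on with
  | _ i ih =>
    rcases le_or_gt i r with hi | hi
    · exact hf i hi
    have h := congrArg (fun t => f (AdjoinRoot.root p ^ (i - (r + 1)) * t)) (root_rel P hr p hp)
    simp only [Finset.mul_sum, mul_smul_comm, ← pow_add, map_sum, map_smul, mul_zero, map_zero, smul_eq_mul] at h
    rw [Finset.sum_range_succ'] at h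
    have h' := sigma_rec e i
    rw [if_neg (by omega)] at h'
    rw [← Finset.sum_subset (Finset.range_mono (show r + 1 + 1 ≤ i + 1 by omega)) (fun k _ hk => by
      rw [Finset.mem_range] at hk
      rw [P.lam_eq_zero e he k (by rw [hr]; omega), mul_zero, zero_mul]), Finset.sum_range_succ'] at h'
    rw [Finset.sum_congr rfl (g := fun k => (-1 : K) ^ (k + 1) * LambdaOps.lam (k + 1) e * KRR.sigma (i - (k + 1)) e)
      (fun k hk => by
        rw [Finset.mem_range] at hk
        rw [show i - (r + 1) + (r + 1 - (k + 1)) = i - (k + 1) by omega, ih _ (by omega)])] at h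
    simp only [Nat.sub_zero, pow_zero, LambdaOps.lam_zero, one_mul] at h h'
    rw [show i - (r + 1) + (r + 1) = i by omega] at h
    exact add_left_cancel (h.trans h'.symm)

theorem functional_inv (he : e ∈ P.pos) (hr : P.aug e = r + 1) (p : K[X]) (hp : p = KRR.extPoly P e)
    (f : AdjoinRoot p →ₗ[K] K) (hf : ∀ i : ℕ, i ≤ r → f (AdjoinRoot.root p ^ i) = KRR.sigma i e)
    (linv : AdjoinRoot p) (hlinv : linv * AdjoinRoot.root p = 1) :
    ∀ n : ℕ, 1 ≤ n → n ≤ r → f (linv ^ n) = 0 := by
  intro n
  induction n using Nat.strong_induction_on with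
  | _ n ih =>
    intro h1 h2
    have h := congrArg (fun t => f (linv ^ n * t)) (root_rel P hr p hp)
    simp only [Finset.mul_sum, mul_smul_comm, map_sum, map_smul, mul_zero, map_zero, smul_eq_mul] at h
    rw [Finset.sum_range_succ, Nat.sub_self, pow_zero, mul_one] at h
    have hpow : ∀ a b : ℕ, linv ^ (a + b) * AdjoinRoot.root p ^ b = linv ^ a := fun a b => by
      rw [pow_add, mul_assoc, ← mul_pow, hlinv, one_pow, mul_one]
    have hpow' : ∀ a b : ℕ, linv ^ a * AdjoinRoot.root p ^ (a + b) = AdjoinRoot.root p ^ b := fun a b => by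
      rw [pow_add, ← mul_assoc, ← mul_pow, hlinv, one_pow, one_mul]
    have hrec := sigma_rec e (r + 1 - n)
    rw [if_neg (by omega)] at hrec
    have hzero : ∑ k ∈ Finset.range (r + 1), (-1 : K) ^ k * LambdaOps.lam k e *
        f (linv ^ n * AdjoinRoot.root p ^ (r + 1 - k)) = 0 := by
      refine Eq.trans ?_ hrec
      refine Eq.trans (Finset.sum_subset (Finset.range_mono (show r + 1 - n + 1 ≤ r + 1 by omega)) ?_).symm
        (Finset.sum_congr rfl fun k hk => ?_)
      · intro k hk hk'
        rw [Finset.mem_range] at hk hk'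
        obtain ⟨a, ha⟩ : ∃ a, n = a + (r + 1 - k) := ⟨n - (r + 1 - k), by omega⟩
        rw [ha, hpow, ih a (by omega) (by omega) (by omega), mul_zero]
      · rw [Finset.mem_range] at hk
        rw [show r + 1 - k = n + (r + 1 - n - k) by omega, hpow', functional_pow P he hr p hp f hf]
    rw [hzero, zero_add] at h
    have hu : IsUnit ((-1 : K) ^ (r + 1) * LambdaOps.lam (r + 1) e) := by
      refine (isUnit_one.neg.pow _).mul ?_
      have := P.isUnit_lam e he
      rwa [show (P.aug e).toNat = r + 1 by omega] at this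
    exact hu.mul_right_eq_zero.1 h

theorem functional_lam (he : e ∈ P.pos) (hr : P.aug e = r + 1) (p : K[X]) (hp : p = KRR.extPoly P e)
    [LambdaOps (AdjoinRoot p)] (hext : ∀ (i : ℕ) (x : K), LambdaOps.lam i (AdjoinRoot.of p x) = AdjoinRoot.of p (LambdaOps.lam i x))
    (hroot : ∀ i : ℕ, 2 ≤ i → LambdaOps.lam i (AdjoinRoot.root p) = 0)
    (f : AdjoinRoot p →ₗ[K] K) (hf : ∀ i : ℕ, i ≤ r → f (AdjoinRoot.root p ^ i) = KRR.sigma i e) (i : ℕ) :
    f (LambdaOps.lam i (AdjoinRoot.of p e - AdjoinRoot.root p)) = if i = 0 then 1 else 0 := by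
  set l := AdjoinRoot.root p
  set d := AdjoinRoot.of p e - l
  have hl : lamSeries l = 1 + PowerSeries.C l * PowerSeries.X := by
    ext k
    rw [map_add, PowerSeries.coeff_one, PowerSeries.coeff_C_mul, PowerSeries.coeff_X]
    match k with
    | 0 => simp [lamSeries, LambdaOps.lam_zero]
    | 1 => simp [lamSeries, LambdaOps.lam_one]
    | k + 2 => simp [lamSeries, hroot (k + 2) (by omega)]
  have hmk : (1 + PowerSeries.C l * PowerSeries.X) * PowerSeries.mk (fun k => (-l) ^ k) = 1 := by
    ext k
    rw [add_mul, one_mul, map_add, mul_assoc, PowerSeries.coeff_C_mul, PowerSeries.coeff_mk, PowerSeries.coeff_one]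
    rcases k with _ | k
    · simp
    · rw [PowerSeries.coeff_succ_X_mul, PowerSeries.coeff_mk, if_neg (by omega), pow_succ']; ring
  have hd : lamSeries d = lamSeries (AdjoinRoot.of p e) * PowerSeries.mk (fun k => (-l) ^ k) := by
    rw [show AdjoinRoot.of p e = d + l by simp [d], H7LineNilp.lamSeries_add, hl, mul_assoc, hmk, mul_one]
  have h := congrArg (PowerSeries.coeff i) hd
  rw [PowerSeries.coeff_mul, Finset.Nat.sum_antidiagonal_eq_sum_range_succ
    (fun a b => PowerSeries.coeff a (lamSeries (AdjoinRoot.of p e)) * PowerSeries.coeff b (PowerSeries.mk fun k => (-l) ^ k))] at h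
  simp only [lamSeries, PowerSeries.coeff_mk, hext] at h
  rw [h, map_sum]
  have key : ∀ k ∈ Finset.range (i + 1), f (AdjoinRoot.of p (LambdaOps.lam k e) * (-l) ^ (i - k)) =
      (-1 : K) ^ i * ((-1 : K) ^ k * LambdaOps.lam k e * KRR.sigma (i - k) e) := fun k hk => by
    rw [Finset.mem_range] at hk
    rw [show AdjoinRoot.of p (LambdaOps.lam k e) * (-l) ^ (i - k) = (LambdaOps.lam k e * (-1) ^ (i - k)) • l ^ (i - k) by
      rw [neg_pow, Algebra.smul_def, map_mul, map_pow, map_neg, map_one]; exact (mul_assoc _ _ _).symm,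
      map_smul, functional_pow P he hr p hp f hf, smul_eq_mul, ← mul_assoc, ← mul_assoc, ← pow_add,
      show i + k = (i - k) + 2 * k by omega, pow_add, pow_mul, neg_one_sq, one_pow, mul_one]
    ring
  rw [Finset.sum_congr rfl key, ← Finset.mul_sum, sigma_rec]
  split_ifs with h0 <;> simp [h0]

end Groth.Agent.H7Split
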