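import Groth.Agent.Lib.H7Split
import Mathlib

/-! Adams operations are ring endomorphisms under the splitting property. -/

set_option autoImplicit false
universe v
open PowerSeries Finset LambdaRing

namespace Groth.Agent.H7Split

variable {K : Type v} [CommRing K] [LambdaOps K] (P : PosStructure K)

theorem adams_line' {u : K} (hu : P.IsLine u) (j : ℕ) : adams P j u = u ^ j := by
  rcases Nat.eq_zero_or_pos j with rfl | hj
  · rw [adams, adamsSeries_eq, map_sub, PowerSeries.coeff_zero_X_mul, sub_zero, PowerSeries.coeff_C, if_pos rfl, hu.2,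
      Int.cast_one, pow_zero]
  · exact adams_line P hu hj

lemma isLine_pow {u : K} (hu : P.IsLine u) (j : ℕ) : P.IsLine (u ^ j) := by
  rcases Nat.eq_zero_or_pos j with rfl | hj
  · rw [pow_zero]; exact ⟨by simpa using P.natCast_mem 1 one_pos, map_one _⟩
  · exact H7LineNilp.line_pow P hu j hj

/-- additive combinations of line elements -/
def lineSpan : AddSubgroup K := AddSubgroup.closure {u | P.IsLine u}

/-- the Adams operation as an additive map -/
noncomputable def adamsHom (j : ℕ) : K →+ K := AddMonoidHom.mk' (adams P j) (adams_add P j)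

theorem adams_mul_span (j : ℕ) {x y : K} (hx : x ∈ lineSpan P) (hy : y ∈ lineSpan P) :
    adams P j (x * y) = adams P j x * adams P j y := by
  have h1 : ∀ u, P.IsLine u → adams P j (u * y) = adams P j u * adams P j y := by
    intro u hu
    suffices ((adamsHom P j).comp (AddMonoidHom.mulLeft u)) y = ((AddMonoidHom.mulLeft (adams P j u)).comp (adamsHom P j)) y from this
    refine AddMonoidHom.eqOn_closure ?_ hy
    intro w hw
    show adams P j (u * w) = adams P j u * adams P j w
    rw [adams_line' P ⟨P.mul_mem _ _ hu.1 hw.1, by rw [map_mul, hu.2, hw.2, mul_one]⟩ j, adams_line' P hu j,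
      adams_line' P hw j, mul_pow]
  suffices ((adamsHom P j).comp (AddMonoidHom.mulRight y)) x = ((AddMonoidHom.mulRight (adams P j y)).comp (adamsHom P j)) x from this
  exact AddMonoidHom.eqOn_closure (fun u hu => h1 u hu) hx

theorem adams_adams_span (i j : ℕ) {x : K} (hx : x ∈ lineSpan P) :
    adams P i (adams P j x) = adams P (i * j) x := by
  suffices ((adamsHom P i).comp (adamsHom P j)) x = adamsHom P (i * j) x from this
  refine AddMonoidHom.eqOn_closure ?_ hx
  intro u hu
  show adams P i (adams P j u) = adams P (i * j) u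
  rw [adams_line' P hu j, adams_line' P (isLine_pow P hu j) i, adams_line' P hu, ← pow_mul, mul_comm j i]

lemma map_span {L : Type v} [CommRing L] [LambdaOps L] {P' : PosStructure L} {f : K →+* L} (hf : IsExtension P P' f)
    {x : K} (hx : x ∈ lineSpan P) : f x ∈ lineSpan P' := by
  have : lineSpan P ≤ (lineSpan P').comap f.toAddMonoidHom :=
    (AddSubgroup.closure_le _).2 fun u hu => AddSubgroup.subset_closure ⟨hf.pos_subset u hu.1, (hf.aug_comp u).trans hu.2⟩
  exact this hx

theorem exists_span (hK : HasSplitting K P) (xs : List K) :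
    ∃ (L : PosLambdaRing.{v}) (f : K →+* L.carrier), IsExtension P L.posStr f ∧
      HasSplitting L.carrier L.posStr ∧ ∀ x ∈ xs, f x ∈ lineSpan L.posStr := by
  obtain ⟨C, hC, h⟩ := hK
  suffices ∃ (L : PosLambdaRing.{v}) (f : K →+* L.carrier), L ∈ C ∧ IsExtension P L.posStr f ∧
      ∀ x ∈ xs, f x ∈ lineSpan L.posStr by
    obtain ⟨L, f, hL, hf, hx⟩ := this
    exact ⟨L, f, hf, ⟨C, hL, h⟩, hx⟩
  have step : ∀ (L : PosLambdaRing.{v}) (f : K →+* L.carrier), L ∈ C → IsExtension P L.posStr f → ∀ e ∈ P.pos,
      ∃ (L' : PosLambdaRing.{v}) (g : L.carrier →+* L'.carrier), L' ∈ C ∧ IsExtension P L'.posStr (g.comp f) ∧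
        IsExtension L.posStr L'.posStr g ∧ g (f e) ∈ lineSpan L'.posStr := by
    intro L f hL hf e he
    obtain ⟨L', hL', g, hg, s, hs, hsum⟩ := h L hL (f e) (hf.pos_subset e he)
    refine ⟨L', g, hL', ?_, hg, hsum ▸ multiset_sum_mem _ fun u hu => AddSubgroup.subset_closure (hs u hu)⟩
    exact ⟨fun i x => by rw [RingHom.comp_apply, RingHom.comp_apply, hf.isLambdaHom i x, hg.isLambdaHom],
      hg.injective.comp hf.injective, fun x => by rw [RingHom.comp_apply, hg.aug_comp, hf.aug_comp],
      fun e he => hg.pos_subset _ (hf.pos_subset e he)⟩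
  induction xs with
  | nil =>
    refine ⟨⟨K, P⟩, RingHom.id K, hC, ?_, by simp⟩
    exact ⟨fun _ _ => rfl, fun _ _ h => h, fun _ => rfl, fun _ he => he⟩
  | cons a xs ih =>
    obtain ⟨L, f, hL, hf, hx⟩ := ih
    obtain ⟨e, e', he, he', rfl⟩ := P.exists_sub a
    obtain ⟨L₁, g₁, hL₁, hf₁, hg₁, h1⟩ := step L f hL hf e he
    obtain ⟨L₂, g₂, hL₂, hf₂, hg₂, h2⟩ := step L₁ (g₁.comp f) hL₁ hf₁ e' he'
    refine ⟨L₂, g₂.comp (g₁.comp f), hL₂, hf₂, fun x hxm => ?_⟩
    rcases List.mem_cons.1 hxm with rfl | hxm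
    · rw [map_sub]; exact sub_mem (map_span _ hg₂ h1) h2
    · exact map_span _ hg₂ (map_span _ hg₁ (hx x hxm))

theorem adams_mul (hK : HasSplitting K P) (j : ℕ) (x y : K) : adams P j (x * y) = adams P j x * adams P j y := by
  obtain ⟨L, f, hf, -, hx⟩ := exists_span P hK [x, y]
  apply hf.injective
  rw [map_mul, map_adams P hf, map_adams P hf, map_adams P hf, map_mul,
    adams_mul_span _ j (hx x (by simp)) (hx y (by simp))]

theorem adams_adams (hK : HasSplitting K P) (i j : ℕ) (x : K) : adams P i (adams P j x) = adams P (i * j) x := by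
  obtain ⟨L, f, hf, -, hx⟩ := exists_span P hK [x]
  apply hf.injective
  rw [map_adams P hf, map_adams P hf, map_adams P hf, adams_adams_span _ i j (hx x (by simp))]

theorem adams_ringHom (hK : HasSplitting K P) (j : ℕ) : ∃ f : K →+* K, ∀ x : K, f x = adams P j x :=
  ⟨{ adamsHom P j with
      map_one' := by
        show adams P j 1 = 1
        rw [adams_line' P ⟨by simpa using P.natCast_mem 1 one_pos, map_one _⟩ j, one_pow]
      map_mul' := adams_mul P hK j }, fun _ => rfl⟩

end Groth.Agent.H7Split
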