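import Groth.Agent.Lib.H7SubQGen
import Mathlib

/-! A finite type submodule generating a quasi-coherent algebra of finite type. -/

set_option autoImplicit false
universe u

open CategoryTheory Limits TopologicalSpace Opposite AlgebraicGeometry
open Groth.Agent.LQcoh

namespace Groth.Agent.H7SubQ

variable {X : Scheme.{u}} (B : RelSpec.QCAlg X)

/-- restriction in the algebra -/
noncomputable abbrev rB {V W : X.Opens} (h : W ≤ V) : B.presheaf.obj (op V) →+* B.presheaf.obj (op W) :=
  (B.presheaf.map (homOfLE h).op).hom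

lemma rB_str {V W : X.Opens} (h : W ≤ V) (a : Γ(X, V)) :
    rB B h ((B.str.app (op V)).hom a) = (B.str.app (op W)).hom (resO h a) :=
  (ConcreteCategory.congr_hom (B.str.naturality (homOfLE h).op) a).symm

lemma rB_rB {V W Z : X.Opens} (h : W ≤ V) (h' : Z ≤ W) (a : B.presheaf.obj (op V)) :
    rB B h' (rB B h a) = rB B (h'.trans h) a := by
  show (B.presheaf.map (homOfLE h).op ≫ B.presheaf.map (homOfLE h').op).hom a = _
  rw [← B.presheaf.map_comp]
  rfl

variable (N : ∀ y : X, Submodule (X.presheaf.stalk y) (B.toModule.presheaf.stalk y))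

/-- sections of the submodule, in the ring -/
def secB (V : X.Opens) : Set (B.presheaf.obj (op V)) := {b | (show Γ(B.toModule, V) from b) ∈ secSub B.toModule N V}

/-- the subring generated on `V` -/
noncomputable def genRing (V : X.Opens) : Subring (B.presheaf.obj (op V)) :=
  Subring.closure (Set.range (B.str.app (op V)).hom ∪ secB B N V)

theorem genRing_eq_top_of_basic (hN : LocFG B.toModule ⊤ N) {U : X.Opens} (hU : IsAffineOpen U)
    (h : ∀ x ∈ U, ∃ g : Γ(X, U), x ∈ X.basicOpen g ∧ genRing B N (X.basicOpen g) = ⊤) : genRing B N U = ⊤ := by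
  haveI := qcoh_toModule B
  haveI := qcoh_sub B.toModule hN
  refine eq_top_iff.2 fun b _ => ?_
  let σ : Γ(X, U) → B.presheaf.obj (op U) := (B.str.app (op U)).hom
  let I : Ideal Γ(X, U) :=
    { carrier := {r | σ r * b ∈ genRing B N U}
      add_mem' := fun {r r'} hr hr' => by
        show σ (r + r') * b ∈ genRing B N U
        rw [show σ (r + r') = σ r + σ r' from map_add _ _ _, add_mul]; exact add_mem hr hr'
      zero_mem' := by
        show σ 0 * b ∈ genRing B N U
        rw [show σ 0 = 0 from map_zero _, zero_mul]; exact zero_mem _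
      smul_mem' := fun c r hr => by
        show σ (c * r) * b ∈ genRing B N U
        rw [show σ (c * r) = σ c * σ r from map_mul _ _ _, mul_assoc]
        exact mul_mem (Subring.subset_closure (Or.inl ⟨c, rfl⟩)) hr }
  have hσ : ∀ c, σ c ∈ genRing B N U := fun c => Subring.subset_closure (Or.inl ⟨c, rfl⟩)
  suffices hI : (1 : Γ(X, U)) ∈ I by
    have h1 : σ 1 * b ∈ genRing B N U := hI
    rwa [show σ 1 = 1 from map_one _, one_mul] at h1
  have key : ∀ g : Γ(X, U), genRing B N (X.basicOpen g) = ⊤ → ∃ n : ℕ, g ^ n ∈ I := fun g hg => by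
    have hb : rB B (basicOpen_le_open g) b ∈ genRing B N (X.basicOpen g) := hg ▸ trivial
    have clear : ∀ c ∈ genRing B N (X.basicOpen g), ∃ (n : ℕ) (u : B.presheaf.obj (op U)), u ∈ genRing B N U ∧
        rB B (basicOpen_le_open g) u = rB B (basicOpen_le_open g) (σ (g ^ n)) * c := fun c hc => by
      induction hc using Subring.closure_induction with
      | mem c hc =>
        rcases hc with ⟨a, rfl⟩ | hc
        · have := hU.isLocalization_basicOpen g
          obtain ⟨⟨r, ⟨_, m, rfl⟩⟩, hr⟩ := IsLocalization.surj (Submonoid.powers g) a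
          refine ⟨m, σ r, hσ r, ?_⟩
          rw [rB_str, rB_str, ← map_mul]
          exact congrArg _ (hr.symm.trans (mul_comm _ _))
        · obtain ⟨n, e, he⟩ := (exists_pow_of_affine hU (sub B.toModule N) g).1 ⟨c, hc⟩
          refine ⟨n, e.1, Subring.subset_closure (Or.inr e.2), ?_⟩
          rw [rB_str]
          exact congrArg Subtype.val he
      | zero => exact ⟨0, 0, zero_mem _, by rw [map_zero, mul_zero]⟩
      | one => exact ⟨0, 1, one_mem _, by rw [pow_zero, show σ 1 = 1 from map_one _, map_one, mul_one]⟩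
      | add x y _ _ hx hy =>
        obtain ⟨n, u, hu, hu'⟩ := hx
        obtain ⟨m, v, hv, hv'⟩ := hy
        refine ⟨n + m, σ (g ^ m) * u + σ (g ^ n) * v, add_mem (mul_mem (hσ _) hu) (mul_mem (hσ _) hv), ?_⟩
        rw [map_add, map_mul, map_mul, hu', hv', show σ (g ^ (n + m)) = σ (g ^ n) * σ (g ^ m) from by
          rw [pow_add]; exact map_mul _ _ _, map_mul]
        ring
      | neg x _ hx =>
        obtain ⟨n, u, hu, hu'⟩ := hx
        exact ⟨n, -u, neg_mem hu, by rw [map_neg, hu', mul_neg]⟩
      | mul x y _ _ hx hy =>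
        obtain ⟨n, u, hu, hu'⟩ := hx
        obtain ⟨m, v, hv, hv'⟩ := hy
        refine ⟨n + m, u * v, mul_mem hu hv, ?_⟩
        rw [map_mul, hu', hv', show σ (g ^ (n + m)) = σ (g ^ n) * σ (g ^ m) from by
          rw [pow_add]; exact map_mul _ _ _, map_mul]
        ring
    obtain ⟨n, u, hu, hu'⟩ := clear _ hb
    obtain ⟨k, hk⟩ := (exists_pow_of_affine hU B.toModule g).2
      (show Γ(B.toModule, U) from u - σ (g ^ n) * b) (by
        show rB B (basicOpen_le_open g) (u - σ (g ^ n) * b) = 0
        rw [map_sub, map_mul, hu', sub_self])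
    have hk' : σ (g ^ k) * (u - σ (g ^ n) * b) = 0 := hk
    refine ⟨k + n, ?_⟩
    show σ (g ^ (k + n)) * b ∈ genRing B N U
    rw [mul_sub, sub_eq_zero, ← mul_assoc] at hk'
    rw [pow_add, show σ (g ^ k * g ^ n) = σ (g ^ k) * σ (g ^ n) from map_mul _ _ _, ← hk']
    exact mul_mem (hσ _) hu
  have hrad : (1 : Γ(X, U)) ∈ I.radical := by
    have : Ideal.span {g : Γ(X, U) | genRing B N (X.basicOpen g) = ⊤} ≤ I.radical :=
      Ideal.span_le.2 fun g hg => key g hg
    refine this ?_
    have hcov : (⨆ g : ({g : Γ(X, U) | genRing B N (X.basicOpen g) = ⊤} : Set Γ(X, U)), X.basicOpen g.1) = U :=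
      le_antisymm (iSup_le fun g => X.basicOpen_le _) fun x hx => by
        obtain ⟨g, hxg, hg⟩ := h x hx
        exact Opens.mem_iSup.2 ⟨⟨g, hg⟩, hxg⟩
    rw [hU.iSup_basicOpen_eq_self_iff] at hcov
    exact hcov ▸ trivial
  obtain ⟨n, hn⟩ := hrad
  rwa [one_pow] at hn

/-- a finite type submodule generates an algebra of finite type -/
theorem exists_generating (hX : Extendable X) [CompactSpace X]
    (hB : ∀ U : X.affineOpens, (B.str.app (op (U : X.Opens))).hom.FiniteType) :
    ∃ (E : X.Modules) (j : E ⟶ B.toModule), Mono j ∧ Coh.IsQCoh E ∧ CohB1.IsFT E ∧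
      ∀ U : X.affineOpens,
        Subring.closure (Set.range (B.str.app (op (U : X.Opens))).hom ∪
          Set.range (fun e : E.val.obj (op (U : X.Opens)) ↦
            (show B.presheaf.obj (op (U : X.Opens)) from (j.val.app (op (U : X.Opens))).hom e))) = ⊤ := by
  classical
  haveI := qcoh_toModule B
  choose V hV hxV _ using fun x : X => exists_isAffineOpen_mem_and_subset (x := x) (U := (⊤ : X.Opens)) trivial
  obtain ⟨t, ht⟩ := isCompact_univ.elim_finite_subcover (fun x => (V x : Set X)) (fun x => (V x).2)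
    fun x _ => Set.mem_iUnion.2 ⟨x, hxV x⟩
  have hT : ∀ x, ∃ T : Finset (B.presheaf.obj (op (V x))),
      Subring.closure (Set.range (B.str.app (op (V x))).hom ∪ (T : Set (B.presheaf.obj (op (V x))))) = ⊤ := fun x => by
    letI := (B.str.app (op (V x))).hom.toAlgebra
    obtain ⟨T, hT⟩ := (hB ⟨V x, hV x⟩).1
    refine ⟨T, ?_⟩
    exact ((Algebra.adjoin_eq_ring_closure (R := Γ(X, V x)) _).symm.trans (congrArg Subalgebra.toSubring hT)).trans (Algebra.top_toSubring)
  choose T hT using hT
  choose Nx hNx hTN using fun x => exists_sub_through B.toModule hX (V x) (hV x)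
    (T x : Set (B.presheaf.obj (op (V x)))) (T x).finite_toSet
  let N := fun y => t.sup fun x => Nx x y
  have hN : LocFG B.toModule ⊤ N := locFG_finsetSup B.toModule t ⊤ Nx fun x _ => hNx x
  refine ⟨sub B.toModule N, subι B.toModule N, inferInstance, qcoh_sub _ hN, isFT_sub _ hN, fun U => ?_⟩
  have e : Set.range (fun e : (sub B.toModule N).val.obj (op (U : X.Opens)) ↦
      (show B.presheaf.obj (op (U : X.Opens)) from ((subι B.toModule N).val.app (op (U : X.Opens))).hom e)) =
      secB B N U.1 := Set.ext fun b => subι_app_range B.toModule N U.1 b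
  rw [e]
  refine genRing_eq_top_of_basic B N hN U.2 fun y hy => ?_
  obtain ⟨x, hx, hyx⟩ := Set.mem_iUnion₂.1 (ht (Set.mem_univ y))
  obtain ⟨g, f, hgf, hyg⟩ := exists_basicOpen_le_affine_inter U.2 (hV x) y ⟨hy, hyx⟩
  refine ⟨g, hyg, ?_⟩
  rw [hgf]
  refine eq_top_iff.2 fun c _ => ?_
  letI := (B.presheaf.map (homOfLE (X.basicOpen_le f)).op).hom.toAlgebra
  have := B.isQC (V x) (hV x) f
  have hres : ∀ b : B.presheaf.obj (op (V x)), rB B (basicOpen_le_open f) b ∈ genRing B N (X.basicOpen f) := fun b => by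
    have hb : b ∈ Subring.closure (Set.range (B.str.app (op (V x))).hom ∪ (T x : Set (B.presheaf.obj (op (V x))))) :=
      (hT x).symm ▸ trivial
    have : Subring.closure (Set.range (B.str.app (op (V x))).hom ∪ (T x : Set (B.presheaf.obj (op (V x))))) ≤
        (genRing B N (X.basicOpen f)).comap (rB B (basicOpen_le_open f)) := by
      rw [Subring.closure_le]
      rintro b (⟨a, rfl⟩ | hb)
      · exact Subring.subset_closure (Or.inl ⟨resO (basicOpen_le_open f) a, (rB_str B _ a).symm⟩)
      · refine Subring.subset_closure (Or.inr fun z hz => ?_)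
        have h1 : gm B.toModule z (X.basicOpen_le f hz) b ∈ Nx x z := hTN x b hb z (X.basicOpen_le f hz)
        rw [show gm B.toModule z hz (show Γ(B.toModule, X.basicOpen f) from rB B (basicOpen_le_open f) b) =
          gm B.toModule z (X.basicOpen_le f hz) b from gm_res B.toModule (basicOpen_le_open f) z hz b]
        exact (Finset.le_sup (f := fun x => Nx x z) hx :) h1
    exact this hb
  obtain ⟨⟨b, ⟨_, n, rfl⟩⟩, hb⟩ := IsLocalization.surj (Submonoid.powers ((B.str.app (op (V x))).hom f))
    (show B.presheaf.obj (op (X.basicOpen f)) from c)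
  obtain ⟨v, hv⟩ := (isUnit_resO (V x) f).pow n
  have h2 : c = (B.str.app (op (X.basicOpen f))).hom (↑v⁻¹ : Γ(X, X.basicOpen f)) * rB B (basicOpen_le_open f) b := by
    have hb' : c * rB B (basicOpen_le_open f) ((B.str.app (op (V x))).hom f ^ n) = rB B (basicOpen_le_open f) b := hb
    rw [← hb', map_pow, rB_str, ← map_pow, ← hv, mul_comm c, ← mul_assoc, ← map_mul, Units.inv_mul, map_one, one_mul]
  rw [h2]
  exact mul_mem (Subring.subset_closure (Or.inl ⟨_, rfl⟩)) (hres b)

end Groth.Agent.H7SubQ
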