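import Groth.Agent.Lib.H7SubQAlg
import Mathlib

/-! The quasi-coherent subalgebra of finite type generated by a submodule of finite type. -/

set_option autoImplicit false
universe u

open CategoryTheory Limits TopologicalSpace Opposite AlgebraicGeometry
open Groth.Agent.LQcoh

namespace Groth.Agent.H7SubQ

variable {X : Scheme.{u}} (B : RelSpec.QCAlg X)
  (N : ∀ y : X, Submodule (X.presheaf.stalk y) (B.toModule.presheaf.stalk y))

omit N in
lemma gm_rB {V W : X.Opens} (h : W ≤ V) (b : B.presheaf.obj (op V)) (z : X) (hz : z ∈ W) :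
    gm B.toModule z hz (show Γ(B.toModule, W) from rB B h b) = gm B.toModule z (h hz) (show Γ(B.toModule, V) from b) :=
  gm_res B.toModule h z hz b

/-- products of sections of the submodule -/
def mon (V : X.Opens) : Set Γ(B.toModule, V) :=
  {b | (show B.presheaf.obj (op V) from b) ∈ Submonoid.closure (secB B N V)}

/-- the stalks of the generated subalgebra -/
noncomputable def algP (y : X) : Submodule (X.presheaf.stalk y) (B.toModule.presheaf.stalk y) :=
  Submodule.span _ {z | ∃ (O : X.Opens) (h : y ∈ O) (b : Γ(B.toModule, O)), b ∈ mon B N O ∧ gm B.toModule y h b = z}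

variable {N} (hN : LocFG B.toModule ⊤ N)

include hN in
lemma clear_mon {V : X.Opens} (hV : IsAffineOpen V) (g : Γ(X, V)) {c : Γ(B.toModule, X.basicOpen g)}
    (hc : c ∈ mon B N (X.basicOpen g)) :
    ∃ (n : ℕ) (u : Γ(B.toModule, V)), u ∈ mon B N V ∧
      res B.toModule (basicOpen_le_open g) u = resO (basicOpen_le_open g) (g ^ n) • c := by
  haveI := qcoh_toModule B
  haveI := qcoh_sub B.toModule hN
  suffices ∀ c : B.presheaf.obj (op (X.basicOpen g)), c ∈ Submonoid.closure (secB B N (X.basicOpen g)) →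
      ∃ (n : ℕ) (u : B.presheaf.obj (op V)), u ∈ Submonoid.closure (secB B N V) ∧
        rB B (basicOpen_le_open g) u = (B.str.app (op (X.basicOpen g))).hom (resO (basicOpen_le_open g) (g ^ n)) * c from
    this c hc
  intro c hc
  induction hc using Submonoid.closure_induction with
  | mem c hc =>
    obtain ⟨n, e, he⟩ := (exists_pow_of_affine hV (sub B.toModule N) g).1 ⟨c, hc⟩
    exact ⟨n, e.1, Submonoid.subset_closure e.2, congrArg Subtype.val he⟩
  | one => exact ⟨0, 1, one_mem _, by rw [map_one, pow_zero, resO, map_one, map_one, mul_one]⟩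
  | mul x y _ _ hx hy =>
    obtain ⟨n, u, hu, hu'⟩ := hx
    obtain ⟨m, v, hv, hv'⟩ := hy
    refine ⟨n + m, u * v, mul_mem hu hv, ?_⟩
    rw [map_mul, hu', hv', pow_add]
    simp only [resO, map_mul]
    ring

include hN in
theorem algP_eq {V : X.Opens} (hV : IsAffineOpen V) (y : X) (hy : y ∈ V) :
    algP B N y = gen B.toModule V (mon B N V) y := by
  refine le_antisymm ?_ ?_
  · rw [algP, Submodule.span_le]
    rintro _ ⟨O, hyO, b, hb, rfl⟩
    obtain ⟨g, hgO, hyg⟩ := hV.exists_basicOpen_le (V := O) ⟨y, hyO⟩ hy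
    have hb' : res B.toModule hgO b ∈ mon B N (X.basicOpen g) := by
      have h : Submonoid.closure (secB B N O) ≤ (Submonoid.closure (secB B N (X.basicOpen g))).comap (rB B hgO).toMonoidHom := by
        rw [Submonoid.closure_le]
        intro e he
        exact Submonoid.subset_closure fun z hz => (gm_rB B hgO e z hz).symm ▸ he z (hgO hz)
      exact h hb
    obtain ⟨n, u, hu, hu'⟩ := clear_mon B hN hV g hb'
    have h1 : gm B.toModule y hy u ∈ gen B.toModule V (mon B N V) y := Submodule.subset_span ⟨hy, u, hu, rfl⟩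
    rw [← gm_res B.toModule (basicOpen_le_open g) y hyg, hu', gm_smul, gm_res] at h1
    refine (Submodule.smul_mem_iff_of_isUnit _ ?_).1 h1
    rw [resO, map_pow, map_pow]
    exact ((isUnit_resO V g).map _).pow _
  · rw [gen, Submodule.span_le]
    rintro _ ⟨h, b, hb, rfl⟩
    exact Submodule.subset_span ⟨V, h, b, hb, rfl⟩

include hN in
theorem secSub_algP {V : X.Opens} (hV : IsAffineOpen V) :
    secSub B.toModule (algP B N) V = Submodule.span Γ(X, V) (mon B N V) :=
  haveI := qcoh_toModule B
  secSub_eq_span B.toModule hV _ fun y hy => algP_eq B hN hV y hy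

include hN in
theorem secSub_algP_coe {V : X.Opens} (hV : IsAffineOpen V) :
    letI := (B.str.app (op V)).hom.toAlgebra
    ∀ b : B.presheaf.obj (op V),
      ((show Γ(B.toModule, V) from b) ∈ secSub B.toModule (algP B N) V ↔ b ∈ Algebra.adjoin Γ(X, V) (secB B N V)) := by
  letI := (B.str.app (op V)).hom.toAlgebra
  intro b
  rw [secSub_algP B hN hV]
  show _ ↔ b ∈ (Algebra.adjoin Γ(X, V) (secB B N V)).toSubmodule
  rw [Algebra.adjoin_eq_span]
  exact Iff.rfl

include hN in
lemma mul_mem_algP {O : X.Opens} {a b : B.presheaf.obj (op O)}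
    (ha : (show Γ(B.toModule, O) from a) ∈ secSub B.toModule (algP B N) O)
    (hb : (show Γ(B.toModule, O) from b) ∈ secSub B.toModule (algP B N) O) :
    (show Γ(B.toModule, O) from a * b) ∈ secSub B.toModule (algP B N) O := by
  intro y hy
  obtain ⟨D, hD, hyD, hDO⟩ := exists_isAffineOpen_mem_and_subset (U := O) hy
  letI := (B.str.app (op D)).hom.toAlgebra
  have key : ∀ c : B.presheaf.obj (op O), (show Γ(B.toModule, O) from c) ∈ secSub B.toModule (algP B N) O →
      rB B hDO c ∈ Algebra.adjoin Γ(X, D) (secB B N D) := fun c hc =>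
    (secSub_algP_coe B hN hD (rB B hDO c)).1 fun z hz => (gm_rB B hDO c z hz).symm ▸ hc z (hDO hz)
  have h := (secSub_algP_coe B hN hD (rB B hDO (a * b))).2 (by rw [map_mul]; exact mul_mem (key a ha) (key b hb))
  rw [show gm B.toModule y hy (show Γ(B.toModule, O) from a * b) =
    gm B.toModule y hyD (show Γ(B.toModule, D) from rB B hDO (a * b)) from (gm_res B.toModule hDO y hyD _).symm]
  exact h y hyD

lemma str_mem_algP {O : X.Opens} (r : Γ(X, O)) :
    (show Γ(B.toModule, O) from (B.str.app (op O)).hom r) ∈ secSub B.toModule (algP B N) O := by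
  intro y hy
  have h1 : gm B.toModule y hy (show Γ(B.toModule, O) from (1 : B.presheaf.obj (op O))) ∈ algP B N y :=
    Submodule.subset_span ⟨O, hy, _, (show (1 : B.presheaf.obj (op O)) ∈ Submonoid.closure (secB B N O) from one_mem _), rfl⟩
  have := Submodule.smul_mem (algP B N y) ((X.presheaf.germ O y hy).hom r) h1
  rw [← gm_smul] at this
  exact (show (r • (show Γ(B.toModule, O) from (1 : B.presheaf.obj (op O)))) =
    (show Γ(B.toModule, O) from (B.str.app (op O)).hom r) from
      (mul_one ((B.str.app (op O)).hom r) :)) ▸ this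

include hN in
/-- sections of the subalgebra -/
noncomputable def algSec (O : X.Opens) : Subring (B.presheaf.obj (op O)) where
  carrier := {b | (show Γ(B.toModule, O) from b) ∈ secSub B.toModule (algP B N) O}
  mul_mem' ha hb := mul_mem_algP B hN ha hb
  one_mem' := by
    have := str_mem_algP B (N := N) (O := O) 1
    rwa [map_one] at this
  add_mem' {a b} ha hb := (secSub B.toModule (algP B N) O).add_mem (x := (show Γ(B.toModule, O) from a)) (y := (show Γ(B.toModule, O) from b)) ha hb
  zero_mem' := (secSub B.toModule (algP B N) O).zero_mem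
  neg_mem' {a} ha := (secSub B.toModule (algP B N) O).neg_mem (x := (show Γ(B.toModule, O) from a)) ha

lemma rB_mem {V W : X.Opens} (h : W ≤ V) {b : B.presheaf.obj (op V)} (hb : b ∈ algSec B hN V) :
    rB B h b ∈ algSec B hN W := fun z hz => (gm_rB B h b z hz).symm ▸ hb z (h hz)

/-- the presheaf of subrings -/
noncomputable def algPsh : TopCat.Presheaf CommRingCat.{u} X.carrier where
  obj O := CommRingCat.of (algSec B hN O.unop)
  map {O O'} i := CommRingCat.ofHom
    (((rB B i.unop.le).comp (algSec B hN O.unop).subtype).codRestrict (algSec B hN O'.unop) fun b => rB_mem B hN _ b.2)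
  map_id O := by
    ext b
    exact (ConcreteCategory.congr_hom (B.presheaf.map_id O) b.1)
  map_comp i j := by
    ext b
    exact (ConcreteCategory.congr_hom (B.presheaf.map_comp i j) b.1)

lemma algPsh_isSheaf : (algPsh B hN).IsSheaf := by
  rw [TopCat.Presheaf.isSheaf_iff_isSheafUniqueGluing]
  intro ι U sf hsf
  let F : TopCat.Sheaf CommRingCat.{u} X := ⟨B.presheaf, B.isSheaf⟩
  obtain ⟨s, hs, hu⟩ := F.existsUnique_gluing U (fun i => (sf i).1) fun i j => congrArg Subtype.val (hsf i j)
  refine ⟨⟨s, fun y h => ?_⟩, fun i => Subtype.ext (hs i), fun t ht => Subtype.ext (hu t.1 fun i => congrArg Subtype.val (ht i))⟩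
  obtain ⟨i, hi⟩ := Opens.mem_iSup.1 h
  have h1 := (sf i).2 y hi
  rw [show gm B.toModule y h (show Γ(B.toModule, iSup U) from s) = gm B.toModule y hi (show Γ(B.toModule, U i) from (sf i).1) from
    (gm_res B.toModule (le_iSup U i) y hi (show Γ(B.toModule, iSup U) from s)).symm.trans (congrArg (gm B.toModule y hi) (hs i))]
  exact h1

/-- the structure map -/
noncomputable def algStr : X.presheaf ⟶ algPsh B hN where
  app O := CommRingCat.ofHom ((B.str.app O).hom.codRestrict (algSec B hN O.unop) fun r => str_mem_algP B r)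
  naturality O O' i := by
    ext r
    exact Subtype.ext (ConcreteCategory.congr_hom (B.str.naturality i) r)

lemma algIsQC : RelSpec.IsQC (algPsh B hN) (algStr B hN) := by
  intro U hU g
  haveI := qcoh_toModule B
  letI := ((algPsh B hN).map (homOfLE (X.basicOpen_le g)).op).hom.toAlgebra
  have hval : ∀ (n : ℕ), rB B (basicOpen_le_open g) ((B.str.app (op U)).hom g ^ n) =
      (B.str.app (op (X.basicOpen g))).hom (resO (basicOpen_le_open g) (g ^ n)) := fun n => by
    rw [← map_pow, rB_str]
  constructor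
  constructor
  · rintro ⟨_, n, rfl⟩
    obtain ⟨v, hv⟩ := (isUnit_resO U g).pow n
    refine isUnit_iff_exists_inv.2 ⟨⟨_, str_mem_algP B (↑v⁻¹ : Γ(X, X.basicOpen g))⟩, Subtype.ext ?_⟩
    show rB B (basicOpen_le_open g) ((B.str.app (op U)).hom g ^ n) * (B.str.app (op (X.basicOpen g))).hom _ = 1
    rw [hval, ← map_mul, show resO (basicOpen_le_open g) (g ^ n) = ↑v from (map_pow _ _ _).trans hv.symm, Units.mul_inv, map_one]
  · rintro ⟨c, hc⟩
    have hc' : (show Γ(B.toModule, X.basicOpen g) from c) ∈ Submodule.span Γ(X, X.basicOpen g) (mon B N (X.basicOpen g)) :=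
      secSub_algP B hN (hU.basicOpen g) ▸ hc
    suffices ∀ c' ∈ Submodule.span Γ(X, X.basicOpen g) (mon B N (X.basicOpen g)), ∃ (n : ℕ) (u : Γ(B.toModule, U)),
        u ∈ Submodule.span Γ(X, U) (mon B N U) ∧
          res B.toModule (basicOpen_le_open g) u = resO (basicOpen_le_open g) (g ^ n) • c' by
      obtain ⟨n, u, hu, hu'⟩ := this _ hc'
      rw [← secSub_algP B hN hU] at hu
      refine ⟨⟨⟨u, hu⟩, ⟨_, n, rfl⟩⟩, Subtype.ext ?_⟩
      show c * rB B (basicOpen_le_open g) ((B.str.app (op U)).hom g ^ n) = rB B (basicOpen_le_open g) u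
      rw [hval, mul_comm]
      exact hu'.symm
    intro c' hc'
    induction hc' using Submodule.span_induction with
    | mem c' hc' =>
      obtain ⟨n, u, hu, hu'⟩ := clear_mon B hN hU g hc'
      exact ⟨n, u, Submodule.subset_span hu, hu'⟩
    | zero => exact ⟨0, 0, zero_mem _, (map_zero _).trans (smul_zero _).symm⟩
    | add a b _ _ ha hb =>
      obtain ⟨n, u, hu, hu'⟩ := ha
      obtain ⟨m, v, hv, hv'⟩ := hb
      refine ⟨n + m, g ^ m • u + g ^ n • v, add_mem (Submodule.smul_mem _ _ hu) (Submodule.smul_mem _ _ hv), ?_⟩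
      rw [res, map_add, ← res, ← res, res_smul, res_smul, hu', hv', smul_smul, smul_smul, ← map_mul, ← map_mul,
        ← pow_add, ← pow_add, add_comm m n, smul_add]
    | smul a b _ hb =>
      obtain ⟨n, u, hu, hu'⟩ := hb
      have := hU.isLocalization_basicOpen g
      obtain ⟨⟨r, ⟨_, m, rfl⟩⟩, hr⟩ := IsLocalization.surj (Submonoid.powers g) a
      have hr' : resO (basicOpen_le_open g) (g ^ m) * a = resO (basicOpen_le_open g) r := (mul_comm _ _).trans hr
      refine ⟨n + m, r • u, Submodule.smul_mem _ _ hu, ?_⟩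
      rw [res_smul, hu', smul_smul, smul_smul, ← hr', pow_add]
      simp only [resO, map_mul]
      ring_nf
  · rintro ⟨x, hx⟩ ⟨y, hy⟩ h
    have h' : rB B (basicOpen_le_open g) (x - y) = 0 := by
      rw [map_sub]; exact sub_eq_zero.2 (congrArg Subtype.val h)
    obtain ⟨n, hn⟩ := (exists_pow_of_affine hU B.toModule g).2 (show Γ(B.toModule, U) from x - y) h'
    refine ⟨⟨_, n, rfl⟩, Subtype.ext ?_⟩
    have hn' : (B.str.app (op U)).hom (g ^ n) * (x - y) = 0 := hn
    show (B.str.app (op U)).hom g ^ n * x = (B.str.app (op U)).hom g ^ n * y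
    rwa [mul_sub, sub_eq_zero, map_pow] at hn'

/-- the subalgebra -/
noncomputable def algSub : RelSpec.QCAlg X := ⟨algPsh B hN, algPsh_isSheaf B hN, algStr B hN, algIsQC B hN⟩

/-- the inclusion -/
noncomputable def algι : algSub B hN ⟶ B where
  hom := { app := fun O => CommRingCat.ofHom (algSec B hN O.unop).subtype
           naturality := fun _ _ _ => rfl }
  comm := rfl

theorem algSub_finiteType (V : X.affineOpens) : ((algSub B hN).str.app (op (V : X.Opens))).hom.FiniteType := by
  haveI := qcoh_toModule B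
  obtain ⟨S, hS, hSN⟩ := exists_gen B.toModule V.2 hN (isCompact_inter_top V.2)
  have hspan : secSub B.toModule N V.1 = Submodule.span Γ(X, V.1) S :=
    secSub_eq_span B.toModule V.2 S fun y hy => hSN y hy trivial
  letI := (B.str.app (op V.1)).hom.toAlgebra
  let S' : Set (B.presheaf.obj (op V.1)) := S
  have hadj : ∀ b, b ∈ algSec B hN V.1 ↔ b ∈ Algebra.adjoin Γ(X, V.1) S' := fun b => by
    refine (secSub_algP_coe B hN V.2 b).trans ?_
    have hle : secB B N V.1 ⊆ (Algebra.adjoin Γ(X, V.1) S' : Set (B.presheaf.obj (op V.1))) := by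
      intro e he
      have he' : (show Γ(B.toModule, V.1) from e) ∈ Submodule.span Γ(X, V.1) S := hspan ▸ he
      exact (Submodule.span_le (p := (Algebra.adjoin Γ(X, V.1) S').toSubmodule)).2
        Algebra.subset_adjoin he'
    have hle' : S' ⊆ secB B N V.1 := fun e he =>
      show _ ∈ secSub B.toModule N V.1 from hspan ▸ Submodule.subset_span he
    exact ⟨fun h => Algebra.adjoin_le hle h, fun h => Algebra.adjoin_mono hle' h⟩
  letI : Algebra Γ(X, V.1) ((algSub B hN).presheaf.obj (op V.1)) := ((algSub B hN).str.app (op V.1)).hom.toAlgebra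
  let e : Algebra.adjoin Γ(X, V.1) S' →ₐ[Γ(X, V.1)] (algSub B hN).presheaf.obj (op V.1) :=
    { toFun := fun x => ⟨x.1, (hadj _).2 x.2⟩
      map_one' := rfl
      map_mul' := fun _ _ => rfl
      map_zero' := rfl
      map_add' := fun _ _ => rfl
      commutes' := fun _ => rfl }
  haveI : Algebra.FiniteType Γ(X, V.1) (Algebra.adjoin Γ(X, V.1) S') :=
    (Subalgebra.fg_iff_finiteType _).1 ⟨hS.toFinset, congrArg (Algebra.adjoin _) hS.coe_toFinset⟩
  exact Algebra.FiniteType.of_surjective e fun x => ⟨⟨x.1, (hadj _).1 x.2⟩, rfl⟩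

/-- every section lies in a subalgebra of finite type -/
theorem exists_subalgebra (hX : Extendable X) (U : X.affineOpens) (b : B.presheaf.obj (op (U : X.Opens))) :
    ∃ (B' : RelSpec.QCAlg X) (φ : B' ⟶ B),
      (∀ V : X.Opens, Function.Injective (φ.hom.app (op V)).hom) ∧
      (∀ V : X.affineOpens, (B'.str.app (op (V : X.Opens))).hom.FiniteType) ∧
      b ∈ Set.range (φ.hom.app (op (U : X.Opens))).hom := by
  haveI := qcoh_toModule B
  obtain ⟨N, hN, hb⟩ := exists_sub_through B.toModule hX U.1 U.2 {(show Γ(B.toModule, U.1) from b)} (Set.finite_singleton _)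
  refine ⟨algSub B hN, algι B hN, fun V => Subtype.val_injective, algSub_finiteType B hN, ⟨b, fun y hy => ?_⟩, rfl⟩
  rw [algP_eq B hN U.2 y hy]
  exact Submodule.subset_span ⟨hy, _, (show b ∈ Submonoid.closure (secB B N U.1) from Submonoid.subset_closure (hb _ rfl)), rfl⟩

end Groth.Agent.H7SubQ
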