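import Groth.Agent.Lib.H7RpushCoprod
import Groth.Agent.Lib.LExtZero
import Groth.Prelude.Def_CxOX
import Mathlib

/-! Objects of `D(O_X)` supported away from an open. -/

universe u v w
open CategoryTheory Limits AlgebraicGeometry Opposite TopologicalSpace

namespace Groth.Agent.H7SuppZero
open Groth.Agent H7PerfTri

attribute [local instance] HasDerivedCategory.standard

variable {U X : Scheme.{u}} (j : U ⟶ X) [IsOpenImmersion j]

/-- stalks of a restriction -/
lemma subsingleton_restrict_stalk (M : X.Modules) (y : U) :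
    Subsingleton (((Scheme.Modules.restrictFunctor j).obj M).presheaf.stalk y) ↔
      Subsingleton (M.presheaf.stalk (j.base y)) :=
  (((Scheme.Modules.restrictStalkNatIso j y).app M).addCommGroupIsoToAddEquiv).toEquiv.subsingleton_congr

theorem isZero_restrict (M : X.Modules) (h : ∀ y : U, j.base y ∉ CohB1.support M) :
    IsZero ((Scheme.Modules.restrictFunctor j).obj M) :=
  H7StalkDetect.isZero_of_stalks fun y =>
    ModuleCat.isZero_iff_subsingleton.2 ((subsingleton_restrict_stalk j M y).2 (not_not.1 (h y)))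

theorem isZero_rD (E : DCoh.D X) (h : ∀ (i : ℤ) (y : U), j.base y ∉ CohB1.support (DCoh.HD E i)) :
    IsZero ((rD j).obj E) :=
  H7RpushCoprod.isZero_of_HD _ fun i => (isZero_restrict j _ (h i)).of_iso (H7QCoh.hdRestrict j E i)

omit [IsOpenImmersion j] in
lemma support_subset_of_iso {M N : X.Modules} (e : M ≅ N) : CohB1.support M ⊆ CohB1.support N := fun x hx h =>
  hx ((((Scheme.Modules.toPresheaf X ⋙ TopCat.Presheaf.stalkFunctor _ x).mapIso e).addCommGroupIsoToAddEquiv).toEquiv.subsingleton_congr.2 h)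

/-- `(j_! G)|_U = G` -/
noncomputable def unitIso (G : U.Modules) :
    (Scheme.Modules.restrictFunctor j).obj ((CxOX.extZero j).obj G) ≅ G :=
  haveI := LExtZero.isIso_unit j
  (asIso ((CxOX.extZeroAdj j).unit.app G)).symm

theorem support_extZero (G : U.Modules) :
    CohB1.support ((CxOX.extZero j).obj G) ⊆ (fun y : U => j.base y) '' CohB1.support G := by
  intro x hx
  by_cases hr : x ∈ Set.range j.base
  · obtain ⟨y, rfl⟩ := hr
    refine ⟨y, fun h => hx ?_, rfl⟩
    exact (subsingleton_restrict_stalk j _ y).1 ((((Scheme.Modules.toPresheaf U ⋙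
      TopCat.Presheaf.stalkFunctor _ y).mapIso (unitIso j G)).addCommGroupIsoToAddEquiv).toEquiv.subsingleton_congr.2 h)
  · exact absurd (ModuleCat.isZero_iff_subsingleton.1 (LExtZero.isZero_stalk_extZero j G hr)) hx

theorem support_HD_extZeroD [PreservesFiniteLimits (CxOX.extZero j)] (F : DCoh.D U) (i : ℤ) :
    CohB1.support (DCoh.HD ((CxOX.extZeroD j).obj F) i) ⊆ (fun y : U => j.base y) '' CohB1.support (DCoh.HD F i) :=
  (support_subset_of_iso (H5WayOut.mapDerived_H (CxOX.extZero j) F i).some).trans (support_extZero j _)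

theorem nonempty_rD_extZeroD [PreservesFiniteLimits (CxOX.extZero j)] (F : DCoh.D U) :
    Nonempty ((rD j).obj ((CxOX.extZeroD j).obj F) ≅ F) := by
  let K := DerivedCategory.Q.objPreimage F
  let e := DerivedCategory.Q.objObjPreimageIso F
  haveI := LExtZero.isIso_unit j
  let u : CxOX.extZero j ⋙ Scheme.Modules.restrictFunctor j ≅ 𝟭 U.Modules := (asIso (CxOX.extZeroAdj j).unit).symm
  refine ⟨(rD j).mapIso ((CxOX.extZeroD j).mapIso e.symm ≪≫ (CxOX.extZero j).mapDerivedCategoryFactors.app K) ≪≫
    rQ j _ ≪≫ DerivedCategory.Q.mapIso (?_) ≪≫ e⟩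
  exact HomologicalComplex.Hom.isoOfComponents (fun n => u.app (K.X n)) fun n m _ => (u.hom.naturality (K.d n m)).symm

end Groth.Agent.H7SuppZero
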