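import Groth.Agent.Lib.H7TensorQC
import Groth.Agent.Lib.LTensor
import Mathlib

/-! Associativity of the tensor product of O-modules, naturally. -/

universe u
open CategoryTheory Limits AlgebraicGeometry MonoidalCategory Opposite

namespace Groth.Agent.H7TensorAssoc
open Groth.Agent

variable {X : Scheme.{u}}

/-- `M ⊗ N` -/
noncomputable abbrev T (M N : X.Modules) : X.Modules := ((DCoh.tensorBi (X := X)).obj M).obj N

/-- the functorial action -/
noncomputable abbrev tm {M M' N N' : X.Modules} (f : M ⟶ M') (g : N ⟶ N') : T M N ⟶ T M' N' :=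
  DCoh.shP.map (DCoh.toP.map f ⊗ₘ DCoh.toP.map g)

/-- sections of the sectionwise tensor product -/
noncomputable def eta (M N : X.Modules) : DCoh.toP.obj M ⊗ DCoh.toP.obj N ⟶ DCoh.toP.obj (T M N) :=
  SecTwist.toTensor M N

lemma tm_tmul {M M' N N' : X.Modules} (f : M ⟶ M') (g : N ⟶ N') (U : X.Opens) (m : M.val.obj (op U))
    (n : N.val.obj (op U)) : ((tm f g).val.app (op U)).hom (SecTwist.tmul M N U m n) =
      SecTwist.tmul M' N' U ((f.val.app (op U)).hom m) ((g.val.app (op U)).hom n) := by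
  have e : tm f g = ((DCoh.tensorBi (X := X)).map f).app N ≫ ((DCoh.tensorBi (X := X)).obj M').map g :=
    (congrArg DCoh.shP.map (tensorHom_def _ _)).trans (DCoh.shP.map_comp _ _)
  rw [e]
  exact (congrArg _ (H7StalkTensor.map_app_tmul f N U m n)).trans (H7StalkTensor.obj_map_tmul M' g U _ n)

lemma eta_natural {M M' N N' : X.Modules} (f : M ⟶ M') (g : N ⟶ N') :
    eta M N ≫ DCoh.toP.map (tm f g) = (DCoh.toP.map f ⊗ₘ DCoh.toP.map g) ≫ eta M' N' :=
  PresheafOfModules.Hom.ext (funext fun V => ModuleCat.MonoidalCategory.tensor_ext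
    (fun m n => tm_tmul f g V.unop m n))

/-- the triple sectionwise tensor product, bracketed to the left -/
noncomputable abbrev L3 (M N P : X.Modules) : X.Modules :=
  DCoh.shP.obj ((DCoh.toP.obj M ⊗ DCoh.toP.obj N) ⊗ DCoh.toP.obj P)

/-- the triple sectionwise tensor product, bracketed to the right -/
noncomputable abbrev R3 (M N P : X.Modules) : X.Modules :=
  DCoh.shP.obj (DCoh.toP.obj M ⊗ (DCoh.toP.obj N ⊗ DCoh.toP.obj P))

/-- sheafifying the inner left product -/
noncomputable def h₁ (M N P : X.Modules) : L3 M N P ⟶ T (T M N) P := DCoh.shP.map (eta M N ▷ DCoh.toP.obj P)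

/-- sheafifying the inner right product -/
noncomputable def h₂ (M N P : X.Modules) : R3 M N P ⟶ T M (T N P) := DCoh.shP.map (DCoh.toP.obj M ◁ eta N P)

/-- the sectionwise associator -/
noncomputable def h₀ (M N P : X.Modules) : L3 M N P ≅ R3 M N P :=
  DCoh.shP.mapIso (α_ (DCoh.toP.obj M) (DCoh.toP.obj N) (DCoh.toP.obj P))

instance isIso_h₁ (M N P : X.Modules) : IsIso (h₁ M N P) :=
  H5ModTensor.isIso_sheafify_whiskerRight X.sheaf (eta M N) (LTensor.W_toTensor M N) _

instance isIso_h₂ (M N P : X.Modules) : IsIso (h₂ M N P) :=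
  H5ModTensor.isIso_sheafify_whiskerLeft X.sheaf (eta N P) (LTensor.W_toTensor N P) _

/-- associativity -/
noncomputable def aIso (M N P : X.Modules) : T (T M N) P ≅ T M (T N P) :=
  (asIso (h₁ M N P)).symm ≪≫ h₀ M N P ≪≫ asIso (h₂ M N P)

lemma h₁_natural {M M' N N' P P' : X.Modules} (f : M ⟶ M') (g : N ⟶ N') (h : P ⟶ P') :
    h₁ M N P ≫ tm (tm f g) h =
      DCoh.shP.map ((DCoh.toP.map f ⊗ₘ DCoh.toP.map g) ⊗ₘ DCoh.toP.map h) ≫ h₁ M' N' P' := by
  refine (DCoh.shP.map_comp _ _).symm.trans (Eq.trans ?_ (DCoh.shP.map_comp _ _))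
  refine congrArg DCoh.shP.map ?_
  rw [← tensorHom_id, ← tensorHom_id, tensorHom_comp_tensorHom, tensorHom_comp_tensorHom, eta_natural,
    Category.id_comp, Category.comp_id]

lemma h₂_natural {M M' N N' P P' : X.Modules} (f : M ⟶ M') (g : N ⟶ N') (h : P ⟶ P') :
    h₂ M N P ≫ tm f (tm g h) =
      DCoh.shP.map (DCoh.toP.map f ⊗ₘ (DCoh.toP.map g ⊗ₘ DCoh.toP.map h)) ≫ h₂ M' N' P' := by
  refine (DCoh.shP.map_comp _ _).symm.trans (Eq.trans ?_ (DCoh.shP.map_comp _ _))
  refine congrArg DCoh.shP.map ?_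
  rw [← id_tensorHom, ← id_tensorHom, tensorHom_comp_tensorHom, tensorHom_comp_tensorHom, eta_natural,
    Category.id_comp, Category.comp_id]

lemma h₀_natural {M M' N N' P P' : X.Modules} (f : M ⟶ M') (g : N ⟶ N') (h : P ⟶ P') :
    DCoh.shP.map ((DCoh.toP.map f ⊗ₘ DCoh.toP.map g) ⊗ₘ DCoh.toP.map h) ≫ (h₀ M' N' P').hom =
      (h₀ M N P).hom ≫ DCoh.shP.map (DCoh.toP.map f ⊗ₘ (DCoh.toP.map g ⊗ₘ DCoh.toP.map h)) :=
  (DCoh.shP.map_comp _ _).symm.trans
    ((congrArg DCoh.shP.map (associator_naturality _ _ _)).trans (DCoh.shP.map_comp _ _))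

lemma aIso_natural {M M' N N' P P' : X.Modules} (f : M ⟶ M') (g : N ⟶ N') (h : P ⟶ P') :
    tm (tm f g) h ≫ (aIso M' N' P').hom = (aIso M N P).hom ≫ tm f (tm g h) := by
  rw [← cancel_epi (h₁ M N P)]
  simp only [aIso, Iso.trans_hom, Iso.symm_hom, asIso_inv, asIso_hom, Category.assoc, IsIso.hom_inv_id_assoc]
  rw [reassoc_of% (h₁_natural f g h), IsIso.hom_inv_id_assoc, reassoc_of% (h₀_natural f g h), h₂_natural]

lemma map_app_eq {M M' : X.Modules} (f : M ⟶ M') (N : X.Modules) :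
    ((DCoh.tensorBi (X := X)).map f).app N = tm f (𝟙 N) := by
  show DCoh.shP.map (DCoh.toP.map f ▷ DCoh.toP.obj N) = DCoh.shP.map _
  rw [CategoryTheory.Functor.map_id, tensorHom_id]

lemma obj_map_eq (M : X.Modules) {N N' : X.Modules} (g : N ⟶ N') :
    ((DCoh.tensorBi (X := X)).obj M).map g = tm (𝟙 M) g := by
  show DCoh.shP.map (DCoh.toP.obj M ◁ DCoh.toP.map g) = DCoh.shP.map _
  rw [CategoryTheory.Functor.map_id, id_tensorHom]

lemma tm_id (M N : X.Modules) : tm (𝟙 M) (𝟙 N) = 𝟙 (T M N) := by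
  refine (congrArg DCoh.shP.map ?_).trans (DCoh.shP.map_id _)
  rw [CategoryTheory.Functor.map_id, CategoryTheory.Functor.map_id, id_tensorHom_id]
  rfl

/-- the natural associator -/
noncomputable def associator :
    bifunctorComp₁₂ (DCoh.tensorBi (X := X)) (DCoh.tensorBi (X := X)) ≅
      bifunctorComp₂₃ (DCoh.tensorBi (X := X)) (DCoh.tensorBi (X := X)) :=
  NatIso.ofComponents (fun M => NatIso.ofComponents (fun N => NatIso.ofComponents (fun P => aIso M N P)
    (fun {P P'} h => by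
      show ((DCoh.tensorBi (X := X)).obj (T M N)).map h ≫ _ = _ ≫
        ((DCoh.tensorBi (X := X)).obj M).map (((DCoh.tensorBi (X := X)).obj N).map h)
      rw [obj_map_eq, obj_map_eq, obj_map_eq, ← tm_id M N]
      exact aIso_natural _ _ _))
    (fun {N N'} g => by
      ext P : 2
      show ((DCoh.tensorBi (X := X)).map (((DCoh.tensorBi (X := X)).obj M).map g)).app P ≫ (aIso M N' P).hom =
        (aIso M N P).hom ≫ ((DCoh.tensorBi (X := X)).obj M).map (((DCoh.tensorBi (X := X)).map g).app P)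
      rw [map_app_eq, map_app_eq, obj_map_eq, obj_map_eq]
      exact aIso_natural _ _ _))
    (fun {M M'} f => by
      ext N P : 4
      show ((DCoh.tensorBi (X := X)).map (((DCoh.tensorBi (X := X)).map f).app N)).app P ≫ (aIso M' N P).hom =
        (aIso M N P).hom ≫ ((DCoh.tensorBi (X := X)).map f).app (T N P)
      rw [map_app_eq, map_app_eq, map_app_eq, ← tm_id N P]
      exact aIso_natural _ _ _)

/-- symmetry on the first variable: the tensor product commutes with coproducts in either variable -/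
theorem preserves_flip (P : X.Modules) (J : Type u) [SmallCategory J] :
    PreservesColimitsOfShape J ((DCoh.tensorBi (X := X)).flip.obj P) :=
  haveI := H7TensorQC.preservesColimits_tensorRight P J
  preservesColimitsOfShape_of_natIso (F := DCoh.tensorRightMod P) (NatIso.ofComponents (fun _ => Iso.refl _)
    (fun f => (Category.comp_id _).trans (Category.id_comp _).symm))

theorem preserves_obj (M : X.Modules) (J : Type u) [SmallCategory J] :
    PreservesColimitsOfShape J ((DCoh.tensorBi (X := X)).obj M) :=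
  haveI := preserves_flip M J
  preservesColimitsOfShape_of_natIso (F := (DCoh.tensorBi (X := X)).flip.obj M)
    (NatIso.ofComponents (fun N => DCoh.shP.mapIso (β_ (DCoh.toP.obj N) (DCoh.toP.obj M))) fun {N N'} g => by
      show DCoh.shP.map (DCoh.toP.map g ▷ DCoh.toP.obj M) ≫ DCoh.shP.map _ =
        DCoh.shP.map _ ≫ DCoh.shP.map (DCoh.toP.obj M ◁ DCoh.toP.map g)
      rw [← Functor.map_comp, ← Functor.map_comp, BraidedCategory.braiding_naturality_left])

instance preserves_flip₀ (P : X.Modules) (J : Type) :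
    PreservesColimitsOfShape (Discrete J) ((DCoh.tensorBi (X := X)).flip.obj P) :=
  haveI := preserves_flip P (Discrete (ULift.{u} J))
  preservesColimitsOfShape_of_equiv (Discrete.equivalence (Equiv.ulift.{u, 0} (α := J))) _

instance preserves_obj₀ (M : X.Modules) (J : Type) :
    PreservesColimitsOfShape (Discrete J) ((DCoh.tensorBi (X := X)).obj M) :=
  haveI := preserves_obj M (Discrete (ULift.{u} J))
  preservesColimitsOfShape_of_equiv (Discrete.equivalence (Equiv.ulift.{u, 0} (α := J))) _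

open HomologicalComplex in
/-- associativity of the tensor product of complexes -/
noncomputable def assocCx (R K L : CochainComplex X.Modules ℤ) :
    (DCoh.tensorCx.obj ((DCoh.tensorCx.obj R).obj K)).obj L ≅ (DCoh.tensorCx.obj R).obj ((DCoh.tensorCx.obj K).obj L) :=
  mapBifunctorAssociator associator R K L (ComplexShape.up ℤ) (ComplexShape.up ℤ) (ComplexShape.up ℤ)

open HomologicalComplex in
lemma assocCx_natural {R R' : CochainComplex X.Modules ℤ} (f : R ⟶ R') (K L : CochainComplex X.Modules ℤ) :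
    (DCoh.tensorCx.map ((DCoh.tensorCx.map f).app K)).app L ≫ (assocCx R' K L).hom =
      (assocCx R K L).hom ≫ (DCoh.tensorCx.map f).app ((DCoh.tensorCx.obj K).obj L) := by
  refine hom_ext _ _ fun j => mapBifunctor₁₂.hom_ext fun i₁ i₂ i₃ h => ?_
  show mapBifunctor₁₂.ι _ _ R K L _ _ i₁ i₂ i₃ j h ≫
      ((mapBifunctorMap (mapBifunctorMap f (𝟙 K) (DCoh.tensorBi (X := X)) (ComplexShape.up ℤ)) (𝟙 L)
        (DCoh.tensorBi (X := X)) (ComplexShape.up ℤ)).f j ≫
        (mapBifunctorAssociatorX associator R' K L (ComplexShape.up ℤ) (ComplexShape.up ℤ) (ComplexShape.up ℤ) j).hom) =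
    mapBifunctor₁₂.ι _ _ R K L _ _ i₁ i₂ i₃ j h ≫
      ((mapBifunctorAssociatorX associator R K L (ComplexShape.up ℤ) (ComplexShape.up ℤ) (ComplexShape.up ℤ) j).hom ≫
        (mapBifunctorMap f (𝟙 (mapBifunctor K L (DCoh.tensorBi (X := X)) (ComplexShape.up ℤ)))
          (DCoh.tensorBi (X := X)) (ComplexShape.up ℤ)).f j)
  rw [ι_mapBifunctorAssociatorX_hom_assoc]
  rw [mapBifunctor₁₂.ι_eq _ _ R K L (ComplexShape.up ℤ) (ComplexShape.up ℤ) i₁ i₂ i₃ (i₁ + i₂) j rfl h,
    Category.assoc, H5TenCx.ι_map₁_assoc, ← NatTrans.comp_app_assoc, ← Functor.map_comp, H5TenCx.ι_map₁,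
    Functor.map_comp, NatTrans.comp_app, Category.assoc,
    ← reassoc_of% (mapBifunctor₁₂.ι_eq (DCoh.tensorBi (X := X)) (DCoh.tensorBi (X := X)) R' K L (ComplexShape.up ℤ)
      (ComplexShape.up ℤ) i₁ i₂ i₃ (i₁ + i₂) j rfl h), ι_mapBifunctorAssociatorX_hom,
    mapBifunctor₂₃.ι_eq _ _ R K L (ComplexShape.up ℤ) (ComplexShape.up ℤ) (ComplexShape.up ℤ) i₁ i₂ i₃ (i₂ + i₃) j rfl
      ((add_assoc i₁ i₂ i₃).symm.trans h)]
  refine Eq.trans ?_ (congrArg (_ ≫ ·) ((Category.assoc _ _ _).trans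
    ((congrArg (_ ≫ ·) (H5TenCx.ι_map₁ (F := DCoh.tensorBi (X := X)) f
      (mapBifunctor K L (DCoh.tensorBi (X := X)) (ComplexShape.up ℤ)) i₁ (i₂ + i₃) j ((add_assoc i₁ i₂ i₃).symm.trans h))).trans
      ((Category.assoc _ _ _).symm.trans
        ((congrArg (· ≫ _) (((DCoh.tensorBi (X := X)).map (f.f i₁)).naturality _)).trans (Category.assoc _ _ _)))))).symm
  refine (congrArg (fun t => _ ≫ _ ≫ t) (mapBifunctor₂₃.ι_eq (DCoh.tensorBi (X := X)) (DCoh.tensorBi (X := X)) R' K L
    (ComplexShape.up ℤ) (ComplexShape.up ℤ) (ComplexShape.up ℤ) i₁ i₂ i₃ (i₂ + i₃) j rfl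
      ((add_assoc i₁ i₂ i₃).symm.trans h))).trans ?_
  have hn : (DCoh.tensorBi.map ((DCoh.tensorBi.map (f.f i₁)).app (K.X i₂))).app (L.X i₃) ≫
      (((associator (X := X)).hom.app (R'.X i₁)).app (K.X i₂)).app (L.X i₃) =
      (((associator (X := X)).hom.app (R.X i₁)).app (K.X i₂)).app (L.X i₃) ≫
        (DCoh.tensorBi.map (f.f i₁)).app ((DCoh.tensorBi.obj (K.X i₂)).obj (L.X i₃)) := by
    show ((DCoh.tensorBi (X := X)).map (((DCoh.tensorBi (X := X)).map (f.f i₁)).app (K.X i₂))).app (L.X i₃) ≫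
      (aIso (R'.X i₁) (K.X i₂) (L.X i₃)).hom = (aIso (R.X i₁) (K.X i₂) (L.X i₃)).hom ≫ _
    rw [map_app_eq, map_app_eq, map_app_eq, ← tm_id (K.X i₂) (L.X i₃)]
    exact aIso_natural _ _ _
  exact (reassoc_of% hn) _

end Groth.Agent.H7TensorAssoc
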