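import Groth.Agent.Lib.H7LTensorMod
import Groth.Agent.Lib.H7QCoh
import Groth.Agent.Lib.LQFin
import Groth.Agent.Lib.LTensor
import Mathlib

/-! Tensor products of quasi-coherent and of finite type modules. -/

universe u
open CategoryTheory Limits AlgebraicGeometry MonoidalCategory

namespace Groth.Agent.H7TensorQC
open Groth.Agent

variable {X : Scheme.{u}}

theorem preservesColimits_tensorRight (G : X.Modules) (J : Type u) [SmallCategory J] :
    PreservesColimitsOfShape J (DCoh.tensorRightMod G) := by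
  haveI : ∀ x : X, PreservesColimitsOfShape J (DerSch.stalkFunctor X x) := fun x =>
    (H7Stalk.adj x).leftAdjoint_preservesColimits.preservesColimitsOfShape
  refine H7StalkDetect.preservesColimitsOfShape_of_stalks _ fun x => ?_
  let R := X.presheaf.stalk x
  let m := (DerSch.stalkFunctor X x).obj G
  haveI : PreservesColimitsOfShape J ((curriedTensor (ModuleCat.{u} R)).flip.obj m) :=
    preservesColimitsOfShape_of_natIso (BraidedCategory.tensorLeftIsoTensorRight m)
  exact preservesColimitsOfShape_of_natIso (H7LTensorMod.stIso G x).symm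

theorem preservesCokernels_tensorRight (G : X.Modules) :
    PreservesColimitsOfShape WalkingParallelPair (DCoh.tensorRightMod G) := by
  haveI := preservesColimits_tensorRight G (ULiftHom.{u} (ULift.{u} WalkingParallelPair))
  exact preservesColimitsOfShape_of_equiv (ULiftHomULiftCategory.equiv.{u, u} WalkingParallelPair).symm _

/-- `𝒪 ⊗ G ≅ G` -/
noncomputable def unitIso (G : X.Modules) : (DCoh.tensorRightMod G).obj (Coh.structureModule X) ≅ G :=
  LTensor.comm _ _ ≪≫ SecTwist.unitorR G

/-- `free I ⊗ G ≅ ∐ G` -/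
noncomputable def freeIso (G : X.Modules) (I : Type u) :
    (DCoh.tensorRightMod G).obj (SheafOfModules.free (R := X.ringCatSheaf) I) ≅ ∐ fun _ : I => G :=
  haveI := preservesColimits_tensorRight G (Discrete I)
  PreservesCoproduct.iso (DCoh.tensorRightMod G) (fun _ : I => Coh.structureModule X) ≪≫
    Sigma.mapIso fun _ => unitIso G

variable {R : CommRingCat.{u}}

set_option backward.isDefEq.respectTransparency false in
lemma qcoh_tensor_spec (F G : (Spec R).Modules) (hF : Coh.IsQCoh F) (hG : Coh.IsQCoh G) :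
    Coh.IsQCoh ((DCoh.tensorRightMod G).obj F) := by
  haveI : F.IsQuasicoherent := hF
  haveI : IsIso F.fromTildeΓ := Scheme.Modules.isIso_fromTildeΓ_of_isQuasicoherent _
  obtain ⟨p₀⟩ := LQcoh.nonempty_presentation_tilde ((modulesSpecToSheaf.obj F).presheaf.obj (Opposite.op ⊤))
  let P : F.Presentation := SheafOfModules.Presentation.ofIsIso.{u, u, u} (asIso F.fromTildeΓ).hom p₀
  haveI := preservesCokernels_tensorRight G
  have hq : ∀ I : Type u, Coh.IsQCoh ((DCoh.tensorRightMod G).obj (SheafOfModules.free (R := (Spec R).ringCatSheaf) I)) :=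
    fun I => H7AffineD.qcoh_of_iso (freeIso G I).symm (H7QCoh.isQCoh_sigma _ fun _ => hG)
  exact H7AffineD.qcoh_of_iso ((cokernelIsCokernel _).coconePointUniqueUpToIso
      (isColimitCoforkMapOfIsColimit' (DCoh.tensorRightMod G) _ P.isColimit))
    (@LQcoh.isQuasicoherent_cokernel _ _ _ (hq _) (hq _) _)

lemma tensorRight_obj {X : Scheme.{u}} (F G : X.Modules) : (DCoh.tensorRightMod G).obj F = CohB1.tensorMod F G := rfl

lemma qcoh_tensor_spec' (F G : (Spec R).Modules) (hF : Coh.IsQCoh F) (hG : Coh.IsQCoh G) :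
    Coh.IsQCoh (CohB1.tensorMod F G) := (tensorRight_obj F G) ▸ qcoh_tensor_spec F G hF hG

/-- restriction commutes with `⊗` -/
noncomputable def restrictIso {Y : Scheme.{u}} (j : Y ⟶ X) [IsOpenImmersion j] (F G : X.Modules) :
    CohB1.tensorMod (F.restrict j) (G.restrict j) ≅ (CohB1.tensorMod F G).restrict j :=
  LTensor.restrictIso j F G

/-- tensor products of quasi-coherent modules -/
theorem isQCoh_tensor {F G : X.Modules} (hF : Coh.IsQCoh F) (hG : Coh.IsQCoh G) :
    Coh.IsQCoh (CohB1.tensorMod F G) := by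
  refine H7QCoh.isQCoh_of_local _ fun x => ?_
  obtain ⟨R, j, hj, hx, -⟩ := H7QCoh.exists_affine x ⊤ trivial
  refine ⟨R, j, hj, hx, ?_⟩
  have h1 : Coh.IsQCoh (CohB1.tensorMod (F.restrict j) (G.restrict j)) :=
    qcoh_tensor_spec' (F.restrict j) (G.restrict j) (H7QCoh.isQCoh_restrict j hF) (H7QCoh.isQCoh_restrict j hG)
  exact H7AffineD.qcoh_of_iso (restrictIso j F G) h1

set_option backward.isDefEq.respectTransparency false in
lemma hasFinGen_sigma {I : Type u} [Finite I] {G : X.Modules} (h : LQcoh.HasFinGen G) :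
    LQcoh.HasFinGen (∐ fun _ : I => G) := by
  obtain ⟨σ, hσ⟩ := h
  let q : SheafOfModules.free (R := X.ringCatSheaf) (I × σ.I) ⟶ ∐ fun _ : I => G :=
    Cofan.IsColimit.desc (SheafOfModules.isColimitFreeCofan _) fun p =>
      SheafOfModules.ιFree p.2 ≫ σ.π ≫ Sigma.ι (fun _ : I => G) p.1
  haveI hq : Epi q := ⟨fun {Z} a b hab => by
    refine Sigma.hom_ext _ _ fun i => ?_
    haveI := σ.epi
    rw [← cancel_epi σ.π]
    refine Cofan.IsColimit.hom_ext (SheafOfModules.isColimitFreeCofan _) _ _ fun k => ?_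
    have h := congrArg (fun φ => (SheafOfModules.freeCofan (R := X.ringCatSheaf) (I × σ.I)).inj (i, k) ≫ φ) hab
    simp only [q, ← Category.assoc, Cofan.IsColimit.fac] at h
    simpa using h⟩
  refine ⟨⟨I × σ.I, (∐ fun _ : I => G).freeHomEquiv q, ?_⟩, (inferInstance : Finite (I × σ.I))⟩
  rw [Equiv.symm_apply_apply]
  exact hq

set_option backward.isDefEq.respectTransparency false in
lemma hasFinGen_tensor {F G : X.Modules} (hF : LQcoh.HasFinGen F) (hG : LQcoh.HasFinGen G) :
    LQcoh.HasFinGen ((DCoh.tensorRightMod G).obj F) := by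
  obtain ⟨σ, hσ⟩ := hF
  haveI := σ.epi
  haveI := preservesColimits_tensorRight G (ULiftHom.{u} (ULift.{u} WalkingSpan))
  haveI : PreservesColimitsOfShape WalkingSpan (DCoh.tensorRightMod G) :=
    preservesColimitsOfShape_of_equiv (ULiftHomULiftCategory.equiv.{u, u} WalkingSpan).symm _
  exact ((hasFinGen_sigma hG).of_epi (freeIso G σ.I).inv).of_epi ((DCoh.tensorRightMod G).map σ.π)

set_option backward.isDefEq.respectTransparency false in
lemma hasFinGen_restrict_affine {F : X.Modules} [F.IsQuasicoherent] (hF : CohB1.IsFT F) {V : X.Opens}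
    (hV : IsAffineOpen V) : LQcoh.HasFinGen (F.restrict hV.fromSpec) := by
  haveI : SheafOfModules.IsFiniteType (R := X.ringCatSheaf) F := hF
  haveI : (F.restrict hV.fromSpec).IsQuasicoherent := H7QCoh.isQCoh_restrict hV.fromSpec ‹_›
  haveI : IsIso (F.restrict hV.fromSpec).fromTildeΓ := Scheme.Modules.isIso_fromTildeΓ_of_isQuasicoherent _
  let N := (modulesSpecToSheaf.obj (F.restrict hV.fromSpec)).presheaf.obj (Opposite.op ⊤)
  haveI : Module.Finite Γ(X, V) N := (LQcoh.finite_restrict_iff F hV).2 (LQcoh.finite_sections F hV)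
  exact (LQcoh.hasFinGen_tilde N).of_epi (asIso (F.restrict hV.fromSpec).fromTildeΓ).hom

set_option backward.isDefEq.respectTransparency false in
/-- tensor products of finite type quasi-coherent modules -/
theorem isFT_tensor {F G : X.Modules} (hF : Coh.IsQCoh F) (hG : Coh.IsQCoh G) (hF' : CohB1.IsFT F)
    (hG' : CohB1.IsFT G) : CohB1.IsFT (CohB1.tensorMod F G) := by
  haveI : F.IsQuasicoherent := hF
  haveI : G.IsQuasicoherent := hG
  haveI hT : (CohB1.tensorMod F G).IsQuasicoherent := isQCoh_tensor hF hG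
  refine LQcoh.isFiniteType_of_finite _ (fun U : X.affineOpens => (U : X.Opens)) (fun U => U.2)
    (iSup_affineOpens_eq_top X) fun U => (LQcoh.finite_restrict_iff _ U.2).1 ?_
  haveI : IsOpenImmersion U.2.fromSpec := IsAffineOpen.isOpenImmersion_fromSpec U.2
  haveI : ((CohB1.tensorMod F G).restrict U.2.fromSpec).IsQuasicoherent := H7QCoh.isQCoh_restrict U.2.fromSpec hT
  let u : (DCoh.tensorRightMod (G.restrict U.2.fromSpec)).obj (F.restrict U.2.fromSpec) ≅
      (CohB1.tensorMod F G).restrict U.2.fromSpec := restrictIso U.2.fromSpec F G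
  exact LQcoh.module_finite_of_hasFinGen _ ((hasFinGen_tensor (hasFinGen_restrict_affine hF' U.2)
    (hasFinGen_restrict_affine hG' U.2)).of_epi u.hom)

end Groth.Agent.H7TensorQC
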