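import Groth.Agent.Lib.H7TorFlat
import Groth.Agent.Lib.H7TildeKFlat
import Groth.Agent.Lib.LQcqs
import Groth.Agent.Lib.H7QCoh
import Groth.Agent.Lib.H7TildeEquiv
import Mathlib

/-! Tor amplitude is detected by quasi-coherent test modules. -/

universe u
open CategoryTheory Limits AlgebraicGeometry MonoidalCategory

namespace Groth.Agent.H7TorQC
open Groth.Agent H5TenCx H7PseudoPull H7KFlatMod H7KFlatSheaf H7LTensorMod H7LpullCalc H7TorAmp H7TorFlat

attribute [local instance] HasDerivedCategory.standard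

variable {R : CommRingCat.{u}}

/-- modules over a local ring of `Spec R` are stalks of their restriction to `R` -/
noncomputable def extResIso (p : (Spec R : Scheme)) (L : ModuleCat.{u} ((Spec R).presheaf.stalk p)) :
    (ModuleCat.extendScalars.{u, u, u} (H7TildeKFlat.toSt p)).obj
      ((ModuleCat.restrictScalars.{u} (H7TildeKFlat.toSt p)).obj L) ≅ L :=
  letI := (H7TildeKFlat.toSt p).toAlgebra
  letI : Module R L := Module.compHom L (H7TildeKFlat.toSt p)
  haveI : IsScalarTower R ((Spec R).presheaf.stalk p) L := ⟨fun r s l => mul_smul _ s l⟩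
  haveI hp : (show PrimeSpectrum R from p).asIdeal.IsPrime := (show PrimeSpectrum R from p).isPrime
  haveI : IsLocalization.AtPrime ((Spec R).presheaf.stalk p) (show PrimeSpectrum R from p).asIdeal := by
    have h0 := @StructureSheaf.IsLocalization.to_stalk R _ (show PrimeSpectrum R from p)
    exact h0
  haveI := IsLocalization.tensorProduct_compatibleSMul (show PrimeSpectrum R from p).asIdeal.primeCompl
    ((Spec R).presheaf.stalk p) ((Spec R).presheaf.stalk p) L
  let l : TensorProduct R ((Spec R).presheaf.stalk p) L ≃ₗ[(Spec R).presheaf.stalk p] L :=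
    TensorProduct.lidOfCompatibleSMul R ((Spec R).presheaf.stalk p) L
  l.toModuleIso

variable {X : Scheme.{u}}

set_option maxHeartbeats 800000 in
/-- every module over a local ring is the stalk of a quasi-coherent module -/
theorem exists_qcoh_stalk [QuasiSeparatedSpace X] (x : X) (N : ModuleCat.{u} (X.presheaf.stalk x)) :
    ∃ G : X.Modules, Coh.IsQCoh G ∧ Nonempty ((DerSch.stalkFunctor X x).obj G ≅ N) := by
  obtain ⟨R, j, hj, ⟨p, rfl⟩, -⟩ := H7QCoh.exists_affine x ⊤ trivial
  haveI : QuasiCompact j := inferInstance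
  haveI : QuasiSeparated j := inferInstance
  let e : X.presheaf.stalk (j.base p) ≃+* (Spec R).presheaf.stalk p := (asIso (j.stalkMap p)).commRingCatIsoToRingEquiv
  let N' : ModuleCat.{u} ((Spec R).presheaf.stalk p) := (ModuleCat.restrictScalars.{u} e.symm.toRingHom).obj N
  let F := (tilde.functor R).obj ((ModuleCat.restrictScalars.{u} (H7TildeKFlat.toSt p)).obj N')
  let G := (Scheme.Modules.pushforward j).obj F
  haveI : PreservesFiniteLimits (tilde.functor R) := LQcoh.preservesFiniteLimits_tilde R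
  haveI hF : F.IsQuasicoherent := H7TildeEquiv.qcoh_tilde _
  refine ⟨G, LQcoh.isQuasicoherent_push j F, ?_⟩
  let eG : (Scheme.Modules.pullback j).obj G ≅ F :=
    ((Scheme.Modules.restrictFunctorIsoPullback j).app G).symm ≪≫
      (asIso (Scheme.Modules.restrictAdjunction j).counit).app F
  let adj : ModuleCat.restrictScalars.{u} e.symm.toRingHom ⊣ ModuleCat.restrictScalars.{u} e.toRingHom :=
    (ModuleCat.restrictScalarsEquivalenceOfRingEquiv.{u} e.symm).toAdjunction
  let c : ModuleCat.restrictScalars.{u} e.symm.toRingHom ≅ ModuleCat.extendScalars.{u, u, u} (j.stalkMap p).hom :=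
    adj.leftAdjointUniq (ModuleCat.extendRestrictScalarsAdj.{u, u, u} (j.stalkMap p).hom)
  haveI : (ModuleCat.restrictScalars.{u} e.symm.toRingHom).IsEquivalence :=
    ModuleCat.restrictScalars_isEquivalence_of_ringEquiv e.symm
  let φ : (ModuleCat.restrictScalars.{u} e.symm.toRingHom).obj ((DerSch.stalkFunctor X (j.base p)).obj G) ≅ N' :=
    c.app _ ≪≫ ((H7StalkPull.pullStalkIso j p).app G).symm ≪≫ (DerSch.stalkFunctor (Spec R) p).mapIso eG ≪≫
      (H7TildeKFlat.tildeStalkIso p).app _ ≪≫ extResIso p N'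
  exact ⟨(ModuleCat.restrictScalars.{u} e.symm.toRingHom).preimageIso φ⟩

/-- tor amplitude is detected by quasi-coherent test modules -/
theorem torAmp_of_qcoh [QuasiSeparatedSpace X] {E : DCoh.D X} {a b : ℤ} (hab : a ≤ b)
    (h : ∀ (F : X.Modules), Coh.IsQCoh F → ∀ [DCoh.HasLTensorMod F] (i : ℤ), (i < a ∨ b < i) →
      IsZero (DCoh.HD ((DCoh.LTensorMod F).obj E) i)) : DCoh.HasTorAmplitudeIn a b E := by
  obtain ⟨K, hK, hflat, ⟨e⟩⟩ := exists_skf E
  have hten : ∀ x, ∀ N, ∀ i, (i < a ∨ b < i) → (tenN ((stCx x).obj K) N).ExactAt i := fun x N i hi => by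
    obtain ⟨G, hG, ⟨eG⟩⟩ := exists_qcoh_stalk x N
    haveI := hasLTensorMod G
    have h1 := (isZero_HD_Q_iff _ i).1
      (isZero_HD_of_iso ((ltenIso G hK).symm ≪≫ (DCoh.LTensorMod G).mapIso e) (h G hG i hi))
    exact (((H7StalkDetect.jointly X).exactAt_iff _ i).1 h1 x).of_iso (stTenIso G x K ≪≫ H7PerfPull.cxIso
      ((curriedTensor (ModuleCat.{u} (X.presheaf.stalk x))).flip.mapIso eG) _)
  obtain ⟨L, hL, hL', ⟨eL⟩⟩ := flatAmp_of_exact hK hflat hab
    (fun i hi => exactAt_of_tenN_stalks fun x N => hten x N i hi)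
    (fun x N i hi => hten x N i (Or.inr hi)) (fun x N => hten x N _ (Or.inl (by omega)))
  exact torAmp_of_flatAmp ⟨L, hL, hL', ⟨eL ≪≫ e⟩⟩

end Groth.Agent.H7TorQC
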