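import Mathlib

/-! For a family `G` of separating objects with `Extⁿ(G, Q) = 0` for `n > 0` and `Q` in a class `P`,
maps from `G` into an unbounded complex with cohomology in `P` are maps into its cohomology. -/

universe w v u t
open CategoryTheory Limits Category Pretriangulated

namespace Groth.Agent.H7Unbounded

variable {C : Type u} [Category.{v} C] [Abelian C] [HasDerivedCategory.{w} C]

local notation "H" => DerivedCategory.homologyFunctor C
local notation "S₀" => DerivedCategory.singleFunctor C 0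

/-- `Hom(G, K) → Hom(G, H⁰ K)` -/
noncomputable def psi (G : C) (K : DerivedCategory C) : ((S₀).obj G ⟶ K) →+ (G ⟶ (H 0).obj K) where
  toFun e := (DerivedCategory.singleFunctorCompHomologyFunctorIso C 0).inv.app G ≫ (H 0).map e
  map_zero' := by simp
  map_add' e e' := by simp

lemma psi_comp (G : C) {K K' : DerivedCategory C} (e : (S₀).obj G ⟶ K) (f : K ⟶ K') :
    psi G K' (e ≫ f) = psi G K e ≫ (H 0).map f := by
  simp [psi]

lemma psi_single_bijective (G F : C) : Function.Bijective (psi G ((S₀).obj F)) := by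
  let σ := DerivedCategory.singleFunctorCompHomologyFunctorIso C 0
  have key : ∀ f : G ⟶ F, psi G _ ((S₀).map f) = f ≫ σ.inv.app F := fun f => (σ.inv.naturality f).symm
  constructor
  · intro e e' he
    obtain ⟨f, rfl⟩ := (S₀).map_surjective e
    obtain ⟨f', rfl⟩ := (S₀).map_surjective e'
    rw [key, key, cancel_mono] at he
    rw [he]
  · intro g
    exact ⟨(S₀).map (g ≫ σ.hom.app F), by rw [key, assoc, σ.hom_inv_id_app]; exact comp_id g⟩

lemma psi_bijective_of_iso (G : C) {K K' : DerivedCategory C} (φ : K ≅ K')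
    (h : Function.Bijective (psi G K)) : Function.Bijective (psi G K') := by
  constructor
  · intro e e' he
    have : psi G K (e ≫ φ.inv) = psi G K (e' ≫ φ.inv) := by rw [psi_comp, psi_comp, he]
    simpa using h.1 this
  · intro g
    obtain ⟨e, he⟩ := h.2 (g ≫ (H 0).map φ.inv)
    exact ⟨e ≫ φ.hom, by rw [psi_comp, he, assoc, ← Functor.map_comp]; simp⟩

/-- cycles give classes -/
lemma mono_of_psi {ι : Type t} (G : ι → C)
    (sep : ∀ ⦃M N : C⦄ (f g : M ⟶ N), (∀ (a : ι) (x : G a ⟶ M), x ≫ f = x ≫ g) → f = g)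
    (L : DerivedCategory C) {N : C} (φ : (H 0).obj L ⟶ N)
    (h : ∀ (a : ι) (e : (S₀).obj (G a) ⟶ L), psi (G a) L e ≫ φ = 0 → psi (G a) L e = 0) : Mono φ := by
  let K := DerivedCategory.Q.objPreimage L
  let r : DerivedCategory.Q.obj K ≅ L := DerivedCategory.Q.objObjPreimageIso L
  let u₂ : (H 0).obj (DerivedCategory.Q.obj K) ≅ K.homology 0 :=
    (DerivedCategory.homologyFunctorFactors C 0).app K
  let q : K.homology 0 ≅ (H 0).obj L := u₂.symm ≪≫ (H 0).mapIso r
  refine Preadditive.mono_of_cancel_zero _ fun {T} k hk => ?_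
  have : Epi (pullback.snd (K.homologyπ 0 ≫ q.hom) k) := inferInstance
  rw [← cancel_epi (pullback.snd (K.homologyπ 0 ≫ q.hom) k), comp_zero]
  refine sep _ _ fun a x => ?_
  rw [comp_zero, ← pullback.condition]
  let z : G a ⟶ K.X 0 := x ≫ pullback.fst (K.homologyπ 0 ≫ q.hom) k ≫ K.iCycles 0
  let f : (HomologicalComplex.single C (ComplexShape.up ℤ) 0).obj (G a) ⟶ K :=
    HomologicalComplex.mkHomFromSingle z (fun j _ => by simp [z])
  let w : (S₀).obj (G a) ≅ DerivedCategory.Q.obj ((HomologicalComplex.single C (ComplexShape.up ℤ) 0).obj (G a)) :=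
    (DerivedCategory.singleFunctorIsoCompQ C 0).app (G a)
  let e : (S₀).obj (G a) ⟶ L := w.hom ≫ DerivedCategory.Q.map f ≫ r.hom
  let σ₁ := (DerivedCategory.singleFunctorCompHomologyFunctorIso C 0).inv.app (G a)
  let u₁ : (H 0).obj (DerivedCategory.Q.obj ((HomologicalComplex.single C (ComplexShape.up ℤ) 0).obj (G a))) ≅
      ((HomologicalComplex.single C (ComplexShape.up ℤ) 0).obj (G a)).homology 0 :=
    (DerivedCategory.homologyFunctorFactors C 0).app _
  let σ₂ := u₁.hom ≫ (HomologicalComplex.singleObjHomologySelfIso (ComplexShape.up ℤ) 0 (G a)).hom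
  let σ : G a ⟶ G a := σ₁ ≫ (H 0).map w.hom ≫ σ₂
  have : IsIso σ₁ := inferInstance
  have : IsIso σ₂ := inferInstance
  have : IsIso σ := inferInstance
  have hf : (HomologicalComplex.singleObjHomologySelfIso (ComplexShape.up ℤ) 0 (G a)).inv ≫
      HomologicalComplex.homologyMap f 0 =
        (x ≫ pullback.fst (K.homologyπ 0 ≫ q.hom) k) ≫ K.homologyπ 0 := by
    have h1 : (HomologicalComplex.singleObjCyclesSelfIso (ComplexShape.up ℤ) 0 (G a)).inv ≫
        HomologicalComplex.cyclesMap f 0 = x ≫ pullback.fst (K.homologyπ 0 ≫ q.hom) k := by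
      rw [← cancel_mono (K.iCycles 0)]
      simp [f, z, HomologicalComplex.mkHomFromSingle, HomologicalComplex.singleObjXSelf,
        HomologicalComplex.XIsoOfEq_rfl]
    rw [← h1, assoc, ← HomologicalComplex.homologyπ_naturality]
    rw [HomologicalComplex.singleObjCyclesSelfIso_inv_homologyπ_assoc]
  have hψ : psi (G a) L e = σ ≫ (x ≫ pullback.fst (K.homologyπ 0 ≫ q.hom) k ≫ K.homologyπ 0) ≫ q.hom := by
    have hn : (H 0).map (DerivedCategory.Q.map f) = u₁.hom ≫ HomologicalComplex.homologyMap f 0 ≫ u₂.inv := by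
      have h4 : (H 0).map (DerivedCategory.Q.map f) ≫ u₂.hom = u₁.hom ≫ HomologicalComplex.homologyMap f 0 :=
        (DerivedCategory.homologyFunctorFactors C 0).hom.naturality f
      rw [← reassoc_of% h4, Iso.hom_inv_id, comp_id]
    rw [← assoc x, ← hf]
    show σ₁ ≫ (H 0).map e = _
    simp only [σ, σ₂, e, q, Functor.map_comp, assoc, Iso.hom_inv_id_assoc, Iso.trans_hom, Iso.symm_hom,
      Functor.mapIso_hom, hn]
  have h0 : psi (G a) L e ≫ φ = 0 := by
    have hc : pullback.fst (K.homologyπ 0 ≫ q.hom) k ≫ K.homologyπ 0 ≫ q.hom ≫ φ = 0 := by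
      rw [← assoc (K.homologyπ 0), ← assoc, pullback.condition, assoc, hk, comp_zero]
    rw [hψ]
    simp only [assoc, hc, comp_zero]
  have h2 := h a e h0
  rw [hψ, ← cancel_epi σ] at *
  simpa using h2

variable (P : ObjectProperty C) [P.IsClosedUnderIsomorphisms]

open DerivedCategory.TStructure in
/-- the bounded below case -/
theorem psi_bijective_of_isGE (G : C)
    (hG : ∀ F : C, P F → ∀ n : ℕ, ∀ e : (S₀).obj G ⟶ ((S₀).obj F)⟦((n : ℤ) + 1)⟧, e = 0)
    (n : ℕ) : ∀ (K : DerivedCategory C), (∀ i, P ((H i).obj K)) → K.IsGE (-(n : ℤ)) →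
      Function.Bijective (psi G K) := by
  induction n with
  | zero =>
    intro K hK hge
    have hge : K.IsGE 0 := by simpa using hge
    have hd := t.triangleLTGE_distinguished 1 K
    set T := (t.triangleLTGE 1).obj K
    have h3 : T.obj₃.IsGE 1 := (inferInstance : DerivedCategory.IsGE ((t.truncGE 1).obj K) 1)
    have h1 : DerivedCategory.IsLE ((t.truncLT 1).obj K) 0 := t.isLE_truncLT_obj K 1 0 (by omega)
    have h1' : DerivedCategory.IsGE ((t.truncLT 1).obj K) 0 := inferInstance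
    obtain ⟨F, ⟨eF⟩⟩ := DerivedCategory.exists_iso_singleFunctor_obj_of_isGE_of_isLE ((t.truncLT 1).obj K) 0
    have hb : Function.Bijective (psi G T.obj₁) := psi_bijective_of_iso G eF.symm (psi_single_bijective G F)
    have hiso : IsIso ((H 0).map T.mor₁) := by
      have e1 : Mono ((H 0).map T.mor₁) := (DerivedCategory.HomologySequence.exact₁ T hd (0 - 1) 0 (by omega)).mono_g
        ((DerivedCategory.isZero_of_isGE T.obj₃ 1 _ (by omega)).eq_of_src _ _)
      have e2 : Epi ((H 0).map T.mor₁) := (DerivedCategory.HomologySequence.exact₂ T hd 0).epi_f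
        ((DerivedCategory.isZero_of_isGE T.obj₃ 1 _ (by omega)).eq_of_tgt _ _)
      exact isIso_of_mono_of_epi _
    have : DerivedCategory.IsLE ((S₀).obj G) 0 := inferInstance
    have z3 : ∀ e : (S₀).obj G ⟶ T.obj₃, e = 0 := fun e => t.zero e 0 1 (by omega)
    show Function.Bijective (psi G T.obj₂)
    refine ⟨fun e e' he => ?_, fun g => ?_⟩
    · obtain ⟨d, rfl⟩ := Triangle.coyoneda_exact₂ T hd e (z3 _)
      obtain ⟨d', rfl⟩ := Triangle.coyoneda_exact₂ T hd e' (z3 _)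
      rw [psi_comp, psi_comp, cancel_mono] at he
      rw [hb.1 he]
    · obtain ⟨d, hd⟩ := hb.2 (g ≫ inv ((H 0).map T.mor₁))
      exact ⟨d ≫ T.mor₁, by rw [psi_comp, hd, assoc, IsIso.inv_hom_id, comp_id]⟩
  | succ n ih =>
    intro K hK hge
    have hd := t.triangleLTGE_distinguished (-(n : ℤ)) K
    set T := (t.triangleLTGE (-(n : ℤ))).obj K
    have hge' : t.IsGE K (-(n : ℤ) - 1) := t.isGE_of_ge K (-(n : ℤ) - 1) (-((n + 1 : ℕ) : ℤ)) (by push_cast; omega)
    have h1 : DerivedCategory.IsLE ((t.truncLT (-(n : ℤ))).obj K) (-(n : ℤ) - 1) := inferInstance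
    have h1' : DerivedCategory.IsGE ((t.truncLT (-(n : ℤ))).obj K) (-(n : ℤ) - 1) := inferInstance
    have h3 : T.obj₃.IsGE (-(n : ℤ)) :=
      (inferInstance : DerivedCategory.IsGE ((t.truncGE (-(n : ℤ))).obj K) _)
    obtain ⟨F, ⟨eF⟩⟩ := DerivedCategory.exists_iso_singleFunctor_obj_of_isGE_of_isLE
      ((t.truncLT (-(n : ℤ))).obj K) (-(n : ℤ) - 1)
    have hisoB : ∀ i, -(n : ℤ) ≤ i → IsIso ((H i).map T.mor₂) := fun i hi => by
      have e1 : Mono ((H i).map T.mor₂) := (DerivedCategory.HomologySequence.exact₂ T hd i).mono_g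
        ((DerivedCategory.isZero_of_isLE T.obj₁ (-(n : ℤ) - 1) _ (by omega)).eq_of_src _ _)
      have e2 : Epi ((H i).map T.mor₂) := (DerivedCategory.HomologySequence.exact₃ T hd i (i + 1) rfl).epi_f
        ((DerivedCategory.isZero_of_isLE T.obj₁ (-(n : ℤ) - 1) _ (by omega)).eq_of_tgt _ _)
      exact isIso_of_mono_of_epi _
    have hF : P F := by
      have e2 : Epi ((H (-(n : ℤ) - 1)).map T.mor₁) :=
        (DerivedCategory.HomologySequence.exact₂ T hd (-(n : ℤ) - 1)).epi_f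
          ((DerivedCategory.isZero_of_isGE T.obj₃ (-(n : ℤ)) _ (by omega)).eq_of_tgt _ _)
      have e1 : Mono ((H (-(n : ℤ) - 1)).map T.mor₁) :=
        (DerivedCategory.HomologySequence.exact₁ T hd (-(n : ℤ) - 1 - 1) _ (by omega)).mono_g
          ((DerivedCategory.isZero_of_isGE T.obj₃ (-(n : ℤ)) _ (by omega)).eq_of_src _ _)
      have := isIso_of_mono_of_epi ((H (-(n : ℤ) - 1)).map T.mor₁)
      exact P.prop_of_iso ((asIso ((H (-(n : ℤ) - 1)).map T.mor₁)).symm ≪≫ (H _).mapIso eF ≪≫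
        (DerivedCategory.singleFunctorCompHomologyFunctorIso C _).app F) (hK _)
    have hP3 : ∀ i, P ((H i).obj T.obj₃) := fun i => by
      by_cases hi : -(n : ℤ) ≤ i
      · have := hisoB i hi
        exact P.prop_of_iso (asIso ((H i).map T.mor₂)) (hK i)
      ·         exact P.prop_of_iso ((DerivedCategory.isZero_of_isGE T.obj₃ (-(n : ℤ)) i (by omega)).iso
          (DerivedCategory.isZero_of_isGE K (-(n : ℤ) - 1) (-(n : ℤ) - 2) (by omega))).symm (hK _)
    have hb := ih T.obj₃ hP3 h3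
    -- the lowest term receives no maps
    let eA : T.obj₁ ≅ ((S₀).obj F)⟦((n : ℤ) + 1)⟧ :=
      eF ≪≫ (((DerivedCategory.singleFunctors C).shiftIso ((n : ℤ) + 1) (-(n : ℤ) - 1) 0 (by omega)).app F).symm
    have z1 : ∀ e : (S₀).obj G ⟶ T.obj₁, e = 0 := fun e => by
      rw [← cancel_mono eA.hom, zero_comp]
      exact hG F hF n _
    have z2 : ∀ e : (S₀).obj G ⟶ T.obj₁⟦(1 : ℤ)⟧, e = 0 := fun e => by
      let e2 : T.obj₁⟦(1 : ℤ)⟧ ≅ ((S₀).obj F)⟦((n + 1 : ℕ) : ℤ) + 1⟧ :=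
        (shiftFunctor _ (1 : ℤ)).mapIso eA ≪≫
          ((shiftFunctorAdd' (DerivedCategory C) ((n : ℤ) + 1) 1 _ (by push_cast; ring)).app _).symm
      rw [← cancel_mono e2.hom, zero_comp]
      exact hG F hF (n + 1) _
    have := hisoB 0 (by omega)
    show Function.Bijective (psi G T.obj₂)
    refine ⟨fun e e' he => ?_, fun g => ?_⟩
    · have h := hb.1 (a₁ := e ≫ T.mor₂) (a₂ := e' ≫ T.mor₂) (by rw [psi_comp, psi_comp, he])
      obtain ⟨d, hd'⟩ := Triangle.coyoneda_exact₂ T hd (e - e') (by rw [Preadditive.sub_comp, h, sub_self])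
      rwa [z1 d, zero_comp, sub_eq_zero] at hd'
    · obtain ⟨d, hd'⟩ := hb.2 (g ≫ (H 0).map T.mor₂)
      obtain ⟨e, rfl⟩ := Triangle.coyoneda_exact₃ T hd d (z2 _)
      exact ⟨e, (cancel_mono ((H 0).map T.mor₂)).1 (by rw [← psi_comp, hd'])⟩

/-- stationary systems: solutions of `x k - τ (x (k+1)) = y k` with a prescribed term -/
lemma exists_lim_solution {A : ℕ → Type*} [∀ k, AddCommGroup (A k)] (τ : ∀ k, A (k + 1) →+ A k) (n₀ : ℕ)
    (hτ : ∀ k, n₀ ≤ k → Function.Surjective (τ k)) (a : A n₀) (y : ∀ k, A k) :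
    ∃ x : ∀ k, A k, x n₀ = a ∧ ∀ k, x k - τ k (x (k + 1)) = y k := by
  classical
  suffices key : ∀ m, m ≤ n₀ → ∃ x : ∀ k, A k, x n₀ = a ∧ ∀ k, n₀ - m ≤ k → x k - τ k (x (k + 1)) = y k by
    obtain ⟨x, hx0, hx⟩ := key n₀ le_rfl
    exact ⟨x, hx0, fun k => hx k (by omega)⟩
  intro m
  induction m with
  | zero =>
    intro _
    let w : ∀ k, A k := Function.update 0 n₀ a
    let x : ∀ k, A k := fun k => Nat.rec (motive := A) (w 0)
      (fun j r => if h : n₀ ≤ j then (hτ j h (r - y j)).choose else w (j + 1)) k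
    refine ⟨x, ?_, fun k hk => ?_⟩
    · obtain rfl | ⟨j, rfl⟩ : n₀ = 0 ∨ ∃ j, n₀ = j + 1 := by
        rcases n₀ with - | j <;> simp
      · exact Function.update_self ..
      · show (if h : j + 1 ≤ j then _ else w (j + 1)) = a
        rw [dif_neg (by omega)]
        exact Function.update_self ..
    · have hk' : n₀ ≤ k := by omega
      have : x (k + 1) = (hτ k hk' (x k - y k)).choose := dif_pos hk'
      rw [this, (hτ k hk' (x k - y k)).choose_spec]
      abel
  | succ m ih =>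
    intro hm
    obtain ⟨x, hx0, hx⟩ := ih (by omega)
    refine ⟨Function.update x (n₀ - (m + 1)) (y _ + τ _ (x (n₀ - (m + 1) + 1))), ?_, fun k hk => ?_⟩
    · rw [Function.update_of_ne (show n₀ ≠ n₀ - (m + 1) by omega)]; exact hx0
    rw [Function.update_of_ne (show k + 1 ≠ n₀ - (m + 1) by omega)]
    rcases hk.eq_or_lt with rfl | hlt
    · rw [Function.update_self]; abel
    · rw [Function.update_of_ne hlt.ne']
      exact hx k (by omega)

variable {ι : Type t} (G : ι → C)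
  (sep : ∀ ⦃M N : C⦄ (f g : M ⟶ N), (∀ (a : ι) (x : G a ⟶ M), x ≫ f = x ≫ g) → f = g)
  (hG : ∀ (a : ι) (F : C), P F → ∀ n : ℕ, ∀ e : (DerivedCategory.singleFunctor C 0).obj (G a) ⟶
    ((DerivedCategory.singleFunctor C 0).obj F)⟦((n : ℤ) + 1)⟧, e = 0)

include sep hG in
/-- maps into a derived limit of bounded below objects with stationary cohomology -/
theorem rlim_facts (K : ℕ → DerivedCategory C) (τ : ∀ k, K (k + 1) ⟶ K k) [HasProduct K]
    (hP : ∀ k i, P ((H i).obj (K k))) (hge : ∀ k : ℕ, ∃ m : ℕ, (K k).IsGE (-(m : ℤ)))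
    (n₀ : ℕ) (hst : ∀ k, n₀ ≤ k → IsIso ((H 0).map (τ k)) ∧ IsIso ((H (-1)).map (τ k)))
    (T : Triangle (DerivedCategory C)) (hT : T ∈ distTriang _) (π : ∀ k, T.obj₁ ⟶ K k)
    (β : T.obj₂ ≅ ∏ᶜ K) (γ : T.obj₃ ≅ ∏ᶜ K) (hπ : T.mor₁ ≫ β.hom = Pi.lift π)
    (h₂ : β.inv ≫ T.mor₂ ≫ γ.hom = Pi.lift fun k => Pi.π K k - Pi.π K (k + 1) ≫ τ k)
    (k : ℕ) (hk : n₀ ≤ k) :
    IsIso ((H 0).map (π k)) ∧ ∀ a, Function.Bijective (psi (G a) T.obj₁) := by
  have hb : ∀ (a : ι) (k : ℕ), Function.Bijective (psi (G a) (K k)) := fun a k => by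
    obtain ⟨m, hm⟩ := hge k
    exact psi_bijective_of_isGE P (G a) (hG a) m _ (hP k) hm
  have hcomp : ∀ j, π (j + 1) ≫ τ j = π j := fun j => by
    have h0 : T.mor₁ ≫ T.mor₂ = 0 := comp_distTriang_mor_zero₁₂ T hT
    have h3 : Pi.lift π ≫ (β.inv ≫ T.mor₂ ≫ γ.hom) = 0 := by
      rw [← hπ, assoc, β.hom_inv_id_assoc, reassoc_of% h0, zero_comp]
    rw [h₂] at h3
    have h4 := congrArg (fun f => f ≫ Pi.π K j) h3
    simp only [assoc, zero_comp, Pi.lift_π, Preadditive.comp_sub, Pi.lift_π_assoc] at h4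
    exact (sub_eq_zero.1 h4).symm
  -- the transition maps on maps out of `G a`
  let tr : ∀ a j, ((S₀).obj (G a) ⟶ K (j + 1)) →+ ((S₀).obj (G a) ⟶ K j) := fun a j =>
    AddMonoidHom.mk' (fun e => e ≫ τ j) fun _ _ => Preadditive.add_comp ..
  have htr : ∀ a j, n₀ ≤ j → Function.Bijective (tr a j) := fun a j hj => by
    have := (hst j hj).1
    refine ⟨fun e e' he => (hb a _).1 ((cancel_mono ((H 0).map (τ j))).1 ?_), fun e => ?_⟩
    · rw [← psi_comp, ← psi_comp]; exact congrArg _ he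
    · obtain ⟨d, hd⟩ := (hb a _).2 (psi _ _ e ≫ inv ((H 0).map (τ j)))
      exact ⟨d, (hb a j).1 (by
        show psi _ _ (d ≫ τ j) = _
        rw [psi_comp, hd, assoc, IsIso.inv_hom_id, comp_id])⟩
  have hsolve : ∀ {A : DerivedCategory C} (x : ∀ j, A ⟶ K j) (d : A ⟶ T.obj₃),
      (∀ j, x j - x (j + 1) ≫ τ j = d ≫ γ.hom ≫ Pi.π K j) → (Pi.lift x ≫ β.inv) ≫ T.mor₂ = d := fun x d hx => by
    refine (cancel_mono γ.hom).1 (Limits.Pi.hom_ext _ _ fun j => ?_)
    have h3 := congrArg (fun f => Pi.lift x ≫ f ≫ Pi.π K j) h₂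
    simp only [assoc, Pi.lift_π, Preadditive.comp_sub, Pi.lift_π_assoc] at h3
    simp only [assoc]
    rw [h3]
    exact hx j
  -- surjectivity of `1 - τ` one degree below
  have hsurj : ∀ (a : ι) (d : ((S₀).obj (G a))⟦(1 : ℤ)⟧ ⟶ T.obj₃), ∃ c, c ≫ T.mor₂ = d := fun a d => by
    let sh : ∀ X : DerivedCategory C, (((S₀).obj (G a))⟦(1 : ℤ)⟧ ⟶ X) ≃ ((S₀).obj (G a) ⟶ X⟦(-1 : ℤ)⟧) :=
      fun X => (shiftEquiv (DerivedCategory C) (1 : ℤ)).toAdjunction.homEquiv _ X
    have hbs : ∀ j, Function.Bijective (psi (G a) ((K j)⟦(-1 : ℤ)⟧)) := fun j => by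
      obtain ⟨m, hm⟩ := hge j
      have : DerivedCategory.IsGE ((K j)⟦(-1 : ℤ)⟧) (-(m : ℤ) + 1) :=
        DerivedCategory.TStructure.t.isGE_shift _ (-(m : ℤ)) (-1) (-(m : ℤ) + 1) (by omega)
      have : DerivedCategory.IsGE ((K j)⟦(-1 : ℤ)⟧) (-(m : ℤ)) :=
        DerivedCategory.TStructure.t.isGE_of_ge _ (-(m : ℤ)) (-(m : ℤ) + 1) (by omega)
      exact psi_bijective_of_isGE P (G a) (hG a) m _
        (fun i => P.prop_of_iso (((H 0).shiftIso (-1) i (i - 1) (by omega)).app (K j)).symm (hP j _)) this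
    have hsu : ∀ j, n₀ ≤ j → Function.Surjective
        (fun e : ((S₀).obj (G a))⟦(1 : ℤ)⟧ ⟶ K (j + 1) => e ≫ τ j) := fun j hj e => by
      have := (hst j hj).2
      have h' : IsIso (((H 0).shift (-1)).map (τ j)) := by exact this
      have : IsIso ((H 0).map ((τ j)⟦(-1 : ℤ)⟧')) :=
        (NatIso.isIso_map_iff ((H 0).shiftIso (-1) 0 (-1) (by omega)) (τ j)).2 h'
      obtain ⟨d, hd⟩ := (hbs (j + 1)).2 (psi _ _ (sh _ e) ≫ inv ((H 0).map ((τ j)⟦(-1 : ℤ)⟧')))
      refine ⟨(sh _).symm d, (sh _).injective ((hbs j).1 ?_)⟩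
      show psi _ _ (sh _ ((sh _).symm d ≫ τ j)) = _
      erw [Adjunction.homEquiv_naturality_right, Equiv.apply_symm_apply]
      show psi _ _ (d ≫ (τ j)⟦(-1 : ℤ)⟧') = _
      rw [psi_comp, hd, assoc, IsIso.inv_hom_id, comp_id]
    obtain ⟨x, -, hx⟩ := exists_lim_solution (A := fun j => ((S₀).obj (G a))⟦(1 : ℤ)⟧ ⟶ K j)
      (fun j => AddMonoidHom.mk' (fun e => e ≫ τ j) fun _ _ => Preadditive.add_comp ..) n₀ hsu 0
      (fun j => d ≫ γ.hom ≫ Pi.π K j)
    exact ⟨Pi.lift x ≫ β.inv, hsolve x d hx⟩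
  -- maps into `T.obj₁` are compatible families
  have hinj : ∀ (a : ι) (e : (S₀).obj (G a) ⟶ T.obj₁), (∀ j, e ≫ π j = 0) → e = 0 := fun a e he => by
    have h0 : e ≫ T.mor₁ = 0 := (cancel_mono β.hom).1 (Limits.Pi.hom_ext _ _ fun j => by
      rw [zero_comp, zero_comp, assoc, assoc, reassoc_of% hπ, Pi.lift_π, he j])
    obtain ⟨d, hd⟩ := Triangle.coyoneda_exact₁ T hT (e⟦(1 : ℤ)⟧') (by
      rw [← Functor.map_comp, h0, Functor.map_zero])
    obtain ⟨c, hc⟩ := hsurj a d
    have : e⟦(1 : ℤ)⟧' = 0 := by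
      rw [hd, ← hc, assoc, comp_distTriang_mor_zero₂₃ T hT, comp_zero]
    exact (shiftFunctor (DerivedCategory C) (1 : ℤ)).map_injective (by rw [this, Functor.map_zero])
  have hdown : ∀ (a : ι) (e : (S₀).obj (G a) ⟶ T.obj₁), e ≫ π k = 0 → ∀ j, e ≫ π j = 0 := fun a e he j => by
    have hlow : ∀ m j, j + m = k → e ≫ π j = 0 := by
      intro m
      induction m with
      | zero => intro j hj; obtain rfl : j = k := by omega
                exact he
      | succ m ih => intro j hj; rw [← hcomp j, reassoc_of% (ih (j + 1) (by omega)), zero_comp]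
    rcases le_total j k with h | h
    · exact hlow (k - j) j (by omega)
    · induction j, h using Nat.le_induction with
      | base => exact he
      | succ j hj ih =>
        refine (htr a j (by omega)).1 ?_
        show (e ≫ π _) ≫ τ _ = 0 ≫ τ _
        rw [assoc, hcomp, ih, zero_comp]
  have hex : ∀ (a : ι) (d : (S₀).obj (G a) ⟶ K k), ∃ e, e ≫ π k = d := fun a d => by
    obtain ⟨x, hx0, hx⟩ := exists_lim_solution (A := fun j => (S₀).obj (G a) ⟶ K j) (tr a) k
      (fun j hj => (htr a j (by omega)).2) d 0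
    have h0 : (Pi.lift x ≫ β.inv) ≫ T.mor₂ = 0 := hsolve x 0 fun j => by
      rw [zero_comp]; exact hx j
    obtain ⟨e, he⟩ := Triangle.coyoneda_exact₂ T hT _ h0
    refine ⟨e, ?_⟩
    have := congrArg (fun f => f ≫ β.hom ≫ Pi.π K k) he
    simp only [assoc, β.inv_hom_id_assoc, Pi.lift_π, reassoc_of% hπ] at this
    rw [← this]
    exact hx0
  have hbij : ∀ a, Function.Bijective (fun e : (S₀).obj (G a) ⟶ T.obj₁ => psi (G a) (K k) (e ≫ π k)) := fun a => by
    refine ⟨fun e e' he => sub_eq_zero.1 (hinj a _ (hdown a _ ?_)), fun g => ?_⟩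
    · rw [Preadditive.sub_comp, (hb a k).1 he, sub_self]
    · obtain ⟨d, rfl⟩ := (hb a k).2 g
      obtain ⟨e, rfl⟩ := hex a d
      exact ⟨e, rfl⟩
  have hmono : Mono ((H 0).map (π k)) := mono_of_psi G sep _ _ fun a e he => by
    have : e = 0 := (hbij a).1 (by
      show psi _ _ (e ≫ π k) = psi _ _ (0 ≫ π k)
      rw [psi_comp, he, zero_comp, map_zero])
    rw [this, map_zero]
  have hepi : Epi ((H 0).map (π k)) := ⟨fun u v huv => sep _ _ fun a x => by
    obtain ⟨e, rfl⟩ := (hbij a).2 x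
    simp only [psi_comp, assoc, huv]⟩
  have : IsIso ((H 0).map (π k)) := isIso_of_mono_of_epi _
  refine ⟨this, fun a => ⟨fun e e' he => (hbij a).1 ?_, fun g => ?_⟩⟩
  · simp only [psi_comp, he]
  · obtain ⟨e, he⟩ := (hbij a).2 (g ≫ (H 0).map (π k))
    exact ⟨e, (cancel_mono ((H 0).map (π k))).1 (by rw [← psi_comp]; exact he)⟩

end Groth.Agent.H7Unbounded
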