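import Mathlib

/-!
# A flat morphism of finite presentation with étale fibres is étale
-/

set_option autoImplicit false

universe u

open CategoryTheory Limits AlgebraicGeometry TensorProduct

namespace Groth.Agent.H8EtaleFibre

attribute [local instance] Algebra.TensorProduct.rightAlgebra in
set_option backward.isDefEq.respectTransparency false in
/-- Unramifiedness can be checked on fibres. -/
theorem formallyUnramified_of_fiber {R S : Type u} [CommRing R] [CommRing S] [Algebra R S]
    [Algebra.EssFiniteType R S]
    (h : ∀ (p : Ideal R) [p.IsPrime], Algebra.FormallyUnramified p.ResidueField (p.Fiber S)) :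
    Algebra.FormallyUnramified R S := by
  rw [Algebra.formallyUnramified_iff]
  by_contra hne
  rw [← not_nontrivial_iff_subsingleton, not_not] at hne
  obtain ⟨⟨q, hq⟩, hmem⟩ := (Module.nonempty_support_iff (R := S) (M := Ω[S⁄R])).mpr hne
  rw [Module.mem_support_iff_nontrivial_residueField_tensorProduct] at hmem
  let p := q.under R
  have : q.LiesOver p := ⟨rfl⟩
  have := h p
  let φ : p.Fiber S →ₐ[R] q.ResidueField := Algebra.TensorProduct.lift
    (Ideal.ResidueField.mapₐ p q (Algebra.ofId R S) (q.over_def p))
    (IsScalarTower.toAlgHom R S q.ResidueField) fun _ _ => mul_comm _ _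
  let : Algebra (p.Fiber S) q.ResidueField := φ.toRingHom.toAlgebra
  have : IsScalarTower S (p.Fiber S) q.ResidueField := IsScalarTower.of_algebraMap_eq fun x => by
    simp [φ, RingHom.algebraMap_toAlgebra]
  have h1 : Subsingleton (p.Fiber S ⊗[S] Ω[S⁄R]) :=
    (KaehlerDifferential.tensorKaehlerEquiv R p.ResidueField S (p.Fiber S)).toEquiv.subsingleton
  have h2 : Subsingleton (q.ResidueField ⊗[p.Fiber S] (p.Fiber S ⊗[S] Ω[S⁄R])) := inferInstance
  have h3 : Subsingleton (q.ResidueField ⊗[S] Ω[S⁄R]) :=
    (TensorProduct.AlgebraTensorModule.cancelBaseChange S (p.Fiber S) (p.Fiber S)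
      q.ResidueField Ω[S⁄R]).symm.toEquiv.subsingleton
  exact not_nontrivial _ hmem

set_option backward.isDefEq.respectTransparency false in
/-- If `f` is flat, locally of finite presentation and has étale fibres, then it is étale. -/
theorem etale_of_fibres {X Y : Scheme.{u}} (f : X ⟶ Y) [LocallyOfFinitePresentation f] [Flat f]
    (h : ∀ y, Etale (f.fiberToSpecResidueField y)) : Etale f := by
  wlog hY : ∃ R, Y = Spec R generalizing X Y
  · rw [IsZariskiLocalAtTarget.iff_of_openCover (P := @Etale) Y.affineCover]
    intro i
    dsimp [Scheme.Cover.pullbackHom]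
    refine this _ (fun y ↦ ?_) ⟨_, rfl⟩
    apply MorphismProperty.of_isPullback
    · exact isPullback_fiberToSpecResidueField_of_isPullback (IsPullback.of_hasPullback _ _) _
    · infer_instance
  obtain ⟨R, rfl⟩ := hY
  wlog hX : ∃ S, X = Spec S generalizing f X
  · rw [IsZariskiLocalAtSource.iff_of_openCover (P := @Etale) X.affineCover]
    intro i
    have _ (y) : Etale (pullback.snd f ((Spec R).fromSpecResidueField y)) :=
      inferInstanceAs <| Etale (f.fiberToSpecResidueField y)
    refine this _ (fun y ↦ ?_) ⟨_, rfl⟩
    rw [Scheme.Hom.fiberToSpecResidueField, ← pullbackRightPullbackFstIso_inv_snd_snd]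
    infer_instance
  obtain ⟨S, rfl⟩ := hX
  obtain ⟨φ, rfl⟩ := Spec.map_surjective f
  simp only [HasRingHomProperty.Spec_iff] at *
  algebraize [φ.hom]
  have hu : Algebra.FormallyUnramified R S := by
    have : Algebra.EssFiniteType R S := inferInstance
    refine formallyUnramified_of_fiber fun p hp => ?_
    refine RingHom.formallyUnramified_algebraMap.mp (RingHom.Etale.formallyUnramified _ ?_)
    rw [← CommRingCat.hom_ofHom (algebraMap p.ResidueField (p.Fiber ↑S)),
      ← HasRingHomProperty.Spec_iff (P := @Etale), ← MorphismProperty.arrow_mk_iso_iff (P := @Etale)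
      (Spec.fiberToSpecResidueFieldIso R S ⟨p, hp⟩)]
    exact h ⟨p, hp⟩
  show Algebra.Etale R S
  exact Algebra.Etale.of_formallyUnramified_of_flat

end Groth.Agent.H8EtaleFibre
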